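import Groth.Statements.S14473
import Groth.Agent.EllGroup.Main
import Groth.Agent.CurveBridge.Clifford
import Mathlib.AlgebraicGeometry.AlgClosed.Basic

set_option autoImplicit false
set_option backward.isDefEq.respectTransparency.types false
universe u
open CategoryTheory CategoryTheory.Limits AlgebraicGeometry
open Curves

namespace Groth.Agent.S14473

open MonObj MonoidalCategory CartesianMonoidalCategory Groth.CurveBridge
attribute [local instance] Groth.EllGroup.overLeft

/-- Let k be an algebraically closed field and C a smooth proper connected curve over k (proper and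
smooth over k, integral, of dimension one) of genus 1, the genus being the dimension of H¹(C, O_C).
Then the group of k-automorphisms of C is infinite: there are infinitely many automorphisms of the
scheme C over Spec k. -/
theorem result (k : Type u) [Field k] [IsAlgClosed k]
    (C : Scheme.{u}) [C.Over (Spec (CommRingCat.of k))] (hC : Curve.IsSmoothProperCurve k C (C ↘ (Spec (CommRingCat.of k))))
    (hg : Curv2.genus k C = 1) :
    Infinite {e : C ≅ C // e.hom ≫ (C ↘ (Spec (CommRingCat.of k))) = C ↘ (Spec (CommRingCat.of k))} := by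
  classical
  obtain ⟨hp, hs, hint, hdim⟩ := hC
  let X : Over (Spec (CommRingCat.of k)) := Over.mk (C ↘ Spec (CommRingCat.of k))
  haveI : IsProper X.hom := hp
  haveI : Smooth X.hom := hs
  haveI : ConnectedSpace X.left := inferInstanceAs (ConnectedSpace C)
  haveI : JacobsonSpace C := LocallyOfFiniteType.jacobsonSpace (C ↘ Spec (CommRingCat.of k))
  have h : IsRegCurve C := isRegCurve_of_smooth k C hdim
  haveI := infinite_place (Groth.FunFld1.IsFF.of_isFunctionField (isFunctionField (k := k) (X := C) h.dim))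
  haveI : Infinite (Pt C) := Infinite.of_injective (placeEquiv (k := k) h).symm (Equiv.injective _)
  let E : Pt C ≃ {p : Spec (CommRingCat.of k) ⟶ C // p ≫ (C ↘ Spec (CommRingCat.of k)) = 𝟙 _} :=
    (pointEquivClosedPoint (C ↘ Spec (CommRingCat.of k))).symm
  haveI := Infinite.of_injective E E.injective
  obtain ⟨p₀, hp₀⟩ := (inferInstance : Nonempty {p : Spec (CommRingCat.of k) ⟶ C //
    p ≫ (C ↘ Spec (CommRingCat.of k)) = 𝟙 _})
  obtain ⟨G, -, -⟩ := Groth.EllGroup.exists_grpObj X hdim hg (Over.homMk p₀ hp₀)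
  letI := G
  let t : (𝟙_ (Over (Spec (CommRingCat.of k))) ⟶ X) → (X ⟶ X) := fun x => (toUnit X ≫ x) * 𝟙 X
  have ht : ∀ x, t x ≫ t x⁻¹ = 𝟙 X := fun x => by
    simp only [t]
    rw [MonObj.comp_mul, Category.comp_id, ← Category.assoc, toUnit_unique (_ ≫ toUnit X) (toUnit X),
      GrpObj.comp_inv, ← _root_.mul_assoc, inv_mul_cancel, _root_.one_mul]
  have hinj : ∀ x, η[X] ≫ t x = x := fun x => by
    simp only [t]
    rw [MonObj.comp_mul, Category.comp_id, ← Category.assoc, toUnit_unique (_ ≫ toUnit X) (𝟙 _),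
      Category.id_comp, MonObj.one_eq_one, _root_.mul_one]
  let T : (𝟙_ (Over (Spec (CommRingCat.of k))) ⟶ X) → (X ≅ X) := fun x =>
    ⟨t x, t x⁻¹, ht x, by simpa using ht x⁻¹⟩
  refine Infinite.of_injective (fun p => ⟨⟨(T (Over.homMk p.1 p.2)).hom.left, (T (Over.homMk p.1 p.2)).inv.left,
      congrArg Over.Hom.left (T _).hom_inv_id, congrArg Over.Hom.left (T _).inv_hom_id⟩,
      Over.w (T (Over.homMk p.1 p.2)).hom⟩ : {p : Spec (CommRingCat.of k) ⟶ C //
        p ≫ (C ↘ Spec (CommRingCat.of k)) = 𝟙 _} → _) fun p q hpq => ?_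
  have h1 : t (Over.homMk p.1 p.2) = t (Over.homMk q.1 q.2) :=
    Over.OverMorphism.ext (congrArg (fun e : {e : C ≅ C // e.hom ≫ (C ↘ (Spec (CommRingCat.of k))) = C ↘ (Spec (CommRingCat.of k))} => e.1.hom) hpq)
  have h2 := congrArg (η[X] ≫ ·) h1
  simp only [hinj] at h2
  exact Subtype.ext (congrArg Over.Hom.left h2)

end Groth.Agent.S14473
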