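import Groth.Statements.S14475
import Groth.Agent.Misc7.HypersurfaceAnn

set_option autoImplicit false
universe u
open CategoryTheory CategoryTheory.Limits KaehlerDifferential
open LocInt

namespace Groth.Agent.S14475

/-- Let A → B be a smooth ring map with Ω_{B/A} of rank n at every prime of B, g ∈ B a nonzerodivisor
and R = B/gB, so that Spec R is a hypersurface of virtual relative dimension n - 1 over Spec A. Let
M be an R-module of flat dimension at most m over A (Tor^A_i(M, P) = 0 for i > m and every A-module
P) and N an R-module. Then for q ≥ m + n the module Tor^R_q(M, N) (Mathlib's Tor on R-modules,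
left-derived in the second variable) is annihilated by the annihilator ideal of the n-th exterior
power of Ω_{R/A}, i.e. it is a module over the closed subscheme Z defined by that ideal. (The
published statement is for a scheme that is locally such a hypersurface, an arbitrary module over it
of tor-dimension at most m over the base, and a bounded complex on a scheme over it; this row is the
affine case with a single module on the hypersurface itself.) -/
theorem result (A B R : Type u) [CommRing A] [CommRing B] [CommRing R]
    [Algebra A B] [Algebra B R] [Algebra A R] [IsScalarTower A B R] [Algebra.Smooth A B] (n : ℕ)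
    (hn : ∀ p : PrimeSpectrum B, Module.rankAtStalk (Ω[B⁄A]) p = n)
    (g : B) (hg : IsSMulRegular B g) (hsurj : Function.Surjective (algebraMap B R))
    (hker : RingHom.ker (algebraMap B R) = Ideal.span {g})
    (m : ℕ) (M N : ModuleCat.{u} R)
    (hM : ∀ (P : ModuleCat.{u} A) (i : ℕ), m < i →
      IsZero (((Tor (ModuleCat.{u} A) i).obj ((ModuleCat.restrictScalars (algebraMap A R)).obj M)).obj P))
    (q : ℕ) (hq : m + n ≤ q) :
    (⋀[R]^n (Ω[R⁄A])).annihilator ≤ Module.annihilator R (((Tor (ModuleCat.{u} R) q).obj M).obj N) := by
  let _ : Module B M := Module.compHom M (algebraMap B R)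
  let _ : Module A M := Module.compHom M (algebraMap A R)
  have : IsScalarTower B R M := IsScalarTower.of_algebraMap_smul fun _ _ => rfl
  have : IsScalarTower A B M := IsScalarTower.of_algebraMap_smul fun a x => by
    change algebraMap B R (algebraMap A B a) • x = algebraMap A R a • x
    rw [← IsScalarTower.algebraMap_apply]
  have hA : DRing.HasTorDimLE A m M := fun N _ _ p hp =>
    ModuleCat.isZero_iff_subsingleton.1 (hM (ModuleCat.of A N) p hp)
  have hB := Groth.HypTor.hasTorDimLE_of_smooth A B n hn m M hA
  refine (Groth.HypTor.annihilator_le_span n hn g hsurj hker).trans (Ideal.span_le.2 ?_)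
  rintro _ ⟨φ, rfl⟩
  let δ := φ.compDer (KaehlerDifferential.D A B)
  exact Module.mem_annihilator.2 fun y => Groth.HypTor.smul_tor_eq_zero δ.toLinearMap.toAddMonoidHom
    (fun a b => δ.leibniz a b) g hg hsurj hker (m + n) M hB N q hq y

end Groth.Agent.S14475
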