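import Groth.Statements.S14477
import Mathlib

set_option autoImplicit false
universe u
open KaehlerDifferential
open LocInt

namespace Groth.Agent.S14477

open TensorProduct

theorem annihilator_eq {R M Q : Type u} [CommRing R] [AddCommGroup M] [Module R M] [AddCommGroup Q] [Module R Q]
    (π : M →ₗ[R] Q) (hπ : Function.Surjective π) (v : M) (hker : ∀ y, π y = 0 ↔ y ∈ Submodule.span R {v}) (n : ℕ)
    (hloc : ∀ m : Ideal R, m.IsMaximal → ∃ s ∉ m, ∃ (x : Fin n → M) (φ : Fin n → (M →ₗ[R] R)),
      (Matrix.of fun j i => φ i (x j)).det ∉ m ∧ ∀ y, s • y ∈ Submodule.span R (Set.range x)) :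
    (⋀[R]^n Q).annihilator = Ideal.span (Set.range fun φ : M →ₗ[R] R => φ v) := by
  classical
  set I := Ideal.span (Set.range fun φ : M →ₗ[R] R => φ v)
  let ω := exteriorPower.ιMulti R n (M := Q)
  refine le_antisymm (fun r hr => ?_) (Ideal.span_le.2 ?_)
  · by_contra hrI
    let J : Ideal R := I.colon ({r} : Set R)
    have hJ : J ≠ ⊤ := fun h => hrI (by
      have : (1 : R) ∈ J := h ▸ trivial
      simpa [J, Submodule.mem_colon_singleton] using this)
    obtain ⟨m, hm, hJm⟩ := J.exists_le_maximal hJ
    obtain ⟨s, -, x, φ, hd, -⟩ := hloc m hm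
    refine hd (hJm ?_)
    let g : M →ₗ[R] (Fin n → R ⧸ I) := LinearMap.pi fun i => (Submodule.mkQ I) ∘ₗ φ i
    have hg : LinearMap.ker π ≤ LinearMap.ker g := fun y hy => by
      obtain ⟨c, rfl⟩ := Submodule.mem_span_singleton.1 ((hker y).1 hy)
      ext i
      simp only [g, LinearMap.pi_apply, LinearMap.comp_apply, map_smul, Pi.zero_apply, Submodule.mkQ_apply]
      rw [(Submodule.Quotient.mk_eq_zero I).2 (Ideal.subset_span ⟨φ i, rfl⟩ : φ i v ∈ I), smul_zero]
    let f : Q →ₗ[R] (Fin n → R ⧸ I) := (LinearMap.ker π).liftQ g hg ∘ₗ (π.quotKerEquivOfSurjective hπ).symm.toLinearMap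
    have hf : ∀ y, f (π y) = g y := fun y => by
      have : (π.quotKerEquivOfSurjective hπ).symm (π y) = Submodule.Quotient.mk y := (LinearEquiv.symm_apply_eq _).2 rfl
      simp only [f, LinearMap.comp_apply, LinearEquiv.coe_coe, this, Submodule.liftQ_apply]
    let D : Q [⋀^Fin n]→ₗ[R] (R ⧸ I) :=
      { toFun := fun q => Matrix.detRowAlternating (R := R ⧸ I) (n := Fin n) fun j => f (q j)
        map_update_add' := @fun inst q j a b => by
          obtain rfl := Subsingleton.elim inst (instDecidableEqFin n)
          have h : ∀ c, (fun l => f (Function.update q j c l)) = Function.update (fun l => f (q l)) j (f c) := fun c => by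
            funext l; exact Function.apply_update (fun _ => f) q j c l
          simp only [h, map_add]
          exact Matrix.detRowAlternating.map_update_add (fun l => f (q l)) j (f a) (f b)
        map_update_smul' := @fun inst q j c a => by
          obtain rfl := Subsingleton.elim inst (instDecidableEqFin n)
          have h : ∀ c, (fun l => f (Function.update q j c l)) = Function.update (fun l => f (q l)) j (f c) := fun c => by
            funext l; exact Function.apply_update (fun _ => f) q j c l
          simp only [h, map_smul]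
          rw [← algebraMap_smul (R ⧸ I) c (f a), ← algebraMap_smul (R ⧸ I) c (Matrix.detRowAlternating (Function.update (fun l => f (q l)) j (f a)))]
          exact Matrix.detRowAlternating.map_update_smul (fun l => f (q l)) j (algebraMap R (R ⧸ I) c) (f a)
        map_eq_zero_of_eq' := fun q i j hq hij => Matrix.detRowAlternating.map_eq_zero_of_eq (fun l => f (q l)) (congrArg f hq) hij }
    have h0 : r • ω (π ∘ x) = 0 := Module.mem_annihilator.1 hr _
    have h1 := congrArg (exteriorPower.alternatingMapLinearEquiv D) h0
    rw [map_smul, map_zero, exteriorPower.alternatingMapLinearEquiv_apply_ιMulti] at h1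
    have h2 : D (π ∘ x) = Ideal.Quotient.mk I (Matrix.of fun j i => φ i (x j)).det := by
      rw [RingHom.map_det]
      show Matrix.detRowAlternating _ = Matrix.detRowAlternating _
      congr 1
      funext j i
      simp only [Function.comp_apply, hf]
      rfl
    rw [h2, Algebra.smul_def, Ideal.Quotient.algebraMap_eq, ← map_mul, Ideal.Quotient.eq_zero_iff_mem] at h1
    rw [Submodule.mem_colon_singleton, smul_eq_mul, mul_comm]
    exact h1
  · rintro _ ⟨φ, rfl⟩
    refine Module.mem_annihilator.2 fun z => ?_
    have hz : z ∈ Submodule.span R (Set.range ω) := by rw [exteriorPower.ιMulti_span]; trivial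
    induction hz using Submodule.span_induction with
    | zero => exact smul_zero _
    | add a b _ _ ha hb => rw [smul_add, ha, hb, add_zero]
    | smul c a _ ha => rw [smul_comm, ha, smul_zero]
    | mem _ hq =>
      obtain ⟨q, rfl⟩ := hq
      by_contra hne
      let J : Ideal R := (Submodule.span R {φ v • ω q}).annihilator
      have hJ : J ≠ ⊤ := fun h => hne (by
        have : (1 : R) ∈ J := h ▸ trivial
        simpa [J, Submodule.mem_annihilator_span_singleton] using this)
      obtain ⟨m, hm, hJm⟩ := J.exists_le_maximal hJ
      obtain ⟨s, hs, x, -, -, hspan⟩ := hloc m hm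
      choose y hy using fun j => hπ (q j)
      choose C hC using fun j => (Submodule.mem_span_range_iff_exists_fun R).1 (hspan (y j))
      obtain ⟨c, hc⟩ := (Submodule.mem_span_range_iff_exists_fun R).1 (hspan v)
      have hkill : ∀ i, c i • ω (π ∘ x) = 0 := fun i => by
        have h0 : ∑ j, c j • π (x j) = 0 := by
          simp only [← map_smul, ← map_sum, hc]
          exact (hker _).2 (Submodule.smul_mem _ _ (Submodule.mem_span_singleton_self v))
        have h1 := ω.map_update_sum Finset.univ i (fun j => c j • π (x j)) (π ∘ x)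
        rw [h0, ω.map_update_zero, Finset.sum_eq_single i] at h1
        · rw [ω.map_update_smul, show π (x i) = (π ∘ x) i from rfl, Function.update_eq_self] at h1
          exact h1.symm
        · intro j _ hji
          rw [ω.map_update_smul, show π (x j) = (π ∘ x) j from rfl, ω.map_update_self _ hji.symm, smul_zero]
        · exact fun h => absurd (Finset.mem_univ i) h
      have hφ : (s * φ v) • ω (π ∘ x) = 0 := by
        rw [← smul_eq_mul s, ← map_smul φ s v, ← hc, map_sum, Finset.sum_smul]
        refine Finset.sum_eq_zero fun i _ => ?_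
        rw [map_smul, smul_eq_mul, mul_comm, mul_smul, hkill, smul_zero]
      have hperm : ∀ r : Fin n → Fin n, (s * φ v) • ω (π ∘ x ∘ r) = 0 := fun r => by
        by_cases hr : Function.Injective r
        · have := ω.map_perm (π ∘ x) (Equiv.ofBijective r (Finite.injective_iff_bijective.1 hr))
          rw [show (π ∘ x ∘ r : Fin n → Q) = (π ∘ x) ∘ Equiv.ofBijective r (Finite.injective_iff_bijective.1 hr) from rfl, this,
            smul_comm, hφ, smul_zero]
        · rw [ω.map_eq_zero_of_not_injective (π ∘ x ∘ r) fun h => hr fun a b hab => h (congrArg (π ∘ x) hab), smul_zero]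
      have hall : s ^ n • ω q = ∑ r : Fin n → Fin n, (∏ j, C j (r j)) • ω (π ∘ x ∘ r) := by
        have : s ^ n • ω q = ω.toMultilinearMap (fun j => ∑ k, C j k • π (x k)) := by
          have e : (fun j => ∑ k, C j k • π (x k)) = fun j => s • q j := funext fun j => by
            simp only [← map_smul, ← map_sum, hC, ← hy]
          rw [e, ω.toMultilinearMap.map_smul_univ (fun _ => s) q, Finset.prod_const, Finset.card_univ, Fintype.card_fin]
          rfl
        rw [this, ω.toMultilinearMap.map_sum]
        refine Finset.sum_congr rfl fun r _ => ?_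
        exact ω.toMultilinearMap.map_smul_univ (fun j => C j (r j)) fun j => π (x (r j))
      have hmem : s ^ (n + 1) ∈ J := by
        rw [Submodule.mem_annihilator_span_singleton, pow_succ', mul_smul, smul_comm (s ^ n), hall, ← mul_smul, Finset.smul_sum]
        exact Finset.sum_eq_zero fun r _ => by rw [smul_comm, hperm, smul_zero]
      exact hs (hm.isPrime.mem_of_pow_mem _ (hJm hmem))

theorem exists_chart (B P : Type u) [CommRing B] [AddCommGroup P] [Module B P] [Module.Finite B P]
    [Module.Projective B P] (q : Ideal B) [q.IsMaximal] (n : ℕ) (hn : Module.rankAtStalk P ⟨q, inferInstance⟩ = n) :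
    ∃ s ∉ q, ∃ (x : Fin n → P) (φ : Fin n → (P →ₗ[B] B)),
      (Matrix.of fun j i => φ i (x j)).det ∉ q ∧ ∀ y, s • y ∈ Submodule.span B (Set.range x) := by
  classical
  let k := q.ResidueField
  let L := Localization.AtPrime q
  have hk : Function.Surjective (algebraMap B k) := q.algebraMap_residueField_surjective
  have hdim : Module.finrank k (k ⊗[B] P) = n := by
    haveI : Module.Free L (L ⊗[B] P) := Module.free_of_flat_of_isLocalRing
    rw [← (TensorProduct.AlgebraTensorModule.cancelBaseChange B L k k P).finrank_eq, Module.finrank_baseChange,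
      ← Module.rankAtStalk_eq_finrank_tensorProduct ⟨q, inferInstance⟩, hn]
  let b := Module.finBasisOfFinrankEq k (k ⊗[B] P) hdim
  choose x hx using fun j => TensorProduct.mk_surjective B P k hk (b j)
  choose φ hφ using fun i => Module.projective_lifting_property (Algebra.linearMap B k)
    ((b.coord i).restrictScalars B ∘ₗ TensorProduct.mk B k P 1) hk
  have hsupp : (⟨q, inferInstance⟩ : PrimeSpectrum B) ∉ Module.support B (P ⧸ Submodule.span B (Set.range x)) := by
    rw [Module.mem_support_iff_nontrivial_residueField_tensorProduct, not_nontrivial_iff_subsingleton]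
    let p : (k ⊗[B] P) →ₗ[k] k ⊗[B] (P ⧸ Submodule.span B (Set.range x)) := (Submodule.mkQ _).baseChange k
    have hp : Function.Surjective p := LinearMap.lTensor_surjective k (Submodule.mkQ_surjective _)
    have hp0 : p = 0 := b.ext fun j => by
      rw [← hx, TensorProduct.mk_apply, LinearMap.baseChange_tmul, Submodule.mkQ_apply,
        (Submodule.Quotient.mk_eq_zero _).2 (Submodule.subset_span (Set.mem_range_self j)), tmul_zero]
      rfl
    refine ⟨fun a c => ?_⟩
    obtain ⟨a, rfl⟩ := hp a
    obtain ⟨c, rfl⟩ := hp c
    rw [hp0]; rfl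
  rw [Module.mem_support_iff_of_finite, SetLike.not_le_iff_exists] at hsupp
  obtain ⟨s, hs, hsq⟩ := hsupp
  refine ⟨s, hsq, x, φ, fun hd => ?_, fun y => ?_⟩
  · have h1 : algebraMap B k (Matrix.of fun j i => φ i (x j)).det = 1 := by
      have hm : (algebraMap B k).mapMatrix (Matrix.of fun j i => φ i (x j)) = 1 := Matrix.ext fun j i => by
        have := LinearMap.congr_fun (hφ i) (x j)
        simp only [LinearMap.comp_apply, Algebra.linearMap_apply, LinearMap.restrictScalars_apply] at this
        show algebraMap B k (φ i (x j)) = _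
        rw [this, hx]
        simp [Matrix.one_apply, Finsupp.single_apply]
      rw [RingHom.map_det, hm, Matrix.det_one]
    rw [← Ideal.algebraMap_residueField_eq_zero (I := q)] at hd
    exact one_ne_zero (h1.symm.trans hd)
  · have := Module.mem_annihilator.1 hs (Submodule.Quotient.mk y)
    rwa [← Submodule.Quotient.mk_smul, Submodule.Quotient.mk_eq_zero] at this


/-- Let A → B be a smooth ring map with Ω_{B/A} of rank n at every prime of B, g ∈ B a nonzerodivisor
and R = B/gB, a hypersurface of virtual relative dimension n - 1 over A; let J ⊆ R be the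
annihilator of the n-th exterior power of Ω_{R/A} and Z = Spec R/J. Then J is the ideal of R
generated by the classes of the elements φ(dg), φ ranging over the B-linear forms on Ω_{B/A}; where
Ω_{B/A} is free on dt_1, …, dt_n this says that Z is cut out by the partial derivatives ∂g/∂t_1, …,
∂g/∂t_n. In particular every φ(dg) vanishes in R/J; since Ω_{B/A} is finite projective this says
that dg ⊗ 1 = 0 in Ω_{B/A} ⊗_B R/J, i.e. the map from the conormal module gB/g²B ⊗ R/J to Ω_{B/A}
⊗_B R/J induced by d vanishes, and with the cotangent complex of R over A represented by the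
two-term complex (gB/g²B → Ω_{B/A} ⊗_B R) this is the statement that the canonical map from L_Z =
L_1 i^* L_{R/A} to the conormal module restricted to Z is an isomorphism. (The published statement
also asserts that, for a regular immersion of any codimension into a smooth scheme, this map from
L_Z is a locally split injection; that part is not stated here. The published statement is the
isomorphism alone, which amounts to the inclusion of the ideal generated by the φ(dg) in J; this row
states the equality, whose other inclusion is the local description of Z by the partial derivatives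
given with the definition of Z.) -/
theorem result (A B R : Type u) [CommRing A] [CommRing B] [CommRing R]
    [Algebra A B] [Algebra B R] [Algebra A R] [IsScalarTower A B R] [Algebra.Smooth A B] (n : ℕ)
    (hn : ∀ p : PrimeSpectrum B, Module.rankAtStalk (Ω[B⁄A]) p = n)
    (g : B) (hg : IsSMulRegular B g) (hsurj : Function.Surjective (algebraMap B R))
    (hker : RingHom.ker (algebraMap B R) = Ideal.span {g}) :
    (⋀[R]^n (Ω[R⁄A])).annihilator =
      Ideal.span (Set.range fun φ : Ω[B⁄A] →ₗ[B] B => algebraMap B R (φ (KaehlerDifferential.D A B g))) := by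
  classical
  let f := algebraMap B R
  let v : R ⊗[B] Ω[B⁄A] := 1 ⊗ₜ KaehlerDifferential.D A B g
  let π : R ⊗[B] Ω[B⁄A] →ₗ[R] Ω[R⁄A] := KaehlerDifferential.mapBaseChange A B R
  have hπ : Function.Surjective π := KaehlerDifferential.mapBaseChange_surjective A B R hsurj
  have hg' : g ∈ RingHom.ker f := hker ▸ Ideal.mem_span_singleton_self g
  have hπker : ∀ y, π y = 0 ↔ y ∈ Submodule.span R {v} := fun y => by
    rw [(KaehlerDifferential.exact_kerCotangentToTensor_mapBaseChange A B R hsurj) y]
    constructor
    · rintro ⟨z, rfl⟩
      obtain ⟨⟨z, hz⟩, rfl⟩ := Ideal.toCotangent_surjective _ z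
      obtain ⟨b, rfl⟩ := Ideal.mem_span_singleton'.1 (hker ▸ hz)
      rw [KaehlerDifferential.kerCotangentToTensor_toCotangent]
      simp only [Derivation.leibniz, tmul_add, tmul_smul]
      rw [← algebraMap_smul R g, RingHom.mem_ker.1 hg', zero_smul, add_zero, ← algebraMap_smul R b]
      exact Submodule.smul_mem _ _ (Submodule.mem_span_singleton_self v)
    · intro hy
      obtain ⟨r, rfl⟩ := Submodule.mem_span_singleton.1 hy
      obtain ⟨b, rfl⟩ := hsurj r
      refine ⟨b • Ideal.toCotangent _ ⟨g, hg'⟩, ?_⟩
      rw [LinearMap.map_smul_of_tower, KaehlerDifferential.kerCotangentToTensor_toCotangent, algebraMap_smul]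
  haveI : Module.Projective B Ω[B⁄A] := inferInstance
  haveI : Module.Finite B Ω[B⁄A] := inferInstance
  have hloc : ∀ m : Ideal R, m.IsMaximal → ∃ s ∉ m, ∃ (x : Fin n → R ⊗[B] Ω[B⁄A]) (φ : Fin n → (R ⊗[B] Ω[B⁄A] →ₗ[R] R)),
      (Matrix.of fun j i => φ i (x j)).det ∉ m ∧ ∀ y, s • y ∈ Submodule.span R (Set.range x) := fun m hm => by
    haveI : (m.comap f).IsMaximal := Ideal.comap_isMaximal_of_surjective f hsurj
    obtain ⟨s, hs, x, φ, hd, hspan⟩ := exists_chart B Ω[B⁄A] (m.comap f) n (hn _)
    refine ⟨f s, hs, fun j => 1 ⊗ₜ x j, fun i => LinearMap.liftBaseChange R ((Algebra.linearMap B R) ∘ₗ φ i), ?_, fun y => ?_⟩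
    · have : (Matrix.of fun j i => LinearMap.liftBaseChange R ((Algebra.linearMap B R) ∘ₗ φ i) ((1 : R) ⊗ₜ[B] x j)).det =
          f (Matrix.of fun j i => φ i (x j)).det := by
        rw [RingHom.map_det]
        congr 1
        funext j i
        simp [f, LinearMap.liftBaseChange_tmul]
      rw [this]
      exact hd
    · induction y using TensorProduct.induction_on with
      | zero => rw [smul_zero]; exact zero_mem _
      | add a b ha hb => rw [smul_add]; exact add_mem ha hb
      | tmul r w =>
        obtain ⟨c, hc⟩ := (Submodule.mem_span_range_iff_exists_fun B).1 (hspan w)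
        rw [algebraMap_smul, ← tmul_smul, ← hc, tmul_sum]
        refine sum_mem fun j _ => ?_
        rw [tmul_smul, ← algebraMap_smul R (c j)]
        refine Submodule.smul_mem _ _ ?_
        rw [show r ⊗ₜ[B] x j = r • ((1 : R) ⊗ₜ[B] x j) by rw [smul_tmul', smul_eq_mul, mul_one]]
        exact Submodule.smul_mem _ _ (Submodule.subset_span (Set.mem_range_self j))
  rw [annihilator_eq π hπ v hπker n hloc]
  refine le_antisymm (Ideal.span_le.2 ?_) (Ideal.span_le.2 ?_)
  · rintro _ ⟨ψ, rfl⟩
    obtain ⟨φ, hφ⟩ := Module.projective_lifting_property (Algebra.linearMap B R)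
      (ψ.restrictScalars B ∘ₗ TensorProduct.mk B R Ω[B⁄A] 1) hsurj
    exact Ideal.subset_span ⟨φ, LinearMap.congr_fun hφ (KaehlerDifferential.D A B g)⟩
  · rintro _ ⟨φ, rfl⟩
    exact Ideal.subset_span ⟨LinearMap.liftBaseChange R ((Algebra.linearMap B R) ∘ₗ φ), by simp [v, LinearMap.liftBaseChange_tmul]⟩

end Groth.Agent.S14477
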