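import Groth.Statements.S14478
import Mathlib

set_option autoImplicit false
universe u
open CharCyc

namespace Groth.Agent.S14478

lemma exists_common_compl {K V : Type u} [Field K] [AddCommGroup V] [Module K V]
    [FiniteDimensional K V] : ∀ (c : ℕ) (A B : Submodule K V),
    Module.finrank K A + c = Module.finrank K V → Module.finrank K B + c = Module.finrank K V →
    ∃ C : Submodule K V, IsCompl A C ∧ IsCompl B C
  | 0, A, B, hA, hB => ⟨⊥, by rw [Submodule.eq_top_of_finrank_eq (K := K) (S := A) (by omega)]; exact isCompl_top_bot,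
      by rw [Submodule.eq_top_of_finrank_eq (K := K) (S := B) (by omega)]; exact isCompl_top_bot⟩
  | c + 1, A, B, hA, hB => by
    have hAne : A ≠ ⊤ := fun h => by rw [h, finrank_top] at hA; omega
    have hBne : B ≠ ⊤ := fun h => by rw [h, finrank_top] at hB; omega
    obtain ⟨z, hzA, hzB⟩ : ∃ z, z ∉ A ∧ z ∉ B := by
      obtain ⟨x, -, hx⟩ := SetLike.exists_of_lt (lt_top_iff_ne_top.2 hAne)
      obtain ⟨y, -, hy⟩ := SetLike.exists_of_lt (lt_top_iff_ne_top.2 hBne)
      by_cases hxB : x ∈ B
      · by_cases hyA : y ∈ A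
        · exact ⟨x + y, fun h => hx ((Submodule.add_mem_iff_left A hyA).1 h),
            fun h => hy ((Submodule.add_mem_iff_right B hxB).1 h)⟩
        · exact ⟨y, hyA, hy⟩
      · exact ⟨x, hx, hxB⟩
    set L : Submodule K V := K ∙ z
    have hz : z ≠ 0 := fun h => hzA (h ▸ A.zero_mem)
    have hdim : ∀ S : Submodule K V, z ∉ S → Disjoint S L ∧
        Module.finrank K ↥(S ⊔ L) = Module.finrank K S + 1 := by
      intro S hS
      have hd : Disjoint S L := (Submodule.disjoint_span_singleton' hz).2 hS
      refine ⟨hd, ?_⟩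
      have := Submodule.finrank_sup_add_finrank_inf_eq S L
      rw [disjoint_iff.1 hd, finrank_bot, finrank_span_singleton hz] at this
      omega
    obtain ⟨hdA, hfA⟩ := hdim A hzA
    obtain ⟨hdB, hfB⟩ := hdim B hzB
    obtain ⟨C, hCA, hCB⟩ := exists_common_compl c (A ⊔ L) (B ⊔ L) (by omega) (by omega)
    refine ⟨L ⊔ C, ⟨?_, ?_⟩, ⟨?_, ?_⟩⟩
    · exact hdA.disjoint_sup_right_of_disjoint_sup_left hCA.disjoint
    · exact codisjoint_iff.2 (by rw [← sup_assoc, hCA.sup_eq_top])
    · exact hdB.disjoint_sup_right_of_disjoint_sup_left hCB.disjoint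
    · exact codisjoint_iff.2 (by rw [← sup_assoc, hCB.sup_eq_top])

/-- Let V be a finite-dimensional vector space over a field k, let W = V × V^∨ with V^∨ the dual space,
and let T ⊆ W be a subspace with dim T = dim V; put V₁ = V ∩ T, where V sits in W as V × 0. Then
there is a complement V₂ of V₁ in V with the following property: for every injective linear map A₁ :
V₁ → V₁^∨, the map A : V → V^∨ extending A₁ by zero along the decompositions V = V₁ ⊕ V₂ and V^∨ =
V₁^∨ ⊕ V₂^∨ (so A v = A₁(p v) ∘ p, with p : V → V₁ the projection along V₂) has graph Γ ⊆ W with Γ ∩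
T = 0. -/
theorem result (k V : Type u) [Field k] [AddCommGroup V] [Module k V]
    [FiniteDimensional k V] (T : Submodule k (V × Module.Dual k V))
    (hT : Module.finrank k T = Module.finrank k V) :
    ∃ (V₂ : Submodule k V) (h : IsCompl (T.comap (LinearMap.inl k V (Module.Dual k V))) V₂),
      ∀ A₁ : T.comap (LinearMap.inl k V (Module.Dual k V)) →ₗ[k]
          Module.Dual k (T.comap (LinearMap.inl k V (Module.Dual k V))),
        Function.Injective A₁ →
          LinearMap.graph ((Submodule.projectionOnto _ V₂ h).dualMap ∘ₗ A₁ ∘ₗ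
              Submodule.projectionOnto _ V₂ h) ⊓ T = ⊥ := by
  set V₁ := T.comap (LinearMap.inl k V (Module.Dual k V)) with hV₁
  set I := T.map (LinearMap.snd k V (Module.Dual k V)) with hI
  let π : T →ₗ[k] Module.Dual k V := (LinearMap.snd k V (Module.Dual k V)).domRestrict T
  have hker : Module.finrank k (LinearMap.ker π) = Module.finrank k V₁ := by
    refine LinearEquiv.finrank_eq
      { toFun := fun x => ⟨x.1.1.1, ?_⟩
        invFun := fun v => ⟨⟨(v.1, 0), v.2⟩, rfl⟩
        map_add' := fun _ _ => rfl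
        map_smul' := fun _ _ => rfl
        left_inv := fun x => ?_
        right_inv := fun _ => rfl }
    · have h2 : x.1.1.2 = 0 := x.2
      change (x.1.1.1, (0 : Module.Dual k V)) ∈ T
      rw [← h2]
      exact x.1.2
    · refine Subtype.ext (Subtype.ext (Prod.ext rfl ?_))
      exact (show x.1.1.2 = 0 from x.2).symm
  have hrange : LinearMap.range π = I := by
    rw [hI, LinearMap.range_domRestrict]
  have hd := LinearMap.finrank_range_add_finrank_ker (K := k) (V := T) (V₂ := Module.Dual k V) π
  rw [hrange, hker, hT] at hd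
  have hW := Subspace.finrank_add_finrank_dualCoannihilator_eq I
  obtain ⟨V₂, h₁, h₂⟩ := exists_common_compl (Module.finrank k I) V₁ I.dualCoannihilator
    (by omega) (by omega)
  refine ⟨V₂, h₁, fun A₁ hA₁ => ?_⟩
  rw [eq_bot_iff]
  rintro ⟨v, w⟩ ⟨hw, hT'⟩
  rw [SetLike.mem_coe, LinearMap.mem_graph_iff] at hw
  simp only at hw
  have hwI : w ∈ I := ⟨(v, w), hT', rfl⟩
  have hw0 : w = 0 := by
    apply LinearMap.ext
    intro x
    obtain ⟨y, hy, z, hz, rfl⟩ := Submodule.mem_sup.1
      (show x ∈ I.dualCoannihilator ⊔ V₂ by rw [h₂.sup_eq_top]; trivial)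
    rw [map_add, (Submodule.mem_dualCoannihilator _).1 hy w hwI, zero_add, hw]
    simp [Submodule.projectionOnto_apply_right h₁ ⟨z, hz⟩]
  subst hw0
  have hv : v ∈ V₁ := hT'
  have hzero : A₁ (Submodule.projectionOnto _ V₂ h₁ v) = 0 := by
    apply LinearMap.ext
    intro y
    have := LinearMap.congr_fun hw.symm (y : V)
    simpa [Submodule.projectionOnto_apply_left h₁ y] using this
  rw [Submodule.projectionOnto_apply_left h₁ ⟨v, hv⟩] at hzero
  have : (⟨v, hv⟩ : V₁) = 0 := hA₁ (hzero.trans (map_zero _).symm)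
  have hv0 : v = 0 := congrArg Subtype.val this
  subst hv0
  exact zero_mem _

end Groth.Agent.S14478
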