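import Groth.Statements.S14479
import Mathlib

set_option autoImplicit false
universe u
open CharCyc

namespace Groth.Agent.S14479

/-- Let V be a finite-dimensional vector space over a field k. If dim V is even or the characteristic of
k is different from 2, there is a bilinear form B on V such that the bilinear form (v, w) ↦ B(v, w)
+ B(w, v) (B plus its transpose, as a map V → V^∨) is nondegenerate. -/
theorem result (k V : Type u) [Field k] [AddCommGroup V] [Module k V]
    [FiniteDimensional k V] (h : Even (Module.finrank k V) ∨ ringChar k ≠ 2) :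
    ∃ B : LinearMap.BilinForm k V, (B + B.flip).Nondegenerate := by
  classical
  by_cases hc : ringChar k = 2
  · obtain ⟨m, hm⟩ := h.resolve_right (not_not.2 hc)
    let b : Module.Basis (Fin m ⊕ Fin m) k V :=
      (Module.finBasisOfFinrankEq k V hm).reindex finSumFinEquiv.symm
    refine ⟨Matrix.toBilin b (Matrix.fromBlocks 0 1 0 0), ?_⟩
    rw [LinearMap.BilinForm.nondegenerate_iff_det_ne_zero b]
    have : LinearMap.BilinForm.toMatrix b (Matrix.toBilin b (Matrix.fromBlocks 0 1 0 0) +
        (Matrix.toBilin b (Matrix.fromBlocks 0 1 0 0)).flip) =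
        (Matrix.fromBlocks 0 1 1 0 : Matrix (Fin m ⊕ Fin m) (Fin m ⊕ Fin m) k) := by
      ext i j
      rw [map_add, Matrix.add_apply, LinearMap.BilinForm.toMatrix_toBilin, LinearMap.BilinForm.toMatrix_apply,
        LinearMap.BilinForm.flip_apply, ← LinearMap.BilinForm.toMatrix_apply, LinearMap.BilinForm.toMatrix_toBilin]
      rcases i with i | i <;> rcases j with j | j <;> simp [Matrix.one_apply, eq_comm]
    rw [this]
    have hsq : (Matrix.fromBlocks 0 1 1 0 : Matrix (Fin m ⊕ Fin m) (Fin m ⊕ Fin m) k) *
        Matrix.fromBlocks 0 1 1 0 = 1 := by simp [Matrix.fromBlocks_multiply, Matrix.fromBlocks_one]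
    exact fun h0 => by simpa [Matrix.det_mul, h0] using congrArg Matrix.det hsq
  · let b := Module.finBasis k V
    refine ⟨Matrix.toBilin b 1, ?_⟩
    rw [LinearMap.BilinForm.nondegenerate_iff_det_ne_zero b]
    have : LinearMap.BilinForm.toMatrix b (Matrix.toBilin b 1 + (Matrix.toBilin b 1).flip) =
        (2 : k) • (1 : Matrix _ _ k) := by
      ext i j
      rw [map_add, Matrix.add_apply, LinearMap.BilinForm.toMatrix_toBilin, LinearMap.BilinForm.toMatrix_apply,
        LinearMap.BilinForm.flip_apply, ← LinearMap.BilinForm.toMatrix_apply, LinearMap.BilinForm.toMatrix_toBilin]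
      simp [Matrix.one_apply, eq_comm]
      split_ifs <;> norm_num
    rw [this, Matrix.det_smul, Matrix.det_one, mul_one]
    exact pow_ne_zero _ (Ring.two_ne_zero hc)

end Groth.Agent.S14479
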