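import Groth.Statements.S14480
import Groth.Agent.CharCyc.DimCrit

set_option autoImplicit false
universe u
open CategoryTheory AlgebraicGeometry
open CharCyc

namespace Groth.Agent.S14480

/-- Let k be a field, let π : C → X be a morphism between k-schemes of finite type, and let n be a
natural number. For j ≥ 0 let B_j ⊆ X be the set of points x whose fibre π⁻¹(x) has dimension at
least j (so B_0 is the image of π). Then dim C ≤ n if and only if, for every j, the closure of B_j
in X has dimension at most n − j. Dimensions are topological Krull dimensions with the empty space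
of dimension ⊥, and the inequality is written additively as dim cl(B_j) + j ≤ n. -/
theorem result (k : Type u) [Field k] (C X : Scheme.{u})
    (q : X ⟶ Spec (CommRingCat.of k)) (π : C ⟶ X)
    [LocallyOfFiniteType q] [CompactSpace X] [LocallyOfFiniteType π] [CompactSpace C] (n : ℕ) :
    topologicalKrullDim C ≤ n ↔
      ∀ j : ℕ, topologicalKrullDim (closure {x : X | (j : WithBot ℕ∞) ≤ topologicalKrullDim (π.fiber x)}) +
        (j : WithBot ℕ∞) ≤ n := by
  have : IsLocallyNoetherian X := LocallyOfFiniteType.isLocallyNoetherian q
  have : LocallyOfFinitePresentation π := inferInstance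
  have : QuasiCompact π := inferInstance
  constructor
  · intro h j
    rw [Groth.Variety2.Dim.dim_closed isClosed_closure, Groth.CharCycDim.add_le_iff_forall]
    intro x hx
    obtain ⟨y, hy, hyx⟩ := Groth.Limits.exists_specializes_of_mem_closure
      (Groth.CharCycDim.pc_le_dim π j) hx
    obtain ⟨c, -, hc⟩ := Groth.CharCycDim.exists_point_of_le_dim (π ≫ q) q π rfl hy
    refine le_trans ?_ h
    rw [Groth.Variety2.Dim.dim_eq_iSup_height C]
    refine le_trans ?_ (le_iSup (fun z : C => ((Order.height z : ℕ∞) : WithBot ℕ∞)) c)
    change ((Order.height x : ℕ∞) : WithBot ℕ∞) + ((j : ℕ∞) : WithBot ℕ∞) ≤ _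
    rw [← WithBot.coe_add, WithBot.coe_le_coe]
    exact (add_le_add (Order.height_mono (Scheme.le_iff_specializes.2 hyx)) le_rfl).trans hc
  · intro h
    rw [Groth.Variety2.Dim.dim_eq_iSup_height C]
    refine iSup_le fun c => ?_
    obtain ⟨j, hj, hcj⟩ := Groth.CharCycDim.exists_fibre_dim_add (π ≫ q) q π rfl c
    rw [hcj, WithBot.coe_add]
    refine le_trans (add_le_add ?_ le_rfl) (h j)
    rw [Groth.Variety2.Dim.dim_closed isClosed_closure]
    exact le_iSup₂ (f := fun x (_ : x ∈ closure _) => ((Order.height x : ℕ∞) : WithBot ℕ∞))
      (π c) (subset_closure hj)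

end Groth.Agent.S14480
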