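import Groth.Statements.S14481
import Groth.Agent.CharCyc.DimCrit

set_option autoImplicit false
universe u
open CategoryTheory AlgebraicGeometry
open CharCyc

namespace Groth.Agent.S14481

/-- First equivalence: let k be a field, let π : C → X be a morphism between k-schemes of finite type
such that every irreducible component of C has dimension n, and let ι : W → X be a regular immersion
of codimension c. The following are equivalent: (a) ι meets C properly, that is, whenever P is an
irreducible component of C and Q is an irreducible component of P ×_X W (the subspace P ∩ π⁻¹(ι(W))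
of C), one has dim Q = dim P − c; (b) dim C ×_X W ≤ n − c (the subspace π⁻¹(ι(W)) of C). Dimensions
are written additively: dim Q + c = n and dim π⁻¹(ι(W)) + c ≤ n, the empty space having dimension ⊥.
(Stated for each of the four kinds of regular immersion of codimension c — regular, Koszul-regular,
H₁-regular, quasi-regular; the published statement does not distinguish kinds.) -/
theorem result (k : Type u) [Field k] (C X W : Scheme.{u})
    (q : X ⟶ Spec (CommRingCat.of k)) (π : C ⟶ X) (ι : W ⟶ X)
    [LocallyOfFiniteType q] [CompactSpace X] [LocallyOfFiniteType π] [CompactSpace C]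
    (κ : RegImm.Kind) (n c : ℕ) (hι : RegImm.IsRegularImmersionOfCodim κ c ι)
    (hC : ∀ P ∈ irreducibleComponents (C : Type u), topologicalKrullDim P = n) :
    (∀ P ∈ irreducibleComponents (C : Type u), ∀ Q ∈ irreducibleComponents (P ∩ π ⁻¹' Set.range ι : Set C),
        topologicalKrullDim Q + (c : WithBot ℕ∞) = n) ↔
      topologicalKrullDim (π ⁻¹' Set.range ι : Set C) + (c : WithBot ℕ∞) ≤ n := by
  have : IsImmersion ι := hι.1
  have hr : IsLocallyClosed (π ⁻¹' Set.range ι : Set C) :=
    ι.isLocallyClosed_range.preimage π.continuous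
  have hkey : ∀ P ∈ irreducibleComponents (C : Type u),
      ∀ Q ∈ irreducibleComponents (P ∩ π ⁻¹' Set.range ι : Set C),
      topologicalKrullDim Q =
        ⨆ y ∈ (Subtype.val '' Q : Set C), ((Order.height y : ℕ∞) : WithBot ℕ∞) ∧
      ∃ x ∈ (P ∩ π ⁻¹' Set.range ι : Set C), topologicalKrullDim Q = (Order.height x : ℕ∞) ∧
        (n : ℕ∞) ≤ Order.height x + c := by
    intro P hP Q hQ
    have hPc := isClosed_of_mem_irreducibleComponents P hP
    have hS : IsLocallyClosed (P ∩ π ⁻¹' Set.range ι : Set C) := hPc.isLocallyClosed.inter hr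
    obtain ⟨x, hxS, hxQ, hxmax⟩ := Groth.CharCycDim.exists_generic_of_component hS hQ
    have hQlc : IsLocallyClosed (closure {x} ∩ (P ∩ π ⁻¹' Set.range ι) : Set C) :=
      isClosed_closure.isLocallyClosed.inter hS
    have hd : topologicalKrullDim Q =
        ⨆ y ∈ (Subtype.val '' Q : Set C), ((Order.height y : ℕ∞) : WithBot ℕ∞) := by
      rw [(Topology.IsEmbedding.subtypeVal.homeomorphImage Q).isHomeomorph.topologicalKrullDim_eq]
      exact Groth.CharCycDim.dim_locallyClosed (π ≫ q) (hxQ ▸ hQlc)
    refine ⟨hd, x, hxS, ?_, ?_⟩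
    · rw [hd, hxQ]
      refine le_antisymm (iSup₂_le fun y hy => WithBot.coe_le_coe.2 (Order.height_mono
        (Scheme.le_iff_specializes.2 (specializes_iff_mem_closure.2 hy.1)))) ?_
      exact le_iSup₂ (f := fun y (_ : y ∈ closure {x} ∩ (P ∩ π ⁻¹' Set.range ι)) =>
        ((Order.height y : ℕ∞) : WithBot ℕ∞)) x ⟨subset_closure rfl, hxS⟩
    · have hgen := hP.1.isGenericPoint_genericPoint hPc
      have hη : Order.height hP.1.genericPoint = (n : ℕ∞) := by
        have h := hC P hP
        rw [← hgen.def, Groth.Variety2.Dim.dim_closure_singleton] at h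
        exact WithBot.coe_inj.1 h
      obtain ⟨w, hw⟩ := hxS.2
      obtain ⟨U, hwU, hcl, rs, hlen, -, hker⟩ := hι.2 w
      rw [← hη, ← hlen]
      refine Groth.CharCycDim.height_le_height_add q π ι U.2 rs hker ?_ (hw ▸ hwU) ⟨w, hw⟩ ?_
      · exact hgen.specializes hxS.1
      · exact fun y hy hyx hyr => hxmax y ⟨hy.mem_closed hPc hgen.mem, hyr⟩ hyx
  rw [Groth.CharCycDim.dim_locallyClosed (π ≫ q) hr, Groth.CharCycDim.add_le_iff_forall]
  constructor
  · intro h x hx
    let P := irreducibleComponent x
    have hP : P ∈ irreducibleComponents (C : Type u) := irreducibleComponent_mem_irreducibleComponents x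
    let x' : (P ∩ π ⁻¹' Set.range ι : Set C) := ⟨x, mem_irreducibleComponent, hx⟩
    have hQ := irreducibleComponent_mem_irreducibleComponents x'
    rw [← h P hP _ hQ]
    refine add_le_add ?_ le_rfl
    rw [(hkey P hP _ hQ).1]
    exact le_iSup₂ (f := fun y (_ : y ∈ (Subtype.val '' irreducibleComponent x' : Set C)) =>
      ((Order.height y : ℕ∞) : WithBot ℕ∞)) x ⟨x', mem_irreducibleComponent, rfl⟩
  · intro h P hP Q hQ
    obtain ⟨-, x, hxS, hd, hle⟩ := hkey P hP Q hQ
    rw [hd]
    refine le_antisymm (h x hxS.2) ?_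
    change ((n : ℕ∞) : WithBot ℕ∞) ≤ ((Order.height x : ℕ∞) : WithBot ℕ∞) + ((c : ℕ∞) : WithBot ℕ∞)
    rw [← WithBot.coe_add, WithBot.coe_le_coe]
    exact hle

end Groth.Agent.S14481
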