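import Groth.Statements.S14482
import Groth.Agent.CharCyc.DimCrit

set_option autoImplicit false
universe u
open CategoryTheory AlgebraicGeometry
open CharCyc

namespace Groth.Agent.S14482

/-- Second assertion: let k be a field, let π : C → X be a morphism between k-schemes of finite type
such that every irreducible component of C has dimension n, let ι : W → X be a regular immersion of
codimension c, and for j ≥ 0 let B_j ⊆ X be the set of points whose fibre under π has dimension at
least j. Assume that every B_j is closed in X. Then dim B_j + j ≤ n for every j, and the condition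
dim π⁻¹(ι(W)) + c ≤ n (that is, dim C ×_X W ≤ n − c) holds if and only if dim ι⁻¹(B_j) + c + j ≤ n
for every j (that is, ι meets the sequence (B_j) n-semi-properly). Dimensions are topological Krull
dimensions of subspaces, the empty space having dimension ⊥. (Stated for each of the four kinds of
regular immersion of codimension c — regular, Koszul-regular, H₁-regular, quasi-regular; the
published statement does not distinguish kinds.) -/
theorem result (k : Type u) [Field k] (C X W : Scheme.{u})
    (q : X ⟶ Spec (CommRingCat.of k)) (π : C ⟶ X) (ι : W ⟶ X)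
    [LocallyOfFiniteType q] [CompactSpace X] [LocallyOfFiniteType π] [CompactSpace C]
    (κ : RegImm.Kind) (n c : ℕ) (hι : RegImm.IsRegularImmersionOfCodim κ c ι)
    (hC : ∀ P ∈ irreducibleComponents (C : Type u), topologicalKrullDim P = n)
    (hB : ∀ j : ℕ, IsClosed {x : X | (j : WithBot ℕ∞) ≤ topologicalKrullDim (π.fiber x)}) :
    (∀ j : ℕ, topologicalKrullDim {x : X | (j : WithBot ℕ∞) ≤ topologicalKrullDim (π.fiber x)} + (j : WithBot ℕ∞) ≤ n) ∧
      (topologicalKrullDim (π ⁻¹' Set.range ι : Set C) + (c : WithBot ℕ∞) ≤ n ↔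
        ∀ j : ℕ, topologicalKrullDim (ι ⁻¹' {x : X | (j : WithBot ℕ∞) ≤ topologicalKrullDim (π.fiber x)} : Set W) + (c : WithBot ℕ∞) + (j : WithBot ℕ∞) ≤ n) := by
  have : IsImmersion ι := hι.1
  have : LocallyOfFiniteType (ι ≫ q) := inferInstance
  have hn : ∀ x : C, Order.height x ≤ (n : ℕ∞) := by
    intro x
    have hP : irreducibleComponent x ∈ irreducibleComponents (C : Type u) :=
      irreducibleComponent_mem_irreducibleComponents x
    have := hC _ hP
    rw [Groth.Variety2.Dim.dim_closed isClosed_irreducibleComponent] at this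
    exact WithBot.coe_le_coe.1 (le_trans (le_iSup₂ (f := fun y (_ : y ∈ irreducibleComponent x) =>
      ((Order.height y : ℕ∞) : WithBot ℕ∞)) x mem_irreducibleComponent) this.le)
  refine ⟨fun j => ?_, ?_⟩
  · rw [Groth.Variety2.Dim.dim_closed (hB j), Groth.CharCycDim.add_le_iff_forall]
    intro y hy
    obtain ⟨c, -, hc⟩ := Groth.CharCycDim.exists_point_of_le_dim (π ≫ q) q π rfl hy
    change ((Order.height y : ℕ∞) : WithBot ℕ∞) + ((j : ℕ∞) : WithBot ℕ∞) ≤ ((n : ℕ∞) : WithBot ℕ∞)
    rw [← WithBot.coe_add, WithBot.coe_le_coe]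
    exact hc.trans (hn c)
  have hr : IsLocallyClosed (π ⁻¹' Set.range ι : Set C) :=
    ι.isLocallyClosed_range.preimage π.continuous
  rw [Groth.CharCycDim.dim_locallyClosed (π ≫ q) hr, Groth.CharCycDim.add_le_iff_forall]
  constructor
  · intro h j
    rw [add_assoc, ← Nat.cast_add, Groth.Variety2.Dim.dim_closed ((hB j).preimage ι.continuous),
      Groth.CharCycDim.add_le_iff_forall]
    intro w hw
    obtain ⟨x, hx, hxj⟩ := Groth.CharCycDim.exists_point_of_le_dim (π ≫ q) q π rfl
      (show (j : WithBot ℕ∞) ≤ _ from hw)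
    rw [Groth.Variety2.Dim.height_eq_of_isPreimmersion (ι ≫ q) q ι rfl] at hxj
    refine le_trans ?_ (h x ⟨w, hx.symm⟩)
    change ((Order.height w : ℕ∞) : WithBot ℕ∞) + (((c + j : ℕ) : ℕ∞) : WithBot ℕ∞) ≤
      ((Order.height x : ℕ∞) : WithBot ℕ∞) + ((c : ℕ∞) : WithBot ℕ∞)
    rw [← WithBot.coe_add, ← WithBot.coe_add, WithBot.coe_le_coe, Nat.cast_add, ← add_assoc,
      add_right_comm]
    exact add_le_add hxj le_rfl
  · intro h x hx
    obtain ⟨w, hw⟩ := hx
    obtain ⟨j, hj, hxj⟩ := Groth.CharCycDim.exists_fibre_dim_add (π ≫ q) q π rfl x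
    rw [hxj, ← hw, Groth.Variety2.Dim.height_eq_of_isPreimmersion (ι ≫ q) q ι rfl, WithBot.coe_add,
      add_right_comm]
    refine le_trans (add_le_add (add_le_add ?_ le_rfl) le_rfl) (h j)
    rw [Groth.Variety2.Dim.dim_closed ((hB j).preimage ι.continuous)]
    exact le_iSup₂ (f := fun y (_ : y ∈ _) => ((Order.height y : ℕ∞) : WithBot ℕ∞))
      w (show (j : WithBot ℕ∞) ≤ topologicalKrullDim (π.fiber (ι w)) from hw ▸ hj)

end Groth.Agent.S14482
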