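import Groth.Statements.S14483
import Groth.Agent.CharCyc.WellIntersect

set_option autoImplicit false
universe u
open CategoryTheory CategoryTheory.Limits AlgebraicGeometry
open CharCyc

namespace Groth.Agent.S14483

/-- Let k be a field and let f : X → S be a morphism between separated k-schemes of finite type. Two
closed subsets Y, Z of X are said to well intersect with respect to f when dim(Y ×_S Z ∖ Y ×_X Z) ≤
dim Y + dim Z − dim S; here Y ×_S Z ∖ Y ×_X Z is taken as the subspace of X ×_S X of points whose
two projections lie in Y and in Z and which are not in the image of the diagonal, and the inequality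
is written additively as dim(Y ×_S Z ∖ Y ×_X Z) + dim S ≤ dim Y + dim Z (topological Krull
dimensions, the empty space having dimension ⊥). Let Y ⊆ X be closed and irreducible with dim Y <
dim S, and suppose that the pair Y, Y well intersects with respect to f. Then Y → S is generically
radicial onto its image: there is an open subset V of X meeting Y such that f is injective on V ∩ Y
and, at every point of V ∩ Y, the residue field extension induced by f is purely inseparable. -/
theorem result (k : Type u) [Field k] (X S : Scheme.{u})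
    (q : S ⟶ Spec (CommRingCat.of k)) (f : X ⟶ S)
    [LocallyOfFiniteType q] [CompactSpace S] [IsSeparated q] [LocallyOfFiniteType f] [CompactSpace X] [IsSeparated f]
    (Y : Set X) (hYc : IsClosed Y) (hYi : IsIrreducible Y)
    (hWI : topologicalKrullDim {p : ↥(pullback f f) | pullback.fst f f p ∈ Y ∧ pullback.snd f f p ∈ Y ∧ p ∉ Set.range (pullback.diagonal f)} + topologicalKrullDim S ≤ topologicalKrullDim Y + topologicalKrullDim Y)
    (hYS : topologicalKrullDim Y < topologicalKrullDim S) :
    ∃ V : Set X, IsOpen V ∧ (V ∩ Y).Nonempty ∧ Set.InjOn f.base (V ∩ Y) ∧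
      ∀ x ∈ V ∩ Y, (f.residueFieldMap x).hom.IsPurelyInseparable := by
  have : IsLocallyNoetherian S := LocallyOfFiniteType.isLocallyNoetherian q
  have : IsLocallyNoetherian X := LocallyOfFiniteType.isLocallyNoetherian f
  have : IsNoetherian S := {}
  have : IsNoetherian X := {}
  have : IsLocallyNoetherian (pullback f f) := LocallyOfFiniteType.isLocallyNoetherian (pullback.fst f f)
  have : CompactSpace ↥(pullback f f) := QuasiCompact.compactSpace_of_compactSpace (pullback.fst f f)
  have : IsNoetherian (pullback f f) := {}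
  obtain ⟨η, hη⟩ := QuasiSober.sober hYi hYc
  let T : Set ↥(pullback f f) := {p | pullback.fst f f p ∈ Y ∧ pullback.snd f f p ∈ Y ∧
    p ∉ Set.range (pullback.diagonal f)}
  have hpc := Groth.CharCycDim.pc_image (pullback.fst f f) (E := T)
    (Groth.CharCycDim.isLocallyClosed_offDiag f hYc hYc)
  refine ⟨(closure (pullback.fst f f '' T))ᶜ, isClosed_closure.isOpen_compl, ⟨η, ?_, hη.mem⟩, ?_, ?_⟩
  · intro hcl
    obtain ⟨x, ⟨p, hp, rfl⟩, hx⟩ := Groth.Limits.exists_specializes_of_mem_closure hpc hcl
    have he : pullback.fst f f p = η := (hx.antisymm (hη.specializes hp.1)).eq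
    exact hp.2.2 (Groth.CharCycDim.no_partner q f hYc hYi hYc hWI hYS hη p he hp.2.1)
  · intro x hx y hy hxy
    obtain ⟨p, hp1, hp2⟩ := Scheme.Pullback.exists_preimage_pullback x y hxy
    by_contra hne
    refine hx.1 (subset_closure ⟨p, ⟨hp1 ▸ hx.2, hp2 ▸ hy.2, ?_⟩, hp1⟩)
    rintro ⟨z, rfl⟩
    rw [← Scheme.Hom.comp_apply, pullback.diagonal_fst] at hp1
    rw [← Scheme.Hom.comp_apply, pullback.diagonal_snd] at hp2
    exact hne (hp1.symm.trans hp2)
  · intro x hx
    algebraize [(f.residueFieldMap x).hom]
    rw [RingHom.IsPurelyInseparable, isPurelyInseparable_iff_subsingleton_emb, subsingleton_iff]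
    intro σ₁ σ₂
    apply AlgHom.coe_ringHom_injective
    let g₁ := (X.SpecToEquivOfField _).symm ⟨_, CommRingCat.ofHom σ₁.toRingHom⟩
    let g₂ := (X.SpecToEquivOfField _).symm ⟨_, CommRingCat.ofHom σ₂.toRingHom⟩
    suffices X.SpecToEquivOfField _ g₁ = X.SpecToEquivOfField _ g₂ by
      rw [Equiv.apply_symm_apply, Equiv.apply_symm_apply] at this
      exact congr($(this).2.hom)
    let r := pullback.lift (f := f) (g := f) g₁ g₂ <| by
      simp only [g₁, g₂, Scheme.SpecToEquivOfField_symm_apply, AlgHom.toRingHom_eq_coe,
        Category.assoc, ← f.SpecMap_residueFieldMap_fromSpecResidueField x, ← Spec.map_comp_assoc]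
      congr 2
      ext a
      simp only [CommRingCat.hom_comp, RingHom.comp_apply]
      exact (AlgHom.commutes σ₁ a).trans (AlgHom.commutes σ₂ a).symm
    have hr1 : r ≫ pullback.fst f f = g₁ := pullback.lift_fst _ _ _
    have hr2 : r ≫ pullback.snd f f = g₂ := pullback.lift_snd _ _ _
    let pt := IsLocalRing.closedPoint (AlgebraicClosure (X.residueField x))
    have hg1 : g₁ pt = x := by
      simp only [g₁, Scheme.SpecToEquivOfField_symm_apply, Scheme.Hom.comp_apply,
        Scheme.fromSpecResidueField_apply]
    have hg2 : g₂ pt = x := by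
      simp only [g₂, Scheme.SpecToEquivOfField_symm_apply, Scheme.Hom.comp_apply,
        Scheme.fromSpecResidueField_apply]
    have hrd : Set.range r ⊆ Set.range (pullback.diagonal f) := by
      rintro _ ⟨a, rfl⟩
      rw [Subsingleton.elim a pt]
      by_contra hn
      refine hx.1 (subset_closure ⟨r pt, ⟨?_, ?_, hn⟩, ?_⟩) <;>
        rw [← Scheme.Hom.comp_apply] <;> simp only [hr1, hr2, hg1, hg2]
      · exact hx.2
      · exact hx.2
    obtain ⟨l, hl⟩ : ∃ l, l ≫ pullback.diagonal f = r := by
      obtain ⟨⟨y, φ⟩, hy⟩ := ((pullback f f).SpecToEquivOfField _).symm.surjective r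
      have hy' : r pt = y := by
        rw [← hy]
        simp only [Scheme.SpecToEquivOfField_symm_apply, Scheme.Hom.comp_apply,
          Scheme.fromSpecResidueField_apply]
      obtain ⟨z, rfl⟩ : y ∈ Set.range (pullback.diagonal f) := hy' ▸ hrd ⟨pt, rfl⟩
      have : IsIso ((pullback.diagonal f).residueFieldMap z) :=
        (ConcreteCategory.isIso_iff_bijective _).mpr ⟨RingHom.injective _,
          Groth.Variety2.Dim.residueFieldMap_surjective _ z⟩
      refine ⟨Spec.map (inv ((pullback.diagonal f).residueFieldMap z) ≫ φ) ≫ X.fromSpecResidueField z, ?_⟩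
      rw [← hy, Category.assoc, ← Scheme.Hom.SpecMap_residueFieldMap_fromSpecResidueField,
        ← Spec.map_comp_assoc, IsIso.hom_inv_id_assoc]
      simp only [Scheme.SpecToEquivOfField_symm_apply]
    rw [← hr1, ← hr2, ← hl]
    simp

end Groth.Agent.S14483
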