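import Groth.Statements.S14484
import Groth.Agent.CharCyc.WellIntersect

set_option autoImplicit false
universe u
open CategoryTheory CategoryTheory.Limits AlgebraicGeometry
open CharCyc

namespace Groth.Agent.S14484

/-- Let k be a field and let f : X → S be a morphism between separated k-schemes of finite type. Two
closed subsets Y, Z of X are said to well intersect with respect to f when dim(Y ×_S Z ∖ Y ×_X Z) ≤
dim Y + dim Z − dim S; here Y ×_S Z ∖ Y ×_X Z is taken as the subspace of X ×_S X of points whose
two projections lie in Y and in Z and which are not in the image of the diagonal, and the inequality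
is written additively as dim(Y ×_S Z ∖ Y ×_X Z) + dim S ≤ dim Y + dim Z (topological Krull
dimensions, the empty space having dimension ⊥). Let Y, Z ⊆ X be closed irreducible subsets that
well intersect with respect to f, with dim Y < dim S and dim Z < dim S, and assume Y ⊄ Z. Then f(Y)
is not contained in the closure of f(Y) ∩ f(Z); in particular f(Y) ⊄ f(Z). -/
theorem result (k : Type u) [Field k] (X S : Scheme.{u})
    (q : S ⟶ Spec (CommRingCat.of k)) (f : X ⟶ S)
    [LocallyOfFiniteType q] [CompactSpace S] [IsSeparated q] [LocallyOfFiniteType f] [CompactSpace X] [IsSeparated f]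
    (Y Z : Set X) (hYc : IsClosed Y) (hYi : IsIrreducible Y) (hZc : IsClosed Z) (hZi : IsIrreducible Z)
    (hWI : topologicalKrullDim {p : ↥(pullback f f) | pullback.fst f f p ∈ Y ∧ pullback.snd f f p ∈ Z ∧ p ∉ Set.range (pullback.diagonal f)} + topologicalKrullDim S ≤ topologicalKrullDim Y + topologicalKrullDim Z)
    (hYS : topologicalKrullDim Y < topologicalKrullDim S) (hZS : topologicalKrullDim Z < topologicalKrullDim S)
    (hYZ : ¬ Y ⊆ Z) :
    ¬ (f.base '' Y ⊆ closure (f.base '' Y ∩ f.base '' Z)) ∧ ¬ (f.base '' Y ⊆ f.base '' Z) := by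
  have : IsLocallyNoetherian S := LocallyOfFiniteType.isLocallyNoetherian q
  have : IsLocallyNoetherian X := LocallyOfFiniteType.isLocallyNoetherian f
  have : IsNoetherian S := {}
  have : IsNoetherian X := {}
  obtain ⟨η, hη⟩ := QuasiSober.sober hYi hYc
  have hηZ : η ∉ Z := fun h => hYZ fun y hy => (hη.specializes hy).mem_closed hZc h
  have main : f.base η ∉ closure (f.base '' Y ∩ f.base '' Z) := by
    intro hcl
    have hpc : Groth.Limits.PC (f '' Y ∩ f '' Z) :=
      (Groth.CharCycDim.pc_image f hYc.isLocallyClosed).inter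
        (Groth.CharCycDim.pc_image f hZc.isLocallyClosed)
    obtain ⟨s, ⟨⟨y, hy, rfl⟩, ⟨z, hz, hzy⟩⟩, hs⟩ := Groth.Limits.exists_specializes_of_mem_closure hpc hcl
    have he : f y = f η := (hs.antisymm ((hη.specializes hy).map f.continuous)).eq
    obtain ⟨p, hp1, hp2⟩ := Scheme.Pullback.exists_preimage_pullback η z (he ▸ hzy).symm
    obtain ⟨x, rfl⟩ := Groth.CharCycDim.no_partner q f hYc hYi hZc hWI hZS hη p hp1 (hp2 ▸ hz)
    rw [← Scheme.Hom.comp_apply, pullback.diagonal_fst] at hp1
    rw [← Scheme.Hom.comp_apply, pullback.diagonal_snd] at hp2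
    exact hηZ (hp1.symm.trans hp2 ▸ hz)
  exact ⟨fun h => main (h ⟨η, hη.mem, rfl⟩), fun h => main (subset_closure ⟨⟨η, hη.mem, rfl⟩, h ⟨η, hη.mem, rfl⟩⟩)⟩

end Groth.Agent.S14484
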