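import Groth.Statements.S14485
import Groth.Agent.CharCyc.WellIntersect
import Groth.Agent.FibreDim.BaseChange

set_option autoImplicit false
universe u
open CategoryTheory CategoryTheory.Limits AlgebraicGeometry
open CharCyc

namespace Groth.Agent.S14485

namespace Aux

open Groth.Variety2.Dim Groth.CharCycDim TopologicalSpace Topology

variable {k : Type u} [Field k] {T T' : Scheme.{u}}
  (t : T ⟶ Spec (CommRingCat.of k)) [LocallyOfFiniteType t] (π : T' ⟶ T) [LocallyOfFiniteType π]

include t in
theorem dim_preimage (d : ℕ) (hd : ∀ y : T, topologicalKrullDim (π.fiber y) = d) {E : Set T}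
    (hE : IsLocallyClosed E) :
    topologicalKrullDim (π ⁻¹' E : Set T') = topologicalKrullDim E + d := by
  rw [dim_locallyClosed (π ≫ t) (hE.preimage π.continuous), dim_locallyClosed t hE]
  rcases E.eq_empty_or_nonempty with rfl | ⟨y₀, hy₀⟩
  · simp
  have hle : ∀ x : T', Order.height x ≤ Order.height (π x) + d := by
    intro x
    obtain ⟨j, hj, hx⟩ := exists_fibre_dim_add (π ≫ t) t π rfl x
    rw [hd] at hj
    rw [hx]
    exact add_le_add le_rfl (WithBot.coe_le_coe.1 hj)
  apply le_antisymm
  · exact iSup₂_le fun x hx => le_trans (WithBot.coe_le_coe.2 (hle x)) (le_trans (WithBot.coe_add _ _).le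
      (add_le_add (le_iSup₂_of_le (π x) hx le_rfl) le_rfl))
  · generalize hB : (⨆ x ∈ (π ⁻¹' E : Set T'), ((Order.height x : ℕ∞) : WithBot ℕ∞)) = B
    have hB' : ∀ y ∈ E, ((Order.height y : ℕ∞) : WithBot ℕ∞) + d ≤ B := by
      intro y hy
      obtain ⟨x, rfl, hx⟩ := exists_point_of_le_dim (π ≫ t) t π rfl (j := d) (hd y).ge
      exact hB ▸ le_iSup₂_of_le x hy ((WithBot.coe_add _ _).ge.trans (WithBot.coe_le_coe.2 hx))
    obtain ⟨m, hm⟩ := exists_height_eq t y₀
    induction B with
    | bot => exact absurd (hB' y₀ hy₀) (by rw [hm]; exact not_le.2 (WithBot.bot_lt_coe _))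
    | coe B =>
      induction B with
      | top => exact le_top
      | coe B => exact (add_le_iff_forall E _ d B).2 hB'

theorem cancel (A S Y Z : WithBot ℕ∞) (d : ℕ) :
    A + S ≤ Y + Z ↔ (A + d) + (S + d) ≤ (Y + d) + (Z + d) := by
  induction A with
  | bot => simp
  | coe A =>
  induction S with
  | bot => simp
  | coe S =>
  induction Y with
  | bot => simp [← WithBot.coe_add]
  | coe Y =>
  induction Z with
  | bot => simp [← WithBot.coe_add]
  | coe Z =>
    change _ ↔ (A : WithBot ℕ∞) + ((d : ℕ∞) : WithBot ℕ∞) + (S + ((d : ℕ∞) : WithBot ℕ∞)) ≤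
      Y + ((d : ℕ∞) : WithBot ℕ∞) + (Z + ((d : ℕ∞) : WithBot ℕ∞))
    simp only [← WithBot.coe_add, WithBot.coe_le_coe]
    rw [add_add_add_comm A, add_add_add_comm Y,
      ((ENat.addLECancellable_natCast d).add (ENat.addLECancellable_natCast d)).add_le_add_iff_right]

end Aux

/-- Let k be a field and let f : X → S be a morphism between separated k-schemes of finite type. Two
closed subsets Y, Z of X are said to well intersect with respect to f when dim(Y ×_S Z ∖ Y ×_X Z) ≤
dim Y + dim Z − dim S; here Y ×_S Z ∖ Y ×_X Z is taken as the subspace of X ×_S X of points whose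
two projections lie in Y and in Z and which are not in the image of the diagonal, and the inequality
is written additively as dim(Y ×_S Z ∖ Y ×_X Z) + dim S ≤ dim Y + dim Z (topological Krull
dimensions, the empty space having dimension ⊥). Let Y, Z ⊆ X be closed subsets, and let g : S' → S
be faithfully flat with every fibre of dimension d (relative constant dimension d), where S' is
again a separated k-scheme of finite type. Write f' : X' = X ×_S S' → S' for the base change and Y',
Z' ⊆ X' for the preimages of Y, Z. Then well-intersection of Y, Z with respect to f is equivalent to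
well-intersection of Y', Z' with respect to f'. -/
theorem result (k : Type u) [Field k] (X S S' : Scheme.{u})
    (q : S ⟶ Spec (CommRingCat.of k)) (f : X ⟶ S) (g : S' ⟶ S)
    [LocallyOfFiniteType q] [CompactSpace S] [IsSeparated q] [LocallyOfFiniteType f] [CompactSpace X] [IsSeparated f]
    [LocallyOfFiniteType g] [CompactSpace S'] [IsSeparated g] [Flat g] [Surjective g]
    (d : ℕ) (hd : ∀ s : S, topologicalKrullDim (g.fiber s) = d)
    (Y Z : Set X) (hYc : IsClosed Y) (hZc : IsClosed Z) :
    (topologicalKrullDim {p : ↥(pullback f f) | pullback.fst f f p ∈ Y ∧ pullback.snd f f p ∈ Z ∧ p ∉ Set.range (pullback.diagonal f)} + topologicalKrullDim S ≤ topologicalKrullDim Y + topologicalKrullDim Z) ↔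
      (topologicalKrullDim {p : ↥(pullback (pullback.snd f g) (pullback.snd f g)) | pullback.fst (pullback.snd f g) (pullback.snd f g) p ∈ ((pullback.fst f g) ⁻¹' Y) ∧ pullback.snd (pullback.snd f g) (pullback.snd f g) p ∈ ((pullback.fst f g) ⁻¹' Z) ∧ p ∉ Set.range (pullback.diagonal (pullback.snd f g))} + topologicalKrullDim S' ≤ topologicalKrullDim ((pullback.fst f g) ⁻¹' Y) + topologicalKrullDim ((pullback.fst f g) ⁻¹' Z)) := by
  let p : pullback f g ⟶ X := pullback.fst f g
  let f' : pullback f g ⟶ S' := pullback.snd f g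
  let T := pullback f f
  let T' := pullback f' f'
  let Φ : T' ⟶ T := pullback.map f' f' f f p p g pullback.condition.symm pullback.condition.symm
  have hΦ1 : Φ ≫ pullback.fst f f = pullback.fst f' f' ≫ p := pullback.lift_fst ..
  have hΦ2 : Φ ≫ pullback.snd f f = pullback.snd f' f' ≫ p := pullback.lift_snd ..
  have hX : IsPullback p f' f g := IsPullback.of_hasPullback f g
  have houter : IsPullback (pullback.snd f' f' ≫ p) (pullback.fst f' f') f (f' ≫ g) :=
    (IsPullback.of_hasPullback f' f').flip.paste_horiz hX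
  rw [show f' ≫ g = p ≫ f from hX.w.symm, ← hΦ2] at houter
  have h1 : IsPullback Φ (pullback.fst f' f') (pullback.fst f f) p :=
    houter.of_right hΦ1 (IsPullback.of_hasPullback f f).flip
  have h2 : IsPullback Φ (pullback.fst f' f' ≫ f') (pullback.fst f f ≫ f) g := h1.paste_vert hX
  have h3 : IsPullback p (pullback.diagonal f') (pullback.diagonal f) Φ := by
    refine IsPullback.of_bot ?_ ?_ h1
    · rw [pullback.diagonal_fst, pullback.diagonal_fst]
      exact IsPullback.of_vert_isIso ⟨by simp⟩
    · apply pullback.hom_ext <;> simp [hΦ1, hΦ2]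
  have hΔ : ∀ x : T', x ∈ Set.range (pullback.diagonal f') ↔ Φ x ∈ Set.range (pullback.diagonal f) := by
    intro x
    constructor
    · rintro ⟨y, rfl⟩
      exact ⟨p y, by rw [← Scheme.Hom.comp_apply, ← Scheme.Hom.comp_apply, h3.w]⟩
    · rintro ⟨y, hy⟩
      obtain ⟨o, -, ho⟩ := Scheme.exists_preimage_of_isPullback h3 y x hy
      exact ⟨o, ho⟩
  let hX' : IsPullback f' p g f := hX.flip
  have hdp : ∀ x : X, topologicalKrullDim (p.fiber x) = d := fun x =>
    (Groth.FibreDim.dim_fiber_baseChange g f p f' hX' x).trans (hd _)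
  have hdΦ : ∀ x : T, topologicalKrullDim (Φ.fiber x) = d := fun x =>
    (Groth.FibreDim.dim_fiber_baseChange g (pullback.fst f f ≫ f) Φ _ h2.flip x).trans (hd _)
  have : LocallyOfFiniteType Φ := MorphismProperty.of_isPullback h2.flip inferInstance
  have hset : {x : T' | pullback.fst f' f' x ∈ p ⁻¹' Y ∧ pullback.snd f' f' x ∈ p ⁻¹' Z ∧
      x ∉ Set.range (pullback.diagonal f')} = Φ ⁻¹' {x : T | pullback.fst f f x ∈ Y ∧
      pullback.snd f f x ∈ Z ∧ x ∉ Set.range (pullback.diagonal f)} := by
    ext x
    simp only [Set.mem_setOf_eq, Set.mem_preimage, hΔ]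
    rw [← Scheme.Hom.comp_apply, ← Scheme.Hom.comp_apply, ← hΦ1, ← hΦ2]
    rfl
  have hS' : topologicalKrullDim S' = topologicalKrullDim S + d := by
    have h := Aux.dim_preimage q g d hd (E := Set.univ) isClosed_univ.isLocallyClosed
    rw [Set.preimage_univ] at h
    rwa [(Homeomorph.Set.univ _).isHomeomorph.topologicalKrullDim_eq,
      (Homeomorph.Set.univ _).isHomeomorph.topologicalKrullDim_eq] at h
  change _ ↔ topologicalKrullDim {x : T' | pullback.fst f' f' x ∈ p ⁻¹' Y ∧
      pullback.snd f' f' x ∈ p ⁻¹' Z ∧ x ∉ Set.range (pullback.diagonal f')} + topologicalKrullDim S' ≤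
    topologicalKrullDim (p ⁻¹' Y : Set _) + topologicalKrullDim (p ⁻¹' Z : Set _)
  rw [hset, hS', Aux.dim_preimage (f ≫ q) p d hdp hYc.isLocallyClosed,
    Aux.dim_preimage (f ≫ q) p d hdp hZc.isLocallyClosed,
    Aux.dim_preimage (pullback.fst f f ≫ f ≫ q) Φ d hdΦ
      (Groth.CharCycDim.isLocallyClosed_offDiag f hYc hZc)]
  exact Aux.cancel _ _ _ _ d

end Groth.Agent.S14485
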