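import Groth.Statements.S14486
import Groth.Agent.SurfRR.Numerics
import Groth.Agent.CurveBridge.RegularSmooth
import Groth.Agent.CurveBridge.Main
-- import your own Groth.Agent.* helpers here

set_option autoImplicit false
universe u
open CategoryTheory CategoryTheory.Limits AlgebraicGeometry
open Surf

namespace Groth.Agent.S14486

/-- Let k be an algebraically closed field and X a projective K3 surface over k: an integral scheme of
dimension two with all local rings regular, admitting a closed immersion into some P^n_k over k,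
whose structure sheaf O_X is a second exterior power of Ω_{X/k} (the canonical sheaf is trivial) and
with H^1(X, O_X) = 0. Let C be a nonsingular curve of genus g on X: an integral closed subscheme of
dimension one with all local rings regular, with ideal sheaf I ⊆ O_X and g = dim_k H^1(C, O_C); let
M be an inverse of I for the tensor product (M = O_X(C)). Then C² = 2g - 2 and h^0(X, O_X(C)) = g +
1. Writing (L·L') for the intersection number χ(O_X) - χ(L) - χ(L') + χ(L ⊗ L') of two invertible
modules (packaged as FGA.intNum), C² = (I·I), so the assertion reads (I·I) = 2g - 2 and dim_k H^0(X,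
M) = g + 1. (A K3 surface is only required to be proper; this row assumes the projective embedding.) -/
theorem result (k : Type u) [Field k] [IsAlgClosed k] (X : Scheme.{u})
    [X.Over (Spec (CommRingCat.of k))] [IsIntegral X] (hdim : topologicalKrullDim X = 2)
    (hreg : ∀ x : X, IsRegularLocalRing (X.presheaf.stalk x))
    (hproj : ∃ (n : ℕ) (ι : X ⟶ CohB1.ProjSpace n k), IsClosedImmersion ι ∧
      ι ≫ CohB1.ProjSpace.toSpec n k = (X ↘ (Spec (CommRingCat.of k))))
    (hK : ExtPow.IsExtPow 2 (Omega.sheaf (X ↘ (Spec (CommRingCat.of k)))) (Coh.structureModule X))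
    (hH1 : Subsingleton (Coh.HH X (Coh.structureModule X) 1))
    (C : Scheme.{u}) (i : C ⟶ X) [IsClosedImmersion i] [IsIntegral C] (hC : topologicalKrullDim C = 1)
    (hCreg : ∀ c : C, IsRegularLocalRing (C.presheaf.stalk c))
    (M : X.Modules) (hM : ClSub.IsInverseOf M (ClSub.idealMod i.ker)) :
    letI : C.Over (Spec (CommRingCat.of k)) := ⟨i ≫ (X ↘ (Spec (CommRingCat.of k)))⟩
    FGA.intNum k X 2 ![ClSub.idealMod i.ker, ClSub.idealMod i.ker] (Coh.structureModule X) =
        2 * (Curv2.genus k C : ℤ) - 2 ∧
      Module.finrank k (Coh.HH X M 0) = Curv2.genus k C + 1 := by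
  letI : C.Over (Spec (CommRingCat.of k)) := ⟨i ≫ (X ↘ (Spec (CommRingCat.of k)))⟩
  obtain ⟨N, ι, hc, hι⟩ := hproj
  haveI := Groth.SurfRR.isProper_of_embedding k hι
  haveI : IsProper (C ↘ Spec (CommRingCat.of k)) :=
    inferInstanceAs (IsProper (i ≫ (X ↘ Spec (CommRingCat.of k))))
  haveI := Groth.CurveBridge.smooth_of_regular k X hreg
  haveI : IsNoetherian X := Groth.Inter.isNoetherian k
  obtain ⟨hOi, hDD⟩ := Groth.SurfRR.dualDim_topForms k hdim ι hι hK
  have hD2 := Groth.SurfRR.dualEuler_of_dualDim k hdim.le hDD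
  have hcar := Groth.SurfRR.isEffCartier_ker k hdim hreg i hC
  have hI := Groth.PicAux.isInvertible_idealMod hcar
  have hM' := Groth.PicAux.isInvertible_of_isInverseOf hI (Groth.PicAux.isInverseOf_symm hM)
  obtain ⟨A, hA⟩ : ∃ A : X.Modules, CohB1.IsAmple A := Groth.SurfRR.exists_ample k hdim hreg
  -- the genus
  have hg : Curv2.euler k X (ClSub.quotMod i.ker) = 1 - Curv2.genus k C := by
    rw [Groth.ZetaAn.ProdCurves.euler_quotMod k i rfl,
      Groth.CurveBridge.euler_structure ⟨hC, hCreg⟩ (Groth.CurveBridge.isFunctionField hC)]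
  have hone : ∀ B : X.Modules, Groth.Inter.pair k B (Coh.structureModule X) = 0 := fun B => by
    rw [Groth.Inter.pair_comm k, Groth.Inter.pair_one k]
  have hadj := Groth.SurfRR.adjunction_quot k hdim hOi hD2 hI
  rw [hone, sub_zero, hg] at hadj
  refine ⟨by rw [Groth.Inter.intNum_eq_pair k hdim.le]; omega, ?_⟩
  -- dimensions
  have hneg : Groth.Inter.pair k (ClSub.idealMod i.ker) A < 0 :=
    Groth.SurfNum.pair_neg_of_ne_top k hdim hcar (fun h => by
      obtain ⟨z⟩ : Nonempty C := inferInstance
      have hz : i z ∈ (i.ker.support : Set X) := by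
        rw [Scheme.Hom.support_ker]; exact subset_closure ⟨z, rfl⟩
      rw [h] at hz
      simp at hz) hA
  haveI hI0 := Groth.SurfRR.subsingleton_h0_of_pair_neg k hdim hI hA hneg
  have e0 : ∀ B : X.Modules, CohB1.tensorMod (Coh.structureModule X) B ≅ B := fun B =>
    (Groth.Inter.tensor_one B).some
  have hd : ∀ {B B' : X.Modules}, PicF.IsInvertible B → ClSub.IsInverseOf B B' → ∀ n, n ≤ 2 →
      Module.finrank k (Coh.HH X B' n) = Module.finrank k (Coh.HH X B (2 - n)) := fun hB hBB' n hn => by
    rw [← hDD _ _ hB hBB' n hn, Groth.EulerDeg.finrank_congr (k := k) (e0 _) n]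
  have hO2 : Module.finrank k (Coh.HH X (Coh.structureModule X) 2) = 1 := by
    haveI := Groth.EulerDeg.finite_HH k X (Groth.QCohMod.isCoh_unit (X := X)) 0
    have := hd (Groth.EulerDeg.isInvertible_structureModule X) (Groth.Inter.tensor_one _) 2 le_rfl
    rw [this]
    refine le_antisymm (Groth.Inter.finrank_h0_structure_le k) ?_
    haveI : Nontrivial (Coh.HH X (Coh.structureModule X) 0) := Groth.SurfRR.nontrivial_h0_structure k
    exact Module.finrank_pos
  have hO0 : Module.finrank k (Coh.HH X (Coh.structureModule X) 0) = 1 := by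
    have := hd (Groth.EulerDeg.isInvertible_structureModule X) (Groth.Inter.tensor_one _) 0 (by omega)
    exact this.trans hO2
  have hI1 : Subsingleton (Coh.HH X (ClSub.idealMod i.ker) 1) :=
    Groth.SurfRR.subsingleton_h1_ideal k hI hH1 hI0 hO0 (by
      rw [← Scheme.IdealSheafData.ker_subschemeι i.ker]
      have hIc : Groth.SurfNum.IsCurve i.ker := Groth.SurfRR.isCurve_ker i hC
      rw [Scheme.IdealSheafData.ker_subschemeι i.ker]
      exact Groth.SurfRR.finrank_h0_curve k hIc)
  have hRR := Groth.SurfRR.riemannRoch k hdim.le hOi hD2 hM'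
  rw [Groth.Inter.intNum_eq_pair k hdim.le, Groth.Inter.intNum_eq_pair k hdim.le, hone, sub_zero,
    Groth.Inter.pair_inverse_inverse k hdim.le hI (Groth.PicAux.isInverseOf_symm hM) hI
      (Groth.PicAux.isInverseOf_symm hM),
    Groth.Inter.euler_eq_three k hdim.le, Groth.Inter.euler_eq_three k hdim.le, hO0, hO2,
    Module.finrank_zero_of_subsingleton (M := Coh.HH X (Coh.structureModule X) 1),
    hd hI (Groth.PicAux.isInverseOf_symm hM) 1 (by omega),
    hd hI (Groth.PicAux.isInverseOf_symm hM) 2 le_rfl,
    Module.finrank_zero_of_subsingleton (M := Coh.HH X (ClSub.idealMod i.ker) 1),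
    Module.finrank_zero_of_subsingleton (M := Coh.HH X (ClSub.idealMod i.ker) 0)] at hRR
  omega

end Groth.Agent.S14486
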