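import Groth.Statements.S1449
import Groth.Agent.FlatMor2.Weighting.FibreDegree

set_option autoImplicit false
universe u
open FlatMor

namespace Groth.Agent.S1449

open AlgebraicGeometry CategoryTheory Limits in
/-- Consider a separated, flat, locally quasi-finite morphism f : X → S which is locally of finite
presentation. Then there are opens S = U_0 ⊇ U_1 ⊇ U_2 ⊇ ... of S with the property that a morphism
from the spectrum of a field to S lands in U_d exactly when the base change of X to that field has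
rank (of its ring of global functions over the field) at least d. -/
theorem result {X S : Scheme.{u}} (f : X ⟶ S) [Flat f] [LocallyOfFinitePresentation f] [IsSeparated f] [LocallyQuasiFinite f] :
    ∃ U : ℕ → S.Opens, Antitone U ∧ U 0 = ⊤ ∧ ∀ (K : Type u) [Field K] (g : Spec (CommRingCat.of K) ⟶ S) (d : ℕ),
      Set.range ⇑g ⊆ (U d : Set ↑S) ↔ (d : Cardinal.{u}) ≤ (letI := ((Scheme.ΓSpecIso (CommRingCat.of K)).inv ≫ (pullback.snd f g).appTop).hom.toAlgebra
        Module.rank K (Γ(pullback f g, ⊤) : Type u)) := by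
  refine ⟨Groth.FlatMor2.degOpen f, fun a b hab => iSup_mono fun W s (hs : b ≤ _) => hab.trans hs, ?_,
    fun K _ g d => ?_⟩
  · refine eq_top_iff.mpr fun s _ => TopologicalSpace.Opens.mem_iSup.mpr ?_
    obtain ⟨W, -, hW⟩ := Groth.FlatMor2.exists_open_finite_fibres f Set.finite_empty
    exact ⟨⟨W, hW⟩, Nat.zero_le _⟩
  · rw [Groth.FlatMor2.range_subset_iff, Groth.FlatMor2.le_rank_iff f g d]
    exact ⟨fun h => let ⟨W, hW⟩ := TopologicalSpace.Opens.mem_iSup.mp h; ⟨W.1, W.2, hW⟩,
      fun ⟨W, hW, hd⟩ => TopologicalSpace.Opens.mem_iSup.mpr ⟨⟨W, hW⟩, hd⟩⟩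

end Groth.Agent.S1449
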