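import Groth.Statements.S14496
import Groth.Agent.Misc7.IndCofiniteApps

set_option autoImplicit false
universe v
open IndCof

namespace Groth.Agent.S14496

open CategoryTheory CategoryTheory.Limits in
/-- Let C be a small abelian category all of whose objects are Artinian and killed by some power of a
prime p, and A an ind-object of C of cofinite type. Let N be such that p^n A = p^N A for all n ≥ N,
so that the divisible part A_div = ⋂ p^n A equals p^N A. Then A_div is of cofinite type and
divisible (multiplication by p on it is an epimorphism; integers prime to p act invertibly on every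
ind-object here, so this is divisibility by all positive integers); it is the largest divisible
sub-object of A; and A / A_div is the largest quotient of A lying in C: every epimorphism from A
onto an object isomorphic to an object of C vanishes on A_div. (The row takes the stabilization
index N as a hypothesis instead of forming the intersection; that A / A_div itself lies in C is the
statement about A / p^N A and is not repeated here.) -/
theorem result {C : Type v} [SmallCategory C] [Abelian C]
    (hart : ∀ X : C, IsArtinianObject X) (p : ℕ) (hp : p.Prime)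
    (htor : ∀ X : C, ∃ n : ℕ, (p ^ n) • 𝟙 X = 0)
    (A : Ind C) (hA : ∀ n : ℕ, (Ind.yoneda (C := C)).essImage (kernel ((p ^ n) • 𝟙 A))) (N : ℕ)
    (hN : ∀ n : ℕ, N ≤ n → imageSubobject ((p ^ n) • 𝟙 A) = imageSubobject ((p ^ N) • 𝟙 A)) :
    (∀ n : ℕ, (Ind.yoneda (C := C)).essImage
        (kernel ((p ^ n) • 𝟙 ((imageSubobject ((p ^ N) • 𝟙 A) : Subobject A) : Ind C)))) ∧
      Epi (p • 𝟙 ((imageSubobject ((p ^ N) • 𝟙 A) : Subobject A) : Ind C)) ∧
      (∀ D : Subobject A, Epi (p • 𝟙 (D : Ind C)) → D ≤ imageSubobject ((p ^ N) • 𝟙 A)) ∧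
      (∀ (Q : Ind C) (q : A ⟶ Q), Epi q → (Ind.yoneda (C := C)).essImage Q →
        (imageSubobject ((p ^ N) • 𝟙 A)).arrow ≫ q = 0) := by
  have htor' : ∀ X : C, ∃ n : ℕ, 0 < n ∧ n • 𝟙 X = 0 := fun X => by
    obtain ⟨n, h⟩ := htor X
    exact ⟨p ^ n, pow_pos hp.pos n, h⟩
  refine ⟨fun n => Groth.Misc7.IndCofinite.rep_tors_image hart htor' A (pow_pos hp.pos N)
      (fun m => by rw [← pow_mul]; exact hA _) _ (hA n),
    Groth.Misc7.NsmulImage.epi_on_image _ p (by rw [← pow_succ]; exact (hN _ (Nat.le_succ N)).ge),
    fun D hD => Groth.Misc7.NsmulImage.le_image_of_divisible D _ (Groth.Misc7.IndCofinite.epi_nsmul_pow hD N),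
    fun Q q _ hQ => ?_⟩
  obtain ⟨a, ⟨e⟩⟩ := hQ
  obtain ⟨k, hk⟩ := htor a
  have h0 : (p ^ k) • q = 0 := by
    have h1 := Groth.Misc7.IndCofinite.yoneda_killed hk e.hom
    have h2 : q = (q ≫ e.inv) ≫ e.hom := by simp
    rw [h2, ← Preadditive.comp_nsmul, h1, comp_zero]
  rw [← hN (N + k) (Nat.le_add_right N k), ← cancel_epi (factorThruImageSubobject _), comp_zero,
    imageSubobject_arrow_comp_assoc, Preadditive.nsmul_comp, Category.id_comp, pow_add, mul_nsmul']
  simp [h0]

end Groth.Agent.S14496
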