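import Groth.Statements.S14498
import Mathlib

set_option autoImplicit false
universe v u
open AbDiag

namespace Groth.Agent.S14498

open CategoryTheory CategoryTheory.Limits in
/-- In an abelian category, let 0 → F → W → E' → 0 (maps a, b) and 0 → E → W → F' → G → G' → 0 (maps c,
d, e, g) be exact sequences such that the composite F → W → F' is a monomorphism. Then the composite
E → W → E' is a monomorphism, and there is a short exact sequence 0 → Coker(E → E') → Coker(F → F')
→ Ker(G → G') → 0 whose first map is induced by d (through the quotient map b) and whose second map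
is induced by e. -/
theorem result
    {V : Type u} [Category.{v} V] [Abelian V] {F W E' E F' G G' : V}
    (a : F ⟶ W) (b : W ⟶ E') (c : E ⟶ W) (d : W ⟶ F') (e : F' ⟶ G) (g : G ⟶ G')
    [Mono a] [Epi b] (wab : a ≫ b = 0) (hab : (ShortComplex.mk a b wab).Exact)
    [Mono c] (wcd : c ≫ d = 0) (hcd : (ShortComplex.mk c d wcd).Exact)
    (wde : d ≫ e = 0) (hde : (ShortComplex.mk d e wde).Exact)
    (weg : e ≫ g = 0) (heg : (ShortComplex.mk e g weg).Exact) [Epi g]
    (hmono : Mono (a ≫ d)) :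
    Mono (c ≫ b) ∧
      ∃ (φ : cokernel (c ≫ b) ⟶ cokernel (a ≫ d)) (ψ : cokernel (a ≫ d) ⟶ kernel g)
        (w : φ ≫ ψ = 0),
        b ≫ cokernel.π (c ≫ b) ≫ φ = d ≫ cokernel.π (a ≫ d) ∧
        cokernel.π (a ≫ d) ≫ ψ ≫ kernel.ι g = e ∧
        (ShortComplex.mk φ ψ w).ShortExact := by
  have : Mono (a ≫ d) := hmono
  refine ⟨?_, ?_⟩
  · refine Preadditive.mono_of_cancel_zero _ fun {T} x hx => ?_
    have hx' : (x ≫ c) ≫ b = 0 := by rw [Category.assoc, hx]
    obtain ⟨y, hy⟩ : ∃ y : T ⟶ F, y ≫ a = x ≫ c := ⟨hab.lift _ hx', hab.lift_f _ hx'⟩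
    have hy0 : y = 0 := by
      rw [← cancel_mono (a ≫ d), zero_comp, reassoc_of% hy, wcd, comp_zero]
    rw [← cancel_mono c, zero_comp, ← hy, hy0, zero_comp]
  · have hd : a ≫ d ≫ cokernel.π (a ≫ d) = 0 := by rw [← Category.assoc, cokernel.condition]
    have hφ₀ : b ≫ hab.desc _ hd = d ≫ cokernel.π (a ≫ d) := hab.g_desc _ hd
    let φ : cokernel (c ≫ b) ⟶ cokernel (a ≫ d) := cokernel.desc _ (hab.desc _ hd)
      (by rw [Category.assoc, hφ₀, reassoc_of% wcd, zero_comp])
    let ψ : cokernel (a ≫ d) ⟶ kernel g := kernel.lift _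
      (cokernel.desc _ e (by rw [Category.assoc, wde, comp_zero]))
      (by rw [← cancel_epi (cokernel.π (a ≫ d))]; simp [weg])
    have hφ : b ≫ cokernel.π (c ≫ b) ≫ φ = d ≫ cokernel.π (a ≫ d) := by
      simp only [φ, cokernel.π_desc, hφ₀]
    have hψ : cokernel.π (a ≫ d) ≫ ψ ≫ kernel.ι g = e := by simp [ψ]
    have hψ' : cokernel.π (a ≫ d) ≫ ψ = kernel.lift g e weg := by
      rw [← cancel_mono (kernel.ι g), Category.assoc, hψ, kernel.lift_ι]
    have w : φ ≫ ψ = 0 := by
      rw [← cancel_epi (cokernel.π (c ≫ b)), ← cancel_epi b, comp_zero, comp_zero,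
        reassoc_of% hφ, hψ', ← cancel_mono (kernel.ι g), Category.assoc, kernel.lift_ι, wde, zero_comp]
    refine ⟨φ, ψ, w, hφ, hψ, ?_⟩
    have hmφ : Mono φ := by
      refine Preadditive.mono_of_cancel_zero _ fun {A} x hx => ?_
      obtain ⟨A₁, p₁, _, z, hz⟩ := surjective_up_to_refinements_of_epi (b ≫ cokernel.π (c ≫ b)) x
      have hz0 : (z ≫ d) ≫ cokernel.π (a ≫ d) = 0 := by
        rw [Category.assoc, ← hφ, ← Category.assoc, ← Category.assoc, Category.assoc z b, ← hz,
          Category.assoc, hx, comp_zero]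
      obtain ⟨A₂, p₂, _, t', ht⟩ := (ShortComplex.exact_cokernel (a ≫ d)).exact_up_to_refinements
        (z ≫ d) hz0
      dsimp at t' ht
      have h3 : (p₂ ≫ z - t' ≫ a) ≫ d = 0 := by
        rw [Preadditive.sub_comp, Category.assoc, ht, Category.assoc, sub_self]
      obtain ⟨A₃, p₃, _, s, hs⟩ := hcd.exact_up_to_refinements _ h3
      dsimp at s hs
      have key : p₃ ≫ p₂ ≫ z ≫ b ≫ cokernel.π (c ≫ b) = 0 := by
        have := congrArg (fun m => m ≫ b ≫ cokernel.π (c ≫ b)) hs
        simp only [Preadditive.comp_sub, Preadditive.sub_comp, Category.assoc,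
          reassoc_of% wab, zero_comp, comp_zero, sub_zero] at this
        rw [this, ← Category.assoc c b, cokernel.condition, comp_zero]
      rw [← hz] at key
      rw [← cancel_epi p₁, ← cancel_epi p₂, ← cancel_epi p₃, key]
      simp
    have heψ : Epi ψ := by
      rw [epi_iff_surjective_up_to_refinements]
      intro A x
      obtain ⟨A₁, p₁, hp₁, y, hy⟩ := heg.exact_up_to_refinements (x ≫ kernel.ι g) (by simp)
      dsimp at y hy
      refine ⟨A₁, p₁, hp₁, y ≫ cokernel.π (a ≫ d), ?_⟩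
      rw [← cancel_mono (kernel.ι g)]
      simp only [Category.assoc, hψ, hy]
    refine ShortComplex.ShortExact.mk' ?_ hmφ heψ
    rw [ShortComplex.exact_iff_exact_up_to_refinements]
    intro A x hx
    dsimp at x hx ⊢
    obtain ⟨A₁, p₁, hp₁, y, hy⟩ := surjective_up_to_refinements_of_epi (cokernel.π (a ≫ d)) x
    have hye : y ≫ e = 0 := by
      rw [← hψ, ← reassoc_of% hy, reassoc_of% hx]
      simp
    obtain ⟨A₂, p₂, hp₂, z, hz⟩ := hde.exact_up_to_refinements y hye
    dsimp at z hz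
    refine ⟨A₂, p₂ ≫ p₁, inferInstance, z ≫ b ≫ cokernel.π (c ≫ b), ?_⟩
    simp only [Category.assoc, hφ, hy, reassoc_of% hz]

end Groth.Agent.S14498
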