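import Groth.Statements.S14504
import Groth.Agent.Surfaces.Schubert

set_option autoImplicit false
universe u
open IntTh

namespace Groth.Agent.S14504

open Module in
lemma finrank_inf_add_rank {K : Type u} [Field K] {n d : ℕ} (V : ℕ → Submodule K (Fin n → K))
    (hV : ∀ (j : ℕ) (v : Fin n → K), v ∈ V j ↔ ∀ l : Fin n, j ≤ (l : ℕ) → v l = 0)
    (A : Matrix (Fin d) (Fin n) K) (hA : LinearIndependent K (fun i : Fin d => A i)) (D : ℕ) :
    finrank K ↥(Submodule.span K (Set.range fun i : Fin d => A i) ⊓ V D) +
      finrank K ↥(Submodule.span K (A.col '' {l : Fin n | D ≤ (l : ℕ)})) = d := by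
  classical
  let B : Matrix (Fin d) {l : Fin n // D ≤ (l : ℕ)} K := A.submatrix id Subtype.val
  let g : (Fin d → K) →ₗ[K] (Fin n → K) := A.vecMulLinear
  have hg : Function.Injective g := Matrix.vecMul_injective_iff.2 hA
  have hrange : Submodule.span K (Set.range fun i : Fin d => A i) = LinearMap.range g :=
    (range_vecMulLinear A).symm
  have hker : Submodule.comap g (V D) = LinearMap.ker (B.transpose.mulVecLin) := by
    ext c
    rw [Submodule.mem_comap, hV, LinearMap.mem_ker, funext_iff]
    simp [g, B, Matrix.vecMul, Matrix.mulVec, dotProduct, mul_comm]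
  have h1 : finrank K ↥(Submodule.span K (Set.range fun i : Fin d => A i) ⊓ V D) =
      finrank K ↥(LinearMap.ker (B.transpose.mulVecLin)) := by
    rw [hrange, ← Submodule.map_comap_eq, ← hker]
    exact (Submodule.equivMapOfInjective g hg _).finrank_eq.symm
  have h2 : finrank K ↥(Submodule.span K (A.col '' {l : Fin n | D ≤ (l : ℕ)})) =
      finrank K ↥(LinearMap.range (B.transpose.mulVecLin)) := by
    have : B.transpose.rank = finrank K ↥(Submodule.span K (Set.range B.col)) := by
      rw [Matrix.rank_transpose, Matrix.rank_eq_finrank_span_cols]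
    refine Eq.trans ?_ this.symm
    have e : A.col '' {l : Fin n | D ≤ (l : ℕ)} = Set.range B.col := by
      rw [Set.image_eq_range]; rfl
    rw [e]
  have h3 := B.transpose.mulVecLin.finrank_range_add_finrank_ker
  rw [Module.finrank_fin_fun] at h3
  omega

/-- Let K be a field, d ≤ n, λ = (λ₁ ≥ ⋯ ≥ λ_d) a non-increasing sequence of natural numbers, d_i = n −
d + i − λ_i, and V_j ⊆ K^n the span of the first j standard basis vectors. For a d × n matrix A over
K with linearly independent rows spanning the subspace W: one has dim(W ∩ V_{d_i}) ≥ i for every i =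
1, …, d if and only if every d × d minor of A taken on strictly increasing columns j₁ < ⋯ < j_d
(1-indexed) with j_i > d_i for some i vanishes. (Indices are 0-based in the formal statement: row i
: Fin d stands for i + 1 and column l : Fin n for l + 1.) -/
theorem result (K : Type u) [Field K] (n d : ℕ)
    (hdn : d ≤ n) (V : ℕ → Submodule K (Fin n → K))
    (hV : ∀ (j : ℕ) (v : Fin n → K), v ∈ V j ↔ ∀ l : Fin n, j ≤ (l : ℕ) → v l = 0)
    (lam : Fin d → ℕ) (hlam : Antitone lam) (A : Matrix (Fin d) (Fin n) K)
    (hA : LinearIndependent K (fun i : Fin d => A i)) :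
    (∀ i : Fin d, (i : ℕ) + 1 ≤
        Module.finrank K ↥(Submodule.span K (Set.range fun i : Fin d => A i) ⊓
          V (n - d + ((i : ℕ) + 1) - lam i))) ↔
      ∀ J : Fin d → Fin n, StrictMono J →
        (∃ i : Fin d, n - d + ((i : ℕ) + 1) - lam i < (J i : ℕ) + 1) →
          (A.submatrix id J).det = 0 := by
  classical
  constructor
  · intro h J hJ ⟨i, hi⟩
    by_contra hdet
    set D := n - d + ((i : ℕ) + 1) - lam i
    have hli : LinearIndependent K (A.submatrix id J).col :=
      Matrix.linearIndependent_cols_of_det_ne_zero hdet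
    have key := finrank_inf_add_rank V hV A hA D
    have h1 : (i : ℕ) + 1 ≤ Module.finrank K
        ↥(Submodule.span K (Set.range fun i : Fin d => A i) ⊓ V D) := h i
    let e : Fin (d - (i : ℕ)) → Fin d := fun t => ⟨(i : ℕ) + t, by omega⟩
    have he : Function.Injective e := fun s t hst => Fin.ext (by
      have := congrArg Fin.val hst; simp [e] at this; omega)
    have h2 : d - (i : ℕ) ≤
        Module.finrank K ↥(Submodule.span K (A.col '' {l : Fin n | D ≤ (l : ℕ)})) := by
      have hli' : LinearIndependent K (fun t => A.col (J (e t))) := hli.comp e he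
      have := Groth.Surfaces.Schubert.card_le_finrank _ _ hli' fun t =>
        (show A.col (J (e t)) ∈ Submodule.span K (A.col '' {l : Fin n | D ≤ (l : ℕ)}) from
          Submodule.subset_span ⟨J (e t), by
            have h3 : (J i : ℕ) ≤ J (e t) := hJ.monotone (show (i : ℕ) ≤ (i : ℕ) + t by omega)
            show D ≤ _
            omega, rfl⟩)
      simpa using this
    omega
  · intro h i
    by_contra hlt
    set D := n - d + ((i : ℕ) + 1) - lam i
    have key := finrank_inf_add_rank V hV A hA D
    obtain ⟨b0, hb0S, -, hb0span, hb0li⟩ := exists_linearIndepOn_extension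
      (linearIndepOn_empty K A.col) (Set.empty_subset {l : Fin n | D ≤ (l : ℕ)})
    obtain ⟨b, -, hb0b, hbspan, hbli⟩ := exists_linearIndepOn_extension hb0li (Set.subset_univ b0)
    have hb0card : Module.finrank K ↥(Submodule.span K (A.col '' {l : Fin n | D ≤ (l : ℕ)})) ≤
        b0.toFinset.card :=
      calc _ ≤ Module.finrank K ↥(Submodule.span K (A.col '' b0)) :=
              Submodule.finrank_mono (Submodule.span_le.2 hb0span)
        _ = Fintype.card b0 := by
              rw [Set.image_eq_range]; exact finrank_span_eq_card hb0li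
        _ = _ := (Set.toFinset_card b0).symm
    have hbcard : b.toFinset.card = d := by
      have hrk : Module.finrank K ↥(Submodule.span K (Set.range A.col)) = d := by
        rw [← Matrix.rank_eq_finrank_span_cols,
          LinearIndependent.rank_matrix (show LinearIndependent K A.row from hA), Fintype.card_fin]
      rw [Set.image_univ] at hbspan
      have h4 : Module.finrank K ↥(Submodule.span K (A.col '' b)) = Fintype.card b := by
        rw [Set.image_eq_range]; exact finrank_span_eq_card hbli
      have h5 : Submodule.span K (A.col '' b) = Submodule.span K (Set.range A.col) :=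
        le_antisymm (Submodule.span_mono (Set.image_subset_range _ _)) (Submodule.span_le.2 hbspan)
      rw [h5, hrk] at h4
      rw [Set.toFinset_card]
      exact h4.symm
    set J : Fin d ↪o Fin n := b.toFinset.orderEmbOfFin hbcard with hJdef
    have hJmem : ∀ t, J t ∈ b := fun t =>
      Set.mem_toFinset.mp (b.toFinset.orderEmbOfFin_mem hbcard t)
    have hdet : (A.submatrix id J).det ≠ 0 := by
      have hcols : LinearIndependent K (A.submatrix id J).col :=
        LinearIndependent.comp hbli (fun t : Fin d => (⟨J t, hJmem t⟩ : b)) (fun s t hst => by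
          have h9 := congrArg (fun z : b => (z : Fin n)) hst
          exact J.injective h9)
      exact ((Matrix.isUnit_iff_isUnit_det _).1
        (Matrix.linearIndependent_cols_iff_isUnit.1 hcols)).ne_zero
    refine hdet (h J J.strictMono ⟨i, ?_⟩)
    show D < (J i : ℕ) + 1
    by_contra hDJ
    have hsub : b0.toFinset ⊆ (Finset.Ioi i).map J.toEmbedding := by
      intro l hl
      rw [Set.mem_toFinset] at hl
      have hlb : l ∈ b.toFinset := by simpa using hb0b hl
      rw [← Finset.image_orderEmbOfFin_univ b.toFinset hbcard, Finset.mem_image] at hlb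
      obtain ⟨t, -, rfl⟩ := hlb
      refine Finset.mem_map.2 ⟨t, Finset.mem_Ioi.2 ?_, rfl⟩
      by_contra hti
      have h6 : (J t : ℕ) ≤ J i := J.monotone (not_lt.mp hti)
      have h7 : D ≤ (J t : ℕ) := hb0S hl
      omega
    have h8 := Finset.card_le_card hsub
    rw [Finset.card_map, Fin.card_Ioi] at h8
    omega

end Groth.Agent.S14504
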