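import Groth.Statements.S14505
import Mathlib.LinearAlgebra.Matrix.Block
import Mathlib.Tactic

set_option autoImplicit false
universe u
open IntTh

namespace Groth.Agent.S14505

open PowerSeries in
lemma coeff_prod_one_add_mul_eq_zero {R : Type u} [CommRing R] {ι : Type*} (s : Finset ι)
    (c : ι → R) : ∀ m : ℕ, s.card < m →
    coeff m (∏ l ∈ s, (1 + C (c l) * X)) = 0 := by
  classical
  induction s using Finset.induction with
  | empty =>
    intro m hm
    simp [coeff_one]
    omega
  | insert a s ha ih =>
    intro m hm
    rw [Finset.card_insert_of_notMem ha] at hm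
    obtain ⟨m, rfl⟩ : ∃ m', m = m' + 1 := ⟨m - 1, by omega⟩
    rw [Finset.prod_insert ha, add_mul, one_mul, map_add, mul_assoc, coeff_C_mul, coeff_succ_X_mul,
      ih m (by omega), ih (m + 1) (by omega)]
    simp

open PowerSeries in
lemma coeff_prod_mul_geom {R : Type u} [CommRing R] {ι : Type*} (s : Finset ι) (c : ι → R) (a : R) :
    ∀ m : ℕ, coeff (s.card + m) ((∏ l ∈ s, (1 + C (c l) * X)) * mk (fun n => (-a) ^ n)) =
      (-a) ^ m * ∏ l ∈ s, (c l - a) := by
  classical
  induction s using Finset.induction with
  | empty => intro m; simp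
  | insert b s hb ih =>
    intro m
    rw [Finset.prod_insert hb, Finset.card_insert_of_notMem hb, Finset.prod_insert hb,
      show s.card + 1 + m = (s.card + m) + 1 by omega, mul_assoc, add_mul, one_mul, map_add,
      mul_assoc (C (c b)), coeff_C_mul, coeff_succ_X_mul, ih m,
      show (s.card + m) + 1 = s.card + (m + 1) by omega, ih (m + 1)]
    ring

open PowerSeries in
lemma one_add_mul_geom {R : Type u} [CommRing R] (a : R) :
    (1 + C a * X) * mk (fun n => (-a) ^ n) = (1 : PowerSeries R) := by
  ext n
  cases n with
  | zero => simp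
  | succ n =>
    rw [add_mul, one_mul, map_add, mul_assoc, coeff_C_mul, coeff_succ_X_mul]
    simp [pow_succ]
    ring

/-- Let R be a commutative ring, α₁, …, α_d, β₁, …, β_e ∈ R, b(t) = ∏ (1 + β_j t), and for k = 1, …, d
let P_k(t) = b(t)/∏_{i ≤ k} (1 + α_i t) ∈ R⟦t⟧, each factor 1 + α_i t being inverted by its
geometric series; write (P_k)_m for the coefficient of t^m, with (P_k)_m = 0 for m < 0. Then ∏_{i,j}
(β_j − α_i) = det((P_i)_{e+j−i})_{1 ≤ i,j ≤ d}, the d × d determinant whose i-th row is built from
the coefficients of the i-th partial quotient. (Rows and columns are 0-based in the formal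
statement, which does not change j − i; the row of index i inverts the factors of index at most i.
The companion form with every row built from the full quotient b/a is stated separately.) -/
theorem result (R : Type u) [CommRing R] (d e : ℕ)
    (α : Fin d → R) (β : Fin e → R) :
    ∏ i : Fin d, ∏ j : Fin e, (β j - α i) =
      (Matrix.of fun i j : Fin d =>
        if (i : ℕ) ≤ e + (j : ℕ) then
          PowerSeries.coeff (e + (j : ℕ) - (i : ℕ))
            ((∏ j : Fin e, (1 + PowerSeries.C (β j) * PowerSeries.X)) *
              ∏ l : Fin d, if l ≤ i then PowerSeries.mk (fun m => (-α l) ^ m) else 1)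
        else 0).det := by
  classical
  set b : PowerSeries R := ∏ j : Fin e, (1 + PowerSeries.C (β j) * PowerSeries.X) with hbdef
  set g : Fin d → PowerSeries R := fun l => PowerSeries.mk (fun m => (-α l) ^ m) with hgdef
  set P : Fin d → PowerSeries R := fun i => b * ∏ l : Fin d, if l ≤ i then g l else 1 with hPdef
  set q : Fin d → PowerSeries R := fun j =>
    ∏ l ∈ Finset.Iio j, (1 + PowerSeries.C (α l) * PowerSeries.X) with hqdef
  set M : Matrix (Fin d) (Fin d) R := Matrix.of fun i j : Fin d =>
    if (i : ℕ) ≤ e + (j : ℕ) then PowerSeries.coeff (e + (j : ℕ) - (i : ℕ)) (P i) else 0 with hMdef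
  change _ = M.det
  set U : Matrix (Fin d) (Fin d) R := Matrix.of fun k j : Fin d =>
    if k ≤ j then PowerSeries.coeff ((j : ℕ) - (k : ℕ)) (q j) else 0 with hUdef
  have hU : U.det = 1 := by
    rw [Matrix.det_of_upperTriangular (M := U)]
    · refine Finset.prod_eq_one fun j _ => ?_
      simp [hUdef, hqdef]
    · intro k j hjk
      simp only [id] at hjk
      simp [hUdef, not_le.mpr hjk]
  have hqdeg : ∀ (j : Fin d) (m : ℕ), (j : ℕ) < m → PowerSeries.coeff m (q j) = 0 := by
    intro j m hm
    exact coeff_prod_one_add_mul_eq_zero _ α m (by simpa using hm)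
  have hMU : ∀ i j : Fin d, i ≤ j →
      (M * U) i j = PowerSeries.coeff (e + (j : ℕ) - (i : ℕ)) (q j * P i) := by
    intro i j hij
    set F : ℕ → R := fun k => if (i : ℕ) ≤ e + k then
      PowerSeries.coeff (e + k - (i : ℕ)) (P i) * PowerSeries.coeff ((j : ℕ) - k) (q j) else 0
      with hFdef
    have h1 : (M * U) i j = ∑ k ∈ Finset.range ((j : ℕ) + 1), F k := by
      rw [Matrix.mul_apply]
      calc ∑ k : Fin d, M i k * U k j
          = ∑ k : Fin d, if (k : ℕ) < (j : ℕ) + 1 then F k else 0 := by
            refine Finset.sum_congr rfl fun k _ => ?_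
            simp only [hMdef, hUdef, hFdef, Matrix.of_apply, Fin.le_iff_val_le_val,
              Nat.lt_succ_iff]
            split_ifs <;> simp
        _ = ∑ k ∈ Finset.range d, if k < (j : ℕ) + 1 then F k else 0 :=
            Fin.sum_univ_eq_sum_range (fun k => if k < (j : ℕ) + 1 then F k else 0) d
        _ = _ := by
            rw [← Finset.sum_filter]
            congr 1
            ext k
            simp only [Finset.mem_filter, Finset.mem_range]
            omega
    rw [h1, PowerSeries.coeff_mul, Finset.Nat.sum_antidiagonal_eq_sum_range_succ_mk,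
      ← Finset.sum_range_reflect]
    refine Finset.sum_congr_of_eq_on_inter ?_ ?_ ?_
    · intro a ha1 ha2
      simp only [Finset.mem_range] at ha1 ha2
      simp only [hFdef]
      rw [if_neg (by omega)]
    · intro a ha1 ha2
      simp only [Finset.mem_range] at ha1 ha2
      rw [hqdeg j a (by omega), zero_mul]
    · intro a ha1 ha2
      simp only [Finset.mem_range] at ha1 ha2
      simp only [hFdef]
      rw [if_pos (by omega), mul_comm]
      congr 3 <;> omega
  have hprod : ∀ i j : Fin d, q j * P i =
      b * ∏ l : Fin d, ((if l < j then 1 + PowerSeries.C (α l) * PowerSeries.X else 1) *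
        if l ≤ i then g l else 1) := by
    intro i j
    have hq : q j = ∏ l : Fin d,
        if l < j then 1 + PowerSeries.C (α l) * PowerSeries.X else 1 := by
      rw [hqdef, ← Finset.prod_filter]
      exact Finset.prod_congr (Finset.ext fun l => by simp) (fun _ _ => rfl)
    rw [hq, Finset.prod_mul_distrib, hPdef]
    ring
  have hupper : ∀ i j : Fin d, i < j → (M * U) i j = 0 := by
    intro i j hij
    rw [hMU i j hij.le, hprod]
    have h2 : (∏ l : Fin d, ((if l < j then 1 + PowerSeries.C (α l) * PowerSeries.X else 1) *
        if l ≤ i then g l else 1)) =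
        ∏ l ∈ Finset.Ioo i j, (1 + PowerSeries.C (α l) * PowerSeries.X) := by
      rw [show Finset.Ioo i j = Finset.univ.filter (fun l => i < l ∧ l < j) by ext l; simp,
        Finset.prod_filter]
      refine Finset.prod_congr rfl fun l _ => ?_
      by_cases h1 : l ≤ i
      · rw [if_pos (h1.trans_lt hij), if_pos h1, if_neg (fun h => absurd h.1 (not_lt.mpr h1))]
        exact one_add_mul_geom _
      · simp [h1, not_le.mp h1]
    rw [h2, hbdef]
    have := coeff_prod_one_add_mul_eq_zero ((Finset.univ : Finset (Fin e)).disjSum (Finset.Ioo i j))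
      (Sum.elim β α) (e + (j : ℕ) - (i : ℕ)) (by
        simp only [Finset.card_disjSum, Finset.card_univ, Fintype.card_fin, Fin.card_Ioo]
        have : (i : ℕ) < j := hij
        omega)
    rw [Finset.prod_disjSum] at this
    simpa using this
  have hdiag : ∀ i : Fin d, (M * U) i i = ∏ j : Fin e, (β j - α i) := by
    intro i
    rw [hMU i i le_rfl, hprod]
    have h2 : (∏ l : Fin d, ((if l < i then 1 + PowerSeries.C (α l) * PowerSeries.X else 1) *
        if l ≤ i then g l else 1)) = g i := by
      rw [Finset.prod_eq_single i]
      · simp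
      · intro l _ hl
        rcases lt_or_gt_of_ne hl with h | h
        · rw [if_pos h, if_pos h.le]; exact one_add_mul_geom _
        · simp [not_lt.mpr h.le, not_le.mpr h]
      · simp
    rw [h2, hbdef, Nat.add_sub_cancel]
    have := coeff_prod_mul_geom (Finset.univ : Finset (Fin e)) β (α i) 0
    simpa using this
  have h3 : (M * U).det = ∏ i : Fin d, ∏ j : Fin e, (β j - α i) := by
    rw [Matrix.det_of_lowerTriangular]
    · exact Finset.prod_congr rfl fun i _ => hdiag i
    · intro i j hij
      exact hupper i j hij
  rw [Matrix.det_mul, hU, mul_one] at h3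
  exact h3.symm

end Groth.Agent.S14505
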