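import Groth.Statements.S14507
import Groth.Agent.PnEuler.EndOmega
import Groth.Agent.OmegaSheaf.Pull
import Mathlib.LinearAlgebra.Eigenspace.Triangularizable
-- import your own Groth.Agent.* helpers here

set_option autoImplicit false
universe u
open CategoryTheory CategoryTheory.Limits AlgebraicGeometry
open IntTh

namespace Groth.Agent.S14507

attribute [local instance] CategoryTheory.Limits.HasFiniteBiproducts.of_hasFiniteProducts

section Aux

open MvPolynomial Groth.PnEuler Groth.Ega2Proj
open CategoryTheory CategoryTheory.Limits AlgebraicGeometry Opposite TopologicalSpace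

variable {n : ℕ} {k : Type u} [Field k]

local notation "𝔓" => CohB1.polyGrading n k
local notation "A₀" => MvPolynomial (Fin (n + 1)) k

/-- A homogeneous prime where a tuple of linear forms is proportional to the coordinates. -/
theorem exists_eigenPoint (f : Fin (n + 1) → A₀) (hf : ∀ l, f l ∈ 𝔓 1) :
    ∃ x : ProjectiveSpectrum 𝔓, ∀ l m : Fin (n + 1),
      f l * MvPolynomial.X m - MvPolynomial.X l * f m ∈ x.asHomogeneousIdeal := by
  classical
  let K := AlgebraicClosure k
  let ι : k →+* K := algebraMap k K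
  let M : Matrix (Fin (n + 1)) (Fin (n + 1)) K :=
    Matrix.of fun l m => ι ((f l).coeff (Finsupp.single m 1))
  obtain ⟨lam, hlam⟩ := Module.End.exists_eigenvalue (Matrix.toLin' M)
  obtain ⟨v, hv⟩ := hlam.exists_hasEigenvector
  obtain ⟨hv1, hv0⟩ := hv
  rw [Module.End.mem_eigenspace_iff, Matrix.toLin'_apply] at hv1
  let T : Polynomial K := Polynomial.X
  let φ : A₀ →+* Polynomial K :=
    MvPolynomial.eval₂Hom (Polynomial.C.comp ι) fun l => T * Polynomial.C (v l)
  have hφhom : ∀ (d : ℕ) (p : A₀), p ∈ 𝔓 d →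
      φ p = Polynomial.C (MvPolynomial.eval₂ ι v p) * T ^ d := fun d p hp => by
    rw [show φ p = MvPolynomial.eval₂ (Polynomial.C.comp ι) (fun l => T * Polynomial.C (v l)) p from rfl,
      Groth.Chow.ToPn.eval₂_scale _ _ T hp, mul_comm, MvPolynomial.eval₂_comp_left]
    rfl
  have hform : ∀ (p : A₀), p ∈ 𝔓 1 →
      MvPolynomial.eval₂ ι v p = ∑ m, ι (p.coeff (Finsupp.single m 1)) * v m := fun p hp => by
    rw [MvPolynomial.eval₂_eq']
    refine (Finset.sum_subset (s₂ := Finset.univ.image fun m => Finsupp.single m 1) (fun d hd => ?_)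
      (fun d _ hd => by rw [MvPolynomial.notMem_support_iff.1 hd, map_zero, zero_mul])).trans ?_
    · have h1 := (mem_homogeneousSubmodule _ _).1 hp (MvPolynomial.mem_support_iff.1 hd)
      rw [Finsupp.weight_apply, Finsupp.sum_fintype _ _ (by simp)] at h1
      simp only [Pi.one_apply, smul_eq_mul, mul_one] at h1
      obtain ⟨m, -, hm⟩ := Finset.exists_ne_zero_of_sum_ne_zero (by rw [h1]; exact one_ne_zero)
      refine Finset.mem_image.2 ⟨m, Finset.mem_univ _, Finsupp.ext fun a => ?_⟩
      have hle : ∀ a, a ≠ m → d a = 0 := fun a ha => by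
        have h2 := Finset.sum_le_univ_sum_of_nonneg (s := {m, a}) (f := fun i => d i) (fun i => Nat.zero_le _)
        rw [h1, Finset.sum_pair ha.symm] at h2
        omega
      rcases eq_or_ne a m with rfl | ha
      · have h2 := Finset.single_le_sum (f := fun i => d i) (fun i _ => Nat.zero_le _) (Finset.mem_univ a)
        rw [h1] at h2
        rw [Finsupp.single_eq_same]
        omega
      · rw [Finsupp.single_eq_of_ne ha, hle a ha]
    · rw [Finset.sum_image (Finsupp.single_left_injective one_ne_zero).injOn]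
      refine Finset.sum_congr rfl fun m _ => congrArg (_ * ·) ?_
      refine (Finset.prod_eq_single m (fun b _ hb => ?_) fun h => absurd (Finset.mem_univ m) h).trans ?_
      · rw [Finsupp.single_eq_of_ne hb, pow_zero]
      · rw [Finsupp.single_eq_same, pow_one]
  have hA : ∀ l, φ (f l) = Polynomial.C (lam * v l) * T := fun l => by
    rw [hφhom 1 _ (hf l), hform _ (hf l), pow_one,
      show ∑ m, ι ((f l).coeff (Finsupp.single m 1)) * v m = lam * v l from congrFun hv1 l]
  have hX : ∀ l, φ (MvPolynomial.X l) = T * Polynomial.C (v l) := fun l => MvPolynomial.eval₂Hom_X' _ _ _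
  have hhom : (RingHom.ker φ).IsHomogeneous 𝔓 := by
    intro i p hp
    rw [RingHom.mem_ker] at hp ⊢
    have e : ((DirectSum.decompose 𝔓 p i : 𝔓 i) : A₀) = MvPolynomial.homogeneousComponent i p :=
      MvPolynomial.decomposition.decompose'_apply p i
    rw [e]
    have h1 := congrArg (fun q : Polynomial K => q.coeff i) hp
    rw [Polynomial.coeff_zero] at h1
    conv_lhs at h1 => rw [← MvPolynomial.sum_homogeneousComponent p, map_sum, Polynomial.finsetSum_coeff]
    rw [hφhom i _ ((mem_homogeneousSubmodule _ _).2 (MvPolynomial.homogeneousComponent_isHomogeneous i p))]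
    rw [Finset.sum_eq_single i] at h1
    · rw [hφhom i _ ((mem_homogeneousSubmodule _ _).2 (MvPolynomial.homogeneousComponent_isHomogeneous i p)),
        Polynomial.coeff_C_mul, Polynomial.coeff_X_pow, if_pos rfl, mul_one] at h1
      rw [h1, map_zero, zero_mul]
    · intro b _ hb
      rw [hφhom b _ ((mem_homogeneousSubmodule _ _).2 (MvPolynomial.homogeneousComponent_isHomogeneous b p)),
        Polynomial.coeff_C_mul, Polynomial.coeff_X_pow, if_neg hb.symm, mul_zero]
    · intro h
      rw [Finset.mem_range, not_lt] at h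
      rw [MvPolynomial.homogeneousComponent_eq_zero i p (by omega), map_zero, Polynomial.coeff_zero]
  haveI hprime : (RingHom.ker φ).IsPrime := RingHom.ker_isPrime φ
  refine ⟨⟨⟨RingHom.ker φ, hhom⟩, hprime, fun hle => hv0 (funext fun l => ?_)⟩, fun l m => ?_⟩
  · have h1 : (MvPolynomial.X l : A₀) ∈ RingHom.ker φ := hle (by
      change ((DirectSum.decompose 𝔓 (MvPolynomial.X l : A₀) 0 : 𝔓 0) : A₀) = 0
      exact DirectSum.decompose_of_mem_ne 𝔓 (Groth.Chow.ToPn.X_mem l) one_ne_zero)
    rw [RingHom.mem_ker, hX] at h1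
    rcases mul_eq_zero.1 h1 with h | h
    · exact absurd h Polynomial.X_ne_zero
    · exact Polynomial.C_eq_zero.1 h
  · change _ ∈ RingHom.ker φ
    rw [RingHom.mem_ker, map_sub, map_mul, map_mul, hA, hA, hX, hX, map_mul, map_mul]
    ring

/-- A function invertible near a point takes an invertible value there. -/
theorem isUnit_evalPt_of_isUnit_germ {U : (CohB1.ProjSpace n k).Opens} (x : ProjectiveSpectrum 𝔓) (hx : x ∈ U)
    (w : Γ(CohB1.ProjSpace n k, U)) (h : IsUnit ((CohB1.ProjSpace n k).presheaf.germ U x hx w)) :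
    IsUnit (evalPt U x hx w) := by
  have hxw : x ∈ (CohB1.ProjSpace n k).basicOpen w := ((CohB1.ProjSpace n k).mem_basicOpen w x hx).2 h
  have hu := RingedSpace.isUnit_res_basicOpen (X := (CohB1.ProjSpace n k).toRingedSpace) w
  exact hu.map (evalPt ((CohB1.ProjSpace n k).basicOpen w) x hxw)

/-- The value of `e₀ : O → O(0)`. -/
theorem val_homOfSection_ee (V : (CohB1.ProjSpace n k).Opens) (w : Γ(CohB1.ProjSpace n k, V))
    (x : ProjectiveSpectrum 𝔓) (hx : x ∈ V) :
    val ((Groth.PicAux.homOfSection (ee (n := n) (R := k) ⊤)).app V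
      (OmegaSh.strSect (CohB1.ProjSpace n k) V w)) x hx = evalPt V x hx w := by
  rw [Groth.PicAux.hom_structure_apply, Groth.PicAux.homOfSection_one, val_smul]
  rw [show val (Groth.PicAux.res _ (le_top : V ≤ ⊤) (ee (n := n) (R := k) ⊤)) x hx = 1 from
    val_ee ⊤ x trivial, mul_one]
  rfl

end Aux

/-- Let k be a field, n ≥ 0, P = P^n_k and Ω = Ω_{P/k} its sheaf of differentials (the conormal sheaf of
the diagonal). Every global vector field on P, that is every O_P-linear map ξ : Ω → O_P (a global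
section of the tangent sheaf, the dual of Ω), vanishes at some point: there is x ∈ P such that ξ
maps every local section of Ω over an open neighbourhood of x to a function whose germ at x lies in
the maximal ideal of O_{P,x}. -/
theorem result (k : Type u) [Field k] (n : ℕ)
    (ξ : Omega.sheaf (CohB1.ProjSpace.toSpec n k) ⟶ Coh.structureModule (CohB1.ProjSpace n k)) :
    ∃ x : ↥(CohB1.ProjSpace n k), ∀ (U : (CohB1.ProjSpace n k).Opens) (hx : x ∈ U)
      (s : Γ(Omega.sheaf (CohB1.ProjSpace.toSpec n k), U)),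
      (CohB1.ProjSpace n k).presheaf.germ U x hx (OmegaSh.fnSect (CohB1.ProjSpace n k) U (ξ.app U s)) ∈
        IsLocalRing.maximalIdeal ((CohB1.ProjSpace n k).presheaf.stalk x) := by
  classical
  open Groth.PnEuler Groth.Ega2Proj Opposite in
  obtain ⟨f, hf, hval⟩ : ∃ f : Fin (n + 1) → MvPolynomial (Fin (n + 1)) k,
      (∀ l, f l ∈ CohB1.polyGrading n k 1) ∧
      ∀ (j l : Fin (n + 1)) (x : ProjectiveSpectrum (CohB1.polyGrading n k)) (hx : x ∈ dOp (R := k) j),
        evalPt (dOp j) x hx (OmegaSh.fnSect (CohB1.ProjSpace n k) (dOp j) (ξ.app (dOp j)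
          ((OmegaSh.dOmega (CohB1.ProjSpace.toSpec n k)).app (dOp j) (tt j l)))) *
          algebraMap (MvPolynomial (Fin (n + 1)) k) (L x) (MvPolynomial.X j * MvPolynomial.X j) =
        algebraMap (MvPolynomial (Fin (n + 1)) k) (L x) (f l * MvPolynomial.X j - MvPolynomial.X l * f j) := by
    let e0 := Groth.PicAux.homOfSection (ee (n := n) (R := k) ⊤)
    haveI : IsIso e0 := by
      rw [Groth.PicAux.isIso_hom_structure_iff, Groth.PicAux.homOfSection_one]
      exact gen_ee ⊤
    obtain ⟨e⟩ := Groth.PnCoh.nonempty_twist_zero_iso (CohB1.polyGrading n k)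
    obtain ⟨χ, hχ⟩ : ∃ χ : mid n k ⟶ Twist.twistProjSpace n k 0, iota n k ≫ χ = ξ ≫ e0 := exists_extend (CohB1.ProjSpace.toSpec n k) (shortExact_eulerSeq (n := n) (R := k)) e
      (M := Twist.twistProjSpace n k 0)
      (Groth.PnCoh.subsingleton_HH_twist (n := n) (R := k) 0 1 (by omega) (by omega)) (ξ ≫ e0)
    choose f hf hfi using fun i : Fin (n + 1) => Groth.Duality.Pn.exists_eq_mulEl (n := n) (R := k)
      (a := -1) (b := 0) 1 (by simp) (inj n k i ≫ χ)
    refine ⟨f, hf, fun j l x hx => ?_⟩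
    rw [← val_homOfSection_ee]
    change val ((ξ ≫ e0).app (dOp j)
      ((OmegaSh.dOmega (CohB1.ProjSpace.toSpec n k)).app (dOp j) (tt j l))) x hx * _ = _
    rw [show ξ ≫ e0 = iota n k ≫ χ from hχ.symm]
    change val (χ.app (dOp j) ((iota n k).app (dOp j)
      ((OmegaSh.dOmega (CohB1.ProjSpace.toSpec n k)).app (dOp j) (tt j l)))) x hx * _ = _
    rw [comp_mid_eq j (dOp j) ((iota n k).app (dOp j) _), map_sum, val_sum]
    have hterm : ∀ i : Fin (n + 1),
        val (χ.app (dOp j) ((inj n k i).app (dOp j) ((prj n k i).app (dOp j) ((iota n k).app (dOp j)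
          ((OmegaSh.dOmega (CohB1.ProjSpace.toSpec n k)).app (dOp j) (tt j l)))))) x hx =
        algebraMap (MvPolynomial (Fin (n + 1)) k) (L x) (f i) * val (dFun i (dOp j) (tt j l)) x hx := fun i => by
      rw [show (prj n k i).app (dOp j) ((iota n k).app (dOp j)
          ((OmegaSh.dOmega (CohB1.ProjSpace.toSpec n k)).app (dOp j) (tt j l))) = dFun i (dOp j) (tt j l) from
        (congr($(CategoryTheory.Limits.biproduct.lift_π (f := fam n k) (fun q => toTwist (R := k) q) i).app (dOp j)
          ((OmegaSh.dOmega (CohB1.ProjSpace.toSpec n k)).app (dOp j) (tt j l)))).trans (toTwist_d i _ _)]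
      change val ((inj n k i ≫ χ).app (dOp j) (dFun i (dOp j) (tt j l))) x hx = _
      refine (congrArg (fun ψ : Twist.twistProjSpace n k (-1) ⟶ Twist.twistProjSpace n k 0 =>
        val (ψ.app (dOp j) (dFun i (dOp j) (tt j l))) x hx) (hfi i)).trans ?_
      rw [← Localization.mk_one_eq_algebraMap]
      exact Groth.Duality.Pn.wval_mulEl _ (hf i) _ _ _ x hx
    have hd : ∀ i : Fin (n + 1), val (dFun i (dOp j) (tt (R := k) j l)) x hx *
        algebraMap (MvPolynomial (Fin (n + 1)) k) (L x) (MvPolynomial.X j * MvPolynomial.X j) =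
        algebraMap (MvPolynomial (Fin (n + 1)) k) (L x) ((if l = i then 1 else 0) * MvPolynomial.X j -
          MvPolynomial.X l * (if j = i then 1 else 0)) := fun i => by
      rw [val_dFun, evalPt_tt, locDer_lfrac i x _ _
        (x.asHomogeneousIdeal.toIdeal.primeCompl.mul_mem (X_notMem hx) (X_notMem hx)),
        lfrac_mul_algebraMap, MvPolynomial.pderiv_X, MvPolynomial.pderiv_X, Pi.single_apply, Pi.single_apply]
    simp only [hterm, Finset.sum_mul, mul_assoc, hd, ← map_mul, ← map_sum]
    congr 1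
    simp only [mul_sub, Finset.sum_sub_distrib, ite_mul, mul_ite, one_mul, zero_mul, mul_one, mul_zero,
      Finset.sum_ite_eq, Finset.mem_univ, if_true]
    ring
  obtain ⟨x, hx⟩ := exists_eigenPoint f hf
  refine ⟨x, fun U hxU s => ?_⟩
  obtain ⟨j, hj⟩ := TopologicalSpace.Opens.mem_iSup.1
    ((Groth.PnEuler.iSup_dOp (n := n) (R := k)).ge (TopologicalSpace.Opens.mem_top (x : CohB1.ProjSpace n k)))
  let D := Groth.PnEuler.dOp (n := n) (R := k) j
  haveI : (Omega.sheaf (CohB1.ProjSpace.toSpec n k)).IsQuasicoherent :=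
    Groth.OmegaSheaf.isQCoh_of_isUniversal (Groth.OmegaSheaf.isUniversal_dOmega _)
  obtain ⟨a, m, ha, hm⟩ := Groth.QCohMod.exists_smul_germ_eq (Omega.sheaf (CohB1.ProjSpace.toSpec n k))
    (Groth.PnEuler.isAffineOpen_dOp j) x hj (Groth.QCohMod.germ _ x hxU s)
  obtain ⟨c, rfl⟩ := Groth.PnEuler.exists_comb j m
  obtain ⟨u, hu⟩ := ((CohB1.ProjSpace n k).mem_basicOpen a x hj).mp ha
  set v := ∑ l, c l • (OmegaSh.dOmega (CohB1.ProjSpace.toSpec n k)).app D (Groth.PnEuler.tt j l)
  have hm' : Groth.QCohMod.germ (Omega.sheaf (CohB1.ProjSpace.toSpec n k)) x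
      (show x ∈ U ⊓ D from ⟨hxU, hj⟩)
      ((Groth.QCohMod.resFun (CohB1.ProjSpace n k) (inf_le_right : U ⊓ D ≤ D) a) •
        Groth.QCohMod.res _ (inf_le_left : U ⊓ D ≤ U) s) =
      Groth.QCohMod.germ (Omega.sheaf (CohB1.ProjSpace.toSpec n k)) x hj v := by
    rw [Groth.QCohMod.germ_smul, Groth.QCohMod.germ_res, Groth.QCohMod.resFun,
      TopCat.Presheaf.germ_res_apply]
    exact hm
  obtain ⟨W, hxW, hW₁, hW₂, hW⟩ := Groth.QCohMod.exists_res_eq_of_germ_eq x _ hj _ v hm'
  have h1 := congrArg (fun z => OmegaSh.fnSect (CohB1.ProjSpace n k) W (ξ.app W z)) hW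
  simp only [← Groth.QCohMod.res_app, Scheme.Modules.Hom.app_smul] at h1
  have hmem : ∀ l, (CohB1.ProjSpace n k).presheaf.germ D x hj (OmegaSh.fnSect (CohB1.ProjSpace n k) D
      (ξ.app D ((OmegaSh.dOmega (CohB1.ProjSpace.toSpec n k)).app D (Groth.PnEuler.tt j l)))) ∈
        IsLocalRing.maximalIdeal ((CohB1.ProjSpace n k).presheaf.stalk x) := fun l hunit => by
    have h2 := (isUnit_evalPt_of_isUnit_germ x hj _ hunit).mul (Groth.PnEuler.isUnit_algebraMap x
      (x.asHomogeneousIdeal.toIdeal.primeCompl.mul_mem (Groth.PnEuler.X_notMem hj) (Groth.PnEuler.X_notMem hj)))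
    rw [hval j l x hj] at h2
    exact (IsLocalization.AtPrime.isUnit_to_map_iff (Groth.PnEuler.L x) x.asHomogeneousIdeal.toIdeal _).1 h2
      (hx l j)
  set g := (CohB1.ProjSpace n k).presheaf.germ U x hxU (OmegaSh.fnSect (CohB1.ProjSpace n k) U (ξ.app U s))
  have h3 : (u : (CohB1.ProjSpace n k).presheaf.stalk x) * g ∈
      IsLocalRing.maximalIdeal ((CohB1.ProjSpace n k).presheaf.stalk x) := by
    have h4 : (u : (CohB1.ProjSpace n k).presheaf.stalk x) * g = ∑ l,
        (CohB1.ProjSpace n k).presheaf.germ D x hj (c l) * (CohB1.ProjSpace n k).presheaf.germ D x hj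
          (OmegaSh.fnSect (CohB1.ProjSpace n k) D
            (ξ.app D ((OmegaSh.dOmega (CohB1.ProjSpace.toSpec n k)).app D (Groth.PnEuler.tt j l)))) := by
      rw [hu]
      simp only [← map_mul, ← map_sum]
      have h5 := congrArg ((CohB1.ProjSpace n k).presheaf.germ W x hxW).hom h1
      have hv : ξ.app D v = ∑ l, c l • ξ.app D
          ((OmegaSh.dOmega (CohB1.ProjSpace.toSpec n k)).app D (Groth.PnEuler.tt j l)) := by
        simp only [v, map_sum, Scheme.Modules.Hom.app_smul]
      rw [hv] at h5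
      refine Eq.trans ?_ (h5.trans ?_)
      · change _ = (CohB1.ProjSpace n k).presheaf.germ W x hxW ((CohB1.ProjSpace n k).presheaf.map _
          (Groth.QCohMod.resFun (CohB1.ProjSpace n k) inf_le_right a *
            (CohB1.ProjSpace n k).presheaf.map _ (OmegaSh.fnSect (CohB1.ProjSpace n k) U (ξ.app U s))))
        refine Eq.trans ?_ (TopCat.Presheaf.germ_res_apply (CohB1.ProjSpace n k).presheaf _ x hxW _).symm
        refine Eq.trans ?_ (map_mul ((CohB1.ProjSpace n k).presheaf.germ (U ⊓ D) x ⟨hxU, hj⟩).hom _ _).symm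
        exact congrArg₂ (· * ·) (TopCat.Presheaf.germ_res_apply (CohB1.ProjSpace n k).presheaf _ x _ a).symm
          (TopCat.Presheaf.germ_res_apply (CohB1.ProjSpace n k).presheaf _ x _ _).symm
      · exact TopCat.Presheaf.germ_res_apply (CohB1.ProjSpace n k).presheaf (homOfLE hW₂) x hxW _
    rw [h4]
    exact Ideal.sum_mem _ fun l _ => Ideal.mul_mem_left _ _ (hmem l)
  have := Ideal.mul_mem_left _ (↑u⁻¹ : (CohB1.ProjSpace n k).presheaf.stalk x) h3
  rwa [← mul_assoc, Units.inv_mul, one_mul] at this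

end Groth.Agent.S14507
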