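import Groth.Statements.S14510
import Mathlib

set_option autoImplicit false
universe u v
open CAlgX

namespace Groth.Agent.S14510

/-- Let k be an algebraically closed field, U, V, W finite-dimensional k-vector spaces with U and V
nonzero, and φ : U ⊗ V → W a linear map which is 1-generic, i.e. φ(u ⊗ v) ≠ 0 for all nonzero u and
v (φ is given here as a bilinear map). Then dim W ≥ dim U + dim V − 1. (Algebraic closedness
matters: complex multiplication ℂ ⊗ ℂ → ℂ over the reals is 1-generic with 2 + 2 − 1 > 2.) -/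
theorem result (k : Type u) [Field k] [IsAlgClosed k]
    (U V W : Type v) [AddCommGroup U] [Module k U] [AddCommGroup V] [Module k V] [AddCommGroup W] [Module k W]
    [Module.Finite k U] [Module.Finite k V] [Module.Finite k W] [Nontrivial U] [Nontrivial V]
    (φ : U →ₗ[k] V →ₗ[k] W) (hφ : ∀ (a : U) (b : V), a ≠ 0 → b ≠ 0 → φ a b ≠ 0) :
    Module.finrank k U + Module.finrank k V ≤ Module.finrank k W + 1 := by
  classical
  let bU := Module.finBasis k U
  let bV := Module.finBasis k V
  let bW := Module.finBasis k W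
  obtain ⟨u', hu'⟩ : ∃ u', Module.finrank k U = u' + 1 := ⟨_, (Nat.succ_pred (Module.finrank_pos (R := k) (M := U)).ne').symm⟩
  obtain ⟨v', hv'⟩ : ∃ v', Module.finrank k V = v' + 1 := ⟨_, (Nat.succ_pred (Module.finrank_pos (R := k) (M := V)).ne').symm⟩
  let i₀ : Fin (Module.finrank k U) := ⟨0, by omega⟩
  let j₀ : Fin (Module.finrank k V) := ⟨0, by omega⟩
  let σ := Fin (Module.finrank k U) ⊕ Fin (Module.finrank k V)
  let P := MvPolynomial σ k
  let zP : Fin (Module.finrank k U) × Fin (Module.finrank k V) → P := fun p =>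
    MvPolynomial.X (Sum.inl p.1) * MvPolynomial.X (Sum.inr p.2)
  let S := Algebra.adjoin k (Set.range zP)
  let z : Fin (Module.finrank k U) × Fin (Module.finrank k V) → S := fun p => ⟨zP p, Algebra.subset_adjoin ⟨p, rfl⟩⟩
  have hz4 : ∀ a b c d, z (a, b) * z (c, d) = z (a, d) * z (c, b) := fun a b c d => Subtype.ext (by
    show zP _ * zP _ = zP _ * zP _
    simp only [zP]; ring)
  have hft : Algebra.FiniteType k S :=
    ⟨(Subalgebra.fg_top S).2 (Subalgebra.fg_def.2 ⟨_, Set.finite_range zP, rfl⟩)⟩
  have : IsNoetherianRing S := Algebra.FiniteType.isNoetherianRing k S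
  have : IsJacobsonRing S := isJacobsonRing_of_finiteType (A := k)
  let f : Fin (Module.finrank k W) → S := fun l =>
    ∑ p : Fin (Module.finrank k U) × Fin (Module.finrank k V), bW.repr (φ (bU p.1) (bV p.2)) l • z p
  let J : Ideal S := Ideal.span (Finset.univ.image f : Finset S)
  -- a prime containing the equations contains every product
  have hvan : ∀ Q : Ideal S, Q.IsPrime → J ≤ Q → ∀ p, z p ∈ Q := by
    intro Q hQ hJQ p
    have hQj : Q.jacobson = Q := (inferInstance : IsJacobsonRing S).out hQ.isRadical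
    rw [← hQj, Ideal.jacobson, Submodule.mem_sInf]
    rintro M ⟨hQM, hM⟩
    let _ : Field (S ⧸ M) := Ideal.Quotient.field M
    have hfin : Module.Finite k (S ⧸ M) := finite_of_finite_type_of_isJacobsonRing k (S ⧸ M)
    have hbij : Function.Bijective (algebraMap k (S ⧸ M)) := IsAlgClosed.algebraMap_bijective_of_isIntegral
    choose a ha using fun p => hbij.2 (Ideal.Quotient.mk M (z p))
    have ha4 : ∀ i j l m, a (i, j) * a (l, m) = a (i, m) * a (l, j) := fun i j l m => hbij.1 (by
      rw [map_mul, map_mul, ha, ha, ha, ha, ← map_mul, ← map_mul, hz4])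
    have hsum : ∀ l, ∑ q, bW.repr (φ (bU q.1) (bV q.2)) l * a q = 0 := fun l => hbij.1 (by
      have hmem : f l ∈ M := hQM (hJQ (Ideal.subset_span (Finset.mem_coe.2
        (Finset.mem_image.2 ⟨l, Finset.mem_univ l, rfl⟩))))
      rw [← Ideal.Quotient.eq_zero_iff_mem] at hmem
      simp only [f, map_sum, Algebra.smul_def, map_mul] at hmem
      rw [map_zero, map_sum, ← hmem]
      exact Finset.sum_congr rfl fun q _ => by rw [map_mul, ha]; rfl)
    by_contra hp
    have hap : a p ≠ 0 := fun h => hp (by rw [← Ideal.Quotient.eq_zero_iff_mem, ← ha p, h, map_zero])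
    refine hφ (∑ i, a (i, p.2) • bU i) (∑ j, (a (p.1, j) / a p) • bV j) (fun h => hap ?_) (fun h => ?_) ?_
    · simpa [Finsupp.single_apply] using congrArg (fun x => bU.repr x p.1) h
    · have := congrArg (fun x => bV.repr x p.2) h
      simp [hap, Finsupp.single_apply] at this
    · refine bW.repr.injective (Finsupp.ext fun l => ?_)
      simp only [map_sum, map_smul, LinearMap.sum_apply, LinearMap.smul_apply, Finsupp.coe_finsetSum,
        Finsupp.coe_smul, Finset.sum_apply, Pi.smul_apply, smul_eq_mul, map_zero, Finsupp.coe_zero, Pi.zero_apply,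
        Finset.smul_sum, smul_smul]
      rw [← hsum l, Fintype.sum_prod_type, Finset.sum_comm]
      refine Finset.sum_congr rfl fun i _ => Finset.sum_congr rfl fun j _ => ?_
      have h4 : a (i, p.2) * a (p.1, j) = a (i, j) * a p := ha4 i p.2 p.1 j
      field_simp
      linear_combination (bW.repr (φ (bU i) (bV j)) l) * h4
  -- the chain of primes
  let rank : σ → ℕ := Sum.elim (fun i => if (i : ℕ) = 0 then u' + v' else i.1 - 1)
    (fun j => if (j : ℕ) = 0 then u' + v' + 1 else u' + j.1 - 1)
  let kill : ℕ → P →ₐ[k] P := fun t =>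
    MvPolynomial.aeval fun x => if rank x < t then 0 else MvPolynomial.X x
  let Pr : ℕ → Ideal S := fun t => RingHom.ker ((kill t).comp S.val).toRingHom
  have hprime : ∀ t, (Pr t).IsPrime := fun t => RingHom.ker_isPrime _
  have hkX : ∀ t x, kill t (MvPolynomial.X x : P) = if rank x < t then 0 else MvPolynomial.X x := fun t x =>
    MvPolynomial.aeval_X _ x
  have hkill : ∀ t p, kill t (zP p) = 0 ↔ rank (Sum.inl p.1) < t ∨ rank (Sum.inr p.2) < t := by
    intro t p
    simp only [zP, map_mul, hkX, mul_eq_zero]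
    split_ifs with h1 h2 h2 <;> simp [h1, h2]
    exact ⟨MvPolynomial.X_ne_zero _, MvPolynomial.X_ne_zero _⟩
  have hmono : ∀ t, Pr t ≤ Pr (t + 1) := fun t s hs => by
    have hcomp : (kill (t + 1)).comp (kill t) = kill (t + 1) := MvPolynomial.algHom_ext fun x => by
      rw [AlgHom.comp_apply, hkX, hkX]
      by_cases h1 : rank x < t
      · rw [if_pos h1, if_pos (by omega), map_zero]
      · rw [if_neg h1, hkX]
    have hs' : kill t s.1 = 0 := hs
    show kill (t + 1) s.1 = 0
    rw [← hcomp, AlgHom.comp_apply, hs', map_zero]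
  have hlt : ∀ t ≤ u' + v', Pr t < Pr (t + 1) := by
    intro t ht
    obtain ⟨p, hp1, hp2⟩ : ∃ p : Fin (Module.finrank k U) × Fin (Module.finrank k V), (rank (Sum.inl p.1) < t + 1 ∨ rank (Sum.inr p.2) < t + 1) ∧
        ¬ (rank (Sum.inl p.1) < t ∨ rank (Sum.inr p.2) < t) := by
      by_cases h1 : t < u'
      · exact ⟨(⟨t + 1, by omega⟩, j₀), Or.inl (by simp [rank]), by simp [rank, j₀]; omega⟩
      by_cases h2 : t < u' + v'
      · exact ⟨(i₀, ⟨t - u' + 1, by omega⟩), Or.inr (by simp [rank]; omega), by simp [rank, i₀]; omega⟩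
      · exact ⟨(i₀, j₀), Or.inl (by simp [rank, i₀]; omega), by simp [rank, i₀, j₀]; omega⟩
    refine lt_of_le_of_ne (hmono t) fun heq => hp2 ?_
    have hmem : z p ∈ Pr (t + 1) := (hkill (t + 1) p).2 hp1
    rw [← heq] at hmem
    exact (hkill t p).1 hmem
  have hheight : ∀ t ≤ u' + v' + 1, (t : ℕ∞) ≤ (Pr t).height := by
    intro t
    induction t with
    | zero => intro _; exact zero_le
    | succ t ih =>
      intro ht
      have := hprime t
      have h := Ideal.height_strict_mono_of_isPrime (hlt t (by omega))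
      calc ((t + 1 : ℕ) : ℕ∞) = (t : ℕ∞) + 1 := by push_cast; rfl
        _ ≤ (Pr t).height + 1 := add_le_add (ih (by omega)) le_rfl
        _ ≤ (Pr (t + 1)).height := Order.add_one_le_of_lt h
  have hL : ∀ p, z p ∈ Pr (u' + v' + 1) := fun p => (hkill _ p).2 (Or.inl (by
    have := p.1.2
    simp only [rank, Sum.elim_inl]
    split_ifs <;> omega))
  have hmin : Pr (u' + v' + 1) ∈ J.minimalPrimes := by
    refine ⟨⟨hprime _, ?_⟩, fun Q hQ hQle => ?_⟩
    · show Ideal.span _ ≤ _
      rw [Ideal.span_le]
      intro x hx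
      obtain ⟨l, -, rfl⟩ := Finset.mem_image.1 (Finset.mem_coe.1 hx)
      exact sum_mem fun p _ => Submodule.smul_of_tower_mem _ _ (hL p)
    · intro s hs
      have hdec : ∀ (s : P) (h : s ∈ S), ∃ c : k, (⟨s, h⟩ : S) - algebraMap k S c ∈ Q := by
        intro s h
        refine Algebra.adjoin_induction (fun x hx => ?_) (fun r => ⟨r, ?_⟩) (fun x y hx hy ha hb => ?_)
          (fun x y hx hy ha hb => ?_) h
        · obtain ⟨p, rfl⟩ := hx
          exact ⟨0, by rw [map_zero, sub_zero]; exact hvan Q hQ.1 hQ.2 p⟩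
        · exact (sub_self (algebraMap k S r)).symm ▸ Q.zero_mem
        · obtain ⟨c, hc⟩ := ha
          obtain ⟨d, hd⟩ := hb
          refine ⟨c + d, ?_⟩
          convert Q.add_mem hc hd using 1
          rw [map_add, show (⟨x + y, add_mem hx hy⟩ : S) = ⟨x, hx⟩ + ⟨y, hy⟩ from rfl]
          ring
        · obtain ⟨c, hc⟩ := ha
          obtain ⟨d, hd⟩ := hb
          refine ⟨c * d, ?_⟩
          convert Q.add_mem (Q.mul_mem_right (⟨y, hy⟩ : S) hc) (Q.mul_mem_left (algebraMap k S c) hd) using 1
          rw [map_mul, show (⟨x * y, mul_mem hx hy⟩ : S) = ⟨x, hx⟩ * ⟨y, hy⟩ from rfl]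
          ring
      obtain ⟨c, hc⟩ := hdec s.1 s.2
      have h2 : algebraMap k S c ∈ Pr (u' + v' + 1) := by
        have := (Pr (u' + v' + 1)).sub_mem hs (hQle hc)
        rwa [sub_sub_cancel] at this
      have h3 : c = 0 := by
        by_contra h
        exact (hprime _).ne_top (Ideal.eq_top_of_isUnit_mem _ h2 ((Ne.isUnit h).map _))
      rw [h3, map_zero, sub_zero] at hc
      exact hc
  have := hprime (u' + v' + 1)
  have h1 : ((u' + v' + 1 : ℕ) : ℕ∞) ≤ ((Finset.univ.image f).card : ℕ∞) :=
    (hheight _ le_rfl).trans (Ideal.height_le_card_of_mem_minimalPrimes_span_finset hmin)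
  have h2 : (Finset.univ.image f).card ≤ Module.finrank k W := Finset.card_image_le.trans (by simp)
  have h3 : u' + v' + 1 ≤ (Finset.univ.image f).card := by exact_mod_cast h1
  omega

end Groth.Agent.S14510
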