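import Groth.Statements.S14511
import Mathlib

set_option autoImplicit false
universe u
open CAlgX

namespace Groth.Agent.S14511

/-- Let R be a commutative ring and P ∈ R[x_1, …, x_r] a polynomial of total degree at most r. Then the
coefficient of the monomial x_1 ⋯ x_r in P equals Σ_J (−1)^{|J|} P(δ_J), the sum over all subsets J
⊆ {1, …, r} (the empty one included), where δ_J is the point with coordinate −1 at the indices in J
and 0 at the others. -/
theorem result (R : Type u) [CommRing R] (r : ℕ)
    (P : MvPolynomial (Fin r) R) (hP : P.totalDegree ≤ r) :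
    MvPolynomial.coeff (∑ i : Fin r, Finsupp.single i 1) P =
      ∑ J : Finset (Fin r), (-1 : R) ^ J.card * MvPolynomial.eval (fun j => if j ∈ J then (-1 : R) else 0) P := by
  classical
  let T : MvPolynomial (Fin r) R → R := fun Q =>
    ∑ J : Finset (Fin r), (-1 : R) ^ J.card * MvPolynomial.eval (fun j => if j ∈ J then (-1 : R) else 0) Q
  have hT : ∀ d : Fin r →₀ ℕ, (∑ i, d i) ≤ r → T (MvPolynomial.monomial d 1) =
      if d = ∑ i : Fin r, Finsupp.single i 1 then 1 else 0 := by
    intro d hd
    have h1 : T (MvPolynomial.monomial d 1) = ∏ j : Fin r, (-((-1 : R) ^ d j) + 0 ^ d j) := by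
      rw [Finset.prod_add, Finset.powerset_univ]
      refine Finset.sum_congr rfl fun J _ => ?_
      rw [MvPolynomial.eval_monomial, one_mul, Finsupp.prod_fintype _ _ (fun i => pow_zero _),
        ← Finset.prod_sdiff (Finset.subset_univ J), Finset.prod_neg]
      rw [Finset.prod_congr rfl (fun j hj => by rw [if_neg (Finset.mem_sdiff.1 hj).2] :
          ∀ j ∈ Finset.univ \ J, (if j ∈ J then (-1 : R) else 0) ^ d j = 0 ^ d j),
        Finset.prod_congr rfl (fun j hj => by rw [if_pos hj] :
          ∀ j ∈ J, (if j ∈ J then (-1 : R) else 0) ^ d j = (-1) ^ d j)]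
      ring
    have hs : ∀ j, (∑ i : Fin r, Finsupp.single i 1 : Fin r →₀ ℕ) j = 1 := fun j => by
      simp [Finsupp.single_apply]
    rw [h1]
    split_ifs with he
    · exact Finset.prod_eq_one fun j _ => by simp [he, hs]
    · obtain ⟨j, hj⟩ : ∃ j, d j = 0 := by
        by_contra hall
        simp only [not_exists] at hall
        refine he (Finsupp.ext fun j => ?_)
        rw [hs]
        have h2 : ∑ i : Fin r, (1 : ℕ) = ∑ i, d i :=
          le_antisymm (Finset.sum_le_sum fun i _ => Nat.one_le_iff_ne_zero.2 (hall i)) (by simpa using hd)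
        exact ((Finset.sum_eq_sum_iff_of_le fun i _ => Nat.one_le_iff_ne_zero.2 (hall i)).1 h2 j
          (Finset.mem_univ j)).symm
      exact Finset.prod_eq_zero (Finset.mem_univ j) (by simp [hj])
  have hTadd : T P = ∑ d ∈ P.support, MvPolynomial.coeff d P * T (MvPolynomial.monomial d 1) := by
    show ∑ J : Finset (Fin r), _ = _
    simp only [T, Finset.mul_sum]
    rw [Finset.sum_comm]
    refine Finset.sum_congr rfl fun J _ => ?_
    conv_lhs => rw [P.as_sum, map_sum, Finset.mul_sum]
    refine Finset.sum_congr rfl fun d _ => ?_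
    simp only [MvPolynomial.eval_monomial]
    ring
  show _ = T P
  refine Eq.trans ?_ (hTadd.trans (Finset.sum_congr rfl fun d hd => by
    rw [hT d (le_trans (by simp [Finsupp.sum_fintype]) ((MvPolynomial.le_totalDegree hd).trans hP))])).symm
  simp

end Groth.Agent.S14511
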