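import Groth.Statements.S14514
import Mathlib
import Groth.Agent.Variety2.DimFiber

set_option autoImplicit false
universe u
open CategoryTheory CategoryTheory.Limits AlgebraicGeometry
open Variety

namespace Groth.Agent.S14514

/-- Let k be an algebraically closed field and f : X → Y a morphism of algebraic varieties over k (X, Y
reduced, separated and of finite type over k) such that Y is irreducible and the image f(X) is dense
in Y. Then X contains an irreducible closed subset Z with dim Z = dim Y such that f(Z) is dense in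
Y. -/
theorem result (k : Type u) [Field k] [IsAlgClosed k]
    (X Y : Scheme.{u}) [X.Over (Spec (CommRingCat.of k))] [Y.Over (Spec (CommRingCat.of k))]
    [IsReduced X] [IsSeparated (X ↘ (Spec (CommRingCat.of k)))] [LocallyOfFiniteType (X ↘ (Spec (CommRingCat.of k)))] [QuasiCompact (X ↘ (Spec (CommRingCat.of k)))]
    [IsReduced Y] [IsSeparated (Y ↘ (Spec (CommRingCat.of k)))] [LocallyOfFiniteType (Y ↘ (Spec (CommRingCat.of k)))] [QuasiCompact (Y ↘ (Spec (CommRingCat.of k)))] [IrreducibleSpace Y]
    (f : X ⟶ Y) (hf : f ≫ (Y ↘ (Spec (CommRingCat.of k))) = (X ↘ (Spec (CommRingCat.of k)))) [IsDominant f] :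
    ∃ Z : Set X, IsClosed Z ∧ IsIrreducible Z ∧ topologicalKrullDim ↥Z = topologicalKrullDim Y ∧
      Dense (f '' Z) := by
  let fX := X ↘ Spec (CommRingCat.of k)
  let fY := Y ↘ Spec (CommRingCat.of k)
  have := Groth.Variety2.Dim.noetherianSpace_of fX
  obtain ⟨S, hSf, hSc, hSi, hS⟩ := TopologicalSpace.NoetherianSpace.exists_finite_set_isClosed_irreducible
    (s := (Set.univ : Set X)) isClosed_univ
  have hcl : IsClosed (⋃ T ∈ S, closure (f '' T)) := hSf.isClosed_biUnion fun T _ => isClosed_closure
  have hη : genericPoint Y ∈ ⋃ T ∈ S, closure (f '' T) := by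
    refine closure_minimal ?_ hcl (f.denseRange _)
    rintro _ ⟨x, rfl⟩
    obtain ⟨T, hT, hxT⟩ : x ∈ ⋃₀ S := hS ▸ trivial
    exact Set.mem_biUnion hT (subset_closure ⟨x, hxT, rfl⟩)
  obtain ⟨T, hT, hηT⟩ := Set.mem_iUnion₂.1 hη
  let ξ := (hSi T hT).genericPoint
  have hξ : IsGenericPoint ξ T := by
    simpa [(hSc T hT).closure_eq] using (hSi T hT).isGenericPoint_genericPoint_closure
  have hfξ : f ξ = genericPoint Y := by
    refine ((genericPoint_specializes (f ξ)).antisymm ?_).eq.symm
    refine specializes_iff_mem_closure.2 (closure_minimal ?_ isClosed_closure hηT)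
    rintro _ ⟨x, hx, rfl⟩
    exact specializes_iff_mem_closure.1 ((hξ.specializes hx).map f.continuous)
  obtain ⟨z, hz, hzmin⟩ := WellFounded.has_min
    (InvImage.wf (fun z : X => Order.height z) (wellFounded_lt (α := ℕ∞))) {z | f z = genericPoint Y}
    ⟨ξ, hfξ⟩
  have hzh : Order.height z = Order.height (genericPoint Y) := by
    refine le_antisymm ?_ (hz ▸ Groth.Variety2.Dim.height_image_le fX fY f hf z)
    obtain ⟨w, hw⟩ : ∃ w : f.fiber (genericPoint Y), f.fiberι _ w = z :=
      ⟨(f.fiberHomeo _).symm ⟨z, hz⟩, f.fiberι_fiberHomeo_symm _ _⟩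
    have h0 : Order.height w = 0 := by
      rw [Order.height_eq_zero]
      intro v hv
      by_contra hne
      have hlt : v < w := lt_of_le_not_ge hv hne
      let ι := f.fiberι (genericPoint Y)
      have hlt' : ι v < z := by
        rw [← hw, Groth.Variety2.Dim.lt_iff]
        rw [Groth.Variety2.Dim.lt_iff] at hlt
        exact ⟨hlt.1.map ι.continuous, fun h => hlt.2 (ι.isEmbedding.injective h)⟩
      exact hzmin (ι v) ((f.range_fiberι _).le ⟨v, rfl⟩)
        (Groth.Variety2.Dim.height_toNat_lt fX hlt')
    rw [← hw, ← Groth.Variety2.Dim.height_fiber_add fX fY f hf (genericPoint Y) w, h0, zero_add]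
  refine ⟨closure {z}, isClosed_closure, isIrreducible_singleton.closure, ?_, ?_⟩
  · rw [Groth.Variety2.Dim.dim_closure_singleton, Groth.Variety2.Dim.dim_eq_height_genericPoint, hzh]
  · refine dense_iff_closure_eq.2 (Set.eq_univ_of_forall fun y => ?_)
    have h1 : genericPoint Y ∈ f '' closure {z} := ⟨z, subset_closure rfl, hz⟩
    exact closure_mono (Set.singleton_subset_iff.2 h1) (genericPoint_specializes y).mem_closure

end Groth.Agent.S14514
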