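import Groth.Statements.S14518
import Groth.Agent.Variety2.HopfLemma
import Groth.Agent.VarietyBC.NegTwist
import Groth.Agent.QCohMod.TensorStalk
import Groth.Agent.PicAux.TensorLift
import Groth.Agent.Misc1.TorSh
import Groth.Agent.CohC3.ProperHelpers
import Groth.Agent.CohTwo.HomTensorCorep

set_option autoImplicit false
universe u
open CategoryTheory CategoryTheory.Limits AlgebraicGeometry
open Variety

namespace Groth.Agent.S14518

section

open TensorProduct
open Groth.PicAux (tmulSec)
open Groth.QCohMod (germ)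

variable {X : Scheme.{u}} [IsIntegral X]

theorem germ_generic_ne_zero {E : X.Modules} (hE : FlatMod.IsFinLocFree E) {s : Γ(E, ⊤)} (hs : s ≠ 0) :
    germ E (genericPoint X) (Set.mem_univ _ : genericPoint X ∈ (⊤ : X.Opens)) s ≠ 0 := fun h => by
  have := Groth.KTheory.LocFree.isQCoh hE
  have htf : _root_.TorSh.IsTorsionFree E := fun x => by
    have := Groth.KTheory.LocFree.free_stalk hE x
    infer_instance
  exact hs (Groth.Misc1.TorSh.eq_zero_of_germ E s fun y hy =>
    Groth.Misc1.TorSh.germ_eq_zero_of_generic E htf hy s h)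

theorem tmulSec_ne_zero {E E' : X.Modules} (hE : FlatMod.IsFinLocFree E) (hE' : FlatMod.IsFinLocFree E')
    {s : Γ(E, ⊤)} {t : Γ(E', ⊤)} (hs : s ≠ 0) (ht : t ≠ 0) : tmulSec s t ≠ 0 := fun h => by
  let K := X.presheaf.stalk (genericPoint X)
  have := Groth.KTheory.LocFree.free_stalk hE (genericPoint X)
  have h0 : germ E (genericPoint X) (Set.mem_univ _ : genericPoint X ∈ (⊤ : X.Opens)) s ⊗ₜ[K]
      germ E' (genericPoint X) (Set.mem_univ _ : genericPoint X ∈ (⊤ : X.Opens)) t = 0 := by
    refine (Groth.QCohMod.stalkTensorEquiv E E' (genericPoint X)).injective ?_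
    rw [Groth.QCohMod.stalkTensorEquiv_tmul, h, map_zero, map_zero]
  let bb := Module.Free.chooseBasis K (E.presheaf.stalk (genericPoint X))
  obtain ⟨i, hi⟩ : ∃ i, bb.repr (germ E (genericPoint X)
      (Set.mem_univ _ : genericPoint X ∈ (⊤ : X.Opens)) s) i ≠ 0 := by
    by_contra hcon
    push Not at hcon
    exact germ_generic_ne_zero hE hs (bb.repr.injective (by ext i; simp [hcon i]))
  have h1 := congrArg ((TensorProduct.lid K (E'.presheaf.stalk (genericPoint X))).toLinearMap ∘ₗ (bb.coord i).rTensor _) h0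
  simp only [LinearMap.coe_comp, LinearEquiv.coe_coe, Function.comp_apply, LinearMap.rTensor_tmul,
    TensorProduct.lid_tmul, map_zero] at h1
  exact germ_generic_ne_zero hE' ht
    (((IsUnit.mk0 (G₀ := X.functionField) _ hi).smul_eq_zero).1 h1)

end

/-- Let k be an algebraically closed field, X an irreducible variety over k, taken here complete (X
integral and proper over k, so that spaces of global sections are finite-dimensional), and E_1, E_2
vector bundles (finite locally free O_X-modules) on X with H^0(X, E_1) ≠ 0 and H^0(X, E_2) ≠ 0. Then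
dim_k H^0(X, E_1 ⊗ E_2) ≥ dim_k H^0(X, E_1) + dim_k H^0(X, E_2) − 1. (The published statement allows
any irreducible variety; for non-complete X the spaces of sections may be infinite-dimensional and
the inequality carries no content, so X is taken complete here.) -/
theorem result (k : Type u) [Field k] [IsAlgClosed k]
    (X : Scheme.{u}) [X.Over (Spec (CommRingCat.of k))] [IsIntegral X] [IsProper (X ↘ (Spec (CommRingCat.of k)))]
    (E₁ E₂ : X.Modules) (h₁ : FlatMod.IsFinLocFree E₁) (h₂ : FlatMod.IsFinLocFree E₂)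
    [Nontrivial (Coh.HH X E₁ 0)] [Nontrivial (Coh.HH X E₂ 0)] :
    Module.finrank k (Coh.HH X E₁ 0) + Module.finrank k (Coh.HH X E₂ 0) ≤
      Module.finrank k (Coh.HH X (CohB1.tensorMod E₁ E₂) 0) + 1 := by
  obtain ⟨e₁, he₁⟩ := Groth.VarietyBC.NegTwist.exists_h0Equiv k E₁
  obtain ⟨e₂, he₂⟩ := Groth.VarietyBC.NegTwist.exists_h0Equiv k E₂
  obtain ⟨e, he⟩ := Groth.VarietyBC.NegTwist.exists_h0Equiv k (CohB1.tensorMod E₁ E₂)
  have := Groth.CohC3.isNoetherian_of_finiteType (A := k) (X := X)
  have hcoh : ∀ {E : X.Modules}, FlatMod.IsFinLocFree E → Coh.IsCoh E := fun h =>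
    (Groth.QCohMod.isCoh_iff _).2 ⟨Groth.KTheory.LocFree.isQCoh h,
      fun _ hU => (Groth.LocFree.finite_projective_sections h hU).1⟩
  have := Groth.CohC3.finite_HH_of_proper (A := k) (X := X) (hcoh h₁) 0
  have := Groth.CohC3.finite_HH_of_proper (A := k) (X := X) (hcoh h₂) 0
  have := Groth.CohC3.finite_HH_of_proper (A := k) (X := X)
    (Groth.CohTwo.HomTensor.isCoh_tensorMod h₁ (hcoh h₂)) 0
  have hsymm : ∀ c y, e.symm (Groth.VarietyBC.NegTwist.const k X c • y) = c • e.symm y := fun c y =>
    e.injective (by rw [he, e.apply_symm_apply, e.apply_symm_apply])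
  refine Groth.Variety2.Hopf.finrank_add_le
    (LinearMap.mk₂ k (fun v w => e.symm (Groth.PicAux.tmulSec (e₁ v) (e₂ w)))
      (fun v v' w => by rw [map_add, Groth.PicAux.tmulSec_add_left, map_add])
      (fun c v w => by rw [he₁, Groth.PicAux.tmulSec_smul_left, hsymm])
      (fun v w w' => by rw [map_add, Groth.PicAux.tmulSec_add_right, map_add])
      fun c v w => by rw [he₂, Groth.PicAux.tmulSec_smul_right, hsymm]) fun v w h => ?_
  rw [LinearMap.mk₂_apply, AddEquiv.map_eq_zero_iff] at h
  by_contra hcon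
  push Not at hcon
  exact tmulSec_ne_zero h₁ h₂ (e₁.map_ne_zero_iff.2 hcon.1) (e₂.map_ne_zero_iff.2 hcon.2) h

end Groth.Agent.S14518
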