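import Groth.Statements.S14519
import Groth.Agent.Curves1.CurveMor.Basic
import Groth.Agent.LocImm.Birational
import Groth.Agent.VarietyBC.SmoothChart
import Groth.Agent.Ega4Algebra1.RegularNormal
import Mathlib

set_option autoImplicit false
universe u
open CategoryTheory CategoryTheory.Limits AlgebraicGeometry
open Curves

namespace Groth.Agent.S14519

/-- Let k be an algebraically closed field and f : X → Y a birational morphism over k between smooth
curves (X, Y integral, separated, of finite type and smooth over k, of dimension one; f sends the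
generic point of X to that of Y and the induced map of function fields K(Y) → K(X) is bijective).
Then f is an open immersion. -/
theorem result (k : Type u) [Field k] [IsAlgClosed k]
    (X Y : Scheme.{u}) [X.Over (Spec (CommRingCat.of k))] [Y.Over (Spec (CommRingCat.of k))]
    [IsIntegral X] [IsSeparated (X ↘ (Spec (CommRingCat.of k)))] [LocallyOfFiniteType (X ↘ (Spec (CommRingCat.of k)))] [QuasiCompact (X ↘ (Spec (CommRingCat.of k)))] [Smooth (X ↘ (Spec (CommRingCat.of k)))] (hdimX : topologicalKrullDim X = 1)
    [IsIntegral Y] [IsSeparated (Y ↘ (Spec (CommRingCat.of k)))] [LocallyOfFiniteType (Y ↘ (Spec (CommRingCat.of k)))] [QuasiCompact (Y ↘ (Spec (CommRingCat.of k)))] [Smooth (Y ↘ (Spec (CommRingCat.of k)))] (hdimY : topologicalKrullDim Y = 1)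
    (f : X ⟶ Y) (hf : f ≫ (Y ↘ (Spec (CommRingCat.of k))) = (X ↘ (Spec (CommRingCat.of k))))
    (e : f (genericPoint X) = genericPoint Y)
    (hbir : Function.Bijective (Y.presheaf.stalkSpecializes (specializes_of_eq e) ≫ f.stalkMap (genericPoint X)).hom) :
    IsOpenImmersion f := by
  have := Groth.Curves1.CurveMor.locallyQuasiFinite (X ↘ (Spec (CommRingCat.of k))) (Y ↘ (Spec (CommRingCat.of k))) f hf
    hdimX.le (Groth.Curves1.CurveMor.not_isClosed_map (X ↘ (Spec (CommRingCat.of k))) f hdimX.le hdimY e)
  have : LocallyOfFiniteType (f ≫ (Y ↘ (Spec (CommRingCat.of k)))) := hf ▸ inferInstance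
  have : LocallyOfFiniteType f := locallyOfFiniteType_of_comp f (Y ↘ (Spec (CommRingCat.of k)))
  have : IsSeparated (f ≫ (Y ↘ (Spec (CommRingCat.of k)))) := hf ▸ inferInstance
  have : IsSeparated f := IsSeparated.of_comp f (Y ↘ (Spec (CommRingCat.of k)))
  have : QuasiCompact (f ≫ (Y ↘ (Spec (CommRingCat.of k)))) := hf ▸ inferInstance
  have : QuasiCompact f := QuasiCompact.of_comp f (Y ↘ (Spec (CommRingCat.of k)))
  refine Groth.LocImmersion.BirationalNormal.isOpenImmersion_of_isSeparated (fun y => ?_) f e ?_
  · have : y ∈ (Y ↘ (Spec (CommRingCat.of k))).smoothLocus := by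
      rw [Scheme.Hom.smoothLocus_eq_top]; trivial
    have := Groth.VarietyBC.isRegularLocalRing_of_mem_smoothLocus this
    exact Groth.Ega4Algebra1.isIntegrallyClosed_of_isRegularLocalRing (Y.presheaf.stalk y)
  · have h1 : IsIso (Y.presheaf.stalkSpecializes (specializes_of_eq e)) :=
      (TopCat.Presheaf.stalkCongr Y.presheaf (Inseparable.of_eq e.symm)).isIso_hom
    have h2 : IsIso (Y.presheaf.stalkSpecializes (specializes_of_eq e) ≫ f.stalkMap (genericPoint X)) :=
      (ConcreteCategory.isIso_iff_bijective _).2 hbir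
    exact IsIso.of_isIso_comp_left (Y.presheaf.stalkSpecializes (specializes_of_eq e)) _

end Groth.Agent.S14519
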