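import Groth.Statements.S14523
import Mathlib

set_option autoImplicit false
universe u
open CategoryTheory CategoryTheory.Limits AlgebraicGeometry
open Variety

namespace Groth.Agent.S14523

/-- Let k be an algebraically closed field and f : X → Y a proper, birational morphism over k of
irreducible varieties (X, Y integral, separated and of finite type over k; f restricts to an
isomorphism over some nonempty open subset of Y), with Y normal (all local rings integrally closed).
Let U ⊆ Y be the largest open subset over which f is an isomorphism (the domain of f^{-1}). Then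
codim_Y(Y ∖ U) ≥ 2: for every point y of Y whose local ring has Krull dimension at most one, f
restricts to an isomorphism over some open neighbourhood of y. -/
theorem result (k : Type u) [Field k] [IsAlgClosed k]
    (X Y : Scheme.{u}) [X.Over (Spec (CommRingCat.of k))] [Y.Over (Spec (CommRingCat.of k))]
    [IsIntegral X] [IsSeparated (X ↘ (Spec (CommRingCat.of k)))] [LocallyOfFiniteType (X ↘ (Spec (CommRingCat.of k)))] [QuasiCompact (X ↘ (Spec (CommRingCat.of k)))]
    [IsIntegral Y] [IsSeparated (Y ↘ (Spec (CommRingCat.of k)))] [LocallyOfFiniteType (Y ↘ (Spec (CommRingCat.of k)))] [QuasiCompact (Y ↘ (Spec (CommRingCat.of k)))] (hY : ∀ y : Y, IsIntegrallyClosed (Y.presheaf.stalk y))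
    (f : X ⟶ Y) (hf : f ≫ (Y ↘ (Spec (CommRingCat.of k))) = (X ↘ (Spec (CommRingCat.of k)))) [IsProper f]
    (hbir : ∃ V : Y.Opens, (V : Set Y).Nonempty ∧ IsIso (f ∣_ V))
    (y : Y) (hy : ringKrullDim (Y.presheaf.stalk y) ≤ 1) :
    ∃ V : Y.Opens, y ∈ V ∧ IsIso (f ∣_ V) := by
  have := LocallyOfFiniteType.isLocallyNoetherian (Y ↘ Spec (CommRingCat.of k))
  have := hY y
  have : ValuationRing (Y.presheaf.stalk y) := by
    have : Ring.KrullDimLE 1 (Y.presheaf.stalk y) := Ring.krullDimLE_iff.2 (by exact_mod_cast hy)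
    have h4 : IsIntegrallyClosed (Y.presheaf.stalk y) ∧ ∀ P : Ideal (Y.presheaf.stalk y), P ≠ ⊥ →
        P.IsPrime → P = IsLocalRing.maximalIdeal _ :=
      ⟨inferInstance, fun P hP hP' => IsLocalRing.eq_maximalIdeal
        (Ideal.IsPrime.isMaximal_of_ne_bot hP' hP)⟩
    have hiff : ValuationRing (Y.presheaf.stalk y) ↔ _ :=
      (tfae_of_isNoetherianRing_of_isLocalRing_of_isDomain (Y.presheaf.stalk y)).out 1 3 rfl rfl
    exact hiff.2 h4
  obtain ⟨V, hV, hiso⟩ := hbir
  let η := genericPoint Y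
  have hηV : η ∈ V := (genericPoint_specializes _).mem_open V.2 hV.some_mem
  have hsp : η ⤳ y := genericPoint_specializes y
  let i₀ : Spec (Y.presheaf.stalk η) ⟶ V.toScheme := V.fromSpecStalkOfMem η hηV
  have hi₀ : i₀ ≫ V.ι = Y.fromSpecStalk η := V.fromSpecStalkOfMem_ι η hηV
  let i₁ : Spec (Y.presheaf.stalk η) ⟶ X := i₀ ≫ inv (f ∣_ V) ≫ (f ⁻¹ᵁ V).ι
  have hi₁ : i₁ ≫ f = Y.fromSpecStalk η := by
    simp only [i₁, Category.assoc]
    rw [← morphismRestrict_ι, IsIso.inv_hom_id_assoc, hi₀]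
  have halg : CommRingCat.ofHom (algebraMap (Y.presheaf.stalk y) Y.functionField) =
      Y.presheaf.stalkSpecializes hsp := rfl
  have hsq : CommSq i₁ (Spec.map (CommRingCat.ofHom (algebraMap (Y.presheaf.stalk y) Y.functionField)))
      f (Y.fromSpecStalk y) := by
    refine ⟨?_⟩
    exact hi₁.trans (((congrArg (fun φ => Spec.map φ ≫ Y.fromSpecStalk y) halg).trans
      (Scheme.SpecMap_stalkSpecializes_fromSpecStalk hsp)).symm)
  have hdom : IsDomain (Y.presheaf.stalk y) := inferInstance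
  let S : ValuativeCommSq f :=
    { R := Y.presheaf.stalk y, K := Y.functionField, i₁ := i₁, i₂ := Y.fromSpecStalk y, commSq := hsq, domain := hdom }
  have hex : ValuativeCriterion.Existence f := by
    have h : UniversallyClosed f := inferInstance
    rw [UniversallyClosed.eq_valuativeCriterion] at h
    exact h.1
  obtain ⟨φ, hφ⟩ : ∃ φ : Spec (Y.presheaf.stalk y) ⟶ X, φ ≫ f = Y.fromSpecStalk y := by
    obtain ⟨⟨φ, -, hφ⟩⟩ := (hex S).exists_lift
    exact ⟨φ, hφ⟩
  obtain ⟨U, hyU, σ, -, hσ⟩ := spread_out_of_isGermInjective' (sX := 𝟙 Y) (sY := f) (x := y) φ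
    (by rw [hφ, Category.comp_id])
  rw [Category.comp_id] at hσ
  refine ⟨U, hyU, ?_⟩
  let σ' : U.toScheme ⟶ (f ⁻¹ᵁ U).toScheme := IsOpenImmersion.lift (f ⁻¹ᵁ U).ι σ (by
    rintro _ ⟨x, rfl⟩
    rw [Scheme.Opens.range_ι]
    change f (σ x) ∈ U
    rw [← Scheme.Hom.comp_apply, hσ]
    exact x.2)
  have hσ' : σ' ≫ (f ∣_ U) = 𝟙 _ := by
    rw [← cancel_mono U.ι, Category.assoc, morphismRestrict_ι, IsOpenImmersion.lift_fac_assoc, hσ,
      Category.id_comp]
  have : IsClosedImmersion σ' := by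
    have : IsClosedImmersion (σ' ≫ (f ∣_ U)) := hσ' ▸ inferInstance
    exact IsClosedImmersion.of_comp σ' (f ∣_ U)
  have : Surjective σ' := by
    refine ⟨fun x => ?_⟩
    let O : (f ⁻¹ᵁ U).toScheme.Opens := (f ⁻¹ᵁ U).ι ⁻¹ᵁ (f ⁻¹ᵁ V)
    have hOsub : (O : Set (f ⁻¹ᵁ U).toScheme) ⊆ Set.range σ' := by
      intro z hz
      refine ⟨(f ∣_ U) z, ?_⟩
      let w := σ' ((f ∣_ U) z)
      change w = z
      have hw : f ((f ⁻¹ᵁ U).ι w) = f ((f ⁻¹ᵁ U).ι z) := by
        rw [← Scheme.Hom.comp_apply, ← Scheme.Hom.comp_apply, ← morphismRestrict_ι,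
          Scheme.Hom.comp_apply, Scheme.Hom.comp_apply, ← Scheme.Hom.comp_apply σ', hσ']
        exact morphismRestrict_base_coe f U z
      have hwV : (f ⁻¹ᵁ U).ι w ∈ f ⁻¹ᵁ V := show f _ ∈ V from hw ▸ hz
      have h1 := (f ∣_ V).isOpenEmbedding.injective (a₁ := ⟨_, hwV⟩) (a₂ := ⟨_, hz⟩)
        (Subtype.ext (((morphismRestrict_base_coe f V _).trans hw).trans
          (morphismRestrict_base_coe f V _).symm))
      have h2 := congrArg (fun t : (f ⁻¹ᵁ V).toScheme => (f ⁻¹ᵁ V).ι t) h1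
      exact (f ⁻¹ᵁ U).ι.isOpenEmbedding.injective h2
    obtain ⟨v, hv⟩ : ∃ v, (f ∣_ V) v = ⟨η, hηV⟩ :=
      ((f ∣_ V).homeomorph).surjective _
    have hgen : f (genericPoint X) ∈ V :=
      show genericPoint X ∈ f ⁻¹ᵁ V from (genericPoint_specializes _).mem_open (f ⁻¹ᵁ V).2 v.2
    have hgU : genericPoint X ∈ f ⁻¹ᵁ U :=
      (genericPoint_specializes ((f ⁻¹ᵁ U).ι x)).mem_open (f ⁻¹ᵁ U).2 x.2
    have hmem := hOsub (show (⟨genericPoint X, hgU⟩ : (f ⁻¹ᵁ U).toScheme) ∈ O from hgen)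
    refine (specializes_iff_mem_closure.1 ?_ : x ∈ closure {(⟨genericPoint X, hgU⟩ : (f ⁻¹ᵁ U).toScheme)})
      |> closure_minimal (Set.singleton_subset_iff.2 hmem) σ'.isClosedEmbedding.isClosed_range
    exact (subtype_specializes_iff _ _).2 (genericPoint_specializes _)
  have : IsIso σ' := isIso_of_isClosedImmersion_of_surjective σ'
  rw [IsIso.eq_inv_of_hom_inv_id hσ']
  infer_instance

end Groth.Agent.S14523
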