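import Groth.Statements.S14525
import Groth.Agent.Inter.Surface

set_option autoImplicit false
universe u
open CategoryTheory CategoryTheory.Limits AlgebraicGeometry
open Surf

namespace Groth.Agent.S14525

/-- Let k be an algebraically closed field, X a smooth projective surface over k (integral, smooth over
k, of dimension two, with a closed immersion over k into some projective space), L an invertible
O_X-module with tensor inverse L' such that (L·L) > 0, and M an ample invertible module with tensor
inverse M'; intersection numbers are the alternating Euler-characteristic sums in the inverses (the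
prelude's FGA.intNum, so (L·L) is computed in L', L' and (L·M) in L', M'). Then (L·M) ≠ 0; if (L·M)
> 0 there is c > 0 with dim_k H^0(X, L^{⊗m}) > c·m² for all large m, and if (L·M) < 0 the same holds
for L' in place of L. -/
theorem result (k : Type u) [Field k] [IsAlgClosed k]
    (X : Scheme.{u}) [X.Over (Spec (CommRingCat.of k))] [IsIntegral X] [Smooth (X ↘ (Spec (CommRingCat.of k)))] (hdim : topologicalKrullDim X = 2)
    (hprojX : ∃ (N : ℕ) (ι : X ⟶ CohB1.ProjSpace N k), IsClosedImmersion ι ∧ ι ≫ CohB1.ProjSpace.toSpec N k = (X ↘ (Spec (CommRingCat.of k))))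
    (L L' : X.Modules) (hL : PicF.IsInvertible L) (hLL' : ClSub.IsInverseOf L L')
    (hpos : 0 < FGA.intNum k X 2 ![L', L'] (Coh.structureModule X))
    (M M' : X.Modules) (hM : CohB1.IsAmple M) (hMM' : ClSub.IsInverseOf M M') :
    FGA.intNum k X 2 ![L', M'] (Coh.structureModule X) ≠ 0 ∧
    (0 < FGA.intNum k X 2 ![L', M'] (Coh.structureModule X) →
      ∃ c : ℚ, 0 < c ∧ ∃ m₀ : ℕ, ∀ m : ℕ, m₀ ≤ m →
        c * (m : ℚ) ^ 2 < (Module.finrank k (Coh.HH X (CohB1.tensorPow L m) 0) : ℚ)) ∧
    (FGA.intNum k X 2 ![L', M'] (Coh.structureModule X) < 0 →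
      ∃ c : ℚ, 0 < c ∧ ∃ m₀ : ℕ, ∀ m : ℕ, m₀ ≤ m →
        c * (m : ℚ) ^ 2 < (Module.finrank k (Coh.HH X (CohB1.tensorPow L' m) 0) : ℚ)) := by
  obtain ⟨m, j, hj, hj'⟩ := hprojX
  have : IsProper (X ↘ Spec (CommRingCat.of k)) := by rw [← hj']; infer_instance
  have hL' := Groth.PicAux.isInvertible_of_isInverseOf hL hLL'
  rw [Groth.Inter.intNum_eq_pair k hdim.le,
    Groth.Inter.pair_inverse_inverse k hdim.le hL hLL' hL hLL'] at hpos
  rw [Groth.Inter.intNum_eq_pair k hdim.le,
    Groth.Inter.pair_inverse_inverse k hdim.le hL hLL' hM.1 hMM']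
  refine ⟨Groth.Inter.pair_ne_zero k hdim hM hL hpos,
    fun h => Groth.Inter.exists_growth k hdim hM hL hpos h.le, fun h => ?_⟩
  refine Groth.Inter.exists_growth k hdim hM hL' ?_ ?_
  · rwa [Groth.Inter.pair_inverse_inverse k hdim.le hL hLL' hL hLL']
  · rw [Groth.Inter.pair_inverse k hdim.le hL hLL' hM.1]
    linarith

end Groth.Agent.S14525
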