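import Groth.Statements.S1453
import Groth.Agent.GeomComp.ConnectedModel

set_option autoImplicit false
universe u
open FlatMor

namespace Groth.Agent.S1453

open AlgebraicGeometry CategoryTheory Limits in
/-- Let f : X → Y be flat and of finite presentation with all fibres geometrically reduced, let Z → Y be
finite locally free with a Y-morphism σ : Z → X, and let y be a point with Z_y nonempty and X_y
geometrically connected. Then there is a quasi-compact open X⁰ of X containing the whole fibre X_y
such that every nonempty fibre of X⁰ → Y is geometrically connected. -/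
theorem result {X Y Z : Scheme.{u}} (f : X ⟶ Y) [Flat f] [LocallyOfFinitePresentation f] [QuasiCompact f] [QuasiSeparated f]
    [GeometricallyReduced f] (g : Z ⟶ Y) (hg : Mor2.IsFinLocFree g) (σ : Z ⟶ X) (hσ : σ ≫ f = g) (y : Y) (hZy : y ∈ Set.range ⇑g)
    (hXy : GeometricallyConnected (f.fiberToSpecResidueField y)) :
    ∃ U : X.Opens, IsCompact (U : Set ↑X) ∧ f ⁻¹' {y} ⊆ (U : Set ↑X) ∧
      ∀ y' : Y, (∃ x ∈ U, f x = y') → GeometricallyConnected ((U.ι ≫ f).fiberToSpecResidueField y') := by
  obtain ⟨hg1, hg2, hg3⟩ := hg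
  obtain ⟨U, W, -, -, -, hUc, hUy, hconn⟩ :=
    Groth.GeomComp.exists_open_geometricallyConnected_of_multisection f g σ hσ y hZy hXy
  refine ⟨U, hUc, hUy, fun y' ⟨x, hx, hxy'⟩ => ?_⟩
  rw [GeometricallyConnected.eq_geometrically, geometrically_iff_of_isClosedUnderIsomorphisms]
  intro K _ a
  let t := a ≫ Y.fromSpecResidueField y'
  have ht : t.base (IsLocalRing.closedPoint K) = y' :=
    (Scheme.Hom.comp_apply _ _ _).trans (Y.fromSpecResidueField_apply y' _)
  haveI := hconn K t ⟨x, hx, hxy'.trans ht.symm⟩
  let e := pullbackLeftPullbackSndIso (U.ι ≫ f) (Y.fromSpecResidueField y') a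
  exact e.inv.surjective.connectedSpace e.inv.continuous

end Groth.Agent.S1453
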