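import Groth.Statements.S14535
import Groth.Agent.AffTorsorPoint.Basic
import Groth.Agent.Misc7.AffineGroupPoints
import Groth.Agent.AlgGrp2.AffinePts
import Groth.Agent.Pi1Tors.Points
import Groth.Agent.EtaleBase.FpqcDescent

set_option autoImplicit false
set_option backward.isDefEq.respectTransparency false
universe u
open CategoryTheory MonoidalCategory CartesianMonoidalCategory MonObj GrpObj AlgebraicGeometry
open PrincBund

namespace Groth.Agent.S14535

open Groth.Pi1Tors
open Algebra.TensorProduct (includeLeft includeRight productMap)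
open scoped TensorProduct

variable {k : Type u} [Field k]

/-- A torsor has a point with values in some extension field. -/
theorem exists_field_point {P : Over (Spec (CommRingCat.of k))}
    (h : NonAbH1.IsLocallyTrivialFor Scheme.fpqcPrecoverage P) :
    ∃ (Ω : Type u) (_ : Field Ω) (_ : Algebra k Ω), Nonempty (CoactBr.sp k Ω ⟶ P) := by
  obtain ⟨R, hR, hsec⟩ := h
  obtain ⟨I, Y, g, rfl⟩ := R.exists_eq_ofArrows
  obtain ⟨i, y, -⟩ := ((Scheme.ofArrows_mem_precoverage_iff _).1 hR.2).1 (IsLocalRing.closedPoint k)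
  obtain ⟨σ, hσ⟩ := hsec (g i) ⟨i⟩
  let φ := Spec.preimage ((Y i).fromSpecResidueField y ≫ g i)
  let := φ.hom.toAlgebra
  refine ⟨(Y i).residueField y, inferInstance, this, ⟨Over.homMk ((Y i).fromSpecResidueField y ≫ σ) ?_⟩⟩
  exact (Category.assoc _ _ _).trans ((congrArg _ hσ).trans (Spec.map_preimage _).symm)

/-- A torsor under an affine group over a field is affine. -/
theorem isAffine_of_point {G P : Over (Spec (CommRingCat.of k))} [GrpObj G] [IsAffine G.left] (a : AlgGrp.Action G P)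
    (ha : NonAbH1.IsPseudoTorsorSch a) {Ω : Type u} [Field Ω] [Algebra k Ω] (x : CoactBr.sp k Ω ⟶ P) :
    IsAffine P.left := by
  let T := CoactBr.sp k Ω
  obtain ⟨g, hg⟩ := exists_dot_eq a ha (snd T P) (fst T P ≫ x)
  let u : T ⊗ G ⟶ T ⊗ P := lift (fst T G) (dot a (snd T G) (fst T G ≫ x))
  let v : T ⊗ P ⟶ T ⊗ G := lift (fst T P) g
  have huv : u ≫ v = 𝟙 _ := by
    apply CartesianMonoidalCategory.hom_ext
    · simp [u, v]
    · rw [Category.assoc, lift_snd, Category.id_comp]
      refine dot_cancel a ha (x := fst T G ≫ x) ?_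
      have := congrArg (u ≫ ·) hg
      simpa [comp_dot, u] using this
  have hvu : v ≫ u = 𝟙 _ := by
    apply CartesianMonoidalCategory.hom_ext
    · simp [u, v]
    · rw [Category.assoc, lift_snd, Category.id_comp, comp_dot]
      simpa [v] using hg
  have : IsIso v := ⟨u, hvu, huv⟩
  have : IsIso v.left := inferInstanceAs (IsIso ((Over.forget _).map v))
  have : IsAffineHom G.hom := inferInstance
  have : IsAffineHom (fst T G).left := MorphismProperty.of_isPullback
    (IsPullback.of_hasPullback T.hom G.hom).flip ‹IsAffineHom G.hom›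
  have : IsAffineHom (fst T P).left := by
    rw [show fst T P = v ≫ fst T G from (lift_fst _ _).symm, Over.comp_left]
    infer_instance
  have hQ : Groth.EtaleBase.Fpqc T.hom := by
    haveI : Subsingleton ↥(Spec (CommRingCat.of k)) := inferInstanceAs (Subsingleton (PrimeSpectrum k))
    refine ⟨⟨⟨fun z => ⟨IsLocalRing.closedPoint Ω, Subsingleton.elim _ _⟩⟩, ?_⟩,
      inferInstanceAs (QuasiCompact (Spec.map (CommRingCat.ofHom (algebraMap k Ω))))⟩
    exact (HasRingHomProperty.Spec_iff (P := @Flat)).2 (RingHom.flat_algebraMap_iff.2 inferInstance)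
  have : IsAffineHom P.hom :=
    MorphismProperty.of_isPullback_of_descendsAlong (P := @IsAffineHom) (Q := Groth.EtaleBase.Fpqc)
      (IsPullback.of_hasPullback T.hom P.hom) hQ ‹IsAffineHom (fst T P).left›
  exact isAffine_of_isAffineHom P.hom

/-- The coaction and trivialisation attached to a torsor with a point. -/
theorem nonempty_datum {A B : Type u} [CommRing A] [HopfAlgebra k A] [CommRing B] [Algebra k B]
    {G P : Over (Spec (CommRingCat.of k))} [GrpObj G] (a : AlgGrp.Action G P) (ha : NonAbH1.IsPseudoTorsorSch a)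
    (eG : CoactBr.sp k A ≅ G) [IsMonHom eG.hom] (eP : CoactBr.sp k B ≅ P)
    {Ω : Type u} [Field Ω] [Algebra k Ω] (x : CoactBr.sp k Ω ⟶ P) :
    Nonempty (Groth.AffTorsorPoint.Datum k A B Ω) := by
  -- points of `P` and `G` are algebra maps
  have hP : ∀ {R : Type u} [CommRing R] [Algebra k R] (p : CoactBr.sp k R ⟶ P),
      ∃ f : B →ₐ[k] R, CoactBr.pt f ≫ eP.hom = p := fun p => by
    obtain ⟨f, hf⟩ := Groth.AlgGrp2.pt_surjective (p ≫ eP.inv)
    exact ⟨f, by rw [hf, Category.assoc, eP.inv_hom_id, Category.comp_id]⟩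
  have hG : ∀ {R : Type u} [CommRing R] [Algebra k R] (p : CoactBr.sp k R ⟶ G),
      ∃ f : A →ₐ[k] R, CoactBr.pt f ≫ eG.hom = p := fun p => by
    obtain ⟨f, hf⟩ := Groth.AlgGrp2.pt_surjective (p ≫ eG.inv)
    exact ⟨f, by rw [hf, Category.assoc, eG.inv_hom_id, Category.comp_id]⟩
  have injP : ∀ {R : Type u} [CommRing R] [Algebra k R] {f f' : B →ₐ[k] R},
      CoactBr.pt f ≫ eP.hom = CoactBr.pt f' ≫ eP.hom → f = f' := fun h =>
    CoactBr.pt_injective ((cancel_mono eP.hom).1 h)
  have injG : ∀ {R : Type u} [CommRing R] [Algebra k R] {f f' : A →ₐ[k] R},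
      CoactBr.pt f ≫ eG.hom = CoactBr.pt f' ≫ eG.hom → f = f' := fun h =>
    CoactBr.pt_injective ((cancel_mono eG.hom).1 h)
  let gA : CoactBr.sp k (A ⊗[k] Ω) ⟶ G := CoactBr.pt includeLeft ≫ eG.hom
  let xA : CoactBr.sp k (A ⊗[k] Ω) ⟶ P := CoactBr.pt includeRight ≫ x
  let xB : CoactBr.sp k (B ⊗[k] Ω) ⟶ P := CoactBr.pt includeRight ≫ x
  obtain ⟨φ₀, hφ₀⟩ := hP (dot a gA xA)
  obtain ⟨α, hα⟩ := hP (dot a (CoactBr.pt (includeLeft : A →ₐ[k] A ⊗[k] B) ≫ eG.hom)
    (CoactBr.pt includeRight ≫ eP.hom))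
  obtain ⟨g', hg'⟩ := exists_dot_eq a ha (CoactBr.pt (includeLeft : B →ₐ[k] B ⊗[k] Ω) ≫ eP.hom) xB
  obtain ⟨ψ₀, hψ₀⟩ := hG g'
  let φ : B ⊗[k] Ω →ₐ[k] A ⊗[k] Ω := productMap φ₀ includeRight
  let ψ : A ⊗[k] Ω →ₐ[k] B ⊗[k] Ω := productMap ψ₀ includeRight
  have e1 : φ.comp includeLeft = φ₀ := Algebra.TensorProduct.productMap_left _ _
  have e2 : φ.comp includeRight = includeRight := Algebra.TensorProduct.productMap_right _ _
  have e3 : ψ.comp includeLeft = ψ₀ := Algebra.TensorProduct.productMap_left _ _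
  have e4 : ψ.comp includeRight = includeRight := Algebra.TensorProduct.productMap_right _ _
  have hψφ : ψ.comp φ = AlgHom.id k _ := by
    refine Algebra.TensorProduct.ext (injP ?_) ?_
    swap
    · show (ψ.comp φ).comp includeRight = (AlgHom.id k _).comp includeRight
      rw [AlgHom.comp_assoc, e2, e4, AlgHom.id_comp]
    rw [AlgHom.comp_assoc, e1, CoactBr.pt_comp, Category.assoc, hφ₀, comp_dot, AlgHom.id_comp]
    simp only [gA, xA, ← Category.assoc, ← CoactBr.pt_comp, e3, e4, hψ₀]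
    exact hg'
  have hφψ : φ.comp ψ = AlgHom.id k _ := by
    refine Algebra.TensorProduct.ext (injG ?_) ?_
    swap
    · show (φ.comp ψ).comp includeRight = (AlgHom.id k _).comp includeRight
      rw [AlgHom.comp_assoc, e4, e2, AlgHom.id_comp]
    rw [AlgHom.comp_assoc, e3, CoactBr.pt_comp, Category.assoc, hψ₀, AlgHom.id_comp]
    refine dot_cancel a ha (x := xA) ?_
    have := congrArg (CoactBr.pt φ ≫ ·) hg'
    simp only [comp_dot, xB, ← Category.assoc, ← CoactBr.pt_comp, e1, e2, hφ₀] at this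
    exact this
  refine ⟨{ α := α, φ := AlgEquiv.ofAlgHom φ ψ hφψ hψφ, φ_right := fun w => DFunLike.congr_fun e2 w,
            equivariant := fun b => ?_ }⟩
  let m : A ⊗[k] Ω →ₐ[k] A ⊗[k] (A ⊗[k] Ω) := (Algebra.TensorProduct.assoc k k k A A Ω).toAlgHom.comp
    (Algebra.TensorProduct.map (Bialgebra.comulAlgHom k A) (AlgHom.id k Ω))
  let p : A ⊗[k] B →ₐ[k] A ⊗[k] (A ⊗[k] Ω) := Algebra.TensorProduct.map (AlgHom.id k A) φ₀
  suffices key : m.comp φ₀ = p.comp α by
    refine Eq.trans ?_ ((DFunLike.congr_fun key b).trans ?_)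
    · exact congrArg m (DFunLike.congr_fun e1 b)
    · exact congrArg (fun f => Algebra.TensorProduct.map (AlgHom.id k A) f (α b)) e1.symm
  apply injP
  let g1 : CoactBr.sp k (A ⊗[k] (A ⊗[k] Ω)) ⟶ G := CoactBr.pt includeLeft ≫ eG.hom
  have hp1 : p.comp includeLeft = includeLeft := Algebra.TensorProduct.map_comp_includeLeft _ _
  have hp2 : p.comp includeRight = includeRight.comp φ₀ :=
    Algebra.TensorProduct.map_comp_includeRight _ _
  have hm2 : m.comp includeRight = (includeRight : A ⊗[k] Ω →ₐ[k] A ⊗[k] (A ⊗[k] Ω)).comp includeRight :=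
    AlgHom.ext fun w => by simp [m, Algebra.TensorProduct.one_def]
  have hm1 : CoactBr.pt (m.comp includeLeft) ≫ eG.hom = g1 *
      (CoactBr.pt ((includeRight : A ⊗[k] Ω →ₐ[k] A ⊗[k] (A ⊗[k] Ω)).comp includeLeft) ≫ eG.hom) := by
    rw [← MonObj.mul_comp, CoactBr.pt_mul_pt]
    refine congrArg (fun f => CoactBr.pt f ≫ eG.hom) ?_
    have : (Algebra.TensorProduct.assoc k k k A A Ω).toAlgHom.comp includeLeft =
        Algebra.TensorProduct.lift (includeLeft : A →ₐ[k] A ⊗[k] (A ⊗[k] Ω))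
          ((includeRight : A ⊗[k] Ω →ₐ[k] A ⊗[k] (A ⊗[k] Ω)).comp includeLeft) (fun _ _ => .all _ _) := by
      ext u <;> simp [Algebra.TensorProduct.one_def]
    rw [← this]
    exact AlgHom.ext fun u => rfl
  rw [CoactBr.pt_comp φ₀ m, CoactBr.pt_comp α p, Category.assoc, Category.assoc, hφ₀, hα, comp_dot, comp_dot]
  simp only [gA, xA, ← Category.assoc, ← CoactBr.pt_comp, hp1, hp2, hm2, hm1]
  rw [CoactBr.pt_comp, CoactBr.pt_comp, CoactBr.pt_comp, mul_dot, Category.assoc _ _ eP.hom, hφ₀, comp_dot]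
  simp only [g1, gA, xA, Category.assoc]

/-- Let k be an algebraically closed field and G an affine group scheme over k, not necessarily of
finite type. Then every principal G-bundle over Spec k, that is every k-scheme with a G-action which
is a pseudo-torsor and acquires sections on the members of some fpqc covering family of Spec k, is
trivial: it has a k-point. -/
theorem result (k : Type u) [Field k] [IsAlgClosed k]
    (G : Over (Spec (CommRingCat.of k))) [GrpObj G] [IsAffine G.left]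
    (P : Over (Spec (CommRingCat.of k))) (a : AlgGrp.Action G P)
    (hP : NonAbH1.IsTorsorFor Scheme.fpqcPrecoverage a) :
    Nonempty (𝟙_ (Over (Spec (CommRingCat.of k))) ⟶ P) := by
  obtain ⟨hps, htriv⟩ := hP
  obtain ⟨Ω, _, _, ⟨x⟩⟩ := exists_field_point htriv
  have : IsAffine P.left := isAffine_of_point a hps x
  obtain ⟨A, ⟨e⟩⟩ := Groth.Misc7.AffineGroupPoints.exists_hopf G
  let eG : CoactBr.sp k A ≅ G := (Grp.forget _).mapIso e
  have : IsMonHom eG.hom := e.hom.hom.isMonHom_hom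
  obtain ⟨B, ⟨e₁⟩⟩ : (algSpec (CommRingCat.of k)).essImage P := essImage_algSpec.2 ‹_›
  let eP : CoactBr.sp k B.unop ≅ P := e₁
  obtain ⟨D⟩ := nonempty_datum a hps eG eP x
  obtain ⟨g⟩ := D.exists_point
  have hid : Spec.map (CommRingCat.ofHom (algebraMap k k)) = 𝟙 (Spec (CommRingCat.of k)) := Spec.map_id _
  let iU : 𝟙_ (Over (Spec (CommRingCat.of k))) ≅ CoactBr.sp k k :=
    Over.isoMk (Iso.refl _) (by
      show 𝟙 _ ≫ Spec.map (CommRingCat.ofHom (algebraMap k k)) = 𝟙 _
      rw [hid, Category.id_comp])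
  exact ⟨iU.hom ≫ CoactBr.pt g ≫ eP.hom⟩

end Groth.Agent.S14535
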