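import Groth.Statements.S1454
import Groth.Agent.EGA43Topo.UnibranchApps
import Groth.Agent.FibreDim.Smooth

set_option autoImplicit false
universe u
open FlatMor

namespace Groth.Agent.S1454

open AlgebraicGeometry CategoryTheory Limits in
/-- Consider a locally quasi-finite f : X → Y whose target is locally Noetherian with geometrically
unibranch local rings, and assume every irreducible component of X dominates an irreducible
component of Y (its generic point maps to a generic point of an irreducible component of Y). Then f
is universally open. -/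
theorem result {X Y : Scheme.{u}} (f : X ⟶ Y) [LocallyQuasiFinite f] [LocallyOfFiniteType f] [IsLocallyNoetherian Y]
    (hY : ∀ y : Y, CAlg2.IsGeomUnibranch (Y.presheaf.stalk y))
    (hdom : ∀ Z ∈ irreducibleComponents ↑X, ∀ x : X, IsGenericPoint x Z → ∃ W ∈ irreducibleComponents ↑Y, IsGenericPoint (f x) W) :
    UniversallyOpen f := by
  rw [Groth.EGA43Topo.universallyOpen_iff_forall_isUnivOpenAt]
  refine fun x => Groth.EGA43Topo.isUnivOpenAt_of_max fun z _ _ hz => ?_
  obtain ⟨ξ, hξ, hξz⟩ := Groth.FibreDim.exists_max_specializes (X := X) z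
  obtain ⟨W, hW, hWg⟩ := hdom _ (Groth.FibreDim.mem_irreducibleComponents_of_isMax hξ) ξ rfl
  refine Groth.EGA43Topo.isUnivOpenAt_of_component f hz (hY _) hξz
    (Groth.FibreDim.isMax_of_mem_genericPoints (by rw [hWg.def]; exact hW))
    (fun w _ hw => (hw.antisymm (hξ hw)).eq) ?_
  rw [Groth.FibreDim.fibreDimAt_eq_zero_of_locallyQuasiFinite, Groth.FibreDim.fibreDimAt_eq_zero_of_locallyQuasiFinite]

end Groth.Agent.S1454
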