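import Groth.Statements.S14540
import Groth.Agent.Misc8.TorsorPts
import Groth.Agent.Pi1Desc.Fpqc

set_option autoImplicit false
set_option backward.isDefEq.respectTransparency false
set_option backward.defeqAttrib.useBackward true
universe u
open CategoryTheory MonoidalCategory CartesianMonoidalCategory MonObj GrpObj AlgebraicGeometry
open PrincBund

namespace Groth.Agent.S14540

open CategoryTheory.Limits Pi1Tors TorsorPts
open Groth.Pi1Desc

/-- Effective descent of affine morphisms along fpqc covers which need not be quasi-compact. -/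
theorem eff_of_isCover {V X S : Scheme.{u}} {h : V ⟶ X} {p : X ⟶ S} [IsAffineHom h] [IsCover p]
    (A : Act h p) : A.Eff := by
  refine Act.eff_of_cover fun z => ?_
  obtain ⟨_, ⟨O, hO, rfl⟩, hzO, -⟩ :=
    S.isBasis_affineOpens.exists_subset_of_mem_open (Set.mem_univ ((h ≫ p) z)) isOpen_univ
  change S.Opens at O
  refine ⟨_, hzO, A.stable_preimage O, A.effOn_preimage ?_⟩
  haveI : IsAffine (Scheme.Opens.toScheme O) := hO
  obtain ⟨n, c, _, W, hWa, -, hWO, hcov⟩ := exists_affine_refinement (p := p) hO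
    (κ := fun _ => PUnit.{1}) (fun _ _ => ⊤) (fun _ => ⟨⟨⟩, trivial⟩)
  haveI : ∀ l, IsAffine (W l).toScheme := hWa
  let Y : Fin n → Scheme.{u} := fun l => (W l).toScheme
  let a : ∀ l, Y l ⟶ (p ⁻¹ᵁ O).toScheme := fun l => X.homOfLE (hWO l)
  let f := Sigma.desc a
  haveI : Flat f := IsZariskiLocalAtSource.sigmaDesc fun l => inferInstance
  haveI : Flat p := IsCover.flat
  haveI : Flat (p ∣_ O) := IsZariskiLocalAtTarget.restrict ‹_› O
  haveI : Surjective (f ≫ p ∣_ O) := ⟨fun y => by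
    obtain ⟨l, x, hx, hxy⟩ := hcov (O.ι y) y.2
    refine ⟨Sigma.ι Y l ⟨x, hx⟩, O.ι.isOpenEmbedding.injective ?_⟩
    rw [← Scheme.Hom.comp_apply, ← Scheme.Hom.comp_apply]
    simp only [f, Category.assoc, morphismRestrict_ι, Sigma.ι_desc_assoc, a, Scheme.homOfLE_ι_assoc]
    exact hxy⟩
  haveI : IsAffine (∐ Y : Scheme.{u}) := inferInstance
  haveI : QuasiCompact (f ≫ p ∣_ O) := (quasiCompact_iff_compactSpace _).2 inferInstance
  haveI : IsAffineHom (h ∣_ (p ⁻¹ᵁ O)) :=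
    MorphismProperty.of_isPullback (isPullback_morphismRestrict h (p ⁻¹ᵁ O)).flip ‹_›
  haveI : IsAffineHom (pullback.snd (h ∣_ (p ⁻¹ᵁ O)) f) := MorphismProperty.pullback_snd _ _ ‹_›
  haveI : IsAffine (pullback (h ∣_ (p ⁻¹ᵁ O)) f) := isAffine_of_isAffineHom (pullback.snd (h ∣_ (p ⁻¹ᵁ O)) f)
  exact Act.eff_of_refine _ (IsPullback.of_hasPullback _ f) (Act.eff_of_isAffine _)

/-- An fpqc family has a refinement indexed in the universe of the scheme. -/
theorem exists_small_refinement {S : Scheme.{u}} {I : Type (u + 1)} (Y : I → Scheme.{u}) (g : ∀ i, Y i ⟶ S)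
    (hR : Presieve.ofArrows Y g ∈ Scheme.fpqcPrecoverage S) :
    ∃ (K : Type u) (c : K → I),
      Presieve.ofArrows (fun k => Y (c k)) (fun k => g (c k)) ∈ Scheme.fpqcPrecoverage S := by
  let E : PreZeroHypercover.{u + 1} S := ⟨I, Y, g⟩
  haveI : QuasiCompactCover E := Scheme.presieve₀_mem_qcPrecoverage_iff.1 hR.1
  let E' := QuasiCompactCover.ulift E
  refine ⟨E'.I₀, (QuasiCompactCover.uliftHom E).s₀, ⟨?_, ?_⟩⟩
  · exact (Scheme.presieve₀_mem_qcPrecoverage_iff (E := E')).2 inferInstance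
  · refine (Scheme.ofArrows_mem_precoverage_iff _).2
      ⟨fun y => ?_, fun k => ((Scheme.ofArrows_mem_precoverage_iff _).1 hR.2).2 _⟩
    obtain ⟨_, ⟨O, hO, rfl⟩, hyO, -⟩ :=
      S.isBasis_affineOpens.exists_subset_of_mem_open (Set.mem_univ y) isOpen_univ
    obtain ⟨s, hs, V, -, hV⟩ := hO.isCompactOpenCovered E'
    rw [← hV] at hyO
    simp only [Set.mem_iUnion, Set.mem_image] at hyO
    obtain ⟨k, -, z, -, hz⟩ := hyO
    exact ⟨k, z, hz⟩

theorem locSurj_of_isCover {S : Scheme.{u}} {W Q : Over S} (q : W ⟶ Q) [IsCover q.left] : LocSurj q :=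
  LocSurj.of_isLocallyTrivialFor q ⟨Presieve.singleton q.left, IsCover.mem_fpqc q.left, by
    rintro S' h ⟨⟩; exact ⟨𝟙 _, Category.id_comp _⟩⟩

section Div

variable {S : Scheme.{u}} {J P : Over S} [GrpObj J] (a : AlgGrp.Action J P) (ha : NonAbH1.IsPseudoTorsorSch a)

/-- The group element carrying `x` to `y`. -/
noncomputable def div {T : Over S} (x y : T ⟶ P) : T ⟶ J := (exists_dot_eq a ha y x).choose

theorem div_dot {T : Over S} (x y : T ⟶ P) : dot a (div a ha x y) x = y := (exists_dot_eq a ha y x).choose_spec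

theorem div_eq {T : Over S} {x y : T ⟶ P} {g : T ⟶ J} (h : dot a g x = y) : div a ha x y = g :=
  dot_cancel a ha ((div_dot a ha x y).trans h.symm)

theorem div_self {T : Over S} (x : T ⟶ P) : div a ha x x = 1 := div_eq a ha (one_dot a x)

theorem div_mul {T : Over S} (x y z : T ⟶ P) : div a ha y z * div a ha x y = div a ha x z :=
  (div_eq a ha (by rw [mul_dot, div_dot, div_dot])).symm

theorem div_inv {T : Over S} (x y : T ⟶ P) : (div a ha x y)⁻¹ = div a ha y x :=
  inv_eq_of_mul_eq_one_left (by rw [div_mul, div_self])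

theorem comp_div {T T' : Over S} (e : T' ⟶ T) (x y : T ⟶ P) :
    e ≫ div a ha x y = div a ha (e ≫ x) (e ≫ y) :=
  (div_eq a ha (by rw [← comp_dot, div_dot])).symm

end Div

theorem main {X : Scheme.{u}} {J J' : Over X} [GrpObj J] [GrpObj J'] [IsAffineHom J'.hom]
    (u : J ⟶ J') [IsMonHom u] {P : Over X} (a : AlgGrp.Action J P)
    (hP : NonAbH1.IsTorsorFor Scheme.fpqcPrecoverage a) :
    ∃ (P' : Over X) (a' : AlgGrp.Action J' P'),
      NonAbH1.IsTorsorFor Scheme.fpqcPrecoverage a' ∧ NonAbH1.IsPushforwardAlongSch u a a' := by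
  obtain ⟨hps, R, hR, hsec⟩ := hP
  obtain ⟨I₀, Y₀, g₀, rfl⟩ := R.exists_eq_ofArrows
  obtain ⟨I, sel, hsmall⟩ := exists_small_refinement Y₀ g₀ hR
  choose σ hσ using fun i => hsec (g₀ (sel i)) ⟨sel i⟩
  let Y : I → Scheme.{u} := fun i => Y₀ (sel i)
  let g : ∀ i, Y i ⟶ X := fun i => g₀ (sel i)
  let p : (∐ Y : Scheme.{u}) ⟶ X := Sigma.desc g
  haveI : IsCover p := isCover_sigmaDesc g hsmall
  let C : Over X := Over.mk p
  let s : C ⟶ P := Over.homMk (Sigma.desc σ) (Limits.Sigma.hom_ext _ _ fun i => by simp [C, p, g, hσ i])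
  -- the descent datum on the trivial torsor
  let mv : ∀ {T : Over X} (v : T ⟶ J' ⊗ C) (x : T ⟶ C), T ⟶ J' ⊗ C := fun {T} v x =>
    lift ((v ≫ fst J' C) * (div a hps ((v ≫ snd J' C) ≫ s) (x ≫ s) ≫ u)⁻¹) x
  have hmv : ∀ {T T' : Over X} (e : T' ⟶ T) (v : T ⟶ J' ⊗ C) (x : T ⟶ C), e ≫ mv v x = mv (e ≫ v) (e ≫ x) := by
    intro T T' e v x
    simp only [mv, comp_lift, MonObj.comp_mul, GrpObj.comp_inv, ← Category.assoc, comp_div]
  have hcond : ∀ {T : Scheme.{u}} (v : T ⟶ (J' ⊗ C).left) (x : T ⟶ C.left),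
      v ≫ (snd J' C).left ≫ p = x ≫ p → v ≫ (J' ⊗ C).hom = x ≫ p := fun v x e => by
    rw [← Over.w (snd J' C)]; exact e
  let lv : ∀ {T : Scheme.{u}} (v : T ⟶ (J' ⊗ C).left) (x : T ⟶ C.left) (e : v ≫ (snd J' C).left ≫ p = x ≫ p),
      (Over.mk (x ≫ p) ⟶ J' ⊗ C) := fun v x e => Over.homMk v (hcond v x e)
  let lx : ∀ {T : Scheme.{u}} (x : T ⟶ C.left), (Over.mk (x ≫ p) ⟶ C) := fun x => Over.homMk x rfl
  let act : ∀ {T : Scheme.{u}} (v : T ⟶ (J' ⊗ C).left) (x : T ⟶ C.left), v ≫ (snd J' C).left ≫ p = x ≫ p →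
      (T ⟶ (J' ⊗ C).left) := fun v x e => (mv (lv v x e) (lx x)).left
  have hact : ∀ {T : Over X} (v : T ⟶ J' ⊗ C) (x : T ⟶ C) (e : v.left ≫ (snd J' C).left ≫ p = x.left ≫ p),
      act v.left x.left e = (mv v x).left := by
    intro T v x e
    let ε : Over.mk (x.left ≫ p) ⟶ T := Over.homMk (𝟙 T.left) (by
      show 𝟙 _ ≫ T.hom = x.left ≫ p
      rw [Category.id_comp]; exact (Over.w x).symm)
    have h1 : ε ≫ v = lv v.left x.left e := Over.OverMorphism.ext (Category.id_comp _)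
    have h2 : ε ≫ x = lx x.left := Over.OverMorphism.ext (Category.id_comp _)
    show (mv (lv v.left x.left e) (lx x.left)).left = _
    rw [← h1, ← h2, ← hmv, Over.comp_left]
    exact Category.id_comp _
  let A : Act (snd J' C).left p :=
    { act := act
      act_hom := fun v x e => by
        show (mv (lv v x e) (lx x)).left ≫ (snd J' C).left = x
        rw [← Over.comp_left, lift_snd]
        rfl
      act_self := fun v x e hx => by
        have h1 : lv v x e ≫ snd J' C = lx x := Over.OverMorphism.ext hx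
        show (mv (lv v x e) (lx x)).left = v
        simp only [mv, h1, div_self, MonObj.one_comp, inv_one, _root_.mul_one]
        conv_lhs => rw [← h1, ← comp_lift, lift_fst_snd, Category.comp_id]
        rfl
      act_act := fun {T} v x y e e' e'' => by
        have hxy : y ≫ C.hom = x ≫ p := e'.symm.trans e
        let y' : Over.mk (x ≫ p) ⟶ C := Over.homMk y hxy
        refine (hact (mv (lv v x e) (lx x)) y' e'').trans ?_
        refine Eq.trans ?_ (hact (lv v x e) y' e').symm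
        refine congrArg Over.Hom.left ?_
        simp only [mv, lift_fst, lift_snd, _root_.mul_assoc]
        congr 2
        rw [← _root_.mul_inv_rev, ← MonObj.mul_comp, div_mul]
      act_comp := fun {T T'} g' v x e e' => by
        have key := hact ((Over.homMk g' rfl : Over.mk (g' ≫ x ≫ p) ⟶ Over.mk (x ≫ p)) ≫ lv v x e)
          ((Over.homMk g' rfl : Over.mk (g' ≫ x ≫ p) ⟶ Over.mk (x ≫ p)) ≫ lx x) e'
        rw [← hmv] at key
        exact key }
  haveI : IsAffineHom (snd J' C).left := MorphismProperty.pullback_snd J'.hom C.hom ‹_›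
  obtain ⟨U, π, q₀, hpb, hcompat⟩ := eff_of_isCover A
  let P' : Over X := Over.mk π
  let qX : J' ⊗ C ⟶ P' := Over.homMk q₀ (by
    show q₀ ≫ π = (J' ⊗ C).hom
    rw [hpb.w]; exact Over.w (snd J' C))
  haveI : IsCover qX.left := IsCover.of_isPullback hpb.flip
  have hq : LocSurj qX := locSurj_of_isCover qX
  -- points of the quotient
  have inv : ∀ {T : Over X} (j : T ⟶ J') (x y : T ⟶ C),
      lift (j * (div a hps (x ≫ s) (y ≫ s) ≫ u)⁻¹) y ≫ qX = lift j x ≫ qX := by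
    intro T j x y
    have e : (lift j x : T ⟶ J' ⊗ C).left ≫ (snd J' C).left ≫ p = y.left ≫ p := by
      rw [← Category.assoc, ← Over.comp_left, lift_snd]
      exact (Over.w x).trans (Over.w y).symm
    have h1 := hact (lift j x) y e
    have h2 := hcompat _ _ _ e
    refine Over.OverMorphism.ext ?_
    simp only [mv, lift_fst, lift_snd] at h1
    exact (congrArg (· ≫ q₀) h1).symm.trans h2
  have sep : ∀ {T : Over X} (j j' : T ⟶ J') (x x' : T ⟶ C), lift j x ≫ qX = lift j' x' ≫ qX →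
      j' = j * (div a hps (x ≫ s) (x' ≫ s) ≫ u)⁻¹ := by
    intro T j j' x x' h
    have : lift (j * (div a hps (x ≫ s) (x' ≫ s) ≫ u)⁻¹) x' = lift j' x' := by
      refine Over.OverMorphism.ext (hpb.hom_ext ?_ ?_)
      · exact congrArg Over.Hom.left ((inv j x x').trans h)
      · exact congrArg Over.Hom.left (show lift _ x' ≫ snd J' C = lift j' x' ≫ snd J' C by rw [lift_snd, lift_snd])
    simpa using (congrArg (· ≫ fst J' C) this).symm
  have cov : ∀ {T : Over X} (w : T ⟶ P'), ∃ (T' : Over X) (e : T' ⟶ T) (j : T' ⟶ J') (x : T' ⟶ C),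
      LocSurj e ∧ e ≫ w = lift j x ≫ qX := by
    intro T w
    obtain ⟨T', e, z, he, hz⟩ := exists_cover hq w
    exact ⟨T', e, z ≫ fst J' C, z ≫ snd J' C, he, by rw [← comp_lift, lift_fst_snd, Category.comp_id, hz]⟩
  -- the action
  let θ : J' ⊗ (J' ⊗ C) ⟶ P' :=
    lift (fst J' (J' ⊗ C) * (snd J' (J' ⊗ C) ≫ fst J' C)) (snd J' (J' ⊗ C) ≫ snd J' C) ≫ qX
  have hθ : ∀ {T : Over X} (z : T ⟶ J' ⊗ (J' ⊗ C)),
      z ≫ θ = lift ((z ≫ fst _ _) * ((z ≫ snd _ _) ≫ fst J' C)) ((z ≫ snd _ _) ≫ snd J' C) ≫ qX := by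
    intro T z
    simp only [θ, ← Category.assoc, comp_lift, MonObj.comp_mul]
  obtain ⟨c₀, hc₀⟩ := (locSurj_whiskerLeft J' hq).desc θ fun T z z' hzz => by
    have h1 : z ≫ fst _ _ = z' ≫ fst _ _ := by simpa using congrArg (· ≫ fst J' P') hzz
    have h2 : lift ((z ≫ snd _ _) ≫ fst J' C) ((z ≫ snd _ _) ≫ snd J' C) ≫ qX =
        lift ((z' ≫ snd _ _) ≫ fst J' C) ((z' ≫ snd _ _) ≫ snd J' C) ≫ qX := by
      rw [← comp_lift, ← comp_lift, lift_fst_snd, Category.comp_id, Category.comp_id]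
      simpa using congrArg (· ≫ snd J' P') hzz
    rw [hθ, hθ, sep _ _ _ _ h2, ← h1, ← _root_.mul_assoc, inv]
  have hc : ∀ {T : Over X} (r j : T ⟶ J') (x : T ⟶ C),
      lift r (lift j x ≫ qX) ≫ c₀ = lift (r * j) x ≫ qX := by
    intro T r j x
    rw [← lift_whiskerLeft, Category.assoc, hc₀, hθ]
    simp
  let c : AlgGrp.Action J' P' := mkAction c₀
    (fun T w => by
      obtain ⟨T', e, j, x, he, hw⟩ := cov w
      refine he.cancel ?_
      rw [← Category.assoc, comp_lift, MonObj.comp_one, hw, hc, _root_.one_mul])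
    (fun T r₁ r₂ w => by
      obtain ⟨T', e, j, x, he, hw⟩ := cov w
      refine he.cancel ?_
      simp only [← Category.assoc, comp_lift, MonObj.comp_mul, hw, hc, _root_.mul_assoc])
  have hcuniq : ∀ (T : Over X) (r₁ r₂ : T ⟶ J') (w : T ⟶ P'), dot c r₁ w = dot c r₂ w → r₁ = r₂ := by
    intro T r₁ r₂ w h
    obtain ⟨T', e, j, x, he, hw⟩ := cov w
    refine he.cancel ?_
    have h' := congrArg (e ≫ ·) h
    simp only [comp_dot, hw] at h'
    change lift (e ≫ r₁) (lift j x ≫ qX) ≫ c₀ = lift (e ≫ r₂) (lift j x ≫ qX) ≫ c₀ at h'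
    rw [hc, hc] at h'
    have h2 := sep _ _ _ _ h'
    rw [div_self, MonObj.one_comp, inv_one, _root_.mul_one] at h2
    exact (mul_right_cancel h2).symm
  have hcex : ∀ (T : Over X) (w w' : T ⟶ P'), ∃ r : T ⟶ J', dot c r w' = w := by
    intro T w w'
    obtain ⟨T₁, e₁, j, x, he₁, hw⟩ := cov w
    obtain ⟨T₂, e₂, j', x', he₂, hw'⟩ := cov (e₁ ≫ w')
    let j'' := j' * (div a hps (x' ≫ s) ((e₂ ≫ x) ≫ s) ≫ u)⁻¹
    have hsol : dot c ((e₂ ≫ j) * j''⁻¹) ((e₂ ≫ e₁) ≫ w') = (e₂ ≫ e₁) ≫ w := by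
      rw [Category.assoc, Category.assoc, hw', hw, ← inv j' x' (e₂ ≫ x), ← Category.assoc, comp_lift]
      show lift _ (lift j'' (e₂ ≫ x) ≫ qX) ≫ c₀ = _
      rw [hc, inv_mul_cancel_right]
    obtain ⟨r, hr⟩ := (locSurj_comp he₂ he₁).desc ((e₂ ≫ j) * j''⁻¹) fun W z₁ z₂ hz => by
      refine hcuniq W _ _ ((z₁ ≫ e₂ ≫ e₁) ≫ w') ?_
      have h1 := congrArg (z₁ ≫ ·) hsol
      have h2 := congrArg (z₂ ≫ ·) hsol
      simp only [comp_dot, ← Category.assoc] at h1 h2
      simp only [← Category.assoc] at hz ⊢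
      rw [h1]
      conv_rhs => rw [hz]
      rw [h2, hz]
    refine ⟨r, (locSurj_comp he₂ he₁).cancel ?_⟩
    rw [comp_dot, hr, hsol]
  refine ⟨P', c, ⟨isPseudoTorsor_of_points c hcex hcuniq, ?_⟩, ?_⟩
  · refine ⟨Presieve.ofArrows Y g, hsmall, ?_⟩
    rintro S' f ⟨i⟩
    refine ⟨(Sigma.ι (fun i => Y₀ (sel i)) i : Y₀ (sel i) ⟶ C.left) ≫ (lift (1 : C ⟶ J') (𝟙 C) ≫ qX).left, ?_⟩
    rw [Category.assoc, Over.w]
    exact Sigma.ι_desc _ _
  -- the map from `P`
  have hfst : LocSurj (fst P C) := by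
    refine (locSurj_toUnit ?_).fst P
    refine ⟨Presieve.singleton p, IsCover.mem_fpqc p, ?_⟩
    rintro S' h ⟨⟩
    exact ⟨𝟙 _, Category.id_comp _⟩
  let ψ : ∀ {T : Over X}, (T ⟶ P) → (T ⟶ C) → (T ⟶ P') := fun y x => lift (div a hps (x ≫ s) y ≫ u) x ≫ qX
  have hψ : ∀ {T : Over X} (y : T ⟶ P) (x x' : T ⟶ C), ψ y x = ψ y x' := by
    intro T y x x'
    show lift _ x ≫ qX = lift _ x' ≫ qX
    rw [← inv (div a hps (x ≫ s) y ≫ u) x x', ← GrpObj.inv_comp, ← MonObj.mul_comp, div_inv, div_mul]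
  have hψn : ∀ {T T' : Over X} (e : T' ⟶ T) (y : T ⟶ P) (x : T ⟶ C), e ≫ ψ y x = ψ (e ≫ y) (e ≫ x) := by
    intro T T' e y x
    simp only [ψ, ← Category.assoc, comp_lift, comp_div]
  obtain ⟨F, hF⟩ := hfst.desc (ψ (fst P C) (snd P C)) fun T z z' hz => by
    rw [hψn, hψn, hz, hψ]
  have hFv : ∀ {T : Over X} (y : T ⟶ P) (x : T ⟶ C), y ≫ F = ψ y x := by
    intro T y x
    have := congrArg (lift y x ≫ ·) hF
    simp only [lift_fst_assoc, hψn, lift_fst, lift_snd] at this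
    exact this
  refine ⟨F, ?_⟩
  obtain ⟨T', e, z, he, hz⟩ := exists_cover hfst (snd J P)
  let x : T' ⟶ C := z ≫ snd P C
  refine he.cancel ?_
  have e1 : e ≫ a.act = dot a (e ≫ fst J P) (e ≫ snd J P) := by rw [← comp_dot, ← act_eq_dot]
  have e2 : e ≫ lift (fst J P ≫ u) (snd J P ≫ F) ≫ c.act = dot c ((e ≫ fst J P) ≫ u) ((e ≫ snd J P) ≫ F) := by
    rw [dot, ← Category.assoc, comp_lift, Category.assoc, Category.assoc]
  rw [← Category.assoc, e1, e2, hFv _ x, hFv _ x]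
  show _ = lift _ (lift _ x ≫ qX) ≫ c₀
  rw [hc, ← MonObj.mul_comp]
  show lift _ x ≫ qX = _
  congr 3
  exact div_eq a hps (by rw [mul_dot, div_dot])


/-- Let X be a scheme, J and J' group schemes affine over X, with no flatness or finiteness condition, u
: J → J' a homomorphism and P a J-torsor for the fpqc topology. Then the push forward of P along u
exists: there is a J'-torsor P' for the fpqc topology together with an X-morphism P → P' compatible
with u. -/
theorem result {X : Scheme.{u}}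
    {J J' : Over X} [GrpObj J] [GrpObj J'] [IsAffineHom J.hom] [IsAffineHom J'.hom]
    (u : J ⟶ J') [IsMonHom u] (P : NonAbH1.TorsorSch J Scheme.fpqcPrecoverage) :
    ∃ P' : NonAbH1.TorsorSch J' Scheme.fpqcPrecoverage,
      NonAbH1.IsPushforwardAlongSch u P.act P'.act := by
  obtain ⟨P', a', h₁, h₂⟩ := main u P.act P.isTorsor
  exact ⟨⟨P', a', h₁⟩, h₂⟩

end Groth.Agent.S14540
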