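import Groth.Statements.S14541
import Groth.Agent.H1Proper.FpqcLocal
set_option backward.isDefEq.respectTransparency false
set_option backward.isDefEq.respectTransparency.types false

set_option autoImplicit false
universe u
open CategoryTheory MonoidalCategory CartesianMonoidalCategory MonObj GrpObj AlgebraicGeometry
open PrincBund

open CategoryTheory.MonoidalCategory CategoryTheory.CartesianMonoidalCategory CategoryTheory.Limits

namespace Groth.Agent.S14541

/-- Let X be a scheme, J, J' and J'' group schemes affine over X, with no flatness or finiteness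
condition, u : J → J' and v : J' → J'' homomorphisms, P a J-torsor, P' a J'-torsor and P'' a
J''-torsor, all for the fpqc topology, q' : P → P' an X-morphism compatible with u and q'' : P → P''
an X-morphism compatible with the composite homomorphism J → J' → J''. Then there is exactly one
X-morphism r : P' → P'' compatible with v whose composite with q' is q''. Taking v to be the
identity, the push forward of a torsor along u is unique up to unique isomorphism. -/
theorem result {X : Scheme.{u}}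
    {J J' J'' : Over X} [GrpObj J] [GrpObj J'] [GrpObj J''] [IsAffineHom J.hom] [IsAffineHom J'.hom]
    [IsAffineHom J''.hom] (u : J ⟶ J') [IsMonHom u] (v : J' ⟶ J'') [IsMonHom v] {P P' P'' : Over X}
    (a : AlgGrp.Action J P) (a' : AlgGrp.Action J' P') (a'' : AlgGrp.Action J'' P'')
    (hP : NonAbH1.IsTorsorFor Scheme.fpqcPrecoverage a)
    (hP' : NonAbH1.IsTorsorFor Scheme.fpqcPrecoverage a')
    (hP'' : NonAbH1.IsTorsorFor Scheme.fpqcPrecoverage a'')
    (q' : P ⟶ P') (hq' : a.act ≫ q' = lift (fst J P ≫ u) (snd J P ≫ q') ≫ a'.act)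
    (q'' : P ⟶ P'') (hq'' : a.act ≫ q'' = lift (fst J P ≫ u ≫ v) (snd J P ≫ q'') ≫ a''.act) :
    ∃! r : P' ⟶ P'', a'.act ≫ r = lift (fst J' P' ≫ v) (snd J' P' ≫ r) ≫ a''.act ∧ q' ≫ r = q'' := by
  obtain ⟨R, hR, hsec⟩ := hP.2
  obtain ⟨I, Y, g, rfl⟩ := R.exists_eq_ofArrows
  choose s₀ hs₀ using fun i : I => hsec (g i) ⟨i⟩
  let F : ∀ {Z : Over X}, (Z ⟶ P') → (Z ⟶ P) → (Z ⟶ P'') := fun x p =>
    lift (Groth.NeronArea.torsorDiv a' hP'.1 x (p ≫ q') ≫ v) (p ≫ q'') ≫ a''.act
  have hpt : ∀ {Z : Over X} {K K' : Over X} [GrpObj K] [GrpObj K'] {A A' : Over X} (b : AlgGrp.Action K A)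
      (b' : AlgGrp.Action K' A') (w : K ⟶ K') (r : A ⟶ A'),
      b.act ≫ r = lift (fst K A ≫ w) (snd K A ≫ r) ≫ b'.act →
      ∀ (d : Z ⟶ K) (y : Z ⟶ A), (lift d y ≫ b.act) ≫ r = lift (d ≫ w) (y ≫ r) ≫ b'.act := by
    intro Z K K' _ _ A A' b b' w r h d y
    rw [Category.assoc, h, ← Category.assoc, comp_lift, lift_fst_assoc, lift_snd_assoc]
  have hF : ∀ {Z : Over X} (x : Z ⟶ P') (p₁ p₂ : Z ⟶ P), F x p₁ = F x p₂ := by
    intro Z x p₁ p₂
    let d := Groth.NeronArea.torsorDiv a hP.1 p₁ p₂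
    let e := Groth.NeronArea.torsorDiv a' hP'.1 x (p₁ ≫ q')
    have hd : lift d p₂ ≫ a.act = p₁ := Groth.NeronArea.torsorDiv_act a hP.1 p₁ p₂
    have h1 : Groth.NeronArea.torsorDiv a' hP'.1 x (p₂ ≫ q') = e * (d ≫ u) := by
      refine Groth.NeronArea.torsor_cancel a' hP'.1 _ _ (p₂ ≫ q') ?_
      rw [Groth.NeronArea.torsorDiv_act, Groth.H1Proper.lift_mul_act', ← hpt a a' u q' hq', hd,
        Groth.NeronArea.torsorDiv_act]
    show _ = lift (Groth.NeronArea.torsorDiv a' hP'.1 x (p₂ ≫ q') ≫ v) (p₂ ≫ q'') ≫ a''.act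
    rw [h1, MonObj.mul_comp, Groth.H1Proper.lift_mul_act', Category.assoc, ← hpt a a'' (u ≫ v) q'' hq'', hd]
  have hnat : ∀ {Z Z' : Over X} (h : Z' ⟶ Z) (x : Z ⟶ P') (p : Z ⟶ P), h ≫ F x p = F (h ≫ x) (h ≫ p) := by
    intro Z Z' h x p
    simp only [F, ← Category.assoc, comp_lift]
    congr 3
    simp only [Groth.NeronArea.torsorDiv, ← Category.assoc, comp_lift]
  have hEq : ∀ {Z : Over X} (e : Z ⟶ J') (x : Z ⟶ P') (p : Z ⟶ P),
      F (lift e x ≫ a'.act) p = lift (e ≫ v) (F x p) ≫ a''.act := by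
    intro Z e x p
    show _ = lift _ (lift _ _ ≫ a''.act) ≫ a''.act
    rw [← Groth.H1Proper.lift_mul_act', ← MonObj.mul_comp]
    show lift (Groth.NeronArea.torsorDiv a' hP'.1 (lift e x ≫ a'.act) (p ≫ q') ≫ v) _ ≫ _ = _
    congr 3
    refine Groth.NeronArea.torsor_cancel a' hP'.1 _ _ (p ≫ q') ?_
    rw [Groth.NeronArea.torsorDiv_act, Groth.H1Proper.lift_mul_act', Groth.NeronArea.torsorDiv_act]
  -- descent along the cover
  have hsheaf : ∀ (W : Over X) (Z : Scheme.{u}),
      (Presieve.ofArrows (fun i => pullback W.hom (g i)) (fun i => pullback.fst W.hom (g i))).IsSheafFor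
        (yoneda.obj Z) := fun W Z => by
    let 𝒰 : Scheme.Cover Scheme.fpqcPrecoverage X := { I₀ := I, X := Y, f := g, mem₀ := hR }
    have hm : Presieve.ofArrows (fun i => pullback W.hom (g i)) (fun i => pullback.fst W.hom (g i)) ∈
        Scheme.fpqcPrecoverage W.left := (𝒰.pullback₁ W.hom).mem₀
    have hg := Precoverage.generate_mem_toGrothendieck hm
    exact (GrothendieckTopology.Subcanonical.isSheaf_of_isRepresentable (J := Scheme.fpqcTopology) _).isSheafFor _ hg
  have hglue : ∀ (W : Over X) (Z : Over X) (x : ∀ i, Over.mk (pullback.fst W.hom (g i) ≫ W.hom) ⟶ Z),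
      (∀ (T : Over X) (i j : I) (ti : T ⟶ Over.mk (pullback.fst W.hom (g i) ≫ W.hom))
        (tj : T ⟶ Over.mk (pullback.fst W.hom (g j) ≫ W.hom)),
        ti.left ≫ pullback.fst W.hom (g i) = tj.left ≫ pullback.fst W.hom (g j) → ti ≫ x i = tj ≫ x j) →
      ∃! r : W ⟶ Z, ∀ i, Over.homMk (pullback.fst W.hom (g i)) ≫ r = x i := by
    intro W Z x hx
    obtain ⟨t, ht, htu⟩ := (Presieve.isSheafFor_arrows_iff _ _).1 (hsheaf W Z.left) (fun i => (x i).left)
      (fun i j T ti tj h => by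
        exact congrArg CommaMorphism.left (hx (Over.mk (ti ≫ pullback.fst W.hom (g i) ≫ W.hom)) i j
          (Over.homMk ti rfl)
          (Over.homMk tj ((reassoc_of% h) W.hom).symm) h))
    have htw : t ≫ Z.hom = W.hom := by
      refine ((Presieve.isSheafFor_arrows_iff _ _).1 (hsheaf W X)
        (fun i => pullback.fst W.hom (g i) ≫ W.hom) (fun i j T ti tj h => by
          show ti ≫ _ = tj ≫ _
          rw [← Category.assoc, h, Category.assoc])).unique (fun i => ?_) (fun i => rfl)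
      show pullback.fst W.hom (g i) ≫ t ≫ Z.hom = _
      rw [← Category.assoc]
      exact (congrArg (· ≫ Z.hom) (ht i)).trans (Over.w (x i))
    exact ⟨Over.homMk t htw, fun i => Over.OverMorphism.ext (ht i),
      fun r hr => Over.OverMorphism.ext (htu r.left fun i => congrArg CommaMorphism.left (hr i))⟩
  let pr : ∀ (W : Over X) (i : I), Over.mk (pullback.fst W.hom (g i) ≫ W.hom) ⟶ P := fun W i =>
    Over.homMk (pullback.snd W.hom (g i) ≫ s₀ i) (by
      show (pullback.snd W.hom (g i) ≫ s₀ i) ≫ P.hom = pullback.fst W.hom (g i) ≫ W.hom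
      rw [Category.assoc, hs₀, pullback.condition])
  obtain ⟨r, hr, hru⟩ := hglue P' P'' (fun i => F (Over.homMk (pullback.fst P'.hom (g i))) (pr P' i))
    (fun T i j ti tj h => by
      rw [hnat, hnat]
      have e : ti ≫ (Over.homMk (pullback.fst P'.hom (g i)) : Over.mk (pullback.fst P'.hom (g i) ≫ P'.hom) ⟶ P') =
          tj ≫ Over.homMk (pullback.fst P'.hom (g j)) := Over.OverMorphism.ext h
      rw [e]
      exact hF _ _ _)
  have hr' : ∀ {Z : Over X} (x : Z ⟶ P') (p : Z ⟶ P), x ≫ r = F x p := by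
    intro Z x p
    obtain ⟨w, -, hwu⟩ := hglue Z P'' (fun i => Over.homMk (pullback.fst Z.hom (g i)) ≫ F x p)
      (fun T i j ti tj h => by
        rw [← Category.assoc, ← Category.assoc]
        have e : ti ≫ (Over.homMk (pullback.fst Z.hom (g i)) : Over.mk (pullback.fst Z.hom (g i) ≫ Z.hom) ⟶ Z) =
            tj ≫ Over.homMk (pullback.fst Z.hom (g j)) := Over.OverMorphism.ext h
        exact congrArg (· ≫ F x p) e)
    refine (hwu _ fun i => ?_).trans (hwu _ fun i => rfl).symm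
    let m : Over.mk (pullback.fst Z.hom (g i) ≫ Z.hom) ⟶ Over.mk (pullback.fst P'.hom (g i) ≫ P'.hom) :=
      Over.homMk (pullback.map Z.hom (g i) P'.hom (g i) x.left (𝟙 _) (𝟙 _) (by simp) (by simp)) (by
        simp)
    have hm : (Over.homMk (pullback.fst Z.hom (g i)) : Over.mk (pullback.fst Z.hom (g i) ≫ Z.hom) ⟶ Z) ≫ x =
        m ≫ Over.homMk (pullback.fst P'.hom (g i)) := Over.OverMorphism.ext (by simp [m])
    rw [← Category.assoc, hm, Category.assoc, hr i, hnat, hnat, ← hm]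
    exact hF _ _ _
  refine ⟨r, ⟨?_, ?_⟩, ?_⟩
  · obtain ⟨w, -, hwu⟩ := hglue (J' ⊗ P') P''
      (fun i => Over.homMk (pullback.fst (J' ⊗ P').hom (g i)) ≫ a'.act ≫ r) (fun T i j ti tj h => by
        rw [← Category.assoc, ← Category.assoc]
        have e : ti ≫ (Over.homMk (pullback.fst (J' ⊗ P').hom (g i)) :
              Over.mk (pullback.fst (J' ⊗ P').hom (g i) ≫ (J' ⊗ P').hom) ⟶ J' ⊗ P') =
            tj ≫ Over.homMk (pullback.fst (J' ⊗ P').hom (g j)) := Over.OverMorphism.ext h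
        exact congrArg (· ≫ a'.act ≫ r) e)
    refine (hwu _ fun i => rfl).trans (hwu _ fun i => ?_).symm
    let c : Over.mk (pullback.fst (J' ⊗ P').hom (g i) ≫ (J' ⊗ P').hom) ⟶ J' ⊗ P' :=
      Over.homMk (pullback.fst (J' ⊗ P').hom (g i))
    show c ≫ lift (fst J' P' ≫ v) (snd J' P' ≫ r) ≫ a''.act = c ≫ a'.act ≫ r
    rw [← Category.assoc, comp_lift, ← Category.assoc c (snd J' P'), hr' _ (pr _ i), ← Category.assoc c (fst J' P'),
      ← hEq, ← Category.assoc c a'.act, hr' (c ≫ a'.act) (pr _ i), ← comp_lift, lift_fst_snd, Category.comp_id]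
  · rw [hr' q' (𝟙 P)]
    show lift (Groth.NeronArea.torsorDiv a' hP'.1 q' (𝟙 P ≫ q') ≫ v) (𝟙 P ≫ q'') ≫ a''.act = q''
    have h1 : Groth.NeronArea.torsorDiv a' hP'.1 q' (𝟙 P ≫ q') = 1 := by
      refine Groth.NeronArea.torsor_cancel a' hP'.1 _ _ q' ?_
      simp only [Category.id_comp]
      rw [Groth.NeronArea.torsorDiv_act, Groth.NeronArea.one_act_eq]
    rw [h1, MonObj.one_comp, Category.id_comp, Groth.NeronArea.one_act_eq]
  · rintro r₁ ⟨h1, h2⟩
    refine hru r₁ fun i => ?_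
    let x : Over.mk (pullback.fst P'.hom (g i) ≫ P'.hom) ⟶ P' := Over.homMk (pullback.fst P'.hom (g i))
    show x ≫ r₁ = F x (pr P' i)
    conv_lhs => rw [← Groth.NeronArea.torsorDiv_act a' hP'.1 x (pr P' i ≫ q'), hpt a' a'' v r₁ h1,
      Category.assoc, h2]

end Groth.Agent.S14541
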