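import Groth.Statements.S14546
import Groth.Agent.Misc12.HomToAffine
import Groth.Agent.Reductive.HomScheme.Global

set_option autoImplicit false
set_option linter.style.haveILetI false
universe u
open CategoryTheory MonoidalCategory CartesianMonoidalCategory MonObj GrpObj AlgebraicGeometry
open PrincBund

namespace Groth.Agent.S14546

/-- Let k be a field of characteristic 0, X a quasi-compact k-scheme whose ring of global functions is
finite-dimensional over k, and Z an affine k-scheme. Then the functor on k-schemes S ↦ Hom_k(X ×_k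
S, Z) is representable by an affine k-scheme M: there is a universal k-morphism X ×_k M → Z through
which every k-morphism X ×_k S → Z factors by a unique S → M; and M is of finite type over k if Z
is. (The published statement is about the scheme of invariant cross-sections of an affine scheme
under a transitive affine groupoid over a pregroupoid H, with a finiteness hypothesis on H; this row
is the case of the trivial groupoid, where the representing scheme is the scheme of k-morphisms from
X to Z and that hypothesis reads: X quasi-compact with finite-dimensional global functions.) -/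
theorem result (k : Type u) [Field k] [CharZero k]
    (X : Over (Spec (CommRingCat.of k))) [CompactSpace ↥X.left]
    (hfin : (X.hom.appTop.hom.comp (Scheme.ΓSpecIso (CommRingCat.of k)).inv.hom).Finite)
    (Z : Over (Spec (CommRingCat.of k))) [IsAffine Z.left] :
    ∃ (M : Over (Spec (CommRingCat.of k))) (_ : IsAffine M.left) (ev : X ⊗ M ⟶ Z),
      (∀ (S : Over (Spec (CommRingCat.of k))) (f : X ⊗ S ⟶ Z), ∃! g : S ⟶ M, (X ◁ g) ≫ ev = f) ∧
      (LocallyOfFiniteType Z.hom → LocallyOfFiniteType M.hom) := by
  haveI : Module.Free k k := inferInstance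
  let X₀ := Groth.Misc12.HomToAffine.hull X
  let c := Groth.Misc12.HomToAffine.toHull X
  have hf : (Groth.Misc12.HomToAffine.str X).hom.Finite := hfin
  haveI h1 : IsFinite X₀.hom := (IsFinite.SpecMap_iff _).2 hf
  haveI h2 : Flat X₀.hom := inferInstance
  haveI h3 : LocallyOfFinitePresentation X₀.hom := inferInstance
  haveI h4 : IsAffineHom Z.hom := isAffineHom_of_isAffine _
  obtain ⟨M, ev₀, hM, hrep, hft, -⟩ := Groth.Reductive.HomScheme.exists_homScheme X₀ Z
  refine ⟨M, isAffine_of_isAffineHom M.hom, (c ▷ M) ≫ ev₀, fun S f => ?_, hft⟩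
  obtain ⟨hinj, hsurj⟩ := Groth.Misc12.HomToAffine.bijective_comp X S Z
  obtain ⟨f₀, hf₀⟩ := hsurj f
  obtain ⟨g, hg, hgu⟩ := hrep S f₀
  have key : ∀ g' : S ⟶ M, (X ◁ g') ≫ (c ▷ M) ≫ ev₀ = (c ▷ S) ≫ (X₀ ◁ g') ≫ ev₀ := fun g' => by
    rw [← Category.assoc, ← Category.assoc, whisker_exchange]
  refine ⟨g, ?_, fun g' hg' => hgu g' (hinj ?_)⟩
  · show (X ◁ g) ≫ (c ▷ M) ≫ ev₀ = f
    rw [key g, hg]
    exact hf₀
  · show (c ▷ S) ≫ (X₀ ◁ g') ≫ ev₀ = (c ▷ S) ≫ f₀
    rw [← key g', hg']
    exact hf₀.symm

end Groth.Agent.S14546
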