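import Groth.Statements.S14547
import Groth.Agent.H1Proper.FpqcLocal
set_option backward.isDefEq.respectTransparency false
set_option backward.isDefEq.respectTransparency.types false

set_option autoImplicit false
universe u
open CategoryTheory MonoidalCategory CartesianMonoidalCategory MonObj GrpObj AlgebraicGeometry
open PrincBund

open CategoryTheory.MonoidalCategory CategoryTheory.CartesianMonoidalCategory

namespace Groth.Agent.S14547

/-- Let f : X' → X be a faithfully flat quasi-compact morphism of schemes, J a group scheme affine over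
X with an action a on an X-scheme P, and a' the induced action of the base change J' = J ×_X X' on
P' = P ×_X X'. Then P with a is a J-torsor for the fpqc topology if and only if P' with a' is a
J'-torsor for the fpqc topology. (The published statement allows any morphism X' → X that is
covering for the fpqc topology, and an action of a pregroupoid; this row is the case of a faithfully
flat quasi-compact X' → X and the trivial pregroupoid.) -/
theorem result {X X' : Scheme.{u}} (f : X' ⟶ X)
    [Flat f] [Surjective f] [QuasiCompact f]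
    {J P : Over X} [GrpObj J] [IsAffineHom J.hom] (a : AlgGrp.Action J P)
    (a' : AlgGrp.Action (Red.bc f J) (Red.bc f P))
    (ha' : Functor.LaxMonoidal.μ (Over.pullback f) J P ≫ (Over.pullback f).map a.act = a'.act) :
    NonAbH1.IsTorsorFor Scheme.fpqcPrecoverage a ↔ NonAbH1.IsTorsorFor Scheme.fpqcPrecoverage a' := by
  obtain rfl : a' = a.bc f := AlgGrp.Action.ext' (ha'.symm.trans (AlgGrp.Action.bc_act f a).symm)
  refine ⟨fun h => NonAbH1.isTorsorFor_bc f _ h, fun ⟨hp, R, hR, hsec⟩ => ⟨?_, ?_⟩⟩
  · refine Groth.H1Proper.isIso_of_forall_pullback (lift a.act (snd J P))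
      (Scheme.Hom.singleton_mem_fpqcPrecoverage f) ?_
    rintro Z g ⟨⟩
    have hi : IsIso (lift (a.bc f).act (snd _ _)) := hp
    have key : lift (a.bc f).act (snd _ _) ≫ Functor.LaxMonoidal.μ (Over.pullback f) P P =
        Functor.LaxMonoidal.μ (Over.pullback f) J P ≫ (Over.pullback f).map (lift a.act (snd J P)) := by
      rw [← Functor.Monoidal.lift_μ, comp_lift_assoc, Functor.Monoidal.μ_snd, AlgGrp.Action.bc_act]
    have : IsIso (Functor.LaxMonoidal.μ (Over.pullback f) J P ≫ (Over.pullback f).map (lift a.act (snd J P))) := by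
      rw [← key]; infer_instance
    exact IsIso.of_isIso_comp_left (Functor.LaxMonoidal.μ (Over.pullback f) J P) _
  · obtain ⟨I, Y, g, rfl⟩ := R.exists_eq_ofArrows
    refine ⟨Presieve.ofArrows Y (fun i => g i ≫ f), ?_, ?_⟩
    · have h1 := Scheme.fpqcPrecoverage.comp_mem_coverings (fun _ : PUnit.{1} => f)
        (by rw [Presieve.ofArrows_pUnit]; exact Scheme.Hom.singleton_mem_fpqcPrecoverage f)
        (σ := fun _ => I) (Y := fun _ => Y) (fun _ => g) (fun _ => hR)
      refine (congrArg (· ∈ Scheme.fpqcPrecoverage X) ?_).mp h1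
      funext Z
      ext h
      constructor
      · rintro ⟨⟨_, i⟩⟩; exact ⟨i⟩
      · rintro ⟨i⟩; exact ⟨(⟨⟨⟩, i⟩ : Σ _ : PUnit, I)⟩
    · rintro Z _ ⟨i⟩
      obtain ⟨s, hs⟩ := hsec (g i) ⟨i⟩
      exact ⟨s ≫ Limits.pullback.fst P.hom f, by
        have hs' : s ≫ Limits.pullback.snd P.hom f = g i := hs
        rw [Category.assoc, Limits.pullback.condition, reassoc_of% hs']⟩

end Groth.Agent.S14547
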