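import Groth.Statements.S1457
import Groth.Agent.RaynaudGruson.ElemDevissage
import Groth.Agent.RaynaudGruson.EtaleNhdResidue
import Groth.Agent.FibreDim.Smooth
import Groth.Agent.FibreDim.Retrocompact

set_option maxHeartbeats 1600000
attribute [local instance] Algebra.TensorProduct.rightAlgebra
set_option autoImplicit false
universe u
open FlatMor

namespace Groth.Agent.S1457

open AlgebraicGeometry CategoryTheory Limits in
/-- Omitting the assertion on pure transcendence of a residue field and the addendum on finite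
presentation of π: let f : X → S be locally of finite type, x a point with image s and n the local
dimension of the fibre at x. Then there are affine schemes S', Y', X', an elementary étale
neighbourhood e : (S', s') → (S, s), a morphism h : Y' → S' smooth of relative dimension n with
geometrically integral fibres, a finite morphism π : X' → Y' and an elementary étale neighbourhood g
: (X', x') → (X, x) with g ≫ f = π ≫ h ≫ e, such that x' is the only point of X' over y' = π x' and
h y' = s'. -/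
theorem result {X S : Scheme.{u}} (f : X ⟶ S) [LocallyOfFiniteType f] (x : X) (n : ℕ) (hn : FlatMor.fibreDimAt f x = n) :
    ∃ (S' Y' X' : Scheme.{u}) (e : S' ⟶ S) (h : Y' ⟶ S') (π : X' ⟶ Y') (g : X' ⟶ X) (s' : S') (x' : X'),
      IsAffine S' ∧ IsAffine Y' ∧ IsAffine X' ∧ Hens2.IsEtaleNbhd e s' (f x) ∧ Hens2.IsEtaleNbhd g x' x ∧
      g ≫ f = π ≫ h ≫ e ∧ SmoothOfRelativeDimension n h ∧ GeometricallyIntegral h ∧ IsFinite π ∧ h (π x') = s' ∧
      ∀ z : X', π z = π x' → z = x' := by
  obtain ⟨V, hV, hxV, -⟩ := exists_isAffineOpen_mem_and_subset (U := ⊤) (Set.mem_univ (f.base x))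
  obtain ⟨U, hU, hxU, hUV⟩ := exists_isAffineOpen_mem_and_subset (U := f ⁻¹ᵁ V) (x := x) hxV
  letI : Algebra Γ(S, V) Γ(X, U) := (f.appLE V U hUV).hom.toAlgebra
  haveI : Algebra.FiniteType Γ(S, V) Γ(X, U) :=
    HasRingHomProperty.appLE @LocallyOfFiniteType f inferInstance ⟨V, hV⟩ ⟨U, hU⟩ hUV
  let A := Γ(S, V)
  let B := Γ(X, U)
  let φ := CommRingCat.ofHom (algebraMap A B)
  have hsq : Spec.map φ ≫ hV.fromSpec = hU.fromSpec ≫ f := hV.SpecMap_appLE_fromSpec f hU hUV
  obtain ⟨q, hq⟩ : x ∈ Set.range hU.fromSpec.base := hU.range_fromSpec.ge hxU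
  let p : PrimeSpectrum A := PrimeSpectrum.comap (algebraMap A B) q
  haveI : q.asIdeal.LiesOver p.asIdeal := ⟨rfl⟩
  let E := PrimeSpectrum.preimageHomeomorphFiber A B p
  have hd : FlatMor.fibreDimAt (Spec.map φ) q = FlatMor.localDim (PrimeSpectrum (p.asIdeal.Fiber B)) (E ⟨q, rfl⟩) := by
    have hd := Groth.FibreDim.fibreDimAt_eq_of_range (Spec.map φ) p
      (A := PrimeSpectrum (p.asIdeal.Fiber B))
      (e := fun Q => ((E.symm Q).1 : PrimeSpectrum B))
      (Topology.IsEmbedding.subtypeVal.comp E.symm.isEmbedding)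
      ((E.symm.surjective.range_comp Subtype.val).trans Subtype.range_coe) (E ⟨q, rfl⟩)
    rw [E.symm_apply_apply] at hd
    exact hd
  have hn' : FlatMor.localDim (PrimeSpectrum (p.asIdeal.Fiber B)) (E ⟨q, rfl⟩) = n := by
    rw [← hd, ← Groth.FibreDim.fibreDimAt_comp_injective (Spec.map φ) hV.fromSpec hV.fromSpec.isOpenEmbedding.injective, hsq,
      Groth.FibreDim.fibreDimAt_openImmersion_comp hU.fromSpec f q, hq, hn]
  have hsupp : Module.support (p.asIdeal.Fiber B) (FlatCA.fiberMod p.asIdeal B B) = Set.univ := by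
    refine ((TensorProduct.AlgebraTensorModule.rid B (p.asIdeal.Fiber B) (p.asIdeal.Fiber B)).support_eq).trans ?_
    rw [Module.support_eq_zeroLocus, Module.annihilator_eq_bot.mpr inferInstance, PrimeSpectrum.zeroLocus_bot]
  let ξ := E ⟨q, rfl⟩
  have hξ : ξ ∈ Module.support (p.asIdeal.Fiber B) (FlatCA.fiberMod p.asIdeal B B) := hsupp ▸ trivial
  obtain ⟨d⟩ := Groth.RaynaudGruson.ElemDev.nonempty_elemDevissage (R := A) (S := B) B p.asIdeal q.asIdeal n ξ
    (Groth.Flatmor4.fiberIdeal_comap p.asIdeal ξ q.asIdeal (congrArg (fun z => z.1.asIdeal) (E.symm_apply_apply ⟨q, rfl⟩))) hξ (by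
      rw [← hn']
      exact Groth.FibreDim.localDim_eq_of_homeomorph
        ((Homeomorph.setCongr hsupp).trans (Homeomorph.Set.univ _)) ⟨ξ, hξ⟩)
  letI : Algebra A d.D := ((algebraMap d.R' d.D).comp (algebraMap A d.R')).toAlgebra
  haveI : IsScalarTower A d.R' d.D := .of_algebraMap_eq' rfl
  -- `S' → C` is bijective
  have hinj : Function.Injective (algebraMap d.S' d.C) := by
    intro a b hab
    obtain ⟨w, hw⟩ : ∃ w : d.N', d.f 1 = w := ⟨_, rfl⟩
    have h1 : a • w = b • w := d.iso.injective (by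
      rw [map_smul, map_smul, ← algebraMap_smul d.C a, ← algebraMap_smul d.C b, hab])
    have h2 : ∀ c : d.S', d.isBaseChange.equiv (c ⊗ₜ (1 : B)) = c • w := fun c => by
      rw [IsBaseChange.equiv_tmul, hw]
    rw [← h2, ← h2] at h1
    have h3 := congrArg (TensorProduct.rid B d.S') (d.isBaseChange.equiv.injective h1)
    simpa using h3
  let κ : d.S' ≃+* d.C := RingEquiv.ofBijective (algebraMap d.S' d.C) ⟨hinj, d.surjC⟩
  let e : Spec (CommRingCat.of d.C) ⟶ Spec (CommRingCat.of d.S') := Spec.map κ.toCommRingCatIso.hom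
  let g₀ := Spec.map (CommRingCat.ofHom (algebraMap B d.S'))
  haveI : Etale g₀ := (HasRingHomProperty.Spec_iff (P := @Etale)).mpr (RingHom.etale_algebraMap.mpr d.etaleS.1)
  let π := Spec.map (CommRingCat.ofHom (algebraMap d.D d.C))
  let h₀ := Spec.map (CommRingCat.ofHom (algebraMap A d.D))
  let x' : Spec (CommRingCat.of d.C) := ⟨d.z, inferInstance⟩
  have hzq : e.base x' = ⟨d.q', inferInstance⟩ := PrimeSpectrum.ext d.zOver.over.symm
  have hqq : g₀.base ⟨d.q', inferInstance⟩ = q := PrimeSpectrum.ext d.etaleS.2.1.over.symm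
  haveI : Etale (Spec.map (CommRingCat.ofHom (algebraMap A d.R'))) :=
    (HasRingHomProperty.Spec_iff (P := @Etale)).mpr (RingHom.etale_algebraMap.mpr d.etaleR.1)
  let r₀ := Spec.map (CommRingCat.ofHom (algebraMap A d.R'))
  let h₁ := Spec.map (CommRingCat.ofHom (algebraMap d.R' d.D))
  let s' : Spec (CommRingCat.of d.R') := ⟨d.p', inferInstance⟩
  have hpp : r₀.base s' = p := PrimeSpectrum.ext d.etaleR.2.1.over.symm
  have hpx : hV.fromSpec.base p = f.base x := by
    rw [← hq, ← Scheme.Hom.comp_apply, ← hsq, Scheme.Hom.comp_apply]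
    rfl
  refine ⟨Spec (CommRingCat.of d.R'), Spec (CommRingCat.of d.D), Spec (CommRingCat.of d.C), r₀ ≫ hV.fromSpec, h₁, π,
    e ≫ g₀ ≫ hU.fromSpec, s', x', inferInstance, inferInstance, inferInstance, ⟨inferInstance, ?_, ?_⟩, ⟨inferInstance, ?_, ?_⟩,
    ?_, d.smooth, d.geomInt, ?_, ?_, ?_⟩
  · rw [Scheme.Hom.comp_apply, hpp, hpx]
  · show Function.Bijective ((r₀ ≫ hV.fromSpec).residueFieldMap s').hom
    rw [Groth.SpectralTopology.hom_comp]
    exact (Groth.RaynaudGruson.bijective_residue_etaleNhd d.etaleR s' rfl).comp (Groth.SpectralTopology.bijective_residueFieldMap hV.fromSpec _)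
  · rw [Scheme.Hom.comp_apply, Scheme.Hom.comp_apply, hzq, hqq, hq]
  · have hb' : ∀ v, v = (⟨d.q', inferInstance⟩ : Spec (CommRingCat.of d.S')) →
        Function.Bijective (g₀.residueFieldMap v).hom := by
      rintro v rfl
      exact Groth.RaynaudGruson.bijective_residue_etaleNhd d.etaleS _ rfl
    show Function.Bijective ((e ≫ g₀ ≫ hU.fromSpec).residueFieldMap x').hom
    rw [Groth.SpectralTopology.hom_comp, Groth.SpectralTopology.hom_comp]
    exact (Groth.SpectralTopology.bijective_residueFieldMap e x').comp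
      ((hb' _ hzq).comp (Groth.SpectralTopology.bijective_residueFieldMap hU.fromSpec _))
  · rw [Category.assoc, Category.assoc, ← hsq]
    simp only [← Category.assoc, e, g₀, π, h₁, r₀, φ, ← Spec.map_comp]
    congr 2
    ext r
    show algebraMap d.S' d.C (algebraMap B d.S' (algebraMap A B r)) = algebraMap d.D d.C (algebraMap d.R' d.D (algebraMap A d.R' r))
    rw [← IsScalarTower.algebraMap_apply A B d.S', IsScalarTower.algebraMap_apply A d.R' d.S',
      ← IsScalarTower.algebraMap_apply d.R' d.S' d.C, ← IsScalarTower.algebraMap_apply d.R' d.D d.C]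
  · exact (IsFinite.SpecMap_iff _).mpr (RingHom.finite_algebraMap.mpr d.finiteDC)
  · refine PrimeSpectrum.ext ?_
    show (d.z.comap (algebraMap d.D d.C)).comap (algebraMap d.R' d.D) = d.p'
    rw [show d.z.comap (algebraMap d.D d.C) = d.y from d.zOverY.over.symm]
    exact d.yOver.over.symm
  · intro w hw
    refine PrimeSpectrum.ext (d.uniq w.asIdeal ⟨?_⟩)
    exact d.zOverY.over.trans (congrArg PrimeSpectrum.asIdeal hw).symm

end Groth.Agent.S1457
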