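import Groth.Statements.S1458
import Mathlib.RingTheory.Finiteness.ModuleFinitePresentation
import Mathlib.LinearAlgebra.TensorProduct.RightExactness
import Mathlib.LinearAlgebra.TensorProduct.Pi

set_option autoImplicit false
universe u
open FlatMor

namespace Groth.Agent.S1458

open TensorProduct in
/-- Let A → B be a finite ring map of finite presentation. Then there are a finitely presented A-algebra
A_u and an idempotent e_u of B ⊗_A A_u such that for every A-algebra A' and every idempotent e of B
⊗_A A' there is an A-algebra map A_u → A' whose induced map B ⊗ A_u → B ⊗ A' sends e_u to e. -/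
theorem result {A B : Type u} [CommRing A] [CommRing B] [Algebra A B] [Module.Finite A B] [Algebra.FinitePresentation A B] :
    ∃ (Au : Type u) (_ : CommRing Au) (_ : Algebra A Au) (eu : B ⊗[A] Au), Algebra.FinitePresentation A Au ∧ IsIdempotentElem eu ∧
      ∀ (A' : Type u) [CommRing A'] [Algebra A A'] (e : B ⊗[A] A'), IsIdempotentElem e →
        ∃ φ : Au →ₐ[A] A', Algebra.TensorProduct.map (AlgHom.id A B) φ eu = e := by
  classical
  obtain ⟨n, b, hb⟩ := Module.Finite.exists_fin' A B
  have hB : Module.FinitePresentation A B :=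
    Module.FinitePresentation.of_finite_of_finitePresentation A B
  obtain ⟨s, hs⟩ := Module.FinitePresentation.fg_ker b hb
  let bb : Fin n → B := fun i => b (Pi.single i 1)
  have hcoef : ∀ z : B, ∃ c : Fin n → A, z = ∑ i, c i • bb i := by
    intro z
    obtain ⟨c, rfl⟩ := hb z
    refine ⟨c, ?_⟩
    conv_lhs => rw [pi_eq_sum_univ' c]
    simp [bb]
  choose c hc using hcoef
  -- unknowns: coefficients of `e`, and witnesses for the relation `e² = e`
  let P := MvPolynomial (Fin n ⊕ s) A
  let X : Fin n ⊕ s → P := MvPolynomial.X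
  let rel : Fin n → P := fun k =>
    (∑ i, ∑ j, X (.inl i) * X (.inl j) * MvPolynomial.C (c (bb i * bb j) k)) - X (.inl k) -
      ∑ r : s, X (.inr r) * MvPolynomial.C ((r : Fin n → A) k)
  let J : Ideal P := Ideal.span (Set.range rel)
  let q : P →ₐ[A] P ⧸ J := Ideal.Quotient.mkₐ A J
  let eu : B ⊗[A] (P ⧸ J) := ∑ i, bb i ⊗ₜ q (X (.inl i))
  have key : ∀ {R : Type u} [CommRing R] [Algebra A R] (x : Fin n → R),
      (∑ i, bb i ⊗ₜ[A] x i) * (∑ i, bb i ⊗ₜ[A] x i) =
        ∑ k, bb k ⊗ₜ[A] (∑ i, ∑ j, x i * x j * algebraMap A R (c (bb i * bb j) k)) := by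
    intro R _ _ x
    rw [Finset.sum_mul_sum]
    simp only [TensorProduct.tmul_sum]
    rw [Finset.sum_comm (γ := Fin n) (s := Finset.univ) (t := Finset.univ) (f := fun k i =>
      ∑ j, bb k ⊗ₜ[A] (x i * x j * algebraMap A R (c (bb i * bb j) k)))]
    refine Finset.sum_congr rfl fun i _ => ?_
    rw [Finset.sum_comm]
    refine Finset.sum_congr rfl fun j _ => ?_
    rw [Algebra.TensorProduct.tmul_mul_tmul]
    conv_lhs => rw [hc (bb i * bb j), TensorProduct.sum_tmul]
    refine Finset.sum_congr rfl fun k _ => ?_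
    rw [TensorProduct.smul_tmul, Algebra.smul_def, mul_comm]
  have hker : ∀ r : s, ∑ k, (r : Fin n → A) k • bb k = 0 := by
    intro r
    have h : b r = 0 := by
      rw [← LinearMap.mem_ker, ← hs]; exact Submodule.subset_span r.2
    rw [← h]
    conv_rhs => rw [pi_eq_sum_univ' (r : Fin n → A)]
    simp [bb]
  refine ⟨P ⧸ J, inferInstance, inferInstance, eu, ?_, ?_, ?_⟩
  · exact Algebra.FinitePresentation.quotient ⟨Finset.univ.image rel, by simp [J]⟩
  · have hq : ∀ k, (∑ i, ∑ j, q (X (.inl i)) * q (X (.inl j)) * algebraMap A (P ⧸ J) (c (bb i * bb j) k)) =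
        q (X (.inl k)) + ∑ r : s, q (X (.inr r)) * algebraMap A (P ⧸ J) ((r : Fin n → A) k) := by
      intro k
      have h : q (rel k) = 0 := Ideal.Quotient.eq_zero_iff_mem.mpr (Ideal.subset_span ⟨k, rfl⟩)
      simp only [rel, map_sub, map_sum, map_mul, sub_sub, sub_eq_zero,
        ← MvPolynomial.algebraMap_eq, AlgHom.commutes, map_add] at h
      simpa [map_add, map_sum, map_mul, q, P] using h
    show eu * eu = eu
    simp only [eu]
    rw [key, Finset.sum_congr rfl fun k _ => by rw [hq k, TensorProduct.tmul_add]]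
    rw [Finset.sum_add_distrib, add_eq_left]
    simp only [TensorProduct.tmul_sum]
    rw [Finset.sum_comm]
    refine Finset.sum_eq_zero fun r _ => ?_
    calc _ = ∑ k, ((r : Fin n → A) k • bb k) ⊗ₜ[A] q (X (.inr r)) :=
          Finset.sum_congr rfl fun k _ => by rw [mul_comm, ← Algebra.smul_def, TensorProduct.smul_tmul]
      _ = 0 := by rw [← TensorProduct.sum_tmul, hker, TensorProduct.zero_tmul]
  · intro A' _ _ e he
    have hbt : Function.Surjective (b.rTensor A') := LinearMap.rTensor_surjective A' hb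
    obtain ⟨z, rfl⟩ := hbt e
    let π := TensorProduct.piScalarRight A A A' (Fin n)
    obtain ⟨x, hx⟩ : ∃ x : Fin n → A', b.rTensor A' z = ∑ i, bb i ⊗ₜ[A] x i := by
      clear he
      induction z with
      | zero => exact ⟨0, by simp⟩
      | tmul v a =>
        refine ⟨fun i => v i • a, ?_⟩
        simp only [LinearMap.rTensor_tmul, TensorProduct.tmul_smul, ← TensorProduct.smul_tmul']
        conv_lhs => rw [pi_eq_sum_univ' v]
        simp [bb, TensorProduct.sum_tmul, TensorProduct.smul_tmul']
      | add u v hu hv =>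
        obtain ⟨x, hx⟩ := hu; obtain ⟨y, hy⟩ := hv
        exact ⟨x + y, by simp [hx, hy, TensorProduct.tmul_add, Finset.sum_add_distrib]⟩
    rw [hx] at he ⊢
    let d : Fin n → A' := fun k => (∑ i, ∑ j, x i * x j * algebraMap A A' (c (bb i * bb j) k)) - x k
    have hd : ∑ k, bb k ⊗ₜ[A] d k = 0 := by
      simp only [d, TensorProduct.tmul_sub, Finset.sum_sub_distrib, ← key, he.eq, sub_self]
    let w : (Fin n → A) ⊗[A] A' := ∑ k, Pi.single k 1 ⊗ₜ d k
    have hw : b.rTensor A' w = 0 := by simpa [w, bb] using hd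
    let incl : (s → A) →ₗ[A] (Fin n → A) := Fintype.linearCombination A (fun r : s => (r : Fin n → A))
    have hex : Function.Exact incl b := by
      rw [LinearMap.exact_iff, Fintype.range_linearCombination, ← hs]
      simp
    obtain ⟨w', hw'⟩ := ((rTensor_exact A' hex hb) w).mp hw
    obtain ⟨y, hy⟩ : ∃ y : s → A', ∀ k, (TensorProduct.piScalarRight A A A' (Fin n))
        ((TensorProduct.comm A _ _) (incl.rTensor A' w')) k = ∑ r : s, y r * algebraMap A A' ((r : Fin n → A) k) := by
      clear hw'
      induction w' with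
      | zero => exact ⟨0, by simp⟩
      | tmul v a =>
        refine ⟨fun r => v r • a, fun k => ?_⟩
        simp [incl, Fintype.linearCombination_apply, Finset.sum_smul, Algebra.smul_def]
        rw [Finset.sum_mul]
        refine Finset.sum_congr rfl fun r _ => ?_
        ring
      | add u v hu hv =>
        obtain ⟨x, hx⟩ := hu; obtain ⟨y, hy⟩ := hv
        exact ⟨x + y, fun k => by
          rw [map_add, map_add, map_add, Pi.add_apply, hx, hy]; simp [add_mul, Finset.sum_add_distrib]⟩
    have hd' : ∀ k, d k = ∑ r : s, y r * algebraMap A A' ((r : Fin n → A) k) := by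
      intro k
      rw [← hy k, hw']
      simp [w, Pi.single_apply]
    let φ₀ : P →ₐ[A] A' := MvPolynomial.aeval (Sum.elim x y)
    have hφ : ∀ a ∈ J, φ₀ a = 0 := by
      intro a ha
      refine (Ideal.span_le (I := RingHom.ker φ₀)).mpr ?_ ha
      rintro _ ⟨k, rfl⟩
      have hX : ∀ i, φ₀ (X i) = Sum.elim x y i := fun i => MvPolynomial.aeval_X _ _
      have hC : ∀ a : A, φ₀ (MvPolynomial.C a) = algebraMap A A' a := fun a => MvPolynomial.aeval_C _ _
      show φ₀ (rel k) = 0
      simp only [rel, map_sub, map_sum, map_mul, hX, hC, Sum.elim_inl, Sum.elim_inr]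
      exact sub_eq_zero.mpr (hd' k)
    refine ⟨Ideal.Quotient.liftₐ J φ₀ hφ, ?_⟩
    have hX : ∀ i, Ideal.Quotient.liftₐ J φ₀ hφ (q (X i)) = Sum.elim x y i :=
      fun i => MvPolynomial.aeval_X _ _
    simp only [eu, map_sum, Algebra.TensorProduct.map_tmul, AlgHom.id_apply, hX, Sum.elim_inl]

end Groth.Agent.S1458
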