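import Groth.Statements.S14580
import Groth.Agent.AlgGrp1.Const
import Groth.Agent.AlgGrp1.Sub
import Groth.Agent.Variety2.Normal
import Mathlib.AlgebraicGeometry.IdealSheaf.IrreducibleComponent

set_option autoImplicit false
universe u
open CategoryTheory MonoidalCategory CartesianMonoidalCategory MonObj GrpObj AlgebraicGeometry CategoryTheory.Limits
open AlgGrp

namespace Groth.Agent.S14580

/-- Let k be a field, G a proper k-group scheme of finite type and N ⊆ G the kernel of the affinization
morphism G → Spec O(G), i.e. the fibre over the image of the unit section (the largest anti-affine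
subgroup scheme of G). Then the image of N in G is the connected component of the identity: as N is
smooth, N is the reduced neutral component G⁰_red, which is therefore a smooth connected algebraic
group. -/
theorem result (k : Type u) [Field k]
    (G : Over (Spec (CommRingCat.of k))) [GrpObj G] [IsProper G.hom] (t : ↥((𝟙_ (Over (Spec (CommRingCat.of k)))).left)) :
    Set.range ⇑(pullback.fst G.left.toSpecΓ (η[G].left ≫ G.left.toSpecΓ)).base = connectedComponent ((η[G]).left.base t) := by
  let f := G.left.toSpecΓ
  let e := η[G].left
  have hr : Set.range (e ≫ f).base = {f.base (e.base t)} := by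
    apply Set.Subset.antisymm
    · rintro _ ⟨t', rfl⟩
      rw [Subsingleton.elim (α := Spec (CommRingCat.of k)) t' t]; rfl
    · rintro _ rfl; exact ⟨t, rfl⟩
  rw [Scheme.Pullback.range_fst, hr]
  have := Groth.AlgGrp1.isLocallyNoetherian_left G
  have : CompactSpace G.left := (quasiCompact_iff_compactSpace G.hom).mp inferInstance
  have : IsNoetherian G.left := ⟨⟩
  -- the affinization is constant on irreducible components
  have hconst : ∀ C ∈ irreducibleComponents G.left, ∀ x ∈ C, ∀ y ∈ C, f.base x = f.base y := by
    intro C hC x hx y hy
    let W : Over (Spec (CommRingCat.of k)) :=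
      Over.mk (G.left.irreducibleComponentι C hC ≫ G.hom)
    obtain ⟨Z, c, hc1, hc2, hc3⟩ := Groth.AlgGrp1.exists_reduced W
    have : IrreducibleSpace W.left := inferInstanceAs (IrreducibleSpace (G.left.irreducibleComponent C hC))
    have hhom : IsHomeomorph c.left.base :=
      (isHomeomorph_iff_isEmbedding_surjective).2 ⟨c.left.isClosedEmbedding.isEmbedding, hc2.surj⟩
    have : IrreducibleSpace Z.left := by
      rw [irreducibleSpace_def]
      have := (IrreducibleSpace.isIrreducible_univ W.left).image hhom.homeomorph.symm
        hhom.homeomorph.symm.continuous.continuousOn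
      rwa [Set.image_univ, hhom.homeomorph.symm.surjective.range_eq] at this
    have : IsIntegral Z.left := isIntegral_of_irreducibleSpace_of_isReduced Z.left
    have : UniversallyClosed W.hom :=
      inferInstanceAs (UniversallyClosed (G.left.irreducibleComponentι C hC ≫ G.hom))
    have : UniversallyClosed Z.hom := by rw [← Over.w c]; infer_instance
    have hfield := isField_of_universallyClosed k Z.hom
    let i := c.left ≫ G.left.irreducibleComponentι C hC
    obtain ⟨g, hg⟩ := Groth.AlgGrp1.exists_factor_toSpecΓ (i ≫ f)
    have : Subsingleton ↥(Spec Γ(Z.left, ⊤)) :=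
      letI := hfield.toField
      inferInstanceAs (Subsingleton (PrimeSpectrum Γ(Z.left, ⊤)))
    have key : ∀ z z', f.base (i.base z) = f.base (i.base z') := fun z z' => by
      show (i ≫ f).base z = (i ≫ f).base z'
      rw [hg]
      exact congrArg g.base (Subsingleton.elim (Z.left.toSpecΓ.base z) (Z.left.toSpecΓ.base z'))
    obtain ⟨zx, hzx⟩ := hc2.surj ⟨x, hx⟩
    obtain ⟨zy, hzy⟩ := hc2.surj ⟨y, hy⟩
    have h := key zx zy
    have ex : i.base zx = x := congrArg (G.left.irreducibleComponentι C hC).base hzx
    have ey : i.base zy = y := congrArg (G.left.irreducibleComponentι C hC).base hzy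
    rwa [ex, ey] at h
  have hclopen : ∀ p, IsClopen (f.base ⁻¹' {p}) := by
    have hcl : ∀ P : Set ↥(Spec Γ(G.left, ⊤)), IsClosed (f.base ⁻¹' P) := by
      intro P
      have : f.base ⁻¹' P = ⋃ C ∈ {C ∈ irreducibleComponents G.left | C ⊆ f.base ⁻¹' P}, C := by
        refine Set.Subset.antisymm (fun x hx => ?_) (Set.iUnion₂_subset fun C hC => hC.2)
        have hC := irreducibleComponent_mem_irreducibleComponents x
        refine Set.mem_biUnion (x := irreducibleComponent x) ⟨hC, fun y hy => ?_⟩ mem_irreducibleComponent
        show f.base y ∈ P
        rwa [hconst _ hC y hy x mem_irreducibleComponent]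
      rw [this]
      exact (TopologicalSpace.NoetherianSpace.finite_irreducibleComponents.subset fun C hC => hC.1).isClosed_biUnion
        fun C hC => isClosed_of_mem_irreducibleComponents _ hC.1
    exact fun p => ⟨hcl _, by rw [← isClosed_compl_iff, ← Set.preimage_compl]; exact hcl _⟩
  refine Set.Subset.antisymm (fun x hx => ?_)
    ((hclopen _).connectedComponent_subset (show e.base t ∈ f.base ⁻¹' {f.base (e.base t)} from rfl))
  have hC : IsClosed (connectedComponent (e.base t)) := isClosed_connectedComponent
  have hO : IsOpen (connectedComponent (e.base t)) := by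
    have : connectedComponent (e.base t) =
        (⋃ C ∈ {C ∈ irreducibleComponents G.left | ¬ C ⊆ connectedComponent (e.base t)}, C)ᶜ := by
      ext y
      simp only [Set.mem_compl_iff, Set.mem_iUnion, not_exists, Set.mem_setOf_eq]
      constructor
      · intro hy C hC hyC
        exact hC.2 ((hC.1.1.isPreirreducible.isPreconnected.subset_connectedComponent hyC).trans_eq
          (connectedComponent_eq hy).symm)
      · intro hy
        by_contra h
        exact hy _ ⟨irreducibleComponent_mem_irreducibleComponents y,
          fun hs => h (hs mem_irreducibleComponent)⟩ mem_irreducibleComponent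
    rw [this, isOpen_compl_iff]
    exact (TopologicalSpace.NoetherianSpace.finite_irreducibleComponents.subset fun C hC => hC.1).isClosed_biUnion
      fun C hC => isClosed_of_mem_irreducibleComponents _ hC.1
  obtain ⟨r, hr⟩ := Groth.Variety2.exists_basicOpen_eq_of_isClopen ⟨_, hO⟩ hC
  have hr' : (f ⁻¹ᵁ PrimeSpectrum.basicOpen r : Set G.left) = connectedComponent (e.base t) := by
    rw [Scheme.toSpecΓ_preimage_basicOpen, hr]; rfl
  rw [← hr']
  show f.base x ∈ PrimeSpectrum.basicOpen r
  have hx' : f.base x = f.base (e.base t) := hx
  rw [hx']
  have : e.base t ∈ (f ⁻¹ᵁ PrimeSpectrum.basicOpen r : Set G.left) := by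
    rw [hr']; exact mem_connectedComponent
  exact this

end Groth.Agent.S14580
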