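import Groth.Statements.S14583
import Groth.Agent.Reductive.FrobSub
-- import your own Groth.Agent.* helpers here

set_option autoImplicit false
universe u
open CategoryTheory MonoidalCategory CartesianMonoidalCategory MonObj GrpObj AlgebraicGeometry CategoryTheory.Limits
open AlgGrp

namespace Groth.Agent.S14583

/-- Let k ⊆ K be a finite purely inseparable field extension, G a k-group scheme of finite type and h' :
H' → G_K a closed subgroup scheme of the base change of G to K. Then there is a closed subgroup
scheme h : H → G over k such that H' factors through the base change H_K → G_K by a morphism H' →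
H_K which is surjective. (The published statement concludes that H' ⊆ H_K with H_K/H' finite; the
subgroup H produced by its proof, a Frobenius pull-back, has H_K with the same underlying space as
H', which is the form stated here.) -/
theorem result (k K : Type u) [Field k] [Field K] [Algebra k K]
    [Module.Finite k K] [IsPurelyInseparable k K]
    (G : Over (Spec (CommRingCat.of k))) [GrpObj G] [LocallyOfFiniteType G.hom] [QuasiCompact G.hom]
    (H' : Over (Spec (CommRingCat.of K))) [GrpObj H']
    (h' : H' ⟶ Red.bc (Spec.map (CommRingCat.ofHom (algebraMap k K))) G) [IsMonHom h'] [IsClosedImmersion h'.left] :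
    ∃ (H : Over (Spec (CommRingCat.of k))) (_ : GrpObj H) (h : H ⟶ G), IsMonHom h ∧ IsClosedImmersion h.left ∧
      ∃ g : H' ⟶ Red.bc (Spec.map (CommRingCat.ofHom (algebraMap k K))) H, g ≫ (Over.pullback (Spec.map (CommRingCat.ofHom (algebraMap k K)))).map h = h' ∧ Surjective g.left := by
  obtain ⟨φ, Φ, hnat, hS, hT, hpt⟩ := Groth.Reductive.FrobSub.exists_data k K
  refine Groth.Reductive.FrobSub.exists_subgroup (φ := Spec.map (CommRingCat.ofHom φ)) (Φ := Φ)
    (fun X Y f => hnat f) hS hT hpt ?_ G H' h'
  refine ((tfae_universallyInjective _).out 0 1 : _ ↔ ∀ (L : Type u) [Field L],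
    Function.Injective (fun g : Spec (.of L) ⟶ Spec (.of K) =>
      g ≫ Spec.map (CommRingCat.ofHom (algebraMap k K)))).2 fun L _ g₁ g₂ e => ?_
  obtain ⟨a, rfl⟩ := Spec.map_surjective g₁
  obtain ⟨b, rfl⟩ := Spec.map_surjective g₂
  simp only [← Spec.map_comp] at e
  have e' := Spec.map_injective e
  letI : Algebra k L := (a.hom.comp (algebraMap k K)).toAlgebra
  let A : K →ₐ[k] L := { a.hom with commutes' := fun x => rfl }
  let B : K →ₐ[k] L := { b.hom with commutes' := fun x => (ConcreteCategory.congr_hom e' x).symm }
  exact congrArg Spec.map (CommRingCat.hom_ext (congrArg AlgHom.toRingHom (Subsingleton.elim A B)))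

end Groth.Agent.S14583
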