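import Groth.Statements.S14587
import Groth.Agent.AlgGrp1.OpenSub
import Groth.Agent.AlgGrp1.Sub
import Groth.Agent.AlgGrp1.Weil
import Mathlib.Topology.Separation.Connected

set_option autoImplicit false
universe u
open CategoryTheory MonoidalCategory CartesianMonoidalCategory MonObj GrpObj AlgebraicGeometry CategoryTheory.Limits
open AlgGrp

namespace Groth.Agent.S14587

/-- Let k be a perfect field and G a finite k-group scheme, r : G_red → G its reduced subgroup scheme (a
homomorphism and closed immersion from a reduced k-group scheme, surjective on underlying spaces)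
and i₀ : G⁰ → G its neutral component (a homomorphism and open immersion from a connected k-group
scheme). Then the multiplication morphism G_red × G⁰ → G is an isomorphism, exhibiting G as the
semi-direct product of G⁰ by G_red. -/
theorem result (k : Type u) [Field k] [PerfectField k]
    (G Gr G₀ : Over (Spec (CommRingCat.of k))) [GrpObj G] [GrpObj Gr] [GrpObj G₀] [IsFinite G.hom]
    (r : Gr ⟶ G) [IsMonHom r] [IsClosedImmersion r.left] [IsReduced Gr.left] [Surjective r.left]
    (i₀ : G₀ ⟶ G) [IsMonHom i₀] [IsOpenImmersion i₀.left] [ConnectedSpace ↥G₀.left] :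
    IsIso ((r ⊗ₘ i₀) ≫ μ[G]) := by
  have : Mono r.left := inferInstance
  have : Mono r := Over.mono_of_mono_left _
  have : Mono i₀.left := inferInstance
  have : Mono i₀ := Over.mono_of_mono_left _
  have : LocallyOfFiniteType G₀.hom := by rw [← Over.w i₀]; infer_instance
  have : LocallyOfFiniteType Gr.hom := by rw [← Over.w r]; infer_instance
  -- the neutral component of a finite group scheme is a point
  have hsub : Subsingleton G₀.left := by
    have : DiscreteTopology (Spec (CommRingCat.of k)) := inferInstance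
    have : DiscreteTopology G.left := by
      have h := (IsLocallyArtinian.of_locallyQuasiFinite G.hom)
      infer_instance
    have : DiscreteTopology G₀.left := i₀.left.isOpenEmbedding.isEmbedding.discreteTopology
    exact _root_.PreconnectedSpace.trivial_of_discrete
  obtain ⟨I, c, hcl, hI⟩ := Groth.AlgGrp1.exists_preimage r i₀
  have hz : ∀ (W : Over (Spec (CommRingCat.of k))) (z : W ⟶ Gr) (y : W ⟶ G₀), z ≫ r = y ≫ i₀ → y = 1 := by
    intro W z y hzy
    obtain ⟨e, he⟩ := (hI W y).2 ⟨z, hzy⟩
    obtain ⟨zI, hzI⟩ := (hI I c).1 ⟨𝟙 I, Category.id_comp c⟩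
    -- `I` is an open subscheme of the reduced `Gr`
    have : IsReduced I.left := by
      let V : Gr.left.Opens := r.left ⁻¹ᵁ i₀.left.opensRange
      have hc' : IsOpenImmersion zI.left := by
        have hp : IsPullback zI c r i₀ := by
          refine ⟨⟨hzI⟩, ⟨PullbackCone.IsLimit.mk _ (fun s => ((hI _ s.snd).2 ⟨s.fst, s.condition⟩).choose) ?_ ?_ ?_⟩⟩
          · intro s
            rw [← cancel_mono r, Category.assoc, hzI, ← Category.assoc,
              ((hI _ s.snd).2 ⟨s.fst, s.condition⟩).choose_spec, s.condition]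
          · exact fun s => ((hI _ s.snd).2 ⟨s.fst, s.condition⟩).choose_spec
          · intro s m _ hm
            have : Mono c.left := inferInstance
            have : Mono c := Over.mono_of_mono_left _
            rw [← cancel_mono c, hm]
            exact ((hI _ s.snd).2 ⟨s.fst, s.condition⟩).choose_spec.symm
        exact MorphismProperty.of_isPullback (hp.map (Over.forget _)).flip ‹IsOpenImmersion i₀.left›
      exact isReduced_of_isOpenImmersion zI.left
    obtain ⟨eI, heI⟩ := (hI _ (1 : 𝟙_ _ ⟶ G₀)).2 ⟨1, by rw [MonObj.one_comp, MonObj.one_comp]⟩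
    have : IsClosedImmersion eI.left := isClosedImmersion_of_comp_eq_id I.hom eI.left (Over.w eI)
    have : Surjective eI.left := ⟨fun p => ⟨IsLocalRing.closedPoint k,
      c.left.isClosedEmbedding.injective (Subsingleton.elim _ _)⟩⟩
    have := isIso_of_isClosedImmersion_of_surjective eI.left
    have : IsIso ((Over.forget _).map eI) := this
    have : IsIso eI := isIso_of_reflects_iso eI (Over.forget _)
    have : c = 1 := by
      rw [← cancel_epi eI, heI, MonObj.comp_one]
    rw [← he, this, MonObj.comp_one]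
  have hmul : (r ⊗ₘ i₀) ≫ μ[G] = (fst Gr G₀ ≫ r) * (snd Gr G₀ ≫ i₀) := by
    rw [← lift_fst_comp_snd_comp]; rfl
  have hmono : Mono ((r ⊗ₘ i₀) ≫ μ[G]) := ⟨fun {W} a b h => by
    rw [hmul, MonObj.comp_mul, MonObj.comp_mul] at h
    have h' : ((b ≫ fst Gr G₀)⁻¹ * (a ≫ fst Gr G₀)) ≫ r = ((b ≫ snd Gr G₀) * (a ≫ snd Gr G₀)⁻¹) ≫ i₀ := by
      simp only [MonObj.mul_comp, GrpObj.inv_comp, Category.assoc]
      rw [inv_mul_eq_iff_eq_mul, ← _root_.mul_assoc, ← h, mul_inv_cancel_right]
    have e2 := hz W _ _ h'
    rw [mul_inv_eq_one] at e2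
    have e1 : (b ≫ fst Gr G₀) = a ≫ fst Gr G₀ := by
      rw [e2, mul_inv_cancel, MonObj.one_comp] at h'
      have : ((b ≫ fst Gr G₀)⁻¹ * (a ≫ fst Gr G₀)) = 1 := by
        rw [← cancel_mono r, h', MonObj.one_comp]
      exact inv_mul_eq_one.1 this
    exact CartesianMonoidalCategory.hom_ext _ _ e1.symm e2.symm⟩
  have : Flat ((r ⊗ₘ i₀) ≫ μ[G]).left := by
    rw [tensorHom_def', Category.assoc, Over.comp_left]
    have : Flat (r ▷ G ≫ μ[G]).left :=
      Groth.GrpschAbsch.whiskerRight_mul_left_mem (@Flat) r inferInstance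
    have : Flat (Gr ◁ i₀).left :=
      MorphismProperty.of_isPullback (Groth.AlgGrp1.isPullback_whiskerLeft Gr i₀) (inferInstanceAs (Flat i₀.left))
    infer_instance
  have : Surjective ((r ⊗ₘ i₀) ≫ μ[G]).left := ⟨fun g => by
    obtain ⟨x, hx⟩ := r.left.surjective g
    refine ⟨(lift (𝟙 Gr) (1 : Gr ⟶ G₀)).left.base x, ?_⟩
    have e : lift (𝟙 Gr) (1 : Gr ⟶ G₀) ≫ (r ⊗ₘ i₀) ≫ μ[G] = r := by
      rw [hmul, MonObj.comp_mul, lift_fst_assoc, lift_snd_assoc, Category.id_comp, MonObj.one_comp, _root_.mul_one]
    exact (congr(($e).left.base x)).trans hx⟩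
  have : LocallyOfFiniteType (Gr ⊗ G₀).hom := by dsimp; infer_instance
  exact Groth.AlgGrp1.isIso_of_mono_cover (Groth.AlgGrp1.isCover ((r ⊗ₘ i₀) ≫ μ[G]))

end Groth.Agent.S14587
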