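import Groth.Statements.S14589
import Groth.Agent.AlgGrp1.AntiAffineProd

set_option autoImplicit false
universe u
open CategoryTheory MonoidalCategory CartesianMonoidalCategory MonObj GrpObj AlgebraicGeometry CategoryTheory.Limits
open AlgGrp

namespace Groth.Agent.S14589

/-- Let k be a field, G a k-group scheme of finite type, i : N → G a closed normal subgroup scheme and q
: G → Q a flat surjective homomorphism of k-group schemes of finite type with kernel N (Q = G/N).
Let j : M → G and j' : M' → Q be the largest anti-affine subgroup schemes of G and of Q (closed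
subgroup schemes of finite type with only constant global functions through which every other such
subgroup scheme factors). Then q maps M onto M': the image of M → G → Q equals the underlying set of
M'. Since M' is smooth, this is the statement that G_ant/(G_ant ∩ N) → (G/N)_ant is an isomorphism. -/
theorem result (k : Type u) [Field k]
    (G : Over (Spec (CommRingCat.of k))) [GrpObj G] [LocallyOfFiniteType G.hom] [QuasiCompact G.hom]
    (N : Over (Spec (CommRingCat.of k))) [GrpObj N] (i : N ⟶ G) [IsMonHom i] [IsClosedImmersion i.left] (hN : AlgGrp.IsNormalHom i)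
    (Q : Over (Spec (CommRingCat.of k))) [GrpObj Q] [LocallyOfFiniteType Q.hom] [QuasiCompact Q.hom]
    (q : G ⟶ Q) [IsMonHom q] [Surjective q.left] [Flat q.left] (hq : AlgGrp.IsKernel i q)
    (M : Over (Spec (CommRingCat.of k))) [GrpObj M] [LocallyOfFiniteType M.hom] [QuasiCompact M.hom] (j : M ⟶ G) [IsMonHom j] [IsClosedImmersion j.left]
    (hM : Function.Bijective ((Scheme.ΓSpecIso (CommRingCat.of k)).inv ≫ M.hom.appTop).hom)
    (hMmax : ∀ (M₁ : Over (Spec (CommRingCat.of k))) [GrpObj M₁] [LocallyOfFiniteType M₁.hom] [QuasiCompact M₁.hom] (j₁ : M₁ ⟶ G) [IsMonHom j₁] [IsClosedImmersion j₁.left],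
      Function.Bijective ((Scheme.ΓSpecIso (CommRingCat.of k)).inv ≫ M₁.hom.appTop).hom → ∃ g : M₁ ⟶ M, g ≫ j = j₁)
    (M' : Over (Spec (CommRingCat.of k))) [GrpObj M'] [LocallyOfFiniteType M'.hom] [QuasiCompact M'.hom] (j' : M' ⟶ Q) [IsMonHom j'] [IsClosedImmersion j'.left]
    (hM' : Function.Bijective ((Scheme.ΓSpecIso (CommRingCat.of k)).inv ≫ M'.hom.appTop).hom)
    (hM'max : ∀ (M₁ : Over (Spec (CommRingCat.of k))) [GrpObj M₁] [LocallyOfFiniteType M₁.hom] [QuasiCompact M₁.hom] (j₁ : M₁ ⟶ Q) [IsMonHom j₁] [IsClosedImmersion j₁.left],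
      Function.Bijective ((Scheme.ΓSpecIso (CommRingCat.of k)).inv ≫ M₁.hom.appTop).hom → ∃ g : M₁ ⟶ M', g ≫ j' = j₁) :
    Set.range ⇑(j ≫ q).left.base = Set.range ⇑j'.left.base := by
  refine Set.Subset.antisymm ?_ ?_
  · obtain ⟨B, _, b, g, _, _, _, _, _, _, _, hgb⟩ := Groth.AlgGrp1.exists_image_hom (j ≫ q)
    have hB : Groth.AlgGrp1.HasConstFunctions B := by
      have hinj : Function.Injective g.left.appTop := by
        intro s t hst
        refine TopCat.Presheaf.section_ext B.left.sheaf ⊤ s t fun x hx => ?_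
        obtain ⟨y, rfl⟩ := g.left.surjective x
        apply Groth.Agf.stalkMap_injective g.left y
        show g.left.stalkMap y (B.left.presheaf.germ ⊤ (g.left y) hx s) = g.left.stalkMap y (B.left.presheaf.germ ⊤ (g.left y) hx t)
        rw [Scheme.Hom.germ_stalkMap_apply, Scheme.Hom.germ_stalkMap_apply]
        exact congrArg _ hst
      refine ⟨?_, fun s => ?_⟩
      · have : Nontrivial Γ(B.left, ⊤) := RingHom.domain_nontrivial
          (η[B].left.appTop ≫ (Scheme.ΓSpecIso (CommRingCat.of k)).hom).hom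
        exact RingHom.injective _
      · obtain ⟨c, hc⟩ := hM.2 (g.left.appTop s)
        refine ⟨c, hinj ?_⟩
        rw [← hc]
        show g.left.appTop (B.hom.appTop ((Scheme.ΓSpecIso (CommRingCat.of k)).inv c)) = _
        rw [← ConcreteCategory.comp_apply, ← Scheme.Hom.comp_appTop, Over.w]
        rfl
    obtain ⟨f, hf⟩ := hM'max B b hB
    rintro _ ⟨x, rfl⟩
    refine ⟨(g ≫ f).left x, ?_⟩
    rw [← hgb, ← hf, ← Category.assoc]
    rfl
  · obtain ⟨G', a, b, sq⟩ : ∃ (G' : Over (Spec (CommRingCat.of k))) (a : G' ⟶ G) (b : G' ⟶ M'),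
        CategoryTheory.IsPullback a b q j' := ⟨_, _, _, IsPullback.of_hasPullback q j'⟩
    have sq' : CategoryTheory.IsPullback a.left b.left q.left j'.left := sq.map (Over.forget _)
    have : IsClosedImmersion a.left := MorphismProperty.of_isPullback sq'.flip ‹IsClosedImmersion j'.left›
    have : Flat b.left := MorphismProperty.of_isPullback sq' ‹Flat q.left›
    have : Surjective b.left := MorphismProperty.of_isPullback sq' ‹Surjective q.left›
    have : Mono a := Over.mono_of_mono_left a
    have : Mono j' := Over.mono_of_mono_left j'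
    have hA : ∀ (T : Over (Spec (CommRingCat.of k))) (x : T ⟶ G),
        (∃ z : T ⟶ G', z ≫ a = x) ↔ ∃ z : T ⟶ M', x ≫ q = z ≫ j' := fun T x =>
      ⟨fun ⟨z, hz⟩ => ⟨z ≫ b, by rw [← hz, Category.assoc, sq.w, Category.assoc]⟩,
        fun ⟨z, hz⟩ => ⟨sq.lift x z hz, sq.lift_fst _ _ _⟩⟩
    obtain ⟨_, _⟩ := Groth.Agf.exists_grpObj_of_subgroup a (fun T x => ∃ z : T ⟶ M', x ≫ q = z ≫ j') hA
      (fun T => ⟨1, by rw [MonObj.one_comp, MonObj.one_comp]⟩)
      (fun T u v ⟨z, hz⟩ ⟨w, hw⟩ => ⟨z * w, by rw [MonObj.mul_comp, MonObj.mul_comp, hz, hw]⟩)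
      (fun T u ⟨z, hz⟩ => ⟨z⁻¹, by rw [GrpObj.inv_comp, GrpObj.inv_comp, hz]⟩)
    have : IsMonHom b := by
      constructor
      · rw [← cancel_mono j', Category.assoc, ← sq.w, IsMonHom.one_hom_assoc, IsMonHom.one_hom, IsMonHom.one_hom]
      · rw [← cancel_mono j', Category.assoc, ← sq.w, Category.assoc, IsMonHom.mul_hom j',
          tensorHom_comp_tensorHom_assoc, ← sq.w, IsMonHom.mul_hom_assoc a, IsMonHom.mul_hom q,
          tensorHom_comp_tensorHom_assoc]
    have : LocallyOfFiniteType G'.hom := by rw [← Over.w a]; infer_instance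
    have : QuasiCompact G'.hom := by rw [← Over.w a]; infer_instance
    obtain ⟨i', hi'⟩ := (hA N i).2 ⟨1, by
      rw [MonObj.one_comp, Groth.AlgGrp1.IsKernel.comp_eq_one hq]⟩
    have : Mono i := Over.mono_of_mono_left i
    have : IsClosedImmersion i'.left := by
      have : IsClosedImmersion (i'.left ≫ a.left) := by rw [← Over.comp_left, hi']; infer_instance
      exact IsClosedImmersion.of_comp i'.left a.left
    have : IsMonHom i' := by
      constructor
      · rw [← cancel_mono a, Category.assoc, hi', IsMonHom.one_hom, IsMonHom.one_hom]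
      · rw [← cancel_mono a, Category.assoc, hi', Category.assoc, IsMonHom.mul_hom a,
          tensorHom_comp_tensorHom_assoc, hi', IsMonHom.mul_hom i]
    have hib : i' ≫ b = 1 := by
      rw [← cancel_mono j', Category.assoc, ← sq.w, reassoc_of% hi', Groth.AlgGrp1.IsKernel.comp_eq_one hq,
        MonObj.one_comp]
    have hker : AlgGrp.IsKernel i' b := Groth.AlgGrp1.IsKernel.mk' (Over.mono_of_mono_left i') (fun T x =>
      ⟨fun ⟨z, hz⟩ => by rw [← hz, Category.assoc, hib, MonObj.comp_one], fun hx => by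
        obtain ⟨n, hn⟩ := Groth.AlgGrp1.IsKernel.exists_lift hq (x ≫ a) (by
          rw [Category.assoc, sq.w, reassoc_of% hx, MonObj.one_comp])
        exact ⟨n, by rw [← cancel_mono a, Category.assoc, hi', hn]⟩⟩)
    obtain ⟨K, _, c, _, _, _, _, hK, hsurj⟩ := Groth.AlgGrp1.AntiAffineProd.surjective_mul_hullKernel i' b hker
      (Groth.AlgGrp1.AntiAffineProd.affTopConst_of_hasConst hM' η[M'])
    have : IsClosedImmersion (c ≫ a).left := by rw [Over.comp_left]; infer_instance
    obtain ⟨g, hg⟩ := hMmax K (c ≫ a) hK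
    rintro _ ⟨y, rfl⟩
    obtain ⟨x, rfl⟩ := b.left.surjective y
    obtain ⟨w, rfl⟩ := hsurj.surj x
    refine ⟨((snd N K) ≫ g).left w, ?_⟩
    have e : ((i' ⊗ₘ c) ≫ μ[G']) ≫ b ≫ j' = (snd N K ≫ g) ≫ j ≫ q := by
      rw [Category.assoc, IsMonHom.mul_hom_assoc b, tensorHom_comp_tensorHom_assoc, hib]
      rw [← Category.assoc, show ((1 : N ⟶ M') ⊗ₘ (c ≫ b)) ≫ μ[M'] = snd N K ≫ c ≫ b from by
        rw [show ((1 : N ⟶ M') ⊗ₘ (c ≫ b)) = lift (fst N K ≫ 1) (snd N K ≫ c ≫ b) from by
          ext <;> simp, ← Hom.mul_def, MonObj.comp_one, _root_.one_mul]]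
      simp only [Category.assoc, ← sq.w, reassoc_of% hg]
    exact (congrArg (fun φ => φ.left w) e).symm

end Groth.Agent.S14589
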