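import Groth.Statements.S1459
import Groth.Agent.FlatMor2.FibCrit.RegChart

set_option autoImplicit false
universe u
open FlatMor

namespace Groth.Agent.S1459

open AlgebraicGeometry CategoryTheory Limits in
/-- Let f : X → S be locally of finite presentation and flat at x with image s, and let h_1, …, h_r be
elements of O_{X,x} whose images in O_{X,x} / m_s O_{X,x} form a regular sequence. Then there are an
affine open U ∋ x and sections on U with these germs such that the closed subscheme Z of U they cut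
out is a regular closed immersion whose image contains x, Z → S is flat and locally of finite
presentation, and the base change of Z → U along any S' → S is again a regular closed immersion. -/
theorem result {X S : Scheme.{u}} (f : X ⟶ S) [LocallyOfFinitePresentation f] (x : X)
    (hflat : (f.stalkMap x).hom.Flat) (hs : List ↑(X.presheaf.stalk x))
    (hreg : RingTheory.Sequence.IsRegular (↑(X.presheaf.stalk x) ⧸ Ideal.map (f.stalkMap x).hom (IsLocalRing.maximalIdeal ↑(S.presheaf.stalk (f x))))
      (hs.map (Ideal.Quotient.mk (Ideal.map (f.stalkMap x).hom (IsLocalRing.maximalIdeal ↑(S.presheaf.stalk (f x))))))) :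
    ∃ (U : X.Opens) (hU : IsAffineOpen U) (hx : x ∈ U) (hs' : List Γ(X, U)), hs'.map (X.presheaf.germ U x hx) = hs ∧
      Mor2.IsRegularClosedImmersion (Spec.map (CommRingCat.ofHom (Ideal.Quotient.mk (Ideal.ofList hs'))) ≫ hU.isoSpec.inv) ∧
      x ∈ Set.range ⇑(Spec.map (CommRingCat.ofHom (Ideal.Quotient.mk (Ideal.ofList hs'))) ≫ hU.fromSpec) ∧
      Flat (Spec.map (CommRingCat.ofHom (Ideal.Quotient.mk (Ideal.ofList hs'))) ≫ hU.fromSpec ≫ f) ∧ LocallyOfFinitePresentation (Spec.map (CommRingCat.ofHom (Ideal.Quotient.mk (Ideal.ofList hs'))) ≫ hU.fromSpec ≫ f) ∧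
      ∀ (S' : Scheme.{u}) (g : S' ⟶ S), Mor2.IsRegularClosedImmersion
        (pullback.map (Spec.map (CommRingCat.ofHom (Ideal.Quotient.mk (Ideal.ofList hs'))) ≫ hU.isoSpec.inv ≫ U.ι ≫ f) g (U.ι ≫ f) g (Spec.map (CommRingCat.ofHom (Ideal.Quotient.mk (Ideal.ofList hs'))) ≫ hU.isoSpec.inv) (𝟙 S') (𝟙 S)
          (Category.comp_id _) ((Category.comp_id g).trans (Category.id_comp g).symm)) := by
  classical
  set m := Ideal.map (f.stalkMap x).hom (IsLocalRing.maximalIdeal ↑(S.presheaf.stalk (f x))) with hm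
  have hmem : ∀ h ∈ hs, h ∈ IsLocalRing.maximalIdeal (X.presheaf.stalk x) := by
    intro h hh
    by_contra hu
    have hu' : IsUnit h := by simpa [IsLocalRing.mem_maximalIdeal] using hu
    refine hreg.top_ne_smul ?_
    rw [smul_eq_mul, Ideal.mul_top, eq_comm]
    exact Ideal.eq_top_of_isUnit_mem _ (Ideal.subset_span (List.mem_map_of_mem hh)) (hu'.map (Ideal.Quotient.mk m))
  obtain ⟨V, hV, hxV, -⟩ :=
    exists_isAffineOpen_mem_and_subset (x := f x) (TopologicalSpace.Opens.mem_top (f x))
  obtain ⟨O, hxO, c₀, hO, hc₀⟩ := Groth.FlatMor2.FibCrit.exists_lift_list x hs (f ⁻¹ᵁ V) hxV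
  obtain ⟨U, hU, hxU, hUO⟩ := exists_isAffineOpen_mem_and_subset (x := x) hxO
  let c : List Γ(X, U) := c₀.map (X.presheaf.map (homOfLE (show U ≤ O from hUO)).op)
  have hc : c.map (X.presheaf.germ U x hxU) = hs := by
    rw [← hc₀, List.map_map]
    exact List.map_congr_left fun a _ => X.presheaf.germ_res_apply _ x _ a
  obtain ⟨g, hxg, hall⟩ := Groth.FlatMor2.FibCrit.exists_regular_nhd f hV hU
    ((show U ≤ O from hUO).trans hO) x hxU hflat c
    (fun a ha => hmem _ (hc ▸ List.mem_map_of_mem ha))
    (by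
      have := hreg.toIsWeaklyRegular
      rw [← hc, List.map_map] at this
      exact this)
  obtain ⟨h1, h2, h3, h4⟩ := hall g dvd_rfl
  have hc' : (c.map (X.presheaf.map (homOfLE (X.basicOpen_le g)).op)).map
      (X.presheaf.germ (X.basicOpen g) x hxg) = hs := by
    rw [← hc, List.map_map]
    exact List.map_congr_left fun a _ => X.presheaf.germ_res_apply _ x _ a
  exact ⟨X.basicOpen g, hU.basicOpen g, hxg, _, hc', h1,
    Groth.FlatMor2.FibCrit.mem_range_ofList (hU.basicOpen g) _ x hxg
      (fun a ha => hmem _ (hc' ▸ List.mem_map_of_mem ha)), h2, h3, h4⟩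

end Groth.Agent.S1459
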