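import Groth.Statements.S14590
import Groth.Agent.AlgGrpEquiv.GaloisNorm

set_option autoImplicit false
universe u
open CategoryTheory MonoidalCategory CartesianMonoidalCategory MonObj GrpObj AlgebraicGeometry CategoryTheory.Limits
open AlgGrp

namespace Groth.Agent.S14590

/-- Let k be a field, A an abelian variety (proper, smooth, connected k-group scheme), X and Y smooth
varieties over k (smooth, separated, geometrically integral k-schemes of finite type) and f : X → Y
an A-torsor: an action of A on X with f invariant, flat and surjective and A × X → X ×_Y X, (a, x) ↦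
(a·x, x), an isomorphism. Then there exist a k-morphism φ : X → A and a positive integer n such that
φ(a·x) = φ(x) · aⁿ identically (multiplicative notation for the group law of A). -/
theorem result (k : Type u) [Field k]
    (A X Y : Over (Spec (CommRingCat.of k))) [GrpObj A] [IsProper A.hom] [Smooth A.hom] [ConnectedSpace ↥A.left]
    [Smooth X.hom] [IsSeparated X.hom] [QuasiCompact X.hom] [GeometricallyIntegral X.hom]
    [Smooth Y.hom] [IsSeparated Y.hom] [QuasiCompact Y.hom] [GeometricallyIntegral Y.hom]
    (a : AlgGrp.Action A X) (f : X ⟶ Y) [Flat f.left] [Surjective f.left]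
    (hinv : a.act ≫ f = snd A X ≫ f) (htors : IsIso (pullback.lift a.act (snd A X) hinv)) :
    ∃ (φ : X ⟶ A) (n : ℕ), 0 < n ∧
      ∀ (T : Over (Spec (CommRingCat.of k))) (b : T ⟶ A) (x : T ⟶ X), lift b x ≫ a.act ≫ φ = (x ≫ φ) * b ^ n := by
  have := Groth.AlgGrp1.geometricallyIntegral_of_smooth A
  have hassoc : ∀ {T : Over (Spec (CommRingCat.of k))} (u v : T ⟶ A) (x : T ⟶ X),
      lift u (lift v x ≫ a.act) ≫ a.act = lift (u * v) x ≫ a.act := fun u v x => by
    have e := congrArg (lift (lift u v) x ≫ ·) a.mul_act
    simp only [lift_whiskerRight_assoc, lift_lift_associator_hom_assoc, lift_whiskerLeft_assoc] at e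
    exact e.symm
  have hone : ∀ {T : Over (Spec (CommRingCat.of k))} (x : T ⟶ X), lift (1 : T ⟶ A) x ≫ a.act = x := fun x => by
    have e := congrArg (lift (toUnit _) x ≫ ·) a.one_act
    simp only [lift_whiskerRight_assoc, lift_leftUnitor_hom] at e
    exact e
  have hfree : Mono (lift a.act (snd A X)) := ⟨fun {W} u v h => by
    have h1 := congrArg (· ≫ fst X X) h
    have h2 := congrArg (· ≫ snd X X) h
    simp only [Category.assoc, lift_fst, lift_snd] at h1 h2
    rw [← cancel_mono (pullback.lift a.act (snd A X) hinv)]
    apply pullback.hom_ext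
    · simp only [Category.assoc]
      refine (congrArg (u ≫ ·) (pullback.lift_fst _ _ _)).trans (Eq.trans ?_ (congrArg (v ≫ ·) (pullback.lift_fst _ _ _)).symm)
      exact h1
    · simp only [Category.assoc]
      refine (congrArg (u ≫ ·) (pullback.lift_snd _ _ _)).trans (Eq.trans ?_ (congrArg (v ≫ ·) (pullback.lift_snd _ _ _)).symm)
      exact h2⟩
  exact Groth.AlgGrpEquiv.exists_equivariant_of_free a.act hassoc hone hfree

end Groth.Agent.S14590
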