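import Groth.Statements.S17451
import Groth.Agent.AlgGrp1.AntiAffineProd
import Groth.Agent.AlgGrp1.Geom
import Groth.Agent.AlgGrp1.Blanchard
import Groth.Agent.Reductive.MultTypeComm
import Groth.Agent.GrpschAbsch.TorusToAbelian

set_option autoImplicit false
set_option linter.style.haveILetI false
set_option maxHeartbeats 1000000
universe u
open CategoryTheory MonoidalCategory CartesianMonoidalCategory MonObj GrpObj AlgebraicGeometry CategoryTheory.Limits
open AlgGrp

namespace Groth.Agent.S17451

/-- Let k be a field with algebraic closure K and G a smooth connected k-group scheme of finite type,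
not assumed commutative, whose base change G_K has a torus as a subgroup with an abelian variety as
the quotient: there are a closed subgroup scheme T of G_K which is a torus and a flat surjective
homomorphism from G_K onto a proper smooth connected K-group scheme with kernel T. Then G is
commutative. (The published result also asserts that G then has, over k itself, a unique torus
subgroup with abelian-variety quotient of this kind; only commutativity is stated here.) -/
theorem result (k : Type u) [Field k]
    (G : Over (Spec (CommRingCat.of k))) [GrpObj G] [Smooth G.hom] [QuasiCompact G.hom] [ConnectedSpace ↥G.left]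
    (hK : (∃ (T : Over (Spec (CommRingCat.of (AlgebraicClosure k)))) (_ : GrpObj T) (i : T ⟶ Red.bc (Spec.map (CommRingCat.ofHom (algebraMap k (AlgebraicClosure k)))) G) (A : Over (Spec (CommRingCat.of (AlgebraicClosure k)))) (_ : GrpObj A) (q : Red.bc (Spec.map (CommRingCat.ofHom (algebraMap k (AlgebraicClosure k)))) G ⟶ A),
        IsMonHom i ∧ IsClosedImmersion i.left ∧ Red.IsTorus T ∧ IsMonHom q ∧ Surjective q.left ∧ Flat q.left ∧
        AlgGrp.IsKernel i q ∧ IsProper A.hom ∧ Smooth A.hom ∧ ConnectedSpace ↥A.left)) :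
    IsCommMonObj G := by
  open Groth.AlgGrp1 in
  let φ := Spec.map (CommRingCat.ofHom (algebraMap k (AlgebraicClosure k)))
  obtain ⟨T, _, i, A, _, q, hi, hic, hT, hq, hqs, hqf, hker, hAp, hAs, hAc⟩ := hK
  haveI := hi; haveI := hic; haveI := hq; haveI := hqs; haveI := hqf; haveI := hAp
  haveI : Smooth (Red.bc φ G).hom := inferInstanceAs (Smooth (Limits.pullback.snd G.hom φ))
  haveI : LocallyOfFiniteType (Red.bc φ G).hom := inferInstance
  haveI : QuasiCompact (Red.bc φ G).hom := inferInstanceAs (QuasiCompact (Limits.pullback.snd G.hom φ))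
  haveI : ConnectedSpace (Red.bc φ G).left := by
    haveI := geometricallyConnected_of_point G.hom η[G].left (Over.w η[G])
    exact (inferInstance : ConnectedSpace ↥(Limits.pullback G.hom φ))
  haveI := geometricallyReduced_of_smooth_hom (Red.bc φ G)
  haveI : AlgebraicGeometry.IsReduced (Red.bc φ G).left := isReduced_left _
  haveI : AlgebraicGeometry.IsReduced (Red.bc φ G ⊗ Red.bc φ G).left := isReduced_tensorObj _ _
  haveI := isSeparated_grpObj (Red.bc φ G)
  haveI : ConnectedSpace A.left := hAc
  obtain ⟨K, _, c, hc, hcc, hKlft, hKqc, hKc, hsur⟩ :=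
    AntiAffineProd.surjective_mul_hullKernel i q hker (AntiAffineProd.affTopConst_of_proper A)
  haveI := hc; haveI := hKlft; haveI := hKqc; haveI := hsur
  have hcomm : ∀ (X : Over (Spec (CommRingCat.of (AlgebraicClosure k)))) (n n' : X ⟶ T),
      (n ≫ i) * (n' ≫ i) = (n' ≫ i) * (n ≫ i) := fun X n n' => by
    rw [← MonObj.mul_comp, ← MonObj.mul_comp,
      Groth.Reductive.FreeDiag.comm_of_multTypeFT (Groth.Reductive.FreeDiag.isMultTypeFT_of_isTorus hT) X n n']
  let m := (i ⊗ₘ c) ≫ μ[Red.bc φ G]
  have hm : ∀ (X : Over (Spec (CommRingCat.of (AlgebraicClosure k)))) (x : X ⟶ T ⊗ K),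
      x ≫ m = ((x ≫ fst T K) ≫ i) * ((x ≫ snd T K) ≫ c) := fun X x => by
    rw [Hom.mul_def, ← Category.assoc]
    congr 1
    ext <;> simp
  have huniv : fst (Red.bc φ G) (Red.bc φ G) * snd (Red.bc φ G) (Red.bc φ G) =
      snd (Red.bc φ G) (Red.bc φ G) * fst (Red.bc φ G) (Red.bc φ G) := by
    haveI : Surjective (m ⊗ₘ m).left := by
      haveI : Surjective m.left := hsur
      haveI : Surjective (m ▷ (T ⊗ K)).left := MorphismProperty.of_isPullback
        (isPullback_whiskerRight m (T ⊗ K)) ‹Surjective m.left›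
      haveI : Surjective (Red.bc φ G ◁ m).left := MorphismProperty.of_isPullback
        (isPullback_whiskerLeft (Red.bc φ G) m) ‹Surjective m.left›
      rw [MonoidalCategory.tensorHom_def, Over.comp_left]
      infer_instance
    haveI : IsDominant (m ⊗ₘ m).left := inferInstance
    refine Over.OverMorphism.ext (ext_of_isDominant_of_isSeparated (Red.bc φ G).hom
      ((Over.w _).trans (Over.w _).symm) (m ⊗ₘ m).left ?_)
    rw [← Over.comp_left, ← Over.comp_left]
    congr 1
    rw [MonObj.comp_mul, MonObj.comp_mul, tensorHom_fst, tensorHom_snd, hm, hm]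
    set n := fst (T ⊗ K) (T ⊗ K) ≫ fst T K
    set l := fst (T ⊗ K) (T ⊗ K) ≫ snd T K
    set n' := snd (T ⊗ K) (T ⊗ K) ≫ fst T K
    set l' := snd (T ⊗ K) (T ⊗ K) ≫ snd T K
    have hl : ∀ g, (l ≫ c) * g = g * (l ≫ c) := fun g => comm_of_hasConstFunctions hKc c l g
    have hl' : ∀ g, (l' ≫ c) * g = g * (l' ≫ c) := fun g => comm_of_hasConstFunctions hKc c l' g
    calc (n ≫ i) * (l ≫ c) * ((n' ≫ i) * (l' ≫ c))
        = (n ≫ i) * (n' ≫ i) * ((l ≫ c) * (l' ≫ c)) := by
          rw [_root_.mul_assoc, ← _root_.mul_assoc (l ≫ c), hl, _root_.mul_assoc (n' ≫ i), ← _root_.mul_assoc (n ≫ i)]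
      _ = (n' ≫ i) * (n ≫ i) * ((l' ≫ c) * (l ≫ c)) := by rw [hcomm, hl (l' ≫ c)]
      _ = (n' ≫ i) * (l' ≫ c) * ((n ≫ i) * (l ≫ c)) := by
          rw [_root_.mul_assoc, ← _root_.mul_assoc (n ≫ i), ← hl' (n ≫ i), _root_.mul_assoc (l' ≫ c),
            ← _root_.mul_assoc (n' ≫ i)]
  have key : ∀ (X : Over (Spec (CommRingCat.of k))) (a b : X ⟶ G) [Surjective φ] [Flat φ] [QuasiCompact φ],
      a * b = b * a := by
    intro X a b _ _ _
    have h1 : (Over.pullback φ).map (a * b) = (Over.pullback φ).map (b * a) := by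
      rw [Functor.map_mul, Functor.map_mul]
      have := congrArg (fun t => lift ((Over.pullback φ).map a) ((Over.pullback φ).map b) ≫ t) huniv
      simpa only [MonObj.comp_mul, lift_fst, lift_snd] using this
    refine Over.OverMorphism.ext ?_
    haveI : Epi (Limits.pullback.fst X.hom φ) := inferInstance
    rw [← cancel_epi (Limits.pullback.fst X.hom φ)]
    have := congrArg (fun t => t.left ≫ Limits.pullback.fst G.hom φ) h1
    simp only [Over.pullback_map_left] at this
    simpa [pullback.lift_fst] using this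
  haveI : Surjective φ := ⟨fun x => ⟨IsLocalRing.closedPoint (AlgebraicClosure k),
    Subsingleton.elim (α := ↥(Spec (CommRingCat.of k))) _ _⟩⟩
  haveI : Flat φ := inferInstance
  haveI : QuasiCompact φ := inferInstance
  rw [isCommMonObj_iff_isMulCommutative]
  exact fun X => ⟨⟨fun a b => key X a b⟩⟩

end Groth.Agent.S17451
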