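import Groth.Statements.S4114
import Groth.Agent.Sga3.HopfFiniteDescent

set_option autoImplicit false
universe u
open CategoryTheory MonoidalCategory CartesianMonoidalCategory MonObj GrpObj AlgebraicGeometry CategoryTheory.Limits
open SGA3

namespace Groth.Agent.S4114

open TensorProduct WithConv

/-- Two elements of a flat finitely presented module over a reduced ring agree if all residue images do. -/
theorem eq_of_residue (R M : Type u) [CommRing R] [_root_.IsReduced R] [AddCommGroup M] [Module R M]
    [Module.Flat R M] [Module.FinitePresentation R M] (a b : M)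
    (h : ∀ p : PrimeSpectrum R, (1 : p.asIdeal.ResidueField) ⊗ₜ[R] a = (1 : p.asIdeal.ResidueField) ⊗ₜ[R] b) :
    a = b := by
  have : Module.Projective R M := Module.Flat.projective_of_finitePresentation
  obtain ⟨s, hs⟩ := Module.projective_def'.1 ‹Module.Projective R M›
  refine Function.LeftInverse.injective (g := Finsupp.linearCombination R id) (f := s) (fun x => LinearMap.congr_fun hs x) ?_
  ext i
  rw [← sub_eq_zero]
  refine IsReduced.eq_zero _ ?_
  rw [← mem_nilradical, nilradical_eq_sInf, Ideal.mem_sInf]
  intro P hP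
  have hP : P.IsPrime := hP
  have := congrArg (TensorProduct.rid R P.ResidueField ∘ LinearMap.lTensor P.ResidueField (Finsupp.lapply i ∘ₗ s))
    (h ⟨P, hP⟩)
  simp only [Function.comp_apply, LinearMap.lTensor_tmul, LinearMap.coe_comp, Finsupp.lapply_apply,
    TensorProduct.rid_tmul, Algebra.smul_def, _root_.mul_one] at this
  rw [← Ideal.ker_algebraMap_residueField P, RingHom.mem_ker, map_sub, sub_eq_zero]
  exact this

set_option maxHeartbeats 600000 in
/-- A finite group scheme over a field is killed by its rank. -/
theorem pow_finrank_eq_one_field (K : Type u) [Field K] (G : Over (Spec (CommRingCat.of K))) [GrpObj G]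
    [IsFinite G.hom] (n : ℕ) (hn : ∀ y, G.hom.finrank y = n) : (𝟙 G : G ⟶ G) ^ n = 1 := by
  have hA : IsAffine G.left := isAffine_of_isAffineHom G.hom
  obtain ⟨H, ⟨e⟩⟩ := (essImage_hopfSpec (R := CommRingCat.of K) (G := Grp.mk G)).2 hA
  obtain ⟨H⟩ := H
  let X := (Spec (CommRingCat.of H)).asOver (Spec (CommRingCat.of K))
  let φ : X ≅ G := (Grp.forget (Over (Spec (CommRingCat.of K)))).mapIso e
  have hφ : IsMonHom φ.hom := e.hom.hom.isMonHom_hom
  have : IsIso φ.hom.left := (Over.forget _).map_isIso φ.hom
  have hmap : φ.hom.left ≫ G.hom =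
      (Spec.map (CommRingCat.ofHom (algebraMap K H)) : Spec (CommRingCat.of H) ⟶ Spec (CommRingCat.of K)) :=
    Over.w φ.hom
  have hfin : Module.Finite K H := by
    have h1 : IsFinite (Spec.map (CommRingCat.ofHom (algebraMap K H))) := by
      have h2 : IsFinite (φ.hom.left ≫ G.hom) := inferInstance
      exact hmap ▸ h2
    exact RingHom.finite_algebraMap.1 ((IsFinite.SpecMap_iff _).1 h1)
  have hrank : n = Module.finrank K H := by
    let pt : PrimeSpectrum K := ⟨⊥, Ideal.isPrime_bot⟩
    have : Flat G.hom := inferInstance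
    have h2 : Scheme.Hom.finrank (φ.hom.left ≫ G.hom) pt = Module.rankAtStalk H pt := by
      rw [hmap]
      exact Scheme.Hom.finrank_SpecMap_algebraMap K H pt
    rw [Scheme.Hom.finrank_comp_left_of_isIso φ.hom.left G.hom, hn pt,
      Module.rankAtStalk_eq_finrank_of_free, Pi.natCast_apply] at h2
    simpa using h2
  have key : (𝟙 X : X ⟶ X) ^ n = 1 := by
    have h1 : (𝟙 X : X ⟶ X) = Spec.mapMulEquiv (toConv (AlgHom.id K H)) := by
      ext1
      exact (Spec.map_id _).symm
    rw [h1, ← map_pow, hrank, Groth.Sga3.HopfFin.convPow_finrank_eq_one', map_one]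
  let ψ : (X ⟶ X) →* (G ⟶ G) :=
    { toFun := fun f => φ.inv ≫ f ≫ φ.hom
      map_one' := by rw [MonObj.one_comp, MonObj.comp_one]
      map_mul' := fun f g => by rw [MonObj.mul_comp, MonObj.comp_mul] }
  have : ψ (𝟙 X) = 𝟙 G := by simp [ψ]
  rw [← this, ← map_pow, key, map_one]

theorem pullback_map_pow {S T : Scheme.{u}} (t : T ⟶ S) (G : Over S) [GrpObj G] (n : ℕ) :
    (Over.pullback t).map ((𝟙 G : G ⟶ G) ^ n) = (𝟙 (Red.bc t G) : _ ⟶ _) ^ n := by
  rw [← Functor.homMonoidHom_apply, map_pow, Functor.homMonoidHom_apply, CategoryTheory.Functor.map_id]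

/-- Endomorphisms of a finite locally free scheme over a reduced base agreeing on all fibres are equal. -/
theorem hom_ext_affine (R : CommRingCat.{u}) [_root_.IsReduced R] (X : Over (Spec R)) [IsFinite X.hom] [Flat X.hom]
    [LocallyOfFinitePresentation X.hom] (f g : X ⟶ X)
    (h : ∀ (K : Type u) [Field K] (t : Spec (CommRingCat.of K) ⟶ Spec R), (Over.pullback t).map f = (Over.pullback t).map g) :
    f = g := by
  obtain ⟨⟨A⟩, ⟨e⟩⟩ := (essImage_algSpec (R := R) (G := X)).2 (isAffine_of_isAffineHom X.hom)
  let eh : Spec (CommRingCat.of A) ⟶ X.left := e.hom.left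
  let ei : X.left ⟶ Spec (CommRingCat.of A) := e.inv.left
  have : IsIso eh := (Over.forget _).map_isIso e.hom
  have hw : (Spec.map (CommRingCat.ofHom (algebraMap R A)) : Spec (CommRingCat.of A) ⟶ Spec R) = eh ≫ X.hom :=
    (Over.w e.hom).symm
  have hfl : Module.Flat R A := by
    have h1 : Flat (Spec.map (CommRingCat.ofHom (algebraMap R A))) := by
      have h2 : Flat (eh ≫ X.hom) := inferInstance
      exact hw ▸ h2
    rw [Flat.SpecMap_iff] at h1
    exact RingHom.flat_algebraMap_iff.1 h1
  have hfin : Module.Finite R A := by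
    have h1 : IsFinite (Spec.map (CommRingCat.ofHom (algebraMap R A))) := by
      have h2 : IsFinite (eh ≫ X.hom) := inferInstance
      exact hw ▸ h2
    rw [IsFinite.SpecMap_iff] at h1
    exact RingHom.finite_algebraMap.1 h1
  have hfp : Algebra.FinitePresentation R A := by
    have h1 : LocallyOfFinitePresentation (Spec.map (CommRingCat.ofHom (algebraMap R A))) := by
      have h2 : LocallyOfFinitePresentation (eh ≫ X.hom) := inferInstance
      exact hw ▸ h2
    rw [LocallyOfFinitePresentation.SpecMap_iff] at h1
    exact RingHom.finitePresentation_algebraMap.1 h1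
  have := Module.FinitePresentation.of_finite_of_finitePresentation (R := R) (S := A)
  obtain ⟨a, ha⟩ := (algSpec R).map_surjective (e.hom ≫ f ≫ e.inv)
  obtain ⟨b, hb⟩ := (algSpec R).map_surjective (e.hom ≫ g ≫ e.inv)
  suffices a = b by
    subst this
    rw [← cancel_epi e.hom, ← cancel_mono e.inv]
    simpa using ha.symm.trans hb
  apply Quiver.Hom.unop_inj
  ext x
  refine eq_of_residue R A _ _ fun p => ?_
  let t : Spec (CommRingCat.of p.asIdeal.ResidueField) ⟶ Spec R := Spec.map (CommRingCat.ofHom (algebraMap R p.asIdeal.ResidueField))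
  have h' := congrArg (fun (m : (Over.pullback t).obj X ⟶ (Over.pullback t).obj X) => m.left ≫ pullback.fst _ _)
    (h p.asIdeal.ResidueField t)
  simp only [Over.pullback_map_left, pullback.lift_fst] at h'
  let incl : Spec (CommRingCat.of (p.asIdeal.ResidueField ⊗[R] A)) ⟶ pullback X.hom t :=
    pullback.lift (Spec.map (CommRingCat.ofHom Algebra.TensorProduct.includeRight.toRingHom) ≫ eh)
      (Spec.map (CommRingCat.ofHom Algebra.TensorProduct.includeLeftRingHom)) (by
        simp only [Category.assoc, ← hw, t, ← Spec.map_comp, ← CommRingCat.ofHom_comp]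
        congr 2
        exact (RingHom.ext fun r => by simp))
  have h2 := congrArg (fun m => incl ≫ m ≫ ei) h'
  simp only [incl, pullback.lift_fst_assoc, Category.assoc] at h2
  have hai : eh ≫ f.left ≫ ei = Spec.map (CommRingCat.ofHom a.unop.hom.toRingHom) :=
    (congrArg CommaMorphism.left ha).symm
  have hbi : eh ≫ g.left ≫ ei = Spec.map (CommRingCat.ofHom b.unop.hom.toRingHom) :=
    (congrArg CommaMorphism.left hb).symm
  rw [hai, hbi, ← Spec.map_comp, ← Spec.map_comp] at h2
  exact congrArg (fun φ => φ.hom x) (Spec.map_injective h2)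

theorem hom_ext_chart (S : Scheme.{u}) [AlgebraicGeometry.IsReduced S] (X : Over S) [IsFinite X.hom] [Flat X.hom]
    [LocallyOfFinitePresentation X.hom] (f g : X ⟶ X)
    (h : ∀ (K : Type u) [Field K] (t : Spec (CommRingCat.of K) ⟶ S), (Over.pullback t).map f = (Over.pullback t).map g)
    (R : CommRingCat.{u}) (j : Spec R ⟶ S) (hj : IsOpenImmersion j) :
    pullback.fst X.hom j ≫ f.left = pullback.fst X.hom j ≫ g.left := by
  have : AlgebraicGeometry.IsReduced (Spec R) := isReduced_of_isOpenImmersion j
  have := (affine_isReduced_iff R).1 this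
  let Xi := (Over.pullback j).obj X
  have : IsFinite Xi.hom := inferInstanceAs (IsFinite (pullback.snd X.hom j))
  have : Flat Xi.hom := inferInstanceAs (Flat (pullback.snd X.hom j))
  have : LocallyOfFinitePresentation Xi.hom :=
    inferInstanceAs (LocallyOfFinitePresentation (pullback.snd X.hom j))
  have key := hom_ext_affine R Xi ((Over.pullback j).map f) ((Over.pullback j).map g) fun K _ t => by
    have := h K (t ≫ j)
    refine (cancel_mono ((Over.pullbackComp t j).inv.app X)).1 ?_
    exact ((Over.pullbackComp t j).inv.naturality f).trans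
      ((congrArg (fun m => (Over.pullbackComp t j).inv.app X ≫ m) this).trans
        ((Over.pullbackComp t j).inv.naturality g).symm)
  have key2 := congrArg (fun m : Xi ⟶ Xi => m.left ≫ pullback.fst _ _) key
  simp only [Over.pullback_map_left, pullback.lift_fst] at key2
  exact key2

/-- Endomorphisms of a finite locally free scheme over a reduced base agreeing on all fibres are equal. -/
theorem hom_ext_fibres (S : Scheme.{u}) [AlgebraicGeometry.IsReduced S] (X : Over S) [IsFinite X.hom] [Flat X.hom]
    [LocallyOfFinitePresentation X.hom] (f g : X ⟶ X)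
    (h : ∀ (K : Type u) [Field K] (t : Spec (CommRingCat.of K) ⟶ S), (Over.pullback t).map f = (Over.pullback t).map g) :
    f = g := by
  ext1
  refine Scheme.Cover.hom_ext (S.affineCover.pullback₁ X.hom) _ _ fun i => ?_
  exact hom_ext_chart S X f g h _ (S.affineCover.f i) (S.affineCover.map_prop i)

/-- Let S be a reduced scheme and G an S-group scheme which is finite locally free of constant rank n
over S. Then the n-th power morphism of G is the trivial endomorphism (g ↦ gⁿ factors through the
unit section). -/
theorem result (S : Scheme.{u}) [IsReduced S] (G : Over S) [GrpObj G] (n : ℕ)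
    (hG : Mor2.IsFinLocFreeOfDeg n G.hom) : (𝟙 G : G ⟶ G) ^ n = 1 := by
  obtain ⟨⟨_, _, _⟩, hn⟩ := hG
  refine hom_ext_fibres S G _ _ fun K _ t => ?_
  refine (pullback_map_pow t G n).trans (Eq.trans ?_ (map_one (Over.pullback t).homMonoidHom).symm)
  have : IsFinite (Red.bc t G).hom := inferInstanceAs (IsFinite (pullback.snd G.hom t))
  refine pow_finrank_eq_one_field K _ n fun y => ?_
  exact (Scheme.Hom.finrank_pullback_snd G.hom t y).trans (hn _)

end Groth.Agent.S4114
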