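import Groth.Statements.S14592
import Groth.Agent.SemiAb.TorusDescent
import Groth.Agent.SemiAb.Isogeny
import Groth.Agent.S17451
import Groth.Agent.AlgGrpIsog.TorusIsog
import Groth.Agent.AlgGrp1.AffineKernelBC
import Groth.Agent.AlgGrp1.ImageHom
import Groth.Agent.EtaleBase.FpqcDescent

set_option autoImplicit false
set_option linter.style.haveILetI false
set_option maxHeartbeats 1000000
universe u
open CategoryTheory MonoidalCategory CartesianMonoidalCategory MonObj GrpObj AlgebraicGeometry CategoryTheory.Limits
open AlgGrp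

namespace Groth.Agent.S14592

/-- Let k be a field with algebraic closure K and G a k-group scheme of finite type. If G_K is a
semi-abelian variety over K — an extension of an abelian variety (proper, smooth, connected K-group
scheme) by a torus — then G is a semi-abelian variety over k: there are a closed subgroup scheme i :
T → G with T a torus and a flat surjective homomorphism q : G → A with kernel T onto a proper smooth
connected k-group scheme. -/
theorem result (k : Type u) [Field k]
    (G : Over (Spec (CommRingCat.of k))) [GrpObj G] [LocallyOfFiniteType G.hom] [QuasiCompact G.hom]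
    (hK : (∃ (T : Over (Spec (CommRingCat.of (AlgebraicClosure k)))) (_ : GrpObj T) (i : T ⟶ Red.bc (Spec.map (CommRingCat.ofHom (algebraMap k (AlgebraicClosure k)))) G) (A : Over (Spec (CommRingCat.of (AlgebraicClosure k)))) (_ : GrpObj A) (q : Red.bc (Spec.map (CommRingCat.ofHom (algebraMap k (AlgebraicClosure k)))) G ⟶ A),
        IsMonHom i ∧ IsClosedImmersion i.left ∧ Red.IsTorus T ∧ IsMonHom q ∧ Surjective q.left ∧ Flat q.left ∧
        AlgGrp.IsKernel i q ∧ IsProper A.hom ∧ Smooth A.hom ∧ ConnectedSpace ↥A.left)) :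
    (∃ (T : Over (Spec (CommRingCat.of k))) (_ : GrpObj T) (i : T ⟶ G) (A : Over (Spec (CommRingCat.of k))) (_ : GrpObj A) (q : G ⟶ A),
        IsMonHom i ∧ IsClosedImmersion i.left ∧ Red.IsTorus T ∧ IsMonHom q ∧ Surjective q.left ∧ Flat q.left ∧
        AlgGrp.IsKernel i q ∧ IsProper A.hom ∧ Smooth A.hom ∧ ConnectedSpace ↥A.left) := by
  open Groth.AlgGrp1 in
  let φ := Spec.map (CommRingCat.ofHom (algebraMap k (AlgebraicClosure k)))
  haveI : Surjective φ := ⟨fun x => ⟨IsLocalRing.closedPoint (AlgebraicClosure k),
    Subsingleton.elim (α := ↥(Spec (CommRingCat.of k))) _ _⟩⟩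
  haveI : Flat φ := inferInstance
  haveI : QuasiCompact φ := inferInstance
  obtain ⟨T₀, _, i₀, A, _, q₀, hi₀, hic₀, hT₀, hq₀, hqs₀, hqf₀, hk₀, hAp, hAs, hAc⟩ := id hK
  haveI := hi₀; haveI := hic₀; haveI := hq₀; haveI := hqs₀; haveI := hqf₀; haveI := hAp; haveI := hAs; haveI := hAc
  haveI : Mono i₀ := Over.mono_of_mono_left i₀
  haveI : LocallyOfFiniteType (Red.bc φ G).hom := inferInstanceAs (LocallyOfFiniteType (Limits.pullback.snd G.hom φ))
  haveI : QuasiCompact (Red.bc φ G).hom := inferInstanceAs (QuasiCompact (Limits.pullback.snd G.hom φ))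
  haveI : LocallyOfFiniteType A.hom := inferInstance
  haveI : LocallyOfFiniteType T₀.hom := by rw [← Over.w i₀]; infer_instance
  haveI : QuasiCompact T₀.hom := by rw [← Over.w i₀]; infer_instance
  haveI := Groth.Agent.S14595.smooth_of_isTorus hT₀
  haveI : QuasiCompact q₀.left := by
    haveI : QuasiCompact (q₀.left ≫ A.hom) := by rw [Over.w q₀]; infer_instance
    exact QuasiCompact.of_comp q₀.left A.hom
  haveI : Smooth q₀.left := IsKernel.descends hk₀ @Smooth ‹Smooth T₀.hom›
  haveI : Smooth G.hom := by
    have h : Smooth (Limits.pullback.snd G.hom φ) := by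
      show Smooth (Red.bc φ G).hom
      rw [← Over.w q₀]; infer_instance
    exact MorphismProperty.of_pullback_snd_of_descendsAlong (P := @Smooth)
      (Q := @Surjective ⊓ @Flat ⊓ @QuasiCompact) ⟨⟨inferInstance, inferInstance⟩, inferInstance⟩ h
  haveI : ConnectedSpace (Red.bc φ G).left :=
    connectedSpace_of_extension hk₀ (Groth.Reductive2.connectedSpace_of_isTorus hT₀) inferInstance
  haveI : ConnectedSpace G.left :=
    Function.Surjective.connectedSpace (α := ↥(Red.bc φ G).left) (Limits.pullback.fst G.hom φ).surjective (Limits.pullback.fst G.hom φ).continuous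
  haveI : IsCommMonObj G := Groth.Agent.S17451.result k G hK
  -- the torus descends
  have hu : Groth.SemiAb.TorusDescent.IsUnivTorus (Red.bc φ G) T₀ i₀ := by
    intro S'' f' H _ v _ hH
    haveI : GeometricallyConnected A.hom := geometricallyConnected_of_point A.hom η[A].left (Over.w η[A])
    haveI : Smooth (Red.bc f' A).hom := inferInstanceAs (Smooth (Limits.pullback.snd A.hom f'))
    haveI : IsProper (Red.bc f' A).hom := inferInstanceAs (IsProper (Limits.pullback.snd A.hom f'))
    haveI : GeometricallyConnected (Red.bc f' A).hom :=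
      inferInstanceAs (GeometricallyConnected (Limits.pullback.snd A.hom f'))
    haveI : IsMonHom ((Over.pullback f').map q₀) := Groth.Abvar.isMonHom_map (f := f') q₀
    haveI : IsMonHom (v ≫ (Over.pullback f').map q₀) := inferInstanceAs (IsMonHom (_ ≫ _))
    have h1 : v ≫ (Over.pullback f').map q₀ = 1 :=
      Groth.GrpschAbsch.TorusToAbelian.eq_one H (Red.bc f' A) hH (fun s => inferInstance) _
    let E := fun (X : Over (Spec (CommRingCat.of (AlgebraicClosure k)))) [GrpObj X] =>
      Groth.Reductive.bcPointEquiv f' X H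
    obtain ⟨z, hz⟩ := IsKernel.exists_lift hk₀ (E (Red.bc φ G) v) (by
      rw [← Groth.Reductive2.SubDescent.bcPointEquiv_map, h1, _root_.map_one])
    exact ⟨(E T₀).symm z, (E (Red.bc φ G)).injective (by
      rw [Groth.Reductive2.SubDescent.bcPointEquiv_map, MulEquiv.apply_symm_apply, hz])⟩
  obtain ⟨T, _, i, e, him, hi_mono, hem, hei⟩ := Groth.SemiAb.TorusDescent.exists_descend_torus (f := φ)
    (fun V hV => ⟨φ ⁻¹ᵁ V, (hV.preimage φ).isCompact, Set.image_preimage_eq _ φ.surjective⟩) hT₀ hu
  haveI := him; haveI := hi_mono; haveI := hem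
  have hT : Red.IsTorus T :=
    Groth.AlgGrpIsog.isTorus_of_bc_algClosure T (Groth.AlgGrp1.isTorus_of_iso e hem hT₀)
  haveI := Groth.Agent.S14595.smooth_of_isTorus hT
  haveI : IsAffineHom T.hom := Groth.Reductive2.isAffineHom_of_isTorus hT
  haveI : IsClosedImmersion i.left := isClosedImmersion_of_mono_hom i
  obtain ⟨Q, _, q, -, hqm, hqc, hQlft, hQqc, hk⟩ := Groth.AlgGrpAb.exists_cokernel i
  haveI := hqm; haveI := hQlft; haveI := hQqc; haveI := hqc.flat; haveI := hqc.surj
  haveI : Smooth Q.hom := smooth_of_flat_surjective_hom q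
  haveI : ConnectedSpace Q.left := connectedSpace_of_surjective q
  haveI := isSeparated_grpObj Q
  haveI : IsProper Q.hom := by
    haveI : IsMonHom ((Over.pullback φ).map q) := Groth.Abvar.isMonHom_map (f := φ) q
    haveI : Surjective ((Over.pullback φ).map q).left :=
      MorphismProperty.of_isPullback (isPullback_bc_map φ q) ‹Surjective q.left›
    have h0 : i₀ ≫ (Over.pullback φ).map q = 1 := by
      rw [← hei, Category.assoc, ← Functor.map_comp, IsKernel.comp_eq_one hk, Functor.map_one, MonObj.comp_one]
    obtain ⟨r, hrm, hr⟩ := Groth.AlgGrpAb.exists_desc_hom q₀ (isCover q₀) hk₀ ((Over.pullback φ).map q) h0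
    haveI : Surjective r.left := by
      haveI : Surjective (q₀.left ≫ r.left) := by rw [← Over.comp_left, hr]; infer_instance
      exact Surjective.of_comp q₀.left r.left
    haveI : IsSeparated (Limits.pullback.snd Q.hom φ) := inferInstance
    haveI : LocallyOfFiniteType (Limits.pullback.snd Q.hom φ) := inferInstance
    haveI : UniversallyClosed (r.left ≫ Limits.pullback.snd Q.hom φ) := by
      show UniversallyClosed (r.left ≫ (Red.bc φ Q).hom)
      rw [Over.w r]; infer_instance
    haveI : UniversallyClosed (Limits.pullback.snd Q.hom φ) := UniversallyClosed.of_comp_surjective r.left _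
    have hp : IsProper (Limits.pullback.snd Q.hom φ) := {}
    exact MorphismProperty.of_isPullback_of_descendsAlong (P := @IsProper) (Q := Groth.EtaleBase.Fpqc)
      (IsPullback.of_hasPullback Q.hom φ).flip ⟨⟨inferInstance, inferInstance⟩, inferInstance⟩ hp
  exact ⟨T, inferInstance, i, Q, inferInstance, q, him, inferInstance, hT, hqm, inferInstance, inferInstance, hk,
    inferInstance, inferInstance, inferInstance⟩

end Groth.Agent.S14592
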