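import Groth.Statements.S14594
import Groth.Agent.SemiAb.Isogeny
import Groth.Agent.AlgGrpAb.Basic
import Groth.Agent.AlgGrpIsog.TorusIsog
import Groth.Agent.SemiAb.AffineProper
import Groth.Agent.SemiAb.TorusPow
import Groth.Agent.AlgGrp1.AffineQuot
import Groth.Agent.Reductive2.TorusAffine
import Groth.Agent.URad.Unip
import Groth.Agent.FibreDim.GroupScheme

set_option autoImplicit false
set_option linter.style.haveILetI false
set_option maxHeartbeats 2000000
universe u
open CategoryTheory MonoidalCategory CartesianMonoidalCategory MonObj GrpObj AlgebraicGeometry CategoryTheory.Limits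
open AlgGrp

namespace Groth.Agent.S14594

/-- Let k be a field, G a smooth connected k-group scheme of finite type and f : G → H an isogeny onto a
k-group scheme of finite type H, i.e. a surjective homomorphism whose kernel N is finite. If H is a
semi-abelian variety (an extension of a proper smooth connected k-group scheme by a torus), then G
is a semi-abelian variety. -/
theorem result (k : Type u) [Field k]
    (G H : Over (Spec (CommRingCat.of k))) [GrpObj G] [GrpObj H] [Smooth G.hom] [QuasiCompact G.hom] [ConnectedSpace ↥G.left]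
    [LocallyOfFiniteType H.hom] [QuasiCompact H.hom] (f : G ⟶ H) [IsMonHom f] [Surjective f.left]
    (N : Over (Spec (CommRingCat.of k))) [GrpObj N] (n : N ⟶ G) [IsMonHom n] [IsClosedImmersion n.left] [IsFinite N.hom]
    (hker : AlgGrp.IsKernel n f) (hH : (∃ (T : Over (Spec (CommRingCat.of k))) (_ : GrpObj T) (i : T ⟶ H) (A : Over (Spec (CommRingCat.of k))) (_ : GrpObj A) (q : H ⟶ A),
        IsMonHom i ∧ IsClosedImmersion i.left ∧ Red.IsTorus T ∧ IsMonHom q ∧ Surjective q.left ∧ Flat q.left ∧
        AlgGrp.IsKernel i q ∧ IsProper A.hom ∧ Smooth A.hom ∧ ConnectedSpace ↥A.left)) :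
    (∃ (T : Over (Spec (CommRingCat.of k))) (_ : GrpObj T) (i : T ⟶ G) (A : Over (Spec (CommRingCat.of k))) (_ : GrpObj A) (q : G ⟶ A),
        IsMonHom i ∧ IsClosedImmersion i.left ∧ Red.IsTorus T ∧ IsMonHom q ∧ Surjective q.left ∧ Flat q.left ∧
        AlgGrp.IsKernel i q ∧ IsProper A.hom ∧ Smooth A.hom ∧ ConnectedSpace ↥A.left) := by
  open Groth.AlgGrp1 in
  obtain ⟨T, _, i, A, _, q, hi, hic, hT, hq, hqs, hqf, hk, hAp, hAs, hAc⟩ := hH
  haveI := hi; haveI := hic; haveI := hq; haveI := hqs; haveI := hqf; haveI := hAp; haveI := hAs; haveI := hAc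
  haveI : Mono i := Over.mono_of_mono_left i
  haveI : Mono n := Over.mono_of_mono_left n
  haveI : LocallyOfFiniteType G.hom := inferInstance
  haveI : LocallyOfFiniteType A.hom := inferInstance
  haveI : LocallyOfFiniteType T.hom := by rw [← Over.w i]; infer_instance
  haveI : QuasiCompact T.hom := by rw [← Over.w i]; infer_instance
  haveI := Groth.Agent.S14595.smooth_of_isTorus hT
  haveI : ConnectedSpace T.left := Groth.Reductive2.connectedSpace_of_isTorus hT
  haveI : IsAffineHom T.hom := Groth.Reductive2.isAffineHom_of_isTorus hT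
  haveI : IsAffine T.left := isAffine_of_isAffineHom T.hom
  haveI : QuasiCompact q.left := by
    haveI : QuasiCompact (q.left ≫ A.hom) := by rw [Over.w q]; infer_instance
    exact QuasiCompact.of_comp q.left A.hom
  haveI : Smooth q.left := IsKernel.descends hk @Smooth ‹Smooth T.hom›
  haveI : Smooth H.hom := by rw [← Over.w q]; infer_instance
  haveI : ConnectedSpace H.left := connectedSpace_of_surjective f
  haveI : GeometricallyIntegral H.hom := geometricallyIntegral_of_smooth H
  haveI := geometricallyReduced_of_smooth_hom H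
  haveI := geometricallyReduced_of_smooth_hom G
  haveI : AlgebraicGeometry.IsReduced H.left := isReduced_left H
  haveI := isSeparated_grpObj H
  -- both groups are commutative
  haveI hHc : IsCommMonObj H := Groth.SemiAb.isCommMonObj_of_ext i hT q hk
  haveI hGc : IsCommMonObj G := Groth.SemiAb.isCommMonObj_of_finite_kernel f n hker
  haveI : IsCommMonObj T := Groth.AbVarMul.isCommMonObj_of_mono i
  haveI : Flat f.left := Groth.SemiAb.flat_of_surjective f
  have hfc : IsCover f := isCover f
  -- the preimage of the torus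
  obtain ⟨P, p, g, sq⟩ : ∃ (P : Over (Spec (CommRingCat.of k))) (p : P ⟶ G) (g : P ⟶ T), IsPullback p g f i :=
    ⟨_, _, _, IsPullback.of_hasPullback f i⟩
  haveI : Mono p := sq.mono_fst_of_mono
  obtain ⟨_, hp⟩ := Groth.Agf.exists_grpObj_of_subgroup p (fun U x => ∃ z, z ≫ i = x ≫ f)
    (fun U x => ⟨fun ⟨e, he⟩ => ⟨e ≫ g, by rw [Category.assoc, ← sq.w, ← Category.assoc, he]⟩,
      fun ⟨z, hz⟩ => ⟨sq.lift x z hz.symm, sq.lift_fst _ _ _⟩⟩)
    (fun U => ⟨1, by rw [MonObj.one_comp, MonObj.one_comp]⟩)
    (fun U a b ⟨z, hz⟩ ⟨z', hz'⟩ => ⟨z * z', by rw [MonObj.mul_comp, MonObj.mul_comp, hz, hz']⟩)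
    (fun U a ⟨z, hz⟩ => ⟨z⁻¹, by rw [GrpObj.inv_comp, GrpObj.inv_comp, hz]⟩)
  haveI := hp
  haveI : IsMonHom (g ≫ i) := by rw [← sq.w]; infer_instance
  haveI : IsMonHom g := Groth.URad.isMonHom_of_comp_mono g i
  have sq' := sq.map (Over.forget _)
  haveI : IsClosedImmersion p.left := MorphismProperty.of_isPullback sq'.flip ‹IsClosedImmersion i.left›
  haveI : Flat g.left := MorphismProperty.of_isPullback sq' ‹Flat f.left›
  haveI : Surjective g.left := MorphismProperty.of_isPullback sq' ‹Surjective f.left›
  haveI : LocallyOfFiniteType P.hom := by rw [← Over.w p]; infer_instance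
  haveI : QuasiCompact P.hom := by rw [← Over.w p]; infer_instance
  haveI : IsCommMonObj P := Groth.AbVarMul.isCommMonObj_of_mono p
  have hgc : IsCover g := isCover g
  obtain ⟨nP, hnP⟩ : ∃ nP : N ⟶ P, nP ≫ p = n :=
    ⟨sq.lift n 1 (by rw [IsKernel.comp_eq_one hker, MonObj.one_comp]), sq.lift_fst _ _ _⟩
  haveI : IsMonHom (nP ≫ p) := hnP ▸ inferInstance
  haveI : IsMonHom nP := Groth.URad.isMonHom_of_comp_mono nP p
  have hkP : AlgGrp.IsKernel nP g := IsKernel.mk' (mono_of_mono_fac hnP) fun U x => by
    rw [← cancel_mono i, MonObj.one_comp, Category.assoc, ← sq.w, ← Category.assoc, ← IsKernel.exists_iff hker]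
    exact exists_congr fun y => by rw [← cancel_mono p, Category.assoc, hnP]
  obtain ⟨d, hd, hN⟩ := Groth.SemiAb.exists_pow_eq_one_of_isFinite N
  obtain ⟨ψ, hψm, hψ, hψg⟩ := Groth.SemiAb.exists_pow_desc g hgc nP hkP d hN
  haveI := hψm
  obtain ⟨T', _, c, π, hcm, hcc, hπm, hT'lft, hT'qc, hπf, hπs, hπc⟩ := exists_image_hom (ψ ≫ p)
  haveI := hcm; haveI := hcc; haveI := hπm; haveI := hT'lft; haveI := hT'qc; haveI := hπf; haveI := hπs
  haveI : Mono c := Over.mono_of_mono_left c
  haveI : IsAffine T'.left := isAffine_of_quotient π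
  haveI : Smooth T'.hom := smooth_of_flat_surjective_hom π
  haveI : ConnectedSpace T'.left := connectedSpace_of_surjective π
  haveI : IsCommMonObj T' := Groth.AbVarMul.isCommMonObj_of_mono c
  obtain ⟨g', hg'⟩ : ∃ g' : T' ⟶ T, g' ≫ i = c ≫ f := by
    obtain ⟨y, hy⟩ := IsKernel.exists_lift hk (c ≫ f) ((isCover π).cancel (by
      rw [← Category.assoc, ← Category.assoc, hπc, Category.assoc ψ, sq.w, ← Category.assoc ψ, Category.assoc _ i,
        IsKernel.comp_eq_one hk, MonObj.comp_one, MonObj.comp_one]))
    exact ⟨y, hy⟩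
  haveI : IsMonHom (g' ≫ i) := by rw [hg']; infer_instance
  haveI : IsMonHom g' := Groth.URad.isMonHom_of_comp_mono g' i
  have hπg' : π ≫ g' = (𝟙 T) ^ d := by
    rw [← cancel_mono i, Category.assoc, hg', ← Category.assoc, hπc, Category.assoc, sq.w, ← Category.assoc, hψg]
  haveI : Surjective g'.left := by
    obtain ⟨t, ht⟩ := Groth.FibreDim.exists_dim_eq_nat T
    obtain ⟨-, -, hs, -⟩ := Groth.SemiAb.isogeny_pow_torus hT ht hd
    haveI : Surjective (π.left ≫ g'.left) := by rw [← Over.comp_left, hπg']; exact hs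
    exact Surjective.of_comp π.left g'.left
  have hiso : SGA7.IsIsogenyOver g' := by
    refine ⟨inferInstance, fun M e he => ?_⟩
    obtain ⟨z, hz⟩ := IsKernel.exists_lift hker (e ≫ c) (by
      rw [Category.assoc, ← hg', ← Category.assoc, IsKernel.comp_eq_one he, MonObj.one_comp])
    haveI : IsClosedImmersion e.left := by
      haveI := isSeparated_grpObj T
      haveI : IsClosedImmersion η[T].left := isClosedImmersion_of_comp_eq_id T.hom η[T].left (Over.w η[T])
      exact MorphismProperty.of_isPullback (he.map (Over.forget _)).flip ‹IsClosedImmersion η[T].left›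
    haveI : IsClosedImmersion (z.left ≫ n.left) := by rw [← Over.comp_left, hz, Over.comp_left]; infer_instance
    haveI : IsClosedImmersion z.left := IsClosedImmersion.of_comp z.left n.left
    rw [← Over.w z]
    infer_instance
  have hT' : Red.IsTorus T' := (Groth.AlgGrpIsog.isTorus_iff_of_isogenyOver T' T g' hiso).2 hT
  -- the quotient
  obtain ⟨Q, _, q', -, hq'm, hq'c, hQlft, hQqc, hk'⟩ := Groth.AlgGrpAb.exists_cokernel c
  haveI := hq'm; haveI := hQlft; haveI := hQqc; haveI := hq'c.flat; haveI := hq'c.surj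
  obtain ⟨r, hrm, hr⟩ := Groth.AlgGrpAb.exists_desc_hom q' hq'c hk' (f ≫ q) (by
    rw [← Category.assoc, ← hg', Category.assoc, IsKernel.comp_eq_one hk, MonObj.comp_one])
  haveI := hrm
  haveI : Surjective r.left := by
    haveI : Surjective (q'.left ≫ r.left) := by rw [← Over.comp_left, hr, Over.comp_left]; infer_instance
    exact Surjective.of_comp q'.left r.left
  haveI : Smooth Q.hom := smooth_of_flat_surjective_hom q'
  haveI : ConnectedSpace Q.left := connectedSpace_of_surjective q'
  haveI := geometricallyReduced_of_smooth_hom A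
  haveI : AlgebraicGeometry.IsReduced A.left := isReduced_left A
  haveI : Flat r.left := Groth.SemiAb.flat_of_surjective r
  haveI : QuasiCompact r.left := by
    haveI : QuasiCompact (r.left ≫ A.hom) := by rw [Over.w r]; infer_instance
    exact QuasiCompact.of_comp r.left A.hom
  obtain ⟨R, j, sqR⟩ : ∃ (R : Over (Spec (CommRingCat.of k))) (j : R ⟶ Q), AlgGrp.IsKernel j r := by
    refine ⟨_, Limits.pullback.fst r η[A], ?_⟩
    have := IsPullback.of_hasPullback r η[A]
    rwa [toUnit_unique (Limits.pullback.snd r η[A]) (toUnit _)] at this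
  haveI : IsClosedImmersion j.left := by
    haveI := isSeparated_grpObj A
    haveI : IsClosedImmersion η[A].left := isClosedImmersion_of_comp_eq_id A.hom η[A].left (Over.w η[A])
    exact MorphismProperty.of_isPullback (sqR.map (Over.forget _)).flip ‹IsClosedImmersion η[A].left›
  haveI : Mono j := Over.mono_of_mono_left j
  haveI : LocallyOfFiniteType R.hom := by rw [← Over.w j]; infer_instance
  haveI : QuasiCompact R.hom := by rw [← Over.w j]; infer_instance
  obtain ⟨θ, hθ⟩ := IsKernel.exists_lift sqR (n ≫ q') (by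
    rw [Category.assoc, hr, ← Category.assoc, IsKernel.comp_eq_one hker, MonObj.one_comp])
  haveI hRfin : IsFinite R.hom := by
    haveI : AlgebraicGeometry.IsReduced T.left := by
      haveI := geometricallyReduced_of_smooth_hom T
      exact isReduced_left T
    haveI : Flat g'.left := Groth.SemiAb.flat_of_surjective g'
    obtain ⟨U, e, x, he, hx⟩ := hq'c.exists_lift j
    obtain ⟨y, hy⟩ := IsKernel.exists_lift hk (x ≫ f) (by
      rw [Category.assoc, ← hr, ← Category.assoc, hx, Category.assoc, IsKernel.comp_eq_one sqR, MonObj.comp_one])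
    obtain ⟨U', e', x', he', hx'⟩ := (isCover g').exists_lift y
    obtain ⟨z, hz⟩ := IsKernel.exists_lift hker ((e' ≫ x) * (x' ≫ c)⁻¹) (by
      rw [MonObj.mul_comp, GrpObj.inv_comp, Category.assoc, ← hy, Category.assoc x', ← hg', ← Category.assoc x',
        hx', Category.assoc e', mul_inv_cancel])
    have hzθ : z ≫ θ = (e' ≫ e) := by
      rw [← cancel_mono j, Category.assoc, hθ, ← Category.assoc, hz, MonObj.mul_comp, GrpObj.inv_comp,
        Category.assoc x', IsKernel.comp_eq_one hk', MonObj.comp_one, inv_one, _root_.mul_one, Category.assoc, hx,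
        Category.assoc]
    haveI : Surjective (e' ≫ e).left := (he'.comp he).surj
    haveI : Surjective θ.left := by
      haveI : Surjective (z.left ≫ θ.left) := by rw [← Over.comp_left, hzθ]; infer_instance
      exact Surjective.of_comp z.left θ.left
    exact Groth.SemiAb.isFinite_of_surjective θ
  haveI : IsFinite r.left := IsKernel.descends sqR @IsFinite hRfin
  haveI : IsProper Q.hom := by rw [← Over.w r]; infer_instance
  exact ⟨T', inferInstance, c, Q, inferInstance, q', inferInstance, inferInstance, hT', hq'm, inferInstance,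
    inferInstance, hk', inferInstance, inferInstance, inferInstance⟩

end Groth.Agent.S14594
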