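import Groth.Statements.S14595
import Groth.Agent.AbVarMul.DecomposeBC
import Groth.Agent.AlgGrp2.Units
import Groth.Agent.AlgGrp1.MaxTorus
import Groth.Agent.AlgGrp1.TorusField
import Groth.Agent.AlgGrp1.Extension
import Groth.Agent.AbvarAlb.MaxAbelian
import Groth.Agent.GaDual.AlphaPts

set_option autoImplicit false
set_option backward.isDefEq.respectTransparency false
set_option backward.defeqAttrib.useBackward true
set_option linter.style.haveILetI false
universe u
open CategoryTheory MonoidalCategory CartesianMonoidalCategory MonObj GrpObj AlgebraicGeometry CategoryTheory.Limits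
open AlgGrp

namespace Groth.Agent.S14595


open Groth.AbVarMul (bcF bcPoints bcDiag)
open Groth.GaDual.AlphaPts (valAlg toSpecAlg toSpecAlg_valAlg valAlg_toSpecAlg toSp)

attribute [local instance] Groth.GaDual.AlphaPts.algT

noncomputable section

section Closed

variable {K : Type u} [Field K] {r : ℕ}

local notation "ptK" => (𝟙_ (Over (Spec (CommRingCat.of K))))
local notation "C" => MonoidAlgebra K (Multiplicative (Fin r → ℤ))

theorem valAlg_mul_single {U : Over (Spec (CommRingCat.of K))} (x y : U ⟶ CoactBr.sp K C)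
    (m : Multiplicative (Fin r → ℤ)) :
    valAlg (x * y) (MonoidAlgebra.single m 1) =
      valAlg x (MonoidAlgebra.single m 1) * valAlg y (MonoidAlgebra.single m 1) := by
  have h : valAlg (x * y) = (WithConv.toConv (valAlg x) * WithConv.toConv (valAlg y)).ofConv := by
    conv_lhs => rw [← toSpecAlg_valAlg x, ← toSpecAlg_valAlg y]
    rw [show toSpecAlg (valAlg x) = toSp U ≫ Spec.mapMulEquiv (WithConv.toConv (valAlg x)) from rfl,
      show toSpecAlg (valAlg y) = toSp U ≫ Spec.mapMulEquiv (WithConv.toConv (valAlg y)) from rfl,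
      ← MonObj.comp_mul, ← map_mul]
    exact valAlg_toSpecAlg (WithConv.toConv (valAlg x) * WithConv.toConv (valAlg y)).ofConv
  rw [h, AlgHom.convMul_def]
  simp

theorem pt_ext {U : Over (Spec (CommRingCat.of K))} (x y : U ⟶ CoactBr.sp K C)
    (h : ∀ m, valAlg x (MonoidAlgebra.single m 1) = valAlg y (MonoidAlgebra.single m 1)) : x = y := by
  rw [← toSpecAlg_valAlg x, ← toSpecAlg_valAlg y]
  congr 1
  apply MonoidAlgebra.algHom_ext'
  all_goals first | exact MonoidHom.ext fun m => h m | ext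

theorem valAlg_comp {U U' : Over (Spec (CommRingCat.of K))} (g : U' ⟶ U) (x : U ⟶ CoactBr.sp K C) (c : C) :
    valAlg (g ≫ x) c = g.left.appTop (valAlg x c) := rfl

variable [IsAlgClosed K]

/-- The rectangle identity for a map to a torus over an algebraically closed field. -/
theorem rectangle_torus {X Y T : Over (Spec (CommRingCat.of K))} [IsIntegral X.left] [IsSeparated X.hom]
    [LocallyOfFiniteType X.hom] [QuasiCompact X.hom] [IsIntegral Y.left] [IsSeparated Y.hom]
    [LocallyOfFiniteType Y.hom] [QuasiCompact Y.hom] [GrpObj T] (hT : Red.IsTorus T)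
    (f : X ⊗ Y ⟶ T) (x x' : ptK ⟶ X) (y y' : ptK ⟶ Y) :
    (lift x y ≫ f) * (lift x' y' ≫ f) = (lift x y' ≫ f) * (lift x' y ≫ f) := by
  obtain ⟨r, e, he⟩ := Groth.AlgGrp1.exists_diag_iso_of_isTorus hT
  haveI := he
  haveI : IsMonHom e.inv := inferInstance
  rw [← cancel_mono e.inv, MonObj.mul_comp, MonObj.mul_comp]
  refine pt_ext _ _ fun m => ?_
  rw [valAlg_mul_single, valAlg_mul_single, Category.assoc, Category.assoc, Category.assoc, Category.assoc]
  obtain ⟨g, h, -, -, hgh⟩ := Groth.AlgGrp2.UnitsVar.exists_mul_eq X Y (valAlg (f ≫ e.inv) (MonoidAlgebra.single m 1))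
    ((Group.isUnit m).map ((valAlg (f ≫ e.inv)).toMonoidHom.comp (MonoidAlgebra.of K _)))
  have hv : ∀ (a : ptK ⟶ X) (b : ptK ⟶ Y), valAlg (lift a b ≫ f ≫ e.inv) (MonoidAlgebra.single m 1) =
      a.left.appTop g * b.left.appTop h := fun a b => by
    rw [valAlg_comp, hgh, map_mul]
    congr 1
    · show (lift a b ≫ fst X Y).left.appTop g = _
      rw [lift_fst]
    · show (lift a b ≫ snd X Y).left.appTop h = _
      rw [lift_snd]
  rw [hv, hv, hv, hv]
  ring

end Closed

variable {k : Type u} [Field k]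

local instance grpObjBc (K : Type u) [Field K] [Algebra k K] (A : Over (Spec (CommRingCat.of k))) [GrpObj A] :
    GrpObj ((bcF (k := k) K).obj A) := Functor.grpObjObj

/-- The rectangle identity for a map to a torus, for points in an algebraically closed field. -/
theorem rectangle_torus_bc (K : Type u) [Field K] [Algebra k K] [IsAlgClosed K]
    {X Y T : Over (Spec (CommRingCat.of k))}
    [LocallyOfFiniteType X.hom] [QuasiCompact X.hom] [IsSeparated X.hom] [GeometricallyIntegral X.hom]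
    [LocallyOfFiniteType Y.hom] [QuasiCompact Y.hom] [IsSeparated Y.hom] [GeometricallyIntegral Y.hom]
    [GrpObj T] (hT : Red.IsTorus T)
    (f : X ⊗ Y ⟶ T) (x x' : SGA7.pt (K := k) K ⟶ X) (y y' : SGA7.pt (K := k) K ⟶ Y) :
    (lift x y ≫ f) * (lift x' y' ≫ f) = (lift x y' ≫ f) * (lift x' y ≫ f) := by
  have hbc : ∀ (Z : Over (Spec (CommRingCat.of k))) [LocallyOfFiniteType Z.hom] [QuasiCompact Z.hom]
      [IsSeparated Z.hom], LocallyOfFiniteType ((bcF K).obj Z).hom ∧ QuasiCompact ((bcF K).obj Z).hom ∧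
        IsSeparated ((bcF K).obj Z).hom := fun Z _ _ _ =>
    ⟨inferInstanceAs (LocallyOfFiniteType (pullback.snd Z.hom _)), inferInstanceAs (QuasiCompact (pullback.snd Z.hom _)),
      inferInstanceAs (IsSeparated (pullback.snd Z.hom _))⟩
  obtain ⟨_, _, _⟩ := hbc X
  obtain ⟨_, _, _⟩ := hbc Y
  have := Groth.AbVarMul.geometricallyIntegral_bcF K X
  have := Groth.AbVarMul.geometricallyIntegral_bcF K Y
  have := Groth.Abvar.isIntegral_left ((bcF K).obj X)
  have := Groth.Abvar.isIntegral_left ((bcF K).obj Y)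
  have hT' : Red.IsTorus ((bcF K).obj T) :=
    Groth.AlgGrp1.isTorus_bc (Spec.map (CommRingCat.ofHom (algebraMap k K))) hT
  have e : ∀ (a : SGA7.pt (K := k) K ⟶ X) (b : SGA7.pt (K := k) K ⟶ Y), bcPoints K T (lift a b ≫ f) =
      lift (bcDiag K ≫ (bcF K).map a) (bcDiag K ≫ (bcF K).map b) ≫ Functor.LaxMonoidal.μ (bcF K) X Y ≫ (bcF K).map f := by
    intro a b
    show bcDiag K ≫ (bcF K).map (lift a b ≫ f) = _
    rw [← comp_lift, Category.assoc, ← Category.assoc (lift _ _), Functor.Monoidal.lift_μ, Functor.map_comp]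
  refine (bcPoints K T).injective ?_
  rw [map_mul, map_mul, e, e, e, e]
  exact rectangle_torus hT' (Functor.LaxMonoidal.μ (bcF K) X Y ≫ (bcF K).map f) _ _ _ _

/-- A morphism from a product to a semi-abelian variety which is trivial on both axes is trivial. -/
theorem eq_one_of_axes {X Y G T A : Over (Spec (CommRingCat.of k))}
    [LocallyOfFiniteType X.hom] [QuasiCompact X.hom] [IsSeparated X.hom] [GeometricallyIntegral X.hom]
    [LocallyOfFiniteType Y.hom] [QuasiCompact Y.hom] [IsSeparated Y.hom] [GeometricallyIntegral Y.hom]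
    [GrpObj G] [GrpObj T] [GrpObj A] [IsProper A.hom] [Smooth A.hom] [GeometricallyIntegral A.hom]
    [IsSeparated T.hom]
    (i : T ⟶ G) [IsMonHom i] (hT : Red.IsTorus T) (q : G ⟶ A) [IsMonHom q] (hk : AlgGrp.IsKernel i q)
    (x₀ : 𝟙_ (Over (Spec (CommRingCat.of k))) ⟶ X) (y₀ : 𝟙_ (Over (Spec (CommRingCat.of k))) ⟶ Y)
    (D : X ⊗ Y ⟶ G) (hX : lift (𝟙 X) (toUnit X ≫ y₀) ≫ D = 1) (hY : lift (toUnit Y ≫ x₀) (𝟙 Y) ≫ D = 1) :
    D = 1 := by
  have hmono := Groth.AlgGrp1.IsKernel.mono hk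
  have h0 : lift x₀ y₀ ≫ D = 1 := by
    have := congrArg (x₀ ≫ ·) hX
    simp only [comp_lift_assoc, Category.comp_id, MonObj.comp_one] at this
    rwa [← Category.assoc x₀, toUnit_unique (x₀ ≫ toUnit X) (𝟙 _), Category.id_comp] at this
  have hDq : D ≫ q = 1 := by
    rw [Groth.AbVarMul.Decompose.eq_decomposition x₀ y₀ (D ≫ q)]
    simp only [← Category.assoc (lift _ _) D q, h0, hX, hY, MonObj.one_comp, MonObj.comp_one, inv_one,
      _root_.one_mul]
  obtain ⟨D', hD'⟩ := Groth.AlgGrp1.IsKernel.exists_lift hk D hDq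
  have hX' : lift (𝟙 X) (toUnit X ≫ y₀) ≫ D' = 1 := by
    rw [← cancel_mono i, Category.assoc, hD', hX, MonObj.one_comp]
  have hY' : lift (toUnit Y ≫ x₀) (𝟙 Y) ≫ D' = 1 := by
    rw [← cancel_mono i, Category.assoc, hD', hY, MonObj.one_comp]
  have := Groth.AlgGrp1.geometricallyReduced_tensorObj X Y
  have : LocallyOfFiniteType (X ⊗ Y).hom :=
    inferInstanceAs (LocallyOfFiniteType (pullback.fst X.hom Y.hom ≫ X.hom))
  suffices h : D' = 1 by rw [← hD', h, MonObj.one_comp]
  refine Groth.AlgGrp1.eq_of_sepClosed_points (AlgebraicClosure k) D' _ fun t => ?_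
  have ht : lift (t ≫ fst X Y) (t ≫ snd X Y) = t := by rw [← comp_lift, lift_fst_snd, Category.comp_id]
  have r := rectangle_torus_bc (AlgebraicClosure k) hT D' (t ≫ fst X Y) (toUnit _ ≫ x₀) (t ≫ snd X Y) (toUnit _ ≫ y₀)
  have ha : ∀ {U : Over (Spec (CommRingCat.of k))} (a : U ⟶ X), lift a (toUnit U ≫ y₀) ≫ D' = 1 := fun {U} a => by
    have := congrArg (a ≫ ·) hX'
    simpa only [comp_lift_assoc, Category.comp_id, MonObj.comp_one, comp_toUnit_assoc] using this
  have hb : ∀ {U : Over (Spec (CommRingCat.of k))} (b : U ⟶ Y), lift (toUnit U ≫ x₀) b ≫ D' = 1 := fun {U} b => by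
    have := congrArg (b ≫ ·) hY'
    simpa only [comp_lift_assoc, Category.comp_id, MonObj.comp_one, comp_toUnit_assoc] using this
  rw [ha, ha, hb, _root_.one_mul, _root_.mul_one, ht] at r
  rw [r, MonObj.comp_one]

/-- Tori over a field are smooth. -/
theorem smooth_of_isTorus {T : Over (Spec (CommRingCat.of k))} [GrpObj T] (hT : Red.IsTorus T) : Smooth T.hom := by
  let ψ : Spec (CommRingCat.of (AlgebraicClosure k)) ⟶ Spec (CommRingCat.of k) :=
    Spec.map (CommRingCat.ofHom (algebraMap k (AlgebraicClosure k)))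
  have hb := (Groth.AlgGrp1.isAffine_smooth_connected_of_isTorus (Groth.AlgGrp1.isTorus_bc ψ hT)).2.1
  have hs : Surjective ψ := ⟨fun x => ⟨IsLocalRing.closedPoint (AlgebraicClosure k), Subsingleton.elim _ _⟩⟩
  exact MorphismProperty.of_pullback_snd_of_descendsAlong (P := @Smooth)
    (Q := @Surjective ⊓ @Flat ⊓ @QuasiCompact) ⟨⟨hs, Groth.AlgGrp1.flat_fieldMap ψ⟩, inferInstance⟩ hb

/-- The decomposition for a morphism to a semi-abelian variety. -/
theorem main {X Y G T A : Over (Spec (CommRingCat.of k))}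
    [LocallyOfFiniteType X.hom] [QuasiCompact X.hom] [IsSeparated X.hom] [GeometricallyIntegral X.hom]
    [LocallyOfFiniteType Y.hom] [QuasiCompact Y.hom] [IsSeparated Y.hom] [GeometricallyIntegral Y.hom]
    [GrpObj G] [LocallyOfFiniteType G.hom] [QuasiCompact G.hom] [GrpObj T] [GrpObj A] [IsProper A.hom] [Smooth A.hom]
    [ConnectedSpace A.left] (i : T ⟶ G) [IsMonHom i] [IsClosedImmersion i.left] (hT : Red.IsTorus T)
    (q : G ⟶ A) [IsMonHom q] [Surjective q.left] [Flat q.left] (hk : AlgGrp.IsKernel i q)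
    (x₀ : 𝟙_ (Over (Spec (CommRingCat.of k))) ⟶ X) (y₀ : 𝟙_ (Over (Spec (CommRingCat.of k))) ⟶ Y) (f : X ⊗ Y ⟶ G) :
    f * (fst X Y ≫ lift (𝟙 X) (toUnit X ≫ y₀) ≫ f)⁻¹ * (snd X Y ≫ lift (toUnit Y ≫ x₀) (𝟙 Y) ≫ f)⁻¹ *
      (toUnit (X ⊗ Y) ≫ lift x₀ y₀ ≫ f) = 1 := by
  have := Groth.AlgGrp1.isSeparated_grpObj G
  have : LocallyOfFiniteType T.hom := by rw [← Over.w i]; infer_instance
  have : QuasiCompact T.hom := by rw [← Over.w i]; infer_instance
  have : IsSeparated T.hom := by rw [← Over.w i]; infer_instance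
  have : QuasiCompact q.left := by
    have : QuasiCompact (q.left ≫ A.hom) := by rw [Over.w q]; infer_instance
    exact QuasiCompact.of_comp q.left A.hom
  have := smooth_of_isTorus hT
  have hsm : Smooth q.left := Groth.AlgGrp1.IsKernel.descends hk @Smooth ‹Smooth T.hom›
  have : Smooth G.hom := by rw [← Over.w q]; infer_instance
  have : ConnectedSpace G.left :=
    Groth.AlgGrp1.connectedSpace_of_extension hk (Groth.Reductive2.connectedSpace_of_isTorus hT) inferInstance
  have := Groth.AlgGrp1.geometricallyReduced_of_smooth G.hom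
  have := Groth.AlgGrp1.geometricallyReduced_of_smooth A.hom
  have := Groth.AbvarAlb.geometricallyIntegral_of_connected G
  have := Groth.AbvarAlb.geometricallyIntegral_of_connected A
  have hcomm : ∀ {U : Over (Spec (CommRingCat.of k))} (a b : U ⟶ G), a * b = b * a := by
    have h := eq_one_of_axes i hT q hk η[G] η[G] (fst G G * snd G G * (fst G G)⁻¹ * (snd G G)⁻¹)
      (by
        simp only [MonObj.comp_mul, GrpObj.comp_inv, lift_fst, lift_snd]
        rw [show toUnit G ≫ η[G] = (1 : G ⟶ G) from rfl, _root_.mul_one, mul_inv_cancel, inv_one, _root_.one_mul])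
      (by
        simp only [MonObj.comp_mul, GrpObj.comp_inv, lift_fst, lift_snd]
        rw [show toUnit G ≫ η[G] = (1 : G ⟶ G) from rfl, _root_.one_mul, inv_one, _root_.mul_one, mul_inv_cancel])
    intro U a b
    have h' := congrArg (lift a b ≫ ·) h
    simp only [MonObj.comp_mul, GrpObj.comp_inv, lift_fst, lift_snd, MonObj.comp_one] at h'
    rw [mul_inv_eq_one, mul_inv_eq_iff_eq_mul] at h'
    exact h'
  have hs1 : ∀ {U : Over (Spec (CommRingCat.of k))} (a : U ⟶ 𝟙_ _), a = toUnit U := fun a => toUnit_unique _ _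
  refine eq_one_of_axes i hT q hk x₀ y₀ _ ?_ ?_
  · simp only [MonObj.comp_mul, GrpObj.comp_inv, lift_fst, lift_snd, lift_fst_assoc, lift_snd_assoc, comp_toUnit_assoc, Category.assoc,
      comp_lift_assoc, Category.comp_id, Category.id_comp]
    simp only [mul_inv_cancel, _root_.one_mul, inv_mul_cancel]
  · simp only [MonObj.comp_mul, GrpObj.comp_inv, lift_fst, lift_snd, lift_fst_assoc, lift_snd_assoc, comp_toUnit_assoc, Category.assoc,
      comp_lift_assoc, Category.comp_id, Category.id_comp]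
    rw [hcomm _ (lift (toUnit Y ≫ x₀) (toUnit Y ≫ y₀) ≫ f)⁻¹]
    group

end

/-- Let k be a field, X and Y varieties over k (separated, geometrically integral, of finite type) with
rational points x₀, y₀, G a semi-abelian variety (an extension of a proper smooth connected k-group
scheme by a torus) and f : X × Y → G a k-morphism. Then f(x, y) f(x, y₀)⁻¹ f(x₀, y)⁻¹ f(x₀, y₀) = e
identically, in the group of morphisms X × Y → G. -/
theorem result (k : Type u) [Field k]
    (X Y G : Over (Spec (CommRingCat.of k)))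
    [LocallyOfFiniteType X.hom] [QuasiCompact X.hom] [IsSeparated X.hom] [GeometricallyIntegral X.hom]
    [LocallyOfFiniteType Y.hom] [QuasiCompact Y.hom] [IsSeparated Y.hom] [GeometricallyIntegral Y.hom]
    [GrpObj G] [LocallyOfFiniteType G.hom] [QuasiCompact G.hom] (hG : (∃ (T : Over (Spec (CommRingCat.of k))) (_ : GrpObj T) (i : T ⟶ G) (A : Over (Spec (CommRingCat.of k))) (_ : GrpObj A) (q : G ⟶ A),
        IsMonHom i ∧ IsClosedImmersion i.left ∧ Red.IsTorus T ∧ IsMonHom q ∧ Surjective q.left ∧ Flat q.left ∧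
        AlgGrp.IsKernel i q ∧ IsProper A.hom ∧ Smooth A.hom ∧ ConnectedSpace ↥A.left))
    (x₀ : 𝟙_ (Over (Spec (CommRingCat.of k))) ⟶ X) (y₀ : 𝟙_ (Over (Spec (CommRingCat.of k))) ⟶ Y) (f : X ⊗ Y ⟶ G) :
    f * (fst X Y ≫ lift (𝟙 X) (toUnit X ≫ y₀) ≫ f)⁻¹ * (snd X Y ≫ lift (toUnit Y ≫ x₀) (𝟙 Y) ≫ f)⁻¹ *
      (toUnit (X ⊗ Y) ≫ lift x₀ y₀ ≫ f) = 1 := by
  obtain ⟨T, _, i, A, _, q, hi, hi', hT, hq, hqs, hqf, hk, hA1, hA2, hA3⟩ := hG
  exact main i hT q hk x₀ y₀ f

end Groth.Agent.S14595
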