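import Groth.Statements.S14596
import Groth.Agent.AlgGrp1.Act
import Groth.Agent.AlgGrp1.Basic
import Groth.Agent.AlgGrp1.Blanchard
import Groth.Agent.AlgGrp1.KPoints
import Groth.Agent.AlgGrp1.Orbit
import Groth.Agent.AlgGrp1.Sub
import Groth.Agent.Limits.Components
import Mathlib.AlgebraicGeometry.Morphisms.QuasiFinite

set_option autoImplicit false
universe u
open CategoryTheory MonoidalCategory CartesianMonoidalCategory MonObj GrpObj AlgebraicGeometry CategoryTheory.Limits
open AlgGrp

namespace Groth.Agent.S14596

open Groth.AlgGrp1 Topology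

section

variable {k : Type u} [Field k] {G G₀ X : Over (Spec (CommRingCat.of k))} [GrpObj G] [GrpObj G₀]
  {i : G₀ ⟶ G} {a : AlgGrp.Action G X} {o : 𝟙_ (Over (Spec (CommRingCat.of k))) ⟶ X}

omit [GrpObj G₀] in
theorem isPullback_diag (h : IsPullback (fst G G₀) ((G ◁ i) ≫ μ[G]) (a.orbitMap o) (a.orbitMap o)) :
    IsPullback (lift (fst G G₀) ((G ◁ i) ≫ μ[G])) (fst G G₀ ≫ a.orbitMap o)
      (a.orbitMap o ⊗ₘ a.orbitMap o) (lift (𝟙 X) (𝟙 X)) := by
  have w : lift (fst G G₀) ((G ◁ i) ≫ μ[G]) ≫ (a.orbitMap o ⊗ₘ a.orbitMap o) =
      (fst G G₀ ≫ a.orbitMap o) ≫ lift (𝟙 X) (𝟙 X) := by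
    apply CartesianMonoidalCategory.hom_ext
    · simp
    · simp only [Category.assoc, lift_snd, Category.comp_id, tensorHom_snd, lift_snd_assoc]
      simpa using h.w.symm
  have key : ∀ c : PullbackCone (a.orbitMap o ⊗ₘ a.orbitMap o) (lift (𝟙 X) (𝟙 X)),
      ∃ m : c.pt ⟶ G ⊗ G₀, m ≫ lift (fst G G₀) ((G ◁ i) ≫ μ[G]) = c.fst ∧
        m ≫ fst G G₀ ≫ a.orbitMap o = c.snd := by
    intro c
    have h1 := congrArg (· ≫ fst X X) c.condition
    have h2 := congrArg (· ≫ snd X X) c.condition
    simp only [Category.assoc, tensorHom_fst, tensorHom_snd, lift_fst, lift_snd, Category.comp_id] at h1 h2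
    have e : (c.fst ≫ fst G G) ≫ a.orbitMap o = (c.fst ≫ snd G G) ≫ a.orbitMap o := by
      rw [Category.assoc, Category.assoc, h1, h2]
    refine ⟨h.lift _ _ e, CartesianMonoidalCategory.hom_ext _ _ ?_ ?_, ?_⟩
    · rw [Category.assoc, lift_fst, h.lift_fst]
    · rw [Category.assoc, lift_snd, h.lift_snd]
    · rw [← Category.assoc, h.lift_fst, Category.assoc, h1]
  choose m h1 h2 using key
  refine ⟨⟨w⟩, ⟨PullbackCone.IsLimit.mk w m h1 h2 fun c l hl1 hl2 => ?_⟩⟩
  apply h.hom_ext
  · have := congrArg (· ≫ fst G G) (hl1.trans (h1 c).symm)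
    simpa using this
  · have := congrArg (· ≫ snd G G) (hl1.trans (h1 c).symm)
    simpa using this

omit [GrpObj G₀] in
theorem isOpen_range_diag [LocallyOfFiniteType G.hom] [LocallyOfFiniteType X.hom]
    [Flat (a.orbitMap o).left] [Surjective (a.orbitMap o).left]
    (h : IsPullback (fst G G₀) ((G ◁ i) ≫ μ[G]) (a.orbitMap o) (a.orbitMap o))
    (hi : IsOpen (Set.range i.left.base)) : IsOpen (Set.range (lift (𝟙 X) (𝟙 X)).left.base) := by
  have := isLocallyNoetherian_left X
  set q := a.orbitMap o
  have := lfp_left q
  have : UniversallyOpen q.left := UniversallyOpen.of_flat q.left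
  have hUO : UniversallyOpen ((q ▷ G).left ≫ (X ◁ q).left) := by
    have h1 : UniversallyOpen (q ▷ G).left :=
      MorphismProperty.of_isPullback (P := @UniversallyOpen) (isPullback_whiskerRight q G) inferInstance
    have h2 : UniversallyOpen (X ◁ q).left :=
      MorphismProperty.of_isPullback (P := @UniversallyOpen) (isPullback_whiskerLeft X q) inferInstance
    exact MorphismProperty.comp_mem _ _ _ h1 h2
  have hS : Surjective ((q ▷ G).left ≫ (X ◁ q).left) := by
    have h1 : Surjective (q ▷ G).left :=
      MorphismProperty.of_isPullback (P := @Surjective) (isPullback_whiskerRight q G) inferInstance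
    have h2 : Surjective (X ◁ q).left :=
      MorphismProperty.of_isPullback (P := @Surjective) (isPullback_whiskerLeft X q) inferInstance
    infer_instance
  rw [← Over.comp_left, ← tensorHom_def] at hUO hS
  have sq := (isPullback_diag h).map (Over.forget _)
  simp only [Over.forget_map] at sq
  set ψ := lift (fst G G₀) ((G ◁ i) ≫ μ[G])
  have hrange : (q ⊗ₘ q).left.base ⁻¹' Set.range (lift (𝟙 X) (𝟙 X)).left.base = Set.range ψ.left.base := by
    refine Set.Subset.antisymm (fun z hz => ?_) ?_
    · obtain ⟨w, hw⟩ := hz
      obtain ⟨p, hp, -⟩ := Scheme.Pullback.exists_preimage_pullback (f := (q ⊗ₘ q).left)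
        (g := (lift (𝟙 X) (𝟙 X)).left) z w hw.symm
      exact ⟨sq.isoPullback.inv.base p, (congr(($(sq.isoPullback_inv_fst)).base p)).trans hp⟩
    · rintro _ ⟨w, rfl⟩
      exact ⟨_, (congr(($(sq.w)).base w)).symm⟩
  have hψ : ψ = (G ◁ i) ≫ (shear (regularAction G)).hom := by
    apply CartesianMonoidalCategory.hom_ext <;> simp [ψ, shear, regularAction]
  have hopen : IsOpen (Set.range ψ.left.base) := by
    have e : Set.range ψ.left.base = (shear (regularAction G)).inv.left.base ⁻¹'
        Set.range (G ◁ i).left.base := by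
      have hl : ∀ y, (shear (regularAction G)).inv.left.base ((shear (regularAction G)).hom.left.base y) = y :=
        fun y => congr(($((shear (regularAction G)).hom_inv_id)).left.base y)
      have hr : ∀ y, (shear (regularAction G)).hom.left.base ((shear (regularAction G)).inv.left.base y) = y :=
        fun y => congr(($((shear (regularAction G)).inv_hom_id)).left.base y)
      rw [hψ]
      refine Set.Subset.antisymm ?_ ?_
      · rintro _ ⟨w, rfl⟩
        exact ⟨w, (hl _).symm⟩
      · rintro z ⟨w, hw⟩
        exact ⟨w, (congrArg (shear (regularAction G)).hom.left.base hw).trans (hr z)⟩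
    rw [e]
    refine IsOpen.preimage (shear (regularAction G)).inv.left.continuous ?_
    rw [show Set.range (G ◁ i).left.base = (snd G G).left.base ⁻¹' Set.range i.left.base from
      Set.ext fun p => mem_range_whiskerLeft_iff G i p]
    exact hi.preimage (snd G G).left.continuous
  rw [← Set.image_preimage_eq (Set.range (lift (𝟙 X) (𝟙 X)).left.base) (q ⊗ₘ q).left.surjective, hrange]
  exact (q ⊗ₘ q).left.isOpenMap _ hopen

theorem discreteTopology_of_isOpen_diag [LocallyOfFiniteType X.hom]
    (h : IsOpen (Set.range (lift (𝟙 X) (𝟙 X)).left.base)) : DiscreteTopology X.left := by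
  have := LocallyOfFiniteType.jacobsonSpace X.hom
  let K := AlgebraicClosure k
  have hclosed : ∀ x ∈ closedPoints X.left, IsOpen ({x} : Set X.left) := by
    intro x hx
    obtain ⟨s, hs⟩ := exists_point_over_closed K X x hx
    let u : X ⊗ specAlg k K ⟶ X ⊗ X := lift (snd X (specAlg k K) ≫ s) (fst X (specAlg k K))
    let O := u.left.base ⁻¹' Set.range (lift (𝟙 X) (𝟙 X)).left.base
    have hfst : IsOpenMap (fst X (specAlg k K)).left.base :=
      (pullback.fst X.hom (specAlg k K).hom).isOpenMap
    have : (fst X (specAlg k K)).left.base '' O = {x} := by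
      refine Set.eq_singleton_iff_unique_mem.2 ⟨?_, ?_⟩
      · refine ⟨ptOf (lift s (𝟙 _)), ⟨ptOf s, ?_⟩, ?_⟩
        · rw [← ptOf_comp, ← ptOf_comp]
          congr 1
          apply CartesianMonoidalCategory.hom_ext <;> simp [u]
        · rw [← ptOf_comp, lift_fst]
          exact hs
      · rintro _ ⟨z, ⟨w, hw⟩, rfl⟩
        have e1 : (fst X X).left.base (u.left.base z) = x := by
          have : u ≫ fst X X = snd X (specAlg k K) ≫ s := lift_fst _ _
          rw [← hs]
          exact (congr(($this).left.base z)).trans
            (congrArg s.left.base (Subsingleton.elim (α := ↥(Spec (CommRingCat.of K))) _ _))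
        have e2 : (fst X (specAlg k K)).left.base z = (snd X X).left.base (u.left.base z) := by
          have : u ≫ snd X X = fst X (specAlg k K) := lift_snd _ _
          exact (congr(($this).left.base z)).symm
        rw [e2, ← e1, ← hw]
        exact (congr(($(lift_snd (𝟙 X) (𝟙 X))).left.base w)).trans
          (congr(($(lift_fst (𝟙 X) (𝟙 X))).left.base w)).symm
    rw [← this]
    exact hfst _ (h.preimage u.left.continuous)
  have hall : closedPoints X.left = Set.univ := by
    refine Set.eq_univ_of_forall fun x => ?_
    by_contra hx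
    have ho : IsOpen (closedPoints X.left) := by
      rw [← Set.biUnion_of_singleton (closedPoints X.left)]
      exact isOpen_biUnion hclosed
    obtain ⟨c, hc, hcc⟩ := nonempty_inter_closedPoints (Z := (closedPoints X.left)ᶜ) ⟨x, hx⟩
      ho.isClosed_compl.isLocallyClosed
    exact hc hcc
  exact discreteTopology_iff_isOpen_singleton.2 fun x => hclosed x (hall ▸ Set.mem_univ x)

end

/-- Let k be a perfect field, G a k-group scheme of finite type and r₀ : G⁰_red → G the reduced neutral
component of G, i.e. a homomorphism and closed immersion from a reduced k-group scheme whose image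
is the connected component of the identity. Then the homogeneous space G/G⁰_red is finite, and
G⁰_red is the smallest closed subgroup scheme H of G such that G/H is finite: every such H contains
G⁰_red. -/
theorem result (k : Type u) [Field k] [PerfectField k]
    (G G₀ : Over (Spec (CommRingCat.of k))) [GrpObj G] [GrpObj G₀] [LocallyOfFiniteType G.hom] [QuasiCompact G.hom]
    [LocallyOfFiniteType G₀.hom] [QuasiCompact G₀.hom]
    (r₀ : G₀ ⟶ G) [IsMonHom r₀] [IsClosedImmersion r₀.left] [IsReduced G₀.left] (t : ↥((𝟙_ (Over (Spec (CommRingCat.of k)))).left))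
    (hr₀ : Set.range ⇑r₀.left.base = connectedComponent ((η[G]).left.base t)) :
    (∀ (X : Over (Spec (CommRingCat.of k))) (a : AlgGrp.Action G X) (o : 𝟙_ (Over (Spec (CommRingCat.of k))) ⟶ X), AGF.IsQuotient r₀ X a o → IsFinite X.hom) ∧
    ∀ (H : Over (Spec (CommRingCat.of k))) [GrpObj H] (h : H ⟶ G) [IsMonHom h] [IsClosedImmersion h.left]
      (X : Over (Spec (CommRingCat.of k))) (a : AlgGrp.Action G X) (o : 𝟙_ (Over (Spec (CommRingCat.of k))) ⟶ X),
      AGF.IsQuotient h X a o → IsFinite X.hom → ∃ g : G₀ ⟶ H, g ≫ h = r₀ := by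
  have := isLocallyNoetherian_left G
  have : CompactSpace G.left := QuasiCompact.compactSpace_of_compactSpace G.hom
  have : AlgebraicGeometry.IsNoetherian G.left := ⟨⟩
  have hr : IsOpen (Set.range r₀.left.base) := by
    rw [hr₀]
    exact Groth.Limits.isOpen_connectedComponent_of_finite (Groth.Limits.finite_range_connectedComponent
      TopologicalSpace.NoetherianSpace.finite_irreducibleComponents) _
  refine ⟨fun X a o ⟨_, _, _, hpb⟩ => ?_, fun H _ h _ _ X a o ⟨_, _, _, hpb⟩ hX => ?_⟩
  · have := discreteTopology_of_isOpen_diag (isOpen_range_diag hpb hr)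
    have : CompactSpace X.left := by
      rw [← isCompact_univ_iff, ← (a.orbitMap o).left.surjective.range_eq]
      exact isCompact_range (a.orbitMap o).left.continuous
    have : Finite X.left := finite_of_compact_of_discrete
    have : QuasiCompact X.hom := (quasiCompact_iff_compactSpace X.hom).2 ‹_›
    have : LocallyQuasiFinite X.hom := LocallyQuasiFinite.of_finite_preimage_singleton _ fun _ => Set.toFinite _
    exact IsFinite.of_locallyQuasiFinite _
  · have : Finite X.left := by
      have := X.hom.finite_preimage_singleton (IsLocalRing.closedPoint k)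
      rw [← Set.finite_univ_iff]
      exact this.subset fun x _ => Subsingleton.elim (α := ↥(Spec (CommRingCat.of k))) _ _
    have := LocallyOfFiniteType.jacobsonSpace X.hom
    have : DiscreteTopology X.left := inferInstance
    set q := a.orbitMap o
    have hsub : Set.range r₀.left.base ⊆ Set.range h.left.base := by
      rintro _ ⟨g, rfl⟩
      have hq : q.left.base (r₀.left.base g) = o.left.base t := by
        have hpre : _root_.IsPreconnected (q.left.base '' Set.range r₀.left.base) :=
          (hr₀ ▸ isPreconnected_connectedComponent).image _ q.left.continuous.continuousOn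
        have h1 : q.left.base ((η[G]).left.base t) ∈ q.left.base '' Set.range r₀.left.base :=
          ⟨_, hr₀ ▸ mem_connectedComponent, rfl⟩
        have h2 : q.left.base (r₀.left.base g) ∈ q.left.base '' Set.range r₀.left.base :=
          ⟨_, ⟨g, rfl⟩, rfl⟩
        rw [hpre.subsingleton h2 h1]
        have : η[G] ≫ q = o := by
          have e : η[G] = (1 : 𝟙_ _ ⟶ G) := by
            rw [Hom.one_def, toUnit_unique (toUnit (𝟙_ _)) (𝟙 _), Category.id_comp]
          rw [comp_orbit, e, a.lift_one_act, toUnit_unique (toUnit (𝟙_ _)) (𝟙 _), Category.id_comp]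
        exact congr(($this).left.base t)
      obtain ⟨p, hp, -⟩ := Scheme.Pullback.exists_preimage_pullback (f := q.left) (g := o.left)
        (r₀.left.base g) t hq
      let W : Over (Spec (CommRingCat.of k)) := Over.mk (pullback.fst q.left o.left ≫ G.hom)
      let b : W ⟶ G := Over.homMk (pullback.fst q.left o.left)
      have hb : b ≫ q = toUnit W ≫ o := by
        ext : 1
        refine pullback.condition.trans ?_
        rw [Over.comp_left]
        congr 1
        have : pullback.snd q.left o.left ≫ 𝟙 _ = pullback.fst q.left o.left ≫ G.hom := by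
          have e := congrArg (· ≫ X.hom) (pullback.condition (f := q.left) (g := o.left))
          simp only [Category.assoc, Over.w] at e
          exact e.symm
        exact (Category.comp_id _).symm.trans this
      have h1 : (1 : W ⟶ G) ≫ q = toUnit W ≫ o := by rw [comp_orbit, a.lift_one_act]
      let n := hpb.lift (1 : W ⟶ G) b (h1.trans hb.symm)
      have hn : (n ≫ snd G H) ≫ h = b := by
        have e : n ≫ (G ◁ h) ≫ μ[G] = b := hpb.lift_snd _ _ _
        have e1 : n ≫ fst G H = 1 := hpb.lift_fst _ _ _
        have e2 : (G ◁ h) ≫ μ[G] = fst G H * (snd G H ≫ h) := by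
          rw [Hom.mul_def]
          congr 1
        rw [e2, MonObj.comp_mul, e1, _root_.one_mul, ← Category.assoc] at e
        exact e
      exact ⟨(n ≫ snd G H).left.base p, (congr(($hn).left.base p)).trans hp⟩
    exact exists_factor_of_range_subset h r₀ hsub

end Groth.Agent.S14596
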