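import Groth.Statements.S14597
import Groth.Agent.AlgGrp1.ActAffine

set_option autoImplicit false
universe u
open CategoryTheory MonoidalCategory CartesianMonoidalCategory MonObj GrpObj AlgebraicGeometry CategoryTheory.Limits
open AlgGrp

namespace Groth.Agent.S14597

/-- Let k be a field, G a k-group scheme of finite type acting on a separated, integral, locally
Noetherian k-scheme X and fixing a rational point x. Let n : N → G be the kernel of the action, i.e.
the closed subgroup scheme whose points with values in a k-scheme T are the T-points of G acting as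
the identity on X_T, and let q : G → Q be a flat surjective homomorphism of k-group schemes of
finite type with kernel N. Then Q is affine. (The published statement is for an irreducible locally
Noetherian X and the quotient C_G(x)/Ker of the stabiliser of x; restricting the action to the
stabiliser gives the case stated, and X is taken reduced here because the published proof uses that
the infinitesimal neighbourhoods of x are schematically dense in X.) -/
theorem result (k : Type u) [Field k]
    (G X : Over (Spec (CommRingCat.of k))) [GrpObj G] [LocallyOfFiniteType G.hom] [QuasiCompact G.hom]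
    [IsSeparated X.hom] [IsIntegral X.left] [IsLocallyNoetherian X.left]
    (a : AlgGrp.Action G X) (x : 𝟙_ (Over (Spec (CommRingCat.of k))) ⟶ X) (hx : a.IsFixedPt x)
    (N : Over (Spec (CommRingCat.of k))) [GrpObj N] (n : N ⟶ G) [IsMonHom n] [IsClosedImmersion n.left]
    (hN : ∀ (T : Over (Spec (CommRingCat.of k))) (g : T ⟶ G), (∃ m : T ⟶ N, m ≫ n = g) ↔
      ∀ (T' : Over (Spec (CommRingCat.of k))) (t : T' ⟶ T) (y : T' ⟶ X), lift (t ≫ g) y ≫ a.act = y)
    (Q : Over (Spec (CommRingCat.of k))) [GrpObj Q] [LocallyOfFiniteType Q.hom] [QuasiCompact Q.hom]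
    (q : G ⟶ Q) [IsMonHom q] [Surjective q.left] [Flat q.left] (hq : AlgGrp.IsKernel n q) :
    IsAffine Q.left := by
  have := Groth.AlgGrp1.isSeparated_grpObj G
  have hc : Groth.AlgGrp1.IsCover q := Groth.AlgGrp1.isCover q
  have hcX : Groth.AlgGrp1.IsCover (q ▷ X) := hc.whiskerRight X
  have hNact : ∀ {T : Over (Spec (CommRingCat.of k))} (m : T ⟶ N) (y : T ⟶ X), lift (m ≫ n) y ≫ a.act = y := by
    intro T m y
    simpa using (hN T (m ≫ n)).1 ⟨m, rfl⟩ T (𝟙 T) y
  obtain ⟨bact, hbact⟩ := hcX.exists_desc a.act (fun T u v huv => by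
    rw [← lift_comp_fst_snd u, ← lift_comp_fst_snd v] at huv ⊢
    simp only [lift_whiskerRight] at huv
    have h1 := congrArg (· ≫ fst Q X) huv
    have h2 := congrArg (· ≫ snd Q X) huv
    simp only [lift_fst, lift_snd] at h1 h2
    obtain ⟨m, hm⟩ := Groth.AlgGrp1.IsKernel.exists_lift hq ((v ≫ fst G X)⁻¹ * (u ≫ fst G X))
      (by rw [MonObj.mul_comp, GrpObj.inv_comp, h1, inv_mul_cancel])
    rw [h2, show u ≫ fst G X = (v ≫ fst G X) * (m ≫ n) by rw [hm, mul_inv_cancel_left],
      a.lift_mul_act, hNact])
  have hb : ∀ {T : Over (Spec (CommRingCat.of k))} (g : T ⟶ G) (y : T ⟶ X),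
      lift (g ≫ q) y ≫ bact = lift g y ≫ a.act := fun g y => by
    rw [← hbact, lift_whiskerRight_assoc]
  let b : AlgGrp.Action Q X :=
    { act := bact
      one_act := by
        rw [← IsMonHom.one_hom q, comp_whiskerRight_assoc, hbact, a.one_act]
      mul_act := Groth.AlgGrp1.mulAct_of_points _ fun T g g' y => by
        obtain ⟨T', c, u, u', hc', hu, hu'⟩ := hc.exists_lift₂ g g'
        apply hc'.cancel
        rw [comp_lift_assoc, MonObj.comp_mul, ← hu, ← hu', ← MonObj.mul_comp, hb, a.lift_mul_act,
          comp_lift_assoc, ← hu, hb, comp_lift_assoc, ← hu', hb] }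
  let K := AlgebraicClosure k
  refine Groth.AlgGrp1.isAffine_of_fixedPt K Q X b x (fun T g => ?_) fun g hg => ?_
  · obtain ⟨T', c, g', hc', hg'⟩ := hc.exists_lift g
    apply hc'.cancel
    rw [comp_lift_assoc, ← hg', hb, ← Category.assoc, toUnit_unique (c ≫ toUnit T) (toUnit T'), hx]
  · obtain ⟨T', c, g', hc', hg'⟩ := hc.exists_lift g
    apply hc'.cancel
    have hmem : ∃ m : T' ⟶ N, m ≫ n = g' := (hN T' g').2 fun T'' t y => by
      have := congrArg (lift (t ≫ c) y ≫ ·) hg
      simp only [comp_lift_assoc, lift_fst_assoc, lift_snd, Category.assoc] at this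
      rw [← hg', ← Category.assoc] at this
      exact ((hb _ _).symm.trans this)
    obtain ⟨m, rfl⟩ := hmem
    rw [← hg', Category.assoc, Groth.AlgGrp1.IsKernel.comp_eq_one hq, MonObj.comp_one, MonObj.comp_one]

end Groth.Agent.S14597
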