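import Groth.Statements.S1460
import Mathlib.RingTheory.Extension.Presentation.Core
import Mathlib.RingTheory.RingHom.FiniteType

set_option autoImplicit false
universe u
open FlatMor

namespace Groth.Agent.S1460

open AlgebraicGeometry CategoryTheory Limits in
/-- Let f : X → S be a morphism of finite presentation between affine schemes. Then f is the base change
of a morphism of finite type f₀ : X₀ → S₀ between affine schemes with S₀ of finite type over ℤ. -/
theorem result {X S : Scheme.{u}} (f : X ⟶ S) [IsAffine X] [IsAffine S] [LocallyOfFinitePresentation f] :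
    ∃ (X₀ S₀ : Scheme.{u}) (f₀ : X₀ ⟶ S₀) (g : S ⟶ S₀) (g' : X ⟶ X₀), IsAffine X₀ ∧ IsAffine S₀ ∧ IsPullback g' f f₀ g ∧
      Algebra.FiniteType ℤ Γ(S₀, ⊤) ∧ LocallyOfFiniteType f₀ := by
  let A := Γ(S, ⊤)
  let B := Γ(X, ⊤)
  let : Algebra A B := f.appTop.hom.toAlgebra
  have : Algebra.FinitePresentation A B :=
    (HasRingHomProperty.iff_of_isAffine (P := @LocallyOfFinitePresentation)).mp ‹_›
  let P := Algebra.Presentation.ofFinitePresentation A B
  let R₀ := P.Core
  let B₀ := P.ModelOfHasCoeffs R₀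
  let e := P.tensorModelOfHasCoeffsEquiv R₀
  let : Algebra B₀ B := (e.toAlgHom.toRingHom.comp
    Algebra.TensorProduct.includeRight.toRingHom).toAlgebra
  have : IsScalarTower R₀ B₀ B := IsScalarTower.of_algebraMap_eq (R := R₀) (S := B₀) (A := B) fun r => by
    conv_lhs => rw [IsScalarTower.algebraMap_apply R₀ A B]
    show _ = e (1 ⊗ₜ algebraMap R₀ B₀ r)
    rw [← e.commutes (algebraMap R₀ A r)]
    congr 1
    rw [Algebra.TensorProduct.algebraMap_apply, Algebra.algebraMap_self, RingHom.id_apply,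
      Algebra.algebraMap_eq_smul_one r, TensorProduct.smul_tmul, ← Algebra.algebraMap_eq_smul_one]
  have hp : Algebra.IsPushout R₀ A B₀ B :=
    ⟨IsBaseChange.of_equiv e.toLinearEquiv fun x => rfl⟩
  have hpb := isPullback_SpecMap_of_isPushout _ _ _ _
    ((CommRingCat.isPushout_iff_isPushout (R' := A) (S := B₀) (S' := B)).mpr hp)
  refine ⟨Spec (.of B₀), Spec (.of R₀), Spec.map (CommRingCat.ofHom (algebraMap R₀ B₀)),
    S.isoSpec.hom ≫ Spec.map (CommRingCat.ofHom (algebraMap R₀ A)),
    X.isoSpec.hom ≫ Spec.map (CommRingCat.ofHom (algebraMap B₀ B)), inferInstance, inferInstance,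
    ?_, ?_, ?_⟩
  · refine (IsPullback.of_horiz_isIso ⟨?_⟩).paste_horiz hpb.flip
    exact Scheme.isoSpec_hom_naturality f
  · rw [← RingHom.finiteType_algebraMap, RingHom.ext_int (algebraMap ℤ Γ(Spec (.of R₀), ⊤))
      ((Scheme.ΓSpecIso (.of R₀)).inv.hom.comp (algebraMap ℤ R₀))]
    exact RingHom.FiniteType.comp_surjective (f := algebraMap ℤ R₀)
      (g := (Scheme.ΓSpecIso (.of R₀)).inv.hom) (RingHom.finiteType_algebraMap.mpr inferInstance)
      (Scheme.ΓSpecIso (.of R₀)).commRingCatIsoToRingEquiv.symm.surjective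
  · rw [HasRingHomProperty.Spec_iff (P := @LocallyOfFiniteType)]
    exact RingHom.finiteType_algebraMap.mpr inferInstance

end Groth.Agent.S1460
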