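import Groth.Statements.S14606
import Mathlib.RingTheory.Nilpotent.GeometricallyReduced
import Mathlib.RingTheory.FiniteStability
import Mathlib.RingTheory.Noetherian.Nilpotent
import Mathlib.Algebra.CharP.Algebra
import Mathlib.FieldTheory.IsAlgClosed.Basic

set_option autoImplicit false
universe u
open FrobAlg

namespace Groth.Agent.S14606

open scoped TensorProduct

/-- Let k be a field of characteristic p > 0 and R a finitely generated commutative k-algebra. The
scheme-theoretic image of the n-th relative Frobenius morphism of Spec R is the spectrum of the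
k-subalgebra k[R^(p^n)] generated by all p^n-th powers; for n large enough this image is
geometrically reduced: there is an n such that k[R^(p^n)] is a geometrically reduced k-algebra.
(Stated in affine, ring-theoretic form.) -/
theorem result (k : Type u) [Field k] (p : ℕ) [Fact p.Prime] [CharP k p]
    (R : Type u) [CommRing R] [Algebra k R] [Algebra.FiniteType k R] :
    ∃ n : ℕ, Algebra.IsGeometricallyReduced k ↥(Algebra.adjoin k (Set.range (fun x : R => x ^ (p ^ n)))) := by
  let K := AlgebraicClosure k
  have : Algebra.FiniteType K (TensorProduct k K R) := inferInstance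
  have : IsNoetherianRing (TensorProduct k K R) := Algebra.FiniteType.isNoetherianRing K _
  obtain ⟨n, hn⟩ := IsNoetherianRing.isNilpotent_nilradical (TensorProduct k K R)
  refine ⟨n, ?_⟩
  rw [Algebra.isGeometricallyReduced_field_iff]
  set A := Algebra.adjoin k (Set.range fun x : R => x ^ p ^ n)
  let θ : TensorProduct k K ↥A →ₐ[k] TensorProduct k K R := Algebra.TensorProduct.map (AlgHom.id k K) A.val
  have hθ : Function.Injective θ :=
    Module.Flat.lTensor_preserves_injective_linearMap (M := K) A.val.toLinearMap Subtype.val_injective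
  rcases subsingleton_or_nontrivial (TensorProduct k K R) with hT | hT
  · have : Subsingleton (TensorProduct k K ↥A) := hθ.subsingleton
    exact ⟨fun y _ => Subsingleton.elim _ _⟩
  have : CharP (TensorProduct k K R) p :=
    charP_of_injective_algebraMap (algebraMap k (TensorProduct k K R)).injective p
  let F := iterateFrobenius (TensorProduct k K R) p n
  have hroot : ∀ c : K, ∃ d : K, d ^ p ^ n = c := fun c =>
    IsAlgClosed.exists_pow_nat_eq c (pow_pos (Fact.out : p.Prime).pos n)
  have key : ∀ a ∈ A, ∀ c : K, c ⊗ₜ[k] a ∈ F.range := by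
    intro a ha
    induction ha using Algebra.adjoin_induction with
    | mem x hx =>
      obtain ⟨x, rfl⟩ := hx
      intro c
      obtain ⟨d, rfl⟩ := hroot c
      exact ⟨d ⊗ₜ x, by simp [F, iterateFrobenius_def, Algebra.TensorProduct.tmul_pow]⟩
    | algebraMap r =>
      intro c
      obtain ⟨d, hd⟩ := hroot (r • c)
      refine ⟨d ⊗ₜ 1, ?_⟩
      rw [iterateFrobenius_def, Algebra.TensorProduct.tmul_pow, one_pow, hd, Algebra.algebraMap_eq_smul_one,
        TensorProduct.smul_tmul]
    | add a b _ _ ha hb => exact fun c => by rw [TensorProduct.tmul_add]; exact add_mem (ha c) (hb c)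
    | mul a b _ _ ha hb => intro c; rw [show c ⊗ₜ[k] (a * b) = (c ⊗ₜ a) * (1 ⊗ₜ b) by simp]; exact mul_mem (ha c) (hb 1)
  have hrange : ∀ y, θ y ∈ F.range := by
    intro y
    induction y using TensorProduct.induction_on with
    | zero => simp
    | tmul c a => simpa [θ] using key a a.2 c
    | add a b ha hb => rw [map_add]; exact add_mem ha hb
  refine ⟨fun y hy => hθ ?_⟩
  obtain ⟨z, hz⟩ := hrange y
  rw [map_zero, ← hz]
  have hznil : IsNilpotent z := by
    obtain ⟨m, hm⟩ := hy.map θ
    rw [← hz, iterateFrobenius_def, ← pow_mul] at hm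
    exact ⟨_, hm⟩
  have h0 : z ^ n = 0 := by
    have := Ideal.pow_mem_pow (mem_nilradical.2 hznil) n
    rwa [hn] at this
  rw [iterateFrobenius_def]
  exact pow_eq_zero_of_le (Nat.lt_pow_self (Fact.out : p.Prime).one_lt).le h0

end Groth.Agent.S14606
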