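import Groth.Statements.S14608
import Mathlib.RingTheory.LocalRing.Module
import Mathlib.RingTheory.Localization.BaseChange
import Mathlib.RingTheory.Flat.Localization

set_option autoImplicit false
universe u v
open CAlg

namespace Groth.Agent.S14608

open TensorProduct

section BC

variable {A : Type*} [CommRing A] (R : Type*) [CommRing R] [Algebra A R]
  (k : Type*) [AddCommGroup k] [Module R k] [Module A k] [IsScalarTower A R k]
  {X Y : Type*} [AddCommGroup X] [Module A X] [AddCommGroup Y] [Module A Y] (g : X →ₗ[A] Y)

theorem cancel_lTensor (z : k ⊗[R] (R ⊗[A] X)) :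
    AlgebraTensorModule.cancelBaseChange A R R k Y ((g.baseChange R).lTensor k z) =
      g.lTensor k (AlgebraTensorModule.cancelBaseChange A R R k X z) := by
  induction z using TensorProduct.induction_on with
  | zero => simp
  | add a b ha hb => simp only [map_add, ha, hb]
  | tmul c w =>
    induction w using TensorProduct.induction_on with
    | zero => simp
    | add a b ha hb => simp only [TensorProduct.tmul_add, map_add, ha, hb]
    | tmul r x => simp

theorem injective_lTensor_baseChange_iff :
    Function.Injective ((g.baseChange R).lTensor k) ↔ Function.Injective (g.lTensor k) := by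
  let eX := AlgebraTensorModule.cancelBaseChange A R R k X
  let eY := AlgebraTensorModule.cancelBaseChange A R R k Y
  constructor
  · intro h a b hab
    obtain ⟨a, rfl⟩ := eX.surjective a
    obtain ⟨b, rfl⟩ := eX.surjective b
    rw [← cancel_lTensor R k g, ← cancel_lTensor R k g] at hab
    rw [h (eY.injective hab)]
  · intro h a b hab
    have := congrArg eY hab
    rw [cancel_lTensor R k g, cancel_lTensor R k g] at this
    exact eX.injective (h this)

end BC

/-- A retraction gives injectivity after tensoring. -/
theorem injective_lTensor_of_leftInverse {R : Type*} [CommRing R] (k : Type*) [AddCommGroup k]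
    [Module R k] {X Y : Type*} [AddCommGroup X] [Module R X] [AddCommGroup Y] [Module R Y]
    (g : X →ₗ[R] Y) (l : Y →ₗ[R] X) (hl : l ∘ₗ g = LinearMap.id) :
    Function.Injective (g.lTensor k) :=
  Function.HasLeftInverse.injective ⟨l.lTensor k,
    LinearMap.congr_fun (by rw [← LinearMap.lTensor_comp, hl, LinearMap.lTensor_id] :
      l.lTensor k ∘ₗ g.lTensor k = LinearMap.id)⟩


open TensorProduct in
/-- Let A be a Noetherian ring, M a finitely generated A-module, F a finitely generated free A-module, δ
: M → F an A-linear map and p a prime of A with residue field κ(p). The following are equivalent: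
(a) the natural map (ker δ) ⊗ κ(p) → ker(δ ⊗ κ(p)) is surjective (its image is the whole kernel);
(b) that map is bijective; (c) (F / im δ) localized at p is a free module over the local ring A_p.
Moreover, if these hold then (im δ) localized at p is free over A_p. (The published statement takes
M to be the cokernel of a map of finitely generated free modules; over a Noetherian ring this is
every finitely generated M, which is what this row takes.) -/
theorem result (A : Type u) [CommRing A] [IsNoetherianRing A]
    (M : Type v) (F : Type v) [AddCommGroup M] [Module A M] [Module.Finite A M]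
    [AddCommGroup F] [Module A F] [Module.Finite A F] [Module.Free A F]
    (δ : M →ₗ[A] F) (p : Ideal A) [p.IsPrime] :
    [ Function.Exact (LinearMap.lTensor p.ResidueField (LinearMap.ker δ).subtype)
        (LinearMap.lTensor p.ResidueField δ),
      Function.Exact (LinearMap.lTensor p.ResidueField (LinearMap.ker δ).subtype)
        (LinearMap.lTensor p.ResidueField δ) ∧
        Function.Injective (LinearMap.lTensor p.ResidueField (LinearMap.ker δ).subtype),
      Module.Free (Localization.AtPrime p)
        (LocalizedModule p.primeCompl (F ⧸ LinearMap.range δ)) ].TFAE ∧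
    (Function.Exact (LinearMap.lTensor p.ResidueField (LinearMap.ker δ).subtype)
        (LinearMap.lTensor p.ResidueField δ) →
      Module.Free (Localization.AtPrime p)
        (LocalizedModule p.primeCompl (LinearMap.range δ))) := by
  classical
  let R := Localization.AtPrime p
  let k := p.ResidueField
  let f : LinearMap.ker δ →ₗ[A] M := (LinearMap.ker δ).subtype
  let δ' : M →ₗ[A] LinearMap.range δ := δ.rangeRestrict
  let ι : LinearMap.range δ →ₗ[A] F := (LinearMap.range δ).subtype
  let q : F →ₗ[A] F ⧸ LinearMap.range δ := (LinearMap.range δ).mkQ
  have hexf : Function.Exact f δ' := fun x => by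
    constructor
    · intro h
      exact ⟨⟨x, congrArg Subtype.val h⟩, rfl⟩
    · rintro ⟨y, rfl⟩
      exact Subtype.ext y.2
  have hδ' : Function.Surjective δ' := δ.surjective_rangeRestrict
  -- (a) is injectivity of `k ⊗ im δ → k ⊗ F`
  have haE : Function.Exact (f.lTensor k) (δ.lTensor k) ↔ Function.Injective (ι.lTensor k) := by
    have hc : δ.lTensor k = (ι.lTensor k).comp (δ'.lTensor k) := by
      rw [← LinearMap.lTensor_comp]; rfl
    have hex := lTensor_exact k hexf hδ'
    constructor
    · intro hE
      rw [← LinearMap.ker_eq_bot, LinearMap.ker_eq_bot']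
      intro z hz
      obtain ⟨y, rfl⟩ := LinearMap.lTensor_surjective k hδ' z
      obtain ⟨w, rfl⟩ := (hE y).1 (by rw [hc]; exact hz)
      exact (hex _).2 ⟨w, rfl⟩
    · intro hinj y
      constructor
      · intro hy
        refine (hex y).1 (hinj ?_)
        rw [map_zero]
        rw [hc] at hy
        exact hy
      · intro hy
        rw [hc, LinearMap.comp_apply, (hex y).2 hy, map_zero]
  haveI : Module.Finite A (LinearMap.range δ) := Module.Finite.range δ
  have hιR : Function.Injective (ι.baseChange R) :=
    Module.Flat.lTensor_preserves_injective_linearMap ι (Submodule.subtype_injective _)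
  have hq : Function.Surjective (q.baseChange R) :=
    LinearMap.lTensor_surjective R (Submodule.mkQ_surjective _)
  have hexq : Function.Exact (ι.baseChange R) (q.baseChange R) :=
    lTensor_exact R (LinearMap.exact_subtype_mkQ (LinearMap.range δ)) (Submodule.mkQ_surjective _)
  let eC : LocalizedModule p.primeCompl (F ⧸ LinearMap.range δ) ≃ₗ[R]
      R ⊗[A] (F ⧸ LinearMap.range δ) := LocalizedModule.equivTensorProduct p.primeCompl _
  -- (a) gives (c)
  have h_ac : Function.Injective (ι.lTensor k) →
      Module.Free R (R ⊗[A] (F ⧸ LinearMap.range δ)) := fun h =>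
    Module.free_of_lTensor_residueField_injective (ι.baseChange R) (q.baseChange R) hq hexq
      ((injective_lTensor_baseChange_iff R k ι).2 h)
  -- (c) gives a retraction of `ι`
  have h_split : Module.Free R (R ⊗[A] (F ⧸ LinearMap.range δ)) →
      ∃ l, l ∘ₗ ι.baseChange R = LinearMap.id := fun hfree => by
    obtain ⟨s, hs⟩ := Module.projective_lifting_property (q.baseChange R) LinearMap.id hq
    have htf := (hexq.split_tfae hιR hq).out 0 1
    exact htf.mp ⟨s, hs⟩
  have h_freeI : Module.Free R (R ⊗[A] (F ⧸ LinearMap.range δ)) →
      Module.Free R (R ⊗[A] LinearMap.range δ) := fun hfree => by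
    obtain ⟨l, hl⟩ := h_split hfree
    haveI : Module.Projective R (R ⊗[A] LinearMap.range δ) :=
      Module.Projective.of_split (ι.baseChange R) l hl
    exact Module.free_of_flat_of_isLocalRing
  have h_ca : Module.Free R (R ⊗[A] (F ⧸ LinearMap.range δ)) →
      Function.Injective (ι.lTensor k) ∧ Function.Injective (f.lTensor k) := fun hfree => by
    obtain ⟨l, hl⟩ := h_split hfree
    refine ⟨(injective_lTensor_baseChange_iff R k ι).1
      (injective_lTensor_of_leftInverse k _ l hl), ?_⟩
    haveI := h_freeI hfree
    have hsurj : Function.Surjective (δ'.baseChange R) := LinearMap.lTensor_surjective R hδ'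
    have hinj : Function.Injective (f.baseChange R) :=
      Module.Flat.lTensor_preserves_injective_linearMap f (Submodule.subtype_injective _)
    have hex : Function.Exact (f.baseChange R) (δ'.baseChange R) := lTensor_exact R hexf hδ'
    obtain ⟨s, hs⟩ := Module.projective_lifting_property (δ'.baseChange R) LinearMap.id hsurj
    have htf := (hex.split_tfae hinj hsurj).out 0 1
    obtain ⟨m, hm⟩ := htf.mp ⟨s, hs⟩
    exact (injective_lTensor_baseChange_iff R k f).1 (injective_lTensor_of_leftInverse k _ m hm)
  refine ⟨?_, fun hE => ?_⟩
  · tfae_have 2 → 1 := fun h => h.1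
    tfae_have 1 → 3 := fun h => by
      haveI := h_ac (haE.1 h)
      exact Module.Free.of_equiv eC.symm
    tfae_have 3 → 2 := fun h => by
      haveI := h
      obtain ⟨h1, h2⟩ := h_ca (Module.Free.of_equiv eC)
      exact ⟨haE.2 h1, h2⟩
    tfae_finish
  · haveI := h_freeI (h_ac (haE.1 hE))
    exact Module.Free.of_equiv (LocalizedModule.equivTensorProduct p.primeCompl _).symm

end Groth.Agent.S14608
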