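import Groth.Statements.S14610
import Groth.Agent.Calg6.RankImage

set_option autoImplicit false
universe u v
open CAlg

namespace Groth.Agent.S14610

open TensorProduct

section Core

variable {A : Type u} [CommRing A] [IsNoetherianRing A] {M F : Type u} [AddCommGroup M] [Module A M] [Module.Finite A M]
  [AddCommGroup F] [Module A F] [Module.Finite A F]

theorem range_mono [Module.Projective A F] (φ : M →ₗ[A] F) {q m : PrimeSpectrum A} (h : q.asIdeal ≤ m.asIdeal) :
    Module.finrank m.asIdeal.ResidueField (LinearMap.range (φ.baseChange m.asIdeal.ResidueField)) ≤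
      Module.finrank q.asIdeal.ResidueField (LinearMap.range (φ.baseChange q.asIdeal.ResidueField)) := by
  obtain ⟨x, f, hd⟩ := Groth.Calg6.exists_det_of_le_finrank φ m le_rfl
  exact Groth.Calg6.le_finrank_of_det φ q x f (fun h' => hd (h h'))

omit [IsNoetherianRing A] [Module.Finite A M] in
theorem coker_add_range (φ : M →ₗ[A] F) (y : PrimeSpectrum A) :
    Module.finrank y.asIdeal.ResidueField (y.asIdeal.ResidueField ⊗[A] (F ⧸ LinearMap.range φ)) +
      Module.finrank y.asIdeal.ResidueField (LinearMap.range (φ.baseChange y.asIdeal.ResidueField)) =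
      Module.finrank y.asIdeal.ResidueField (y.asIdeal.ResidueField ⊗[A] F) := by
  let κ := y.asIdeal.ResidueField
  let Q := (LinearMap.range φ).mkQ.baseChange κ
  have hsQ : Function.Surjective Q := LinearMap.lTensor_surjective κ (Submodule.mkQ_surjective _)
  have hker : LinearMap.ker Q = LinearMap.range (φ.baseChange κ) :=
    LinearMap.exact_iff.1 (show Function.Exact (φ.baseChange κ) Q from
      lTensor_exact κ (LinearMap.exact_map_mkQ_range φ) (Submodule.mkQ_surjective _))
  have := Q.finrank_range_add_finrank_ker
  rw [LinearMap.range_eq_top.2 hsQ, finrank_top, hker] at this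
  exact this

theorem core [IsReduced A] [Module.Free A F] (δ : M →ₗ[A] F)
    (h : IsLocallyConstant (fun x : PrimeSpectrum A =>
      Module.finrank x.asIdeal.ResidueField (LinearMap.ker (δ.baseChange x.asIdeal.ResidueField)))) :
    Module.Projective A M ∧ Module.Projective A (F ⧸ LinearMap.range δ) := by
  haveI := Module.finitePresentation_of_finite A M
  haveI := Module.finitePresentation_of_finite A (F ⧸ LinearMap.range δ)
  obtain ⟨a, s, hs⟩ := Module.Finite.exists_fin' A M
  obtain ⟨b, t, ht⟩ := Module.Finite.exists_fin' A (LinearMap.ker s)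
  let τ : (Fin b → A) →ₗ[A] (Fin a → A) := (LinearMap.ker s).subtype ∘ₗ t
  have hτ : LinearMap.range τ = LinearMap.ker s := by
    rw [LinearMap.range_comp, LinearMap.range_eq_top.2 ht, Submodule.map_top, Submodule.range_subtype]
  let e : ((Fin a → A) ⧸ LinearMap.range τ) ≃ₗ[A] M :=
    (Submodule.quotEquivOfEq _ _ hτ).trans (s.quotKerEquivOfSurjective hs)
  have hμ : ∀ y : PrimeSpectrum A,
      Module.finrank y.asIdeal.ResidueField (y.asIdeal.ResidueField ⊗[A] M) +
        Module.finrank y.asIdeal.ResidueField (LinearMap.range (τ.baseChange y.asIdeal.ResidueField)) = a := by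
    intro y
    haveI : Nontrivial A := y.nontrivial
    rw [← (LinearEquiv.baseChange A y.asIdeal.ResidueField _ _ e).finrank_eq, coker_add_range,
      Module.finrank_baseChange, Module.finrank_fin_fun]
  have hsum : ∀ y : PrimeSpectrum A,
      Module.finrank y.asIdeal.ResidueField (LinearMap.range (δ.baseChange y.asIdeal.ResidueField)) +
        Module.finrank y.asIdeal.ResidueField (LinearMap.ker (δ.baseChange y.asIdeal.ResidueField)) =
        Module.finrank y.asIdeal.ResidueField (y.asIdeal.ResidueField ⊗[A] M) := fun y =>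
    LinearMap.finrank_range_add_finrank_ker _
  have key : ∀ q m : PrimeSpectrum A, q.asIdeal ≤ m.asIdeal →
      Module.finrank q.asIdeal.ResidueField (LinearMap.range (δ.baseChange q.asIdeal.ResidueField)) =
        Module.finrank m.asIdeal.ResidueField (LinearMap.range (δ.baseChange m.asIdeal.ResidueField)) ∧
      Module.finrank q.asIdeal.ResidueField (q.asIdeal.ResidueField ⊗[A] M) =
        Module.finrank m.asIdeal.ResidueField (m.asIdeal.ResidueField ⊗[A] M) := by
    intro q m hqm
    have h1 := range_mono δ hqm
    have h2 := range_mono τ hqm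
    have h3 : Module.finrank q.asIdeal.ResidueField (LinearMap.ker (δ.baseChange q.asIdeal.ResidueField)) =
        Module.finrank m.asIdeal.ResidueField (LinearMap.ker (δ.baseChange m.asIdeal.ResidueField)) :=
      ((PrimeSpectrum.le_iff_specializes q m).1 hqm).mem_open (h.isOpen_fiber _) rfl
    have h4 := hμ q; have h5 := hμ m; have h6 := hsum q; have h7 := hsum m
    omega
  refine ⟨Groth.Calg6.projective_of_finrank_eq fun m _ q _ hqm =>
      (key ⟨q, inferInstance⟩ ⟨m, inferInstance⟩ hqm).2,
    Groth.Calg6.projective_of_finrank_eq fun m _ q _ hqm => ?_⟩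
  haveI : Nontrivial A := (⟨q, inferInstance⟩ : PrimeSpectrum A).nontrivial
  have h1 := coker_add_range δ ⟨q, inferInstance⟩
  have h2 := coker_add_range δ ⟨m, inferInstance⟩
  have h3 := (key ⟨q, inferInstance⟩ ⟨m, inferInstance⟩ hqm).1
  have hF : ∀ y : PrimeSpectrum A, Module.finrank y.asIdeal.ResidueField (y.asIdeal.ResidueField ⊗[A] F) =
      Module.finrank A F := fun y => Module.finrank_baseChange
  rw [hF] at h1 h2
  simp only at h1 h2 h3
  omega

end Core

theorem projective_both {A : Type u} [CommRing A] [IsNoetherianRing A] [IsReduced A] {M F : Type v} [AddCommGroup M]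
    [Module A M] [Module.Finite A M] [AddCommGroup F] [Module A F] [Module.Finite A F] [Module.Free A F] (δ : M →ₗ[A] F)
    (h : IsLocallyConstant (fun x : PrimeSpectrum A =>
      Module.finrank x.asIdeal.ResidueField (LinearMap.ker (δ.baseChange x.asIdeal.ResidueField)))) :
    Module.Projective A M ∧ Module.Projective A (F ⧸ LinearMap.range δ) := by
  obtain ⟨a, s, hs⟩ := Module.Finite.exists_fin' A M
  obtain ⟨c, r, hr⟩ := Module.Finite.exists_fin' A F
  let eM := s.quotKerEquivOfSurjective hs
  let eF := r.quotKerEquivOfSurjective hr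
  haveI : Module.Free A ((Fin c → A) ⧸ LinearMap.ker r) := Module.Free.of_equiv eF.symm
  let δ' := eF.symm.toLinearMap ∘ₗ δ ∘ₗ eM.toLinearMap
  have hc := core δ' (by
    convert h using 2 with x
    let κ := x.asIdeal.ResidueField
    have e : δ'.baseChange κ = (LinearEquiv.baseChange A κ _ _ eF.symm).toLinearMap ∘ₗ δ.baseChange κ ∘ₗ
        (LinearEquiv.baseChange A κ _ _ eM).toLinearMap := by
      rw [show δ' = eF.symm.toLinearMap ∘ₗ δ ∘ₗ eM.toLinearMap from rfl, LinearMap.baseChange_comp,
        LinearMap.baseChange_comp]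
      rfl
    rw [e, LinearMap.ker_comp_of_ker_eq_bot _ (LinearEquiv.ker _), LinearMap.ker_comp]
    exact ((LinearEquiv.baseChange A κ _ _ eM).ofSubmodule' _).finrank_eq)
  refine ⟨haveI := hc.1; Module.Projective.of_equiv eM, ?_⟩
  haveI := hc.2
  refine Module.Projective.of_equiv (Submodule.Quotient.equiv (LinearMap.range δ') (LinearMap.range δ) eF ?_)
  show (LinearMap.range δ').map eF.toLinearMap = _
  rw [← LinearMap.range_comp]
  have : eF.toLinearMap ∘ₗ δ' = δ ∘ₗ eM.toLinearMap := LinearMap.ext fun x => eF.apply_symm_apply _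
  rw [this, LinearMap.range_comp, LinearEquiv.range, Submodule.map_top]

open TensorProduct in
/-- Let A be a reduced Noetherian ring, M a finitely generated A-module, F a finitely generated free
A-module and δ : M → F an A-linear map such that the function p ↦ dim_{κ(p)} ker(δ ⊗ κ(p)) is
locally constant on Spec A. Then M, ker δ and coker δ = F / im δ are projective A-modules, and for
every A-module N the natural map (ker δ) ⊗ N → M ⊗ N is injective with image equal to the kernel of
δ ⊗ N. -/
theorem result (A : Type u) [CommRing A]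
    [IsNoetherianRing A] [IsReduced A] (M : Type v) (F : Type v) [AddCommGroup M] [Module A M]
    [Module.Finite A M] [AddCommGroup F] [Module A F] [Module.Finite A F] [Module.Free A F]
    (δ : M →ₗ[A] F)
    (h : IsLocallyConstant (fun x : PrimeSpectrum A =>
      Module.finrank x.asIdeal.ResidueField
        (LinearMap.ker (δ.baseChange x.asIdeal.ResidueField)))) :
    Module.Projective A M ∧ Module.Projective A (LinearMap.ker δ) ∧
      Module.Projective A (F ⧸ LinearMap.range δ) ∧
      ∀ (N : Type v) [AddCommGroup N] [Module A N],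
        Function.Injective (LinearMap.rTensor N (LinearMap.ker δ).subtype) ∧
        Function.Exact (LinearMap.rTensor N (LinearMap.ker δ).subtype) (LinearMap.rTensor N δ) := by
  obtain ⟨hM, hC⟩ := projective_both δ h
  obtain ⟨σ, hσ⟩ := Module.projective_lifting_property (LinearMap.range δ).mkQ LinearMap.id (Submodule.mkQ_surjective _)
  let ρ : F →ₗ[A] LinearMap.range δ := (LinearMap.id - σ ∘ₗ (LinearMap.range δ).mkQ).codRestrict _ fun x => by
    rw [← Submodule.Quotient.mk_eq_zero]
    have := LinearMap.congr_fun hσ (Submodule.Quotient.mk x)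
    simp only [LinearMap.comp_apply, Submodule.mkQ_apply, LinearMap.id_apply] at this
    simp [this]
  have hρ : ρ ∘ₗ (LinearMap.range δ).subtype = LinearMap.id := by
    refine LinearMap.ext fun x => Subtype.ext ?_
    simp [ρ, (Submodule.Quotient.mk_eq_zero _).2 x.2]
  haveI : Module.Projective A (LinearMap.range δ) := Module.Projective.of_split _ _ hρ
  obtain ⟨g, hg⟩ := Module.projective_lifting_property δ.rangeRestrict LinearMap.id δ.surjective_rangeRestrict
  let hh : F →ₗ[A] M := g ∘ₗ ρ
  have hhh : ∀ x, δ (hh (δ x)) = δ x := fun x => by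
    have h1 : ρ (δ x) = ⟨δ x, x, rfl⟩ := LinearMap.congr_fun hρ ⟨δ x, x, rfl⟩
    show δ (g (ρ (δ x))) = δ x
    rw [h1]
    exact congrArg Subtype.val (LinearMap.congr_fun hg ⟨δ x, x, rfl⟩)
  let π : M →ₗ[A] LinearMap.ker δ := (LinearMap.id - hh ∘ₗ δ).codRestrict _ fun x => by simp [hhh]
  have hπ : π ∘ₗ (LinearMap.ker δ).subtype = LinearMap.id :=
    LinearMap.ext fun x => Subtype.ext (by simp [π, LinearMap.mem_ker.1 x.2])
  have hdec : LinearMap.id = (LinearMap.ker δ).subtype ∘ₗ π + hh ∘ₗ δ :=
    LinearMap.ext fun x => by simp [π]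
  refine ⟨hM, Module.Projective.of_split _ _ hπ, hC, fun N _ _ => ⟨?_, ?_⟩⟩
  · refine Function.LeftInverse.injective (g := LinearMap.rTensor N π) fun z => ?_
    rw [← LinearMap.comp_apply, ← LinearMap.rTensor_comp, hπ, LinearMap.rTensor_id, LinearMap.id_apply]
  · intro z
    refine ⟨fun hz => ⟨LinearMap.rTensor N π z, ?_⟩, ?_⟩
    · have := congrArg (fun f => LinearMap.rTensor N f z) hdec
      simp only [LinearMap.rTensor_add, LinearMap.rTensor_comp, LinearMap.rTensor_id, LinearMap.add_apply,
        LinearMap.comp_apply, LinearMap.id_apply, hz, map_zero, add_zero] at this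
      exact this.symm
    · rintro ⟨w, rfl⟩
      rw [← LinearMap.comp_apply, ← LinearMap.rTensor_comp, LinearMap.comp_ker_subtype, LinearMap.rTensor_zero,
        LinearMap.zero_apply]

end Groth.Agent.S14610
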