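import Groth.Statements.S14611
import Groth.Agent.FlatCxBase.MaxLocal


set_option autoImplicit false
universe u
open FlatCx

namespace Groth.Agent.S14611

open CategoryTheory CategoryTheory.Limits in
/-- Let A be a Noetherian ring, Q a cochain complex whose terms are finitely generated projective
A-modules, and d an integer such that H^p(Q) = 0 for every p < d and H^p(Q ⊗_A A/m) = 0 for every p
< d and every maximal ideal m of A. Then Q^d / im(Q^{d-1} → Q^d), the degree-d term of the
truncation τ_{≥ d} Q, is a projective A-module, so that τ_{≥ d} Q is again a complex of projective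
modules. (The published statement also asserts that Q → τ_{≥ d} Q is a quasi-isomorphism when H^p(Q)
= 0 for p < d; this row omits that clause.) -/
theorem result (A : Type u) [CommRing A] [IsNoetherianRing A]
    (Q : CochainComplex (ModuleCat.{u} A) ℤ)
    (hQ : ∀ i, Module.Finite A (Q.X i) ∧ Module.Projective A (Q.X i)) (d : ℤ)
    (h1 : ∀ p < d, IsZero (Q.homology p))
    (h2 : ∀ (m : Ideal A) [m.IsMaximal], ∀ p < d,
      IsZero ((CohIII.tensorObj Q (ModuleCat.of A (A ⧸ m))).homology p)) :
    Module.Projective A (Q.opcycles d) := by
  have := fun i => (hQ i).1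
  have := fun i => (hQ i).2
  open Groth.FlatCxBase in
  have hflat : Module.Flat A (Q.opcycles d) := by
    let e : d - 1 - 1 + 1 = d - 1 := by ring
    let f := dBar Q (d - 1 - 1) (d - 1) d
    have hr : LinearMap.range f = LinearMap.range (Q.d (d - 1) d).hom := by
      rw [← dBar_comp Q (d - 1 - 1) (d - 1) d, LinearMap.range_comp_of_range_eq_top _ (Submodule.range_mkQ _)]
    have := flat_coker_of_residue f fun m hm => by
      rw [LinearMap.lTensor_inj_iff_rTensor_inj, injective_iff_map_eq_zero]
      intro q hq
      obtain ⟨x, rfl⟩ := LinearMap.rTensor_surjective (A ⧸ m)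
        (Submodule.mkQ_surjective (LinearMap.range (Q.d (d - 1 - 1) (d - 1)).hom)) q
      rw [← LinearMap.rTensor_comp_apply, dBar_comp] at hq
      exact (rTensor_cokerπ_eq_zero_iff Q _ _ _ x).2
        ((isZero_T_iff Q (cochain_prev (d - 1)) ((cochain_next (d - 1)).trans (by ring)) _).1
          (h2 m (d - 1) (by omega)) x hq)
    exact Module.Flat.of_linearEquiv ((Submodule.quotEquivOfEq _ _ hr).trans
      (opcyclesEquivQuot Q (cochain_prev d))).symm
  have : Module.Finite A (Q.opcycles d) :=
    Module.Finite.equiv (Groth.FlatCxBase.opcyclesEquivQuot Q (Groth.FlatCxBase.cochain_prev d))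
  have := Module.finitePresentation_of_finite A (Q.opcycles d)
  exact Module.Flat.projective_of_finitePresentation

end Groth.Agent.S14611
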