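import Groth.Statements.S14614
import Mathlib.AlgebraicGeometry.Morphisms.FlatMono
import Mathlib.RingTheory.Filtration
import Mathlib.RingTheory.HopkinsLevitzki

set_option autoImplicit false
set_option linter.style.haveILetI false
universe u
open Mor

namespace Groth.Agent.S14614

open CategoryTheory AlgebraicGeometry in
/-- Let S be a locally Noetherian scheme and i : Z → S a closed immersion with the following property:
for every Artinian local ring A with residue field k and every morphism g : Spec A → S, if the
restriction Spec k → Spec A → S of g factors through i then so does g. Then i is also an open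
immersion, i.e. the closed subscheme Z is open in S as a subscheme. (The published hypothesis is an
equivalence; its other direction always holds, so this row assumes only the implication.) -/
theorem result (S : Scheme.{u}) [IsLocallyNoetherian S]
    {Z : Scheme.{u}} (i : Z ⟶ S) [IsClosedImmersion i]
    (h : ∀ (A : Type u) [CommRing A] [IsArtinianRing A] [IsLocalRing A] (g : Spec (CommRingCat.of A) ⟶ S),
      (∃ t : Spec (CommRingCat.of (IsLocalRing.ResidueField A)) ⟶ Z,
          t ≫ i = Spec.map (CommRingCat.ofHom (IsLocalRing.residue A)) ≫ g) →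
        ∃ g' : Spec (CommRingCat.of A) ⟶ Z, g' ≫ i = g) :
    IsOpenImmersion i := by
  have key : ∀ z : Z, Function.Injective (i.stalkMap z) := by
    intro z
    let A := S.presheaf.stalk (i z)
    haveI : IsNoetherianRing A := inferInstance
    change Function.Injective (i.stalkMap z).hom
    rw [RingHom.injective_iff_ker_eq_bot, eq_bot_iff,
      ← Ideal.iInf_pow_eq_bot_of_isLocalRing (IsLocalRing.maximalIdeal A) (IsLocalRing.maximalIdeal.isMaximal A).ne_top]
    refine le_iInf fun n => ?_
    rcases Nat.eq_zero_or_pos n with rfl | hn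
    · rw [pow_zero, Ideal.one_eq_top]; exact le_top
    let I : Ideal A := IsLocalRing.maximalIdeal A ^ n
    have hI : I ≠ ⊤ := fun e => (IsLocalRing.maximalIdeal.isMaximal A).ne_top
      (top_le_iff.1 (e ▸ Ideal.pow_le_self hn.ne'))
    haveI : Nontrivial (A ⧸ I) := Ideal.Quotient.nontrivial_iff.2 hI
    haveI : IsLocalRing (A ⧸ I) := .of_surjective' (Ideal.Quotient.mk I) Ideal.Quotient.mk_surjective
    haveI : IsArtinianRing (A ⧸ I) := by
      rw [isArtinianRing_iff_isNilpotent_maximalIdeal]
      refine ⟨n, ?_⟩
      rw [← IsLocalRing.map_maximalIdeal_of_surjective _ (Ideal.Quotient.mk_surjective (I := I)),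
        ← Ideal.map_pow, Submodule.zero_eq_bot]
      exact Ideal.map_quotient_self I
    let g : Spec (CommRingCat.of (A ⧸ I)) ⟶ S :=
      Spec.map (CommRingCat.ofHom (Ideal.Quotient.mk I)) ≫ S.fromSpecStalk (i z)
    let π : A →+* IsLocalRing.ResidueField (A ⧸ I) :=
      (IsLocalRing.residue (A ⧸ I)).comp (Ideal.Quotient.mk I)
    have hπ : RingHom.ker (i.stalkMap z).hom ≤ RingHom.ker π := fun a ha => by
      have h1 : a ∈ IsLocalRing.maximalIdeal A := IsLocalRing.le_maximalIdeal
        (RingHom.ker_ne_top _) ha
      show IsLocalRing.residue (A ⧸ I) (Ideal.Quotient.mk I a) = 0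
      rw [IsLocalRing.residue_eq_zero_iff,
        ← IsLocalRing.map_maximalIdeal_of_surjective _ (Ideal.Quotient.mk_surjective (I := I))]
      exact Ideal.mem_map_of_mem _ h1
    let ψ := RingHom.liftOfSurjective (i.stalkMap z).hom (i.stalkMap_surjective z) ⟨π, hπ⟩
    obtain ⟨g', hg'⟩ := h (A ⧸ I) g ⟨Spec.map (CommRingCat.ofHom ψ) ≫ Z.fromSpecStalk z, by
      rw [Category.assoc, ← Scheme.SpecMap_stalkMap_fromSpecStalk, ← Spec.map_comp_assoc]
      show _ = _ ≫ Spec.map _ ≫ S.fromSpecStalk (i z)
      rw [← Spec.map_comp_assoc]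
      congr 2
      ext a
      exact RingHom.congr_fun ((i.stalkMap z).hom.liftOfRightInverse_comp _ _ ⟨π, hπ⟩) a⟩
    have hz : g' (IsLocalRing.closedPoint _) = z := by
      apply i.isClosedEmbedding.injective
      rw [← Scheme.Hom.comp_apply, hg']
      show (Spec.map (CommRingCat.ofHom (Ideal.Quotient.mk I)) ≫ S.fromSpecStalk (i z))
        (IsLocalRing.closedPoint (A ⧸ I)) = i z
      rw [Scheme.Hom.comp_apply]
      haveI : IsLocalHom (Ideal.Quotient.mk I) := IsLocalHom.of_surjective _ Ideal.Quotient.mk_surjective
      rw [show (Spec.map (CommRingCat.ofHom (Ideal.Quotient.mk I))) (IsLocalRing.closedPoint (A ⧸ I)) =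
        IsLocalRing.closedPoint A from IsLocalRing.comap_closedPoint (Ideal.Quotient.mk I)]
      exact Scheme.fromSpecStalk_closedPoint
    let χ := Z.presheaf.stalkSpecializes (specializes_of_eq hz) ≫ Scheme.stalkClosedPointTo g'
    have h2 : Spec.map (i.stalkMap z ≫ χ) ≫ S.fromSpecStalk (i z) =
        Spec.map (CommRingCat.ofHom (Ideal.Quotient.mk I)) ≫ S.fromSpecStalk (i z) := by
      rw [Spec.map_comp, Category.assoc, Scheme.SpecMap_stalkMap_fromSpecStalk, Spec.map_comp,
        Category.assoc, Scheme.SpecMap_stalkSpecializes_fromSpecStalk_assoc,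
        ← Category.assoc, Scheme.Spec_stalkClosedPointTo_fromSpecStalk, hg']
    rw [cancel_mono] at h2
    intro a ha
    refine Ideal.Quotient.eq_zero_iff_mem.1 ?_
    have h3 := RingHom.congr_fun (congrArg CommRingCat.Hom.hom (Spec.map_injective h2)) a
    refine h3.symm.trans ?_
    show χ (i.stalkMap z a) = 0
    rw [show i.stalkMap z a = 0 from ha, map_zero]
  haveI : Flat i := (Flat.iff_flat_stalkMap i).2 fun z =>
    RingHom.Flat.of_bijective ⟨key z, i.stalkMap_surjective z⟩
  exact IsOpenImmersion.of_flat_of_mono i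

end Groth.Agent.S14614
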