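import Groth.Statements.S14615
import Mathlib
import Groth.Agent.CohC3.Tower

set_option autoImplicit false
universe u
open Formal2

namespace Groth.Agent.S14615

/-- Let … → G_2 → G_1 → G_0 be an inverse system of abelian groups with transition maps t_n : G_{n+1} →
G_n, and suppose that for every i there is j ≥ i such that the composite transition map G_j → G_i is
zero; this is expressed by asking that every sequence (x_n) ∈ ∏ G_n satisfying x_n = t_n(x_{n+1})
for i ≤ n < j has x_i = 0. Then both lim G_n and lim¹ G_n vanish: the map (x_n) ↦ (x_n −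
t_n(x_{n+1})) on ∏ G_n, whose kernel is lim and whose cokernel is lim¹, is injective and surjective. -/
theorem result (G : ℕ → Type u)
    [∀ n, AddCommGroup (G n)] (t : ∀ n, G (n + 1) →+ G n)
    (h : ∀ i : ℕ, ∃ j : ℕ, i ≤ j ∧
      ∀ x : ∀ n, G n, (∀ n, i ≤ n → n < j → x n = t n (x (n + 1))) → x i = 0) :
    Formal2.limZero G t = ⊥ ∧ Function.Surjective (Formal2.towerDiff G t) := by
  open Groth.CohC3 in
  choose j hij hj using h
  have hc : ∀ i (z : G (j i)), Tower.c G t i (j i) (hij i) z = 0 := by
    intro i z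
    obtain ⟨x, hx, he⟩ := Tower.exists_compatible G t i (j i) (hij i) z
    rw [← he]; exact hj i x hx
  refine ⟨?_, ?_⟩
  · refine (AddSubgroup.eq_bot_iff_forall _).2 fun x hx => funext fun i => ?_
    refine hj i x fun n _ _ => ?_
    exact sub_eq_zero.1 (congrFun (AddMonoidHom.mem_ker.1 hx) n)
  · refine Groth.CohC3.Tower.towerDiff_surjective_of_subgroups G t (fun _ => ⊥) ?_ ?_ ?_
    · intro n s hs; exact ⟨0, zero_mem _, by rw [map_zero]; exact (AddSubgroup.mem_bot.1 hs).symm⟩
    · intro n s hs; rw [AddSubgroup.mem_bot] at hs ⊢; rw [hs, map_zero]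
    · intro i; exact ⟨j i, hij i, fun z => AddSubgroup.mem_bot.2 (hc i z)⟩

end Groth.Agent.S14615
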