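import Groth.Statements.S14616
import Mathlib
import Groth.Agent.CohC3.Tower

set_option autoImplicit false
universe u
open Formal2

namespace Groth.Agent.S14616

open CategoryTheory in
/-- Let … → G_2 → G_1 → G_0 be an inverse system of abelian groups with transition maps t_n : G_{n+1} →
G_n which satisfies the Mittag-Leffler condition: for every i there is j ≥ i such that for all k ≥ j
the images of G_k → G_i and G_j → G_i coincide. Then lim¹ G_n = 0, i.e. the map (x_n) ↦ (x_n −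
t_n(x_{n+1})) on ∏ G_n is surjective. -/
theorem result (G : ℕ → Type u) [∀ n, AddCommGroup (G n)]
    (t : ∀ n, G (n + 1) →+ G n)
    (h : (Functor.ofOpSequence (X := fun n => AddCommGrpCat.of (G n))
      (fun n => AddCommGrpCat.ofHom (t n)) ⋙ forget AddCommGrpCat).IsMittagLeffler) :
    Function.Surjective (Formal2.towerDiff G t) := by
  have hml : ∀ i, ∃ j, ∃ hij : i ≤ j, ∀ k (hk : i ≤ k) (z : G j),
      ∃ w : G k, Groth.CohC3.Tower.c G t i k hk w = Groth.CohC3.Tower.c G t i j hij z := by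
    intro i
    obtain ⟨J, f, hf⟩ := h (Opposite.op i)
    refine ⟨J.unop, leOfHom f.unop, fun k hk z => ?_⟩
    obtain ⟨w, hw⟩ := hf (k := Opposite.op k) (CategoryTheory.homOfLE hk).op ⟨z, rfl⟩
    exact ⟨w, hw⟩
  let S : ∀ n, AddSubgroup (G n) := fun n => ⨅ k : {k // n ≤ k}, (Groth.CohC3.Tower.c G t n k.1 k.2).range
  refine Groth.CohC3.Tower.towerDiff_surjective_of_subgroups G t S ?_ ?_ ?_
  · intro n s hs
    obtain ⟨j, hj, hjs⟩ := hml (n + 1)
    obtain ⟨z, rfl⟩ := AddSubgroup.mem_iInf.1 hs ⟨j, (Nat.le_succ n).trans hj⟩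
    refine ⟨Groth.CohC3.Tower.c G t (n + 1) j hj z, AddSubgroup.mem_iInf.2 fun k => ?_,
      Groth.CohC3.Tower.t_c G t n j hj z⟩
    exact hjs k.1 k.2 z
  · intro n s hs
    refine AddSubgroup.mem_iInf.2 fun k => ?_
    by_cases hk : n + 1 ≤ k.1
    · obtain ⟨z, rfl⟩ := AddSubgroup.mem_iInf.1 hs ⟨k.1, hk⟩
      exact ⟨z, (Groth.CohC3.Tower.t_c G t n k.1 hk z).symm⟩
    · obtain ⟨k, hk'⟩ := k
      obtain rfl : k = n := by simp only at hk; omega
      exact ⟨t k s, Groth.CohC3.Tower.c_self G t k _⟩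
  · intro i
    obtain ⟨j, hj, hjs⟩ := hml i
    exact ⟨j, hj, fun z => AddSubgroup.mem_iInf.2 fun k => hjs k.1 k.2 z⟩

end Groth.Agent.S14616
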