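import Groth.Statements.S14617
import Mathlib

set_option autoImplicit false
universe u
open Formal2

namespace Groth.Agent.S14617

/-- Let 0 → (G'_n) → (G_n) → (G''_n) → 0 be a short exact sequence of inverse systems of abelian groups
indexed by ℕ: maps u_n : G'_n → G_n and v_n : G_n → G''_n commuting with the transition maps, with
u_n injective, v_n surjective and ker v_n = im u_n for every n. Writing lim and lim¹ for the kernel
and cokernel of (x_n) ↦ (x_n − t_n(x_{n+1})) on the product, there is an exact sequence 0 → lim G' →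
lim G → lim G'' → lim¹ G' → lim¹ G → lim¹ G'' → 0 in which the four outer maps are the ones induced
by u and v on products and the connecting map δ sends a compatible sequence (z_n) to the class of
the unique (w_n) with u_n(w_n) = y_n − t_n(y_{n+1}), for any levelwise lift (y_n) of (z_n). -/
theorem result (G' G G'' : ℕ → Type u)
    [∀ n, AddCommGroup (G' n)] [∀ n, AddCommGroup (G n)] [∀ n, AddCommGroup (G'' n)]
    (t' : ∀ n, G' (n + 1) →+ G' n) (t : ∀ n, G (n + 1) →+ G n) (t'' : ∀ n, G'' (n + 1) →+ G'' n)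
    (u : ∀ n, G' n →+ G n) (v : ∀ n, G n →+ G'' n)
    (hu : ∀ n x, t n (u (n + 1) x) = u n (t' n x)) (hv : ∀ n x, t'' n (v (n + 1) x) = v n (t n x))
    (hinj : ∀ n, Function.Injective (u n)) (hsurj : ∀ n, Function.Surjective (v n))
    (hex : ∀ n, (v n).ker = (u n).range) :
    ∃ (α : Formal2.limZero G' t' →+ Formal2.limZero G t) (β : Formal2.limZero G t →+ Formal2.limZero G'' t'')
      (δ : Formal2.limZero G'' t'' →+ Formal2.limOne G' t')
      (ε : Formal2.limOne G' t' →+ Formal2.limOne G t) (ζ : Formal2.limOne G t →+ Formal2.limOne G'' t''),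
      (∀ (x : Formal2.limZero G' t') (n : ℕ), (α x : ∀ n, G n) n = u n ((x : ∀ n, G' n) n)) ∧
      (∀ (x : Formal2.limZero G t) (n : ℕ), (β x : ∀ n, G'' n) n = v n ((x : ∀ n, G n) n)) ∧
      (∀ (z : Formal2.limZero G'' t'') (y : ∀ n, G n) (w : ∀ n, G' n),
          (∀ n, v n (y n) = (z : ∀ n, G'' n) n) → (∀ n, u n (w n) = Formal2.towerDiff G t y n) →
            δ z = (QuotientAddGroup.mk w : Formal2.limOne G' t')) ∧
      (∀ y : ∀ n, G' n, ε (QuotientAddGroup.mk y : Formal2.limOne G' t') =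
          (QuotientAddGroup.mk (fun n => u n (y n)) : Formal2.limOne G t)) ∧
      (∀ y : ∀ n, G n, ζ (QuotientAddGroup.mk y : Formal2.limOne G t) =
          (QuotientAddGroup.mk (fun n => v n (y n)) : Formal2.limOne G'' t'')) ∧
      Function.Injective α ∧ α.range = β.ker ∧ β.range = δ.ker ∧ δ.range = ε.ker ∧ ε.range = ζ.ker ∧
      Function.Surjective ζ := by
  classical
  let F := fun (G : ℕ → Type u) [∀ n, AddCommGroup (G n)] (t : ∀ n, G (n + 1) →+ G n) => Formal2.towerDiff G t
  let U : (∀ n, G' n) →+ (∀ n, G n) := AddMonoidHom.mk' (fun x n => u n (x n)) (by intro x y; ext n; simp)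
  let V : (∀ n, G n) →+ (∀ n, G'' n) := AddMonoidHom.mk' (fun x n => v n (x n)) (by intro x y; ext n; simp)
  have hU : ∀ x, F G t (U x) = U (F G' t' x) := fun x => funext fun n => by
    change u n (x n) - t n (u (n + 1) (x (n + 1))) = u n (x n - t' n (x (n + 1)))
    rw [hu, map_sub]
  have hV : ∀ x, F G'' t'' (V x) = V (F G t x) := fun x => funext fun n => by
    change v n (x n) - t'' n (v (n + 1) (x (n + 1))) = v n (x n - t n (x (n + 1)))
    rw [hv, map_sub]
  have hUi : Function.Injective U := fun x y e => funext fun n => hinj n (congrFun e n)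
  have hVU : ∀ x, V (U x) = 0 := fun x => funext fun n =>
    AddMonoidHom.mem_ker.1 (by rw [hex n]; exact ⟨x n, rfl⟩)
  have hUV : ∀ y, V y = 0 → ∃ w, U w = y := fun y e => by
    choose w hw using fun n => show y n ∈ (u n).range by
      rw [← hex n]; exact AddMonoidHom.mem_ker.2 (congrFun e n)
    exact ⟨w, funext hw⟩
  have hVs : Function.Surjective V := fun z => by
    choose y hy using fun n => hsurj n (z n)
    exact ⟨y, funext hy⟩
  let α : Formal2.limZero G' t' →+ Formal2.limZero G t :=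
    (U.comp (Formal2.limZero G' t').subtype).codRestrict _ fun x => AddMonoidHom.mem_ker.2
      ((hU x.1).trans (by rw [show F G' t' x.1 = 0 from AddMonoidHom.mem_ker.1 x.2, map_zero]))
  let β : Formal2.limZero G t →+ Formal2.limZero G'' t'' :=
    (V.comp (Formal2.limZero G t).subtype).codRestrict _ fun x => AddMonoidHom.mem_ker.2
      ((hV x.1).trans (by rw [show F G t x.1 = 0 from AddMonoidHom.mem_ker.1 x.2, map_zero]))
  let ε : Formal2.limOne G' t' →+ Formal2.limOne G t :=
    QuotientAddGroup.map _ _ U (by rintro _ ⟨x, rfl⟩; exact ⟨U x, hU x⟩)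
  let ζ : Formal2.limOne G t →+ Formal2.limOne G'' t'' :=
    QuotientAddGroup.map _ _ V (by rintro _ ⟨x, rfl⟩; exact ⟨V x, hV x⟩)
  have key : ∀ z : Formal2.limZero G'' t'', ∃ y w, V y = z.1 ∧ U w = F G t y := fun z => by
    obtain ⟨y, hy⟩ := hVs z.1
    obtain ⟨w, hw⟩ := hUV (F G t y) (by rw [← hV, hy]; exact AddMonoidHom.mem_ker.1 z.2)
    exact ⟨y, w, hy, hw⟩
  choose Y W hY hW using key
  have hδ : ∀ z y w, V y = (z : Formal2.limZero G'' t'').1 → U w = F G t y →
      (QuotientAddGroup.mk (W z) : Formal2.limOne G' t') = QuotientAddGroup.mk w := by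
    intro z y w hy hw
    obtain ⟨a, ha⟩ := hUV (y - Y z) (by rw [map_sub, hy, hY, sub_self])
    refine QuotientAddGroup.eq.2 ⟨a, hUi ?_⟩
    rw [map_add, map_neg, ← hU, ha, map_sub, hW, hw]
    abel
  let δ : Formal2.limZero G'' t'' →+ Formal2.limOne G' t' :=
    AddMonoidHom.mk' (fun z => QuotientAddGroup.mk (W z)) fun z z' => by
      rw [← QuotientAddGroup.mk_add]
      exact hδ _ (Y z + Y z') _ (by rw [map_add, hY, hY]; rfl) (by rw [map_add, map_add, hW, hW])
  refine ⟨α, β, δ, ε, ζ, fun _ _ => rfl, fun _ _ => rfl,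
    fun z y w hy hw => hδ z y w (funext hy) (funext hw), fun _ => rfl, fun _ => rfl,
    ?_, ?_, ?_, ?_, ?_, ?_⟩
  · intro x y e; exact Subtype.ext (hUi (congrArg Subtype.val e))
  · ext x
    constructor
    · rintro ⟨a, rfl⟩; exact AddMonoidHom.mem_ker.2 (Subtype.ext (hVU a.1))
    · intro hx
      obtain ⟨a, ha⟩ := hUV x.1 (congrArg Subtype.val (AddMonoidHom.mem_ker.1 hx))
      refine ⟨⟨a, AddMonoidHom.mem_ker.2 (hUi ?_)⟩, Subtype.ext ha⟩
      exact (hU a).symm.trans ((congrArg (F G t) ha).trans ((AddMonoidHom.mem_ker.1 x.2).trans U.map_zero.symm))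
  · ext z
    constructor
    · rintro ⟨x, rfl⟩
      exact AddMonoidHom.mem_ker.2 ((hδ (β x) x.1 0 rfl
        (U.map_zero.trans (AddMonoidHom.mem_ker.1 x.2).symm)).trans rfl)
    · intro hz
      obtain ⟨a, ha⟩ := (QuotientAddGroup.eq_zero_iff _).1 (AddMonoidHom.mem_ker.1 hz)
      refine ⟨⟨Y z - U a, AddMonoidHom.mem_ker.2 ?_⟩, Subtype.ext ?_⟩
      · show F G t (Y z - U a) = 0
        rw [map_sub, hU, ← hW z, ← ha, sub_self]
      · show V (Y z - U a) = z.1
        rw [map_sub, hVU, sub_zero, hY]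
  · ext q
    obtain ⟨w, rfl⟩ := QuotientAddGroup.mk_surjective q
    constructor
    · rintro ⟨z, hz⟩
      refine AddMonoidHom.mem_ker.2 ?_
      rw [← hz]
      exact (QuotientAddGroup.eq_zero_iff _).2 ⟨Y z, (hW z).symm⟩
    · intro hq
      obtain ⟨y, hy⟩ := (QuotientAddGroup.eq_zero_iff _).1 (AddMonoidHom.mem_ker.1 hq)
      refine ⟨⟨V y, AddMonoidHom.mem_ker.2 ?_⟩, hδ _ y w rfl hy.symm⟩
      show F G'' t'' (V y) = 0
      rw [hV]; exact (congrArg V hy).trans (hVU w)
  · ext q
    obtain ⟨y, rfl⟩ := QuotientAddGroup.mk_surjective q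
    constructor
    · rintro ⟨p, hp⟩
      obtain ⟨w, rfl⟩ := QuotientAddGroup.mk_surjective p
      refine AddMonoidHom.mem_ker.2 ?_
      rw [← hp]
      show (QuotientAddGroup.mk (V (U w)) : Formal2.limOne G'' t'') = 0
      rw [hVU]; rfl
    · intro hq
      obtain ⟨b, hb⟩ := (QuotientAddGroup.eq_zero_iff _).1 (AddMonoidHom.mem_ker.1 hq)
      obtain ⟨b', rfl⟩ := hVs b
      obtain ⟨a, ha⟩ := hUV (y - F G t b') (by rw [map_sub, ← hV]; exact sub_eq_zero.2 hb.symm)
      refine ⟨QuotientAddGroup.mk a, QuotientAddGroup.eq.2 ⟨b', ?_⟩⟩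
      show F G t b' = -U a + y
      rw [ha]; abel
  · intro q
    obtain ⟨z, rfl⟩ := QuotientAddGroup.mk_surjective q
    obtain ⟨y, rfl⟩ := hVs z
    exact ⟨QuotientAddGroup.mk y, rfl⟩

end Groth.Agent.S14617
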