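import Groth.Statements.S14619
import Groth.Agent.CohTwo.Amplitude
import Groth.Agent.CohTwo.ExchangeTransfer
import Groth.Agent.CohBase.BaseChangeModel

set_option autoImplicit false
universe u
open Coherent

namespace Groth.Agent.S14619

open CategoryTheory CategoryTheory.Limits AlgebraicGeometry in
/-- Let A be a Noetherian ring, X a proper scheme over Spec A and F a coherent O_X-module flat over Spec
A. Suppose H^p(X, F) = 0 for all p > d and H^p(X_y, F|X_y) = 0 for every point y of Spec A and every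
p < d'. Then there is a cochain complex L of finitely generated projective A-modules, with L^i = 0
unless d' ≤ i ≤ d and with L = 0 when all H^p(X, F) vanish, such that for every A-algebra B and
every p the cohomology H^p(X ×_A Spec B, ξ^*F) of the pulled-back module is isomorphic to H^p(L ⊗_A
B). Only the existence of these isomorphisms of abelian groups is asserted (no naturality in B). -/
theorem result (A : Type u) [CommRing A] [IsNoetherianRing A] (X : Scheme.{u}) [X.Over (Spec (CommRingCat.of A))]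
    [IsProper (X ↘ Spec (CommRingCat.of A))] (F : X.Modules) (hF : Coh.IsCoh F)
    (hfl : FlatMod.IsFlatOver (X ↘ Spec (CommRingCat.of A)) F) (d' d : ℕ)
    (hd : ∀ p : ℕ, d < p → Subsingleton (Coh.HH X F p))
    (hd' : ∀ (y : ↑(Spec (CommRingCat.of A))) (p : ℕ), p < d' →
      Subsingleton (CohIII.fiberH (X ↘ Spec (CommRingCat.of A)) F y p)) :
    ∃ L : CochainComplex (ModuleCat.{u} A) ℤ,
      (∀ i, Module.Finite A (L.X i) ∧ Module.Projective A (L.X i)) ∧
      (∀ i : ℤ, i < (d' : ℤ) ∨ (d : ℤ) < i → IsZero (L.X i)) ∧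
      ((∀ p : ℕ, Subsingleton (Coh.HH X F p)) → ∀ i, IsZero (L.X i)) ∧
      ∀ (B : Type u) [CommRing B] [Algebra A B] (p : ℕ),
        Nonempty (Coh.HH (pullback (X ↘ Spec (CommRingCat.of A)) (Spec.map (CommRingCat.ofHom (algebraMap A B))))
            ((Scheme.Modules.pullback (pullback.fst (X ↘ Spec (CommRingCat.of A))
              (Spec.map (CommRingCat.ofHom (algebraMap A B))))).obj F) p ≃+
          CohIII.T L (p : ℤ) (ModuleCat.of A B)) := by
  have := hF.1
  have := Groth.CohFin.compactSpace_of_proper (X ↘ Spec (CommRingCat.of A))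
  have := Groth.CohFin.isSeparated_of_proper (X ↘ Spec (CommRingCat.of A))
  obtain ⟨M, hM⟩ := Groth.CohTwo.exists_isFibreModel F hF hfl
  have := hM.finite
  have := hM.flat
  obtain ⟨N, hN⟩ := hM.bdd
  have hneg : ∀ j : ℤ, j < 0 → Subsingleton (Groth.CohBase.CxRank.Hk M j) := fun j hj =>
    have : Subsingleton ((CohIII.TFun M j).obj (ModuleCat.of A A)) :=
      ModuleCat.subsingleton_of_isZero (hM.isZero_neg j hj (ModuleCat.of A A))
    (Groth.CohBase.CxRank.tOneEquiv M j).toEquiv.symm.subsingleton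
  have hself : ∀ p : ℕ, Subsingleton (Coh.HH X F p) →
      Subsingleton (Groth.CohBase.CxRank.Hk M (p : ℤ)) := fun p h => by
    obtain ⟨e⟩ := hM.self p
    exact e.toEquiv.symm.subsingleton
  have hinj : ∀ p : ℕ, p < d' → ∀ (K : Type u) [Field K] [Algebra A K]
      (y : ↥(Spec (CommRingCat.of A))), RingHom.ker (algebraMap A K) = y.asIdeal →
      Function.Injective ((Groth.CohBase.CxRank.dq M (p : ℤ)).lTensor K) := fun p hp K _ _ y hy => by
    have := hd' y p hp
    refine Groth.CohBase.CxRank.injective_of_finrank_ker_eq_zero M (p : ℤ) K ?_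
    rw [← hM.fiberRank_eq p y K hy]
    exact Module.finrank_zero_of_subsingleton
  have hlow : ∀ j : ℤ, j < (d' : ℤ) → Subsingleton (Groth.CohBase.CxRank.Hk M j) := fun j hj => by
    rcases lt_or_ge j 0 with hj0 | hj0
    · exact hneg j hj0
    obtain ⟨p, rfl⟩ : ∃ p : ℕ, j = p := ⟨j.toNat, by omega⟩
    rw [← Module.support_eq_empty_iff (R := A)]
    exact Set.eq_empty_of_forall_notMem fun x =>
      Groth.CohBase.CxRank.notMem_support_of_injective M _ x
        (hinj p (by omega) _ x (Ideal.ker_algebraMap_residueField _))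
  have hQ : Module.Flat A (Groth.CohBase.CxRank.Qc M (d' : ℤ)) := by
    rcases Nat.eq_zero_or_pos d' with h0 | h0
    · rw [h0]; exact hM.flat_Qc_zero
    · obtain ⟨p, rfl⟩ : ∃ p, d' = p + 1 := ⟨d' - 1, by omega⟩
      rw [Nat.cast_add, Nat.cast_one]
      refine Groth.CohBase.CxRank.flat_of_injective_residue M (p : ℤ) fun m hm => ?_
      let := Ideal.Quotient.field m
      exact hinj p (by omega) (A ⧸ m) ⟨m, hm.isPrime⟩ Ideal.mk_ker
  have bc : ∀ (L : CochainComplex (ModuleCat.{u} A) ℤ),
      (∀ (p : ℤ) (B : ModuleCat.{u} A), Nonempty (CohIII.T L p B ≅ CohIII.T M p B)) →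
      ∀ (B : Type u) [CommRing B] [Algebra A B] (p : ℕ),
        Nonempty (Coh.HH (pullback (X ↘ Spec (CommRingCat.of A)) (Spec.map (CommRingCat.ofHom (algebraMap A B))))
            ((Scheme.Modules.pullback (pullback.fst (X ↘ Spec (CommRingCat.of A))
              (Spec.map (CommRingCat.ofHom (algebraMap A B))))).obj F) p ≃+
          CohIII.T L (p : ℤ) (ModuleCat.of A B)) := by
    intro L hL B _ _ p
    let q := Spec.map (CommRingCat.ofHom (algebraMap A B))
    let : (pullback (X ↘ Spec (CommRingCat.of A)) q).Over (Spec (CommRingCat.of B)) :=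
      ⟨pullback.snd _ _⟩
    have hsq : Groth.CohBase.IsBC (A := A) (A' := B) (pullback.fst (X ↘ Spec (CommRingCat.of A)) q) :=
      IsPullback.of_hasPullback _ _
    obtain ⟨G⟩ := Groth.CohBase.exists_goodCover X
    obtain ⟨e, -⟩ := Groth.CohBase.exists_bcEquiv hsq F G p
    obtain ⟨t⟩ := hM.tensor p
    obtain ⟨s⟩ := hL p (ModuleCat.of A B)
    exact ⟨e.symm.trans ((Groth.CohBase.tensorIsoApp A G F p (ModuleCat.of A B)).trans
      ((t.app (ModuleCat.of A B)).addCommGroupIsoToAddEquiv.symm.trans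
        s.toLinearEquiv.symm.toAddEquiv))⟩
  by_cases hall : ∀ p : ℕ, Subsingleton (Coh.HH X F p)
  · obtain ⟨L, hL₁, hL₂, hL₃⟩ := Groth.CohTwo.Amplitude.exists_trunc (L := M) 0 (-1) N hN hneg
      (fun j hj => by
        obtain ⟨p, rfl⟩ : ∃ p : ℕ, j = p := ⟨j.toNat, by omega⟩
        exact hself p (hall p))
      hM.flat_Qc_zero
    exact ⟨L, hL₁, fun i _ => hL₂ i (by omega), fun _ i => hL₂ i (by omega), bc L hL₃⟩
  · obtain ⟨L, hL₁, hL₂, hL₃⟩ := Groth.CohTwo.Amplitude.exists_trunc (L := M) (d' : ℤ) (d : ℤ) N hN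
      hlow (fun j hj => by
        obtain ⟨p, rfl⟩ : ∃ p : ℕ, j = p := ⟨j.toNat, by omega⟩
        exact hself p (hd p (by omega)))
      hQ
    exact ⟨L, hL₁, hL₂, fun h => absurd h hall, bc L hL₃⟩

end Groth.Agent.S14619
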