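import Groth.Statements.S1462
import Groth.Agent.RaynaudGruson.FibreTopModel

set_option autoImplicit false
universe u
open FlatMor

namespace Groth.Agent.S1462

open AlgebraicGeometry CategoryTheory Limits in
/-- Let f : X → S be a morphism of finite presentation between affine schemes whose fibres are
geometrically irreducible. Then f is the base change of a morphism of finite type f₀ : X₀ → S₀
between affine schemes with S₀ of finite type over ℤ, where f₀ can be chosen with the same property. -/
theorem result {X S : Scheme.{u}} (f : X ⟶ S) [IsAffine X] [IsAffine S] [LocallyOfFinitePresentation f] [GeometricallyIrreducible f] :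
    ∃ (X₀ S₀ : Scheme.{u}) (f₀ : X₀ ⟶ S₀) (g : S ⟶ S₀) (g' : X ⟶ X₀), IsAffine X₀ ∧ IsAffine S₀ ∧ IsPullback g' f f₀ g ∧
      Algebra.FiniteType ℤ Γ(S₀, ⊤) ∧ LocallyOfFiniteType f₀ ∧ GeometricallyIrreducible f₀ := by
  letI := f.appTop.hom.toAlgebra
  haveI : Algebra.FinitePresentation Γ(S, ⊤) Γ(X, ⊤) :=
    HasRingHomProperty.appTop (P := @LocallyOfFinitePresentation) f inferInstance
  refine Groth.RaynaudGruson.FibreTopModel.exists_scheme_model f @GeometricallyIrreducible
    (Groth.RaynaudGruson.FibreTopModel.exists_model_irreducible Γ(S, ⊤) Γ(X, ⊤) ?_)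
  exact (MorphismProperty.arrow_mk_iso_iff @GeometricallyIrreducible (arrowIsoSpecΓOfIsAffine f)).mp inferInstance

end Groth.Agent.S1462
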