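import Groth.Statements.S14624
import Groth.Agent.PropsBasic.UnivHomeoFP

set_option autoImplicit false
open CategoryTheory CategoryTheory.Limits
universe u
open Hensel

namespace Groth.Agent.S14624

/-- Let A be a commutative ring, m a proper ideal of A and Â the m-adic completion. Assume the
approximation property for polynomial systems: whenever finitely many polynomials over A in finitely
many variables have a common zero â in Â, then for every c there is a common zero a in A which
agrees with â in A/m^c. Let F be a functor from A-algebras (commutative rings under A) to sets which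
preserves filtered colimits, c a natural number and ξ ∈ F(Â). Then there is η ∈ F(A) whose image in
F(A/m^c) equals the image of ξ; here π is the A-algebra map Â → A/m^c (pinned by its underlying ring
map) and ρ the A-algebra map A → A/m^c. (The published statement takes for A the henselization at a
prime ideal of an algebra of finite type over a field or over an excellent discrete valuation ring,
for which the approximation property of polynomial systems is quoted; this row carries that property
as a hypothesis and draws the published conclusion for functors.) -/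
theorem result (A : Type u) [CommRing A]
    (m : Ideal A) (hm : m ≠ ⊤)
    (hAP : ∀ (k l c : ℕ) (f : Fin l → MvPolynomial (Fin k) A) (â : Fin k → AdicCompletion m A),
      (∀ i, MvPolynomial.aeval â (f i) = 0) →
      ∃ a : Fin k → A, (∀ i, MvPolynomial.eval a (f i) = 0) ∧
        ∀ j, Ideal.Quotient.mk (m ^ c) (a j) = AdicCompletion.evalₐ m c (â j))
    (F : Under (CommRingCat.of A) ⥤ Type u)
    (hF : ∀ (J : Type u) [SmallCategory J] [IsFiltered J], PreservesColimitsOfShape J F)
    (c : ℕ)
    (π : Under.mk (CommRingCat.ofHom (algebraMap A (AdicCompletion m A))) ⟶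
      Under.mk (CommRingCat.ofHom (algebraMap A (A ⧸ m ^ c))))
    (hπ : π.right = CommRingCat.ofHom
      (AdicCompletion.evalₐ m c : AdicCompletion m A →ₐ[A] A ⧸ m ^ c).toRingHom)
    (ρ : Under.mk (𝟙 (CommRingCat.of A)) ⟶ Under.mk (CommRingCat.ofHom (algebraMap A (A ⧸ m ^ c))))
    (ξ : F.obj (Under.mk (CommRingCat.ofHom (algebraMap A (AdicCompletion m A))))) :
    ∃ η : F.obj (Under.mk (𝟙 (CommRingCat.of A))), F.map ρ η = F.map π ξ := by
  classical
  have key : ∀ (R : Type u) [CommRing R] [Algebra A R] [Algebra.FinitePresentation A R]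
      (t : Under.mk (CommRingCat.ofHom (algebraMap A R)) ⟶
        Under.mk (CommRingCat.ofHom (algebraMap A (AdicCompletion m A))))
      (x : F.obj (Under.mk (CommRingCat.ofHom (algebraMap A R)))),
      ∃ η : F.obj (Under.mk (𝟙 (CommRingCat.of A))), F.map ρ η = F.map π (F.map t x) := by
    intro R _ _ _ t x
    obtain ⟨k, f, hf, hker⟩ := Algebra.FinitePresentation.out (R := A) (A := R)
    obtain ⟨l, g, hg⟩ := Submodule.fg_iff_exists_fin_generating_family.1 hker
    have htA : ∀ a : A, t.right.hom (algebraMap A R a) = algebraMap A (AdicCompletion m A) a := fun a =>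
      RingHom.congr_fun (congrArg CommRingCat.Hom.hom (Under.w t)) a
    let T : R →ₐ[A] AdicCompletion m A := { t.right.hom with commutes' := htA }
    have hg0 : ∀ i, f (g i) = 0 := fun i => RingHom.mem_ker.1
      ((hg ▸ Submodule.subset_span ⟨i, rfl⟩ : g i ∈ RingHom.ker f.toRingHom))
    let â : Fin k → AdicCompletion m A := fun i => T (f (MvPolynomial.X i))
    have hâ : ∀ p, MvPolynomial.aeval â p = T (f p) := fun p =>
      (DFunLike.congr_fun (MvPolynomial.algHom_ext (f := MvPolynomial.aeval â) (g := T.comp f)
        fun i => by simp [â]) p)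
    obtain ⟨a, ha, hac⟩ := hAP k l c g â (fun i => by rw [hâ, hg0, map_zero])
    have hle : ∀ z ∈ RingHom.ker f.toRingHom, MvPolynomial.eval a z = 0 := fun z hz => by
      rw [← hg] at hz
      exact RingHom.mem_ker.1 ((Ideal.span_le.2 (Set.range_subset_iff.2 fun i => ha i) :
        Ideal.span (Set.range g) ≤ RingHom.ker (MvPolynomial.eval a)) hz)
    let ψ : R →+* A := RingHom.liftOfSurjective f.toRingHom hf ⟨MvPolynomial.eval a, fun z hz =>
      RingHom.mem_ker.2 (hle z hz)⟩
    have hψ : ∀ p, ψ (f p) = MvPolynomial.eval a p := fun p =>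
      RingHom.liftOfRightInverse_comp_apply f.toRingHom _ _ _ p
    have hψA : ψ.comp (algebraMap A R) = RingHom.id A := RingHom.ext fun z => by
      rw [RingHom.comp_apply, ← f.commutes z, hψ]
      exact MvPolynomial.eval_C z
    let w : Under.mk (CommRingCat.ofHom (algebraMap A R)) ⟶ Under.mk (𝟙 (CommRingCat.of A)) :=
      Under.homMk (CommRingCat.ofHom ψ) (CommRingCat.hom_ext hψA)
    refine ⟨F.map w x, ?_⟩
    have hw : w ≫ ρ = t ≫ π := by
      refine Under.UnderMorphism.ext (CommRingCat.hom_ext (RingHom.ext fun r => ?_))
      obtain ⟨p, rfl⟩ := hf r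
      show ρ.right.hom (ψ (f p)) = π.right.hom (t.right.hom (f p))
      have hρ : ∀ z : A, ρ.right.hom z = Ideal.Quotient.mk (m ^ c) z := fun z =>
        RingHom.congr_fun (congrArg CommRingCat.Hom.hom (Under.w ρ)) z
      rw [hψ, hπ, hρ]
      show _ = AdicCompletion.evalₐ m c (T (f p))
      rw [← hâ]
      have := DFunLike.congr_fun (MvPolynomial.algHom_ext
        (f := (Ideal.Quotient.mkₐ A (m ^ c)).comp (MvPolynomial.aeval a))
        (g := (AdicCompletion.evalₐ m c).comp (MvPolynomial.aeval â)) fun i => by
          rw [AlgHom.comp_apply, AlgHom.comp_apply, MvPolynomial.aeval_X, MvPolynomial.aeval_X]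
          exact hac i) p
      simpa [MvPolynomial.aeval_def, MvPolynomial.eval₂_id] using this
    rw [← types_comp_apply (F.map w) (F.map ρ), ← types_comp_apply (F.map t) (F.map π),
      ← F.map_comp, ← F.map_comp, hw]
  obtain ⟨J, _, _, D, cc, hcc, dat, hdat, ⟨e⟩⟩ :=
    Groth.PropsBasic.UH.FPData.exists_colimit (A := A) (B := AdicCompletion m A) (fun _ => True)
      fun d => ⟨d, le_rfl, trivial⟩
  have := hF J
  obtain ⟨j, x, hx⟩ := Types.jointly_surjective _ (isColimitOfPreserves F hcc) (F.map e.inv ξ)
  have hfp : Algebra.FinitePresentation A (dat j).Ring :=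
    RingHom.finitePresentation_algebraMap.1 (dat j).finitePresentation
  obtain ⟨η, hη⟩ := key (dat j).Ring (eqToHom (hdat j).2.symm ≫ cc.ι.app j ≫ e.hom)
    (F.map (eqToHom (hdat j).2) x)
  refine ⟨η, hη.trans ?_⟩
  congr 1
  simp only [← types_comp_apply (F.map _) (F.map _), ← F.map_comp, eqToHom_trans_assoc,
    eqToHom_refl, Category.id_comp]
  rw [F.map_comp, types_comp_apply]
  change F.map e.hom ((F.mapCocone cc).ι.app j x) = ξ
  rw [hx, ← types_comp_apply (F.map e.inv) (F.map e.hom), ← F.map_comp, e.inv_hom_id, F.map_id]
  rfl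

end Groth.Agent.S14624
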