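import Groth.Statements.S14625
import Groth.Agent.EtaleBase.MuConst
import Mathlib.RingTheory.Henselian
import Mathlib.FieldTheory.IsSepClosed

set_option autoImplicit false
open CategoryTheory AlgebraicGeometry
universe u
open EtBase

namespace Groth.Agent.S14625

/-- Let A be a strictly henselian local ring, n ≥ 1 an integer invertible in A, and X a scheme over Spec
A. Then the étale sheaf μ_n of n-th roots of unity on X is isomorphic to the constant sheaf with
value ℤ/n. Only the existence of an isomorphism is asserted; it depends on the choice of a primitive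
n-th root of unity in A. -/
theorem result (A : Type u) [CommRing A]
    (hA : EtCoh.IsStrictlyHenselianLocalRing A) (n : ℕ) (hn : 1 ≤ n) (hu : IsUnit (n : A))
    (X : Scheme.{u}) (f : X ⟶ Spec (CommRingCat.of A)) :
    Nonempty (EtCoh.mu X n ≅ EtCoh.const X (ZMod n)) := by
  obtain ⟨_, hk⟩ := hA
  have : NeZero n := ⟨by omega⟩
  let k := IsLocalRing.ResidueField A
  have : NeZero (n : k) := ⟨by
    have := (hu.map (IsLocalRing.residue A)).ne_zero
    rwa [map_natCast] at this⟩
  obtain ⟨a, ha⟩ := IsSepClosed.exists_root (Polynomial.cyclotomic n k)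
    (Polynomial.degree_cyclotomic_pos n k (by omega)).ne'
    (Polynomial.separable_cyclotomic n k)
  obtain ⟨a₀, rfl⟩ := IsLocalRing.residue_surjective a
  have hev : ∀ P : Polynomial A, IsLocalRing.residue A (P.eval a₀) =
      (P.map (IsLocalRing.residue A)).eval (IsLocalRing.residue A a₀) := fun P => by
    rw [Polynomial.eval_map, Polynomial.eval₂_hom]
  have hd : IsUnit ((Polynomial.cyclotomic n A).derivative.eval a₀) := by
    rw [← IsLocalRing.residue_ne_zero_iff_isUnit, hev, ← Polynomial.derivative_map,
      Polynomial.map_cyclotomic]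
    exact (Polynomial.separable_cyclotomic n k).eval₂_derivative_ne_zero (RingHom.id k) ha
  obtain ⟨ζ, hζ, -⟩ := HenselianLocalRing.is_henselian (Polynomial.cyclotomic n A)
    (Polynomial.cyclotomic.monic n A) a₀ (by
      rw [← IsLocalRing.residue_eq_zero_iff, hev, Polynomial.map_cyclotomic]; exact ha) hd
  let F : A →+* Γ(X, ⊤) := f.appTop.hom.comp (Scheme.ΓSpecIso (CommRingCat.of A)).inv.hom
  refine Groth.EtaleBase.nonempty_mu_iso_const n hn (by simpa using hu.map F) (F ζ) ?_
  rw [Polynomial.aeval_def, Polynomial.eval₂_eq_eval_map, Polynomial.map_cyclotomic,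
    ← Polynomial.map_cyclotomic n F, Polynomial.eval_map, Polynomial.eval₂_hom,
    show (Polynomial.cyclotomic n A).eval ζ = 0 from hζ, map_zero]

end Groth.Agent.S14625
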