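import Groth.Statements.S14626
import Groth.Agent.EtaleBase.CechBasic

set_option autoImplicit false
open CategoryTheory CategoryTheory.Limits AlgebraicGeometry
universe u
open EtBase

namespace Groth.Agent.S14626

/-- For the direct image along a morphism of schemes on small étale sites; take a morphism of schemes f
: X → Y and an abelian étale sheaf F on X which is flasque in the Čech sense, i.e. for every étale U
over X and every jointly surjective family of étale U-schemes the Čech cohomology groups of F in
positive degrees vanish. Then the direct image f_*F is flasque in the same sense on Y. The finite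
products of the over categories (the fibre products entering the Čech complexes) are carried as
instance hypotheses. -/
theorem result {X Y : Scheme.{u}} (f : X ⟶ Y)
    [∀ U : X.Etale, HasFiniteProducts (Over U)] [∀ V : Y.Etale, HasFiniteProducts (Over V)]
    (F : EtCoh.Ab X)
    (hF : ∀ (U : X.Etale) (ι : Type (u + 1)) (Uf : ι → Over U),
      (∀ x : ↥(U.left), ∃ (i : ι) (y : ↥((Uf i).left.left)), (Uf i).hom.left.base y = x) →
      ∀ p : ℕ, 0 < p → IsZero (EtCech.cechH Uf F.obj p))
    (V : Y.Etale) (ι : Type (u + 1)) (Vf : ι → Over V)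
    (hV : ∀ x : ↥(V.left), ∃ (i : ι) (y : ↥((Vf i).left.left)), (Vf i).hom.left.base y = x)
    (p : ℕ) (hp : 0 < p) :
    IsZero (EtCech.cechH Vf ((EtCoh.push f).obj F).obj p) := by
  open Groth.EtaleBase in
  obtain ⟨n, rfl⟩ : ∃ n, p = n + 1 := ⟨p - 1, by omega⟩
  refine CechInj.isZero_cechH_comp (EtCoh.bc f) F.obj n
    (hF _ ι (CechInj.imgFam (EtCoh.bc f) Vf) (fun x => ?_) (n + 1) hp)
  obtain ⟨i, y, hy⟩ := hV ((pullback.fst V.hom f) x)
  obtain ⟨z, hz⟩ := (Scheme.Pullback.exists_preimage_pullback
    (f := pullback.fst V.hom f) (g := (Vf i).hom.left) x y hy.symm)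
  refine ⟨i, (EtCoh.isPullback_bc_map f (Vf i).hom).isoPullback.inv z, ?_⟩
  refine Eq.trans ?_ hz.1
  exact (Scheme.Hom.comp_apply _ _ z).symm.trans (congrArg (fun k => k.base z)
    ((EtCoh.isPullback_bc_map f (Vf i).hom).isoPullback_inv_fst))

end Groth.Agent.S14626
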