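import Groth.Statements.S14628
import Groth.Agent.EtaleBase.CechBasic
import Groth.Agent.EtaleBase.LocConstOps

set_option autoImplicit false
open CategoryTheory CategoryTheory.Limits AlgebraicGeometry
universe u
open EtBase

namespace Groth.Agent.S14628

/-- On the small étale site of a scheme, let 0 → F' → F → F'' → 0 be a short exact sequence of abelian
étale sheaves on a scheme X. If F' and F are flasque in the Čech sense (for every étale U over X and
every jointly surjective family of étale U-schemes, Čech cohomology in positive degrees vanishes),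
then so is F''. The finite products of the over categories (the fibre products entering the Čech
complexes) are carried as instance hypotheses. -/
theorem result {X : Scheme.{u}}
    [∀ U : X.Etale, HasFiniteProducts (Over U)] (S : ShortComplex (EtCoh.Ab X)) (hS : S.ShortExact)
    (h1 : (∀ (U : X.Etale) (ι : Type (u + 1)) (Uf : ι → Over U),
      (∀ x : ↥(U.left), ∃ (i : ι) (y : ↥((Uf i).left.left)), (Uf i).hom.left.base y = x) →
      ∀ p : ℕ, 0 < p → IsZero (EtCech.cechH Uf S.X₁.obj p)))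
    (h2 : (∀ (U : X.Etale) (ι : Type (u + 1)) (Uf : ι → Over U),
      (∀ x : ↥(U.left), ∃ (i : ι) (y : ↥((Uf i).left.left)), (Uf i).hom.left.base y = x) →
      ∀ p : ℕ, 0 < p → IsZero (EtCech.cechH Uf S.X₂.obj p)))
    (U : X.Etale) (ι : Type (u + 1)) (Uf : ι → Over U)
    (hU : ∀ x : ↥(U.left), ∃ (i : ι) (y : ↥((Uf i).left.left)), (Uf i).hom.left.base y = x)
    (p : ℕ) (hp : 0 < p) :
    IsZero (EtCech.cechH Uf S.X₃.obj p) := by
  open Groth.EtaleBase in
  obtain ⟨n, rfl⟩ : ∃ n, p = n + 1 := ⟨p - 1, by omega⟩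
  have := hS.mono_f
  have := hS.epi_g
  let E := sheafToPresheaf X.smallEtaleTopology AddCommGrpCat.{u + 1}
  have hex0 : (S.map E).Exact := hS.exact.map_of_mono_of_preservesKernel E inferInstance inferInstance
  have hinj : ∀ Z, Function.Injective (S.f.hom.app Z) := fun Z => by
    have : Mono (S.f.hom) := inferInstanceAs (Mono (E.map S.f))
    exact (AddCommGrpCat.mono_iff_injective _).1 inferInstance
  have hex : ∀ (Z : (X.Etale)ᵒᵖ) (x : S.X₂.obj.obj Z), S.g.hom.app Z x = 0 → ∃ y, S.f.hom.app Z y = x :=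
    fun Z => (ShortComplex.ab_exact_iff _).1 (hex0.map ((evaluation _ _).obj Z))
  have hfg : ∀ (Z : (X.Etale)ᵒᵖ) (y : S.X₁.obj.obj Z), S.g.hom.app Z (S.f.hom.app Z y) = 0 :=
    fun Z y => ConcreteCategory.congr_hom (((S.map E).map ((evaluation _ _).obj Z)).zero) y
  refine CechInj.isZero_cechH_of_exact S.f.hom S.g.hom hinj hex hfg (fun Z s => ?_) n
    (h1 U ι Uf hU (n + 2) (by omega)) (h2 U ι Uf hU (n + 1) (by omega))
  obtain ⟨W⟩ := Z
  have hloc : Presheaf.IsLocallySurjective X.smallEtaleTopology S.g.hom :=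
    (Sheaf.isLocallySurjective_iff_epi' (A := AddCommGrpCat.{u + 1}) S.g).2 inferInstance
  have hR := Presheaf.imageSieve_mem X.smallEtaleTopology S.g.hom (U := Opposite.op W) s
  let κ : Type (u + 1) := Σ Z : X.Etale, { k : Z ⟶ W // (Presheaf.imageSieve S.g.hom s).arrows k }
  let Wf : κ → Over W := fun a => Over.mk a.2.1
  have hW : ∀ x : ↥(W.left), ∃ (a : κ) (y : ↥((Wf a).left.left)), (Wf a).hom.left.base y = x := by
    intro x
    obtain ⟨V, k, y, hk, hy⟩ := (mem_topology_iff _).1 hR x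
    exact ⟨⟨V, k, hk⟩, y, hy⟩
  choose t ht using fun a : κ => a.2.2
  obtain ⟨t', ht', hcomp⟩ := CechInj.exists_compatible_lifts (Uf := Wf) S.f.hom S.g.hom hinj hex hfg
    (h1 W κ Wf hW 1 one_pos) s t ht
  have hQ := (Presheaf.isSheaf_iff_isSheaf_forget _ _ (CategoryTheory.forget _)).mp S.X₂.property
  rw [isSheaf_iff_isSheaf_of_type] at hQ
  let fam : Presieve.FamilyOfElements (S.X₂.obj ⋙ CategoryTheory.forget _)
      (Presheaf.imageSieve S.g.hom s).arrows := fun Z k hk => t' ⟨Z, k, hk⟩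
  have hfam : fam.Compatible := fun Z₁ Z₂ Z g₁ g₂ f₁ f₂ h₁ h₂ e =>
    hcomp ⟨Z₁, f₁, h₁⟩ ⟨Z₂, f₂, h₂⟩ Z g₁ g₂ e
  let a := (hQ _ hR).amalgamate fam hfam
  refine ⟨a, ?_⟩
  have hR3 := (Presheaf.isSheaf_iff_isSheaf_forget _ _ (CategoryTheory.forget _)).mp S.X₃.property
  rw [isSheaf_iff_isSheaf_of_type] at hR3
  refine (hR3 _ hR).isSeparatedFor.ext fun Z k hk => ?_
  show S.X₃.obj.map k.op (S.g.hom.app _ a) = S.X₃.obj.map k.op s
  refine (NatTrans.naturality_apply S.g.hom k.op a).symm.trans ?_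
  refine (congrArg (S.g.hom.app (Opposite.op Z)) ((hQ _ hR).valid_glue hfam k hk)).trans ?_
  exact ht' ⟨Z, k, hk⟩

end Groth.Agent.S14628
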