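import Groth.Statements.S14633
import Groth.Agent.AlgGrp1.Geom
import Groth.Agent.AlgGrp1.Act
import Groth.Agent.AlgGrp1.Retract
import Groth.Agent.SpectralTopology.Dim

set_option autoImplicit false
universe u
open CategoryTheory MonoidalCategory CartesianMonoidalCategory MonObj GrpObj AlgebraicGeometry CategoryTheory.Limits
open AlgGrp

namespace Groth.Agent.S14633

/-- Over a field k, let G be a smooth connected k-group scheme of finite type and let Z be a reduced
k-scheme of finite type of dimension at most 0 (for Z empty the conclusion is immediate). Then every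
action of G on Z is trivial: the action morphism G × Z → Z is the second projection. -/
theorem result (k : Type u) [Field k]
    (G Z : Over (Spec (CommRingCat.of k))) [GrpObj G] [Smooth G.hom] [QuasiCompact G.hom] [ConnectedSpace ↥G.left]
    [LocallyOfFiniteType Z.hom] [QuasiCompact Z.hom] [IsReduced Z.left] (hdim : topologicalKrullDim ↥Z.left ≤ 0)
    (a : AlgGrp.Action G Z) : a.act = CartesianMonoidalCategory.snd G Z := by
  classical
  have := Groth.AlgGrp1.geometricallyIntegral_of_smooth G
  have := Groth.AlgGrp1.isLocallyNoetherian_left Z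
  have : CompactSpace Z.left := (quasiCompact_iff_compactSpace Z.hom).mp inferInstance
  have : AlgebraicGeometry.IsNoetherian Z.left := ⟨⟩
  obtain ⟨-, hdisc⟩ := Groth.SpectralTopology.finite_discrete_of_dim_nonpos (X := ↥Z.left) hdim
  let U : ↥Z.left → Z.left.Opens := fun z => ⟨{z}, isOpen_discrete _⟩
  have hU : TopologicalSpace.IsOpenCover U := TopologicalSpace.IsOpenCover.mk (by ext x; simp [U])
  let 𝒰 := Z.left.openCoverOfIsOpenCover U hU
  apply Over.OverMorphism.ext
  refine (Scheme.Pullback.openCoverOfRight 𝒰 G.hom Z.hom).hom_ext _ _ fun z => ?_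
  -- restrict to one point of `Z`
  let Y : Over (Spec (CommRingCat.of k)) := Over.mk ((U z).ι ≫ Z.hom)
  let j : Y ⟶ Z := Over.homMk (U z).ι rfl
  suffices h : (G ◁ j) ≫ a.act = snd G Y ≫ j by
    have hmap : (Scheme.Pullback.openCoverOfRight 𝒰 G.hom Z.hom).f z = (G ◁ j).left := by
      show Limits.pullback.map G.hom ((U z).ι ≫ Z.hom) G.hom Z.hom (𝟙 _) (U z).ι (𝟙 _) (by simp) (Category.comp_id _) = _
      apply Limits.pullback.hom_ext
      · rw [Limits.pullback.lift_fst, Category.comp_id]
        exact (Over.whiskerLeft_left_fst (R := G) j).symm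
      · rw [Limits.pullback.lift_snd]
        exact (Over.whiskerLeft_left_snd (R := G) j).symm
    rw [hmap]
    exact congrArg (fun r : G ⊗ Y ⟶ Z => r.left) (h.trans (whiskerLeft_snd G j).symm)
  have hsub : Subsingleton ↥Y.left := ⟨fun p q => Subtype.ext (p.2.trans q.2.symm)⟩
  have hne : Nonempty ↥Y.left := ⟨⟨z, rfl⟩⟩
  have : IsReduced Y.left := inferInstanceAs (IsReduced (U z).toScheme)
  have : IrreducibleSpace ↥Y.left := { isPreirreducible_univ := Set.subsingleton_univ.isPreirreducible, toNonempty := hne }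
  have : IsIntegral Y.left := isIntegral_of_irreducibleSpace_of_isReduced Y.left
  have : LocallyOfFiniteType Y.hom := inferInstanceAs (LocallyOfFiniteType ((U z).ι ≫ Z.hom))
  have := Groth.AlgGrp1.isLocallyNoetherian_left Y
  have : IsAffine Y.left := inferInstance
  have : IsFinite Y.hom := by
    rw [isFinite_iff_locallyOfFiniteType_of_jacobsonSpace]; infer_instance
  have : IsIntegral (G ⊗ Y).left := inferInstanceAs (IsIntegral (Limits.pullback G.hom Y.hom))
  let e : Y ⟶ G ⊗ Y := lift (toUnit Y ≫ η[G]) (𝟙 Y)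
  let f := (G ◁ j) ≫ a.act
  have he : e ≫ f = j := by
    rw [lift_whiskerLeft_assoc, Category.id_comp, show toUnit Y ≫ η[G] = (1 : Y ⟶ G) from rfl,
      a.lift_one_act]
  have hrange : Set.range f.left.base ⊆ Set.range j.left.base := by
    rintro _ ⟨p, rfl⟩
    refine ⟨⟨z, rfl⟩, ?_⟩
    have h1 : (Set.range f.left.base).Subsingleton := by
      rw [← Set.image_univ]
      exact ((IrreducibleSpace.isIrreducible_univ _).image _ f.left.continuous.continuousOn).isPreirreducible.subsingleton
    exact h1 ⟨e.left.base ⟨z, rfl⟩, congrArg (fun r : Y ⟶ Z => r.left.base (⟨z, rfl⟩ : ↥Y.left)) he⟩ ⟨p, rfl⟩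
  have : IsOpenImmersion j.left := inferInstanceAs (IsOpenImmersion (U z).ι)
  let f' : G ⊗ Y ⟶ Y := Over.homMk (IsOpenImmersion.lift j.left f.left hrange) (by
    rw [← Over.w j, ← Category.assoc, IsOpenImmersion.lift_fac, Over.w f])
  have hf' : f' ≫ j = f := by
    apply Over.OverMorphism.ext
    exact IsOpenImmersion.lift_fac _ _ _
  have : Mono j := Over.mono_of_mono_left j
  have he' : e ≫ f' = 𝟙 Y := by rw [← cancel_mono j, Category.assoc, hf', he, Category.id_comp]
  show f = _
  rw [← hf']
  congr 1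
  apply Over.OverMorphism.ext
  apply ext_of_isAffine
  have hfin : (Y.hom.appTop).hom.Finite := Y.hom.finite_appTop
  algebraize [((Scheme.ΓSpecIso (CommRingCat.of k)).inv ≫ Y.hom.appTop).hom,
    ((Scheme.ΓSpecIso (CommRingCat.of k)).inv ≫ (G ⊗ Y).hom.appTop).hom]
  ext x
  have hx : IsIntegral k x := by
    have : ((Scheme.ΓSpecIso (CommRingCat.of k)).inv ≫ Y.hom.appTop).hom.Finite :=
      hfin.comp (RingHom.Finite.of_surjective _
        (Scheme.ΓSpecIso (CommRingCat.of k)).commRingCatIsoToRingEquiv.symm.surjective)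
    exact this.to_isIntegral x
  let F : Γ(Y.left, ⊤) →ₐ[k] Γ((G ⊗ Y).left, ⊤) := AlgHom.mk f'.left.appTop.hom (fun r => by
    show (Y.hom.appTop ≫ f'.left.appTop).hom _ = _
    rw [← Scheme.Hom.comp_appTop, Over.w f']
    rfl)
  let P : Γ(Y.left, ⊤) →ₐ[k] Γ((G ⊗ Y).left, ⊤) := AlgHom.mk (snd G Y).left.appTop.hom (fun r => by
    show (Y.hom.appTop ≫ (snd G Y).left.appTop).hom _ = _
    rw [← Scheme.Hom.comp_appTop, Over.w (snd G Y)]
    rfl)
  let E : Γ((G ⊗ Y).left, ⊤) →ₐ[k] Γ(Y.left, ⊤) := AlgHom.mk e.left.appTop.hom (fun r => by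
    show ((G ⊗ Y).hom.appTop ≫ e.left.appTop).hom _ = _
    rw [← Scheme.Hom.comp_appTop, Over.w e]
    rfl)
  refine sub_eq_zero.1 (Groth.AlgGrp1.eq_zero_of_isIntegral E ((hx.map F).sub (hx.map P)) ?_)
  rw [map_sub, sub_eq_zero]
  show (f'.left.appTop ≫ e.left.appTop).hom x = ((snd G Y).left.appTop ≫ e.left.appTop).hom x
  rw [← Scheme.Hom.comp_appTop, ← Scheme.Hom.comp_appTop, ← Over.comp_left, ← Over.comp_left, he',
    lift_snd]

end Groth.Agent.S14633
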