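import Groth.Statements.S14640
import Groth.Agent.AlgGrp1.KPoints
import Groth.Agent.AlgGrp1.Orbit

set_option autoImplicit false
universe u
open CategoryTheory MonoidalCategory CartesianMonoidalCategory MonObj GrpObj AlgebraicGeometry CategoryTheory.Limits
open AlgGrp

namespace Groth.Agent.S14640

section Slices

open Topology
open Groth.AlgGrp1

variable {k : Type u} [Field k] {K : Type u} [Field K] [Algebra k K] [IsAlgClosed K]

/-- A closed point of `Y_K` is a `K`-point. -/
theorem exists_point_of_closedPoint {Y : Over (Spec (CommRingCat.of k))} [LocallyOfFiniteType Y.hom]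
    (p : (Y ⊗ specAlg k K).left) (hp : p ∈ closedPoints (Y ⊗ specAlg k K).left) :
    ∃ z : specAlg k K ⟶ Y, ptOf (lift z (𝟙 _)) = p := by
  have : LocallyOfFiniteType (pullback.snd Y.hom (specAlg k K).hom) :=
    MorphismProperty.pullback_snd _ _ inferInstance
  let g : (Y ⊗ specAlg k K).left ⟶ Spec (CommRingCat.of K) := pullback.snd Y.hom (specAlg k K).hom
  let s : specAlg k K ⟶ Y ⊗ specAlg k K := Over.homMk (pointOfClosedPoint g p hp) (by
    show pointOfClosedPoint g p hp ≫ pullback.fst Y.hom (specAlg k K).hom ≫ Y.hom = _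
    rw [pullback.condition]
    exact (Category.assoc _ _ _).symm.trans
      ((congrArg (· ≫ (specAlg k K).hom) (pointOfClosedPoint_comp g p hp)).trans (Category.id_comp _)))
  have hs : s ≫ snd Y (specAlg k K) = 𝟙 _ := Over.OverMorphism.ext (pointOfClosedPoint_comp g p hp)
  refine ⟨s ≫ fst _ _, ?_⟩
  have : lift (s ≫ fst Y (specAlg k K)) (𝟙 _) = s := by
    rw [← hs, ← comp_lift, lift_fst_snd, Category.comp_id]
  rw [this]
  exact pointOfClosedPoint_apply g p hp _

theorem finite_reps {G G0 : Over (Spec (CommRingCat.of k))} [GrpObj G] [LocallyOfFiniteType G.hom]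
    [QuasiCompact G.hom] [LocallyOfFiniteType G0.hom] (i : G0 ⟶ G)
    (hi : Set.range i.left.base = connectedComponent ((η[G]).left.base (IsLocalRing.closedPoint k))) :
    ∃ T : Set (specAlg k K ⟶ G), T.Finite ∧
      ∀ g, ∃ r ∈ T, ∃ g₀ : specAlg k K ⟶ G0, g = r * (g₀ ≫ i) := by
  classical
  let Q := G ⊗ specAlg k K
  have : LocallyOfFiniteType (pullback.snd G.hom (specAlg k K).hom) :=
    MorphismProperty.pullback_snd _ _ inferInstance
  let gQ : Q.left ⟶ Spec (CommRingCat.of K) := pullback.snd G.hom (specAlg k K).hom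
  have : IsLocallyNoetherian Q.left := LocallyOfFiniteType.isLocallyNoetherian gQ
  have : CompactSpace Q.left := QuasiCompact.compactSpace_of_compactSpace gQ
  have : AlgebraicGeometry.IsNoetherian Q.left := ⟨⟩
  have hfin : (irreducibleComponents Q.left).Finite := TopologicalSpace.NoetherianSpace.finite_irreducibleComponents
  let σ : (specAlg k K ⟶ G) → Q.left := fun g => ptOf (lift g (𝟙 _))
  let rep : Set Q.left → (specAlg k K ⟶ G) := fun C =>
    if h : ∃ g, σ g ∈ C then h.choose else 1
  refine ⟨rep '' irreducibleComponents Q.left, hfin.image _, fun g => ?_⟩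
  let C := irreducibleComponent (σ g)
  have hC : C ∈ irreducibleComponents Q.left := irreducibleComponent_mem_irreducibleComponents _
  have hex : ∃ g, σ g ∈ C := ⟨g, mem_irreducibleComponent⟩
  have hr : σ (rep C) ∈ C := by simp only [rep, dif_pos hex]; exact hex.choose_spec
  refine ⟨rep C, ⟨C, hC, rfl⟩, ?_⟩
  let m : Q ⟶ G := (snd G (specAlg k K) ≫ rep C)⁻¹ * fst G (specAlg k K)
  have hm : ∀ h : specAlg k K ⟶ G, lift h (𝟙 _) ≫ m = (rep C)⁻¹ * h := fun h => by
    simp [m, MonObj.comp_mul, GrpObj.comp_inv]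
  have he : m.left.base (σ (rep C)) = (η[G]).left.base (IsLocalRing.closedPoint k) := by
    show m.left.base (ptOf (lift (rep C) (𝟙 _))) = _
    rw [← ptOf_comp, hm, inv_mul_cancel, Hom.one_def]
    show η[G].left.base ((toUnit (specAlg k K)).left.base _) = _
    exact congrArg _ (Subsingleton.elim (α := ↥(Spec (CommRingCat.of k))) _ _)
  have hsub : m.left.base '' C ⊆ Set.range i.left.base := by
    rw [hi, ← he]
    exact ((isIrreducible_irreducibleComponent).image _ m.left.continuous.continuousOn).2.isPreconnected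
      |>.subset_connectedComponent ⟨_, hr, rfl⟩
  have hmem : ptOf ((rep C)⁻¹ * g) ∈ Set.range i.left.base := by
    rw [← hm, ptOf_comp]
    exact hsub ⟨_, mem_irreducibleComponent, rfl⟩
  obtain ⟨y, hy⟩ := hmem
  obtain ⟨g₀, hg₀, -⟩ := exists_point_lift i ((rep C)⁻¹ * g) ⊤ ⟨y, trivial, hy⟩
  exact ⟨g₀, by rw [hg₀, mul_inv_cancel_left]⟩

variable {G G0 X : Over (Spec (CommRingCat.of k))} [GrpObj G] [GrpObj G0]

/-- If the `G`-orbit of a `K`-point is dense, so is its `G₀`-orbit. -/
theorem dense_slice [LocallyOfFiniteType G.hom] [QuasiCompact G.hom] [LocallyOfFiniteType G0.hom]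
    [LocallyOfFiniteType X.hom] [GeometricallyIrreducible X.hom] (i : G0 ⟶ G)
    (hi : Set.range i.left.base = connectedComponent ((η[G]).left.base (IsLocalRing.closedPoint k)))
    (a : AlgGrp.Action G X) (a0 : AlgGrp.Action G0 X) (ha0 : a0.act = (i ▷ X) ≫ a.act)
    (x : specAlg k K ⟶ X) (W : (X ⊗ X).left.Opens) (hW : ∀ w ∈ W, w ∈ Set.range (lift (snd G X) a.act).left.base)
    (z₀ : specAlg k K ⟶ X) (hz₀ : ptOf (lift x z₀) ∈ W) :
    Dense ((lift (snd X (specAlg k K) ≫ x) (fst X (specAlg k K))).left.base ⁻¹'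
      Set.range (lift (snd G0 X) a0.act).left.base) := by
  let P := X ⊗ specAlg k K
  let u : P ⟶ X ⊗ X := lift (snd X (specAlg k K) ≫ x) (fst X (specAlg k K))
  set S := u.left.base ⁻¹' Set.range (lift (snd G0 X) a0.act).left.base
  have hu : ∀ z : specAlg k K ⟶ X, lift z (𝟙 _) ≫ u = lift x z := fun z => by simp [u, comp_lift]
  obtain ⟨T, hT, hTG⟩ := finite_reps (K := K) i hi
  let τ : (specAlg k K ⟶ G) → (P ⟶ P) := fun g =>
    lift (lift (snd X (specAlg k K) ≫ g) (fst X (specAlg k K)) ≫ a.act) (snd X (specAlg k K))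
  have hτ : ∀ g z, lift z (𝟙 _) ≫ τ g = lift (lift g z ≫ a.act) (𝟙 _) := fun g z => by
    simp [τ, comp_lift, comp_lift_assoc]
  have hττ : ∀ g, τ g ≫ τ g⁻¹ = 𝟙 P := fun g => by
    apply CartesianMonoidalCategory.hom_ext
    · simp [τ, P, comp_lift_assoc, GrpObj.comp_inv, Groth.AlgGrp1.inv_act_cancel]
    · simp [τ, P]
  have : IrreducibleSpace (specAlg k K).left := inferInstanceAs (IrreducibleSpace (Spec (CommRingCat.of K)))
  have : IrreducibleSpace P.left :=
    inferInstanceAs (IrreducibleSpace ↥(pullback X.hom (specAlg k K).hom))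
  have : LocallyOfFiniteType (pullback.snd X.hom (specAlg k K).hom) :=
    MorphismProperty.pullback_snd _ _ inferInstance
  let gP : P.left ⟶ Spec (CommRingCat.of K) := pullback.snd X.hom (specAlg k K).hom
  have : JacobsonSpace P.left := LocallyOfFiniteType.jacobsonSpace gP
  have hsub : u.left.base ⁻¹' (W : Set (X ⊗ X).left) ⊆ closure (⋃ r ∈ T, (τ r).left.base '' S) := by
    intro w hw
    by_contra hcl
    obtain ⟨p, ⟨hpW, hpn⟩, hpc⟩ := nonempty_inter_closedPoints
      (Z := u.left.base ⁻¹' (W : Set (X ⊗ X).left) ∩ (closure (⋃ r ∈ T, (τ r).left.base '' S))ᶜ) ⟨w, hw, hcl⟩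
      ((W.2.preimage u.left.continuous).inter isClosed_closure.isOpen_compl).isLocallyClosed
    obtain ⟨z, rfl⟩ := exists_point_of_closedPoint p hpc
    have hR : ptOf (lift x z) ∈ Set.range (lift (snd G X) a.act).left.base := by
      rw [← hu, ptOf_comp]; exact hW _ hpW
    have : LocallyOfFiniteType (G ⊗ X).hom :=
      inferInstanceAs (LocallyOfFiniteType (pullback.fst G.hom X.hom ≫ G.hom))
    obtain ⟨y, hy⟩ := hR
    obtain ⟨q, hq, -⟩ := exists_point_lift (lift (snd G X) a.act) (lift x z) ⊤ ⟨y, trivial, hy⟩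
    have h1 := congrArg (· ≫ fst X X) hq
    have h2 := congrArg (· ≫ snd X X) hq
    simp only [Category.assoc, lift_fst, lift_snd] at h1 h2
    obtain ⟨r, hr, g₀, hg₀⟩ := hTG (q ≫ fst G X)
    have hz : z = lift r (lift g₀ x ≫ a0.act) ≫ a.act := by
      have h3 : lift (g₀ ≫ i) x ≫ a.act = lift g₀ x ≫ a0.act := by rw [ha0, lift_whiskerRight_assoc]
      rw [← h3, ← a.lift_mul_act, ← hg₀, ← h1, ← comp_lift_assoc, lift_fst_snd, Category.id_comp, h2]
    have hS : ptOf (lift (lift g₀ x ≫ a0.act) (𝟙 _)) ∈ S := by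
      refine ⟨ptOf (lift g₀ x), ?_⟩
      rw [← ptOf_comp, ← ptOf_comp, hu, comp_lift, lift_snd]
    exact hpn (subset_closure (Set.mem_biUnion hr ⟨_, hS, by rw [← ptOf_comp, hτ, ← hz]⟩))
  have hne : (u.left.base ⁻¹' (W : Set (X ⊗ X).left)).Nonempty :=
    ⟨ptOf (lift z₀ (𝟙 _)), show u.left.base (ptOf _) ∈ W by rw [← ptOf_comp, hu]; exact hz₀⟩
  have huniv : (Set.univ : Set P.left) ⊆ closure (⋃ r ∈ T, (τ r).left.base '' S) := by
    rw [← ((W.2.preimage u.left.continuous).dense hne).closure_eq]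
    exact closure_minimal hsub isClosed_closure
  classical
  rw [hT.closure_biUnion] at huniv
  obtain ⟨C, hC, hCuniv⟩ := isIrreducible_iff_sUnion_isClosed.1 (IrreducibleSpace.isIrreducible_univ P.left)
    (hT.toFinset.image fun r => closure ((τ r).left.base '' S)) (by simp) (by simpa using huniv)
  obtain ⟨r, -, rfl⟩ := Finset.mem_image.1 hC
  have hinj : (τ r⁻¹).left.base '' ((τ r).left.base '' S) = S := by
    rw [← Set.image_comp, ← TopCat.coe_comp, ← Scheme.Hom.comp_base, ← Over.comp_left, hττ]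
    exact Set.image_id S
  have hτ2 : τ r⁻¹ ≫ τ r = 𝟙 P := by simpa using hττ r⁻¹
  have hsurj : Function.Surjective (τ r⁻¹).left.base := fun p =>
    ⟨(τ r).left.base p, congr(($(hττ r)).left.base p)⟩
  show Dense S
  rw [← hinj]
  exact (hsurj.denseRange).dense_image (τ r⁻¹).left.continuous
    (dense_iff_closure_eq.2 (Set.univ_subset_iff.1 hCuniv))

end Slices

/-- Over a field k, let G be a smooth k-group scheme of finite type acting on a variety X (a separated,
geometrically integral k-scheme of finite type), and let i : G° → G be its identity component: a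
homomorphism which is an open immersion from a connected k-group scheme whose image is the connected
component of the unit element of G. Let G° act on X through i. Then X is homogeneous under G (the
graph morphism G × X → X × X, (g, x) ↦ (x, g·x), is surjective) if and only if it is homogeneous
under G°, and X is almost homogeneous under G (the graph morphism is dominant) if and only if it is
almost homogeneous under G°. -/
theorem result (k : Type u) [Field k]
    (G G0 X : Over (Spec (CommRingCat.of k))) [GrpObj G] [Smooth G.hom] [QuasiCompact G.hom]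
    [GrpObj G0] (i : G0 ⟶ G) [IsMonHom i] [IsOpenImmersion i.left] [ConnectedSpace ↥G0.left]
    (hi : Set.range i.left.base = connectedComponent ((η[G]).left.base (IsLocalRing.closedPoint k)))
    [IsSeparated X.hom] [LocallyOfFiniteType X.hom] [QuasiCompact X.hom] [GeometricallyIntegral X.hom]
    (a : AlgGrp.Action G X) (a0 : AlgGrp.Action G0 X) (ha0 : a0.act = (i ▷ X) ≫ a.act) :
    (Surjective (CartesianMonoidalCategory.lift (CartesianMonoidalCategory.snd G X) a.act).left ↔
      Surjective (CartesianMonoidalCategory.lift (CartesianMonoidalCategory.snd G0 X) a0.act).left) ∧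
    (IsDominant (CartesianMonoidalCategory.lift (CartesianMonoidalCategory.snd G X) a.act).left ↔
      IsDominant (CartesianMonoidalCategory.lift (CartesianMonoidalCategory.snd G0 X) a0.act).left) := by
  classical
  let K := AlgebraicClosure k
  set Φ : G ⊗ X ⟶ X ⊗ X := lift (snd G X) a.act with hΦ
  set Φ0 : G0 ⊗ X ⟶ X ⊗ X := lift (snd G0 X) a0.act with hΦ0
  have hfac : Φ0 = (i ▷ X) ≫ Φ := by
    apply CartesianMonoidalCategory.hom_ext <;> simp [hΦ, hΦ0, ha0]
  have hsub : Set.range Φ0.left.base ⊆ Set.range Φ.left.base := by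
    rw [hfac]; rintro _ ⟨q, rfl⟩; exact ⟨(i ▷ X).left.base q, rfl⟩
  have : LocallyOfFiniteType G.hom := inferInstance
  have : LocallyOfFiniteType G0.hom := by rw [← Over.w i]; infer_instance
  have := Groth.AlgGrp1.isLocallyNoetherian_left G
  have : CompactSpace G.left := QuasiCompact.compactSpace_of_compactSpace G.hom
  have : AlgebraicGeometry.IsNoetherian G.left := ⟨⟩
  have : QuasiCompact G0.hom := by
    rw [← Over.w i]; infer_instance
  have : LocallyOfFiniteType (G0 ⊗ X).hom :=
    inferInstanceAs (LocallyOfFiniteType (pullback.fst G0.hom X.hom ≫ G0.hom))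
  have : LocallyOfFiniteType (G ⊗ X).hom :=
    inferInstanceAs (LocallyOfFiniteType (pullback.fst G.hom X.hom ≫ G.hom))
  have : LocallyOfFiniteType (X ⊗ X).hom :=
    inferInstanceAs (LocallyOfFiniteType (pullback.fst X.hom X.hom ≫ X.hom))
  have : QuasiCompact (G0 ⊗ X).hom :=
    inferInstanceAs (QuasiCompact (pullback.fst G0.hom X.hom ≫ G0.hom))
  have : QuasiCompact (G ⊗ X).hom :=
    inferInstanceAs (QuasiCompact (pullback.fst G.hom X.hom ≫ G.hom))
  have : QuasiCompact (X ⊗ X).hom :=
    inferInstanceAs (QuasiCompact (pullback.fst X.hom X.hom ≫ X.hom))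
  have := Groth.AlgGrp1.isLocallyNoetherian_left (X ⊗ X)
  have : CompactSpace (X ⊗ X).left := QuasiCompact.compactSpace_of_compactSpace (X ⊗ X).hom
  have : AlgebraicGeometry.IsNoetherian (X ⊗ X).left := ⟨⟩
  have hcons : ∀ {H : Over (Spec (CommRingCat.of k))} [LocallyOfFiniteType H.hom] [QuasiCompact H.hom] (f : H ⟶ X ⊗ X),
      Topology.IsConstructible (Set.range f.left.base) := by
    intro H _ _ f
    have := Groth.AlgGrp1.lfp_left f
    have : CompactSpace H.left := QuasiCompact.compactSpace_of_compactSpace H.hom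
    have : QuasiCompact (f.left ≫ (X ⊗ X).hom) := by rw [Over.w]; infer_instance
    have : QuasiCompact f.left := QuasiCompact.of_comp _ (X ⊗ X).hom
    rw [show Set.range f.left.base = f.left.base '' Set.univ from Set.image_univ.symm]
    exact f.left.isConstructible_image Topology.IsConstructible.univ
  have : IrreducibleSpace X.left :=
    GeometricallyIrreducible.irreducibleSpace_of_subsingleton (f := X.hom)
  have : IrreducibleSpace (X ⊗ X).left := inferInstanceAs (IrreducibleSpace ↥(pullback X.hom X.hom))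
  refine ⟨⟨fun h => ?_, fun h => ⟨fun z => hsub (h.surj z)⟩⟩,
    ⟨fun h => ?_, fun h => ⟨(h.denseRange).mono hsub⟩⟩⟩
  · -- homogeneous
    refine ⟨fun w => (Groth.AlgGrp1.eq_univ_of_points (K := K) (hcons Φ0) fun q => ?_).ge (Set.mem_univ w)⟩
    let x := q ≫ fst X X
    let y := q ≫ snd X X
    have hx := dense_slice (K := K) i hi a a0 ha0 x ⊤ (fun w _ => h.surj w) x trivial
    have hy := dense_slice (K := K) i hi a a0 ha0 y ⊤ (fun w _ => h.surj w) x trivial
    let P := X ⊗ Groth.AlgGrp1.specAlg k K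
    have : LocallyOfFiniteType (pullback.snd X.hom (Groth.AlgGrp1.specAlg k K).hom) :=
      MorphismProperty.pullback_snd _ _ inferInstance
    let g : P.left ⟶ Spec (CommRingCat.of K) := pullback.snd X.hom (Groth.AlgGrp1.specAlg k K).hom
    have : IsLocallyNoetherian P.left := LocallyOfFiniteType.isLocallyNoetherian g
    have : CompactSpace P.left := QuasiCompact.compactSpace_of_compactSpace g
    have : AlgebraicGeometry.IsNoetherian P.left := ⟨⟩
    have : IrreducibleSpace (Groth.AlgGrp1.specAlg k K).left := inferInstanceAs (IrreducibleSpace (Spec (CommRingCat.of K)))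
    have : IrreducibleSpace P.left :=
      inferInstanceAs (IrreducibleSpace ↥(pullback X.hom (Groth.AlgGrp1.specAlg k K).hom))
    have : JacobsonSpace P.left := LocallyOfFiniteType.jacobsonSpace g
    let u : (Groth.AlgGrp1.specAlg k K ⟶ X) → (P ⟶ X ⊗ X) := fun x => lift (snd X _ ≫ x) (fst X _)
    have hopen : ∀ x, Dense ((u x).left.base ⁻¹' Set.range Φ0.left.base) →
        ∃ O : Set P.left, IsOpen O ∧ O.Nonempty ∧ O ⊆ (u x).left.base ⁻¹' Set.range Φ0.left.base := by
      intro x hd
      obtain ⟨O, hO, hne, hsub⟩ := Groth.SpectralTopology.exists_open_of_dense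
        ((u x).left.isConstructible_preimage (hcons Φ0)) (IrreducibleSpace.isIrreducible_univ P.left)
        (by rw [Set.inter_univ, hd.closure_eq])
      exact ⟨O, hO, by simpa using hne, by simpa using hsub⟩
    obtain ⟨O₁, hO₁, hne₁, hs₁⟩ := hopen x hx
    obtain ⟨O₂, hO₂, hne₂, hs₂⟩ := hopen y hy
    obtain ⟨c, hc⟩ := (PreirreducibleSpace.isPreirreducible_univ (X := P.left)) _ _ hO₁ hO₂
      (by simpa using hne₁) (by simpa using hne₂)
    obtain ⟨p, ⟨hp1, hp2⟩, hpc⟩ := nonempty_inter_closedPoints (Z := O₁ ∩ O₂) ⟨c, hc.2⟩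
      (hO₁.inter hO₂).isLocallyClosed
    obtain ⟨z, rfl⟩ := exists_point_of_closedPoint p hpc
    have horb : ∀ v, Groth.AlgGrp1.ptOf (lift z (𝟙 _)) ∈ (u v).left.base ⁻¹' Set.range Φ0.left.base →
        ∃ g₀, lift g₀ v ≫ a0.act = z := by
      intro v ⟨w, hw⟩
      rw [← Groth.AlgGrp1.ptOf_comp] at hw
      obtain ⟨r, hr, -⟩ := Groth.AlgGrp1.exists_point_lift Φ0 (lift z (𝟙 _) ≫ u v) ⊤ ⟨w, trivial, hw⟩
      have h1 := congrArg (· ≫ fst X X) hr
      have h2 := congrArg (· ≫ snd X X) hr
      simp only [hΦ0, u, Category.assoc, lift_fst, lift_snd, lift_snd_assoc, Category.id_comp] at h1 h2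
      refine ⟨r ≫ fst G0 X, ?_⟩
      rw [← h1, ← comp_lift_assoc, lift_fst_snd, Category.id_comp, h2]
    obtain ⟨g₁, hg₁⟩ := horb x (hs₁ hp1)
    obtain ⟨g₂, hg₂⟩ := horb y (hs₂ hp2)
    refine ⟨Groth.AlgGrp1.ptOf (lift (g₂⁻¹ * g₁) x), ?_⟩
    rw [← Groth.AlgGrp1.ptOf_comp]
    congr 1
    apply CartesianMonoidalCategory.hom_ext
    · simp [hΦ0, x]
    · rw [Category.assoc, hΦ0, lift_snd, a0.lift_mul_act, hg₁, ← hg₂, Groth.AlgGrp1.inv_act_cancel]
  · -- almost homogeneous
    obtain ⟨w, hw0, hw⟩ := Groth.AlgGrp1.nonempty_relInterior (hcons Φ)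
      (closure_nonempty_iff.1 ((h.denseRange).closure_range.symm ▸ Set.univ_nonempty))
    let W : (X ⊗ X).left.Opens :=
      ⟨(closure (closure (Set.range Φ.left.base) \ Set.range Φ.left.base))ᶜ, isClosed_closure.isOpen_compl⟩
    have hW : ∀ z ∈ W, z ∈ Set.range Φ.left.base := fun z hz => by
      by_contra hn
      exact hz (subset_closure ⟨(h.denseRange).closure_range.symm ▸ Set.mem_univ z, hn⟩)
    refine ⟨dense_iff_inter_open.2 fun O hO hOne => ?_⟩
    obtain ⟨c, hc⟩ := (PreirreducibleSpace.isPreirreducible_univ (X := (X ⊗ X).left)) _ _ hO W.2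
      (by simpa using hOne) (by rw [Set.univ_inter]; exact ⟨w, hw⟩)
    obtain ⟨q, hqO, hqW⟩ := Groth.AlgGrp1.exists_point_mem_open (K := K) _ (hO.inter W.2) ⟨c, hc.2⟩
    have hq : lift (q ≫ fst X X) (q ≫ snd X X) = q := by rw [← comp_lift, lift_fst_snd, Category.comp_id]
    have hd := dense_slice (K := K) i hi a a0 ha0 (q ≫ fst X X) W hW (q ≫ snd X X) (by rw [hq]; exact hqW)
    obtain ⟨p, hp1, hp2⟩ := hd.inter_open_nonempty
      ((lift (snd X _ ≫ q ≫ fst X X) (fst X (Groth.AlgGrp1.specAlg k K))).left.base ⁻¹' O)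
      (hO.preimage (Scheme.Hom.continuous _))
      ⟨Groth.AlgGrp1.ptOf (lift (q ≫ snd X X) (𝟙 _)), by
        rw [Set.mem_preimage, ← Groth.AlgGrp1.ptOf_comp]
        simpa [comp_lift, hq] using hqO⟩
    exact ⟨_, hp1, hp2⟩

end Groth.Agent.S14640
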