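import Groth.Statements.S14634
import Groth.Agent.AlgGrp1.KPoints
import Groth.Agent.AlgGrp1.Geom
import Groth.Agent.AlgGrp1.Orbit
import Groth.Agent.S14640
import Groth.Agent.S9683

set_option autoImplicit false
universe u
open CategoryTheory MonoidalCategory CartesianMonoidalCategory MonObj GrpObj AlgebraicGeometry CategoryTheory.Limits
open AlgGrp

namespace Groth.Agent.S14634

open Groth.AlgGrp1 TopologicalSpace in
/-- An irreducible subset of a space of dimension at most one containing two closed points is dense. -/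
theorem dense_of_two_points {α : Type*} [TopologicalSpace α] [IrreducibleSpace α]
    (hd : topologicalKrullDim α ≤ 1) {S : Set α} (hS : IsIrreducible S) {p q : α} (hp : p ∈ S) (hq : q ∈ S)
    (hpq : p ≠ q) (hpc : IsClosed ({p} : Set α)) : Dense S := by
  rw [dense_iff_closure_eq]
  by_contra hne
  let A : IrreducibleCloseds α := ⟨{p}, isIrreducible_singleton, hpc⟩
  let B : IrreducibleCloseds α := ⟨closure S, hS.closure, isClosed_closure⟩
  let C : IrreducibleCloseds α := ⟨Set.univ, IrreducibleSpace.isIrreducible_univ α, isClosed_univ⟩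
  have hAB : A < B := by
    refine lt_of_le_of_ne (Set.singleton_subset_iff.2 (subset_closure hp)) fun e => hpq ?_
    have : q ∈ (A : Set α) := e ▸ (subset_closure hq : q ∈ (B : Set α))
    exact (Set.mem_singleton_iff.1 this).symm
  have hBC : B < C := lt_of_le_of_ne (Set.subset_univ _) fun e => hne (congrArg SetLike.coe e)
  let L : LTSeries (IrreducibleCloseds α) := ((RelSeries.singleton _ A).snoc B hAB).snoc C (by simpa using hBC)
  have hL : L.length = 2 := rfl
  have := Order.LTSeries.length_le_krullDim L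
  rw [hL] at this
  have h2 : ((2 : ℕ) : WithBot ℕ∞) ≤ 1 := le_trans (by simpa [topologicalKrullDim] using this) hd
  norm_num at h2


open Groth.AlgGrp1 in
theorem point_eq_of_ptOf_eq {k : Type u} [Field k] {K : Type u} [Field K] [Algebra k K] [IsAlgClosed K]
    {C : Over (Spec (CommRingCat.of k))} [LocallyOfFiniteType C.hom] (z z' : specAlg k K ⟶ C)
    (e : ptOf (lift z (𝟙 (specAlg k K))) = ptOf (lift z' (𝟙 (specAlg k K)))) : z = z' := by
  have : LocallyOfFiniteType (pullback.snd C.hom (specAlg k K).hom) :=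
    MorphismProperty.pullback_snd _ _ inferInstance
  let g : (C ⊗ specAlg k K).left ⟶ Spec (CommRingCat.of K) := pullback.snd C.hom (specAlg k K).hom
  let Q : Over (Spec (CommRingCat.of K)) := Over.mk g
  have hz : ∀ z : specAlg k K ⟶ C, (lift z (𝟙 (specAlg k K))).left ≫ g = 𝟙 _ :=
    fun z => congrArg CommaMorphism.left (lift_snd z (𝟙 _))
  have h := ext_of_apply_closedPoint_eq g (hz z) (hz z') e
  have := congrArg (· ≫ fst C (specAlg k K)) (Over.OverMorphism.ext h)
  simpa using this

/-- Over a field k, let G be a smooth connected k-group scheme of finite type acting on a curve C, i.e.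
a separated, geometrically integral k-scheme of finite type of dimension 1. Then C is almost
homogeneous under G, meaning that the graph morphism G × C → C × C, (g, x) ↦ (x, g·x), is dominant,
if and only if the action is not the trivial one (the action morphism is not the second projection). -/
theorem result (k : Type u) [Field k]
    (G C : Over (Spec (CommRingCat.of k))) [GrpObj G] [Smooth G.hom] [QuasiCompact G.hom] [ConnectedSpace ↥G.left]
    [IsSeparated C.hom] [LocallyOfFiniteType C.hom] [QuasiCompact C.hom] [GeometricallyIntegral C.hom] (hdim : topologicalKrullDim ↥C.left = 1)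
    (a : AlgGrp.Action G C) :
    IsDominant (CartesianMonoidalCategory.lift (CartesianMonoidalCategory.snd G C) a.act).left ↔
      a.act ≠ CartesianMonoidalCategory.snd G C := by
  classical
  let K := AlgebraicClosure k
  let S₀ := Groth.AlgGrp1.specAlg k K
  set Φ : G ⊗ C ⟶ C ⊗ C := lift (snd G C) a.act with hΦ
  set Δ : C ⟶ C ⊗ C := lift (𝟙 C) (𝟙 C) with hΔ
  have : IrreducibleSpace C.left := GeometricallyIrreducible.irreducibleSpace_of_subsingleton (f := C.hom)
  have : IrreducibleSpace (C ⊗ C).left := inferInstanceAs (IrreducibleSpace ↥(pullback C.hom C.hom))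
  have : LocallyOfFiniteType (G ⊗ C).hom :=
    inferInstanceAs (LocallyOfFiniteType (pullback.fst G.hom C.hom ≫ G.hom))
  have : LocallyOfFiniteType (C ⊗ C).hom :=
    inferInstanceAs (LocallyOfFiniteType (pullback.fst C.hom C.hom ≫ C.hom))
  have hGeq : ∀ f g : G ⊗ C ⟶ C, (∀ t : S₀ ⟶ G ⊗ C, t ≫ f = t ≫ g) → f = g := by
    have := Groth.AlgGrp1.geometricallyReduced_of_smooth_hom G
    have := Groth.AlgGrp1.geometricallyReduced_tensorObj G C
    exact Groth.AlgGrp1.eq_of_sepClosed_points K
  have hjac := LocallyOfFiniteType.jacobsonSpace C.hom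
  constructor
  · intro hdom hact
    have hrange : Set.range Φ.left.base ⊆ Set.range Δ.left.base := by
      rintro _ ⟨w, rfl⟩
      refine ⟨(snd G C).left.base w, ?_⟩
      have : Φ = snd G C ≫ Δ := by rw [hΦ, hΔ, hact, comp_lift, Category.comp_id]
      rw [this]; rfl
    have hcl : IsClosed (Set.range Δ.left.base) := by
      have hd : Δ.left = pullback.diagonal C.hom := by
        refine pullback.hom_ext ?_ ?_
        · rw [pullback.diagonal_fst]; exact congrArg CommaMorphism.left (lift_fst (𝟙 C) (𝟙 C))
        · rw [pullback.diagonal_snd]; exact congrArg CommaMorphism.left (lift_snd (𝟙 C) (𝟙 C))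
      rw [hd]
      exact (pullback.diagonal C.hom).isClosedEmbedding.isClosed_range
    have huniv : Set.range Δ.left.base = Set.univ := by
      rw [← hcl.closure_eq, ← dense_iff_closure_eq]
      exact hdom.denseRange.mono hrange
    have hpts : ∀ x y : S₀ ⟶ C, Groth.AlgGrp1.ptOf x = Groth.AlgGrp1.ptOf y := by
      intro x y
      obtain ⟨w, hw⟩ := huniv.ge (Set.mem_univ (Groth.AlgGrp1.ptOf (lift x y)))
      have h1 := congrArg (fst C C).left.base hw
      have h2 := congrArg (snd C C).left.base hw
      rw [← Groth.AlgGrp1.ptOf_comp, lift_fst] at h1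
      rw [← Groth.AlgGrp1.ptOf_comp, lift_snd] at h2
      rw [← h1, ← h2]
      exact (congr(($(lift_fst (𝟙 C) (𝟙 C))).left.base w)).trans
        (congr(($(lift_snd (𝟙 C) (𝟙 C))).left.base w)).symm
    obtain ⟨c, -, hc⟩ := nonempty_inter_closedPoints (Z := (Set.univ : Set C.left)) Set.univ_nonempty
      isClosed_univ.isLocallyClosed
    have hne : ({c}ᶜ : Set C.left).Nonempty := by
      by_contra h
      rw [Set.not_nonempty_iff_eq_empty, Set.compl_empty_iff] at h
      have : Subsingleton C.left := Set.subsingleton_univ_iff.1 (h ▸ Set.subsingleton_singleton)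
      have := topologicalKrullDim_zero_of_discreteTopology C.left
      simp [hdim] at this; exact absurd this (by decide)
    obtain ⟨d, hd, hdc⟩ := nonempty_inter_closedPoints hne
      (isOpen_compl_iff.2 hc).isLocallyClosed
    obtain ⟨x, hx⟩ := Groth.AlgGrp1.exists_point_over_closed K C c hc
    obtain ⟨y, hy⟩ := Groth.AlgGrp1.exists_point_over_closed K C d hdc
    exact hd (hy.symm.trans ((hpts y x).trans hx))
  · intro hact
    let P := C ⊗ S₀
    have : LocallyOfFiniteType (pullback.snd C.hom S₀.hom) := MorphismProperty.pullback_snd _ _ inferInstance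
    let gP : P.left ⟶ Spec (CommRingCat.of K) := pullback.snd C.hom S₀.hom
    have : JacobsonSpace P.left := LocallyOfFiniteType.jacobsonSpace gP
    have : IrreducibleSpace S₀.left := inferInstanceAs (IrreducibleSpace (Spec (CommRingCat.of K)))
    have : IrreducibleSpace P.left := inferInstanceAs (IrreducibleSpace ↥(pullback C.hom S₀.hom))
    have hdimP : topologicalKrullDim P.left ≤ 1 := by
      have : IsIntegralHom S₀.hom := IsIntegralHom.SpecMap_iff.2 (algebraMap_isIntegral_iff.2 inferInstance)
      exact hdim ▸ (Groth.Agent.S9683.result (pullback.fst C.hom S₀.hom)).1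
    have := Groth.AlgGrp1.geometricallyIrreducible_of_connected G
    have : IrreducibleSpace (G ⊗ S₀).left := inferInstanceAs (IrreducibleSpace ↥(pullback G.hom S₀.hom))
    let E : Set (G ⊗ C).left := {w | ∃ t : S₀ ⟶ G ⊗ C, Groth.AlgGrp1.ptOf t = w ∧ t ≫ a.act ≠ t ≫ snd G C}
    obtain ⟨Z, c, _, hZ⟩ := Groth.AlgGrp1.exists_equalizer a.act (snd G C)
    set M : Set (G ⊗ C).left := (Set.range c.left.base)ᶜ with hM
    have hMopen : IsOpen M := c.left.isClosedEmbedding.isClosed_range.isOpen_compl
    have hMpt : ∀ t : S₀ ⟶ G ⊗ C, Groth.AlgGrp1.ptOf t ∈ M → t ≫ a.act ≠ t ≫ snd G C := by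
      intro t ht e
      obtain ⟨z, rfl⟩ := (hZ _ t).2 e
      exact ht ⟨Groth.AlgGrp1.ptOf z, rfl⟩
    have hMne : M.Nonempty := by
      by_contra h
      refine hact (hGeq _ _ fun t => (hZ _ t).1 ?_)
      rw [Set.not_nonempty_iff_eq_empty, hM, Set.compl_empty_iff] at h
      have : IsReduced S₀.left := inferInstanceAs (IsReduced (Spec (CommRingCat.of K)))
      exact Groth.AlgGrp1.exists_factor_of_range_subset c t (h ▸ Set.subset_univ _)
    set V := (snd G C).left.base '' M with hV
    have hVopen : IsOpen V := Groth.AlgGrp1.isOpenMap_snd G C _ hMopen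
    refine ⟨?_⟩
    rw [DenseRange, dense_iff_inter_open]
    intro W hW hWne
    by_contra hempty
    obtain ⟨w, -, hwW, hwV⟩ := (PreirreducibleSpace.isPreirreducible_univ (X := (C ⊗ C).left)) W
      ((fst C C).left.base ⁻¹' V) hW (hVopen.preimage (fst C C).left.continuous) (by simpa using hWne)
      (by
        obtain ⟨v, hv⟩ := hMne.image (snd G C).left.base
        exact ⟨Δ.left.base v, trivial, show (fst C C).left.base (Δ.left.base v) ∈ V from
          (congr(($(lift_fst (𝟙 C) (𝟙 C))).left.base v)).symm ▸ hv⟩)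
    obtain ⟨r, hrW, hrV⟩ := Groth.AlgGrp1.exists_point_mem_open (K := K) (W ∩ (fst C C).left.base ⁻¹' V)
      (hW.inter (hVopen.preimage (fst C C).left.continuous)) ⟨w, hwW, hwV⟩
    let x := r ≫ fst C C
    have hx : Groth.AlgGrp1.ptOf x ∈ (snd G C).left.base '' (⟨M, hMopen⟩ : (G ⊗ C).left.Opens) := hrV
    obtain ⟨q, hq, hqM⟩ := Groth.AlgGrp1.exists_point_lift (snd G C) x ⟨M, hMopen⟩ hx
    let u : P ⟶ C ⊗ C := lift (snd C S₀ ≫ x) (fst C S₀)
    let θ : G ⊗ S₀ ⟶ P := lift (lift (fst G S₀) (snd G S₀ ≫ x) ≫ a.act) (snd G S₀)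
    have hθu : θ ≫ u = lift (fst G S₀) (snd G S₀ ≫ x) ≫ Φ := by
      apply CartesianMonoidalCategory.hom_ext <;> simp [θ, u, hΦ]
    have hθ : ∀ g : S₀ ⟶ G, lift g (𝟙 _) ≫ θ = lift (lift g x ≫ a.act) (𝟙 _) := fun g => by
      simp [θ, comp_lift, comp_lift_assoc]
    have hclosedpt : ∀ z : S₀ ⟶ C, IsClosed ({Groth.AlgGrp1.ptOf (lift z (𝟙 S₀))} : Set P.left) := fun z => by
      let s : Spec (CommRingCat.of K) ⟶ P.left := (lift z (𝟙 S₀)).left
      have hs : s ≫ gP = 𝟙 _ := congrArg CommaMorphism.left (lift_snd z (𝟙 S₀))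
      have : IsClosedImmersion (s ≫ gP) := by rw [hs]; infer_instance
      have : IsClosedImmersion s := IsClosedImmersion.of_comp s gP
      have h := s.isClosedEmbedding.isClosed_range
      rwa [Set.range_unique, show (default : ↥(Spec (CommRingCat.of K))) = IsLocalRing.closedPoint K from
        Subsingleton.elim _ _] at h
    have hdense : Dense (Set.range θ.left.base) := by
      have hirr : IsIrreducible (Set.range θ.left.base) := by
        rw [← Set.image_univ]
        exact (IrreducibleSpace.isIrreducible_univ _).image _ θ.left.continuous.continuousOn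
      refine dense_of_two_points hdimP hirr
        (p := Groth.AlgGrp1.ptOf (lift x (𝟙 S₀)))
        (q := Groth.AlgGrp1.ptOf (lift (lift (q ≫ fst G C) x ≫ a.act) (𝟙 S₀))) ?_ ?_ ?_ (hclosedpt x)
      · exact ⟨Groth.AlgGrp1.ptOf (lift (1 : S₀ ⟶ G) (𝟙 _)), by
          rw [← Groth.AlgGrp1.ptOf_comp, hθ, a.lift_one_act]⟩
      · exact ⟨Groth.AlgGrp1.ptOf (lift (q ≫ fst G C) (𝟙 _)), by rw [← Groth.AlgGrp1.ptOf_comp, hθ]⟩
      · intro e
        refine hMpt q hqM ?_
        have hlift : q = lift (q ≫ fst G C) x := by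
          apply CartesianMonoidalCategory.hom_ext
          · rw [lift_fst]
          · rw [lift_snd, hq]
        rw [hq, hlift]
        exact (point_eq_of_ptOf_eq _ _ e).symm
    obtain ⟨p, hpW, hp⟩ := (dense_iff_inter_open.1 hdense) (u.left.base ⁻¹' W) (hW.preimage u.left.continuous)
      ⟨Groth.AlgGrp1.ptOf (lift (r ≫ snd C C) (𝟙 S₀)), by
        have : lift (r ≫ snd C C) (𝟙 S₀) ≫ u = r := by
          apply CartesianMonoidalCategory.hom_ext
          · simp [u, x]; exact Category.id_comp _
          · simp [u, x]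
        rw [Set.mem_preimage, ← Groth.AlgGrp1.ptOf_comp, this]
        exact hrW⟩
    obtain ⟨g, rfl⟩ := hp
    refine hempty ⟨u.left.base (θ.left.base g), hpW, ⟨(lift (fst G S₀) (snd G S₀ ≫ x)).left.base g, ?_⟩⟩
    exact (congr(($hθu).left.base g)).symm

end Groth.Agent.S14634
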