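import Groth.Statements.S14637
import Groth.Agent.AlgGrp2.LineLaws

set_option autoImplicit false
universe u
open CategoryTheory MonoidalCategory CartesianMonoidalCategory MonObj GrpObj AlgebraicGeometry CategoryTheory.Limits
open AlgGrp

namespace Groth.Agent.S14637

section Coord

variable {k : Type u} [Field k] {G : Over (Spec (CommRingCat.of k))}
  (e : G.left ≅ Spec (CommRingCat.of (LaurentPolynomial k)))

/-- The coordinate of a point. -/
noncomputable abbrev coord {X : Over (Spec (CommRingCat.of k))} (x : X ⟶ G) : Γ(X.left, ⊤) :=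
  (x.left ≫ e.hom).appTop.hom
    ((Scheme.ΓSpecIso (CommRingCat.of (LaurentPolynomial k))).inv.hom (LaurentPolynomial.T 1))

theorem coord_comp {X Y : Over (Spec (CommRingCat.of k))} (c : Y ⟶ X) (x : X ⟶ G) :
    coord e (c ≫ x) = c.left.appTop.hom (coord e x) := by
  simp [coord, Scheme.Hom.comp_appTop]

/-- The structure map on global sections. -/
noncomputable def str (X : Over (Spec (CommRingCat.of k))) : k →+* Γ(X.left, ⊤) :=
  ((Scheme.ΓSpecIso (CommRingCat.of k)).inv ≫ X.hom.appTop).hom

theorem toSpecΓ_str (X : Over (Spec (CommRingCat.of k))) :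
    X.left.toSpecΓ ≫ Spec.map (CommRingCat.ofHom (str X)) = X.hom := by
  show X.left.toSpecΓ ≫ Spec.map ((Scheme.ΓSpecIso (CommRingCat.of k)).inv ≫ X.hom.appTop) = _
  rw [Spec.map_comp, ← Scheme.toSpecΓ_naturality_assoc, toSpecΓ_SpecMap_ΓSpecIso_inv,
    Category.comp_id]

variable (he : e.hom ≫ Spec.map (CommRingCat.ofHom (algebraMap k (LaurentPolynomial k))) = G.hom)

/-- The point with a given coordinate. -/
noncomputable def pt (X : Over (Spec (CommRingCat.of k))) (r : Γ(X.left, ⊤)ˣ) : X ⟶ G :=
  Over.homMk (X.left.toSpecΓ ≫ Spec.map (CommRingCat.ofHom (LaurentPolynomial.eval₂ (str X) r)) ≫ e.inv) (by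
    simp only [Category.assoc, ← he, Iso.inv_hom_id_assoc, ← Spec.map_comp, ← CommRingCat.ofHom_comp]
    refine (congrArg (fun f => X.left.toSpecΓ ≫ Spec.map (CommRingCat.ofHom f)) ?_).trans (toSpecΓ_str X)
    refine RingHom.ext fun c => ?_
    show LaurentPolynomial.eval₂ (str X) r (LaurentPolynomial.C c) = _
    rw [LaurentPolynomial.eval₂_C])

theorem coord_pt (X : Over (Spec (CommRingCat.of k))) (r : Γ(X.left, ⊤)ˣ) :
    coord e (pt e he X r) = r := by
  simp only [coord, pt, Over.homMk_left, Category.assoc, Iso.inv_hom_id, Category.comp_id,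
    Scheme.Hom.comp_appTop, CommRingCat.hom_comp, RingHom.comp_apply]
  have h := congr($(Scheme.ΓSpecIso_inv_naturality
    (CommRingCat.ofHom (LaurentPolynomial.eval₂ (str X) r))).hom (LaurentPolynomial.T 1))
  erw [← h, Scheme.toSpecΓ_appTop]
  simp only [CommRingCat.hom_comp, CommRingCat.hom_ofHom, RingHom.comp_apply]
  refine (Iso.inv_hom_id_apply (C := CommRingCat) _ _).trans ?_
  simp

include he in
theorem coord_injective {X : Over (Spec (CommRingCat.of k))} {x y : X ⟶ G}
    (h : coord e x = coord e y) : x = y := by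
  apply Over.OverMorphism.ext
  rw [← cancel_mono e.hom]
  apply ext_of_isAffine
  rw [← cancel_epi (Scheme.ΓSpecIso (CommRingCat.of (LaurentPolynomial k))).inv]
  refine CommRingCat.hom_ext (IsLocalization.ringHom_ext (Submonoid.powers (Polynomial.X : Polynomial k))
    (Polynomial.ringHom_ext (fun c => ?_) ?_))
  · have key : ∀ z : X ⟶ G, ((Scheme.ΓSpecIso (CommRingCat.of (LaurentPolynomial k))).inv ≫
        (z.left ≫ e.hom).appTop).hom (LaurentPolynomial.C c) = str X c := by
      intro z
      have hw : (z.left ≫ e.hom) ≫ Spec.map (CommRingCat.ofHom (algebraMap k (LaurentPolynomial k))) = X.hom := by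
        rw [Category.assoc, he, Over.w]
      have h2 := congr($(Scheme.ΓSpecIso_inv_naturality
        (CommRingCat.ofHom (algebraMap k (LaurentPolynomial k)))).hom c)
      show _ = X.hom.appTop.hom ((Scheme.ΓSpecIso (CommRingCat.of k)).inv.hom c)
      rw [← hw, Scheme.Hom.comp_appTop (z.left ≫ e.hom)]
      exact congrArg (z.left ≫ e.hom).appTop.hom h2
    show _ = _
    simp only [RingHom.comp_apply, LaurentPolynomial.algebraMap_eq_toLaurent, Polynomial.toLaurent_C]
    exact (key x).trans (key y).symm
  · simp only [RingHom.comp_apply, LaurentPolynomial.algebraMap_eq_toLaurent, Polynomial.toLaurent_X]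
    exact h

theorem isUnit_coord {X : Over (Spec (CommRingCat.of k))} (x : X ⟶ G) : IsUnit (coord e x) :=
  ((LaurentPolynomial.isUnit_T 1).map (Scheme.ΓSpecIso (CommRingCat.of (LaurentPolynomial k))).inv.hom).map
    (x.left ≫ e.hom).appTop.hom

/-- The isomorphism with the multiplicative group scheme. -/
noncomputable def isoGm : G ≅ Red.Gm (Spec (CommRingCat.of k)) where
  hom := Groth.Reductive.gmMk G (isUnit_coord e (𝟙 G)).unit
  inv := pt e he _ (Groth.Reductive.isUnit_gmFn (𝟙 (Red.Gm (Spec (CommRingCat.of k))))).unit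
  hom_inv_id := by
    apply coord_injective e he
    rw [coord_comp, coord_pt, IsUnit.unit_spec, ← Groth.Reductive.gmFn_comp, Category.comp_id,
      Groth.Reductive.gmFn_gmMk, IsUnit.unit_spec]
  inv_hom_id := by
    apply Groth.Reductive.gmFn_injective
    rw [Groth.Reductive.gmFn_comp, Groth.Reductive.gmFn_gmMk, IsUnit.unit_spec, ← coord_comp,
      Category.comp_id, coord_pt, IsUnit.unit_spec]

theorem gmFn_isoGm {X : Over (Spec (CommRingCat.of k))} (x : X ⟶ G) :
    Red.gmFn (x ≫ (isoGm e he).hom) = coord e x := by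
  show Red.gmFn (x ≫ Groth.Reductive.gmMk G _) = _
  rw [Groth.Reductive.gmFn_comp, Groth.Reductive.gmFn_gmMk, IsUnit.unit_spec, ← coord_comp,
    Category.comp_id]

end Coord

/-- Over a field k, the only structure of algebraic group on the punctured affine line Spec k[T, T⁻¹]
with unit element the point T = 1 is the multiplicative group. Precisely: let G be a k-group scheme
and e an isomorphism of k-schemes from the underlying scheme of G to Spec k[T, T⁻¹] under which the
unit section has T-coordinate 1; then for every k-scheme S and all S-valued points g, h of G, the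
T-coordinate of g · h (the pull-back of the global function T along the point composed with e) is
the product of the T-coordinates of g and of h. -/
theorem result (k : Type u) [Field k]
    (G : Over (Spec (CommRingCat.of k))) [GrpObj G]
    (e : G.left ≅ Spec (CommRingCat.of (LaurentPolynomial k)))
    (he : e.hom ≫ Spec.map (CommRingCat.ofHom (algebraMap k (LaurentPolynomial k))) = G.hom)
    (hunit : ((η[G]).left ≫ e.hom).appTop.hom ((Scheme.ΓSpecIso (CommRingCat.of (LaurentPolynomial k))).inv.hom (LaurentPolynomial.T 1)) = 1)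
    (S : Over (Spec (CommRingCat.of k))) (g h : S ⟶ G) :
    ((g * h).left ≫ e.hom).appTop.hom ((Scheme.ΓSpecIso (CommRingCat.of (LaurentPolynomial k))).inv.hom (LaurentPolynomial.T 1)) =
      (g.left ≫ e.hom).appTop.hom ((Scheme.ΓSpecIso (CommRingCat.of (LaurentPolynomial k))).inv.hom (LaurentPolynomial.T 1)) * (h.left ≫ e.hom).appTop.hom ((Scheme.ΓSpecIso (CommRingCat.of (LaurentPolynomial k))).inv.hom (LaurentPolynomial.T 1)) := by
  let E := isoGm e he
  have hone : (GrpObj.ofIso E).one = η[Red.Gm (Spec (CommRingCat.of k))] := by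
    show η[G] ≫ E.hom = _
    apply Groth.Reductive.gmFn_injective
    rw [gmFn_isoGm e he]
    refine hunit.trans ?_
    rw [← Groth.Reductive.gmFn_one (X := 𝟙_ (Over (Spec (CommRingCat.of k))))
      (S := Spec (CommRingCat.of k)), Hom.one_def, toUnit_unique (toUnit _) (𝟙 _), Category.id_comp]
  have hmul : (E.inv ⊗ₘ E.inv) ≫ μ[G] ≫ E.hom = μ[Red.Gm (Spec (CommRingCat.of k))] :=
    Groth.AlgGrp2.LineLaws.gm_mul_unique (GrpObj.ofIso E) inferInstance hone
  show coord e (g * h) = coord e g * coord e h
  rw [← gmFn_isoGm e he, ← gmFn_isoGm e he g, ← gmFn_isoGm e he h, ← Groth.Reductive.gmFn_mul]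
  refine congrArg Red.gmFn ?_
  rw [Hom.mul_def, Hom.mul_def, ← hmul]
  simp [E]

end Groth.Agent.S14637
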