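import Groth.Statements.S14638
import Groth.Agent.AlgGrp1.KPoints
import Groth.Agent.AlgGrp1.Orbit

set_option autoImplicit false
universe u
open CategoryTheory MonoidalCategory CartesianMonoidalCategory MonObj GrpObj AlgebraicGeometry CategoryTheory.Limits
open AlgGrp

namespace Groth.Agent.S14638

/-- Over a field k, let G be a smooth k-group scheme of finite type acting on a variety X (a separated,
geometrically integral k-scheme of finite type). Then X is almost homogeneous, i.e. the graph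
morphism G × X → X × X, (g, x) ↦ (x, g·x), is dominant, if and only if there is a nonempty open
subscheme U of X which is G-stable (the action restricts to an action on U) and homogeneous (the
graph morphism G × U → U × U is surjective). Moreover there is at most one such open subscheme U
(the open orbit). -/
theorem result (k : Type u) [Field k]
    (G X : Over (Spec (CommRingCat.of k))) [GrpObj G] [Smooth G.hom] [QuasiCompact G.hom]
    [IsSeparated X.hom] [LocallyOfFiniteType X.hom] [QuasiCompact X.hom] [GeometricallyIntegral X.hom]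
    (a : AlgGrp.Action G X) :
    (IsDominant (CartesianMonoidalCategory.lift (CartesianMonoidalCategory.snd G X) a.act).left ↔
      ∃ U : X.left.Opens, (U : Set ↥X.left).Nonempty ∧
        ∃ b : AlgGrp.Action G (Over.mk (U.ι ≫ X.hom)),
          (G ◁ (Over.homMk U.ι rfl : Over.mk (U.ι ≫ X.hom) ⟶ X)) ≫ a.act = b.act ≫ Over.homMk U.ι rfl ∧
          Surjective (CartesianMonoidalCategory.lift (CartesianMonoidalCategory.snd G (Over.mk (U.ι ≫ X.hom))) b.act).left) ∧
    ∀ U U' : X.left.Opens,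
      ((U : Set ↥X.left).Nonempty ∧ ∃ b : AlgGrp.Action G (Over.mk (U.ι ≫ X.hom)),
          (G ◁ (Over.homMk U.ι rfl : Over.mk (U.ι ≫ X.hom) ⟶ X)) ≫ a.act = b.act ≫ Over.homMk U.ι rfl ∧
          Surjective (CartesianMonoidalCategory.lift (CartesianMonoidalCategory.snd G (Over.mk (U.ι ≫ X.hom))) b.act).left) →
      ((U' : Set ↥X.left).Nonempty ∧ ∃ b' : AlgGrp.Action G (Over.mk (U'.ι ≫ X.hom)),
          (G ◁ (Over.homMk U'.ι rfl : Over.mk (U'.ι ≫ X.hom) ⟶ X)) ≫ a.act = b'.act ≫ Over.homMk U'.ι rfl ∧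
          Surjective (CartesianMonoidalCategory.lift (CartesianMonoidalCategory.snd G (Over.mk (U'.ι ≫ X.hom))) b'.act).left) →
      U = U' := by
  classical
  let K := AlgebraicClosure k
  set Φ : G ⊗ X ⟶ X ⊗ X := CartesianMonoidalCategory.lift (CartesianMonoidalCategory.snd G X) a.act with hΦ
  have : LocallyOfFiniteType G.hom := inferInstance
  have : LocallyOfFiniteType (G ⊗ X).hom :=
    inferInstanceAs (LocallyOfFiniteType (pullback.fst G.hom X.hom ≫ G.hom))
  have : LocallyOfFiniteType (X ⊗ X).hom :=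
    inferInstanceAs (LocallyOfFiniteType (pullback.fst X.hom X.hom ≫ X.hom))
  have : QuasiCompact (G ⊗ X).hom :=
    inferInstanceAs (QuasiCompact (pullback.fst G.hom X.hom ≫ G.hom))
  have : QuasiCompact (X ⊗ X).hom :=
    inferInstanceAs (QuasiCompact (pullback.fst X.hom X.hom ≫ X.hom))
  have : IrreducibleSpace X.left :=
    GeometricallyIrreducible.irreducibleSpace_of_subsingleton (f := X.hom)
  have : IrreducibleSpace (X ⊗ X).left := inferInstanceAs (IrreducibleSpace ↥(pullback X.hom X.hom))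
  have horb : ∀ (x z : Groth.AlgGrp1.specAlg k K ⟶ X), Groth.AlgGrp1.ptOf (lift x z) ∈ Set.range Φ.left.base →
      ∃ g : Groth.AlgGrp1.specAlg k K ⟶ G, lift g x ≫ a.act = z := by
    intro x z ⟨q, hq⟩
    obtain ⟨p, hp, -⟩ := Groth.AlgGrp1.exists_point_lift Φ (lift x z) ⊤ ⟨q, trivial, hq⟩
    refine ⟨p ≫ fst G X, ?_⟩
    have h1 := congrArg (· ≫ fst X X) hp
    have h2 := congrArg (· ≫ snd X X) hp
    simp only [hΦ, Category.assoc, lift_fst, lift_snd] at h1 h2
    rw [← h1, ← comp_lift_assoc, lift_fst_snd, Category.id_comp, h2]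
  -- stable opens are stable on points
  have hstab : ∀ (U : X.left.Opens), (∃ b : AlgGrp.Action G (Over.mk (U.ι ≫ X.hom)),
      (G ◁ (Over.homMk U.ι rfl : Over.mk (U.ι ≫ X.hom) ⟶ X)) ≫ a.act = b.act ≫ Over.homMk U.ι rfl) →
      ∀ (g : Groth.AlgGrp1.specAlg k K ⟶ G) (x : Groth.AlgGrp1.specAlg k K ⟶ X),
        Groth.AlgGrp1.ptOf x ∈ U → Groth.AlgGrp1.ptOf (lift g x ≫ a.act) ∈ U := by
    rintro U ⟨b, hb⟩ g x hx
    let j : Over.mk (U.ι ≫ X.hom) ⟶ X := Over.homMk U.ι rfl
    have : LocallyOfFiniteType (Over.mk (U.ι ≫ X.hom)).hom := inferInstanceAs (LocallyOfFiniteType (U.ι ≫ X.hom))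
    obtain ⟨x', hx', -⟩ := Groth.AlgGrp1.exists_point_lift j x ⊤ ⟨⟨_, hx⟩, trivial, rfl⟩
    have : lift g x ≫ a.act = (lift g x' ≫ b.act) ≫ j := by
      rw [Category.assoc, ← hb, ← hx']
      simp [j]
    rw [this, Groth.AlgGrp1.ptOf_comp]
    exact (Groth.AlgGrp1.ptOf (lift g x' ≫ b.act) : U).2
  have hhom : ∀ (U : X.left.Opens), (∃ b : AlgGrp.Action G (Over.mk (U.ι ≫ X.hom)),
      (G ◁ (Over.homMk U.ι rfl : Over.mk (U.ι ≫ X.hom) ⟶ X)) ≫ a.act = b.act ≫ Over.homMk U.ι rfl ∧
          Surjective (CartesianMonoidalCategory.lift (CartesianMonoidalCategory.snd G (Over.mk (U.ι ≫ X.hom))) b.act).left) →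
      ∀ (x y : Groth.AlgGrp1.specAlg k K ⟶ X), Groth.AlgGrp1.ptOf x ∈ U → Groth.AlgGrp1.ptOf y ∈ U →
        Groth.AlgGrp1.ptOf (lift x y) ∈ Set.range Φ.left.base := by
    rintro U ⟨b, hb, hs⟩ x y hx hy
    let j : Over.mk (U.ι ≫ X.hom) ⟶ X := Over.homMk U.ι rfl
    have : LocallyOfFiniteType (Over.mk (U.ι ≫ X.hom)).hom := inferInstanceAs (LocallyOfFiniteType (U.ι ≫ X.hom))
    obtain ⟨x', hx', -⟩ := Groth.AlgGrp1.exists_point_lift j x ⊤ ⟨⟨_, hx⟩, trivial, rfl⟩
    obtain ⟨y', hy', -⟩ := Groth.AlgGrp1.exists_point_lift j y ⊤ ⟨⟨_, hy⟩, trivial, rfl⟩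
    obtain ⟨q, hq⟩ := (lift (snd G (Over.mk (U.ι ≫ X.hom))) b.act).left.surjective (Groth.AlgGrp1.ptOf (lift x' y'))
    have e : (G ◁ j) ≫ Φ = lift (snd G (Over.mk (U.ι ≫ X.hom))) b.act ≫ (j ⊗ₘ j) := by
      apply CartesianMonoidalCategory.hom_ext
      · simp [hΦ, j]
      · simp [hΦ, j, hb]
    refine ⟨(G ◁ j).left.base q, ?_⟩
    refine (congr(($e).left.base q)).trans ?_
    show (j ⊗ₘ j).left.base ((lift (snd G _) b.act).left.base q) = _
    rw [hq, ← Groth.AlgGrp1.ptOf_comp, lift_map, hx', hy']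
  refine ⟨⟨fun hd => ?_, fun ⟨U, hne, hU⟩ => ?_⟩, ?_⟩
  · have := Groth.AlgGrp1.isLocallyNoetherian_left (X ⊗ X)
    have : CompactSpace (X ⊗ X).left := QuasiCompact.compactSpace_of_compactSpace (X ⊗ X).hom
    have : AlgebraicGeometry.IsNoetherian (X ⊗ X).left := ⟨⟩
    have : CompactSpace (G ⊗ X).left := QuasiCompact.compactSpace_of_compactSpace (G ⊗ X).hom
    have := Groth.AlgGrp1.lfp_left Φ
    have : QuasiCompact (Φ.left ≫ (X ⊗ X).hom) := by rw [Over.w]; infer_instance
    have : QuasiCompact Φ.left := QuasiCompact.of_comp _ (X ⊗ X).hom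
    have hC : Topology.IsConstructible (Set.range Φ.left.base) := by
      rw [show Set.range Φ.left.base = Φ.left.base '' Set.univ from Set.image_univ.symm]
      exact Φ.left.isConstructible_image Topology.IsConstructible.univ
    have hdense : closure (Set.range Φ.left.base) = Set.univ := (IsDominant.denseRange (f := Φ.left)).closure_range
    obtain ⟨w, hw0, hw⟩ := Groth.AlgGrp1.nonempty_relInterior hC
      (closure_nonempty_iff.1 (hdense.symm ▸ Set.univ_nonempty))
    let W : (X ⊗ X).left.Opens :=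
      ⟨(closure (closure (Set.range Φ.left.base) \ Set.range Φ.left.base))ᶜ, isClosed_closure.isOpen_compl⟩
    have hW : ∀ z ∈ W, z ∈ Set.range Φ.left.base := fun z hz => by
      by_contra h
      exact hz (subset_closure ⟨hdense.symm ▸ Set.mem_univ z, h⟩)
    let V : X.left.Opens := ⟨(fst X X).left.base '' W, (pullback.fst X.hom X.hom).isOpenMap _ W.2⟩
    let U : X.left.Opens := ⟨a.act.left.base '' ((snd G X).left.base ⁻¹' (V : Set X.left)),
      Groth.AlgGrp1.isOpenMap_act a _ (V.2.preimage (snd G X).left.continuous)⟩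
    have hmemU : ∀ y : Groth.AlgGrp1.specAlg k K ⟶ X, Groth.AlgGrp1.ptOf y ∈ U ↔
        ∃ g x, Groth.AlgGrp1.ptOf x ∈ V ∧ lift g x ≫ a.act = y := by
      intro y
      constructor
      · intro hy
        obtain ⟨p, hp, hpV⟩ := Groth.AlgGrp1.exists_point_lift a.act y ((snd G X).left ⁻¹ᵁ V) hy
        refine ⟨p ≫ fst G X, p ≫ snd G X, hpV, ?_⟩
        rw [← comp_lift_assoc, lift_fst_snd, Category.id_comp, hp]
      · rintro ⟨g, x, hx, rfl⟩
        refine ⟨Groth.AlgGrp1.ptOf (lift g x), ?_, rfl⟩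
        show (snd G X).left.base _ ∈ V
        rw [← Groth.AlgGrp1.ptOf_comp, lift_snd]
        exact hx
    have hVne : (V : Set X.left).Nonempty := ⟨_, w, hw, rfl⟩
    obtain ⟨x₀, hx₀⟩ := Groth.AlgGrp1.exists_point_mem_open (K := K) (V : Set X.left) V.2 hVne
    have htrans : ∀ y y' : Groth.AlgGrp1.specAlg k K ⟶ X, Groth.AlgGrp1.ptOf y ∈ U → Groth.AlgGrp1.ptOf y' ∈ U →
        ∃ g, lift g y ≫ a.act = y' := by
      intro y y' hy hy'
      obtain ⟨g, x, hx, rfl⟩ := (hmemU y).1 hy
      obtain ⟨g', x', hx', rfl⟩ := (hmemU y').1 hy'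
      obtain ⟨p, hp, hpW⟩ := Groth.AlgGrp1.exists_point_lift (fst X X) x W hx
      obtain ⟨p', hp', hpW'⟩ := Groth.AlgGrp1.exists_point_lift (fst X X) x' W hx'
      have e : ∀ (p : Groth.AlgGrp1.specAlg k K ⟶ X ⊗ X) x, p ≫ fst X X = x → lift x (p ≫ snd X X) = p :=
        fun p x h => by rw [← h, ← comp_lift, lift_fst_snd, Category.comp_id]
      obtain ⟨z, hz, hz'⟩ := Groth.AlgGrp1.exists_common_slice W x x' _ _
        (by rw [e p x hp]; exact hpW) (by rw [e p' x' hp']; exact hpW')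
      obtain ⟨c, hc⟩ := horb x z (hW _ hz)
      obtain ⟨c', hc'⟩ := horb x' z (hW _ hz')
      refine ⟨g' * c'⁻¹ * c * g⁻¹, ?_⟩
      rw [a.lift_mul_act, a.lift_mul_act, a.lift_mul_act, Groth.AlgGrp1.inv_act_cancel, hc, ← hc',
        Groth.AlgGrp1.inv_act_cancel]
    have hinv : a.act.left.base ⁻¹' (U : Set X.left) = (snd G X).left.base ⁻¹' (U : Set X.left) := by
      have h1 : ∀ q : Groth.AlgGrp1.specAlg k K ⟶ G ⊗ X,
          Groth.AlgGrp1.ptOf (q ≫ a.act) ∈ U ↔ Groth.AlgGrp1.ptOf (q ≫ snd G X) ∈ U := by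
        intro q
        set g := q ≫ fst G X
        set x := q ≫ snd G X
        have hq : q ≫ a.act = lift g x ≫ a.act := by
          rw [← comp_lift_assoc, lift_fst_snd, Category.id_comp]
        rw [hq, hmemU, hmemU]
        constructor
        · rintro ⟨c, v, hv, h⟩
          exact ⟨g⁻¹ * c, v, hv, by rw [a.lift_mul_act, h, Groth.AlgGrp1.inv_act_cancel]⟩
        · rintro ⟨c, v, hv, h⟩
          exact ⟨g * c, v, hv, by rw [a.lift_mul_act, h]⟩
      exact (Groth.AlgGrp1.subset_of_points _ (U.2.preimage a.act.left.continuous).isLocallyClosed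
          (U.2.preimage (snd G X).left.continuous) fun q hq => (h1 q).1 hq).antisymm
        (Groth.AlgGrp1.subset_of_points _ (U.2.preimage (snd G X).left.continuous).isLocallyClosed
          (U.2.preimage a.act.left.continuous) fun q hq => (h1 q).2 hq)
    let XU : Over (Spec (CommRingCat.of k)) := Over.mk (U.ι ≫ X.hom)
    let j : XU ⟶ X := Over.homMk U.ι rfl
    have : IsOpenImmersion j.left := inferInstanceAs (IsOpenImmersion U.ι)
    have : Mono j := Over.mono_of_mono_left j
    have hr : Set.range ((G ◁ j) ≫ a.act).left.base ⊆ Set.range U.ι.base := by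
      rintro _ ⟨q, rfl⟩
      have hs : (snd G X).left.base ((G ◁ j).left.base q) ∈ U := by
        rw [show (snd G X).left.base ((G ◁ j).left.base q) = U.ι.base ((snd G XU).left.base q) from
          congr(($(whiskerLeft_snd G j)).left.base q)]
        exact ((snd G XU).left.base q : U).2
      have hact : (G ◁ j).left.base q ∈ a.act.left.base ⁻¹' (U : Set X.left) := hinv ▸ hs
      exact ⟨⟨_, hact⟩, rfl⟩
    let bact : G ⊗ XU ⟶ XU := Over.homMk (IsOpenImmersion.lift U.ι ((G ◁ j) ≫ a.act).left hr) (by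
      show _ ≫ U.ι ≫ X.hom = _
      rw [← Category.assoc, IsOpenImmersion.lift_fac, Over.w])
    have hb : bact ≫ j = (G ◁ j) ≫ a.act := Over.OverMorphism.ext (IsOpenImmersion.lift_fac _ _ _)
    let b : AlgGrp.Action G XU :=
      { act := bact
        one_act := by
          rw [← cancel_mono j, Category.assoc, hb, ← whisker_exchange_assoc, a.one_act]
          simp
        mul_act := by
          rw [← cancel_mono j]
          simp only [Category.assoc, hb]
          rw [← whisker_exchange_assoc, a.mul_act, ← whiskerLeft_comp_assoc, hb]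
          simp }
    have : LocallyOfFiniteType XU.hom := inferInstanceAs (LocallyOfFiniteType (U.ι ≫ X.hom))
    have : QuasiCompact XU.hom := by
      have := Groth.AlgGrp1.isLocallyNoetherian_left X
      have : CompactSpace X.left := QuasiCompact.compactSpace_of_compactSpace X.hom
      have : AlgebraicGeometry.IsNoetherian X.left := ⟨⟩
      have : CompactSpace XU.left :=
        isCompact_iff_compactSpace.1 (TopologicalSpace.NoetherianSpace.isCompact (U : Set X.left))
      exact (quasiCompact_iff_compactSpace _).2 this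
    refine ⟨U, ?_, b, hb.symm, ?_⟩
    · exact ⟨_, (hmemU (lift 1 x₀ ≫ a.act)).2 ⟨1, x₀, hx₀, rfl⟩⟩
    let Ψ : G ⊗ XU ⟶ XU ⊗ XU := lift (snd G XU) bact
    show Surjective Ψ.left
    have : LocallyOfFiniteType (G ⊗ XU).hom :=
      inferInstanceAs (LocallyOfFiniteType (pullback.fst G.hom XU.hom ≫ G.hom))
    have : LocallyOfFiniteType (XU ⊗ XU).hom :=
      inferInstanceAs (LocallyOfFiniteType (pullback.fst XU.hom XU.hom ≫ XU.hom))
    have : QuasiCompact (G ⊗ XU).hom :=
      inferInstanceAs (QuasiCompact (pullback.fst G.hom XU.hom ≫ G.hom))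
    have : QuasiCompact (XU ⊗ XU).hom :=
      inferInstanceAs (QuasiCompact (pullback.fst XU.hom XU.hom ≫ XU.hom))
    have := Groth.AlgGrp1.isLocallyNoetherian_left (XU ⊗ XU)
    have : CompactSpace (XU ⊗ XU).left := QuasiCompact.compactSpace_of_compactSpace (XU ⊗ XU).hom
    have : AlgebraicGeometry.IsNoetherian (XU ⊗ XU).left := ⟨⟩
    have := Groth.AlgGrp1.lfp_left Ψ
    have : QuasiCompact (Ψ.left ≫ (XU ⊗ XU).hom) := by rw [Over.w]; infer_instance
    have : QuasiCompact Ψ.left := QuasiCompact.of_comp _ (XU ⊗ XU).hom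
    have hC' : Topology.IsConstructible (Set.range Ψ.left.base) := by
      rw [show Set.range Ψ.left.base = Ψ.left.base '' Set.univ from Set.image_univ.symm]
      exact Ψ.left.isConstructible_image Topology.IsConstructible.univ
    refine ⟨fun z => (Groth.AlgGrp1.eq_univ_of_points (K := K) hC' fun q => ?_).ge (Set.mem_univ z)⟩
    have hmem : ∀ x : Groth.AlgGrp1.specAlg k K ⟶ XU, Groth.AlgGrp1.ptOf (x ≫ j) ∈ U := fun x =>
      (Groth.AlgGrp1.ptOf x : U).2
    obtain ⟨g, hg⟩ := htrans _ _ (hmem (q ≫ fst XU XU)) (hmem (q ≫ snd XU XU))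
    refine ⟨Groth.AlgGrp1.ptOf (lift g (q ≫ fst XU XU)), ?_⟩
    rw [← Groth.AlgGrp1.ptOf_comp]
    congr 1
    apply CartesianMonoidalCategory.hom_ext
    · simp [Ψ]
    · rw [← cancel_mono j]
      simp [Ψ, hb]
      simpa using hg
  · obtain ⟨b, hb, hs⟩ := hU
    refine ⟨dense_iff_inter_open.2 fun O hO hOne => ?_⟩
    obtain ⟨v, hv⟩ := hne
    have hne' : ((fst X X).left.base ⁻¹' (U : Set X.left) ∩ (snd X X).left.base ⁻¹' (U : Set X.left)).Nonempty := by
      obtain ⟨z, hz1, hz2⟩ := Scheme.Pullback.exists_preimage_pullback (f := X.hom) (g := X.hom) v v rfl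
      exact ⟨z, show (fst X X).left.base z ∈ U from hz1.symm ▸ hv, show (snd X X).left.base z ∈ U from hz2.symm ▸ hv⟩
    have hop := (U.2.preimage (fst X X).left.continuous).inter (U.2.preimage (snd X X).left.continuous)
    obtain ⟨z, hz⟩ := (PreirreducibleSpace.isPreirreducible_univ (X := (X ⊗ X).left)) _ _ hO hop
      (by simpa using hOne) (by simpa using hne')
    obtain ⟨q, hqO, hq1, hq2⟩ := Groth.AlgGrp1.exists_point_mem_open (K := K) _ (hO.inter hop) ⟨z, hz.2⟩
    refine ⟨_, hqO, ?_⟩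
    have := hhom U ⟨b, hb, hs⟩ (q ≫ fst X X) (q ≫ snd X X) hq1 hq2
    rwa [← comp_lift, lift_fst_snd, Category.comp_id] at this
  · intro U U' ⟨hne, hU⟩ ⟨hne', hU'⟩
    have key : ∀ U U' : X.left.Opens, (U : Set X.left).Nonempty → (U' : Set X.left).Nonempty →
        (∃ b : AlgGrp.Action G (Over.mk (U.ι ≫ X.hom)),
          (G ◁ (Over.homMk U.ι rfl : Over.mk (U.ι ≫ X.hom) ⟶ X)) ≫ a.act = b.act ≫ Over.homMk U.ι rfl ∧
          Surjective (CartesianMonoidalCategory.lift (CartesianMonoidalCategory.snd G (Over.mk (U.ι ≫ X.hom))) b.act).left) →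
        (∃ b : AlgGrp.Action G (Over.mk (U'.ι ≫ X.hom)),
          (G ◁ (Over.homMk U'.ι rfl : Over.mk (U'.ι ≫ X.hom) ⟶ X)) ≫ a.act = b.act ≫ Over.homMk U'.ι rfl) →
        (U : Set X.left) ⊆ U' := by
      intro U U' hne hne' hU hU'
      obtain ⟨z, hz⟩ := (PreirreducibleSpace.isPreirreducible_univ (X := X.left)) _ _ U.2 U'.2
        (by simpa using hne) (by simpa using hne')
      obtain ⟨x, hxU, hxU'⟩ := Groth.AlgGrp1.exists_point_mem_open (K := K) _ (U.2.inter U'.2) ⟨z, hz.2⟩
      refine Groth.AlgGrp1.subset_of_points (K := K) _ U.2.isLocallyClosed U'.2 fun y hy => ?_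
      obtain ⟨g, rfl⟩ := horb x y (hhom U hU x y hxU hy)
      exact hstab U' hU' g x hxU'
    exact TopologicalSpace.Opens.ext ((key U U' hne hne' hU (hU'.imp fun _ h => h.1)).antisymm
      (key U' U hne' hne hU' (hU.imp fun _ h => h.1)))

end Groth.Agent.S14638
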