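import Groth.Statements.S14639
import Mathlib

set_option autoImplicit false
universe u
open Polynomial
open AlgGrp

namespace Groth.Agent.S14639

section Aux

open Polynomial

variable {k : Type u} [Field k] [CharZero k] {N : ℕ}

local notation "R" => AdjoinRoot ((Polynomial.X : Polynomial k) ^ (N + 1))
local notation "mk'" => AdjoinRoot.mk ((Polynomial.X : Polynomial k) ^ (N + 1))

theorem theta_mem (A : Subalgebra k R)
    (hA : ∀ (a : k) (σ : R →ₐ[k] R),
      σ (AdjoinRoot.root ((X : k[X]) ^ (N + 1))) * (1 + algebraMap k R a * AdjoinRoot.root ((X : k[X]) ^ (N + 1))) = AdjoinRoot.root ((X : k[X]) ^ (N + 1)) →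
        A.map σ ≤ A)
    (p : k[X]) (hp : mk' p ∈ A) : mk' (X ^ 2 * derivative p) ∈ A := by
  set u := AdjoinRoot.root ((X : k[X]) ^ (N + 1)) with hu
  have hu0 : u ^ (N + 1) = 0 := by
    rw [hu, ← AdjoinRoot.mk_X, ← map_pow, AdjoinRoot.mk_self]
  let W : R[X] := C u * ∑ i ∈ Finset.range (N + 2), (-(C u * X)) ^ i
  let P : R[X] := (p.map (algebraMap k R)).comp W
  have hW : ∀ t : R, W.eval t * (1 + t * u) = u := by
    intro t
    have h1 : (∑ i ∈ Finset.range (N + 2), (-(u * t)) ^ i) * (1 + t * u) = 1 - (-(u * t)) ^ (N + 2) := by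
      rw [← geom_sum_mul_neg (-(u * t)) (N + 2)]
      ring
    have h2 : (-(u * t)) ^ (N + 2) = 0 := by
      rw [neg_pow, mul_pow, pow_succ u (N + 1), hu0]
      ring
    simp only [W, eval_mul, eval_C, eval_finset_sum, eval_pow, eval_neg, eval_X]
    rw [mul_assoc, h1, h2, sub_zero, mul_one]
  have hWn : ∀ t : R, (W.eval t) ^ (N + 1) = 0 := fun t => by
    simp only [W, eval_mul, eval_C]
    rw [mul_pow, hu0, zero_mul]
  have hev : ∀ a : k, P.eval (algebraMap k R a) ∈ A := by
    intro a
    let w := W.eval (algebraMap k R a)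
    let σ : R →ₐ[k] R := AdjoinRoot.liftAlgHom ((X : k[X]) ^ (N + 1)) (Algebra.ofId k R) w (by
      rw [eval₂_pow, eval₂_X]
      exact hWn _)
    have hσu : σ u = w := AdjoinRoot.liftAlgHom_root _ _ _ _
    have := hA a σ (by rw [hσu]; exact hW _) ⟨_, hp, rfl⟩
    have hσ : σ (mk' p) = P.eval (algebraMap k R a) := by
      rw [← AdjoinRoot.aeval_eq, ← aeval_algHom_apply, hσu]
      simp [P, w, aeval_def, eval_map, eval_comp]
    exact hσ ▸ this
  have hcoeff : P.coeff 1 ∈ A := by
    by_contra hne
    obtain ⟨φ, hφ, hφA⟩ := Submodule.exists_dual_map_eq_bot_of_notMem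
      (show P.coeff 1 ∉ Subalgebra.toSubmodule A from hne) inferInstance
    refine hφ ?_
    let Q : k[X] := ∑ j ∈ P.support, C (φ (P.coeff j)) * X ^ j
    have hQ : Q = 0 := Polynomial.funext fun a => by
      have h0 : φ (P.eval (algebraMap k R a)) = 0 := by
        have hmem := Submodule.mem_map_of_mem (f := φ) (show P.eval (algebraMap k R a) ∈ Subalgebra.toSubmodule A from hev a)
        rw [hφA, Submodule.mem_bot] at hmem
        exact hmem
      rw [eval_zero, ← h0]
      conv_rhs => rw [eval_eq_sum, Polynomial.sum, map_sum]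
      simp only [Q, eval_finset_sum, eval_mul, eval_C, eval_pow, eval_X]
      refine Finset.sum_congr rfl fun j _ => ?_
      rw [← map_pow, mul_comm (P.coeff j), ← Algebra.smul_def, map_smul, smul_eq_mul, mul_comm]
    by_cases h1 : 1 ∈ P.support
    · have := congrArg (fun q : k[X] => q.coeff 1) hQ
      simpa [Q, coeff_C_mul, coeff_X_pow, h1] using this
    · rw [notMem_support_iff.1 h1, map_zero]
  have hW0 : W.eval 0 = u := by simpa using hW 0
  have hW1 : (derivative W).eval 0 = -(u * u) := by
    have h := congrArg (fun q : R[X] => q.coeff 1) (rfl : W = W)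
    rw [← coeff_zero_eq_eval_zero, coeff_derivative]
    simp only [W, coeff_C_mul, finset_sum_coeff]
    rw [Finset.sum_eq_single 1]
    · simp
    · intro i _ hi
      rw [← neg_mul, ← C_neg, mul_pow, ← C_pow, coeff_C_mul, coeff_X_pow, if_neg (Ne.symm hi), mul_zero]
    · simp
  have hP1 : P.coeff 1 = -(mk' (X ^ 2 * derivative p)) := by
    have : (derivative P).eval 0 = P.coeff 1 := by
      rw [← coeff_zero_eq_eval_zero, coeff_derivative]
      simp
    rw [← this]
    simp only [P, derivative_comp, eval_mul, eval_comp, derivative_map, eval_map, hW0, hW1]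
    rw [← aeval_def, AdjoinRoot.aeval_eq, map_mul, map_pow, AdjoinRoot.mk_X]
    ring
  rw [hP1] at hcoeff
  simpa using neg_mem hcoeff

end Aux

/-- Classification of the subalgebras of a truncated polynomial ring that are stable under the unipotent
substitutions, which is the algebraic step behind the classification of curves almost homogeneous
under the additive group in characteristic zero. Let k be a field of characteristic zero, N ≥ 0 and
R = k[u]/(u^(N+1)). The additive group acts on R through the substitutions u ↦ u/(1 + a u), a in k.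
If A is a k-subalgebra of R stable under all these substitutions (stated for every k-algebra
endomorphism σ of R with σ(u)(1 + a u) = u for some a in k), then there is an integer n with 1 ≤ n ≤
N + 1 such that A = k ⊕ (u^n): as a k-subspace, A is the span of 1 plus the ideal generated by u^n.
(In positive characteristic p and for N ≥ p + 1, the subalgebra generated by u^p is stable and not
of this form.) -/
theorem result (k : Type u) [Field k] [CharZero k]
    (N : ℕ) (A : Subalgebra k (AdjoinRoot ((Polynomial.X : Polynomial k) ^ (N + 1))))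
    (hA : ∀ (a : k) (σ : AdjoinRoot ((Polynomial.X : Polynomial k) ^ (N + 1)) →ₐ[k] AdjoinRoot ((Polynomial.X : Polynomial k) ^ (N + 1))),
      σ (AdjoinRoot.root ((Polynomial.X : Polynomial k) ^ (N + 1))) * (1 + algebraMap k (AdjoinRoot ((Polynomial.X : Polynomial k) ^ (N + 1))) a * AdjoinRoot.root ((Polynomial.X : Polynomial k) ^ (N + 1))) = AdjoinRoot.root ((Polynomial.X : Polynomial k) ^ (N + 1)) →
        A.map σ ≤ A) :
    ∃ n : ℕ, 1 ≤ n ∧ n ≤ N + 1 ∧
      Subalgebra.toSubmodule A =
        Submodule.span k {1} ⊔ (Ideal.span {AdjoinRoot.root ((Polynomial.X : Polynomial k) ^ (N + 1)) ^ n}).restrictScalars k := by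
  classical
  let mk := AdjoinRoot.mk ((Polynomial.X : Polynomial k) ^ (N + 1))
  let good : ℕ → Prop := fun m => 1 ≤ m ∧ ∃ p : Polynomial k, mk p ∈ A ∧
    (∀ j < m, p.coeff j = 0) ∧ p.coeff m ≠ 0
  have hex : ∃ m, good m := ⟨N + 1, by omega, Polynomial.X ^ (N + 1),
    by rw [show mk (Polynomial.X ^ (N + 1)) = 0 from AdjoinRoot.mk_self]; exact zero_mem A,
    fun j hj => by simp [Polynomial.coeff_X_pow, hj.ne], by simp⟩
  set n := Nat.find hex
  obtain ⟨hn1, p₀, hp₀, hp₀0, hp₀n⟩ := Nat.find_spec hex
  have hnN : n ≤ N + 1 := Nat.find_min' hex ⟨by omega, Polynomial.X ^ (N + 1),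
    by rw [show mk (Polynomial.X ^ (N + 1)) = 0 from AdjoinRoot.mk_self]; exact zero_mem A,
    fun j hj => by simp [Polynomial.coeff_X_pow, hj.ne], by simp⟩
  have hall : ∀ m, n ≤ m → good m := by
    intro m hm
    induction m, hm using Nat.le_induction with
    | base => exact ⟨hn1, p₀, hp₀, hp₀0, hp₀n⟩
    | succ m hm ih =>
      obtain ⟨hm1, p, hp, hp0, hpm⟩ := ih
      refine ⟨by omega, Polynomial.X ^ 2 * Polynomial.derivative p, theta_mem A hA p hp, fun j hj => ?_, ?_⟩
      · rcases j with _ | _ | j
        · simp [Polynomial.coeff_X_pow_mul']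
        · simp [Polynomial.coeff_X_pow_mul']
        · rw [Polynomial.coeff_X_pow_mul, Polynomial.coeff_derivative, hp0 (j + 1) (by omega), zero_mul]
      · obtain ⟨m', rfl⟩ : ∃ m', m = m' + 1 := ⟨m - 1, by omega⟩
        rw [Polynomial.coeff_X_pow_mul, Polynomial.coeff_derivative]
        exact mul_ne_zero hpm (by exact_mod_cast Nat.succ_ne_zero m')
  have hmem : ∀ d m, n ≤ m → N + 1 ≤ m + d → ∀ r, mk (Polynomial.X ^ m * r) ∈ A := by
    intro d
    induction d with
    | zero =>
      intro m _ hm r
      obtain ⟨e, rfl⟩ := Nat.exists_eq_add_of_le (show N + 1 ≤ m by omega)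
      rw [show (Polynomial.X : Polynomial k) ^ (N + 1 + e) * r = Polynomial.X ^ (N + 1) * (Polynomial.X ^ e * r)
          from by rw [pow_add, mul_assoc], map_mul,
        show mk (Polynomial.X ^ (N + 1)) = 0 from AdjoinRoot.mk_self, zero_mul]
      exact zero_mem A
    | succ d ih =>
      intro m hnm hm r
      obtain ⟨-, p, hp, hp0, hpm⟩ := hall m hnm
      let c := r.coeff 0 / p.coeff m
      have hdvd : Polynomial.X ^ (m + 1) ∣ Polynomial.X ^ m * r - Polynomial.C c * p := by
        rw [Polynomial.X_pow_dvd_iff]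
        intro j hj
        rw [Polynomial.coeff_sub, Polynomial.coeff_C_mul, Polynomial.coeff_X_pow_mul']
        rcases Nat.lt_or_ge j m with h | h
        · simp [hp0 j h, Nat.not_le.2 h]
        · obtain rfl : j = m := by omega
          simp [c, hpm]
      obtain ⟨q, hq⟩ := hdvd
      have := add_mem (ih (m + 1) (by omega) (by omega) q) (A.smul_mem hp c)
      rwa [← hq, map_sub, Polynomial.C_mul', show mk (c • p) = c • mk p from
        map_smul (AdjoinRoot.mkₐ _) c p, sub_add_cancel] at this
  refine ⟨n, hn1, hnN, le_antisymm (fun x hx => ?_) (sup_le ?_ ?_)⟩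
  · obtain ⟨p, rfl⟩ := AdjoinRoot.mk_surjective x
    refine Submodule.mem_sup.2 ⟨algebraMap k _ (p.coeff 0), ?_, mk (p - Polynomial.C (p.coeff 0)), ?_, ?_⟩
    · rw [Algebra.algebraMap_eq_smul_one]
      exact Submodule.smul_mem _ _ (Submodule.mem_span_singleton_self 1)
    · obtain ⟨q, hq⟩ : Polynomial.X ^ n ∣ p - Polynomial.C (p.coeff 0) := by
        rw [Polynomial.X_pow_dvd_iff]
        intro j hj
        induction j using Nat.strong_induction_on with
        | _ j ih =>
          by_contra hne
          rcases Nat.eq_zero_or_pos j with rfl | hpos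
          · simp at hne
          · refine Nat.find_min hex hj ⟨hpos, p - Polynomial.C (p.coeff 0), ?_, fun i hi => ih i hi (by omega), hne⟩
            rw [map_sub]
            exact sub_mem hx (A.algebraMap_mem _)
      rw [hq, map_mul, map_pow, show mk Polynomial.X = AdjoinRoot.root _ from AdjoinRoot.mk_X]
      exact Ideal.mul_mem_right _ _ (Ideal.subset_span rfl)
    · rw [map_sub]
      exact add_sub_cancel _ _
  · rw [Submodule.span_singleton_le_iff_mem]
    exact one_mem A
  · intro x hx
    obtain ⟨y, rfl⟩ := Ideal.mem_span_singleton'.1 hx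
    obtain ⟨q, rfl⟩ := AdjoinRoot.mk_surjective y
    have := hmem (N + 1) n le_rfl (by omega) q
    rwa [map_mul, map_pow, show mk Polynomial.X = AdjoinRoot.root _ from AdjoinRoot.mk_X, mul_comm] at this

end Groth.Agent.S14639
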