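import Groth.Statements.S14641
import Groth.Agent.AlgGrp1.Act

set_option autoImplicit false
universe u
open CategoryTheory MonoidalCategory CartesianMonoidalCategory MonObj GrpObj AlgebraicGeometry CategoryTheory.Limits
open AlgGrp

namespace Groth.Agent.S14641

/-- Over a field k, let G be a k-group scheme of finite type, i : H → G a closed subgroup scheme, and
(Q, o) the quotient G/H: a k-scheme with a G-action and a rational point o exhibiting it as the
quotient (orbit map flat and surjective, G × H ≅ G ×_Q G). Let n : N → G be a closed subgroup scheme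
which is the kernel of the action of G on Q, i.e. for every k-scheme T, a T-point g of G factors
through N exactly when g acts as the identity on Q_T (on all points of Q over T-schemes). Then N is
normal in G and contained in H, and N is the largest such subgroup: every closed subgroup scheme N'
of G which is normal in G and factors through H factors through N. -/
theorem result (k : Type u) [Field k]
    (G H Q N : Over (Spec (CommRingCat.of k))) [GrpObj G] [LocallyOfFiniteType G.hom] [QuasiCompact G.hom]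
    [GrpObj H] (i : H ⟶ G) [IsMonHom i] [IsClosedImmersion i.left]
    (a : AlgGrp.Action G Q) (o : 𝟙_ (Over (Spec (CommRingCat.of k))) ⟶ Q) (hQ : AGF.IsQuotient i Q a o)
    [GrpObj N] (n : N ⟶ G) [IsMonHom n] [IsClosedImmersion n.left]
    (hN : ∀ (T : Over (Spec (CommRingCat.of k))) (g : T ⟶ G),
      (∃ m : T ⟶ N, m ≫ n = g) ↔
        ∀ (T' : Over (Spec (CommRingCat.of k))) (s : T' ⟶ T) (x : T' ⟶ Q),
          CartesianMonoidalCategory.lift (s ≫ g) x ≫ a.act = x) :
    AlgGrp.IsNormalHom n ∧ (∃ f : N ⟶ H, f ≫ i = n) ∧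
      ∀ (N' : Over (Spec (CommRingCat.of k))) [GrpObj N'] (n' : N' ⟶ G) [IsMonHom n'] [IsClosedImmersion n'.left],
        AlgGrp.IsNormalHom n' → (∃ f : N' ⟶ H, f ≫ i = n') → ∃ f' : N' ⟶ N, f' ≫ n = n' := by
  obtain ⟨hlft, hflat, hsurj, hsq⟩ := hQ
  have hπ := Groth.AlgGrp1.isCover (a.orbitMap o)
  have hfix : ∀ {T : Over (Spec (CommRingCat.of k))} (h : T ⟶ H),
      lift (h ≫ i) (toUnit T ≫ o) ≫ a.act = toUnit T ≫ o := by
    intro T h
    have e := congrArg (fun r => lift (1 : T ⟶ G) h ≫ r) hsq.w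
    simp only [← Category.assoc] at e
    rw [lift_fst, lift_whiskerLeft, ← Hom.mul_def, _root_.one_mul, Groth.AlgGrp1.comp_orbit,
      Groth.AlgGrp1.comp_orbit, a.lift_one_act] at e
    exact e.symm
  have hNact : ∀ {T : Over (Spec (CommRingCat.of k))} (m : T ⟶ N) (x : T ⟶ Q),
      lift (m ≫ n) x ≫ a.act = x := by
    intro T m x
    simpa using (hN T (m ≫ n)).1 ⟨m, rfl⟩ T (𝟙 T) x
  refine ⟨fun T g m => ?_, ?_, ?_⟩
  · obtain ⟨m', hm'⟩ := (hN T (g * (m ≫ n) * g⁻¹)).2 fun T' s x => by
      rw [MonObj.comp_mul, MonObj.comp_mul, GrpObj.comp_inv, a.lift_mul_act, a.lift_mul_act,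
        ← Category.assoc s m n, hNact, Groth.AlgGrp1.act_inv_cancel]
    exact ⟨m', hm'.symm⟩
  · have e : (1 : N ⟶ G) ≫ a.orbitMap o = n ≫ a.orbitMap o := by
      rw [Groth.AlgGrp1.comp_orbit, Groth.AlgGrp1.comp_orbit, a.lift_one_act]
      simpa using (hNact (𝟙 N) (toUnit N ≫ o)).symm
    let p := hsq.lift 1 n e
    refine ⟨p ≫ snd G H, ?_⟩
    have e1 : p ≫ fst G H = 1 := hsq.lift_fst _ _ _
    have e2 : p ≫ (G ◁ i) ≫ μ[G] = n := hsq.lift_snd _ _ _
    rw [← lift_comp_fst_snd p, lift_whiskerLeft_assoc, ← Hom.mul_def, e1, _root_.one_mul] at e2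
    exact e2
  · intro N' _ n' _ _ hn' ⟨f, hf⟩
    refine (hN N' n').2 fun T s x => ?_
    obtain ⟨T', c, g, hc, hg⟩ := hπ.exists_lift x
    obtain ⟨m', hm'⟩ := hn' T' g⁻¹ (c ≫ s)
    rw [_root_.inv_inv, ← hf] at hm'
    apply hc.cancel
    rw [Groth.AlgGrp1.comp_act, ← hg, Groth.AlgGrp1.comp_orbit, ← a.lift_mul_act]
    have : (c ≫ s ≫ n') * g = g * ((m' ≫ f) ≫ i) := by
      rw [Category.assoc, ← hm', hf, Category.assoc]
      group
    rw [this, a.lift_mul_act, hfix]

end Groth.Agent.S14641
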