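import Groth.Statements.S14643
import Groth.Agent.AlgGrp1.Act

set_option autoImplicit false
universe u
open CategoryTheory MonoidalCategory CartesianMonoidalCategory MonObj GrpObj AlgebraicGeometry CategoryTheory.Limits
open AlgGrp

namespace Groth.Agent.S14643

/-- Over a field k, let G be a smooth k-group scheme of finite type acting on a variety X (a separated,
geometrically integral k-scheme of finite type). Let n : N → G be the kernel of the action: a closed
subgroup scheme such that, for every k-scheme T, a T-point of G factors through N exactly when it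
acts as the identity on all points of X over T-schemes. Let π : G → Q be a homomorphism onto a
k-group scheme of finite type which is flat and surjective with kernel N (the quotient G/N). Then
there is a unique action of Q on X inducing the given one along π; this action of Q is faithful (a
T-point of Q acting as the identity on all points of X over T-schemes is the unit); and X is
homogeneous under G (surjective graph morphism (g, x) ↦ (x, g·x)) if and only if it is homogeneous
under Q, and almost homogeneous under G (dominant graph morphism) if and only if it is almost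
homogeneous under Q. -/
theorem result (k : Type u) [Field k]
    (G N Q X : Over (Spec (CommRingCat.of k))) [GrpObj G] [Smooth G.hom] [QuasiCompact G.hom]
    [IsSeparated X.hom] [LocallyOfFiniteType X.hom] [QuasiCompact X.hom] [GeometricallyIntegral X.hom] (a : AlgGrp.Action G X)
    [GrpObj N] (n : N ⟶ G) [IsMonHom n] [IsClosedImmersion n.left]
    (hN : ∀ (T : Over (Spec (CommRingCat.of k))) (g : T ⟶ G),
      (∃ m : T ⟶ N, m ≫ n = g) ↔
        ∀ (T' : Over (Spec (CommRingCat.of k))) (s : T' ⟶ T) (x : T' ⟶ X), CartesianMonoidalCategory.lift (s ≫ g) x ≫ a.act = x)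
    [GrpObj Q] [LocallyOfFiniteType Q.hom] [QuasiCompact Q.hom] (π : G ⟶ Q) [IsMonHom π] [Flat π.left] [Surjective π.left]
    (hker : AlgGrp.IsKernel n π) :
    (∃! b : AlgGrp.Action Q X, (π ▷ X) ≫ b.act = a.act) ∧
    ∀ b : AlgGrp.Action Q X, (π ▷ X) ≫ b.act = a.act →
      (∀ (T : Over (Spec (CommRingCat.of k))) (q : T ⟶ Q),
        (∀ (T' : Over (Spec (CommRingCat.of k))) (s : T' ⟶ T) (x : T' ⟶ X), CartesianMonoidalCategory.lift (s ≫ q) x ≫ b.act = x) → q = 1) ∧
      (Surjective (CartesianMonoidalCategory.lift (CartesianMonoidalCategory.snd G X) a.act).left ↔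
        Surjective (CartesianMonoidalCategory.lift (CartesianMonoidalCategory.snd Q X) b.act).left) ∧
      (IsDominant (CartesianMonoidalCategory.lift (CartesianMonoidalCategory.snd G X) a.act).left ↔
        IsDominant (CartesianMonoidalCategory.lift (CartesianMonoidalCategory.snd Q X) b.act).left) := by
  have hπ := Groth.AlgGrp1.isCover π
  have hπX := hπ.whiskerRight X
  have key : ∀ {T : Over (Spec (CommRingCat.of k))} (g g' : T ⟶ G) (x : T ⟶ X),
      g ≫ π = g' ≫ π → lift g x ≫ a.act = lift g' x ≫ a.act := by
    intro T g g' x h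
    rw [Groth.AlgGrp1.act_eq_iff]
    have := (hN T (g'⁻¹ * g)).1 (Groth.AlgGrp1.IsKernel.exists_lift hker _ (by
      rw [MonObj.mul_comp, GrpObj.inv_comp, h, inv_mul_cancel])) T (𝟙 T) x
    simpa using this
  obtain ⟨b0, hb0⟩ := hπX.exists_desc a.act (fun T p p' h => by
    rw [← lift_comp_fst_snd p, ← lift_comp_fst_snd p'] at h ⊢
    simp only [lift_whiskerRight] at h
    have h1 := congrArg (fun r => r ≫ fst Q X) h
    have h2 := congrArg (fun r => r ≫ snd Q X) h
    simp only [lift_fst, lift_snd] at h1 h2
    rw [← h2]
    exact key _ _ _ h1)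
  have hb0' : ∀ {T : Over (Spec (CommRingCat.of k))} (g : T ⟶ G) (x : T ⟶ X),
      lift (g ≫ π) x ≫ b0 = lift g x ≫ a.act := by
    intro T g x
    rw [← hb0, lift_whiskerRight_assoc]
  let b : AlgGrp.Action Q X :=
    { act := b0
      one_act := by
        rw [← IsMonHom.one_hom (f := π), comp_whiskerRight, Category.assoc, hb0, a.one_act]
      mul_act := by
        apply AlgGrp.Action.hom_ext_lift₃
        intro T q q' x
        obtain ⟨T1, c1, g, hc1, hg⟩ := hπ.exists_lift q
        obtain ⟨T2, c2, g', hc2, hg'⟩ := hπ.exists_lift (c1 ≫ q')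
        apply (hc2.comp hc1).cancel
        simp only [lift_whiskerRight_assoc, lift_lift_associator_hom_assoc, lift_whiskerLeft_assoc,
          comp_lift_assoc, comp_lift, ← Hom.mul_def, MonObj.comp_mul, Category.assoc]
        rw [← hg', ← hg, ← Category.assoc c2, ← MonObj.mul_comp, hb0', hb0', hb0', a.lift_mul_act] }
  refine ⟨⟨b, hb0, fun b' hb' => ?_⟩, fun b' hb' => ⟨?_, ?_, ?_⟩⟩
  · exact Groth.AlgGrp1.action_ext (hπX.cancel (hb'.trans hb0.symm))
  · intro T q hq
    obtain ⟨T', c, g, hc, hg⟩ := hπ.exists_lift q
    obtain ⟨m, hm⟩ := (hN T' g).2 fun T'' s x => by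
      rw [← hb', lift_whiskerRight_assoc, Category.assoc, hg, ← Category.assoc, hq]
    apply hc.cancel
    rw [← hg, ← hm, Category.assoc, Groth.AlgGrp1.IsKernel.comp_eq_one hker, MonObj.comp_one, MonObj.comp_one]
  all_goals
    have e : lift (snd G X) a.act = (π ▷ X) ≫ lift (snd Q X) b'.act := by
      rw [comp_lift, hb', whiskerRight_snd]
    rw [e, Over.comp_left]
    have := hπX.surj
  · exact ⟨fun h => Surjective.of_comp (π ▷ X).left _, fun h => inferInstance⟩
  · exact ⟨fun h => IsDominant.of_comp (π ▷ X).left _, fun h => inferInstance⟩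

end Groth.Agent.S14643
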