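import Groth.Statements.S14645
import Groth.Agent.AlgGrp1.Homogeneous

set_option autoImplicit false
universe u
open CategoryTheory MonoidalCategory CartesianMonoidalCategory MonObj GrpObj AlgebraicGeometry CategoryTheory.Limits
open AlgGrp

namespace Groth.Agent.S14645

theorem exists_lift_of_surjective {k : Type u} [Field k] (K : Type u) [Field K] [Algebra k K] [IsAlgClosed K]
    {X Y : Over (Spec (CommRingCat.of k))} [LocallyOfFiniteType X.hom] (f : X ⟶ Y) [Surjective f.left]
    (y : Groth.AlgGrp1.specAlg k K ⟶ Y) : ∃ x : Groth.AlgGrp1.specAlg k K ⟶ X, x ≫ f = y := by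
  have : LocallyOfFiniteType (f.left ≫ Y.hom) := by rw [Over.w]; infer_instance
  have : LocallyOfFiniteType f.left := locallyOfFiniteType_of_comp _ Y.hom
  let g : pullback f.left y.left ⟶ Spec (CommRingCat.of K) := pullback.snd f.left y.left
  have : LocallyOfFiniteType g := MorphismProperty.pullback_snd _ _ inferInstance
  have : Surjective g := MorphismProperty.pullback_snd _ _ inferInstance
  have : JacobsonSpace ↥(pullback f.left y.left) := LocallyOfFiniteType.jacobsonSpace g
  obtain ⟨p, -, hp⟩ := nonempty_inter_closedPoints (Z := (Set.univ : Set ↥(pullback f.left y.left)))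
    ⟨(g.surjective (IsLocalRing.closedPoint K)).choose, trivial⟩ isClosed_univ.isLocallyClosed
  let s : Spec (CommRingCat.of K) ⟶ X.left := pointOfClosedPoint g p hp ≫ pullback.fst f.left y.left
  have hs : s ≫ f.left = y.left := by
    show (pointOfClosedPoint g p hp ≫ pullback.fst f.left y.left) ≫ f.left = _
    rw [Category.assoc, pullback.condition]
    exact (Category.assoc _ _ _).symm.trans
      ((congrArg (· ≫ y.left) (pointOfClosedPoint_comp g p hp)).trans (Category.id_comp _))
  refine ⟨Over.homMk s ?_, Over.OverMorphism.ext hs⟩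
  rw [← Over.w f, ← Category.assoc, hs, Over.w y]

/-- Over a field k with algebraic closure K, let G be a smooth k-group scheme of finite type acting on a
variety X (a separated, geometrically integral k-scheme of finite type). Then X is homogeneous under
G, i.e. the graph morphism G × X → X × X, (g, x) ↦ (x, g·x), is surjective, if and only if the
abstract group G(K) of K-points over k acts transitively on the set X(K): for all K-points x, y of X
there is a K-point g of G with g · x = y. -/
theorem result (k : Type u) [Field k]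
    (G X : Over (Spec (CommRingCat.of k))) [GrpObj G] [Smooth G.hom] [QuasiCompact G.hom]
    [IsSeparated X.hom] [LocallyOfFiniteType X.hom] [QuasiCompact X.hom] [GeometricallyIntegral X.hom] (a : AlgGrp.Action G X)
    (K : Type u) [Field K] [Algebra k K] [IsAlgClosure k K] :
    Surjective (CartesianMonoidalCategory.lift (CartesianMonoidalCategory.snd G X) a.act).left ↔
      ∀ x y : Over.mk (Spec.map (CommRingCat.ofHom (algebraMap k K))) ⟶ X, ∃ g : Over.mk (Spec.map (CommRingCat.ofHom (algebraMap k K))) ⟶ G, CartesianMonoidalCategory.lift g x ≫ a.act = y := by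
  have : IsAlgClosed K := IsAlgClosure.isAlgClosed k
  have : LocallyOfFiniteType G.hom := inferInstance
  set Φ := CartesianMonoidalCategory.lift (CartesianMonoidalCategory.snd G X) a.act
  have : LocallyOfFiniteType (G ⊗ X).hom :=
    inferInstanceAs (LocallyOfFiniteType (pullback.fst G.hom X.hom ≫ G.hom))
  have : LocallyOfFiniteType (X ⊗ X).hom :=
    inferInstanceAs (LocallyOfFiniteType (pullback.fst X.hom X.hom ≫ X.hom))
  have : QuasiCompact (G ⊗ X).hom :=
    inferInstanceAs (QuasiCompact (pullback.fst G.hom X.hom ≫ G.hom))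
  have : QuasiCompact (X ⊗ X).hom :=
    inferInstanceAs (QuasiCompact (pullback.fst X.hom X.hom ≫ X.hom))
  constructor
  · intro h x y
    obtain ⟨p, hp⟩ := exists_lift_of_surjective K Φ (lift x y)
    refine ⟨p ≫ fst G X, ?_⟩
    have h1 := congrArg (· ≫ fst X X) hp
    have h2 := congrArg (· ≫ snd X X) hp
    simp only [Category.assoc, Φ, lift_fst, lift_snd] at h1 h2
    rw [← h1, ← comp_lift_assoc, lift_fst_snd, Category.id_comp, h2]
  · intro h
    have := Groth.AlgGrp1.isLocallyNoetherian_left (X ⊗ X)
    have : CompactSpace (X ⊗ X).left := QuasiCompact.compactSpace_of_compactSpace (X ⊗ X).hom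
    have : AlgebraicGeometry.IsNoetherian (X ⊗ X).left := ⟨⟩
    have := Groth.AlgGrp1.lfp_left Φ
    have : QuasiCompact (Φ.left ≫ (X ⊗ X).hom) := by rw [Over.w]; infer_instance
    have : QuasiCompact Φ.left := QuasiCompact.of_comp _ (X ⊗ X).hom
    have hC : Topology.IsConstructible (Set.range Φ.left.base) := by
      rw [show Set.range Φ.left.base = Φ.left.base '' Set.univ from Set.image_univ.symm]
      exact Φ.left.isConstructible_image Topology.IsConstructible.univ
    have := LocallyOfFiniteType.jacobsonSpace (X ⊗ X).hom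
    refine ⟨fun z => ?_⟩
    by_contra hz
    obtain ⟨n, Z, hZ, he⟩ := Groth.SpectralTopology.exists_isLocallyClosed_pieces hC.compl
    obtain ⟨i, hi⟩ := Set.mem_iUnion.1 (he ▸ hz : z ∈ ⋃ i, Z i)
    obtain ⟨c, hc, hcc⟩ := nonempty_inter_closedPoints ⟨z, hi⟩ (hZ i)
    obtain ⟨q, hq⟩ := Groth.AlgGrp1.exists_point_over_closed K (X ⊗ X) c hcc
    obtain ⟨g, hg⟩ := h (q ≫ fst X X) (q ≫ snd X X)
    have hΦ : lift g (q ≫ fst X X) ≫ Φ = q := by
      apply CartesianMonoidalCategory.hom_ext
      · simp [Φ]
      · simp [Φ, hg]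
    have hmem : c ∈ (Set.range Φ.left.base)ᶜ := he ▸ Set.mem_iUnion.2 ⟨i, hc⟩
    exact hmem ⟨(lift g (q ≫ fst X X)).left.base (IsLocalRing.closedPoint K), by
      rw [← hq]
      exact congr(($hΦ).left.base (IsLocalRing.closedPoint K))⟩

end Groth.Agent.S14645
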