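import Groth.Statements.S1465
import Groth.Agent.SpecFerrand.RelQF

set_option autoImplicit false
universe u
open FlatMor

namespace Groth.Agent.S1465

open AlgebraicGeometry CategoryTheory Limits in
/-- Let i : Z → X be a closed immersion and j : Z → Y an integral morphism such that each fibre of j
lies in the preimage of an affine open of X. Let i' : Z' → X', j' : Z' → Y' and f : X' → X, g : Y' →
Y, h : Z' → Z form cartesian squares over i and j, with f, g, h separated and locally quasi-finite.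
Then the pushouts W of (i, j) and W' of (i', j') exist in the category of schemes, the induced W' →
W is separated and locally quasi-finite, and the squares comparing Y' → W', X' → W' with Y → W, X →
W are cartesian. -/
theorem result {X Y Z X' Y' Z' : Scheme.{u}}
    (i : Z ⟶ X) [IsClosedImmersion i] (j : Z ⟶ Y) [IsIntegralHom j]
    (h3 : ∀ y : Y, ∃ U : X.Opens, IsAffineOpen U ∧ j ⁻¹' {y} ⊆ (i ⁻¹ᵁ U : Set ↑Z))
    (i' : Z' ⟶ X') (j' : Z' ⟶ Y') (f : X' ⟶ X) (g : Y' ⟶ Y) (h : Z' ⟶ Z)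
    (hX : IsPullback h i' i f) (hY : IsPullback h j' j g)
    [IsSeparated f] [LocallyQuasiFinite f] [LocallyOfFiniteType f] [IsSeparated g] [LocallyQuasiFinite g] [LocallyOfFiniteType g]
    [IsSeparated h] [LocallyQuasiFinite h] [LocallyOfFiniteType h] :
    ∃ (W W' : Scheme.{u}) (a : Y ⟶ W) (b : X ⟶ W) (a' : Y' ⟶ W') (b' : X' ⟶ W') (k : W' ⟶ W),
      IsPushout j i a b ∧ IsPushout j' i' a' b' ∧ a' ≫ k = g ≫ a ∧ b' ≫ k = f ≫ b ∧
      IsSeparated k ∧ LocallyQuasiFinite k ∧ LocallyOfFiniteType k ∧ IsPullback g a' a k ∧ IsPullback f b' b k := by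
  haveI : IsClosedImmersion i' := MorphismProperty.of_isPullback hX inferInstance
  haveI : IsIntegralHom j' := MorphismProperty.of_isPullback hY inferInstance
  have hc : Groth.SpecFerrand.Glue.Covers i j := Groth.SpecFerrand.Glue.covers_of_fibres i j h3
  have hc' : Groth.SpecFerrand.Glue.Covers i' j' := Groth.SpecFerrand.Glue.covers_of_fibres i' j' fun y' => by
    obtain ⟨U, hU, hUy⟩ := h3 (g y')
    have hsub : i' '' (j' ⁻¹' {y'}) ⊆ (f ⁻¹ᵁ U : Set X') := by
      rintro _ ⟨z, hz, rfl⟩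
      show f (i' z) ∈ U
      rw [← Scheme.Hom.comp_apply, ← hX.w, Scheme.Hom.comp_apply]
      exact hUy (show j (h z) = g y' by rw [← Scheme.Hom.comp_apply, hY.w, Scheme.Hom.comp_apply, show j' z = y' from hz])
    obtain ⟨Q, hQU, hQ, hQc⟩ := Groth.FlatMor2.exists_isCompact_open_between
      ((j'.isCompact_preimage_singleton y').image i'.continuous) hsub
    haveI : (Q : Scheme.{u}).IsQuasiAffine := Groth.FlatMor2.isIndQuasiAffineHom_def.1
      Groth.FlatMor2.isIndQuasiAffineHom_of_separated_locallyQuasiFinite U hU Q hQU hQc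
    exact Groth.SpecFerrand.exists_affine_of_quasiAffine i' j' y' Q fun z hz => hQ ⟨z, hz, rfl⟩
  have hP := Groth.SpecFerrand.Glue.isPushout hc
  have hP' := Groth.SpecFerrand.Glue.isPushout hc'
  have hcomm : i' ≫ f ≫ Groth.SpecFerrand.Glue.a hc = j' ≫ g ≫ Groth.SpecFerrand.Glue.b hc := by
    rw [← Category.assoc, ← hX.w, Category.assoc, hP.w, ← Category.assoc, hY.w, Category.assoc]
  let kk := hP'.desc (f ≫ Groth.SpecFerrand.Glue.a hc) (g ≫ Groth.SpecFerrand.Glue.b hc) hcomm
  have ha : Groth.SpecFerrand.Glue.a hc' ≫ kk = f ≫ Groth.SpecFerrand.Glue.a hc := hP'.inl_desc _ _ _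
  have hb : Groth.SpecFerrand.Glue.b hc' ≫ kk = g ≫ Groth.SpecFerrand.Glue.b hc := hP'.inr_desc _ _ _
  have hl := Groth.SpecFerrand.isPullback_inl hc hP hc' hP' hX hY ha hb
  have hr := Groth.SpecFerrand.isPullback_inr hc hP hc' hP' hX hY ha hb
  haveI := Groth.SpecFerrand.Glue.isIntegralHom_a i j hc
  haveI := Groth.SpecFerrand.Glue.isClosedImmersion_b hc
  haveI := Groth.SpecFerrand.Glue.isIntegralHom_a i' j' hc'
  haveI := Groth.SpecFerrand.Glue.isClosedImmersion_b hc'
  have dn : ∀ r : Groth.SpecFerrand.RelChart i j (Groth.SpecFerrand.Glue.a hc) (Groth.SpecFerrand.Glue.b hc)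
      i' j' (Groth.SpecFerrand.Glue.a hc') (Groth.SpecFerrand.Glue.b hc') f g kk,
      (LocallyOfFiniteType (Spec.map r.β) ∧ LocallyOfFiniteType (Spec.map r.α)) ∧
      (LocallyQuasiFinite (Spec.map r.β) ∧ LocallyQuasiFinite (Spec.map r.α)) := fun r => by
    haveI : LocallyOfFiniteType (Spec.map r.β ≫ r.c.uY) := r.hβ ▸ inferInstance
    haveI : LocallyOfFiniteType (Spec.map r.α ≫ r.c.uX) := r.hα ▸ inferInstance
    haveI : LocallyQuasiFinite (Spec.map r.β ≫ r.c.uY) := r.hβ ▸ inferInstance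
    haveI : LocallyQuasiFinite (Spec.map r.α ≫ r.c.uX) := r.hα ▸ inferInstance
    exact ⟨⟨locallyOfFiniteType_of_comp _ r.c.uY, locallyOfFiniteType_of_comp _ r.c.uX⟩,
      LocallyQuasiFinite.of_comp _ r.c.uY, LocallyQuasiFinite.of_comp _ r.c.uX⟩
  haveI : MorphismProperty.ContainsIdentities @LocallyOfFiniteType.{u} := ⟨fun _ => inferInstance⟩
  haveI : LocallyOfFiniteType kk := Groth.SpecFerrand.property_of_charts hc hP hc' hP' hX hY ha hb fun r =>
    r.ft.2 ⟨(HasRingHomProperty.Spec_iff (P := @LocallyOfFiniteType)).1 (dn r).1.1,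
      (HasRingHomProperty.Spec_iff (P := @LocallyOfFiniteType)).1 (dn r).1.2⟩
  haveI : LocallyQuasiFinite kk := Groth.SpecFerrand.property_of_charts hc hP hc' hP' hX hY ha hb fun r => by
    haveI := (dn r).2.1
    haveI := (dn r).2.2
    haveI : LocallyOfFiniteType (Spec.map r.ψ) := (HasRingHomProperty.Spec_iff (P := @LocallyOfFiniteType)).2
      (r.ft.2 ⟨(HasRingHomProperty.Spec_iff (P := @LocallyOfFiniteType)).1 (dn r).1.1,
        (HasRingHomProperty.Spec_iff (P := @LocallyOfFiniteType)).1 (dn r).1.2⟩)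
    exact (HasRingHomProperty.Spec_iff (P := @LocallyQuasiFinite)).1 (LocallyQuasiFinite.of_finite_preimage_singleton _
      (Groth.SpecFerrand.finite_fibre r.c.sq r.c'.sq r.pbY r.pbX))
  haveI : IsSeparated (Groth.SpecFerrand.Glue.a hc' ≫ kk) := ha ▸ inferInstance
  haveI : IsSeparated (Groth.SpecFerrand.Glue.b hc' ≫ kk) := hb ▸ inferInstance
  haveI : IsSeparated kk := Groth.SpecFerrand.isSeparated_of_jointly _ _ kk
    (Groth.SpecFerrand.Glue.jointly_surjective_ab hc')
  exact ⟨_, _, Groth.SpecFerrand.Glue.b hc, Groth.SpecFerrand.Glue.a hc, Groth.SpecFerrand.Glue.b hc',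
    Groth.SpecFerrand.Glue.a hc', kk, hP.flip, hP'.flip, hb, ha, inferInstance, inferInstance, inferInstance, hr, hl⟩

end Groth.Agent.S1465
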