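import Groth.Statements.S14652
import Mathlib.RingTheory.Polynomial.IsIntegral
-- import your own Groth.Agent.* helpers here

set_option autoImplicit false
universe u
open FiltBl

namespace Groth.Agent.S14652

open Polynomial

section
variable {A : Type u} [CommRing A]
  (w : A → WithTop ℤ) (p : ℕ)

/-- The weight of the coefficient `a` in degree `n`. -/
def wt (a : A) (n : ℕ) : WithTop ℤ := w a + ((-(n * p : ℤ)) : ℤ)

/-- `e` bounds the weights of all coefficients from below. -/
def LB (f : A[X]) (e : ℤ) : Prop := ∀ n, (e : WithTop ℤ) ≤ wt w p (f.coeff n) n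

/-- The minimal weight `e` is attained first in degree `d`. -/
def Att (f : A[X]) (d : ℕ) (e : ℤ) : Prop :=
  LB w p f e ∧ wt w p (f.coeff d) d = e ∧ ∀ n < d, (e : WithTop ℤ) < wt w p (f.coeff n) n

variable {w p}
variable (h0 : w 0 = ⊤) (hmul : ∀ a b, w (a * b) = w a + w b)
  (hadd : ∀ a b, min (w a) (w b) ≤ w (a + b))

include hmul in
lemma wt_mul (a b : A) (m n : ℕ) : wt w p (a * b) (m + n) = wt w p a m + wt w p b n := by
  rw [wt, wt, wt, hmul, add_add_add_comm, ← WithTop.coe_add]
  congr 2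
  push_cast
  ring

include hadd in
lemma wt_add (a b : A) (n : ℕ) : min (wt w p a n) (wt w p b n) ≤ wt w p (a + b) n := by
  rw [wt, wt, wt, min_add_add_right]
  gcongr
  exact hadd a b

include h0 hadd in
lemma le_wt_sum {ι : Type*} (s : Finset ι) (g : ι → A) (n : ℕ) {e : WithTop ℤ}
    (h : ∀ i ∈ s, e ≤ wt w p (g i) n) : e ≤ wt w p (∑ i ∈ s, g i) n := by
  classical
  induction s using Finset.induction with
  | empty => simp [wt, h0]
  | insert a s ha ih =>
    rw [Finset.sum_insert ha]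
    exact (le_min (h a (by simp)) (ih fun i hi ↦ h i (by simp [hi]))).trans (wt_add hadd _ _ _)

include h0 hadd in
lemma lt_wt_sum {ι : Type*} (s : Finset ι) (g : ι → A) (n : ℕ) {e : ℤ}
    (h : ∀ i ∈ s, (e : WithTop ℤ) < wt w p (g i) n) : (e : WithTop ℤ) < wt w p (∑ i ∈ s, g i) n := by
  classical
  induction s using Finset.induction with
  | empty => simp [wt, h0]
  | insert a s ha ih =>
    rw [Finset.sum_insert ha]
    exact (lt_min (h a (by simp)) (ih fun i hi ↦ h i (by simp [hi]))).trans_le (wt_add hadd _ _ _)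

include h0 hmul hadd in
lemma LB.mul {f g : A[X]} {e e' : ℤ} (hf : LB w p f e) (hg : LB w p g e') : LB w p (f * g) (e + e') := by
  intro n
  rw [coeff_mul]
  refine le_wt_sum h0 hadd _ _ _ ?_
  rintro ⟨i, j⟩ hij
  rw [← Finset.mem_antidiagonal.mp hij, wt_mul hmul, WithTop.coe_add]
  exact add_le_add (hf i) (hg j)

include h0 hmul hadd in
lemma Att.mul {f g : A[X]} {d d' : ℕ} {e e' : ℤ} (hneg : ∀ a, w (-a) = w a) (hf : Att w p f d e)
    (hg : Att w p g d' e') : Att w p (f * g) (d + d') (e + e') := by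
  obtain ⟨hfl, hfe, hfs⟩ := hf
  obtain ⟨hgl, hge, hgs⟩ := hg
  have strict : ∀ i j, (i < d ∨ j < d') → ((e + e' : ℤ) : WithTop ℤ) < wt w p (f.coeff i * g.coeff j) (i + j) := by
    intro i j h
    rw [wt_mul hmul, WithTop.coe_add]
    rcases h with h | h
    · exact WithTop.add_lt_add_of_lt_of_le WithTop.coe_ne_top (hfs i h) (hgl j)
    · exact WithTop.add_lt_add_of_le_of_lt WithTop.coe_ne_top (hfl i) (hgs j h)
  refine ⟨LB.mul h0 hmul hadd hfl hgl, ?_, fun n hn ↦ ?_⟩
  · rw [coeff_mul, ← Finset.add_sum_erase _ _ (show (d, d') ∈ Finset.antidiagonal (d + d') by simp)]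
    set r := ∑ x ∈ (Finset.antidiagonal (d + d')).erase (d, d'), f.coeff x.1 * g.coeff x.2
    have hr : ((e + e' : ℤ) : WithTop ℤ) < wt w p r (d + d') := by
      refine lt_wt_sum h0 hadd _ _ _ ?_
      rintro ⟨i, j⟩ hij
      simp only [Finset.mem_erase, Finset.mem_antidiagonal, ne_eq, Prod.mk.injEq] at hij
      rw [← hij.2]
      exact strict i j (by omega)
    have hm : wt w p (f.coeff d * g.coeff d') (d + d') = ((e + e' : ℤ) : WithTop ℤ) := by
      rw [wt_mul hmul, hfe, hge, WithTop.coe_add]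
    refine le_antisymm ?_ ((le_min hm.ge hr.le).trans (wt_add hadd _ _ _))
    by_contra hc
    have h := wt_add (p := p) hadd (f.coeff d * g.coeff d' + r) (-r) (d + d')
    rw [add_neg_cancel_right, hm] at h
    have h' : wt w p (-r) (d + d') = wt w p r (d + d') := by rw [wt, wt, hneg]
    rw [h'] at h
    exact absurd h (not_le.mpr (lt_min (not_le.mp hc) hr))
  · rw [coeff_mul]
    refine lt_wt_sum h0 hadd _ _ _ ?_
    rintro ⟨i, j⟩ hij
    rw [Finset.mem_antidiagonal] at hij
    rw [← hij]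
    exact strict i j (by omega)

end

lemma exists_att {A : Type u} [CommRing A] {w : A → WithTop ℤ} {p : ℕ} (h0 : w 0 = ⊤) {f : A[X]}
    {n₀ : ℕ} (h : wt w p (f.coeff n₀) n₀ < 0) : ∃ (d : ℕ) (e : ℤ), e < 0 ∧ Att w p f d e := by
  classical
  have hmem : ∀ n, wt w p (f.coeff n) n ≠ ⊤ → n ∈ f.support := by
    intro n hn
    rw [mem_support_iff]
    rintro h'
    simp [wt, h', h0] at hn
  obtain ⟨m, hm, hmin⟩ := f.support.exists_min_image (fun n ↦ wt w p (f.coeff n) n)
    ⟨n₀, hmem _ (ne_top_of_lt h)⟩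
  have hle : ∀ n, wt w p (f.coeff m) m ≤ wt w p (f.coeff n) n := fun n ↦ by
    by_cases hn : wt w p (f.coeff n) n = ⊤
    · rw [hn]; exact le_top
    · exact hmin n (hmem n hn)
  obtain ⟨e, he⟩ := WithTop.ne_top_iff_exists.mp (ne_top_of_lt ((hle n₀).trans_lt h))
  have hex : ∃ d, wt w p (f.coeff d) d = e := ⟨m, he.symm⟩
  refine ⟨Nat.find hex, e, ?_, fun n ↦ he ▸ hle n, Nat.find_spec hex, fun n hn ↦ ?_⟩
  · have := (hle n₀).trans_lt h
    rw [← he] at this
    exact_mod_cast this
  · exact lt_of_le_of_ne (he ▸ hle n) (Ne.symm (Nat.find_min hex hn))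


/-- Let A be a Noetherian integrally closed domain with fraction field K, let v_1, …, v_s be finitely
many valuations on K with values in ℤ ∪ {∞} (written additively) that are non-negative on A, and let
r_i = p_i / q_i be positive rationals (p_i, q_i positive integers). Let F be the filtration of
ideals of A given by F^k = {x ∈ A | q_i · v_i(x) ≥ k · p_i for every i}. Then the Rees algebra ⊕_{k
≥ 0} F^k X^k ⊆ A[X] is an integrally closed domain (it need not be Noetherian). -/
theorem result (A K : Type u) [CommRing A] [IsDomain A]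
    [IsNoetherianRing A] [IsIntegrallyClosed A] [Field K] [Algebra A K] [IsFractionRing A K]
    (ι : Type) [Finite ι] (v : ι → AddValuation K (WithTop ℤ))
    (hv : ∀ (i : ι) (x : A), 0 ≤ v i (algebraMap A K x)) (p q : ι → ℕ) (hp : ∀ i, 0 < p i)
    (hq : ∀ i, 0 < q i) (𝓕 : FiltBl.IdealFiltration A)
    (hF : ∀ (k : ℕ) (x : A), x ∈ 𝓕.F k ↔
      ∀ i, ((k * p i : ℕ) : WithTop ℤ) ≤ (q i : WithTop ℤ) * v i (algebraMap A K x)) :
    IsIntegrallyClosed 𝓕.rees := by
  suffices IsIntegrallyClosedIn 𝓕.rees (Polynomial A) from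
    .of_isIntegrallyClosed_of_isIntegrallyClosedIn _ (Polynomial A)
  rw [isIntegrallyClosedIn_iff]
  refine ⟨Subtype.val_injective, fun {f} hf ↦ ⟨⟨f, fun n ↦ (hF n _).mpr fun i ↦ ?_⟩, rfl⟩⟩
  let w : A → WithTop ℤ := fun a ↦ (q i : WithTop ℤ) * v i (algebraMap A K a)
  have hq0 : (q i : WithTop ℤ) ≠ 0 := by exact_mod_cast (hq i).ne'
  have htop : (((q i : ℤ)) : WithTop ℤ) * ⊤ = ⊤ := WithTop.mul_top (by exact_mod_cast (hq i).ne')
  have h0 : w 0 = ⊤ := by simp [w, WithTop.mul_top hq0]
  have hmul : ∀ a b, w (a * b) = w a + w b := fun a b ↦ by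
    simp only [w, map_mul, AddValuation.map_mul]
    generalize v i (algebraMap A K a) = x
    generalize v i (algebraMap A K b) = y
    cases x <;> cases y <;>
      simp [htop, ← WithTop.coe_natCast, ← WithTop.coe_mul, ← WithTop.coe_add, mul_add]
  have hmono : Monotone fun x : WithTop ℤ ↦ (q i : WithTop ℤ) * x := fun x y h ↦ by
    cases y with
    | top => simp [WithTop.mul_top hq0]
    | coe y =>
      obtain ⟨x', rfl, hxy⟩ := WithTop.le_coe_iff.mp h
      simp only [← WithTop.coe_natCast, ← WithTop.coe_mul, WithTop.coe_le_coe]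
      gcongr
  have hadd : ∀ a b, min (w a) (w b) ≤ w (a + b) := fun a b ↦ by
    simp only [w, map_add, ← hmono.map_min]
    exact hmono ((v i).map_add _ _)
  have hneg : ∀ a, w (-a) = w a := fun a ↦ by simp [w]
  have hrees : ∀ r : 𝓕.rees, LB w (p i) (r : Polynomial A) 0 := fun r k ↦ by
    have := (hF k _).mp (r.2 k) i
    calc ((0 : ℤ) : WithTop ℤ) = ((k * p i : ℕ) : WithTop ℤ) + ((-(k * p i : ℤ)) : ℤ) := by
          rw [← WithTop.coe_natCast, ← WithTop.coe_add]
          norm_cast
          push_cast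
          simp
      _ ≤ _ := add_le_add this le_rfl
  by_contra hc
  have hn : wt w (p i) (f.coeff n) n < 0 := by
    rw [not_le] at hc
    calc wt w (p i) (f.coeff n) n < ((n * p i : ℕ) : WithTop ℤ) + ((-(n * p i : ℤ)) : ℤ) :=
          WithTop.add_lt_add_right WithTop.coe_ne_top hc
      _ = 0 := by
          rw [← WithTop.coe_natCast, ← WithTop.coe_add, ← WithTop.coe_zero]
          norm_cast
          push_cast
          simp
  obtain ⟨d, e, he, hatt⟩ := exists_att h0 hn
  have hw1 : w 1 = 0 := by simp [w]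
  have hpow : ∀ m : ℕ, Att w (p i) (f ^ m) (m * d) (m * e) := fun m ↦ by
    induction m with
    | zero =>
      refine ⟨fun k ↦ ?_, ?_, fun k hk ↦ by simp at hk⟩
      · rw [pow_zero, Polynomial.coeff_one]
        split_ifs with h
        · simp [wt, h, hw1]
        · simp [wt, h0]
      · simp [wt, hw1]
    | succ m ih =>
      have := ih.mul h0 hmul hadd hneg hatt
      rw [← pow_succ, ← Nat.succ_mul] at this
      convert this using 1
      push_cast; ring
  obtain ⟨P, hP, hPf⟩ := hf
  set m := P.natDegree with hm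
  have heq : f ^ m = -∑ j ∈ Finset.range m, (P.coeff j : Polynomial A) * f ^ j := by
    rw [Polynomial.eval₂_eq_sum_range, Finset.sum_range_succ, ← hm, hP.coeff_natDegree, map_one,
      one_mul] at hPf
    exact eq_neg_of_add_eq_zero_right hPf
  have h1 : wt w (p i) ((f ^ m).coeff (m * d)) (m * d) = ((m * e : ℤ) : WithTop ℤ) := (hpow m).2.1
  have h2 : ((m * e : ℤ) : WithTop ℤ) < wt w (p i) ((f ^ m).coeff (m * d)) (m * d) := by
    rw [heq, Polynomial.coeff_neg, Polynomial.finsetSum_coeff, ← Finset.sum_neg_distrib]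
    refine lt_wt_sum h0 hadd _ _ _ fun j hj ↦ ?_
    rw [wt, hneg, ← wt]
    refine lt_of_lt_of_le ?_ (LB.mul h0 hmul hadd (hrees _) (hpow j).1 (m * d))
    have : (j : ℤ) < m := by exact_mod_cast Finset.mem_range.mp hj
    exact WithTop.coe_lt_coe.mpr (by nlinarith)
  exact h2.ne h1.symm

end Groth.Agent.S14652
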