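import Groth.Statements.S14653
import Mathlib
import Groth.Agent.S2119
-- import your own Groth.Agent.* helpers here

set_option autoImplicit false
universe u
open FiltBl

namespace Groth.Agent.S14653

section Helpers

open LaurentPolynomial

variable {A : Type u} [CommRing A] [IsDomain A]

private theorem ufd_of_isLocalization {R L : Type u} [CommRing R] [IsDomain R] [CommRing L] [IsDomain L]
    [Algebra R L] (S : Submonoid R) [IsLocalization S L] (h : UniqueFactorizationMonoid R) :
    UniqueFactorizationMonoid L := by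
  rw [UniqueFactorizationMonoid.iff_exists_prime_mem_of_isPrime]
  intro I hI hIp
  haveI := hIp
  have hd : Disjoint (S : Set R) (I.comap (algebraMap R L) : Set R) :=
    ((IsLocalization.isPrime_iff_isPrime_disjoint S L I).1 hIp).2
  have hmc := IsLocalization.map_under S L I
  have hne : I.comap (algebraMap R L) ≠ ⊥ := fun h => hI (by
    rw [← hmc]
    show (I.comap (algebraMap R L)).map (algebraMap R L) = ⊥
    rw [h, Ideal.map_bot])
  obtain ⟨π, hπ, hπp⟩ := (Ideal.IsPrime.comap (algebraMap R L)).exists_mem_prime_of_ne_bot hne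
  refine ⟨algebraMap R L π, hπ, ?_⟩
  have hsp : (Ideal.span {π}).IsPrime := (Ideal.span_singleton_prime hπp.ne_zero).2 hπp
  have := IsLocalization.isPrime_of_isPrime_disjoint S L _ hsp
    (hd.mono_right ((Ideal.span_singleton_le_iff_mem _).2 hπ))
  rw [Ideal.map_span, Set.image_singleton] at this
  refine (Ideal.span_singleton_prime fun h0 => ?_).1 this
  obtain ⟨⟨s, hs⟩, hsπ⟩ := (IsLocalization.map_eq_zero_iff S L π).1 h0
  rcases mul_eq_zero.1 hsπ with h | h
  · exact Set.disjoint_left.1 hd hs (by simp only at h; rw [h]; exact zero_mem _)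
  · exact hπp.ne_zero h

private theorem exists_monomial {f g : A[T;T⁻¹]} {n : ℤ} {a : A} (ha : a ≠ 0)
    (h : f * g = C a * T n) : ∃ (i j : ℤ) (b c : A),
      f = C b * T i ∧ g = C c * T j ∧ b * c = a ∧ i + j = n := by
  classical
  have hfg : f * g ≠ 0 := by
    rw [h, ← single_eq_C_mul_T]
    exact fun e => ha (AddMonoidAlgebra.single_eq_zero.1 e)
  have hf : f.coeff.support.Nonempty := Finsupp.support_nonempty_iff.2
    fun e => left_ne_zero_of_mul hfg (AddMonoidAlgebra.coeff_eq_zero.1 e)
  have hg : g.coeff.support.Nonempty := Finsupp.support_nonempty_iff.2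
    fun e => right_ne_zero_of_mul hfg (AddMonoidAlgebra.coeff_eq_zero.1 e)
  have key : ∀ i ∈ f.coeff.support, ∀ j ∈ g.coeff.support,
      UniqueAdd f.coeff.support g.coeff.support i j → i + j = n := by
    intro i hi j hj hu
    have := AddMonoidAlgebra.coeff_mul_add_of_uniqueAdd hu
    rw [h, ← single_eq_C_mul_T, AddMonoidAlgebra.coeff_single, Finsupp.single_apply] at this
    by_contra hne
    rw [if_neg (Ne.symm hne)] at this
    exact mul_ne_zero (Finsupp.mem_support_iff.1 hi) (Finsupp.mem_support_iff.1 hj) this.symm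
  have hmax : f.coeff.support.max' hf + g.coeff.support.max' hg = n :=
    key _ (Finset.max'_mem _ _) _ (Finset.max'_mem _ _) fun x y hx hy e => by
      have := Finset.le_max' _ x hx
      have := Finset.le_max' _ y hy
      constructor <;> omega
  have hmin : f.coeff.support.min' hf + g.coeff.support.min' hg = n :=
    key _ (Finset.min'_mem _ _) _ (Finset.min'_mem _ _) fun x y hx hy e => by
      have := Finset.min'_le _ x hx
      have := Finset.min'_le _ y hy
      constructor <;> omega
  set i := f.coeff.support.max' hf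
  set j := g.coeff.support.max' hg
  have hfi : ∀ x ∈ f.coeff.support, x = i := fun x hx => by
    have h1 := Finset.min'_le _ x hx
    have h2 := Finset.le_max' _ x hx
    have h3 := Finset.le_max' _ _ (Finset.min'_mem _ hg)
    omega
  have hgj : ∀ x ∈ g.coeff.support, x = j := fun x hx => by
    have h1 := Finset.min'_le _ x hx
    have h2 := Finset.le_max' _ x hx
    have h3 := Finset.le_max' _ _ (Finset.min'_mem _ hf)
    omega
  have ef : f = C (f.coeff i) * T i := by
    rw [← single_eq_C_mul_T]
    refine AddMonoidAlgebra.ext (Finsupp.ext fun x => ?_)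
    rw [AddMonoidAlgebra.coeff_single, Finsupp.single_apply]
    split_ifs with hx
    · rw [hx]
    · by_contra hne
      exact hx (hfi x (Finsupp.mem_support_iff.2 hne)).symm
  have eg : g = C (g.coeff j) * T j := by
    rw [← single_eq_C_mul_T]
    refine AddMonoidAlgebra.ext (Finsupp.ext fun x => ?_)
    rw [AddMonoidAlgebra.coeff_single, Finsupp.single_apply]
    split_ifs with hx
    · rw [hx]
    · by_contra hne
      exact hx (hgj x (Finsupp.mem_support_iff.2 hne)).symm
  refine ⟨i, j, f.coeff i, g.coeff j, ef, eg, ?_, hmax⟩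
  have := h
  rw [ef, eg, mul_mul_mul_comm, ← map_mul, ← T_add, hmax, ← single_eq_C_mul_T, ← single_eq_C_mul_T] at this
  have h2 := congrArg (fun p : A[T;T⁻¹] => p.coeff n) this
  simpa only [AddMonoidAlgebra.coeff_single, Finsupp.single_eq_same] using h2

private theorem ufd_laurent (h : UniqueFactorizationMonoid A) : UniqueFactorizationMonoid A[T;T⁻¹] := by
  haveI := h
  exact ufd_of_isLocalization (Submonoid.powers (Polynomial.X : Polynomial A)) inferInstance

private theorem coeff_C_zero (a : A) : (C a).coeff 0 = a := by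
  rw [C_apply, if_pos rfl]

private theorem ufd_of_laurent (h : UniqueFactorizationMonoid A[T;T⁻¹]) : UniqueFactorizationMonoid A := by
  haveI := h
  rw [UniqueFactorizationMonoid.iff_exists_prime_mem_of_isPrime]
  intro I hI hIp
  obtain ⟨a, haI, ha⟩ := Submodule.exists_mem_ne_zero_of_ne_bot hI
  have key : ∀ s : Multiset A[T;T⁻¹], (∀ π ∈ s, Prime π) → ∀ (b : A) (n : ℤ),
      s.prod = C b * T n → b ≠ 0 → b ∈ I → ∃ x ∈ I, Prime x := by
    intro s
    induction s using Multiset.induction_on with
    | empty =>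
      intro _ b n hb hb0 hbI
      obtain ⟨i, j, b', c', e1, e2, e3, e4⟩ := exists_monomial hb0 (f := (1 : A[T;T⁻¹])) (g := 1)
        (by rw [one_mul]; simpa using hb)
      have h1 : IsUnit b' := by
        have := congrArg (fun p : A[T;T⁻¹] => p.coeff i) e1
        rw [← single_eq_C_mul_T] at this
        simp only [AddMonoidAlgebra.coeff_single, Finsupp.single_eq_same] at this
        rw [← T_zero, T_apply] at this
        split_ifs at this with h0
        · exact this ▸ isUnit_one
        · exfalso
          rw [← this] at e3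
          exact hb0 (by rw [← e3, zero_mul])
      have h2 : IsUnit c' := by
        have := congrArg (fun p : A[T;T⁻¹] => p.coeff j) e2
        rw [← single_eq_C_mul_T] at this
        simp only [AddMonoidAlgebra.coeff_single, Finsupp.single_eq_same] at this
        rw [← T_zero, T_apply] at this
        split_ifs at this with h0
        · exact this ▸ isUnit_one
        · exfalso
          rw [← this] at e3
          exact hb0 (by rw [← e3, mul_zero])
      exact absurd (Ideal.eq_top_of_isUnit_mem I hbI (e3 ▸ h1.mul h2)) hIp.ne_top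
    | cons π s ih =>
      intro hs b n hb hb0 hbI
      rw [Multiset.prod_cons] at hb
      obtain ⟨i, j, c, d, e1, e2, e3, -⟩ := exists_monomial hb0 hb
      subst e3
      rcases hIp.mem_or_mem hbI with hc | hd
      · refine ⟨c, hc, ?_⟩
        have hπ := hs π (Multiset.mem_cons_self _ _)
        rw [e1] at hπ
        have hC : Prime (C c : A[T;T⁻¹]) :=
          (associated_mul_unit_left _ _ (isUnit_T i)).prime hπ
        refine ⟨left_ne_zero_of_mul hb0, fun hu => hC.not_unit (hu.map C), fun x y hxy => ?_⟩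
        have hr : ∀ z, (C c : A[T;T⁻¹]) ∣ C z → c ∣ z := fun z ⟨q, hq⟩ => by
          have := congrArg (fun p : A[T;T⁻¹] => p.coeff 0) hq
          simp only [coeff_C_zero] at this
          rw [show (C c : A[T;T⁻¹]) * q = c • q from (Algebra.smul_def c q).symm] at this
          exact ⟨q.coeff 0, this.trans (by simp)⟩
        exact (hC.dvd_or_dvd (by rw [← map_mul]; exact map_dvd C hxy)).imp (hr x) (hr y)
      · exact ih (fun q hq => hs q (Multiset.mem_cons_of_mem hq)) d j e2 (right_ne_zero_of_mul hb0) hd
  obtain ⟨s, hs, u, hu⟩ := UniqueFactorizationMonoid.exists_prime_factors (C a : A[T;T⁻¹])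
    (fun e => ha (by simpa [coeff_C_zero] using congrArg (fun p : A[T;T⁻¹] => p.coeff 0) e))
  obtain ⟨i, j, b, c, e1, e2, e3, -⟩ := exists_monomial ha (f := s.prod) (g := (u : A[T;T⁻¹])) (n := 0)
    (by rw [hu, T_zero, mul_one])
  refine key s hs b i e1 (left_ne_zero_of_mul (e3 ▸ ha)) ?_
  rcases hIp.mem_or_mem (e3 ▸ haI) with hb | hc
  · exact hb
  · exfalso
    have hCc : IsUnit (C c : A[T;T⁻¹]) := isUnit_of_mul_isUnit_left (e2 ▸ u.isUnit)
    obtain ⟨v, hv⟩ := hCc.exists_right_inv
    refine hIp.ne_top (Ideal.eq_top_of_isUnit_mem I hc (IsUnit.of_mul_eq_one (v.coeff 0) ?_))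
    have := congrArg (fun p : A[T;T⁻¹] => p.coeff 0) hv
    rw [show (C c : A[T;T⁻¹]) * v = c • v from (Algebra.smul_def c v).symm] at this
    simpa [← T_zero, T_apply] using this

variable (𝓕 : IdealFiltration A)

omit [IsDomain A] in
private theorem mem_extRees_single (n : ℤ) (a : A) (ha : a ∈ 𝓕.F n.toNat) :
    AddMonoidAlgebra.single n a ∈ 𝓕.extRees := fun m => by
  classical
  rw [AddMonoidAlgebra.coeff_single, Finsupp.single_apply]
  split_ifs with h
  · exact h ▸ ha
  · exact zero_mem _

omit [IsDomain A] in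
private theorem isLocalization_extRees :
    IsLocalization.Away 𝓕.u A[T;T⁻¹] := by
  constructor
  refine ⟨?_, ?_, ?_⟩
  · rintro ⟨_, m, rfl⟩
    show IsUnit (((𝓕.u ^ m : 𝓕.extRees) : A[T;T⁻¹]))
    rw [SubmonoidClass.coe_pow]
    exact (isUnit_T (-1)).pow m
  · intro f
    classical
    obtain ⟨m, hm⟩ : ∃ m : ℕ, ∀ i ∈ f.coeff.support, i ≤ (m : ℤ) :=
      ⟨f.coeff.support.sup Int.toNat, fun i hi => by
        have := Finset.le_sup (f := Int.toNat) hi
        omega⟩
    have hmem : f * T (-1) ^ m ∈ 𝓕.extRees := fun i => by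
      rw [T_pow, T, AddMonoidAlgebra.coeff_mul_single_eq_coeff_mul (i + m)
        (fun x _ => by constructor <;> intro e <;> omega)]
      by_cases hi : i + m ∈ f.coeff.support
      · rw [show i.toNat = 0 by have := hm _ hi; omega, 𝓕.zero_eq]; trivial
      · rw [Finsupp.notMem_support_iff.1 hi, zero_mul]; exact zero_mem _
    exact ⟨⟨⟨_, hmem⟩, ⟨𝓕.u ^ m, m, rfl⟩⟩, rfl⟩
  · intro x y h
    exact ⟨1, by rw [Subtype.ext (show (x : A[T;T⁻¹]) = y from h)]⟩

omit [IsDomain A] in
private theorem finiteType_extRees (hfg : Algebra.FiniteType A 𝓕.rees) :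
    Algebra.FiniteType A 𝓕.extRees := by
  classical
  let ι : 𝓕.rees →ₐ[A] 𝓕.extRees := AlgHom.codRestrict
    (Polynomial.toLaurentAlg.comp 𝓕.rees.val) 𝓕.extRees fun f m => by
      show (Polynomial.toLaurent (f : Polynomial A)).coeff m ∈ _
      rw [LaurentPolynomial.coeff_toLaurent]
      by_cases hm : m < 0
      · rw [Int.toNat_of_nonpos hm.le, 𝓕.zero_eq]; trivial
      · obtain ⟨k, rfl⟩ := Int.eq_ofNat_of_zero_le (not_lt.1 hm)
        rw [show (Finsupp.mapDomain (⇑Nat.castEmbedding) (f : Polynomial A).toFinsupp.coeff) ((k : ℕ) : ℤ)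
          = (f : Polynomial A).coeff k from
            Finsupp.mapDomain_apply (f := fun k : ℕ => (k : ℤ)) Nat.cast_injective _ k, Int.toNat_natCast]
        exact f.2 k
  let Φ : Polynomial 𝓕.rees →ₐ[A] 𝓕.extRees := Polynomial.aevalTower ι 𝓕.u
  haveI := hfg
  haveI : Algebra.FiniteType A (Polynomial 𝓕.rees) := Algebra.FiniteType.trans (S := 𝓕.rees) inferInstance inferInstance
  refine Algebra.FiniteType.of_surjective Φ fun x => ?_
  obtain ⟨f, hf⟩ := x
  have hsum := f.coeff.sum_single
  suffices h : ∀ s : Finset ℤ, ∃ P, ((Φ P : 𝓕.extRees) : A[T;T⁻¹])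
      = ∑ i ∈ s, AddMonoidAlgebra.single i (f.coeff i) by
    obtain ⟨P, hP⟩ := h f.coeff.support
    refine ⟨P, Subtype.ext (hP.trans ?_)⟩
    exact AddMonoidAlgebra.sum_coeff_single f
  intro s
  induction s using Finset.induction_on with
  | empty => exact ⟨0, by simp⟩
  | insert i s hi ih =>
    obtain ⟨P, hP⟩ := ih
    suffices ∃ Q, ((Φ Q : 𝓕.extRees) : A[T;T⁻¹]) = AddMonoidAlgebra.single i (f.coeff i) by
      obtain ⟨Q, hQ⟩ := this
      exact ⟨Q + P, by rw [map_add, Subalgebra.coe_add, hP, hQ, Finset.sum_insert hi]⟩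
    rcases le_or_gt 0 i with h0 | h0
    · obtain ⟨k, rfl⟩ := Int.eq_ofNat_of_zero_le h0
      refine ⟨Polynomial.C ⟨Polynomial.monomial k (f.coeff k), fun m => ?_⟩, ?_⟩
      · rw [Polynomial.coeff_monomial]
        split_ifs with h
        · subst h; exact hf k
        · exact zero_mem _
      · rw [Polynomial.aevalTower_C]
        show Polynomial.toLaurent (Polynomial.monomial k (f.coeff k)) = _
        rw [Polynomial.toLaurent_C_mul_T, single_eq_C_mul_T]
    · obtain ⟨k, rfl⟩ : ∃ k : ℕ, i = -(k : ℤ) := ⟨(-i).toNat, by omega⟩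
      refine ⟨Polynomial.C (algebraMap A 𝓕.rees (f.coeff (-(k : ℤ)))) * Polynomial.X ^ k, ?_⟩
      rw [map_mul, map_pow, Polynomial.aevalTower_C, Polynomial.aevalTower_X, Subalgebra.coe_mul,
        SubmonoidClass.coe_pow]
      rw [show ((ι (algebraMap A 𝓕.rees (f.coeff (-(k : ℤ))))) : A[T;T⁻¹])
        = C (f.coeff (-(k : ℤ))) from by
          show ((ι (algebraMap A 𝓕.rees _) : 𝓕.extRees) : A[T;T⁻¹]) = _
          rw [ι.commutes]
          rfl]
      show C _ * T (-1) ^ k = _
      rw [T_pow, single_eq_C_mul_T]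
      simp

end Helpers


/-- Let A be a Noetherian local ring that is a quotient of a Gorenstein ring, and F a filtration of
ideals on A (F^0 = A ⊇ F^1 ⊇ ⋯, F^i F^j ⊆ F^{i+j}) with every F^n nonzero and ⋂ F^n = 0, whose Rees
algebra ⊕_{n ≥ 0} F^n X^n is finitely generated over A and with F^1 of height at least 2
(equivalently, every F^n with n ≥ 1 has height at least 2, all F^n having the same radical); assume
moreover that the extended Rees algebra R' = ⊕_{n ∈ ℤ} F^n T^n ⊆ A[T, T⁻¹] is an integrally closed
domain. Then R' is a unique factorization domain exactly when A is one and the associated graded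
ring G = ⊕ F^n/F^{n+1}, realised as R'/uR' with u = T⁻¹, is an integral domain. (The published
statement is made under the further standing assumption that no nonzero element of the Rees algebra
⊕_{n ≥ 0} F^n T^n is annihilated by a power of the ideal generated by its homogeneous elements of
positive degree; this row does not assume it, and the assertion holds without it.) -/
theorem result (A : Type u) [CommRing A] [IsNoetherianRing A] [IsLocalRing A]
    (S : Type u) [CommRing S] [LocCoh.IsGorensteinRing S] (π : S →+* A) (hπ : Function.Surjective π)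
    (𝓕 : FiltBl.IdealFiltration A) (hne : ∀ n, 𝓕.F n ≠ ⊥) (hsep : ⨅ n, 𝓕.F n = ⊥)
    (hfg : Algebra.FiniteType A 𝓕.rees) (hht : 2 ≤ (𝓕.F 1).height) [IsDomain A]
    [IsDomain 𝓕.extRees] (hnor : IsIntegrallyClosed 𝓕.extRees) :
    UniqueFactorizationMonoid 𝓕.extRees ↔ (UniqueFactorizationMonoid A ∧ IsDomain 𝓕.Gr) := by
  classical
  haveI := isLocalization_extRees 𝓕
  have hF1 : (1 : A) ∉ 𝓕.F 1 := fun h1 => by
    have hall : ∀ n, (1 : A) ∈ 𝓕.F n := fun n => by
      induction n with
      | zero => rw [𝓕.zero_eq]; trivial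
      | succ n ih => simpa using 𝓕.mul_le n 1 (Ideal.mul_mem_mul ih h1)
    have h2 : (1 : A) ∈ ⨅ n, 𝓕.F n := Submodule.mem_iInf _ |>.2 hall
    rw [hsep] at h2
    exact one_ne_zero h2
  have hu0 : 𝓕.u ≠ 0 := fun h => (LaurentPolynomial.isUnit_T (R := A) (-1)).ne_zero (congrArg Subtype.val h)
  have hgr : IsDomain 𝓕.Gr ↔ Prime 𝓕.u :=
    (Ideal.Quotient.isDomain_iff_prime _).trans (Ideal.span_singleton_prime hu0)
  rw [hgr]
  constructor
  · intro h
    haveI := h
    refine ⟨ufd_of_laurent (ufd_of_isLocalization (Submonoid.powers 𝓕.u) h), ?_⟩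
    refine Irreducible.prime ⟨fun hu => ?_, fun x y hxy => ?_⟩
    · obtain ⟨v, hv⟩ := hu.exists_right_inv
      obtain ⟨w, hw⟩ := v
      have h2 : (LaurentPolynomial.T (-1) : LaurentPolynomial A) * w = 1 := congrArg Subtype.val hv
      have h1 : w = LaurentPolynomial.T 1 :=
        calc w = LaurentPolynomial.T 1 * (LaurentPolynomial.T (-1) * w) := by
              rw [← mul_assoc, ← LaurentPolynomial.T_add, add_neg_cancel, LaurentPolynomial.T_zero, one_mul]
          _ = LaurentPolynomial.T 1 := by rw [h2, mul_one]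
      have h3 := hw 1
      rw [h1, LaurentPolynomial.T_apply, if_pos rfl] at h3
      exact hF1 h3
    · obtain ⟨i, j, b, c, e1, e2, e3, e4⟩ := exists_monomial one_ne_zero (n := -1)
        (show (x : LaurentPolynomial A) * (y : LaurentPolynomial A) = LaurentPolynomial.C 1 * LaurentPolynomial.T (-1) by
          rw [map_one, one_mul]
          exact (congrArg Subtype.val hxy).symm)
      rw [← LaurentPolynomial.single_eq_C_mul_T] at e1 e2
      have hbu : IsUnit b := IsUnit.of_mul_eq_one c e3
      have hcu : IsUnit c := IsUnit.of_mul_eq_one b (by rw [mul_comm, e3])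
      have key : ∀ (z : 𝓕.extRees) (i : ℤ) (b : A), (z : LaurentPolynomial A) = AddMonoidAlgebra.single i b →
          IsUnit b → i ≤ 0 ∧ (i = 0 → IsUnit z) := by
        intro z i b e hb
        refine ⟨?_, fun h0 => ?_⟩
        · by_contra hi
          have h3 := z.2 i
          rw [e, AddMonoidAlgebra.coeff_single, Finsupp.single_eq_same] at h3
          exact hF1 ((Ideal.eq_top_iff_one _).1 (Ideal.eq_top_of_isUnit_mem _
            (𝓕.antitone (show 1 ≤ i.toNat by omega) h3) hb))
        · subst h0
          rw [show z = algebraMap A 𝓕.extRees b from Subtype.ext (by rw [e]; rfl)]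
          exact hb.map _
      obtain ⟨hi, hx⟩ := key x i b e1 hbu
      obtain ⟨hj, hy⟩ := key y j c e2 hcu
      rcases (show i = 0 ∨ j = 0 by omega) with h0 | h0
      · exact Or.inl (hx h0)
      · exact Or.inr (hy h0)
  · rintro ⟨hA, hu⟩
    haveI := finiteType_extRees 𝓕 hfg
    haveI : IsNoetherianRing 𝓕.extRees := Algebra.FiniteType.isNoetherianRing A _
    have hcl : Submonoid.closure {𝓕.u} = Submonoid.powers 𝓕.u := (Submonoid.powers_eq_closure _).symm
    haveI : IsLocalization (Submonoid.closure {𝓕.u}) (LaurentPolynomial A) := hcl ▸ ‹_›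
    let e : Localization (Submonoid.closure {𝓕.u}) ≃* LaurentPolynomial A :=
      (IsLocalization.algEquiv (Submonoid.closure {𝓕.u}) _ _).toMulEquiv
    haveI : IsDomain (Localization (Submonoid.closure {𝓕.u})) := IsLocalization.isDomain_localization (by
      rw [hcl]; exact powers_le_nonZeroDivisors_of_noZeroDivisors hu0)
    exact Groth.Agent.S2119.result
      (fun a ha _ => WfDvdMonoid.exists_factors a ha) {𝓕.u} (fun p hp => hp ▸ hu)
      (e.symm.uniqueFactorizationMonoid (ufd_laurent hA))

end Groth.Agent.S14653
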