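import Groth.Statements.S14657
import Mathlib
import Groth.Agent.MilnorKLambda.FinLen
import Groth.Agent.S10862
import Groth.Agent.Smt.GradedDim
import Groth.Agent.LocCohBase.Torsion
-- import your own Groth.Agent.* helpers here

set_option autoImplicit false
universe u
open FiltBl

namespace Groth.Agent.S14657

section Helpers

open DirectSum CategoryTheory

variable {k : Type u} [Field k] {G : Type u} [CommRing G] [IsDomain G] [Algebra k G]
  (𝒢 : ℕ → Submodule k G) [GradedAlgebra 𝒢]
  {L : Type u} [Field L] [Algebra G L] [IsFractionRing G L]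

/-- The coaction `g ↦ ∑ gₙ Xⁿ`. -/
private noncomputable def δ (B : Type u) [CommRing B] [Algebra G B] : G →+* Polynomial B :=
  (DirectSum.toSemiring (fun n => ((Polynomial.monomial n).toAddMonoidHom.comp
      ((algebraMap G B).toAddMonoidHom.comp (𝒢 n).subtype.toAddMonoidHom)))
    (by
      show Polynomial.monomial 0 (algebraMap G B (1 : G)) = 1
      rw [map_one, Polynomial.monomial_zero_one])
    (fun {i j} a b => by
      show Polynomial.monomial (i + j) (algebraMap G B ((a : G) * (b : G))) = _
      rw [map_mul]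
      exact (Polynomial.monomial_mul_monomial i j _ _).symm)).comp
    (DirectSum.decomposeRingEquiv 𝒢).toRingHom

omit [IsDomain G] in
private theorem δ_mem (B : Type u) [CommRing B] [Algebra G B] {n : ℕ} {g : G} (hg : g ∈ 𝒢 n) :
    δ 𝒢 B g = Polynomial.monomial n (algebraMap G B g) := by
  rw [δ, RingHom.comp_apply,
    show (DirectSum.decomposeRingEquiv 𝒢).toRingHom g = DirectSum.of (fun i => 𝒢 i) n ⟨g, hg⟩ from
      DirectSum.decompose_of_mem 𝒢 hg, DirectSum.toSemiring_of]
  rfl

omit [IsDomain G] in
private theorem coeff_δ (B : Type u) [CommRing B] [Algebra G B] (g : G) (n : ℕ) :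
    (δ 𝒢 B g).coeff n = algebraMap G B (GradedRing.proj 𝒢 n g) := by
  classical
  induction g using DirectSum.Decomposition.inductionOn 𝒢 with
  | zero => simp
  | @homogeneous i z =>
    rw [δ_mem 𝒢 B z.2, Polynomial.coeff_monomial, GradedRing.proj_apply]
    by_cases h : i = n
    · subst h
      rw [if_pos rfl, DirectSum.decompose_of_mem_same 𝒢 z.2]
    · rw [if_neg h, DirectSum.decompose_of_mem_ne 𝒢 z.2 h, map_zero]
  | add a b ha hb => simp only [map_add, Polynomial.coeff_add, ha, hb]

private theorem δ_injective (B : Type u) [CommRing B] [Algebra G B]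
    (hB : Function.Injective (algebraMap G B)) : Function.Injective (δ 𝒢 B) := by
  classical
  refine (injective_iff_map_eq_zero _).2 fun g hg => ?_
  rw [← DirectSum.sum_support_decompose 𝒢 g]
  refine Finset.sum_eq_zero fun n _ => hB ?_
  rw [← GradedRing.proj_apply, ← coeff_δ 𝒢 B g n, hg, Polynomial.coeff_zero, map_zero]

private theorem isIntegrallyClosed_closure : IsIntegrallyClosed (integralClosure G L) :=
  integralClosure.isIntegrallyClosedOfFiniteExtension L

/-- The annihilator of `Ḡ / G` is homogeneous. -/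
private theorem proj_mul_mem (c : G)
    (hc : ∀ z : integralClosure G L, ∃ u : G, algebraMap G L u = algebraMap G L c * (z : L)) (j : ℕ)
    : ∀ z : integralClosure G L,
      ∃ u : G, algebraMap G L u = algebraMap G L (GradedRing.proj 𝒢 j c) * (z : L) := by
  classical
  haveI := isIntegrallyClosed_closure (G := G) (L := L)
  set B := integralClosure G L
  have hGL : Function.Injective (algebraMap G L) := IsFractionRing.injective G L
  have hGB : Function.Injective (algebraMap G B) := fun a b h => hGL (congrArg Subtype.val h)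
  let K := FractionRing (Polynomial B)
  let φ : G →+* K := (algebraMap (Polynomial B) K).comp (δ 𝒢 B)
  have hφ : Function.Injective φ := (IsFractionRing.injective (Polynomial B) K).comp (δ_injective 𝒢 B hGB)
  let ψ : L →+* K := IsFractionRing.lift hφ
  have hψ : ∀ g : G, ψ (algebraMap G L g) = algebraMap (Polynomial B) K (δ 𝒢 B g) :=
    IsFractionRing.lift_algebraMap hφ
  have hex : ∀ z : B, ∃ w : Polynomial B, algebraMap (Polynomial B) K w = ψ z := fun z =>
    IsIntegrallyClosed.isIntegral_iff.1 (z.2.map_of_comp_eq (δ 𝒢 B) ψ (RingHom.ext fun g => (hψ g).symm))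
  intro z
  suffices H : ∀ (n : ℕ) (z : B) (w : Polynomial B), algebraMap (Polynomial B) K w = ψ z →
      w.support.card ≤ n → ∃ u : G, algebraMap G L u = algebraMap G L (GradedRing.proj 𝒢 j c) * (z : L) by
    obtain ⟨w, hw⟩ := hex z
    exact H _ z w hw le_rfl
  intro n
  induction n with
  | zero =>
    intro z w hw hcard
    refine ⟨0, ?_⟩
    rw [Nat.le_zero, Finset.card_eq_zero, Polynomial.support_eq_empty] at hcard
    rw [hcard, map_zero, eq_comm, map_eq_zero_iff ψ ψ.injective] at hw
    rw [hw, map_zero, mul_zero]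
  | succ n ih =>
    intro z w hw hcard
    rcases eq_or_ne w 0 with rfl | hw0
    · exact ih z 0 hw (by simp)
    obtain ⟨g, h, hh, hz⟩ := IsFractionRing.div_surjective G (z : L)
    have hhL : algebraMap G L h ≠ 0 := (map_ne_zero_iff _ hGL).2 (nonZeroDivisors.ne_zero hh)
    rw [div_eq_iff hhL] at hz
    have hmul : w * δ 𝒢 B h = δ 𝒢 B g := IsFractionRing.injective (Polynomial B) K (by
      rw [map_mul, hw, ← hψ, ← hψ, ← map_mul, hz])
    have hδh : δ 𝒢 B h ≠ 0 := (map_ne_zero_iff _ (δ_injective 𝒢 B hGB)).2 (nonZeroDivisors.ne_zero hh)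
    set e := w.natDegree
    set m := (δ 𝒢 B h).natDegree
    set a := GradedRing.proj 𝒢 (e + m) g
    set b := GradedRing.proj 𝒢 m h
    have hab : w.leadingCoeff * algebraMap G B b = algebraMap G B a := by
      rw [← coeff_δ, ← coeff_δ, ← hmul, Polynomial.coeff_mul_degree_add_degree]
      rfl
    have hb0 : algebraMap G B b ≠ 0 := by
      rw [← coeff_δ]; exact Polynomial.leadingCoeff_ne_zero.2 hδh
    have ha : δ 𝒢 B a = Polynomial.monomial (e + m) (algebraMap G B a) := δ_mem 𝒢 B (SetLike.coe_mem _)
    have hb : δ 𝒢 B b = Polynomial.monomial m (algebraMap G B b) := δ_mem 𝒢 B (SetLike.coe_mem _)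
    have habL : (w.leadingCoeff : L) * algebraMap G L b = algebraMap G L a := congrArg Subtype.val hab
    have hz0 : algebraMap (Polynomial B) K (Polynomial.monomial e w.leadingCoeff) = ψ w.leadingCoeff := by
      refine mul_right_cancel₀ (b := ψ (algebraMap G L b)) ?_ ?_
      · rw [map_ne_zero_iff ψ ψ.injective]
        exact fun h0 => hb0 (Subtype.ext h0)
      · rw [← map_mul ψ, habL, hψ, hψ, ← map_mul, ha, hb, Polynomial.monomial_mul_monomial, hab]
    obtain ⟨u₁, hu₁⟩ : ∃ u : G, algebraMap G L u =
        algebraMap G L (GradedRing.proj 𝒢 j c) * (w.leadingCoeff : L) := by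
      obtain ⟨u, hu⟩ := hc w.leadingCoeff
      refine ⟨GradedRing.proj 𝒢 (j + e) u, mul_right_cancel₀ (b := algebraMap G L b)
        (fun h0 => hb0 (Subtype.ext h0)) ?_⟩
      rw [mul_assoc, habL, ← map_mul, ← map_mul]
      have hG : u * b = c * a := hGL (by rw [map_mul, map_mul, hu, mul_assoc, habL])
      have h1 := congrArg (fun x => (δ 𝒢 B x).coeff (j + e + m)) hG
      simp only [map_mul, ha, hb] at h1
      rw [Polynomial.coeff_mul_monomial, show j + e + m = j + (e + m) by omega,
        Polynomial.coeff_mul_monomial, coeff_δ, coeff_δ, ← map_mul, ← map_mul] at h1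
      rw [hGB h1]
    obtain ⟨u₂, hu₂⟩ := ih (z - w.leadingCoeff) w.eraseLead (by
      rw [← Polynomial.self_sub_monomial_natDegree_leadingCoeff, map_sub, hw, hz0, ← map_sub]
      rfl) (Nat.le_of_lt_succ (lt_of_lt_of_le (Polynomial.eraseLead_support_card_lt hw0) hcard))
    refine ⟨u₁ + u₂, ?_⟩
    rw [map_add, hu₁, hu₂]
    show _ + _ * ((z : L) - (w.leadingCoeff : L)) = _
    ring

/-- A finite length `Ḡ / G` is killed by a power of the irrelevant ideal. -/
private theorem irrelevant_le_radical
    (hfin : IsFiniteLength G (↥(integralClosure G L) ⧸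
      LinearMap.range (Algebra.linearMap G ↥(integralClosure G L)))) :
    (HomogeneousIdeal.irrelevant 𝒢).toIdeal ≤ (Module.annihilator G (↥(integralClosure G L) ⧸
      LinearMap.range (Algebra.linearMap G ↥(integralClosure G L)))).radical := by
  classical
  set B := integralClosure G L
  set P := LinearMap.range (Algebra.linearMap G B)
  obtain ⟨-, hart⟩ := isFiniteLength_iff_isNoetherian_isArtinian.1 hfin
  have hom : ∀ x ∈ Module.annihilator G (B ⧸ P), ∀ j,
      GradedRing.proj 𝒢 j x ∈ Module.annihilator G (B ⧸ P) := by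
    intro x hx j
    have key : ∀ c : G, c ∈ Module.annihilator G (B ⧸ P) ↔
        ∀ z : B, ∃ u : G, algebraMap G L u = algebraMap G L c * (z : L) := fun c => by
      rw [Module.mem_annihilator]
      constructor
      · intro h z
        obtain ⟨u, hu⟩ := (Submodule.Quotient.mk_eq_zero P).1
          ((Submodule.Quotient.mk_smul P c z).trans (h (Submodule.Quotient.mk z)))
        exact ⟨u, (congrArg Subtype.val hu).trans (Algebra.smul_def c (z : L))⟩
      · intro h q
        obtain ⟨z, rfl⟩ := Submodule.Quotient.mk_surjective P q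
        obtain ⟨u, hu⟩ := h z
        rw [← Submodule.Quotient.mk_smul, Submodule.Quotient.mk_eq_zero]
        exact ⟨u, Subtype.ext (hu.trans (Algebra.smul_def c (z : L)).symm)⟩
    exact (key _).2 (proj_mul_mem 𝒢 x ((key x).1 hx) j)
  have hhom : ∀ (d : ℕ) (f : G), 0 < d → f ∈ 𝒢 d → f ∈ (Module.annihilator G (B ⧸ P)).radical := by
    intro d f hd hf
    obtain ⟨N, hN⟩ := IsArtinian.monotone_stabilizes (R := G) (M := B ⧸ P)
      ⟨fun n => OrderDual.toDual (LinearMap.range ((f ^ n) • (LinearMap.id : (B ⧸ P) →ₗ[G] (B ⧸ P)))),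
        fun a b hab => by
          show LinearMap.range ((f ^ b) • (LinearMap.id : (B ⧸ P) →ₗ[G] (B ⧸ P))) ≤ _
          rintro _ ⟨x, rfl⟩
          obtain ⟨c, rfl⟩ := Nat.exists_eq_add_of_le hab
          exact ⟨f ^ c • x, by simp [pow_add, mul_smul, smul_comm (f ^ a) (f ^ c)]⟩⟩
    set W := LinearMap.range ((f ^ N) • (LinearMap.id : (B ⧸ P) →ₗ[G] (B ⧸ P)))
    obtain ⟨hnoeth, -⟩ := isFiniteLength_iff_isNoetherian_isArtinian.1 hfin
    have hW : W ≤ Ideal.span {f} • W := by
      have h1 : W = LinearMap.range ((f ^ (N + 1)) • (LinearMap.id : (B ⧸ P) →ₗ[G] (B ⧸ P))) :=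
        OrderDual.toDual.injective (hN (N + 1) (Nat.le_succ N))
      rintro x hx
      rw [h1] at hx
      obtain ⟨y, rfl⟩ := hx
      simp only [LinearMap.smul_apply, LinearMap.id_apply, pow_succ', mul_smul]
      exact Submodule.smul_mem_smul (Ideal.mem_span_singleton_self f) ⟨y, by simp⟩
    obtain ⟨r, hr, hrW⟩ := Submodule.exists_sub_one_mem_and_smul_eq_zero_of_fg_of_le_smul
      (Ideal.span {f}) W (IsNoetherian.noetherian W) hW
    obtain ⟨a, ha⟩ := Ideal.mem_span_singleton'.1 hr
    have hmem : f ^ N + a * f ^ (N + 1) ∈ Module.annihilator G (B ⧸ P) := by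
      rw [Module.mem_annihilator]
      intro q
      rw [show f ^ N + a * f ^ (N + 1) = r * f ^ N by linear_combination (f ^ N) * ha, mul_smul]
      exact hrW _ ⟨q, by simp⟩
    refine ⟨N, ?_⟩
    have h2 := hom _ hmem (N * d)
    have hfN : f ^ N ∈ 𝒢 (N * d) := by rw [← smul_eq_mul]; exact SetLike.pow_mem_graded N hf
    have hfN1 : f ^ (N + 1) ∈ 𝒢 ((N + 1) * d) := by
      rw [← smul_eq_mul]; exact SetLike.pow_mem_graded (N + 1) hf
    rwa [map_add, GradedRing.proj_apply, DirectSum.decompose_of_mem_same 𝒢 hfN, GradedRing.proj_apply,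
      DirectSum.coe_decompose_mul_of_right_mem_of_not_le 𝒢 hfN1 (by nlinarith), add_zero] at h2
  intro x hx
  rw [← DirectSum.sum_support_decompose 𝒢 x]
  refine Ideal.sum_mem _ fun i _ => ?_
  rcases Nat.eq_zero_or_pos i with rfl | hi
  · have h0 : GradedRing.proj 𝒢 0 x = 0 := (HomogeneousIdeal.mem_irrelevant_iff 𝒢 x).1 hx
    rw [GradedRing.proj_apply] at h0
    rw [h0]; exact zero_mem _
  · exact hhom i _ hi (SetLike.coe_mem _)

private theorem isMaximal_irrelevant (h0 : ∀ x ∈ 𝒢 0, x ∈ Set.range (algebraMap k G)) :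
    (HomogeneousIdeal.irrelevant 𝒢).toIdeal.IsMaximal := by
  classical
  rw [Ideal.isMaximal_iff]
  refine ⟨fun h => ?_, fun I x hI hx hxI => ?_⟩
  · have h1 : GradedRing.proj 𝒢 0 1 = 0 := (HomogeneousIdeal.mem_irrelevant_iff 𝒢 1).1 h
    rw [GradedRing.proj_apply, DirectSum.decompose_of_mem_same 𝒢 SetLike.GradedOne.one_mem] at h1
    exact one_ne_zero h1
  · obtain ⟨c, hc⟩ := h0 _ (SetLike.coe_mem (DirectSum.decompose 𝒢 x 0))
    have h1 : x - (DirectSum.decompose 𝒢 x 0 : G) ∈ (HomogeneousIdeal.irrelevant 𝒢).toIdeal := by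
      show x - _ ∈ HomogeneousIdeal.irrelevant 𝒢
      rw [HomogeneousIdeal.mem_irrelevant_iff, map_sub, GradedRing.proj_apply, GradedRing.proj_apply,
        DirectSum.decompose_of_mem_same 𝒢 (SetLike.coe_mem _), sub_self]
    have h2 : (DirectSum.decompose 𝒢 x 0 : G) ∈ I := by
      have := sub_mem hxI (hI h1)
      rwa [sub_sub_cancel] at this
    rw [← hc] at h2
    have hc0 : c ≠ 0 := by
      rintro rfl
      rw [← hc, map_zero, sub_zero] at h1
      exact hx h1
    have := I.mul_mem_left (algebraMap k G c⁻¹) h2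
    rwa [← map_mul, inv_mul_cancel₀ hc0, map_one] at this

end Helpers


set_option maxHeartbeats 1000000 in
set_option synthInstance.maxHeartbeats 200000 in
/-- (i) ⇔ (ii): let k be a field and G a Noetherian ℕ-graded k-algebra which is an integral domain of
Krull dimension at least 2 with G_0 = k (the degree-0 part is the image of k); let L be the fraction
field of G and Ḡ the integral closure of G in L. Then the open subscheme Spec G − V(G_+) is normal,
i.e. G_p is integrally closed for every prime p not containing the irrelevant ideal G_+, if and only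
if the G-module Ḡ/G has finite length. -/
theorem result (k : Type u) [Field k]
    (G : Type u) [CommRing G] [IsDomain G] [Algebra k G] [IsNoetherianRing G]
    (𝒢 : ℕ → Submodule k G) [GradedAlgebra 𝒢]
    (h0 : ∀ x ∈ 𝒢 0, x ∈ Set.range (algebraMap k G)) (hdim : 2 ≤ ringKrullDim G)
    (L : Type u) [Field L] [Algebra G L] [IsFractionRing G L] :
    (∀ (p : Ideal G) [p.IsPrime], ¬ (HomogeneousIdeal.irrelevant 𝒢).toIdeal ≤ p →
        IsIntegrallyClosed (Localization.AtPrime p)) ↔
      IsFiniteLength G (↥(integralClosure G L) ⧸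
        LinearMap.range (Algebra.linearMap G ↥(integralClosure G L))) := by
  classical
  set B := integralClosure G L
  set P := LinearMap.range (Algebra.linearMap G B)
  set I := (HomogeneousIdeal.irrelevant 𝒢).toIdeal
  have hGL : Function.Injective (algebraMap G L) := IsFractionRing.injective G L
  have hI : I.IsMaximal := isMaximal_irrelevant 𝒢 h0
  have key : ∀ (c : G) (z : B), c • z ∈ P ↔ ∃ u : G, algebraMap G L u = algebraMap G L c * (z : L) :=
    fun c z => ⟨fun ⟨u, hu⟩ => ⟨u, (congrArg Subtype.val hu).trans (Algebra.smul_def c (z : L))⟩,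
      fun ⟨u, hu⟩ => ⟨u, Subtype.ext (hu.trans (Algebra.smul_def c (z : L)).symm)⟩⟩
  constructor
  · intro hnor
    haveI : Algebra.FiniteType k G := Groth.Smt.finiteType_of_graded 𝒢 fun a ha => h0 a ha
    haveI : Module.Finite G B := Groth.Agent.S10862.result k G L L
    haveI : Module.Finite G (B ⧸ P) := inferInstance
    rw [← Module.length_ne_top_iff]
    refine Groth.MilnorKLambda.Per.length_ne_top_of_forall_isMaximal fun q hq hle => ?_
    by_cases hIq : I ≤ q
    · rw [← hI.eq_of_le hq.ne_top hIq]; exact hI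
    exfalso
    haveI := hq
    haveI := hnor q hIq
    have hmem : (⟨q, hq⟩ : PrimeSpectrum G) ∈ Module.support G (B ⧸ P) := by
      rw [Module.support_eq_zeroLocus]; exact hle
    obtain ⟨x, hx⟩ := Module.mem_support_iff'.1 hmem
    obtain ⟨z, rfl⟩ := Submodule.Quotient.mk_surjective P x
    letI : Algebra (Localization.AtPrime q) L := (IsLocalization.lift (M := q.primeCompl) (g := algebraMap G L)
      fun y => IsUnit.mk0 _ ((map_ne_zero_iff _ hGL).2 fun h => y.2 (h ▸ zero_mem q))).toAlgebra
    haveI : IsScalarTower G (Localization.AtPrime q) L :=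
      IsScalarTower.of_algebraMap_eq fun a => (IsLocalization.lift_eq _ a).symm
    haveI : IsFractionRing (Localization.AtPrime q) L :=
      IsFractionRing.isFractionRing_of_isDomain_of_isLocalization q.primeCompl _ L
    obtain ⟨w, hw⟩ := IsIntegrallyClosed.isIntegral_iff.1 (z.2.tower_top (A := Localization.AtPrime q))
    obtain ⟨⟨a, s⟩, has⟩ := IsLocalization.surj q.primeCompl w
    refine hx (s : G) s.2 ?_
    rw [← Submodule.Quotient.mk_smul, Submodule.Quotient.mk_eq_zero, key]
    refine ⟨a, ?_⟩
    have := congrArg (algebraMap (Localization.AtPrime q) L) has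
    rw [map_mul, hw, ← IsScalarTower.algebraMap_apply, ← IsScalarTower.algebraMap_apply] at this
    rw [← this, mul_comm]
  · intro hfin q hq hIq
    obtain ⟨f, hfI, hfq⟩ := SetLike.not_le_iff_exists.1 hIq
    obtain ⟨N, hN⟩ := irrelevant_le_radical 𝒢 hfin hfI
    haveI := hq
    letI : Algebra (Localization.AtPrime q) L := (IsLocalization.lift (M := q.primeCompl) (g := algebraMap G L)
      fun y => IsUnit.mk0 _ ((map_ne_zero_iff _ hGL).2 fun h => y.2 (h ▸ zero_mem q))).toAlgebra
    haveI : IsScalarTower G (Localization.AtPrime q) L :=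
      IsScalarTower.of_algebraMap_eq fun a => (IsLocalization.lift_eq _ a).symm
    haveI : IsFractionRing (Localization.AtPrime q) L :=
      IsFractionRing.isFractionRing_of_isDomain_of_isLocalization q.primeCompl _ L
    refine (isIntegrallyClosed_iff L).2 fun {x} hx => ?_
    obtain ⟨s, hs⟩ := IsIntegral.exists_multiple_integral_of_isLocalization q.primeCompl x hx
    have hzero := Module.mem_annihilator.1 hN (Submodule.Quotient.mk (⟨(s : G) • x, hs⟩ : B))
    rw [← Submodule.Quotient.mk_smul, Submodule.Quotient.mk_eq_zero, key] at hzero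
    obtain ⟨u, hu⟩ := hzero
    refine ⟨IsLocalization.mk' (Localization.AtPrime q) u
      (⟨f ^ N * (s : G), mul_mem (pow_mem (show f ∈ q.primeCompl from hfq) N) s.2⟩ : q.primeCompl), ?_⟩
    have h1 := congrArg (algebraMap (Localization.AtPrime q) L)
      (IsLocalization.mk'_spec (Localization.AtPrime q) u
        (⟨f ^ N * (s : G), mul_mem (pow_mem (show f ∈ q.primeCompl from hfq) N) s.2⟩ : q.primeCompl))
    rw [map_mul, ← IsScalarTower.algebraMap_apply, ← IsScalarTower.algebraMap_apply, hu, map_mul] at h1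
    refine mul_right_cancel₀ (b := algebraMap G L (f ^ N) * algebraMap G L (s : G))
      (mul_ne_zero ((map_ne_zero_iff _ hGL).2 (pow_ne_zero N fun h => hfq (h ▸ zero_mem q)))
        ((map_ne_zero_iff _ hGL).2 fun h => s.2 (h ▸ zero_mem q))) ?_
    rw [h1]
    show _ * ((s : G) • x) = _
    rw [Algebra.smul_def]
    ring

end Groth.Agent.S14657
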