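import Groth.Statements.S14658
import Groth.Agent.FiltBlProj.UnitDegree
-- import your own Groth.Agent.* helpers here

set_option autoImplicit false
universe u
open FiltBl

namespace Groth.Agent.S14658

lemma isRegularRing_of_isLocalization {R : Type u} [CommRing R] [IsRegularRing R] (M : Submonoid R)
    (S : Type u) [CommRing S] [Algebra R S] [IsLocalization M S] : IsRegularRing S := by
  haveI := IsLocalization.isNoetherianRing M S inferInstance
  refine isRegularRing_iff.mpr fun P hP => ?_
  have := IsLocalization.isLocalization_isLocalization_atPrime_isLocalization M (Localization.AtPrime P) P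
  exact IsRegularLocalRing.of_ringEquiv
    (IsLocalization.algEquiv (P.under R).primeCompl (Localization.AtPrime (P.under R)) (Localization.AtPrime P)).toRingEquiv

open Polynomial in
lemma isRegularLocalRing_adjoinRoot {R : Type u} [CommRing R] (𝒜 : ℤ → AddSubgroup R) [GradedRing 𝒜]
    (N : ℕ) (hN : 0 < N) (t : R) (ht : t ∈ 𝒜 (N : ℤ)) (htu : IsUnit t)
    (hC : IsRegularLocalRing (R ⧸ Ideal.span {t - 1}))
    (q : Ideal (AdjoinRoot (X ^ N - C t))) [q.IsPrime] :
    IsRegularLocalRing (Localization.AtPrime q) := by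
  set S := AdjoinRoot (X ^ N - C t)
  set Cq := R ⧸ Ideal.span {t - 1}
  haveI : IsRegularRing Cq := (isRegularRing_iff).mpr fun p hp =>
    Groth.Ega4Algebra1.isRegularLocalRing_localization_atPrime Cq p
  set π := Ideal.Quotient.mk (Ideal.span {t - 1})
  have ht1 : π t = 1 := by
    rw [← sub_eq_zero, ← map_one π, ← map_sub]
    exact Ideal.Quotient.eq_zero_iff_mem.mpr (Ideal.mem_span_singleton_self _)
  -- forward map
  let g : R →+* LaurentPolynomial Cq := Groth.FiltBlProj.gradedHom
    (fun i => ((AddMonoidHom.mulRight (LaurentPolynomial.T i : LaurentPolynomial Cq)).comp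
      ((LaurentPolynomial.C.comp π).toAddMonoidHom.comp (𝒜 i).subtype)))
    (by simp) (fun {i j} a b => by
      simp only [AddMonoidHom.comp_apply, AddMonoidHom.mulRight_apply, RingHom.toAddMonoidHom_eq_coe,
        AddMonoidHom.coe_coe, AddSubgroup.subtype_apply, RingHom.comp_apply, map_mul, LaurentPolynomial.T_add]
      ring)
  have hg : ∀ {i : ℤ} (a : 𝒜 i), g a = LaurentPolynomial.C (π a) * LaurentPolynomial.T i := fun a =>
    (Groth.FiltBlProj.gradedHom_apply _ _ _ a).trans (by simp)
  let F : S →+* LaurentPolynomial Cq := AdjoinRoot.lift g (LaurentPolynomial.T 1) (by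
    simp only [eval₂_sub, eval₂_X_pow, eval₂_C, LaurentPolynomial.T_pow]
    rw [hg ⟨t, ht⟩]
    simp [ht1])
  -- backward map
  set U := AdjoinRoot.root (X ^ N - C t)
  have hUN : U ^ N = AdjoinRoot.of _ t := by
    have := AdjoinRoot.eval₂_root (X ^ N - C t)
    simpa [sub_eq_zero] using this
  have hUu : IsUnit U := (isUnit_pow_iff hN.ne').mp (hUN ▸ htu.map _)
  set u := hUu.unit
  let g' : R →+* S := Groth.FiltBlProj.gradedHom
    (fun i => ((AddMonoidHom.mulRight ((u ^ (-i) : Sˣ) : S)).comp
      ((AdjoinRoot.of (X ^ N - C t)).toAddMonoidHom.comp (𝒜 i).subtype)))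
    (by simp) (fun {i j} a b => by simp [zpow_add]; ring)
  have hg' : ∀ {i : ℤ} (a : 𝒜 i), g' a = AdjoinRoot.of _ (a : R) * ((u ^ (-i) : Sˣ) : S) := fun a =>
    (Groth.FiltBlProj.gradedHom_apply _ _ _ a).trans (by simp)
  have hg't : g' (t - 1) = 0 := by
    rw [map_sub, map_one, hg' ⟨t, ht⟩, ← hUN, zpow_neg, zpow_natCast, sub_eq_zero]
    rw [show U ^ N = ((u ^ N : Sˣ) : S) by simp [u], ← Units.val_mul, mul_inv_cancel, Units.val_one]
  let g'' : Cq →+* S := Ideal.Quotient.lift _ g' (fun a ha => by
    obtain ⟨r, rfl⟩ := Ideal.mem_span_singleton'.mp ha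
    rw [map_mul, hg't, mul_zero])
  let G : LaurentPolynomial Cq →+* S := LaurentPolynomial.eval₂ g'' u
  have hGF : G.comp F = RingHom.id S := by
    refine AdjoinRoot.ringHom_ext ?_ ?_
    · refine Groth.FiltBlProj.hom_ext_of_homogeneous (𝒜 := 𝒜) fun i a ha => ?_
      simp only [RingHom.comp_apply, RingHom.id_apply, F, AdjoinRoot.lift_of]
      rw [hg ⟨a, ha⟩, LaurentPolynomial.eval₂_C_mul_T]
      show g' a * _ = _
      rw [hg' ⟨a, ha⟩, mul_assoc, ← Units.val_mul, ← zpow_add, neg_add_cancel, zpow_zero, Units.val_one, mul_one]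
      rfl
    · simp [F, G, u, U]
      rfl
  have hFu : ∀ n : ℤ, F ((u ^ n : Sˣ) : S) = LaurentPolynomial.T n := by
    have h1 : F U = LaurentPolynomial.T 1 := AdjoinRoot.lift_root _
    intro n
    induction n using Int.induction_on with
    | zero => simp
    | succ n ih =>
      rw [zpow_add_one, Units.val_mul, map_mul, ih, LaurentPolynomial.T_add, IsUnit.unit_spec, h1]
    | pred n ih =>
      refine (LaurentPolynomial.isUnit_T (1 : ℤ)).mul_left_injective ?_
      dsimp only
      rw [← h1, ← hUu.unit_spec, ← map_mul, ← Units.val_mul, ← zpow_add_one, sub_add_cancel, ih, IsUnit.unit_spec,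
        h1, ← LaurentPolynomial.T_add, sub_add_cancel]
  have hFG : F.comp G = RingHom.id _ := by
    have h1 : (F.comp G).comp LaurentPolynomial.C = LaurentPolynomial.C := by
      refine Ideal.Quotient.ringHom_ext ?_
      refine Groth.FiltBlProj.hom_ext_of_homogeneous (𝒜 := 𝒜) fun i a ha => ?_
      simp only [RingHom.comp_apply, G, LaurentPolynomial.eval₂_C]
      show F (g' a) = _
      rw [hg' ⟨a, ha⟩, map_mul, hFu (-i)]
      rw [show F (AdjoinRoot.of _ a) = g a from AdjoinRoot.lift_of _, hg ⟨a, ha⟩, mul_assoc,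
        ← LaurentPolynomial.T_add, add_neg_cancel, LaurentPolynomial.T_zero, mul_one]
    refine RingHom.ext fun p => ?_
    induction p using LaurentPolynomial.induction_on' with
    | add p q hp hq => simp only [map_add, hp, hq]
    | C_mul_T n r =>
      rw [map_mul, RingHom.id_apply]
      congr 1
      · exact RingHom.congr_fun h1 r
      · simp only [RingHom.comp_apply, G, LaurentPolynomial.eval₂_T]
        rw [hFu n]
  haveI : IsRegularRing (LaurentPolynomial Cq) := isRegularRing_of_isLocalization (Submonoid.powers (X : Cq[X])) _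
  let E : LaurentPolynomial Cq ≃+* S := RingEquiv.ofRingHom G F hGF hFG
  haveI : IsRegularRing S := IsRegularRing.of_ringEquiv E
  exact IsRegularRing.isRegularLocalRing_localization q


/-- Let R be a Noetherian ℤ-graded commutative ring which is regular (every localization at a prime is a
regular local ring) and whose degree-0 subring R_0 is a local ring with maximal ideal m. Let t ∈ R_N
be a homogeneous unit of R of positive degree N such that R_i · R_j ⊆ m · t for all positive i, j
with i + j = N (every product a b with a ∈ R_i, b ∈ R_j is c t for some c ∈ m). Then the ring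
R[U]/(U^N − t), U an indeterminate, is again regular: all its localizations at prime ideals are
regular local rings. -/
theorem result (R : Type u) [CommRing R]
    [IsNoetherianRing R] (𝒜 : ℤ → AddSubgroup R) [GradedRing 𝒜]
    (hreg : ∀ (p : Ideal R) [p.IsPrime], IsRegularLocalRing (Localization.AtPrime p))
    [IsLocalRing (GrLC.deg0 𝒜)] (N : ℕ) (hN : 0 < N) (t : R) (ht : t ∈ 𝒜 (N : ℤ))
    (htu : IsUnit t)
    (hm : ∀ (i j : ℤ), 0 < i → 0 < j → i + j = (N : ℤ) → ∀ a ∈ 𝒜 i, ∀ b ∈ 𝒜 j,
      ∃ c : GrLC.deg0 𝒜, c ∈ IsLocalRing.maximalIdeal (GrLC.deg0 𝒜) ∧ a * b = (c : R) * t)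
    (q : Ideal (AdjoinRoot (Polynomial.X ^ N - Polynomial.C t))) [q.IsPrime] :
    IsRegularLocalRing (Localization.AtPrime q) := by
  have hmin : Groth.FiltBlProj.MinDeg 𝒜 N := by
    intro i hi hiN s hs hu
    have hmem : ((hu.unit⁻¹ : Rˣ) : R) * t ∈ 𝒜 ((N : ℤ) - i) := by
      have h := Groth.FiltBlProj.zpow_mem_graded (N := i.toNat) (t := s)
        (by rwa [Int.toNat_of_nonneg hi.le]) hu (-1)
      rw [zpow_neg_one, Int.toNat_of_nonneg hi.le] at h
      have h2 := SetLike.mul_mem_graded h ht
      rwa [show -1 * i + (N : ℤ) = N - i by ring] at h2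
    obtain ⟨c, hc, hct⟩ := hm i ((N : ℤ) - i) hi (by omega) (by ring) s hs _ hmem
    rw [← mul_assoc, hu.mul_val_inv, one_mul] at hct
    have h1 : (c : R) = 1 := (htu.mul_left_inj).mp (by rw [one_mul]; exact hct.symm)
    exact (IsLocalRing.mem_maximalIdeal _).mp hc ((Subtype.ext h1 : c = 1) ▸ isUnit_one)
  have hC := Groth.FiltBlProj.isRegularLocalRing_quot_sub_one ht htu hreg hN hmin
  exact isRegularLocalRing_adjoinRoot 𝒜 N hN t ht htu hC q

end Groth.Agent.S14658
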