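import Groth.Statements.S14660
import Mathlib
import Groth.Agent.Calg7.ExtReesCM
-- import your own Groth.Agent.* helpers here

set_option autoImplicit false
universe u
open FiltBl

namespace Groth.Agent.S14660

section Helpers

open IsLocalRing LaurentPolynomial

variable {A : Type u} [CommRing A] [IsNoetherianRing A] (q : Ideal A) [q.IsPrime]

private theorem cm_base_of_cm_laurent (𝔔 : Ideal A[T;T⁻¹]) [𝔔.IsPrime]
    (hc : 𝔔.comap (algebraMap A A[T;T⁻¹]) = q) (hm : q.map (algebraMap A A[T;T⁻¹]) = 𝔔)
    (h : LocCoh.IsCohenMacaulayLocalRing (Localization.AtPrime 𝔔)) :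
    LocCoh.IsCohenMacaulayLocalRing (Localization.AtPrime q) := by
  letI : Algebra (Localization.AtPrime q) (Localization.AtPrime 𝔔) :=
    (Localization.localRingHom q 𝔔 (algebraMap A A[T;T⁻¹]) hc.symm).toAlgebra
  haveI : IsScalarTower A (Localization.AtPrime q) (Localization.AtPrime 𝔔) :=
    IsScalarTower.of_algebraMap_eq fun a => by
      rw [RingHom.algebraMap_toAlgebra, Localization.localRingHom_to_map,
        IsScalarTower.algebraMap_apply A A[T;T⁻¹]]
  haveI : IsLocalHom (algebraMap (Localization.AtPrime q) (Localization.AtPrime 𝔔)) :=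
    Localization.isLocalHom_localRingHom q 𝔔 (algebraMap A A[T;T⁻¹]) hc.symm
  haveI : Module.Flat (Localization.AtPrime q) (Localization.AtPrime 𝔔) :=
    RingHom.Flat.localRingHom (RingHom.flat_algebraMap_iff.2 (inferInstance : Module.Flat A A[T;T⁻¹])) 𝔔 q
      hc.symm
  haveI : IsNoetherianRing A[T;T⁻¹] :=
    IsLocalization.isNoetherianRing (Submonoid.powers (Polynomial.X : Polynomial A)) _ inferInstance
  haveI : IsNoetherianRing (Localization.AtPrime q) :=
    IsLocalization.isNoetherianRing q.primeCompl _ inferInstance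
  haveI : IsNoetherianRing (Localization.AtPrime 𝔔) :=
    IsLocalization.isNoetherianRing 𝔔.primeCompl _ inferInstance
  have hmax : (maximalIdeal (Localization.AtPrime q)).map (algebraMap _ (Localization.AtPrime 𝔔))
      = maximalIdeal (Localization.AtPrime 𝔔) := by
    rw [← Localization.AtPrime.map_eq_maximalIdeal, Ideal.map_map, ← IsScalarTower.algebraMap_eq,
      IsScalarTower.algebraMap_eq A A[T;T⁻¹], ← Ideal.map_map, hm, Localization.AtPrime.map_eq_maximalIdeal]
  exact Groth.Calg4.isCohenMacaulayLocalRing_of_flat_descend _ _ h (hmax.ge.trans Ideal.le_radical)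

private theorem cm_laurent_of_cm_base (h : LocCoh.IsCohenMacaulayLocalRing (Localization.AtPrime q))
    (Q : Ideal (Polynomial A)) [Q.IsPrime] (hQ : Q.comap Polynomial.C = q) :
    LocCoh.IsCohenMacaulayLocalRing (Localization.AtPrime Q) := by
  letI := Polynomial.algebra A (Localization.AtPrime q)
  haveI := Polynomial.isLocalization q.primeCompl (Localization.AtPrime q)
  haveI : IsNoetherianRing (Localization.AtPrime q) :=
    IsLocalization.isNoetherianRing q.primeCompl _ inferInstance
  have hdisj : Disjoint (q.primeCompl.map Polynomial.C : Set (Polynomial A)) (Q : Set (Polynomial A)) := by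
    refine Set.disjoint_left.2 ?_
    rintro _ ⟨a, ha, rfl⟩ haQ
    exact ha (hQ ▸ (show a ∈ Q.comap Polynomial.C from haQ))
  haveI := IsLocalization.isPrime_of_isPrime_disjoint (q.primeCompl.map Polynomial.C)
    (Polynomial (Localization.AtPrime q)) Q inferInstance hdisj
  have hcomap : (Q.map (algebraMap (Polynomial A) (Polynomial (Localization.AtPrime q)))).comap
      (algebraMap (Polynomial A) (Polynomial (Localization.AtPrime q))) = Q :=
    IsLocalization.comap_map_of_isPrime_disjoint (q.primeCompl.map Polynomial.C) _ ‹Q.IsPrime› hdisj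
  obtain ⟨e⟩ := Calg7.ExtRees.nonempty_equiv_of_isLocalization (q.primeCompl.map Polynomial.C)
    (Q.map (algebraMap (Polynomial A) (Polynomial (Localization.AtPrime q))))
  exact Calg7.ExtRees.congr_atPrime (fun R _ => LocCoh.IsCohenMacaulayLocalRing R) hcomap
    (Groth.Ega4b.isCohenMacaulayLocalRing_of_ringEquiv e.symm
      (Calg7.ExtRees.isCohenMacaulayLocalRing_polynomial (Localization.AtPrime q)
        (fun p _ => Groth.PropsBasic.isCohenMacaulayLocalRing_localization h p) _))

omit [IsNoetherianRing A] in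
private theorem nonempty_atPrime_equiv {R S : Type u} [CommRing R] [CommRing S] (e : R ≃+* S) (p : Ideal S)
    [p.IsPrime] : Nonempty (Localization.AtPrime (p.comap e.toRingHom) ≃+* Localization.AtPrime p) := by
  have hmap : Submonoid.map e.toRingHom.toMonoidHom (p.comap e.toRingHom).primeCompl = p.primeCompl := by
    ext x
    constructor
    · rintro ⟨y, hy, rfl⟩
      exact hy
    · intro hx
      exact ⟨e.symm x, by simpa [Ideal.primeCompl] using hx, e.apply_symm_apply x⟩
  exact ⟨IsLocalization.ringEquivOfRingEquiv (Localization.AtPrime (p.comap e.toRingHom))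
    (Localization.AtPrime p) e hmap⟩

omit [IsNoetherianRing A] in
private theorem cm_atPrime_iff_of_surjective {R G : Type u} [CommRing R] [IsNoetherianRing R] [CommRing G]
    (x : R) (hx : IsSMulRegular R x) (φ : R →+* G) (hφ : Function.Surjective φ)
    (hker : RingHom.ker φ = Ideal.span {x}) (p : Ideal G) [p.IsPrime] :
    LocCoh.IsCohenMacaulayLocalRing (Localization.AtPrime p) ↔
      LocCoh.IsCohenMacaulayLocalRing (Localization.AtPrime (p.comap φ)) := by
  let Φ : ∀ (R : Type u) [CommRing R], Prop := fun R _ => LocCoh.IsCohenMacaulayLocalRing R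
  have hiso : ∀ (R S : Type u) [CommRing R] [CommRing S], (R ≃+* S) → Φ R → Φ S := fun R S _ _ e h =>
    Groth.Ega4b.isCohenMacaulayLocalRing_of_ringEquiv e h
  let e : (R ⧸ Ideal.span {x}) ≃+* G :=
    (Ideal.quotEquivOfEq hker.symm).trans (RingHom.quotientKerEquivOfSurjective hφ)
  obtain ⟨e'⟩ := nonempty_atPrime_equiv e p
  have hc : (p.comap e.toRingHom).comap (Ideal.Quotient.mk (Ideal.span {x})) = p.comap φ := by
    rw [Ideal.comap_comap]
    rfl
  have h1 := Calg7.ExtRees.atPrime_quotient_iff Φ hiso Calg7.ExtRees.cm_quotient_iff x hx (p.comap e.toRingHom)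
  exact ⟨fun h => Calg7.ExtRees.congr_atPrime Φ hc (h1.2 (hiso _ _ e'.symm h)),
    fun h => hiso _ _ e' (h1.1 (Calg7.ExtRees.congr_atPrime Φ hc.symm h))⟩

end Helpers


/-- (ii) ⇔ (iii): let A be a Noetherian local ring that is a quotient of a Gorenstein ring, and F a
filtration of ideals on A (F^0 = A ⊇ F^1 ⊇ ⋯, F^i F^j ⊆ F^{i+j}) with every F^n nonzero and ⋂ F^n =
0, whose Rees algebra ⊕_{n ≥ 0} F^n X^n is finitely generated over A and with F^1 of height at least
2 (equivalently, every F^n with n ≥ 1 has height at least 2, all F^n having the same radical). Let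
R' = ⊕_{n ∈ ℤ} F^n T^n ⊆ A[T, T⁻¹] be the extended Rees algebra, R_+R' its ideal generated by the
elements a T^n with n ≥ 1 and a ∈ F^n, u = T⁻¹, and G the associated graded ring, given here as any
ring with a surjection φ : R' → G whose kernel is uR', with G_+ = φ(R_+R'). Then the open subscheme
Spec R' − V(R_+R') is Cohen–Macaulay (every localization of R' at a prime not containing R_+R' is a
Cohen–Macaulay local ring) if and only if the localization G_p is Cohen–Macaulay for every prime p
of G with G_+ ⊄ p and the localization A_q is Cohen–Macaulay for every prime q of A with F^1 ⊄ q.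
(The published statement phrases the first condition for the scheme Spec_X ⊕_{n ∈ ℤ} O_X(n) over the
filtered blowing-up X = Proj ⊕_{n ≥ 0} F^n T^n, which is identified with this open subscheme of Spec
R'; it asks the condition on G only at homogeneous primes not containing G_+, which for the graded
ring G is equivalent to asking it at all such primes; it states the condition on A at the primes not
containing a fixed F^N with F^{nN} = (F^N)^n for all n, an ideal with the same radical as F^1; and
it is made under the further standing assumption that no nonzero element of ⊕_{n ≥ 0} F^n T^n is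
annihilated by a power of the ideal generated by its homogeneous elements of positive degree, which
this row does not assume and which is not needed.) -/
theorem result (A : Type u) [CommRing A] [IsNoetherianRing A] [IsLocalRing A]
    (S : Type u) [CommRing S] [LocCoh.IsGorensteinRing S] (π : S →+* A) (hπ : Function.Surjective π)
    (𝓕 : FiltBl.IdealFiltration A) (hne : ∀ n, 𝓕.F n ≠ ⊥) (hsep : ⨅ n, 𝓕.F n = ⊥)
    (hfg : Algebra.FiniteType A 𝓕.rees) (hht : 2 ≤ (𝓕.F 1).height)
    (G : Type u) [CommRing G] (φ : 𝓕.extRees →+* G) (hφ : Function.Surjective φ)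
    (hker : RingHom.ker φ = Ideal.span {𝓕.u}) (Rp : Ideal 𝓕.extRees)
    (hRp : Rp = Ideal.span {x : 𝓕.extRees | ∃ n : ℕ, 0 < n ∧ ∃ a ∈ 𝓕.F n,
      (x : LaurentPolynomial A) = LaurentPolynomial.C a * LaurentPolynomial.T (n : ℤ)}) :
    (∀ (P : Ideal 𝓕.extRees) [P.IsPrime], ¬ Rp ≤ P →
        LocCoh.IsCohenMacaulayLocalRing (Localization.AtPrime P)) ↔
      ((∀ (p : Ideal G) [p.IsPrime], ¬ Ideal.map φ Rp ≤ p →
          LocCoh.IsCohenMacaulayLocalRing (Localization.AtPrime p)) ∧
        (∀ (q : Ideal A) [q.IsPrime], ¬ 𝓕.F 1 ≤ q →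
            LocCoh.IsCohenMacaulayLocalRing (Localization.AtPrime q))) := by
  classical
  haveI := Calg7.ExtRees.isNoetherianRing 𝓕 hfg
  haveI := Calg7.ExtRees.isLocalization 𝓕
  let Φ : ∀ (R : Type u) [CommRing R], Prop := fun R _ => LocCoh.IsCohenMacaulayLocalRing R
  have hiso : ∀ (R S : Type u) [CommRing R] [CommRing S], (R ≃+* S) → Φ R → Φ S := fun R S _ _ e h =>
    Groth.Ega4b.isCohenMacaulayLocalRing_of_ringEquiv e h
  have hu0 : φ 𝓕.u = 0 := by
    rw [← RingHom.mem_ker, hker]
    exact Ideal.mem_span_singleton_self _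
  have hred : ∀ (p : Ideal G) [p.IsPrime], LocCoh.IsCohenMacaulayLocalRing (Localization.AtPrime p) ↔
      LocCoh.IsCohenMacaulayLocalRing (Localization.AtPrime (p.comap φ)) := by
    intro p _
    exact cm_atPrime_iff_of_surjective 𝓕.u (Calg7.ExtRees.u_isSMulRegular 𝓕) φ hφ hker p
  have hF : ∀ {n : ℕ}, 0 < n → 𝓕.F n ≤ 𝓕.F 1 := fun hn => 𝓕.antitone hn
  constructor
  · intro h
    refine ⟨fun p _ hp => (hred p).2 (h (p.comap φ) fun hle => hp (Ideal.map_le_iff_le_comap.2 hle)), ?_⟩
    intro q _ hq
    obtain ⟨a, ha, haq⟩ := SetLike.not_le_iff_exists.1 hq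
    set q₀ : Ideal (Polynomial A) := q.map Polynomial.C with hq₀
    haveI hq₀p : q₀.IsPrime := Ideal.isPrime_map_C_of_isPrime
    have hdisj : Disjoint (Submonoid.powers (Polynomial.X : Polynomial A) : Set (Polynomial A)) (q₀ : Set _) := by
      refine Set.disjoint_left.2 ?_
      rintro _ ⟨k, rfl⟩ hk
      have := Ideal.mem_map_C_iff.1 hk k
      rw [Polynomial.coeff_X_pow, if_pos rfl] at this
      exact ‹q.IsPrime›.ne_top ((Ideal.eq_top_iff_one _).2 this)
    set 𝔔 : Ideal (LaurentPolynomial A) := q₀.map (algebraMap (Polynomial A) (LaurentPolynomial A)) with h𝔔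
    haveI : 𝔔.IsPrime :=
      IsLocalization.isPrime_of_isPrime_disjoint (Submonoid.powers Polynomial.X) _ q₀ hq₀p hdisj
    have hcC : (algebraMap (Polynomial A) (LaurentPolynomial A)).comp Polynomial.C
        = algebraMap A (LaurentPolynomial A) := by
      refine RingHom.ext fun b => ?_
      show algebraMap (Polynomial A) (LaurentPolynomial A) (Polynomial.C b) = algebraMap A _ b
      rw [LaurentPolynomial.algebraMap_eq_toLaurent, Polynomial.toLaurent_C]
      rfl
    have hm : q.map (algebraMap A (LaurentPolynomial A)) = 𝔔 := by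
      rw [h𝔔, hq₀, Ideal.map_map, hcC]
    have hc : 𝔔.comap (algebraMap A (LaurentPolynomial A)) = q := by
      rw [← hcC, ← Ideal.comap_comap, h𝔔,
        show (q₀.map (algebraMap (Polynomial A) (LaurentPolynomial A))).comap
          (algebraMap (Polynomial A) (LaurentPolynomial A)) = q₀ from
          IsLocalization.comap_map_of_isPrime_disjoint (Submonoid.powers Polynomial.X) _ hq₀p hdisj]
      refine le_antisymm (fun b hb => ?_) Ideal.le_comap_map
      simpa using Ideal.mem_map_C_iff.1 hb 0
    refine cm_base_of_cm_laurent q 𝔔 hc hm ?_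
    obtain ⟨e'⟩ := Calg7.ExtRees.nonempty_equiv_of_isLocalization (Submonoid.powers 𝓕.u) 𝔔
    haveI := Ideal.IsPrime.comap (K := 𝔔) (algebraMap 𝓕.extRees (LaurentPolynomial A))
    refine hiso _ _ e' (h _ fun hle => haq ?_)
    have hmem : LaurentPolynomial.C a * LaurentPolynomial.T ((1 : ℕ) : ℤ) ∈ 𝓕.extRees := fun m => by
      rw [← LaurentPolynomial.single_eq_C_mul_T, AddMonoidAlgebra.coeff_single, Finsupp.single_apply]
      split_ifs with hm
      · subst hm; simpa using ha
      · exact zero_mem _
    have h2 : LaurentPolynomial.C a * LaurentPolynomial.T ((1 : ℕ) : ℤ) ∈ 𝔔 :=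
      hle (hRp ▸ Ideal.subset_span ⟨1, one_pos, a, ha, rfl⟩ : (⟨_, hmem⟩ : 𝓕.extRees) ∈ Rp)
    rw [← hc]
    exact Ideal.mem_comap.2 ((Ideal.mul_unit_mem_iff_mem 𝔔 (LaurentPolynomial.isUnit_T _)).1 h2)
  · rintro ⟨hG, hA⟩ P _ hP
    by_cases huP : 𝓕.u ∈ P
    · have hle : RingHom.ker φ ≤ P := by rw [hker]; exact (Ideal.span_singleton_le_iff_mem _).2 huP
      haveI : (P.map φ).IsPrime := Ideal.map_isPrime_of_surjective hφ hle
      have hc : (P.map φ).comap φ = P := by
        rw [Ideal.comap_map_of_surjective' _ hφ, sup_eq_left.2 hle]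
      exact Calg7.ExtRees.congr_atPrime Φ hc ((hred (P.map φ)).1 (hG _ fun h => hP fun x hx =>
        hc ▸ (show x ∈ (P.map φ).comap φ from h (Ideal.mem_map_of_mem φ hx))))
    · have hdisj : Disjoint (Submonoid.powers 𝓕.u : Set 𝓕.extRees) (P : Set _) := by
        refine Set.disjoint_left.2 ?_
        rintro _ ⟨k, rfl⟩ hk
        exact huP (‹P.IsPrime›.mem_of_pow_mem k hk)
      set Q := P.map (algebraMap 𝓕.extRees (LaurentPolynomial A)) with hQ
      haveI : Q.IsPrime :=
        IsLocalization.isPrime_of_isPrime_disjoint (Submonoid.powers 𝓕.u) _ P inferInstance hdisj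
      have hcomap : Q.comap (algebraMap 𝓕.extRees (LaurentPolynomial A)) = P :=
        IsLocalization.comap_map_of_isPrime_disjoint (Submonoid.powers 𝓕.u) _ ‹P.IsPrime› hdisj
      set Q' := Q.comap (algebraMap (Polynomial A) (LaurentPolynomial A)) with hQ'
      haveI : Q'.IsPrime := Ideal.IsPrime.comap _
      haveI : (Q'.comap Polynomial.C).IsPrime := Ideal.IsPrime.comap _
      have hq : ¬ 𝓕.F 1 ≤ Q'.comap Polynomial.C := by
        intro hle
        refine hP ?_
        rw [hRp, Ideal.span_le]
        rintro x ⟨n, hn, a, ha, hx⟩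
        rw [SetLike.mem_coe, ← hcomap, Ideal.mem_comap]
        show (x : LaurentPolynomial A) ∈ Q
        rw [hx]
        refine Ideal.mul_mem_right _ _ ?_
        have h2 : algebraMap (Polynomial A) (LaurentPolynomial A) (Polynomial.C a) ∈ Q := hle (hF hn ha)
        rwa [LaurentPolynomial.algebraMap_eq_toLaurent, Polynomial.toLaurent_C] at h2
      obtain ⟨e₁⟩ := Calg7.ExtRees.nonempty_equiv_of_isLocalization (Submonoid.powers 𝓕.u) Q
      obtain ⟨e₂⟩ := Calg7.ExtRees.nonempty_equiv_of_isLocalization
        (Submonoid.powers (Polynomial.X : Polynomial A)) Q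
      exact Calg7.ExtRees.congr_atPrime Φ hcomap
        (hiso _ _ (e₂.trans e₁.symm) (cm_laurent_of_cm_base _ (hA _ hq) Q' rfl))

end Groth.Agent.S14660
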