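import Groth.Statements.S14661
import Mathlib
import Groth.Agent.Variety2.DimAffine
import Groth.Agent.S14359
import Groth.Agent.Smt.GradedDim
import Groth.Agent.LocCohBase.Depth
import Groth.Agent.LocCohBase.Torsion
-- import your own Groth.Agent.* helpers here

set_option autoImplicit false
universe u
open FiltBl

namespace Groth.Agent.S14661

section Helpers

open DirectSum CategoryTheory

variable {k : Type u} [Field k] {G : Type u} [CommRing G] [IsDomain G] [Algebra k G]
  (𝒢 : ℕ → Submodule k G) [GradedAlgebra 𝒢]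
  {L : Type u} [Field L] [Algebra G L] [IsFractionRing G L]

/-- The coaction `g ↦ ∑ gₙ Xⁿ`. -/
private noncomputable def δ (B : Type u) [CommRing B] [Algebra G B] : G →+* Polynomial B :=
  (DirectSum.toSemiring (fun n => ((Polynomial.monomial n).toAddMonoidHom.comp
      ((algebraMap G B).toAddMonoidHom.comp (𝒢 n).subtype.toAddMonoidHom)))
    (by
      show Polynomial.monomial 0 (algebraMap G B (1 : G)) = 1
      rw [map_one, Polynomial.monomial_zero_one])
    (fun {i j} a b => by
      show Polynomial.monomial (i + j) (algebraMap G B ((a : G) * (b : G))) = _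
      rw [map_mul]
      exact (Polynomial.monomial_mul_monomial i j _ _).symm)).comp
    (DirectSum.decomposeRingEquiv 𝒢).toRingHom

omit [IsDomain G] in
private theorem δ_mem (B : Type u) [CommRing B] [Algebra G B] {n : ℕ} {g : G} (hg : g ∈ 𝒢 n) :
    δ 𝒢 B g = Polynomial.monomial n (algebraMap G B g) := by
  rw [δ, RingHom.comp_apply,
    show (DirectSum.decomposeRingEquiv 𝒢).toRingHom g = DirectSum.of (fun i => 𝒢 i) n ⟨g, hg⟩ from
      DirectSum.decompose_of_mem 𝒢 hg, DirectSum.toSemiring_of]
  rfl

omit [IsDomain G] in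
private theorem coeff_δ (B : Type u) [CommRing B] [Algebra G B] (g : G) (n : ℕ) :
    (δ 𝒢 B g).coeff n = algebraMap G B (GradedRing.proj 𝒢 n g) := by
  classical
  induction g using DirectSum.Decomposition.inductionOn 𝒢 with
  | zero => simp
  | @homogeneous i z =>
    rw [δ_mem 𝒢 B z.2, Polynomial.coeff_monomial, GradedRing.proj_apply]
    by_cases h : i = n
    · subst h
      rw [if_pos rfl, DirectSum.decompose_of_mem_same 𝒢 z.2]
    · rw [if_neg h, DirectSum.decompose_of_mem_ne 𝒢 z.2 h, map_zero]
  | add a b ha hb => simp only [map_add, Polynomial.coeff_add, ha, hb]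

private theorem δ_injective (B : Type u) [CommRing B] [Algebra G B]
    (hB : Function.Injective (algebraMap G B)) : Function.Injective (δ 𝒢 B) := by
  classical
  refine (injective_iff_map_eq_zero _).2 fun g hg => ?_
  rw [← DirectSum.sum_support_decompose 𝒢 g]
  refine Finset.sum_eq_zero fun n _ => hB ?_
  rw [← GradedRing.proj_apply, ← coeff_δ 𝒢 B g n, hg, Polynomial.coeff_zero, map_zero]

private theorem isIntegrallyClosed_closure : IsIntegrallyClosed (integralClosure G L) :=
  integralClosure.isIntegrallyClosedOfFiniteExtension L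

/-- The annihilator of `Ḡ / G` is homogeneous. -/
private theorem proj_mul_mem (c : G)
    (hc : ∀ z : integralClosure G L, ∃ u : G, algebraMap G L u = algebraMap G L c * (z : L)) (j : ℕ)
    : ∀ z : integralClosure G L,
      ∃ u : G, algebraMap G L u = algebraMap G L (GradedRing.proj 𝒢 j c) * (z : L) := by
  classical
  haveI := isIntegrallyClosed_closure (G := G) (L := L)
  set B := integralClosure G L
  have hGL : Function.Injective (algebraMap G L) := IsFractionRing.injective G L
  have hGB : Function.Injective (algebraMap G B) := fun a b h => hGL (congrArg Subtype.val h)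
  let K := FractionRing (Polynomial B)
  let φ : G →+* K := (algebraMap (Polynomial B) K).comp (δ 𝒢 B)
  have hφ : Function.Injective φ := (IsFractionRing.injective (Polynomial B) K).comp (δ_injective 𝒢 B hGB)
  let ψ : L →+* K := IsFractionRing.lift hφ
  have hψ : ∀ g : G, ψ (algebraMap G L g) = algebraMap (Polynomial B) K (δ 𝒢 B g) :=
    IsFractionRing.lift_algebraMap hφ
  have hex : ∀ z : B, ∃ w : Polynomial B, algebraMap (Polynomial B) K w = ψ z := fun z =>
    IsIntegrallyClosed.isIntegral_iff.1 (z.2.map_of_comp_eq (δ 𝒢 B) ψ (RingHom.ext fun g => (hψ g).symm))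
  intro z
  suffices H : ∀ (n : ℕ) (z : B) (w : Polynomial B), algebraMap (Polynomial B) K w = ψ z →
      w.support.card ≤ n → ∃ u : G, algebraMap G L u = algebraMap G L (GradedRing.proj 𝒢 j c) * (z : L) by
    obtain ⟨w, hw⟩ := hex z
    exact H _ z w hw le_rfl
  intro n
  induction n with
  | zero =>
    intro z w hw hcard
    refine ⟨0, ?_⟩
    rw [Nat.le_zero, Finset.card_eq_zero, Polynomial.support_eq_empty] at hcard
    rw [hcard, map_zero, eq_comm, map_eq_zero_iff ψ ψ.injective] at hw
    rw [hw, map_zero, mul_zero]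
  | succ n ih =>
    intro z w hw hcard
    rcases eq_or_ne w 0 with rfl | hw0
    · exact ih z 0 hw (by simp)
    obtain ⟨g, h, hh, hz⟩ := IsFractionRing.div_surjective G (z : L)
    have hhL : algebraMap G L h ≠ 0 := (map_ne_zero_iff _ hGL).2 (nonZeroDivisors.ne_zero hh)
    rw [div_eq_iff hhL] at hz
    have hmul : w * δ 𝒢 B h = δ 𝒢 B g := IsFractionRing.injective (Polynomial B) K (by
      rw [map_mul, hw, ← hψ, ← hψ, ← map_mul, hz])
    have hδh : δ 𝒢 B h ≠ 0 := (map_ne_zero_iff _ (δ_injective 𝒢 B hGB)).2 (nonZeroDivisors.ne_zero hh)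
    set e := w.natDegree
    set m := (δ 𝒢 B h).natDegree
    set a := GradedRing.proj 𝒢 (e + m) g
    set b := GradedRing.proj 𝒢 m h
    have hab : w.leadingCoeff * algebraMap G B b = algebraMap G B a := by
      rw [← coeff_δ, ← coeff_δ, ← hmul, Polynomial.coeff_mul_degree_add_degree]
      rfl
    have hb0 : algebraMap G B b ≠ 0 := by
      rw [← coeff_δ]; exact Polynomial.leadingCoeff_ne_zero.2 hδh
    have ha : δ 𝒢 B a = Polynomial.monomial (e + m) (algebraMap G B a) := δ_mem 𝒢 B (SetLike.coe_mem _)
    have hb : δ 𝒢 B b = Polynomial.monomial m (algebraMap G B b) := δ_mem 𝒢 B (SetLike.coe_mem _)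
    have habL : (w.leadingCoeff : L) * algebraMap G L b = algebraMap G L a := congrArg Subtype.val hab
    have hz0 : algebraMap (Polynomial B) K (Polynomial.monomial e w.leadingCoeff) = ψ w.leadingCoeff := by
      refine mul_right_cancel₀ (b := ψ (algebraMap G L b)) ?_ ?_
      · rw [map_ne_zero_iff ψ ψ.injective]
        exact fun h0 => hb0 (Subtype.ext h0)
      · rw [← map_mul ψ, habL, hψ, hψ, ← map_mul, ha, hb, Polynomial.monomial_mul_monomial, hab]
    obtain ⟨u₁, hu₁⟩ : ∃ u : G, algebraMap G L u =
        algebraMap G L (GradedRing.proj 𝒢 j c) * (w.leadingCoeff : L) := by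
      obtain ⟨u, hu⟩ := hc w.leadingCoeff
      refine ⟨GradedRing.proj 𝒢 (j + e) u, mul_right_cancel₀ (b := algebraMap G L b)
        (fun h0 => hb0 (Subtype.ext h0)) ?_⟩
      rw [mul_assoc, habL, ← map_mul, ← map_mul]
      have hG : u * b = c * a := hGL (by rw [map_mul, map_mul, hu, mul_assoc, habL])
      have h1 := congrArg (fun x => (δ 𝒢 B x).coeff (j + e + m)) hG
      simp only [map_mul, ha, hb] at h1
      rw [Polynomial.coeff_mul_monomial, show j + e + m = j + (e + m) by omega,
        Polynomial.coeff_mul_monomial, coeff_δ, coeff_δ, ← map_mul, ← map_mul] at h1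
      rw [hGB h1]
    obtain ⟨u₂, hu₂⟩ := ih (z - w.leadingCoeff) w.eraseLead (by
      rw [← Polynomial.self_sub_monomial_natDegree_leadingCoeff, map_sub, hw, hz0, ← map_sub]
      rfl) (Nat.le_of_lt_succ (lt_of_lt_of_le (Polynomial.eraseLead_support_card_lt hw0) hcard))
    refine ⟨u₁ + u₂, ?_⟩
    rw [map_add, hu₁, hu₂]
    show _ + _ * ((z : L) - (w.leadingCoeff : L)) = _
    ring

/-- A finite length `Ḡ / G` is killed by a power of the irrelevant ideal. -/
private theorem irrelevant_le_radical
    (hfin : IsFiniteLength G (↥(integralClosure G L) ⧸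
      LinearMap.range (Algebra.linearMap G ↥(integralClosure G L)))) :
    (HomogeneousIdeal.irrelevant 𝒢).toIdeal ≤ (Module.annihilator G (↥(integralClosure G L) ⧸
      LinearMap.range (Algebra.linearMap G ↥(integralClosure G L)))).radical := by
  classical
  set B := integralClosure G L
  set P := LinearMap.range (Algebra.linearMap G B)
  obtain ⟨-, hart⟩ := isFiniteLength_iff_isNoetherian_isArtinian.1 hfin
  have hom : ∀ x ∈ Module.annihilator G (B ⧸ P), ∀ j,
      GradedRing.proj 𝒢 j x ∈ Module.annihilator G (B ⧸ P) := by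
    intro x hx j
    have key : ∀ c : G, c ∈ Module.annihilator G (B ⧸ P) ↔
        ∀ z : B, ∃ u : G, algebraMap G L u = algebraMap G L c * (z : L) := fun c => by
      rw [Module.mem_annihilator]
      constructor
      · intro h z
        obtain ⟨u, hu⟩ := (Submodule.Quotient.mk_eq_zero P).1
          ((Submodule.Quotient.mk_smul P c z).trans (h (Submodule.Quotient.mk z)))
        exact ⟨u, (congrArg Subtype.val hu).trans (Algebra.smul_def c (z : L))⟩
      · intro h q
        obtain ⟨z, rfl⟩ := Submodule.Quotient.mk_surjective P q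
        obtain ⟨u, hu⟩ := h z
        rw [← Submodule.Quotient.mk_smul, Submodule.Quotient.mk_eq_zero]
        exact ⟨u, Subtype.ext (hu.trans (Algebra.smul_def c (z : L)).symm)⟩
    exact (key _).2 (proj_mul_mem 𝒢 x ((key x).1 hx) j)
  have hhom : ∀ (d : ℕ) (f : G), 0 < d → f ∈ 𝒢 d → f ∈ (Module.annihilator G (B ⧸ P)).radical := by
    intro d f hd hf
    obtain ⟨N, hN⟩ := IsArtinian.monotone_stabilizes (R := G) (M := B ⧸ P)
      ⟨fun n => OrderDual.toDual (LinearMap.range ((f ^ n) • (LinearMap.id : (B ⧸ P) →ₗ[G] (B ⧸ P)))),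
        fun a b hab => by
          show LinearMap.range ((f ^ b) • (LinearMap.id : (B ⧸ P) →ₗ[G] (B ⧸ P))) ≤ _
          rintro _ ⟨x, rfl⟩
          obtain ⟨c, rfl⟩ := Nat.exists_eq_add_of_le hab
          exact ⟨f ^ c • x, by simp [pow_add, mul_smul, smul_comm (f ^ a) (f ^ c)]⟩⟩
    set W := LinearMap.range ((f ^ N) • (LinearMap.id : (B ⧸ P) →ₗ[G] (B ⧸ P)))
    obtain ⟨hnoeth, -⟩ := isFiniteLength_iff_isNoetherian_isArtinian.1 hfin
    have hW : W ≤ Ideal.span {f} • W := by
      have h1 : W = LinearMap.range ((f ^ (N + 1)) • (LinearMap.id : (B ⧸ P) →ₗ[G] (B ⧸ P))) :=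
        OrderDual.toDual.injective (hN (N + 1) (Nat.le_succ N))
      rintro x hx
      rw [h1] at hx
      obtain ⟨y, rfl⟩ := hx
      simp only [LinearMap.smul_apply, LinearMap.id_apply, pow_succ', mul_smul]
      exact Submodule.smul_mem_smul (Ideal.mem_span_singleton_self f) ⟨y, by simp⟩
    obtain ⟨r, hr, hrW⟩ := Submodule.exists_sub_one_mem_and_smul_eq_zero_of_fg_of_le_smul
      (Ideal.span {f}) W (IsNoetherian.noetherian W) hW
    obtain ⟨a, ha⟩ := Ideal.mem_span_singleton'.1 hr
    have hmem : f ^ N + a * f ^ (N + 1) ∈ Module.annihilator G (B ⧸ P) := by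
      rw [Module.mem_annihilator]
      intro q
      rw [show f ^ N + a * f ^ (N + 1) = r * f ^ N by linear_combination (f ^ N) * ha, mul_smul]
      exact hrW _ ⟨q, by simp⟩
    refine ⟨N, ?_⟩
    have h2 := hom _ hmem (N * d)
    have hfN : f ^ N ∈ 𝒢 (N * d) := by rw [← smul_eq_mul]; exact SetLike.pow_mem_graded N hf
    have hfN1 : f ^ (N + 1) ∈ 𝒢 ((N + 1) * d) := by
      rw [← smul_eq_mul]; exact SetLike.pow_mem_graded (N + 1) hf
    rwa [map_add, GradedRing.proj_apply, DirectSum.decompose_of_mem_same 𝒢 hfN, GradedRing.proj_apply,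
      DirectSum.coe_decompose_mul_of_right_mem_of_not_le 𝒢 hfN1 (by nlinarith), add_zero] at h2
  intro x hx
  rw [← DirectSum.sum_support_decompose 𝒢 x]
  refine Ideal.sum_mem _ fun i _ => ?_
  rcases Nat.eq_zero_or_pos i with rfl | hi
  · have h0 : GradedRing.proj 𝒢 0 x = 0 := (HomogeneousIdeal.mem_irrelevant_iff 𝒢 x).1 hx
    rw [GradedRing.proj_apply] at h0
    rw [h0]; exact zero_mem _
  · exact hhom i _ hi (SetLike.coe_mem _)

private theorem isMaximal_irrelevant (h0 : ∀ x ∈ 𝒢 0, x ∈ Set.range (algebraMap k G)) :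
    (HomogeneousIdeal.irrelevant 𝒢).toIdeal.IsMaximal := by
  classical
  rw [Ideal.isMaximal_iff]
  refine ⟨fun h => ?_, fun I x hI hx hxI => ?_⟩
  · have h1 : GradedRing.proj 𝒢 0 1 = 0 := (HomogeneousIdeal.mem_irrelevant_iff 𝒢 1).1 h
    rw [GradedRing.proj_apply, DirectSum.decompose_of_mem_same 𝒢 SetLike.GradedOne.one_mem] at h1
    exact one_ne_zero h1
  · obtain ⟨c, hc⟩ := h0 _ (SetLike.coe_mem (DirectSum.decompose 𝒢 x 0))
    have h1 : x - (DirectSum.decompose 𝒢 x 0 : G) ∈ (HomogeneousIdeal.irrelevant 𝒢).toIdeal := by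
      show x - _ ∈ HomogeneousIdeal.irrelevant 𝒢
      rw [HomogeneousIdeal.mem_irrelevant_iff, map_sub, GradedRing.proj_apply, GradedRing.proj_apply,
        DirectSum.decompose_of_mem_same 𝒢 (SetLike.coe_mem _), sub_self]
    have h2 : (DirectSum.decompose 𝒢 x 0 : G) ∈ I := by
      have := sub_mem hxI (hI h1)
      rwa [sub_sub_cancel] at this
    rw [← hc] at h2
    have hc0 : c ≠ 0 := by
      rintro rfl
      rw [← hc, map_zero, sub_zero] at h1
      exact hx h1
    have := I.mul_mem_left (algebraMap k G c⁻¹) h2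
    rwa [← map_mul, inv_mul_cancel₀ hc0, map_one] at this

end Helpers


set_option maxHeartbeats 1000000 in
set_option synthInstance.maxHeartbeats 200000 in
/-- Let k be a field and G a Noetherian ℕ-graded k-algebra which is an integral domain of Krull
dimension at least 2 with G_0 = k (the degree-0 part is the image of k); let L be the fraction field
of G and Ḡ the integral closure of G in L. If the G-module Ḡ/G has finite length, then Ḡ/G is
isomorphic, as a G-module, to the local cohomology module H^1_{G_+}(G) with support in the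
irrelevant ideal G_+ (existence of a G-linear isomorphism only; the comparison map itself is not
named here). -/
theorem result (k : Type u) [Field k]
    (G : Type u) [CommRing G] [IsDomain G] [Algebra k G] [IsNoetherianRing G]
    (𝒢 : ℕ → Submodule k G) [GradedAlgebra 𝒢]
    (h0 : ∀ x ∈ 𝒢 0, x ∈ Set.range (algebraMap k G)) (hdim : 2 ≤ ringKrullDim G)
    (L : Type u) [Field L] [Algebra G L] [IsFractionRing G L]
    (hfin : IsFiniteLength G (↥(integralClosure G L) ⧸
      LinearMap.range (Algebra.linearMap G ↥(integralClosure G L)))) :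
    Nonempty ((↥(integralClosure G L) ⧸
        LinearMap.range (Algebra.linearMap G ↥(integralClosure G L))) ≃ₗ[G]
      LocCoh.H (HomogeneousIdeal.irrelevant 𝒢).toIdeal 1 G) := by
  classical
  set B := integralClosure G L
  set P := LinearMap.range (Algebra.linearMap G B)
  set I := (HomogeneousIdeal.irrelevant 𝒢).toIdeal
  haveI hIC : IsIntegrallyClosed B := isIntegrallyClosed_closure (G := G) (L := L)
  have hGB : Function.Injective (algebraMap G B) := fun a b h =>
    IsFractionRing.injective G L (congrArg Subtype.val h)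
  obtain ⟨hnoeth, -⟩ := isFiniteLength_iff_isNoetherian_isArtinian.1 hfin
  haveI : Module.Finite G B := Module.Finite.of_submodule_quotient P
  haveI : IsNoetherianRing B := IsNoetherianRing.of_finite G B
  haveI : Algebra.IsIntegral G B := Algebra.IsIntegral.of_finite G B
  haveI : Algebra.FiniteType k G := Groth.Smt.finiteType_of_graded 𝒢 fun a ha => h0 a ha
  letI : Algebra k B := ((algebraMap G B).comp (algebraMap k G)).toAlgebra
  haveI : IsScalarTower k G B := IsScalarTower.of_algebraMap_eq fun _ => rfl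
  haveI : Algebra.FiniteType k B := Algebra.FiniteType.trans (R := k) (S := G) (A := B) inferInstance inferInstance
  -- Ḡ has depth at least two along the irrelevant ideal
  have hI : I.IsMaximal := isMaximal_irrelevant 𝒢 h0
  obtain ⟨nB, -, hdimB, hmax⟩ := Groth.Variety2.Dim.exists_dim k B
  have hover : ∀ p : Ideal B, p.IsPrime → I ≤ p.comap (algebraMap G B) → 2 ≤ p.height := by
    intro p hp hle
    have : p.IsMaximal := Ideal.isMaximal_of_isIntegral_of_isMaximal_comap p
      (by rw [← hI.eq_of_le (Ideal.IsPrime.comap _).ne_top hle]; exact hI)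
    have h2 : (2 : WithBot ℕ∞) ≤ (nB : WithBot ℕ∞) := by
      rw [← hdimB, Groth.Variety2.Dim.ringKrullDim_eq_of_isIntegral G B hGB]
      exact hdim
    rw [hmax p this]
    exact_mod_cast h2
  have hd : (2 : ℕ∞) ≤ LocCoh.idealDepth I B := by
    by_cases hIM : I • (⊤ : Submodule G B) = ⊤
    · rw [Groth.LocCohBase.idealDepth_eq_top_of_smul_top_eq_top hIM]; exact le_top
    rw [show (2 : ℕ∞) = ((2 : ℕ) : ℕ∞) from rfl, Groth.LocCohBase.le_idealDepth_iff_exists I hIM]
    obtain ⟨x, hxI, hx0⟩ : ∃ x ∈ I, x ≠ 0 := by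
      by_contra hcon
      push Not at hcon
      have : I = ⊥ := eq_bot_iff.2 fun y hy => hcon y hy
      have hf : IsField G := by
        by_contra hnf
        obtain ⟨M, hne, hMax⟩ := Ring.not_isField_iff_exists_prime.1 hnf
        exact hne (eq_bot_iff.2 fun y hy => by
          have := (this ▸ hI).eq_of_le hMax.ne_top bot_le
          rwa [← this] at hy)
      have := ringKrullDim_eq_zero_of_isField hf
      rw [this] at hdim
      exact absurd hdim (by norm_num)
    have hxB : algebraMap G B x ≠ 0 := (map_ne_zero_iff _ hGB).2 hx0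
    let Q := B ⧸ Ideal.span {algebraMap G B x}
    have hass : (associatedPrimes B Q).Finite := associatedPrimes.finite B Q
    obtain ⟨y, hyI, hy⟩ : ∃ y ∈ I, ∀ p ∈ associatedPrimes B Q, algebraMap G B y ∉ p := by
      by_contra hcon
      push Not at hcon
      have hsub : (I : Set G) ⊆ ⋃ p ∈ ((hass.toFinset : Finset (Ideal B)) : Set (Ideal B)),
          ((p.comap (algebraMap G B) : Ideal G) : Set G) := fun y hy => by
        obtain ⟨p, hp, hyp⟩ := hcon y hy
        exact Set.mem_biUnion (hass.mem_toFinset.2 hp) hyp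
      rw [Ideal.subset_union_prime ⊥ ⊥ fun p hp _ _ =>
        haveI := (hass.mem_toFinset.1 hp).isPrime; Ideal.IsPrime.comap _] at hsub
      obtain ⟨p, hp, hle⟩ := hsub
      have hp' := hass.mem_toFinset.1 hp
      have h1 := Groth.Agent.S14359.result B _ hxB p hp'
      have h2 := hover p hp'.isPrime hle
      rw [h1] at h2
      exact absurd h2 (by norm_num)
    refine ⟨[x, y], rfl, ?_, fun r hr => ?_⟩
    · rw [RingTheory.Sequence.isWeaklyRegular_cons_iff, RingTheory.Sequence.isWeaklyRegular_singleton_iff]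
      refine ⟨fun a b h => mul_left_cancel₀ hxB (by simpa only [Algebra.smul_def] using h),
        isSMulRegular_iff_right_eq_zero_of_smul.2 fun q hq => ?_⟩
      obtain ⟨m, rfl⟩ := Submodule.Quotient.mk_surjective _ q
      rw [← Submodule.Quotient.mk_smul, Submodule.Quotient.mk_eq_zero,
        Submodule.mem_smul_pointwise_iff_exists] at hq
      obtain ⟨w, -, hw⟩ := hq
      rw [Submodule.Quotient.mk_eq_zero, Submodule.mem_smul_pointwise_iff_exists]
      have hm : Ideal.Quotient.mk (Ideal.span {algebraMap G B x}) m = 0 := by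
        by_contra hne
        obtain ⟨p, hp, hyp⟩ : ∃ p ∈ associatedPrimes B Q, algebraMap G B y ∈ p := by
          have : algebraMap G B y ∈ ⋃ p ∈ associatedPrimes B Q, (p : Set B) := by
            rw [biUnion_associatedPrimes_eq_zero_divisors]
            refine ⟨Ideal.Quotient.mk _ m, hne, ?_⟩
            show Ideal.Quotient.mk (Ideal.span {algebraMap G B x}) (algebraMap G B y • m) = 0
            rw [Ideal.Quotient.eq_zero_iff_mem, Ideal.mem_span_singleton']
            exact ⟨w, by rw [smul_eq_mul, ← Algebra.smul_def, ← hw, Algebra.smul_def, mul_comm]⟩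
          simpa using this
        exact hy p hp hyp
      obtain ⟨v, hv⟩ := Ideal.mem_span_singleton'.1 (Ideal.Quotient.eq_zero_iff_mem.1 hm)
      exact ⟨v, trivial, by rw [Algebra.smul_def, ← hv, mul_comm]⟩
    · simp only [List.mem_cons, List.not_mem_nil, or_false] at hr
      rcases hr with rfl | rfl <;> assumption
  have hH := (Groth.LocCohBase.le_idealDepth_iff_localCohomology I 2 B).1 (by exact_mod_cast hd)
  haveI := hH 0 (by norm_num)
  haveI := hH 1 (by norm_num)
  -- torsion of the quotient
  have htor : LocCoh.IsPowerTorsion I (B ⧸ P) := fun q => by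
    obtain ⟨N, hN⟩ := Ideal.exists_pow_le_of_le_radical_of_fg (irrelevant_le_radical 𝒢 hfin)
      (IsNoetherian.noetherian _)
    exact ⟨N, fun a ha => Module.mem_annihilator.1 (hN ha) q⟩
  let e0 : LocCoh.H I 0 (B ⧸ P) ≃ₗ[G] (B ⧸ P) :=
    (Groth.LocCohBase.h0Equiv I (B ⧸ P)).trans
      (LinearEquiv.ofTop _ (Groth.LocCohBase.torsionSub_eq_top htor))
  have hS := Groth.LocCohBase.subSeq_shortExact P
  let δ₀ := Groth.LocCohBase.δ (I := I) hS 0
  haveI : Subsingleton (Groth.LocCohBase.HH' I 0 (Groth.LocCohBase.subSeq P).X₂) := hH 0 (by norm_num)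
  haveI : Subsingleton (Groth.LocCohBase.HH' I (0 + 1) (Groth.LocCohBase.subSeq P).X₂) := hH 1 (by norm_num)
  have hbij : Function.Bijective δ₀ := by
    refine ⟨(injective_iff_map_eq_zero _).2 fun x hx => ?_, fun y => ?_⟩
    · obtain ⟨z, rfl⟩ := (Groth.LocCohBase.exact₃ (I := I) hS 0 x).1 hx
      rw [Subsingleton.elim z 0, map_zero]
    · exact (Groth.LocCohBase.exact₁ (I := I) hS 0 y).1 (Subsingleton.elim _ _)
  let eG : G ≃ₗ[G] P := LinearEquiv.ofInjective (Algebra.linearMap G B) hGB
  exact ⟨e0.symm ≪≫ₗ (LinearEquiv.ofBijective δ₀ hbij) ≪≫ₗ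
    ((localCohomology I 1).mapIso eG.symm.toModuleIso).toLinearEquiv⟩

end Groth.Agent.S14661
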