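import Groth.Statements.S14665
import Groth.Agent.Misc5Sym.Sections
import Groth.Agent.Misc5Sym.TSBaseChange
import Groth.Agent.Misc5Sym.BaseChangeSquare
import Groth.Agent.Pi1Quot.Local

set_option autoImplicit false
universe u
open CategoryTheory CategoryTheory.Limits AlgebraicGeometry
open SymProd

set_option backward.isDefEq.respectTransparency false

namespace Groth.Agent.S14665

/-- Let f : X ⟶ S be a flat morphism such that every finite set of points of X lying over a single point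
of S is contained in an affine open of X, let n ≥ 0 and let (Y, q, g) be an n-th symmetric power of
X over S (q : X ×_S ⋯ ×_S X ⟶ Y a quotient of the n-fold fibre power by the symmetric group
permuting the factors: affine, invariant, identifying sections of O_Y with invariant sections; q ≫ g
= the structure map). Then the formation of the symmetric power commutes with arbitrary base change:
for any b : S' ⟶ S, with X' = X ×_S S' and f' its projection to S', let c be the morphism from the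
n-fold fibre power of X' over S' to that of X over S whose components are the first projections X' ⟶
X and which lies over b, and let q' be the morphism from the fibre power of X' to Y ×_S S' with
components c ≫ q and the structure map to S'. Then q' together with the projection Y ×_S S' ⟶ S' is
an n-th symmetric power of X' over S'. -/
theorem result {X S S' Y : Scheme.{u}} (f : X ⟶ S) [Flat f]
    (hAF : SymProd.IsAF f) (n : ℕ) (q : SymProd.fibPow f n ⟶ Y) (g : Y ⟶ S) (hq : SymProd.IsSymProd f n q g)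
    (b : S' ⟶ S)
    (c : SymProd.fibPow (pullback.snd f b) n ⟶ SymProd.fibPow f n)
    (hcπ : ∀ i : Fin n, c ≫ WidePullback.π (fun _ => f) i = WidePullback.π (fun _ => pullback.snd f b) i ≫ pullback.fst f b)
    (hcb : c ≫ WidePullback.base (fun _ => f) = WidePullback.base (fun _ => pullback.snd f b) ≫ b)
    (q' : SymProd.fibPow (pullback.snd f b) n ⟶ pullback g b)
    (hq'₁ : q' ≫ pullback.fst g b = c ≫ q)
    (hq'₂ : q' ≫ pullback.snd g b = WidePullback.base (fun _ => pullback.snd f b)) :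
    SymProd.IsSymProd (pullback.snd f b) n q' (pullback.snd g b) := by
  classical
  have hp := hq.isQuot
  have hsq := Groth.Misc5Sym.isPullback_fibPow f b n c hcπ hcb
  have hsq₁ : IsPullback c q' q (pullback.fst g b) := by
    refine IsPullback.of_bot (v₂₁ := pullback.snd g b) (v₂₂ := g) ?_ hq'₁.symm (IsPullback.of_hasPullback g b)
    rw [hq'₂, hq.over]
    exact hsq
  haveI : IsAffineHom q' := MorphismProperty.of_isPullback (P := @IsAffineHom) hsq₁ hp.affine
  haveI := hp.affine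
  have hσc : ∀ σ : ULift.{u} (Equiv.Perm (Fin n)),
      (permActU (pullback.snd f b) n σ).hom ≫ c = c ≫ (permActU f n σ).hom := fun σ => by
    apply Limits.WidePullback.hom_ext
    · intro i
      simp only [Category.assoc, permActU_hom, permHom_π, hcπ, permHom_π_assoc]
    · simp only [Category.assoc, permActU_hom, permHom_base, hcb, permHom_base_assoc]
  have hinv' : ∀ σ, (permActU (pullback.snd f b) n σ).hom ≫ q' = q' := fun σ => by
    apply pullback.hom_ext
    · rw [Category.assoc, hq'₁, ← Category.assoc, hσc, Category.assoc, hp.inv]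
    · rw [Category.assoc, hq'₂, permActU_hom, permHom_base]
  refine ⟨Groth.Pi1Quot.isQuot_of_local hinv' fun y => ?_, hq'₂⟩
  obtain ⟨x, hx⟩ := (Groth.Pi1Quot.surjective hp).surj (pullback.fst g b y)
  obtain ⟨_, ⟨V, hV, rfl⟩, hyV, -⟩ := S.isBasis_affineOpens.exists_subset_of_mem_open
    (Set.mem_univ (b (pullback.snd g b y))) isOpen_univ
  obtain ⟨_, ⟨V', hV', rfl⟩, hyV', hV'V⟩ := S'.isBasis_affineOpens.exists_subset_of_mem_open
    (show pullback.snd g b y ∈ (b ⁻¹ᵁ V : S'.Opens) from hyV) (b ⁻¹ᵁ V).2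
  have hxV : (Limits.WidePullback.base (fun _ : Fin n => f)).base x ∈ V := by
    rw [← hq.over, Scheme.Hom.comp_apply, hx, ← Scheme.Hom.comp_apply, pullback.condition, Scheme.Hom.comp_apply]
    exact hyV
  obtain ⟨U, hU, hUV, W', hxW', hW', hpre⟩ := Groth.Misc5Sym.exists_chart_image f n hp hAF x hV hxV
  have hmem : ∀ z, z ∈ q ⁻¹ᵁ W' ↔ (∀ i, (Limits.WidePullback.π (fun _ : Fin n => f) i).base z ∈ U) ∧
      (Limits.WidePullback.base (fun _ : Fin n => f)).base z ∈ V := fun z => by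
    rw [hpre]; exact Groth.Misc5Sym.mem_chartOpen f n U V
  have e : W' ≤ g ⁻¹ᵁ V := by
    intro z hz
    obtain ⟨w, rfl⟩ := (Groth.Pi1Quot.surjective hp).surj z
    have := ((hmem w).1 hz).2
    rw [← hq.over] at this
    exact this
  have hWV : q ⁻¹ᵁ W' ≤ (Limits.WidePullback.base (fun _ : Fin n => f)) ⁻¹ᵁ V := fun z hz => ((hmem z).1 hz).2
  have hWU : ∀ i, q ⁻¹ᵁ W' ≤ (Limits.WidePullback.π (fun _ : Fin n => f) i) ⁻¹ᵁ U :=
    fun i z hz => ((hmem z).1 hz).1 i
  have hW : IsAffineOpen (q ⁻¹ᵁ W') := hW'.preimage q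
  let D : (pullback g b).Opens := (pullback.fst g b) ⁻¹ᵁ W' ⊓ (pullback.snd g b) ⁻¹ᵁ V'
  have hD : IsAffineOpen D := by
    haveI : IsAffine (W' : Scheme.{u}) := hW'
    haveI : IsAffine (V' : Scheme.{u}) := hV'
    haveI : IsAffine (V : Scheme.{u}) := hV
    exact .of_isIso (Scheme.Hom.isPullback_resLE (IsPullback.of_hasPullback g b) (US := V) (UT := V') (UX := W')
      hV'V e (UY := D) rfl).isoPullback.hom
  refine ⟨D, hD, ⟨show pullback.fst g b y ∈ W' from hx ▸ hxW', hyV'⟩, ?_⟩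
  have hE : q' ⁻¹ᵁ D = c ⁻¹ᵁ (q ⁻¹ᵁ W') ⊓ (Limits.WidePullback.base (fun _ : Fin n => pullback.snd f b)) ⁻¹ᵁ V' := by
    rw [Scheme.Hom.preimage_inf, ← Scheme.Hom.comp_preimage, ← Scheme.Hom.comp_preimage, hq'₁, hq'₂,
      Scheme.Hom.comp_preimage]
  letI := Groth.Misc5Sym.algU f hUV
  letI := Groth.Misc5Sym.algW f hWV
  letI : Algebra Γ(S, V) Γ(S', V') := (b.appLE V V' hV'V).hom.toAlgebra
  letI : Algebra Γ(S, V) Γ(Y, W') := (g.appLE V W' e).hom.toAlgebra
  haveI : Module.Flat Γ(S, V) Γ(X, U) := Flat.flat_appLE f hV hU hUV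
  obtain ⟨eA, heA⟩ := Groth.Misc5Sym.exists_sections_tensor (IsPullback.of_hasPullback g b) hV'V e hV hV' hW'
    (UY := D) rfl inf_le_left inf_le_right
  obtain ⟨eB, heB⟩ := Groth.Misc5Sym.exists_sections_tensor hsq hV'V hWV hV hV' hW
    (UY := q' ⁻¹ᵁ D) hE (hE.le.trans inf_le_left) (hE.le.trans inf_le_right)
  obtain ⟨Φ, hΦ⟩ := Groth.Misc5Sym.exists_algEquiv_sections f hUV hWV hWU hU hV hW
    (fun z h1 h2 => (hmem z).2 ⟨h1, h2⟩)
  let qW : Γ(Y, W') →ₐ[Γ(S, V)] Γ(SymProd.fibPow f n, q ⁻¹ᵁ W') :=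
    { (q.app W').hom with
      commutes' := fun r => by
        show (g.appLE V W' e ≫ q.app W') r = _
        rw [← Scheme.Hom.appLE_eq_app, Scheme.Hom.appLE_comp_appLE,
          Groth.Pi1Quot.appLE_congr_hom hq.over V (q ⁻¹ᵁ W') _ hWV]
        rfl }
  let τ : ∀ σ : ULift.{u} (Equiv.Perm (Fin n)),
      Γ(SymProd.fibPow f n, q ⁻¹ᵁ W') →ₐ[Γ(S, V)] Γ(SymProd.fibPow f n, q ⁻¹ᵁ W') := fun σ =>
    { ((permActU f n σ).hom.appLE (q ⁻¹ᵁ W') (q ⁻¹ᵁ W') (SGA1.preimage_le_of_inv _ q hp.inv σ W')).hom with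
      commutes' := fun r => by
        show ((Limits.WidePullback.base (fun _ : Fin n => f)).appLE V (q ⁻¹ᵁ W') hWV ≫
          (permActU f n σ).hom.appLE (q ⁻¹ᵁ W') (q ⁻¹ᵁ W') _) r = _
        rw [Scheme.Hom.appLE_comp_appLE,
          Groth.Pi1Quot.appLE_congr_hom (show (permActU f n σ).hom ≫ Limits.WidePullback.base (fun _ : Fin n => f) = _ from
            permHom_base f n σ.down) V (q ⁻¹ᵁ W') _ hWV]
        rfl }
  have hqq : ∀ z, q'.app D (eA z) = eB (qW.toLinearMap.lTensor Γ(S', V') z) := by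
    intro z
    induction z using TensorProduct.induction_on with
    | zero => simp
    | add z w hz hw => simp only [map_add, hz, hw]
    | tmul r a =>
      rw [heA, map_mul, LinearMap.lTensor_tmul, heB]
      congr 1
      · show ((pullback.snd g b).appLE V' D inf_le_right ≫ q'.app D) r = _
        rw [← Scheme.Hom.appLE_eq_app, Scheme.Hom.appLE_comp_appLE,
          Groth.Pi1Quot.appLE_congr_hom hq'₂ V' (q' ⁻¹ᵁ D) _ (hE.le.trans inf_le_right)]
      · show ((pullback.fst g b).appLE W' D inf_le_left ≫ q'.app D) a =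
          (q.app W' ≫ c.appLE (q ⁻¹ᵁ W') (q' ⁻¹ᵁ D) (hE.le.trans inf_le_left)) a
        rw [← Scheme.Hom.appLE_eq_app, ← Scheme.Hom.appLE_eq_app, Scheme.Hom.appLE_comp_appLE,
          Scheme.Hom.appLE_comp_appLE, Groth.Pi1Quot.appLE_congr_hom hq'₁ W' (q' ⁻¹ᵁ D) _ _]
  have hσσ : ∀ σ z, Groth.Pi1Quot.sectionHom hinv' D σ (eB z) =
      eB ((τ σ⁻¹).toLinearMap.lTensor Γ(S', V') z) := by
    intro σ z
    induction z using TensorProduct.induction_on with
    | zero => simp
    | add z w hz hw => simp only [map_add, hz, hw]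
    | tmul r a =>
      rw [heB, map_mul, LinearMap.lTensor_tmul, heB]
      congr 1
      · show ((Limits.WidePullback.base (fun _ : Fin n => pullback.snd f b)).appLE V' (q' ⁻¹ᵁ D) _ ≫
          (permActU (pullback.snd f b) n σ⁻¹).hom.appLE (q' ⁻¹ᵁ D) (q' ⁻¹ᵁ D) _) r = _
        rw [Scheme.Hom.appLE_comp_appLE,
          Groth.Pi1Quot.appLE_congr_hom (show (permActU (pullback.snd f b) n σ⁻¹).hom ≫
            Limits.WidePullback.base (fun _ : Fin n => pullback.snd f b) = _ from permHom_base (pullback.snd f b) n σ⁻¹.down) V' (q' ⁻¹ᵁ D) _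
            (hE.le.trans inf_le_right)]
      · show (c.appLE (q ⁻¹ᵁ W') (q' ⁻¹ᵁ D) _ ≫
            (permActU (pullback.snd f b) n σ⁻¹).hom.appLE (q' ⁻¹ᵁ D) (q' ⁻¹ᵁ D) _) a =
          ((permActU f n σ⁻¹).hom.appLE (q ⁻¹ᵁ W') (q ⁻¹ᵁ W') _ ≫
            c.appLE (q ⁻¹ᵁ W') (q' ⁻¹ᵁ D) (hE.le.trans inf_le_left)) a
        rw [Scheme.Hom.appLE_comp_appLE, Scheme.Hom.appLE_comp_appLE,
          Groth.Pi1Quot.appLE_congr_hom (hσc σ⁻¹) (q ⁻¹ᵁ W') (q' ⁻¹ᵁ D) _ _]
  let L : Γ(Y, W') →ₗ[Γ(S, V)] Groth.Misc8.FlatTensor.T Γ(S, V) n Γ(X, U) :=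
    Φ.symm.toLinearMap ∘ₗ qW.toLinearMap
  have hL : Function.Injective L := Φ.symm.injective.comp (hp.injective W')
  have hperm : ∀ (σ : ULift.{u} (Equiv.Perm (Fin n))) t, τ σ (Φ t) =
      Φ (PiTensorProduct.reindex Γ(S, V) (fun _ : Fin n => Γ(X, U)) σ.down.symm t) := fun σ t =>
    Groth.Misc5Sym.sections_perm f hUV hWV hWU hW σ.down (SGA1.preimage_le_of_inv _ q hp.inv σ W') Φ hΦ t
  have hrange : LinearMap.range L = Groth.Misc8.SymOrbit.Sym Γ(S, V) Γ(X, U) n := by
    ext t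
    rw [Groth.Misc8.SymOrbit.mem_Sym]
    constructor
    · rintro ⟨b', rfl⟩ σ
      have h : q.app W' b' = Φ (L b') := (Φ.apply_symm_apply _).symm
      have h' := (hperm ⟨σ.symm⟩ (L b')).symm.trans (h ▸ (hp.range_iff W' _).1 ⟨b', rfl⟩ ⟨σ.symm⟩)
      simpa using Φ.injective h'
    · intro ht
      obtain ⟨b', hb⟩ := (hp.range_iff W' (Φ t)).2 fun σ => (hperm σ t).trans (congrArg Φ (ht σ.down.symm))
      exact ⟨b', show Φ.symm (qW b') = t from Φ.symm_apply_eq.2 hb⟩
  let EA := (LinearEquiv.ofInjective L hL).trans (LinearEquiv.ofEq _ _ hrange)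
  have hLE : L.lTensor Γ(S', V') = (Groth.Misc8.SymOrbit.Sym Γ(S, V) Γ(X, U) n).subtype.lTensor Γ(S', V') ∘ₗ
      EA.toLinearMap.lTensor Γ(S', V') := by
    rw [← LinearMap.lTensor_comp]
    rfl
  have hqWL : ∀ z, qW.toLinearMap.lTensor Γ(S', V') z =
      Φ.toLinearMap.lTensor Γ(S', V') (L.lTensor Γ(S', V') z) := fun z => by
    rw [← LinearMap.comp_apply, ← LinearMap.lTensor_comp]
    exact DFunLike.congr_fun (congrArg (LinearMap.lTensor _)
      (LinearMap.ext fun a => (Φ.apply_symm_apply (qW a)).symm)) z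
  constructor
  · intro s t hst
    rw [← eA.apply_symm_apply s, ← eA.apply_symm_apply t, hqq, hqq] at hst
    have h := eB.injective hst
    rw [hqWL, hqWL] at h
    have h' : L.lTensor Γ(S', V') (eA.symm s) = L.lTensor Γ(S', V') (eA.symm t) :=
      (LinearEquiv.lTensor Γ(S', V') Φ.toLinearEquiv).injective h
    rw [hLE, LinearMap.comp_apply, LinearMap.comp_apply] at h'
    exact eA.symm.injective ((LinearEquiv.lTensor Γ(S', V') EA).injective
      (Groth.Misc5Sym.lTensor_subtype_injective n h'))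
  · intro s hs
    let Φl := LinearEquiv.lTensor Γ(S', V') Φ.toLinearEquiv
    obtain ⟨z, rfl⟩ := eB.surjective s
    obtain ⟨z', rfl⟩ := Φl.surjective z
    have hz : ∀ σ : Equiv.Perm (Fin n),
        (PiTensorProduct.reindex Γ(S, V) (fun _ : Fin n => Γ(X, U)) σ).toLinearMap.lTensor Γ(S', V') z' = z' := by
      intro σ
      apply Φl.injective
      have h := eB.injective ((hσσ ⟨σ⟩ (Φl z')).symm.trans (hs ⟨σ⟩))
      refine Eq.trans ?_ h
      show Φ.toLinearMap.lTensor Γ(S', V') _ = (τ ⟨σ⟩⁻¹).toLinearMap.lTensor Γ(S', V') (Φ.toLinearMap.lTensor Γ(S', V') z')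
      rw [← LinearMap.comp_apply, ← LinearMap.lTensor_comp, ← LinearMap.comp_apply, ← LinearMap.lTensor_comp]
      exact DFunLike.congr_fun (congrArg (LinearMap.lTensor _) (LinearMap.ext fun t => (hperm ⟨σ⟩⁻¹ t).symm)) z'
    obtain ⟨w, hw⟩ := Groth.Misc5Sym.mem_range_lTensor_subtype n z' hz
    obtain ⟨w', rfl⟩ := (LinearEquiv.lTensor Γ(S', V') EA).surjective w
    refine ⟨eA w', ?_⟩
    rw [hqq, hqWL, hLE]
    exact congrArg eB (congrArg Φl hw)

end Groth.Agent.S14665
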