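import Groth.Statements.S14666
-- import your own Groth.Agent.* helpers here

set_option autoImplicit false
universe u
open CategoryTheory CategoryTheory.Limits AlgebraicGeometry
open AbSch

namespace Groth.Agent.S14666

variable {X Y S : Scheme.{u}}

theorem ext_of_affine (ξ : X ⟶ S) [IsAffine Y] (hinj : Function.Injective ξ.appTop.hom)
    (a b : S ⟶ Y) (h : ξ ≫ a = ξ ≫ b) : a = b := by
  refine ext_of_isAffine (CommRingCat.hom_ext (RingHom.ext fun r ↦ hinj ?_))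
  have h' := congrArg (fun φ : X ⟶ Y ↦ φ.appTop) h
  simp only [Scheme.Hom.comp_appTop] at h'
  exact DFunLike.congr_fun (congrArg CommRingCat.Hom.hom h') r

theorem ext_of_app_injective (ξ : X ⟶ S) [Surjective ξ]
    (hinj : ∀ U : S.Opens, Function.Injective (ξ.app U).hom)
    (a b : S ⟶ Y) (h : ξ ≫ a = ξ ≫ b) : a = b := by
  have hpt : ∀ t, a t = b t := fun t ↦ by
    obtain ⟨x, rfl⟩ := ξ.surjective t
    rw [← Scheme.Hom.comp_apply, h, Scheme.Hom.comp_apply]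
  refine Scheme.hom_ext_of_forall _ _ fun t ↦ ?_
  obtain ⟨_, ⟨V', hV, rfl⟩, htV, -⟩ :=
    Y.isBasis_affineOpens.exists_subset_of_mem_open (Set.mem_univ (a t)) isOpen_univ
  let V : Y.Opens := V'
  have : IsAffine V.toScheme := hV
  let U := a ⁻¹ᵁ V
  have hb : U ≤ b ⁻¹ᵁ V := fun x hx ↦ by show b x ∈ V; rw [← hpt]; exact hx
  refine ⟨U, htV, ?_⟩
  have hi : Function.Injective (ξ ∣_ U).appTop.hom := by
    rw [morphismRestrict_appTop]
    intro r r' hr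
    have hb := (ConcreteCategory.bijective_of_isIso
      (X.presheaf.map (eqToHom (image_morphismRestrict_preimage ξ U ⊤)).op)).1
    have he := @hb ((ξ.app (U.ι ''ᵁ ⊤)).hom r) ((ξ.app (U.ι ''ᵁ ⊤)).hom r') hr
    exact hinj _ he
  have he := ext_of_affine (ξ ∣_ U) hi (a.resLE V U le_rfl) (b.resLE V U hb) (by
    rw [← cancel_mono V.ι]
    simp only [Category.assoc, Scheme.Hom.resLE_comp_ι, morphismRestrict_ι_assoc, h])
  have := congrArg (fun φ ↦ φ ≫ V.ι) he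
  simpa only [Scheme.Hom.resLE_comp_ι] using this

/-- `σ` descends `f` over `W`. -/
def IsDesc (ξ : X ⟶ S) (f : X ⟶ Y) (W : S.Opens) (σ : W.toScheme ⟶ Y) : Prop :=
  (ξ ∣_ W) ≫ σ = (ξ ⁻¹ᵁ W).ι ≫ f

theorem IsDesc.mono {ξ : X ⟶ S} {f : X ⟶ Y} {W W' : S.Opens} {σ : W.toScheme ⟶ Y}
    (h : IsDesc ξ f W σ) (le : W' ≤ W) : IsDesc ξ f W' (S.homOfLE le ≫ σ) := by
  have : (ξ ∣_ W') ≫ S.homOfLE le = X.homOfLE ((TopologicalSpace.Opens.map ξ.base).map (homOfLE le)).le ≫ (ξ ∣_ W) := by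
    rw [← cancel_mono W.ι]
    simp
  unfold IsDesc at *
  rw [reassoc_of% this, h, Scheme.homOfLE_ι_assoc]

variable (ξ : X ⟶ S) [Surjective ξ] (h0 : ∀ U : S.Opens, Function.Bijective (ξ.app U).hom)

include h0 in
theorem IsDesc.unique {f : X ⟶ Y} {W : S.Opens} {σ σ' : W.toScheme ⟶ Y}
    (h : IsDesc ξ f W σ) (h' : IsDesc ξ f W σ') : σ = σ' := by
  have : Surjective (ξ ∣_ W) := IsZariskiLocalAtTarget.restrict (P := @Surjective) ‹_› W
  refine ext_of_app_injective (ξ ∣_ W) (fun U ↦ ?_) σ σ' (h.trans h'.symm)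
  rw [morphismRestrict_app]
  exact (ConcreteCategory.bijective_of_isIso (X.presheaf.map _)).1.comp (h0 _).1

include h0 in
omit [Surjective ξ] in
theorem exists_desc_nhd [UniversallyClosed ξ] (f : X ⟶ Y) {s : S}
    (hs : ∃ y : Y, ∀ x : X, ξ x = s → f x = y) :
    ∃ (W : S.Opens) (σ : W.toScheme ⟶ Y), s ∈ W ∧ IsDesc ξ f W σ := by
  obtain ⟨y, hy⟩ := hs
  obtain ⟨_, ⟨V', hV, rfl⟩, hyV, -⟩ :=
    Y.isBasis_affineOpens.exists_subset_of_mem_open (Set.mem_univ y) isOpen_univ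
  let V : Y.Opens := V'
  have : IsAffine V.toScheme := hV
  let W : S.Opens := ⟨(ξ '' ((f ⁻¹ᵁ V : X.Opens) : Set X)ᶜ)ᶜ,
    (ξ.isClosedMap _ (f ⁻¹ᵁ V).isOpen.isClosed_compl).isOpen_compl⟩
  have hsW : s ∈ W := fun ⟨x, hx, hxs⟩ ↦ hx (by show f x ∈ V; rw [hy x hxs]; exact hyV)
  have hle : ξ ⁻¹ᵁ W ≤ f ⁻¹ᵁ V := fun x hx ↦ by_contra fun h ↦ hx ⟨x, h, rfl⟩
  let g := f.resLE V (ξ ⁻¹ᵁ W) hle
  have : IsIso (ξ ∣_ W).appTop := by
    rw [ConcreteCategory.isIso_iff_bijective, morphismRestrict_appTop]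
    exact (ConcreteCategory.bijective_of_isIso (X.presheaf.map _)).comp (h0 _)
  refine ⟨W, W.toScheme.toSpecΓ ≫ Spec.map (g.appTop ≫ inv (ξ ∣_ W).appTop) ≫
    V.toScheme.isoSpec.inv ≫ V.ι, hsW, ?_⟩
  unfold IsDesc
  rw [Scheme.toSpecΓ_naturality_assoc, ← Spec.map_comp_assoc, Category.assoc, IsIso.inv_hom_id,
    Category.comp_id, ← Scheme.toSpecΓ_naturality_assoc, Scheme.toSpecΓ_isoSpec_inv_assoc,
    Scheme.Hom.resLE_comp_ι]


/-- Let S be a locally Noetherian scheme, ξ : X ⟶ S a proper morphism all of whose geometric fibres are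
integral and for which O_S ⟶ ξ_*O_X is an isomorphism (the map Γ(U, O_S) → Γ(ξ⁻¹U, O_X) is bijective
for every open U of S), v : Y ⟶ S an arbitrary S-scheme and f : X ⟶ Y a morphism over S. Let U be
the set of points s of S such that f sends every point of the fibre ξ⁻¹(s) to one and the same point
of Y. Then U is open in S, and for every morphism τ : T ⟶ S the base change of f to T factors
through the projection X ×_S T ⟶ T — that is, there is r : T ⟶ Y with r ≫ v = τ and fst ≫ f = snd ≫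
r on X ×_S T — if and only if τ maps every point of T into U. -/
theorem result {X Y S : Scheme.{u}} [IsLocallyNoetherian S]
    (ξ : X ⟶ S) [IsProper ξ] [GeometricallyIntegral ξ]
    (h0 : ∀ U : S.Opens, Function.Bijective (ξ.app U).hom)
    (v : Y ⟶ S) (f : X ⟶ Y) (hf : f ≫ v = ξ) :
    IsOpen {s : ↥S | ∃ y : ↥Y, ∀ x : ↥X, ξ.base x = s → f.base x = y} ∧
    ∀ (T : Scheme.{u}) (τ : T ⟶ S),
      ((∃ r : T ⟶ Y, r ≫ v = τ ∧ pullback.fst ξ τ ≫ f = pullback.snd ξ τ ≫ r) ↔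
        ∀ t : ↥T, τ.base t ∈ {s : ↥S | ∃ y : ↥Y, ∀ x : ↥X, ξ.base x = s → f.base x = y}) := by
  have : Surjective ξ := inferInstance
  set U := {s : ↥S | ∃ y : ↥Y, ∀ x : ↥X, ξ.base x = s → f.base x = y} with hU
  choose W σ hsW hσ using fun s : U ↦ exists_desc_nhd ξ h0 f s.2
  have hWU : ∀ i : U, (W i : Set S) ⊆ U := fun i t ht ↦ by
    refine ⟨σ i ⟨t, ht⟩, fun x hx ↦ ?_⟩
    have hxW : x ∈ ξ ⁻¹ᵁ W i := show ξ x ∈ W i by rw [show ξ x = t from hx]; exact ht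
    have := congrArg (fun φ : (ξ ⁻¹ᵁ W i).toScheme ⟶ Y ↦ φ ⟨x, hxW⟩) (hσ i)
    simp only [Scheme.Hom.comp_apply] at this
    rw [show (ξ ∣_ W i) ⟨x, hxW⟩ = ⟨t, ht⟩ from Subtype.ext (by
      refine (congrArg (fun φ : (ξ ⁻¹ᵁ W i).toScheme ⟶ S ↦ φ ⟨x, hxW⟩) (morphismRestrict_ι ξ (W i))).trans ?_
      exact hx)] at this
    exact this.symm
  refine ⟨isOpen_iff_forall_mem_open.mpr fun s hs ↦ ⟨W ⟨s, hs⟩, hWU _, (W _).isOpen, hsW _⟩,
    fun T τ ↦ ⟨?_, fun hτ ↦ ?_⟩⟩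
  · rintro ⟨r, -, hr⟩ t
    refine ⟨r t, fun x hx ↦ ?_⟩
    obtain ⟨z, hz₁, hz₂⟩ := Scheme.Pullback.exists_preimage_pullback x t (f := ξ) (g := τ) hx
    have := congrArg (fun φ : pullback ξ τ ⟶ Y ↦ φ z) hr
    simp only [Scheme.Hom.comp_apply] at this
    rw [hz₁, hz₂] at this
    exact this
  · let 𝒰 := Scheme.Opens.iSupOpenCover W
    let O : S.Opens := ⨆ i, W i
    let ς : O.toScheme ⟶ Y := 𝒰.glueMorphisms σ fun i j ↦ by
      let p : pullback (S.homOfLE (le_iSup W i)) (S.homOfLE (le_iSup W j)) ⟶ S := pullback.fst _ _ ≫ (W i).ι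
      have hp : p = pullback.snd (S.homOfLE (le_iSup W i)) (S.homOfLE (le_iSup W j)) ≫ (W j).ι := by
        simp only [p, ← Scheme.homOfLE_ι S (le_iSup W i), ← Scheme.homOfLE_ι S (le_iSup W j)]
        exact pullback.condition_assoc _
      let l := IsOpenImmersion.lift (W i ⊓ W j).ι p (by
        rw [Scheme.Opens.range_ι]
        rintro _ ⟨z, rfl⟩
        refine ⟨(pullback.fst (S.homOfLE (le_iSup W i)) (S.homOfLE (le_iSup W j)) z).2, ?_⟩
        rw [hp]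
        exact (pullback.snd (S.homOfLE (le_iSup W i)) (S.homOfLE (le_iSup W j)) z).2)
      have h1 : pullback.fst (S.homOfLE (le_iSup W i)) (S.homOfLE (le_iSup W j)) = l ≫ S.homOfLE inf_le_left := by
        rw [← cancel_mono (W i).ι, Category.assoc, Scheme.homOfLE_ι, IsOpenImmersion.lift_fac]
      have h2 : pullback.snd (S.homOfLE (le_iSup W i)) (S.homOfLE (le_iSup W j)) = l ≫ S.homOfLE inf_le_right := by
        rw [← cancel_mono (W j).ι, Category.assoc, Scheme.homOfLE_ι, IsOpenImmersion.lift_fac, hp]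
      show pullback.fst (S.homOfLE (le_iSup W i)) (S.homOfLE (le_iSup W j)) ≫ σ i =
        pullback.snd (S.homOfLE (le_iSup W i)) (S.homOfLE (le_iSup W j)) ≫ σ j
      rw [h1, h2, Category.assoc, Category.assoc, ((hσ i).mono inf_le_left).unique ξ h0 ((hσ j).mono inf_le_right)]
    have hς : IsDesc ξ f O ς := by
      refine Scheme.hom_ext_of_forall _ _ fun x ↦ ?_
      obtain ⟨i, hi⟩ := TopologicalSpace.Opens.mem_iSup.mp (show ξ x.1 ∈ O from x.2)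
      refine ⟨(ξ ⁻¹ᵁ O).ι ⁻¹ᵁ (ξ ⁻¹ᵁ W i), hi, ?_⟩
      let l := IsOpenImmersion.lift (ξ ⁻¹ᵁ W i).ι (((ξ ⁻¹ᵁ O).ι ⁻¹ᵁ (ξ ⁻¹ᵁ W i)).ι ≫ (ξ ⁻¹ᵁ O).ι) (by
        rw [Scheme.Opens.range_ι]
        rintro _ ⟨⟨z, hz⟩, rfl⟩
        exact hz)
      have hl : ((ξ ⁻¹ᵁ O).ι ⁻¹ᵁ (ξ ⁻¹ᵁ W i)).ι ≫ (ξ ∣_ O) = l ≫ (ξ ∣_ W i) ≫ S.homOfLE (le_iSup W i) := by
        rw [← cancel_mono O.ι]
        simp [l, O, IsOpenImmersion.lift_fac_assoc]
      have hi' : S.homOfLE (le_iSup W i) ≫ ς = σ i := 𝒰.ι_glueMorphisms _ _ i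
      rw [reassoc_of% hl, hi', hσ i, IsOpenImmersion.lift_fac_assoc, Category.assoc]
    have hv : ς ≫ v = O.ι := by
      have h1 : IsDesc ξ ξ O (ς ≫ v) := by
        unfold IsDesc at hς ⊢
        rw [reassoc_of% hς, hf]
      exact h1.unique ξ h0 (morphismRestrict_ι ξ O)
    let τ' := IsOpenImmersion.lift O.ι τ (by
      rw [Scheme.Opens.range_ι]
      rintro _ ⟨t, rfl⟩
      exact TopologicalSpace.Opens.mem_iSup.mpr ⟨⟨_, hτ t⟩, hsW _⟩)
    have hτ' : τ' ≫ O.ι = τ := IsOpenImmersion.lift_fac _ _ _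
    refine ⟨τ' ≫ ς, by rw [Category.assoc, hv, hτ'], ?_⟩
    let m := IsOpenImmersion.lift (ξ ⁻¹ᵁ O).ι (pullback.fst ξ τ) (by
      rw [Scheme.Opens.range_ι]
      rintro _ ⟨z, rfl⟩
      show ξ (pullback.fst ξ τ z) ∈ O
      rw [← Scheme.Hom.comp_apply, pullback.condition, Scheme.Hom.comp_apply,
        ← congrArg (fun φ : T ⟶ S ↦ φ (pullback.snd ξ τ z)) hτ', Scheme.Hom.comp_apply]
      exact (τ' (pullback.snd ξ τ z)).2)
    have hm : m ≫ (ξ ∣_ O) = pullback.snd ξ τ ≫ τ' := by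
      rw [← cancel_mono O.ι, Category.assoc, morphismRestrict_ι, IsOpenImmersion.lift_fac_assoc,
        pullback.condition, Category.assoc, hτ']
    rw [← reassoc_of% hm, hς, IsOpenImmersion.lift_fac_assoc]

end Groth.Agent.S14666
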