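import Groth.Statements.S14667
import Groth.Agent.GrpschAbsch.RigidityGlobal


set_option autoImplicit false
universe u
open CategoryTheory CategoryTheory.Limits AlgebraicGeometry
open AbSch

namespace Groth.Agent.S14667

/-- Let S be a locally Noetherian scheme, ξ : X ⟶ S a proper flat morphism all of whose geometric fibres
are integral, v : Y ⟶ S a separated morphism and f : X ⟶ Y a morphism over S. Then the set U of
points s of S such that f sends every point of the fibre ξ⁻¹(s) to one and the same point of Y is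
closed and open in S. (Under flatness the condition that O_S ⟶ ξ_*O_X be an isomorphism, assumed for
openness in the non-flat case, holds automatically.) -/
theorem result {X Y S : Scheme.{u}} [IsLocallyNoetherian S]
    (ξ : X ⟶ S) [IsProper ξ] [Flat ξ] [GeometricallyIntegral ξ]
    (v : Y ⟶ S) [IsSeparated v] (f : X ⟶ Y) (hf : f ≫ v = ξ) :
    IsClosed {s : ↥S | ∃ y : ↥Y, ∀ x : ↥X, ξ.base x = s → f.base x = y} ∧ IsOpen {s : ↥S | ∃ y : ↥Y, ∀ x : ↥X, ξ.base x = s → f.base x = y} := by
  have : GeometricallyConnected ξ := ⟨fun K _ y P p q sq ↦ by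
    have : IrreducibleSpace P := GeometricallyIrreducible.geometrically_irreducibleSpace (f := ξ) y p q sq
    infer_instance⟩
  have hc : ∀ s, Groth.GrpschAbsch.Rigid.ConstFibre ξ s :=
    fun s ↦ Groth.GrpschAbsch.Rigid.constFibre_of_geometrically ξ s
  have e : {s : ↥S | ∃ y : ↥Y, ∀ x : ↥X, ξ.base x = s → f.base x = y} =
      Groth.GrpschAbsch.Rigid.collapseSet ξ f := by
    ext s
    refine ⟨fun ⟨y, hy⟩ ↦ (Set.subsingleton_singleton (a := y)).anti
      (by rintro _ ⟨x, hx, rfl⟩; exact hy x hx), fun hs ↦ ?_⟩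
    obtain ⟨x₀, hx₀⟩ := ξ.surjective s
    exact ⟨f.base x₀, fun x hx ↦ hs ⟨x, hx, rfl⟩ ⟨x₀, hx₀, rfl⟩⟩
  rw [e]
  exact ⟨Groth.GrpschAbsch.Rigid.isClosed_collapseSet ξ f v hf hc,
    Groth.GrpschAbsch.Rigid.isOpen_collapseSet ξ f hc⟩

end Groth.Agent.S14667
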