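import Groth.Statements.S14668
import Groth.Agent.GrpschAbsch.AffLine
import Groth.Agent.GrpschAbsch.RigidityGlobal
import Groth.Agent.GrpschAbsch.H0General
import Groth.Agent.PnCoh.OverAffine
open CategoryTheory.MonoidalCategory CategoryTheory.CartesianMonoidalCategory

set_option autoImplicit false
universe u
open CategoryTheory CategoryTheory.Limits MonoidalCategory CartesianMonoidalCategory MonObj GrpObj AlgebraicGeometry
open AbSch

namespace Groth.Agent.S14668

/-- Let S be a locally Noetherian scheme, A an abelian scheme over S (an S-group scheme whose structure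
morphism is proper and flat with geometrically integral fibres), and P an S-scheme whose structure
morphism is proper and flat and whose geometric fibres are projective spaces: for every
algebraically closed field K and every K-point of S, the fibre P ×_S Spec K is isomorphic over Spec
K to projective n-space over K for some n. Then every S-morphism P ⟶ A factors through the structure
morphism of P: it is the composite of P ⟶ S with a section S ⟶ A. -/
theorem result {S : Scheme.{u}} [IsLocallyNoetherian S]
    (A : Over S) [GrpObj A] [IsProper A.hom] [Flat A.hom] [GeometricallyIntegral A.hom]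
    (P : Over S) [IsProper P.hom] [Flat P.hom]
    (hP : ∀ (K : Type u) [Field K] [IsAlgClosed K] (s : Spec (CommRingCat.of K) ⟶ S),
      ∃ (n : ℕ) (e : pullback P.hom s ≅ CohB1.ProjSpace n K), e.hom ≫ CohB1.ProjSpace.toSpec n K = pullback.snd P.hom s)
    (φ : P ⟶ A) :
    ∃ a : 𝟙_ (Over S) ⟶ A, φ = toUnit P ≫ a := by
  have hgeo : ∀ (K : Type u) [Field K] [IsAlgClosed K] (s : Spec (CommRingCat.of K) ⟶ S),
      IsReduced (pullback P.hom s) ∧ ConnectedSpace ↥(pullback P.hom s) := by
    intro K _ _ s
    obtain ⟨n, e, -⟩ := hP K s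
    let e' := e ≪≫ Groth.PnCoh.overIso n K
    have : IrreducibleSpace ↥(CohB1.ProjSpaceOver n (Spec (CommRingCat.of K))) :=
      Groth.Misc15.ProjPts.irreducibleSpace_projSpaceOver K
    have := Groth.GrpschAbsch.RationalToAbelian.smooth_toBase K n
    have : IsReduced (CohB1.ProjSpaceOver n (Spec (CommRingCat.of K))) :=
      Groth.AlgGrp1.isReduced_of_smooth (CohB1.ProjSpaceOver.toBase n _)
    exact ⟨isReduced_of_isOpenImmersion e'.hom, e'.hom.homeomorph.connectedSpace_iff.mpr inferInstance⟩
  obtain ⟨_, _⟩ := Groth.GrpschAbsch.H0General.geometrically_of_algClosed P.hom hgeo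
  have : Surjective P.hom := inferInstance
  have hc := fun t ↦ Groth.GrpschAbsch.Rigid.constFibre_of_geometrically P.hom t
  have hs : ∀ t, t ∈ Groth.GrpschAbsch.Rigid.collapseSet P.hom φ.left := by
    intro t
    let K := AlgebraicClosure (S.residueField t)
    let k : Spec (CommRingCat.of K) ⟶ Spec (S.residueField t) :=
      Spec.map (CommRingCat.ofHom (algebraMap (S.residueField t) K))
    let s := k ≫ S.fromSpecResidueField t
    obtain ⟨n, e, he⟩ := hP K s
    let e' := e ≪≫ Groth.PnCoh.overIso n K
    have he' : e'.hom ≫ CohB1.ProjSpaceOver.toBase n (Spec (CommRingCat.of K)) = pullback.snd P.hom s := by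
      simp [e', he]
    let A' := (Over.pullback s).obj A
    letI : GrpObj A' := Functor.grpObjObj
    have : IsProper A'.hom := inferInstanceAs (IsProper (pullback.snd A.hom s))
    have : GeometricallyIntegral A'.hom := inferInstanceAs (GeometricallyIntegral (pullback.snd A.hom s))
    let ψ : Over.mk (CohB1.ProjSpaceOver.toBase n (Spec (CommRingCat.of K))) ⟶ A' :=
      Over.homMk (e'.inv ≫ pullback.lift (pullback.fst P.hom s ≫ φ.left) (pullback.snd P.hom s)
        (by rw [Category.assoc, Over.w φ, pullback.condition])) (by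
        show (e'.inv ≫ _) ≫ pullback.snd A.hom s = _
        rw [Category.assoc, pullback.lift_snd, ← he']
        simp)
    have hψ : ∀ w, φ.left (pullback.fst P.hom s w) = pullback.fst A.hom s (ψ.left (e'.hom w)) := by
      intro w
      have h : e'.hom ≫ ψ.left ≫ pullback.fst A.hom s = pullback.fst P.hom s ≫ φ.left := by
        show e'.hom ≫ (e'.inv ≫ _) ≫ pullback.fst A.hom s = _
        rw [Category.assoc, Iso.hom_inv_id_assoc, pullback.lift_fst]
      exact congr(($h) w).symm
    have hpt : ∀ x, P.hom x = t → x ∈ Set.range (pullback.fst P.hom s) := by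
      intro x hx
      rw [Scheme.Pullback.range_fst]
      refine ⟨IsLocalRing.closedPoint K, ?_⟩
      rw [hx, Scheme.Hom.comp_apply]
      exact Scheme.fromSpecResidueField_apply t (k (IsLocalRing.closedPoint K))
    rintro _ ⟨x₁, hx₁, rfl⟩ _ ⟨x₂, hx₂, rfl⟩
    obtain ⟨w₁, rfl⟩ := hpt x₁ hx₁
    obtain ⟨w₂, rfl⟩ := hpt x₂ hx₂
    rw [hψ, hψ, Groth.GrpschAbsch.RationalToAbelian.projSpace_const A' ψ (e'.hom w₁) (e'.hom w₂)]
  obtain ⟨σ, hσ⟩ := Groth.GrpschAbsch.Rigid.exists_desc_of_collapse P.hom φ.left hs hc
  have : Epi P.hom := Flat.epi_of_flat_of_surjective P.hom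
  have hσA : σ ≫ A.hom = 𝟙 S := by
    rw [← cancel_epi P.hom, reassoc_of% hσ, Over.w φ, Category.comp_id]
  exact ⟨Over.homMk σ hσA, (Over.OverMorphism.ext hσ).symm⟩

end Groth.Agent.S14668
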