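import Groth.Statements.S14670
import Groth.Agent.S2082
import Groth.Agent.S9829
import Mathlib

set_option autoImplicit false
universe u
open CAlg

namespace Groth.Agent.S14670

/-- Let R be a regular local ring and S an integral domain containing R as a subring over which it is a
finitely generated module, such that the localization of S at each of its maximal ideals is a
Cohen–Macaulay local ring. Then S is a flat R-module. (The published statement does not require S to
be a domain; in that generality it fails — for a discrete valuation ring R with residue field κ the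
ring R × κ contains R diagonally, is finite over R with Cohen–Macaulay localizations, and is not
flat — and the printed argument needs every maximal ideal of S to have height dim R, which holds
when S is a domain by going down.) -/
theorem result (R S : Type u) [CommRing R] [CommRing S]
    [IsRegularLocalRing R] [IsDomain S] [Algebra R S] [Module.Finite R S]
    (hinj : Function.Injective (algebraMap R S))
    (hCM : ∀ (q : Ideal S) [q.IsMaximal], LocCoh.IsCohenMacaulayLocalRing (Localization.AtPrime q)) :
    Module.Flat R S := by
  haveI : IsIntegrallyClosed R := Groth.Agent.S9829.result R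
  haveI : IsDomain R := hinj.isDomain
  haveI : FaithfulSMul R S := (faithfulSMul_iff_algebraMap_injective R S).2 hinj
  haveI : IsNoetherianRing S := IsNoetherianRing.of_finite R S
  haveI : Algebra.IsIntegral R S := Algebra.IsIntegral.of_finite R S
  let m := IsLocalRing.maximalIdeal R
  refine Module.flat_of_isLocalized_maximal (R := R) (S := S) (M := S)
    (fun P _ => Localization.AtPrime P) (fun P _ => Algebra.linearMap S (Localization.AtPrime P)) fun q hq => ?_
  haveI := hCM q
  have hqm : q.comap (algebraMap R S) = m :=
    IsLocalRing.eq_maximalIdeal (Ideal.isMaximal_comap_of_isIntegral_of_isMaximal q)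
  haveI : q.LiesOver m := ⟨hqm.symm⟩
  have hprimes : ∀ P : Ideal S, P.IsPrime → m.map (algebraMap R S) ≤ P → P ≤ q → P = q := fun P hP hmP hPq => by
    have hPm : P.comap (algebraMap R S) = m :=
      le_antisymm (hqm ▸ Ideal.comap_mono hPq) (Ideal.map_le_iff_le_comap.1 hmP)
    haveI : P.IsMaximal := Ideal.isMaximal_of_isIntegral_of_isMaximal_comap (R := R) P
      (by rw [hPm]; exact IsLocalRing.maximalIdeal.isMaximal R)
    exact Ideal.IsMaximal.eq_of_le inferInstance hq.ne_top hPq
  have hmap : m.map (algebraMap R S) ≤ q := Ideal.map_le_iff_le_comap.2 hqm.ge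
  haveI : (q.map (Ideal.Quotient.mk (m.map (algebraMap R S)))).IsPrime :=
    Ideal.map_isPrime_of_surjective Ideal.Quotient.mk_surjective (by rwa [Ideal.mk_ker])
  have h0 : (q.map (Ideal.Quotient.mk (m.map (algebraMap R S)))).height = 0 := by
    refine Ideal.height_eq_zero_iff.2 ⟨⟨inferInstance, bot_le⟩, fun P hP hle => ?_⟩
    haveI := hP.1
    have h1 := hprimes (P.comap (Ideal.Quotient.mk (m.map (algebraMap R S)))) inferInstance
      (le_trans (le_of_eq Ideal.mk_ker.symm) (Ideal.comap_mono bot_le))
      (le_trans (Ideal.comap_mono hle) (le_of_eq (by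
        rw [Ideal.comap_map_of_surjective _ Ideal.Quotient.mk_surjective, ← RingHom.ker_eq_comap_bot, Ideal.mk_ker,
          sup_eq_left]
        exact hmap)))
    rw [← h1, Ideal.map_comap_of_surjective _ Ideal.Quotient.mk_surjective]
  have hht : q.height = m.height := by
    rw [Ideal.height_eq_height_add_of_liesOver_of_hasGoingDown m q, h0, add_zero]
  let Sq := Localization.AtPrime q
  haveI : IsLocalHom (algebraMap R Sq) := by
    refine ⟨fun r hr => ?_⟩
    rw [IsScalarTower.algebraMap_apply R S Sq] at hr
    by_contra hu
    exact (IsLocalization.AtPrime.isUnit_to_map_iff Sq q _).1 hr (hmap (Ideal.mem_map_of_mem _ hu))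
  have hmSq : m.map (algebraMap R Sq) ≤ IsLocalRing.maximalIdeal Sq := by
    rw [IsScalarTower.algebraMap_eq R S Sq, ← Ideal.map_map, ← IsLocalization.AtPrime.map_eq_maximalIdeal q Sq]
    exact Ideal.map_mono hmap
  haveI : Nontrivial (Sq ⧸ m.map (algebraMap R Sq)) := Ideal.Quotient.nontrivial_iff.2 fun e =>
    (IsLocalRing.maximalIdeal.isMaximal Sq).ne_top (top_le_iff.1 (e ▸ hmSq))
  haveI : Ring.KrullDimLE 0 (Sq ⧸ m.map (algebraMap R Sq)) := by
    refine Ring.KrullDimLE.mk₀ fun P hP => ?_
    let P' := P.comap (Ideal.Quotient.mk (m.map (algebraMap R Sq)))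
    have h1 : P'.comap (algebraMap S Sq) = q := hprimes _ inferInstance
      (by
        refine Ideal.map_le_iff_le_comap.2 (le_trans ?_ (le_of_eq (Ideal.comap_comap _ _).symm))
        rw [← IsScalarTower.algebraMap_eq R S Sq, ← Ideal.map_le_iff_le_comap]
        exact le_trans (le_of_eq Ideal.mk_ker.symm) (Ideal.comap_mono bot_le))
      ((Ideal.comap_mono (IsLocalRing.le_maximalIdeal (Ideal.IsPrime.ne_top inferInstance))).trans
        (IsLocalization.AtPrime.under_maximalIdeal Sq q).le)
    have h2 : P' = IsLocalRing.maximalIdeal Sq := by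
      rw [← IsLocalization.map_comap q.primeCompl Sq P', Ideal.under_def, h1, IsLocalization.AtPrime.map_eq_maximalIdeal q Sq]
    rw [← Ideal.map_comap_of_surjective (Ideal.Quotient.mk (m.map (algebraMap R Sq))) Ideal.Quotient.mk_surjective P]
    rcases Ideal.map_eq_top_or_isMaximal_of_surjective (Ideal.Quotient.mk (m.map (algebraMap R Sq)))
      Ideal.Quotient.mk_surjective (show P'.IsMaximal from h2 ▸ IsLocalRing.maximalIdeal.isMaximal Sq) with h3 | h3
    · exact absurd ((Ideal.map_comap_of_surjective _ Ideal.Quotient.mk_surjective P).symm.trans h3) hP.ne_top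
    · exact h3
  refine Groth.Agent.S2082.result ?_
  rw [IsLocalization.AtPrime.ringKrullDim_eq_height q Sq, hht, IsLocalRing.maximalIdeal_height_eq_ringKrullDim,
    show ringKrullDim (Sq ⧸ m.map (algebraMap R Sq)) = 0 from ringKrullDimZero_iff_ringKrullDim_eq_zero.1 inferInstance,
    add_zero]

end Groth.Agent.S14670
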