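import Groth.Statements.S14674
import Groth.Agent.Abvar.Cube.ThetaBase

set_option autoImplicit false
universe u
open CategoryTheory CategoryTheory.Limits MonoidalCategory CartesianMonoidalCategory MonObj GrpObj AlgebraicGeometry
open AbSch

namespace Groth.Agent.S14674

open Groth.Abvar.PicCalc

/-- Let S be a locally Noetherian scheme, X an abelian scheme over S (an S-group scheme whose structure
morphism α is proper and flat with geometrically integral fibres) with unit section e : S ⟶ X, L an
invertible O_X-module and n an integer; write [n] for the n-th multiple of the identity in the group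
of S-endomorphisms of X. Then [n]^*L ⊗ α^*(e^*L)^{⊗ n²} is isomorphic to L^{⊗(n²+n)/2} ⊗
[-1]^*L^{⊗(n²−n)/2} ⊗ α^*e^*L; equivalently [n]^*L ≅ L^{⊗(n²+n)/2} ⊗ [-1]^*L^{⊗(n²−n)/2} ⊗
[0]^*L^{⊗(1−n²)} with [0]^*L = α^*e^*L (existence of an isomorphism of O_X-modules only). -/
theorem result {S : Scheme.{u}} [IsLocallyNoetherian S] (X : Over S) [GrpObj X] [IsProper X.hom] [Flat X.hom] [GeometricallyIntegral X.hom]
    (L : X.left.Modules) (hL : PicF.IsInvertible L) (n : ℤ) :
    Nonempty (CohB1.tensorMod ((Scheme.Modules.pullback (𝟙 X ^ n).left).obj L)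
        ((Scheme.Modules.pullback X.hom).obj (CohB1.tensorPow ((Scheme.Modules.pullback (η[X]).left).obj L) (n.natAbs ^ 2))) ≅
      CohB1.tensorMod (CohB1.tensorMod (CohB1.tensorPow L ((n ^ 2 + n) / 2).toNat)
          ((Scheme.Modules.pullback (𝟙 X ^ (-1 : ℤ)).left).obj (CohB1.tensorPow L ((n ^ 2 - n) / 2).toNat)))
        ((Scheme.Modules.pullback X.hom).obj ((Scheme.Modules.pullback (η[X]).left).obj L))) := by
  have hi : ∀ {Y : Scheme.{u}} (f : Y ⟶ X.left), PicF.IsInvertible
      ((Scheme.Modules.pullback f).obj L) := fun f => PicLoc.isInvertible_pullback f hL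
  have he := PicLoc.isInvertible_pullback η[X].left hL
  have hP := isInvertible_tensorPow hL
  rw [nonempty_iso_iff
      (isInvertible_tensorMod (hi _) (PicLoc.isInvertible_pullback X.hom (isInvertible_tensorPow he _)))
      (isInvertible_tensorMod
        (isInvertible_tensorMod (hP _) (PicLoc.isInvertible_pullback _ (hP _)))
        (PicLoc.isInvertible_pullback X.hom he)),
    cls_tensorMod (hi _) (PicLoc.isInvertible_pullback X.hom (isInvertible_tensorPow he _)),
    cls_tensorMod (isInvertible_tensorMod (hP _) (PicLoc.isInvertible_pullback _ (hP _)))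
      (PicLoc.isInvertible_pullback X.hom he),
    cls_tensorMod (hP _) (PicLoc.isInvertible_pullback _ (hP _)),
    ← pull_cls (𝟙 X ^ n).left hL, ← pull_cls X.hom (isInvertible_tensorPow he _),
    cls_tensorPow he, map_pow, cls_tensorPow hL, ← pull_cls (𝟙 X ^ (-1 : ℤ)).left (hP _),
    cls_tensorPow hL, map_pow, ← pull_cls X.hom he, ← pull_cls η[X].left hL]
  have h1 : (1 : X ⟶ X).left = X.hom ≫ η[X].left := by
    rw [Hom.one_def, Over.comp_left, Over.toUnit_left]
  rw [← pull_comp, ← h1, show 𝟙 X ^ (-1 : ℤ) = (𝟙 X)⁻¹ from zpow_neg_one _]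
  exact Groth.Abvar.Cube.opull_zpow_base (cls hL) n

end Groth.Agent.S14674
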