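import Groth.Statements.S14676
import Mathlib
-- import your own Groth.Agent.* helpers here

set_option autoImplicit false
universe u
open CAlg

namespace Groth.Agent.S14676

/-- Let A be a commutative ring which is separated and complete for the I-adic topology of an ideal I,
let P be any polynomial over A (not assumed monic) and a₀ an element of A such that P(a₀) lies in I
and P'(a₀) is a unit modulo I. Then there is a unique a in A congruent to a₀ modulo I with P(a) = 0. -/
theorem result (A : Type u) [CommRing A] (I : Ideal A) [IsAdicComplete I A]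
    (P : Polynomial A) (a₀ : A) (h₀ : P.eval a₀ ∈ I)
    (h₁ : IsUnit (Ideal.Quotient.mk I (P.derivative.eval a₀))) :
    ∃! a : A, a - a₀ ∈ I ∧ P.IsRoot a := by
  classical
  set d := P.derivative.eval a₀ with hd
  obtain ⟨ub, hub⟩ := Ideal.Quotient.mk_surjective (↑(h₁.unit⁻¹) : A ⧸ I)
  have hud : 1 - ub * d ∈ I := by
    rw [← Ideal.Quotient.eq_zero_iff_mem, map_sub, map_one, map_mul, hub, IsUnit.val_inv_mul, sub_self]
  let s : ℕ → A := fun j => (fun x => x - ub * P.eval x)^[j] a₀
  have hstep : ∀ j, s (j + 1) = s j - ub * P.eval (s j) := fun j => Function.iterate_succ_apply' _ j a₀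
  have key : ∀ j, s j - a₀ ∈ I ∧ P.eval (s j) ∈ I ^ (j + 1) := by
    intro j
    induction j with
    | zero => exact ⟨by simp [s], by simpa [s] using h₀⟩
    | succ j ih =>
      obtain ⟨h1, h2⟩ := ih
      set h := -(ub * P.eval (s j)) with hh
      have hhI : h ∈ I ^ (j + 1) := neg_mem (Ideal.mul_mem_left _ _ h2)
      have hsucc : s (j + 1) = s j + h := by rw [hstep, hh]; ring
      refine ⟨?_, ?_⟩
      · rw [hsucc, show s j + h - a₀ = (s j - a₀) + h by ring]
        exact add_mem h1 (Ideal.pow_le_self (by omega) hhI)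
      · obtain ⟨c, hc⟩ := P.binomExpansion (s j) h
        obtain ⟨e, he⟩ := Polynomial.sub_dvd_eval_sub (s j) a₀ P.derivative
        have hdiff : P.derivative.eval (s j) - d ∈ I := he ▸ Ideal.mul_mem_right _ _ h1
        rw [hsucc, hc, show P.eval (s j) + P.derivative.eval (s j) * h + c * h ^ 2 =
          ((1 - ub * d) - ub * (P.derivative.eval (s j) - d)) * P.eval (s j) + c * h * h by rw [hh]; ring]
        refine add_mem ?_ ?_
        · rw [pow_succ' I (j + 1)]
          exact Ideal.mul_mem_mul (sub_mem hud (Ideal.mul_mem_left _ _ hdiff)) h2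
        · rw [pow_succ' I (j + 1)]
          exact Ideal.mul_mem_mul (Ideal.mul_mem_left _ _ (Ideal.pow_le_self (by omega) hhI)) hhI
  have hmod : ∀ (j : ℕ) (x y : A), x ≡ y [SMOD (I ^ j • (⊤ : Submodule A A))] ↔ x - y ∈ I ^ j := by
    intro j x y; simp [SModEq.sub_mem]
  have hcauchy : ∀ {m j}, m ≤ j → s m ≡ s j [SMOD (I ^ m • (⊤ : Submodule A A))] := by
    intro m j hmj
    induction j, hmj using Nat.le_induction with
    | base => rfl
    | succ j hmj ih =>
      refine ih.trans ((hmod m _ _).2 ?_)
      rw [hstep, sub_sub_cancel]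
      exact Ideal.mul_mem_left _ _ (Ideal.pow_le_pow_right (by omega) (key j).2)
  obtain ⟨a, ha⟩ := IsPrecomplete.prec (I := I) (M := A) inferInstance hcauchy
  have hzero : ∀ x : A, (∀ j, x ∈ I ^ j) → x = 0 := fun x hx =>
    IsHausdorff.haus (I := I) inferInstance x fun j => (hmod j x 0).2 (by simpa using hx j)
  have ha0 : a - a₀ ∈ I := by
    have h1 := (hmod 1 _ _).1 (ha 1)
    rw [pow_one] at h1
    rw [show a - a₀ = (s 1 - a₀) - (s 1 - a) by ring]
    exact sub_mem (key 1).1 h1
  have hroot : P.eval a = 0 := hzero _ fun j => by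
    have h1 : P.eval (s j) ∈ I ^ j := Ideal.pow_le_pow_right (Nat.le_succ j) (key j).2
    obtain ⟨e, he⟩ := Polynomial.sub_dvd_eval_sub (s j) a P
    have h2 : P.eval (s j) - P.eval a ∈ I ^ j := he ▸ Ideal.mul_mem_right _ _ ((hmod j _ _).1 (ha j))
    simpa using sub_mem h1 h2
  refine ⟨a, ⟨ha0, hroot⟩, ?_⟩
  rintro b ⟨hb, hb'⟩
  obtain ⟨c, hc⟩ := P.binomExpansion a (b - a)
  rw [add_sub_cancel, show P.eval b = 0 from hb', hroot, zero_add] at hc
  have hab : b - a ∈ I := by rw [show b - a = (b - a₀) - (a - a₀) by ring]; exact sub_mem hb ha0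
  obtain ⟨e, he⟩ := Polynomial.sub_dvd_eval_sub a a₀ P.derivative
  have hu : IsUnit (P.derivative.eval a + c * (b - a)) := by
    have hq : IsUnit (Ideal.Quotient.mk I (P.derivative.eval a + c * (b - a))) := by
      have : Ideal.Quotient.mk I (P.derivative.eval a + c * (b - a)) = Ideal.Quotient.mk I d := by
        rw [Ideal.Quotient.eq, show P.derivative.eval a + c * (b - a) - d = (P.derivative.eval a - d) + c * (b - a) by ring]
        exact add_mem (he ▸ Ideal.mul_mem_right _ _ ha0) (Ideal.mul_mem_left _ _ hab)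
      rw [this]; exact h₁
    obtain ⟨v, hv⟩ := hq.exists_right_inv
    obtain ⟨v, rfl⟩ := Ideal.Quotient.mk_surjective v
    rw [← map_mul, ← map_one (Ideal.Quotient.mk I), Ideal.Quotient.eq] at hv
    have hj := Ideal.mem_jacobson_bot.1 (IsAdicComplete.le_jacobson_bot I hv) 1
    rw [mul_one, sub_add_cancel] at hj
    exact isUnit_of_mul_isUnit_left hj
  have : (b - a) * (P.derivative.eval a + c * (b - a)) = 0 := by linear_combination -hc
  exact sub_eq_zero.1 (hu.mul_left_eq_zero.1 this)

end Groth.Agent.S14676
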