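import Groth.Statements.S14677
import Mathlib
-- import your own Groth.Agent.* helpers here

set_option autoImplicit false
universe u
open CAlg

namespace Groth.Agent.S14677

/-- Let A be a Noetherian commutative ring, I and J ideals of A and M a finitely generated A-module.
Then the map of I-adic completions induced by the inclusion of the submodule JM into M is injective
with image exactly J·M̂, where M̂ is the I-adic completion of M; that is, the completion of JM is J
times the completion of M. (The published statement does not say that A is Noetherian; its proof
uses exactness of completion on finitely generated modules, which needs it, so this row assumes A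
Noetherian.) -/
theorem result (A : Type u) [CommRing A] [IsNoetherianRing A] (I J : Ideal A)
    (M : Type u) [AddCommGroup M] [Module A M] [Module.Finite A M] :
    Function.Injective (AdicCompletion.map I (J • (⊤ : Submodule A M)).subtype) ∧
      LinearMap.range (AdicCompletion.map I (J • (⊤ : Submodule A M)).subtype) =
        (J.map (algebraMap A (AdicCompletion I A))) • (⊤ : Submodule (AdicCompletion I A) (AdicCompletion I M)) := by
  classical
  let N := J • (⊤ : Submodule A M)
  refine ⟨AdicCompletion.map_injective I Subtype.val_injective, le_antisymm ?_ ?_⟩
  · obtain ⟨k, j, hj⟩ := Submodule.fg_iff_exists_fin_generating_family.1 (IsNoetherian.noetherian J)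
    have hjJ : ∀ i, j i ∈ J := fun i => hj.le (Submodule.subset_span ⟨i, rfl⟩)
    let ψ : (Fin k → M) →ₗ[A] M := ∑ i, j i • LinearMap.proj i
    have hψN : ∀ x, ψ x ∈ N := fun x => by
      simp only [ψ, LinearMap.sum_apply, LinearMap.smul_apply, LinearMap.proj_apply]
      exact Submodule.sum_mem _ fun i _ => Submodule.smul_mem_smul (hjJ i) trivial
    let h := ψ.codRestrict N hψN
    have hsurj : Function.Surjective h := by
      rintro ⟨y, hy⟩
      suffices y ∈ LinearMap.range ψ by
        obtain ⟨x, hx⟩ := this
        exact ⟨x, Subtype.ext hx⟩
      refine Submodule.smul_induction_on hy (fun r hr x _ => ?_) (fun a b ha hb => add_mem ha hb)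
      obtain ⟨c, hc⟩ := Submodule.mem_span_range_iff_exists_fun A |>.1 (hj.ge hr)
      refine ⟨fun i => c i • x, ?_⟩
      simp only [ψ, LinearMap.sum_apply, LinearMap.smul_apply, LinearMap.proj_apply]
      rw [← hc, Finset.sum_smul]
      simp [smul_smul, mul_comm]
    rintro _ ⟨z, rfl⟩
    obtain ⟨x, rfl⟩ := AdicCompletion.map_surjective I hsurj z
    rw [AdicCompletion.map_comp_apply, LinearMap.subtype_comp_codRestrict]
    have e : AdicCompletion.map I ψ x = ∑ i, algebraMap A (AdicCompletion I A) (j i) • AdicCompletion.map I (LinearMap.proj i) x := by
      simp only [algebraMap_smul]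
      refine AdicCompletion.ext fun n => ?_
      rw [AdicCompletion.val_sum_apply]
      induction x using AdicCompletion.induction_on with
      | _ a => simp [ψ, AdicCompletion.val_smul_apply, Submodule.Quotient.mk_smul, ← Submodule.mkQ_apply, map_sum]
    rw [e]
    exact Submodule.sum_mem _ fun i _ => Submodule.smul_mem_smul (Ideal.mem_map_of_mem _ (hjJ i)) trivial
  · rw [Ideal.map, Submodule.span_smul_eq, Submodule.set_smul_le_iff]
    rintro _ x ⟨r, hr, rfl⟩ -
    refine ⟨AdicCompletion.map I ((r • LinearMap.id : M →ₗ[A] M).codRestrict N
      (fun y => Submodule.smul_mem_smul (I := J) (N := (⊤ : Submodule A M)) hr Submodule.mem_top)) x, ?_⟩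
    rw [AdicCompletion.map_comp_apply, LinearMap.subtype_comp_codRestrict, algebraMap_smul]
    refine AdicCompletion.ext fun n => ?_
    induction x using AdicCompletion.induction_on with
    | _ a => simp [AdicCompletion.val_smul_apply, Submodule.Quotient.mk_smul]

end Groth.Agent.S14677
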