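import Groth.Statements.S14678
import Mathlib.RingTheory.AdjoinRoot
import Mathlib.RingTheory.Localization.Integral
import Mathlib.RingTheory.Flat.Stability
import Mathlib.AlgebraicGeometry.ResidueField

set_option autoImplicit false
universe u
open CategoryTheory CategoryTheory.Limits AlgebraicGeometry
open EtBase

namespace Groth.Agent.S14678

open Polynomial in
/-- Finitely many integral elements lie in the image of a flat finitely presented algebra. -/
theorem exists_flat_fp_algebra {A L : Type u} [CommRing A] [CommRing L] [Algebra A L] (T : Finset L)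
    (hT : ∀ y ∈ T, IsIntegral A y) :
    ∃ (B : Type u) (_ : CommRing B) (_ : Algebra A B) (g : B →ₐ[A] L),
      Module.Flat A B ∧ Algebra.FinitePresentation A B ∧ ∀ y ∈ T, y ∈ g.range := by
  classical
  induction T using Finset.induction_on with
  | empty => exact ⟨A, inferInstance, inferInstance, Algebra.ofId A L, inferInstance, inferInstance, by simp⟩
  | @insert y T hy ih =>
    obtain ⟨B, _, _, g, hfl, hfp, hg⟩ := ih fun z hz => hT z (Finset.mem_insert_of_mem hz)
    obtain ⟨F, hF, hFy⟩ := hT y (Finset.mem_insert_self y T)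
    let P : B[X] := F.map (algebraMap A B)
    have hP : P.Monic := hF.map _
    have : Module.Free B (AdjoinRoot P) := Module.Free.of_basis (AdjoinRoot.powerBasis' hP).basis
    have h0 : P.eval₂ (g : B →+* L) y = 0 := by
      rw [eval₂_map, show (g : B →+* L).comp (algebraMap A B) = algebraMap A L from g.comp_algebraMap]
      exact hFy
    let g' : AdjoinRoot P →ₐ[A] L := AdjoinRoot.liftAlgHom P g y h0
    refine ⟨AdjoinRoot P, inferInstance, inferInstance, g', Module.Flat.trans A B _,
      Algebra.FinitePresentation.trans A B _, fun z hz => ?_⟩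
    rcases Finset.mem_insert.mp hz with rfl | hz
    · exact ⟨AdjoinRoot.root P, AdjoinRoot.liftAlgHom_root _ _ _ h0⟩
    · obtain ⟨b, hb⟩ := hg z hz
      exact ⟨AdjoinRoot.of P b, (AdjoinRoot.lift_of h0).trans hb⟩

/-- Let S be a scheme, s a point of S and ℓ a finite field extension of the residue field κ(s). Then,
fppf-locally around s, ℓ occurs as a residue field: there are an affine scheme U', a flat morphism b
: U' ⟶ S locally of finite presentation (so with open image containing s) and a morphism t : Spec ℓ
⟶ U' over the canonical morphism Spec ℓ ⟶ Spec κ(s) ⟶ S which is a preimmersion, i.e. the inclusion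
of a point s' of U' above s together with an identification of κ(s') with ℓ over κ(s); such a point
is closed in its fibre over s. (The published statement gives an affine open neighbourhood U of s
and an fppf morphism U' ⟶ U; this row asks only for a flat, locally finitely presented U' ⟶ S, whose
open image then contains s.) -/
theorem result (S : Scheme.{u}) (s : ↥S)
    (ℓ : Type u) [Field ℓ] [Algebra (S.residueField s) ℓ] [Module.Finite (S.residueField s) ℓ] :
    ∃ (U' : Scheme.{u}) (b : U' ⟶ S) (t : Spec (CommRingCat.of ℓ) ⟶ U'),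
      IsAffine U' ∧ Flat b ∧ LocallyOfFinitePresentation b ∧ IsPreimmersion t ∧
        t ≫ b = Spec.map (CommRingCat.ofHom (algebraMap (S.residueField s) ℓ)) ≫ S.fromSpecResidueField s := by
  obtain ⟨_, ⟨V₀, hV, rfl⟩, hsV, -⟩ :=
    S.isBasis_affineOpens.exists_subset_of_mem_open (Set.mem_univ s) isOpen_univ
  let V : S.Opens := V₀
  replace hV : IsAffineOpen V := hV
  let O := S.presheaf.stalk s
  let A := Γ(S, V)
  let _ : Algebra A O := (S.presheaf.germ V s hsV).hom.toAlgebra
  have : IsLocalization.AtPrime O (hV.primeIdealOf ⟨s, hsV⟩).asIdeal := hV.isLocalization_stalk ⟨s, hsV⟩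
  let _ : Algebra O ℓ := ((algebraMap (S.residueField s) ℓ).comp (S.residue s).hom).toAlgebra
  let _ : Algebra A ℓ := ((algebraMap O ℓ).comp (algebraMap A O)).toAlgebra
  have : IsScalarTower A O ℓ := .of_algebraMap_eq fun _ => rfl
  have hint : ∀ x : ℓ, IsIntegral O x := fun x => by
    obtain ⟨P, hP, hPx⟩ := (IsIntegral.of_finite (S.residueField s) x)
    obtain ⟨Q, hQ, -, hQm⟩ := Polynomial.lifts_and_degree_eq_and_monic
      (Polynomial.map_surjective (S.residue s).hom (S.residue_surjective s) P) hP
    refine ⟨Q, hQm, ?_⟩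
    rw [← hQ, Polynomial.eval₂_map] at hPx
    exact hPx
  have hsc : ∀ x : ℓ, ∃ m : A, IsUnit (algebraMap A ℓ m) ∧ IsIntegral A (algebraMap A ℓ m * x) := fun x => by
    obtain ⟨m, hm⟩ := IsIntegral.exists_multiple_integral_of_isLocalization
      (hV.primeIdealOf ⟨s, hsV⟩).asIdeal.primeCompl x (hint x)
    refine ⟨m.1, ?_, ?_⟩
    · rw [IsScalarTower.algebraMap_apply A O ℓ]
      exact (IsLocalization.map_units O m).map _
    · rwa [Submonoid.smul_def, Algebra.smul_def] at hm
  choose m hm hmi using hsc
  classical
  obtain ⟨T, hT⟩ := (inferInstance : Module.Finite (S.residueField s) ℓ).fg_top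
  obtain ⟨B, _, _, g, hfl, hfp, hg⟩ := exists_flat_fp_algebra
    (T.image fun x => algebraMap A ℓ (m x) * x) (by
      intro y hy
      obtain ⟨x, -, rfl⟩ := Finset.mem_image.mp hy
      exact hmi x)
  -- fractions of the image
  let F : Subfield ℓ := Subfield.closure (g.range : Set ℓ)
  have hA : ∀ a, algebraMap A ℓ a ∈ F := fun a => Subfield.subset_closure (g.range.algebraMap_mem a)
  have hκ : ∀ c : S.residueField s, algebraMap (S.residueField s) ℓ c ∈ F := fun c => by
    obtain ⟨o, rfl⟩ := S.residue_surjective s c
    obtain ⟨⟨a, d⟩, h⟩ := IsLocalization.surj (hV.primeIdealOf ⟨s, hsV⟩).asIdeal.primeCompl o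
    have h' := congrArg (algebraMap O ℓ) h
    rw [map_mul, ← IsScalarTower.algebraMap_apply, ← IsScalarTower.algebraMap_apply] at h'
    have hd : IsUnit (algebraMap A ℓ d.1) := by
      rw [IsScalarTower.algebraMap_apply A O ℓ]
      exact (IsLocalization.map_units O d).map _
    show algebraMap O ℓ o ∈ F
    rw [← div_eq_of_eq_mul hd.ne_zero h'.symm]
    exact F.div_mem (hA _) (hA _)
  have hTF : ∀ x ∈ T, x ∈ F := fun x hx => by
    rw [← mul_div_cancel_left₀ x (hm x).ne_zero]
    exact F.div_mem (Subfield.subset_closure (hg _ (Finset.mem_image_of_mem _ hx))) (hA _)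
  have htop : ∀ x : ℓ, x ∈ F := fun x => by
    have hx : x ∈ Submodule.span (S.residueField s) (T : Set ℓ) := hT ▸ Submodule.mem_top
    induction hx using Submodule.span_induction with
    | mem y hy => exact hTF y hy
    | zero => exact F.zero_mem
    | add a b _ _ ha hb => exact F.add_mem ha hb
    | smul c a _ ha => rw [Algebra.smul_def]; exact F.mul_mem (hκ c) ha
  have hpre : IsPreimmersion (Spec.map (CommRingCat.ofHom g.toRingHom)) := by
    refine IsPreimmersion.mk_SpecMap (.of_subsingleton _) (RingHom.surjectiveOnStalks_of_exists_div fun x => ?_)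
    obtain ⟨p, hp, q, hq, rfl⟩ := Subfield.mem_closure_iff.mp (htop x)
    rw [show Subring.closure (g.range : Set ℓ) = g.range.toSubring from
      Subring.closure_eq g.range.toSubring] at hp hq
    by_cases hq0 : q = 0
    · exact ⟨0, 1, by simp, by simp [hq0]⟩
    obtain ⟨p, rfl⟩ := hp
    obtain ⟨q, rfl⟩ := hq
    exact ⟨p, q, isUnit_iff_ne_zero.mpr hq0, mul_div_cancel₀ _ hq0⟩
  have : Flat (Spec.map (CommRingCat.ofHom (algebraMap A B))) :=
    (HasRingHomProperty.Spec_iff (P := @Flat)).mpr (RingHom.flat_algebraMap_iff.mpr hfl)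
  have : LocallyOfFinitePresentation (Spec.map (CommRingCat.ofHom (algebraMap A B))) :=
    (HasRingHomProperty.Spec_iff (P := @LocallyOfFinitePresentation)).mpr
      (RingHom.finitePresentation_algebraMap.mpr hfp)
  refine ⟨Spec (CommRingCat.of B), Spec.map (CommRingCat.ofHom (algebraMap A B)) ≫ hV.fromSpec,
    Spec.map (CommRingCat.ofHom g.toRingHom), inferInstance, inferInstance, inferInstance, hpre, ?_⟩
  rw [Scheme.fromSpecResidueField, ← hV.fromSpecStalk_eq_fromSpecStalk hsV, IsAffineOpen.fromSpecStalk,
    ← Spec.map_comp_assoc, ← Spec.map_comp_assoc, ← Spec.map_comp_assoc]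
  congr 2
  exact CommRingCat.hom_ext g.comp_algebraMap

end Groth.Agent.S14678
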