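import Groth.Statements.S14679
import Mathlib.AlgebraicGeometry.PullbackCarrier

set_option autoImplicit false
universe u
open CategoryTheory CategoryTheory.Limits AlgebraicGeometry
open EtBase

namespace Groth.Agent.S14679

open Scheme.Pullback in
lemma existsUnique_of_isIso {X Y L : Scheme.{u}} [Subsingleton L] (f : X ⟶ Y) (g : L ⟶ Y) (l : L)
    (x : X) [IsIso (f.residueFieldMap x)] (h : f.base x = g.base l) :
    ∃! z : ↥(pullback f g), (pullback.fst f g).base z = x := by
  obtain ⟨z, hz, -⟩ := exists_preimage_pullback (f := f) (g := g) x l h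
  refine ⟨z, hz, fun z' hz' => ?_⟩
  apply carrierEquiv.injective
  obtain ⟨T, p, hT⟩ : ∃ T p, carrierEquiv z = ⟨T, p⟩ := ⟨_, _, rfl⟩
  obtain ⟨T', p', hT'⟩ : ∃ T p, carrierEquiv z' = ⟨T, p⟩ := ⟨_, _, rfl⟩
  have hx : T.x = x := by
    rw [← carrierEquiv_symm_fst T p, ← hT, Equiv.symm_apply_apply]; exact hz
  have hx' : T'.x = x := by
    rw [← carrierEquiv_symm_fst T' p', ← hT', Equiv.symm_apply_apply]; exact hz'
  obtain rfl : T' = T := Triplet.ext (hx'.trans hx.symm) (Subsingleton.elim _ _)
  rw [hT, hT']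
  have : IsIso (f.residueFieldMap T'.x) := by rw [hx]; infer_instance
  have : IsIso ((Y.residueFieldCongr T'.hx).inv ≫ f.residueFieldMap T'.x) := inferInstance
  have : IsIso T'.tensorInr := pushout_inr_iso_of_left_iso _ _
  have hK : IsField T'.tensor :=
    (asIso T'.tensorInr).symm.commRingCatIsoToRingEquiv.toMulEquiv.isField (Field.toIsField _)
  let _ := hK.toField
  rw [Subsingleton.elim (α := PrimeSpectrum T'.tensor) p' p]

theorem result {X Y : Scheme.{u}} (f : X ⟶ Y) (x : ↥X)
    (hx : Function.Bijective (f.residueFieldMap x).hom)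
    (ℓ : Type u) [Field ℓ] [Algebra (Y.residueField (f.base x)) ℓ] [Algebra.IsAlgebraic (Y.residueField (f.base x)) ℓ] :
    ∃! z : ↥(pullback f (Spec.map (CommRingCat.ofHom (algebraMap (Y.residueField (f.base x)) ℓ)) ≫ Y.fromSpecResidueField (f.base x))),
      (pullback.fst f (Spec.map (CommRingCat.ofHom (algebraMap (Y.residueField (f.base x)) ℓ)) ≫ Y.fromSpecResidueField (f.base x))).base z = x := by
  have : IsIso (f.residueFieldMap x) := (ConcreteCategory.isIso_iff_bijective _).2 hx
  refine existsUnique_of_isIso f _ default x ?_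
  rw [Scheme.Hom.comp_apply]
  exact (Y.fromSpecResidueField_apply (f.base x) _).symm

end Groth.Agent.S14679
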