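import Groth.Statements.S14680
import Mathlib
-- import your own Groth.Agent.* helpers here

set_option autoImplicit false
universe u
open CAlg

namespace Groth.Agent.S14680

theorem subsingleton_of_injective_of_zero {R M N : Type*} [Semiring R] [AddCommMonoid M] [AddCommMonoid N]
    [Module R M] [Module R N] (φ : M →ₗ[R] N) (hi : Function.Injective φ) (h0 : φ = 0) : Subsingleton M :=
  ⟨fun a b => hi (by rw [h0]; rfl)⟩

theorem subsingleton_of_surjective_of_zero {R M N : Type*} [Semiring R] [AddCommMonoid M] [AddCommMonoid N]
    [Module R M] [Module R N] (φ : M →ₗ[R] N) (hi : Function.Surjective φ) (h0 : φ = 0) : Subsingleton N :=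
  ⟨fun a b => by obtain ⟨x, rfl⟩ := hi a; obtain ⟨y, rfl⟩ := hi b; rw [h0]; rfl⟩

/-- A finite module with all completions at maximal ideals zero is zero. -/
theorem subsingleton_of_completion {A : Type u} [CommRing A] (N : Type u) [AddCommGroup N] [Module A N]
    [Module.Finite A N] (h : ∀ m : Ideal A, m.IsMaximal → Subsingleton (AdicCompletion m N)) : Subsingleton N := by
  rw [← Module.annihilator_eq_top_iff (R := A)]
  by_contra hne
  obtain ⟨m, hm, hle⟩ := Ideal.exists_le_maximal _ hne
  haveI := h m hm
  have htop : (⊤ : Submodule A N) ≤ m • ⊤ := fun x _ => by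
    have h1 : AdicCompletion.of m N x = 0 := Subsingleton.elim _ _
    have h2 := congrArg (fun z : AdicCompletion m N => z.val 1) h1
    simp only [AdicCompletion.of_apply, AdicCompletion.val_zero_apply, Submodule.mkQ_apply,
      Submodule.Quotient.mk_eq_zero, pow_one] at h2
    exact h2
  obtain ⟨r, hr, hr0⟩ := Submodule.exists_sub_one_mem_and_smul_eq_zero_of_fg_of_le_smul m ⊤ Module.Finite.fg_top htop
  have hrm : r ∈ m := hle (Module.mem_annihilator.2 fun x => hr0 x trivial)
  refine hm.ne_top ((Ideal.eq_top_iff_one _).2 ?_)
  simpa using m.sub_mem hrm hr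

/-- Let A be a Noetherian commutative ring and f : M' → M, g : M → M'' linear maps between finitely
generated A-modules. Then the sequence 0 → M' → M → M'' → 0 is exact — f injective, the image of f
equal to the kernel of g, g surjective — if and only if for every maximal ideal m of A the sequence
of m-adic completions 0 → M'^ → M^ → M''^ → 0 (maps induced by f and g) is exact in the same sense. -/
theorem result (A : Type u) [CommRing A] [IsNoetherianRing A]
    (M' M M'' : Type u) [AddCommGroup M'] [Module A M'] [AddCommGroup M] [Module A M] [AddCommGroup M''] [Module A M'']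
    [Module.Finite A M'] [Module.Finite A M] [Module.Finite A M''] (f : M' →ₗ[A] M) (g : M →ₗ[A] M'') :
    (Function.Injective f ∧ Function.Exact f g ∧ Function.Surjective g) ↔
      ∀ (m : Ideal A) [m.IsMaximal],
        Function.Injective (AdicCompletion.map m f) ∧ Function.Exact (AdicCompletion.map m f) (AdicCompletion.map m g) ∧
          Function.Surjective (AdicCompletion.map m g) := by
  constructor
  · rintro ⟨hf, hfg, hg⟩ m _
    exact ⟨AdicCompletion.map_injective m hf, AdicCompletion.map_exact hf hfg hg, AdicCompletion.map_surjective m hg⟩
  intro h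
  have hf : Function.Injective f := by
    rw [← LinearMap.ker_eq_bot, ← Submodule.subsingleton_iff_eq_bot]
    refine subsingleton_of_completion (A := A) (LinearMap.ker f) fun m hm => ?_
    haveI := hm
    refine subsingleton_of_injective_of_zero ((AdicCompletion.map m f).comp (AdicCompletion.map m (LinearMap.ker f).subtype))
      ((h m).1.comp (AdicCompletion.map_injective m Subtype.val_injective)) ?_
    rw [AdicCompletion.map_comp, LinearMap.comp_ker_subtype, AdicCompletion.map_zero]
  have hg : Function.Surjective g := by
    rw [← LinearMap.range_eq_top, ← Submodule.Quotient.subsingleton_iff]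
    refine subsingleton_of_completion (A := A) (M'' ⧸ LinearMap.range g) fun m hm => ?_
    haveI := hm
    refine subsingleton_of_surjective_of_zero ((AdicCompletion.map m (LinearMap.range g).mkQ).comp (AdicCompletion.map m g))
      ((AdicCompletion.map_surjective m (Submodule.mkQ_surjective _)).comp (h m).2.2) ?_
    rw [AdicCompletion.map_comp, LinearMap.range_mkQ_comp, AdicCompletion.map_zero]
  have hgf : g.comp f = 0 := by
    rw [← LinearMap.range_eq_bot, ← Submodule.subsingleton_iff_eq_bot]
    refine subsingleton_of_completion (A := A) (LinearMap.range (g.comp f)) fun m hm => ?_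
    haveI := hm
    refine subsingleton_of_injective_of_zero (AdicCompletion.map m (LinearMap.range (g.comp f)).subtype)
      (AdicCompletion.map_injective m Subtype.val_injective) ?_
    refine LinearMap.ext fun y => ?_
    obtain ⟨x, rfl⟩ := AdicCompletion.map_surjective m (LinearMap.surjective_rangeRestrict (g.comp f)) y
    rw [LinearMap.zero_apply, AdicCompletion.map_comp_apply, LinearMap.rangeRestrict, LinearMap.subtype_comp_codRestrict,
      ← AdicCompletion.map_comp_apply]
    exact (h m).2.1.apply_apply_eq_zero x
  let f' : M' →ₗ[A] LinearMap.ker g := f.codRestrict (LinearMap.ker g) (fun x => LinearMap.congr_fun hgf x)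
  have hf' : Function.Surjective f' := by
    rw [← LinearMap.range_eq_top, ← Submodule.Quotient.subsingleton_iff]
    refine subsingleton_of_completion (A := A) _ fun m hm => ?_
    haveI := hm
    refine subsingleton_of_surjective_of_zero (AdicCompletion.map m (LinearMap.range f').mkQ)
      (AdicCompletion.map_surjective m (Submodule.mkQ_surjective _)) ?_
    refine LinearMap.ext fun k => ?_
    have hk : AdicCompletion.map m g (AdicCompletion.map m (LinearMap.ker g).subtype k) = 0 := by
      rw [AdicCompletion.map_comp_apply, LinearMap.comp_ker_subtype, AdicCompletion.map_zero, LinearMap.zero_apply]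
    obtain ⟨x, hx⟩ := ((h m).2.1 _).1 hk
    have hkx : AdicCompletion.map m f' x = k := by
      apply AdicCompletion.map_injective m (f := (LinearMap.ker g).subtype) Subtype.val_injective
      rw [AdicCompletion.map_comp_apply, LinearMap.subtype_comp_codRestrict]
      exact hx
    rw [← hkx, AdicCompletion.map_comp_apply, LinearMap.range_mkQ_comp, AdicCompletion.map_zero]
    rfl
  refine ⟨hf, fun y => ⟨fun hy => ?_, ?_⟩, hg⟩
  · obtain ⟨x, hx⟩ := hf' ⟨y, hy⟩
    exact ⟨x, congrArg Subtype.val hx⟩
  · rintro ⟨x, rfl⟩
    exact LinearMap.congr_fun hgf x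

end Groth.Agent.S14680
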