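import Groth.Statements.S14683
import Groth.Agent.Misc8.SekSuwaRing
import Mathlib.FieldTheory.IsAlgClosed.AlgebraicClosure
import Mathlib.RingTheory.RootsOfUnity.AlgebraicallyClosed
import Mathlib.GroupTheory.SpecificGroups.Cyclic
import Mathlib.LinearAlgebra.TensorProduct.Basis
-- import your own Groth.Agent.* helpers here

set_option autoImplicit false
universe u
open CategoryTheory AlgebraicGeometry MonoidalCategory CartesianMonoidalCategory MonObj GrpObj
open SekSuwa

namespace Groth.Agent.S14683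

section Helpers

open TensorProduct

variable (R : Type u) [CommRing R]

noncomputable abbrev SpecO (B : Type u) [CommRing B] [Algebra R B] : Over (Spec (CommRingCat.of R)) :=
  (Spec (CommRingCat.of B)).asOver (Spec (CommRingCat.of R))

variable {R} in
/-- The morphism over `Spec R` of an algebra map. -/
noncomputable def mkO {A B : Type u} [CommRing A] [CommRing B] [Algebra R A] [Algebra R B]
    (f : A →ₐ[R] B) : SpecO R B ⟶ SpecO R A :=
  Over.homMk (Spec.map (CommRingCat.ofHom f.toRingHom)) (by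
    show Spec.map _ ≫ Spec.map _ = Spec.map _
    rw [← Spec.map_comp, ← CommRingCat.ofHom_comp]
    exact congrArg (fun g => Spec.map (CommRingCat.ofHom g)) (RingHom.ext f.commutes))

variable {R}

theorem mkO_comp {A B C : Type u} [CommRing A] [CommRing B] [CommRing C] [Algebra R A] [Algebra R B]
    [Algebra R C] (f : A →ₐ[R] B) (g : B →ₐ[R] C) : mkO g ≫ mkO f = mkO (g.comp f) := by
  apply Over.OverMorphism.ext
  show Spec.map _ ≫ Spec.map _ = Spec.map _
  rw [← Spec.map_comp, ← CommRingCat.ofHom_comp]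
  rfl

/-- Points of affine schemes over `Spec R` are algebra maps. -/
noncomputable def mkEquiv (A B : Type u) [CommRing A] [CommRing B] [Algebra R A] [Algebra R B] :
    (A →ₐ[R] B) ≃ (SpecO R B ⟶ SpecO R A) :=
  Equiv.ofBijective mkO ⟨fun f g h => by
      have h1 := congrArg (fun m : SpecO R B ⟶ SpecO R A => m.left) h
      exact AlgHom.ext fun a =>
        RingHom.congr_fun (congrArg CommRingCat.Hom.hom (Spec.map_injective h1)) a,
    fun m => by
      obtain ⟨φ, hφ⟩ : ∃ φ : CommRingCat.of A ⟶ CommRingCat.of B, Spec.map φ = m.left :=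
        ⟨Spec.preimage m.left, Spec.map_preimage m.left⟩
      have hw : Spec.map φ ≫ Spec.map (CommRingCat.ofHom (algebraMap R A)) =
          Spec.map (CommRingCat.ofHom (algebraMap R B)) := by
        rw [hφ]; exact Over.w m
      rw [← Spec.map_comp] at hw
      have hw' := Spec.map_injective hw
      refine ⟨{ φ.hom with commutes' := fun r => RingHom.congr_fun (congrArg CommRingCat.Hom.hom hw') r },
        Over.OverMorphism.ext ?_⟩
      exact hφ⟩

variable (R) in
theorem isIso_lift (A B : Type u) [CommRing A] [CommRing B] [Algebra R A] [Algebra R B] :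
    IsIso (lift (mkO (Algebra.TensorProduct.includeLeft : A →ₐ[R] A ⊗[R] B))
      (mkO (Algebra.TensorProduct.includeRight : B →ₐ[R] A ⊗[R] B))) := by
  set l := lift (mkO (Algebra.TensorProduct.includeLeft : A →ₐ[R] A ⊗[R] B))
      (mkO (Algebra.TensorProduct.includeRight : B →ₐ[R] A ⊗[R] B)) with hl
  have h : l.left = (pullbackSpecIso R A B).inv := by
    refine Limits.pullback.hom_ext ?_ ?_
    · rw [hl]
      exact (congrArg (fun m : SpecO R (A ⊗[R] B) ⟶ SpecO R A => m.left) (lift_fst _ _)).trans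
        (pullbackSpecIso_inv_fst R A B).symm
    · rw [hl]
      exact (congrArg (fun m : SpecO R (A ⊗[R] B) ⟶ SpecO R B => m.left) (lift_snd _ _)).trans
        (pullbackSpecIso_inv_snd R A B).symm
  haveI : IsIso ((Over.forget (Spec (CommRingCat.of R))).map l) := by
    show IsIso l.left
    rw [h]; infer_instance
  exact isIso_of_reflects_iso l (Over.forget _)

/-- Actions by automorphisms of a group of order `p` on another one are trivial. -/
theorem act_trivial {G H : Type*} [Group G] [Group H] (p : ℕ) [hp : Fact p.Prime]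
    (hG : Nat.card G = p) (hH : Nat.card H = p) (ρ : G →* MulAut H) (g : G) (x : H) : ρ g x = x := by
  haveI : IsCyclic H := isCyclic_of_prime_card hH
  haveI : NeZero (Nat.card H) := ⟨by rw [hH]; exact hp.out.ne_zero⟩
  haveI : Finite H := Nat.finite_of_card_ne_zero (NeZero.ne _)
  have h1 : orderOf (ρ g) ∣ p :=
    (orderOf_map_dvd ρ g).trans (hG ▸ orderOf_dvd_natCard g)
  have h2 : orderOf (ρ g) ∣ p - 1 := by
    have := orderOf_dvd_natCard (ρ g)
    rwa [Nat.card_congr (IsCyclic.mulAutMulEquiv H).toEquiv, hH, Nat.card_eq_fintype_card,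
      ZMod.card_units] at this
  have h3 : Nat.gcd p (p - 1) = 1 := by
    have : 0 < p := hp.out.pos
    exact (Nat.coprime_self_sub_right this).mpr (Nat.coprime_one_right p)
  have h4 : ρ g = 1 := orderOf_eq_one_iff.mp (Nat.dvd_one.mp (h3 ▸ Nat.dvd_gcd h1 h2))
  rw [h4]; rfl

section Points

open Polynomial

variable [IsDomain R] [CharZero R] {lam : R} {p : ℕ} [Fact p.Prime] (h : SekSuwa.DivCond lam p)
  (Kc : Type u) [Field Kc] [IsAlgClosed Kc] [Algebra R Kc] [FaithfulSMul R Kc] [CharZero Kc]

theorem lam_ne (h : SekSuwa.DivCond lam p) : algebraMap R Kc lam ≠ 0 := fun h0 => by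
  rw [map_eq_zero_iff _ (FaithfulSMul.algebraMap_injective R Kc)] at h0
  exact nonZeroDivisors.ne_zero h.nzd h0

/-- Roots of `P` are the `(ζ - 1)/λ`. -/
noncomputable def rootsEquiv : {b : Kc // Polynomial.aeval b (SekSuwa.psiPoly lam p h) = 0} ≃
    rootsOfUnity p Kc where
  toFun b := rootsOfUnity.mkOfPowEq (1 + lam • b.1) (by
    have := SekSuwa.aeval_psiPoly h b.1
    rw [b.2, mul_zero] at this
    rw [Algebra.smul_def]
    exact sub_eq_zero.mp this.symm)
  invFun z := ⟨(((z : Kcˣ) : Kc) - 1) / algebraMap R Kc lam, by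
    have := SekSuwa.aeval_psiPoly h ((((z : Kcˣ) : Kc) - 1) / algebraMap R Kc lam)
    have hz : ((z : Kcˣ) : Kc) ^ p = 1 := by
      have := (mem_rootsOfUnity' p (z : Kcˣ)).mp z.2
      exact this
    rw [mul_div_cancel₀ _ (lam_ne Kc h), add_sub_cancel, hz, sub_self] at this
    rw [map_pow] at this
    exact (mul_eq_zero.mp this).resolve_left (pow_ne_zero _ (lam_ne Kc h))⟩
  left_inv b := by
    apply Subtype.ext
    simp [Algebra.smul_def, lam_ne Kc h]
  right_inv z := by
    apply Subtype.ext
    apply Units.ext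
    simp [Algebra.smul_def, mul_div_cancel₀ _ (lam_ne Kc h)]

noncomputable def pointsEquiv : (SekSuwa.AK R lam p h →ₐ[R] Kc) ≃
    {b : Kc // Polynomial.aeval b (SekSuwa.psiPoly lam p h) = 0} :=
  ((Groth.Misc8.SekSuwaRing.equiv (Fact.out : p.Prime).pos h).arrowCongr AlgEquiv.refl).symm.trans
    { toFun := fun φ => ⟨φ (AdjoinRoot.root _), by
        rw [Polynomial.aeval_algHom_apply, AdjoinRoot.aeval_eq, AdjoinRoot.mk_self, map_zero]⟩
      invFun := fun b => AdjoinRoot.liftAlgHom _ (Algebra.ofId R Kc) b.1 b.2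
      left_inv := fun φ => AdjoinRoot.algHom_ext (by simp)
      right_inv := fun b => Subtype.ext (by simp) }

theorem pointsEquiv_apply (φ : SekSuwa.AK R lam p h →ₐ[R] Kc) :
    (pointsEquiv h Kc φ).1 = φ SekSuwa.AK.t := by
  show φ (Groth.Misc8.SekSuwaRing.equiv (Fact.out : p.Prime).pos h (AdjoinRoot.root _)) = _
  exact congrArg φ (Groth.Misc8.SekSuwaRing.toAK_root h)

theorem card_points : Nat.card (SekSuwa.AK R lam p h →ₐ[R] Kc) = p := by
  haveI : NeZero (p : Kc) := ⟨Nat.cast_ne_zero.mpr (Fact.out : p.Prime).ne_zero⟩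
  haveI : NeZero p := ⟨(Fact.out : p.Prime).ne_zero⟩
  rw [Nat.card_congr ((pointsEquiv h Kc).trans (rootsEquiv h Kc))]
  exact HasEnoughRootsOfUnity.natCard_rootsOfUnity Kc p

theorem basis_apply (i : Fin p) :
    Groth.Misc8.SekSuwaRing.basis (Fact.out : p.Prime).pos h i = SekSuwa.AK.t ^ (i : ℕ) := by
  rw [Groth.Misc8.SekSuwaRing.basis, Module.Basis.reindex_apply, Module.Basis.map_apply,
    PowerBasis.basis_eq_pow, AdjoinRoot.powerBasis'_gen, AlgEquiv.toLinearEquiv_apply, map_pow]
  exact congrArg₂ (· ^ ·) (Groth.Misc8.SekSuwaRing.toAK_root h) (by simp)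

/-- The functions `t ^ i` on the points are linearly independent. -/
theorem linIndep_points (r : Fin p → Kc)
    (hr : ∀ φ : SekSuwa.AK R lam p h →ₐ[R] Kc, ∑ i, r i * φ (SekSuwa.AK.t ^ (i : ℕ)) = 0) :
    r = 0 := by
  classical
  have hp0 := (Fact.out : p.Prime).pos
  haveI : Finite (SekSuwa.AK R lam p h →ₐ[R] Kc) :=
    Nat.finite_of_card_ne_zero (by rw [card_points h Kc]; omega)
  haveI := Fintype.ofFinite (SekSuwa.AK R lam p h →ₐ[R] Kc)
  let q : Kc[X] := ∑ i : Fin p, Polynomial.C (r i) * Polynomial.X ^ (i : ℕ)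
  have hq : q = 0 := by
    refine Polynomial.eq_zero_of_natDegree_lt_card_of_eval_eq_zero q
      (f := fun φ : SekSuwa.AK R lam p h →ₐ[R] Kc => φ SekSuwa.AK.t)
      (fun φ ψ hφψ => (pointsEquiv h Kc).injective (Subtype.ext ?_)) (fun φ => ?_) ?_
    · rw [pointsEquiv_apply, pointsEquiv_apply]; exact hφψ
    · simpa [q, Polynomial.eval_finsetSum, map_pow] using hr φ
    · rw [← Nat.card_eq_fintype_card, card_points h Kc]
      refine lt_of_le_of_lt (Polynomial.natDegree_sum_le_of_forall_le _ _ (n := p - 1) fun i _ => ?_)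
        (by omega)
      exact (Polynomial.natDegree_C_mul_X_pow_le _ _).trans (by omega)
  funext i
  have := congrArg (fun f : Kc[X] => f.coeff (i : ℕ)) hq
  simpa [q, Polynomial.finsetSum_coeff, Polynomial.coeff_C_mul, Polynomial.coeff_X_pow,
    Fin.val_inj] using this

end Points

theorem separate [IsDomain R] [CharZero R] {lam mu : R} {p : ℕ} [Fact p.Prime]
    (h₁ : SekSuwa.DivCond lam p) (h₂ : SekSuwa.DivCond mu p)
    (Kc : Type u) [Field Kc] [IsAlgClosed Kc] [Algebra R Kc] [FaithfulSMul R Kc] [CharZero Kc]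
    (z : SekSuwa.AK R mu p h₂ ⊗[R] SekSuwa.AK R lam p h₁)
    (hz : ∀ φ : SekSuwa.AK R mu p h₂ ⊗[R] SekSuwa.AK R lam p h₁ →ₐ[R] Kc, φ z = 0) : z = 0 := by
  have hp0 := (Fact.out : p.Prime).pos
  let bm := Groth.Misc8.SekSuwaRing.basis hp0 h₂
  let bl := Groth.Misc8.SekSuwaRing.basis hp0 h₁
  let B := bm.tensorProduct bl
  let r : Fin p × Fin p → R := fun ij => B.repr z ij
  have hsum : z = ∑ ij, r ij • B ij := (B.sum_repr z).symm
  have key : ∀ (φ : SekSuwa.AK R mu p h₂ →ₐ[R] Kc) (ψ : SekSuwa.AK R lam p h₁ →ₐ[R] Kc),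
      ∑ i, (∑ j, algebraMap R Kc (r (i, j)) * ψ (SekSuwa.AK.t ^ (j : ℕ))) *
        φ (SekSuwa.AK.t ^ (i : ℕ)) = 0 := by
    intro φ ψ
    have := hz (Algebra.TensorProduct.lift φ ψ fun _ _ => Commute.all _ _)
    rw [hsum, map_sum] at this
    rw [← this, Fintype.sum_prod_type]
    refine Finset.sum_congr rfl fun i _ => ?_
    rw [Finset.sum_mul]
    refine Finset.sum_congr rfl fun j _ => ?_
    rw [map_smul, Module.Basis.tensorProduct_apply, Algebra.TensorProduct.lift_tmul,
      basis_apply h₂, basis_apply h₁, Algebra.smul_def]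
    ring
  have hr : r = 0 := by
    funext ij
    obtain ⟨i, j⟩ := ij
    have := congrFun (linIndep_points h₁ Kc (fun j => algebraMap R Kc (r (i, j))) fun ψ =>
      congrFun (linIndep_points h₂ Kc _ fun φ => key φ ψ) i) j
    exact (map_eq_zero_iff _ (FaithfulSMul.algebraMap_injective R Kc)).mp this
  rw [hsum, hr]
  simp

end Helpers

/-- Let R be a discrete valuation ring of characteristic zero and residue characteristic p, and let λ, μ
∈ R satisfy the divisibility condition under which the finite R-group schemes G_{λ,1} and G_{μ,1}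
(the kernels of the isogenies ψ of the one-parameter groups with law s + t + λst, resp. μ) are
defined. Then every action of G_{μ,1} on G_{λ,1} by group automorphisms is trivial: for every
R-scheme T and all T-valued points g of G_{μ,1} and x of G_{λ,1}, g · x = x. An action by group
automorphisms is an action of the group scheme G_{μ,1} on the scheme G_{λ,1} whose action map is
multiplicative in the second variable on points. (The published statement is made under standing
assumptions that R contains a primitive p²-th root of unity and that λ, μ have positive valuation;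
this row drops both, which the argument does not use.) -/
theorem result (R : Type u) [CommRing R] [IsDomain R] [IsDiscreteValuationRing R] [CharZero R]
    (p : ℕ) [Fact p.Prime] [CharP (IsLocalRing.ResidueField R) p]
    (lam mu : R) (h₁ : SekSuwa.DivCond lam p) (h₂ : SekSuwa.DivCond mu p)
    (a : AlgGrp.Action (SekSuwa.GK R mu p h₂) (SekSuwa.GK R lam p h₁))
    (hmul : ∀ (T : Over (Spec (CommRingCat.of R))) (g : T ⟶ SekSuwa.GK R mu p h₂)
      (x y : T ⟶ SekSuwa.GK R lam p h₁), lift g (x * y) ≫ a.act = (lift g x ≫ a.act) * (lift g y ≫ a.act))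
    (T : Over (Spec (CommRingCat.of R))) (g : T ⟶ SekSuwa.GK R mu p h₂) (x : T ⟶ SekSuwa.GK R lam p h₁) :
    lift g x ≫ a.act = x := by
  let Kc := AlgebraicClosure (FractionRing R)
  haveI : FaithfulSMul R Kc := (faithfulSMul_iff_algebraMap_injective R Kc).mpr (by
    rw [IsScalarTower.algebraMap_eq R (FractionRing R) Kc]
    exact (algebraMap (FractionRing R) Kc).injective.comp
      (IsFractionRing.injective R (FractionRing R)))
  haveI : CharZero Kc := charZero_of_injective_algebraMap (FaithfulSMul.algebraMap_injective R Kc)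
  let M := SekSuwa.GK R mu p h₂
  let L := SekSuwa.GK R lam p h₁
  let T₀ := SpecO R Kc
  have hcM : Nat.card (T₀ ⟶ M) = p := by
    rw [← Nat.card_congr (mkEquiv (R := R) (SekSuwa.AK R mu p h₂) Kc)]
    exact card_points h₂ Kc
  have hcL : Nat.card (T₀ ⟶ L) = p := by
    rw [← Nat.card_congr (mkEquiv (R := R) (SekSuwa.AK R lam p h₁) Kc)]
    exact card_points h₁ Kc
  have hone : ∀ (y : T₀ ⟶ L), lift (1 : T₀ ⟶ M) y ≫ a.act = y := by
    intro y
    have : lift (1 : T₀ ⟶ M) y = lift (toUnit T₀) y ≫ (η[M] ▷ L) := by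
      rw [lift_whiskerRight]; rfl
    rw [this, Category.assoc, a.one_act, leftUnitor_hom, lift_snd]
  have hmulact : ∀ (g g' : T₀ ⟶ M) (y : T₀ ⟶ L),
      lift (g * g') y ≫ a.act = lift g (lift g' y ≫ a.act) ≫ a.act := by
    intro g g' y
    have : lift (g * g') y = lift (lift g g') y ≫ (μ[M] ▷ L) := by
      rw [lift_whiskerRight]; rfl
    rw [this, Category.assoc, a.mul_act, lift_lift_associator_hom_assoc,
      lift_whiskerLeft_assoc]
  let σ : (T₀ ⟶ M) → MulAut (T₀ ⟶ L) := fun g =>
    { toFun := fun y => lift g y ≫ a.act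
      invFun := fun y => lift g⁻¹ y ≫ a.act
      left_inv := fun y => by simp only; rw [← hmulact, inv_mul_cancel, hone]
      right_inv := fun y => by simp only; rw [← hmulact, mul_inv_cancel, hone]
      map_mul' := fun y y' => hmul T₀ g y y' }
  let ρ : (T₀ ⟶ M) →* MulAut (T₀ ⟶ L) :=
    MonoidHom.mk' σ fun g g' => MulEquiv.ext fun y => hmulact g g' y
  let l := lift (mkO (Algebra.TensorProduct.includeLeft :
        SekSuwa.AK R mu p h₂ →ₐ[R] TensorProduct R (SekSuwa.AK R mu p h₂) (SekSuwa.AK R lam p h₁)))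
      (mkO (Algebra.TensorProduct.includeRight :
        SekSuwa.AK R lam p h₁ →ₐ[R] TensorProduct R (SekSuwa.AK R mu p h₂) (SekSuwa.AK R lam p h₁)))
  haveI : IsIso l := isIso_lift R _ _
  have main : a.act = snd M L := by
    rw [← cancel_epi l]
    obtain ⟨e, he⟩ := (mkEquiv (R := R) _ _).surjective (l ≫ a.act)
    obtain ⟨e', he'⟩ := (mkEquiv (R := R) _ _).surjective (l ≫ snd M L)
    rw [← he, ← he']
    congr 1
    refine AlgHom.ext fun z => sub_eq_zero.mp (separate h₁ h₂ Kc _ fun φ => ?_)
    rw [map_sub, sub_eq_zero]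
    have : φ.comp e = φ.comp e' := by
      refine (mkEquiv (R := R) _ _).injective ?_
      show mkO (φ.comp e) = mkO (φ.comp e')
      rw [← mkO_comp, ← mkO_comp]
      show mkO φ ≫ mkEquiv _ _ e = mkO φ ≫ mkEquiv _ _ e'
      rw [he, he', ← Category.assoc, ← Category.assoc]
      show (mkO φ ≫ l) ≫ a.act = (mkO φ ≫ l) ≫ snd M L
      rw [comp_lift, lift_snd]
      exact act_trivial p hcM hcL ρ _ _
    exact AlgHom.congr_fun this z
  rw [main, lift_snd]

end Groth.Agent.S14683
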