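import Groth.Statements.S14684
import Groth.Agent.S6005
import Groth.Agent.GaDual.AlphaPts
import Groth.Agent.AlgGrp2.AffinePts
import Mathlib.LinearAlgebra.TensorProduct.Quotient

set_option autoImplicit false
set_option backward.isDefEq.respectTransparency false
set_option backward.defeqAttrib.useBackward true
set_option linter.style.haveILetI false
universe u
open CategoryTheory AlgebraicGeometry
open SekSuwa

namespace Groth.Agent.S14684

open CategoryTheory.Limits MonoidalCategory CartesianMonoidalCategory MonObj GrpObj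
open Groth.Pi1Tors Groth.GaDual.AlphaPts
open scoped TensorProduct

attribute [local instance] Groth.GaDual.AlphaPts.algT

noncomputable section

theorem isLocallyTrivial_zariski_openImmersion {S : Scheme.{u}} {X : Over S} (hX : NonAbH1.IsLocallyTrivialFor Scheme.fpqcPrecoverage X)
    (H : ∀ (A B : Type u) [CommRing A] [CommRing B] [Algebra A B] [Module.FaithfullyFlat A B]
      (j : Spec (CommRingCat.of A) ⟶ S) (_ : IsOpenImmersion j) (_ : specObj j B ⟶ X) (x : Spec (CommRingCat.of A)),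
      ∃ V : (Spec (CommRingCat.of A)).Opens, x ∈ V ∧ NonAbH1.HasSectionOver X (V.ι ≫ j)) :
    NonAbH1.IsLocallyTrivialFor Scheme.zariskiPrecoverage X := by
  obtain ⟨R, hR, hsec⟩ := hX
  obtain ⟨I, Y, g, rfl⟩ := R.exists_eq_ofArrows
  let 𝒰 : Scheme.Cover Scheme.fpqcPrecoverage S := { I₀ := I, X := Y, f := g, mem₀ := hR }
  choose σ hσ using fun i => hsec (g i) (Presieve.ofArrows.mk i)
  have key : ∀ z : S, ∃ (T : Scheme.{u}) (f : T ⟶ S), IsOpenImmersion f ∧ z ∈ Set.range f ∧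
      NonAbH1.HasSectionOver X f := by
    intro z
    obtain ⟨U, hU, hzU, -⟩ := exists_isAffineOpen_mem_and_subset (X := S) (x := z) (U := ⊤) trivial
    let j : Spec (CommRingCat.of Γ(S, U)) ⟶ S := hU.fromSpec
    obtain ⟨m, _, W, hW, c, t, ht, hπ⟩ := Groth.DescentBase.exists_affine_refinement (𝒰.pullback₁ j)
    haveI : ∀ i, IsAffine (W i) := hW
    let π₀ : (∐ W) ⟶ Spec (CommRingCat.of Γ(S, U)) := Sigma.desc fun i => t i ≫ pullback.fst j (g (c i))
    obtain ⟨⟨hsurj, hflat⟩, -⟩ : (Surjective π₀ ∧ Flat π₀) ∧ QuasiCompact π₀ := hπ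
    obtain ⟨φ, hφ⟩ := Spec.map_surjective ((∐ W).isoSpec.inv ≫ π₀)
    let B : Type u := Γ(∐ W, ⊤)
    letI : Algebra Γ(S, U) B := φ.hom.toAlgebra
    have hmap : Spec.map (CommRingCat.ofHom (algebraMap Γ(S, U) B)) = (∐ W).isoSpec.inv ≫ π₀ := hφ
    haveI : Flat ((∐ W).isoSpec.inv ≫ π₀) := inferInstance
    haveI : Surjective ((∐ W).isoSpec.inv ≫ π₀) := inferInstance
    haveI : Module.Flat Γ(S, U) B :=
      RingHom.flat_algebraMap_iff.1 (Flat.SpecMap_iff.1 (hmap ▸ inferInstance :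
        Flat (Spec.map (CommRingCat.ofHom (algebraMap Γ(S, U) B)))))
    haveI : Module.FaithfullyFlat Γ(S, U) B := by
      refine Module.FaithfullyFlat.of_comap_surjective fun q => ?_
      obtain ⟨w, hw⟩ := ((∐ W).isoSpec.inv ≫ π₀).surjective q
      refine ⟨w, ?_⟩
      rw [← hmap] at hw
      exact hw
    let s₀ : (∐ W) ⟶ X.left := Sigma.desc fun i => t i ≫ pullback.snd j (g (c i)) ≫ σ (c i)
    have hs₀ : s₀ ≫ X.hom = π₀ ≫ j := Sigma.hom_ext _ _ fun i => by
      simp [s₀, π₀, hσ, pullback.condition]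
    let s : specObj j B ⟶ X := Over.homMk ((∐ W).isoSpec.inv ≫ s₀) (by
      change ((∐ W).isoSpec.inv ≫ s₀) ≫ X.hom = Spec.map _ ≫ j
      rw [Category.assoc, hs₀, hmap, Category.assoc])
    obtain ⟨x, hx⟩ : z ∈ Set.range hU.fromSpec := by rw [hU.range_fromSpec]; exact hzU
    obtain ⟨V, hxV, hV⟩ := H Γ(S, U) B j inferInstance s x
    exact ⟨V, V.ι ≫ j, inferInstance, ⟨⟨x, hxV⟩, (Scheme.Hom.comp_apply _ _ _).trans hx⟩, hV⟩
  choose T f hf hmem hs using key
  refine ⟨Presieve.ofArrows T f, ?_, ?_⟩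
  · rw [Scheme.ofArrows_mem_precoverage_iff]
    exact ⟨fun z => ⟨z, hmem z⟩, hf⟩
  · rintro S' f' ⟨z⟩
    exact hs z


theorem inv_mul_mul_eq {S : Scheme.{u}} {G T : Over S} [GrpObj G] (a b : T ⟶ G) : (a * b)⁻¹ * a = b⁻¹ := by
  group

section Pts

variable {R : Type u} [CommRing R] {lam : R} {X : Scheme.{u}} {f : X ⟶ Spec (CommRingCat.of R)}
  {T T' : Over X}

/-- The constant `lam` on an `X`-scheme. -/
def cl (lam : R) (f : X ⟶ Spec (CommRingCat.of R)) (T : Over X) : Γ(T.left, ⊤) :=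
  cr ((Over.map f).obj T) lam

/-- The coordinate of a point of `G^(λ)`. -/
def co (w : T ⟶ Red.bc f (SekSuwa.G R lam)) : Γ(T.left, ⊤) :=
  valAlg (AlgGrp2.bcPt f w) (SekSuwa.A.t (R := R) (lam := lam))

theorem co_comp (h : T' ⟶ T) (w : T ⟶ Red.bc f (SekSuwa.G R lam)) :
    co (h ≫ w) = h.left.appTop (co w) := by
  rw [co, AlgGrp2.bcPt_comp]
  rfl

theorem isUnit_co (w : T ⟶ Red.bc f (SekSuwa.G R lam)) : IsUnit (1 + cl lam f T * co w) := by
  have h := congrArg (valAlg (AlgGrp2.bcPt f w)) (SekSuwa.A.u_mul_inv (R := R) (lam := lam))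
  rw [map_mul, map_one, SekSuwa.A.u_def, map_add, map_one, map_mul, AlgHom.commutes] at h
  exact IsUnit.of_mul_eq_one _ h

theorem co_mul (v w : T ⟶ Red.bc f (SekSuwa.G R lam)) :
    co (v * w) = co v + co w + cl lam f T * (co v * co w) := by
  have h : ∀ (U : Over (Spec (CommRingCat.of R))) (x y : U ⟶ SekSuwa.G R lam),
      valAlg (x * y) = (WithConv.toConv (valAlg x) * WithConv.toConv (valAlg y)).ofConv := by
    intro U x y
    conv_lhs => rw [← toSpecAlg_valAlg x, ← toSpecAlg_valAlg y]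
    rw [show toSpecAlg (valAlg x) = toSp U ≫ Spec.mapMulEquiv (WithConv.toConv (valAlg x)) from rfl,
      show toSpecAlg (valAlg y) = toSp U ≫ Spec.mapMulEquiv (WithConv.toConv (valAlg y)) from rfl,
      ← MonObj.comp_mul, ← map_mul]
    exact valAlg_toSpecAlg (WithConv.toConv (valAlg x) * WithConv.toConv (valAlg y)).ofConv
  rw [co, AlgGrp2.bcPt_mul, h, AlgHom.convMul_def]
  simp [co, SekSuwa.A.comul_t, Algebra.smul_def]
  erw [AlgHom.commutes]
  exact _root_.mul_assoc _ _ _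

theorem co_injective : Function.Injective (co (R := R) (lam := lam) (f := f) (T := T)) := by
  intro v w h
  apply AlgGrp2.bcPt_injective f
  rw [← toSpecAlg_valAlg (AlgGrp2.bcPt f v), ← toSpecAlg_valAlg (AlgGrp2.bcPt f w)]
  congr 1
  refine SekSuwa.A.algHom_ext h ?_
  have hv := congrArg (valAlg (AlgGrp2.bcPt f v)) (SekSuwa.A.u_mul_inv (R := R) (lam := lam))
  have hw := congrArg (valAlg (AlgGrp2.bcPt f w)) (SekSuwa.A.u_mul_inv (R := R) (lam := lam))
  rw [map_mul, map_one, SekSuwa.A.u_def, map_add, map_one, map_mul, AlgHom.commutes] at hv hw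
  change valAlg (AlgGrp2.bcPt f v) _ = valAlg (AlgGrp2.bcPt f w) _ at h
  rw [← h] at hw
  exact left_inv_eq_right_inv (by rw [mul_comm]; exact hv) hw

theorem exists_co_eq (T : Over X) (b : Γ(T.left, ⊤)) (hb : IsUnit (1 + cl lam f T * b)) :
    ∃ w : T ⟶ Red.bc f (SekSuwa.G R lam), co w = b := by
  obtain ⟨d, hd⟩ := hb.exists_right_inv
  refine ⟨AlgGrp2.bcPtInv f (toSpecAlg (T := (Over.map f).obj T) (SekSuwa.A.lift R lam b d
    (by rw [Algebra.smul_def]; exact hd))), ?_⟩
  rw [co, AlgGrp2.bcPt_bcPtInv, valAlg_toSpecAlg, SekSuwa.A.lift_t]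

end Pts

/-- An element equalised modulo `l` comes from the base modulo `l`. -/
theorem exists_mod_eq {A B : Type u} [CommRing A] [CommRing B] [Algebra A B] [Module.FaithfullyFlat A B]
    (l : A) (m : B) (z : B ⊗[A] B) (h : m ⊗ₜ[A] (1 : B) - 1 ⊗ₜ m = algebraMap A (B ⊗[A] B) l * z) :
    ∃ (a : A) (n : B), m = algebraMap A B a + algebraMap A B l * n := by
  let I : Ideal A := Ideal.span {l}
  let i : B →ₐ[A] ((A ⧸ I) ⊗[A] B) := Algebra.TensorProduct.includeRight
  let Φ : B ⊗[A] B →ₐ[A] ((A ⧸ I) ⊗[A] B) ⊗[(A ⧸ I)] ((A ⧸ I) ⊗[A] B) := Algebra.TensorProduct.productMap (R := A) (A := B) (B := B) (S := ((A ⧸ I) ⊗[A] B) ⊗[A ⧸ I] ((A ⧸ I) ⊗[A] B))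
    (((Algebra.TensorProduct.includeLeft : ((A ⧸ I) ⊗[A] B) →ₐ[(A ⧸ I)] ((A ⧸ I) ⊗[A] B) ⊗[(A ⧸ I)] ((A ⧸ I) ⊗[A] B)).restrictScalars A).comp i)
    (((Algebra.TensorProduct.includeRight : ((A ⧸ I) ⊗[A] B) →ₐ[(A ⧸ I)] ((A ⧸ I) ⊗[A] B) ⊗[(A ⧸ I)] ((A ⧸ I) ⊗[A] B)).restrictScalars A).comp i)
  have h0 : Algebra.TensorProduct.includeLeftSubRight (A ⧸ I) ((A ⧸ I) ⊗[A] B) (i m) = 0 := by
    have := congrArg Φ h
    rw [map_sub, ← Algebra.smul_def, map_smul, ← IsScalarTower.algebraMap_smul (A ⧸ I),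
      show algebraMap A (A ⧸ I) l = 0 from Ideal.Quotient.eq_zero_iff_mem.2 (Ideal.subset_span rfl), zero_smul] at this
    rw [Algebra.TensorProduct.includeLeftSubRight_apply]
    simpa [Φ, i, Algebra.TensorProduct.one_def] using this
  obtain ⟨ab, hab⟩ := (Algebra.IsEffective.of_faithfullyFlat (A ⧸ I) ((A ⧸ I) ⊗[A] B) (i m)).1 h0
  obtain ⟨a, rfl⟩ := Ideal.Quotient.mk_surjective ab
  refine ⟨a, ?_⟩
  have e := congrArg (TensorProduct.quotTensorEquivQuotSMul B I) hab
  rw [show (Algebra.linearMap (A ⧸ I) ((A ⧸ I) ⊗[A] B)) (Ideal.Quotient.mk I a) = (Ideal.Quotient.mk I a) ⊗ₜ[A] (1 : B) from rfl,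
    show i m = (Ideal.Quotient.mk I 1) ⊗ₜ[A] m from rfl] at e
  erw [TensorProduct.quotTensorEquivQuotSMul_mk_tmul, TensorProduct.quotTensorEquivQuotSMul_mk_tmul] at e
  have hm := (Submodule.Quotient.eq _).1 e.symm
  change _ ∈ I • (⊤ : Submodule A B) at hm
  rw [Ideal.smul_top_eq_map, Ideal.map_span, Set.image_singleton, Submodule.restrictScalars_mem,
    Ideal.mem_span_singleton', one_smul, ← Algebra.algebraMap_eq_smul_one] at hm
  obtain ⟨n, hn⟩ := hm
  exact ⟨n, by linear_combination -hn⟩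

theorem main {R : Type u} [CommRing R] [IsDomain R] {lam : R} (hlam : lam ≠ 0) {X : Scheme.{u}}
    (f : X ⟶ Spec (CommRingCat.of R)) [Flat f] (P : Over X)
    (a : AlgGrp.Action (Red.bc f (SekSuwa.G R lam)) P)
    (hP : NonAbH1.IsTorsorFor Scheme.fpqcPrecoverage a) :
    NonAbH1.IsTorsorFor Scheme.zariskiPrecoverage a := by
  obtain ⟨hps, hloc⟩ := hP
  refine ⟨hps, isLocallyTrivial_zariski_openImmersion hloc fun A B _ _ _ _ j hj s x => ?_⟩
  obtain ⟨φ, hφ⟩ := Spec.map_surjective (j ≫ f)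
  letI : Algebra R A := φ.hom.toAlgebra
  have hjf : Spec.map (CommRingCat.ofHom (algebraMap R A)) = j ≫ f := hφ
  haveI : Module.Flat R A := RingHom.flat_algebraMap_iff.1 (Flat.SpecMap_iff.1 (hjf ▸ inferInstance :
    Flat (Spec.map (CommRingCat.ofHom (algebraMap R A)))))
  let l : A := algebraMap R A lam
  have hl : ∀ z : B ⊗[A] B, algebraMap A (B ⊗[A] B) l * z = 0 → z = 0 := by
    intro z hz
    have hr : IsSMulRegular (B ⊗[A] B) (algebraMap A (B ⊗[A] B) l) :=
      IsSMulRegular.of_flat (IsSMulRegular.of_flat (Module.IsTorsionFree.isSMulRegular (IsRegular.of_ne_zero hlam)))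
    exact hr.right_eq_zero_of_smul hz
  have hcl : ∀ {C : Type u} [CommRing C] [Algebra A C] {T : Over X} (w : T ⟶ specObj j C),
      val j w (algebraMap A C l) = cl lam f T := by
    intro C _ _ T w
    show ((Scheme.ΓSpecIso (CommRingCat.of C)).inv ≫ w.left.appTop)
      (CommRingCat.ofHom (algebraMap A C) (CommRingCat.ofHom (algebraMap R A) lam)) =
      ((Scheme.ΓSpecIso (CommRingCat.of R)).inv ≫ (T.hom ≫ f).appTop) lam
    rw [← CommRingCat.comp_apply, ← CommRingCat.comp_apply, Scheme.ΓSpecIso_inv_naturality_assoc,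
      Scheme.ΓSpecIso_inv_naturality_assoc, ← Scheme.Hom.comp_appTop, ← Scheme.Hom.comp_appTop, hjf,
      ← Over.w w]
    simp only [specObj, Over.mk_hom, Category.assoc]
  obtain ⟨g, hg, hcoc⟩ := exists_cocycle j a hps s
  obtain ⟨u, hu⟩ := (val_id_bijective j (R := B ⊗[A] B)).2 (co g)
  have hgu : ∀ (T : Over X) (w : T ⟶ specObj j (B ⊗[A] B)), co (w ≫ g) = val j w u := fun T w => by
    rw [co_comp, ← hu, ← val_comp, Category.comp_id]
  let v : B ⊗[A] B := 1 + algebraMap A (B ⊗[A] B) l * u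
  have hvu : IsUnit v := by
    have h := isUnit_co (g)
    rw [← hu, ← hcl (𝟙 (specObj j (B ⊗[A] B))), ← map_mul,
      ← map_one (val j (𝟙 (specObj j (B ⊗[A] B)))), ← map_add] at h
    exact S6005.isUnit_of_map_unit' j v h
  have hc : p13 u = p23 u + p12 u + algebraMap A _ l * (p23 u * p12 u) := by
    refine (val_id_bijective j).1 ?_
    have hq : ∀ ψ : B ⊗[A] B →ₐ[A] B ⊗[A] (B ⊗[A] B),
        co (specPt j ψ ≫ g) = val j (𝟙 _) (ψ u) := fun ψ => by
      rw [hgu, ← val_specPt, Category.id_comp]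
    rw [map_add, map_add, map_mul, map_mul, ← hq, ← hq, ← hq, hcl, ← co_mul, hcoc]
  have hvc : p13 v = p23 v * p12 v := by
    simp only [v, map_add, map_one, map_mul, AlgHom.commutes]
    linear_combination (algebraMap A _ l) * hc
  obtain ⟨f₀, hf₀, m, m', hm, hm'⟩ := S6005.exists_unit_solution v hvu hvc x
  -- `m` is congruent to a function on the base
  obtain ⟨b, n, hbn, hbx⟩ : ∃ (b : A) (n : B), m = algebraMap A B b + algebraMap A B l * n ∧ b ∉ x.asIdeal := by
    obtain ⟨b, n, hbn⟩ := exists_mod_eq l m (-u * (m ⊗ₜ 1)) (by linear_combination hm)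
    by_cases hlx : l ∈ x.asIdeal
    · refine ⟨b, n, hbn, fun hb => hf₀ ?_⟩
      obtain ⟨q, hq⟩ := PrimeSpectrum.comap_surjective_of_faithfullyFlat (A := A) (B := B) x
      have hmem : ∀ c : A, c ∈ x.asIdeal → algebraMap A B c ∈ q.asIdeal := fun c hc => by
        rw [← hq] at hc; exact hc
      rw [← hq]
      show algebraMap A B f₀ ∈ q.asIdeal
      rw [← hm', hbn]
      exact q.asIdeal.mul_mem_left _ (q.asIdeal.add_mem (hmem b hb) (q.asIdeal.mul_mem_right _ (hmem l hlx)))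
    · by_cases hb : b ∈ x.asIdeal
      · refine ⟨b + l, n - 1, by rw [hbn, map_add]; ring, fun h => hlx ?_⟩
        simpa using x.asIdeal.sub_mem h hb
      · exact ⟨b, n, hbn, hb⟩
  have hE : (1 + algebraMap A (B ⊗[A] B) l * u) * (n ⊗ₜ[A] (1 : B)) + algebraMap A _ b * u = (1 : B) ⊗ₜ n := by
    refine sub_eq_zero.1 (hl _ ?_)
    have e := congrArg (Algebra.TensorProduct.includeLeft : B →ₐ[A] B ⊗[A] B) hbn
    have e' := congrArg (Algebra.TensorProduct.includeRight : B →ₐ[A] B ⊗[A] B) hbn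
    simp only [map_add, map_mul, AlgHom.commutes] at e e'
    simp only [Algebra.TensorProduct.includeLeft_apply, Algebra.TensorProduct.includeRight_apply] at e e'
    change v * (m ⊗ₜ 1) = 1 ⊗ₜ m at hm
    rw [e, e'] at hm
    simp only [v] at hm
    linear_combination hm
  let V : (Spec (CommRingCat.of A)).Opens := PrimeSpectrum.basicOpen (f₀ * b)
  refine ⟨V, fun h => (x.isPrime.mem_or_mem h).elim hf₀ hbx, ?_⟩
  let ι₀ := preIncl j B V
  have hunit := isUnit_val_preIncl j (B := B) (f := f₀ * b) (V := V) le_rfl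
  rw [map_mul, map_mul] at hunit
  obtain ⟨bi, hbi⟩ := (isUnit_of_mul_isUnit_right hunit).exists_right_inv
  have hmu : IsUnit (val j ι₀ m) := by
    have := isUnit_of_mul_isUnit_left hunit
    rw [← hm', map_mul] at this
    exact isUnit_of_mul_isUnit_right this
  obtain ⟨k₀, hk₀⟩ := exists_co_eq (lam := lam) (f := f) (preObj j B V) (val j ι₀ n * bi) (by
    have : 1 + cl lam f (preObj j B V) * (val j ι₀ n * bi) = val j ι₀ m * bi := by
      rw [← hcl ι₀, hbn, map_add, map_mul]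
      linear_combination -hbi
    rw [this]
    exact hmu.mul (IsUnit.of_mul_eq_one _ (by rw [mul_comm]; exact hbi)))
  refine exists_section j a s g hg V k₀⁻¹ fun T p q w hp hq => ?_
  have key : (w ≫ g) * (p ≫ k₀) = q ≫ k₀ := by
    refine co_injective ?_
    rw [co_mul, hgu, co_comp, co_comp, hk₀, ← hcl w, map_mul, map_mul]
    have e := congrArg (val j w) hE
    rw [map_add, map_mul, map_mul, map_add, map_one, map_mul] at e
    have hv : ∀ (c : B), val j w (c ⊗ₜ[A] (1 : B)) = p.left.appTop (val j ι₀ c) ∧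
        val j w ((1 : B) ⊗ₜ[A] c) = q.left.appTop (val j ι₀ c) := fun c => ⟨by
      rw [← val_comp, ← hp, val_specPt]; rfl, by rw [← val_comp, ← hq, val_specPt]; rfl⟩
    rw [(hv n).1, (hv n).2] at e
    have eb : ∀ (r : T ⟶ preObj j B V) (ψ : B →ₐ[A] B ⊗[A] B), w ≫ specPt j ψ = r ≫ ι₀ →
        r.left.appTop (val j ι₀ (algebraMap A B b)) = val j w (algebraMap A _ b) := fun r ψ h => by
      rw [← val_comp, ← h, val_specPt, AlgHom.commutes]
    have i1 : val j w (algebraMap A _ b) * p.left.appTop bi = 1 := by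
      rw [← eb p _ hp, ← map_mul, hbi, map_one]
    have i2 : val j w (algebraMap A _ b) * q.left.appTop bi = 1 := by
      rw [← eb q _ hq, ← map_mul, hbi, map_one]
    have hpq : p.left.appTop bi = q.left.appTop bi := left_inv_eq_right_inv (by rw [mul_comm]; exact i1) i2
    rw [← hpq]
    linear_combination (p.left.appTop bi) * e - (val j w u) * i1
  rw [GrpObj.comp_inv, GrpObj.comp_inv, ← key]
  exact inv_mul_mul_eq (w ≫ g) (p ≫ k₀)

end


/-- Let R be a discrete valuation ring of characteristic zero and residue characteristic p, λ ≠ 0 in R,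
and X a scheme which is faithfully flat over Spec R. Then every torsor for the fppf topology over X
under (the base change to X of) the affine R-group G^(λ) = Spec R[T, 1/(1+λT)], with group law s + t
+ λst, is locally trivial for the Zariski topology; that is, the first higher direct image of G^(λ)
under the morphism from the flat site to the Zariski site of X vanishes, and fppf and Zariski H¹ of
X with coefficients in G^(λ) agree. -/
theorem result (R : Type u) [CommRing R] [IsDomain R] [IsDiscreteValuationRing R] [CharZero R]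
    (p : ℕ) [Fact p.Prime] [CharP (IsLocalRing.ResidueField R) p]
    (lam : R) (hlam : lam ≠ 0)
    (X : Scheme.{u}) (f : X ⟶ Spec (CommRingCat.of R)) [Flat f] [Surjective f]
    (P : Over X) (a : AlgGrp.Action (Red.bc f (SekSuwa.G R lam)) P)
    (hP : NonAbH1.IsTorsorFor Scheme.fppfPrecoverage a) :
    NonAbH1.IsTorsorFor Scheme.zariskiPrecoverage a := by
  exact main hlam f P a ⟨hP.1, by
    obtain ⟨Q, hQ, hsec⟩ := hP.2
    exact ⟨Q, Scheme.fppfPrecoverage_le_fpqcPrecoverage X hQ, hsec⟩⟩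

end Groth.Agent.S14684
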