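import Groth.Statements.S14685
import Groth.Agent.Misc8.HopfOrderGroup

set_option autoImplicit false
universe u
open CategoryTheory AlgebraicGeometry
open SekSuwa

namespace Groth.Agent.S14685

open Limits MonObj WithConv TensorProduct Groth.Misc8 Groth.Misc8.HopfOrderGroup

theorem exists_clear {R : Type u} [CommRing R] [IsDomain R] {H : Type u} [CommRing H] [Algebra R H]
    (z : H ⊗[R] FractionRing R) : ∃ a : R, a ≠ 0 ∧ ∃ h : H, a • z = h ⊗ₜ[R] (1 : FractionRing R) := by
  induction z using TensorProduct.induction_on with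
  | zero => exact ⟨1, one_ne_zero, 0, by simp⟩
  | tmul x k =>
    obtain ⟨n, d, hd, rfl⟩ := IsFractionRing.div_surjective R k
    refine ⟨d, nonZeroDivisors.ne_zero hd, n • x, ?_⟩
    rw [← TensorProduct.tmul_smul, TensorProduct.smul_tmul, Algebra.smul_def, Algebra.smul_def, _root_.mul_one,
      mul_div_cancel₀ _ (IsFractionRing.to_map_ne_zero_of_mem_nonZeroDivisors hd)]
  | add a b ha hb =>
    obtain ⟨c, hc, h, hh⟩ := ha
    obtain ⟨c', hc', h', hh'⟩ := hb
    refine ⟨c * c', mul_ne_zero hc hc', c' • h + c • h', ?_⟩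
    rw [smul_add, TensorProduct.add_tmul, ← TensorProduct.smul_tmul', ← TensorProduct.smul_tmul', ← hh, ← hh',
      smul_smul, smul_smul, mul_comm c c']

variable {R : Type u} [CommRing R] [IsDomain R] [IsDiscreteValuationRing R] [CharZero R] {p : ℕ} [Fact p.Prime]
  [CharP (IsLocalRing.ResidueField R) p] {ζ : R} {H : Type u} [CommRing H] [HopfAlgebra R H]
  [Module.Finite R H] [Module.Flat R H]

theorem hopf (hζ : IsPrimitiveRoot ζ p)
    (e : Red.bc (Spec.map (CommRingCat.ofHom (algebraMap R (FractionRing R))))
      ((Spec (CommRingCat.of H)).asOver (Spec (CommRingCat.of R))) ≅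
      TwC.const (Spec (CommRingCat.of (FractionRing R))) (Multiplicative (ZMod p)))
    (he : TwC.IsConstGrp (Multiplicative (ZMod p)) _ e) :
    ∃ (lam : R) (hd : DivCond lam p) (j : AK R lam p hd →ₐc[R] H), lam ≠ 0 ∧ Function.Bijective j := by
  have : Module.Free R H := Module.free_of_flat_of_isLocalRing
  have hi : Function.Injective (algebraMap R (FractionRing R)) := IsFractionRing.injective R _
  have hint : ∀ (m : Multiplicative (ZMod p)) (h : H), ∃ r, algebraMap R (FractionRing R) r = φ e m h := fun m h =>
    IsIntegrallyClosed.isIntegral_iff.mp ((IsIntegral.of_finite R h).map (φ e m))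
  choose r hr using hint
  let ψ : ZMod p → (H →ₐ[R] R) := fun m =>
    { toFun := fun h => r (Multiplicative.ofAdd m) h
      map_one' := hi (by rw [hr, map_one, map_one])
      map_mul' := fun x y => hi (by rw [hr, map_mul, map_mul, hr, hr])
      map_zero' := hi (by rw [hr, map_zero, map_zero])
      map_add' := fun x y => hi (by rw [hr, map_add, map_add, hr, hr])
      commutes' := fun x => hi (by rw [hr, AlgHom.commutes]; rfl) }
  have hψ : ∀ m h, algebraMap R (FractionRing R) (ψ m h) = φ e (Multiplicative.ofAdd m) h := fun m h => hr _ h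
  refine HopfOrder.main ψ hζ ?_ ?_ ?_ ?_
  · intro m n h
    apply hi
    rw [hψ, ofAdd_add]
    have h1 := congrArg (fun f : WithConv (H →ₐ[R] FractionRing R) => f.ofConv h) (φ_mul e he (.ofAdd m) (.ofAdd n))
    simp only [AlgHom.convMul_apply, WithConv.ofConv_toConv] at h1
    rw [h1]
    generalize Coalgebra.comul (R := R) h = z
    induction z using TensorProduct.induction_on with
    | zero => simp
    | tmul a b => simp [HopfOrder.Φ, hψ]
    | add a b ha hb => simp [ha, hb]
  · intro h
    apply hi
    rw [hψ, ofAdd_zero]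
    have h1 := congrArg (fun f : WithConv (H →ₐ[R] FractionRing R) => f.ofConv h) (φ_one e he)
    simpa [AlgHom.convOne_apply] using h1
  · intro h hh
    refine (map_eq_zero_iff _ (Algebra.TensorProduct.includeLeft_injective (S := R) (A := H)
      (B := FractionRing R) hi)).mp ((θ_bijective e).1 ?_)
    rw [map_zero]
    funext ⟨m⟩
    rw [Pi.zero_apply, Algebra.TensorProduct.includeLeft_apply, θ_tmul, _root_.mul_one]
    have := hψ (Multiplicative.toAdd m) h
    rw [hh, map_zero, ofAdd_toAdd] at this
    exact this.symm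
  · obtain ⟨z, hz⟩ := (θ_bijective e).2 fun m => algebraMap R (FractionRing R) (ζ ^ (Multiplicative.toAdd m.down).val)
    obtain ⟨a, ha, h, hah⟩ := exists_clear z
    refine ⟨a, ha, h, fun m => hi ?_⟩
    have h1 := congrArg (fun y => θ e y ⟨Multiplicative.ofAdd m⟩) hah
    simp only [θ_tmul, _root_.mul_one] at h1
    rw [hψ, ← h1, show a • z = algebraMap R (H ⊗[R] FractionRing R) a * z from Algebra.smul_def a z, map_mul, Pi.mul_apply, hz, map_mul]
    dsimp only
    rw [toAdd_ofAdd]
    congr 1
    rw [Algebra.TensorProduct.algebraMap_apply, θ_tmul, AlgHom.commutes, _root_.mul_one]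

/-- Let R be a discrete valuation ring of characteristic zero and residue characteristic p containing a
primitive p-th root of unity, with fraction field K, and let G be a finite flat R-group scheme whose
generic fibre is isomorphic, as a K-group scheme, to the constant group ℤ/pℤ. Then G is isomorphic
as an R-group scheme to G_{λ,1} = Spec R[T]/(((1 + λT)^p − 1)/λ^p) (the kernel of the isogeny ψ on
the one-parameter group with law s + t + λst) for some nonzero λ ∈ R for which that polynomial has
coefficients in R. -/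
theorem result (R : Type u) [CommRing R] [IsDomain R] [IsDiscreteValuationRing R] [CharZero R]
    (p : ℕ) [Fact p.Prime] [CharP (IsLocalRing.ResidueField R) p]
    (ζ : R) (hζ : IsPrimitiveRoot ζ p)
    (G : Over (Spec (CommRingCat.of R))) [GrpObj G] [IsFinite G.hom] [Flat G.hom]
    (e : Red.bc (Spec.map (CommRingCat.ofHom (algebraMap R (FractionRing R)))) G ≅ TwC.const (Spec (CommRingCat.of (FractionRing R))) (Multiplicative (ZMod p)))
    (he : TwC.IsConstGrp (Multiplicative (ZMod p)) (Red.bc (Spec.map (CommRingCat.ofHom (algebraMap R (FractionRing R)))) G) e) :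
    ∃ (lam : R) (h : SekSuwa.DivCond lam p), lam ≠ 0 ∧ Nonempty (Grp.mk G ≅ Grp.mk (SekSuwa.GK R lam p h)) := by
  have hA : IsAffine G.left := isAffine_of_isAffineHom G.hom
  obtain ⟨H, ⟨eG⟩⟩ := (essImage_hopfSpec (R := CommRingCat.of R) (G := Grp.mk G)).2 hA
  obtain ⟨H⟩ := H
  let X := (Spec (CommRingCat.of H)).asOver (Spec (CommRingCat.of R))
  let φG : X ≅ G := (Grp.forget (Over (Spec (CommRingCat.of R)))).mapIso eG
  have hφ : IsMonHom φG.hom := eG.hom.hom.isMonHom_hom
  have : IsIso φG.hom.left := (Over.forget _).map_isIso φG.hom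
  have hmap : φG.hom.left ≫ G.hom =
      (Spec.map (CommRingCat.ofHom (algebraMap R H)) : Spec (CommRingCat.of H) ⟶ Spec (CommRingCat.of R)) :=
    Over.w φG.hom
  have : Module.Flat R H := by
    have h1 : Flat (Spec.map (CommRingCat.ofHom (algebraMap R H))) := by
      have h2 : Flat (φG.hom.left ≫ G.hom) := inferInstance
      exact hmap ▸ h2
    exact RingHom.flat_algebraMap_iff.1 ((Flat.SpecMap_iff).1 h1)
  have : Module.Finite R H := by
    have h1 : IsFinite (Spec.map (CommRingCat.ofHom (algebraMap R H))) := by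
      have h2 : IsFinite (φG.hom.left ≫ G.hom) := inferInstance
      exact hmap ▸ h2
    exact RingHom.finite_algebraMap.1 ((IsFinite.SpecMap_iff _).1 h1)
  let F := Over.pullback (Spec.map (CommRingCat.ofHom (algebraMap R (FractionRing R))))
  let e' : Red.bc (Spec.map (CommRingCat.ofHom (algebraMap R (FractionRing R)))) X ≅
      TwC.const (Spec (CommRingCat.of (FractionRing R))) (Multiplicative (ZMod p)) := F.mapIso φG ≪≫ e
  have : IsMonHom (F.map φG.hom) := inferInstance
  have he' : TwC.IsConstGrp (Multiplicative (ZMod p)) _ e' := fun m n => by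
    rw [← cancel_mono (F.map φG.hom), MonObj.mul_comp]
    simp only [e', Iso.trans_inv, Functor.mapIso_inv, Category.assoc, ← F.map_comp, Iso.inv_hom_id, F.map_id,
      Category.comp_id]
    exact he m n
  obtain ⟨lam, hd, j, hlam, hj⟩ := hopf hζ e' he'
  refine ⟨lam, hd, hlam, ⟨?_⟩⟩
  have : IsIso (CommRingCat.ofHom (j : AK R lam p hd →+* H)) :=
    (ConcreteCategory.isIso_iff_bijective _).mpr hj
  have : IsIso (specHom j).left := by
    rw [specHom_left]
    exact inferInstanceAs (IsIso (Scheme.Spec.map (CommRingCat.ofHom (j : AK R lam p hd →+* H)).op))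
  have : IsIso ((Over.forget _).map (specHom j)) := this
  have : IsIso (specHom j) := isIso_of_reflects_iso (specHom j) (Over.forget _)
  have : IsMonHom φG.inv := inferInstance
  have : IsMonHom ((φG.symm ≪≫ asIso (specHom j)).hom) := inferInstanceAs (IsMonHom (φG.inv ≫ specHom j))
  exact Grp.mkIso' (φG.symm ≪≫ asIso (specHom j))

end Groth.Agent.S14685
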