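import Groth.Statements.S14686
import Groth.Agent.S14685
import Groth.Agent.Misc8.HopfExt
import Groth.Agent.AlgGrp1.Extension

set_option autoImplicit false
universe u
open CategoryTheory AlgebraicGeometry
open SekSuwa

namespace Groth.Agent.S14686

open Limits MonObj MonoidalCategory WithConv TensorProduct CartesianMonoidalCategory Groth.Misc8 Groth.Misc8.HopfOrderGroup

section Kernel

variable {R : Type u} [CommRing R] {p : ℕ} [Fact p.Prime] {mu : R} {hd : DivCond mu p} {H H₂ : Type u} [CommRing H]
  [HopfAlgebra R H] [CommRing H₂] [HopfAlgebra R H₂] (j : AK R mu p hd →ₐc[R] H) (q : H →ₐc[R] H₂)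

theorem isPushout (hq : Function.Surjective q) (hker : ∀ z, q z = 0 ↔ z ∈ Ideal.span {j AK.t}) :
    IsPushout (CommRingCat.ofHom (j : AK R mu p hd →+* H))
      (CommRingCat.ofHom (Bialgebra.counitAlgHom R (AK R mu p hd)).toRingHom)
      (CommRingCat.ofHom (q : H →+* H₂)) (CommRingCat.ofHom (algebraMap R H₂)) := by
  have hp : 0 < p := (Fact.out : p.Prime).pos
  have hqt : q (j AK.t) = 0 := (hker _).mpr (Ideal.subset_span rfl)
  have e : ((q : H →ₐ[R] H₂).comp (j : AK R mu p hd →ₐ[R] H)) =
      (Algebra.ofId R H₂).comp (Bialgebra.counitAlgHom R (AK R mu p hd)) := by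
    refine AK.algHom_ext ?_ ?_
    · simp [hqt, AK.counit_t]
    · rw [SekSuwaRing.inv_eq hp hd]
      simp [hqt, AK.counit_t]
  have w : CommRingCat.ofHom (j : AK R mu p hd →+* H) ≫ CommRingCat.ofHom (q : H →+* H₂) =
      CommRingCat.ofHom (Bialgebra.counitAlgHom R (AK R mu p hd)).toRingHom ≫
        CommRingCat.ofHom (algebraMap R H₂) := by
    ext z
    exact DFunLike.congr_fun e z
  have key : ∀ (s : PushoutCocone (CommRingCat.ofHom (j : AK R mu p hd →+* H))
      (CommRingCat.ofHom (Bialgebra.counitAlgHom R (AK R mu p hd)).toRingHom)),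
      RingHom.ker (q : H →+* H₂) ≤ RingHom.ker s.inl.hom := by
    intro s z hz
    obtain ⟨c, rfl⟩ := Ideal.mem_span_singleton'.mp ((hker z).mp hz)
    have e1 := DFunLike.congr_fun (congrArg CommRingCat.Hom.hom s.condition) (AK.t : AK R mu p hd)
    simp only [CommRingCat.hom_comp, CommRingCat.hom_ofHom, RingHom.comp_apply] at e1
    rw [show (Bialgebra.counitAlgHom R (AK R mu p hd)).toRingHom (AK.t : AK R mu p hd) = 0 from AK.counit_t (R := R) (lam := mu) (N := p) (h := hd), map_zero] at e1
    rw [RingHom.mem_ker, map_mul, show s.inl.hom (j (AK.t : AK R mu p hd)) = 0 from e1, mul_zero]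
  refine IsPushout.of_isColimit (PushoutCocone.IsColimit.mk w
    (fun s => CommRingCat.ofHom ((q : H →+* H₂).liftOfSurjective hq ⟨s.inl.hom, key s⟩))
    (fun s => ?_) (fun s => ?_) (fun s m hm _ => ?_))
  · ext z
    exact RingHom.liftOfRightInverse_comp_apply _ _ (Function.rightInverse_surjInv hq) ⟨_, key s⟩ z
  · ext r
    simp only [CommRingCat.hom_comp, CommRingCat.hom_ofHom, RingHom.comp_apply]
    rw [show algebraMap R H₂ r = (q : H →+* H₂) (algebraMap R H r) from (AlgHomClass.commutes q r).symm]
    refine (RingHom.liftOfRightInverse_comp_apply _ _ (Function.rightInverse_surjInv hq) ⟨_, key s⟩ _).trans ?_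
    have e1 := DFunLike.congr_fun (congrArg CommRingCat.Hom.hom s.condition) (algebraMap R (AK R mu p hd) r)
    simp only [CommRingCat.hom_comp, CommRingCat.hom_ofHom, RingHom.comp_apply] at e1
    rw [show (Bialgebra.counitAlgHom R (AK R mu p hd)).toRingHom (algebraMap R (AK R mu p hd) r) = r from
      AlgHom.commutes (Bialgebra.counitAlgHom R (AK R mu p hd)) r,
      show (j : AK R mu p hd →+* H) (algebraMap R (AK R mu p hd) r) = algebraMap R H r from
        AlgHomClass.commutes j r] at e1
    exact e1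
  · ext z
    obtain ⟨z, rfl⟩ := hq z
    refine Eq.trans ?_ (RingHom.liftOfRightInverse_comp_apply _ _ (Function.rightInverse_surjInv hq) ⟨_, key s⟩ z).symm
    exact DFunLike.congr_fun (congrArg CommRingCat.Hom.hom hm) z

theorem isKernel (hq : Function.Surjective q) (hker : ∀ z, q z = 0 ↔ z ∈ Ideal.span {j AK.t}) :
    AlgGrp.IsKernel (specHom q) (specHom j) := by
  have hu : (toUnit ((Spec (CommRingCat.of H₂)).asOver (Spec (CommRingCat.of R)))).left =
      Spec.map (CommRingCat.ofHom (algebraMap R H₂)) := by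
    rw [← Category.comp_id (toUnit ((Spec (CommRingCat.of H₂)).asOver (Spec (CommRingCat.of R)))).left]
    exact Over.w (toUnit ((Spec (CommRingCat.of H₂)).asOver (Spec (CommRingCat.of R))))
  have hη : η[GK R mu p hd].left = Spec.map (CommRingCat.ofHom (Bialgebra.counitAlgHom R (AK R mu p hd)).toRingHom) := by
    rw [one_spec_asOver_spec_left]
    rfl
  unfold AlgGrp.IsKernel
  refine IsPullback.of_map (Over.forget _) ?_ ?_
  · apply Over.OverMorphism.ext
    rw [Over.comp_left, Over.comp_left, hu, hη, specHom_left, specHom_left]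
    exact (Spec.map_comp _ _).symm.trans ((congrArg Spec.map (isPushout j q hq hker).w).trans (Spec.map_comp _ _))
  · simp only [Over.forget_map, hu, hη, specHom_left]
    exact isPullback_SpecMap_of_isPushout _ _ _ _ (isPushout j q hq hker)

end Kernel

theorem hopf {R : Type u} [CommRing R] [IsDomain R] [IsDiscreteValuationRing R] [CharZero R] {p : ℕ}
    [Fact p.Prime] [CharP (IsLocalRing.ResidueField R) p] {ζ : R} {H : Type u} [CommRing H] [HopfAlgebra R H]
    [Module.Finite R H] [Module.Free R H] (hζ : IsPrimitiveRoot ζ p) (hrank : Module.finrank R H = p ^ 2)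
    {M : Type} [Group M] [Finite M]
    (e : Red.bc (Spec.map (CommRingCat.ofHom (algebraMap R (FractionRing R))))
      ((Spec (CommRingCat.of H)).asOver (Spec (CommRingCat.of R))) ≅ TwC.const (Spec (CommRingCat.of (FractionRing R))) M)
    (he : TwC.IsConstGrp M _ e) :
    ∃ (lam mu : R) (h₁ : DivCond lam p) (h₂ : DivCond mu p) (j : AK R mu p h₂ →ₐc[R] H)
      (q : H →ₐc[R] AK R lam p h₁), lam ≠ 0 ∧ mu ≠ 0 ∧ Function.Surjective q ∧
        (∀ z, q z = 0 ↔ z ∈ Ideal.span {j AK.t}) ∧
        ∃ g : Fin p → H, Function.Bijective (fun b : Fin p → AK R mu p h₂ => ∑ i, j (b i) * g i) := by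
  classical
  have hi : Function.Injective (algebraMap R (FractionRing R)) := IsFractionRing.injective R _
  have hint : ∀ (m : M) (h : H), ∃ r, algebraMap R (FractionRing R) r = φ e m h := fun m h =>
    IsIntegrallyClosed.isIntegral_iff.mp ((IsIntegral.of_finite R h).map (φ e m))
  choose r hr using hint
  let ψ : M → (H →ₐ[R] R) := fun m =>
    { toFun := fun h => r m h
      map_one' := hi (by rw [hr, map_one, map_one])
      map_mul' := fun x y => hi (by rw [hr, map_mul, map_mul, hr, hr])
      map_zero' := hi (by rw [hr, map_zero, map_zero])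
      map_add' := fun x y => hi (by rw [hr, map_add, map_add, hr, hr])
      commutes' := fun x => hi (by rw [hr, AlgHom.commutes]; rfl) }
  have hψ : ∀ m h, algebraMap R (FractionRing R) (ψ m h) = φ e m h := fun m h => hr _ h
  have hconv : ∀ m n, toConv (ψ (m * n)) = toConv (ψ m) * toConv (ψ n) := fun m n => by
    apply WithConv.ofConv_injective
    refine AlgHom.ext fun h => hi ?_
    simp only [WithConv.ofConv_toConv, AlgHom.convMul_apply]
    rw [hψ]
    have h1 := congrArg (fun f : WithConv (H →ₐ[R] FractionRing R) => f.ofConv h) (φ_mul e he m n)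
    simp only [AlgHom.convMul_apply, WithConv.ofConv_toConv] at h1
    rw [h1]
    generalize Coalgebra.comul (R := R) h = z
    induction z using TensorProduct.induction_on with
    | zero => simp
    | tmul a b => simp [hψ]
    | add a b ha hb => simp [ha, hb]
  have hone : ∀ h, ψ 1 h = Coalgebra.counit h := fun h => hi (by
    rw [hψ]
    have h1 := congrArg (fun f : WithConv (H →ₐ[R] FractionRing R) => f.ofConv h) (φ_one e he)
    simpa [AlgHom.convOne_apply] using h1)
  have hinj : ∀ h, (∀ m, ψ m h = 0) → h = 0 := fun h hh => by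
    refine (map_eq_zero_iff _ (Algebra.TensorProduct.includeLeft_injective (S := R) (A := H)
      (B := FractionRing R) hi)).mp ((θ_bijective e).1 ?_)
    rw [map_zero]
    funext ⟨m⟩
    rw [Pi.zero_apply, Algebra.TensorProduct.includeLeft_apply, θ_tmul, _root_.mul_one]
    have := hψ m h
    rw [hh, map_zero] at this
    exact this.symm
  have hgen : ∀ v : M → R, ∃ a : R, a ≠ 0 ∧ ∃ h : H, ∀ m, ψ m h = a * v m := fun v => by
    obtain ⟨z, hz⟩ := (θ_bijective e).2 fun m => algebraMap R (FractionRing R) (v m.down)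
    obtain ⟨a, ha, h, hah⟩ := S14685.exists_clear z
    refine ⟨a, ha, h, fun m => hi ?_⟩
    have h1 := congrArg (fun y => θ e y ⟨m⟩) hah
    simp only [θ_tmul, _root_.mul_one] at h1
    rw [hψ, ← h1, show a • z = algebraMap R (H ⊗[R] FractionRing R) a * z from Algebra.smul_def a z, map_mul, Pi.mul_apply, hz, map_mul]
    congr 1
    rw [Algebra.TensorProduct.algebraMap_apply, θ_tmul, AlgHom.commutes, _root_.mul_one]
  have hM : Nat.card M = p ^ 2 := (HopfExt.finrank_eq_card hinj hgen).symm.trans hrank
  letI : CommGroup M := IsPGroup.commGroupOfCardEqPrimeSq hM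
  -- a character of order `p`
  obtain ⟨x, hx⟩ := exists_prime_orderOf_dvd_card' (G := M) p (hM ▸ dvd_pow_self p two_ne_zero)
  have hN : Nat.card (Subgroup.zpowers x) = p := by rw [Nat.card_zpowers, hx]
  have hQ : Nat.card (M ⧸ Subgroup.zpowers x) = p := by
    have h1 := Subgroup.card_eq_card_quotient_mul_card_subgroup (Subgroup.zpowers x)
    rw [hM, hN, pow_two] at h1
    exact (Nat.eq_of_mul_eq_mul_right (Fact.out : p.Prime).pos h1).symm
  let eQ : (M ⧸ Subgroup.zpowers x) ≃* Multiplicative (ZMod p) := mulEquivOfPrimeCardEq hQ (Nat.card_zmod p)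
  let χ : M → ZMod p := fun m => Multiplicative.toAdd (eQ (QuotientGroup.mk m))
  choose σ hσ using fun a : ZMod p => QuotientGroup.mk_surjective (eQ.symm (Multiplicative.ofAdd a))
  have S : HopfExt.Setup ψ χ σ (ζ := ζ) :=
    { conv := hconv, one := hone, inj := hinj, gen := hgen, prim := hζ
      χmul := fun m n => by simp [χ, QuotientGroup.mk_mul, map_mul]
      sect := fun a => by simp [χ, hσ] }
  obtain ⟨mu, h₂, j, hmu, hjψ, hP, hind⟩ := HopfExt.exists_sub S
  obtain ⟨g, hg⟩ := HopfExt.exists_basis S hM j hmu hjψ hP hind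
  have hmem := HopfExt.mem_span_iff S hM j hmu hjψ hg
  have hχker : ∀ m, χ m = 0 ↔ m ∈ Subgroup.zpowers x := fun m => by
    rw [← QuotientGroup.eq_one_iff, ← map_eq_one_iff eQ eQ.injective]
    rfl
  let ν : Multiplicative (ZMod p) ≃* Subgroup.zpowers x := mulEquivOfPrimeCardEq (Nat.card_zmod p) hN
  let I : Ideal H := Ideal.span {j AK.t}
  have hcoε : Coalgebra.counit (R := R) (j AK.t) = 0 := (CoalgHomClass.counit_comp_apply j _).trans AK.counit_t
  have hcoΔ : Coalgebra.comul (R := R) (j AK.t) =
      j AK.t ⊗ₜ[R] 1 + 1 ⊗ₜ[R] j AK.t + mu • (j AK.t ⊗ₜ[R] j AK.t) := by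
    rw [← CoalgHomClass.map_comp_comul_apply, AK.comul_t]
    simp
  haveI hco : (I.restrictScalars R).IsCoideal := by
    refine Submodule.IsCoideal.mk ?_ ?_
    · intro z hz
      obtain ⟨a, rfl⟩ := Ideal.mem_span_singleton'.mp hz
      change Bialgebra.counitAlgHom R H (a * j AK.t) = 0
      rw [map_mul]
      change _ * Coalgebra.counit (R := R) (j AK.t) = 0
      rw [hcoε, mul_zero]
    · intro z hz
      obtain ⟨a, rfl⟩ := Ideal.mem_span_singleton'.mp hz
      have hmk : (Submodule.restrictScalars R I).mkQ = (Ideal.Quotient.mkₐ R I).toLinearMap := rfl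
      rw [hmk]
      change Algebra.TensorProduct.map (Ideal.Quotient.mkₐ R I) (Ideal.Quotient.mkₐ R I)
          (Bialgebra.comulAlgHom R H (a * j AK.t)) = 0
      rw [map_mul, map_mul]
      change _ * Algebra.TensorProduct.map _ _ (Coalgebra.comul (R := R) (j AK.t)) = 0
      rw [hcoΔ, map_add, map_add, map_smul, Algebra.TensorProduct.map_tmul, Algebra.TensorProduct.map_tmul,
        Algebra.TensorProduct.map_tmul]
      have h0 : Ideal.Quotient.mkₐ R I (j AK.t) = 0 :=
        (Ideal.Quotient.eq_zero_iff_mem).mpr (Ideal.subset_span rfl)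
      simp [h0]
  let F : M →* WithConv (H →ₐ[R] R) := MonoidHom.mk' (fun m => toConv (ψ m)) hconv
  haveI : I.IsHopfIdeal R :=
    { antipode_mem := fun z hz => (hmem _).mpr fun n hn => by
        have h1 := congrArg (fun f : WithConv (H →ₐ[R] R) => f.ofConv z) (map_inv F n)
        refine Eq.trans (show ψ n (HopfAlgebra.antipode R z) = ψ n⁻¹ z from h1.symm) ?_
        exact (hmem z).mp hz _ ((hχker _).mpr (inv_mem ((hχker n).mp hn))) }
  have hψI : ∀ (c : Multiplicative (ZMod p)) (z : H), z ∈ I → ψ (ν c).1 z = 0 := fun c z hz =>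
    (hmem z).mp hz _ ((hχker _).mpr (ν c).2)
  let ψ' : ZMod p → (H ⧸ I →ₐ[R] R) := fun c =>
    Ideal.Quotient.liftₐ I (ψ (ν (Multiplicative.ofAdd c)).1) (hψI _)
  have hinj' : ∀ z : H ⧸ I, (∀ c, ψ' c z = 0) → z = 0 := fun z hz => by
    obtain ⟨z, rfl⟩ := Ideal.Quotient.mk_surjective z
    refine Ideal.Quotient.eq_zero_iff_mem.mpr ((hmem z).mpr fun n hn => ?_)
    obtain ⟨c, hc⟩ := ν.surjective ⟨n, (hχker n).mp hn⟩
    have := hz (Multiplicative.toAdd c)
    rw [← show (ν c).1 = n by rw [hc]]
    exact this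
  haveI : Module.Finite R (H ⧸ I) := Module.Finite.of_surjective (Ideal.Quotient.mkₐ R I).toLinearMap Ideal.Quotient.mk_surjective
  haveI : Module.IsTorsionFree R (H ⧸ I) :=
    Function.Injective.moduleIsTorsionFree (LinearMap.pi fun c => (ψ' c).toLinearMap : H ⧸ I →ₗ[R] (ZMod p → R))
      ((injective_iff_map_eq_zero _).mpr fun z hz => hinj' z (congrFun hz)) (map_smul _)
  haveI : Module.Free R (H ⧸ I) := Module.free_of_finite_type_torsion_free'
  obtain ⟨lam, h₁, j', hlam, hj'⟩ := HopfOrder.main ψ' hζ (fun c d z => by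
      obtain ⟨z, rfl⟩ := Ideal.Quotient.mk_surjective z
      show _ = ψ (ν (Multiplicative.ofAdd (c + d))).1 z
      rw [ofAdd_add, map_mul, Subgroup.coe_mul, ← HopfExt.Φ_comul ψ hconv]
      rw [Bialgebra.Quotient.comul_mk]
      generalize Coalgebra.comul (R := R) z = w
      induction w using TensorProduct.induction_on with
      | zero => simp
      | tmul a b => simp [HopfExt.Φ, HopfOrder.Φ, ψ']
      | add a b ha hb => simp only [map_add, Pi.add_apply, ha, hb])
    (fun z => by
      obtain ⟨z, rfl⟩ := Ideal.Quotient.mk_surjective z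
      show ψ (ν (Multiplicative.ofAdd 0)).1 z = _
      rw [ofAdd_zero, map_one, Subgroup.coe_one, hone, Bialgebra.Quotient.counit_mk])
    hinj' (by
      obtain ⟨a, ha, h, hh⟩ := hgen fun m => if hm : m ∈ Subgroup.zpowers x then
        ζ ^ (Multiplicative.toAdd (ν.symm ⟨m, hm⟩)).val else 0
      refine ⟨a, ha, Ideal.Quotient.mk I h, fun c => ?_⟩
      show ψ (ν (Multiplicative.ofAdd c)).1 h = _
      rw [hh, dif_pos (ν (Multiplicative.ofAdd c)).2]
      simp)
  let jinv : H ⧸ I →ₐc[R] AK R lam p h₁ := (BialgEquiv.ofBijective j' hj').symm.toBialgHom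
  have hjinv : Function.Bijective jinv := (BialgEquiv.ofBijective j' hj').symm.bijective
  refine ⟨lam, mu, h₁, h₂, j, jinv.comp (Bialgebra.Quotient.mkBialgHom I), hlam, hmu,
    hjinv.2.comp Ideal.Quotient.mk_surjective, fun z => ?_, g, hg⟩
  show jinv (Ideal.Quotient.mk I z) = 0 ↔ _
  rw [map_eq_zero_iff _ hjinv.1, Ideal.Quotient.eq_zero_iff_mem]

/-- Let R be a discrete valuation ring of characteristic zero and residue characteristic p containing a
primitive p²-th root of unity, with fraction field K, and let G be a finite flat R-group scheme of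
order p² (finite locally free of degree p² over Spec R) whose generic fibre is a constant K-group
scheme (so the underlying group has order p²). Then G is an extension of G_{μ,1} by G_{λ,1} for some
nonzero λ, μ ∈ R satisfying the divisibility condition defining these kernels: there are
homomorphisms of R-group schemes G_{λ,1} → G and G → G_{μ,1} whose composite is trivial, with G a
pseudo-torsor under G_{λ,1} over G_{μ,1} and G → G_{μ,1} admitting sections locally for the fppf
topology. -/
theorem result (R : Type u) [CommRing R] [IsDomain R] [IsDiscreteValuationRing R] [CharZero R]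
    (p : ℕ) [Fact p.Prime] [CharP (IsLocalRing.ResidueField R) p]
    (ζ : R) (hζ : IsPrimitiveRoot ζ (p ^ 2))
    (G : Over (Spec (CommRingCat.of R))) [GrpObj G] (hG : Mor2.IsFinLocFreeOfDeg (p ^ 2) G.hom)
    (M : Type) [Group M] [Finite M]
    (e : Red.bc (Spec.map (CommRingCat.ofHom (algebraMap R (FractionRing R)))) G ≅ TwC.const (Spec (CommRingCat.of (FractionRing R))) M)
    (he : TwC.IsConstGrp M (Red.bc (Spec.map (CommRingCat.ofHom (algebraMap R (FractionRing R)))) G) e) :
    ∃ (lam mu : R) (h₁ : SekSuwa.DivCond lam p) (h₂ : SekSuwa.DivCond mu p)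
      (u : SekSuwa.GK R lam p h₁ ⟶ G) (v : G ⟶ SekSuwa.GK R mu p h₂),
      lam ≠ 0 ∧ mu ≠ 0 ∧ NonAbH1.IsExactSeq Scheme.fppfPrecoverage u v := by
  have hA : IsAffine G.left := by
    haveI : IsFinite G.hom := hG.1.1
    exact isAffine_of_isAffineHom G.hom
  obtain ⟨H, ⟨eG⟩⟩ := (essImage_hopfSpec (R := CommRingCat.of R) (G := Grp.mk G)).2 hA
  obtain ⟨H⟩ := H
  let X := (Spec (CommRingCat.of H)).asOver (Spec (CommRingCat.of R))
  let φG : X ≅ G := (Grp.forget (Over (Spec (CommRingCat.of R)))).mapIso eG
  have hφ : IsMonHom φG.hom := eG.hom.hom.isMonHom_hom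
  have : IsIso φG.hom.left := (Over.forget _).map_isIso φG.hom
  haveI : IsFinite G.hom := hG.1.1
  haveI : Flat G.hom := hG.1.2.1
  haveI : LocallyOfFinitePresentation G.hom := hG.1.2.2
  have hmap : φG.hom.left ≫ G.hom =
      (Spec.map (CommRingCat.ofHom (algebraMap R H)) : Spec (CommRingCat.of H) ⟶ Spec (CommRingCat.of R)) :=
    Over.w φG.hom
  have : Module.Flat R H := by
    have h1 : Flat (Spec.map (CommRingCat.ofHom (algebraMap R H))) := by
      have h2 : Flat (φG.hom.left ≫ G.hom) := inferInstance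
      exact hmap ▸ h2
    exact RingHom.flat_algebraMap_iff.1 ((Flat.SpecMap_iff).1 h1)
  have : Module.Finite R H := by
    have h1 : IsFinite (Spec.map (CommRingCat.ofHom (algebraMap R H))) := by
      have h2 : IsFinite (φG.hom.left ≫ G.hom) := inferInstance
      exact hmap ▸ h2
    exact RingHom.finite_algebraMap.1 ((IsFinite.SpecMap_iff _).1 h1)
  have : Module.Free R H := Module.free_of_flat_of_isLocalRing
  have hrank : Module.finrank R H = p ^ 2 := by
    let y : Spec (CommRingCat.of R) := IsLocalRing.closedPoint R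
    have h1 := hG.2 y
    rw [← Scheme.Hom.finrank_comp_left_of_isIso φG.hom.left G.hom, hmap] at h1
    have h2 := Scheme.Hom.finrank_SpecMap_algebraMap R H y
    rw [Module.rankAtStalk_eq_finrank_of_free] at h2
    exact h2.symm.trans h1
  have hζp : IsPrimitiveRoot (ζ ^ p) p := hζ.pow (pow_pos (Fact.out : p.Prime).pos 2) (pow_two p)
  let F := Over.pullback (Spec.map (CommRingCat.ofHom (algebraMap R (FractionRing R))))
  let e' : Red.bc (Spec.map (CommRingCat.ofHom (algebraMap R (FractionRing R)))) X ≅
      TwC.const (Spec (CommRingCat.of (FractionRing R))) M := F.mapIso φG ≪≫ e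
  have : IsMonHom (F.map φG.hom) := inferInstance
  have he' : TwC.IsConstGrp M _ e' := fun m n => by
    rw [← cancel_mono (F.map φG.hom), MonObj.mul_comp]
    simp only [e', Iso.trans_inv, Functor.mapIso_inv, Category.assoc, ← F.map_comp, Iso.inv_hom_id, F.map_id,
      Category.comp_id]
    exact he m n
  obtain ⟨lam, mu, h₁, h₂, j, q, hlam, hmu, hq, hker, g, hg⟩ := hopf hζp hrank e' he'
  have : IsMonHom φG.inv := inferInstance
  have hK : AlgGrp.IsKernel (specHom q ≫ φG.hom) (φG.inv ≫ specHom j) :=
    (isKernel j q hq hker).of_iso (Iso.refl _) φG (Iso.refl _) (Iso.refl _) (by simp) (by simp) (by simp) (by simp)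
  haveI : Module.Finite R (AK R mu p h₂) := Module.Finite.of_basis (SekSuwaRing.basis (Fact.out : p.Prime).pos h₂)
  letI : Algebra (AK R mu p h₂) H := (j : AK R mu p h₂ →+* H).toAlgebra
  let L : (Fin p → AK R mu p h₂) ≃ₗ[AK R mu p h₂] H := LinearEquiv.ofBijective
    { toFun := fun b => ∑ i, j (b i) * g i
      map_add' := fun b c => by simp [add_mul, Finset.sum_add_distrib]
      map_smul' := fun r b => by
        simp [Algebra.smul_def, RingHom.algebraMap_toAlgebra, Finset.mul_sum, _root_.mul_assoc] } hg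
  haveI : Module.Free (AK R mu p h₂) H := Module.Free.of_equiv L
  haveI : Module.Finite (AK R mu p h₂) H := Module.Finite.equiv L
  haveI : Nontrivial H := (RingHom.domain_nontrivial (Bialgebra.counitAlgHom R H).toRingHom)
  haveI : Module.FaithfullyFlat (AK R mu p h₂) H := inferInstance
  haveI : Flat (specHom j).left := by
    rw [specHom_left]
    exact Flat.SpecMap_iff.2 (RingHom.flat_algebraMap_iff.2 inferInstance)
  haveI : Surjective (specHom j).left := ⟨by
    rw [specHom_left]
    exact PrimeSpectrum.comap_surjective_of_faithfullyFlat (A := AK R mu p h₂) (B := H)⟩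
  haveI : LocallyOfFinitePresentation (specHom j).left := by
    rw [specHom_left]
    refine (LocallyOfFinitePresentation.SpecMap_iff _).2 ?_
    haveI : Module.FinitePresentation (AK R mu p h₂) H := Module.finitePresentation_of_projective _ _
    exact RingHom.finitePresentation_algebraMap.2 inferInstance
  haveI : IsIso φG.inv.left := (Over.forget _).map_isIso φG.inv
  refine ⟨lam, mu, h₁, h₂, specHom q ≫ φG.hom, φG.inv ≫ specHom j, hlam, hmu,
    inferInstance, inferInstance, AlgGrp1.IsKernel.comp_eq_one hK, ?_, ?_⟩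
  · have h1 := AlgGrp1.IsKernel.isPullback_mul hK
    rwa [show fst G (SekSuwa.GK R lam p h₁) * (snd G (SekSuwa.GK R lam p h₁) ≫ (specHom q ≫ φG.hom)) =
      (G ◁ (specHom q ≫ φG.hom)) ≫ μ[G] by
        rw [Hom.mul_def]; congr 1] at h1
  · refine ⟨Presieve.singleton (φG.inv ≫ specHom j).left, ?_, ?_⟩
    · rw [Scheme.fppfPrecoverage, Scheme.singleton_mem_precoverage_iff]
      rw [Over.comp_left]
      exact ⟨fun x => (φG.inv.left ≫ (specHom j).left).surjective x, inferInstance, inferInstance⟩
    · intro S' f hf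
      cases hf
      exact ⟨𝟙 _, Category.id_comp _⟩

end Groth.Agent.S14686
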