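import Groth.Statements.S14687
import Groth.Agent.S14684
import Groth.Agent.S14540
import Groth.Agent.AlgGrp2.ConstFun

set_option autoImplicit false
set_option backward.isDefEq.respectTransparency false
set_option backward.defeqAttrib.useBackward true
set_option linter.style.haveILetI false
universe u
open CategoryTheory AlgebraicGeometry
open SekSuwa

namespace Groth.Agent.S14687

open CategoryTheory.Limits MonoidalCategory CartesianMonoidalCategory MonObj GrpObj
open Groth.Pi1Tors Groth.GaDual.AlphaPts Groth.Agent.S14540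
open Groth.Agent.S14684 (cl co co_comp co_injective exists_co_eq)
open scoped TensorProduct

attribute [local instance] Groth.GaDual.AlphaPts.algT

noncomputable section

variable {R : Type u} [CommRing R] {lam : R} {X : Scheme.{u}} {f : X ⟶ Spec (CommRingCat.of R)}

/-- The generator of the coordinate ring of the multiplicative group. -/
def gen (R : Type u) [CommRing R] : MonoidAlgebra R (Multiplicative ℤ) :=
  MonoidAlgebra.single (Multiplicative.ofAdd (1 : ℤ)) 1

section Gm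

variable {T T' : Over X}

/-- The coordinate of a point of the multiplicative group. -/
def dv (w : T ⟶ Red.bc f (Red.diag R ℤ)) : Γ(T.left, ⊤) := valAlg (AlgGrp2.bcPt f w) (gen R)

theorem dv_comp (h : T' ⟶ T) (w : T ⟶ Red.bc f (Red.diag R ℤ)) : dv (h ≫ w) = h.left.appTop (dv w) := by
  rw [dv, AlgGrp2.bcPt_comp]
  rfl

theorem dv_mul (v w : T ⟶ Red.bc f (Red.diag R ℤ)) : dv (v * w) = dv v * dv w := by
  have h : ∀ (U : Over (Spec (CommRingCat.of R))) (x y : U ⟶ Red.diag R ℤ),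
      valAlg (x * y) = (WithConv.toConv (valAlg x) * WithConv.toConv (valAlg y)).ofConv := by
    intro U x y
    conv_lhs => rw [← toSpecAlg_valAlg x, ← toSpecAlg_valAlg y]
    rw [show toSpecAlg (valAlg x) = toSp U ≫ Spec.mapMulEquiv (WithConv.toConv (valAlg x)) from rfl,
      show toSpecAlg (valAlg y) = toSp U ≫ Spec.mapMulEquiv (WithConv.toConv (valAlg y)) from rfl,
      ← MonObj.comp_mul, ← map_mul]
    exact valAlg_toSpecAlg (WithConv.toConv (valAlg x) * WithConv.toConv (valAlg y)).ofConv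
  rw [dv, AlgGrp2.bcPt_mul, h, AlgHom.convMul_def]
  simp [dv, gen]

theorem isUnit_dv (w : T ⟶ Red.bc f (Red.diag R ℤ)) : IsUnit (dv w) :=
  (Group.isUnit (Multiplicative.ofAdd (1 : ℤ))).map
    ((valAlg (AlgGrp2.bcPt f w)).toMonoidHom.comp (MonoidAlgebra.of R (Multiplicative ℤ)))

theorem dv_one : dv (1 : T ⟶ Red.bc f (Red.diag R ℤ)) = 1 := by
  have h := dv_mul (1 : T ⟶ Red.bc f (Red.diag R ℤ)) 1
  rw [show (1 : T ⟶ Red.bc f (Red.diag R ℤ)) * 1 = 1 from _root_.mul_one (M := (T ⟶ Red.bc f (Red.diag R ℤ))) 1] at h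
  exact ((isUnit_dv (1 : T ⟶ Red.bc f (Red.diag R ℤ))).mul_eq_left).mp h.symm

theorem dv_injective : Function.Injective (dv (R := R) (f := f) (T := T)) := by
  intro v w h
  apply AlgGrp2.bcPt_injective f
  rw [← toSpecAlg_valAlg (AlgGrp2.bcPt f v), ← toSpecAlg_valAlg (AlgGrp2.bcPt f w)]
  congr 1
  apply MonoidAlgebra.algHom_ext'
  all_goals first | exact MonoidHom.ext_mint h | ext

theorem exists_dv_eq (T : Over X) (b : Γ(T.left, ⊤)ˣ) : ∃ w : T ⟶ Red.bc f (Red.diag R ℤ), dv w = b := by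
  refine ⟨AlgGrp2.bcPtInv f (toSpecAlg (T := (Over.map f).obj T) (MonoidAlgebra.lift R _ (Multiplicative ℤ)
    ((Units.coeHom _).comp (zpowersHom _ b)))), ?_⟩
  rw [dv, AlgGrp2.bcPt_bcPtInv, valAlg_toSpecAlg]
  simp [gen, Algebra.smul_def]

theorem dv_alpha (w : T ⟶ Red.bc f (SekSuwa.G R lam)) :
    dv (w ≫ (Over.pullback f).map (SekSuwa.alpha R lam)) = 1 + cl lam f T * co w := by
  rw [dv, AlgGrp2.bcPt_comp_map]
  have key : valAlg (AlgGrp2.bcPt f w ≫ SekSuwa.alpha R lam) (gen R) =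
      valAlg (AlgGrp2.bcPt f w) ((SekSuwa.alphaHom R lam) (gen R)) := by
    show ((Scheme.ΓSpecIso _).inv ≫ ((AlgGrp2.bcPt f w).left ≫
      Spec.map (CommRingCat.ofHom (SekSuwa.alphaHom R lam : MonoidAlgebra R (Multiplicative ℤ) →+* SekSuwa.A R lam))).appTop) (gen R) = _
    rw [Scheme.Hom.comp_appTop, ← Scheme.ΓSpecIso_inv_naturality_assoc]
    rfl
  rw [key]
  rw [gen, SekSuwa.alphaHom_single_one, SekSuwa.A.u_def, map_add, map_one, map_mul, AlgHom.commutes]
  rfl

end Gm

/-- A nonzero element of a domain is a nonzerodivisor on the functions of a flat scheme. -/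
theorem eq_zero_of_cl_mul [IsDomain R] (hlam : lam ≠ 0) (T : Over X) [Flat (T.hom ≫ f)] (s : Γ(T.left, ⊤))
    (h : cl lam f T * s = 0) : s = 0 := by
  refine AlgGrp2.ConstFun.eq_of_cover T.left.affineCover fun i => ?_
  rw [map_zero]
  let g := T.left.affineCover.f i
  let U := T.left.affineCover.X i
  have : IsAffine U := inferInstanceAs (IsAffine (T.left.affineCover.X i))
  have h' := congrArg g.appTop h
  rw [map_mul, map_zero] at h'
  let q : U ⟶ Spec (CommRingCat.of R) := g ≫ T.hom ≫ f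
  have : Flat q := inferInstanceAs (Flat (g ≫ T.hom ≫ f))
  letI : Algebra R Γ(U, ⊤) := ((Scheme.ΓSpecIso (CommRingCat.of R)).inv ≫ q.appTop).hom.toAlgebra
  have hflat : q.appTop.hom.Flat := (HasRingHomProperty.iff_of_isAffine (P := @Flat)).1 inferInstance
  haveI : Module.Flat R Γ(U, ⊤) := RingHom.flat_algebraMap_iff.1 (RingHom.Flat.comp
    (RingHom.Flat.of_bijective (Scheme.ΓSpecIso (CommRingCat.of R)).commRingCatIsoToRingEquiv.symm.bijective) hflat)
  have hr : IsSMulRegular Γ(U, ⊤) (algebraMap R Γ(U, ⊤) lam) :=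
    IsSMulRegular.of_flat (Module.IsTorsionFree.isSMulRegular (IsRegular.of_ne_zero hlam))
  refine hr.right_eq_zero_of_smul ?_
  rw [smul_eq_mul]
  refine Eq.trans ?_ h'
  congr 1

/-- Two points of a torsor under `G^(lam)` over a flat scheme with the same coordinate are equal. -/
theorem eq_of_val_eq [IsDomain R] (hlam : lam ≠ 0) {P : Over X} (a : AlgGrp.Action (Red.bc f (SekSuwa.G R lam)) P)
    (ha : NonAbH1.IsPseudoTorsorSch a) {T : Over X} [Flat (T.hom ≫ f)] (v : (T ⟶ P) → Γ(T.left, ⊤))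
    (hv : ∀ y, IsUnit (v y))
    (hvdot : ∀ (w : T ⟶ Red.bc f (SekSuwa.G R lam)) (y : T ⟶ P), v (dot a w y) = (1 + cl lam f T * co w) * v y)
    (p q : T ⟶ P) (h : v p = v q) : p = q := by
  obtain ⟨w, hw⟩ := exists_dot_eq a ha p q
  have h1 := hvdot w q
  rw [hw, h] at h1
  have h2 : co w = 0 := eq_zero_of_cl_mul hlam T _ (by
    have h5 := ((hv q).mul_eq_right).1 h1.symm
    linear_combination h5)
  have h3 : co (1 : T ⟶ Red.bc f (SekSuwa.G R lam)) = 0 := by
    have h4 := S14684.co_mul (1 : T ⟶ Red.bc f (SekSuwa.G R lam)) 1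
    rw [_root_.mul_one] at h4
    refine (S14684.isUnit_co (1 : T ⟶ Red.bc f (SekSuwa.G R lam))).mul_right_eq_zero.mp ?_
    linear_combination -h4
  rw [← hw, co_injective (h2.trans h3.symm), one_dot]

set_option maxHeartbeats 2000000 in
theorem main [IsDomain R] (hlam : lam ≠ 0) [Flat f]
    (hunit : Function.Surjective (Units.map
      (pullback.fst f (Spec.map (CommRingCat.ofHom (Ideal.Quotient.mk (Ideal.span ({lam} : Set R)))))).appTop.hom.toMonoidHom))
    (hpic : ∀ (Q : Over X) (b : AlgGrp.Action (Red.bc f (Red.diag R ℤ)) Q),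
      NonAbH1.IsTorsorFor Scheme.fppfPrecoverage b → NonAbH1.HasSectionOver Q (𝟙 X))
    (P : Over X) (a : AlgGrp.Action (Red.bc f (SekSuwa.G R lam)) P)
    (hP : NonAbH1.IsTorsorFor Scheme.fppfPrecoverage a) :
    NonAbH1.HasSectionOver P (𝟙 X) := by
  have hP' : NonAbH1.IsTorsorFor Scheme.fpqcPrecoverage a := ⟨hP.1, by
    obtain ⟨C, hC, hsec⟩ := hP.2
    exact ⟨C, Scheme.fppfPrecoverage_le_fpqcPrecoverage X hC, hsec⟩⟩
  -- the push forward to the multiplicative group has a section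
  let α : Red.bc f (SekSuwa.G R lam) ⟶ Red.bc f (Red.diag R ℤ) := (Over.pullback f).map (SekSuwa.alpha R lam)
  have : IsMonHom α := inferInstanceAs (IsMonHom ((Over.pullback f).map (SekSuwa.alpha R lam)))
  haveI : IsAffine (SekSuwa.G R lam).left := inferInstanceAs (IsAffine (Spec _))
  haveI : IsAffine (Red.diag R ℤ).left := inferInstanceAs (IsAffine (Spec _))
  haveI : IsAffineHom (Red.bc f (SekSuwa.G R lam)).hom :=
    MorphismProperty.pullback_snd (SekSuwa.G R lam).hom f (isAffineHom_of_isAffine _)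
  haveI : IsAffineHom (Red.bc f (Red.diag R ℤ)).hom :=
    MorphismProperty.pullback_snd (Red.diag R ℤ).hom f (isAffineHom_of_isAffine _)
  obtain ⟨Qt, F, hF⟩ := Groth.Agent.S14540.result α ⟨P, a, hP'⟩
  let Q := Qt.X
  let b : AlgGrp.Action (Red.bc f (Red.diag R ℤ)) Q := Qt.act
  have hb : NonAbH1.IsPseudoTorsorSch b := Qt.isTorsor.1
  obtain ⟨s₀, hs₀⟩ := hpic Q b ⟨hb, by
    obtain ⟨C, hC, hsec⟩ := hP.2
    refine ⟨C, hC, fun S' g hg => ?_⟩
    obtain ⟨t, ht⟩ := hsec g hg
    exact ⟨t ≫ F.left, by rw [Category.assoc, Over.w F]; exact ht⟩⟩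
  let σ : ∀ T : Over X, T ⟶ Q := fun T => Over.homMk (T.hom ≫ s₀) (by rw [Category.assoc, hs₀, Category.comp_id])
  have hσ : ∀ {T T' : Over X} (h : T' ⟶ T), h ≫ σ T = σ T' := fun {T T'} h => by
    refine Over.OverMorphism.ext ?_
    show h.left ≫ T.hom ≫ s₀ = T'.hom ≫ s₀
    rw [← Category.assoc, Over.w h]
  -- the coordinate of a point of `P`
  let V : ∀ {T : Over X}, (T ⟶ P) → (T ⟶ Red.bc f (Red.diag R ℤ)) := fun {T} y => S14540.div b hb (σ T) (y ≫ F)
  have hV : ∀ {T T' : Over X} (h : T' ⟶ T) (y : T ⟶ P), h ≫ V y = V (h ≫ y) := fun h y => by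
    simp only [V, S14540.comp_div, hσ, Category.assoc]
  have hFdot : ∀ {T : Over X} (w : T ⟶ Red.bc f (SekSuwa.G R lam)) (y : T ⟶ P),
      dot a w y ≫ F = dot b (w ≫ α) (y ≫ F) := fun {T} w y => by
    rw [dot, Category.assoc, hF, ← Category.assoc, comp_lift, lift_fst_assoc, lift_snd_assoc]
    rfl
  have hVdot : ∀ {T : Over X} (w : T ⟶ Red.bc f (SekSuwa.G R lam)) (y : T ⟶ P),
      dv (V (dot a w y)) = (1 + cl lam f T * co w) * dv (V y) := fun {T} w y => by
    rw [← dv_alpha, ← dv_mul]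
    refine congrArg dv (div_eq b hb ?_)
    rw [mul_dot, div_dot, hFdot]
  have hindep : ∀ {T : Over X}, cl lam f T = 0 → ∀ y y' : T ⟶ P, V y = V y' := fun {T} hT y y' => by
    obtain ⟨w, hw⟩ := exists_dot_eq a hP.1 y y'
    refine dv_injective ?_
    rw [← hw, hVdot, hT, MulZeroClass.zero_mul, add_zero, _root_.one_mul]
  -- local sections of `P`
  obtain ⟨C, hC, hsec⟩ := (S14684.main hlam f P a hP').2
  obtain ⟨I, Y, g, rfl⟩ := C.exists_eq_ofArrows
  rw [Scheme.ofArrows_mem_precoverage_iff] at hC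
  have hloc : ∀ z : X, ∃ (A : CommRingCat.{u}) (j : Spec A ⟶ X) (_ : IsOpenImmersion j),
      z ∈ Set.range j ∧ Nonempty (Over.mk j ⟶ P) := by
    intro z
    obtain ⟨i, t, rfl⟩ := hC.1 z
    have : IsOpenImmersion (g i) := hC.2 i
    obtain ⟨σi, hσi⟩ := hsec (g i) (Presieve.ofArrows.mk i)
    obtain ⟨U, hU, htU, -⟩ := exists_isAffineOpen_mem_and_subset (X := Y i) (x := t) (U := ⊤) trivial
    refine ⟨Γ(Y i, U), hU.fromSpec ≫ g i, inferInstance, ?_, ⟨Over.homMk (hU.fromSpec ≫ σi) ?_⟩⟩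
    · obtain ⟨t', ht'⟩ : t ∈ Set.range hU.fromSpec := by rw [hU.range_fromSpec]; exact htU
      exact ⟨t', (Scheme.Hom.comp_apply _ _ _).trans (congrArg _ ht')⟩
    · show (hU.fromSpec ≫ σi) ≫ P.hom = hU.fromSpec ≫ g i
      rw [Category.assoc, hσi]
  choose A j hj hmem hy using hloc
  let y : ∀ z : X, Over.mk (j z) ⟶ P := fun z => (hy z).some
  haveI : ∀ z, IsOpenImmersion (j z) := hj
  let 𝒰 : X.OpenCover :=
    { I₀ := X
      X := fun z => Spec (A z)
      f := j
      mem₀ := by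
        rw [Scheme.presieve₀_mem_precoverage_iff]
        exact ⟨fun z => ⟨z, hmem z⟩, hj⟩ }
  -- the unit on the closed subscheme
  let mk : CommRingCat.of R ⟶ CommRingCat.of (R ⧸ Ideal.span ({lam} : Set R)) :=
    CommRingCat.ofHom (Ideal.Quotient.mk (Ideal.span ({lam} : Set R)))
  let Xl := pullback f (Spec.map mk)
  let i : Xl ⟶ X := pullback.fst f (Spec.map mk)
  let L : Over X := Over.mk i
  have hclT : ∀ {T : Over X} (r : T ⟶ L), cl lam f T = 0 := by
    intro T r
    have e : T.hom ≫ f = (r.left ≫ pullback.snd f (Spec.map mk)) ≫ Spec.map mk := by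
      rw [Category.assoc, ← pullback.condition, ← Category.assoc]
      exact congrArg (· ≫ f) (Over.w r).symm
    show ((Scheme.ΓSpecIso (CommRingCat.of R)).inv ≫ (T.hom ≫ f).appTop) lam = 0
    rw [e, Scheme.Hom.comp_appTop, ← Category.assoc, ← Scheme.ΓSpecIso_inv_naturality, Category.assoc,
      CommRingCat.comp_apply, show mk lam = 0 from Ideal.Quotient.eq_zero_iff_mem.2 (Ideal.subset_span rfl),
      map_zero]
  let 𝒱 := 𝒰.pullback₁ i
  let piece : ∀ z, Over.mk (pullback.fst i (j z) ≫ i) ⟶ Over.mk (j z) := fun z =>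
    Over.homMk (pullback.snd i (j z)) pullback.condition.symm
  have hagree : ∀ z z', pullback.fst (𝒱.f z) (𝒱.f z') ≫ (V (piece z ≫ y z)).left =
      pullback.snd (𝒱.f z) (𝒱.f z') ≫ (V (piece z' ≫ y z')).left := by
    intro z z'
    let T : Over X := Over.mk ((pullback.fst (𝒱.f z) (𝒱.f z') ≫ pullback.fst i (j z)) ≫ i)
    let r₁ : T ⟶ Over.mk (pullback.fst i (j z) ≫ i) :=
      Over.homMk (pullback.fst (𝒱.f z) (𝒱.f z')) (Category.assoc _ _ _).symm
    let r₂ : T ⟶ Over.mk (pullback.fst i (j z') ≫ i) := Over.homMk (pullback.snd (𝒱.f z) (𝒱.f z')) (by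
      show pullback.snd (𝒱.f z) (𝒱.f z') ≫ 𝒱.f z' ≫ i = (pullback.fst (𝒱.f z) (𝒱.f z') ≫ 𝒱.f z) ≫ i
      rw [pullback.condition, Category.assoc])
    let r : T ⟶ L := Over.homMk (pullback.fst (𝒱.f z) (𝒱.f z') ≫ pullback.fst i (j z)) rfl
    have h := hindep (hclT r) (r₁ ≫ piece z ≫ y z) (r₂ ≫ piece z' ≫ y z')
    rw [← hV r₁, ← hV r₂] at h
    exact congrArg Over.Hom.left h
  let ρ₀ : Xl ⟶ (Red.bc f (Red.diag R ℤ)).left := Scheme.Cover.glueMorphisms 𝒱 (fun z => (V (piece z ≫ y z)).left) hagree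
  have hρ₀ : ∀ z, pullback.fst i (j z) ≫ ρ₀ = (V (piece z ≫ y z)).left := fun z => Scheme.Cover.ι_glueMorphisms 𝒱 _ hagree z
  let ρ : L ⟶ Red.bc f (Red.diag R ℤ) := Over.homMk ρ₀ (Scheme.Cover.hom_ext 𝒱 _ _ fun z => by
    show pullback.fst i (j z) ≫ ρ₀ ≫ _ = _
    rw [← Category.assoc, hρ₀, Over.w]
    rfl)
  obtain ⟨εu, hεu⟩ := hunit (isUnit_dv ρ).unit
  have hε : i.appTop (εu : Γ(X, ⊤)) = dv ρ := congrArg Units.val hεu
  obtain ⟨E, hE⟩ := exists_dv_eq (R := R) (f := f) (Over.mk (𝟙 X)) εu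
  let E' : ∀ T : Over X, T ⟶ Red.bc f (Red.diag R ℤ) := fun T =>
    (Over.homMk T.hom (Category.comp_id _) : T ⟶ Over.mk (𝟙 X)) ≫ E
  have hE' : ∀ {T T' : Over X} (h : T' ⟶ T), h ≫ E' T = E' T' := fun {T T'} h => by
    simp only [E', ← Category.assoc]
    exact congrArg (· ≫ E) (Over.OverMorphism.ext (Over.w h))
  -- correct the local sections
  have hfix : ∀ z : X, ∃ y' : Over.mk (j z) ⟶ P, V y' = E' (Over.mk (j z)) := by
    intro z
    obtain ⟨φ, hφ⟩ := Spec.map_surjective (j z ≫ f)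
    letI : Algebra R (A z) := φ.hom.toAlgebra
    have hjf : Spec.map (CommRingCat.ofHom (algebraMap R (A z))) = j z ≫ f := hφ
    let T := specObj (j z) (A z)
    let id' : T ⟶ Over.mk (j z) := Over.homMk (Spec.map (CommRingCat.ofHom (algebraMap (A z) (A z)))) rfl
    let id'' : Over.mk (j z) ⟶ T := Over.homMk (𝟙 _) (by
      show 𝟙 _ ≫ Spec.map _ ≫ j z = j z
      rw [Category.id_comp, show CommRingCat.ofHom (algebraMap (A z) (A z)) = 𝟙 _ from rfl]
      erw [Spec.map_id]
      rw [Category.id_comp])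
    let Al := (A z) ⧸ Ideal.span ({algebraMap R (A z) lam} : Set (A z))
    let qA : A z →ₐ[A z] Al := Ideal.Quotient.mkₐ (A z) _
    let TE := specObj (j z) Al
    obtain ⟨φl, hφl⟩ : ∃ φl : CommRingCat.of (R ⧸ Ideal.span ({lam} : Set R)) ⟶ CommRingCat.of Al,
        mk ≫ φl = φ ≫ CommRingCat.ofHom (algebraMap (A z) Al) := by
      refine ⟨CommRingCat.ofHom (Ideal.Quotient.lift _ ((algebraMap (A z) Al).comp φ.hom) fun r hr => ?_), ?_⟩
      · obtain ⟨c, rfl⟩ := Ideal.mem_span_singleton'.1 hr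
        rw [map_mul]
        exact mul_eq_zero_of_right _ (Ideal.Quotient.eq_zero_iff_mem.2 (Ideal.subset_span rfl))
      · ext r; rfl
    let rl : TE.left ⟶ Xl := pullback.lift (Spec.map (CommRingCat.ofHom (algebraMap (A z) Al)) ≫ j z) (Spec.map φl) (by
      rw [Category.assoc, ← hφ, ← Spec.map_comp, ← Spec.map_comp, hφl])
    let r : TE ⟶ L := Over.homMk rl (pullback.lift_fst _ _ _)
    let sz : TE ⟶ Over.mk (pullback.fst i (j z) ≫ i) :=
      Over.homMk (pullback.lift rl (Spec.map (CommRingCat.ofHom (algebraMap (A z) Al))) (pullback.lift_fst _ _ _))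
        (by
          show pullback.lift _ _ _ ≫ pullback.fst i (j z) ≫ i = _
          rw [pullback.lift_fst_assoc]
          exact pullback.lift_fst _ _ _)
    have hpiece : r ≫ ρ = V ((specPt (j z) qA ≫ id') ≫ y z) := by
      have h1 : r ≫ ρ = sz ≫ V (piece z ≫ y z) := by
        refine Over.OverMorphism.ext ?_
        show rl ≫ ρ₀ = pullback.lift rl _ _ ≫ (V (piece z ≫ y z)).left
        rw [← hρ₀, pullback.lift_fst_assoc]
      rw [h1, hV]
      exact hindep (hclT r) _ _
    have hEr : dv (r ≫ ρ) = dv (E' TE) := by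
      rw [dv_comp, ← hε, dv_comp, hE]
      show rl.appTop (i.appTop (εu : Γ(X, ⊤))) = TE.hom.appTop (εu : Γ(X, ⊤))
      rw [← CommRingCat.comp_apply, ← Scheme.Hom.comp_appTop, show rl ≫ i = TE.hom from pullback.lift_fst _ _ _]
    have hEq : E' TE = V ((specPt (j z) qA ≫ id') ≫ y z) := dv_injective (hEr.symm.trans (congrArg dv hpiece))
    -- divide by `lam`
    let y₀ : T ⟶ P := id' ≫ y z
    let q : Γ(T.left, ⊤) := dv (E' T) * ((isUnit_dv (V y₀)).unit⁻¹ : Γ(T.left, ⊤)ˣ)
    have hq : q * dv (V y₀) = dv (E' T) := by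
      show _ * ((isUnit_dv (V y₀)).unit : Γ(T.left, ⊤)) = _
      exact Units.inv_mul_cancel_right _ _
    let d : Γ(T.left, ⊤) := q - 1
    obtain ⟨c₀, hc₀⟩ := (val_id_bijective (j z) (R := A z)).2 d
    have hzero : Ideal.Quotient.mk (Ideal.span ({algebraMap R (A z) lam} : Set (A z))) c₀ = 0 := by
      refine (val_id_bijective (j z) (R := Al)).1 ?_
      have h : val (j z) (𝟙 TE) (qA c₀) = 0 := by
        rw [← val_specPt, Category.id_comp, ← Category.comp_id (specPt (j z) qA), val_comp, hc₀]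
        have h2 := congrArg (specPt (j z) qA).left.appTop hq
        rw [map_mul, ← dv_comp, ← dv_comp, hE', hV,
          show specPt (j z) qA ≫ y₀ = (specPt (j z) qA ≫ id') ≫ y z from (Category.assoc _ _ _).symm,
          ← hEq] at h2
        simp only [d, map_sub, map_one]
        rw [((isUnit_dv (E' TE)).mul_eq_right).1 h2, sub_self]
      exact h.trans (map_zero _).symm
    obtain ⟨c₁, hc₁⟩ := Ideal.mem_span_singleton'.1 (Ideal.Quotient.eq_zero_iff_mem.1 hzero)
    have hl : val (j z) (𝟙 T) (algebraMap R (A z) lam) = cl lam f T := by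
      show ((Scheme.ΓSpecIso (A z)).inv ≫ (𝟙 T.left : T.left ⟶ Spec (A z)).appTop) (φ lam) =
        ((Scheme.ΓSpecIso (CommRingCat.of R)).inv ≫ (T.hom ≫ f).appTop) lam
      have e : T.hom ≫ f = 𝟙 T.left ≫ Spec.map φ := by
        show (Spec.map (CommRingCat.ofHom (algebraMap (A z) (A z))) ≫ j z) ≫ f = _
        rw [show CommRingCat.ofHom (algebraMap (A z) (A z)) = 𝟙 _ from rfl, Spec.map_id, Category.assoc, hφ]
        rfl
      rw [e, Scheme.Hom.comp_appTop, ← Category.assoc, ← Scheme.ΓSpecIso_inv_naturality, Category.assoc]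
      rfl
    have hd : q = 1 + cl lam f T * val (j z) (𝟙 T) c₁ := by
      rw [← hl, ← map_mul, _root_.mul_comm, hc₁, hc₀]
      simp [d]
    obtain ⟨w, hw⟩ := exists_co_eq (lam := lam) (f := f) T (val (j z) (𝟙 T) c₁) (hd ▸ (isUnit_dv _).mul (Units.isUnit _))
    refine ⟨id'' ≫ dot a w y₀, ?_⟩
    have h1 : V (dot a w y₀) = E' T := by
      refine dv_injective ?_
      rw [hVdot, hw, ← hd, hq]
    rw [← hV, h1, hE']
  choose y' hy' using hfix
  have hinj : ∀ {T : Over X} [Flat (T.hom ≫ f)] (p q : T ⟶ P), V p = V q → p = q := fun {T} _ p q h =>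
    eq_of_val_eq hlam a hP.1 (fun y => dv (V y)) (fun y => isUnit_dv _) hVdot p q (congrArg dv h)
  have hagree' : ∀ z z', pullback.fst (𝒰.f z) (𝒰.f z') ≫ (y' z).left =
      pullback.snd (𝒰.f z) (𝒰.f z') ≫ (y' z').left := by
    intro z z'
    let T : Over X := Over.mk (pullback.fst (j z) (j z') ≫ j z)
    let r₁ : T ⟶ Over.mk (j z) := Over.homMk (pullback.fst (j z) (j z')) rfl
    let r₂ : T ⟶ Over.mk (j z') := Over.homMk (pullback.snd (j z) (j z')) pullback.condition.symm
    haveI : Flat (T.hom ≫ f) := inferInstanceAs (Flat ((pullback.fst (j z) (j z') ≫ j z) ≫ f))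
    have h := hinj (r₁ ≫ y' z) (r₂ ≫ y' z') (by rw [← hV, ← hV, hy', hy', hE', hE'])
    exact congrArg Over.Hom.left h
  refine ⟨𝒰.glueMorphisms (fun z => (y' z).left) hagree', Scheme.Cover.hom_ext 𝒰 _ _ fun z => ?_⟩
  rw [← Category.assoc, 𝒰.ι_glueMorphisms _ hagree' z, Category.comp_id]
  exact Over.w (y' z)

end


/-- Let R be a discrete valuation ring of characteristic zero and residue characteristic p, λ ≠ 0 in R,
and X a scheme flat over Spec R, with X_λ = X ×_R Spec(R/λR) its closed subscheme where λ vanishes.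
Suppose that the restriction map on global units Γ(X, O_X)^× → Γ(X_λ, O_{X_λ})^× is surjective and
that Pic X = 0, taken in the form the argument uses: every torsor for the fppf topology over X under
the multiplicative group has a section. Then every torsor for the fppf topology over X under (the
base change to X of) the affine R-group G^(λ) = Spec R[T, 1/(1+λT)] with law s + t + λst has a
section over X; that is, H¹(X, G^(λ)) is trivial. -/
theorem result (R : Type u) [CommRing R] [IsDomain R] [IsDiscreteValuationRing R] [CharZero R]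
    (p : ℕ) [Fact p.Prime] [CharP (IsLocalRing.ResidueField R) p]
    (lam : R) (hlam : lam ≠ 0)
    (X : Scheme.{u}) (f : X ⟶ Spec (CommRingCat.of R)) [Flat f]
    (hunit : Function.Surjective (Units.map
      (Limits.pullback.fst f (Spec.map (CommRingCat.ofHom (Ideal.Quotient.mk (Ideal.span ({lam} : Set R)))))).appTop.hom.toMonoidHom))
    (hpic : ∀ (Q : Over X) (b : AlgGrp.Action (Red.bc f (Red.diag R ℤ)) Q),
      NonAbH1.IsTorsorFor Scheme.fppfPrecoverage b → NonAbH1.HasSectionOver Q (𝟙 X))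
    (P : Over X) (a : AlgGrp.Action (Red.bc f (SekSuwa.G R lam)) P)
    (hP : NonAbH1.IsTorsorFor Scheme.fppfPrecoverage a) :
    NonAbH1.HasSectionOver P (𝟙 X) := by
  exact main hlam hunit hpic P a hP

end Groth.Agent.S14687
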