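import Groth.Statements.S14694
import Groth.Agent.Misc8.SekSuwaRing
import Mathlib.AlgebraicGeometry.Morphisms.FlatRank

set_option autoImplicit false
universe u
open CategoryTheory AlgebraicGeometry
open SekSuwa

namespace Groth.Agent.S14694

/-- For any commutative ring R, λ ∈ R and N ≥ 1 such that λ is a non-zero-divisor and λ^N divides (1 +
λX)^N − 1 in R[X] with quotient P_{λ,N}, the R-group scheme G_{λ,N}, defined as the closed subscheme
of the affine R-group G^(λ) = Spec R[T, 1/(1+λT)] cut out by P_{λ,N}(T), is finite locally free of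
degree N over Spec R (its coordinate ring is R[T]/(P_{λ,N}(T)) with P_{λ,N} monic of degree N). (The
published text states this over a discrete valuation ring with N = p^n: G_{λ,n} is a commutative
finite flat group scheme of rank p^n.) -/
theorem result (R : Type u) [CommRing R] (lam : R) (N : ℕ) (hN : 0 < N) (h : SekSuwa.DivCond lam N) :
    Mor2.IsFinLocFreeOfDeg N (SekSuwa.GK R lam N h).hom := by
  let e := Groth.Misc8.SekSuwaRing.equiv hN h
  let pb := AdjoinRoot.powerBasis' (Groth.Misc8.SekSuwaRing.monic hN h)
  have : Module.Finite R (SekSuwa.AK R lam N h) := Module.Finite.of_basis (pb.basis.map e.toLinearEquiv)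
  have : Module.Free R (SekSuwa.AK R lam N h) := Module.Free.of_basis (pb.basis.map e.toLinearEquiv)
  have hfp : Algebra.FinitePresentation R (SekSuwa.AK R lam N h) :=
    have : Algebra.FinitePresentation R (AdjoinRoot (SekSuwa.psiPoly lam N h)) :=
      Algebra.FinitePresentation.quotient (Submodule.fg_span_singleton _)
    Algebra.FinitePresentation.equiv e
  refine ⟨⟨?_, ?_, ?_⟩, fun y => ?_⟩
  · exact (IsFinite.SpecMap_iff _).mpr (RingHom.finite_algebraMap.mpr inferInstance)
  · exact Flat.SpecMap_iff.mpr (RingHom.flat_algebraMap_iff.mpr inferInstance)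
  · exact (HasRingHomProperty.Spec_iff (P := @LocallyOfFinitePresentation)).mpr
      (RingHom.finitePresentation_algebraMap.mpr hfp)
  · have : Nontrivial R := PrimeSpectrum.nonempty_iff_nontrivial.mp ⟨y⟩
    refine (Scheme.Hom.finrank_SpecMap_algebraMap R (SekSuwa.AK R lam N h) y).trans ?_
    rw [Module.rankAtStalk_eq_finrank_of_free]
    exact (Module.finrank_eq_card_basis (Groth.Misc8.SekSuwaRing.basis hN h)).trans (Fintype.card_fin N)

end Groth.Agent.S14694
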