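import Groth.Statements.S14695
import Groth.Agent.NeronArea.MappingDescent
import Groth.Agent.NeronArea.StalkGlue
import Groth.Agent.Variety2.Normal
import Groth.Agent.EtaleBase.FpqcDescent
import Groth.Agent.AlgSpBasic.Topology
import Groth.Prelude.Def_ActBC

set_option autoImplicit false
set_option backward.isDefEq.respectTransparency false
universe u
open CategoryTheory CategoryTheory.Limits AlgebraicGeometry MonoidalCategory CartesianMonoidalCategory MonObj

namespace Groth.Agent.S14695

/-- A rational section of an integral morphism to a normal integral scheme extends. -/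
theorem exists_section_of_generic {X P : Scheme.{u}} [IsIntegral X] (hX : Pi1.IsNormalScheme X)
    (q : P ⟶ X) [IsIntegralHom q]
    (a : Spec (X.presheaf.stalk (genericPoint X)) ⟶ P) (ha : a ≫ q = X.fromSpecStalk (genericPoint X)) :
    ∃ g : X ⟶ P, g ≫ q = 𝟙 X := by
  let c : Spec (X.presheaf.stalk (genericPoint X)) ⟶ X := X.fromSpecStalk (genericPoint X)
  haveI : IsDominant c := ⟨fun x => by
    refine closure_mono ?_ ((genericPoint_spec X).specializes (Set.mem_univ x)).mem_closure
    exact Set.singleton_subset_iff.2 ⟨_, Scheme.fromSpecStalk_closedPoint⟩⟩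
  haveI : IsSchemeTheoreticallyDominant c := .of_isDominant c
  haveI : QuasiCompact c := by
    haveI : Subsingleton ↥(Spec (X.presheaf.stalk (genericPoint X))) :=
      inferInstanceAs (Subsingleton (PrimeSpectrum X.functionField))
    exact ⟨fun V _ _ => (Set.toFinite _).isCompact⟩
  refine (Groth.NeronArea.exists_glue_of_local (𝟙 X) q c a fun x => ?_).imp fun g hg => hg.1
  obtain ⟨_, ⟨U, hU, rfl⟩, hxU, -⟩ :=
    X.isBasis_affineOpens.exists_subset_of_mem_open (Set.mem_univ x) isOpen_univ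
  haveI : Nonempty (U : Scheme.{u}) := ⟨⟨x, hxU⟩⟩
  haveI : Nonempty U := ⟨⟨x, hxU⟩⟩
  haveI : IsIntegrallyClosed Γ(X, U) := Groth.Variety2.isIntegrallyClosed_Γ (fun y => (hX y).2) U
  haveI : IsFractionRing Γ(X, U) X.functionField :=
    functionField_isFractionRing_of_isAffineOpen X U hU
  have hηU : genericPoint X ∈ U := ((genericPoint_spec X).specializes (Set.mem_univ x)).mem_open U.2 hxU
  let W : P.Opens := q ⁻¹ᵁ U
  have hW : IsAffineOpen W := hU.preimage q
  have htop : (⊤ : (Spec (X.presheaf.stalk (genericPoint X))).Opens) ≤ a ⁻¹ᵁ W := fun z _ => by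
    show q (a z) ∈ U
    rw [← Scheme.Hom.comp_apply, ha]
    have hz : c z ∈ Set.range c := Set.mem_range_self z
    rw [Scheme.range_fromSpecStalk] at hz
    exact hz.mem_open U.2 hηU
  let φ : Γ(P, W) ⟶ X.presheaf.stalk (genericPoint X) :=
    a.appLE W ⊤ htop ≫ (Scheme.ΓSpecIso _).hom
  have hφ : Spec.map φ ≫ hW.fromSpec = a := by
    rw [Spec.map_comp, Category.assoc, IsAffineOpen.SpecMap_appLE_fromSpec a hW (isAffineOpen_top _) htop,
      IsAffineOpen.fromSpec_top, ← Scheme.isoSpec_Spec_hom, Iso.hom_inv_id_assoc]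
  have hcU : Spec.map (X.presheaf.germ U (genericPoint X) hηU) ≫ hU.fromSpec = c :=
    hU.fromSpecStalk_eq_fromSpecStalk hηU
  have hψ : q.app U ≫ φ = X.presheaf.germ U (genericPoint X) hηU := by
    apply Spec.map_injective
    rw [← cancel_mono hU.fromSpec, hcU, Spec.map_comp, Category.assoc, ← Scheme.Hom.appLE_eq_app,
      IsAffineOpen.SpecMap_appLE_fromSpec q hU hW, reassoc_of% hφ, ha]
  have hint := IsIntegralHom.isIntegral_app q U hU
  have hrange : ∀ b : Γ(P, W), ∃ r : Γ(X, U), X.presheaf.germ U (genericPoint X) hηU r = φ b := by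
    intro b
    have h1 : ((φ.hom).comp (q.app U).hom).IsIntegralElem (φ b) := by
      obtain ⟨f, hf, hfb⟩ := hint b
      exact ⟨f, hf, by rw [← Polynomial.hom_eval₂, hfb, map_zero]⟩
    rw [← CommRingCat.hom_comp, hψ] at h1
    exact (IsIntegrallyClosed.isIntegral_iff (R := Γ(X, U)) (K := X.functionField)).1 h1
  choose r hr using hrange
  have hinj : Function.Injective (X.presheaf.germ U (genericPoint X) hηU) :=
    germ_injective_of_isIntegral X (genericPoint X) hηU
  let β : Γ(P, W) ⟶ Γ(X, U) := CommRingCat.ofHom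
    { toFun := r
      map_one' := hinj (by rw [hr, map_one, map_one])
      map_mul' := fun s t => hinj (by rw [hr, map_mul, map_mul, hr, hr])
      map_zero' := hinj (by rw [hr, map_zero, map_zero])
      map_add' := fun s t => hinj (by rw [hr, map_add, map_add, hr, hr]) }
  have hβ : β ≫ X.presheaf.germ U (genericPoint X) hηU = φ := by ext b; exact hr b
  have hβq : q.app U ≫ β = 𝟙 _ := by
    ext s
    apply hinj
    have := congrArg (fun k => k.hom s) hψ
    exact (hr _).trans this
  refine ⟨U, hU.isoSpec.hom ≫ Spec.map β ≫ hW.fromSpec, hxU, ?_, fun {Z} t w htw => ?_⟩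
  · simp only [Category.assoc, Category.comp_id]
    rw [← IsAffineOpen.SpecMap_appLE_fromSpec q hU hW le_rfl, Scheme.Hom.appLE_eq_app,
      ← Spec.map_comp_assoc, hβq, Spec.map_id, Category.id_comp, IsAffineOpen.isoSpec_hom_fromSpec]
  · have ht : t = w ≫ Spec.map (X.presheaf.germ U (genericPoint X) hηU) ≫ hU.isoSpec.inv := by
      rw [← cancel_mono (Scheme.Opens.ι U), htw]
      simp only [Category.assoc, IsAffineOpen.isoSpec_inv_ι, hcU]
    rw [ht]
    simp only [Category.assoc, Iso.inv_hom_id_assoc]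
    rw [← Spec.map_comp_assoc, hβ, hφ]

theorem flat_to_field {K : Type u} [Field K] {A : Scheme.{u}} (f : A ⟶ Spec (CommRingCat.of K)) :
    Flat f := by
  rw [IsZariskiLocalAtSource.iff_of_openCover (P := @Flat) A.affineCover]
  intro i
  obtain ⟨φ, hφ⟩ := Spec.map_surjective (A.affineCover.f i ≫ f)
  rw [← hφ, Flat.SpecMap_iff]
  algebraize [φ.hom]
  show RingHom.Flat _
  exact RingHom.flat_algebraMap_iff.2 inferInstance

/-- An equivariant morphism of pseudo-torsors along an isomorphism of groups is bijective on points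
which exist after a flat cover. -/
theorem exists_lift_point {S : Scheme.{u}} {G G' X X' : Over S} [GrpObj G] [GrpObj G']
    (g : G ⟶ G') [IsMonHom g] [IsIso g] (a : AlgGrp.Action G X) (a' : AlgGrp.Action G' X')
    (ha : NonAbH1.IsPseudoTorsorSch a) (ha' : NonAbH1.IsPseudoTorsorSch a')
    (f : X ⟶ X') (hf : a.act ≫ f = lift (fst G X ≫ g) (snd G X ≫ f) ≫ a'.act)
    [EffectiveEpi X.hom] (y : 𝟙_ (Over S) ⟶ X') : ∃ x : 𝟙_ (Over S) ⟶ X, x ≫ f = y := by
  have hpt : ∀ {T : Over S} (d : T ⟶ G) (x : T ⟶ X),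
      (lift d x ≫ a.act) ≫ f = lift (d ≫ g) (x ≫ f) ≫ a'.act := fun d x => by
    rw [Category.assoc, hf, ← Category.assoc, comp_lift, lift_fst_assoc, lift_snd_assoc]
  have hinj : ∀ {T : Over S} (x x' : T ⟶ X), x ≫ f = x' ≫ f → x = x' := fun {T} x x' h => by
    have h1 := hpt (Groth.NeronArea.torsorDiv a ha x x') x'
    rw [Groth.NeronArea.torsorDiv_act, h] at h1
    have h2 : Groth.NeronArea.torsorDiv a ha x x' ≫ g = 1 :=
      Groth.NeronArea.torsor_cancel a' ha' _ _ (x' ≫ f) (by rw [← h1, Groth.NeronArea.one_act_eq])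
    have h3 : Groth.NeronArea.torsorDiv a ha x x' = 1 := by
      rw [← cancel_mono g, h2, MonObj.one_comp]
    rw [← Groth.NeronArea.torsorDiv_act a ha x x', h3, Groth.NeronArea.one_act_eq]
  let d : X ⟶ G := Groth.NeronArea.torsorDiv a' ha' (toUnit X ≫ y) f ≫ inv g
  obtain ⟨x₁, hx₁⟩ : ∃ x₁ : X ⟶ X, x₁ ≫ f = toUnit X ≫ y := by
    refine ⟨lift d (𝟙 X) ≫ a.act, ?_⟩
    rw [hpt]
    simp [d, Groth.NeronArea.torsorDiv_act]
  have hcond : ∀ {Z : Scheme.{u}} (u₁ u₂ : Z ⟶ X.left), u₁ ≫ X.hom = u₂ ≫ X.hom →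
      u₁ ≫ x₁.left = u₂ ≫ x₁.left := fun {Z} u₁ u₂ hu => by
    let T : Over S := Over.mk (u₁ ≫ X.hom)
    let v₁ : T ⟶ X := Over.homMk u₁ rfl
    let v₂ : T ⟶ X := Over.homMk u₂ hu.symm
    have := hinj (v₁ ≫ x₁) (v₂ ≫ x₁) (by
      rw [Category.assoc, Category.assoc, hx₁, ← Category.assoc, ← Category.assoc]
      congr 1
      exact toUnit_unique _ _)
    exact congrArg CommaMorphism.left this
  let x₀ := EffectiveEpi.desc X.hom x₁.left hcond
  have hx₀ : X.hom ≫ x₀ = x₁.left := EffectiveEpi.fac X.hom x₁.left hcond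
  let x : 𝟙_ (Over S) ⟶ X := Over.homMk x₀ (by
    rw [← cancel_epi X.hom, reassoc_of% hx₀, Over.w x₁]
    exact (Category.comp_id _).symm)
  have hx : toUnit X ≫ x = x₁ := Over.OverMorphism.ext (by simpa [x] using hx₀)
  haveI : Epi (toUnit X) := by
    haveI : Epi (toUnit X).left := by simpa using (inferInstance : Epi X.hom)
    exact Over.epi_of_epi_left _
  exact ⟨x, by rw [← cancel_epi (toUnit X), ← Category.assoc, hx, hx₁]⟩

theorem result {X : Scheme.{u}} [IsIntegral X]
    (hX : Pi1.IsNormalScheme X) (G G' : Over X) [GrpObj G] [GrpObj G']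
    [IsFinite G.hom] [Flat G.hom] [IsFinite G'.hom] [Flat G'.hom]
    (g : G ⟶ G') [IsMonHom g]
    (hg : IsIso ((Over.pullback (X.fromSpecStalk (genericPoint X))).map g))
    (P : Over X) (a : AlgGrp.Action G P) (hP : NonAbH1.IsTorsorFor Scheme.fppfPrecoverage a)
    (P' : Over X) (a' : AlgGrp.Action G' P') (hP' : NonAbH1.IsTorsorFor Scheme.fppfPrecoverage a')
    (hpush : NonAbH1.IsPushforwardAlongSch g a a') (htriv : NonAbH1.HasSectionOver P' (𝟙 X)) :
    NonAbH1.HasSectionOver P (𝟙 X) := by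
  haveI : MorphismProperty.IsLocalAtTarget (@IsFinite.{u}) Scheme.fppfPrecoverage :=
    Groth.AlgSpBasic.isLocalAtTarget_fppf _
  haveI : IsFinite P.hom := Groth.NeronArea.property_of_isLocallyTrivial a hP.1 @IsFinite hP.2 inferInstance
  haveI : Surjective P.hom := Groth.NeronArea.surjective_of_isLocallyTrivial hP.2
  obtain ⟨f, hf⟩ := hpush
  let j := X.fromSpecStalk (genericPoint X)
  haveI := hg
  haveI : Flat (pullback.snd P.hom j) := by
    haveI : Subsingleton ↥(Spec (X.presheaf.stalk (genericPoint X))) :=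
      inferInstanceAs (Subsingleton (PrimeSpectrum X.functionField))
    exact flat_to_field (K := X.functionField) (pullback.snd P.hom j)
  haveI : EffectiveEpi ((Over.pullback j).obj P).hom :=
    (inferInstance : EffectiveEpi (pullback.snd P.hom j))
  obtain ⟨t, ht⟩ := htriv
  let y : 𝟙_ (Over (Spec (X.presheaf.stalk (genericPoint X)))) ⟶ (Over.pullback j).obj P' :=
    Over.homMk (pullback.lift (j ≫ t) (𝟙 _) (by rw [Category.assoc, ht, Category.comp_id, Category.id_comp]))
      (pullback.lift_snd _ _ _)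
  obtain ⟨x, hx⟩ := exists_lift_point ((Over.pullback j).map g) (a.bc j) (a'.bc j)
    (NonAbH1.isPseudoTorsorSch_bc j hP.1) (NonAbH1.isPseudoTorsorSch_bc j hP'.1) ((Over.pullback j).map f)
    (by
      rw [AlgGrp.Action.bc_act, AlgGrp.Action.bc_act, Category.assoc, ← Functor.map_comp, hf,
        Functor.map_comp, ← Category.assoc, ← Category.assoc]
      congr 1
      rw [← Functor.Monoidal.lift_μ, comp_lift_assoc, Functor.map_comp, Functor.map_comp]
      simp only [← Category.assoc, Functor.Monoidal.μ_fst, Functor.Monoidal.μ_snd]) y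
  obtain ⟨s, hs⟩ := exists_section_of_generic hX P.hom (x.left ≫ pullback.fst P.hom j) (by
    have hw : x.left ≫ pullback.snd P.hom j = 𝟙 _ := Over.w x
    rw [Category.assoc, pullback.condition, reassoc_of% hw])
  exact ⟨s, hs⟩

end Groth.Agent.S14695
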