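import Groth.Statements.S14688
import Groth.Agent.S14694
import Groth.Agent.S14695
import Groth.Agent.Misc8.SekSuwaRing
set_option backward.isDefEq.respectTransparency false
set_option backward.isDefEq.respectTransparency.types false

set_option autoImplicit false
universe u
open CategoryTheory AlgebraicGeometry
open SekSuwa

open scoped TensorProduct

namespace Groth.Agent.S14688

/-- The homomorphism to `μ_N` becomes bijective over a field in which `λ` does not vanish. -/
theorem bijective_tensor {R : Type u} [CommRing R] [Nontrivial R] {lam : R} {N : ℕ} (hN : 0 < N)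
    (h : SekSuwa.DivCond lam N) (L : Type u) [Field L] [Algebra R L] (hl : algebraMap R L lam ≠ 0) :
    Function.Bijective (Algebra.TensorProduct.map
      ((SekSuwa.alphaNHom R lam N h).toAlgHom) (AlgHom.id R L)) := by
  let m : MonoidAlgebra R (Multiplicative (ZMod N)) →ₐ[R] SekSuwa.AK R lam N h :=
    (SekSuwa.alphaNHom R lam N h).toAlgHom
  haveI : NeZero N := ⟨hN.ne'⟩
  haveI : Fintype (Multiplicative (ZMod N)) := inferInstance
  haveI : Module.Free R (SekSuwa.AK R lam N h) := Module.Free.of_basis (Groth.Misc8.SekSuwaRing.basis hN h)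
  haveI : Module.Finite R (SekSuwa.AK R lam N h) := Module.Finite.of_basis (Groth.Misc8.SekSuwaRing.basis hN h)
  let F := Algebra.TensorProduct.map (AlgHom.id L L) m
  have hgen : Algebra.adjoin R ({SekSuwa.AK.t} : Set (SekSuwa.AK R lam N h)) = ⊤ := by
    have hr : (Groth.Misc8.SekSuwaRing.toAK h).range = ⊤ :=
      (AlgHom.range_eq_top _).2 (Groth.Misc8.SekSuwaRing.equiv hN h).surjective
    rw [← hr, ← Algebra.map_top, ← AdjoinRoot.adjoinRoot_eq_top, AlgHom.map_adjoin, Set.image_singleton,
      Groth.Misc8.SekSuwaRing.toAK_root h]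
  have hsur : Function.Surjective F := by
    intro z
    have hmem : ∀ b : SekSuwa.AK R lam N h, (1 : L) ⊗ₜ[R] b ∈ Set.range F := by
      intro b
      have hb : b ∈ Algebra.adjoin R ({SekSuwa.AK.t} : Set (SekSuwa.AK R lam N h)) := by rw [hgen]; trivial
      induction hb using Algebra.adjoin_induction with
      | mem x hx =>
        obtain rfl := Set.mem_singleton_iff.1 hx
        refine ⟨(algebraMap R L lam)⁻¹ •
          ((1 : L) ⊗ₜ MonoidAlgebra.single (Multiplicative.ofAdd (1 : ZMod N)) (1 : R) - 1), ?_⟩
        have e : m (MonoidAlgebra.single (Multiplicative.ofAdd (1 : ZMod N)) (1 : R)) =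
            1 + lam • SekSuwa.AK.t := SekSuwa.alphaNHom_single_one (R := R) (lam := lam) (N := N) (h := h)
        have e1 : (1 : L) ⊗ₜ[R] (lam • SekSuwa.AK.t : SekSuwa.AK R lam N h) =
            algebraMap R L lam • ((1 : L) ⊗ₜ[R] (SekSuwa.AK.t : SekSuwa.AK R lam N h)) := by
          rw [← TensorProduct.smul_tmul, TensorProduct.smul_tmul', Algebra.smul_def, smul_eq_mul]
        rw [map_smul, map_sub, map_one F, Algebra.TensorProduct.map_tmul]
        erw [e]
        rw [TensorProduct.tmul_add, AlgHom.id_apply, Algebra.TensorProduct.one_def, add_sub_cancel_left, e1,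
          inv_smul_smul₀ hl]
      | algebraMap r => exact ⟨(1 : L) ⊗ₜ algebraMap R _ r, by
          rw [Algebra.TensorProduct.map_tmul, AlgHom.commutes]; rfl⟩
      | add x y _ _ hx hy =>
        obtain ⟨a, ha⟩ := hx; obtain ⟨b, hb⟩ := hy
        exact ⟨a + b, by rw [map_add, ha, hb, TensorProduct.tmul_add]⟩
      | mul x y _ _ hx hy =>
        obtain ⟨a, ha⟩ := hx; obtain ⟨b, hb⟩ := hy
        exact ⟨a * b, by rw [map_mul, ha, hb, Algebra.TensorProduct.tmul_mul_tmul, one_mul]⟩
    induction z with
    | zero => exact ⟨0, map_zero F⟩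
    | tmul l b =>
      obtain ⟨a, ha⟩ := hmem b
      exact ⟨l • a, by rw [map_smul, ha, TensorProduct.smul_tmul', smul_eq_mul, mul_one]⟩
    | add x y hx hy =>
      obtain ⟨a, ha⟩ := hx; obtain ⟨b, hb⟩ := hy
      exact ⟨a + b, by rw [map_add, ha, hb]⟩
  have hrank : Module.finrank L (TensorProduct R L (MonoidAlgebra R (Multiplicative (ZMod N)))) =
      Module.finrank L (TensorProduct R L (SekSuwa.AK R lam N h)) := by
    rw [Module.finrank_baseChange, Module.finrank_baseChange,
      Module.finrank_eq_card_basis (Groth.Misc8.SekSuwaRing.basis hN h),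
      Module.finrank_eq_card_basis (MonoidAlgebra.basis (Multiplicative (ZMod N)) R),
      Fintype.card_fin]
    exact (Fintype.card_congr Multiplicative.toAdd).trans (ZMod.card N)
  have hinj : Function.Injective F :=
    (LinearMap.injective_iff_surjective_of_finrank_eq_finrank hrank (f := F.toLinearMap)).2 hsur
  have e : ⇑(Algebra.TensorProduct.map m (AlgHom.id R L)) =
      (Algebra.TensorProduct.comm R L (SekSuwa.AK R lam N h)) ∘ F ∘
        (Algebra.TensorProduct.comm R (MonoidAlgebra R (Multiplicative (ZMod N))) L) := by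
    funext x
    induction x with
    | zero => simp
    | tmul a b => simp [F]
    | add a b ha hb => simp only [Function.comp_apply, map_add] at ha hb ⊢; rw [ha, hb]
  show Function.Bijective ⇑(Algebra.TensorProduct.map m (AlgHom.id R L))
  rw [e]
  exact (Algebra.TensorProduct.comm R _ _).bijective.comp (Function.Bijective.comp ⟨hinj, hsur⟩
    (Algebra.TensorProduct.comm R _ _).bijective)

/-- The homomorphism to `μ_N` is an isomorphism after base change to such a field. -/
theorem isIso_pullback_alphaN {R : Type u} [CommRing R] [Nontrivial R] {lam : R} {N : ℕ} (hN : 0 < N)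
    (h : SekSuwa.DivCond lam N) (L : Type u) [Field L] [Algebra R L] (hl : algebraMap R L lam ≠ 0) :
    IsIso ((Over.pullback (Spec.map (CommRingCat.ofHom (algebraMap R L)))).map (SekSuwa.alphaN R lam N h)) := by
  let k := Spec.map (CommRingCat.ofHom (algebraMap R L))
  let A := SekSuwa.AK R lam N h
  let D := MonoidAlgebra R (Multiplicative (ZMod N))
  let ψ := Algebra.TensorProduct.map ((SekSuwa.alphaNHom R lam N h).toAlgHom) (AlgHom.id R L)
  haveI : IsIso (CommRingCat.ofHom ψ.toRingHom) :=
    (ConcreteCategory.isIso_iff_bijective _).2 (bijective_tensor hN h L hl)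
  have e : ((Over.pullback k).map (SekSuwa.alphaN R lam N h)).left =
      (pullbackSpecIso R A L).hom ≫ Spec.map (CommRingCat.ofHom ψ.toRingHom) ≫ (pullbackSpecIso R D L).inv := by
    rw [← Iso.inv_comp_eq]
    apply Limits.pullback.hom_ext
    · simp only [Category.assoc]
      erw [Limits.pullback.lift_fst, pullbackSpecIso_inv_fst_assoc, pullbackSpecIso_inv_fst]
      show Spec.map _ ≫ Spec.map _ = Spec.map _ ≫ Spec.map _
      rw [← Spec.map_comp, ← Spec.map_comp]
      congr 1
    · simp only [Category.assoc]
      erw [Limits.pullback.lift_snd, pullbackSpecIso_inv_snd, pullbackSpecIso_inv_snd]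
      rw [← Spec.map_comp]
      congr 1
      ext x
      exact ((Algebra.TensorProduct.map_tmul _ _ (1 : D) x).trans (by rw [map_one]; rfl)).symm
  haveI : IsIso ((Over.forget _).map ((Over.pullback k).map (SekSuwa.alphaN R lam N h))) := by
    show IsIso ((Over.pullback k).map (SekSuwa.alphaN R lam N h)).left
    rw [e]; infer_instance
  exact isIso_of_reflects_iso _ (Over.forget _)


/-- Let R be a discrete valuation ring of characteristic zero and residue characteristic p, n ≥ 1, λ ∈ R
satisfying the divisibility condition under which the finite flat R-group scheme G_{λ,n} (the kernel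
of ψ on the one-parameter group with law s + t + λst, of order p^n) and its homomorphism α^{λ,n} to
μ_{p^n} are defined, and X a normal integral scheme which is faithfully flat over Spec R. If an fppf
torsor P over X under G_{λ,n} becomes trivial after extension of the structure group along α^{λ,n} —
there is an fppf μ_{p^n}-torsor P' over X with an α^{λ,n}-equivariant X-morphism P → P', and P' has
a section over X — then P has a section over X. So H¹(X, G_{λ,n}) → H¹(X, μ_{p^n}) has trivial
kernel, and the groups H¹(X, G_{π^i,n}) for decreasing i form an increasing filtration of H¹(X,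
μ_{p^n}). (The published statement is the filtration itself, for the commutative groups in question
injectivity of these homomorphisms; the trivial-kernel assertion stated here is what the argument
establishes.) -/
theorem result (R : Type u) [CommRing R] [IsDomain R] [IsDiscreteValuationRing R] [CharZero R]
    (p : ℕ) [Fact p.Prime] [CharP (IsLocalRing.ResidueField R) p]
    (n : ℕ) (hn : 0 < n) (lam : R) (h : SekSuwa.DivCond lam (p ^ n))
    (X : Scheme.{u}) [IsIntegral X] (hX : Pi1.IsNormalScheme X)
    (f : X ⟶ Spec (CommRingCat.of R)) [Flat f] [Surjective f]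
    (P : Over X) (a : AlgGrp.Action (Red.bc f (SekSuwa.GK R lam (p ^ n) h)) P)
    (hP : NonAbH1.IsTorsorFor Scheme.fppfPrecoverage a)
    (P' : Over X) (a' : AlgGrp.Action (Red.bc f (Red.diag R (ZMod (p ^ n)))) P')
    (hP' : NonAbH1.IsTorsorFor Scheme.fppfPrecoverage a')
    (hpush : NonAbH1.IsPushforwardAlongSch ((Over.pullback f).map (SekSuwa.alphaN R lam (p ^ n) h)) a a')
    (htriv : NonAbH1.HasSectionOver P' (𝟙 X)) :
    NonAbH1.HasSectionOver P (𝟙 X) := by
  have hN : 0 < p ^ n := pow_pos (Fact.out : p.Prime).pos n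
  let η := genericPoint X
  obtain ⟨φ, hφ⟩ := Spec.map_surjective (X.fromSpecStalk η ≫ f)
  letI : Algebra R X.functionField := φ.hom.toAlgebra
  have hinj : Function.Injective (algebraMap R X.functionField) := by
    rw [RingHom.injective_iff_ker_eq_bot]
    have hη : f η = (⟨⊥, Ideal.isPrime_bot⟩ : PrimeSpectrum R) := by
      obtain ⟨x, hx⟩ := f.surjective (⟨⊥, Ideal.isPrime_bot⟩ : PrimeSpectrum R)
      have hs : f η ⤳ (⟨⊥, Ideal.isPrime_bot⟩ : PrimeSpectrum R) :=
        hx ▸ (genericPoint_specializes x).map f.continuous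
      exact PrimeSpectrum.ext (le_bot_iff.1 ((PrimeSpectrum.le_iff_specializes _ _).2 hs))
    have h0 : (Spec.map φ) (IsLocalRing.closedPoint (X.presheaf.stalk η)) = f η := by
      rw [hφ, Scheme.Hom.comp_apply, Scheme.fromSpecStalk_closedPoint]
    rw [hη] at h0
    have h1 := congrArg PrimeSpectrum.asIdeal h0
    refine Eq.trans ?_ h1
    show _ = Ideal.comap φ.hom (IsLocalRing.maximalIdeal X.functionField)
    rw [IsLocalRing.isField_iff_maximalIdeal_eq.1 (Field.toIsField X.functionField)]
    rfl
  have hl : algebraMap R X.functionField lam ≠ 0 := fun e =>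
    nonZeroDivisors.ne_zero h.nzd (hinj (e.trans (map_zero _).symm))
  have hfl := (Groth.Agent.S14694.result R lam (p ^ n) hN h).1
  have : IsFinite (SekSuwa.GK R lam (p ^ n) h).hom := hfl.1
  have : Flat (SekSuwa.GK R lam (p ^ n) h).hom := hfl.2.1
  haveI : NeZero (p ^ n) := ⟨hN.ne'⟩
  have : IsFinite (Red.diag R (ZMod (p ^ n))).hom :=
    (IsFinite.SpecMap_iff _).mpr (RingHom.finite_algebraMap.mpr
      (Module.Finite.of_basis (MonoidAlgebra.basis (Multiplicative (ZMod (p ^ n))) R)))
  have : Flat (Red.diag R (ZMod (p ^ n))).hom :=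
    Flat.SpecMap_iff.mpr (RingHom.flat_algebraMap_iff.mpr inferInstance)
  have : IsFinite (Red.bc f (SekSuwa.GK R lam (p ^ n) h)).hom :=
    inferInstanceAs (IsFinite (Limits.pullback.snd _ _))
  have : Flat (Red.bc f (SekSuwa.GK R lam (p ^ n) h)).hom :=
    inferInstanceAs (Flat (Limits.pullback.snd _ _))
  have : IsFinite (Red.bc f (Red.diag R (ZMod (p ^ n)))).hom :=
    inferInstanceAs (IsFinite (Limits.pullback.snd _ _))
  have : Flat (Red.bc f (Red.diag R (ZMod (p ^ n)))).hom :=
    inferInstanceAs (Flat (Limits.pullback.snd _ _))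
  have hiso : IsIso ((Over.pullback (X.fromSpecStalk η)).map
      ((Over.pullback f).map (SekSuwa.alphaN R lam (p ^ n) h))) := by
    have h1 := isIso_pullback_alphaN hN h X.functionField hl
    have hk : (Spec.map (CommRingCat.ofHom (algebraMap R X.functionField))) = X.fromSpecStalk η ≫ f := hφ
    rw [hk] at h1
    exact (NatIso.isIso_map_iff (Over.pullbackComp (X.fromSpecStalk η) f) (SekSuwa.alphaN R lam (p ^ n) h)).1 h1
  exact Groth.Agent.S14695.result hX _ _ ((Over.pullback f).map (SekSuwa.alphaN R lam (p ^ n) h)) hiso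
    P a hP P' a' hP' hpush htriv

end Groth.Agent.S14688
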