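import Groth.Statements.S14691
import Groth.Agent.GrpschAbsch.Deligne

set_option autoImplicit false
universe u
open CategoryTheory AlgebraicGeometry
open SekSuwa

namespace Groth.Agent.S14691

open MonObj

theorem nsmul_eq_comp {C : Type*} [Category C] [Abelian C] [HasExt C] {X Y : C} {n : ℕ} (k : ℕ)
    (x : Abelian.Ext X Y n) : k • x = (Abelian.Ext.mk₀ (k • 𝟙 X)).comp x (zero_add n) := by
  induction k with
  | zero => simp
  | succ k ih => rw [succ_nsmul, succ_nsmul, ih, Abelian.Ext.mk₀_add, Abelian.Ext.add_comp, Abelian.Ext.mk₀_id_comp]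

theorem nsmul_id_pts {S : Scheme.{u}} (K : Precoverage Scheme.{u}) [(QuotSh.J K S).Subcanonical]
    (G : Over S) [GrpObj G] [IsCommMonObj G] (m : ℕ) (h : (𝟙 G : G ⟶ G) ^ m = 1) :
    m • 𝟙 (CGrpSh.pts K G) = 0 := by
  refine Sheaf.hom_ext (NatTrans.ext (funext fun T => AddCommGrpCat.ext fun x => ?_))
  have e : (m • 𝟙 (CGrpSh.pts K G)).hom.app T x = m • x := by
    clear h
    induction m with
    | zero => simp
    | succ m ih => rw [succ_nsmul, succ_nsmul, ← ih]; rfl
  rw [e]
  refine ULift.ext _ _ ?_
  show Additive.ofMul (x.down.toMul ^ m) = 0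
  rw [← Category.comp_id x.down.toMul, ← MonObj.comp_pow, h, MonObj.comp_one]
  rfl

/-- Let R be a discrete valuation ring of characteristic zero and residue characteristic p, and G a
commutative finite flat R-group scheme of order m (finite locally free of degree m over Spec R).
Then the endomorphism of Ext¹(G, 𝔾_m) induced by the m-th power map of the multiplicative group —
that is, multiplication by m on this group — is zero. Here Ext¹ is taken between the abelian sheaves
of points of G and of the split multiplicative group on the big fppf site of Spec R. (The published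
statement is made under a standing assumption that R contains a primitive p²-th root of unity; this
row does not assume it, the argument not using it.) -/
theorem result (R : Type u) [CommRing R] [IsDomain R] [IsDiscreteValuationRing R] [CharZero R]
    (p : ℕ) [Fact p.Prime] [CharP (IsLocalRing.ResidueField R) p]
    (G : Over (Spec (CommRingCat.of R))) [GrpObj G] [IsCommMonObj G]
    (m : ℕ) (hG : Mor2.IsFinLocFreeOfDeg m G.hom)
    (x : CGrpSh.ExtS Scheme.fppfPrecoverage G (Red.diag R ℤ) 1) : m • x = 0 := by
  obtain ⟨⟨_, _, _⟩, hdeg⟩ := hG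
  have hk := Groth.GrpschAbsch.pow_rank_eq_one G m hdeg
  rw [nsmul_eq_comp, nsmul_id_pts _ G m hk, Abelian.Ext.mk₀_zero, Abelian.Ext.zero_comp]

end Groth.Agent.S14691
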