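import Groth.Statements.S14692
import Mathlib
-- import your own Groth.Agent.* helpers here

set_option autoImplicit false
universe u
open CAlg

namespace Groth.Agent.S14692

open Polynomial in
theorem exists_expand {A : Type u} [CommRing A] (ϖ : A) (p n J m : ℕ) (hp : p.Prime) (hm : m ≤ J)
    (hdiv : ∀ i, 1 ≤ i → i < p ^ n → ϖ ^ (J * (p ^ n - i)) ∣ ((p ^ n).choose i : A)) :
    ∃ Q : A[X], Q.degree < p ^ n ∧ (C (ϖ ^ m) * X + 1) ^ (p ^ n) = 1 + C (ϖ ^ (m * p ^ n)) * (X ^ (p ^ n) + Q)
      ∧ (m < J → ∃ Q' : A[X], Q = C ϖ * Q') := by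
  classical
  choose! d hd using hdiv
  refine ⟨∑ i ∈ Finset.Ico 1 (p ^ n), C (ϖ ^ ((J - m) * (p ^ n - i)) * d i) * X ^ i, ?_, ?_, ?_⟩
  · refine (Polynomial.degree_sum_le _ _).trans_lt ((Finset.sup_lt_iff (WithBot.bot_lt_coe _)).2 fun i hi => ?_)
    exact (degree_C_mul_X_pow_le _ _).trans_lt (Nat.cast_lt.2 (Finset.mem_Ico.1 hi).2)
  · rw [add_pow, Finset.sum_range_succ, Finset.range_eq_Ico, Finset.sum_eq_sum_Ico_succ_bot (pow_pos hp.pos _),
      mul_add, Finset.mul_sum]
    simp only [pow_zero, one_pow, mul_one, Nat.choose_zero_right, Nat.choose_self, Nat.cast_one, zero_add,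
      mul_pow, ← C_pow, ← pow_mul]
    rw [add_assoc, add_comm (C (ϖ ^ (m * p ^ n)) * X ^ p ^ n)]
    congr 2
    refine Finset.sum_congr rfl fun i hi => ?_
    obtain ⟨hi1, hi2⟩ := Finset.mem_Ico.1 hi
    rw [← Polynomial.C_eq_natCast, hd i hi1 hi2, mul_right_comm, ← C_mul, ← mul_assoc (C (ϖ ^ (m * p ^ n))), ← C_mul]
    congr 2
    rw [← mul_assoc, ← mul_assoc, ← pow_add, ← pow_add]
    congr 2
    zify [hm, hi2.le]
    ring
  · intro hlt
    refine ⟨∑ i ∈ Finset.Ico 1 (p ^ n), C (ϖ ^ ((J - m) * (p ^ n - i) - 1) * d i) * X ^ i, ?_⟩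
    rw [Finset.mul_sum]
    refine Finset.sum_congr rfl fun i hi => ?_
    have : 0 < (J - m) * (p ^ n - i) := Nat.mul_pos (by omega) (by have := (Finset.mem_Ico.1 hi).2; omega)
    rw [← mul_assoc, ← C_mul, ← mul_assoc ϖ, ← pow_succ', Nat.sub_add_cancel this]

theorem sub_pow_le (p n : ℕ) (hp : p.Prime) : ∀ k ≤ n, p ^ n - p ^ (n - k) ≤ k * (p ^ (n - 1) * (p - 1)) := by
  intro k hk
  induction k with
  | zero => simp
  | succ k ih =>
    have h1 := ih (by omega)
    obtain ⟨t, ht⟩ : ∃ t, n - k = t + 1 := ⟨n - k - 1, by omega⟩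
    have h2 : p ^ t * (p - 1) ≤ p ^ (n - 1) * (p - 1) :=
      Nat.mul_le_mul_right _ (Nat.pow_le_pow_right hp.pos (by omega))
    have h3 : p ^ (t + 1) = p ^ t * (p - 1) + p ^ t := by
      rw [pow_succ, ← Nat.mul_succ, Nat.succ_eq_add_one, Nat.sub_add_cancel hp.one_le]
    rw [show n - (k + 1) = t by omega, Nat.succ_mul]
    rw [ht] at h1
    omega

theorem pow_dvd_choose {A : Type u} [CommRing A] (ϖ : A) (p n J : ℕ) (hp : p.Prime) (hn : 0 < n)
    (h : ϖ ^ (p ^ (n - 1) * (p - 1) * J) ∣ (p : A)) (i : ℕ) (hi1 : 1 ≤ i) (hi : i < p ^ n) :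
    ϖ ^ (J * (p ^ n - i)) ∣ ((p ^ n).choose i : A) := by
  have hv : ((p ^ n).choose i).factorization p = n - i.factorization p :=
    Nat.factorization_choose_prime_pow hp hi.le (by omega)
  set s := i.factorization p
  have hs : p ^ s ≤ i := Nat.ordProj_le p (by omega)
  have hsn : s ≤ n := (Nat.pow_lt_pow_iff_right hp.one_lt).1 (hs.trans_lt hi) |>.le
  have h1 := sub_pow_le p n hp (n - s) (Nat.sub_le _ _)
  rw [Nat.sub_sub_self hsn] at h1
  have h2 : p ^ (n - s) ∣ (p ^ n).choose i := hv ▸ Nat.ordProj_dvd _ _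
  refine dvd_trans ?_ (Nat.cast_dvd_cast (α := A) h2)
  rw [Nat.cast_pow]
  refine dvd_trans ?_ (pow_dvd_pow_of_dvd h (n - s))
  rw [← pow_mul]
  refine pow_dvd_pow _ ?_
  calc J * (p ^ n - i) ≤ J * ((n - s) * (p ^ (n - 1) * (p - 1))) := Nat.mul_le_mul_left _ (by omega)
    _ = p ^ (n - 1) * (p - 1) * J * (n - s) := by ring

theorem main {A : Type u} [CommRing A] [IsDomain A] [IsIntegrallyClosed A] (π : A) (hπ0 : π ≠ 0)
    (hlift : ∀ a : A, IsUnit (Ideal.Quotient.mk (Ideal.span {π}) a) → IsUnit a)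
    (p n : ℕ) (hp : p.Prime) (hn : 0 < n) (j : ℕ) (hπp : π ^ (p ^ (n - 1) * (p - 1) * (j + 1)) ∣ (p : A))
    (f g : Aˣ) (f₀ : A) (hfg : (f : A) * (g : A) ^ (p ^ n) = 1 + π ^ (j * p ^ n) * f₀)
    (hmax : ∀ (g' : Aˣ) (c : A), (f : A) * (g' : A) ^ (p ^ n) ≠ 1 + π ^ ((j + 1) * p ^ n) * c)
    (Aloc L : Type u) [CommRing Aloc] [Algebra A Aloc] [IsLocalization.Away π Aloc] [CommRing L] [Algebra A L]
    [Algebra Aloc L] [IsScalarTower A Aloc L] (hinj : Function.Injective (algebraMap Aloc L))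
    (Z : L) (hZ : Z ^ (p ^ n) = algebraMap A L f)
    (hred : (Ideal.span {algebraMap A (integralClosure A L) π}).IsRadical)
    (g₀ h0 : A) (hh0 : f₀ - g₀ ^ (p ^ n) = π * h0) : False := by
  classical
  have hdiv : ∀ i, 1 ≤ i → i < p ^ n → π ^ ((j + 1) * (p ^ n - i)) ∣ ((p ^ n).choose i : A) :=
    pow_dvd_choose π p n (j + 1) hp hn hπp
  have hpdvd : π ∣ (p : A) := (dvd_pow_self π (by
    have := hp.two_le
    exact Nat.mul_ne_zero (Nat.mul_ne_zero (pow_ne_zero _ hp.ne_zero) (by omega)) (by omega))).trans hπp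
  let φ := algebraMap A L
  let B := integralClosure A L
  have hπu : IsUnit (φ π) := by
    have h1 : IsUnit (algebraMap A Aloc π) :=
      IsLocalization.map_units _ (⟨π, Submonoid.mem_powers π⟩ : Submonoid.powers π)
    have := h1.map (algebraMap Aloc L)
    rwa [← IsScalarTower.algebraMap_apply] at this
  obtain ⟨Q, hQd, hQ, hQ'⟩ := exists_expand π p n (j + 1) j hp (by omega) hdiv
  obtain ⟨Q', rfl⟩ := hQ' (by omega)
  let Y : L := Z * φ g
  obtain ⟨X, hX⟩ : ∃ X : L, φ (π ^ j) * X = Y - 1 := by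
    obtain ⟨v, hv⟩ := hπu.pow j
    exact ⟨↑v⁻¹ * (Y - 1), by rw [map_pow, ← hv, Units.mul_inv_cancel_left]⟩
  have hY : Y ^ (p ^ n) = φ 1 + φ (π ^ (j * p ^ n)) * φ f₀ := by
    rw [mul_pow, hZ, ← map_pow, ← map_mul, ← map_mul, ← map_add, hfg]
  have heq : Polynomial.aeval X (Polynomial.X ^ (p ^ n) + Polynomial.C π * Q') = φ f₀ := by
    have h1 := congrArg (Polynomial.aeval X) hQ
    rw [map_pow, map_add, map_mul, Polynomial.aeval_C, Polynomial.aeval_X, map_one] at h1
    rw [hX, sub_add_cancel, hY, map_add, map_mul, map_one, Polynomial.aeval_C, map_one, add_right_inj] at h1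
    have h2 : IsUnit (φ (π ^ (j * p ^ n))) := by rw [map_pow]; exact hπu.pow _
    exact (h2.mul_left_cancel h1).symm
  have hXint : IsIntegral A X := by
    refine ⟨Polynomial.X ^ (p ^ n) + (Polynomial.C π * Q' - Polynomial.C f₀), Polynomial.monic_X_pow_add ?_, ?_⟩
    · refine (Polynomial.degree_sub_le _ _).trans_lt (max_lt ?_ (Polynomial.degree_C_le.trans_lt ?_))
      · exact_mod_cast hQd
      · exact_mod_cast (pow_pos hp.pos _)
    · rw [← add_sub_assoc, Polynomial.eval₂_sub, Polynomial.eval₂_C, ← Polynomial.aeval_def, heq]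
      exact sub_self _
  let x : B := ⟨X, hXint⟩
  have heqB : x ^ (p ^ n) + algebraMap A B π * Polynomial.aeval x Q' = algebraMap A B f₀ := by
    apply Subtype.coe_injective
    simp only [map_add, map_mul, map_pow, Polynomial.aeval_X, Polynomial.aeval_C] at heq
    show X ^ p ^ n + φ π * ((Polynomial.aeval x Q' : B) : L) = φ f₀
    rw [show ((Polynomial.aeval x Q' : B) : L) = Polynomial.aeval X Q' from (Subalgebra.aeval_coe B x Q').symm]
    exact heq
  obtain ⟨r, hr⟩ := exists_add_pow_prime_pow_eq hp (x - algebraMap A B g₀) (algebraMap A B g₀) n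
  rw [sub_add_cancel] at hr
  obtain ⟨pd, hpd⟩ := hpdvd
  have hxr : (x - algebraMap A B g₀) ∈ Ideal.span {algebraMap A B π} := by
    refine hred ⟨p ^ n, Ideal.mem_span_singleton.2 ⟨algebraMap A B h0 - Polynomial.aeval x Q'
      - algebraMap A B pd * ((x - algebraMap A B g₀) * algebraMap A B g₀ * r), ?_⟩⟩
    have h1 : algebraMap A B f₀ - algebraMap A B g₀ ^ p ^ n = algebraMap A B π * algebraMap A B h0 := by
      rw [← map_pow, ← map_sub, hh0, map_mul]
    have h2 : (p : B) = algebraMap A B π * algebraMap A B pd := by rw [← map_mul, ← hpd, map_natCast]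
    rw [hr, h2] at heqB
    linear_combination heqB + h1
  obtain ⟨w, hw⟩ := Ideal.mem_span_singleton.1 hxr
  -- `u` is a unit
  let u : A := 1 + π ^ j * g₀
  have hu : IsUnit u := by
    refine hlift u ?_
    show IsUnit (Ideal.Quotient.mk (Ideal.span {π}) (1 + π ^ j * g₀))
    have hπ0 : Ideal.Quotient.mk (Ideal.span {π}) π = 0 :=
      Ideal.Quotient.eq_zero_iff_mem.2 (Ideal.mem_span_singleton_self π)
    by_cases hj0 : j = 0
    · subst hj0
      obtain ⟨s, hs⟩ := exists_add_pow_prime_pow_eq hp (1 : A) g₀ n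
      have hu1 : IsUnit ((1 : A) + f₀) := by
        have : (f : A) * (g : A) ^ p ^ n = 1 + f₀ := by rw [hfg]; ring
        rw [← this]
        exact f.isUnit.mul (g.isUnit.pow _)
      have h1 : Ideal.Quotient.mk (Ideal.span {π}) ((1 + g₀) ^ p ^ n) = Ideal.Quotient.mk _ (1 + f₀) := by
        rw [Ideal.Quotient.eq, Ideal.mem_span_singleton]
        exact ⟨pd * (g₀ * s) - h0, by rw [hs, hpd]; linear_combination -hh0⟩
      have h2 := hu1.map (Ideal.Quotient.mk (Ideal.span {π}))
      rw [← h1, map_pow, isUnit_pow_iff (pow_ne_zero _ hp.ne_zero)] at h2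
      simpa using h2
    · simp [hπ0, zero_pow hj0]
  obtain ⟨uu, huu⟩ := hu
  let g' : Aˣ := g * uu⁻¹
  let w' : B := w * algebraMap A B (↑uu⁻¹ : A)
  obtain ⟨Q₁, -, hQ₁, -⟩ := exists_expand π p n (j + 1) (j + 1) hp le_rfl hdiv
  let W : B := w' ^ (p ^ n) + Polynomial.aeval w' Q₁
  have hW : φ ((f : A) * (g' : A) ^ (p ^ n)) = 1 + φ (π ^ ((j + 1) * p ^ n)) * (W : L) := by
    have hY' : Z * φ g' = φ (π ^ (j + 1)) * (w' : L) + 1 := by
      have hwL : X - φ g₀ = φ π * (w : L) := congrArg Subtype.val hw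
      have h1 : Y = φ u + φ (π ^ (j + 1)) * (w : L) := by
        rw [sub_eq_iff_eq_add.1 hX.symm]
        simp only [u, map_add, map_one, map_mul, map_pow]
        linear_combination (φ π) ^ j * hwL
      have h3 : φ u * φ (↑uu⁻¹ : A) = 1 := by rw [← map_mul, ← huu, Units.mul_inv, map_one]
      show Z * φ ((g : A) * (↑uu⁻¹ : A)) = φ (π ^ (j + 1)) * ((w : L) * φ (↑uu⁻¹ : A)) + 1
      rw [map_mul, ← mul_assoc]
      change Y * _ = _
      rw [h1]
      linear_combination h3
    have h1 := congrArg (Polynomial.aeval (w' : L)) hQ₁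
    rw [map_pow, map_add, map_mul, Polynomial.aeval_C, Polynomial.aeval_X, map_one, ← hY', mul_pow, hZ] at h1
    rw [map_mul, map_pow, h1]
    simp [W, Subalgebra.aeval_coe, φ]
  -- descend `W` to `A`
  let e : A := π ^ ((j + 1) * p ^ n)
  let y : Aloc :=
    IsLocalization.mk' _ ((f : A) * (g' : A) ^ (p ^ n) - 1) (⟨e, ⟨_, rfl⟩⟩ : Submonoid.powers π)
  have hspec : algebraMap A Aloc e * y = algebraMap A Aloc ((f : A) * (g' : A) ^ (p ^ n) - 1) :=
    IsLocalization.mk'_spec' Aloc _ (⟨e, ⟨_, rfl⟩⟩ : Submonoid.powers π)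
  have hy : algebraMap Aloc L y = (W : L) := by
    have h2 : IsUnit (φ e) := by rw [map_pow]; exact hπu.pow _
    refine h2.mul_left_cancel ?_
    rw [show φ e = algebraMap Aloc L (algebraMap A _ e) from
      IsScalarTower.algebraMap_apply _ _ _ _, ← map_mul, hspec, ← IsScalarTower.algebraMap_apply,
      ← IsScalarTower.algebraMap_apply]
    show φ _ = φ e * _
    rw [map_sub, hW, map_one, add_sub_cancel_left]
  have hyint : IsIntegral A y := by
    have := W.2
    rw [← hy] at this
    exact (isIntegral_algebraMap_iff (R := A) hinj).1 this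
  let ψ : Aloc →ₐ[A] FractionRing A :=
    IsLocalization.liftAlgHom (M := Submonoid.powers π) (f := Algebra.ofId A (FractionRing A)) (fun z => by
      obtain ⟨k, hk⟩ := z.2
      show IsUnit (algebraMap A (FractionRing A) (z : A))
      rw [← hk, isUnit_iff_ne_zero]
      exact (map_ne_zero_iff _ (IsFractionRing.injective A (FractionRing A))).2 (pow_ne_zero k hπ0))
  obtain ⟨c, hc⟩ := IsIntegrallyClosed.algebraMap_eq_of_integral (hyint.map ψ)
  refine hmax g' c (sub_eq_iff_eq_add'.1 ?_)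
  apply IsFractionRing.injective A (FractionRing A)
  rw [map_mul, hc]
  have h1 := hspec.symm
  have := congrArg ψ h1
  rwa [map_mul, AlgHom.commutes, AlgHom.commutes] at this

/-- Let R be a discrete valuation ring of characteristic zero and residue characteristic p, with
uniformizer π and a primitive p^n-th root of unity ζ (n ≥ 1), and A a Noetherian integrally closed
domain which is a faithfully flat R-algebra, in which πA is a prime ideal and every element that is
a unit modulo π is a unit (as when A is π-adically complete, or local). Let f, g be units of A, j a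
natural number with π^{p^{n−1}(p−1)(j+1)} dividing p (that is, j is less than the valuation of ζ −
1, so that the polynomials ((1 + π^{j}T)^{p^n} − 1)/π^{jp^n} and ((1 + π^{j+1}T)^{p^n} −
1)/π^{(j+1)p^n} have coefficients in R), and f₀ ∈ A with f·g^{p^n} = 1 + π^{j p^n}·f₀; suppose j is
maximal with this property: there is no unit g' of A with f·g'^{p^n} ≡ 1 modulo π^{(j+1)p^n}.
Suppose moreover that the algebra L = A[1/π][Z]/(Z^{p^n} − f) is an integral domain (the
μ_{p^n}-torsor Z^{p^n} = f is connected on the generic fibre) and that, B denoting the integral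
closure of A in L (the normalization of Spec A in that cover), the ideal πB is radical (the
normalization has reduced special fibre). Then f₀ is not congruent modulo πA to a p^n-th power. (The
published statement phrases the hypothesis on j as: the class of the torsor Z^{p^n} = f lies in
H¹(Spec A, G_{π^j,n}) and not in H¹(Spec A, G_{π^{j+1},n}); the conditions on g and g' are its
ring-theoretic form, which is the first assertion of the same lemma; A is there factorial and
π-adically complete, or normal local, which this row keeps only through the consequences used: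
integrally closed, and units lift modulo π.) -/
theorem result
    (R : Type u) [CommRing R] [IsDomain R] [IsDiscreteValuationRing R] [CharZero R]
    (p : ℕ) [Fact p.Prime] [CharP (IsLocalRing.ResidueField R) p] (ϖ : R) (hϖ : Irreducible ϖ)
    (n : ℕ) (hn : 0 < n) (ζ : R) (hζ : IsPrimitiveRoot ζ (p ^ n))
    (A : Type u) [CommRing A] [IsDomain A] [IsNoetherianRing A] [IsIntegrallyClosed A] [Algebra R A]
    [Module.FaithfullyFlat R A]
    (hprime : (Ideal.span {algebraMap R A ϖ}).IsPrime)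
    (hlift : ∀ a : A, IsUnit (Ideal.Quotient.mk (Ideal.span {algebraMap R A ϖ}) a) → IsUnit a)
    (f g : Aˣ) (j : ℕ) (hj : ϖ ^ (p ^ (n - 1) * (p - 1) * (j + 1)) ∣ (p : R)) (f₀ : A)
    (hfg : (f : A) * (g : A) ^ (p ^ n) = 1 + (algebraMap R A ϖ) ^ (j * p ^ n) * f₀)
    (hmax : ∀ (g' : Aˣ) (c : A), (f : A) * (g' : A) ^ (p ^ n) ≠ 1 + (algebraMap R A ϖ) ^ ((j + 1) * p ^ n) * c)
    [IsDomain (AdjoinRoot (Polynomial.X ^ (p ^ n) - Polynomial.C (algebraMap A (Localization.Away (algebraMap R A ϖ)) (f : A))))]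
    (hred : (Ideal.span {algebraMap A (integralClosure A (AdjoinRoot (Polynomial.X ^ (p ^ n) - Polynomial.C (algebraMap A (Localization.Away (algebraMap R A ϖ)) (f : A))))) (algebraMap R A ϖ)}).IsRadical)
    (g₀ : A) : f₀ - g₀ ^ (p ^ n) ∉ Ideal.span {(algebraMap R A ϖ)} := by
  classical
  intro hmem
  obtain ⟨h0, hh0⟩ := Ideal.mem_span_singleton.1 hmem
  have hp : p.Prime := Fact.out
  have hπp : algebraMap R A ϖ ^ (p ^ (n - 1) * (p - 1) * (j + 1)) ∣ (p : A) := by
    have := map_dvd (algebraMap R A) hj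
    rwa [map_pow, map_natCast] at this
  have hπ0 : algebraMap R A ϖ ≠ 0 := fun h =>
    hϖ.ne_zero ((map_eq_zero_iff _ (FaithfulSMul.algebraMap_injective R A)).1 h)
  haveI : IsDomain (Localization.Away (algebraMap R A ϖ)) :=
    IsLocalization.isDomain_localization (powers_le_nonZeroDivisors_of_noZeroDivisors hπ0)
  refine main (algebraMap R A ϖ) hπ0 hlift p n hp hn j hπp f g f₀ hfg hmax (Localization.Away (algebraMap R A ϖ)) _
    ?_ (AdjoinRoot.root _) ?_ hred g₀ h0 hh0
  · refine AdjoinRoot.of.injective_of_degree_ne_zero ?_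
    rw [Polynomial.degree_X_pow_sub_C (pow_pos hp.pos n)]
    first | exact_mod_cast (pow_ne_zero n hp.ne_zero) | skip
  · have := AdjoinRoot.eval₂_root (Polynomial.X ^ (p ^ n) - Polynomial.C (algebraMap A (Localization.Away (algebraMap R A ϖ)) (f : A)))
    rw [Polynomial.eval₂_sub, Polynomial.eval₂_X_pow, Polynomial.eval₂_C, sub_eq_zero] at this
    rw [this]
    exact (IsScalarTower.algebraMap_apply A (Localization.Away (algebraMap R A ϖ)) _ (f : A)).symm

end Groth.Agent.S14692
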