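import Groth.Statements.S14698
import Groth.Agent.ArSurfBasics.ZMTPoint
import Groth.Agent.ArSurfBasics.DimOne
import Groth.Agent.Variety2.ProjBasics
-- import your own Groth.Agent.* helpers here

set_option autoImplicit false
universe u
open CategoryTheory CategoryTheory.Limits AlgebraicGeometry
open Resolve

namespace Groth.Agent.S14698

/-- Let k be an algebraically closed field and X an integral normal scheme of dimension two admitting a
closed immersion into some P^n_k over k. Let φ : Y → X be a k-morphism from an integral scheme Y of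
dimension two with all local rings regular, itself admitting a closed immersion into some P^m_k over
k, which restricts to an isomorphism over an open subset U of X with finite complement. Then for
every point x of X at which the local ring is not regular, the fibre φ⁻¹(x) (with the topology
induced from Y) is nonempty and every irreducible component of it has dimension one: such a
desingularization is a monoidal model. (The published statement takes φ an isomorphism exactly over
the complement of the singular points; this row allows any open U with finite complement over which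
φ is an isomorphism.) -/
theorem result (k : Type u) [Field k] [IsAlgClosed k] (X : Scheme.{u}) [X.Over (Spec (CommRingCat.of k))]
    [IsIntegral X] (hdim : topologicalKrullDim X = 2)
    (hproj : ∃ (n : ℕ) (ι : X ⟶ CohB1.ProjSpace n k), IsClosedImmersion ι ∧ ι ≫ CohB1.ProjSpace.toSpec n k = (X ↘ (Spec (CommRingCat.of k))))
    (hnorm : Pi1.IsNormalScheme X) (U : X.Opens) (hU : ((U : Set X)ᶜ).Finite)
    (Y : Scheme.{u}) (φ : Y ⟶ X) [IsIntegral Y] (hdimY : topologicalKrullDim Y = 2)
    (hregY : ∀ y : Y, IsRegularLocalRing (Y.presheaf.stalk y))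
    (hprojY : ∃ (n : ℕ) (ι : Y ⟶ CohB1.ProjSpace n k), IsClosedImmersion ι ∧ ι ≫ CohB1.ProjSpace.toSpec n k = φ ≫ (X ↘ (Spec (CommRingCat.of k))))
    (hisoY : IsIso (φ ∣_ U))
    (x : X) (hx : ¬ IsRegularLocalRing (X.presheaf.stalk x)) :
    (φ.base ⁻¹' ({x} : Set X)).Nonempty ∧
      ∀ Z ∈ irreducibleComponents ↥(φ.base ⁻¹' ({x} : Set X)), topologicalKrullDim ↥Z = 1 := by
  obtain ⟨n, ι, hι, hιe⟩ := hproj
  obtain ⟨m, κ, hκ, hκe⟩ := hprojY
  haveI := hι; haveI := hκ
  haveI := Groth.Variety2.isProper_projSpace_toSpec n k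
  haveI := Groth.Variety2.isProper_projSpace_toSpec m k
  haveI : IsProper (X ↘ (Spec (CommRingCat.of k))) := hιe ▸ inferInstance
  haveI : IsProper (φ ≫ (X ↘ (Spec (CommRingCat.of k)))) := hκe ▸ inferInstance
  haveI : IsProper φ := IsProper.of_comp φ (X ↘ (Spec (CommRingCat.of k)))
  haveI : IsLocallyNoetherian Y :=
    LocallyOfFiniteType.isLocallyNoetherian (φ ≫ (X ↘ (Spec (CommRingCat.of k))))
  haveI : CompactSpace Y :=
    QuasiCompact.compactSpace_of_compactSpace (φ ≫ (X ↘ (Spec (CommRingCat.of k))))
  haveI : IsNoetherian Y := {}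
  haveI : IsLocallyNoetherian X := LocallyOfFiniteType.isLocallyNoetherian (X ↘ (Spec (CommRingCat.of k)))
  haveI : JacobsonSpace X := LocallyOfFiniteType.jacobsonSpace (X ↘ (Spec (CommRingCat.of k)))
  have hUne : (U : Set X).Nonempty := by
    rw [Set.nonempty_iff_ne_empty]
    intro h
    rw [h, Set.compl_empty] at hU
    haveI : Finite X := Set.finite_univ_iff.1 hU
    haveI : DiscreteTopology X := inferInstance
    haveI : Subsingleton X := ⟨fun a b => by
      have ha := (genericPoint_specializes (α := X) a).eq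
      have hb := (genericPoint_specializes (α := X) b).eq
      exact ha.symm.trans hb⟩
    haveI : Subsingleton (TopologicalSpace.IrreducibleCloseds X) := ⟨fun Z Z' =>
      TopologicalSpace.IrreducibleCloseds.ext
        ((Z.isIrreducible.nonempty.eq_univ).trans Z'.isIrreducible.nonempty.eq_univ.symm)⟩
    have h0 := Order.krullDim_nonpos_of_subsingleton (α := TopologicalSpace.IrreducibleCloseds X)
    rw [topologicalKrullDim] at hdim
    rw [hdim] at h0
    exact absurd h0 (by decide)
  have hstalk : ∀ (V : X.Opens), IsIso (φ ∣_ V) → ∀ y, φ y ∈ V → IsIso (φ.stalkMap y) := fun V hV y hy => by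
    haveI := hV
    exact ((MorphismProperty.isomorphisms CommRingCat).arrow_mk_iso_iff
      (morphismRestrictStalkMap φ V ⟨y, hy⟩)).1 (show IsIso ((φ ∣_ V).stalkMap ⟨y, hy⟩) from inferInstance)
  have hregV : ∀ (V : X.Opens), IsIso (φ ∣_ V) → x ∉ V := fun V hV hxV => by
    haveI := hV
    obtain ⟨⟨y, hy⟩, hyx⟩ := (φ ∣_ V).homeomorph.surjective ⟨x, hxV⟩
    have e : φ y = x := ((morphismRestrict_base_coe φ V ⟨y, hy⟩).symm.trans (congrArg Subtype.val hyx))
    haveI := hstalk V hV y hy
    haveI := hregY y
    refine hx (e ▸ ?_)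
    exact IsRegularLocalRing.of_ringEquiv (asIso (φ.stalkMap y)).commRingCatIsoToRingEquiv.symm
  have hxU := hregV U hisoY
  haveI := hisoY
  haveI := (hnorm x).2
  have hrel := (Groth.ArSurfBasics.isIso_nhd_or_related φ hUne x).resolve_left
    fun ⟨V, hxV, hV⟩ => hregV V hV hxV
  constructor
  · have hdense : Dense (U : Set X) := U.2.dense hUne
    have hsub : (U : Set X) ⊆ Set.range φ.base := fun u hu => by
      obtain ⟨⟨y, hy⟩, hyu⟩ := (φ ∣_ U).homeomorph.surjective ⟨u, hu⟩
      exact ⟨y, (morphismRestrict_base_coe φ U ⟨y, hy⟩).symm.trans (congrArg Subtype.val hyu)⟩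
    have hcl := φ.isClosedMap.isClosed_range
    have hx' : x ∈ Set.range φ.base := closure_minimal hsub hcl (hdense x)
    exact hx'
  intro Z hZ
  have hZcl : IsClosed Z := isClosed_of_mem_irreducibleComponents Z hZ
  haveI : QuasiSober ↥(φ.base ⁻¹' ({x} : Set X)) := (φ.fiberHomeo x).symm.isClosedEmbedding.quasiSober
  haveI : QuasiSober Z := hZcl.isClosedEmbedding_subtypeVal.quasiSober
  obtain ⟨ξ, hξ⟩ := QuasiSober.sober hZ.1 hZcl
  obtain ⟨z, hz, hzne, hzξ⟩ := hrel ξ ξ.2
  have hzZ : (⟨z, hz⟩ : ↥(φ.base ⁻¹' ({x} : Set X))) ∈ Z := by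
    rcases hzξ with h | h
    · have hle : Z ⊆ closure {(⟨z, hz⟩ : ↥(φ.base ⁻¹' ({x} : Set X)))} := by
        rw [← hξ.def]
        exact specializes_iff_closure_subset.1 ((subtype_specializes_iff _ _).2 h)
      exact hZ.2 isIrreducible_singleton.closure hle (subset_closure rfl)
    · exact ((subtype_specializes_iff ξ (⟨z, hz⟩ : ↥(φ.base ⁻¹' ({x} : Set X)))).2 h).mem_closed hZcl hξ.mem
  refine Groth.ArSurfBasics.topologicalKrullDim_eq_one (a := (⟨ξ, hξ.mem⟩ : Z)) (b := ⟨_, hzZ⟩) ?_
    ((subtype_specializes_iff _ _).2 (hξ.specializes hzZ)) fun e => hzne ?_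
  · intro a b c hab hne hbc
    by_contra hne'
    have hg : genericPoint Y ≠ a.1.1 := fun e => hxU <| by
      have hag : φ a.1.1 = x := a.1.2
      obtain ⟨u, hu⟩ := hUne
      obtain ⟨⟨y, hy⟩, hyu⟩ := (φ ∣_ U).homeomorph.surjective ⟨u, hu⟩
      have h1 : φ (genericPoint Y) ∈ U := ((genericPoint_specializes y).map φ.continuous).mem_open U.2 hy
      rw [e, hag] at h1
      exact h1
    have h := Groth.ArSurfBasics.three_le_topologicalKrullDim (α := Y) (genericPoint_specializes a.1.1) hg
      (((subtype_specializes_iff _ _).1 ((subtype_specializes_iff a b).1 hab)))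
      (fun e => hne (Subtype.ext (Subtype.ext e)))
      (((subtype_specializes_iff _ _).1 ((subtype_specializes_iff b c).1 hbc)))
      (fun e => hne' (Subtype.ext (Subtype.ext e)))
    rw [hdimY] at h
    exact absurd h (by decide)
  · exact (congrArg (fun w : Z => w.1.1) e).symm

end Groth.Agent.S14698
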