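import Groth.Statements.S1470
import Groth.Agent.RaynaudGruson.ClosureDim

set_option autoImplicit false
set_option linter.style.haveILetI false
universe u
open FlatMor

namespace Groth.Agent.S1470

open AlgebraicGeometry CategoryTheory Limits in
/-- Let f : X → S be locally of finite type, F a quasi-coherent O_X-module of finite type, and y a point
of the relative assassin of F with image t; let Y be the closure of y. For a point s of S and a
point x of the fibre of Y over s which is generic in an irreducible component of that fibre, if F is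
flat over S at x then x belongs to the relative assassin of F and the local dimension of the fibre
of Y over s at x equals the dimension of the fibre of Y over t (fibres taken as subspaces of X). -/
theorem result {X S : Scheme.{u}} (f : X ⟶ S) [LocallyOfFiniteType f]
    (F : X.Modules) (hF : Coh.IsCoh F) (y : X) (hy : y ∈ MoreMor.relAss f F) (s : S) (x : X) (hx : x ∈ closure ({y} : Set ↑X)) (hxs : f x = s)
    (hgen : ∃ C ∈ irreducibleComponents ↑(closure ({y} : Set ↑X) ∩ f ⁻¹' {s}), IsGenericPoint (⟨x, hx, hxs⟩ : ↑(closure ({y} : Set ↑X) ∩ f ⁻¹' {s})) C)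
    (hfl : FlatMod.IsFlatOverAt f F x) :
    x ∈ MoreMor.relAss f F ∧
      FlatMor.localDim ↑(closure ({y} : Set ↑X) ∩ f ⁻¹' {s}) ⟨x, hx, hxs⟩ = topologicalKrullDim ↑(closure ({y} : Set ↑X) ∩ f ⁻¹' {f y}) := by
  haveI : F.IsQuasicoherent := hF.1
  have hFT : CohB1.IsFT F := hF.2
  have hyx : y ⤳ x := specializes_iff_mem_closure.2 hx
  obtain ⟨C, hC, hgC⟩ := hgen
  have hmin : ∀ z : X, y ⤳ z → z ⤳ x → f z = f x → z = x := by
    intro z hyz hzx hfz
    let a : ↑(closure ({y} : Set ↑X) ∩ f ⁻¹' {s}) := ⟨z, specializes_iff_mem_closure.1 hyz, hfz.trans hxs⟩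
    have hax : a ⤳ ⟨x, hx, hxs⟩ := subtype_specializes_iff _ _ |>.2 hzx
    have hCle : C ⊆ closure {a} := hgC.def ▸ closure_minimal
      (Set.singleton_subset_iff.2 (specializes_iff_mem_closure.1 hax)) isClosed_closure
    have haC : a ∈ C := hC.2 isIrreducible_singleton.closure hCle (subset_closure rfl)
    exact (hzx.antisymm ((subtype_specializes_iff _ _).1 (hgC.specializes haC))).eq
  refine ⟨Groth.RaynaudGruson.RelAssWitness.mem_relAss_of_minimal f F hFT hy hyx hfl hmin, ?_⟩
  rw [Groth.RaynaudGruson.ClosureDim.topologicalKrullDim_fibre_self]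
  obtain ⟨x', hx'⟩ : x ∈ Set.range (Groth.RaynaudGruson.ClosureDim.incl y) :=
    (Groth.RaynaudGruson.ClosureDim.range_incl y).ge hx
  let g := Groth.RaynaudGruson.ClosureDim.incl y ≫ f
  have hgs : g x' = s := by
    rw [← hxs, ← hx']; rfl
  have hr : Set.range (fun a : ↑(closure ({y} : Set ↑X) ∩ f ⁻¹' {s}) => a.1) =
      Set.range (fun w => Groth.RaynaudGruson.ClosureDim.incl y (g.fiberι (g x') w)) := by
    rw [Subtype.range_coe_subtype, hgs]
    ext a
    constructor
    · rintro ⟨h1, h2⟩
      obtain ⟨a', rfl⟩ := (Groth.RaynaudGruson.ClosureDim.range_incl y).ge h1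
      obtain ⟨w, rfl⟩ : a' ∈ Set.range (g.fiberι s) := by rw [Scheme.Hom.range_fiberι]; exact h2
      exact ⟨w, rfl⟩
    · rintro ⟨w, rfl⟩
      exact ⟨(Groth.RaynaudGruson.ClosureDim.range_incl y).le ⟨_, rfl⟩, Groth.FibreDim.apply_fiberι g s w⟩
  rw [Groth.FibreDim.localDim_eq_of_range Topology.IsEmbedding.subtypeVal
    ((Groth.RaynaudGruson.ClosureDim.incl y).isEmbedding.comp (g.fiberι (g x')).isEmbedding) hr
    (a := ⟨x, hx, hxs⟩) (b := g.asFiber x') (by
      show x = Groth.RaynaudGruson.ClosureDim.incl y (g.fiberι (g x') (g.asFiber x'))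
      rw [g.fiberι_asFiber, hx'])]
  show FlatMor.fibreDimAt g x' = _
  refine Groth.RaynaudGruson.ClosureDim.fibreDimAt_incl f y F hFT hy x' fun w hw1 hw2 _ => ?_
  have hwx : Groth.RaynaudGruson.ClosureDim.incl y w = x := hmin _
    (Groth.RaynaudGruson.ClosureDim.specializes_incl y w)
    (hx' ▸ hw2.map (Groth.RaynaudGruson.ClosureDim.incl y).continuous) (by rw [← hx']; exact hw1)
  rw [hwx]
  exact hfl

end Groth.Agent.S1470
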