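import Groth.Statements.S14700
import Groth.Agent.SurfRR.DivisorUnion
import Groth.Agent.CurveBridge.RegularSmooth
-- import your own Groth.Agent.* helpers here

set_option autoImplicit false
universe u
open CategoryTheory CategoryTheory.Limits AlgebraicGeometry
open Surf

namespace Groth.Agent.S14700

/-- Let k be an algebraically closed field and X an integral scheme of dimension two with all local
rings regular, admitting a closed immersion into some P^n_k over k. Let C_1, …, C_n be pairwise
distinct integral one-dimensional closed subschemes of X with ideal sheaves I_1, …, I_n, and let Y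
be the reduced closed subscheme with ideal I_1 ∩ ⋯ ∩ I_n (their union); assume Y is connected. Then
χ(O_Y) ≤ 1, i.e. the arithmetic genus 1 - χ(O_Y) of Y is nonnegative. If moreover χ(O_Y) = 1, then
χ(O_{C_i}) = 1 for every i (each C_i has arithmetic genus zero) and Σ_{i<j} (C_i · C_j) = n - 1, so
that the incidence graph of the C_i, which is connected with Σ_{i<j} (C_i · C_j) edges, contains no
cycle; here (C_i · C_j) = χ(O_X) - χ(I_i) - χ(I_j) + χ(I_i ⊗ I_j) is the intersection number
(packaged as FGA.intNum). (The published statement allows any integral projective surface regular in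
codimension one; this row takes X with all local rings regular, where the intersection numbers used
by the proof are defined.) -/
theorem result (k : Type u) [Field k] [IsAlgClosed k] (X : Scheme.{u}) [X.Over (Spec (CommRingCat.of k))]
    [IsIntegral X] (hdim : topologicalKrullDim X = 2)
    (hproj : ∃ (n : ℕ) (ι : X ⟶ CohB1.ProjSpace n k), IsClosedImmersion ι ∧ ι ≫ CohB1.ProjSpace.toSpec n k = (X ↘ (Spec (CommRingCat.of k))))
    (hreg : ∀ x : X, IsRegularLocalRing (X.presheaf.stalk x))
    (n : ℕ) (C : Fin n → X.IdealSheafData) (hCint : ∀ i, IsIntegral (C i).subscheme)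
    (hCdim : ∀ i, topologicalKrullDim ((C i).support : Set X) = 1)
    (hCinj : Function.Injective fun i => ((C i).support : Set X))
    (hconn : _root_.IsConnected ((⨅ i, C i).support : Set X)) :
    Curv2.euler k X (ClSub.quotMod (⨅ i, C i)) ≤ 1 ∧
      (Curv2.euler k X (ClSub.quotMod (⨅ i, C i)) = 1 →
        (∀ i, Curv2.euler k X (ClSub.quotMod (C i)) = 1) ∧
          (∑ i : Fin n, ∑ j : Fin n,
              if i < j then FGA.intNum k X 2 ![ClSub.idealMod (C i), ClSub.idealMod (C j)] (Coh.structureModule X) else 0) =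
            (n : ℤ) - 1) := by
  classical
  obtain ⟨N, ι, hc, hι⟩ := hproj
  haveI := Groth.SurfRR.isProper_of_embedding k hι
  haveI := Groth.CurveBridge.smooth_of_regular k X hreg
  haveI : IsNoetherian X := Groth.Inter.isNoetherian k
  have hΩ := Groth.PnCI.smoothOfRelativeDimension_of_irreducible (X ↘ (Spec (CommRingCat.of k))) hdim
  haveI := hΩ
  have hΩ' := Groth.OmegaSheaf.isFinLocFreeOfRank_sheaf (X ↘ (Spec (CommRingCat.of k))) 2
  haveI : (Omega.sheaf (X ↘ (Spec (CommRingCat.of k)))).IsQuasicoherent :=
    Groth.KTheory.LocFree.isQCoh (Groth.LocFree.isFinLocFree_of_rank hΩ')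
  obtain ⟨W, -, hW⟩ := Groth.LocFree.exists_isExtPow 2 (Omega.sheaf (X ↘ (Spec (CommRingCat.of k))))
  obtain ⟨hWi, hDD⟩ := Groth.SurfRR.dualDim_topForms k hdim ι hι hW
  have hD2 := Groth.SurfRR.dualEuler_of_dualDim k hdim.le hDD
  have hcur : ∀ i, Groth.SurfNum.IsCurve (C i) := fun i => ⟨hCint i, hCdim i⟩
  have hCe : ∀ i, BlowUp.IsEffCartierIdeal (C i) := fun i => (hcur i).isEffCartier k hdim hreg
  have hP := Groth.SurfRR.prod_eq_iInf k hdim hreg C hcur hCinj
  obtain ⟨hPe, hPs, hPp⟩ := Groth.AffineDiv.pair_idealMod_prod k hdim.le C (fun _ => 1) Finset.univ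
    (fun i _ => hCe i) (fun _ _ => one_pos)
  simp only [pow_one] at hPe hPs hPp
  rw [hP] at hPe hPs hPp
  set Y := ⨅ i, C i with hY
  -- the union is reduced and connected
  have hv : Y = Scheme.IdealSheafData.vanishingIdeal Y.support :=
    le_antisymm (Scheme.IdealSheafData.le_support_iff_le_vanishingIdeal.1 le_rfl) (le_iInf fun i => by
      haveI := hCint i
      refine Groth.RefRank.EffCartierLocal.le_of_isReduced_subscheme ?_
      rw [Scheme.IdealSheafData.coe_support_vanishingIdeal]
      exact Scheme.IdealSheafData.support_antitone (iInf_le C i))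
  haveI : AlgebraicGeometry.IsReduced Y.subscheme := by
    rw [hv]; exact Groth.AlgSpCartier.isReduced_subscheme_vanishingIdeal _
  haveI : ConnectedSpace Y.subscheme := by
    haveI : ConnectedSpace (Set.range Y.subschemeι) := by
      refine isConnected_iff_connectedSpace.1 ?_
      rw [Y.range_subschemeι]; exact hconn
    exact Y.subschemeι.isClosedEmbedding.isEmbedding.toHomeomorph.connectedSpace_iff.2 inferInstance
  have h2 : ∀ D : X.IdealSheafData, BlowUp.IsEffCartierIdeal D → Subsingleton (Coh.HH X (ClSub.quotMod D) 2) :=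
    fun D hD => by
      obtain ⟨hc', hsup⟩ := Groth.Inter.support_quotMod k D
      haveI := hc'.1
      exact Groth.Variety2.Reg.subsingleton_HH_of_support_one _ D.support.isClosed
        (by simpa using Groth.SurfNum.dim_support_le_one k hdim hD) hsup.le le_rfl
  have heul : ∀ D : X.IdealSheafData, BlowUp.IsEffCartierIdeal D → Curv2.euler k X (ClSub.quotMod D) =
      (Module.finrank k (Coh.HH X (ClSub.quotMod D) 0) : ℤ) -
        (Module.finrank k (Coh.HH X (ClSub.quotMod D) 1) : ℤ) := fun D hD => by
    haveI := h2 D hD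
    rw [Groth.Inter.euler_eq_three k hdim.le,
      Module.finrank_zero_of_subsingleton (M := Coh.HH X (ClSub.quotMod D) 2)]
    simp
  have hY0 := Groth.SurfRR.finrank_h0_quot_of_connected k Y
  refine ⟨by rw [heul Y hPe]; omega, fun h1 => ?_⟩
  have hY1 : Subsingleton (Coh.HH X (ClSub.quotMod Y) 1) := by
    haveI := Groth.EulerDeg.finite_HH k X (Groth.EulerDeg.isCoh_quotMod Y) 1
    rw [← Module.finrank_zero_iff (R := k)]
    rw [heul Y hPe] at h1
    omega
  have hCi : ∀ i, Curv2.euler k X (ClSub.quotMod (C i)) = 1 := fun i => by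
    have hrest : BlowUp.IsEffCartierIdeal (∏ j ∈ Finset.univ.erase i, C j) := by
      simpa using (Groth.AffineDiv.pair_idealMod_prod k hdim.le C (fun _ => 1) (Finset.univ.erase i)
        (fun j _ => hCe j) (fun _ _ => one_pos)).1
    haveI : Subsingleton (Coh.HH X (ClSub.quotMod (C i)) 1) :=
      Groth.AffineDiv.subsingleton_h1_left k hdim (hCe i) hrest (by
        rw [Finset.mul_prod_erase Finset.univ C (Finset.mem_univ i), hP]
        exact hY1)
    rw [heul (C i) (hCe i), Groth.SurfRR.finrank_h0_curve k (hcur i),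
      Module.finrank_zero_of_subsingleton (M := Coh.HH X (ClSub.quotMod (C i)) 1)]
    rfl
  refine ⟨hCi, ?_⟩
  -- the adjunction formula for the union
  have hI := fun i => Groth.PicAux.isInvertible_idealMod (hCe i)
  have hIY := Groth.PicAux.isInvertible_idealMod hPe
  have hadj := Groth.SurfRR.adjunction_quot k hdim hWi hD2 hIY
  rw [h1, hPp W hWi, hPp _ hIY] at hadj
  have hrow : ∀ i, Groth.Inter.pair k (ClSub.idealMod (C i)) (ClSub.idealMod Y) =
      ∑ j, Groth.Inter.pair k (ClSub.idealMod (C i)) (ClSub.idealMod (C j)) := fun i => by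
    rw [Groth.Inter.pair_comm k, hPp _ (hI i)]
    exact Finset.sum_congr rfl fun j _ => by rw [Nat.cast_one, one_mul, Groth.Inter.pair_comm k]
  have hdiag : ∀ i, Groth.Inter.pair k (ClSub.idealMod (C i)) (ClSub.idealMod (C i)) -
      Groth.Inter.pair k (ClSub.idealMod (C i)) W = -2 := fun i => by
    have := Groth.SurfRR.adjunction_quot k hdim hWi hD2 (hI i)
    rw [hCi i] at this
    exact this
  simp only [Nat.cast_one, one_mul, hrow] at hadj
  simp only [Groth.Inter.intNum_eq_pair k hdim.le]
  set p := fun i j => Groth.Inter.pair k (ClSub.idealMod (C i)) (ClSub.idealMod (C j)) with hp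
  have hsplit : ∑ i, ∑ j, p i j = (∑ i, ∑ j, if i < j then p i j else 0) +
      (∑ i, ∑ j, if i < j then p i j else 0) + ∑ i, p i i := by
    conv_rhs => arg 1; arg 2; rw [Finset.sum_comm]
    rw [← Finset.sum_add_distrib, ← Finset.sum_add_distrib]
    refine Finset.sum_congr rfl fun i _ => ?_
    rw [← Finset.sum_ite_eq Finset.univ i (fun j => p i j) |>.trans (if_pos (Finset.mem_univ i)),
      ← Finset.sum_add_distrib, ← Finset.sum_add_distrib]
    refine Finset.sum_congr rfl fun j _ => ?_
    rcases lt_trichotomy i j with h | rfl | h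
    · simp [h, h.not_gt, h.ne]
    · simp
    · simp only [h.not_gt, h, h.ne', if_true, if_false, zero_add, add_zero]
      exact Groth.Inter.pair_comm k _ _
  have hd : ∑ i, p i i - ∑ i, Groth.Inter.pair k (ClSub.idealMod (C i)) W = -2 * (n : ℤ) := by
    rw [← Finset.sum_sub_distrib, Finset.sum_congr rfl fun i _ => hdiag i]
    simp [mul_comm]
  simp only [hp] at hsplit hd
  linarith

end Groth.Agent.S14700
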