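import Groth.Statements.S14702
import Groth.Agent.Duality.RestrictDual
import Groth.Agent.S11318
import Groth.Agent.CurveBridge.RegularSmooth
import Groth.Agent.CurveDiv.HilbProper

set_option autoImplicit false
universe u
open CategoryTheory CategoryTheory.Limits AlgebraicGeometry
open ProjDual

namespace Groth.Agent.S14702

/-- Let k be an algebraically closed field and X an integral closed subscheme of P^N_k of dimension two
which is a local complete intersection (every local ring is a complete intersection) with only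
finitely many non-regular points; let U ⊆ X be the open subset of regular points. Let (ω, t) be a
dualizing sheaf for X: ω coherent, t a k-linear form on H^2(X, ω), and for every coherent F and
every k-linear form ψ on H^2(X, F) there is exactly one φ : F → ω with ψ = t ∘ H^2(φ). Then the
restriction of ω to U is isomorphic to ω_U, a second exterior power of the sheaf of differentials
Ω_{U/k} (existence of an isomorphism of O_U-modules; the published statement also asserts an unnamed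
isomorphism). -/
theorem result (k : Type u) [Field k] [IsAlgClosed k] (N : ℕ)
    (X : Scheme.{u}) [X.Over (Spec (CommRingCat.of k))] [IsIntegral X] (hdim : topologicalKrullDim X = 2)
    (ι : X ⟶ CohB1.ProjSpace N k) [IsClosedImmersion ι] (hι : ι ≫ CohB1.ProjSpace.toSpec N k = X ↘ (Spec (CommRingCat.of k)))
    (hlci : ∀ x : X, Pi1.IsCompleteIntersection (X.presheaf.stalk x))
    (U : X.Opens) (hUreg : ∀ x : X, x ∈ U ↔ IsRegularLocalRing (X.presheaf.stalk x)) (hU : ((U : Set X)ᶜ).Finite)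
    (ω : X.Modules) (hωcoh : Coh.IsCoh ω) (t : Coh.HH X ω 2 →ₗ[k] k)
    (hdual : ∀ F : X.Modules, Coh.IsCoh F → ∀ ψ : Coh.HH X F 2 →ₗ[k] k,
        ∃! φ : F ⟶ ω, ∀ x : Coh.HH X F 2,
          ψ x = t (Sheaf.H.map ((SheafOfModules.toSheaf X.ringCatSheaf).map φ) 2 x))
    (W : (U : Scheme.{u}).Modules) (hW : ExtPow.IsExtPow 2 (Omega.sheaf (U.ι ≫ (X ↘ (Spec (CommRingCat.of k))))) W) :
    Nonempty ((Scheme.Modules.restrictFunctor U.ι).obj ω ≅ W) := by
  haveI := Groth.PnCoh.isLocallyNoetherian_projSpace N k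
  haveI := Groth.Variety2.isProper_projSpace_toSpec N k
  haveI : IsProper (X ↘ Spec (CommRingCat.of k)) := by rw [← hι]; infer_instance
  haveI : LocallyOfFiniteType (X ↘ Spec (CommRingCat.of k)) := inferInstance
  haveI : ModSite.HasSheafHom (O := (CohB1.ProjSpace N k).sheaf)
      ((Scheme.Modules.pushforward ι).obj (Coh.structureModule X)) := Groth.SitesTopoi.ModH.hasSheafHom _
  haveI : HasInjectiveResolutions (ModSite.Mod (CohB1.ProjSpace N k).sheaf) :=
    inferInstanceAs (HasInjectiveResolutions (CohB1.ProjSpace N k).Modules)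
  have hN : 2 ≤ N := by
    have h1 : topologicalKrullDim X ≤ topologicalKrullDim (CohB1.ProjSpace N k) :=
      Topology.IsInducing.topologicalKrullDim_le ι.isClosedEmbedding.isInducing
    rw [hdim, Groth.Variety2.PSpace.dim_projSpace] at h1
    exact_mod_cast h1
  obtain ⟨ω', hω'⟩ := Groth.Duality.Pn.exists_extSh_iso ι (N - 2)
  obtain ⟨t', ht'⟩ := Groth.Duality.Pn.exists_dualizing ι hι (show 2 + (N - 2) = N by omega)
    hdim.le ω' hω'
  obtain ⟨φ, hφ, -, -⟩ := Groth.Agent.S11318.result k X 2 hdim ω ω' hωcoh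
    (Groth.Duality.Pn.isCoh_of_extSh_iso ι ω' hω') t t' hdual ht'
  obtain ⟨V, rfl⟩ : ∃ V : (CohB1.ProjSpace N k).Opens, U = ι ⁻¹ᵁ V := by
    refine ⟨⟨(ι '' (U : Set X)ᶜ)ᶜ, (ι.isClosedEmbedding.isClosedMap _ U.isOpen.isClosed_compl).isOpen_compl⟩,
      TopologicalSpace.Opens.ext (Set.ext fun x => ?_)⟩
    show x ∈ (U : Set X) ↔ ι x ∉ ι '' (U : Set X)ᶜ
    rw [ι.isClosedEmbedding.injective.mem_set_image]
    simp
  letI : (ι ⁻¹ᵁ V : Scheme.{u}).Over (Spec (CommRingCat.of k)) :=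
    ⟨(ι ⁻¹ᵁ V).ι ≫ (X ↘ Spec (CommRingCat.of k))⟩
  haveI : LocallyOfFiniteType ((ι ⁻¹ᵁ V : Scheme.{u}) ↘ Spec (CommRingCat.of k)) :=
    inferInstanceAs (LocallyOfFiniteType ((ι ⁻¹ᵁ V).ι ≫ (X ↘ Spec (CommRingCat.of k))))
  haveI : IsLocallyNoetherian (ι ⁻¹ᵁ V : Scheme.{u}) :=
    LocallyOfFiniteType.isLocallyNoetherian ((ι ⁻¹ᵁ V : Scheme.{u}) ↘ Spec (CommRingCat.of k))
  haveI hsm : Smooth ((ι ⁻¹ᵁ V).ι ≫ (X ↘ Spec (CommRingCat.of k))) :=
    Groth.CurveBridge.smooth_of_regular k (ι ⁻¹ᵁ V : Scheme.{u}) fun x =>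
      haveI := (hUreg x.1).1 x.2
      IsRegularLocalRing.of_ringEquiv ((ι ⁻¹ᵁ V).stalkIso x).symm.commRingCatIsoToRingEquiv
  haveI : QuasiSeparated ((ι ⁻¹ᵁ V).ι ≫ (X ↘ Spec (CommRingCat.of k))) := inferInstance
  have hf := Groth.Duality.RestrictDual.isFinLocFreeOfRank_omega
    ((ι ⁻¹ᵁ V).ι ≫ (X ↘ Spec (CommRingCat.of k))) 2 fun x => by
      rw [Groth.FibreDim.localDim_eq_of_isOpenEmbedding (ι ⁻¹ᵁ V).ι.isOpenEmbedding x]
      refine le_antisymm ((Groth.SpectralTopology.localDim_le_dim _).trans hdim.le) ?_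
      rw [Groth.VarietyBC.localDim_eq_height_add k, ringKrullDim_stalk_eq_coheight,
        ← WithBot.coe_add, Nat.cast_ofNat, ← hdim, Groth.Variety2.Dim.dim_eq_iSup_height]
      refine iSup_le fun z => WithBot.coe_le_coe.2 ?_
      refine le_trans (Order.height_mono ?_) (Groth.VarietyBC.height_le_add_coheight k
        (b := (ι ⁻¹ᵁ V).ι x) (η := genericPoint X) ?_)
      · exact Scheme.le_iff_specializes.2 (genericPoint_specializes z)
      · exact Scheme.le_iff_specializes.2 (genericPoint_specializes _)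
  obtain ⟨e⟩ := Groth.Duality.RestrictDual.nonempty_restrict_iso ι V
    ((ι ⁻¹ᵁ V).ι ≫ (X ↘ Spec (CommRingCat.of k))) (by rw [hι]) hf ω' hω' W hW
  exact ⟨(Scheme.Modules.restrictFunctor (ι ⁻¹ᵁ V).ι).mapIso (@asIso _ _ _ _ φ hφ) ≪≫ e⟩

end Groth.Agent.S14702
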