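import Groth.Statements.S14704
import Groth.Agent.AdicLinTop.ClosedImmBc

set_option autoImplicit false
open CategoryTheory
universe u
open FCompl

namespace Groth.Agent.S14704

/-- Let 𝔖, 𝔛, 𝔜 be locally Noetherian formal schemes, presented as adic systems of locally Noetherian
thickenings with a common underlying space, let f : 𝔛 ⟶ 𝔖 be a closed immersion (adic, with a closed
immersion at level 0) and g : 𝔜 ⟶ 𝔖 any morphism, and let p, q be the two projections of the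
levelwise fibre product 𝔛 ×_𝔖 𝔜, assumed to be again a locally Noetherian formal scheme (which
holds, f being of finite type). Then for every coherent O_𝔛-module 𝔉 the base-change morphism u :
g^*(f_* 𝔉) ⟶ q_*(p^* 𝔉), whose adjunct f_* 𝔉 ⟶ g_* q_* p^* 𝔉 = f_* p_* p^* 𝔉 is f_* of the unit 𝔉 ⟶
p_* p^* 𝔉, is an isomorphism. -/
theorem result (𝔖 𝔛 𝔜 : FSch.Sys.{u})
    (h𝔖 : 𝔖.IsLocNoethFormal) (h𝔛 : 𝔛.IsLocNoethFormal) (h𝔜 : 𝔜.IsLocNoethFormal)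
    (f : 𝔛 ⟶ 𝔖) (g : 𝔜 ⟶ 𝔖) (hf : FSch.IsClosedImmHom f)
    (hZ : (FSch.pullbackSys f g).IsLocNoethFormal)
    (𝔉 : FSch.ModF 𝔛 h𝔛.1) (h𝔉 : FSch.IsCohF 𝔛 h𝔛.1 𝔉) :
    IsIso (FSch.bcMapF (FSch.pullbackFst f g) f (FSch.pullbackSnd f g) g (FSch.pullbackSys_condition f g)
      hZ.1 h𝔛.1 h𝔜.1 h𝔖.1 𝔉) := by
  obtain ⟨𝔐, h𝔐, ⟨θ⟩⟩ := Groth.AdicLinTop.FormalCoh.exists_isCoh_iso_realMod h𝔛 h𝔉
  have hq : FSch.IsClosedImmHom (FSch.pullbackSnd f g) :=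
    ⟨Groth.AdicLinTop.Thickenings.isAdicHom_pullbackSnd f g hf.1, by
      haveI := hf.2
      rw [FSch.pullbackSnd_app]
      exact MorphismProperty.pullback_snd _ _ hf.2⟩
  haveI h1 := Groth.AdicLinTop.ClosedImmBc.isIso_adjunct (h𝔛' := h𝔛) (h𝔖' := h𝔖) (h𝔜' := h𝔜) (hℨ' := hZ)
    (FSch.pullbackFst f g) f (FSch.pullbackSnd f g) g (FSch.pullbackSys_condition f g) 𝔐 hf hq
    (fun k => (IsPullback.of_hasPullback ((f : FSch.Hom _ _).app k) ((g : FSch.Hom _ _).app k)).flip) h𝔐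
  haveI h2 := Groth.AdicLinTop.FormalPullback.isIso_gamma_adjunct (FSch.pullbackFst f g) 𝔐 hZ h𝔛 h𝔐
  have e := Groth.AdicLinTop.ClosedImmBc.bcMap_comp (FSch.pullbackFst f g) f (FSch.pullbackSnd f g) g
    (FSch.pullbackSys_condition f g) hZ.1 h𝔛.1 h𝔜.1 h𝔖.1 𝔐 θ.hom
  rw [Adjunction.homEquiv_naturality_left_symm, Adjunction.homEquiv_naturality_left_symm] at e
  exact IsIso.of_isIso_fac_right e

end Groth.Agent.S14704
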