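import Groth.Statements.S14708
import Groth.Agent.Misc8.HResConst

set_option autoImplicit false
universe u
open HRes

namespace Groth.Agent.S14708

open CategoryTheory AlgebraicGeometry in
/-- Let S be a scheme, K a precoverage on schemes with its big site over S, F an abelian sheaf on that
site and n ≥ 0. For every class x ∈ H^n(S, F), restricting x along the identity of S and then
applying the map induced on cohomology by the canonical isomorphism (𝟙_S)⁻¹ F ≅ F gives back x; this
is the identity law of the presheaf U ↦ H^n(U, F) given by the restriction maps. The statement is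
asserted for every precoverage K; it has no hypothesis depending on K. -/
theorem result (K : Precoverage Scheme.{u}) (S : Scheme.{u})
    (F : BigSite.Ab K S) (n : ℕ) (x : BigSite.H K S F n) :
    Sheaf.H.map ((K.toGrothendieck.overMapPullbackId AddCommGrpCat.{u + 1} S).hom.app F) n
      (HRes.pull K (𝟙 S) F n x) = x := by
  let α := (K.toGrothendieck.overMapPullbackId AddCommGrpCat.{u + 1} S).hom
  rw [HRes.pull_apply, Sheaf.H.map_apply, Abelian.Ext.comp_assoc_of_third_deg_zero,
    Groth.Misc8.ExtNat.natural _ (𝟭 (BigSite.Ab K S)) α x, Groth.Misc8.ExtNat.id_functor,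
    ← Abelian.Ext.comp_assoc_of_second_deg_zero, Abelian.Ext.mk₀_comp_mk₀]
  rw [show (HRes.pullConst K (𝟙 S) _).inv ≫ α.app _ = 𝟙 _ from Groth.Misc8.HResConst.pullConst_id K _]
  exact Abelian.Ext.mk₀_id_comp x

end Groth.Agent.S14708
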