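import Groth.Statements.S14718
import Groth.Agent.GitLin.Bundle
import Groth.Agent.GitLin.Orbits
import Groth.Agent.PropsBasic.AmpleSep

set_option autoImplicit false
universe u
open CategoryTheory MonoidalCategory CartesianMonoidalCategory MonObj GrpObj AlgebraicGeometry Topology
open GIT

namespace Groth.Agent.S14718

/-- Let k be a field, G a group scheme over k acting by σ on a k-scheme X, φ : X → Y an invariant
k-morphism (φ ∘ σ = φ ∘ p₂) which is affine, and M an ample invertible sheaf on Y. Then there is a
G-linearised line bundle L on X, taken in total-space form, with X = X^ss(L): every point x has an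
invariant section s of some L^n, n ≥ 1, with s(x) ≠ 0 and X_s affine. If moreover (Y, φ) is a
geometric quotient of X by G, then X = X^s(L) for the same L (the action of G on those X_s is
closed; no condition on stabilisers). (The published statement assumes G reductive, X of finite type
and (Y, φ) a categorical quotient with Y quasi-projective; this row keeps only what the construction
uses: φ invariant and affine, M ample. L is taken in total-space form.) -/
theorem result (k : Type u) [Field k]
    (G X Y : Over (Spec (CommRingCat.of k))) [GrpObj G]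
    (a : AlgGrp.Action G X) (φ : X ⟶ Y) (hφ : GIT.IsInvariant a φ) [IsAffineHom φ.left]
    (M : Y.left.Modules) (hM : CohB1.IsAmple M) :
    ∃ B : GLinSh.LinBun G a, B.ssLocus = Set.univ ∧ (GIT.IsGeomQuot a φ → B.sLocus = Set.univ) := by
  obtain ⟨hinv, hc, hcov⟩ := hM
  haveI := Groth.PicAux.isQCoh_of_isInvertible hinv
  refine ⟨Groth.GitLin.bundle φ M hinv a hφ, ?_⟩
  have key : ∀ x : X.left, ∃ (n : ℕ) (f : Γ((Groth.GitLin.bundle φ M hinv a hφ).V.left, ⊤)),
      1 ≤ n ∧ (Groth.GitLin.bundle φ M hinv a hφ).IsInvSection n f ∧
        x ∈ GLinSh.nonvanishing (Groth.GitLin.bundle φ M hinv a hφ).π f ∧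
        ∃ U : X.left.Opens, (U : Set X.left) = GLinSh.nonvanishing (Groth.GitLin.bundle φ M hinv a hφ).π f ∧
          IsAffineOpen U := by
    intro x
    obtain ⟨n, s, hxs, haff⟩ := hcov (φ.left x)
    obtain ⟨f, hf, hnv⟩ := Groth.GitLin.exists_invSection hinv a hφ s (Nat.le_add_left 1 n)
    refine ⟨n + 1, f, Nat.le_add_left 1 n, hf, ?_, _, hnv.symm, haff.preimage φ.left⟩
    rw [hnv]
    exact hxs
  refine ⟨Set.eq_univ_of_forall key, fun hq => Set.eq_univ_of_forall fun x => ?_⟩
  obtain ⟨n, f, hn, hf, hx, U, hU, haff⟩ := key x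
  refine ⟨n, f, hn, hf, hx, U, hU, haff, ?_⟩
  have : Y.left.IsSeparated := Groth.PropsBasic.Ample.isSeparated_of_cover hinv hcov
  intro Ω _ _ T _ g _
  exact (Groth.GitLin.isClosed_range_psi hq.inv hq.orbit g).preimage continuous_subtype_val

end Groth.Agent.S14718
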