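import Groth.Statements.S1472
import Groth.Agent.Calg4.NormalScheme
import Groth.Agent.GeomComp.EtaleSpread
import Groth.Agent.SmoothWeil.Geom
import Groth.Agent.GrpschAbsch.UnitalMul
import Mathlib

set_option autoImplicit false
universe u
open FlatMor

namespace Groth.Agent.S1472

open AlgebraicGeometry CategoryTheory Limits

/-- Every local ring of a base change of a normal morphism to a field is a domain. -/
theorem isDomain_stalk {Y S : Scheme.{u}} (h : Y ⟶ S)
    (hn : ∀ (U : Y.Opens) (V : S.Opens) (hU : IsAffineOpen U) (hV : IsAffineOpen V) (hUV : U ≤ h ⁻¹ᵁ V),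
      letI := (h.appLE V U hUV).hom.toAlgebra
      EGA4.IsNormalHom Γ(S, V) Γ(Y, U))
    {K : Type u} [Field K] (a : Spec (CommRingCat.of K) ⟶ S) (z : ↑(pullback h a)) :
    IsDomain ((pullback h a).presheaf.stalk z) := by
  obtain ⟨-, hfib⟩ := (Groth.Calg4.normal_affineLocally_iff h).mp hn
  obtain ⟨y', hy'⟩ : ∃ y', pullback.snd h a z = y' := ⟨_, rfl⟩
  let f' := pullback.snd h a
  have hsq : IsPullback (pullback.fst h a) f' h a := IsPullback.of_hasPullback h a
  have hF : ∀ W : (f'.fiber y').Opens, IsAffineOpen W → Groth.Calg4.FibNormal f' y' W := fun W hW => by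
    refine Groth.Calg4.fibNormal_of_cover f' y'
      (fun V : (h.fiber (a y')).affineOpens => ⟨_, (Groth.Calg4.fibNormal_preimage_iff hsq y' V.1 V.2).1⟩)
      (top_le_iff.mp fun x _ => ?_)
      (fun V => (Groth.Calg4.fibNormal_preimage_iff hsq y' V.1 V.2).2.mpr (hfib _ V.1 V.2)) ⟨W, hW⟩
    obtain ⟨_, ⟨V, hV, rfl⟩, hxV, -⟩ := (h.fiber (a y')).isBasis_affineOpens.exists_subset_of_mem_open
      (Set.mem_univ (Groth.Calg4.fibreMap hsq y' x)) isOpen_univ
    exact TopologicalSpace.Opens.mem_iSup.mpr ⟨⟨V, hV⟩, hxV⟩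
  have hiso : IsIso ((Spec (CommRingCat.of K)).fromSpecResidueField y') := by
    have : Surjective ((Spec (CommRingCat.of K)).fromSpecResidueField y') :=
      ⟨fun y => ⟨IsLocalRing.closedPoint _, Subsingleton.elim (α := PrimeSpectrum K) _ _⟩⟩
    have : IsClosedImmersion ((Spec (CommRingCat.of K)).fromSpecResidueField y') :=
      .of_isPreimmersion _ (by rw [Set.range_eq_univ.mpr (Scheme.Hom.surjective _)]; exact isClosed_univ)
    exact isIso_of_isClosedImmersion_of_surjective _
  haveI : IsIso (f'.fiberι y') := by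
    haveI := hiso
    exact inferInstanceAs (IsIso (pullback.fst f' ((Spec (CommRingCat.of K)).fromSpecResidueField y')))
  obtain ⟨w, rfl⟩ := (f'.fiberι y').homeomorph.surjective z
  obtain ⟨W, hW, hwW, -⟩ := exists_isAffineOpen_mem_and_subset (U := (⊤ : (f'.fiber y').Opens)) (x := w) trivial
  letI := Groth.Calg4.fibAlg f' y' W
  have hnorm : EGA4.IsNormalRing Γ(f'.fiber y', W) :=
    Groth.Ega4b.isNormalRing_of_ringEquiv (Algebra.TensorProduct.lid _ Γ(f'.fiber y', W)).toRingEquiv
      (hF W hW ((Spec (CommRingCat.of K)).residueField y') inferInstance)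
  letI := (f'.fiber y').presheaf.algebra_section_stalk (⟨w, hwW⟩ : W)
  haveI := hW.isLocalization_stalk ⟨w, hwW⟩
  haveI := (hnorm (hW.primeIdealOf ⟨w, hwW⟩).asIdeal).1
  haveI : IsDomain ((f'.fiber y').presheaf.stalk w) :=
    (IsLocalization.algEquiv (hW.primeIdealOf ⟨w, hwW⟩).asIdeal.primeCompl
      ((f'.fiber y').presheaf.stalk (⟨w, hwW⟩ : W).1)
      (Localization.AtPrime (hW.primeIdealOf ⟨w, hwW⟩).asIdeal)).toRingEquiv.toMulEquiv.isDomain
  exact (asIso ((f'.fiberι y').stalkMap w)).commRingCatIsoToRingEquiv.toMulEquiv.isDomain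

/-- A scheme whose local rings are domains is reduced. -/
theorem isReduced_of_domains (X : Scheme.{u}) (h : ∀ x : X, IsDomain (X.presheaf.stalk x)) : IsReduced X :=
  haveI : ∀ x : X, _root_.IsReduced (X.presheaf.stalk x) := fun x => haveI := h x; inferInstance
  isReduced_of_isReduced_stalk X

/-- A normal morphism has geometrically reduced fibres. -/
theorem geometricallyReduced_of_normal {Y S : Scheme.{u}} (h : Y ⟶ S)
    (hn : ∀ (U : Y.Opens) (V : S.Opens) (hU : IsAffineOpen U) (hV : IsAffineOpen V) (hUV : U ≤ h ⁻¹ᵁ V),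
      letI := (h.appLE V U hUV).hom.toAlgebra
      EGA4.IsNormalHom Γ(S, V) Γ(Y, U)) : GeometricallyReduced h :=
  ⟨geometrically_iff_of_isClosedUnderIsomorphisms.mpr fun K _ a =>
    isReduced_of_domains _ fun z => isDomain_stalk h hn a z⟩

/-- An open of a base change of a normal morphism with connected geometric fibres has integral ones. -/
theorem geometricallyIntegral_of_connected {Y S S' : Scheme.{u}} (h : Y ⟶ S) [LocallyOfFiniteType h]
    (hn : ∀ (U : Y.Opens) (V : S.Opens) (hU : IsAffineOpen U) (hV : IsAffineOpen V) (hUV : U ≤ h ⁻¹ᵁ V),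
      letI := (h.appLE V U hUV).hom.toAlgebra
      EGA4.IsNormalHom Γ(S, V) Γ(Y, U))
    (g : S' ⟶ S) (V : (pullback h g).Opens) [GeometricallyConnected (V.ι ≫ pullback.snd h g)] :
    GeometricallyIntegral (V.ι ≫ pullback.snd h g) := by
  refine ⟨fun K _ a Z fst snd hpb => ?_⟩
  let P := pullback (V.ι ≫ pullback.snd h g) a
  let j : P ⟶ pullback h (a ≫ g) := (pullbackRightPullbackFstIso (pullback.snd h g) a V.ι).inv ≫
    pullback.snd V.ι (pullback.fst (pullback.snd h g) a) ≫ (pullbackLeftPullbackSndIso h g a).hom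
  haveI : IsOpenImmersion j := inferInstance
  have hdom : ∀ z : P, IsDomain (P.presheaf.stalk z) := fun z =>
    haveI := isDomain_stalk h hn (a ≫ g) (j z)
    (asIso (j.stalkMap z)).commRingCatIsoToRingEquiv.symm.toMulEquiv.isDomain
  haveI : LocallyOfFiniteType (pullback.snd (V.ι ≫ pullback.snd h g) a) := inferInstance
  haveI : IsLocallyNoetherian P := LocallyOfFiniteType.isLocallyNoetherian (pullback.snd (V.ι ≫ pullback.snd h g) a)
  haveI : ConnectedSpace ↥P :=
    GeometricallyConnected.geometrically_connectedSpace (f := V.ι ≫ pullback.snd h g) _ _ _ (IsPullback.of_hasPullback _ a)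
  haveI := Groth.SmoothWeil.irreducibleSpace_of_connected P hdom
  haveI := isReduced_of_domains P hdom
  haveI : IsIntegral P := isIntegral_of_irreducibleSpace_of_isReduced P
  haveI : Nonempty ↥Z := ⟨hpb.isoPullback.inv.base (Classical.arbitrary _)⟩
  exact isIntegral_of_isOpenImmersion hpb.isoPullback.hom

open AlgebraicGeometry CategoryTheory Limits in
/-- Let h : Y → S be of finite presentation and normal (affine-locally its ring maps are flat with
geometrically normal fibres), let s be a point of S and T an open of the fibre over s which is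
geometrically irreducible over the residue field of s. Then there are an affine elementary étale
neighbourhood (S', s') of (S, s) and a quasi-compact open V of the base change of Y to S' such that
all fibres of V → S' are geometrically integral and the points of V over s' are exactly the points
of the base change over s' whose image in Y lies in T. -/
theorem result {Y S : Scheme.{u}} (h : Y ⟶ S) [LocallyOfFinitePresentation h] [QuasiCompact h] [QuasiSeparated h]
    (hn : ∀ (U : Y.Opens) (V : S.Opens) (hU : IsAffineOpen U) (hV : IsAffineOpen V) (hUV : U ≤ h ⁻¹ᵁ V),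
      letI := (h.appLE V U hUV).hom.toAlgebra
      EGA4.IsNormalHom Γ(S, V) Γ(Y, U))
    (s : S) (T : (h.fiber s).Opens) (hT : GeometricallyIrreducible (T.ι ≫ h.fiberToSpecResidueField s)) :
    ∃ (S' : Scheme.{u}) (g : S' ⟶ S) (s' : S'), IsAffine S' ∧ Hens2.IsEtaleNbhd g s' s ∧
      ∃ V : (pullback h g).Opens, IsCompact (V : Set ↑(pullback h g)) ∧ GeometricallyIntegral (V.ι ≫ pullback.snd h g) ∧
        ∀ y' : ↑(pullback h g), pullback.snd h g y' = s' → (y' ∈ V ↔ pullback.fst h g y' ∈ (h.fiberι s) '' (T : Set ↑(h.fiber s))) := by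
  haveI : Flat h := ((Groth.Calg4.normal_affineLocally_iff h).mp hn).1
  haveI := geometricallyReduced_of_normal h hn
  haveI := hT
  obtain ⟨S', g, s', hS', hnb, V, hVc, hVconn, hVfib⟩ := Groth.GeomComp.exists_etale_spread h s T
    (Groth.GrpschAbsch.UnitalMul.geometricallyConnected_of_geometricallyIrreducible _)
  haveI := hVconn
  exact ⟨S', g, s', hS', hnb, V, hVc, geometricallyIntegral_of_connected h hn g V, hVfib⟩

end Groth.Agent.S1472
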