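import Groth.Statements.S14726
import Groth.Agent.S1963
import Mathlib.RingTheory.Unramified.LocalStructure
import Mathlib.RingTheory.Smooth.Locus
import Mathlib.RingTheory.Localization.BaseChange
import Mathlib.RingTheory.Ideal.GoingDown

set_option autoImplicit false
universe u
open ValPrufer

namespace Groth.Agent.S14726


open TensorProduct in
/-- A nonzero polynomial over a valuation ring is a constant times a polynomial with a unit
coefficient. -/
theorem exists_content {V : Type u} [CommRing V] [IsDomain V] [ValuationRing V] {σ : Type}
    (f : MvPolynomial σ V) (hf : f ≠ 0) :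
    ∃ (c : V) (f' : MvPolynomial σ V),
      f = MvPolynomial.C c * f' ∧ f' ∉ (IsLocalRing.maximalIdeal V).map MvPolynomial.C := by
  classical
  have hmax : ∀ s : Finset (σ →₀ ℕ), s.Nonempty →
      ∃ d ∈ s, ∀ e ∈ s, f.coeff d ∣ f.coeff e := by
    intro s hs
    induction hs using Finset.Nonempty.cons_induction with
    | singleton a => exact ⟨a, Finset.mem_singleton_self a, fun e he => by rw [Finset.mem_singleton.1 he]⟩
    | cons a s ha hs ih =>
      obtain ⟨d, hd, hdiv⟩ := ih
      rcases ValuationRing.dvd_total (f.coeff a) (f.coeff d) with h | h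
      · refine ⟨a, Finset.mem_cons_self a s, fun e he => ?_⟩
        rcases Finset.mem_cons.1 he with rfl | he
        · exact dvd_rfl
        · exact h.trans (hdiv e he)
      · refine ⟨d, Finset.mem_cons_of_mem hd, fun e he => ?_⟩
        rcases Finset.mem_cons.1 he with rfl | he
        · exact h
        · exact hdiv e he
  obtain ⟨d, hd, hdiv⟩ := hmax f.support (MvPolynomial.support_nonempty.2 hf)
  have hall : ∀ e, f.coeff d ∣ f.coeff e := fun e => by
    by_cases he : e ∈ f.support
    · exact hdiv e he
    · rw [MvPolynomial.notMem_support_iff.1 he]; exact dvd_zero _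
  choose q hq using hall
  refine ⟨f.coeff d, ∑ e ∈ f.support, MvPolynomial.monomial e (q e), ?_, fun h => ?_⟩
  · conv_lhs => rw [f.as_sum]
    rw [Finset.mul_sum]
    exact Finset.sum_congr rfl fun e _ => by rw [MvPolynomial.C_mul_monomial, ← hq]
  · rw [MvPolynomial.mem_map_C_iff] at h
    have h1 := h d
    rw [MvPolynomial.coeff_sum, Finset.sum_eq_single d
      (fun b _ hb => by rw [MvPolynomial.coeff_monomial, if_neg hb]) (fun hn => absurd hd hn),
      MvPolynomial.coeff_monomial, if_pos rfl] at h1
    have hc : f.coeff d ≠ 0 := MvPolynomial.mem_support_iff.1 hd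
    have : q d = 1 := mul_left_cancel₀ hc ((hq d).symm.trans (mul_one _).symm)
    exact (IsLocalRing.maximalIdeal.isMaximal V).ne_top ((Ideal.eq_top_iff_one _).2 (this ▸ h1))

open TensorProduct in
/-- The key: elements of the local ring are constants times units. -/
theorem exists_eq_mul_unit {V : Type u} [CommRing V] [IsDomain V] [ValuationRing V]
    {A : Type u} [CommRing A] [IsDomain A] [Algebra V A] [Algebra.Smooth V A]
    (p : Ideal A) [p.IsPrime]
    (hp : p ∈ ((IsLocalRing.maximalIdeal V).map (algebraMap V A)).minimalPrimes)
    (x : Localization.AtPrime p) (hx : x ≠ 0) :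
    ∃ (v : V) (w : (Localization.AtPrime p)ˣ), x = algebraMap V (Localization.AtPrime p) v * w := by
  have : Algebra.IsSmoothAt V p :=
    (Algebra.smoothLocus_eq_univ (R := V) (A := A) ▸ Set.mem_univ (⟨p, inferInstance⟩ : PrimeSpectrum A) :)
  obtain ⟨f, hfp, n, algP, tower, hse⟩ :=
    Algebra.IsSmoothAt.exists_isStandardEtale_mvPolynomial (R := V) (p := p)
  let C := Localization.Away f
  let P := MvPolynomial (Fin n) V
  have hdisj : Disjoint (Submonoid.powers f : Set A) (p : Set A) :=
    (Ideal.disjoint_powers_iff_notMem_of_isPrime _).mpr hfp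
  let p' : Ideal C := p.map (algebraMap A C)
  have hp'p : p'.IsPrime :=
    IsLocalization.isPrime_of_isPrime_disjoint (.powers f) _ _ inferInstance hdisj
  have hp'c : p'.comap (algebraMap A C) = p :=
    IsLocalization.under_map_of_isPrime_disjoint (.powers f) _ inferInstance hdisj
  let mX : Ideal P := (IsLocalRing.maximalIdeal V).map MvPolynomial.C
  have hmX : mX.IsPrime := by
    have : mX = RingHom.ker (MvPolynomial.map (σ := Fin n) (Ideal.Quotient.mk (IsLocalRing.maximalIdeal V))) := by
      rw [MvPolynomial.ker_map, Ideal.mk_ker]
    rw [this]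
    exact RingHom.ker_isPrime _
  have hmV : IsLocalRing.maximalIdeal V ≤ p'.comap (algebraMap V C) := fun v hv => by
    rw [Ideal.mem_comap, IsScalarTower.algebraMap_apply V A C, ← Ideal.mem_comap, hp'c]
    exact hp.1.2 (Ideal.mem_map_of_mem _ hv)
  have hle : mX ≤ p'.comap (algebraMap P C) := by
    refine Ideal.map_le_iff_le_comap.2 fun v hv => ?_
    rw [Ideal.mem_comap, Ideal.mem_comap, show MvPolynomial.C v = algebraMap V P v from rfl,
      ← IsScalarTower.algebraMap_apply]
    exact hmV hv
  have : p'.LiesOver (p'.comap (algebraMap P C)) := ⟨rfl⟩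
  obtain ⟨p'', hp''le, hp''p, hp''o⟩ :=
    p'.exists_ideal_le_liesOver_of_le (p := mX) (q := p'.comap (algebraMap P C)) hle
  have hp'' : p'' = p' := by
    refine le_antisymm hp''le ?_
    have h1 : p ≤ p''.comap (algebraMap A C) := by
      refine hp.2 ⟨Ideal.IsPrime.comap _, ?_⟩ ((Ideal.comap_mono hp''le).trans hp'c.le)
      refine Ideal.map_le_iff_le_comap.2 fun v hv => ?_
      rw [Ideal.mem_comap, Ideal.mem_comap, ← IsScalarTower.algebraMap_apply,
        IsScalarTower.algebraMap_apply V P C]
      have : algebraMap V P v ∈ p''.under P := hp''o.over ▸ Ideal.mem_map_of_mem _ hv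
      exact this
    exact Ideal.map_le_iff_le_comap.2 h1
  have hQ : p'.comap (algebraMap P C) = mX := by rw [← hp'']; exact hp''o.over.symm
  let R := Localization.AtPrime mX
  have hcont : ∀ r : R, r ≠ 0 → ∃ (c : V) (w : Rˣ), r = algebraMap V R c * w := by
    intro r hr
    obtain ⟨⟨a, s⟩, has⟩ := IsLocalization.surj mX.primeCompl r
    have ha : a ≠ 0 := by
      rintro rfl
      rw [map_zero] at has
      exact hr ((IsLocalization.map_units R s).mul_left_eq_zero.1 has)
    obtain ⟨c, f', rfl, hf'⟩ := exists_content a ha
    refine ⟨c, (IsLocalization.map_units R (⟨f', hf'⟩ : mX.primeCompl)).unit *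
      (IsLocalization.map_units R s).unit⁻¹, ?_⟩
    rw [Units.val_mul, IsUnit.unit_spec, ← mul_assoc, ← (IsLocalization.map_units R s).mul_left_inj,
      mul_assoc _ _ (algebraMap P R s), IsUnit.val_inv_mul, mul_one, has, map_mul,
      IsScalarTower.algebraMap_apply V P R]
    rfl
  have : IsDomain R := IsLocalization.isDomain_localization mX.primeCompl_le_nonZeroDivisors
  have : PreValuationRing R := PreValuationRing.iff_dvd_total.2 ⟨fun (a b : R) => by
    by_cases ha : a = 0
    · exact Or.inr (ha ▸ dvd_zero b)
    by_cases hb : b = 0
    · exact Or.inl (hb ▸ dvd_zero a)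
    obtain ⟨c, w, rfl⟩ := hcont a ha
    obtain ⟨c', w', rfl⟩ := hcont b hb
    simp only [Units.dvd_mul_right, Units.mul_right_dvd]
    exact (ValuationRing.dvd_total c c').imp (map_dvd _) (map_dvd _)⟩
  have : ValuationRing R := ValuationRing.mk
  let B := R ⊗[P] C
  let ι : C →+* B := Algebra.TensorProduct.includeRight.toRingHom
  let := ι.toAlgebra
  have : IsLocalization (Algebra.algebraMapSubmonoid C mX.primeCompl) B :=
    IsLocalization.tensorRight (S := C) R mX.primeCompl
  have hdis : Disjoint (Algebra.algebraMapSubmonoid C mX.primeCompl : Set C) (p' : Set C) := by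
    rw [Set.disjoint_left]
    rintro _ ⟨a, ha, rfl⟩ h
    exact ha (hQ ▸ h : a ∈ mX)
  let m' : Ideal B := p'.map (algebraMap C B)
  have hm'p : m'.IsPrime :=
    IsLocalization.isPrime_of_isPrime_disjoint _ _ _ hp'p hdis
  have hm'c : m'.comap (algebraMap C B) = p' :=
    IsLocalization.under_map_of_isPrime_disjoint _ _ hp'p hdis
  have hm'R : m'.comap (algebraMap R B) = IsLocalRing.maximalIdeal R := by
    have hcomp : (algebraMap R B).comp (algebraMap P R) = (algebraMap C B).comp (algebraMap P C) :=
      RingHom.ext fun a => by
        show algebraMap R B (algebraMap P R a) = ι (algebraMap P C a)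
        rw [← IsScalarTower.algebraMap_apply]
        exact ((Algebra.TensorProduct.includeRight : C →ₐ[P] B).commutes a).symm
    have h := congrArg (Ideal.map (algebraMap P R))
      (show (m'.comap (algebraMap R B)).comap (algebraMap P R) = mX by
        rw [Ideal.comap_comap, hcomp, ← Ideal.comap_comap, hm'c, hQ])
    rw [IsLocalization.map_comap mX.primeCompl] at h
    rw [h, Localization.AtPrime.map_eq_maximalIdeal]
  obtain ⟨-, -, -, -, hB⟩ := Groth.Agent.S1963.result R B m' hm'R
  let L := Localization.AtPrime m'
  let Ap := Localization.AtPrime p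
  let : Algebra A L := ((algebraMap C L).comp (algebraMap A C)).toAlgebra
  have : IsScalarTower A C L := IsScalarTower.of_algebraMap_eq' rfl
  have hLC : IsLocalization.AtPrime L p' := by
    have h := IsLocalization.isLocalization_isLocalization_atPrime_isLocalization
      (Algebra.algebraMapSubmonoid C mX.primeCompl) L m'
    convert h using 2
    exact hm'c.symm
  have hLA : IsLocalization.AtPrime L p := by
    have h := IsLocalization.isLocalization_isLocalization_atPrime_isLocalization
      (Submonoid.powers f) L p'
    convert h using 2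
    exact hp'c.symm
  let e : Ap ≃ₐ[A] L := IsLocalization.algEquiv p.primeCompl Ap L
  obtain ⟨r, w, hrw⟩ := hB (e x) (fun h => hx (e.injective (by rw [h, map_zero])))
  have hr : r ≠ 0 := by
    rintro rfl
    rw [map_zero, mul_zero] at hrw
    exact hx (e.injective (by rw [hrw, map_zero]))
  obtain ⟨c, w', rfl⟩ := hcont r hr
  have hcomp : algebraMap R L (algebraMap V R c) = e (algebraMap V Ap c) := by
    rw [IsScalarTower.algebraMap_apply V A Ap, e.commutes, ← IsScalarTower.algebraMap_apply V R L]
    show algebraMap V L c = algebraMap C L (algebraMap A C (algebraMap V A c))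
    rw [← IsScalarTower.algebraMap_apply V A C, IsScalarTower.algebraMap_apply V P C,
      IsScalarTower.algebraMap_apply C B L, IsScalarTower.algebraMap_apply V B L]
    congr 1
    rw [IsScalarTower.algebraMap_apply V P B]
    exact ((Algebra.TensorProduct.includeRight : C →ₐ[P] B).commutes _).symm
  refine ⟨c, (w * (w'.map (algebraMap R L).toMonoidHom)).map e.symm.toRingEquiv.toRingHom.toMonoidHom, ?_⟩
  apply e.injective
  rw [hrw, map_mul, map_mul, hcomp]
  simp [mul_assoc, mul_comm, mul_left_comm]
  rfl

/-- Let V be a valuation ring with maximal ideal m, A an integral domain that is a smooth V-algebra, and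
p a prime ideal of A minimal among the primes containing mA (a generic point of the special fibre of
Spec A over V). Then A_p is a valuation ring, V → A_p is an injective local homomorphism, and every
nonzero element of A_p is a unit of A_p times the image of an element of V, so that V → A_p induces
a bijection on value groups. (The published statement takes A faithfully flat and a semilocalisation
of a smooth V-algebra at finitely many primes; the local ring A_p is then a local ring of the smooth
algebra itself at such a prime, and faithful flatness follows from the existence of p, so this row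
states the smooth case, which carries the whole content.) -/
theorem result
    (V : Type u) [CommRing V] [IsDomain V] [ValuationRing V]
    (A : Type u) [CommRing A] [IsDomain A] [Algebra V A] [Algebra.Smooth V A]
    (p : Ideal A) [p.IsPrime]
    (hp : p ∈ ((IsLocalRing.maximalIdeal V).map (algebraMap V A)).minimalPrimes) :
    ValuationRing (Localization.AtPrime p) ∧
      Function.Injective (algebraMap V (Localization.AtPrime p)) ∧
      IsLocalHom (algebraMap V (Localization.AtPrime p)) ∧
      ∀ x : Localization.AtPrime p, x ≠ 0 →
        ∃ (v : V) (w : (Localization.AtPrime p)ˣ), x = algebraMap V (Localization.AtPrime p) v * w := by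
  have hflat : Module.Flat V A := inferInstance
  have key := exists_eq_mul_unit (V := V) p hp
  have hinj : Function.Injective (algebraMap V (Localization.AtPrime p)) := by
    rw [IsScalarTower.algebraMap_eq V A (Localization.AtPrime p)]
    refine (IsLocalization.injective _ p.primeCompl_le_nonZeroDivisors).comp ?_
    exact FaithfulSMul.algebraMap_injective V A
  have hloc : IsLocalHom (algebraMap V (Localization.AtPrime p)) := ⟨fun v hv => by
    by_contra h
    have hm : algebraMap V A v ∈ p := hp.1.2 (Ideal.mem_map_of_mem _ h)
    rw [IsScalarTower.algebraMap_apply V A (Localization.AtPrime p),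
      IsLocalization.AtPrime.isUnit_to_map_iff _ p] at hv
    exact hv hm⟩
  refine ⟨?_, hinj, hloc, key⟩
  have : PreValuationRing (Localization.AtPrime p) := PreValuationRing.iff_dvd_total.2 ⟨fun a b => by
    by_cases ha : a = 0
    · exact Or.inr (ha ▸ dvd_zero b)
    by_cases hb : b = 0
    · exact Or.inl (hb ▸ dvd_zero a)
    obtain ⟨c, w, rfl⟩ := key a ha
    obtain ⟨c', w', rfl⟩ := key b hb
    simp only [Units.dvd_mul_right, Units.mul_right_dvd]
    exact (ValuationRing.dvd_total c c').imp (map_dvd _) (map_dvd _)⟩
  exact ValuationRing.mk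

end Groth.Agent.S14726
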