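import Groth.Statements.S14728
import Mathlib.RingTheory.Valuation.ValuationRing
import Mathlib.RingTheory.Localization.AtPrime.Basic
import Mathlib.RingTheory.Localization.LocalizationLocalization

set_option autoImplicit false
universe u
open ValPrufer

namespace Groth.Agent.S14728

/-- Let R be a Prüfer domain, i.e. a domain all of whose local rings at primes are valuation rings. (a)
For a multiplicative subset S, any localisation B = S⁻¹R that is a domain (S not containing 0) is a
Prüfer domain. (b) For a prime ideal I, the quotient R/I is a Prüfer domain. -/
theorem result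
    (R : Type u) [CommRing R] [IsDomain R]
    (hR : ∀ (p : Ideal R) [p.IsPrime], ValuationRing (Localization.AtPrime p))
    (S : Submonoid R) (B : Type u) [CommRing B] [IsDomain B] [Algebra R B] [IsLocalization S B]
    (I : Ideal R) [I.IsPrime] :
    (∀ (q : Ideal B) [q.IsPrime], ValuationRing (Localization.AtPrime q)) ∧
      (∀ (q : Ideal (R ⧸ I)) [q.IsPrime], ValuationRing (Localization.AtPrime q)) := by
  constructor
  · intro q _
    have hp : (q.comap (algebraMap R B)).IsPrime := inferInstance
    have := hR (q.comap (algebraMap R B))
    have := IsLocalization.isLocalization_isLocalization_atPrime_isLocalization S (Localization.AtPrime q) q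
    exact (Function.Surjective.preValuationRing
      (IsLocalization.algEquiv (q.comap (algebraMap R B)).primeCompl
        (Localization.AtPrime (q.comap (algebraMap R B))) (Localization.AtPrime q)).toRingEquiv.toMulEquiv.toMulHom
      (AlgEquiv.surjective _)) |> fun h => @ValuationRing.mk _ _ _ h
  · intro q _
    have := hR (q.comap (Ideal.Quotient.mk I))
    let φ : Localization.AtPrime (q.comap (Ideal.Quotient.mk I)) →+* Localization.AtPrime q :=
      Localization.localRingHom _ q (Ideal.Quotient.mk I) rfl
    have hφ : Function.Surjective φ := by
      intro z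
      obtain ⟨⟨x, y⟩, rfl⟩ := IsLocalization.mk'_surjective q.primeCompl z
      obtain ⟨x, rfl⟩ := Ideal.Quotient.mk_surjective x
      obtain ⟨y, hy⟩ := y
      obtain ⟨y, rfl⟩ := Ideal.Quotient.mk_surjective y
      exact ⟨IsLocalization.mk' _ x ⟨y, hy⟩, Localization.localRingHom_mk' _ q (Ideal.Quotient.mk I) rfl x ⟨y, hy⟩⟩
    exact (Function.Surjective.preValuationRing φ.toMonoidHom.toMulHom hφ) |> fun h => @ValuationRing.mk _ _ _ h

end Groth.Agent.S14728
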