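import Groth.Statements.S14729
import Groth.Agent.Misc8.PruferInter
-- import your own Groth.Agent.* helpers here

set_option autoImplicit false
universe u
open ValPrufer

namespace Groth.Agent.S14729

/-- Let R be a semilocal Prüfer domain (an integral domain with finitely many maximal ideals whose
localisations at primes are valuation rings) with fraction field L, and let K ⊆ L be a subfield.
Then R ∩ K is again a semilocal Prüfer domain and its fraction field is K, i.e. every element of K
is a quotient of two elements of R ∩ K. -/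
theorem result
    (R L : Type u) [CommRing R] [IsDomain R] [Field L] [Algebra R L] [IsFractionRing R L]
    (hR : ∀ (p : Ideal R) [p.IsPrime], ValuationRing (Localization.AtPrime p))
    (hfin : Finite (MaximalSpectrum R)) (K : Subfield L) :
    (∀ (p : Ideal ↥((algebraMap R L).range ⊓ K.toSubring)) [p.IsPrime],
        ValuationRing (Localization.AtPrime p)) ∧
      Finite (MaximalSpectrum ↥((algebraMap R L).range ⊓ K.toSubring)) ∧
      ∀ x : L, x ∈ K → ∃ a b : L, a ∈ (algebraMap R L).range ⊓ K.toSubring ∧
        b ∈ (algebraMap R L).range ⊓ K.toSubring ∧ b ≠ 0 ∧ x = a / b := by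
  classical
  obtain ⟨V, hV⟩ := Groth.Misc8.PruferInter.exists_valuationSubrings (L := L) hR
  let φ : ↥((algebraMap R L).range ⊓ K.toSubring) →+* K :=
    (Subring.subtype _).codRestrict K fun a => a.2.2
  let W : MaximalSpectrum R → ValuationSubring K := fun m => (V m).comap K.subtype
  have hinj : Function.Injective φ := fun a b h => Subtype.ext (congrArg (fun z : K => (z : L)) h)
  have hφ : ∀ x : K, x ∈ Set.range φ ↔ ∀ m, x ∈ W m := by
    intro x
    constructor
    · rintro ⟨a, rfl⟩ m
      exact (hV (a : L)).mp a.2.1 m
    · intro h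
      exact ⟨⟨(x : L), (hV (x : L)).mpr h, x.2⟩, rfl⟩
  refine ⟨fun p _ => Groth.Misc8.PruferInter.valuationRing_atPrime φ hinj W hφ p,
    Groth.Misc8.PruferInter.finite_maximalSpectrum φ hinj W hφ, fun x hx => ?_⟩
  obtain ⟨a, b, hb, he⟩ := Groth.Misc8.PruferInter.exists_fraction φ W hφ ⟨x, hx⟩
  exact ⟨a, b, a.2, b.2, fun h0 => hb (Subtype.ext h0), congrArg (fun z : K => (z : L)) he⟩

end Groth.Agent.S14729
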