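import Groth.Statements.S1473
import Groth.Agent.Contraction.Surj

set_option autoImplicit false
universe u
open FlatMor

namespace Groth.Agent.S1473

open AlgebraicGeometry CategoryTheory Limits in
/-- Conclusions (a)–(d) (the source adds that (b)–(d) persist after base change in Y, which is not
restated here): let f : X → Y be a proper morphism over S (structure maps f ≫ g and g : Y → S) with
f ≫ g locally of finite presentation and flat at every point over s, and suppose the morphism of
fibres f_s : X_s → Y_s has all fibres of dimension ≤ 1, has H^1 of the structure sheaf vanishing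
over every affine open of Y_s, and induces surjections O_{Y_s}(U) → O_{X_s}(f_s⁻¹ U) for all affine
opens U. Then there is an open V of Y containing the fibre Y_s such that f⁻¹(V) → S is flat, every
fibre of f over V has dimension ≤ 1, H^1 of the structure sheaf vanishes over the preimage of every
affine open of V, and f induces surjections O_Y(U) → O_X(f⁻¹ U) for all affine opens U ⊆ V. -/
theorem result {X Y S : Scheme.{u}} (f : X ⟶ Y) (g : Y ⟶ S) [IsProper f] [LocallyOfFinitePresentation (f ≫ g)]
    (s : S) (hflat : ∀ x : X, g (f x) = s → ((f ≫ g).stalkMap x).hom.Flat)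
    (hdim : ∀ y' : ↥(g.fiber s), topologicalKrullDim ↑((MoreMor.fiberMap f g s).fiber y') ≤ 1)
    (hR1 : ∀ U : (g.fiber s).Opens, IsAffineOpen U → Subsingleton (Coh.HHon ((f ≫ g).fiber s) (Coh.structureModule ((f ≫ g).fiber s)) (MoreMor.fiberMap f g s ⁻¹ᵁ U) 1))
    (hsurj : ∀ U : (g.fiber s).Opens, IsAffineOpen U → Function.Surjective ((MoreMor.fiberMap f g s).app U)) :
    ∃ V : Y.Opens, g ⁻¹' {s} ⊆ (V : Set ↑Y) ∧ Flat ((f ⁻¹ᵁ V).ι ≫ f ≫ g) ∧
      (∀ y ∈ V, topologicalKrullDim ↑(f.fiber y) ≤ 1) ∧
      (∀ U : Y.Opens, U ≤ V → IsAffineOpen U → Subsingleton (Coh.HHon X (Coh.structureModule X) (f ⁻¹ᵁ U) 1)) ∧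
      ∀ U : Y.Opens, U ≤ V → IsAffineOpen U → Function.Surjective (f.app U) := by
  have hgood : ∀ y : Y, g y = s → Groth.Contraction.Good f y :=
    Groth.Contraction.good_of_fiberMap f g s (fun y' => by exact_mod_cast hdim y') hR1
  obtain ⟨O, hsO, hOg, hOfl⟩ := Groth.Contraction.exists_good_flat_open f g s hflat hgood
  obtain ⟨V, hsV, hVO, hVsurj⟩ :=
    Groth.Contraction.exists_surjective_open f g s O hsO hOg hOfl hsurj
  refine ⟨V, hsV, ?_, fun y hy => ?_, fun U hU hUa => ?_, hVsurj⟩
  · rw [← X.homOfLE_ι (f.preimage_mono hVO), Category.assoc]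
    infer_instance
  · exact_mod_cast (hOg y (hVO hy)).1
  · exact Groth.Contraction.subsingleton_HHon_preimage f hUa fun y hy => hOg y (hVO (hU hy))

end Groth.Agent.S1473
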