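import Groth.Statements.S14730
import Groth.Agent.Misc8.PruferInter
-- import your own Groth.Agent.* helpers here

set_option autoImplicit false
universe u
open ValPrufer

namespace Groth.Agent.S14730

/-- Let R be a semilocal Prüfer domain (an integral domain with finitely many maximal ideals whose
localisations at primes are valuation rings). Then R is the increasing union of subrings that are
semilocal Prüfer domains of finite Krull dimension; equivalently, every finite subset of R is
contained in such a subring. -/
theorem result
    (R : Type u) [CommRing R] [IsDomain R]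
    (hR : ∀ (p : Ideal R) [p.IsPrime], ValuationRing (Localization.AtPrime p))
    (hfin : Finite (MaximalSpectrum R)) (s : Finset R) :
    ∃ R' : Subring R, (↑s : Set R) ⊆ R' ∧
      (∀ (p : Ideal R') [p.IsPrime], ValuationRing (Localization.AtPrime p)) ∧
      Finite (MaximalSpectrum R') ∧ ringKrullDim R' < ⊤ := by
  classical
  let L := FractionRing R
  obtain ⟨V, hV⟩ := Groth.Misc8.PruferInter.exists_valuationSubrings (L := L) hR
  let K : Subfield L := Subfield.closure (↑(s.image (algebraMap R L)) : Set L)
  let R' : Subring R := K.toSubring.comap (algebraMap R L)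
  let φ : R' →+* K := ((algebraMap R L).comp R'.subtype).codRestrict K fun a => a.2
  let W : MaximalSpectrum R → ValuationSubring K := fun m => (V m).comap K.subtype
  have hinj : Function.Injective φ := fun a b h =>
    Subtype.ext (IsFractionRing.injective R L (congrArg (fun z : K => (z : L)) h))
  have hφ : ∀ x : K, x ∈ Set.range φ ↔ ∀ m, x ∈ W m := by
    intro x
    constructor
    · rintro ⟨a, rfl⟩ m
      exact (hV _).mp ⟨(a : R), rfl⟩ m
    · intro h
      obtain ⟨r, hr⟩ := (hV (x : L)).mpr h
      exact ⟨⟨r, show algebraMap R L r ∈ K from hr ▸ x.2⟩, Subtype.ext hr⟩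
  let t : Finset K := (s.image (algebraMap R L)).subtype fun y => y ∈ K
  have ht : Subfield.closure (↑t : Set K) = ⊤ := by
    rw [← Subfield.comap_map K.subtype (Subfield.closure _), ← Subfield.comap_map K.subtype ⊤]
    congr 1
    rw [RingHom.map_field_closure, ← RingHom.fieldRange_eq_map]
    have himg : (K.subtype '' (↑t : Set K)) = (↑(s.image (algebraMap R L)) : Set L) := by
      ext y
      constructor
      · rintro ⟨z, hz, rfl⟩
        exact Finset.mem_subtype.mp hz
      · intro hy
        exact ⟨⟨y, Subfield.subset_closure hy⟩, Finset.mem_subtype.mpr hy, rfl⟩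
    rw [himg]
    exact K.fieldRange_subtype.symm
  exact ⟨R', fun r hr => Subfield.subset_closure (Finset.mem_coe.mpr (Finset.mem_image_of_mem _ hr)),
    fun p _ => Groth.Misc8.PruferInter.valuationRing_atPrime φ hinj W hφ p,
    Groth.Misc8.PruferInter.finite_maximalSpectrum φ hinj W hφ,
    Groth.Misc8.PruferInter.ringKrullDim_lt_top t ht φ hinj⟩

end Groth.Agent.S14730
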