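import Groth.Statements.S14731
import Groth.Agent.Misc8.SmoothModel
-- import your own Groth.Agent.* helpers here

set_option autoImplicit false
universe u
open ValPrufer

namespace Groth.Agent.S14731

/-- In characteristic zero, every field K generated as a field by a finite set is the fraction field of
a subring A of K of finite type and smooth over the integers. -/
theorem result
    (K : Type u) [Field K] [CharZero K] (s : Finset K)
    (hs : Subfield.closure (↑s : Set K) = ⊤) :
    ∃ A : Subring K, Algebra.FiniteType ℤ A ∧ Algebra.Smooth ℤ A ∧ IsFractionRing A K := by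
  have := Groth.Misc8.SmoothModel.essFiniteType ℤ s hs
  have : Algebra.EssFiniteType ℚ K := Algebra.EssFiniteType.of_comp ℤ ℚ K
  have : Algebra.FormallyEtale ℤ ℚ := Algebra.FormallyEtale.of_isLocalization (nonZeroDivisors ℤ)
  have : Algebra.FormallySmooth ℤ K := Algebra.FormallySmooth.comp ℤ ℚ K
  obtain ⟨A, h1, h2, h3⟩ := Groth.Misc8.SmoothModel.exists_smooth_model ℤ s hs
  let e : A ≃ₐ[ℤ] A.toSubring := { RingEquiv.refl A with commutes' := fun z => by simp }
  exact ⟨A.toSubring, h1.equiv e, ⟨Algebra.FormallySmooth.of_equiv e, Algebra.FinitePresentation.equiv e⟩, h3⟩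

end Groth.Agent.S14731
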