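import Groth.Statements.S14733
import Groth.Agent.Misc8.ValFibreDim

set_option autoImplicit false
open CategoryTheory AlgebraicGeometry
universe u
open ValPrufer

namespace Groth.Agent.S14733

/-- Let R be a Prüfer domain (an integral domain whose localisations at primes are valuation rings), X
an irreducible scheme and f : X ⟶ Spec R a dominant morphism of finite type. If the fibre of f over
a point γ of Spec R is nonempty, then it has the same dimension as the fibre over the generic point. -/
theorem result
    (R : Type u) [CommRing R] [IsDomain R]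
    (hR : ∀ (p : Ideal R) [p.IsPrime], ValuationRing (Localization.AtPrime p))
    (X : Scheme.{u}) [IrreducibleSpace X] (f : X ⟶ Spec (CommRingCat.of R))
    [LocallyOfFiniteType f] [QuasiCompact f] [IsDominant f] (γ : Spec (CommRingCat.of R))
    (h0 : Nonempty ↥(f.fiber γ)) :
    topologicalKrullDim ↥(f.fiber γ) =
      topologicalKrullDim ↥(f.fiber (genericPoint (Spec (CommRingCat.of R)))) := by
  let V := Localization.AtPrime (γ : PrimeSpectrum R).asIdeal
  haveI : IsDomain V := IsLocalization.isDomain_localization (Ideal.primeCompl_le_nonZeroDivisors _)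
  haveI : ValuationRing V := hR _
  let g : Spec (CommRingCat.of V) ⟶ Spec (CommRingCat.of R) :=
    Spec.map (CommRingCat.ofHom (algebraMap R V))
  haveI : IsPreimmersion g := IsPreimmersion.of_isLocalization (γ : PrimeSpectrum R).asIdeal.primeCompl
  let g' := Limits.pullback.fst f g
  let f' := Limits.pullback.snd f g
  haveI : LocallyOfFiniteType f' := inferInstanceAs (LocallyOfFiniteType (Limits.pullback.snd f g))
  have hgc : g.base (IsLocalRing.closedPoint V) = γ :=
    PrimeSpectrum.ext (IsLocalization.AtPrime.under_maximalIdeal V ((γ : PrimeSpectrum R).asIdeal) _)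
  have hgb : g.base (⟨⊥, Ideal.isPrime_bot⟩ : PrimeSpectrum V) = (⟨⊥, Ideal.isPrime_bot⟩ : PrimeSpectrum R) :=
    PrimeSpectrum.ext (by
      show Ideal.comap (algebraMap R V) ⊥ = ⊥
      rw [← RingHom.ker_eq_comap_bot, ← RingHom.injective_iff_ker_eq_bot]
      exact IsLocalization.injective V (Ideal.primeCompl_le_nonZeroDivisors (γ : PrimeSpectrum R).asIdeal))
  obtain ⟨η, hη, -⟩ : ∃ η : ↥(Limits.pullback f g), g'.base η = genericPoint X ∧
      f'.base η = (⟨⊥, Ideal.isPrime_bot⟩ : PrimeSpectrum V) :=
    Scheme.Pullback.exists_preimage_pullback _ _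
      ((Groth.Misc8.ValFibre.base_genericPoint f).trans hgb.symm)
  have hgen : ∀ w : ↥(Limits.pullback f g), η ⤳ w := fun w =>
    g'.isEmbedding.toIsInducing.specializes_iff.1 (hη ▸ genericPoint_specializes _)
  haveI : IrreducibleSpace ↥(Limits.pullback f g) := by
    rw [irreducibleSpace_def, Set.top_eq_univ, ← Set.eq_univ_of_forall (s := closure {η}) fun w => specializes_iff_mem_closure.1 (hgen w)]
    exact isIrreducible_singleton.closure
  haveI : IsDominant f' := by
    refine ⟨fun y => ?_⟩
    have hy : f'.base η ⤳ y := by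
      have h1 : g.base (f'.base η) = (⟨⊥, Ideal.isPrime_bot⟩ : PrimeSpectrum R) := by
        rw [← Scheme.Hom.comp_apply, ← Limits.pullback.condition, Scheme.Hom.comp_apply, hη,
          Groth.Misc8.ValFibre.base_genericPoint f]
      rw [g.isEmbedding.injective (h1.trans hgb.symm)]
      exact (Groth.Misc8.ValFibre.isGenericPoint_bot (R := V)).specializes (Set.mem_univ y)
    exact closure_mono (Set.singleton_subset_iff.2 (Set.mem_range_self η)) (specializes_iff_mem_closure.1 hy)
  have hbot : genericPoint (Spec (CommRingCat.of R)) = g.base (⟨⊥, Ideal.isPrime_bot⟩ : PrimeSpectrum V) := by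
    rw [hgb]; exact (genericPoint_spec _).eq Groth.Misc8.ValFibre.isGenericPoint_bot
  have hc := IsPullback.of_hasPullback f g
  refine ((congrArg (fun y => topologicalKrullDim ↥(f.fiber y)) hgc).symm.trans ?_)
  rw [hbot, ← Groth.FibreDim.dim_fiber_baseChange f g f' g' hc, ← Groth.FibreDim.dim_fiber_baseChange f g f' g' hc]
  refine Groth.Misc8.ValFibre.dim_closed_fiber_eq f' ?_
  obtain ⟨z⟩ := h0
  obtain ⟨w, -, hw⟩ := Scheme.Pullback.exists_preimage_pullback (f := f) (g := g) ((f.fiberι γ).base z)
    (IsLocalRing.closedPoint V) ((Groth.FibreDim.apply_fiberι f γ z).trans hgc.symm)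
  exact ⟨((f'.fiberHomeo _).symm ⟨w, hw⟩)⟩

end Groth.Agent.S14733
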