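import Groth.Statements.S14734
import Groth.Agent.Misc8.PruferDimFun

set_option autoImplicit false
universe u
open ValPrufer

namespace Groth.Agent.S14734

/-- Let R be a Prüfer domain (an integral domain whose localisations at primes are valuation rings) of
finite Krull dimension and S an R-algebra of finite type. Then S, and every localisation T of S at a
multiplicative subset, is catenary and of finite Krull dimension. (The published statement is for a
scheme X of finite type over R and the spectrum of any semilocalisation of X; catenarity is local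
and finiteness of dimension is checked on a finite affine cover, so this row states the affine case
together with arbitrary localisations.) -/
theorem result
    (R : Type u) [CommRing R] [IsDomain R]
    (hR : ∀ (p : Ideal R) [p.IsPrime], ValuationRing (Localization.AtPrime p))
    (hdim : ringKrullDim R < ⊤)
    (S : Type u) [CommRing S] [Algebra R S] [Algebra.FiniteType R S]
    (M : Submonoid S) (T : Type u) [CommRing T] [Algebra S T] [IsLocalization M T] :
    CAlg.IsCatenary S ∧ ringKrullDim S < ⊤ ∧ CAlg.IsCatenary T ∧ ringKrullDim T < ⊤ := by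
  obtain ⟨c, hc⟩ := Groth.Misc8.PruferDim.exists_bound (S := S) hdim
  have hlen : ∀ s : LTSeries (PrimeSpectrum S), s.length ≤ 2 * c := fun s => by
    have h1 := Groth.Misc8.PruferDim.series_length_le hR hdim s
    have h2 := (hc s.head).2
    have h3 := (hc s.last).1
    omega
  let f : PrimeSpectrum T → PrimeSpectrum S := PrimeSpectrum.comap (algebraMap S T)
  let e : PrimeSpectrum T ↪o PrimeSpectrum S := OrderEmbedding.ofMapLEIff f fun a b =>
    ⟨fun h => (IsLocalization.map_under M T a.asIdeal).symm.le.trans
      ((Ideal.map_mono h).trans (IsLocalization.map_under M T b.asIdeal).le), fun h => Ideal.comap_mono h⟩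
  have hcov : ∀ a b : PrimeSpectrum T, a ⋖ b → e a ⋖ e b := fun a b h => by
    refine ⟨e.lt_iff_lt.mpr h.lt, fun x h1 h2 => ?_⟩
    have hd : Disjoint (M : Set S) (x.asIdeal : Set S) := Set.disjoint_left.mpr fun m hm hx =>
      b.2.ne_top (Ideal.eq_top_of_isUnit_mem _ (h2.le hx) (IsLocalization.map_units T ⟨m, hm⟩))
    let x' : PrimeSpectrum T := ⟨x.asIdeal.map (algebraMap S T), IsLocalization.isPrime_of_isPrime_disjoint M T _ x.2 hd⟩
    have hx : e x' = x := PrimeSpectrum.ext (IsLocalization.under_map_of_isPrime_disjoint M T x.2 hd)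
    rw [← hx, e.lt_iff_lt] at h1 h2
    exact h.2 h1 h2
  have hdimS : ringKrullDim S < ⊤ := lt_of_le_of_lt
    (iSup_le fun s => WithBot.coe_le_coe.mpr (Nat.cast_le.mpr (hlen s)))
    (WithBot.coe_lt_coe.mpr (ENat.coe_lt_top (2 * c)))
  refine ⟨⟨fun p q _ => ⟨2 * c, fun s _ _ => hlen s⟩, fun s t hh hl hs ht => ?_⟩, hdimS,
    ⟨fun p q _ => ⟨2 * c, fun s _ _ => hlen (s.map e e.strictMono)⟩, fun s t hh hl hs ht => ?_⟩,
    lt_of_le_of_lt (Order.krullDim_le_of_strictMono e e.strictMono) hdimS⟩
  · have a1 := Groth.Misc8.PruferDim.series_length_eq hR hdim s hs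
    have a2 := Groth.Misc8.PruferDim.series_length_eq hR hdim t ht
    rw [hh, hl] at a1
    omega
  · have a1 := Groth.Misc8.PruferDim.series_length_eq hR hdim (s.map e e.strictMono) fun i => hcov _ _ (hs i)
    have a2 := Groth.Misc8.PruferDim.series_length_eq hR hdim (t.map e e.strictMono) fun i => hcov _ _ (ht i)
    rw [LTSeries.head_map, LTSeries.last_map] at a1 a2
    rw [hh, hl] at a1
    change ((s.length : ℕ) : ℤ) = _ at a1
    change ((t.length : ℕ) : ℤ) = _ at a2
    omega

end Groth.Agent.S14734
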