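import Groth.Statements.S14737
import Groth.Agent.Misc8.GSTorsor
import Groth.Agent.Ega4Algebra1.RegularLocal
import Mathlib.RingTheory.AdicCompletion.AsTensorProduct
import Mathlib.RingTheory.AdicCompletion.Completeness
import Mathlib.AlgebraicGeometry.Morphisms.Smooth

set_option autoImplicit false
universe u
open CategoryTheory MonoidalCategory CartesianMonoidalCategory MonObj AlgebraicGeometry
open ValPrufer

namespace Groth.Agent.S14737

/-- Let R be a regular local ring with fraction field K, r ∈ R, R̂ the r-adic completion of R, and G a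
reductive R-group scheme. Assume the Grothendieck–Serre statement for R and G: every G-torsor for
the fppf topology over Spec R that has a K-point has a section. Then G(R̂[1/r]) = G(R̂) · G(R[1/r]):
every point g of G over R̂[1/r] is the product, in the group of R̂[1/r]-points, of the restriction
of an R̂-point g₂ and the restriction of an R[1/r]-point g₁; the product is written through the pair
morphism h = (g₂, g₁) into G ×_R G followed by the multiplication of G. (The published statement is
the implication from the Grothendieck–Serre conjecture; only its instance for this R and this G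
enters the proof, so that instance is the hypothesis here.) -/
theorem result (R : Type u) [CommRing R] [IsRegularLocalRing R] (r : R)
    (G : Over (Spec (CommRingCat.of R))) [GrpObj G] (hG : Red.IsReductive G)
    (hGS : ∀ (X : Over (Spec (CommRingCat.of R))) (a : AlgGrp.Action G X),
      NonAbH1.IsTorsorFor Scheme.fppfPrecoverage a →
      NonAbH1.HasSectionOver X (Spec.map (CommRingCat.ofHom (algebraMap R (FractionRing R)))) →
      NonAbH1.HasSectionOver X (𝟙 (Spec (CommRingCat.of R))))
    (g : Spec (CommRingCat.of (Localization.Away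
            (algebraMap R (AdicCompletion (Ideal.span {r}) R) r))) ⟶ G.left)
    (hg : g ≫ G.hom = Spec.map (CommRingCat.ofHom (algebraMap R (Localization.Away
            (algebraMap R (AdicCompletion (Ideal.span {r}) R) r))))) :
    ∃ (g₁ : Spec (CommRingCat.of (Localization.Away r)) ⟶ G.left)
      (g₂ : Spec (CommRingCat.of (AdicCompletion (Ideal.span {r}) R)) ⟶ G.left)
      (h : Spec (CommRingCat.of (Localization.Away
            (algebraMap R (AdicCompletion (Ideal.span {r}) R) r))) ⟶ (G ⊗ G).left),
      g₁ ≫ G.hom = Spec.map (CommRingCat.ofHom (algebraMap R (Localization.Away r))) ∧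
      g₂ ≫ G.hom = Spec.map (CommRingCat.ofHom (algebraMap R (AdicCompletion (Ideal.span {r}) R))) ∧
      h ≫ (fst G G).left = Spec.map (CommRingCat.ofHom (algebraMap (AdicCompletion (Ideal.span {r}) R)
                (Localization.Away (algebraMap R (AdicCompletion (Ideal.span {r}) R) r)))) ≫ g₂ ∧
      h ≫ (snd G G).left = Spec.map (CommRingCat.ofHom (Localization.awayMap
                (algebraMap R (AdicCompletion (Ideal.span {r}) R)) r)) ≫ g₁ ∧
      g = h ≫ (μ[G]).left := by
  classical
  haveI : IsDomain R := Groth.Ega4Algebra1.isDomain_of_isRegularLocalRing R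
  let I : Ideal R := Ideal.span {r}
  let R' := AdicCompletion I R
  let L := Localization.Away r
  let W := Localization.Away (algebraMap R R' r)
  let jR' : R' →ₐ[R] W := IsScalarTower.toAlgHom R R' W
  let jL : L →ₐ[R] W :=
    { Localization.awayMap (algebraMap R R') r with
      commutes' := fun x => by
        show Localization.awayMap (algebraMap R R') r (algebraMap R L x) = algebraMap R W x
        rw [Localization.awayMap, IsLocalization.Away.map, IsLocalization.map_eq, IsScalarTower.algebraMap_apply R R' W] }
  haveI : IsAffineHom G.hom := hG.1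
  haveI : IsAffine G.left := isAffine_of_isAffineHom G.hom
  haveI : Smooth G.hom := hG.2.1
  let B := Γ(G.left, ⊤)
  let ρ : CommRingCat.of R ⟶ B := (Scheme.ΓSpecIso (CommRingCat.of R)).inv ≫ G.hom.appTop
  letI : Algebra R B := ρ.hom.toAlgebra
  have hw : G.left.isoSpec.inv ≫ G.hom = Spec.map ρ := by
    rw [← Scheme.isoSpec_inv_naturality]
    simp only [ρ, Spec.map_comp]
    congr 1
    exact Scheme.isoSpec_Spec_inv (CommRingCat.of R)
  let eG : Groth.Misc8.GSGlue.E (R := R) B ≅ G := Over.isoMk G.left.isoSpec.symm hw
  have hsm : Smooth (Spec.map (CommRingCat.ofHom (algebraMap R B))) := by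
    show Smooth (Spec.map ρ)
    rw [← hw]
    infer_instance
  rw [HasRingHomProperty.Spec_iff (P := @Smooth)] at hsm
  haveI : Algebra.Smooth R B := RingHom.smooth_algebraMap.mp hsm
  haveI : Algebra.FinitePresentation R B := inferInstance
  haveI : Module.Flat R B := inferInstance
  -- every pair of points gives an `h`
  let res₁ : Groth.Misc8.GSGlue.E (R := R) W ⟶ Groth.Misc8.GSGlue.E (R := R) L := Groth.Misc8.GSGlue.Eh jL
  let res₂ : Groth.Misc8.GSGlue.E (R := R) W ⟶ Groth.Misc8.GSGlue.E (R := R) R' := Groth.Misc8.GSGlue.Eh jR'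
  let gO : Groth.Misc8.GSGlue.E (R := R) W ⟶ G := Over.homMk g hg
  suffices h : ∃ (g₁ : Groth.Misc8.GSGlue.E (R := R) L ⟶ G) (g₂ : Groth.Misc8.GSGlue.E (R := R) R' ⟶ G),
      gO = (res₂ ≫ g₂) * (res₁ ≫ g₁) by
    obtain ⟨g₁, g₂, h⟩ := h
    refine ⟨g₁.left, g₂.left, (lift (res₂ ≫ g₂) (res₁ ≫ g₁)).left, Over.w g₁, Over.w g₂, ?_, ?_, ?_⟩
    · rw [← Over.comp_left, lift_fst]; rfl
    · rw [← Over.comp_left, lift_snd]; rfl
    · rw [← Over.comp_left, ← Hom.mul_def, ← h]; rfl
  by_cases hr : r = 0
  · subst hr
    haveI : Subsingleton W := IsLocalization.subsingleton (M := Submonoid.powers (algebraMap R R' 0))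
      (show (0 : R') ∈ Submonoid.powers (algebraMap R R' 0) from ⟨1, by simp⟩)
    haveI : IsEmpty (Spec (CommRingCat.of W)) := inferInstanceAs (IsEmpty (PrimeSpectrum W))
    haveI : IsEmpty (Groth.Misc8.GSGlue.E (R := R) W).left := inferInstanceAs (IsEmpty (Spec (CommRingCat.of W)))
    exact ⟨1, 1, Over.OverMorphism.ext (isInitialOfIsEmpty.hom_ext _ _)⟩
  let K := FractionRing R
  have hrK : IsUnit (algebraMap R K r) := IsUnit.mk0 _ fun h => hr ((IsFractionRing.injective R K) (h.trans (map_zero _).symm))
  let κ : L →ₐ[R] K := IsLocalization.liftAlgHom (M := Submonoid.powers r) (f := Algebra.ofId R K)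
    (fun y => by obtain ⟨n, hn⟩ := y.2; rw [← hn, map_pow]; exact hrK.pow n)
  have hP : Groth.Misc8.GSGlue.Pair R' r := by
    refine ⟨AdicCompletion.flat_of_isNoetherian I, fun n => ?_⟩
    let q : R' →ₐ[R] R ⧸ Ideal.span {r ^ n} :=
      (Ideal.quotientEquivAlgOfEq R (Ideal.span_singleton_pow r n)).toAlgHom.comp (AdicCompletion.evalₐ I n)
    refine ⟨q, fun x hx => ?_⟩
    have h1 : AdicCompletion.evalₐ I n x = 0 :=
      (Ideal.quotientEquivAlgOfEq R (Ideal.span_singleton_pow r n)).map_eq_zero_iff.mp hx
    have h2 : x ∈ (AdicCompletion.eval I R n).ker := by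
      rw [LinearMap.mem_ker]
      exact ((AdicCompletion.factor_evalₐ_eq_eval I x (le_of_eq (by rw [smul_eq_mul, Ideal.mul_top]))).symm.trans (by rw [h1, map_zero]))
    rw [← AdicCompletion.pow_smul_top_eq_ker_eval (Submodule.fg_span_singleton r), Ideal.span_singleton_pow,
      Submodule.ideal_span_singleton_smul] at h2
    obtain ⟨y, -, hy⟩ := (Submodule.mem_smul_pointwise_iff_exists _ _ _).mp h2
    exact ⟨y, by rw [← hy, Algebra.smul_def]⟩
  let e : TensorProduct R R' L →ₐ[R] W :=
    Algebra.TensorProduct.lift jR' jL (fun _ _ => Commute.all _ _)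
  have he : Function.Bijective e := by
    haveI : IsLocalization (Algebra.algebraMapSubmonoid R' (Submonoid.powers r)) (TensorProduct R R' L) :=
      IsLocalization.tensor L (Submonoid.powers r)
    haveI : IsLocalization (Algebra.algebraMapSubmonoid R' (Submonoid.powers r)) W := by
      rw [Algebra.algebraMapSubmonoid_powers]; infer_instance
    let e' := IsLocalization.algEquiv (Algebra.algebraMapSubmonoid R' (Submonoid.powers r)) (TensorProduct R R' L) W
    have : e = (e'.toAlgHom.restrictScalars R) := by
      apply Algebra.TensorProduct.ext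
      · ext x
        show e (x ⊗ₜ 1) = e' (x ⊗ₜ 1)
        rw [show (x ⊗ₜ (1 : L) : TensorProduct R R' L) = algebraMap R' _ x from rfl, AlgEquiv.commutes]
        rw [show (algebraMap R' (TensorProduct R R' L) x) = x ⊗ₜ (1 : L) from rfl]
        simp only [e, jR', Algebra.TensorProduct.lift_tmul, map_one, _root_.mul_one, IsScalarTower.coe_toAlgHom']
      · exact Groth.Misc8.GSGlue.subsingleton_algHom (r := r) _ _
    rw [this]
    exact e'.bijective
  let eW := AlgEquiv.ofBijective e he
  obtain ⟨g₁, g₂, hgg⟩ := Groth.Misc8.GSGlue.exists_decomposition (L := L) hr hP B eG K κ hGS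
    (Groth.Misc8.GSGlue.Eh eW.symm.toAlgHom ≫ gO)
  refine ⟨g₁, g₂, ?_⟩
  have h := congrArg (Groth.Misc8.GSGlue.Eh eW.toAlgHom ≫ ·) hgg
  simp only [MonObj.comp_mul, ← Category.assoc, Groth.Misc8.GSGlue.Eh_comp] at h
  rw [show eW.toAlgHom.comp eW.symm.toAlgHom = AlgHom.id R W from AlgHom.ext fun x => eW.apply_symm_apply x,
    Groth.Misc8.GSGlue.Eh_id, Category.id_comp,
    show eW.toAlgHom.comp Algebra.TensorProduct.includeLeft = jR' from AlgHom.ext fun x => by simp [eW, e],
    show eW.toAlgHom.comp Algebra.TensorProduct.includeRight = jL from AlgHom.ext fun x => by simp [eW, e]] at h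
  exact h

end Groth.Agent.S14737
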