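import Groth.Statements.S14741
import Groth.Agent.PnCoh.Cohomology

set_option autoImplicit false
universe u
open CategoryTheory AlgebraicGeometry
open ValPrufer

namespace Groth.Agent.S14741

/-- Let R be a semilocal Prüfer domain (an integral domain with finitely many maximal ideals whose
localisations at primes are valuation rings) of finite Krull dimension, m ≥ 1, X a closed subscheme
of projective (m-1)-space over R which is flat over R, and F a finitely presented (equivalently,
coherent) O_X-module. Then H^q(X, F) = 0 for all q > m. -/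
theorem result
    (R : Type u) [CommRing R] [IsDomain R]
    (hR : ∀ (p : Ideal R) [p.IsPrime], ValuationRing (Localization.AtPrime p))
    (hfin : Finite (MaximalSpectrum R)) (hdim : ringKrullDim R < ⊤)
    (m : ℕ) (hm : 1 ≤ m) (X : Scheme.{u}) (ι : X ⟶ CohB1.ProjSpace (m - 1) R) [IsClosedImmersion ι]
    [Flat (ι ≫ CohB1.ProjSpace.toSpec (m - 1) R)]
    (F : X.Modules) (hF : CohB1.IsFP F) (q : ℕ) (hq : m < q) :
    Subsingleton (Coh.HH X F q) := by
  have := hF
  have : Coh.IsQCoh F := inferInstance
  generalize hr : m - 1 = r at ι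
  have : (CohB1.ProjSpace r R).IsSeparated := ⟨by
    have : (Proj (CohB1.polyGrading r R)).IsSeparated := ⟨by
      rw [← Limits.terminal.comp_from (Proj.toSpecZero (CohB1.polyGrading r R))]
      infer_instance⟩
    exact this.1⟩
  have : X.IsSeparated := ⟨by
    rw [← Limits.terminal.comp_from ι]
    infer_instance⟩
  refine Groth.Agent.S0010.result X (r + 1) (fun i => ι ⁻¹ᵁ Groth.PnCoh.stdOpen r R ⟨i⟩) (fun i => ?_) ?_
    (fun V W hV hW => IsAffineOpen.inf hV hW) F q (by omega)
  · refine IsAffineOpen.preimage ?_ ι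
    exact Proj.isAffineOpen_basicOpen _ _
      ((MvPolynomial.mem_homogeneousSubmodule _ _).mpr (MvPolynomial.isHomogeneous_X R i)) one_pos
  · rw [← Scheme.Hom.preimage_iSup]
    have h := (Groth.PnCoh.isAcyclicCover_stdOpen r R).cover
    refine eq_top_iff.mpr fun x _ => ?_
    have hx : ι x ∈ ⨆ i, Groth.PnCoh.stdOpen r R i := by rw [h]; trivial
    obtain ⟨i, hi⟩ := TopologicalSpace.Opens.mem_iSup.mp hx
    exact TopologicalSpace.Opens.mem_iSup.mpr ⟨i.down, hi⟩

end Groth.Agent.S14741
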