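import Groth.Statements.S14742
import Mathlib
import Groth.Agent.Calg7.PruferFG
-- import your own Groth.Agent.* helpers here

set_option autoImplicit false
universe u
open ValPrufer

namespace Groth.Agent.S14742

/-- Let R be a Prüfer domain (an integral domain whose localisations at primes are valuation rings) and
A a finitely presented R-algebra. Then A is a coherent ring: every finitely generated ideal I of A
is finitely presented as an A-module. -/
theorem result
    (R : Type u) [CommRing R] [IsDomain R]
    (hR : ∀ (p : Ideal R) [p.IsPrime], ValuationRing (Localization.AtPrime p))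
    (A : Type u) [CommRing A] [Algebra R A] [Algebra.FinitePresentation R A]
    (I : Ideal A) (hI : I.FG) : Module.FinitePresentation A I := by
  classical
  obtain ⟨n, π, hπ, hker⟩ := Algebra.FinitePresentation.out (R := R) (A := A)
  obtain ⟨r, a, ha⟩ := Submodule.fg_iff_exists_fin_generating_family.1 hI
  obtain ⟨m, j, hj⟩ := Submodule.fg_iff_exists_fin_generating_family.1 hker
  choose b hb using fun i => hπ (a i)
  let P' := MvPolynomial (ULift.{u} (Fin n)) R
  let e : P' ≃ₐ[R] MvPolynomial (Fin n) R := MvPolynomial.renameEquiv R Equiv.ulift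
  let w : Fin (r + m) → P' := fun i => e.symm (Fin.append b j i)
  let ψ : (Fin (r + m) → P') →ₗ[P'] P' := Fintype.linearCombination P' w
  have hK : (LinearMap.ker ψ).FG := Groth.Calg7.PruferFG.fg_of_saturated hR _ fun c f hc hcf => by
    rw [LinearMap.mem_ker, map_smul, smul_eq_mul] at hcf
    rw [LinearMap.mem_ker]
    exact (mul_eq_zero.1 hcf).resolve_left fun h => hc (MvPolynomial.C_eq_zero.1 h)
  let π' : P' →+* A := π.toRingHom.comp (e : P' →+* MvPolynomial (Fin n) R)
  letI : Algebra P' A := π'.toAlgebra
  have hπ' : Function.Surjective (algebraMap P' A) := hπ.comp e.surjective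
  let Φ : (Fin r → A) →ₗ[A] I := LinearMap.codRestrict I (Fintype.linearCombination A a) fun v => by
    rw [Fintype.linearCombination_apply]
    exact I.sum_mem fun i _ => I.smul_mem _ (ha ▸ Submodule.subset_span ⟨i, rfl⟩)
  have hΦ : Function.Surjective Φ := fun x => by
    obtain ⟨c, hc⟩ := (Submodule.mem_span_range_iff_exists_fun A).1 (show (x : A) ∈ Submodule.span A (Set.range a) by rw [ha]; exact x.2)
    exact ⟨c, Subtype.ext (by simpa [Φ, Fintype.linearCombination_apply] using hc)⟩
  refine Module.finitePresentation_of_surjective Φ hΦ ?_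
  let proj : (Fin (r + m) → P') →ₗ[P'] (Fin r → A) :=
    LinearMap.pi fun i => (Algebra.linearMap P' A).comp (LinearMap.proj (Fin.castAdd m i))
  obtain ⟨G, hG⟩ := hK
  refine ⟨G.image proj, le_antisymm (Submodule.span_le.2 ?_) fun v hv => ?_⟩
  · intro y hy
    obtain ⟨g, hg, rfl⟩ := Finset.mem_image.1 (Finset.mem_coe.1 hy)
    have hg0 : ψ g = 0 := LinearMap.mem_ker.1 (hG ▸ Submodule.subset_span hg)
    have h1 := congrArg π' hg0
    simp only [ψ, Fintype.linearCombination_apply, Fin.sum_univ_add, map_add, map_sum, smul_eq_mul, map_mul, map_zero] at h1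
    have hj0 : ∀ i, π' (w (Fin.natAdd r i)) = 0 := fun i => by
      simp only [π', w, RingHom.comp_apply, Fin.append_right, RingHom.coe_coe, AlgEquiv.apply_symm_apply]
      exact (RingHom.mem_ker (f := π.toRingHom)).1 (hj ▸ Submodule.subset_span ⟨i, rfl⟩)
    have hb0 : ∀ i, π' (w (Fin.castAdd m i)) = a i := fun i => by
      simp only [π', w, RingHom.comp_apply, Fin.append_left, RingHom.coe_coe, AlgEquiv.apply_symm_apply]
      exact hb i
    simp only [hj0, hb0, mul_zero, Finset.sum_const_zero, add_zero] at h1
    exact LinearMap.mem_ker.2 (Subtype.ext (by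
      simpa [Φ, proj, Fintype.linearCombination_apply, RingHom.algebraMap_toAlgebra] using h1))
  · have hv' : ∑ i, v i * a i = 0 := by
      have := congrArg Subtype.val (LinearMap.mem_ker.1 hv)
      simpa [Φ, Fintype.linearCombination_apply] using this
    choose c hc using fun i => hπ' (v i)
    have hmem : π (∑ i, e (c i) * b i) = 0 := by
      rw [map_sum]
      simp only [map_mul, hb]
      rw [← hv']
      exact Finset.sum_congr rfl fun i _ => by rw [← hc i]; rfl
    have hspan : (∑ i, e (c i) * b i) ∈ Submodule.span (MvPolynomial (Fin n) R) (Set.range j) := by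
      rw [hj]; exact hmem
    obtain ⟨d, hd⟩ := (Submodule.mem_span_range_iff_exists_fun _).1 hspan
    let f : Fin (r + m) → P' := Fin.append c fun i => -e.symm (d i)
    have hf : f ∈ LinearMap.ker ψ := by
      rw [LinearMap.mem_ker]
      simp only [ψ, Fintype.linearCombination_apply, Fin.sum_univ_add, f, w, Fin.append_left, Fin.append_right, smul_eq_mul]
      apply e.injective
      simp only [map_add, map_sum, map_mul, map_neg, AlgEquiv.apply_symm_apply, map_zero, neg_mul, Finset.sum_neg_distrib]
      rw [← hd]
      simp [smul_eq_mul]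
    have hvf : proj f = v := funext fun i => by simp [proj, f, hc]
    have h2 : proj f ∈ Submodule.span P' ((G.image proj : Finset (Fin r → A)) : Set (Fin r → A)) := by
      rw [Finset.coe_image, ← Submodule.map_span, hG]
      exact ⟨f, hf, rfl⟩
    rw [← hvf]
    exact Submodule.span_le_restrictScalars P' A _ h2

end Groth.Agent.S14742
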