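import Groth.Statements.S14751
import Groth.Agent.AlgGrp1.Antiaffine
import Groth.Agent.AlgGrp1.Geom
import Mathlib.AlgebraicGeometry.Morphisms.Finite

set_option autoImplicit false
universe u
open CategoryTheory CategoryTheory.Limits MonoidalCategory CartesianMonoidalCategory MonObj GrpObj AlgebraicGeometry
open AlgGrp

namespace Groth.Agent.S14751

/-- Over an algebraically closed field k let G be a group variety (smooth connected k-group scheme of
finite type), i : N → G an affine closed subgroup scheme which is the kernel of a flat surjective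
homomorphism π : G → Q, and j : A → G an abelian subvariety (a smooth connected proper closed
subgroup scheme) with A · N = G, that is, the multiplication A × N → G is surjective. Then the
multiplication A × N → G is a homomorphism and an isogeny (surjective with finite kernel), and so is
the composite A → G → Q. (In the published statement N is the largest connected affine normal
subgroup variety and Q = G/N the Albanese quotient; only the listed properties are used.) -/
theorem result (k : Type u) [Field k] [IsAlgClosed k]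
    (G N A Q : Over (Spec (CommRingCat.of k))) [GrpObj G] [GrpObj N] [GrpObj A] [GrpObj Q]
    [Smooth G.hom] [QuasiCompact G.hom] [ConnectedSpace ↥G.left]
    (i : N ⟶ G) [IsMonHom i] [IsClosedImmersion i.left] [IsAffine N.left]
    (π : G ⟶ Q) [IsMonHom π] [Flat π.left] [Surjective π.left] (hker : AlgGrp.IsKernel i π)
    (j : A ⟶ G) [IsMonHom j] [IsClosedImmersion j.left] [Smooth A.hom] [ConnectedSpace ↥A.left] [IsProper A.hom]
    (hsurj : Surjective ((j ⊗ₘ i) ≫ μ[G]).left) :
    IsMonHom ((j ⊗ₘ i) ≫ μ[G]) ∧ SGA7.IsIsogenyOver ((j ⊗ₘ i) ≫ μ[G]) ∧ SGA7.IsIsogenyOver (j ≫ π) := by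
  have : LocallyOfFiniteType A.hom := inferInstance
  have : QuasiCompact A.hom := inferInstance
  have : IsIntegral A.left := Groth.AlgGrp1.isIntegral_of_smooth A
  have hA := Groth.AlgGrp1.hasConstFunctions_of_isIntegral (X := A) η[A]
  have : LocallyOfFiniteType G.hom := inferInstance
  set m := (j ⊗ₘ i) ≫ μ[G] with hm
  have hm' : ∀ {T : Over (Spec (CommRingCat.of k))} (x : T ⟶ A ⊗ N),
      x ≫ m = (x ≫ fst A N ≫ j) * (x ≫ snd A N ≫ i) := by
    intro T x
    rw [Hom.mul_def, hm, ← Category.assoc]
    congr 1
    apply CartesianMonoidalCategory.hom_ext <;> simp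
  have hmon : IsMonHom m := by
    refine Groth.AlgGrp1.isMonHom_of_points m fun T x y => ?_
    rw [hm', hm', hm']
    simp only [← Category.assoc, MonObj.mul_comp]
    have hc : ∀ (a : T ⟶ A) (g : T ⟶ G), (a ≫ j) * g = g * (a ≫ j) := fun a g =>
      Groth.AlgGrp1.comm_of_hasConstFunctions hA j a g
    rw [_root_.mul_assoc, _root_.mul_assoc]
    congr 1
    rw [← _root_.mul_assoc, hc (y ≫ fst A N) ((x ≫ snd A N) ≫ i), _root_.mul_assoc]
  have hmπ : m ≫ π = fst A N ≫ j ≫ π := by
    have h := hm' (𝟙 (A ⊗ N))
    simp only [Category.id_comp] at h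
    rw [h, MonObj.mul_comp, Category.assoc, Category.assoc, Groth.AlgGrp1.IsKernel.comp_eq_one hker,
      MonObj.comp_one, _root_.mul_one]
  have hs : Surjective (j ≫ π).left := by
    have : Surjective (m ≫ π).left := by rw [Over.comp_left]; infer_instance
    rw [hmπ, Over.comp_left] at this
    exact Surjective.of_comp (fst A N).left _
  have := Groth.AlgGrp1.isSeparated_grpObj Q
  have := Groth.AlgGrp1.isSeparated_grpObj G
  have : Mono i := Groth.AlgGrp1.IsKernel.mono hker
  -- the kernel of `j ≫ π`
  have hfin : ∀ (N' : Over (Spec (CommRingCat.of k))) (n : N' ⟶ A), AlgGrp.IsKernel n (j ≫ π) → IsFinite N'.hom := by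
    intro N' n hn
    have : IsClosedImmersion η[Q].left := by
      have : IsClosedImmersion (η[Q].left ≫ Q.hom) := by rw [Over.w]; exact inferInstanceAs (IsClosedImmersion (𝟙 _))
      exact IsClosedImmersion.of_comp η[Q].left Q.hom
    have : IsClosedImmersion n.left :=
      MorphismProperty.of_isPullback (IsPullback.flip (hn.map (Over.forget _))) this
    obtain ⟨f, hf⟩ := Groth.AlgGrp1.IsKernel.exists_lift hker (n ≫ j) (by
      rw [Category.assoc, Groth.AlgGrp1.IsKernel.comp_eq_one hn])
    have : IsClosedImmersion (f.left ≫ i.left) := by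
      rw [← Over.comp_left, hf, Over.comp_left]; infer_instance
    have : IsClosedImmersion f.left := IsClosedImmersion.of_comp f.left i.left
    have : IsAffine N'.left := isAffine_of_isAffineHom f.left
    have : IsProper N'.hom := by rw [← Over.w n]; infer_instance
    rw [IsFinite.iff_isProper_and_isAffineHom]
    exact ⟨this, inferInstance⟩
  refine ⟨hmon, ⟨hsurj, fun P p hp => ?_⟩, hs, hfin⟩
  have hk : AlgGrp.IsKernel (pullback.fst (j ≫ π) η[Q]) (j ≫ π) := by
    unfold AlgGrp.IsKernel
    rw [toUnit_unique (toUnit _) (pullback.snd (j ≫ π) η[Q])]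
    exact IsPullback.of_hasPullback _ _
  have := Groth.AlgGrp1.IsKernel.mono hp
  have := Groth.AlgGrp1.IsKernel.mono hk
  set n := pullback.fst (j ≫ π) η[Q]
  obtain ⟨a, ha⟩ := Groth.AlgGrp1.IsKernel.exists_lift hk (p ≫ fst A N) (by
    rw [Category.assoc, ← hmπ, ← Category.assoc, Groth.AlgGrp1.IsKernel.comp_eq_one hp, MonObj.one_comp])
  obtain ⟨f, hf⟩ := Groth.AlgGrp1.IsKernel.exists_lift hker ((n ≫ j)⁻¹) (by
    rw [GrpObj.inv_comp, Category.assoc, Groth.AlgGrp1.IsKernel.comp_eq_one hk, inv_one])
  obtain ⟨b, hb⟩ := Groth.AlgGrp1.IsKernel.exists_lift hp (lift n f) (by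
    rw [hm', lift_fst_assoc, lift_snd_assoc, hf, mul_inv_cancel])
  have hba : b ≫ a = 𝟙 _ := by
    rw [← cancel_mono n, Category.assoc, ha, ← Category.assoc, hb, lift_fst, Category.id_comp]
  have hab : a ≫ b = 𝟙 _ := by
    rw [← cancel_mono p, Category.assoc, hb, Category.id_comp]
    have h0 : (p ≫ fst A N ≫ j) * (p ≫ snd A N ≫ i) = 1 := by
      rw [← hm', Groth.AlgGrp1.IsKernel.comp_eq_one hp]
    apply CartesianMonoidalCategory.hom_ext
    · rw [Category.assoc, lift_fst, ha]
    · rw [← cancel_mono i, Category.assoc, Category.assoc, lift_snd_assoc, hf, GrpObj.comp_inv,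
        reassoc_of% ha, Category.assoc]
      exact inv_eq_of_mul_eq_one_right h0
  have : IsFinite (pullback (j ≫ π) η[Q]).hom := hfin _ n hk
  have : IsIso a := ⟨b, hab, hba⟩
  have : IsIso a.left := inferInstanceAs (IsIso ((Over.forget _).map a))
  rw [← Over.w a]
  infer_instance

end Groth.Agent.S14751
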