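import Groth.Statements.S14754
import Groth.Agent.AlgGrp2.DiagBaseChange
import Groth.Agent.Misc8.CoactInertia
import Mathlib

set_option autoImplicit false
set_option backward.isDefEq.respectTransparency.types false
universe u
open CategoryTheory MonoidalCategory CartesianMonoidalCategory MonObj GrpObj AlgebraicGeometry TensorProduct

namespace Groth.Agent.S14754

open Groth.AlgGrp2 Groth.Misc8.CoactInertia

variable {k : Type u} [Field k] {M N : Type} [AddCommGroup M] [AddCommGroup N]

instance isMonHom_diagMap (φ : M →+ N) : IsMonHom (Red.diagMap k φ) :=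
  ((bialgSpec (CommRingCat.of k)).map <| .op <| CommBialgCat.ofHom <|
    MonoidAlgebra.mapDomainBialgHom k (AddMonoidHom.toMultiplicative φ)).isMonHom_hom

theorem mdah_single {A B : Type} [Monoid A] [Monoid B] (F : A →* B) (x : A) (c : k) :
    MonoidAlgebra.mapDomainAlgHom k k F (MonoidAlgebra.single x c) = MonoidAlgebra.single (F x) c :=
  MonoidAlgebra.mapDomain_single

theorem counit_single_one {A : Type} [CommMonoid A] (x : A) :
    Bialgebra.counitAlgHom k (MonoidAlgebra k A) (MonoidAlgebra.single x 1) = 1 := by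
  simp

/-- A homomorphism of diagonalisable groups over a field comes from the character groups. -/
theorem exists_char (π : Red.diag k N ⟶ Red.diag k M) [IsMonHom π] :
    ∃ f : M →+ N, π = Red.diagMap k f := by
  obtain ⟨φ, hφ⟩ := pt_surjective (R := k) (B := MonoidAlgebra k (Multiplicative M))
    (C := MonoidAlgebra k (Multiplicative N)) π
  let A := MonoidAlgebra k (Multiplicative N)
  let B := MonoidAlgebra k (Multiplicative M)
  have hπ : ∀ {K : Type u} [CommRing K] [Algebra k K] (g : A →ₐ[k] K),
      CoactBr.pt g ≫ π = CoactBr.pt (g.comp φ) := fun g => by rw [CoactBr.pt_comp, hφ]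
  have hgl : ∀ m : Multiplicative M, IsGroupLikeElem k (φ (MonoidAlgebra.single m 1)) := by
    intro m
    refine ⟨?_, ?_⟩
    · have h := (CoactBr.one_eq_pt (R := k) (A := B) (K := k)).symm.trans
        ((MonObj.one_comp π : (1 : CoactBr.sp k k ⟶ _) ≫ π = 1)).symm
      rw [CoactBr.one_eq_pt, hπ] at h
      have h' := DFunLike.congr_fun (CoactBr.pt_injective h) (MonoidAlgebra.single m 1)
      simp only [AlgHom.comp_apply, Algebra.ofId_apply] at h'
      erw [counit_single_one] at h'
      exact h'.symm.trans (map_one (algebraMap k k))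
    · let l : A →ₐ[k] A ⊗[k] A := Algebra.TensorProduct.includeLeft
      let r : A →ₐ[k] A ⊗[k] A := Algebra.TensorProduct.includeRight
      have h := MonObj.mul_comp (CoactBr.pt l) (CoactBr.pt r) π
      rw [hπ, hπ, CoactBr.pt_mul_pt, CoactBr.pt_mul_pt, hπ] at h
      have h' := DFunLike.congr_fun (CoactBr.pt_injective h) (MonoidAlgebra.single m 1)
      have e : Algebra.TensorProduct.lift l r (fun _ _ => Commute.all _ _) = AlgHom.id k (A ⊗[k] A) := by
        ext <;> simp [l, r]
      rw [e, AlgHom.id_comp] at h'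
      simp only [AlgHom.comp_apply, Bialgebra.comulAlgHom_apply] at h'
      rw [h', (MonoidAlgebra.isGroupLikeElem_single_one (R := k) m).comul_eq_tmul_self,
        Algebra.TensorProduct.lift_tmul]
      simp [l, r]
  choose f hf₀ using fun m => MonoidAlgebra.isGroupLikeElem_iff_mem_range_single_one.1 (hgl m)
  have hf : ∀ m, MonoidAlgebra.single (f m) (1 : k) = φ (MonoidAlgebra.single m 1) := hf₀
  have hf1 : f 1 = 1 := by
    apply MonoidAlgebra.single_left_injective (R := k) one_ne_zero
    show MonoidAlgebra.single (f 1) (1 : k) = MonoidAlgebra.single 1 1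
    rw [hf 1]
    simp [← MonoidAlgebra.one_def]
  have hmul : ∀ a b, f (a * b) = f a * f b := fun a b => by
    apply MonoidAlgebra.single_left_injective (R := k) one_ne_zero
    show MonoidAlgebra.single (f (a * b)) 1 = MonoidAlgebra.single (f a * f b) 1
    have e : (MonoidAlgebra.single (f a) (1 : k)) * MonoidAlgebra.single (f b) 1 =
        MonoidAlgebra.single (f a * f b) 1 := by rw [MonoidAlgebra.single_mul_single, _root_.mul_one]
    rw [hf, ← e, hf, hf, ← map_mul, MonoidAlgebra.single_mul_single, _root_.mul_one]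
  let F : Multiplicative M →* Multiplicative N := { toFun := f, map_one' := hf1, map_mul' := hmul }
  refine ⟨AddMonoidHom.toMultiplicative.symm F, ?_⟩
  rw [← hφ]
  show CoactBr.pt φ = CoactBr.pt (MonoidAlgebra.mapDomainAlgHom k k F)
  congr 1
  apply MonoidAlgebra.algHom_ext
  · intro m
    rw [← hf m]
    simp [F]
  all_goals ext

theorem result (k : Type u) [Field k] [IsAlgClosed k]
    (K G Q : Over (Spec (CommRingCat.of k))) [GrpObj K] [GrpObj G] [GrpObj Q] (nK nG nQ : ℕ)
    (hK : Red.IsSplitTorusWith (Fin nK → ℤ) K) (hG : Red.IsSplitTorusWith (Fin nG → ℤ) G)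
    (hQ : Red.IsSplitTorusWith (Fin nQ → ℤ) Q)
    (i : K ⟶ G) [IsMonHom i] [IsClosedImmersion i.left]
    (π : G ⟶ Q) [IsMonHom π] [Flat π.left] [Surjective π.left] (hker : AlgGrp.IsKernel i π) :
    ∃ s : Q ⟶ G, IsMonHom s ∧ s ≫ π = 𝟙 Q := by
  let eK := diagIsoOfSplit k _ hK
  let eG := diagIsoOfSplit k _ hG
  let eQ := diagIsoOfSplit k _ hQ
  haveI : IsMonHom eK.hom := isMonHom_diagIsoOfSplit k _ hK
  haveI : IsMonHom eG.hom := isMonHom_diagIsoOfSplit k _ hG
  haveI : IsMonHom eQ.hom := isMonHom_diagIsoOfSplit k _ hQ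
  haveI : IsMonHom eQ.inv := inferInstance
  obtain ⟨f, hf⟩ := exists_char (eG.hom ≫ π ≫ eQ.inv)
  let A := MonoidAlgebra k (Multiplicative (Fin nG → ℤ))
  let B := MonoidAlgebra k (Multiplicative (Fin nQ → ℤ))
  let φ : B →ₐ[k] A := MonoidAlgebra.mapDomainAlgHom k k (AddMonoidHom.toMultiplicative f)
  have hfl : Flat (Red.diagMap k f).left ∧ Surjective (Red.diagMap k f).left := by
    rw [← hf]
    haveI : IsIso eG.hom.left := inferInstanceAs (IsIso ((Over.forget _).map eG.hom))
    haveI : IsIso eQ.inv.left := inferInstanceAs (IsIso ((Over.forget _).map eQ.inv))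
    rw [Over.comp_left, Over.comp_left]
    exact ⟨inferInstance, inferInstance⟩
  have hinj : Function.Injective φ :=
    ((AlgebraicGeometry.flat_and_surjective_SpecMap_iff (f := CommRingCat.ofHom φ.toRingHom)).mp hfl).injective
  have hfinj : Function.Injective f := fun a b hab => by
    have := hinj (a₁ := MonoidAlgebra.single (Multiplicative.ofAdd a) 1)
      (a₂ := MonoidAlgebra.single (Multiplicative.ofAdd b) 1) (by
        simp only [φ]
        erw [mdah_single, mdah_single]
        exact congrArg (fun z => MonoidAlgebra.single (Multiplicative.ofAdd z) (1 : k)) hab)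
    exact Multiplicative.ofAdd.injective (MonoidAlgebra.single_left_injective (R := k) one_ne_zero this)
  have htf : ∀ (n : ℕ) (c : Fin nG → ℤ), n ≠ 0 → n • c ∈ f.range → c ∈ f.range := by
    rintro n c hn ⟨m, hm⟩
    let D := MonoidAlgebra k (Multiplicative (Fin nK → ℤ))
    obtain ⟨iA, hiA⟩ := pt_surjective (R := k) (B := A) (C := D) (eK.hom ≫ i ≫ eG.inv)
    have hiAφ : iA.comp φ = (Algebra.ofId k D).comp (Bialgebra.counitAlgHom k B) := by
      apply CoactBr.pt_injective
      rw [CoactBr.pt_comp, hiA, ← CoactBr.one_eq_pt]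
      show (eK.hom ≫ i ≫ eG.inv) ≫ Red.diagMap k f = 1
      rw [← hf]
      simp only [Category.assoc, Iso.inv_hom_id_assoc]
      rw [reassoc_of% hker.w, toUnit_unique (toUnit K) (toUnit K)]
      rw [← Category.assoc, toUnit_unique (eK.hom ≫ toUnit K) (toUnit _), ← Category.assoc,
        ← Hom.one_def, MonObj.one_comp]
    let y := iA (MonoidAlgebra.single (Multiplicative.ofAdd c) 1)
    have hy : y ^ n = 1 := by
      have h := DFunLike.congr_fun hiAφ (MonoidAlgebra.single (Multiplicative.ofAdd m) 1)
      simp only [AlgHom.comp_apply, φ, Algebra.ofId_apply] at h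
      erw [mdah_single, counit_single_one, map_one] at h
      rw [← map_pow, MonoidAlgebra.single_pow, one_pow, ← ofAdd_nsmul, ← hm]
      exact h
    obtain ⟨ζ, hζ⟩ : ∃ ζ : k, algebraMap k D ζ = y := by
      have hint : IsIntegral k y := IsIntegral.of_pow (Nat.pos_of_ne_zero hn) (hy ▸ isIntegral_one)
      exact minpoly.mem_range_of_degree_eq_one k y
        (IsAlgClosed.degree_eq_one_of_irreducible k (minpoly.irreducible hint))
    let C := (Fin nG → ℤ) ⧸ f.range
    let q : A →ₐ[k] MonoidAlgebra k (Multiplicative C) :=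
      MonoidAlgebra.mapDomainAlgHom k k (AddMonoidHom.toMultiplicative (QuotientAddGroup.mk' f.range))
    have hqφ : q.comp φ = (Algebra.ofId k _).comp (Bialgebra.counitAlgHom k B) := by
      apply MonoidAlgebra.algHom_ext
      · intro a
        simp only [q, φ, AlgHom.comp_apply, Algebra.ofId_apply]
        erw [mdah_single, mdah_single, counit_single_one, map_one]
        rw [show (AddMonoidHom.toMultiplicative (QuotientAddGroup.mk' f.range)) ((AddMonoidHom.toMultiplicative f) a) = 1 from
          congrArg Multiplicative.ofAdd ((QuotientAddGroup.eq_zero_iff _).2 ⟨Multiplicative.toAdd a, rfl⟩),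
          MonoidAlgebra.one_def]
      all_goals ext
    have hone : (CoactBr.pt q ≫ eG.hom) ≫ π = 1 := by
      have h : CoactBr.pt q ≫ eG.hom ≫ π ≫ eQ.inv = 1 := by
        rw [hf]
        show CoactBr.pt q ≫ CoactBr.pt φ = 1
        rw [← CoactBr.pt_comp, hqφ, CoactBr.one_eq_pt]
      have := congrArg (fun z => z ≫ eQ.hom) h
      simpa [MonObj.one_comp] using this
    let t := hker.lift (CoactBr.pt q ≫ eG.hom) (toUnit _) hone
    obtain ⟨ψ, hψ⟩ := pt_surjective (R := k) (B := D) (C := MonoidAlgebra k (Multiplicative C)) (t ≫ eK.inv)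
    have hqiA : q = ψ.comp iA := by
      apply CoactBr.pt_injective
      rw [CoactBr.pt_comp, hψ, hiA]
      simp [t]
    have h := DFunLike.congr_fun hqiA (MonoidAlgebra.single (Multiplicative.ofAdd c) 1)
    have h' : MonoidAlgebra.single (Multiplicative.ofAdd (QuotientAddGroup.mk' f.range c)) (1 : k) =
        MonoidAlgebra.single 1 ζ := by
      have h2 : ψ (algebraMap k D ζ) = algebraMap k _ ζ := ψ.commutes ζ
      rw [hζ] at h2
      simp only [AlgHom.comp_apply, q] at h
      erw [mdah_single] at h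
      refine Eq.trans h (h2.trans ?_)
      simp
    have h'' := congrArg (fun z : MonoidAlgebra k (Multiplicative C) => z.coeff 1) h'
    classical
    by_contra hc
    have hne : Multiplicative.ofAdd (QuotientAddGroup.mk' f.range c) ≠ (1 : Multiplicative C) := fun e =>
      hc ((QuotientAddGroup.eq_zero_iff c).1 (Multiplicative.ofAdd.injective e))
    simp only [MonoidAlgebra.coeff_single, Finsupp.single_eq_of_ne hne.symm, Finsupp.single_eq_same] at h''
    rw [← h'', MonoidAlgebra.single_zero] at h'
    have h3 := congrArg (fun z : MonoidAlgebra k (Multiplicative C) =>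
      z.coeff (Multiplicative.ofAdd (QuotientAddGroup.mk' f.range c))) h'
    simp [MonoidAlgebra.coeff_single] at h3
  let R : Submodule ℤ (Fin nG → ℤ) := f.toIntLinearMap.range
  have : Module.IsTorsionFree ℤ ((Fin nG → ℤ) ⧸ R) := by
    refine Module.isTorsionFree_iff_smul_eq_zero.mpr fun z x hzx => ?_
    obtain ⟨c, rfl⟩ := Submodule.Quotient.mk_surjective _ x
    by_cases hz : z = 0
    · exact .inl hz
    refine .inr ((Submodule.Quotient.mk_eq_zero _).2 ?_)
    rw [← Submodule.Quotient.mk_smul, Submodule.Quotient.mk_eq_zero] at hzx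
    obtain ⟨m, hm⟩ := hzx
    refine htf z.natAbs c (Int.natAbs_ne_zero.2 hz) ?_
    rcases Int.natAbs_eq z with h | h
    · exact ⟨m, show f m = _ by rw [← natCast_zsmul, ← h]; exact hm⟩
    · refine ⟨-m, show f (-m) = _ by rw [map_neg, ← natCast_zsmul, show (z.natAbs : ℤ) = -z by omega, neg_smul]; exact congrArg Neg.neg hm⟩
  haveI : Module.Free ℤ ((Fin nG → ℤ) ⧸ R) := Module.free_of_finite_type_torsion_free'
  obtain ⟨σ, hσ⟩ := Module.projective_lifting_property R.mkQ LinearMap.id (Submodule.mkQ_surjective _)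
  have hmem : ∀ x, x - σ (R.mkQ x) ∈ R := fun x => by
    rw [← Submodule.Quotient.mk_eq_zero]
    show R.mkQ (x - σ (R.mkQ x)) = 0
    rw [map_sub]
    show R.mkQ x - (R.mkQ.comp σ) (R.mkQ x) = 0
    rw [hσ]; simp
  let fR := LinearEquiv.ofInjective f.toIntLinearMap hfinj
  let r : (Fin nG → ℤ) →ₗ[ℤ] (Fin nQ → ℤ) :=
    fR.symm.toLinearMap ∘ₗ (LinearMap.id - σ ∘ₗ R.mkQ).codRestrict R hmem
  have hr : r.toAddMonoidHom.comp f = AddMonoidHom.id _ := by
    refine AddMonoidHom.ext fun m => ?_
    show fR.symm _ = m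
    rw [LinearEquiv.symm_apply_eq]
    apply Subtype.ext
    show f m - σ (R.mkQ (f m)) = f m
    have h0 : R.mkQ (f m) = 0 := (Submodule.Quotient.mk_eq_zero _).2 ⟨m, rfl⟩
    simp [h0]
  refine ⟨eQ.inv ≫ Red.diagMap k r.toAddMonoidHom ≫ eG.hom, inferInstance, ?_⟩
  have : Red.diagMap k r.toAddMonoidHom ≫ eG.hom ≫ π ≫ eQ.inv = 𝟙 _ := by
    rw [hf]
    show CoactBr.pt _ ≫ CoactBr.pt _ = _
    rw [← CoactBr.pt_comp, ← CoactBr.pt_id]
    congr 1
    apply MonoidAlgebra.algHom_ext
    · intro m
      simp only [AlgHom.comp_apply]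
      erw [mdah_single, mdah_single]
      show _ = MonoidAlgebra.single m 1
      congr 1
      exact congrArg Multiplicative.ofAdd (DFunLike.congr_fun hr (Multiplicative.toAdd m))
    all_goals ext
  rw [← cancel_mono eQ.inv]
  simp only [Category.assoc, Category.id_comp]
  rw [this, Category.comp_id]

end Groth.Agent.S14754
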