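import Groth.Statements.S14758
import Groth.Agent.EtaleBase.Limit.HpullFunctorial
-- import your own Groth.Agent.* helpers here

set_option autoImplicit false
universe u
open CategoryTheory CategoryTheory.Limits MonoidalCategory CartesianMonoidalCategory MonObj GrpObj AlgebraicGeometry
open EtAdic

namespace Groth.Agent.S14758

open CategoryTheory.Abelian in
/-- Functoriality of the pullback on torsion coefficients. -/
theorem Hmap_comp {A B C : Scheme.{u}} (a : A ⟶ B) (b : B ⟶ C) (ℓ r ν : ℕ)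
    (ha : PreservesFiniteLimits (EtCoh.pull a)) (hb : PreservesFiniteLimits (EtCoh.pull b))
    (hab : PreservesFiniteLimits (EtCoh.pull (a ≫ b))) (x : EtAdic.Hmod C ℓ r ν) :
    EtAdic.Hmap ℓ a ha r ν (EtAdic.Hmap ℓ b hb r ν x) = EtAdic.Hmap ℓ (a ≫ b) hab r ν x := by
  show (EtCore.Hpull a _ r ((EtCore.Hpull b _ r x).comp (Ext.mk₀ (EtCore.pullConst b _).hom) (add_zero r))).comp
      (Ext.mk₀ (EtCore.pullConst a (ZMod (ℓ ^ ν))).hom) (add_zero r) =
    (EtCore.Hpull (a ≫ b) _ r x).comp (Ext.mk₀ (EtCore.pullConst (a ≫ b) (ZMod (ℓ ^ ν))).hom) (add_zero r)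
  rw [Groth.EtaleBase.EtLimit.Hpull_map, Groth.EtaleBase.EtLimit.Hpull_comp]
  simp only [Ext.comp_assoc_of_third_deg_zero, Ext.mk₀_comp_mk₀]
  refine congrArg (fun z => Ext.comp _ (Ext.mk₀ z) (add_zero r)) ?_
  have h := Groth.EtaleBase.pullConstIso_comp a b (AddCommGrpCat.of (ULift.{u + 1} (ZMod (ℓ ^ ν))))
  show (EtCore.pullComp a b).hom.app _ ≫ (EtCoh.pull a).map ((EtCore.pullConstIso b).hom.app _) ≫
    (EtCore.pullConstIso a).hom.app _ = (EtCore.pullConstIso (a ≫ b)).hom.app _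
  rw [← cancel_epi ((EtCore.pullConstIso (a ≫ b)).inv.app _), Iso.inv_hom_id_app, ← h]
  simp only [Category.assoc, Iso.inv_hom_id_app_assoc, ← Functor.map_comp_assoc, Iso.inv_hom_id_app,
    Category.id_comp]
  erw [CategoryTheory.Functor.map_id, Category.id_comp]
  exact Iso.inv_hom_id_app _ _

/-- Let k be a field, ℓ, ν natural numbers, G and G' commutative k-group schemes and φ, ψ : G → G'
homomorphisms. If x ∈ H^r(G'_et, Z/ℓ^ν) is primitive, that is m^*x = p_1^*x + p_2^*x for the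
multiplication m and the projections p_1, p_2 of G' × G', then (φ + ψ)^*x = φ^*x + ψ^*x, where φ + ψ
is the sum in the group of homomorphisms. (The published lemma is for H^r_T(−, L) with T any of the
Zariski, étale or flat topologies and L any commutative algebraic group as coefficients; this row is
its case T = étale, L = Z/ℓ^ν constant, the one used later.) -/
theorem result (k : Type u) [Field k] (ℓ ν r : ℕ)
    (G G' : Over (Spec (CommRingCat.of k))) [GrpObj G] [GrpObj G'] [IsCommMonObj G] [IsCommMonObj G']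
    (φ ψ : G ⟶ G') [IsMonHom φ] [IsMonHom ψ]
    [hm : PreservesFiniteLimits (EtCoh.pull (μ[G']).left)]
    [h1 : PreservesFiniteLimits (EtCoh.pull (fst G' G').left)]
    [h2 : PreservesFiniteLimits (EtCoh.pull (snd G' G').left)]
    [hφ : PreservesFiniteLimits (EtCoh.pull φ.left)] [hψ : PreservesFiniteLimits (EtCoh.pull ψ.left)]
    [hs : PreservesFiniteLimits (EtCoh.pull (φ * ψ).left)]
    (x : EtAdic.Hmod G'.left ℓ r ν)
    (hx : EtAdic.Hmap ℓ (μ[G']).left hm r ν x =
      EtAdic.Hmap ℓ (fst G' G').left h1 r ν x + EtAdic.Hmap ℓ (snd G' G').left h2 r ν x) :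
    EtAdic.Hmap ℓ (φ * ψ).left hs r ν x = EtAdic.Hmap ℓ φ.left hφ r ν x + EtAdic.Hmap ℓ ψ.left hψ r ν x := by
  haveI := fun {A B : Scheme.{u}} (f : A ⟶ B) => Groth.EtaleBase.pull_preservesFiniteLimits f
  have key : ∀ (c : G ⟶ G' ⊗ G') (p : G' ⊗ G' ⟶ G') (q : G ⟶ G') (hp : PreservesFiniteLimits (EtCoh.pull p.left))
      (hq : PreservesFiniteLimits (EtCoh.pull q.left)), c ≫ p = q →
      EtAdic.Hmap ℓ c.left (Groth.EtaleBase.pull_preservesFiniteLimits _) r ν
        (EtAdic.Hmap ℓ p.left hp r ν x) = EtAdic.Hmap ℓ q.left hq r ν x := by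
    rintro c p _ hp hq rfl
    exact Hmap_comp c.left p.left ℓ r ν _ _ hq x
  have h := congrArg (EtAdic.Hmap ℓ (lift φ ψ).left (Groth.EtaleBase.pull_preservesFiniteLimits _) r ν) hx
  rw [map_add, key (lift φ ψ) (fst G' G') φ h1 hφ (lift_fst _ _),
    key (lift φ ψ) (snd G' G') ψ h2 hψ (lift_snd _ _),
    key (lift φ ψ) μ[G'] (φ * ψ) hm hs rfl] at h
  exact h

end Groth.Agent.S14758
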