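import Groth.Statements.S5346
import Groth.Agent.GrpschLoci.SpecThickening
import Groth.Agent.GrpschAbsch.FibreFlat

set_option autoImplicit false
universe u
open CategoryTheory CategoryTheory.Limits MonoidalCategory CartesianMonoidalCategory MonObj GrpObj AlgebraicGeometry
open SGA3

namespace Groth.Agent.S5346

/-- Let A be a local artinian ring with residue field k and i : Spec k → Spec A the closed point. (i) If
X is an A-scheme whose base change X ⊗_A k is locally of finite type (resp. of finite type) over k,
then X is locally of finite type (resp. of finite type) over A. (ii) If u : X → Y is a morphism of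
A-schemes whose base change u ⊗_A k is an immersion (resp. a closed immersion), then u is an
immersion (resp. a closed immersion). -/
theorem result (A : Type u) [CommRing A] [IsArtinianRing A] [IsLocalRing A] (X Y : Over (Spec (CommRingCat.of A))) (u : X ⟶ Y) :
    letI i : Spec (CommRingCat.of (IsLocalRing.ResidueField A)) ⟶ (Spec (CommRingCat.of A)) := Spec.map (CommRingCat.ofHom (IsLocalRing.residue A))
    (LocallyOfFiniteType (pullback.snd X.hom i) → LocallyOfFiniteType X.hom) ∧
    (LocallyOfFiniteType (pullback.snd X.hom i) → QuasiCompact (pullback.snd X.hom i) → QuasiCompact X.hom) ∧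
    (IsImmersion ((Over.pullback i).map u).left → IsImmersion u.left) ∧
    (IsClosedImmersion ((Over.pullback i).map u).left → IsClosedImmersion u.left) := by
  set i : Spec (CommRingCat.of (IsLocalRing.ResidueField A)) ⟶ Spec (CommRingCat.of A) :=
    Spec.map (CommRingCat.ofHom (IsLocalRing.residue A))
  have hi : MoreMor.IsFiniteOrderThickening i := by
    refine Groth.GrpschLoci.isFiniteOrderThickening_specMap _ IsLocalRing.residue_surjective ?_
    have e : RingHom.ker (IsLocalRing.residue A) = IsLocalRing.maximalIdeal A := Ideal.mk_ker
    rw [CommRingCat.hom_ofHom, e]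
    exact IsArtinianRing.isNilpotent_jacobson_bot (R := A) |> fun h => by
      rwa [IsLocalRing.jacobson_eq_maximalIdeal ⊥ bot_ne_top] at h
  have sqX : IsPullback (pullback.fst X.hom i) (pullback.snd X.hom i) X.hom i := .of_hasPullback _ _
  have sqY : IsPullback (pullback.fst Y.hom i) (pullback.snd Y.hom i) Y.hom i := .of_hasPullback _ _
  have sqU := Groth.GrpschAbsch.FibreFlat.isPullback_map i u
  have hiY : MoreMor.IsFiniteOrderThickening ((pullback.fst Y.hom i)) :=
    Groth.FlatMor2.isFiniteOrderThickening_of_isPullback hi sqY
  refine ⟨fun h => ?_, fun h h' => ?_, fun h => ?_, fun h => ?_⟩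
  · exact (Groth.FlatMor2.locallyOfFiniteType_iff_of_finiteOrder hi sqX).mp h
  · exact (Groth.FlatMor2.quasiCompact_iff_of_thickening
      (Groth.FlatMor2.isThickening_of_isPullback hi.1 sqX) hi.1 sqX.w).mp h'
  · haveI := h
    haveI : LocallyOfFiniteType u.left :=
      (Groth.FlatMor2.locallyOfFiniteType_iff_of_finiteOrder hiY sqU).mp inferInstance
    exact (Groth.FlatMor2.isImmersion_iff_of_lft hiY.1 sqU).mp h
  · haveI := h
    haveI : LocallyOfFiniteType u.left :=
      (Groth.FlatMor2.locallyOfFiniteType_iff_of_finiteOrder hiY sqU).mp inferInstance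
    exact (Groth.FlatMor2.isClosedImmersion_iff_of_lft hiY.1 sqU).mp h

end Groth.Agent.S5346
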