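import Groth.Statements.S3036
import Groth.Agent.GrpschLoci.MonoHomLft
import Groth.Agent.S5346

set_option autoImplicit false
universe u
open CategoryTheory MonoidalCategory CartesianMonoidalCategory MonObj GrpObj AlgebraicGeometry TensorProduct
open SGA3

namespace Groth.Agent.S3036

/-- Let A be a local artinian ring and u : G → H a homomorphism between group schemes locally of finite
type over A which is a quasi-compact monomorphism. Then u is a closed immersion. -/
theorem result (A : Type u) [CommRing A] [IsArtinianRing A] [IsLocalRing A]
    (G H : Over (Spec (CommRingCat.of A))) [GrpObj G] [GrpObj H] [LocallyOfFiniteType G.hom] [LocallyOfFiniteType H.hom]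
    (u : G ⟶ H) [IsMonHom u] [Mono u] [QuasiCompact u.left] : IsClosedImmersion u.left := by
  let i : Spec (CommRingCat.of (IsLocalRing.ResidueField A)) ⟶ Spec (CommRingCat.of A) :=
    Spec.map (CommRingCat.ofHom (IsLocalRing.residue A))
  refine (Groth.Agent.S5346.result A G H u).2.2.2 ?_
  let u' := (Over.pullback i).map u
  haveI : IsMonHom u' := inferInstanceAs (IsMonHom ((Over.pullback i).map u))
  haveI : LocallyOfFiniteType (Red.bc i G).hom :=
    MorphismProperty.pullback_snd (P := @LocallyOfFiniteType) _ _ ‹LocallyOfFiniteType G.hom›
  haveI : LocallyOfFiniteType (Red.bc i H).hom :=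
    MorphismProperty.pullback_snd (P := @LocallyOfFiniteType) _ _ ‹LocallyOfFiniteType H.hom›
  have sq := Groth.GrpschAbsch.FibreFlat.isPullback_map i u
  haveI : Mono u.left := inferInstance
  haveI : Mono u'.left :=
    MorphismProperty.of_isPullback (P := MorphismProperty.monomorphisms Scheme) sq ‹Mono u.left›
  haveI := Over.mono_of_mono_left u'
  haveI : QuasiCompact u'.left := MorphismProperty.of_isPullback (P := @QuasiCompact) sq ‹_›
  exact Groth.GrpschLoci.isClosedImmersion_of_mono_lft (G := Red.bc i G) (H := Red.bc i H) u'

end Groth.Agent.S3036
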