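import Groth.Statements.S5353
import Groth.Agent.GitQuot.FppfSourceScheme
import Groth.Agent.FlatMor2.FlatComp
import Groth.Agent.GrpschAbsch.Basic
-- import your own Groth.Agent.* helpers here

set_option autoImplicit false
universe u
open CategoryTheory CategoryTheory.Limits MonoidalCategory CartesianMonoidalCategory MonObj GrpObj AlgebraicGeometry
open SGA3

namespace Groth.Agent.S5353

section Helpers

/-- Over an affine one-point base the unit section of an fppf quotient by an open subscheme is an open immersion. -/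
theorem isOpenImmersion_unit {G0 G Q S : Scheme.{u}} [IsAffine S] [Subsingleton ↥S] (i : G0 ⟶ G) [IsOpenImmersion i]
    (g0 : G0 ⟶ S) (p : G ⟶ Q) [Flat p] [Surjective p] [LocallyOfFinitePresentation p] (e : S ⟶ Q)
    (sq : IsPullback i g0 p e) (eG : S ⟶ G) (he : eG ≫ p = e) : IsOpenImmersion e := by
  rcases isEmpty_or_nonempty ↥S with hS | ⟨⟨s⟩⟩
  · infer_instance
  let x : G := eG s
  have hex : e s = p x := by rw [← he, Scheme.Hom.comp_apply]
  obtain ⟨_, ⟨W₀, hW, rfl⟩, heW, -⟩ := Q.isBasis_affineOpens.exists_subset_of_mem_open (Set.mem_univ (p x)) isOpen_univ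
  let W : Q.Opens := W₀
  obtain ⟨_, ⟨U₀, hU, rfl⟩, hxU, hUW⟩ := G.isBasis_affineOpens.exists_subset_of_mem_open
    (show x ∈ p ⁻¹' (W : Set Q) from heW) (W.2.preimage p.continuous)
  let U : G.Opens := U₀
  haveI : IsAffine U.toScheme := hU
  haveI : IsAffine W.toScheme := hW
  let V : Q.Opens := ⟨p '' (U : Set G), p.isOpenMap _ U.2⟩
  have hVW : V ≤ W := by rintro _ ⟨u, hu, rfl⟩; exact hUW hu
  have hUV : Set.range (U.ι ≫ p) ⊆ Set.range V.ι := by
    rw [Scheme.Opens.range_ι]; rintro _ ⟨u, rfl⟩; exact ⟨U.ι u, u.2, (Scheme.Hom.comp_apply U.ι p u).symm⟩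
  let q : U.toScheme ⟶ V.toScheme := IsOpenImmersion.lift V.ι (U.ι ≫ p) hUV
  have hq : q ≫ V.ι = U.ι ≫ p := IsOpenImmersion.lift_fac _ _ _
  haveI : Surjective q := ⟨fun v => by
    obtain ⟨u, hu, huv⟩ := v.2
    refine ⟨⟨u, hu⟩, V.ι.isOpenEmbedding.injective ?_⟩
    rw [← Scheme.Hom.comp_apply, hq, Scheme.Hom.comp_apply]
    exact huv⟩
  haveI : Flat q := by
    haveI : Flat (q ≫ V.ι) := by rw [hq]; infer_instance
    exact MorphismProperty.of_postcomp (W := @Flat) (W' := @IsOpenImmersion) q V.ι inferInstance inferInstance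
  haveI : QuasiCompact q := by
    haveI : QuasiCompact (q ≫ Q.homOfLE hVW) := inferInstance
    exact QuasiCompact.of_comp q (Q.homOfLE hVW)
  have heV : Set.range e ⊆ Set.range V.ι := by
    rw [Scheme.Opens.range_ι]
    rintro _ ⟨t, rfl⟩
    rw [Subsingleton.elim t s, hex]
    exact ⟨x, hxU, rfl⟩
  let eV : S ⟶ V.toScheme := IsOpenImmersion.lift V.ι e heV
  have heq : eV ≫ V.ι = e := IsOpenImmersion.lift_fac _ _ _
  have P1 : IsPullback (pullback.fst (U.ι ≫ p) e) (pullback.snd _ _) (U.ι ≫ p) e := IsPullback.of_hasPullback _ _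
  haveI : IsOpenImmersion (pullback.fst (U.ι ≫ p) e) := by
    have : pullback.fst (U.ι ≫ p) e = ((pullback.congrHom rfl rfl) ≪≫ (pullbackRightPullbackFstIso p e U.ι).symm).hom ≫
        pullback.fst U.ι (pullback.fst p e) := by simp
    rw [this]
    have : IsOpenImmersion (pullback.fst p e) := by
      rw [← sq.isoPullback_inv_fst]; infer_instance
    infer_instance
  have P2 : IsPullback (pullback.fst (U.ι ≫ p) e) (pullback.snd _ _) q eV := by
    refine ⟨⟨?_⟩, ⟨PullbackCone.IsLimit.mk _ (fun s => P1.lift s.fst s.snd ?_) (fun s => P1.lift_fst _ _ _)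
      (fun s => P1.lift_snd _ _ _) (fun s m h1 h2 => P1.hom_ext (by simpa using h1) (by simpa using h2))⟩⟩
    · rw [← cancel_mono V.ι, Category.assoc, Category.assoc, hq, heq, pullback.condition]
    · rw [← hq, ← heq, reassoc_of% s.condition]
  haveI : IsOpenImmersion eV :=
    MorphismProperty.of_isPullback_of_descendsAlong (P := @IsOpenImmersion)
      (Q := @Surjective ⊓ @Flat ⊓ @QuasiCompact) P2 ⟨⟨‹_›, ‹_›⟩, ‹_›⟩ inferInstance
  rw [← heq]
  infer_instance

end Helpers

/-- Let A be a local artinian ring, G an A-group scheme which is flat and locally of finite type, i : G⁰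
→ G an open subgroup scheme whose image is the connected component of the unit (the neutral
component), and p : G → Q a homomorphism of A-group schemes which is surjective, flat and locally of
finite presentation with kernel G⁰ (Q is the quotient of G by G⁰). Then Q is etale over A. -/
theorem result (A : Type u) [CommRing A] [IsArtinianRing A] [IsLocalRing A] (G0 G Q : Over (Spec (CommRingCat.of A))) [GrpObj G0] [GrpObj G] [GrpObj Q]
    [Flat G.hom] [LocallyOfFiniteType G.hom] (i : G0 ⟶ G) [IsMonHom i] [IsOpenImmersion i.left]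
    (pt : ↥(𝟙_ (Over (Spec (CommRingCat.of A)))).left) (hi : Set.range i.left.base = connectedComponent (η[G].left.base pt))
    (p : G ⟶ Q) [IsMonHom p] [Surjective p.left] [Flat p.left] [LocallyOfFinitePresentation p.left]
    (hK : AlgGrp.IsKernel i p) : Etale Q.hom := by
  have hpw : p.left ≫ Q.hom = G.hom := Over.w p
  haveI : Flat (p.left ≫ Q.hom) := by rw [hpw]; infer_instance
  haveI : Flat Q.hom := Groth.FlatMor2.flat_of_comp_surjective p.left Q.hom
  haveI : LocallyOfFinitePresentation (p.left ≫ Q.hom) := by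
    rw [hpw]; infer_instance
  haveI : LocallyOfFinitePresentation Q.hom := Groth.GitQuot.FppfSource.locallyOfFinitePresentation_of_fppf p.left Q.hom
  haveI : Subsingleton ↥(Spec (CommRingCat.of A)) := ⟨fun a b => PrimeSpectrum.ext (by
    haveI := IsArtinianRing.isMaximal_of_isPrime a.asIdeal
    haveI := IsArtinianRing.isMaximal_of_isPrime b.asIdeal
    exact (IsLocalRing.eq_maximalIdeal (I := a.asIdeal) inferInstance).trans
      (IsLocalRing.eq_maximalIdeal (I := b.asIdeal) inferInstance).symm)⟩
  -- the unit section of Q is an open immersion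
  have hK' : IsPullback i.left G0.hom p.left η[Q].left := hK.map (Over.forget _)
  haveI : IsOpenImmersion η[Q].left := isOpenImmersion_unit i.left G0.hom p.left η[Q].left hK'
    η[G].left (by rw [← Over.comp_left, IsMonHom.one_hom])
  haveI : IsOpenImmersion (pullback.diagonal Q.hom) :=
    MorphismProperty.of_isPullback (P := @IsOpenImmersion) (Groth.GrpschAbsch.isPullback_diagonal_left Q) inferInstance
  exact Etale.iff_flat_and_formallyUnramified.mpr ⟨inferInstance, inferInstance, inferInstance⟩

end Groth.Agent.S5353
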