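import Groth.Statements.S14759
import Groth.Agent.S3030
import Groth.Agent.S5353
import Groth.Agent.GrpschAbsch.NeutralSet
import Groth.Agent.GrpschLoci.Kernel
import Groth.Agent.Agf.SubobjGrp
import Groth.Agent.Agf.ClosedSubgroup
import Groth.Agent.AlgGrp1.Basic

set_option autoImplicit false
universe u
open CategoryTheory CategoryTheory.Limits MonoidalCategory CartesianMonoidalCategory MonObj GrpObj AlgebraicGeometry
open AlgGrp

namespace Groth.Agent.S14759

open CategoryTheory CategoryTheory.Limits MonoidalCategory CartesianMonoidalCategory MonObj AlgebraicGeometry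
open Groth.AlgGrp1

variable {k : Type u} [Field k]

/-- Kernels exist as closed subgroups. -/
theorem exists_kernel {G H : Over (Spec (CommRingCat.of k))} [GrpObj G] [GrpObj H] (f : G ⟶ H) [IsMonHom f] :
    ∃ (N : Over (Spec (CommRingCat.of k))) (_ : GrpObj N) (c : N ⟶ G),
      IsMonHom c ∧ IsClosedImmersion c.left ∧ AlgGrp.IsKernel c f := by
  haveI := isSeparated_grpObj H
  haveI : IsClosedImmersion η[H].left := by
    haveI : IsClosedImmersion (η[H].left ≫ H.hom) := by
      rw [show η[H].left ≫ H.hom = 𝟙 (Spec (CommRingCat.of k)) from Over.w η[H]]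
      exact MorphismProperty.id_mem @IsClosedImmersion _
    exact IsClosedImmersion.of_comp η[H].left H.hom
  obtain ⟨N, c, hc, hN⟩ := Groth.Agf.exists_preimage f η[H]
  have hN' : ∀ (T : Over (Spec (CommRingCat.of k))) (g : T ⟶ G),
      (∃ z : T ⟶ N, z ≫ c = g) ↔ g ≫ f = 1 := fun T g => by
    rw [hN T g]
    exact ⟨fun ⟨x', hx'⟩ => by rw [hx', toUnit_unique x' (toUnit T), Hom.one_def],
      fun h => ⟨toUnit T, by rw [h, Hom.one_def]⟩⟩
  haveI : Mono c := Over.mono_of_mono_left c
  obtain ⟨inst, hi⟩ := Groth.Agf.exists_grpObj_of_subgroup c (fun T g => g ≫ f = 1) hN'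
    (fun T => by rw [MonObj.one_comp])
    (fun T a b ha hb => by rw [MonObj.mul_comp, ha, hb, _root_.mul_one])
    (fun T a ha => by rw [GrpObj.inv_comp, ha, inv_one])
  exact ⟨N, inst, c, hi, hc, IsKernel.mk' inferInstance hN'⟩

/-- Kernels are unique. -/
theorem exists_iso_of_isKernel {G H N M : Over (Spec (CommRingCat.of k))} [GrpObj G] [GrpObj H]
    {f : G ⟶ H} {c : N ⟶ G} {d : M ⟶ G} (hc : AlgGrp.IsKernel c f) (hd : AlgGrp.IsKernel d f) :
    ∃ e : M ≅ N, e.hom ≫ c = d := by
  haveI := IsKernel.mono hc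
  haveI := IsKernel.mono hd
  obtain ⟨a, ha⟩ := IsKernel.exists_lift hc d (IsKernel.comp_eq_one hd)
  obtain ⟨b, hb⟩ := IsKernel.exists_lift hd c (IsKernel.comp_eq_one hc)
  exact ⟨⟨a, b, by rw [← cancel_mono d, Category.assoc, hb, ha, Category.id_comp],
    by rw [← cancel_mono c, Category.assoc, ha, hb, Category.id_comp]⟩, ha⟩

/-- Over a field k, every isogeny φ : G → H of k-group schemes of finite type (a surjective homomorphism
with finite kernel) factors as φ = χ ∘ ψ with ψ : G → Q a purely inseparable isogeny (its kernel is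
connected) followed by a separable isogeny χ : Q → H (its kernel is etale over k). (The published
definition of isogeny asks only for a finite kernel and an image of finite index in H; this row
takes φ surjective, which is the same notion when H is connected.) -/
theorem result (k : Type u) [Field k]
    (G H : Over (Spec (CommRingCat.of k))) [GrpObj G] [GrpObj H]
    [QuasiCompact G.hom] [LocallyOfFiniteType G.hom] [QuasiCompact H.hom] [LocallyOfFiniteType H.hom]
    (φ : G ⟶ H) [IsMonHom φ] (hφ : SGA7.IsIsogenyOver φ) :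
    ∃ (Q : Over (Spec (CommRingCat.of k))) (_ : GrpObj Q) (ψ : G ⟶ Q) (χ : Q ⟶ H),
      IsMonHom ψ ∧ IsMonHom χ ∧ ψ ≫ χ = φ ∧ SGA7.IsIsogenyOver ψ ∧ SGA7.IsIsogenyOver χ ∧
      (∀ (N : Over (Spec (CommRingCat.of k))) (n : N ⟶ G), AlgGrp.IsKernel n ψ → ConnectedSpace ↥N.left) ∧
      (∀ (N : Over (Spec (CommRingCat.of k))) (n : N ⟶ Q), AlgGrp.IsKernel n χ → Etale N.hom) := by
  obtain ⟨hφs, hφk⟩ := hφ
  obtain ⟨K, _, c, _, hcc, hK⟩ := exists_kernel φ
  haveI : IsFinite K.hom := hφk K c hK
  obtain ⟨K₀, _, i, _, hio, hir, _⟩ := Groth.GrpschAbsch.NeutralSet.exists_neutral_openSubgroup K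
  haveI : DiscreteTopology K.left := by
    have h := K.hom.isDiscrete_preimage_singleton default
    rw [show K.hom ⁻¹' {default} = Set.univ from Set.eq_univ_of_forall fun z =>
      Subsingleton.elim (K.hom z) default] at h
    exact isDiscrete_univ_iff.mp h
  have hir' : Set.range i.left = {η[K].left (IsLocalRing.closedPoint k)} := by
    rw [hir]; exact connectedComponent_eq_singleton _
  haveI : Subsingleton K₀.left := ⟨fun a b => i.left.isOpenEmbedding.injective
    ((hir'.le ⟨a, rfl⟩).trans (hir'.le ⟨b, rfl⟩).symm)⟩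
  haveI : IsFinite K₀.hom := by
    haveI : IsClosedImmersion i.left :=
      IsClosedImmersion.of_isPreimmersion i.left (by rw [hir']; exact isClosed_discrete _)
    rw [← Over.w i]; infer_instance
  -- the neutral component is normal
  let u : K₀ ⟶ G := i ≫ c
  haveI : Mono i := Over.mono_of_mono_left i
  haveI : Mono c := Over.mono_of_mono_left c
  haveI : IsMonHom u := inferInstanceAs (IsMonHom (i ≫ c))
  haveI : Mono u := inferInstanceAs (Mono (i ≫ c))
  have hnorm : AlgGrp.IsNormalHom u := by
    let cj : G ⊗ K₀ ⟶ G := fst G K₀ * (snd G K₀ ≫ u) * (fst G K₀)⁻¹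
    obtain ⟨c', hc'⟩ := IsKernel.exists_lift hK cj (by
      simp only [cj, MonObj.mul_comp, GrpObj.inv_comp, u, Category.assoc]
      rw [IsKernel.comp_eq_one hK, MonObj.comp_one, MonObj.comp_one, _root_.mul_one, mul_inv_cancel])
    haveI hs : Surjective (G ◁ η[K₀]).left := by
      haveI : Surjective η[K₀].left := ⟨fun z => ⟨IsLocalRing.closedPoint k, Subsingleton.elim _ _⟩⟩
      exact MorphismProperty.of_isPullback (P := @Surjective) (Groth.AlgGrp2.isPullback_whiskerLeft_snd G η[K₀]).flip inferInstance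
    have hrange : Set.range c'.left ⊆ Set.range i.left := by
      rintro _ ⟨z, rfl⟩
      obtain ⟨y, rfl⟩ := (G ◁ η[K₀]).left.surjective z
      have h1 : (G ◁ η[K₀]) ≫ c' = toUnit _ ≫ η[K] := by
        rw [← cancel_mono c, Category.assoc, hc', Category.assoc, IsMonHom.one_hom, ← Hom.one_def]
        simp only [cj, MonObj.comp_mul, GrpObj.comp_inv, whiskerLeft_fst]
        rw [← Category.assoc (G ◁ η[K₀]), whiskerLeft_snd, Category.assoc, IsMonHom.one_hom,
          toUnit_unique (snd G (𝟙_ _)) (toUnit _), ← Hom.one_def, _root_.mul_one, mul_inv_cancel]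
      rw [hir', ← Scheme.Hom.comp_apply, ← Over.comp_left, h1]
      show η[K].left _ = _
      congr 1
      exact @Subsingleton.elim _ (inferInstanceAs (Subsingleton (PrimeSpectrum k))) _ _
    let c₀ : G ⊗ K₀ ⟶ K₀ := Over.homMk (IsOpenImmersion.lift i.left c'.left hrange) (by
      rw [← Over.w i, IsOpenImmersion.lift_fac_assoc, Over.w c'])
    have hc₀ : c₀ ≫ i = c' := Over.OverMorphism.ext (IsOpenImmersion.lift_fac _ _ _)
    intro T g m
    refine ⟨lift g m ≫ c₀, ?_⟩
    show g * (m ≫ u) * g⁻¹ = (lift g m ≫ c₀) ≫ i ≫ c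
    rw [Category.assoc, reassoc_of% hc₀, hc']
    simp only [cj, MonObj.comp_mul, GrpObj.comp_inv, lift_fst, lift_snd_assoc]
  haveI : QuasiCompact u.left := by
    haveI : IsFinite (u.left ≫ G.hom) := by rw [Over.w]; infer_instance
    haveI := isSeparated_grpObj G
    exact QuasiCompact.of_comp u.left G.hom
  obtain ⟨Q, instQ, ψ, hψm, hψf, hψs, hψl, hψk, hQs, -, -⟩ := Groth.Agent.S3030.result k K₀ G u hnorm
  have hψc : IsCover ψ := ⟨hψf, hψs, hψl⟩
  obtain ⟨χ, hχ⟩ := hψc.exists_desc φ fun T a b h => by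
    have h1 : (a / b) ≫ ψ = 1 := by
      rw [div_eq_mul_inv, MonObj.mul_comp, GrpObj.inv_comp, h, mul_inv_cancel]
    obtain ⟨z, hz⟩ := IsKernel.exists_lift hψk (a / b) h1
    have h2 : (a / b) ≫ φ = 1 := by
      rw [← hz, show z ≫ u = (z ≫ i) ≫ c from (Category.assoc _ _ _).symm, Category.assoc,
        IsKernel.comp_eq_one hK, MonObj.comp_one]
    rwa [div_eq_mul_inv, MonObj.mul_comp, GrpObj.inv_comp, mul_inv_eq_one] at h2
  haveI : IsMonHom χ := by
    refine isMonHom_of_points _ fun {T} a b => ?_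
    obtain ⟨T', t, x, y, ht, hx, hy⟩ := hψc.exists_lift₂ a b
    apply ht.cancel
    rw [← Category.assoc, MonObj.comp_mul, ← hx, ← hy, ← MonObj.mul_comp x y ψ, Category.assoc, hχ,
      MonObj.mul_comp, MonObj.comp_mul, ← Category.assoc t a χ, ← Category.assoc t b χ, ← hx, ← hy,
      Category.assoc, Category.assoc, hχ]
  haveI hχs : Surjective χ.left := ⟨fun y => by
    obtain ⟨x, rfl⟩ := φ.left.surjective y
    exact ⟨ψ.left x, by rw [← Scheme.Hom.comp_apply, ← Over.comp_left, hχ]⟩⟩
  -- the kernel of `χ`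
  obtain ⟨N, _, d, _, hdc, hd⟩ := exists_kernel χ
  haveI : Mono d := IsKernel.mono hd
  obtain ⟨p, hp⟩ := IsKernel.exists_lift hd (c ≫ ψ) (by
    rw [Category.assoc, hχ, IsKernel.comp_eq_one hK])
  haveI : IsMonHom p := isMonHom_of_points _ fun {T} a b => by
    rw [← cancel_mono d, Category.assoc, hp, MonObj.mul_comp, MonObj.mul_comp, Category.assoc,
      Category.assoc, hp]
  have hpb : IsPullback c p ψ d := by
    have hl : ∀ s : PullbackCone ψ d, ∃ l : s.pt ⟶ K, l ≫ c = s.fst := fun s =>
      IsKernel.exists_lift hK s.fst (by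
        rw [← hχ, ← Category.assoc, s.condition, Category.assoc, IsKernel.comp_eq_one hd, MonObj.comp_one])
    choose l hl using hl
    refine ⟨⟨hp.symm⟩, ⟨PullbackCone.IsLimit.mk _ l hl (fun s => ?_) (fun s m h1 h2 => ?_)⟩⟩
    · rw [← cancel_mono d, Category.assoc, hp, ← Category.assoc, hl]
      exact s.condition
    · rw [← cancel_mono c, h1, hl]
  have hpc : IsCover p := hψc.of_isPullback (hpb.map (Over.forget _))
  have hpk : AlgGrp.IsKernel i p := by
    refine IsKernel.mk' inferInstance fun T g => ⟨?_, fun h => ?_⟩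
    · rintro ⟨z, rfl⟩
      rw [← cancel_mono d, Category.assoc, Category.assoc, hp, MonObj.one_comp]
      show z ≫ (i ≫ c) ≫ ψ = 1
      rw [IsKernel.comp_eq_one hψk, MonObj.comp_one]
    · obtain ⟨z, hz⟩ := IsKernel.exists_lift hψk (g ≫ c) (by
        rw [Category.assoc, ← hp, ← Category.assoc, h, MonObj.one_comp])
      exact ⟨z, (cancel_mono c).1 (by rw [Category.assoc]; exact hz)⟩
  haveI := hpc.flat
  haveI := hpc.surj
  haveI := hpc.lfp
  have hNet : Etale N.hom :=
    Groth.Agent.S5353.result k K₀ K N i (IsLocalRing.closedPoint k) hir p hpk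
  haveI : IsFinite N.hom := by
    haveI : CompactSpace K.left := QuasiCompact.compactSpace_of_compactSpace K.hom
    haveI : CompactSpace N.left := ⟨by
      rw [← p.left.surjective.range_eq]
      exact isCompact_range p.left.continuous⟩
    haveI : Finite K.left := finite_of_compact_of_discrete
    haveI : Finite N.left := Finite.of_surjective _ p.left.surjective
    haveI : QuasiCompact N.hom := (quasiCompact_iff_compactSpace N.hom).mpr inferInstance
    haveI : LocallyQuasiFinite N.hom :=
      LocallyQuasiFinite.of_finite_preimage_singleton N.hom fun _ => Set.toFinite _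
    exact IsFinite.of_locallyQuasiFinite N.hom
  refine ⟨Q, instQ, ψ, χ, hψm, inferInstance, hχ, ⟨hψs, fun M m hm => ?_⟩, ⟨hχs, fun M m hm => ?_⟩,
    fun M m hm => ?_, fun M m hm => ?_⟩
  · obtain ⟨e, -⟩ := exists_iso_of_isKernel hψk hm
    rw [← Over.w e.hom]
    haveI : IsIso e.hom.left := inferInstanceAs (IsIso ((Over.forget _).mapIso e).hom)
    infer_instance
  · obtain ⟨e, -⟩ := exists_iso_of_isKernel hd hm
    rw [← Over.w e.hom]
    haveI : IsIso e.hom.left := inferInstanceAs (IsIso ((Over.forget _).mapIso e).hom)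
    infer_instance
  · obtain ⟨e, -⟩ := exists_iso_of_isKernel hψk hm
    haveI : IsIso e.hom.left := inferInstanceAs (IsIso ((Over.forget _).mapIso e).hom)
    haveI : Subsingleton M.left := e.hom.left.isOpenEmbedding.injective.subsingleton
    haveI : Nonempty M.left := ⟨inv e.hom.left (η[K₀].left (IsLocalRing.closedPoint k))⟩
    exact { toPreconnectedSpace := ⟨Set.subsingleton_of_subsingleton.isPreconnected⟩, toNonempty := ‹_› }
  · obtain ⟨e, -⟩ := exists_iso_of_isKernel hd hm
    haveI : IsIso e.hom.left := inferInstanceAs (IsIso ((Over.forget _).mapIso e).hom)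
    rw [← Over.w e.hom]
    haveI := hNet
    infer_instance

end Groth.Agent.S14759
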