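import Groth.Statements.S14762
import Groth.Agent.Agf2.TorusGen
import Groth.Agent.URad.Apply
import Groth.Agent.AlgGrp1.AffineQuot
import Groth.Agent.AlgGrp1.AffineCrit
import Groth.Agent.Agf.ClosedSubgroup
import Groth.Agent.GrpschAbsch.NeutralSet

set_option autoImplicit false
universe u
open CategoryTheory CategoryTheory.Limits MonoidalCategory CartesianMonoidalCategory MonObj GrpObj AlgebraicGeometry
open Red

namespace Groth.Agent.S14762

open Groth.AlgGrp1

variable {k : Type u} [Field k] [IsAlgClosed k]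

/-- A connected smooth group which is a quotient of a group with kernel containing the identity component
is trivial. -/
theorem trivial_of_neutral {E U : Over (Spec (CommRingCat.of k))} [GrpObj E] [GrpObj U]
    [LocallyOfFiniteType E.hom] [QuasiCompact E.hom] [Smooth U.hom] [IsAffine U.left] [ConnectedSpace U.left]
    (π : E ⟶ U) [IsMonHom π] [Surjective π.left]
    (h : ∀ x : 𝟙_ (Over (Spec (CommRingCat.of k))) ⟶ E,
      rpt x ∈ connectedComponent (η[E].left (IsLocalRing.closedPoint k)) → x ≫ π = 1) : Red.IsTrivialGrp U := by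
  have hone : rpt (1 : 𝟙_ (Over (Spec (CommRingCat.of k))) ⟶ E) = η[E].left (IsLocalRing.closedPoint k) := by
    rw [show (1 : 𝟙_ (Over (Spec (CommRingCat.of k))) ⟶ E) = η[E] by
      rw [Hom.one_def, toUnit_unique (toUnit (𝟙_ (Over (Spec (CommRingCat.of k))))) (𝟙 _), Category.id_comp]]
  haveI := LocallyOfFiniteType.isLocallyNoetherian E.hom
  haveI := Groth.SGA7.IdComponent.locallyConnectedSpace (X := E.left)
  haveI : CompactSpace E.left := (quasiCompact_iff_compactSpace E.hom).mp inferInstance
  have : Finite (_root_.ConnectedComponents E.left) := finite_of_compact_of_discrete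
  choose lft hlft using fun u : 𝟙_ (Over (Spec (CommRingCat.of k))) ⟶ U =>
    exists_rpt_lift π u (π.left.surjective _)
  have hfin : Finite (𝟙_ (Over (Spec (CommRingCat.of k))) ⟶ U) :=
    Finite.of_injective (fun u => (_root_.ConnectedComponents.mk (rpt (lft u)) : _root_.ConnectedComponents E.left))
      fun u v huv => by
        let ρ : E ⟶ E := 𝟙 E * (toUnit E ≫ (lft u)⁻¹)
        have hρ : ∀ z, z ≫ ρ = z * (lft u)⁻¹ := fun z => by
          simp only [ρ, MonObj.comp_mul, Category.comp_id, comp_toUnit_assoc]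
          rw [toUnit_unique (toUnit _) (𝟙 _), Category.id_comp]
        have hmem : rpt (lft v) ∈ connectedComponent (rpt (lft u)) := _root_.ConnectedComponents.coe_eq_coe'.1 huv.symm
        have h1 := ρ.left.continuous.image_connectedComponent_subset (rpt (lft u)) ⟨_, hmem, rfl⟩
        have h2 : ρ.left (rpt (lft u)) = rpt (1 : 𝟙_ (Over (Spec (CommRingCat.of k))) ⟶ E) := by
          rw [← mul_inv_cancel (lft u), ← hρ]; rfl
        have h3 : ρ.left (rpt (lft v)) = rpt (lft v * (lft u)⁻¹) := by rw [← hρ]; rfl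
        rw [h2, h3, hone] at h1
        have h4 := h _ h1
        rw [MonObj.mul_comp, GrpObj.inv_comp, hlft, hlft, mul_inv_eq_one] at h4
        exact h4.symm
  have := LocallyOfFiniteType.jacobsonSpace U.hom
  have hP : closedPoints U.left = Set.univ := by
    have hf : (closedPoints U.left).Finite :=
      (Set.finite_range (fun u : 𝟙_ (Over (Spec (CommRingCat.of k))) ⟶ U => rpt u)).subset
        fun p hp => exists_rpt hp
    have hc : IsClosed (closedPoints U.left) := by
      rw [← Set.biUnion_of_singleton (closedPoints U.left)]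
      exact hf.isClosed_biUnion fun p hp => hp
    rw [← closure_closedPoints (X := U.left), hc.closure_eq]
  have : Finite U.left := Finite.of_surjective
    (fun u : 𝟙_ (Over (Spec (CommRingCat.of k))) ⟶ U => rpt u) fun p => exists_rpt (hP.ge (Set.mem_univ p))
  have : T1Space U.left := ⟨fun p => hP.ge (Set.mem_univ p)⟩
  have : DiscreteTopology U.left := inferInstance
  have : Subsingleton U.left := PreconnectedSpace.trivial_of_discrete
  have := isSeparated_grpObj U
  have hη : η[U].left ≫ U.hom = 𝟙 (Spec (CommRingCat.of k)) := Over.w η[U]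
  have : IsClosedImmersion η[U].left := by
    have : IsClosedImmersion (η[U].left ≫ U.hom) := by
      rw [hη]; exact MorphismProperty.id_mem _ _
    exact IsClosedImmersion.of_comp η[U].left U.hom
  have : Surjective η[U].left := ⟨fun p => ⟨IsLocalRing.closedPoint k, Subsingleton.elim _ _⟩⟩
  haveI := geometricallyReduced_of_smooth_hom U
  haveI := isReduced_left U
  haveI := isIso_of_isClosedImmersion_of_surjective η[U].left
  show IsIso U.hom
  have : IsIso (η[U].left ≫ U.hom) := by rw [hη]; exact IsIso.id _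
  exact IsIso.of_isIso_comp_left η[U].left U.hom


/-- Over an algebraically closed field k, every quotient of a reductive group variety is reductive: if G
is a reductive k-group (affine, smooth, connected, with trivial unipotent radical) and π : G → H is
a flat surjective homomorphism onto a k-group scheme of finite type H, then H is reductive. (The
published lemma also covers the properties complete, semisimple and solvable.) -/
theorem result (k : Type u) [Field k] [IsAlgClosed k]
    (G H : Over (Spec (CommRingCat.of k))) [GrpObj G] [GrpObj H] (hG : Red.IsReductiveOver k G)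
    [QuasiCompact H.hom] [LocallyOfFiniteType H.hom]
    (π : G ⟶ H) [IsMonHom π] [Flat π.left] [Surjective π.left] :
    Red.IsReductiveOver k H := by
  haveI := hG.1; haveI := hG.2.1; haveI := hG.2.2.1
  haveI : IsAffine H.left := Groth.AlgGrp1.isAffine_of_quotient π
  haveI : Smooth H.hom := Groth.AlgGrp1.smooth_of_flat_surjective_hom π
  haveI : ConnectedSpace H.left := π.left.surjective.connectedSpace π.left.continuous
  refine ⟨inferInstance, inferInstance, inferInstance, fun U _ u _ huc hUs hUn hnorm hU => ?_⟩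
  haveI := huc; haveI := hUs; haveI := hUn
  haveI : IsAffine U.left := isAffine_of_isAffineHom u.left
  haveI : Mono u := Over.mono_of_mono_left u
  have hUu : Groth.URad.IsUnip U := Groth.URad.isUnip_of_hasNoSubtorus U hU
  -- the preimage of U, its neutral component, reduced
  obtain ⟨E, cE, hcE, hE⟩ := Groth.Agf.exists_preimage π u
  haveI := hcE
  haveI : Mono cE := Over.mono_of_mono_left cE
  obtain ⟨_, hcEm⟩ := Groth.Agf.exists_grpObj_of_subgroup cE (fun T g => ∃ x : T ⟶ U, g ≫ π = x ≫ u) hE
    (fun T => ⟨1, by rw [MonObj.one_comp, MonObj.one_comp]⟩)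
    (fun T a b ⟨x, hx⟩ ⟨y, hy⟩ => ⟨x * y, by rw [MonObj.mul_comp, hx, hy, MonObj.mul_comp]⟩)
    (fun T a ⟨x, hx⟩ => ⟨x⁻¹, by rw [GrpObj.inv_comp, hx, GrpObj.inv_comp]⟩)
  haveI := hcEm
  obtain ⟨πE, hπE⟩ := (hE E cE).1 ⟨𝟙 E, Category.id_comp cE⟩
  haveI : IsMonHom πE := Groth.AlgGrp1.isMonHom_of_points _ fun T a b => by
    rw [← cancel_mono u, MonObj.mul_comp (a ≫ πE), Category.assoc, Category.assoc, Category.assoc, ← hπE,
      ← Category.assoc (a * b), MonObj.mul_comp, MonObj.mul_comp, Category.assoc, Category.assoc]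
  haveI : LocallyOfFiniteType E.hom := by rw [← Over.w cE]; infer_instance
  haveI : QuasiCompact E.hom := by rw [← Over.w cE]; infer_instance
  haveI : Surjective πE.left := ⟨fun p => by
    obtain ⟨a, ha⟩ := π.left.surjective (u.left p)
    have hmem : a ∈ Set.range (Limits.pullback.fst π.left u.left) := by
      rw [Scheme.Pullback.range_fst]; exact ⟨p, ha.symm⟩
    obtain ⟨q, hq⟩ := hmem
    let P : Over (Spec (CommRingCat.of k)) := Over.mk (Limits.pullback.fst π.left u.left ≫ G.hom)
    let c₀ : P ⟶ G := Over.homMk (Limits.pullback.fst π.left u.left) rfl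
    let d₀ : P ⟶ U := Over.homMk (Limits.pullback.snd π.left u.left) (by
      show Limits.pullback.snd π.left u.left ≫ U.hom = Limits.pullback.fst π.left u.left ≫ G.hom
      rw [← Over.w u, ← Limits.pullback.condition_assoc, Over.w π])
    obtain ⟨e, he⟩ := (hE P c₀).2 ⟨d₀, Over.OverMorphism.ext Limits.pullback.condition⟩
    refine ⟨e.left q, u.left.isClosedEmbedding.injective ?_⟩
    rw [← ha, ← hq]
    have h1 : e ≫ πE ≫ u = c₀ ≫ π := by rw [← hπE, ← Category.assoc, he]
    exact congr(($h1).left q)⟩
  obtain ⟨E₀, _, i₀, hi₀m, hi₀o, hi₀r, hE₀c⟩ :=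
    Groth.GrpschAbsch.NeutralSet.exists_neutral_openSubgroup (G := E)
  haveI := hi₀m; haveI := hi₀o; haveI := hE₀c
  haveI : IsClosedImmersion i₀.left :=
    IsClosedImmersion.of_isPreimmersion i₀.left (by rw [hi₀r]; exact isClosed_connectedComponent)
  haveI : LocallyOfFiniteType E₀.hom := by rw [← Over.w i₀]; infer_instance
  obtain ⟨Z, _, c, hcm, hcc, hcs, hZs, hZr⟩ := Groth.AlgGrp1.exists_reduced_subgroup_lft E₀
  haveI := hcm; haveI := hcc; haveI := hcs; haveI := hZs; haveI := hZr
  haveI : ConnectedSpace Z.left :=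
    (c.left.isClosedEmbedding.toIsEmbedding.toHomeomorphOfSurjective c.left.surjective).symm.surjective.connectedSpace
      (Homeomorph.continuous _)
  let j : Z ⟶ G := c ≫ i₀ ≫ cE
  haveI : IsMonHom j := inferInstance
  haveI : IsClosedImmersion j.left := by simp only [j, Over.comp_left]; infer_instance
  haveI : Mono j := Over.mono_of_mono_left j
  have hjr : Set.range j.left = cE.left '' connectedComponent (η[E].left (IsLocalRing.closedPoint k)) := by
    rw [← hi₀r, ← Set.range_comp]
    ext p
    constructor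
    · rintro ⟨z, rfl⟩; exact ⟨c.left z, rfl⟩
    · rintro ⟨w, rfl⟩; obtain ⟨z, rfl⟩ := c.left.surjective w; exact ⟨z, rfl⟩
  have hjπ : j ≫ π = (c ≫ i₀ ≫ πE) ≫ u := by simp only [j, Category.assoc, hπE]
  have hN : AlgGrp.IsNormalHom j := Groth.URad.isNormalHom_of_points j fun g x => by
    obtain ⟨n', hn'⟩ := hnorm Z (toUnit Z ≫ g ≫ π) (c ≫ i₀ ≫ πE)
    obtain ⟨d, hd⟩ := (hE Z (AGF.conjBy g j)).2 ⟨n', by
      rw [← hn', AGF.conjBy, MonObj.mul_comp, MonObj.mul_comp, GrpObj.inv_comp, Category.assoc, hjπ]⟩
    have hd1 : η[Z] ≫ d = η[E] := by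
      rw [← cancel_mono cE, Category.assoc, hd, Groth.AlgGrp1.comp_conjBy, IsMonHom.one_hom cE, IsMonHom.one_hom j,
        show η[G] = (1 : 𝟙_ (Over (Spec (CommRingCat.of k))) ⟶ G) by
          rw [Hom.one_def, toUnit_unique (toUnit (𝟙_ (Over (Spec (CommRingCat.of k))))) (𝟙 _), Category.id_comp],
        _root_.mul_one, mul_inv_cancel]
    obtain ⟨z, hz⟩ := Groth.AlgGrp1.exists_factor_of_range_subset j (AGF.conjBy g j) (by
      rw [hjr, ← hd]
      rintro _ ⟨p, rfl⟩
      exact ⟨d.left p, (isPreconnected_range d.left.continuous).subset_connectedComponent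
        ⟨η[Z].left (IsLocalRing.closedPoint k), congr(($hd1).left (IsLocalRing.closedPoint k))⟩ ⟨p, rfl⟩, rfl⟩)
    refine ⟨x ≫ z, ?_⟩
    rw [Category.assoc, hz, Groth.AlgGrp1.comp_conjBy,
      toUnit_unique (toUnit (𝟙_ (Over (Spec (CommRingCat.of k))))) (𝟙 _), Category.id_comp]
  haveI : IsAffine Z.left := isAffine_of_isAffineHom j.left
  have hZ : Red.IsReductiveOver k Z := ⟨inferInstance, inferInstance, inferInstance,
    fun V _ v _ hvc hVs hVn hVnorm hV =>
      haveI := hvc; haveI := hVs; haveI := hVn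
      Groth.URad.radical_trivial_of_normal j hN hG.2.2.2 v hVnorm hV⟩
  haveI : IsMonHom (c ≫ i₀ ≫ πE) := inferInstance
  have hone : c ≫ i₀ ≫ πE = 1 := Groth.Agf2.TorusGen.hom_unip_eq_one hZ hUu _
  refine trivial_of_neutral πE fun x hx => ?_
  rw [← hi₀r] at hx
  obtain ⟨y, rfl⟩ := Groth.AlgGrp1.exists_rpt_lift i₀ x hx
  obtain ⟨z, rfl⟩ := Groth.AlgGrp1.exists_rpt_lift c y (c.left.surjective _)
  rw [Category.assoc, Category.assoc, hone, MonObj.comp_one]

end Groth.Agent.S14762
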