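import Groth.Statements.S14763
import Groth.Agent.S14751
import Groth.Agent.AlgGrp1.ImageHom
import Groth.Agent.AlgGrp1.Extension
import Groth.Agent.AlgGrpAb.Basic
import Groth.Agent.AbvarAlb.Poincare

set_option autoImplicit false
universe u
open CategoryTheory CategoryTheory.Limits MonoidalCategory CartesianMonoidalCategory MonObj GrpObj AlgebraicGeometry
open AlgGrp

namespace Groth.Agent.S14763

/-- Over an algebraically closed field k let G be a commutative group variety (smooth connected
commutative k-group scheme of finite type) written as an extension 0 → L → G → A → 0 of an abelian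
variety by its largest connected affine subgroup: i : L → G a smooth connected affine closed
subgroup scheme, kernel of a flat surjective homomorphism π : G → A onto an abelian variety A
(proper, smooth, connected). Then the following are equivalent: (a) for some d ≥ 1 there is a
homomorphism s : A → G with π ∘ s equal to multiplication by d on A (the class of the extension is
killed by d: its pullback along multiplication by d splits); (b) there is an abelian subvariety A'
of G (a smooth connected proper closed subgroup scheme) with A' · L = G, that is, the multiplication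
A' × L → G is surjective. (The published statement phrases (a) as the class of G having finite order
in the group of extension classes and (b) as G being isogenous to L × A; the published proof passes
through exactly the two conditions stated here.) -/
theorem result (k : Type u) [Field k] [IsAlgClosed k]
    (G L A : Over (Spec (CommRingCat.of k))) [GrpObj G] [GrpObj L] [GrpObj A] [IsCommMonObj G]
    [Smooth G.hom] [QuasiCompact G.hom] [ConnectedSpace ↥G.left]
    (i : L ⟶ G) [IsMonHom i] [IsClosedImmersion i.left] [IsAffine L.left] [Smooth L.hom] [ConnectedSpace ↥L.left]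
    (π : G ⟶ A) [IsMonHom π] [Flat π.left] [Surjective π.left] (hker : AlgGrp.IsKernel i π)
    [IsProper A.hom] [Smooth A.hom] [ConnectedSpace ↥A.left] :
    (∃ d : ℕ, 0 < d ∧ ∃ s : A ⟶ G, IsMonHom s ∧ s ≫ π = (𝟙 A) ^ d) ↔
      (∃ (A' : Over (Spec (CommRingCat.of k))) (_ : GrpObj A') (j : A' ⟶ G), IsMonHom j ∧ IsClosedImmersion j.left ∧
        Smooth A'.hom ∧ ConnectedSpace ↥A'.left ∧ IsProper A'.hom ∧ Surjective ((j ⊗ₘ i) ≫ μ[G]).left) := by
  have := Groth.AlgGrp1.geometricallyIntegral_of_smooth A
  have := Groth.AlgGrp1.isSeparated_grpObj G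
  constructor
  · rintro ⟨d, hd, s, _, hs⟩
    have : QuasiCompact A.hom := inferInstance
    obtain ⟨K, _, c, g, _, _, _, _, _, _, _, hgc⟩ := Groth.AlgGrp1.exists_image_hom s
    have hKs : Smooth K.hom := Groth.AlgGrp1.smooth_of_flat_surjective_hom g
    have hKc : ConnectedSpace K.left := Groth.AlgGrp1.connectedSpace_of_surjective g
    have : IsSeparated K.hom := Groth.AlgGrp1.isSeparated_grpObj K
    have hKp : IsProper K.hom := by
      have : UniversallyClosed (g.left ≫ K.hom) := by rw [Over.w]; infer_instance
      have : UniversallyClosed K.hom := UniversallyClosed.of_comp_surjective g.left K.hom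
      exact { }
    refine ⟨K, inferInstance, c, inferInstance, inferInstance, hKs, hKc, hKp, ⟨fun x => ?_⟩⟩
    let Ω := AlgebraicClosure (G.left.residueField x)
    let gam : Spec (CommRingCat.of Ω) ⟶ G.left :=
      Spec.map (CommRingCat.ofHom (algebraMap (G.left.residueField x) Ω)) ≫ G.left.fromSpecResidueField x
    let a : CommRingCat.of k ⟶ CommRingCat.of Ω := Spec.preimage (gam ≫ G.hom)
    let _ : Algebra k Ω := a.hom.toAlgebra
    let y : SGA7.pt (K := k) Ω ⟶ G := Over.homMk gam (Spec.map_preimage (gam ≫ G.hom)).symm
    have : Surjective ((𝟙 A) ^ d : A ⟶ A).left := by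
      rw [← zpow_natCast]
      exact (Groth.AbVarMul.isogeny_zpow (A := A) (d := (d : ℤ)) (by exact_mod_cast hd.ne')).2.2
    obtain ⟨b, hb⟩ := Groth.AbVarMul.exists_comp_eq_bc Ω ((𝟙 A) ^ d : A ⟶ A) (y ≫ π)
    obtain ⟨l, hl⟩ := Groth.AlgGrp1.IsKernel.exists_lift hker (y * (b ≫ s)⁻¹) (by
      rw [MonObj.mul_comp, GrpObj.inv_comp, Category.assoc, hs, hb, mul_inv_cancel])
    have e : lift (b ≫ g) l ≫ (c ⊗ₘ i) ≫ μ[G] = y := by
      rw [← Category.assoc, lift_map, ← Hom.mul_def, hl, Category.assoc, hgc, mul_comm (b ≫ s), inv_mul_cancel_right]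
    refine ⟨(lift (b ≫ g) l).left (IsLocalRing.closedPoint Ω), ?_⟩
    rw [← Scheme.Hom.comp_apply, ← Over.comp_left, e]
    show gam (IsLocalRing.closedPoint Ω) = x
    exact Scheme.fromSpecResidueField_apply x
      ((Spec.map (CommRingCat.ofHom (algebraMap (G.left.residueField x) Ω))) (IsLocalRing.closedPoint Ω))
  · rintro ⟨A', _, j, _, _, _, _, _, hsurj⟩
    obtain ⟨-, -, hs, hfin⟩ := Groth.Agent.S14751.result k G L A' A i π hker j hsurj
    have := hs
    have := Groth.AlgGrp1.geometricallyIntegral_of_smooth A'
    have := Groth.GrpschAbsch.isCommMonObj_of_isProper A'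
    obtain ⟨N, _, n, _, _, _, hn⟩ := Groth.AlgGrpAb.exists_kernel (j ≫ π)
    have : Flat (j ≫ π).left := Groth.GrpschAbsch.FibreFlat.flat_of_surjective_field (j ≫ π)
    have : IsProper ((j ≫ π).left ≫ A.hom) := by rw [Over.w]; infer_instance
    have : IsProper (j ≫ π).left := IsProper.of_comp (j ≫ π).left A.hom
    have : IsFinite (j ≫ π).left := Groth.AlgGrp1.IsKernel.descends hn @IsFinite (hfin N n hn)
    obtain ⟨d, g, hd, _, -, hg⟩ := Groth.AbvarAlb.Poincare.exists_quasi_inverse (j ≫ π)
    exact ⟨d, Nat.pos_of_ne_zero hd, g ≫ j, inferInstance, by rw [Category.assoc]; exact hg⟩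

end Groth.Agent.S14763
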