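import Groth.Statements.S14764
import Groth.Agent.AlgGrp1.Antiaffine
import Groth.Agent.AlgGrp1.AffineCrit
import Groth.Agent.GrpschAbsch.GrpDim
import Groth.Agent.GrpschAbsch.NeutralSet
import Groth.Agent.Calg4.MonoFactor.Over

set_option autoImplicit false
universe u
open CategoryTheory CategoryTheory.Limits MonoidalCategory CartesianMonoidalCategory MonObj GrpObj AlgebraicGeometry
open AlgGrp

namespace Groth.Agent.S14764

/-- Over an algebraically closed field k let G be a group variety (smooth connected k-group scheme of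
finite type), i : G_lin → G its largest smooth connected affine normal closed subgroup scheme, j : D
→ G its largest anti-affine closed subgroup scheme G_ant (global functions the constants; every such
subgroup factors through it), and i_D : D_lin → D the largest smooth connected affine normal closed
subgroup scheme of D. Then D_lin is contained in G_lin (i_D ∘ j factors through i) and has finite
index in the scheme-theoretic intersection D ∩ G_lin, in the sense that D_lin and D ×_G G_lin have
the same dimension; equivalently D_lin is the reduced identity component of D ∩ G_lin. -/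
theorem result (k : Type u) [Field k] [IsAlgClosed k]
    (G : Over (Spec (CommRingCat.of k))) [GrpObj G] [Smooth G.hom] [QuasiCompact G.hom] [ConnectedSpace ↥G.left]
    (N : Over (Spec (CommRingCat.of k))) [GrpObj N] (i : N ⟶ G) [IsMonHom i] [IsClosedImmersion i.left]
    [Smooth N.hom] [ConnectedSpace ↥N.left] [IsAffine N.left] (hN : AlgGrp.IsNormalHom i)
    (hNmax : (∀ (N' : Over (Spec (CommRingCat.of k))) [GrpObj N'] (i' : N' ⟶ G) [IsMonHom i'] [IsClosedImmersion i'.left]
      [Smooth N'.hom] [ConnectedSpace ↥N'.left] [IsAffine N'.left], AlgGrp.IsNormalHom i' → ∃ f : N' ⟶ N, f ≫ i = i'))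
    (D : Over (Spec (CommRingCat.of k))) [GrpObj D] (j : D ⟶ G) [IsMonHom j] [IsClosedImmersion j.left]
    (hD : Function.Bijective ((Scheme.ΓSpecIso (CommRingCat.of k)).inv ≫ D.hom.appTop).hom)
    (hDmax : ∀ (M' : Over (Spec (CommRingCat.of k))) [GrpObj M'] (j' : M' ⟶ G) [IsMonHom j'] [IsClosedImmersion j'.left],
      Function.Bijective ((Scheme.ΓSpecIso (CommRingCat.of k)).inv ≫ M'.hom.appTop).hom → ∃ f : M' ⟶ D, f ≫ j = j')
    (ND : Over (Spec (CommRingCat.of k))) [GrpObj ND] (iD : ND ⟶ D) [IsMonHom iD] [IsClosedImmersion iD.left]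
    [Smooth ND.hom] [ConnectedSpace ↥ND.left] [IsAffine ND.left] (hND : AlgGrp.IsNormalHom iD)
    (hNDmax : (∀ (N' : Over (Spec (CommRingCat.of k))) [GrpObj N'] (i' : N' ⟶ D) [IsMonHom i'] [IsClosedImmersion i'.left]
      [Smooth N'.hom] [ConnectedSpace ↥N'.left] [IsAffine N'.left], AlgGrp.IsNormalHom i' → ∃ f : N' ⟶ ND, f ≫ iD = i')) :
    (∃ g : ND ⟶ N, g ≫ i = iD ≫ j) ∧
      topologicalKrullDim ↥ND.left = topologicalKrullDim ↥(pullback j.left i.left) := by
  have : LocallyOfFiniteType D.hom := by rw [← Over.w j]; infer_instance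
  have : Mono i := Over.mono_of_mono_left i
  have : Mono j := Over.mono_of_mono_left j
  have : Mono iD := Over.mono_of_mono_left iD
  have hDc : ConnectedSpace D.left := Groth.AlgGrp1.HasConstFunctions.connectedSpace (X := D) hD
  have : QuasiCompact D.hom := by rw [← Over.w j]; infer_instance
  -- `D` is central
  have hcentral : ∀ {T : Over (Spec (CommRingCat.of k))} (a : T ⟶ D) (g : T ⟶ G), g * (a ≫ j) * g⁻¹ = a ≫ j :=
    fun a g => by rw [← Groth.AlgGrp1.comm_of_hasConstFunctions hD j a g, mul_inv_cancel_right]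
  have : IsClosedImmersion (iD ≫ j).left := by rw [Over.comp_left]; infer_instance
  obtain ⟨g, hg⟩ := hNmax ND (iD ≫ j) (fun T x n => ⟨n, by rw [← Category.assoc, hcentral]⟩)
  refine ⟨⟨g, hg⟩, ?_⟩
  -- the intersection
  let P := pullback j i
  let p : P ⟶ D := pullback.fst j i
  let q : P ⟶ N := pullback.snd j i
  have hsq : IsPullback p.left q.left j.left i.left :=
    (IsPullback.of_hasPullback j i).map (Over.forget (Spec (CommRingCat.of k)))
  have : IsClosedImmersion p.left := MorphismProperty.of_isPullback (P := @IsClosedImmersion) hsq.flip ‹_›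
  have : IsClosedImmersion q.left := MorphismProperty.of_isPullback (P := @IsClosedImmersion) hsq ‹_›
  have : Mono p := Over.mono_of_mono_left p
  obtain ⟨_, hp⟩ := Groth.Agf.exists_grpObj_of_subgroup p (fun T x => ∃ n : T ⟶ N, n ≫ i = x ≫ j)
    (fun T x => ⟨fun ⟨y, hy⟩ => ⟨y ≫ q, by rw [← hy, Category.assoc, Category.assoc, pullback.condition]⟩,
      fun ⟨n, hn⟩ => ⟨pullback.lift x n hn.symm, pullback.lift_fst _ _ _⟩⟩)
    (fun T => ⟨1, by rw [MonObj.one_comp, MonObj.one_comp]⟩)
    (fun T a b ⟨m, hm⟩ ⟨n, hn⟩ => ⟨m * n, by rw [MonObj.mul_comp, MonObj.mul_comp, hm, hn]⟩)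
    (fun T a ⟨m, hm⟩ => ⟨m⁻¹, by rw [GrpObj.inv_comp, GrpObj.inv_comp, hm]⟩)
  have : LocallyOfFiniteType P.hom := by rw [← Over.w p]; infer_instance
  have : QuasiCompact P.hom := by rw [← Over.w p]; infer_instance
  obtain ⟨Z, _, c, _, _, _, _, _⟩ := Groth.AlgGrp1.exists_reduced_subgroup P
  obtain ⟨C, _, o, _, _, hr, _⟩ := Groth.GrpschAbsch.NeutralSet.exists_neutral_openSubgroup (G := Z)
  have : IsClosedImmersion o.left :=
    IsClosedImmersion.of_isPreimmersion o.left (by rw [hr]; exact isClosed_connectedComponent)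
  have : Smooth C.hom := by rw [← Over.w o]; infer_instance
  have : IsClosedImmersion (o ≫ c ≫ p).left := by simp only [Over.comp_left]; infer_instance
  have : IsClosedImmersion (o ≫ c ≫ q).left := by simp only [Over.comp_left]; infer_instance
  have : IsAffine C.left := isAffine_of_isAffineHom (o ≫ c ≫ q).left
  obtain ⟨e, he⟩ := hNDmax C (o ≫ c ≫ p) (fun T x n => ⟨n, by
    have hc := Groth.AlgGrp1.comm_of_hasConstFunctions hD (𝟙 D) (n ≫ o ≫ c ≫ p) x
    rw [Category.comp_id] at hc
    rw [← hc, mul_inv_cancel_right]⟩)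
  -- the inverse
  let v : ND ⟶ P := pullback.lift iD g hg.symm
  have : Smooth Z.hom := ‹_›
  have := Groth.AlgGrp1.geometricallyReduced_of_smooth_hom ND
  have := Groth.AlgGrp1.isReduced_left ND
  obtain ⟨z, hz⟩ := Groth.AlgGrp1.exists_factor_of_range_subset c v
    (by rw [c.left.surjective.range_eq]; exact Set.subset_univ _)
  have hrange : Set.range z.left ⊆ Set.range o.left := by
    rw [hr]
    refine (isPreconnected_range z.left.continuous).subset_connectedComponent
      ⟨η[ND].left (IsLocalRing.closedPoint k), ?_⟩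
    have : Mono (c ≫ p) := by
      have : IsClosedImmersion (c ≫ p).left := by rw [Over.comp_left]; infer_instance
      exact Over.mono_of_mono_left _
    have hze : η[ND] ≫ z = η[Z] := by
      rw [← cancel_mono (c ≫ p), Category.assoc, reassoc_of% hz, pullback.lift_fst, IsMonHom.one_hom,
        IsMonHom.one_hom]
    exact congr(($hze).left.base (IsLocalRing.closedPoint k))
  let w : ND ⟶ C := Over.homMk (IsOpenImmersion.lift o.left z.left hrange) (by
    rw [← Over.w o, ← Category.assoc, IsOpenImmersion.lift_fac, Over.w])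
  have hw : w ≫ o ≫ c ≫ p = iD := by
    rw [← Category.assoc w, show w ≫ o = z from Over.OverMorphism.ext (IsOpenImmersion.lift_fac _ _ _),
      ← Category.assoc, hz, pullback.lift_fst]
  have : Mono (o ≫ c ≫ p) := Over.mono_of_mono_left _
  let E : C ≅ ND := ⟨e, w, by rw [← cancel_mono (o ≫ c ≫ p), Category.assoc, hw, he, Category.id_comp],
    by rw [← cancel_mono iD, Category.assoc, he, hw, Category.id_comp]⟩
  have e1 : topologicalKrullDim ↥C.left = topologicalKrullDim ↥ND.left :=
    IsHomeomorph.topologicalKrullDim_eq _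
      ((((Over.forget (Spec (CommRingCat.of k))).mapIso E).hom).homeomorph.isHomeomorph)
  -- the dimensions agree
  have hh : IsPullback p.left q.left j.left i.left := hsq
  have e2 : topologicalKrullDim ↥P.left = topologicalKrullDim ↥(pullback j.left i.left) :=
    IsHomeomorph.topologicalKrullDim_eq _ (hh.isoPullback.hom.homeomorph.isHomeomorph)
  rw [← e1, ← e2]
  rw [← IsHomeomorph.topologicalKrullDim_eq _ (isHomeomorph_iff_isEmbedding_surjective.2
    ⟨c.left.isClosedEmbedding.isEmbedding, c.left.surjective⟩)]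
  have hC : IsClosed ({η[C].left (IsLocalRing.closedPoint k)} : Set C.left) :=
    (pointEquivClosedPoint C.hom ⟨η[C].left, Over.w _⟩).2
  have hoe : o.left (η[C].left (IsLocalRing.closedPoint k)) = η[Z].left (IsLocalRing.closedPoint k) := by
    rw [← Scheme.Hom.comp_apply, ← Over.comp_left, IsMonHom.one_hom]
  have hZ : IsClosed ({o.left (η[C].left (IsLocalRing.closedPoint k))} : Set Z.left) := by
    rw [hoe]; exact (pointEquivClosedPoint Z.hom ⟨η[Z].left, Over.w _⟩).2
  rw [← Groth.GrpschAbsch.ringKrullDim_stalk_closedPoint C hC, ← Groth.GrpschAbsch.ringKrullDim_stalk_closedPoint Z hZ]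
  exact ringKrullDim_eq_of_ringEquiv (asIso (o.left.stalkMap (η[C].left (IsLocalRing.closedPoint k)))).commRingCatIsoToRingEquiv.symm

end Groth.Agent.S14764
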