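import Groth.Statements.S1478
import Groth.Agent.OmegaSheaf.Universal
import Mathlib.AlgebraicGeometry.Morphisms.FormallyUnramified

set_option autoImplicit false
universe u
open FlatMor

namespace Groth.Agent.S1478

open AlgebraicGeometry CategoryTheory Limits in
/-- For separated morphisms (where the sheaf of differentials is literally the conormal sheaf of the
closed diagonal): a separated morphism f : X → S is formally unramified if and only if Ω_{X/S}, the
conormal sheaf of the diagonal, is the zero O_X-module. -/
theorem result {X S : Scheme.{u}} (f : X ⟶ S) [IsSeparated f] :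
    FormallyUnramified f ↔ IsZero (Omega.sheaf f) := by
  constructor
  · intro hf
    rw [IsZero.iff_id_eq_zero]
    refine Groth.OmegaSheaf.hom_ext_d f fun c s => ?_
    let _ := Groth.OmegaSheaf.chartAlg f c.e
    have : Algebra.FormallyUnramified Γ(S, c.V) Γ(X, c.U) :=
      f.formallyUnramified_appLE c.hV c.hU c.e
    have hsub : Subsingleton Γ(Omega.sheaf f, c.U) :=
      (Groth.OmegaSheaf.chartEquiv f c.e c.hV c.hU).symm.toEquiv.subsingleton
    exact Subsingleton.elim _ _
  · intro h
    refine ⟨fun {V} hV {U} hU e => ?_⟩
    let _ := Groth.OmegaSheaf.chartAlg f e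
    have hsub : Subsingleton Γ(Omega.sheaf f, U) := ⟨fun a b => by
      have h0 : ∀ a : Γ(Omega.sheaf f, U), a = 0 := fun a => by
        have h2 := congr(($((IsZero.iff_id_eq_zero _).mp h)).app U a)
        exact h2
      rw [h0 a, h0 b]⟩
    have : Subsingleton Ω[Γ(X, U)⁄Γ(S, V)] :=
      (Groth.OmegaSheaf.chartEquiv f e hV hU).toEquiv.subsingleton
    exact (⟨this⟩ : Algebra.FormallyUnramified Γ(S, V) Γ(X, U))

end Groth.Agent.S1478
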