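import Groth.Statements.S14780
import Groth.Agent.ValFlatten.Noetherian
import Groth.Agent.HTopHyper.SubtrDescend
import Groth.Agent.UOpenDesc.Descend
import Groth.Agent.Limits.RingPropDescent
-- import your own Groth.Agent.* helpers here

set_option autoImplicit false
set_option backward.isDefEq.respectTransparency false
universe u
open CategoryTheory CategoryTheory.Limits AlgebraicGeometry
open Subtr

namespace Groth.Agent.S14780

/-- The conclusion, as a predicate on the morphism. -/
def HasNilFlat {X Y : Scheme.{u}} (f : X ⟶ Y) : Prop :=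
    ∃ (Y' : Scheme.{u}) (q : Y' ⟶ Y) (X' : Scheme.{u}) (r : X' ⟶ pullback f q),
      IsProper q ∧ Surjective q ∧ LocallyOfFinitePresentation q ∧
      IsClosedImmersion r ∧ Surjective r ∧
      Flat (r ≫ pullback.snd f q) ∧ Surjective (r ≫ pullback.snd f q) ∧
      LocallyOfFinitePresentation (r ≫ pullback.snd f q) ∧ QuasiCompact (r ≫ pullback.snd f q) ∧
      QuasiSeparated (r ≫ pullback.snd f q)

theorem hasNilFlat_of_noetherian {X Y : Scheme.{u}} [IsNoetherian Y] (f : X ⟶ Y) [LocallyOfFiniteType f]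
    [QuasiCompact f] [QuasiSeparated f] [UniversallyOpen f] [Surjective f] : HasNilFlat f := by
  obtain ⟨Y', q, X', r, hq, hqs, hr, hrs, hflat⟩ := Groth.ValFlatten.exists_flat_nilImmersion f
  haveI : IsLocallyNoetherian Y' := LocallyOfFiniteType.isLocallyNoetherian q
  haveI : Surjective (pullback.snd f q) := MorphismProperty.pullback_snd _ _ ‹_›
  exact ⟨Y', q, X', r, hq, hqs, LocallyOfFinitePresentation.iff_locallyOfFiniteType.mpr inferInstance,
    hr, hrs, hflat, inferInstance, LocallyOfFinitePresentation.iff_locallyOfFiniteType.mpr inferInstance,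
    inferInstance, inferInstance⟩

theorem hasNilFlat_of_isPullback {X Y X₀ Y₀ : Scheme.{u}} {f : X ⟶ Y} {f₀ : X₀ ⟶ Y₀} {a : X ⟶ X₀}
    {π : Y ⟶ Y₀} (H : IsPullback a f f₀ π) (h : HasNilFlat f₀) : HasNilFlat f := by
  obtain ⟨Y₀', q₀, X₀', r₀, hq, hqs, hqf, hr, hrs, hfl, hs, hlfp, hqc, hqsep⟩ := h
  let q : pullback q₀ π ⟶ Y := pullback.snd q₀ π
  have hw : (pullback.fst f q ≫ a) ≫ f₀ = (pullback.snd f q ≫ pullback.fst q₀ π) ≫ q₀ := by
    rw [Category.assoc, H.w, Category.assoc, pullback.condition (f := q₀), reassoc_of% (pullback.condition (f := f) (g := q))]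
  let m : pullback f q ⟶ pullback f₀ q₀ := pullback.lift _ _ hw
  have hm : IsPullback m (pullback.snd f q) (pullback.snd f₀ q₀) (pullback.fst q₀ π) := by
    refine IsPullback.of_right ?_ (pullback.lift_snd _ _ _) (IsPullback.of_hasPullback f₀ q₀)
    rw [pullback.lift_fst, show pullback.fst q₀ π ≫ q₀ = q ≫ π from pullback.condition]
    exact (IsPullback.of_hasPullback f q).paste_horiz H
  have hsq := (IsPullback.of_hasPullback r₀ m).paste_vert hm
  exact ⟨_, q, _, pullback.snd r₀ m, MorphismProperty.pullback_snd _ _ hq,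
    MorphismProperty.pullback_snd _ _ hqs, MorphismProperty.pullback_snd _ _ hqf,
    MorphismProperty.pullback_snd _ _ hr, MorphismProperty.pullback_snd _ _ hrs,
    MorphismProperty.of_isPullback hsq hfl, MorphismProperty.of_isPullback hsq hs,
    MorphismProperty.of_isPullback hsq hlfp, MorphismProperty.of_isPullback hsq hqc,
    MorphismProperty.of_isPullback hsq hqsep⟩

theorem univSSubtrusive_of_universallyOpen {X Y : Scheme.{u}} (f : X ⟶ Y) [UniversallyOpen f] [Surjective f] :
    Subtr.UnivSSubtrusive f := by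
  intro X' Y' i₁ i₂ f' sq y y' hy
  haveI : UniversallyOpen f' := MorphismProperty.of_isPullback sq.flip ‹_›
  haveI : Surjective f' := MorphismProperty.of_isPullback sq.flip ‹_›
  obtain ⟨x, rfl⟩ := f'.surjective y
  have hx : x ∈ closure (f' ⁻¹' {y'}) := by
    rw [mem_closure_iff]
    intro O hO hxO
    obtain ⟨x', hx', he⟩ := hy.mem_open (Scheme.Hom.isOpenMap f' O hO) ⟨x, hxO, rfl⟩
    exact ⟨x', hx', he⟩
  obtain ⟨x', hx', he⟩ := Groth.Misc8.Subtr.exists_specializes_of_mem_closure_fibre f' y' hx
  exact ⟨x, x', hx', rfl, he⟩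

open Groth.SpectralTopology in
theorem hasNilFlat_Spec {A : CommRingCat.{u}} {X : Scheme.{u}} (f : X ⟶ Spec A)
    [LocallyOfFinitePresentation f] [QuasiCompact f] [QuasiSeparated f] [UniversallyOpen f] [Surjective f] :
    HasNilFlat f := by
  haveI : HasRingHomProperty @UniversallyOpen.{u} @Groth.UOpenDesc.UOQ.{u} :=
    HasRingHomProperty.of_isZariskiLocalAtSource_of_isZariskiLocalAtTarget @UniversallyOpen
  obtain ⟨s, X₀, f₀, a, hsq, h₁, h₂, h₃, hsub⟩ :=
    Groth.HTopHyper.SubtrRefine.exists_noetherian_model f (univSSubtrusive_of_universallyOpen f)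
  haveI : IsAffine ((fgSchemes A).obj (Opposite.op s)) := inferInstanceAs (IsAffine (Spec _))
  haveI : CompactSpace X₀ := QuasiCompact.compactSpace_of_compactSpace f₀
  obtain ⟨j, hj⟩ := Groth.Limits.exists_stage_of_ringDescends @UniversallyOpen
    (Q := @Groth.UOpenDesc.UOQ.{u}) Groth.UOpenDesc.ringDescends
    (fun {A B} m (hm : IsOpenImmersion m) => haveI := hm; (inferInstance : UniversallyOpen m))
    (fgSchemes A) (fgCone A) (isLimitFgCone A) (Opposite.op s) f₀ (by
      rw [← hsq.isoPullback_inv_snd]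
      exact (MorphismProperty.cancel_left_of_respectsIso @UniversallyOpen _ _).mpr inferInstance)
  let f₁ := pullback.snd f₀ ((fgSchemes A).map j.hom)
  haveI : Surjective f₀ := ⟨Groth.Misc8.Subtr.surjective_of_isSSubtrusive (Groth.Misc8.Subtr.self_of_univ hsub)⟩
  haveI : Surjective f₁ := MorphismProperty.pullback_snd _ _ ‹_›
  haveI : UniversallyOpen f₁ := hj
  haveI : LocallyOfFinitePresentation f₁ := MorphismProperty.pullback_snd _ _ h₁
  have hw : a ≫ f₀ = (f ≫ (fgCone A).π.app j.left) ≫ (fgSchemes A).map j.hom := by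
    rw [hsq.w, Category.assoc, Cone.w]
  refine hasNilFlat_of_isPullback (a := pullback.lift a _ hw) (π := (fgCone A).π.app j.left) ?_
    (hasNilFlat_of_noetherian f₁)
  refine IsPullback.of_right ?_ (pullback.lift_snd _ _ _)
    (IsPullback.of_hasPullback f₀ ((fgSchemes A).map j.hom))
  rw [pullback.lift_fst]
  exact (Cone.w (fgCone A) j.hom).symm ▸ hsq

/-- Let Y be a scheme that is affine or Noetherian and f : X ⟶ Y a universally open surjective morphism
of finite presentation. Then there are a scheme Y', a proper surjective morphism q : Y' ⟶ Y of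
finite presentation, a scheme X' and a surjective closed immersion r : X' ⟶ X ×_Y Y' (a
nil-immersion) such that the composite X' ⟶ X ×_Y Y' ⟶ Y' is flat, surjective and of finite
presentation. -/
theorem result {X Y : Scheme.{u}}
    (f : X ⟶ Y) (hY : IsAffine Y ∨ IsNoetherian Y) [LocallyOfFinitePresentation f] [QuasiCompact f] [QuasiSeparated f]
    [UniversallyOpen f] [Surjective f] :
    ∃ (Y' : Scheme.{u}) (q : Y' ⟶ Y) (X' : Scheme.{u}) (r : X' ⟶ pullback f q),
      IsProper q ∧ Surjective q ∧ LocallyOfFinitePresentation q ∧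
      IsClosedImmersion r ∧ Surjective r ∧
      Flat (r ≫ pullback.snd f q) ∧ Surjective (r ≫ pullback.snd f q) ∧
      LocallyOfFinitePresentation (r ≫ pullback.snd f q) ∧ QuasiCompact (r ≫ pullback.snd f q) ∧
      QuasiSeparated (r ≫ pullback.snd f q) := by
  rcases hY with hY | hY
  · haveI : UniversallyOpen (f ≫ Y.isoSpec.hom) := inferInstance
    exact hasNilFlat_of_isPullback (a := 𝟙 X) (π := Y.isoSpec.hom)
      (IsPullback.of_horiz_isIso ⟨by simp⟩) (hasNilFlat_Spec (f ≫ Y.isoSpec.hom))
  · exact hasNilFlat_of_noetherian f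

end Groth.Agent.S14780
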