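import Groth.Statements.S14786
import Groth.Agent.UOpenDesc.Descend

set_option autoImplicit false
set_option backward.isDefEq.respectTransparency false
universe u
open CategoryTheory CategoryTheory.Limits AlgebraicGeometry
open Subtr

namespace Groth.Agent.S14786

/-- Let S = lim S_i be a cofiltered limit of schemes with affine transition morphisms, Y₀ a
quasi-compact scheme over a stage S_{i₀}, f₀ : X₀ ⟶ Y₀ a morphism of finite presentation and f : X ⟶
Y its base change to S (base changes expressed by pullback squares). If f is universally open, then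
for some stage S_i over S_{i₀} the base change f_i : X_i ⟶ Y_i of f₀ is universally open. (The
published statement assumes the stage over which the system lives quasi-compact and puts no
condition on Y₀. For the system ℤ[1/N] with limit ℚ, Y₀ an infinite disjoint union of copies of Spec
ℤ and X₀ the disjoint union over the primes p of Spec ℤ[1/p] ⊔ Spec 𝔽_p mapping to the copy indexed
by p, the limit morphism is an isomorphism while no stage has the property; so Y₀ is taken
quasi-compact here, which is what the reduction to an affine base uses.) -/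
theorem result {I : Type u} [SmallCategory I] [IsCofiltered I]
    (D : I ⥤ Scheme.{u}) (c : Limits.Cone D) (hc : Limits.IsLimit c)
    [∀ (i j : I) (a : i ⟶ j), IsAffineHom (D.map a)] (i₀ : I)
    {X₀ Y₀ : Scheme.{u}} (f₀ : X₀ ⟶ Y₀) (g₀ : Y₀ ⟶ D.obj i₀) [CompactSpace Y₀]
    [LocallyOfFinitePresentation f₀] [QuasiCompact f₀] [QuasiSeparated f₀]
    {X Y : Scheme.{u}} (f : X ⟶ Y) (g : Y ⟶ c.pt) (qY : Y ⟶ Y₀) (qX : X ⟶ X₀)
    (hY : IsPullback qY g g₀ (c.π.app i₀)) (hX : IsPullback qX f f₀ qY)
    [UniversallyOpen f] :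
    ∃ (i : I) (φ : i ⟶ i₀) (Xi Yi : Scheme.{u}) (fi : Xi ⟶ Yi) (gi : Yi ⟶ D.obj i) (pY : Yi ⟶ Y₀)
      (pX : Xi ⟶ X₀), IsPullback pY gi g₀ (D.map φ) ∧ IsPullback pX fi f₀ pY ∧ UniversallyOpen fi := by
  haveI : HasRingHomProperty @UniversallyOpen.{u} @Groth.UOpenDesc.UOQ.{u} :=
    HasRingHomProperty.of_isZariskiLocalAtSource_of_isZariskiLocalAtTarget @UniversallyOpen
  let D' := Groth.Limits.pullbackDiagram D i₀ g₀
  let c' := Groth.Limits.pullbackCone D i₀ g₀ c
  have hc' := Groth.Limits.isLimitPullbackCone D i₀ g₀ hc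
  let k₀ : Over i₀ := Over.mk (𝟙 i₀)
  let t : D'.obj k₀ ⟶ Y₀ := pullback.snd (D.map k₀.hom) g₀
  haveI : IsIso (D.map k₀.hom) := by
    show IsIso (D.map (𝟙 i₀))
    rw [D.map_id]; infer_instance
  haveI : IsIso t := inferInstanceAs (IsIso (pullback.snd (D.map k₀.hom) g₀))
  haveI : CompactSpace (D'.obj k₀) := QuasiCompact.compactSpace_of_compactSpace t
  haveI : CompactSpace ↥(pullback f₀ t) :=
    QuasiCompact.compactSpace_of_compactSpace (pullback.snd f₀ t)
  have hπ : c'.π.app k₀ ≫ t = pullback.snd (c.π.app i₀) g₀ := pullback.lift_snd _ _ _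
  let l : c'.pt ⟶ Y := hY.lift (pullback.snd (c.π.app i₀) g₀) (pullback.fst _ _)
    pullback.condition.symm
  have hlim : UniversallyOpen (pullback.snd (pullback.snd f₀ t) (c'.π.app k₀)) := by
    have hw : (pullback.fst (pullback.snd f₀ t) (c'.π.app k₀) ≫ pullback.fst f₀ t) ≫ f₀ =
        (pullback.snd (pullback.snd f₀ t) (c'.π.app k₀) ≫ l) ≫ qY := by
      rw [Category.assoc, pullback.condition, pullback.condition_assoc, hπ, Category.assoc,
        hY.lift_fst]
    have hsq : IsPullback (hX.lift _ _ hw) (pullback.snd (pullback.snd f₀ t) (c'.π.app k₀)) f l := by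
      refine IsPullback.of_right ?_ (hX.lift_snd _ _ _) hX
      rw [hX.lift_fst, hY.lift_fst, ← hπ]
      exact (IsPullback.of_hasPullback _ _).paste_horiz (IsPullback.of_hasPullback f₀ t)
    exact MorphismProperty.of_isPullback hsq inferInstance
  obtain ⟨j, hj⟩ := Groth.Limits.exists_stage_of_ringDescends @UniversallyOpen
    (Q := @Groth.UOpenDesc.UOQ.{u}) Groth.UOpenDesc.ringDescends
    (fun {A B} m (hm : IsOpenImmersion m) => haveI := hm; (inferInstance : UniversallyOpen m))
    D' c' hc' k₀ (pullback.snd f₀ t) hlim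
  have hψ : D'.map j.hom ≫ t = pullback.snd (D.map j.left.hom) g₀ := pullback.lift_snd _ _ _
  have sq := (IsPullback.of_hasPullback (pullback.snd f₀ t) (D'.map j.hom)).paste_horiz
    (IsPullback.of_hasPullback f₀ t)
  rw [hψ] at sq
  exact ⟨j.left.left, j.left.hom, _, _, pullback.snd (pullback.snd f₀ t) (D'.map j.hom),
    pullback.fst (D.map j.left.hom) g₀, pullback.snd (D.map j.left.hom) g₀, _,
    (IsPullback.of_hasPullback _ _).flip, sq, hj⟩

end Groth.Agent.S14786
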