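import Groth.Statements.S14789
import Mathlib.Topology.Sober
import Mathlib.AlgebraicGeometry.Properties

set_option autoImplicit false
universe u
open CategoryTheory CategoryTheory.Limits AlgebraicGeometry
open Subtr

namespace Groth.Agent.S14789

/-- Let f : X ⟶ Y be a morphism of schemes with the lifting property for ordered pairs of points, and U
⊆ Y a subset containing every maximal point of Y (every point all of whose generizations are equal
to it). Then the closure of f⁻¹(U) maps onto Y. -/
theorem result {X Y : Scheme.{u}} (f : X ⟶ Y)
    (hf : Subtr.IsSSubtrusive f) (U : Set Y) (hU : ∀ y : Y, (∀ y' : Y, y' ⤳ y → y' = y) → y ∈ U) :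
    f '' closure (f ⁻¹' U) = Set.univ := by
  refine Set.eq_univ_of_forall fun y => ?_
  have hirr := isIrreducible_irreducibleComponent (x := y)
  set g := hirr.genericPoint with hg
  have hgen : IsGenericPoint g (irreducibleComponent y) :=
    hirr.isGenericPoint_genericPoint isClosed_irreducibleComponent
  have hgy : g ⤳ y := hgen.specializes mem_irreducibleComponent
  have hgU : g ∈ U := by
    refine hU g fun y' hy' => ?_
    have hsub : irreducibleComponent y ⊆ closure {y'} := by
      rw [← hgen.def]
      exact hy'.closure_subset
    have heq : closure {y'} = irreducibleComponent y :=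
      (eq_irreducibleComponent isIrreducible_singleton.closure.isPreirreducible hsub)
    exact (IsGenericPoint.eq (S := irreducibleComponent y) (show IsGenericPoint y' _ from heq) hgen)
  obtain ⟨x, x', hxx, hx, hx'⟩ := hf hgy
  refine ⟨x, ?_, hx⟩
  exact hxx.mem_closed isClosed_closure (subset_closure (show f x' ∈ U by rw [hx']; exact hgU))

end Groth.Agent.S14789
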