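import Groth.Statements.S1479
import Groth.Agent.Syntomic.AdaptedChart
import Groth.Agent.Syntomic.AdaptedChartScheme

set_option autoImplicit false
universe u
open FlatMor

namespace Groth.Agent.S1479

open AlgebraicGeometry CategoryTheory Limits in
/-- Let X and Y be smooth over S and i : Y → X a closed immersion over S. For every point y of Y there
are an open U of X containing i y, natural numbers m, n, and an étale S-morphism π from U to affine
(m+n)-space over S such that the closed subscheme Y ∩ U of U is the pullback along π of the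
coordinate subspace given by the vanishing of the last n coordinates. -/
theorem result {S X Y : Scheme.{u}} (pX : X ⟶ S) (pY : Y ⟶ S) [Smooth pX] [Smooth pY]
    (i : Y ⟶ X) [IsClosedImmersion i] (w : i ≫ pX = pY) (y : Y) :
    ∃ (U : X.Opens) (m n : ℕ) (π : (U : Scheme.{u}) ⟶ 𝔸(ULift.{u} (Fin m ⊕ Fin n); S)) (ρ : (↑(i ⁻¹ᵁ U) : Scheme.{u}) ⟶ 𝔸(ULift.{u} (Fin m); S)),
      i y ∈ U ∧ Etale π ∧ π ≫ (𝔸(ULift.{u} (Fin m ⊕ Fin n); S) ↘ S) = U.ι ≫ pX ∧
      IsPullback ρ (i ∣_ U)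
        (AffineSpace.homOfVector (𝔸(ULift.{u} (Fin m); S) ↘ S)
          (fun j : ULift.{u} (Fin m ⊕ Fin n) => Sum.elim (fun a => AffineSpace.coord S (ULift.up a)) (fun _ => 0) j.down))
        π := by
  classical
  obtain ⟨W, hW, hyW, -⟩ := exists_isAffineOpen_mem_and_subset (X := S) (x := pX (i y)) (U := ⊤) trivial
  obtain ⟨V, hV, hyV, hVW⟩ :=
    exists_isAffineOpen_mem_and_subset (X := X) (x := i y) (U := pX ⁻¹ᵁ W) hyW
  have eV : V ≤ pX ⁻¹ᵁ W := hVW
  have hiV : IsAffineOpen (i ⁻¹ᵁ V) := hV.preimage i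
  have eY : i ⁻¹ᵁ V ≤ pY ⁻¹ᵁ W := fun z hz => by
    show pY z ∈ W
    rw [← w, Scheme.Hom.comp_apply]
    exact eV hz
  letI algAB : Algebra Γ(S, W) Γ(X, V) := (pX.appLE W V eV).hom.toAlgebra
  letI algBC : Algebra Γ(X, V) Γ(Y, i ⁻¹ᵁ V) := (i.app V).hom.toAlgebra
  letI algAC : Algebra Γ(S, W) Γ(Y, i ⁻¹ᵁ V) := (pY.appLE W (i ⁻¹ᵁ V) eY).hom.toAlgebra
  haveI : IsScalarTower Γ(S, W) Γ(X, V) Γ(Y, i ⁻¹ᵁ V) := IsScalarTower.of_algebraMap_eq' (by
    show _ = (pX.appLE W V eV ≫ i.app V).hom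
    rw [← Scheme.Hom.appLE_eq_app, Scheme.Hom.appLE_comp_appLE]
    simp only [w]
    rfl)
  haveI : Algebra.Smooth Γ(S, W) Γ(X, V) :=
    RingHom.smooth_algebraMap.1 (HasRingHomProperty.appLE (P := @Smooth) pX inferInstance ⟨W, hW⟩ ⟨V, hV⟩ eV)
  haveI : Algebra.Smooth Γ(S, W) Γ(Y, i ⁻¹ᵁ V) :=
    RingHom.smooth_algebraMap.1 (HasRingHomProperty.appLE (P := @Smooth) pY inferInstance ⟨W, hW⟩ ⟨i ⁻¹ᵁ V, hiV⟩ eY)
  let ψ : Γ(X, V) →ₐ[Γ(S, W)] Γ(Y, i ⁻¹ᵁ V) := IsScalarTower.toAlgHom _ _ _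
  have hψ : Function.Surjective ψ := Scheme.Hom.app_surjective i V hV
  let J : Ideal Γ(X, V) := RingHom.ker (i.app V).hom
  have hJfg : J.FG := Algebra.FinitePresentation.ker_fG_of_surjective ψ hψ
  haveI : Algebra.Smooth Γ(S, W) (Γ(X, V) ⧸ J) :=
    Algebra.Smooth.of_equiv (Ideal.quotientKerAlgEquivOfSurjective hψ).symm
  have hJq : J ≤ (hV.primeIdealOf ⟨i y, hyV⟩).asIdeal := by
    intro b hb
    by_contra hbq
    have h1 : hV.primeIdealOf ⟨i y, hyV⟩ ∈ hV.fromSpec ⁻¹ᵁ X.basicOpen b := by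
      rw [hV.fromSpec_preimage_basicOpen]; exact hbq
    have h2 : y ∈ i ⁻¹ᵁ X.basicOpen b := by
      have : hV.fromSpec (hV.primeIdealOf ⟨i y, hyV⟩) ∈ X.basicOpen b := h1
      rwa [hV.fromSpec_primeIdealOf] at this
    rw [Scheme.preimage_basicOpen, show i.app V b = 0 from hb, Scheme.basicOpen_zero] at h2
    exact h2
  obtain ⟨f, hf, m, n, hT⟩ := Groth.Syntomic.exists_adapted_away (A := Γ(S, W)) J hJfg _ hJq
  let U : X.Opens := X.basicOpen f
  have hUV : U ≤ V := X.basicOpen_le f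
  have hyU : i y ∈ U := by
    have h1 : hV.primeIdealOf ⟨i y, hyV⟩ ∈ hV.fromSpec ⁻¹ᵁ X.basicOpen f := by
      rw [hV.fromSpec_preimage_basicOpen]; exact hf
    have h2 : hV.fromSpec (hV.primeIdealOf ⟨i y, hyV⟩) ∈ X.basicOpen f := h1
    rwa [hV.fromSpec_primeIdealOf] at h2
  have hU₁ : U.ι ''ᵁ ⊤ = U := U.ι_image_top
  have e₁ : U.ι ''ᵁ ⊤ ≤ V := hU₁.le.trans hUV
  let T := Γ(X, U.ι ''ᵁ ⊤)
  letI algBT : Algebra Γ(X, V) T := (X.presheaf.map (homOfLE e₁).op).hom.toAlgebra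
  letI algAT : Algebra Γ(S, W) T := (pX.appLE W (U.ι ''ᵁ ⊤) (e₁.trans eV)).hom.toAlgebra
  haveI : IsScalarTower Γ(S, W) Γ(X, V) T := IsScalarTower.of_algebraMap_eq' (by
    show _ = (pX.appLE W V eV ≫ X.presheaf.map (homOfLE e₁).op).hom
    rw [Scheme.Hom.appLE_map]; rfl)
  haveI : IsLocalization.Away f T := hV.isLocalization_of_eq_basicOpen f (homOfLE e₁) hU₁
  obtain ⟨w₀, het, hJw⟩ := hT T
  let v : ULift.{u} (Fin m ⊕ Fin n) → Γ((U : Scheme.{u}), ⊤) := fun j => w₀ j.down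
  let π : (U : Scheme.{u}) ⟶ 𝔸(ULift.{u} (Fin m ⊕ Fin n); S) := AffineSpace.homOfVector (U.ι ≫ pX) v
  let vY : ULift.{u} (Fin m) → Γ((i ⁻¹ᵁ U : Scheme.{u}), ⊤) := fun j =>
    (i ∣_ U).appTop (v (ULift.up (Sum.inl j.down)))
  let ρ : (↑(i ⁻¹ᵁ U) : Scheme.{u}) ⟶ 𝔸(ULift.{u} (Fin m); S) :=
    AffineSpace.homOfVector ((i ⁻¹ᵁ U).ι ≫ pY) vY
  refine ⟨U, m, n, π, ρ, hyU, ?_, AffineSpace.homOfVector_over _ _, ?_⟩
  · have eU : U ≤ pX ⁻¹ᵁ W := hUV.trans eV
    let p₀ : (U : Scheme.{u}) ⟶ W := pX.resLE W U eU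
    haveI : IsAffine (U : Scheme.{u}) := hV.basicOpen f
    haveI : IsAffine (W : Scheme.{u}) := hW
    have hπ : π = AffineSpace.homOfVector p₀ v ≫ AffineSpace.map _ W.ι := by
      apply AffineSpace.hom_ext
      · rw [Category.assoc, AffineSpace.map_over, AffineSpace.homOfVector_over_assoc,
          AffineSpace.homOfVector_over, Scheme.Hom.resLE_comp_ι]
      · intro j
        rw [Scheme.Hom.comp_appTop, CommRingCat.comp_apply, AffineSpace.map_appTop_coord,
          AffineSpace.homOfVector_appTop_coord, AffineSpace.homOfVector_appTop_coord]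
    have h : p₀.appTop = W.topIso.hom ≫ pX.appLE W (U.ι ''ᵁ ⊤) (e₁.trans eV) := by
      show (pX.resLE W U eU).app ⊤ = _
      rw [Scheme.Hom.resLE_app_top]
      congr 1
      exact Scheme.Hom.appLE_map _ _ _
    haveI h1 : Etale (AffineSpace.homOfVector p₀ v) :=
      Groth.Syntomic.etale_homOfVector p₀ v
        (Groth.Syntomic.etale_eval₂Hom_of_aeval (A := Γ(S, W)) (T := T) W.topIso.commRingCatIsoToRingEquiv
          w₀ het p₀.appTop.hom fun a => by rw [h]; rfl)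
    haveI h2 : IsOpenImmersion (AffineSpace.map (ULift.{u} (Fin m ⊕ Fin n)) W.ι) :=
      MorphismProperty.of_isPullback (AffineSpace.isPullback_map W.ι).flip inferInstance
    rw [hπ]
    exact MorphismProperty.comp_mem @Etale _ _ h1 inferInstance
  · have hker : RingHom.ker (i.app (U.ι ''ᵁ ⊤)).hom = Ideal.span (Set.range fun k => w₀ (Sum.inr k)) := by
      rw [← hJw]
      have := i.ker.map_ideal (U := ⟨U.ι ''ᵁ ⊤, hU₁.symm ▸ hV.basicOpen f⟩) (V := ⟨V, hV⟩) e₁
      rw [Scheme.Hom.ker_apply, Scheme.Hom.ker_apply] at this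
      exact this.symm
    have hker' : ∀ x, (i ∣_ U).appTop x = 0 ↔ x ∈ Ideal.span (Set.range fun k => w₀ (Sum.inr k)) := by
      intro x
      rw [← hker]
      show _ ↔ i.app (U.ι ''ᵁ ⊤) x = 0
      rw [morphismRestrict_appTop]
      erw [CommRingCat.comp_apply]
      have hiso : IsIso (Y.presheaf.map (eqToHom (image_morphismRestrict_preimage i U ⊤)).op) :=
        Functor.map_isIso _ _
      exact map_eq_zero_iff _ ((ConcreteCategory.isIso_iff_bijective _).1 hiso).1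
    let z : 𝔸(ULift.{u} (Fin m); S) ⟶ 𝔸(ULift.{u} (Fin m ⊕ Fin n); S) :=
      AffineSpace.homOfVector (𝔸(ULift.{u} (Fin m); S) ↘ S)
        (fun j => Sum.elim (fun a => AffineSpace.coord S (ULift.up a)) (fun _ => 0) j.down)
    have hzl : ∀ k, z.appTop (AffineSpace.coord S ⟨Sum.inl k⟩) = AffineSpace.coord S ⟨k⟩ := fun k =>
      AffineSpace.homOfVector_appTop_coord _ _ _
    have hzr : ∀ k, z.appTop (AffineSpace.coord S ⟨Sum.inr k⟩) = 0 := fun k =>
      AffineSpace.homOfVector_appTop_coord _ _ _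
    have hπc : ∀ j, π.appTop (AffineSpace.coord S j) = v j := fun j =>
      AffineSpace.homOfVector_appTop_coord _ _ _
    have hρc : ∀ j, ρ.appTop (AffineSpace.coord S j) = vY j := fun j =>
      AffineSpace.homOfVector_appTop_coord _ _ _
    have sq : ρ ≫ z = (i ∣_ U) ≫ π := by
      apply AffineSpace.hom_ext
      · rw [Category.assoc, Category.assoc, AffineSpace.homOfVector_over, AffineSpace.homOfVector_over,
          show π ≫ _ = U.ι ≫ pX from AffineSpace.homOfVector_over _ _, morphismRestrict_ι_assoc, w]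
      · intro j
        rw [Scheme.Hom.comp_appTop, Scheme.Hom.comp_appTop, CommRingCat.comp_apply, CommRingCat.comp_apply, hπc]
        obtain ⟨k | k⟩ := j
        · rw [hzl, hρc]
        · rw [hzr, map_zero]
          exact ((hker' _).2 (Ideal.subset_span ⟨k, rfl⟩)).symm
    have hlift : ∀ (T' : Scheme.{u}) (a : T' ⟶ 𝔸(ULift.{u} (Fin m); S)) (b : T' ⟶ U), a ≫ z = b ≫ π →
        ∃ l : T' ⟶ (i ⁻¹ᵁ U : Scheme.{u}), l ≫ ρ = a ∧ l ≫ (i ∣_ U) = b := by
      intro T' a b hab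
      haveI : IsAffine (U : Scheme.{u}) := hV.basicOpen f
      have hc : ∀ j, a.appTop (z.appTop (AffineSpace.coord S j)) = b.appTop (v j) := fun j => by
        rw [← hπc j, ← CommRingCat.comp_apply, ← CommRingCat.comp_apply, ← Scheme.Hom.comp_appTop,
          ← Scheme.Hom.comp_appTop, hab]
      have hb0 : ∀ x : Γ((U : Scheme.{u}), ⊤), (i ∣_ U).appTop x = 0 → b.appTop x = 0 := by
        intro x hx
        let β : T →+* Γ(T', ⊤) := b.appTop.hom
        have hle : Ideal.span (Set.range fun k => w₀ (Sum.inr k)) ≤ RingHom.ker β := Ideal.span_le.2 (by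
          rintro _ ⟨k, rfl⟩
          show b.appTop (v ⟨Sum.inr k⟩) = 0
          rw [← hc, hzr]
          exact map_zero _)
        exact hle ((hker' x).1 hx)
      have H : (i ∣_ U).ker ≤ b.ker := Scheme.IdealSheafData.le_ofIdeals_iff.mpr fun U' => by
        rw [← (i ∣_ U).ker.map_ideal (U := U') (V := ⟨⊤, isAffineOpen_top _⟩) (show U'.1 ≤ ⊤ from le_top), Ideal.map_le_iff_le_comap]
        intro x hx
        rw [Scheme.Hom.ker_apply, RingHom.mem_ker] at hx
        have h0 := hb0 x hx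
        rw [Ideal.mem_comap, RingHom.mem_ker]
        show ((U : Scheme.{u}).presheaf.map (homOfLE le_top).op ≫ b.app U'.1).hom x = 0
        rw [Scheme.Hom.naturality, CommRingCat.hom_comp, RingHom.comp_apply]
        exact (congrArg _ h0).trans (map_zero _)
      refine ⟨IsClosedImmersion.lift (i ∣_ U) b H, ?_, IsClosedImmersion.lift_fac _ _ _⟩
      set l := IsClosedImmersion.lift (i ∣_ U) b H
      have hl : l ≫ (i ∣_ U) = b := IsClosedImmersion.lift_fac _ _ _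
      apply AffineSpace.hom_ext
      · have h1 : ρ ≫ 𝔸(ULift.{u} (Fin m); S) ↘ S = (i ⁻¹ᵁ U).ι ≫ pY := AffineSpace.homOfVector_over _ _
        have h2 : π ≫ 𝔸(ULift.{u} (Fin m ⊕ Fin n); S) ↘ S = U.ι ≫ pX := AffineSpace.homOfVector_over _ _
        have h3 : z ≫ 𝔸(ULift.{u} (Fin m ⊕ Fin n); S) ↘ S = 𝔸(ULift.{u} (Fin m); S) ↘ S :=
          AffineSpace.homOfVector_over _ _
        rw [Category.assoc, h1, ← w, ← morphismRestrict_ι_assoc, ← h2, reassoc_of% hl, ← reassoc_of% hab, h3]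
      · intro j
        rw [Scheme.Hom.comp_appTop, CommRingCat.comp_apply, hρc, ← hzl j.down, hc]
        show l.appTop ((i ∣_ U).appTop _) = _
        rw [← CommRingCat.comp_apply, ← Scheme.Hom.comp_appTop, hl]
    refine IsPullback.of_isLimit' ⟨sq⟩ (PullbackCone.IsLimit.mk sq
      (fun c => (hlift c.pt c.fst c.snd c.condition).choose)
      (fun c => (hlift c.pt c.fst c.snd c.condition).choose_spec.1)
      (fun c => (hlift c.pt c.fst c.snd c.condition).choose_spec.2) fun c l hl₁ hl₂ => ?_)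
    exact (cancel_mono (i ∣_ U)).1 (hl₂.trans (hlift c.pt c.fst c.snd c.condition).choose_spec.2.symm)

end Groth.Agent.S1479
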