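import Groth.Statements.S14790
import Groth.Agent.FlatMor2.FibCrit.SchemeCrit
import Groth.Agent.DescentBase.ClosureRange
import Mathlib.AlgebraicGeometry.Morphisms.Flat
import Mathlib.RingTheory.Flat.Basic

set_option autoImplicit false
set_option backward.isDefEq.respectTransparency false
universe u
open CategoryTheory CategoryTheory.Limits AlgebraicGeometry
open Subtr

namespace Groth.Agent.S14790

/-- Every point has a maximal generization. -/
theorem exists_maximal_generization {Y : Scheme.{u}} (v : Y) :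
    ∃ y : Y, y ⤳ v ∧ ∀ y' : Y, y' ⤳ y → y' = y := by
  obtain ⟨q, hq, hqm⟩ := Ideal.exists_minimalPrimes_le
    (show (⊥ : Ideal (Y.presheaf.stalk v)) ≤ IsLocalRing.maximalIdeal _ from bot_le)
  let Q : Spec (Y.presheaf.stalk v) := ⟨q, hq.1.1⟩
  have hQv : Y.fromSpecStalk v Q ⤳ v := by
    have h : Y.fromSpecStalk v Q ∈ Set.range (Y.fromSpecStalk v) := Set.mem_range_self Q
    rwa [Scheme.range_fromSpecStalk] at h
  refine ⟨_, hQv, fun y' hy' => ?_⟩
  obtain ⟨P, rfl⟩ : y' ∈ Set.range (Y.fromSpecStalk v) := by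
    rw [Scheme.range_fromSpecStalk]; exact hy'.trans hQv
  have hPQ : P ⤳ Q := (Y.fromSpecStalk v).isEmbedding.isInducing.specializes_iff.mp hy'
  have hle : P.asIdeal ≤ q := (PrimeSpectrum.le_iff_specializes P Q).mpr hPQ
  exact congrArg _ (PrimeSpectrum.ext (le_antisymm hle (hq.2 ⟨P.2, bot_le⟩ hle)))

/-- The stalk of a reduced scheme at a maximal point is a field. -/
theorem isField_stalk {Y : Scheme.{u}} [IsReduced Y] {y : Y} (hy : ∀ y' : Y, y' ⤳ y → y' = y) :
    IsField (Y.presheaf.stalk y) := by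
  refine (IsLocalRing.isField_iff_maximalIdeal_eq).mpr (le_bot_iff.mp fun a ha => ?_)
  have hnil : a ∈ nilradical (Y.presheaf.stalk y) := by
    rw [nilradical_eq_sInf, Submodule.mem_sInf]
    intro P hP
    have h1 : Y.fromSpecStalk y ⟨P, hP⟩ ⤳ y := by
      have h : Y.fromSpecStalk y ⟨P, hP⟩ ∈ Set.range (Y.fromSpecStalk y) := Set.mem_range_self _
      rwa [Scheme.range_fromSpecStalk] at h
    have h2 := (hy _ h1).trans (Y.fromSpecStalk_closedPoint (x := y)).symm
    have h3 := congrArg PrimeSpectrum.asIdeal ((Y.fromSpecStalk y).isEmbedding.injective h2)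
    exact (SetLike.ext_iff.mp h3 a).mpr ha
  exact Ideal.mem_bot.mpr (mem_nilradical.mp hnil).eq_zero

/-- Take a scheme Y that is reduced, quasi-compact and quasi-separated, whose set of maximal points
(points with no proper generization) is quasi-compact, and f : X ⟶ Y a morphism of finite
presentation. Then there is a dense quasi-compact open subset U ⊆ Y over which f is flat. -/
theorem result {X Y : Scheme.{u}} [IsReduced Y]
    [CompactSpace Y] [QuasiSeparatedSpace Y]
    (hgen : IsCompact {y : Y | ∀ y' : Y, y' ⤳ y → y' = y})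
    (f : X ⟶ Y) [LocallyOfFinitePresentation f] [QuasiCompact f] [QuasiSeparated f] :
    ∃ U : Y.Opens, Dense (U : Set Y) ∧ IsCompact (U : Set Y) ∧ Flat (f ∣_ U) := by
  classical
  haveI : LocallyOfFinitePresentation (f ≫ 𝟙 Y) := by rwa [Category.comp_id]
  let F : Set X := {x | (f.stalkMap x).hom.Flat}
  have hF : IsOpen F := by
    convert Groth.FlatMor2.FibCrit.isOpen_structureSheaf f (𝟙 Y) using 1
    exact Set.ext fun x => ⟨fun h => ⟨Flat.stalkMap (𝟙 Y) _, h⟩, And.right⟩
  have hmax : ∀ x : X, (∀ y' : Y, y' ⤳ f x → y' = f x) → x ∈ F := fun x hx => by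
    letI := (isField_stalk hx).toField
    show (f.stalkMap x).hom.Flat
    letI := (f.stalkMap x).hom.toAlgebra
    exact (Module.Flat.of_free : Module.Flat (Y.presheaf.stalk (f x)) (X.presheaf.stalk x))
  let i := (Scheme.IdealSheafData.vanishingIdeal (X := X) ⟨Fᶜ, hF.isClosed_compl⟩).subschemeι
  have hi : Set.range i = Fᶜ := by
    rw [Scheme.IdealSheafData.range_subschemeι, Scheme.IdealSheafData.coe_support_vanishingIdeal]
    rfl
  let O : Y.Opens := ⟨(closure (Set.range (i ≫ f)))ᶜ, isClosed_closure.isOpen_compl⟩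
  have hO : ∀ y : Y, (∀ y' : Y, y' ⤳ y → y' = y) → y ∈ O := fun y hy hcl => by
    obtain ⟨p, hp⟩ := Groth.DescentBase.exists_specializes_of_mem_closure_range (i ≫ f) hcl
    have hpy : f (i p) = y := hy _ hp
    have hpF : i p ∈ Fᶜ := hi.subset (Set.mem_range_self p)
    exact hpF (hmax (i p) fun y' hy' => by rw [hpy] at hy' ⊢; exact hy y' hy')
  choose W hW hyW hWO using fun y : {y : Y // ∀ y' : Y, y' ⤳ y → y' = y} =>
    exists_isAffineOpen_mem_and_subset (x := y.1) (U := O) (hO y.1 y.2)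
  obtain ⟨s, hs⟩ := hgen.elim_finite_subcover (fun y => (W y : Set Y)) (fun y => (W y).isOpen)
    (fun y hy => Set.mem_iUnion.mpr ⟨⟨y, hy⟩, hyW ⟨y, hy⟩⟩)
  let U : Y.Opens := ⨆ y : s, W y.1
  have hU : (U : Set Y) = ⋃ y : s, (W y.1 : Set Y) := TopologicalSpace.Opens.coe_iSup _
  refine ⟨U, ?_, ?_, ?_⟩
  · rw [dense_iff_inter_open]
    rintro V hV ⟨v, hv⟩
    obtain ⟨y, hyv, hy⟩ := exists_maximal_generization v
    obtain ⟨z, hz, hyz⟩ := Set.mem_iUnion₂.mp (hs hy)
    exact ⟨y, hyv.mem_open hV hv, by rw [hU]; exact Set.mem_iUnion.mpr ⟨⟨z, hz⟩, hyz⟩⟩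
  · rw [hU]
    exact isCompact_iUnion fun y => (hW y.1).isCompact
  · refine Flat.of_stalkMap _ fun x => ?_
    have hx : f x.1 ∈ O := by
      have h : f x.1 ∈ (U : Set Y) := x.2
      rw [hU] at h
      obtain ⟨y, hy⟩ := Set.mem_iUnion.mp h
      exact hWO y.1 hy
    have hxF : (f.stalkMap x.1).hom.Flat := by
      by_contra h
      obtain ⟨p, hp⟩ : x.1 ∈ Set.range i := hi.symm.subset h
      exact hx (subset_closure ⟨p, by rw [Scheme.Hom.comp_apply, hp]⟩)
    exact ((RingHom.Flat.respectsIso.arrow_mk_iso_iff (morphismRestrictStalkMap f U x))).mpr hxF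

end Groth.Agent.S14790
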