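import Groth.Statements.S14791
import Groth.Agent.Misc8.SubtrLimit
import Mathlib.CategoryTheory.Filtered.Final

set_option autoImplicit false
set_option linter.style.haveILetI false
universe u
open CategoryTheory CategoryTheory.Limits AlgebraicGeometry
open Subtr

namespace Groth.Agent.S14791

/-- Let S = lim S_i be a cofiltered limit of schemes with affine transition morphisms, Y₀ a scheme over
a stage S_{i₀}, f₀ : X₀ ⟶ Y₀ a quasi-compact morphism, and write f_i, f for the base changes of f₀
to the stages S_i and to S (realised as second projections of fibre products). If there is a stage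
S_{i₁} such that f_i has the lifting property for ordered pairs of points for every stage S_i over
S_{i₁}, then f has it. (The published statement is about subtrusive morphisms and assumes f a
quotient map for the constructible topologies; this row keeps only the lifting property and assumes
f₀ quasi-compact, which makes the fibres quasi-compact as the filtered-intersection step of the
argument requires.) -/
theorem result {I : Type u} [SmallCategory I] [IsCofiltered I]
    (D : I ⥤ Scheme.{u}) (c : Limits.Cone D) (hc : Limits.IsLimit c)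
    [∀ (i j : I) (a : i ⟶ j), IsAffineHom (D.map a)] (i₀ : I)
    {X₀ Y₀ : Scheme.{u}} (f₀ : X₀ ⟶ Y₀) (g₀ : Y₀ ⟶ D.obj i₀) [QuasiCompact f₀]
    (h : ∃ (i₁ : I) (ψ : i₁ ⟶ i₀), ∀ (i : I) (φ : i ⟶ i₁),
      Subtr.IsSSubtrusive (pullback.snd f₀ (pullback.fst g₀ (D.map (φ ≫ ψ))))) :
    Subtr.IsSSubtrusive (pullback.snd f₀ (pullback.fst g₀ (c.π.app i₀))) := by
  obtain ⟨i₁, ψ, h⟩ := h
  let F := CategoryTheory.Over.forget i₁
  haveI : IsCofiltered (CategoryTheory.Over i₁) := inferInstance
  haveI : F.Initial := inferInstance
  let hcF : Limits.IsLimit (c.whisker F) := (Functor.Initial.isLimitWhiskerEquiv F c).symm hc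
  let t : F ⋙ D ⟶ (Functor.const _).obj (D.obj i₀) :=
    { app := fun a => D.map (a.hom ≫ ψ)
      naturality := fun a b m => by
        dsimp [F]
        rw [Category.comp_id, ← D.map_comp, ← Category.assoc, CategoryTheory.Over.w m] }
  haveI : ∀ (a b : CategoryTheory.Over i₁) (m : a ⟶ b), IsAffineHom ((F ⋙ D).map m) :=
    fun a b m => inferInstanceAs (IsAffineHom (D.map m.left))
  have hτ : ∀ a, (c.whisker F).π.app a ≫ t.app a = c.π.app i₀ := fun a => c.w (a.hom ≫ ψ)
  let tY : Groth.Limits.bcDiagram t g₀ ⟶ (Functor.const _).obj Y₀ :=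
    { app := fun a => pullback.fst g₀ (t.app a)
      naturality := fun a b m => by
        simp [Groth.Limits.bcDiagram]
        exact pullback.lift_fst _ _ _ }
  exact Groth.Misc8.Subtr.isSSubtrusive_limit tY f₀ (Groth.Limits.bcCone t g₀ (c.whisker F) _ hτ)
    (pullback.fst g₀ (c.π.app i₀)) (fun a => pullback.lift_fst _ _ _)
    (Groth.Limits.isLimitBcCone t g₀ (c.whisker F) _ hτ hcF)
    (fun a => h a.left a.hom)

end Groth.Agent.S14791
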