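import Groth.Statements.S14793
import Groth.Agent.S14790
import Groth.Agent.ValFlatten.Affine
import Groth.Agent.RaynaudGruson.Flattening.Subscheme
import Groth.Agent.HTopHyper.BlowUpProper
import Groth.Agent.Divisors.BlowUpBasic
-- import your own Groth.Agent.* helpers here

set_option autoImplicit false
universe u
open Subtr

namespace Groth.Agent.S14793

open AlgebraicGeometry CategoryTheory in
/-- The flattening core in the form used by the scheme level statement. -/
theorem principalFlattening : Groth.RaynaudGruson.Flattening.PrincipalFlattening.{u} := by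
  intro R _ a ha A _ _ _ M _ _ _ _ _ _ _
  exact Groth.ValFlatten.flattenable_of_flat_away ha M (A := A)

open AlgebraicGeometry CategoryTheory in
/-- Off an effective Cartier divisor every point has a generization. -/
theorem exists_generization_notMem {Z : Scheme.{u}} {E : Z.IdealSheafData} (hE : BlowUp.IsEffCartierIdeal E)
    (z : Z) : ∃ η : Z, η ⤳ z ∧ η ∉ E.support := by
  obtain ⟨W, hzW, τ, hτ, hI⟩ := hE z
  obtain ⟨q, hq, hqz⟩ := Ideal.exists_minimalPrimes_le
    (I := (⊥ : Ideal Γ(Z, W.1))) (J := (W.2.primeIdealOf ⟨z, hzW⟩).asIdeal) bot_le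
  let Q : PrimeSpectrum Γ(Z, W.1) := ⟨q, hq.1.1⟩
  have hspec : W.2.fromSpec Q ⤳ z := by
    have h := ((PrimeSpectrum.le_iff_specializes Q _).mp hqz).map W.2.fromSpec.continuous
    rwa [W.2.fromSpec_primeIdealOf ⟨z, hzW⟩] at h
  have hQ : W.2.fromSpec Q ∈ Z.basicOpen τ := by
    have h : Q ∈ W.2.fromSpec ⁻¹ᵁ Z.basicOpen τ := by
      rw [W.2.fromSpec_preimage_basicOpen]
      exact fun hmem => notMem_nonZeroDivisors_of_mem_mem_minimalPrimes (R := Γ(Z, W.1)) hmem hq hτ
    exact h
  exact ⟨_, hspec, Groth.RaynaudGruson.ContentBlowUp.notMem_support (W := W)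
    (hI.ge (Ideal.mem_span_singleton_self τ)) hQ⟩

open AlgebraicGeometry CategoryTheory Limits in
/-- Let Y be a reduced, quasi-compact and quasi-separated scheme whose set of maximal points is
quasi-compact (for instance Y Noetherian), and f : X ⟶ Y a morphism of finite presentation every
base change of which has the lifting property for ordered pairs of points. Then there are a dense
quasi-compact open U ⊆ Y, an ideal sheaf 𝓘 admissible for U (of finite type, cosupported off U) and
a blow-up b : Y' ⟶ Y of Y in 𝓘, with b surjective, such that the strict transform X'' of X (the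
closed subscheme of X' = X ×_Y Y' whose ideal consists, on each affine open, of the functions
annihilated by a power of the pulled-back exceptional ideal) is flat, surjective and of finite
presentation over Y'. -/
theorem result {X Y : Scheme.{u}} [IsReduced Y] [CompactSpace Y]
    [QuasiSeparatedSpace Y] (hgen : IsCompact {y : Y | ∀ y' : Y, y' ⤳ y → y' = y})
    (f : X ⟶ Y) [LocallyOfFinitePresentation f] [QuasiCompact f] [QuasiSeparated f]
    (hf : Subtr.UnivSSubtrusive f) :
    ∃ (U : Y.Opens) (𝓘 : Y.IdealSheafData) (Y' : Scheme.{u}) (b : Y' ⟶ Y),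
      Dense (U : Set Y) ∧ IsCompact (U : Set Y) ∧ BlowUp.IsBlowUp b 𝓘 ∧ BlowUp.IsAdmissibleFor U 𝓘 ∧
      Surjective b ∧
      ∀ (X' : Scheme.{u}) (p₁ : X' ⟶ X) (p₂ : X' ⟶ Y'), IsPullback p₁ p₂ f b →
      ∀ (𝒥 : X'.IdealSheafData),
        (∀ (V : X'.affineOpens) (a : Γ(X', V.1)), a ∈ 𝒥.ideal V ↔
          BlowUp.KilledByPowerNear ((𝓘.comap f).comap p₁) (Coh.structureModule X') V a) →
        Flat (𝒥.subschemeι ≫ p₂) ∧ Surjective (𝒥.subschemeι ≫ p₂) ∧
          LocallyOfFinitePresentation (𝒥.subschemeι ≫ p₂) ∧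
          QuasiCompact (𝒥.subschemeι ≫ p₂) ∧ QuasiSeparated (𝒥.subschemeι ≫ p₂) := by
  obtain ⟨U, hUd, hUc, hUfl⟩ := Groth.Agent.S14790.result hgen f
  haveI := hUfl
  obtain ⟨𝓘, Y', b, hb, hadm, hsupp, hmain⟩ :=
    Groth.RaynaudGruson.Flattening.exists_blowUp_subscheme f principalFlattening U hUc
  haveI : IsProper b := Groth.HTopHyper.isProper_of_isBlowUp hb hadm.1
  have hbs : Surjective b := by
    refine ⟨Set.range_eq_univ.mp (top_le_iff.mp ?_)⟩
    show Set.univ ⊆ Set.range b
    rw [← hUd.closure_eq]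
    refine closure_minimal (fun y hy => ?_) b.isClosedMap.isClosed_range
    haveI := Groth.Divisors.isIso_morphismRestrict_compl hb
    have hy' : y ∈ Groth.Divisors.complOpens 𝓘 := fun h => Set.disjoint_left.mp hadm.2 h hy
    obtain ⟨z, hz⟩ := (b ∣_ Groth.Divisors.complOpens 𝓘).surjective ⟨y, hy'⟩
    exact ⟨z.1, (morphismRestrict_base_coe b _ z).symm.trans (congrArg Subtype.val hz)⟩
  refine ⟨U, 𝓘, Y', b, hUd, hUc, hb, hadm, hbs, fun X' p₁ p₂ H 𝒥 h𝒥 => ?_⟩
  obtain ⟨hflat, hlfp⟩ := hmain X' p₁ p₂ H 𝒥 h𝒥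
  haveI : QuasiCompact p₂ := MorphismProperty.of_isPullback H inferInstance
  haveI : QuasiSeparated p₂ := MorphismProperty.of_isPullback H inferInstance
  refine ⟨hflat, ⟨fun y => ?_⟩, hlfp, inferInstance, inferInstance⟩
  obtain ⟨η, hηy, hη⟩ := exists_generization_notMem hb.1 y
  obtain ⟨x, x', hxx, hx, hx'⟩ := hf p₁ b p₂ H.flip hηy
  have hgood : x' ∈ 𝒥.support := by
    have hxE : x' ∉ ((𝓘.comap f).comap p₁).support := by
      rw [← Scheme.IdealSheafData.comap_comp, H.w, Scheme.IdealSheafData.comap_comp,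
        Scheme.IdealSheafData.support_comap]
      show p₂ x' ∉ (𝓘.comap b).support
      rwa [hx']
    let O : X'.Opens := ⟨(((𝓘.comap f).comap p₁).support : Set X')ᶜ,
      ((𝓘.comap f).comap p₁).support.isClosed.isOpen_compl⟩
    obtain ⟨W, hW, hxW, hWO⟩ := exists_isAffineOpen_mem_and_subset (U := O) (x := x') hxE
    have htop : ((𝓘.comap f).comap p₁).ideal ⟨W, hW⟩ = ⊤ :=
      Groth.RefRank.StrictSheaf.ideal_eq_top_of_notMem_support _ ⟨W, hW⟩ fun z hz => hWO hz
    have hJ : 𝒥.ideal ⟨W, hW⟩ = ⊥ := by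
      refine eq_bot_iff.mpr fun a ha => ?_
      obtain ⟨n, hn⟩ := (Groth.RefRank.StrictSheaf.killedByPowerNear_iff (M := Coh.structureModule X')
        (t := (1 : Γ(X', W))) (V := ⟨W, hW⟩) (htop.trans Ideal.span_singleton_one.symm) a).mp ((h𝒥 ⟨W, hW⟩ a).mp ha)
      rw [one_pow] at hn
      exact Ideal.mem_bot.mpr ((one_smul Γ(X', W) a).symm.trans hn)
    rw [Scheme.IdealSheafData.mem_support_iff_of_mem (U := ⟨W, hW⟩) hxW, hJ, Scheme.mem_zeroLocus_iff]
    intro a ha hmem
    rw [SetLike.mem_coe, Ideal.mem_bot] at ha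
    subst ha
    rw [Scheme.basicOpen_zero] at hmem
    exact hmem
  have hxmem : x ∈ (𝒥.support : Set X') := hxx.mem_closed 𝒥.support.isClosed hgood
  rw [← Scheme.IdealSheafData.range_subschemeι] at hxmem
  obtain ⟨z, hz⟩ := hxmem
  exact ⟨z, by rw [Scheme.Hom.comp_apply, hz, hx]⟩

end Groth.Agent.S14793
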