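import Groth.Statements.S14795
import Groth.Agent.HTopHyper.RingCore
-- import your own Groth.Agent.* helpers here

set_option autoImplicit false
universe u
open CategoryTheory CategoryTheory.Limits AlgebraicGeometry
open Subtr

namespace Groth.Agent.S14795

/-- Let A ⊆ B be an integral ring extension and C ⊆ B the weak subintegral closure of A in B, that is
the largest A-subalgebra C of B such that Spec C ⟶ Spec A is a universal homeomorphism (C is
characterised here by that maximality). Then b ∈ B lies in C if and only if b ⊗ 1 − 1 ⊗ b is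
nilpotent in B ⊗_A B (b ⊗ 1 = 1 ⊗ b in the reduction of B ⊗_A B). -/
theorem result {A B : Type u} [CommRing A] [CommRing B]
    [Algebra A B] (hinj : Function.Injective (algebraMap A B)) [Algebra.IsIntegral A B]
    (C : Subalgebra A B) (hC : FlatMor.IsUnivHomeo (Spec.map (CommRingCat.ofHom (algebraMap A C))))
    (hmax : ∀ D : Subalgebra A B, FlatMor.IsUnivHomeo (Spec.map (CommRingCat.ofHom (algebraMap A D))) → D ≤ C) (b : B) :
    b ∈ C ↔ IsNilpotent (b ⊗ₜ[A] (1 : B) - (1 : B) ⊗ₜ[A] b) := by
  classical
  open Groth.HTopHyper in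
  constructor
  · intro hb
    obtain ⟨-, -, hinjC⟩ := (specUnivHomeo_iff _).mp hC
    rw [← mem_nilradical, nilradical_eq_sInf, Submodule.mem_sInf]
    intro J hJ
    have : Ideal.IsPrime J := hJ
    obtain ⟨K, _, _, c, hc⟩ := exists_point J
    let d₁ : C →+* K := (c.comp (Algebra.TensorProduct.includeLeft : B →ₐ[A] TensorProduct A B B).toRingHom).comp C.val.toRingHom
    let d₂ : C →+* K := (c.comp (Algebra.TensorProduct.includeRight : B →ₐ[A] TensorProduct A B B).toRingHom).comp C.val.toRingHom
    have h : d₁ = d₂ := hinjC K d₁ d₂ (RingHom.ext fun a => congrArg c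
      (((Algebra.TensorProduct.includeLeft : B →ₐ[A] TensorProduct A B B).commutes a).trans
        ((Algebra.TensorProduct.includeRight : B →ₐ[A] TensorProduct A B B).commutes a).symm))
    rw [← hc, RingHom.mem_ker, map_sub, sub_eq_zero]
    exact RingHom.congr_fun h ⟨b, hb⟩
  · intro hb
    let D := Algebra.adjoin A ({b} : Set B)
    suffices h : FlatMor.IsUnivHomeo (Spec.map (CommRingCat.ofHom (algebraMap A D))) from
      hmax D h (Algebra.subset_adjoin rfl)
    have hDint : Algebra.IsIntegral A D := ⟨fun x => (isIntegral_algHom_iff D.val Subtype.val_injective).mp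
      (Algebra.IsIntegral.isIntegral (x : B))⟩
    refine (specUnivHomeo_iff _).mpr ⟨Algebra.IsIntegral.isIntegral, ?_, pointsInj_adjoin _ ?_⟩
    · have : Function.Injective (algebraMap A D) := fun x y e => hinj (congrArg Subtype.val e)
      rw [(RingHom.injective_iff_ker_eq_bot _).mp this]
      exact bot_le
    intro K _ d₁ d₂ e x hx
    obtain rfl : x = b := hx
    let i := algebraMap K (AlgebraicClosure K)
    have hint : (D.val.toRingHom).IsIntegral := fun y => by
      obtain ⟨p, hp, hpy⟩ := Algebra.IsIntegral.isIntegral (R := A) y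
      refine ⟨p.map (algebraMap A D), hp.map _, ?_⟩
      rw [Polynomial.eval₂_map]
      exact hpy
    have hker : ∀ d : D →+* AlgebraicClosure K, RingHom.ker D.val.toRingHom ≤ RingHom.ker d := fun d => by
      rw [(RingHom.injective_iff_ker_eq_bot _).mp Subtype.val_injective]
      exact bot_le
    obtain ⟨e₁, he₁⟩ := exists_extend D.val.toRingHom hint (i.comp d₁) (hker _)
    obtain ⟨e₂, he₂⟩ := exists_extend D.val.toRingHom hint (i.comp d₂) (hker _)
    let := (e₁.comp (algebraMap A B)).toAlgebra
    have hA : e₂.comp (algebraMap A B) = e₁.comp (algebraMap A B) := RingHom.ext fun a =>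
      (RingHom.congr_fun he₂ (algebraMap A D a)).trans ((congrArg i (RingHom.congr_fun e a).symm).trans
        (RingHom.congr_fun he₁ (algebraMap A D a)).symm)
    let f₁ : B →ₐ[A] AlgebraicClosure K := { e₁ with commutes' := fun _ => rfl }
    let f₂ : B →ₐ[A] AlgebraicClosure K := { e₂ with commutes' := fun a => RingHom.congr_fun hA a }
    have h := (hb.map (Algebra.TensorProduct.lift f₁ f₂ fun _ _ => Commute.all _ _)).eq_zero
    rw [map_sub, Algebra.TensorProduct.lift_tmul, Algebra.TensorProduct.lift_tmul, map_one, map_one, mul_one,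
      one_mul, sub_eq_zero] at h
    apply i.injective
    exact (RingHom.congr_fun he₁ ⟨x, Algebra.subset_adjoin rfl⟩).symm.trans
      (h.trans (RingHom.congr_fun he₂ ⟨x, Algebra.subset_adjoin rfl⟩))

end Groth.Agent.S14795
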