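import Groth.Statements.S14796
import Groth.Agent.S14795
import Groth.Agent.Calg4.SmoothReduced
import Mathlib.RingTheory.Smooth.IntegralClosure

set_option autoImplicit false
set_option backward.isDefEq.respectTransparency false
universe u
open CategoryTheory CategoryTheory.Limits AlgebraicGeometry
open Subtr

namespace Groth.Agent.S14796

section Helpers

open scoped TensorProduct

theorem isUnivHomeo_spec_ringEquiv {A : Type u} {C D : Type u} [CommRing A] [CommRing C] [CommRing D]
    [Algebra A C] [Algebra A D] (e : C ≃ₐ[A] D)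
    (h : FlatMor.IsUnivHomeo (Spec.map (CommRingCat.ofHom (algebraMap A C)))) :
    FlatMor.IsUnivHomeo (Spec.map (CommRingCat.ofHom (algebraMap A D))) := by
  open Groth.HTopHyper in
  rw [specUnivHomeo_iff] at h ⊢
  obtain ⟨h1, h2, h3⟩ := h
  have he : (algebraMap A D) = e.toRingEquiv.toRingHom.comp (algebraMap A C) :=
    RingHom.ext fun a => (e.commutes a).symm
  refine ⟨fun y => ?_, fun a ha => h2 ?_, fun K _ d₁ d₂ hd => ?_⟩
  · obtain ⟨x, rfl⟩ := e.surjective y
    obtain ⟨q, hq, hqx⟩ := h1 x
    refine ⟨q, hq, ?_⟩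
    rw [he]
    exact (Polynomial.hom_eval₂ q (algebraMap A C) e.toRingEquiv.toRingHom x).symm.trans
      ((congrArg e.toRingEquiv.toRingHom hqx).trans (map_zero _))
  · rw [RingHom.mem_ker, he, RingHom.comp_apply] at ha
    exact e.injective (ha.trans (map_zero _).symm)
  · rw [he, ← RingHom.comp_assoc, ← RingHom.comp_assoc] at hd
    have := h3 K _ _ hd
    exact RingHom.ext fun y => by
      obtain ⟨x, rfl⟩ := e.surjective y
      exact RingHom.congr_fun this x

/-- The weak subintegral closure consists of integral elements. -/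
theorem le_integralClosure {A B : Type u} [CommRing A] [CommRing B] [Algebra A B]
    (C : Subalgebra A B) (hC : FlatMor.IsUnivHomeo (Spec.map (CommRingCat.ofHom (algebraMap A C)))) :
    C ≤ integralClosure A B := by
  intro b hb
  obtain ⟨h1, -, -⟩ := (Groth.HTopHyper.specUnivHomeo_iff _).mp hC
  obtain ⟨q, hq, hq0⟩ := h1 ⟨b, hb⟩
  refine ⟨q, hq, ?_⟩
  exact (Polynomial.hom_eval₂ q (algebraMap A C) C.val.toRingHom ⟨b, hb⟩).symm.trans
    ((congrArg C.val.toRingHom hq0).trans (map_zero _))

/-- The weak subintegral closure through the nilpotence criterion. -/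
theorem mem_iff {A B : Type u} [CommRing A] [CommRing B] [Algebra A B]
    (hinj : Function.Injective (algebraMap A B))
    (C : Subalgebra A B) (hC : FlatMor.IsUnivHomeo (Spec.map (CommRingCat.ofHom (algebraMap A C))))
    (hmax : ∀ D : Subalgebra A B,
      FlatMor.IsUnivHomeo (Spec.map (CommRingCat.ofHom (algebraMap A D))) → D ≤ C)
    (b : integralClosure A B) :
    (b : B) ∈ C ↔ IsNilpotent (b ⊗ₜ[A] (1 : integralClosure A B) - 1 ⊗ₜ[A] b) := by
  let B1 := integralClosure A B
  let C1 : Subalgebra A B1 := C.comap B1.val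
  have hC1map : C1.map B1.val = C := by
    refine le_antisymm ?_ fun x hx => ⟨⟨x, le_integralClosure C hC hx⟩, hx, rfl⟩
    rintro x ⟨y, hy, rfl⟩; exact hy
  have hC1 : FlatMor.IsUnivHomeo (Spec.map (CommRingCat.ofHom (algebraMap A C1))) :=
    isUnivHomeo_spec_ringEquiv
      (((C1.equivMapOfInjective B1.val Subtype.val_injective).trans
        (Subalgebra.equivOfEq _ _ hC1map)).symm) hC
  refine Groth.Agent.S14795.result (A := A) (B := B1)
    (fun x y e => hinj (congrArg Subtype.val e)) C1 hC1 (fun D hD => ?_) b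
  intro x hx
  exact hmax (D.map B1.val) (isUnivHomeo_spec_ringEquiv
    (D.equivMapOfInjective B1.val Subtype.val_injective) hD) ⟨x, hx, rfl⟩

theorem flat_of_cases {A A' : Type u} [CommRing A] [CommRing A'] [Algebra A A']
    (hA' : (∃ M : Submonoid A, IsLocalization M A') ∨ Algebra.Etale A A') : Module.Flat A A' := by
  rcases hA' with ⟨M, hM⟩ | h
  · exact IsLocalization.flat A' M
  · exact inferInstance

theorem bijective_toIntegralClosure {A A' B : Type u} [CommRing A] [CommRing A'] [Algebra A A']
    [CommRing B] [Algebra A B]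
    (hA' : (∃ M : Submonoid A, IsLocalization M A') ∨ Algebra.Etale A A') :
    Function.Bijective (TensorProduct.toIntegralClosure A A' B) := by
  rcases hA' with ⟨M, hM⟩ | h
  · exact TensorProduct.toIntegralClosure_bijective_of_isLocalization M
  · exact TensorProduct.toIntegralClosure_bijective_of_smooth

theorem isReduced_of_isLocalization_loc {R S : Type u} [CommRing R] [CommRing S] [Algebra R S]
    [IsReduced R] (M : Submonoid R) [IsLocalization M S] : IsReduced S := by
  refine ⟨fun x hx => ?_⟩
  obtain ⟨n, hn⟩ := hx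
  obtain ⟨r, m, rfl⟩ := IsLocalization.exists_mk'_eq M x
  have h1 : algebraMap R S (r ^ n) = 0 := by
    rw [map_pow, ← IsLocalization.mk'_spec S r m, mul_pow, hn, zero_mul]
  obtain ⟨t, ht⟩ := (IsLocalization.map_eq_zero_iff M S _).mp h1
  rw [IsLocalization.mk'_eq_zero_iff]
  refine ⟨t, IsReduced.eq_zero _ ⟨n + 1, ?_⟩⟩
  rw [mul_pow, pow_succ' r n, pow_succ' (t : R) n]
  calc (t : R) * (t : R) ^ n * (r * r ^ n)
      = (t : R) ^ n * r * ((t : R) * r ^ n) := by ring
    _ = 0 := by rw [ht, mul_zero]

theorem isReduced_tensor {A A' R : Type u} [CommRing A] [CommRing A'] [Algebra A A']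
    [CommRing R] [Algebra A R] [IsReduced R]
    (hA' : (∃ M : Submonoid A, IsLocalization M A') ∨ Algebra.Etale A A') :
    IsReduced (A' ⊗[A] R) := by
  rcases hA' with ⟨M, hM⟩ | h
  · letI : Algebra R (A' ⊗[A] R) := Algebra.TensorProduct.rightAlgebra
    exact isReduced_of_isLocalization_loc (Algebra.algebraMapSubmonoid R M)
  · have := Groth.Calg4.isReduced_of_smooth R (R ⊗[A] A')
    exact isReduced_of_injective (Algebra.TensorProduct.comm A A' R).toRingHom
      (Algebra.TensorProduct.comm A A' R).injective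

theorem lTensor_sub_apply {A A' B E : Type u} [CommRing A] [CommRing A'] [Algebra A A']
    [CommRing B] [Algebra A B] [CommRing E] [Algebra A E] (g₁ g₂ : B →ₐ[A] E) (x : A' ⊗[A] B) :
    (g₁.toLinearMap - g₂.toLinearMap).lTensor A' x =
      Algebra.TensorProduct.map (AlgHom.id A' A') g₁ x -
        Algebra.TensorProduct.map (AlgHom.id A' A') g₂ x := by
  induction x using TensorProduct.induction_on with
  | zero => simp
  | add a b ha hb => rw [map_add, map_add, map_add, ha, hb]; abel
  | tmul a b => simp [TensorProduct.tmul_sub]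

theorem apply_eq_of_isNilpotent {A' T S E : Type u} [CommRing A'] [CommRing T] [Algebra A' T]
    [CommRing S] [Algebra A' S] [CommRing E] [Algebra A' E] [IsReduced E] (e : T ≃ₐ[A'] S)
    (f₁ f₂ : T →ₐ[A'] E) (x : T)
    (h : IsNilpotent (e x ⊗ₜ[A'] (1 : S) - 1 ⊗ₜ[A'] e x)) : f₁ x - f₂ x = 0 := by
  have h0 := (h.map (Algebra.TensorProduct.lift (f₁.comp e.symm.toAlgHom) (f₂.comp e.symm.toAlgHom)
    fun _ _ => Commute.all _ _)).eq_zero
  simpa using h0

theorem lTensor_eq_zero_of_isNilpotent {A A' B S E : Type u} [CommRing A] [CommRing A']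
    [Algebra A A'] [CommRing B] [Algebra A B] [CommRing S] [Algebra A' S] [CommRing E] [Algebra A E]
    [IsReduced E] (hA' : (∃ M : Submonoid A, IsLocalization M A') ∨ Algebra.Etale A A')
    (e : A' ⊗[A] B ≃ₐ[A'] S) (g₁ g₂ : B →ₐ[A] E) (x : A' ⊗[A] B)
    (h : IsNilpotent (e x ⊗ₜ[A'] (1 : S) - 1 ⊗ₜ[A'] e x)) :
    (g₁.toLinearMap - g₂.toLinearMap).lTensor A' x = 0 := by
  haveI := isReduced_tensor (R := E) hA'
  exact (lTensor_sub_apply g₁ g₂ x).trans (apply_eq_of_isNilpotent e _ _ x h)

theorem exists_reduction (R : Type u) [CommRing R] {A : Type u} [CommRing A] [Algebra A R] :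
    ∃ (E : Type u) (_ : CommRing E) (_ : Algebra A E) (_ : IsReduced E) (q : R →ₐ[A] E),
      ∀ r, q r = 0 ↔ IsNilpotent r :=
  ⟨R ⧸ nilradical R, inferInstance, inferInstance,
    (Ideal.isRadical_iff_quotient_reduced _).mp (Ideal.radical_isRadical _),
    Ideal.Quotient.mkₐ A _, fun _ => Ideal.Quotient.eq_zero_iff_mem⟩

/-- Elements of a base change passing the nilpotence test come from the elements passing it. -/
theorem mem_range_lTensor {A A' B₁ C₁ S : Type u} [CommRing A] [CommRing A'] [Algebra A A']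
    [Module.Flat A A'] [CommRing B₁] [Algebra A B₁] [AddCommGroup C₁] [Module A C₁] [CommRing S]
    [Algebra A' S] (hA' : (∃ M : Submonoid A, IsLocalization M A') ∨ Algebra.Etale A A')
    (e : A' ⊗[A] B₁ ≃ₐ[A'] S) (ι : C₁ →ₗ[A] B₁)
    (hι : ∀ b, b ∈ Set.range ι ↔ IsNilpotent (b ⊗ₜ[A] (1 : B₁) - 1 ⊗ₜ[A] b))
    (x : A' ⊗[A] B₁) (h : IsNilpotent (e x ⊗ₜ[A'] (1 : S) - 1 ⊗ₜ[A'] e x)) :
    x ∈ Set.range (ι.lTensor A') := by
  obtain ⟨E, iE, iAE, iEr, q, hq⟩ := exists_reduction (A := A) (B₁ ⊗[A] B₁)
  let g₁ : B₁ →ₐ[A] E := q.comp Algebra.TensorProduct.includeLeft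
  let g₂ : B₁ →ₐ[A] E := q.comp Algebra.TensorProduct.includeRight
  have hex : Function.Exact ι (g₁.toLinearMap - g₂.toLinearMap) := by
    intro b
    rw [hι, ← hq, map_sub]
    rfl
  exact (Module.Flat.lTensor_exact A' hex x).mp (lTensor_eq_zero_of_isNilpotent hA' e g₁ g₂ x h)

end Helpers

/-- Let A ⊆ B be a ring extension and A ⟶ A' a ring map that is a localization or étale; put B' = A' ⊗_A
B. Let C ⊆ B be the weak subintegral closure of A in B and C' ⊆ B' that of A' in B' (each the
largest subalgebra whose spectrum maps to the base by a universal homeomorphism, characterised here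
by that maximality). Then C' is the image of A' ⊗_A C ⟶ A' ⊗_A B: the weak subintegral closure
commutes with such base changes. -/
theorem result {A B A' : Type u} [CommRing A] [CommRing B]
    [CommRing A'] [Algebra A B] [Algebra A A'] (hinj : Function.Injective (algebraMap A B))
    (hA' : (∃ M : Submonoid A, IsLocalization M A') ∨ Algebra.Etale A A')
    (C : Subalgebra A B) (hC : FlatMor.IsUnivHomeo (Spec.map (CommRingCat.ofHom (algebraMap A C))))
    (hmax : ∀ D : Subalgebra A B, FlatMor.IsUnivHomeo (Spec.map (CommRingCat.ofHom (algebraMap A D))) → D ≤ C)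
    (C' : Subalgebra A' (TensorProduct A A' B)) (hC' : FlatMor.IsUnivHomeo (Spec.map (CommRingCat.ofHom (algebraMap A' C'))))
    (hmax' : ∀ D : Subalgebra A' (TensorProduct A A' B), FlatMor.IsUnivHomeo (Spec.map (CommRingCat.ofHom (algebraMap A' D))) → D ≤ C') :
    (C' : Set (TensorProduct A A' B)) =
      Set.range (Algebra.TensorProduct.map (AlgHom.id A A') C.val) := by
  classical
  have := flat_of_cases hA'
  have hinj' : Function.Injective (algebraMap A' (TensorProduct A A' B)) := by
    have h := Module.Flat.lTensor_preserves_injective_linearMap (M := A') (Algebra.linearMap A B) hinj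
    intro x y hxy
    apply (TensorProduct.rid A A').symm.injective
    apply h
    simpa using hxy
  let B1 := integralClosure A B
  let ι : C →ₗ[A] B1 := (Subalgebra.inclusion (le_integralClosure C hC)).toLinearMap
  have hι : ∀ b : B1, b ∈ Set.range ι ↔
      IsNilpotent (b ⊗ₜ[A] (1 : B1) - (1 : B1) ⊗ₜ[A] b) := fun b =>
    Iff.trans ⟨fun ⟨c, hc⟩ => hc ▸ c.2, fun hb => ⟨⟨b, hb⟩, Subtype.ext rfl⟩⟩
      (mem_iff hinj C hC hmax b)
  have hT := bijective_toIntegralClosure (B := B) hA'
  let eT : TensorProduct A A' B1 ≃ₐ[A'] integralClosure A' (TensorProduct A A' B) :=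
    AlgEquiv.ofBijective _ hT
  have heT : ∀ x, ((eT x : integralClosure A' (TensorProduct A A' B)) : TensorProduct A A' B) =
      Algebra.TensorProduct.map (AlgHom.id A A') B1.val x := fun x => by
    induction x using TensorProduct.induction_on with
    | zero => simp
    | add a b ha hb => simp only [map_add, Subalgebra.coe_add, ha, hb]
    | tmul a b => rfl
  have hfac : ∀ z, Algebra.TensorProduct.map (AlgHom.id A A') B1.val (ι.lTensor A' z) =
      Algebra.TensorProduct.map (AlgHom.id A A') C.val z := fun z => by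
    induction z using TensorProduct.induction_on with
    | zero => simp
    | add a b ha hb => simp only [map_add, ha, hb]
    | tmul a b => rfl
  ext y
  constructor
  · intro hy
    obtain ⟨x, hx⟩ := eT.surjective ⟨y, le_integralClosure C' hC' hy⟩
    have hn := (mem_iff hinj' C' hC' hmax' (eT x)).mp (by rw [hx]; exact hy)
    obtain ⟨z, hz⟩ := mem_range_lTensor hA' eT ι hι x hn
    exact ⟨z, by rw [← hfac, hz, ← heT, hx]⟩
  · rintro ⟨z, rfl⟩
    let Φ : TensorProduct A A' C →ₐ[A'] TensorProduct A A' B :=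
      Algebra.TensorProduct.map (AlgHom.id A' A') C.val
    have hΦ : Function.Injective Φ :=
      Module.Flat.lTensor_preserves_injective_linearMap (M := A') C.val.toLinearMap
        Subtype.val_injective
    have hsq := isPullback_SpecMap_of_isPushout _ _ _ _ (CommRingCat.isPushout_tensorProduct A A' C)
    have hU : FlatMor.IsUnivHomeo
        (Spec.map (CommRingCat.ofHom (algebraMap A' (TensorProduct A A' C)))) :=
      Groth.HTopHyper.isUnivHomeo_of_isPullback hsq hC
    exact hmax' Φ.range (isUnivHomeo_spec_ringEquiv (AlgEquiv.ofInjective Φ hΦ) hU) ⟨z, rfl⟩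

end Groth.Agent.S14796
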