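import Groth.Statements.S14797
import Mathlib.AlgebraicGeometry.ZariskisMainTheorem
import Mathlib.AlgebraicGeometry.PullbackCarrier
import Mathlib.RingTheory.Unramified.LocalStructure
-- import your own Groth.Agent.* helpers here

set_option autoImplicit false
universe u
open CategoryTheory CategoryTheory.Limits AlgebraicGeometry
open Subtr

namespace Groth.Agent.S14797

/-- Let g : S' ⟶ S be a quasi-compact universally submersive morphism of schemes and f : X ⟶ S an étale
morphism whose base change X ×_S S' ⟶ S' is finite. Then f is finite. (The published statement
treats the properties universally closed, separated and quasi-compact one at a time as well; this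
row is the finite case. It assumes g universally subtrusive, using it only through universal
submersiveness and, for quasi-compactness, through the constructible topology; for quasi-compact g
universal submersiveness suffices by the same proof.) -/
theorem result {X S S' : Scheme.{u}} (g : S' ⟶ S)
    [QuasiCompact g] (hg : SGA1.UnivSubmersive g) (f : X ⟶ S) [Etale f]
    [IsFinite (pullback.snd f g)] : IsFinite f := by
  have hquot : ∀ {T : Scheme.{u}} (c : T ⟶ S), Topology.IsQuotientMap (pullback.fst c g) :=
    fun c => hg _ _ _ (IsPullback.of_hasPullback c g)
  -- universally closed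
  have hclosed : UniversallyClosed f := by
    refine ⟨fun X' T i₁ c f' H => ?_⟩
    intro Z hZ
    have H₁ : IsPullback f' i₁ c f := H
    refine (hquot c).isClosed_preimage.mp ?_
    let H' := IsPullback.of_hasPullback f' (pullback.fst c g)
    let top : pullback f' (pullback.fst c g) ⟶ pullback f g :=
      pullback.lift (pullback.fst f' (pullback.fst c g) ≫ i₁) (pullback.snd f' (pullback.fst c g) ≫ pullback.snd c g) (by
        rw [Category.assoc, ← H₁.w, Category.assoc, ← pullback.condition, pullback.condition_assoc])
    have H'' : IsPullback top (pullback.snd f' (pullback.fst c g)) (pullback.snd f g) (pullback.snd c g) := by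
      refine IsPullback.of_right ?_ (pullback.lift_snd _ _ _) (IsPullback.of_hasPullback f g)
      rw [pullback.lift_fst, ← pullback.condition]
      exact H'.paste_horiz H₁.flip
    have hsnd : UniversallyClosed (pullback.snd f' (pullback.fst c g)) :=
      MorphismProperty.of_isPullback H'' (inferInstance : UniversallyClosed (pullback.snd f g))
    have e : (pullback.fst c g) ⁻¹' (f' '' Z) =
        (pullback.snd f' (pullback.fst c g)) '' ((pullback.fst f' (pullback.fst c g)) ⁻¹' Z) := by
      ext t
      constructor
      · rintro ⟨z, hz, hzt⟩
        obtain ⟨w, hw1, hw2⟩ := Scheme.Pullback.exists_preimage_pullback z t hzt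
        exact ⟨w, show _ ∈ Z from hw1 ▸ hz, hw2⟩
      · rintro ⟨w, hw, rfl⟩
        exact ⟨_, hw, congrArg (fun φ => φ.base w) (pullback.condition (f := f') (g := pullback.fst c g))⟩
    rw [e]
    exact (pullback.snd f' (pullback.fst c g)).isClosedMap _ (hZ.preimage (pullback.fst f' (pullback.fst c g)).continuous)
  -- separated
  have hsep : IsSeparated f := by
    refine ⟨IsClosedImmersion.of_isPreimmersion _ ?_⟩
    let c := pullback.fst f f ≫ f
    refine (hquot c).isClosed_preimage.mp ?_
    let a : pullback c g ⟶ pullback f g :=
      pullback.lift (pullback.fst c g ≫ pullback.fst f f) (pullback.snd c g) (by rw [Category.assoc]; exact pullback.condition)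
    let b : pullback c g ⟶ pullback f g :=
      pullback.lift (pullback.fst c g ≫ pullback.snd f f) (pullback.snd c g) (by
        rw [Category.assoc, ← pullback.condition (f := f) (g := f)]; exact pullback.condition)
    let ab : pullback c g ⟶ pullback (pullback.snd f g) (pullback.snd f g) :=
      pullback.lift a b (by rw [pullback.lift_snd, pullback.lift_snd])
    have e : (pullback.fst c g) ⁻¹' Set.range (pullback.diagonal f) =
        ab ⁻¹' Set.range (pullback.diagonal (pullback.snd f g)) := by
      rw [← Scheme.Pullback.range_fst, ← Scheme.Pullback.range_fst]
      ext w
      constructor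
      · rintro ⟨z, rfl⟩
        let π := pullback.fst (pullback.fst c g) (pullback.diagonal f)
        have hπ : π ≫ ab = (π ≫ a) ≫ pullback.diagonal (pullback.snd f g) := by
          have hc := pullback.condition (f := pullback.fst c g) (g := pullback.diagonal f)
          have h2 : π ≫ pullback.fst c g ≫ pullback.fst f f = π ≫ pullback.fst c g ≫ pullback.snd f f := by
            simp only [π, reassoc_of% hc, pullback.diagonal_fst, pullback.diagonal_snd]
          apply pullback.hom_ext
          · simp only [Category.assoc, pullback.diagonal_fst]
            erw [Category.comp_id]
            exact congrArg (π ≫ ·) (pullback.lift_fst _ _ _)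
          · simp only [Category.assoc, pullback.diagonal_snd]
            erw [Category.comp_id]
            rw [show ab ≫ pullback.snd _ _ = b from pullback.lift_snd _ _ _]
            apply pullback.hom_ext
            · rw [Category.assoc, Category.assoc, show b ≫ pullback.fst f g = _ from pullback.lift_fst _ _ _,
                show a ≫ pullback.fst f g = _ from pullback.lift_fst _ _ _]
              exact h2.symm
            · rw [Category.assoc, Category.assoc, show b ≫ pullback.snd f g = _ from pullback.lift_snd _ _ _,
                show a ≫ pullback.snd f g = _ from pullback.lift_snd _ _ _]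
        exact ⟨pullback.lift π (π ≫ a) hπ z, by rw [← Scheme.Hom.comp_apply, pullback.lift_fst]⟩
      · rintro ⟨z, rfl⟩
        let π := pullback.fst ab (pullback.diagonal (pullback.snd f g))
        have hπ : π ≫ pullback.fst c g = (π ≫ pullback.fst c g ≫ pullback.fst f f) ≫ pullback.diagonal f := by
          have hc := pullback.condition (f := ab) (g := pullback.diagonal (pullback.snd f g))
          have h1 : π ≫ ab ≫ pullback.fst (pullback.snd f g) (pullback.snd f g) ≫ pullback.fst f g =
              π ≫ ab ≫ pullback.snd (pullback.snd f g) (pullback.snd f g) ≫ pullback.fst f g := by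
            simp only [π, reassoc_of% hc, pullback.diagonal_fst_assoc, pullback.diagonal_snd_assoc]
          apply pullback.hom_ext
          · simp
          · simp only [ab, a, b, pullback.lift_fst, pullback.lift_fst_assoc, pullback.lift_snd_assoc] at h1
            simpa using h1.symm
        exact ⟨pullback.lift π _ hπ z, by rw [← Scheme.Hom.comp_apply, pullback.lift_fst]⟩
    rw [e]
    exact (pullback.diagonal (pullback.snd f g)).isClosedEmbedding.isClosed_range.preimage ab.continuous
  have : IsProper f := {}
  have : LocallyQuasiFinite f := (HasRingHomProperty.iff_appLE (P := @LocallyQuasiFinite)).mpr fun U V e => by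
    have he := f.etale_appLE U.2 V.2 e
    let := (f.appLE U.1 V.1 e).hom.toAlgebra
    have : Algebra.Etale Γ(S, U.1) Γ(X, V.1) := he
    exact (inferInstance : Algebra.QuasiFinite Γ(S, U.1) Γ(X, V.1))
  exact IsFinite.of_isProper_of_locallyQuasiFinite f

end Groth.Agent.S14797
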