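import Groth.Statements.S1480
import Groth.Agent.FlatmorThree.QFSectionMain

set_option autoImplicit false
universe u
open FlatMor

namespace Groth.Agent.S1480

open AlgebraicGeometry CategoryTheory Limits in
/-- Let f : X → S be flat, locally of finite presentation and locally quasi-finite, and g a nonzero
global function on X. Then there are affine opens V of X and U of S with f(V) ⊆ U and g nonzero on
V, an ideal F of O_S(U), a positive integer r and an injective O_S(U)-linear map from F^r to O_X(V)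
whose image contains the restriction of g to V. -/
theorem result {X S : Scheme.{u}} (f : X ⟶ S) [Flat f] [LocallyOfFinitePresentation f] [LocallyQuasiFinite f]
    (g : Γ(X, ⊤)) (hg : g ≠ 0) :
    ∃ (U : S.Opens) (hU : IsAffineOpen U) (V : X.Opens) (hV : IsAffineOpen V) (hVU : V ≤ f ⁻¹ᵁ U),
      X.presheaf.map (homOfLE le_top).op g ≠ (0 : Γ(X, V)) ∧
      ∃ (F : Ideal Γ(S, U)) (r : ℕ), 0 < r ∧
        letI := (f.appLE U V hVU).hom.toAlgebra
        ∃ φ : (Fin r → ↥F) →ₗ[Γ(S, U)] Γ(X, V), Function.Injective φ ∧ X.presheaf.map (homOfLE le_top).op g ∈ LinearMap.range φ := by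
  -- an affine chart on which `g` is nonzero
  obtain ⟨U, hU, V, hV, hVU, hgV⟩ : ∃ (U : S.Opens) (_ : IsAffineOpen U) (V : X.Opens) (_ : IsAffineOpen V)
      (_ : V ≤ f ⁻¹ᵁ U), X.presheaf.map (homOfLE le_top).op g ≠ (0 : Γ(X, V)) := by
    by_contra! hcon
    apply hg
    let T : Set X.Opens := {V | IsAffineOpen V ∧ ∃ U : S.Opens, IsAffineOpen U ∧ V ≤ f ⁻¹ᵁ U}
    refine X.sheaf.eq_of_locally_eq' (fun V : T => (V : X.Opens)) ⊤ (fun V => homOfLE le_top)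
      (fun x _ => ?_) g 0 (fun V => ?_)
    · obtain ⟨_, ⟨(U : S.Opens), hU, rfl⟩, hxU, -⟩ :=
        S.isBasis_affineOpens.exists_subset_of_mem_open (Set.mem_univ (f x)) isOpen_univ
      obtain ⟨_, ⟨(V : X.Opens), hV, rfl⟩, hxV, hVU⟩ :=
        X.isBasis_affineOpens.exists_subset_of_mem_open (show x ∈ f ⁻¹ᵁ U from hxU) (f ⁻¹ᵁ U).2
      exact TopologicalSpace.Opens.mem_iSup.mpr ⟨⟨V, hV, U, hU, hVU⟩, hxV⟩
    · obtain ⟨hV, U, hU, hVU⟩ := V.2
      rw [map_zero]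
      exact hcon U hU V.1 hV hVU
  let _ : Algebra Γ(S, U) Γ(X, V) := (f.appLE U V hVU).hom.toAlgebra
  have : Module.Flat Γ(S, U) Γ(X, V) := f.flat_appLE hU hV hVU
  have : Algebra.FinitePresentation Γ(S, U) Γ(X, V) := f.finitePresentation_appLE hU hV hVU
  have : Algebra.QuasiFinite Γ(S, U) Γ(X, V) := LocallyQuasiFinite.quasiFinite_appLE hU hV hVU
  obtain ⟨s, w, hsw, hst⟩ := Groth.FlatmorThree.QFSection.exists_section (A := Γ(S, U)) _ hgV
  let U₂ := S.basicOpen s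
  let V₂ := X.basicOpen w
  have hV₂U₂ : V₂ ≤ f ⁻¹ᵁ U₂ := by
    obtain ⟨d, hd⟩ := hsw
    show X.basicOpen w ≤ _
    rw [hd, Scheme.basicOpen_mul]
    exact inf_le_left.trans ((Scheme.basicOpen_appLE f V U hVU s).le.trans inf_le_right)
  let _ : Algebra Γ(S, U₂) Γ(X, V₂) := (f.appLE U₂ V₂ hV₂U₂).hom.toAlgebra
  let _ : Algebra Γ(S, U) Γ(X, V₂) := (f.appLE U V₂ ((X.basicOpen_le w).trans hVU)).hom.toAlgebra
  have : IsScalarTower Γ(S, U) Γ(S, U₂) Γ(X, V₂) := .of_algebraMap_eq fun x => by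
    show f.appLE U V₂ _ x = f.appLE U₂ V₂ hV₂U₂ (S.presheaf.map _ x)
    rw [← CommRingCat.comp_apply, Scheme.Hom.map_appLE]
  have : IsScalarTower Γ(S, U) Γ(X, V) Γ(X, V₂) := .of_algebraMap_eq fun x => by
    show f.appLE U V₂ _ x = X.presheaf.map _ (f.appLE U V hVU x)
    rw [← CommRingCat.comp_apply, Scheme.Hom.appLE_map]
  have := hU.isLocalization_basicOpen s
  have := hV.isLocalization_basicOpen w
  obtain ⟨a, ha⟩ := hst Γ(S, U₂) Γ(X, V₂)
  have hU₂ : IsAffineOpen U₂ := hU.basicOpen s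
  have hV₂ : IsAffineOpen V₂ := hV.basicOpen w
  let U₃ := S.basicOpen a
  let V₃ := X.basicOpen (algebraMap Γ(S, U₂) Γ(X, V₂) a)
  have hV₃U₃ : V₃ ≤ f ⁻¹ᵁ U₃ :=
    (Scheme.basicOpen_appLE f V₂ U₂ hV₂U₂ a).le.trans inf_le_right
  let _ : Algebra Γ(S, U₃) Γ(X, V₃) := (f.appLE U₃ V₃ hV₃U₃).hom.toAlgebra
  let _ : Algebra Γ(S, U₂) Γ(X, V₃) :=
    (f.appLE U₂ V₃ ((X.basicOpen_le _).trans hV₂U₂)).hom.toAlgebra
  have : IsScalarTower Γ(S, U₂) Γ(S, U₃) Γ(X, V₃) := .of_algebraMap_eq fun x => by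
    show f.appLE U₂ V₃ _ x = f.appLE U₃ V₃ hV₃U₃ (S.presheaf.map _ x)
    rw [← CommRingCat.comp_apply, Scheme.Hom.map_appLE]
  have : IsScalarTower Γ(S, U₂) Γ(X, V₂) Γ(X, V₃) := .of_algebraMap_eq fun x => by
    show f.appLE U₂ V₃ _ x = X.presheaf.map _ (f.appLE U₂ V₂ hV₂U₂ x)
    rw [← CommRingCat.comp_apply, Scheme.Hom.appLE_map]
  have := hU₂.isLocalization_basicOpen a
  have := hV₂.isLocalization_basicOpen (algebraMap Γ(S, U₂) Γ(X, V₂) a)
  obtain ⟨hne, F, r, hr, φ, hφ, hmem⟩ := ha Γ(S, U₃) Γ(X, V₃)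
  have hres : X.presheaf.map (homOfLE (show V₃ ≤ ⊤ from le_top)).op g =
      algebraMap Γ(X, V₂) Γ(X, V₃) (algebraMap Γ(X, V) Γ(X, V₂)
        (X.presheaf.map (homOfLE (show V ≤ ⊤ from le_top)).op g)) := by
    show _ = X.presheaf.map _ (X.presheaf.map _ _)
    rw [← CommRingCat.comp_apply, ← CommRingCat.comp_apply, ← Functor.map_comp, ← Functor.map_comp]
    rfl
  exact ⟨U₃, hU₂.basicOpen a, V₃, hV₂.basicOpen _, hV₃U₃, hres ▸ hne, F, r, hr, φ, hφ, hres ▸ hmem⟩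

end Groth.Agent.S1480
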