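import Groth.Statements.S14806
import Groth.Agent.Misc8.LatticeIndex

set_option autoImplicit false
open Finset
open CompLat

namespace Groth.Agent.S14806

/-- Let n ≥ 1, let D, D' : ℤⁿ → ℤⁿ be given by diagonal matrices with nonzero diagonal entries, A : ℤⁿ →
ℤⁿ an integer matrix of rank n - 1, S : ℤⁿ → ℤ the sum of the coordinates and Δ : ℤ → ℤⁿ the
diagonal embedding, with S D A = 0 and A D' Δ = 0; let d, d' be the greatest common divisors of the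
diagonal entries of D and of D' (dℤ = im(S D), d'ℤ = im(S D')). Then #(ker(S D)/im A) · |det D| ·
|det D'| = d d' · #(ker S/im(D A D')). -/
theorem result (n : ℕ) (hn : 0 < n) (δ δ' : Fin n → ℤ) (hδ : ∀ i, δ i ≠ 0) (hδ' : ∀ i, δ' i ≠ 0)
    (A : Matrix (Fin n) (Fin n) ℤ) (hA : A.rank = n - 1)
    (hSDA : (∑ i : Fin n, (LinearMap.proj i : (Fin n → ℤ) →ₗ[ℤ] ℤ)) ∘ₗ
        (Matrix.mulVecLin (Matrix.diagonal δ)) ∘ₗ (Matrix.mulVecLin A) = 0)
    (hADΔ : (Matrix.mulVecLin A) ∘ₗ (Matrix.mulVecLin (Matrix.diagonal δ')) ∘ₗ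
        (LinearMap.pi fun _ : Fin n => (LinearMap.id : ℤ →ₗ[ℤ] ℤ)) = 0) :
    (Nat.card (LinearMap.ker ((∑ i : Fin n, (LinearMap.proj i : (Fin n → ℤ) →ₗ[ℤ] ℤ)) ∘ₗ (Matrix.mulVecLin (Matrix.diagonal δ))) ⧸
          (LinearMap.range (Matrix.mulVecLin A)).comap (LinearMap.ker ((∑ i : Fin n, (LinearMap.proj i : (Fin n → ℤ) →ₗ[ℤ] ℤ)) ∘ₗ (Matrix.mulVecLin (Matrix.diagonal δ)))).subtype) : ℤ) * |∏ i, δ i| * |∏ i, δ' i| =
      (univ.gcd δ) * (univ.gcd δ') * Nat.card (LinearMap.ker (∑ i : Fin n, (LinearMap.proj i : (Fin n → ℤ) →ₗ[ℤ] ℤ)) ⧸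
          (LinearMap.range ((Matrix.mulVecLin (Matrix.diagonal δ)) ∘ₗ (Matrix.mulVecLin A) ∘ₗ (Matrix.mulVecLin (Matrix.diagonal δ')))).comap (LinearMap.ker (∑ i : Fin n, (LinearMap.proj i : (Fin n → ℤ) →ₗ[ℤ] ℤ))).subtype) := by
  have h := Groth.Misc8.LatticeIndex.relIndex_comp δ hn hδ (LinearMap.range (Matrix.mulVecLin A))
    (by rintro _ ⟨y, rfl⟩; exact LinearMap.congr_fun hSDA y)
  rw [← LinearMap.range_comp] at h
  have h' := congrArg (fun m : ℕ => (m : ℤ)) h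
  simp only [Nat.cast_mul, Groth.Misc8.LatticeIndex.prod_natAbs, Groth.Misc8.LatticeIndex.natAbs_gcd] at h'
  rw [Groth.Misc8.LatticeIndex.card_quot, Groth.Misc8.LatticeIndex.card_quot]
  have hAδ : Matrix.mulVecLin A δ' = 0 := by
    have h1 := LinearMap.congr_fun hADΔ 1
    simp only [LinearMap.comp_apply, LinearMap.zero_apply] at h1
    refine Eq.trans (congrArg _ ?_) h1
    funext i
    rw [Groth.Misc8.LatticeIndex.Dl_apply]
    simp
  have hk := Groth.Misc8.LatticeIndex.relIndex_image δ' hδ' hn A hA hAδ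
  have hk' := congrArg (fun m : ℕ => (m : ℤ)) hk
  simp only [Nat.cast_mul, Groth.Misc8.LatticeIndex.prod_natAbs, Groth.Misc8.LatticeIndex.natAbs_gcd] at hk'
  have hinj := Groth.Misc8.LatticeIndex.Dl_injective δ hδ
  set R' := LinearMap.range ((Matrix.mulVecLin (Matrix.diagonal δ)) ∘ₗ (Matrix.mulVecLin A) ∘ₗ
    (Matrix.mulVecLin (Matrix.diagonal δ')))
  set R1 := LinearMap.range ((Matrix.mulVecLin (Matrix.diagonal δ)) ∘ₗ (Matrix.mulVecLin A))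
  have hle : R'.toAddSubgroup ≤ R1.toAddSubgroup := by
    rintro _ ⟨y, rfl⟩; exact ⟨_, rfl⟩
  have hle2 : R1.toAddSubgroup ≤
      (LinearMap.ker (∑ i : Fin n, (LinearMap.proj i : (Fin n → ℤ) →ₗ[ℤ] ℤ))).toAddSubgroup := by
    rintro _ ⟨y, rfl⟩; exact LinearMap.congr_fun hSDA y
  have hrel : R'.toAddSubgroup.relIndex R1.toAddSubgroup =
      ((LinearMap.range (Matrix.mulVecLin (Matrix.diagonal δ'))).map (Matrix.mulVecLin A)).toAddSubgroup.relIndex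
        (LinearMap.range (Matrix.mulVecLin A)).toAddSubgroup := by
    conv_rhs => rw [← AddSubgroup.relIndex_map_map_of_injective
      (f := (Matrix.mulVecLin (Matrix.diagonal δ)).toAddMonoidHom) _ _ hinj]
    congr 1
    · ext x
      constructor
      · rintro ⟨y, rfl⟩; exact ⟨_, ⟨_, ⟨y, rfl⟩, rfl⟩, rfl⟩
      · rintro ⟨_, ⟨_, ⟨y, rfl⟩, rfl⟩, rfl⟩; exact ⟨y, rfl⟩
    · ext x
      constructor
      · rintro ⟨y, rfl⟩; exact ⟨_, ⟨y, rfl⟩, rfl⟩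
      · rintro ⟨_, ⟨y, rfl⟩, rfl⟩; exact ⟨y, rfl⟩
  rw [← AddSubgroup.relIndex_mul_relIndex _ _ _ hle hle2, Nat.cast_mul, hrel, h', ← hk']
  ring

end Groth.Agent.S14806
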