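import Groth.Statements.S14809
import Groth.Agent.PicAux.Tensor
import Groth.Agent.PicAux.GenLocal
import Groth.Agent.PicAux.Integral

set_option autoImplicit false
universe u
open CategoryTheory CategoryTheory.Limits AlgebraicGeometry
open PicF

namespace Groth.Agent.S14809

/-- Let X be an integral scheme such that Γ(X, O_X) is a field and L an invertible O_X-module with a
nonzero global section (a nonzero morphism O_X → L). If some tensor power L^{⊗d} with d ≥ 1 is
isomorphic to O_X, then L itself is isomorphic to O_X. -/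
theorem result (X : Scheme.{u}) [IsIntegral X]
    (hfield : IsField (Γ(X, ⊤) : Type u)) (L : X.Modules) (hL : PicF.IsInvertible L)
    (s : Coh.structureModule X ⟶ L) (hs : s ≠ 0) (d : ℕ) (hd : 0 < d)
    (htriv : Nonempty (CohB1.tensorPow L d ≅ Coh.structureModule X)) :
    Nonempty (L ≅ Coh.structureModule X) := by
  open Groth.PicAux in
  set σ : Γ(L, ⊤) := s.app ⊤ (oneSec X ⊤) with hσ
  have hσ0 : σ ≠ 0 := hom_structure_section_ne_zero hs
  obtain ⟨U, e, hU, hmem, he⟩ := exists_gen_cover hL
  obtain ⟨τ, hτ⟩ := nonempty_iso_structure_iff.1 htriv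
  obtain ⟨a, ha⟩ := hτ.exists_coeff le_rfl (powSec σ d)
  rw [res_self] at ha
  choose f hf using fun i => (he i).exists_coeff le_rfl (res L le_top σ)
  simp only [res_self] at hf
  have hpow : ∀ i, res _ le_top (powSec σ d) = f i ^ d • powSec (e i) d := by
    intro i
    rw [res_powSec, hf i, powSec_smul]
  have ha0 : a ≠ 0 := by
    intro h0
    obtain ⟨x⟩ : Nonempty X := inferInstance
    have : Nonempty (U x) := ⟨⟨x, hmem x⟩⟩
    have h1 : f x ^ d • powSec (e x) d = (0 : Γ(X, U x)) • powSec (e x) d := by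
      rw [← hpow x, ha, h0, zero_smul, res_zero, zero_smul]
    have h2 : f x ^ d = 0 := (Gen.pow (he x) d).smul_inj le_rfl (by simpa using h1)
    have h3 : f x = 0 := eq_zero_of_pow_eq_zero h2
    exact hσ0 (inv_sec_eq_zero hL le_top this σ (by rw [hf x, h3, zero_smul]))
  have hau : IsUnit a := by
    obtain ⟨b, hb⟩ := hfield.mul_inv_cancel ha0
    exact IsUnit.of_mul_eq_one b hb
  have hgen : Gen (CohB1.tensorPow L d) ⊤ (powSec σ d) := ha ▸ hτ.smul_unit hau
  refine nonempty_iso_structure_iff.2
    ⟨σ, Gen.of_cover U (fun _ => le_top) (hU ▸ le_rfl) fun i => ?_⟩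
  rw [hf i]
  refine Gen.smul_unit (he i) ?_
  have h1 := hgen.res (le_top : U i ≤ ⊤)
  rw [hpow i] at h1
  exact (isUnit_pow_iff hd.ne').1 (Gen.isUnit_of_smul (Gen.pow (he i) d) h1)

end Groth.Agent.S14809
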