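import Groth.Statements.S1481
import Mathlib

set_option autoImplicit false
universe u
open FlatMor

namespace Groth.Agent.S1481

open AlgebraicGeometry CategoryTheory Limits in
/-- Let f : X → S, y a point of X with image t, Y the closure of y, s a point of S and x a point of Y
over s which is generic in an irreducible component of the fibre of Y over s (fibres as subspaces).
Then there are a valuation ring R and a morphism g : Spec R → S sending the generic point to t and
the closed point to s, such that, writing X' for the base change with projections g' : X' → X and f'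
: X' → Spec R, there is a point y' of X' over the generic point with g' y' = y which is generic in
an irreducible component of the generic fibre of g'⁻¹(Y), and a point x' in the closure of y' over
the closed point with g' x' = x which is generic in an irreducible component of the special fibre of
the closure of y'. -/
theorem result {X S : Scheme.{u}} (f : X ⟶ S) (y : X) (s : S) (x : X)
    (hx : x ∈ closure ({y} : Set ↑X)) (hxs : f x = s)
    (hgen : ∃ C ∈ irreducibleComponents ↑(closure ({y} : Set ↑X) ∩ f ⁻¹' {s}), IsGenericPoint (⟨x, hx, hxs⟩ : ↑(closure ({y} : Set ↑X) ∩ f ⁻¹' {s})) C) :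
    ∃ (R : Type u) (_ : CommRing R) (_ : IsDomain R) (_ : ValuationRing R) (g : Spec (CommRingCat.of R) ⟶ S),
      g (⊥ : PrimeSpectrum R) = f y ∧ g (IsLocalRing.closedPoint R) = s ∧
      ∃ (y' : ↑(pullback f g)) (hy't : pullback.snd f g y' = (⊥ : PrimeSpectrum R)) (hy'Y : pullback.fst f g y' ∈ closure ({y} : Set ↑X)),
        pullback.fst f g y' = y ∧
        (∃ C ∈ irreducibleComponents ↑((pullback.fst f g) ⁻¹' closure ({y} : Set ↑X) ∩ (pullback.snd f g) ⁻¹' {(⊥ : PrimeSpectrum R)}),
          IsGenericPoint (⟨y', hy'Y, hy't⟩ : ↑((pullback.fst f g) ⁻¹' closure ({y} : Set ↑X) ∩ (pullback.snd f g) ⁻¹' {(⊥ : PrimeSpectrum R)})) C) ∧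
        ∃ (x' : ↑(pullback f g)) (hx' : x' ∈ closure ({y'} : Set ↑(pullback f g))) (hx's : pullback.snd f g x' = IsLocalRing.closedPoint R),
          pullback.fst f g x' = x ∧
          ∃ C ∈ irreducibleComponents ↑(closure ({y'} : Set ↑(pullback f g)) ∩ (pullback.snd f g) ⁻¹' {IsLocalRing.closedPoint R}),
            IsGenericPoint (⟨x', hx', hx's⟩ : ↑(closure ({y'} : Set ↑(pullback f g)) ∩ (pullback.snd f g) ⁻¹' {IsLocalRing.closedPoint R})) C := by
  have hyx : y ⤳ x := specializes_iff_mem_closure.2 hx
  let φ : X.presheaf.stalk x ⟶ X.residueField y := X.presheaf.stalkSpecializes hyx ≫ X.residue y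
  obtain ⟨A, hA, hA_local⟩ := IsLocalRing.exists_factor_valuationRing φ.hom
  let ψ : X.presheaf.stalk x ⟶ CommRingCat.of A := CommRingCat.ofHom (φ.hom.codRestrict _ hA)
  let l : Spec (CommRingCat.of A) ⟶ X := Spec.map ψ ≫ X.fromSpecStalk x
  have hlc : l (IsLocalRing.closedPoint A) = x := by
    show X.fromSpecStalk x (Spec.map ψ _) = x
    have : Spec.map ψ (IsLocalRing.closedPoint A) = IsLocalRing.closedPoint (X.presheaf.stalk x) :=
      IsLocalRing.comap_closedPoint (S := A) (φ.hom.codRestrict A.toSubring hA)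
    rw [this, X.fromSpecStalk_closedPoint]
  have hbot : Spec.map (CommRingCat.ofHom (algebraMap A (X.residueField y)))
      (IsLocalRing.closedPoint (X.residueField y)) = (⊥ : PrimeSpectrum A) := by
    apply PrimeSpectrum.ext
    show (IsLocalRing.maximalIdeal (X.residueField y)).comap (algebraMap A (X.residueField y)) = ⊥
    rw [IsLocalRing.maximalIdeal_eq_bot]
    exact Ideal.comap_bot_of_injective _ (fun a b e => Subtype.ext e)
  have hlη : l (⊥ : PrimeSpectrum A) = y := by
    have e : Spec.map (CommRingCat.ofHom (algebraMap A (X.residueField y))) ≫ l = X.fromSpecResidueField y := by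
      rw [Scheme.fromSpecResidueField, ← Scheme.SpecMap_stalkSpecializes_fromSpecStalk hyx,
        ← Spec.map_comp_assoc, ← Spec.map_comp_assoc]
      rfl
    rw [← hbot, ← Scheme.Hom.comp_apply, e]
    exact Scheme.fromSpecResidueField_apply _ _
  let g := l ≫ f
  let σ : Spec (CommRingCat.of A) ⟶ pullback f g := pullback.lift l (𝟙 _) (Category.id_comp _).symm
  have hσ1 : ∀ a, pullback.fst f g (σ a) = l a := fun a =>
    congr($(pullback.lift_fst l (𝟙 _) (Category.id_comp g).symm) a)
  have hσ2 : ∀ a, pullback.snd f g (σ a) = a := fun a =>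
    congr($(pullback.lift_snd l (𝟙 _) (Category.id_comp g).symm) a)
  have hgη : g (⊥ : PrimeSpectrum A) = f y := congrArg f hlη
  -- generic points of components of closed subsets of a fibre
  have key : ∀ (T : Set ↑(pullback f g)) (hT : IsClosed T) (η : Spec (CommRingCat.of A)) (p : ↑(pullback f g))
      (hp : p ∈ T) (hpη : pullback.snd f g p = η),
      ∃ (q : ↑(pullback f g)) (hq : q ∈ T) (hqη : pullback.snd f g q = η), q ⤳ p ∧
        ∃ C ∈ irreducibleComponents ↑(T ∩ (pullback.snd f g) ⁻¹' {η}),
          IsGenericPoint (⟨q, hq, hqη⟩ : ↑(T ∩ (pullback.snd f g) ⁻¹' {η})) C := by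
    intro T hT η p hp hpη
    let π := pullback.snd f g
    haveI : QuasiSober ↑((π.fiberι η) ⁻¹' T) :=
      ((hT.preimage (π.fiberι η).continuous).isClosedEmbedding_subtypeVal).quasiSober
    let h : ↑((π.fiberι η) ⁻¹' T) ≃ₜ ↑(T ∩ π ⁻¹' {η}) :=
      ((π.fiberι η).isEmbedding.comp Topology.IsEmbedding.subtypeVal).toHomeomorph.trans
        (Homeomorph.setCongr (by
          rw [Set.range_comp, Subtype.range_coe, Set.image_preimage_eq_inter_range, Scheme.Hom.range_fiberι]))
    haveI : QuasiSober ↑(T ∩ π ⁻¹' {η}) := h.symm.isClosedEmbedding.quasiSober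
    let p' : ↑(T ∩ π ⁻¹' {η}) := ⟨p, hp, hpη⟩
    obtain ⟨q, hq⟩ := QuasiSober.sober (isIrreducible_irreducibleComponent (x := p')) isClosed_irreducibleComponent
    refine ⟨q.1, q.2.1, q.2.2, (hq.specializes mem_irreducibleComponent).map continuous_subtype_val,
      irreducibleComponent p', irreducibleComponent_mem_irreducibleComponents p', ?_⟩
    exact hq
  obtain ⟨y', hy'Y, hy't, hy'sp, hy'C⟩ := key ((pullback.fst f g) ⁻¹' closure {y})
    (isClosed_closure.preimage (pullback.fst f g).continuous) (⊥ : PrimeSpectrum A) (σ (⊥ : PrimeSpectrum A))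
    (show pullback.fst f g _ ∈ closure {y} by rw [hσ1, hlη]; exact subset_closure rfl) (hσ2 _)
  have hy'y : pullback.fst f g y' = y := by
    have h1 : y ⤳ pullback.fst f g y' := specializes_iff_mem_closure.2 hy'Y
    have h2 : pullback.fst f g y' ⤳ y := by
      have := hy'sp.map (pullback.fst f g).continuous
      rwa [hσ1, hlη] at this
    exact (h2.antisymm h1).eq
  have hspec : y' ⤳ σ (IsLocalRing.closedPoint A) :=
    hy'sp.trans ((IsLocalRing.specializes_closedPoint (⊥ : PrimeSpectrum A)).map σ.continuous)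
  obtain ⟨x', hx', hx's, hx'sp, hx'C⟩ := key (closure {y'}) isClosed_closure (IsLocalRing.closedPoint A)
    (σ (IsLocalRing.closedPoint A)) hspec.mem_closure (hσ2 _)
  refine ⟨A, inferInstance, inferInstance, inferInstance, g, hgη, (congrArg f hlc).trans hxs, y', hy't, hy'Y,
    hy'y, hy'C, x', hx', hx's, ?_, hx'C⟩
  obtain ⟨C, hC, hxC⟩ := hgen
  have h1 : pullback.fst f g x' ⤳ x := by
    have := hx'sp.map (pullback.fst f g).continuous
    rwa [hσ1, hlc] at this
  have h2 : pullback.fst f g x' ∈ closure ({y} : Set X) := by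
    have := (specializes_iff_mem_closure.2 hx').map (pullback.fst f g).continuous
    rw [hy'y] at this
    exact this.mem_closure
  have h3 : f (pullback.fst f g x') = s := by
    rw [← Scheme.Hom.comp_apply, pullback.condition, Scheme.Hom.comp_apply, hx's]
    exact (congrArg f hlc).trans hxs
  let z : ↑(closure ({y} : Set ↑X) ∩ f ⁻¹' {s}) := ⟨pullback.fst f g x', h2, h3⟩
  have hz : z ⤳ ⟨x, hx, hxs⟩ := (subtype_specializes_iff _ _).2 h1
  have hzC : (⟨x, hx, hxs⟩ : ↑(closure ({y} : Set ↑X) ∩ f ⁻¹' {s})) ⤳ z := by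
    refine specializes_iff_closure_subset.2 ?_
    rw [hxC.def]
    exact hC.2 isIrreducible_singleton.closure (hxC.def ▸ hz.closure_subset)
  exact congrArg Subtype.val (hz.antisymm hzC).eq

end Groth.Agent.S1481
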