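import Groth.Statements.S14810
import Groth.Agent.Pic13Aux.NumTriv

set_option autoImplicit false
universe u
open CategoryTheory CategoryTheory.Limits AlgebraicGeometry
open Pic13

namespace Groth.Agent.S14810

/-- Let X be an integral scheme, proper over a field k, such that Γ(X, O_X) is a field, and let L be an
invertible O_X-module which is numerically trivial: its restriction to every closed subscheme of X
which is integral of dimension one has degree 0. If L has a nonzero global section (a nonzero
morphism O_X → L), then L is isomorphic to O_X. -/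
theorem result (k : Type u) [Field k] (X : Scheme.{u})
    [X.Over (Spec (CommRingCat.of k))] [IsProper (X ↘ Spec (CommRingCat.of k))] [IsIntegral X]
    (hfield : IsField (Γ(X, ⊤) : Type u)) (L : X.Modules) (hL : PicF.IsInvertible L)
    (hnum : Pic13.IsNumEquivZero k X L) (s : Coh.structureModule X ⟶ L) (hs : s ≠ 0) :
    Nonempty (L ≅ Coh.structureModule X) := by
  let t : Γ(L, (⊤ : X.Opens)) := s.app ⊤ (Groth.PicAux.oneSec X ⊤)
  have ht : t ≠ 0 := fun h => hs (Groth.PicAux.hom_structure_ext (by
    rw [show s.app ⊤ (Groth.PicAux.oneSec X ⊤) = 0 from h]; rfl))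
  have h := Groth.Pic13Aux.gloc_eq_top_of_numEquivZero k hL hnum ht
  have hg : Groth.PicAux.Gen L ⊤ t := by
    have := Groth.PropsBasic.Ample.gen_gloc t (V := ⊤) h.ge
    rwa [Groth.PicAux.res_self] at this
  obtain ⟨e, -⟩ := Groth.PicAux.exists_iso_of_gen (U := fun _ : PUnit.{u + 1} => (⊤ : X.Opens))
    iSup_const (fun _ => t) (fun _ => hg) (fun _ => Groth.PicAux.oneSec X ⊤)
    (fun _ => Groth.PicAux.gen_oneSec _) (fun _ _ r hr => by
      obtain rfl : r = 1 := (hg.res inf_le_left).smul_inj le_rfl
        (by simpa using hr.symm)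
      simp)
  exact ⟨e⟩

end Groth.Agent.S14810
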