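import Groth.Statements.S14812
import Groth.Agent.Misc13.NumTriv.Uniform

set_option autoImplicit false
universe u
open CategoryTheory CategoryTheory.Limits AlgebraicGeometry
open Pic13

namespace Groth.Agent.S14812

/-- Take any field k, a proper k-scheme X and an invertible O_X-module L. Then L is numerically trivial
(degree 0 on every closed subscheme of X which is integral of dimension one) if and only if χ(F ⊗ L)
= χ(F) for every coherent O_X-module F; here χ is the alternating sum of the dimensions dim_k H^i(X,
·) over 0 ≤ i ≤ d, for any natural number d bounding the dimension of X. The field k is not assumed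
algebraically closed. -/
theorem result (k : Type u) [Field k] (X : Scheme.{u})
    [X.Over (Spec (CommRingCat.of k))] [IsProper (X ↘ Spec (CommRingCat.of k))] (L : X.Modules) (hL : PicF.IsInvertible L) :
    Pic13.IsNumEquivZero k X L ↔
      ∀ (F : X.Modules), Coh.IsCoh F → ∀ d : ℕ, topologicalKrullDim X ≤ d →
        FGA.eulerCharLE k X (CohB1.tensorMod F L) d = FGA.eulerCharLE k X F d := by
  constructor
  · intro h F hF d hd
    rw [Groth.Inter.eulerCharLE_eq k hd, Groth.Inter.eulerCharLE_eq k hd]
    exact Groth.Misc13.NumTriv.euler_tensor k (Groth.Misc13.NumTriv.nt_of_numEquivZero k hL h) hF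
  · intro h
    refine Groth.Misc13.NumPairing.isNumEquivZero_of_delta k hL fun F hF _ => ?_
    obtain ⟨d, hd⟩ : ∃ d : ℕ, topologicalKrullDim X ≤ d :=
      Groth.Misc13.NumTriv.exists_dim_le k
    have e := h F hF d hd
    rw [Groth.Inter.eulerCharLE_eq k hd, Groth.Inter.eulerCharLE_eq k hd] at e
    rw [Groth.Inter.delta_cons, Groth.Inter.delta_nil, Groth.Inter.delta_nil,
      Groth.EulerDeg.euler_congr k (Groth.Inter.tensor_comm L F).some, e, sub_self]

end Groth.Agent.S14812
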