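import Groth.Statements.S14814
import Groth.Agent.Misc13.NumTriv.H1Zero
import Groth.Agent.Misc13.NumTriv.FieldExt
-- import your own Groth.Agent.* helpers here

set_option autoImplicit false
universe u
open CategoryTheory CategoryTheory.Limits AlgebraicGeometry
open Pic13

namespace Groth.Agent.S14814

/-- Take any field k and a proper k-scheme X with H^1(X, O_X) = 0. Then the group of numerically trivial
invertible sheaves is torsion: every invertible O_X-module L whose restriction to each closed
subscheme of X which is integral of dimension one has degree 0 satisfies L^{⊗d} ≅ O_X for some d ≥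
1. -/
theorem result (k : Type u) [Field k] (X : Scheme.{u})
    [X.Over (Spec (CommRingCat.of k))] [IsProper (X ↘ Spec (CommRingCat.of k))]
    (h1 : Subsingleton (Coh.HH X (Coh.structureModule X) 1))
    (L : X.Modules) (hL : PicF.IsInvertible L) (hnum : Pic13.IsNumEquivZero k X L) :
    ∃ d : ℕ, 0 < d ∧ Nonempty (CohB1.tensorPow L d ≅ Coh.structureModule X) := by
  let K := AlgebraicClosure k
  letI := Groth.HilbStab.BC.overBC k X K
  have := Groth.Misc13.NumTriv.isProper_bcK k X K
  have hO := (Groth.Inter.isCoh_of_isInvertible (Groth.EulerDeg.isInvertible_structureModule X)).1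
  have h1K : Subsingleton (Coh.HH (Curv2.bc k X K) (Coh.structureModule (Curv2.bc k X K)) 1) :=
    Groth.PnCoh.subsingleton_HH_of_iso (A := K) (Curv2.bcSnd k X K)
      (Groth.PicAux.pullback_structure_iso _).some
      ((Groth.HilbStab.BC.subsingleton_HH_bc_iff k X K (Coh.structureModule X) 1).2 h1)
  have hLK := Groth.PicAux.isInvertible_pullback (Curv2.bcFst k X K) hL
  have hnt : Groth.Misc13.NumTriv.NT K ((Scheme.Modules.pullback (Curv2.bcFst k X K)).obj L) :=
    (Groth.Misc13.NumTriv.nt_bc_iff k X K hL).2 ((Groth.Misc13.NumTriv.nt_iff k hL).2 hnum)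
  obtain ⟨d, hd, halg⟩ := Groth.Misc13.NumTriv.isTauEquivZero_of_nt_proper K hnt
  obtain ⟨e⟩ := Groth.Misc13.NumTriv.nonempty_iso_of_isAlgEquivZero K h1K halg
  exact ⟨d, hd, Groth.Misc13.NumTriv.nonempty_iso_of_bc k K (Groth.PicAux.isInvertible_tensorPow hL d)
    ⟨(Groth.PicAux.pullback_tensorPow (Curv2.bcFst k X K) L d).some ≪≫ e⟩⟩

end Groth.Agent.S14814

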