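import Groth.Statements.S14816
import Groth.Agent.MonoEndo.PointOrbit

set_option autoImplicit false
universe u
open CategoryTheory MonoidalCategory CartesianMonoidalCategory MonObj GrpObj AlgebraicGeometry
open AbVar

namespace Groth.Agent.S14816

/-- Let k be an algebraically closed field of characteristic p > 0 which is algebraic over its prime
field (every element x satisfies x^(p^n) = x for some n ≥ 1) and let A be an abelian variety over k
(a proper, geometrically integral group scheme over k). Then every k-rational point of A has finite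
order in the group A(k) of k-points. -/
theorem result
    (p : ℕ) [Fact (Nat.Prime p)] (k : Type u) [Field k] [IsAlgClosed k] [CharP k p]
    (halg : ∀ x : k, ∃ n : ℕ, 0 < n ∧ x ^ (p ^ n) = x)
    (A : Over (Spec (CommRingCat.of k))) [GrpObj A] [IsProper A.hom] [GeometricallyIntegral A.hom]
    (a : 𝟙_ (Over (Spec (CommRingCat.of k))) ⟶ A) : IsOfFinOrder a := by
  let g : A ⟶ A := (toUnit A ≫ a) * 𝟙 A
  have hstep : ∀ n : ℕ, a ^ (n + 1) = (a ^ n) ≫ g := fun n => by
    simp [g, MonObj.comp_mul, pow_succ']
  have : LocallyOfFinitePresentation A.hom :=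
    LocallyOfFinitePresentation.iff_locallyOfFiniteType.2 inferInstance
  obtain ⟨i, j, hij, e⟩ := Groth.MonoEndo.exists_orbit_eq (k := CommRingCat.of k) (p := p) halg
    (Field.toIsField k) A.hom g.left (Over.w g) (fun n => (a ^ n).left) (fun n => Over.w (a ^ n))
    (fun n => by rw [hstep, Over.comp_left])
  rw [isOfFinOrder_iff_pow_eq_one]
  refine ⟨j - i, by omega, ?_⟩
  have e' : a ^ i = a ^ j := Over.OverMorphism.ext e
  rw [← Nat.add_sub_cancel' hij.le, pow_add] at e'
  exact left_eq_mul.1 e'

end Groth.Agent.S14816
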