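import Groth.Statements.S14818
import Groth.Agent.RefRank.Norm.FinLocFree
import Groth.Agent.PicAux.Tensor
import Groth.Agent.PicAux.Pullback
import Groth.Agent.PicAux.Cocycle
import Groth.Agent.PicAux.KummerCover

set_option autoImplicit false
universe u
open CategoryTheory CategoryTheory.Limits AlgebraicGeometry
open PicF

namespace Groth.Agent.S14818

open AlgebraicGeometry CategoryTheory TopologicalSpace in
open Groth.PicAux Groth.Chow Groth.RefRank in
theorem flfNm_app {X Y : Scheme.{u}} (π : X ⟶ Y) [IsFinite π] [Flat π] [LocallyOfFinitePresentation π]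
    {d : ℕ} (hr : ∀ y, π.finrank y = d) (U : Y.Opens) (a : Γ(Y, U)) :
    (flfPreNorm π).norm U (π.app U a) = a ^ d := by
  refine (eq_flfNm π fun V hV n b hb => ?_).symm
  rw [map_pow, ← Groth.Chow.app_resX π hV, nm_app hb]
  rcases (V : Set Y).eq_empty_or_nonempty with he | ⟨y, hy⟩
  · haveI : Subsingleton Γ(Y, V) :=
      CommRingCat.subsingleton_of_isTerminal (Y.sheaf.isTerminalOfEqEmpty (SetLike.ext' he))
    exact Subsingleton.elim _ _
  · rw [← finrank_of_secBasis π hb hy, hr]

/-- Let X be a connected locally Noetherian scheme, f : X' → X a finite locally free morphism of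
constant degree d (a finite flat covering of X of degree d) and L an invertible O_X-module whose
pullback f^*L is isomorphic to O_{X'}. Then L^{⊗d} ≅ O_X; in particular L has finite order in Pic(X)
dividing the degree of f. -/
theorem result (X X' : Scheme.{u})
    [IsLocallyNoetherian X] [ConnectedSpace X] (f : X' ⟶ X) (d : ℕ) (hf : Mor2.IsFinLocFreeOfDeg d f)
    (L : X.Modules) (hL : PicF.IsInvertible L)
    (htriv : Nonempty ((Scheme.Modules.pullback f).obj L ≅ Coh.structureModule X')) :
    Nonempty (CohB1.tensorPow L d ≅ Coh.structureModule X) := by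
  obtain ⟨⟨_, _, _⟩, hr⟩ := hf
  obtain ⟨U, s, hU, -, hs⟩ := Groth.PicAux.exists_gen_cover hL
  obtain ⟨e⟩ := htriv
  let u : ∀ x, Γ(X', f ⁻¹ᵁ U x) := fun x =>
    Groth.PicAux.toFun (e.hom.app _ (Groth.PicAux.pullSec f L (s x)))
  have hu : ∀ x, IsUnit (u x) := fun x => Groth.PicAux.isUnit_toFun_of_gen (((hs x).pull f).map e.hom)
  let N := Groth.RefRank.flfPreNorm f
  obtain ⟨i, -⟩ := Groth.PicAux.exists_iso_of_gen hU (fun x => Groth.PicAux.powSec (s x) d)
    (fun x => (hs x).pow d) (fun x => N.norm (U x) (u x) • Groth.PicAux.oneSec X (U x))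
    (fun x => (Groth.PicAux.gen_oneSec _).smul_unit ((hu x).map (N.norm (U x)))) fun x y r hr' => by
      obtain ⟨η, hη⟩ := (hs y).exists_coeff (inf_le_right : U x ⊓ U y ≤ U y)
        (Groth.PicAux.res L inf_le_left (s x))
      rw [Groth.PicAux.res_powSec, Groth.PicAux.res_powSec, hη, Groth.PicAux.powSec_smul] at hr'
      have hr'' : η ^ d = r := (((hs y).res inf_le_right).pow d).smul_inj le_rfl
        (by simpa only [Groth.PicAux.res_self] using hr')
      have h1 := congrArg (fun z => Groth.PicAux.toFun (e.hom.app _ (Groth.PicAux.pullSec f L z))) hη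
      simp only [Groth.PicAux.pullSec_smul, ← Groth.PicAux.res_pullSec, Scheme.Modules.Hom.app_smul,
        Groth.PicAux.toFun_smul] at h1
      rw [Groth.PicAux.app_res e.hom, Groth.PicAux.app_res e.hom, Groth.PicAux.toFun_res,
        Groth.PicAux.toFun_res] at h1
      have h2 := congrArg (N.norm (U x ⊓ U y)) h1
      rw [map_mul, flfNm_app f hr, hr''] at h2
      rw [Groth.PicAux.res_smul, Groth.PicAux.res_smul, Groth.PicAux.res_oneSec,
        Groth.PicAux.res_oneSec, ← mul_smul, N.norm_res, N.norm_res, h2]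
  exact ⟨i⟩

end Groth.Agent.S14818
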