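import Groth.Statements.S14819
import Groth.Agent.PicAux.TorsionUnramified

set_option autoImplicit false
universe u
open CategoryTheory CategoryTheory.Limits AlgebraicGeometry
open PicF

namespace Groth.Agent.S14819

/-- Let X be an integral Noetherian scheme which is normal (all local rings integrally closed domains)
and whose ring of global functions Γ(X, O_X) is a field of characteristic p > 0; let L be an
invertible O_X-module of exact order d in Pic(X), i.e. L^{⊗d} ≅ O_X with d ≥ 1 and L^{⊗i} not
isomorphic to O_X for 0 < i < d, and suppose p divides d. Let X' be a connected scheme such that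
every unit of Γ(X', O_{X'}) has a p-th root. Then no finite étale morphism f : X' → X (a finite
étale covering of X by X') satisfies f^*L ≅ O_{X'}. -/
theorem result (X X' : Scheme.{u})
    [IsIntegral X] [IsNoetherian X] (hnorm : Pi1.IsNormalScheme X)
    (hfield : IsField (Γ(X, ⊤) : Type u)) (p : ℕ) [Fact (Nat.Prime p)] [CharP (Γ(X, ⊤) : Type u) p]
    (L : X.Modules) (hL : PicF.IsInvertible L) (d : ℕ) (hd : 0 < d)
    (hord : Nonempty (CohB1.tensorPow L d ≅ Coh.structureModule X))
    (hmin : ∀ i : ℕ, 0 < i → i < d → IsEmpty (CohB1.tensorPow L i ≅ Coh.structureModule X))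
    (hpd : p ∣ d) [ConnectedSpace X']
    (hroot : ∀ u : (Γ(X', ⊤) : Type u), IsUnit u → ∃ v : (Γ(X', ⊤) : Type u), v ^ p = u)
    (f : X' ⟶ X) [IsFinite f] [Etale f] :
    IsEmpty ((Scheme.Modules.pullback f).obj L ≅ Coh.structureModule X') := by
  obtain ⟨m, rfl⟩ := hpd
  refine ⟨fun ψ => ?_⟩
  have hm0 : 0 < m := Nat.pos_of_mul_pos_left hd
  have hmd : m < p * m := by
    have := (Fact.out : p.Prime).one_lt
    calc m = 1 * m := (one_mul m).symm
      _ < p * m := Nat.mul_lt_mul_of_pos_right this hm0
  obtain ⟨φ⟩ := hord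
  obtain ⟨e1⟩ := Groth.PicAux.tensorPow_mul L m p
  have : Nonempty X' := inferInstance
  refine (hmin m hm0 hmd).false ?_
  refine (Groth.PicAux.nonempty_iso_of_pullback_trivial hnorm f p hfield hroot
    (Groth.PicAux.isInvertible_tensorPow hL m) ?_ ?_).some
  · exact ⟨e1.symm ≪≫ eqToIso (by rw [mul_comm]) ≪≫ φ⟩
  · obtain ⟨a⟩ := Groth.PicAux.pullback_tensorPow f L m
    obtain ⟨b⟩ := Groth.PicAux.nonempty_tensorPow_iso ψ m
    obtain ⟨c⟩ := Groth.PicAux.tensorPow_structure (X := X') m
    exact ⟨a ≪≫ b ≪≫ c⟩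

end Groth.Agent.S14819
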