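import Groth.Statements.S14822
import Groth.Agent.HensPair.FibrationFunctionField
import Groth.Agent.CohFin.ProjFinite
-- import your own Groth.Agent.* helpers here

set_option autoImplicit false
universe u
open CategoryTheory CategoryTheory.Limits AlgebraicGeometry
open CohIII

namespace Groth.Agent.S14822

/-- Let k be a field and f : X → Y a surjective k-morphism between integral proper k-schemes of the same
dimension, with Y normal (all local rings integrally closed domains). Then f is a fibration (Γ(U,
O_Y) → Γ(f⁻¹U, O_X) bijective for every open U ⊆ Y) if and only if f is birational: the embedding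
K(Y) → K(X) of function fields given by the stalk map at the generic points is bijective. -/
theorem result (k : Type u) [Field k]
    (X Y : Scheme.{u}) [X.Over (Spec (CommRingCat.of k))] [Y.Over (Spec (CommRingCat.of k))]
    [IsProper (X ↘ Spec (CommRingCat.of k))] [IsProper (Y ↘ Spec (CommRingCat.of k))] [IsIntegral X] [IsIntegral Y]
    (hY : Pi1.IsNormalScheme Y) (f : X ⟶ Y) [Surjective f] (hf : f ≫ (Y ↘ Spec (CommRingCat.of k)) = X ↘ Spec (CommRingCat.of k))
    (hdim : topologicalKrullDim ↥X = topologicalKrullDim ↥Y)
    (h : f.base (genericPoint ↥X) ⤳ genericPoint ↥Y) :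
    (∀ U : Y.Opens, IsIso (f.app U)) ↔ Function.Bijective (CohIII.stalkToFunctionField f (genericPoint ↥Y) h) := by
  have : IsProper f := by
    have : IsProper (f ≫ (Y ↘ Spec (CommRingCat.of k))) := by rw [hf]; infer_instance
    exact IsProper.of_comp f (Y ↘ Spec (CommRingCat.of k))
  have : IsLocallyNoetherian Y := LocallyOfFiniteType.isLocallyNoetherian (Y ↘ Spec (CommRingCat.of k))
  constructor
  · intro hfib
    obtain ⟨V, hV, hmem⟩ := Groth.HensPair.exists_isIso_restrict_of_bijective_app f fun U _ =>
      haveI := hfib U; ConcreteCategory.bijective_of_isIso (f.app U)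
    have hgen : f.base (genericPoint X) = genericPoint Y :=
      (h.antisymm ((genericPoint_spec Y).specializes (Set.mem_univ _))).eq
    exact Groth.HensPair.bijective_stalkToFunctionField_of_mem f h hV
      ((hmem _).2 (Groth.HensPair.quasiFiniteAt_genericPoint_of_dim_eq f
        (X ↘ Spec (CommRingCat.of k)) (Y ↘ Spec (CommRingCat.of k)) hf hgen hdim))
  · intro hb U
    exact Groth.HensPair.isIso_app_of_isIntegralElem f Groth.CohFin.projFinite h (fun y => (hY y).2)
      (fun z _ => hb.2 z) U

end Groth.Agent.S14822
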