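import Groth.Statements.S14825
import Groth.Agent.VarietyBC.GlobalField
import Groth.Agent.AlgGrp1.Const
import Groth.Agent.Abvar.Rigidity

set_option autoImplicit false
universe u
open CategoryTheory MonoidalCategory CartesianMonoidalCategory MonObj GrpObj AlgebraicGeometry
open AbVar

namespace Groth.Agent.S14825

/-- In the pointed case, let k be a field and X a proper k-scheme with H^0(X, O_X) one-dimensional and a
k-rational point x₀; let alb : X → A be the Albanese morphism (A an abelian variety over k — proper,
geometrically integral group scheme — with alb(x₀) = 0, universal among pointed k-morphisms from X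
to abelian varieties, the latter being geometrically reduced, connected, proper group schemes). Then
X has Albanese dimension zero, i.e. the image of alb is a single point of A (X is connected, so this
says the image is zero-dimensional), if and only if A is the trivial abelian variety, i.e. A → Spec
k is an isomorphism. (The published statement does not assume a rational point (it works with the
Albanese torsor); this row assumes one.) -/
theorem result (k : Type u) [Field k] (X : Scheme.{u}) [X.Over (Spec (CommRingCat.of k))]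
    [IsProper (X ↘ Spec (CommRingCat.of k))] (h0 : Module.finrank k (Coh.HH X (Coh.structureModule X) 0) = 1)
    (x₀ : 𝟙_ (Over (Spec (CommRingCat.of k))) ⟶ Over.mk (X ↘ Spec (CommRingCat.of k)))
    (A : Over (Spec (CommRingCat.of k))) [GrpObj A] [IsProper A.hom] [GeometricallyIntegral A.hom]
    (alb : Over.mk (X ↘ Spec (CommRingCat.of k)) ⟶ A) (halb : x₀ ≫ alb = η[A])
    (huniv : ∀ (B : Over (Spec (CommRingCat.of k))) [GrpObj B] [IsProper B.hom] [GeometricallyReduced B.hom] [ConnectedSpace ↥B.left]
      (g : Over.mk (X ↘ Spec (CommRingCat.of k)) ⟶ B), x₀ ≫ g = η[B] → ∃! h : A ⟶ B, IsMonHom h ∧ alb ≫ h = g) :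
    (Set.range alb.left.base).Subsingleton ↔ IsIso A.hom := by
  constructor
  · intro hsub
    let Xo : Over (Spec (CommRingCat.of k)) := Over.mk (X ↘ Spec (CommRingCat.of k))
    have hconst : Groth.AlgGrp1.HasConstFunctions Xo := by
      letI := ((X ↘ (Spec (CommRingCat.of k))).appTop.hom.comp
        (Scheme.ΓSpecIso (CommRingCat.of k)).inv.hom : k →+* Γ(X, ⊤)).toAlgebra
      have h1 : Module.finrank k Γ(X, ⊤) = 1 :=
        (Groth.VarietyBC.GlobalField.finrank_HH_zero k X).symm.trans h0
      haveI : Nonempty X := ⟨x₀.left.base (IsLocalRing.closedPoint k)⟩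
      haveI : Nonempty ((⊤ : X.Opens) : Type u) := ⟨⟨x₀.left.base (IsLocalRing.closedPoint k), trivial⟩⟩
      haveI : Nontrivial Γ(X, ⊤) := inferInstance
      show Function.Bijective (algebraMap k Γ(X, ⊤))
      refine ⟨(algebraMap k Γ(X, ⊤)).injective, fun y => ?_⟩
      obtain ⟨c, hc⟩ := (finrank_eq_one_iff_of_nonzero' (1 : Γ(X, ⊤)) one_ne_zero).1 h1 y
      exact ⟨c, by rw [Algebra.algebraMap_eq_smul_one, hc]⟩
    let pt := η[A].left.base (IsLocalRing.closedPoint k)
    have hpt : ∀ x, alb.left.base x = pt := fun x => by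
      refine hsub ⟨x, rfl⟩ ⟨x₀.left.base (IsLocalRing.closedPoint k), ?_⟩
      show (x₀ ≫ alb).left.base (IsLocalRing.closedPoint k) = pt
      rw [halb]
    obtain ⟨U, hU, hpU⟩ : ∃ U : A.left.Opens, IsAffineOpen U ∧ pt ∈ U := by
      obtain ⟨_, ⟨U, hU, rfl⟩, hpU, -⟩ :=
        A.left.isBasis_affineOpens.exists_subset_of_mem_open (Set.mem_univ pt) isOpen_univ
      exact ⟨U, hU, hpU⟩
    haveI : IsAffine (U : Scheme.{u}) := hU
    let Uo : Over (Spec (CommRingCat.of k)) := Over.mk (U.ι ≫ A.hom)
    haveI : IsAffine Uo.left := hU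
    let j : Uo ⟶ A := Over.homMk U.ι rfl
    have hr : Set.range alb.left.base ⊆ Set.range U.ι.base := by
      rintro _ ⟨x, rfl⟩
      rw [Scheme.Opens.range_ι, hpt x]
      exact hpU
    let a' : Xo ⟶ Uo := Over.homMk (IsOpenImmersion.lift U.ι alb.left hr) (by
      show IsOpenImmersion.lift U.ι alb.left hr ≫ U.ι ≫ A.hom = _
      rw [IsOpenImmersion.lift_fac_assoc, Over.w alb])
    have ha' : a' ≫ j = alb := by ext; exact IsOpenImmersion.lift_fac _ _ _
    have halb1 : alb = toUnit Xo ≫ η[A] := by
      rw [← ha', hconst.over_eq_const a' x₀, Category.assoc, Category.assoc, ha', halb]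
    haveI : ConnectedSpace A.left := by
      haveI := Groth.Abvar.isIntegral_left A
      infer_instance
    obtain ⟨h, -, hu⟩ := huniv A alb halb
    have e1 := hu (𝟙 A) ⟨inferInstance, Category.comp_id _⟩
    have e2 := hu (toUnit A ≫ η[A]) ⟨inferInstance, by
      rw [← Category.assoc, comp_toUnit]; exact halb1.symm⟩
    have hA : toUnit A ≫ η[A] = 𝟙 A := e2.trans e1.symm
    exact ⟨η[A].left, congr(($hA).left), Over.w η[A]⟩
  · intro h
    haveI : Subsingleton A.left := (Scheme.homeoOfIso (asIso A.hom)).toEquiv.subsingleton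
    exact Set.subsingleton_of_subsingleton

end Groth.Agent.S14825
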