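import Groth.Statements.S14827
import Groth.Agent.Abvar.Rigidity

set_option autoImplicit false
universe u
open CategoryTheory MonoidalCategory CartesianMonoidalCategory MonObj GrpObj AlgebraicGeometry
open AbVar

namespace Groth.Agent.S14827

/-- Over a field k (the published statement is over a base scheme S), let X be a proper k-scheme with
H^0(X, O_X) one-dimensional and a k-rational point x₀, and alb : X → A the Albanese morphism for the
base point x₀ (A an abelian variety — proper, geometrically integral group scheme — with alb(x₀) =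
0, universal among pointed morphisms to geometrically reduced, connected, proper group schemes). For
a second k-rational point x₁ let alb' = alb · (constant map with value alb(x₁))⁻¹, i.e. alb followed
by the translation of A by −alb(x₁). Then alb' is the Albanese morphism of X pointed by x₁: alb'(x₁)
= 0, and every k-morphism g : X → B to an abelian variety B with g(x₁) = 0 equals alb' ≫ h for a
unique homomorphism h : A → B. -/
theorem result (k : Type u) [Field k] (X : Scheme.{u}) [X.Over (Spec (CommRingCat.of k))]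
    [IsProper (X ↘ Spec (CommRingCat.of k))] (h0 : Module.finrank k (Coh.HH X (Coh.structureModule X) 0) = 1)
    (x₀ : 𝟙_ (Over (Spec (CommRingCat.of k))) ⟶ Over.mk (X ↘ Spec (CommRingCat.of k)))
    (A : Over (Spec (CommRingCat.of k))) [GrpObj A] [IsProper A.hom] [GeometricallyIntegral A.hom]
    (alb : Over.mk (X ↘ Spec (CommRingCat.of k)) ⟶ A) (halb : x₀ ≫ alb = η[A])
    (huniv : ∀ (B : Over (Spec (CommRingCat.of k))) [GrpObj B] [IsProper B.hom] [GeometricallyReduced B.hom] [ConnectedSpace ↥B.left]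
      (g : Over.mk (X ↘ Spec (CommRingCat.of k)) ⟶ B), x₀ ≫ g = η[B] → ∃! h : A ⟶ B, IsMonHom h ∧ alb ≫ h = g)
    (x₁ : 𝟙_ (Over (Spec (CommRingCat.of k))) ⟶ Over.mk (X ↘ Spec (CommRingCat.of k))) :
    x₁ ≫ (alb * (toUnit (Over.mk (X ↘ Spec (CommRingCat.of k))) ≫ x₁ ≫ alb)⁻¹) = η[A] ∧
    ∀ (B : Over (Spec (CommRingCat.of k))) [GrpObj B] [IsProper B.hom] [GeometricallyReduced B.hom] [ConnectedSpace ↥B.left]
      (g : Over.mk (X ↘ Spec (CommRingCat.of k)) ⟶ B), x₁ ≫ g = η[B] →
        ∃! h : A ⟶ B, IsMonHom h ∧ (alb * (toUnit (Over.mk (X ↘ Spec (CommRingCat.of k))) ≫ x₁ ≫ alb)⁻¹) ≫ h = g := by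
  have hx : ∀ (x : 𝟙_ (Over (Spec (CommRingCat.of k))) ⟶ Over.mk (X ↘ Spec (CommRingCat.of k)))
      (Y : Over (Spec (CommRingCat.of k))) (c : 𝟙_ _ ⟶ Y),
      x ≫ toUnit (Over.mk (X ↘ Spec (CommRingCat.of k))) ≫ c = c := fun x Y c => by
    rw [← Category.assoc, toUnit_unique (x ≫ toUnit _) (𝟙 _), Category.id_comp]
  refine ⟨by rw [MonObj.comp_mul, GrpObj.comp_inv, hx, mul_inv_cancel, Hom.one_def,
      toUnit_unique (toUnit (𝟙_ _)) (𝟙 _), Category.id_comp], ?_⟩
  intro B _ _ _ _ g hg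
  have hone : η[B] = (1 : 𝟙_ _ ⟶ B) := by
    rw [Hom.one_def, toUnit_unique (toUnit (𝟙_ _)) (𝟙 _), Category.id_comp]
  set c := x₀ ≫ g with hc
  set t := toUnit (Over.mk (X ↘ Spec (CommRingCat.of k))) with ht
  obtain ⟨h, ⟨hh, hhg⟩, huniq⟩ := huniv B (g * (t ≫ c)⁻¹) (by
    rw [MonObj.comp_mul, GrpObj.comp_inv, hx, ← hc, mul_inv_cancel, hone])
  refine ⟨h, ⟨hh, ?_⟩, fun h' ⟨hh', hh'g⟩ => huniq h' ⟨hh', ?_⟩⟩
  · rw [MonObj.mul_comp, GrpObj.inv_comp, Category.assoc, Category.assoc, hhg, MonObj.comp_mul,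
      GrpObj.comp_inv, hg, hx, hone, _root_.one_mul, GrpObj.comp_inv, _root_.inv_inv, inv_mul_cancel_right]
  · rw [MonObj.mul_comp, GrpObj.inv_comp, Category.assoc, Category.assoc] at hh'g
    have h1 : alb ≫ h' = g * (t ≫ x₁ ≫ alb ≫ h') := by rw [← hh'g, inv_mul_cancel_right]
    have h2 := congrArg (fun z => x₀ ≫ z) h1
    simp only [MonObj.comp_mul, hx, ← Category.assoc x₀ alb, halb, IsMonHom.one_hom, hone, ← hc] at h2
    rw [h1]
    congr 1
    rw [← GrpObj.comp_inv]
    exact congrArg (t ≫ ·) (eq_inv_of_mul_eq_one_right h2.symm)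

end Groth.Agent.S14827
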