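import Groth.Statements.S14830
import Groth.Agent.AbvarAlb.MaxAbelian

set_option autoImplicit false
universe u
open CategoryTheory MonoidalCategory CartesianMonoidalCategory MonObj GrpObj AlgebraicGeometry
open AbVar

namespace Groth.Agent.S14830

/-- Let k be a field and X, Y proper, geometrically integral k-schemes with k-rational points x₀ and y₀.
Let albX : X → A and albY : Y → B be Albanese morphisms: A, B abelian varieties over k (proper,
geometrically integral group schemes), albX(x₀) = 0, albY(y₀) = 0, each universal among pointed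
k-morphisms into abelian varieties (geometrically reduced, connected, proper group schemes). Then
the product morphism albX × albY : X ×_k Y → A ×_k B is the Albanese morphism of X ×_k Y pointed at
(x₀, y₀): for every abelian variety C and every k-morphism g : X ×_k Y → C with g(x₀, y₀) = 0 there
is a unique homomorphism h : A ×_k B → C with (albX × albY) ≫ h = g. -/
theorem result (k : Type u) [Field k] (X Y : Scheme.{u}) [X.Over (Spec (CommRingCat.of k))] [Y.Over (Spec (CommRingCat.of k))]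
    [IsProper (X ↘ Spec (CommRingCat.of k))] [IsProper (Y ↘ Spec (CommRingCat.of k))]
    [GeometricallyIntegral (X ↘ Spec (CommRingCat.of k))] [GeometricallyIntegral (Y ↘ Spec (CommRingCat.of k))]
    (x₀ : 𝟙_ (Over (Spec (CommRingCat.of k))) ⟶ Over.mk (X ↘ Spec (CommRingCat.of k))) (y₀ : 𝟙_ (Over (Spec (CommRingCat.of k))) ⟶ Over.mk (Y ↘ Spec (CommRingCat.of k)))
    (A : Over (Spec (CommRingCat.of k))) [GrpObj A] [IsProper A.hom] [GeometricallyIntegral A.hom]
    (albX : Over.mk (X ↘ Spec (CommRingCat.of k)) ⟶ A) (halbX : x₀ ≫ albX = η[A])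
    (hunivA : ∀ (C : Over (Spec (CommRingCat.of k))) [GrpObj C] [IsProper C.hom] [GeometricallyReduced C.hom] [ConnectedSpace ↥C.left]
      (g : Over.mk (X ↘ Spec (CommRingCat.of k)) ⟶ C), x₀ ≫ g = η[C] → ∃! h : A ⟶ C, IsMonHom h ∧ albX ≫ h = g)
    (B : Over (Spec (CommRingCat.of k))) [GrpObj B] [IsProper B.hom] [GeometricallyIntegral B.hom]
    (albY : Over.mk (Y ↘ Spec (CommRingCat.of k)) ⟶ B) (halbY : y₀ ≫ albY = η[B])
    (hunivB : ∀ (C : Over (Spec (CommRingCat.of k))) [GrpObj C] [IsProper C.hom] [GeometricallyReduced C.hom] [ConnectedSpace ↥C.left]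
      (g : Over.mk (Y ↘ Spec (CommRingCat.of k)) ⟶ C), y₀ ≫ g = η[C] → ∃! h : B ⟶ C, IsMonHom h ∧ albY ≫ h = g)
    (C : Over (Spec (CommRingCat.of k))) [GrpObj C] [IsProper C.hom] [GeometricallyReduced C.hom] [ConnectedSpace ↥C.left]
    (g : Over.mk (X ↘ Spec (CommRingCat.of k)) ⊗ Over.mk (Y ↘ Spec (CommRingCat.of k)) ⟶ C) (hg : lift x₀ y₀ ≫ g = η[C]) :
    ∃! h : A ⊗ B ⟶ C, IsMonHom h ∧ (albX ⊗ₘ albY) ≫ h = g := by
  let Xo : Over (Spec (CommRingCat.of k)) := Over.mk (X ↘ Spec (CommRingCat.of k))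
  let Yo : Over (Spec (CommRingCat.of k)) := Over.mk (Y ↘ Spec (CommRingCat.of k))
  have : IsProper Xo.hom := ‹IsProper (X ↘ Spec (CommRingCat.of k))›
  have : IsProper Yo.hom := ‹IsProper (Y ↘ Spec (CommRingCat.of k))›
  have : GeometricallyIntegral Xo.hom := ‹GeometricallyIntegral (X ↘ Spec (CommRingCat.of k))›
  have : GeometricallyIntegral Yo.hom := ‹GeometricallyIntegral (Y ↘ Spec (CommRingCat.of k))›
  have : GeometricallyIntegral C.hom := Groth.AbvarAlb.geometricallyIntegral_of_connected C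
  have : IsCommMonObj C := isCommMonObj_of_isProper_of_geometricallyIntegral C
  have := Groth.Abvar.preconnectedSpace_left Yo
  have := Groth.AbvarAlb.isProper_tensor A B
  have := Groth.AbvarAlb.geometricallyIntegral_tensor A B
  have hu : ∀ {Z : Over (Spec (CommRingCat.of k))} (z : 𝟙_ (Over (Spec (CommRingCat.of k))) ⟶ Z),
      z ≫ toUnit Z = 𝟙 _ := fun z => toUnit_unique _ _
  obtain ⟨hA, ⟨hA₁, hA₂⟩, hA₃⟩ := hunivA C (lift (𝟙 Xo) (toUnit Xo ≫ y₀) ≫ g) (by
    rw [comp_lift_assoc, Category.comp_id, ← Category.assoc x₀, hu, Category.id_comp, hg])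
  obtain ⟨hB, ⟨hB₁, hB₂⟩, hB₃⟩ := hunivB C (lift (toUnit Yo ≫ x₀) (𝟙 Yo) ≫ g) (by
    rw [comp_lift_assoc, Category.comp_id, ← Category.assoc y₀, hu, Category.id_comp, hg])
  let h : A ⊗ B ⟶ C := (fst A B ≫ hA) * (snd A B ≫ hB)
  have hh : IsMonHom h := Groth.Abvar.isMonHom_of_one h (by
    simp [h, MonObj.comp_mul, Hom.one_def])
  refine ⟨h, ⟨hh, ?_⟩, fun h' hh' => ?_⟩
  · rw [Groth.Abvar.eq_mul_of_pointed (X := Xo) (Y := Yo) x₀ y₀ g hg]
    simp only [h, MonObj.comp_mul, tensorHom_fst_assoc, tensorHom_snd_assoc, hA₂, hB₂]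
    exact mul_comm _ _
  · obtain ⟨hh', hg'⟩ := hh'
    have e1 : lift (𝟙 A) 1 ≫ h' = hA := hA₃ _ ⟨Groth.Abvar.isMonHom_of_one _ (by
      rw [comp_lift_assoc, Category.comp_id, MonObj.comp_one,
        show lift η[A] (1 : 𝟙_ _ ⟶ B) = η[A ⊗ B] by ext <;> simp [Hom.one_def]]
      exact IsMonHom.one_hom h'), by
      rw [← hg', lift_map_assoc, comp_lift_assoc, MonObj.comp_one, Category.id_comp, Category.comp_id,
        Category.assoc, halbY, Hom.one_def]⟩
    have e2 : lift 1 (𝟙 B) ≫ h' = hB := hB₃ _ ⟨Groth.Abvar.isMonHom_of_one _ (by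
      rw [comp_lift_assoc, Category.comp_id, MonObj.comp_one,
        show lift (1 : 𝟙_ _ ⟶ A) η[B] = η[A ⊗ B] by ext <;> simp [Hom.one_def]]
      exact IsMonHom.one_hom h'), by
      rw [← hg', lift_map_assoc, comp_lift_assoc, MonObj.comp_one, Category.id_comp, Category.comp_id,
        Category.assoc, halbX, Hom.one_def]⟩
    have e : (fst A B ≫ lift (𝟙 A) 1) * (snd A B ≫ lift 1 (𝟙 B)) = 𝟙 (A ⊗ B) := by
      ext <;> simp [MonObj.mul_comp]
    show h' = h
    calc h' = 𝟙 (A ⊗ B) ≫ h' := (Category.id_comp _).symm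
      _ = h := by rw [← e, MonObj.mul_comp, Category.assoc, Category.assoc, e1, e2]

end Groth.Agent.S14830
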