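import Groth.Statements.S14833
import Groth.Agent.OmegaSheaf.DiffSequence
import Groth.Agent.LocCohZBase.GammaZQCoh
import Groth.Agent.OmegaSheaf.DiffProduct
import Groth.Agent.Ega41Sep.Separable
import Mathlib.AlgebraicGeometry.Geometrically.Reduced
import Mathlib.RingTheory.LocalProperties.Reduced
import Mathlib.RingTheory.Etale.Kaehler
import Mathlib.AlgebraicGeometry.FunctionField

set_option autoImplicit false
universe u
open CategoryTheory CategoryTheory.Limits AlgebraicGeometry
open OmegaSh

namespace Groth.Agent.S14833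

open TensorProduct Groth.OmegaSheaf CategoryTheory CategoryTheory.Limits AlgebraicGeometry

/-- `B ⊗ Ω_A → Ω_B` is injective when `B` embeds in a formally smooth `A`-algebra and `Ω_A` is flat. -/
private theorem injective_mapBaseChange (R A B L : Type u) [CommRing R] [CommRing A] [CommRing B]
    [CommRing L] [Algebra R A] [Algebra R B] [Algebra A B] [IsScalarTower R A B] [Algebra R L]
    [Algebra A L] [Algebra B L] [IsScalarTower R A L] [IsScalarTower R B L] [IsScalarTower A B L]
    [Algebra.FormallySmooth A L] [Module.Flat A (KaehlerDifferential R A)]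
    (hinj : Function.Injective (algebraMap B L)) :
    Function.Injective (KaehlerDifferential.mapBaseChange R A B) := by
  let r : B ⊗[A] KaehlerDifferential R A →ₗ[A] L ⊗[A] KaehlerDifferential R A :=
    (IsScalarTower.toAlgHom A B L).toLinearMap.rTensor (KaehlerDifferential R A)
  have hr : Function.Injective r := Module.Flat.rTensor_preserves_injective_linearMap _ hinj
  have hb : Function.Injective (KaehlerDifferential.mapBaseChange R A L) := by
    refine (injective_iff_map_eq_zero _).mpr fun a ha => ?_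
    obtain ⟨b, rfl⟩ := (Algebra.H1Cotangent.exact_δ_mapBaseChange R A L a).mp ha
    rw [Subsingleton.elim b 0, map_zero]
  have hsq : ∀ z, KaehlerDifferential.map R R B L (KaehlerDifferential.mapBaseChange R A B z) =
      KaehlerDifferential.mapBaseChange R A L (r z) := by
    intro z
    refine tensor_kaehler_ext
      ((KaehlerDifferential.map R R B L).toAddMonoidHom.comp
        (KaehlerDifferential.mapBaseChange R A B).toAddMonoidHom)
      ((KaehlerDifferential.mapBaseChange R A L).toAddMonoidHom.comp r.toAddMonoidHom) (fun b s => ?_) z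
    change KaehlerDifferential.map R R B L (KaehlerDifferential.mapBaseChange R A B _) =
      KaehlerDifferential.mapBaseChange R A L (algebraMap B L b ⊗ₜ _)
    simp only [LinearMap.id_apply]
    rw [KaehlerDifferential.mapBaseChange_tmul, KaehlerDifferential.mapBaseChange_tmul, map_smul,
      KaehlerDifferential.map_D, KaehlerDifferential.map_D, KaehlerDifferential.map_D,
      ← IsScalarTower.algebraMap_apply A B L, algebraMap_smul]
  intro z z' h
  refine hr (hb ?_)
  rw [← hsq, ← hsq, h]

/-- Reducedness passes from `B ⊗[A] K` to `K ⊗[K₀] L` for localizations `K₀` of `A`, `L` of `B`. -/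
private theorem isReduced_tensor_localization {A B K₀ L K : Type u} [CommRing A] [CommRing B]
    [CommRing K₀] [CommRing L] [CommRing K] [Algebra A B] [Algebra A K₀] [Algebra A L] [Algebra B L]
    [IsScalarTower A B L] [Algebra K₀ L] [IsScalarTower A K₀ L] [Algebra K₀ K] [Algebra A K]
    [IsScalarTower A K₀ K] (N : Submonoid A) [IsLocalization N K₀] (M : Submonoid B) [IsLocalization M L]
    [_root_.IsReduced (B ⊗[A] K)] : _root_.IsReduced (K ⊗[K₀] L) := by
  haveI : IsLocalization (Algebra.algebraMapSubmonoid (B ⊗[A] K) M) ((B ⊗[A] K) ⊗[B] L) :=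
    IsLocalization.tensor _ M
  haveI : _root_.IsReduced ((B ⊗[A] K) ⊗[B] L) :=
    isReduced_localizationPreserves (Algebra.algebraMapSubmonoid (B ⊗[A] K) M) _ inferInstance
  let e₁ : (B ⊗[A] K) ⊗[B] L ≃+* L ⊗[A] K :=
    (Algebra.TensorProduct.comm B (B ⊗[A] K) L).toRingEquiv.trans
      (Algebra.TensorProduct.cancelBaseChange A B B L K).toRingEquiv
  haveI := IsLocalization.tensorProduct_compatibleSMul N K₀ K L
  let e₂ : L ⊗[A] K ≃+* K ⊗[K₀] L :=
    (Algebra.TensorProduct.comm A L K).toRingEquiv.trans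
      (Algebra.TensorProduct.equivOfCompatibleSMul K₀ A A K L).toRingEquiv
  exact isReduced_of_injective (e₁.trans e₂).symm.toRingHom (e₁.trans e₂).symm.injective

/-- The algebraic content of a geometrically reduced fibre over a point, on affine opens. -/
private theorem isReduced_tensor_of_fibre {X Z : Scheme.{u}} (f : X ⟶ Z) {η : Z}
    (hred : GeometricallyReduced (pullback.snd f (Z.fromSpecResidueField η)))
    {U : Z.Opens} (hU : IsAffineOpen U) (hηU : η ∈ U) {P : X.Opens} (hP : IsAffineOpen P)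
    (e : P ≤ f ⁻¹ᵁ U) (K : Type u) [Field K] (χ : Z.residueField η ⟶ CommRingCat.of K)
    [Algebra Γ(Z, U) K] (hK : CommRingCat.ofHom (algebraMap Γ(Z, U) K) = Z.evaluation U η hηU ≫ χ) :
    letI := (f.appLE U P e).hom.toAlgebra
    _root_.IsReduced (Γ(X, P) ⊗[Γ(Z, U)] K) := by
  letI := (f.appLE U P e).hom.toAlgebra
  have h1 : IsReduced (pullback (pullback.snd f (Z.fromSpecResidueField η)) (Spec.map χ)) :=
    hred.geometrically_isReduced (Spec.map χ) _ _ (IsPullback.of_hasPullback _ _)
  haveI : IsReduced (pullback f (Spec.map χ ≫ Z.fromSpecResidueField η)) :=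
    isReduced_of_isOpenImmersion (pullbackLeftPullbackSndIso f _ _).inv
  have hres : Spec.map (Z.evaluation U η hηU) ≫ hU.fromSpec = Z.fromSpecResidueField η := by
    rw [Scheme.fromSpecResidueField, ← hU.fromSpecStalk_eq_fromSpecStalk hηU, IsAffineOpen.fromSpecStalk,
      ← Spec.map_comp_assoc]
    rfl
  let j : pullback (Spec.map (f.appLE U P e)) (Spec.map (CommRingCat.ofHom (algebraMap Γ(Z, U) K))) ⟶
      pullback f (Spec.map χ ≫ Z.fromSpecResidueField η) :=
    pullback.map _ _ _ _ hP.fromSpec (𝟙 _) hU.fromSpec (hU.SpecMap_appLE_fromSpec f hP e)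
      (by rw [Category.id_comp, ← hres, hK, Spec.map_comp, Category.assoc])
  haveI : IsOpenImmersion j := inferInstance
  haveI : IsReduced (pullback (Spec.map (f.appLE U P e)) (Spec.map (CommRingCat.ofHom (algebraMap Γ(Z, U) K)))) :=
    isReduced_of_isOpenImmersion j
  exact (affine_isReduced_iff (CommRingCat.of _)).mp
    (isReduced_of_isOpenImmersion (pullbackSpecIso Γ(Z, U) Γ(X, P) K).inv)

/-- Injectivity of `f^*Ω_Z → Ω_X` for a surjection with geometrically reduced generic fibre. -/
private theorem mono_core (k : Type u) [Field k] {X Z : Scheme.{u}} [IsIntegral X] [IsIntegral Z]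
    (pZ : Z ⟶ Spec (CommRingCat.of k)) [Smooth pZ] (pX : X ⟶ Spec (CommRingCat.of k))
    (f : X ⟶ Z) [Surjective f] (hf : f ≫ pZ = pX)
    (hsep : GeometricallyReduced (pullback.snd f (Z.fromSpecResidueField (genericPoint ↥Z))))
    (ΩZ : Z.Modules) (dZ : OmegaSh.Der pZ ΩZ) (hdZ : OmegaSh.IsUniversal dZ)
    (ΩX : X.Modules) (dX : OmegaSh.Der pX ΩX) (hdX : OmegaSh.IsUniversal dX)
    (c : (Scheme.Modules.pullback f).obj ΩZ ⟶ ΩX) (hc : OmegaSh.IsDiffCompat f dZ dX c) : Mono c := by
  subst hf
  haveI := isQCoh_of_isUniversal hdZ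
  haveI := isQCoh_of_isUniversal hdX
  let ξ := genericPoint X
  have hη : f.base ξ = genericPoint Z := by
    have h1 : IsGenericPoint (f.base ξ) (⊤ : Set Z) := by
      refine isGenericPoint_iff_specializes.mpr fun y => ⟨fun _ => trivial, fun _ => ?_⟩
      obtain ⟨x, rfl⟩ := f.surjective y
      exact (genericPoint_specializes x).map f.base.hom.continuous
    exact h1.eq (genericPoint_spec Z)
  have hsep' : GeometricallyReduced (pullback.snd f (Z.fromSpecResidueField (f.base ξ))) := by
    rw [hη]; exact hsep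
  have hZf : IsField (Z.presheaf.stalk (f.base ξ)) :=
    isField_stalk_of_closure_mem_irreducibleComponents Z _ (by
      rw [irreducibleComponents_eq_singleton, hη]
      exact (genericPoint_spec Z).def)
  refine mono_of_affine_cover c fun x => ?_
  obtain ⟨c₁, P, hP, e, hxP⟩ := exists_chart_triple f pZ x
  refine ⟨P, hP, hxP, (app_iff_mapBaseChange hdZ hdX hc c₁ hP e).1.mpr ?_⟩
  have hξP : ξ ∈ P := (genericPoint_specializes x).mem_open P.2 hxP
  have hξU : f.base ξ ∈ c₁.U := e hξP
  let _ := chartAlg pZ c₁.e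
  let _ := Groth.QCohMod.sectionsAlg f e
  letI := (pZ.appLE c₁.V c₁.U c₁.e ≫ f.appLE c₁.U P e).hom.toAlgebra
  haveI : IsScalarTower Γ(Spec (CommRingCat.of k), c₁.V) Γ(Z, c₁.U) Γ(X, P) :=
    IsScalarTower.of_algebraMap_eq fun _ => rfl
  let K := Z.residueField (f.base ξ)
  let L := X.residueField ξ
  letI : Algebra K L := (f.residueFieldMap ξ).hom.toAlgebra
  letI : Algebra Γ(Z, c₁.U) K := (Z.evaluation c₁.U _ hξU).hom.toAlgebra
  letI : Algebra Γ(X, P) L := (X.evaluation P ξ hξP).hom.toAlgebra
  letI : Algebra Γ(Z, c₁.U) L := ((algebraMap K L).comp (algebraMap Γ(Z, c₁.U) K)).toAlgebra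
  haveI : IsScalarTower Γ(Z, c₁.U) K L := IsScalarTower.of_algebraMap_eq fun _ => rfl
  have hcomp : f.appLE c₁.U P e ≫ X.evaluation P ξ hξP =
      Z.evaluation c₁.U _ hξU ≫ f.residueFieldMap ξ := by
    simp only [Scheme.evaluation, LocallyRingedSpace.evaluation]
    rw [Category.assoc]
    erw [Scheme.residue_residueFieldMap]
    rw [← Category.assoc, ← Category.assoc, Scheme.Hom.germ_stalkMap]
    congr 1
    rw [Scheme.Hom.appLE, Category.assoc]
    erw [X.presheaf.germ_res (homOfLE e) ξ hξP]
  haveI : IsScalarTower Γ(Z, c₁.U) Γ(X, P) L :=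
    IsScalarTower.of_algebraMap_eq fun r => congr($(hcomp.symm) r)
  letI : Algebra Γ(Spec (CommRingCat.of k), c₁.V) L :=
    ((algebraMap Γ(Z, c₁.U) L).comp (algebraMap Γ(Spec (CommRingCat.of k), c₁.V) Γ(Z, c₁.U))).toAlgebra
  haveI : IsScalarTower Γ(Spec (CommRingCat.of k), c₁.V) Γ(Z, c₁.U) L :=
    IsScalarTower.of_algebraMap_eq fun _ => rfl
  haveI : IsScalarTower Γ(Spec (CommRingCat.of k), c₁.V) Γ(X, P) L :=
    IsScalarTower.of_algebraMap_eq fun r => congr($(hcomp.symm) (algebraMap _ Γ(Z, c₁.U) r))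
  haveI : Algebra.Smooth Γ(Spec (CommRingCat.of k), c₁.V) Γ(Z, c₁.U) :=
    pZ.smooth_appLE c₁.hV c₁.hU c₁.e
  letI := TopCat.Presheaf.algebra_section_stalk Z.presheaf (⟨f.base ξ, hξU⟩ : c₁.U)
  haveI := c₁.hU.isLocalization_stalk ⟨f.base ξ, hξU⟩
  letI := hZf.toField
  let er : Z.presheaf.stalk (f.base ξ) ≃ₐ[Γ(Z, c₁.U)] K := AlgEquiv.ofBijective
    { (Z.residue (f.base ξ)).hom with commutes' := fun _ => rfl }
    ⟨(Z.residue (f.base ξ)).hom.injective, IsLocalRing.residue_surjective⟩
  haveI : IsLocalization (c₁.hU.primeIdealOf ⟨f.base ξ, hξU⟩).asIdeal.primeCompl K :=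
    IsLocalization.isLocalization_of_algEquiv _ er
  letI := TopCat.Presheaf.algebra_section_stalk X.presheaf (⟨ξ, hξP⟩ : P)
  haveI := hP.isLocalization_stalk ⟨ξ, hξP⟩
  letI : Field (X.presheaf.stalk ξ) := inferInstanceAs (Field X.functionField)
  let el : X.presheaf.stalk ξ ≃ₐ[Γ(X, P)] L := AlgEquiv.ofBijective
    { (X.residue ξ).hom with commutes' := fun _ => rfl }
    ⟨(X.residue ξ).hom.injective, IsLocalRing.residue_surjective⟩
  haveI : IsLocalization (hP.primeIdealOf ⟨ξ, hξP⟩).asIdeal.primeCompl L :=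
    IsLocalization.isLocalization_of_algEquiv _ el
  haveI : IsScalarTower Γ(Z, c₁.U) K (AlgebraicClosure K) := inferInstance
  haveI : _root_.IsReduced (Γ(X, P) ⊗[Γ(Z, c₁.U)] AlgebraicClosure K) :=
    isReduced_tensor_of_fibre f hsep' c₁.hU hξU hP e (AlgebraicClosure K)
      (CommRingCat.ofHom (algebraMap K (AlgebraicClosure K))) (CommRingCat.hom_ext (RingHom.ext fun r =>
        IsScalarTower.algebraMap_apply Γ(Z, c₁.U) K (AlgebraicClosure K) r))
  haveI : Algebra.IsGeometricallyReduced K L := by
    rw [Algebra.isGeometricallyReduced_field_iff]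
    exact isReduced_tensor_localization (A := Γ(Z, c₁.U)) (B := Γ(X, P))
      (c₁.hU.primeIdealOf ⟨f.base ξ, hξU⟩).asIdeal.primeCompl (hP.primeIdealOf ⟨ξ, hξP⟩).asIdeal.primeCompl
  haveI : Algebra.FormallySmooth K L :=
    (Groth.Ega41Sep.formallySmooth_iff_isGeometricallyReduced K L).mpr inferInstance
  haveI : Algebra.FormallyEtale Γ(Z, c₁.U) K :=
    Algebra.FormallyEtale.of_isLocalization (c₁.hU.primeIdealOf ⟨f.base ξ, hξU⟩).asIdeal.primeCompl
  haveI : Algebra.FormallySmooth Γ(Z, c₁.U) L := Algebra.FormallySmooth.comp Γ(Z, c₁.U) K L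
  refine injective_mapBaseChange _ _ _ L ?_
  exact (X.residue ξ).hom.injective.comp (germ_injective_of_isIntegral X ξ hξP)

/-- Let k be a field and f : X → Z a surjective k-morphism between integral proper k-schemes, where X is
geometrically normal (its base change to an algebraic closure of k has integrally closed local
domains), Z is smooth over k, and the generic fibre of f is geometrically reduced over the function
field of Z (equivalently K(Z) ⊆ K(X) is separable). Let d_Z : O_Z → Ω_Z and d_X : O_X → Ω_X be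
universal k-derivations (sheaves of Kähler differentials over k) and c : f^*Ω_Z → Ω_X the O_X-linear
map compatible with them. Then for every open subscheme U ⊆ X which is smooth over k, the
restriction of c to U is a monomorphism of O_U-modules; in particular c is injective on the smooth
locus of X. -/
theorem result (k : Type u) [Field k]
    (X Z : Scheme.{u}) [X.Over (Spec (CommRingCat.of k))] [Z.Over (Spec (CommRingCat.of k))]
    [IsProper (X ↘ Spec (CommRingCat.of k))] [IsProper (Z ↘ Spec (CommRingCat.of k))] [IsIntegral X] [IsIntegral Z]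
    [Smooth (Z ↘ Spec (CommRingCat.of k))]
    (hgn : ∀ (K : Type u) [Field K] [Algebra k K] [IsAlgClosure k K],
      Pi1.IsNormalScheme (pullback (X ↘ Spec (CommRingCat.of k)) (Spec.map (CommRingCat.ofHom (algebraMap k K)))))
    (f : X ⟶ Z) [Surjective f] (hf : f ≫ (Z ↘ Spec (CommRingCat.of k)) = X ↘ Spec (CommRingCat.of k))
    (hsep : GeometricallyReduced (pullback.snd f (Z.fromSpecResidueField (genericPoint ↥Z))))
    (ΩZ : Z.Modules) (dZ : OmegaSh.Der (Z ↘ Spec (CommRingCat.of k)) ΩZ) (hdZ : OmegaSh.IsUniversal dZ)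
    (ΩX : X.Modules) (dX : OmegaSh.Der (X ↘ Spec (CommRingCat.of k)) ΩX) (hdX : OmegaSh.IsUniversal dX)
    (c : (Scheme.Modules.pullback f).obj ΩZ ⟶ ΩX) (hc : OmegaSh.IsDiffCompat f dZ dX c)
    (U : X.Opens) (hU : Smooth (U.ι ≫ (X ↘ Spec (CommRingCat.of k)))) :
    Mono ((Scheme.Modules.restrictFunctor U.ι).map c) := by
  haveI : Mono c := mono_core k _ _ f hf hsep ΩZ dZ hdZ ΩX dX hdX c hc
  exact Groth.CohTwo.mono_restrictMap U.ι c

end Groth.Agent.S14833
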