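import Groth.Statements.S14835
import Groth.Agent.S7811
import Groth.Agent.S2351
import Groth.Agent.EulerDeg.Birational
import Groth.Agent.CurveNorm.Main
import Groth.Agent.BMCoh.Birational
import Groth.Agent.AlgSpBasic.DimIntegral
import Groth.Agent.CurveBridge.RegularSmooth
import Groth.Agent.Curves1.CurveMor.Basic
import Groth.Agent.VarietyBC.Components

set_option autoImplicit false
set_option backward.isDefEq.respectTransparency.types false
universe u
open CategoryTheory CategoryTheory.Limits AlgebraicGeometry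
open Curves

namespace Groth.Agent.S14835

theorem regular_of_normal_curve {Y : Scheme.{u}} [IsLocallyNoetherian Y] (hY : Pi1.IsNormalScheme Y)
    (hdim : topologicalKrullDim Y ≤ 1) (y : Y) : IsRegularLocalRing (Y.presheaf.stalk y) := by
  have := (hY y).1
  have := (hY y).2
  have := Groth.Curves1.CurveMor.isDedekindDomain_of_dim_le_one
    (Groth.Curves1.CurveMor.ringKrullDim_stalk_le_one hdim y)
  have := Groth.Curves1.CurveMor.isPrincipalIdealRing_of_local (R := Y.presheaf.stalk y)
  infer_instance

theorem geomConn_of_isAlgClosed (k : Type u) [Field k] [IsAlgClosed k] (X : Scheme.{u})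
    [X.Over (Spec (CommRingCat.of k))] [LocallyOfFiniteType (X ↘ Spec (CommRingCat.of k))]
    [ConnectedSpace X] : GeometricallyConnected (X ↘ Spec (CommRingCat.of k)) := by
  haveI : IsIso (Spec.map (CommRingCat.ofHom (algebraMap k k))) := by
    rw [show CommRingCat.ofHom (algebraMap k k) = 𝟙 _ from rfl, Spec.map_id]; infer_instance
  haveI : IsIso (Curv2.bcFst k X k) :=
    inferInstanceAs (IsIso (pullback.fst (X ↘ Spec (CommRingCat.of k)) (Spec.map (CommRingCat.ofHom (algebraMap k k)))))
  haveI : ConnectedSpace ↥(Curv2.bc k X k) :=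
    (Curv2.bcFst k X k).homeomorph.symm.surjective.connectedSpace (Curv2.bcFst k X k).homeomorph.symm.continuous
  exact Groth.VarietyBC.geometricallyConnected_of_connectedSpace_bc (k := k) (X := X) k

/-- An integral curve finite over a regular curve has at least its genus. -/
theorem genus_le_of_finite (k : Type u) [Field k] [IsAlgClosed k] (B Ci : Scheme.{u})
    [B.Over (Spec (CommRingCat.of k))] [Ci.Over (Spec (CommRingCat.of k))]
    [IsProper (B ↘ Spec (CommRingCat.of k))] (hB : topologicalKrullDim ↥B = 1) [ConnectedSpace ↥B]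
    (hBreg : ∀ b : B, IsRegularLocalRing (B.presheaf.stalk b))
    [IsProper (Ci ↘ Spec (CommRingCat.of k))] [IsIntegral Ci] (hCi : topologicalKrullDim ↥Ci = 1)
    (g : Ci ⟶ B) [IsFinite g] (hg : g ≫ (B ↘ Spec (CommRingCat.of k)) = Ci ↘ Spec (CommRingCat.of k)) :
    Curv2.genus k B ≤ Curv2.genus k Ci := by
  haveI : Ci.IsSeparated := ⟨by
    rw [← terminal.comp_from (Ci ↘ Spec (CommRingCat.of k))]; infer_instance⟩
  haveI : QuasiCompact (Ci.fromSpecStalk (genericPoint Ci)) :=
    QuasiCompact.of_comp (Ci.fromSpecStalk (genericPoint Ci)) (Ci ↘ Spec (CommRingCat.of k))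
  haveI : QuasiSeparated (Ci.fromSpecStalk (genericPoint Ci)) :=
    QuasiSeparated.of_comp (Ci.fromSpecStalk (genericPoint Ci)) (Ci ↘ Spec (CommRingCat.of k))
  obtain ⟨hNi, hNn, hνs, -⟩ := Groth.Agent.S2351.result Ci
  haveI := hNi
  haveI := hνs
  let ν := Curv2.normalizationι Ci
  haveI hfin : IsFinite ν := by
    change IsFinite (Ci.fromSpecStalk (genericPoint Ci)).fromNormalization
    exact Groth.CurveNorm.isFinite_fromNormalization Ci Ci.functionField (RingHom.id _)
      (Ci.fromSpecStalk (genericPoint Ci)) (by simp) k (Ci ↘ Spec (CommRingCat.of k)) inferInstance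
      (RingHom.Finite.id _)
  obtain ⟨D, hD, hiso⟩ := Groth.BMCohLib.exists_isIso_normalizationι Ci
  letI : (Curv2.normalization Ci).Over (Spec (CommRingCat.of k)) := ⟨ν ≫ Ci ↘ Spec (CommRingCat.of k)⟩
  haveI : IsProper (Curv2.normalization Ci ↘ Spec (CommRingCat.of k)) :=
    inferInstanceAs (IsProper (ν ≫ Ci ↘ Spec (CommRingCat.of k)))
  have hd : Dense (D : Set Ci) := D.2.dense ⟨_, hD⟩
  have h1 : Curv2.genus k (Curv2.normalization Ci) ≤ Curv2.genus k Ci :=
    Groth.EulerDeg.genus_le_of_isFinite k hCi.le ν rfl D hd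
  have hdN : topologicalKrullDim ↥(Curv2.normalization Ci) = 1 := by
    refine le_antisymm ?_ (hCi.ge.trans
      (Groth.AlgSpBasic.topologicalKrullDim_le_of_integral_surjective ν))
    exact (Groth.AlgSpBasic.topologicalKrullDim_le_of_strictMono ν
      (Groth.AlgSpBasic.strictMono_of_integral ν)).trans hCi.le
  haveI : LocallyOfFiniteType (Curv2.normalization Ci ↘ Spec (CommRingCat.of k)) := inferInstance
  haveI : IsLocallyNoetherian (Curv2.normalization Ci) :=
    LocallyOfFiniteType.isLocallyNoetherian (Curv2.normalization Ci ↘ Spec (CommRingCat.of k))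
  haveI : Smooth (B ↘ Spec (CommRingCat.of k)) := Groth.CurveBridge.smooth_of_regular k B hBreg
  haveI : Smooth (Curv2.normalization Ci ↘ Spec (CommRingCat.of k)) :=
    Groth.CurveBridge.smooth_of_regular k _ (regular_of_normal_curve hNn hdN.le)
  haveI := geomConn_of_isAlgClosed k B
  haveI := geomConn_of_isAlgClosed k (Curv2.normalization Ci)
  refine le_trans ?_ h1
  exact Groth.Agent.S7811.result k (Curv2.normalization Ci ↘ Spec (CommRingCat.of k))
    (B ↘ Spec (CommRingCat.of k)) hdN hB (ν ≫ g) (by rw [Category.assoc, hg]; rfl)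


/-- Let k be an algebraically closed field, C and B proper curves over k (proper k-schemes of dimension
one) with B connected and regular (all local rings regular), φ : C → B a k-morphism, and ι : C_i → C
a closed integral one-dimensional subscheme (an integral component) such that the composite C_i → B
is finite. Then dim_k H^1(C, O_C) ≥ dim_k H^1(C_i, O_{C_i}) ≥ dim_k H^1(B, O_B). -/
theorem result (k : Type u) [Field k] [IsAlgClosed k]
    (C B Ci : Scheme.{u}) [C.Over (Spec (CommRingCat.of k))] [B.Over (Spec (CommRingCat.of k))] [Ci.Over (Spec (CommRingCat.of k))]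
    [IsProper (C ↘ Spec (CommRingCat.of k))] [IsProper (B ↘ Spec (CommRingCat.of k))]
    (hC : topologicalKrullDim ↥C = 1) (hB : topologicalKrullDim ↥B = 1) [ConnectedSpace ↥B]
    (hBreg : ∀ b : B, IsRegularLocalRing (B.presheaf.stalk b))
    (φ : C ⟶ B) (hφ : φ ≫ (B ↘ Spec (CommRingCat.of k)) = C ↘ Spec (CommRingCat.of k))
    (ι : Ci ⟶ C) [IsClosedImmersion ι] [IsIntegral Ci] (hCi : topologicalKrullDim ↥Ci = 1)
    (hι : ι ≫ (C ↘ Spec (CommRingCat.of k)) = Ci ↘ Spec (CommRingCat.of k)) [IsFinite (ι ≫ φ)] :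
    Module.finrank k (Coh.HH Ci (Coh.structureModule Ci) 1) ≤ Module.finrank k (Coh.HH C (Coh.structureModule C) 1) ∧
      Module.finrank k (Coh.HH B (Coh.structureModule B) 1) ≤ Module.finrank k (Coh.HH Ci (Coh.structureModule Ci) 1) := by
  classical
  haveI : IsProper (Ci ↘ Spec (CommRingCat.of k)) := by rw [← hι]; infer_instance
  refine ⟨?_, ?_⟩
  · exact Groth.EulerDeg.genus_le_of_isFinite k hC.le ι hι ⊤ (by simp)
  · exact genus_le_of_finite k B Ci hB hBreg hCi (ι ≫ φ) (by rw [Category.assoc, hφ, hι])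

end Groth.Agent.S14835
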