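import Groth.Statements.S14836
import Groth.Agent.PicAux.PushPull

set_option autoImplicit false
universe u
open CategoryTheory CategoryTheory.Limits AlgebraicGeometry
open Formal2

namespace Groth.Agent.S14836

/-- Let k be a field and f : X → Y a k-morphism between proper k-schemes which is a fibration, i.e. O_Y
→ f_*O_X is an isomorphism (Γ(V, O_Y) → Γ(f⁻¹V, O_X) bijective for every open V ⊆ Y). Then N ↦ f^*N
is injective on Picard groups: every invertible O_Y-module whose pullback to X is trivial is
trivial. -/
theorem result (k : Type u) [Field k] (X Y : Scheme.{u})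
    [X.Over (Spec (CommRingCat.of k))] [Y.Over (Spec (CommRingCat.of k))] [IsProper (X ↘ Spec (CommRingCat.of k))] [IsProper (Y ↘ Spec (CommRingCat.of k))]
    (f : X ⟶ Y) (hf : f ≫ (Y ↘ Spec (CommRingCat.of k)) = X ↘ Spec (CommRingCat.of k)) (hfib : ∀ V : Y.Opens, IsIso (f.app V)) :
    Formal2.PicPullbackInjective f := by
  intro L hL ⟨e⟩
  have hf' : ∀ U : Y.Opens, Function.Bijective (f.app U) := fun U =>
    haveI := hfib U
    ConcreteCategory.bijective_of_isIso (f.app U)
  have hO : PicF.IsInvertible (Coh.structureModule Y) :=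
    Groth.PicAux.isInvertible_of_gen_cover (fun _ : Unit => (⊤ : Y.Opens)) (by simp) _
      fun _ => Groth.PicAux.gen_oneSec ⊤
  haveI := Groth.PicAux.isIso_unit_of_invertible f hf' hL
  haveI := Groth.PicAux.isIso_unit_of_invertible f hf' hO
  exact ⟨asIso ((Scheme.Modules.pullbackPushforwardAdjunction f).unit.app L) ≪≫
    (Scheme.Modules.pushforward f).mapIso
      (e ≪≫ (@asIso _ _ _ _ (Groth.PicAux.pullUnit f) (Groth.PicAux.isIso_pullUnit f)).symm) ≪≫
    (asIso ((Scheme.Modules.pullbackPushforwardAdjunction f).unit.app (Coh.structureModule Y))).symm⟩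

end Groth.Agent.S14836
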