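import Groth.Statements.S1484
import Mathlib.RingTheory.Algebraic.Basic
import Mathlib.RingTheory.Algebraic.Integral
import Mathlib.RingTheory.LocalRing.ResidueField.Ideal
import Mathlib.RingTheory.Ideal.Operations

set_option autoImplicit false
universe u
open FlatMor

namespace Groth.Agent.S1484

/-- Let R be a ring, p_1, …, p_r primes of R none of which is contained in another, k_i ⊆ κ(p_i)
subfields over which κ(p_i) is not algebraic, and J an ideal of R contained in none of the p_i. Then
some x ∈ J has image in κ(p_i) transcendental over k_i for every i. -/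
theorem result {R : Type u} [CommRing R] {r : ℕ} (p : Fin r → Ideal R) [∀ i, (p i).IsPrime]
    (hp : ∀ i j, i ≠ j → ¬ p i ≤ p j) (k : ∀ i, Subfield (p i).ResidueField)
    (hk : ∀ i, ¬ Algebra.IsAlgebraic ↥(k i) (p i).ResidueField) (J : Ideal R) (hJ : ∀ i, ¬ J ≤ p i) :
    ∃ x ∈ J, ∀ i, Transcendental ↥(k i) (algebraMap R (p i).ResidueField x) := by
  classical
  have key : ∀ i, ∃ y ∈ J, (∀ j, j ≠ i → y ∈ p j) ∧
      Transcendental ↥(k i) (algebraMap R (p i).ResidueField y) := by
    intro i
    let I : Ideal R := J ⊓ ⨅ j ∈ ({i}ᶜ : Set (Fin r)).toFinset, p j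
    have hI : ¬ I ≤ p i := by
      intro h
      rcases (Ideal.IsPrime.inf_le (inferInstance : (p i).IsPrime)).mp h with h | h
      · exact hJ i h
      · rw [← Finset.inf_eq_iInf] at h
        obtain ⟨j, hj, hle⟩ := (Ideal.IsPrime.inf_le' (inferInstance : (p i).IsPrime)).mp h
        exact hp j i (by simpa using hj) hle
    by_contra! hc
    have halg : ∀ y ∈ I, IsAlgebraic ↥(k i) (algebraMap R (p i).ResidueField y) := by
      intro y hy
      simp only [I, Ideal.mem_inf, Ideal.mem_iInf] at hy
      by_contra h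
      exact hc y hy.1 (fun j hj => hy.2 j (by simpa using hj)) h
    obtain ⟨a, haI, hap⟩ := SetLike.not_le_iff_exists.mp hI
    have ha : algebraMap R (p i).ResidueField a ≠ 0 := fun h => hap (Ideal.algebraMap_residueField_eq_zero.mp h)
    have hR : ∀ z : R, IsAlgebraic ↥(k i) (algebraMap R (p i).ResidueField z) := by
      intro z
      have h1 := halg (z * a) (I.mul_mem_left z haI)
      rw [map_mul] at h1
      have h2 := h1.mul (halg a haI).inv
      rwa [mul_inv_cancel_right₀ ha] at h2
    refine hk i ⟨fun w => ?_⟩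
    obtain ⟨x, y, hy, rfl⟩ := IsFractionRing.div_surjective (R ⧸ p i) w
    obtain ⟨x, rfl⟩ := Ideal.Quotient.mk_surjective x
    obtain ⟨y, rfl⟩ := Ideal.Quotient.mk_surjective y
    rw [div_eq_mul_inv]
    exact (hR x).mul (hR y).inv
  choose y hy1 hy2 hy3 using key
  refine ⟨∑ i, y i, J.sum_mem (fun i _ => hy1 i), fun i => ?_⟩
  rw [map_sum, Finset.sum_eq_single i (fun j _ hj => Ideal.algebraMap_residueField_eq_zero.mpr (hy2 j i hj.symm))
    (by simp)]
  exact hy3 i

end Groth.Agent.S1484
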