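import Groth.Statements.S14840
import Groth.Agent.AlgGrp2.EqLocus

set_option autoImplicit false
open CategoryTheory MonoidalCategory CartesianMonoidalCategory AlgebraicGeometry
universe u
open AlgGrp

namespace Groth.Agent.S14840

/-- Let G be a group scheme over a scheme S, affine over S and with structure sheaf locally free over
O_S (each point of S has an affine open neighbourhood U such that the sections of O_G over the
preimage of U form a free module over the sections of O_S over U), acting on an S-scheme Y which is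
separated over S. Then the subfunctor of G-fixed points of Y is a closed subfunctor: there are an
S-scheme Z and a closed immersion i : Z → Y over S such that a T-valued point y of Y factors through
i exactly when it is fixed, i.e. g · y = y for every S-scheme T' over T and every T'-valued point g
of G. -/
theorem result
    {S : Scheme.{u}} (G Y : Over S) [GrpObj G] (a : AlgGrp.Action G Y)
    [IsAffineHom G.hom] [IsSeparated Y.hom]
    (hfree : ∀ s : S, ∃ U : S.affineOpens, s ∈ (U : S.Opens) ∧
      @Module.Free Γ(S, U) Γ(G.left, G.hom ⁻¹ᵁ U) _ _ (G.hom.app U).hom.toAlgebra.toModule) :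
    ∃ (Z : Over S) (i : Z ⟶ Y), IsClosedImmersion i.left ∧
      ∀ (T : Over S) (y : T ⟶ Y),
        (∀ (T' : Over S) (t : T' ⟶ T) (g : T' ⟶ G), lift g (t ≫ y) ≫ a.act = t ≫ y) ↔
          ∃ z : T ⟶ Z, z ≫ i = y := by
  obtain ⟨Z, i, hi, hZ⟩ := Groth.AlgGrp2.exists_closed_equalizer a.act
    (CartesianMonoidalCategory.snd G Y) fun x => by
    obtain ⟨U0, hxU0, hf⟩ := hfree (Y.hom x)
    obtain ⟨_, ⟨U, hU, rfl⟩, hxU, hle⟩ :=
      Y.left.isBasis_affineOpens.exists_subset_of_mem_open
        (show x ∈ ((Y.hom ⁻¹ᵁ U0.1 : Y.left.Opens) : Set Y.left) from hxU0) (Y.hom ⁻¹ᵁ U0.1).2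
    refine ⟨U0, ⟨U, hU⟩, hxU, hle, fun y hy =>
      ⟨⟨G.hom ⁻¹ᵁ U0.1, U0.2.preimage G.hom⟩, le_rfl, ⊤, hy, ?_, inferInstance, le_inf le_top le_top⟩⟩
    rw [Scheme.Hom.app_eq_appLE] at hf
    letI := (G.hom.appLE U0.1 (G.hom ⁻¹ᵁ U0.1) le_rfl).hom.toAlgebra
    haveI := hf
    exact Module.Projective.of_free
  refine ⟨Z, i, hi, fun T y => Iff.trans ⟨fun h => ?_, fun h T' t g => ?_⟩ (hZ T y)⟩
  · have := h (G ⊗ T) (CartesianMonoidalCategory.snd G T) (CartesianMonoidalCategory.fst G T)
    rw [whiskerLeft_snd]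
    exact (congrArg (· ≫ a.act) (by ext <;> simp)).trans this
  · have := congrArg (lift g t ≫ ·) h
    simpa [lift_whiskerLeft_assoc, ← Category.assoc] using this

end Groth.Agent.S14840
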