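import Groth.Statements.S14841
import Groth.Agent.Hopf.Regular

set_option autoImplicit false
universe u v w
open HopfRep

namespace Groth.Agent.S14841

open TensorProduct in
/-- Over a field K, let C be a coalgebra and E a simple right C-comodule, and let D be the coefficient
space of E, the least subspace D' of C such that the coaction of E lands in E ⊗ D'. Then D is a
simple subcoalgebra of C: it is nonzero, its comultiplication lands in the image of D ⊗ D, and any
subcoalgebra of C contained in D is 0 or D. Here a subcoalgebra of C is a subspace B whose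
comultiplication lands in the image of B ⊗ B, and a simple subcoalgebra is a nonzero subcoalgebra D
whose only subcoalgebras contained in D are 0 and D. (Stated for right comodules; the published
statement is for left comodules, with D' ⊗ E in place of E ⊗ D'.) -/
theorem result {K : Type u} {C : Type v} [Field K]
    [AddCommGroup C] [Module K C] [Coalgebra K C]
    {E : Type w} [AddCommGroup E] [Module K E] [HopfRep.Comod K C E]
    (hE : HopfRep.IsSimpleComod K C E) (D : Submodule K C)
    (hD : IsLeast {D' : Submodule K C |
      ∀ e : E, HopfRep.Comod.coact (k := K) (A := C) e ∈ LinearMap.range (LinearMap.lTensor E D'.subtype)} D) :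
    D ≠ ⊥ ∧ (∀ b ∈ D, CoalgebraStruct.comul (R := K) b ∈ LinearMap.range (TensorProduct.map D.subtype D.subtype)) ∧
      ∀ B : Submodule K C, B ≤ D → (∀ b ∈ B, CoalgebraStruct.comul (R := K) b ∈ LinearMap.range (TensorProduct.map B.subtype B.subtype)) → B = ⊥ ∨ B = D := by
  have hDc : D = ComodLib.coeff K C E := hD.unique ComodLib.isLeast_coeff
  subst hDc
  refine ⟨?_, ComodLib.isSubcoalg_coeff, fun B hB hBc => ?_⟩
  · intro e
    have := hE.1
    obtain ⟨x, hx⟩ := exists_ne (0 : E)
    have h0 : HopfRep.Comod.coact (k := K) (A := C) x = 0 := ComodLib.eq_zero_of_lslice fun ψ =>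
      (Submodule.mem_bot K).1 (e ▸ ComodLib.cf_mem_coeff ψ x)
    exact hx (by rw [← ComodLib.op_counit (k := K) (A := C) x, ComodLib.op_apply, h0, map_zero])
  · by_cases h0 : B = ⊥
    · exact Or.inl h0
    refine Or.inr (le_antisymm hB ?_)
    obtain ⟨T, hT, hTle, hTs, -⟩ := ComodLib.exists_simpleSub_le (k := K) (A := C)
      (ComodLib.IsSubcoalg.isSubcomod hBc) h0
    let c : HopfRep.Comod K C C := inferInstance
    let := ComodSub.Comod.restr c T hT
    have hsub : Hoch.IsComodHom C T.subtype := ComodSub.isComodHom_subtype c T hT
    obtain ⟨_, e, he⟩ := ComodLib.exists_iso_of_le_sum (ι := E →ₗ[K] K) (K := fun _ => E) (fun _ => hE)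
      (fun ψ => ComodLib.cf (A := C) ψ) (fun ψ => ComodLib.isComodHom_cf ψ)
      (ComodLib.isSimpleComod_restr c T hT hTs) T.subtype hsub
      (by rw [Submodule.range_subtype]; exact hTle.trans hB)
      (fun e => hTs.1 (by rw [← Submodule.range_subtype T, e, LinearMap.range_zero]))
    rw [← ComodLib.coeff_eq_of_iso he]
    exact ComodLib.coeff_le_of_range_le hBc hsub T.subtype_injective (by rw [Submodule.range_subtype]; exact hTle)

end Groth.Agent.S14841
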