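import Groth.Statements.S14842
import Groth.Agent.Hopf.Regular

set_option autoImplicit false
universe u v
open HopfRep

namespace Groth.Agent.S14842

open TensorProduct in
/-- Over a field K, every simple subcoalgebra D of a coalgebra C is the coefficient space of a simple
comodule. Precisely: there is a subspace E of C contained in D which is a simple subcomodule of the
regular right comodule C (E is nonzero, stable under the coaction, and its only subcomodules are 0
and E) and such that D is the least subspace D' of C with comul(E) inside the image of E ⊗ D'. Here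
a subcoalgebra of C is a subspace B whose comultiplication lands in the image of B ⊗ B, and a simple
subcoalgebra is a nonzero subcoalgebra D whose only subcoalgebras contained in D are 0 and D.
(Stated for right comodules; the published statement is for left comodules.) -/
theorem result {K : Type u} {C : Type v} [Field K]
    [AddCommGroup C] [Module K C] [Coalgebra K C]
    (D : Submodule K C) (hD0 : D ≠ ⊥) (hD : (∀ b ∈ D, CoalgebraStruct.comul (R := K) b ∈ LinearMap.range (TensorProduct.map D.subtype D.subtype)))
    (hDs : ∀ B : Submodule K C, B ≤ D → (∀ b ∈ B, CoalgebraStruct.comul (R := K) b ∈ LinearMap.range (TensorProduct.map B.subtype B.subtype)) → B = ⊥ ∨ B = D) :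
    ∃ E : Submodule K C, E ≤ D ∧ E ≠ ⊥ ∧ HopfRep.IsSubcomod (k := K) (A := C) E ∧
      (∀ E' : Submodule K C, E' ≤ E → HopfRep.IsSubcomod (k := K) (A := C) E' → E' = ⊥ ∨ E' = E) ∧
      IsLeast {D' : Submodule K C |
        ∀ e ∈ E, CoalgebraStruct.comul (R := K) e ∈ LinearMap.range (TensorProduct.map E.subtype D'.subtype)} D := by
  obtain ⟨T, hT, hTle, hTs, -⟩ := ComodLib.exists_simpleSub_le (k := K) (A := C)
    (ComodLib.IsSubcoalg.isSubcomod hD) hD0
  let c : HopfRep.Comod K C C := inferInstance
  let := ComodSub.Comod.restr c T hT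
  have hsub : Hoch.IsComodHom C T.subtype := ComodSub.isComodHom_subtype c T hT
  refine ⟨T, hTle, hTs.1, hT, fun E' h1 h2 => hTs.2 E' h2 h1, ?_⟩
  have hle : ComodLib.coeff K C T ≤ D := ComodLib.coeff_le_of_range_le hD hsub T.subtype_injective
    (by rw [Submodule.range_subtype]; exact hTle)
  have hT' : T ≤ ComodLib.coeff K C T := by
    simpa using ComodLib.range_le_coeff hsub
  have heq : ComodLib.coeff K C T = D := (hDs _ hle ComodLib.isSubcoalg_coeff).resolve_left fun e =>
    hTs.1 (le_bot_iff.1 (e ▸ hT'))
  have hiff : ∀ (D' : Submodule K C) (x : T),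
      CoalgebraStruct.comul (R := K) (x : C) ∈ LinearMap.range (TensorProduct.map T.subtype D'.subtype) ↔
      HopfRep.Comod.coact (k := K) (A := C) x ∈ LinearMap.range (LinearMap.lTensor T D'.subtype) := by
    intro D' x
    have h := LinearMap.congr_fun hsub x
    simp only [LinearMap.comp_apply, Submodule.coe_subtype] at h
    change HopfRep.Comod.coact (k := K) (A := C) (x : C) ∈ _ ↔ _
    rw [h, ← LinearMap.rTensor_comp_lTensor, LinearMap.range_comp]
    exact ⟨fun ⟨y, hy, he⟩ => (Module.Flat.rTensor_preserves_injective_linearMap _ T.subtype_injective he) ▸ hy,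
      fun hy => ⟨_, hy, rfl⟩⟩
  subst heq
  exact ⟨fun e he => (hiff _ ⟨e, he⟩).2 ((ComodLib.coeff_le_iff _).1 le_rfl _),
    fun D' hD' => (ComodLib.coeff_le_iff D').2 fun x => (hiff D' x).1 (hD' x.1 x.2)⟩

end Groth.Agent.S14842
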