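import Groth.Statements.S14843
import Groth.Agent.Hopf.Regular

set_option autoImplicit false
universe u v
open HopfRep

namespace Groth.Agent.S14843

open TensorProduct in
/-- Over a field K, a coalgebra C is cosemisimple, i.e. C is the internal direct sum of a family of
simple subcoalgebras, if and only if every right C-comodule is completely reducible (every
subcomodule admits a complementary subcomodule). Here a subcoalgebra of C is a subspace B whose
comultiplication lands in the image of B ⊗ B, and a simple subcoalgebra is a nonzero subcoalgebra D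
whose only subcoalgebras contained in D are 0 and D. (Comodules are quantified in the universe of C;
the published statement is for left comodules, and the equivalence of 'direct sum of simple
subcomodules' with 'every subcomodule is a direct summand' is the standard one.) -/
theorem result {K : Type u} {C : Type v} [Field K]
    [AddCommGroup C] [Module K C] [Coalgebra K C] :
    (∃ (ι : Type v) (D : ι → Submodule K C), iSupIndep D ∧ iSup D = ⊤ ∧ ∀ i,
        D i ≠ ⊥ ∧ (∀ b ∈ D i, CoalgebraStruct.comul (R := K) b ∈ LinearMap.range (TensorProduct.map (D i).subtype (D i).subtype)) ∧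
        ∀ B : Submodule K C, B ≤ D i → (∀ b ∈ B, CoalgebraStruct.comul (R := K) b ∈ LinearMap.range (TensorProduct.map B.subtype B.subtype)) → B = ⊥ ∨ B = D i) ↔
      ∀ (V : Type v) [AddCommGroup V] [Module K V] [HopfRep.Comod K C V],
        HopfRep.IsSemisimpleComod K C V := by
  constructor
  · rintro ⟨ι, D, -, hsum, hD⟩ V _ _ _
    refine ComodLib.isSemisimpleComod_of_regular ?_
    let c : HopfRep.Comod K C C := inferInstance
    let T := {T : Submodule K C // HopfRep.IsSubcomod (k := K) (A := C) T ∧ ComodLib.IsSimpleSub C T}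
    refine ComodLib.isSemisimpleComod_of_sum_simple (fun T : T => T.1) (fun T => T.2.1) (fun T => T.2.2) ?_
    refine top_le_iff.1 (hsum ▸ iSup_le fun i => ?_)
    obtain ⟨E, hE, hEle, hEs, -⟩ := ComodLib.exists_simpleSub_le (k := K) (A := C)
      (ComodLib.IsSubcoalg.isSubcomod (hD i).2.1) (hD i).1
    let := ComodSub.Comod.restr c E hE
    have hsim := ComodLib.isSimpleComod_restr c E hE hEs
    have hsub : Hoch.IsComodHom C E.subtype := ComodSub.isComodHom_subtype c E hE
    have hle : ComodLib.coeff K C E ≤ D i := ComodLib.coeff_le_of_range_le (hD i).2.1 hsub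
      E.subtype_injective (by rw [Submodule.range_subtype]; exact hEle)
    have heq : ComodLib.coeff K C E = D i := ((hD i).2.2 _ hle ComodLib.isSubcoalg_coeff).resolve_left
      fun e => hEs.1 (le_bot_iff.1 (e ▸ (by simpa using ComodLib.range_le_coeff hsub : E ≤ ComodLib.coeff K C E)))
    rw [← heq]
    refine iSup_le fun ψ => ?_
    rcases hsim.2 _ (ComodLib.isSubcomod_ker (ComodLib.isComodHom_cf ψ)) with e | e
    · exact le_iSup_of_le (⟨_, ComodLib.isSubcomod_range (ComodLib.isComodHom_cf ψ),
        (ComodLib.isSimpleSub_range_iff (ComodLib.isComodHom_cf ψ) (LinearMap.ker_eq_bot.1 e)).2 hsim⟩ : T) le_rfl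
    · rw [LinearMap.range_eq_bot.2 (LinearMap.ker_eq_top.1 e)]
      exact bot_le
  · intro h
    classical
    let c : HopfRep.Comod K C C := inferInstance
    let S := {D : Submodule K C // D ≠ ⊥ ∧ ComodLib.IsSubcoalg K D ∧
      ∀ B : Submodule K C, B ≤ D → ComodLib.IsSubcoalg K B → B = ⊥ ∨ B = D}
    obtain ⟨ι, W, -, hsum, hW⟩ := ComodLib.exists_decomposition C (h C)
    have hcoef : ∀ (T : Submodule K C) (hT : HopfRep.IsSubcomod (k := K) (A := C) T),
        ComodLib.IsSimpleSub C T →
        T ≤ @ComodLib.coeff K _ C _ _ _ T _ _ (ComodSub.Comod.restr c T hT) ∧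
        ∀ B, B ≤ @ComodLib.coeff K _ C _ _ _ T _ _ (ComodSub.Comod.restr c T hT) →
          ComodLib.IsSubcoalg K B → B = ⊥ ∨ B = @ComodLib.coeff K _ C _ _ _ T _ _ (ComodSub.Comod.restr c T hT) := by
      intro T hT hTs
      let := ComodSub.Comod.restr c T hT
      refine ⟨by simpa using ComodLib.range_le_coeff (V := T) (f := T.subtype) (ComodSub.isComodHom_subtype c T hT),
        fun B hB hBc => ?_⟩
      by_cases h0 : B = ⊥
      · exact Or.inl h0
      refine Or.inr (le_antisymm hB ?_)
      obtain ⟨T', hT', hT'le, hT's, -⟩ := ComodLib.exists_simpleSub_le (k := K) (A := C)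
        (ComodLib.IsSubcoalg.isSubcomod hBc) h0
      let := ComodSub.Comod.restr c T' hT'
      have hsub : Hoch.IsComodHom C T'.subtype := ComodSub.isComodHom_subtype c T' hT'
      obtain ⟨_, e, he⟩ := ComodLib.exists_iso_of_le_sum (ι := T →ₗ[K] K) (K := fun _ => T)
        (fun _ => ComodLib.isSimpleComod_restr c T hT hTs)
        (fun ψ => ComodLib.cf (A := C) ψ) (fun ψ => ComodLib.isComodHom_cf ψ)
        (ComodLib.isSimpleComod_restr c T' hT' hT's) T'.subtype hsub
        (by rw [Submodule.range_subtype]; exact hT'le.trans hB)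
        (fun e => hT's.1 (by rw [← Submodule.range_subtype T', e, LinearMap.range_zero]))
      rw [← ComodLib.coeff_eq_of_iso he]
      exact ComodLib.coeff_le_of_range_le hBc hsub T'.subtype_injective (by rw [Submodule.range_subtype]; exact hT'le)
    refine ⟨S, fun D => D.1, ?_, top_le_iff.1 (hsum ▸ iSup_le fun j => ?_), fun D => D.2⟩
    · rw [iSupIndep_def]
      intro D
      rw [disjoint_iff]
      by_contra hne
      obtain ⟨T, hT, hTle, hTs, -⟩ := ComodLib.exists_simpleSub_le (k := K) (A := C)
        (ComodLib.isSubcomod_inf (ComodLib.IsSubcoalg.isSubcomod D.2.2.1)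
          (ComodLib.isSubcomod_iSup _ fun D' : S => ComodLib.isSubcomod_iSup _ fun _ =>
            ComodLib.IsSubcoalg.isSubcomod D'.2.2.1)) hne
      let := ComodSub.Comod.restr c T hT
      have hsub : Hoch.IsComodHom C T.subtype := ComodSub.isComodHom_subtype c T hT
      have hTC : ∀ B, ComodLib.IsSubcoalg K B → T ≤ B → ComodLib.coeff K C T ≤ B := fun B hB hle =>
        ComodLib.coeff_le_of_range_le hB hsub T.subtype_injective (by rw [Submodule.range_subtype]; exact hle)
      have hne' : ComodLib.coeff K C T ≠ ⊥ := fun e => hTs.1 (le_bot_iff.1 (e ▸ (hcoef T hT hTs).1))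
      have hD : ComodLib.coeff K C T = D.1 :=
        (D.2.2.2 _ (hTC _ D.2.2.1 (hTle.trans inf_le_left)) ComodLib.isSubcoalg_coeff).resolve_left hne'
      let ι' := Σ j : ι, {f : (W j) →ₗ[K] C // @Hoch.IsComodHom K _ C _ _ _ (W j) _ _ (ComodSub.Comod.restr c (W j) (hW j).1) C _ _ c f}
      -- every other summand is a sum of images of simple comodules
      have hsupp : ∀ D' : S, (D' : Submodule K C) ≤ ⨆ U : {U : Submodule K C // HopfRep.IsSubcomod (k := K) (A := C) U ∧
          ComodLib.IsSimpleSub C U ∧ U ≤ D'.1}, U.1 := by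
        intro D'
        let := ComodSub.Comod.restr c D'.1 (ComodLib.IsSubcoalg.isSubcomod D'.2.2.1)
        have hs : Hoch.IsComodHom C D'.1.subtype := ComodSub.isComodHom_subtype c _ (ComodLib.IsSubcoalg.isSubcomod D'.2.2.1)
        obtain ⟨ι₂, U, -, hU, hUs⟩ := ComodLib.exists_decomposition C
          (ComodLib.isSemisimpleComod_of_injective hs D'.1.subtype_injective (h C))
        have := congrArg (Submodule.map D'.1.subtype) hU
        rw [Submodule.map_iSup, Submodule.map_subtype_top] at this
        refine this.symm.le.trans (iSup_le fun l => ?_)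
        refine le_iSup_of_le ⟨(U l).map D'.1.subtype, ComodLib.isSubcomod_map hs (hUs l).1, ⟨?_, fun U' hU' hle => ?_⟩,
          Submodule.map_subtype_le _ _⟩ le_rfl
        · exact fun e => (hUs l).2.1 (Submodule.map_injective_of_injective D'.1.subtype_injective
            (e.trans (Submodule.map_bot _).symm))
        · have hm : (U'.comap D'.1.subtype).map D'.1.subtype = U' :=
            Submodule.map_comap_eq_of_le (hle.trans LinearMap.map_le_range)
          rcases (hUs l).2.2 _ (ComodLib.isSubcomod_comap hs hU') (fun x hx => by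
            obtain ⟨y, hy, e⟩ := hle hx
            exact (D'.1.subtype_injective e) ▸ hy) with e | e
          · left; rw [← hm, e, Submodule.map_bot]
          · right; rw [← hm, e]
      let ι₃ := Σ D' : {D' : S // D' ≠ D}, {U : Submodule K C // HopfRep.IsSubcomod (k := K) (A := C) U ∧
          ComodLib.IsSimpleSub C U ∧ U ≤ D'.1.1}
      let inst : ∀ p : ι₃, HopfRep.Comod K C p.2.1 := fun p => ComodSub.Comod.restr c p.2.1 p.2.2.1
      obtain ⟨⟨⟨D', hD'⟩, U, hU, hUs, hUle⟩, e, he⟩ := @ComodLib.exists_iso_of_le_sum K _ C _ _ _ C _ _ c ι₃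
        (fun p => ↥p.2.1) _ _ inst T _ _ (ComodSub.Comod.restr c T hT)
        (fun p => ComodLib.isSimpleComod_restr c p.2.1 p.2.2.1 p.2.2.2.1)
        (fun p => p.2.1.subtype) (fun p => ComodSub.isComodHom_subtype c p.2.1 p.2.2.1)
        (ComodLib.isSimpleComod_restr c T hT hTs) T.subtype hsub (by
          rw [Submodule.range_subtype]
          refine (hTle.trans inf_le_right).trans (iSup₂_le fun D' hD' => (hsupp D').trans (iSup_le fun U => ?_))
          exact le_iSup_of_le (⟨⟨D', hD'⟩, U⟩ : ι₃) (by rw [Submodule.range_subtype]))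
        (fun e => hTs.1 (by rw [← Submodule.range_subtype T, e, LinearMap.range_zero]))
      let := ComodSub.Comod.restr c U hU
      have hle' : ComodLib.coeff K C T ≤ D'.1 := ComodLib.coeff_eq_of_iso he ▸
        ComodLib.coeff_le_of_range_le D'.2.2.1 (ComodSub.isComodHom_subtype c U hU) U.subtype_injective
          (by rw [Submodule.range_subtype]; exact hUle)
      exact hD' (Subtype.ext (((D'.2.2.2 _ hle' ComodLib.isSubcoalg_coeff).resolve_left hne').symm.trans hD))
    · let := ComodSub.Comod.restr c (W j) (hW j).1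
      exact le_iSup_of_le (⟨ComodLib.coeff K C (W j),
        fun e => (hW j).2.1 (le_bot_iff.1 (e ▸ (hcoef _ (hW j).1 (hW j).2).1)),
        ComodLib.isSubcoalg_coeff, (hcoef _ (hW j).1 (hW j).2).2⟩ : S) (hcoef _ (hW j).1 (hW j).2).1

end Groth.Agent.S14843
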