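import Groth.Statements.S14844
import Groth.Agent.Hopf.Regular

set_option autoImplicit false
universe u v w w'
open HopfRep

namespace Groth.Agent.S14844

open TensorProduct in
/-- Let R be a commutative ring and C an R-coalgebra, flat over R, which is the internal direct sum of
subcoalgebras D_i (submodules whose comultiplication lands in the image of D_i ⊗ D_i, independent
and with supremum C). Then every right C-comodule V is the internal direct sum of the subcomodules
V_i, where V_i is the preimage under the coaction of the image of V ⊗ D_i in V ⊗ C, and the coaction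
maps V_i into the image of V_i ⊗ D_i, so that the comodule structure of V_i reduces to a
D_i-comodule structure. (The published statement is for a flat sheaf of coalgebras over a base
scheme and left comodules on a scheme over it; this row is the case of an affine base with modules
of global sections, for right comodules.) -/
theorem result {R : Type u} {C : Type v} [CommRing R]
    [AddCommGroup C] [Module R C] [Coalgebra R C] [Module.Flat R C]
    {ι : Type w} (D : ι → Submodule R C)
    (hD : ∀ i, ∀ d ∈ D i, CoalgebraStruct.comul (R := R) d ∈
      LinearMap.range (TensorProduct.map (D i).subtype (D i).subtype))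
    (hind : iSupIndep D) (htop : iSup D = ⊤)
    {V : Type w'} [AddCommGroup V] [Module R V] [HopfRep.Comod R C V] :
    (∀ i, HopfRep.IsSubcomod (k := R) (A := C) ((LinearMap.range (LinearMap.lTensor V (D i).subtype)).comap
        (HopfRep.Comod.coact (k := R) (A := C) (V := V)))) ∧
    iSupIndep (fun i => ((LinearMap.range (LinearMap.lTensor V (D i).subtype)).comap
        (HopfRep.Comod.coact (k := R) (A := C) (V := V)))) ∧
    (⨆ i, ((LinearMap.range (LinearMap.lTensor V (D i).subtype)).comap
        (HopfRep.Comod.coact (k := R) (A := C) (V := V)))) = ⊤ ∧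
    ∀ i, ∀ v ∈ ((LinearMap.range (LinearMap.lTensor V (D i).subtype)).comap
        (HopfRep.Comod.coact (k := R) (A := C) (V := V))),
      HopfRep.Comod.coact (k := R) (A := C) v ∈
        LinearMap.range (TensorProduct.map ((LinearMap.range (LinearMap.lTensor V (D i).subtype)).comap
        (HopfRep.Comod.coact (k := R) (A := C) (V := V))).subtype (D i).subtype) := by
  classical
  have hint : DirectSum.IsInternal D := DirectSum.isInternal_submodule_of_iSupIndep_of_iSup_eq_top hind htop
  let π : ι → C →ₗ[R] C := fun i => (D i).subtype ∘ₗ DirectSum.component R ι (fun j => D j) i ∘ₗ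
    (LinearEquiv.ofBijective (DirectSum.coeLinearMap D) hint).symm.toLinearMap
  have hπmem : ∀ i c, π i c ∈ D i := fun i c => Submodule.coe_mem _
  have hπ : ∀ i j, ∀ d ∈ D j, π i d = if j = i then d else 0 := by
    intro i j d hd
    have : (LinearEquiv.ofBijective (DirectSum.coeLinearMap D) hint).symm d =
        DirectSum.lof R ι (fun j => D j) j ⟨d, hd⟩ := by
      rw [LinearEquiv.symm_apply_eq]
      exact (DirectSum.coeLinearMap_of D j (⟨d, hd⟩ : D j)).symm
    simp only [π, LinearMap.comp_apply, LinearEquiv.coe_coe, this, DirectSum.component.of]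
    by_cases h : j = i
    · subst h; simp
    · simp [h]
  let ε : C →ₗ[R] R := Coalgebra.counit
  let e : ι → V →ₗ[R] V := fun i => ComodLib.op (ε ∘ₗ π i)
  -- the two projections of the comultiplication are the projection of the coalgebra
  have hL : ∀ i (c : C), (TensorProduct.rid R C).toLinearMap ((ε ∘ₗ π i).lTensor C (Coalgebra.comul (R := R) c)) = π i c ∧
      (TensorProduct.lid R C).toLinearMap ((ε ∘ₗ π i).rTensor C (Coalgebra.comul (R := R) c)) = π i c := by
    intro i c
    have hc : c ∈ ⨆ j, D j := htop ▸ Submodule.mem_top
    induction hc using Submodule.iSup_induction' with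
    | mem j d hd =>
      obtain ⟨z, hz⟩ := hD j d hd
      have h1 : (ε ∘ₗ π i).lTensor C (Coalgebra.comul (R := R) d) =
          if j = i then ε.lTensor C (Coalgebra.comul (R := R) d) else 0 := by
        rw [← hz]
        clear hz
        induction z using TensorProduct.induction_on with
        | zero => simp
        | tmul a b =>
          simp [hπ i j b.1 b.2]
          split <;> simp
        | add a b ha hb => simp only [map_add, ha, hb]; split <;> simp
      have h2 : (ε ∘ₗ π i).rTensor C (Coalgebra.comul (R := R) d) =
          if j = i then ε.rTensor C (Coalgebra.comul (R := R) d) else 0 := by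
        rw [← hz]
        clear hz
        induction z using TensorProduct.induction_on with
        | zero => simp
        | tmul a b =>
          simp [hπ i j a.1 a.2]
          split <;> simp
        | add a b ha hb => simp only [map_add, ha, hb]; split <;> simp
      rw [h1, h2, hπ i j d hd]
      by_cases h : j = i <;> simp [h, ε]
    | zero => simp
    | add x y _ _ hx hy => simp [map_add, hx.1, hx.2, hy.1, hy.2]
  let ρ := HopfRep.Comod.coact (k := R) (A := C) (V := V)
  have hco : ∀ v, TensorProduct.assoc R V C C (ρ.rTensor C (ρ v)) = (Coalgebra.comul (R := R)).lTensor V (ρ v) :=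
    fun v => LinearMap.congr_fun (HopfRep.Comod.coassoc (k := R) (A := C) (V := V)) v
  have hρe : ∀ i v, ρ (e i v) = (π i).lTensor V (ρ v) := by
    intro i v
    have : ρ (e i v) = ((TensorProduct.rid R C).toLinearMap ∘ₗ (ε ∘ₗ π i).lTensor C).lTensor V
        (TensorProduct.assoc R V C C (ρ.rTensor C (ρ v))) := by
      change ρ (ComodLib.slice _ (ρ v)) = _
      rw [← ComodLib.slice_rTensor]
      generalize ρ.rTensor C (ρ v) = w
      induction w using TensorProduct.induction_on with
      | zero => simp
      | tmul a b =>
        induction a using TensorProduct.induction_on with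
        | zero => simp
        | tmul p q => simp [TensorProduct.tmul_smul, TensorProduct.smul_tmul']
        | add p q hp hq => simp only [TensorProduct.add_tmul, map_add, hp, hq]
      | add p q hp hq => simp [map_add, hp, hq]
    rw [this, hco, ← LinearMap.comp_apply (f := LinearMap.lTensor V _), ← LinearMap.lTensor_comp]
    exact LinearMap.congr_fun (congrArg (LinearMap.lTensor V) (LinearMap.ext fun c => (hL i c).1)) _
  have hre : ∀ i v, (e i).rTensor C (ρ v) = (π i).lTensor V (ρ v) := by
    intro i v
    have : (e i).rTensor C (ρ v) = ((TensorProduct.lid R C).toLinearMap ∘ₗ (ε ∘ₗ π i).rTensor C).lTensor V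
        (TensorProduct.assoc R V C C (ρ.rTensor C (ρ v))) := by
      generalize ρ v = w
      induction w using TensorProduct.induction_on with
      | zero => simp
      | tmul a b =>
        simp only [LinearMap.rTensor_tmul, e, ComodLib.op_apply]
        change ComodLib.slice _ (ρ a) ⊗ₜ b = _
        induction ρ a using TensorProduct.induction_on with
        | zero => simp
        | tmul p q => simp [TensorProduct.tmul_smul, TensorProduct.smul_tmul']
        | add p q hp hq => simp only [TensorProduct.add_tmul, map_add, hp, hq]
      | add p q hp hq => simp [map_add, hp, hq]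
    rw [this, hco, ← LinearMap.comp_apply (f := LinearMap.lTensor V _), ← LinearMap.lTensor_comp]
    exact LinearMap.congr_fun (congrArg (LinearMap.lTensor V) (LinearMap.ext fun c => (hL i c).2)) _
  let Vi : ι → Submodule R V := fun i => (LinearMap.range (LinearMap.lTensor V (D i).subtype)).comap ρ
  have hmem : ∀ i v, e i v ∈ Vi i := by
    intro i v
    refine ⟨(LinearMap.codRestrict (D i) (π i) (hπmem i)).lTensor V (ρ v), ?_⟩
    rw [← LinearMap.comp_apply, ← LinearMap.lTensor_comp]
    exact (hρe i v).symm
  have hfix : ∀ i, ∀ v ∈ Vi i, ∀ j, (π j).lTensor V (ρ v) = if i = j then ρ v else 0 := by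
    rintro i v ⟨z, hz⟩ j
    rw [← hz]
    clear hz
    induction z using TensorProduct.induction_on with
    | zero => simp
    | tmul a b =>
      simp [hπ j i b.1 b.2]
      split <;> simp
    | add a b ha hb => simp only [map_add, ha, hb]; split <;> simp
  have hei : ∀ i, ∀ v ∈ Vi i, ∀ j, e j v = if i = j then v else 0 := by
    intro i v hv j
    have h := congrArg (ComodLib.slice ε) ((hρe j v).trans (hfix i v hv j))
    change ComodLib.op ε (e j v) = _ at h
    rw [ComodLib.op_counit] at h
    rw [h]
    split
    · exact ComodLib.op_counit v
    · simp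
  have hlast : ∀ i, ∀ v ∈ Vi i, ρ v ∈ LinearMap.range (TensorProduct.map (Vi i).subtype (D i).subtype) := by
    rintro i v hv
    obtain ⟨z, hz⟩ := id hv
    refine ⟨(LinearMap.codRestrict (Vi i) (e i) (hmem i)).rTensor (D i) z, ?_⟩
    have h1 : (e i).rTensor C (ρ v) = ρ v := by rw [hre, hfix i v hv i, if_pos rfl]
    conv_rhs => rw [← h1, ← hz]
    clear hz
    induction z using TensorProduct.induction_on with
    | zero => simp
    | tmul a b => simp
    | add a b ha hb => simp only [map_add, ha, hb]
  refine ⟨fun i v hv => ?_, ?_, ?_, hlast⟩
  · obtain ⟨z, hz⟩ := hlast i v hv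
    exact ⟨(D i).subtype.lTensor _ z, by
      rw [← LinearMap.comp_apply, LinearMap.rTensor_comp_lTensor]; exact hz⟩
  · change iSupIndep Vi
    rw [iSupIndep_def]
    intro i
    rw [Submodule.disjoint_def]
    intro x hx hx'
    have : e i x = 0 := by
      refine (iSup₂_le fun j hj => ?_ : (⨆ (j) (_ : j ≠ i), Vi j) ≤ LinearMap.ker (e i)) hx'
      intro y hy
      rw [LinearMap.mem_ker, hei j y hy i, if_neg hj]
    rwa [hei i x hx i, if_pos rfl] at this
  · change iSup Vi = ⊤
    refine top_le_iff.1 fun v _ => ?_
    obtain ⟨s, hs⟩ : ∃ s : Finset ι, ∑ i ∈ s, (π i).lTensor V (ρ v) = ρ v := by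
      have key : ∀ w : V ⊗[R] C, ∃ s : Finset ι, ∀ t, s ⊆ t → ∑ i ∈ t, (π i).lTensor V w = w := by
        intro w
        induction w using TensorProduct.induction_on with
        | zero => exact ⟨∅, by simp⟩
        | tmul a b =>
          have hb : b ∈ ⨆ j, D j := htop ▸ Submodule.mem_top
          have : ∃ s : Finset ι, ∀ t, s ⊆ t → ∑ i ∈ t, π i b = b := by
            induction hb using Submodule.iSup_induction' with
            | mem j d hd =>
              exact ⟨{j}, fun t ht => by
                rw [Finset.sum_congr rfl fun i _ => hπ i j d hd, Finset.sum_ite_eq, if_pos (ht (by simp))]⟩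
            | zero => exact ⟨∅, by simp⟩
            | add x y _ _ hx hy =>
              obtain ⟨s, hs⟩ := hx
              obtain ⟨t, ht⟩ := hy
              exact ⟨s ∪ t, fun u hu => by
                simp only [map_add, Finset.sum_add_distrib, hs u (Finset.union_subset_left hu),
                  ht u (Finset.union_subset_right hu)]⟩
          obtain ⟨s, hs⟩ := this
          exact ⟨s, fun t ht => by simp [LinearMap.lTensor_tmul, ← TensorProduct.tmul_sum, hs t ht]⟩
        | add x y hx hy =>
          obtain ⟨s, hs⟩ := hx
          obtain ⟨t, ht⟩ := hy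
          exact ⟨s ∪ t, fun u hu => by
            simp only [map_add, Finset.sum_add_distrib, hs u (Finset.union_subset_left hu),
              ht u (Finset.union_subset_right hu)]⟩
      obtain ⟨s, hs⟩ := key (ρ v)
      exact ⟨s, hs s subset_rfl⟩
    have hv : v = ∑ i ∈ s, e i v := by
      have h := congrArg (ComodLib.slice ε) hs
      simp only [← hρe, map_sum] at h
      simp only [ρ, ← ComodLib.op_apply, ε, ComodLib.op_counit] at h
      exact h.symm
    rw [hv]
    exact Submodule.sum_mem _ fun i _ => Submodule.mem_iSup_of_mem i (hmem i v)

end Groth.Agent.S14844
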