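import Groth.Statements.S14846
import Mathlib

set_option autoImplicit false
universe u v w
open Brauer

namespace Groth.Agent.S14846

open scoped TensorProduct

variable {K : Type u} {L : Type v} [Field K] [Field L] [Algebra K L] {A : Type w} [Ring A] [Algebra K A]

noncomputable def act (γ : L ≃ₐ[K] L) : L ⊗[K] A →ₐ[K] L ⊗[K] A :=
  Algebra.TensorProduct.map (γ : L →ₐ[K] L) (AlgHom.id K A)

theorem act_comp (γ δ : L ≃ₐ[K] L) (x : L ⊗[K] A) : act γ (act δ x) = act (δ.trans γ) x := by
  induction x using TensorProduct.induction_on with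
  | zero => simp
  | tmul a b => simp [act]
  | add a b ha hb => simp only [map_add, ha, hb]

theorem act_refl (x : L ⊗[K] A) : act (AlgEquiv.refl : L ≃ₐ[K] L) x = x := by
  induction x using TensorProduct.induction_on with
  | zero => simp
  | tmul a b => simp [act]
  | add a b ha hb => simp only [map_add, ha, hb]

theorem descent [IsGalois K L] (T : TwoSidedIdeal (L ⊗[K] A)) (hT : ∀ γ : L ≃ₐ[K] L, ∀ x ∈ T, act γ x ∈ T)
    (hne : T ≠ ⊥) : ∃ a : A, a ≠ 0 ∧ (1 : L) ⊗ₜ[K] a ∈ T := by
  classical
  let b := Module.Free.chooseBasis K A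
  let B := Algebra.TensorProduct.basis L b
  obtain ⟨x, hxT, hx0⟩ : ∃ x ∈ T, x ≠ 0 := by
    by_contra! h
    exact hne (le_antisymm (fun y hy => by rw [h y hy]; exact zero_mem _) bot_le)
  have hex : ∃ n, ∃ y ∈ T, y ≠ 0 ∧ (B.repr y).support.card = n := ⟨_, x, hxT, hx0, rfl⟩
  obtain ⟨y, hy, hy0, hcard⟩ := Nat.find_spec hex
  have hmin : ∀ z ∈ T, (B.repr z).support.card < (B.repr y).support.card → z = 0 := fun z hz hlt => by
    by_contra hz0
    exact (Nat.find_min' hex ⟨z, hz, hz0, rfl⟩).not_gt (hcard ▸ hlt)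
  obtain ⟨i, hi⟩ : (B.repr y).support.Nonempty := by
    rw [Finsupp.support_nonempty_iff]
    exact fun h => hy0 (B.repr.map_eq_zero_iff.mp h)
  rw [Finsupp.mem_support_iff] at hi
  let z := (B.repr y i)⁻¹ • y
  have hzT : z ∈ T := by
    show (B.repr y i)⁻¹ • y ∈ T
    rw [Algebra.smul_def]; exact T.mul_mem_left _ _ hy
  have hzi : B.repr z i = 1 := by simp [z, hi]
  have hzs : (B.repr z).support = (B.repr y).support := by
    simp only [z, map_smul]
    exact Finsupp.support_smul_eq (inv_ne_zero hi)
  have hrepr : ∀ (γ : L ≃ₐ[K] L) (v : L ⊗[K] A) j, B.repr (act γ v) j = γ (B.repr v j) := by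
    intro γ v j
    induction v using TensorProduct.induction_on with
    | zero => simp
    | tmul c d => simp [act, B, Algebra.TensorProduct.basis_repr_tmul]
    | add c d hc hd => simp only [map_add, Finsupp.add_apply, hc, hd]
  have hfix : ∀ γ : L ≃ₐ[K] L, act γ z = z := fun γ => by
    rw [← sub_eq_zero]
    refine hmin _ (T.sub_mem (hT γ z hzT) hzT) (Finset.card_lt_card ?_)
    rw [Finset.ssubset_iff_of_subset]
    · refine ⟨i, Finsupp.mem_support_iff.mpr hi, ?_⟩
      rw [Finsupp.notMem_support_iff, map_sub, Finsupp.sub_apply, hrepr, hzi, map_one, sub_self]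
    · intro j hj
      rw [← hzs, Finsupp.mem_support_iff]
      intro hzj
      rw [Finsupp.mem_support_iff, map_sub, Finsupp.sub_apply, hrepr, hzj, map_zero, sub_self] at hj
      exact hj rfl
  have hcoef : ∀ j, ∃ c : K, algebraMap K L c = B.repr z j := fun j =>
    (InfiniteGalois.mem_range_algebraMap_iff_fixed (B.repr z j)).mpr fun γ => by rw [← hrepr, hfix]
  choose c hc using hcoef
  have hfin : (Function.support c).Finite := (B.repr z).hasFiniteSupport.subset fun j hj => by
    simp only [Function.mem_support] at hj ⊢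
    rw [← hc]; exact fun h => hj ((algebraMap K L).injective (by rw [h, map_zero]))
  let cf : Module.Free.ChooseBasisIndex K A →₀ K := Finsupp.ofSupportFinite c hfin
  have hz : z = (1 : L) ⊗ₜ[K] b.repr.symm cf := by
    apply B.repr.injective
    ext j
    rw [Algebra.TensorProduct.basis_repr_tmul, LinearEquiv.apply_symm_apply, one_smul, Finsupp.mapRange_apply]
    exact (hc j).symm
  refine ⟨b.repr.symm cf, fun h => ?_, hz ▸ hzT⟩
  rw [hz, h, TensorProduct.tmul_zero, map_zero, Finsupp.zero_apply] at hzi
  exact zero_ne_one hzi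


open TensorProduct in
/-- Let L/K be a Galois extension with group Γ = Aut_K(L), and A a K-algebra which is a simple ring. If
L ⊗_K A is semisimple, then Γ, acting on L ⊗_K A through the first tensor factor, permutes its
simple components, i.e. its minimal nonzero two-sided ideals, transitively: any minimal two-sided
ideal is carried onto any other by some γ ⊗ id. -/
theorem result
    {K : Type u} {L : Type v} [Field K] [Field L] [Algebra K L] [IsGalois K L]
    {A : Type w} [Ring A] [Algebra K A] [IsSimpleRing A]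
    [IsSemisimpleRing (L ⊗[K] A)]
    (I J : TwoSidedIdeal (L ⊗[K] A)) (hI : IsAtom I) (hJ : IsAtom J) :
    ∃ γ : L ≃ₐ[K] L, (J : Set (L ⊗[K] A)) =
      Algebra.TensorProduct.map (γ : L →ₐ[K] L) (AlgHom.id K A) '' (I : Set (L ⊗[K] A)) := by
  classical
  by_contra! hne
  let T : TwoSidedIdeal (L ⊗[K] A) := TwoSidedIdeal.mk'
    {x | ∀ γ : L ≃ₐ[K] L, ∀ y, act γ y ∈ J → y * x = 0}
    (fun γ y _ => mul_zero y)
    (fun {a b} ha hb γ y hy => by rw [mul_add, ha γ y hy, hb γ y hy, add_zero])
    (fun {a} ha γ y hy => by rw [mul_neg, ha γ y hy, neg_zero])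
    (fun {c a} ha γ y hy => by
      rw [← mul_assoc]
      exact ha γ _ (by rw [map_mul]; exact J.mul_mem_right _ _ hy))
    (fun {a c} ha γ y hy => by rw [← mul_assoc, ha γ y hy, zero_mul])
  have hT : ∀ γ : L ≃ₐ[K] L, ∀ x ∈ T, act γ x ∈ T := by
    intro γ x hx
    rw [TwoSidedIdeal.mem_mk'] at hx ⊢
    intro δ y hy
    have h := hx (γ.trans δ) (act γ.symm y) (by
      rw [act_comp, show γ.symm.trans (γ.trans δ) = δ from AlgEquiv.ext fun z => by simp]; exact hy)
    have := congrArg (act γ) h
    rwa [map_mul, map_zero, act_comp, AlgEquiv.symm_trans_self, act_refl] at this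
  have hIT : I ≤ T := by
    intro x hx
    rw [TwoSidedIdeal.mem_mk']
    intro γ y hy
    let I' := I.comap (act (A := A) γ.symm)
    have hmem : ∀ v, v ∈ I' ↔ act γ.symm v ∈ I := fun v => TwoSidedIdeal.mem_comap _
    have hI' : IsAtom I' := by
      refine ⟨fun h => hI.1 (le_antisymm (fun v hv => ?_) bot_le), fun P hP => ?_⟩
      · have : act γ v ∈ I' := by rw [hmem, act_comp, AlgEquiv.self_trans_symm, act_refl]; exact hv
        rw [h, TwoSidedIdeal.mem_bot] at this
        rw [TwoSidedIdeal.mem_bot]
        simpa [act_comp, AlgEquiv.self_trans_symm, act_refl] using congrArg (act γ.symm) this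
      · have hlt : P.comap (act (A := A) γ) < I := by
          refine lt_of_le_not_ge (fun v hv => ?_) fun h => hP.not_ge fun v hv => ?_
          · have := (hmem _).mp (hP.le ((TwoSidedIdeal.mem_comap _).mp hv))
            rwa [act_comp, AlgEquiv.self_trans_symm, act_refl] at this
          · have := (TwoSidedIdeal.mem_comap _).mp (h ((hmem v).mp hv))
            rwa [act_comp, AlgEquiv.symm_trans_self, act_refl] at this
        have := hI.2 _ hlt
        refine le_antisymm (fun v hv => ?_) bot_le
        have h2 : act γ.symm v ∈ P.comap (act (A := A) γ) := by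
          rw [TwoSidedIdeal.mem_comap, act_comp, AlgEquiv.symm_trans_self, act_refl]; exact hv
        rw [this, TwoSidedIdeal.mem_bot] at h2
        rw [TwoSidedIdeal.mem_bot]
        simpa [act_comp, AlgEquiv.symm_trans_self, act_refl] using congrArg (act γ) h2
    have hdis : I' ⊓ J = ⊥ := by
      rcases hI'.le_iff.mp (inf_le_left : I' ⊓ J ≤ I') with h | h
      · exact h
      · exfalso
        refine hne γ ?_
        rcases hJ.le_iff.mp (h ▸ inf_le_right : I' ≤ J) with h' | h'
        · exact absurd h' hI'.1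
        rw [← h']
        ext v
        constructor
        · intro hv
          exact ⟨act γ.symm v, (hmem v).mp hv, by
            show act γ (act γ.symm v) = v
            rw [act_comp, AlgEquiv.symm_trans_self, act_refl]⟩
        · rintro ⟨w, hw, rfl⟩
          show act γ w ∈ I'
          rw [hmem, act_comp, AlgEquiv.self_trans_symm, act_refl]; exact hw
    have h1 : act γ (y * x) ∈ I' := by
      rw [hmem, act_comp, AlgEquiv.self_trans_symm, act_refl]; exact I.mul_mem_left _ _ hx
    have h2 : act γ (y * x) ∈ J := by rw [map_mul]; exact J.mul_mem_right _ _ hy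
    have h3 : act γ (y * x) ∈ I' ⊓ J := ⟨h1, h2⟩
    rw [hdis, TwoSidedIdeal.mem_bot] at h3
    simpa [act_comp, AlgEquiv.self_trans_symm, act_refl] using congrArg (act γ.symm) h3
  obtain ⟨a, ha, haT⟩ := descent T hT fun h => hI.1 (le_bot_iff.mp (h ▸ hIT))
  let T₀ : TwoSidedIdeal A := T.comap (Algebra.TensorProduct.includeRight : A →ₐ[K] L ⊗[K] A)
  have haT₀ : a ∈ T₀ := (TwoSidedIdeal.mem_comap _).mpr haT
  rcases IsSimpleOrder.eq_bot_or_eq_top T₀ with h | h
  · rw [h, TwoSidedIdeal.mem_bot] at haT₀
    exact ha haT₀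
  · have h1 : (1 : L ⊗[K] A) ∈ T := by
      have := (TwoSidedIdeal.mem_comap _).mp (h ▸ (TwoSidedIdeal.mem_iff _ _).mpr trivial : (1 : A) ∈ T₀)
      rwa [map_one] at this
    rw [TwoSidedIdeal.mem_mk'] at h1
    refine hJ.1 (le_antisymm (fun y hy => ?_) bot_le)
    rw [TwoSidedIdeal.mem_bot]
    simpa using h1 AlgEquiv.refl y (by rw [act_refl]; exact hy)
end Groth.Agent.S14846
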