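import Groth.Statements.S1485
import Groth.Agent.Limits.DegreeZero

set_option autoImplicit false
universe u
open FlatMor

namespace Groth.Agent.S1485

open AlgebraicGeometry CategoryTheory Limits in
/-- Let f : X → Y be proper and y a point with fibre of dimension ≤ 1. Suppose there is a morphism g :
Y' → Y whose image contains y such that, for the base change f' : X' → Y', H^1 of the structure
sheaf vanishes over the preimage of every affine open of Y' (that is, R^1 f'_* O = 0; taking g the
identity covers the case R^1 f_* O_X = 0). Then H^1(X_y, O_{X_y}) = 0. -/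
theorem result {X Y Y' : Scheme.{u}} (f : X ⟶ Y) [IsProper f] (y : Y) (hdim : topologicalKrullDim ↑(f.fiber y) ≤ 1)
    (g : Y' ⟶ Y) (hy : y ∈ Set.range ⇑g)
    (hR1 : ∀ U : Y'.Opens, IsAffineOpen U → Subsingleton (Coh.HHon (pullback f g) (Coh.structureModule (pullback f g)) (pullback.snd f g ⁻¹ᵁ U) 1)) :
    Subsingleton (Coh.HH (f.fiber y) (Coh.structureModule (f.fiber y)) 1) := by
  obtain ⟨y', rfl⟩ := hy
  let q := pullback.snd f g
  let O : Y.Opens :=
    ⟨_, Groth.FibreDim.isOpen_dim_fiber_le f f.isClosedMap ((1 : ℕ) : WithBot ℕ∞)⟩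
  obtain ⟨U, hU, hyU, hUO⟩ := exists_isAffineOpen_mem_and_subset (U := g ⁻¹ᵁ O) (x := y') hdim
  have hsq₀ : IsPullback (pullback.fst f g) q f g := IsPullback.of_hasPullback f g
  have hdq : ∀ z ∈ U, topologicalKrullDim ↥(q.fiber z) ≤ (1 : ℕ) := fun z hz =>
    (Groth.FibreDim.dim_fiber_baseChange f g q (pullback.fst f g) hsq₀ z).le.trans (hUO hz)
  letI : ((q ⁻¹ᵁ U : (pullback f g).Opens) : Scheme.{u}).Over (Spec (CommRingCat.of Γ(Y', U))) :=
    ⟨Groth.CohBase.preimageToSpec q⟩
  haveI : IsProper ((q ⁻¹ᵁ U : (pullback f g).Opens).toScheme ↘ Spec (CommRingCat.of Γ(Y', U))) :=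
    MorphismProperty.of_isPullback (Groth.CohBase.isPullback_preimageToSpec q hU) (inferInstanceAs (IsProper q))
  have hd : ∀ P, topologicalKrullDim
      ↥(((q ⁻¹ᵁ U : (pullback f g).Opens).toScheme ↘ Spec (CommRingCat.of Γ(Y', U))).fiber P) ≤
        (1 : ℕ) := fun P => by
    have hP : hU.fromSpec.base P ∈ U := hU.range_fromSpec.le ⟨P, rfl⟩
    have e : hU.primeIdealOf ⟨_, hP⟩ = P := hU.fromSpec.isEmbedding.injective
      (hU.fromSpec_primeIdealOf ⟨_, hP⟩)
    have h := Groth.Limits.FibreVanishing.dim_fiber_preimageToSpec_le q hU _ hP 1 (hdq _ hP)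
    rwa [e] at h
  let X₁ := (q ⁻¹ᵁ U : (pullback f g).Opens).toScheme
  haveI : (Coh.structureModule X₁).IsQuasicoherent := inferInstance
  haveI h1 : Subsingleton (Coh.HH X₁ (Coh.structureModule X₁) 1) := by
    haveI := hR1 U hU
    obtain ⟨e⟩ := Groth.PicAux.pullback_structure_iso (q ⁻¹ᵁ U).ι
    let ee := ((Scheme.Modules.restrictFunctorIsoPullback (q ⁻¹ᵁ U).ι).app
      (Coh.structureModule _)) ≪≫ e
    exact (Groth.CohC3.hmap_bijective_of_isIso (A := Γ(Y', U)) ee.hom 1).2.subsingleton
  letI : Algebra Γ(Y', U) (Y'.residueField y') := (Y'.evaluation U y' hyU).hom.toAlgebra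
  letI : (q.fiber y').Over (Spec (CommRingCat.of (Y'.residueField y'))) :=
    ⟨q.fiberToSpecResidueField y'⟩
  have hfib := Groth.Limits.FibreVanishing.subsingleton_HH_of_killed 1 hd (Coh.structureModule X₁)
    (show Groth.CohBase.IsBC (A := Γ(Y', U)) (A' := Y'.residueField y')
      (Groth.CohBase.fibreToPreimage q y' hyU) from
      Groth.CohBase.isPullback_fibreToPreimage q hU y' hyU)
    fun x => ⟨1, by rw [map_one]; exact isUnit_one, by rw [one_smul]; exact Subsingleton.elim _ _⟩
  obtain ⟨e₁⟩ := Groth.PicAux.pullback_structure_iso (Groth.CohBase.fibreToPreimage q y' hyU)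
  haveI hq : Subsingleton (Coh.HH (q.fiber y') (Coh.structureModule (q.fiber y')) 1) :=
    (Groth.CohC3.hmap_bijective_of_isIso (A := Y'.residueField y') e₁.hom 1).2.subsingleton
  -- the fibre over `y'` is a field extension of that over `g y'`
  letI : (f.fiber (g y')).Over (Spec (CommRingCat.of (Y.residueField (g y')))) :=
    ⟨f.fiberToSpecResidueField (g y')⟩
  letI : Algebra (Y.residueField (g y')) (Y'.residueField y') :=
    (g.residueFieldMap y').hom.toAlgebra
  haveI : IsProper (f.fiber (g y') ↘ Spec (CommRingCat.of (Y.residueField (g y')))) :=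
    MorphismProperty.of_isPullback (IsPullback.of_hasPullback f (Y.fromSpecResidueField (g y')))
      ‹IsProper f›
  haveI : (f.fiber (g y')).IsSeparated := Groth.CohFin.isSeparated_of_proper
    (f.fiber (g y') ↘ Spec (CommRingCat.of (Y.residueField (g y'))))
  haveI : CompactSpace (f.fiber (g y')) := Groth.CohFin.compactSpace_of_proper
    (f.fiber (g y') ↘ Spec (CommRingCat.of (Y.residueField (g y'))))
  have hcond : (q.fiberι y' ≫ pullback.fst f g) ≫ f =
      (q.fiberToSpecResidueField y' ≫ Spec.map (g.residueFieldMap y')) ≫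
        Y.fromSpecResidueField (g y') := by
    rw [Category.assoc, Category.assoc, g.SpecMap_residueFieldMap_fromSpecResidueField y',
      hsq₀.w, ← Category.assoc, ← Category.assoc]
    exact congrArg (· ≫ g) pullback.condition
  let c : q.fiber y' ⟶ f.fiber (g y') := pullback.lift (q.fiberι y' ≫ pullback.fst f g)
    (q.fiberToSpecResidueField y' ≫ Spec.map (g.residueFieldMap y')) hcond
  have hsq : Groth.CohBase.IsBC (A := Y.residueField (g y')) (A' := Y'.residueField y') c := by
    have hfst : c ≫ f.fiberι (g y') = q.fiberι y' ≫ pullback.fst f g := pullback.lift_fst _ _ _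
    have hbig : IsPullback (c ≫ f.fiberι (g y')) (q.fiberToSpecResidueField y') f
        (Spec.map (g.residueFieldMap y') ≫ Y.fromSpecResidueField (g y')) := by
      rw [hfst, g.SpecMap_residueFieldMap_fromSpecResidueField y']
      exact (IsPullback.of_hasPullback q (Y'.fromSpecResidueField y')).paste_horiz hsq₀
    exact hbig.of_right (pullback.lift_snd _ _ _)
      (IsPullback.of_hasPullback f (Y.fromSpecResidueField (g y')))
  obtain ⟨e₂⟩ := Groth.PicAux.pullback_structure_iso c
  haveI : (Coh.structureModule (f.fiber (g y'))).IsQuasicoherent := inferInstance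
  exact Groth.Limits.FibreVanishing.subsingleton_HH_of_field_ext _ 1 hsq
    (Groth.CohC3.hmap_bijective_of_isIso (A := Y'.residueField y') e₂.hom 1).1.subsingleton

end Groth.Agent.S1485
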