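import Groth.Statements.S14850
import Groth.Agent.Hopf.Regular

set_option autoImplicit false
universe u v
open HopfRep

namespace Groth.Agent.S14850

open TensorProduct in
/-- Over a field K, a nonzero coalgebra C is simple if and only if C is isotypic as a right comodule
over itself, i.e. C is the internal direct sum of the images of a family of injective comodule maps
from one simple right C-comodule E. Here a subcoalgebra of C is a subspace B whose comultiplication
lands in the image of B ⊗ B, and C is simple when its only subcoalgebras are 0 and C. (Stated for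
the right regular comodule; the published statement allows left or right.) -/
theorem result {K : Type u} {C : Type v} [Field K] [AddCommGroup C]
    [Module K C] [Coalgebra K C] [Nontrivial C] :
    (∀ B : Submodule K C, (∀ b ∈ B, CoalgebraStruct.comul (R := K) b ∈ LinearMap.range (TensorProduct.map B.subtype B.subtype)) → B = ⊥ ∨ B = ⊤) ↔
    ∃ (E : Type v) (_ : AddCommGroup E) (_ : Module K E) (_ : HopfRep.Comod K C E),
      HopfRep.IsSimpleComod K C E ∧
      ∃ (ι : Type v) (f : ι → (E →ₗ[K] C)),
        (∀ i, Hoch.IsComodHom C (f i) ∧ Function.Injective (f i)) ∧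
        iSupIndep (fun i => LinearMap.range (f i)) ∧ (⨆ i, LinearMap.range (f i)) = ⊤ := by
  let c : HopfRep.Comod K C C := inferInstance
  constructor
  · intro h
    obtain ⟨z, hz⟩ := exists_ne (0 : C)
    obtain ⟨T, hT, -, hTs, -⟩ := ComodLib.exists_simpleSub_le (k := K) (A := C) (U := (⊤ : Submodule K C))
      ComodLib.isSubcomod_top (fun e => hz ((Submodule.mem_bot K).1 (e ▸ Submodule.mem_top)))
    let d := ComodSub.Comod.restr c T hT
    have hsim := ComodLib.isSimpleComod_restr c T hT hTs
    have hle : T ≤ @ComodLib.coeff K _ C _ _ _ T _ _ d := by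
      simpa using ComodLib.range_le_coeff (ComodSub.isComodHom_subtype c T hT)
    have hcoeff : @ComodLib.coeff K _ C _ _ _ T _ _ d = ⊤ :=
      (h _ ComodLib.isSubcoalg_coeff).resolve_left fun e => hTs.1 (le_bot_iff.1 (e ▸ hle))
    refine ⟨T, inferInstance, inferInstance, d, hsim, ?_⟩
    let F := {f : T →ₗ[K] C // Hoch.IsComodHom C f ∧ Function.Injective f}
    have hF : (⨆ f : F, LinearMap.range f.1) = ⊤ := by
      refine top_le_iff.1 (hcoeff ▸ iSup_le fun ψ => ?_)
      rcases hsim.2 _ (ComodLib.isSubcomod_ker (ComodLib.isComodHom_cf ψ)) with e | e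
      · exact le_iSup_of_le (⟨_, ComodLib.isComodHom_cf ψ, LinearMap.ker_eq_bot.1 e⟩ : F) le_rfl
      · rw [LinearMap.range_eq_bot.2 (LinearMap.ker_eq_top.1 e)]
        exact bot_le
    obtain ⟨J, hJ, hc⟩ := ComodLib.exists_isCompl_of_sum_simple (fun f : F => LinearMap.range f.1)
      (fun f => ComodLib.isSubcomod_range f.2.1)
      (fun f => (ComodLib.isSimpleSub_range_iff f.2.1 f.2.2).2 hsim) hF ⊥ ComodLib.isSubcomod_bot
    exact ⟨J, fun f => f.1.1, fun f => f.1.2, hJ,
      (bot_sup_eq (⨆ f : J, LinearMap.range f.1.1)).symm.trans hc.sup_eq_top⟩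
  · rintro ⟨E, _, _, _, hE, ι, f, hf, -, hsum⟩ B hB
    by_cases h0 : B = ⊥
    · exact Or.inl h0
    refine Or.inr (top_le_iff.1 ?_)
    obtain ⟨T, hT, hTle, hTs, -⟩ := ComodLib.exists_simpleSub_le (k := K) (A := C)
      (ComodLib.IsSubcoalg.isSubcomod hB) h0
    let d := ComodSub.Comod.restr c T hT
    have hsub : Hoch.IsComodHom C T.subtype := ComodSub.isComodHom_subtype c T hT
    obtain ⟨_, e, he⟩ := ComodLib.exists_iso_of_le_sum (K := fun _ : ι => E) (fun _ => hE) f (fun i => (hf i).1)
      (ComodLib.isSimpleComod_restr c T hT hTs) T.subtype hsub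
      (by rw [Submodule.range_subtype, hsum]; exact le_top)
      (fun e => hTs.1 (by rw [← Submodule.range_subtype T, e, LinearMap.range_zero]))
    refine le_trans ?_ (ComodLib.coeff_le_of_range_le hB hsub T.subtype_injective
      (by rw [Submodule.range_subtype]; exact hTle))
    rw [ComodLib.coeff_eq_of_iso he, ← hsum]
    exact iSup_le fun i => ComodLib.range_le_coeff (hf i).1

end Groth.Agent.S14850
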