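import Groth.Statements.S14851
import Groth.Agent.Hopf.Regular

set_option autoImplicit false
universe u v w w'
open HopfRep

namespace Groth.Agent.S14851

open TensorProduct in
/-- The map E ↦ C(E) from isomorphism classes of simple comodules to simple subcoalgebras is injective,
that is: over a field K, two simple right comodules E, E' over a coalgebra C with the same
coefficient space D (the least subspace D' of C such that the coaction lands in E ⊗ D', resp. E' ⊗
D') are isomorphic as comodules. (The published statement is made for a cosemisimple coalgebra and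
for left comodules; the printed argument for this part uses neither restriction.) -/
theorem result {K : Type u} {C : Type v} [Field K]
    [AddCommGroup C] [Module K C] [Coalgebra K C]
    {E : Type w} [AddCommGroup E] [Module K E] [HopfRep.Comod K C E]
    {E' : Type w'} [AddCommGroup E'] [Module K E'] [HopfRep.Comod K C E']
    (hE : HopfRep.IsSimpleComod K C E) (hE' : HopfRep.IsSimpleComod K C E') (D : Submodule K C)
    (hD : IsLeast {D' : Submodule K C |
      ∀ e : E, HopfRep.Comod.coact (k := K) (A := C) e ∈ LinearMap.range (LinearMap.lTensor E D'.subtype)} D)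
    (hD' : IsLeast {D' : Submodule K C |
      ∀ e : E', HopfRep.Comod.coact (k := K) (A := C) e ∈ LinearMap.range (LinearMap.lTensor E' D'.subtype)} D) :
    ∃ e : E ≃ₗ[K] E', Hoch.IsComodHom C e.toLinearMap := by
  have h1 : D = ComodLib.coeff K C E := hD.unique ComodLib.isLeast_coeff
  have h2 : D = ComodLib.coeff K C E' := hD'.unique ComodLib.isLeast_coeff
  have := hE.1
  obtain ⟨x, hx⟩ := exists_ne (0 : E)
  obtain ⟨ψ, hψ⟩ : ∃ ψ : E →ₗ[K] K, ComodLib.cf (A := C) ψ ≠ 0 := by
    by_contra h
    push Not at h
    have h0 : HopfRep.Comod.coact (k := K) (A := C) x = 0 := ComodLib.eq_zero_of_lslice fun ψ =>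
      (LinearMap.congr_fun (h ψ) x : _)
    exact hx (by rw [← ComodLib.op_counit (k := K) (A := C) x, ComodLib.op_apply, h0, map_zero])
  obtain ⟨_, e, he⟩ := ComodLib.exists_iso_of_le_sum (ι := E' →ₗ[K] K) (K := fun _ => E') (fun _ => hE')
    (fun ψ => ComodLib.cf (A := C) ψ) (fun ψ => ComodLib.isComodHom_cf ψ) hE (ComodLib.cf (A := C) ψ)
    (ComodLib.isComodHom_cf ψ) ((le_iSup (fun ψ : E →ₗ[K] K => LinearMap.range (ComodLib.cf (A := C) ψ)) ψ).trans
      (le_of_eq (h1.symm.trans h2))) hψ
  exact ⟨e, he⟩

end Groth.Agent.S14851
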