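import Groth.Statements.S14857
import Mathlib
import Groth.Agent.Calg7.WittGhost
-- import your own Groth.Agent.* helpers here

set_option autoImplicit false
open CAlg

namespace Groth.Agent.S14857

/-- For a prime p, the Teichmüller representative [p^p] of the element p^p of the p-adic integers is
divisible by p in the ring of p-typical Witt vectors W(ℤ_p). -/
theorem result (p : ℕ) [Fact p.Prime] :
    (p : WittVector p ℤ_[p]) ∣ WittVector.teichmuller p ((p : ℤ_[p]) ^ p) := by
  have hp := (Fact.out : p.Prime)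
  have hne : (p : ℤ_[p]) ≠ 0 := Nat.cast_ne_zero.2 hp.ne_zero
  have hS : ∀ y : ℤ_[p], (p : ℤ_[p]) * y = 0 → y = 0 := fun y hy => (mul_eq_zero.1 hy).resolve_left hne
  obtain ⟨y, -, hy⟩ := Groth.Calg7.Ghost.exists_of_ghost hS 1 le_rfl
    (fun n => (p : ℤ_[p]) ^ (p ^ (n + 1) - 1)) (fun n => by
      refine pow_dvd_pow _ ?_
      have h1 : n + 1 < p ^ (n + 1) := Nat.lt_pow_self hp.one_lt
      omega)
  refine ⟨y, Groth.Calg7.Ghost.ghost_injective hS fun n => ?_⟩
  rw [map_mul, map_natCast, hy, WittVector.ghostComponent_teichmuller, ← pow_mul, ← pow_succ']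
  have h1 : 0 < p ^ (n + 1) := Nat.pow_pos hp.pos
  rw [← pow_succ', Nat.sub_add_cancel h1]

end Groth.Agent.S14857
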