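import Groth.Statements.S14859
import Groth.Agent.Misc5Disp.VSharp

set_option autoImplicit false
universe u v w
open Disp

namespace Groth.Agent.S14859

/-- Let p be a prime, R a commutative ring with p-typical Witt vectors W = W(R), and (P, Q, F, V⁻¹) a
3n-display over R with a normal decomposition P = L ⊕ T, Q = L + I_R·T. Then V⁻¹ ⊕ F : L ⊕ T → P is
a Frobenius-linear isomorphism; stated here in the case where L and T are free with bases (l_i) and
(t_j): the family consisting of the V⁻¹(l_i) and the F(t_j) is a basis of the W-module P, i.e. it is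
linearly independent over W and spans P. -/
theorem result (p : ℕ) [Fact p.Prime] (R : Type u) [CommRing R]
    (P : Type v) [AddCommGroup P] [Module (WittVector p R) P] (D : W4c1extbt610.Display3n p R P)
    (L T : Submodule (WittVector p R) P) (hLT : IsCompl L T)
    (hQ : D.Q = L ⊔ W4c1extbt610.IV p R • T) (hLQ : L ≤ D.Q)
    (ιL ιT : Type w) (bL : Module.Basis ιL (WittVector p R) L) (bT : Module.Basis ιT (WittVector p R) T) :
    LinearIndependent (WittVector p R)
        (Sum.elim (fun i : ιL => D.Vinv ⟨(bL i : P), hLQ (bL i).2⟩) (fun j : ιT => D.F (bT j : P))) ∧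
      Submodule.span (WittVector p R)
        (Set.range (Sum.elim (fun i : ιL => D.Vinv ⟨(bL i : P), hLQ (bL i).2⟩) (fun j : ιT => D.F (bT j : P)))) = ⊤ := by
  classical
  have := D.finite
  have := D.projective
  obtain ⟨π, hπ, Φ, hΦ, hD, hr, hk⟩ := Groth.Misc5Disp.exists_eq_mk D L T hLT hQ
  set e : ιL ⊕ ιT → P := Sum.elim (fun i => (bL i : P)) (fun j => (bT j : P)) with he
  let b : Module.Basis (ιL ⊕ ιT) (WittVector p R) P :=
    (bL.prod bT).map (Submodule.prodEquivOfIsCompl L T hLT)
  have hb : ∀ k, b k = e k := by rintro (i | j) <;> simp [b, e]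
  have hf : ∀ k, Sum.elim (fun i : ιL => D.Vinv ⟨(bL i : P), hLQ (bL i).2⟩) (fun j : ιT => D.F (bT j : P)) k = Φ (b k) := by
    have key : ∀ (E : W4c1extbt610.Display3n p R P), E = Groth.Misc5Disp.mk π hπ Φ hΦ →
        (∀ (x : P) (h : x ∈ E.Q), π x = x → E.Vinv ⟨x, h⟩ = Φ x) ∧ ∀ x, π x = 0 → E.F x = Φ x := by
      rintro E rfl
      exact ⟨fun x h hx => Groth.Misc5Disp.mk_Vinv_of_fixed π hπ Φ hΦ x hx h,
        fun x hx => by simp [Groth.Misc5Disp.fOf_apply, hx]⟩
    obtain ⟨key1, key2⟩ := key D hD
    rintro (i | j) <;> rw [hb]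
    · have : π (bL i : P) = bL i := by
        obtain ⟨y, hy⟩ : (bL i : P) ∈ LinearMap.range π := hr ▸ (bL i).2
        rw [← hy, hπ]
      exact key1 _ _ this
    · have : π (bT j : P) = 0 := LinearMap.mem_ker.1 (hk ▸ (bT j).2)
      exact key2 _ this
  rw [funext hf]
  let u := b.constr (WittVector p R) (fun k => Φ (b k))
  have hspan : Submodule.span (WittVector p R) (Set.range fun k => Φ (b k)) = ⊤ := by
    rw [eq_top_iff, ← hΦ, Submodule.span_le]
    rintro _ ⟨x, rfl⟩
    have hx : x ∈ Submodule.span (WittVector p R) (Set.range b) := b.mem_span x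
    induction hx using Submodule.span_induction with
    | mem y hy => obtain ⟨k, rfl⟩ := hy; exact Submodule.subset_span ⟨k, rfl⟩
    | zero => rw [map_zero]; exact zero_mem _
    | add a c _ _ h₁ h₂ => rw [map_add]; exact add_mem h₁ h₂
    | smul a c _ h => rw [map_smulₛₗ]; exact Submodule.smul_mem _ _ h
  refine ⟨?_, hspan⟩
  have hu : Function.Surjective u := by
    rw [← LinearMap.range_eq_top, Module.Basis.constr_range, hspan]
  have := b.linearIndependent.map' u (LinearMap.ker_eq_bot.2 (OrzechProperty.injective_of_surjective_endomorphism u hu))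
  simpa [u, Function.comp_def] using this

end Groth.Agent.S14859
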