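import Groth.Statements.S14864
import Mathlib
-- import your own Groth.Agent.* helpers here

set_option autoImplicit false
universe u
open CAlg

namespace Groth.Agent.S14864

open WittVector in
lemma mul_mem_span {p : ℕ} [Fact p.Prime] {R : Type u} [CommRing R] {x y : WittVector p R}
    (hx : WittVector.constantCoeff x = 0) (hy : WittVector.constantCoeff y = 0) :
    x * y ∈ Ideal.span {(p : WittVector p R)} := by
  have h0 : ∀ z : WittVector p R, WittVector.constantCoeff z = 0 → z = verschiebung (z.shift 1) := by
    intro z hz
    simpa using eq_iterate_verschiebung (x := z) (n := 1) (fun i hi => by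
      rw [Nat.lt_one_iff.1 hi]; exact hz)
  rw [h0 x hx, h0 y hy, ← verschiebung_mul_frobenius, frobenius_verschiebung, ← mul_assoc,
    mul_comm _ (p : WittVector p R), ← nsmul_eq_mul, map_nsmul, nsmul_eq_mul]
  exact Ideal.mul_mem_right _ _ (Ideal.mem_span_singleton_self _)

lemma frob_pow {p : ℕ} [Fact p.Prime] {R : Type u} [CommRing R] (N i : ℕ) :
    WittVector.frobenius^[i] ((p : WittVector p R) ^ N) = (p : WittVector p R) ^ N := by
  induction i with
  | zero => rfl
  | succ i ih => rw [Function.iterate_succ_apply', ih, map_pow, map_natCast]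

lemma raise {p : ℕ} [Fact p.Prime] {R : Type u} [CommRing R] {N : ℕ} (hN : (p : R) ^ N = 0)
    {x : WittVector p R} {i : ℕ} (hx : ∀ j < i, x.coeff j = 0) :
    ∀ j < i + 1, ((p : WittVector p R) ^ N * x).coeff j = 0 := by
  intro j hj
  rw [WittVector.eq_iterate_verschiebung hx, mul_comm, WittVector.iterate_verschiebung_mul_left, frob_pow]
  rcases Nat.lt_succ_iff_lt_or_eq.1 hj with h | h
  · exact WittVector.iterate_verschiebung_coeff_eq_zero _ h
  · rw [h]
    have := WittVector.iterate_verschiebung_coeff (x.shift i * (p : WittVector p R) ^ N) i 0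
    rw [zero_add] at this
    rw [this, WittVector.mul_coeff_zero]
    have hc : ((p : WittVector p R) ^ N).coeff 0 = 0 := by
      change WittVector.constantCoeff ((p : WittVector p R) ^ N) = 0
      rw [map_pow, map_natCast, hN]
    rw [hc, mul_zero]

/-- Let p be a prime and R a commutative ring in which p is nilpotent; write W = W(R) for the p-typical
Witt vectors, I ⊆ W for the kernel of the projection onto the zeroth component, and I_n ⊆ W for the
kernel of the truncation W → W_n(R). The p-adic topology on W equals its I-adic topology — every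
power of the ideal pW contains some power of I and every power of I contains some power of pW — and
this common topology is finer than the V-adic one: every I_n contains some power of pW. -/
theorem result (p : ℕ) [Fact p.Prime] (R : Type u) [CommRing R]
    (hp : IsNilpotent (p : R)) :
    (∀ n : ℕ, ∃ m : ℕ, (RingHom.ker (WittVector.constantCoeff : WittVector p R →+* R)) ^ m ≤ Ideal.span {(p : WittVector p R)} ^ n) ∧
      (∀ n : ℕ, ∃ m : ℕ, Ideal.span {(p : WittVector p R)} ^ m ≤ (RingHom.ker (WittVector.constantCoeff : WittVector p R →+* R)) ^ n) ∧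
        ∀ n : ℕ, ∃ m : ℕ, Ideal.span {(p : WittVector p R)} ^ m ≤ RingHom.ker (WittVector.truncate (p := p) (R := R) n) := by
  obtain ⟨N, hN⟩ := hp
  set P := Ideal.span {(p : WittVector p R)} with hP
  set I := RingHom.ker (WittVector.constantCoeff : WittVector p R →+* R) with hI
  refine ⟨fun n => ⟨2 * n, ?_⟩, fun n => ⟨N * n, ?_⟩, fun n => ⟨N * n, ?_⟩⟩
  · rw [pow_mul]
    refine Ideal.pow_right_mono ?_ n
    rw [pow_two, Ideal.mul_le]
    exact fun x hx y hy => mul_mem_span hx hy
  · rw [pow_mul, hP, Ideal.span_singleton_pow]
    refine Ideal.pow_right_mono ?_ n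
    rw [Ideal.span_singleton_le_iff_mem, hI, RingHom.mem_ker, map_pow, map_natCast, hN]
  · rw [hP, Ideal.span_singleton_pow, Ideal.span_singleton_le_iff_mem, WittVector.mem_ker_truncate]
    induction n with
    | zero => intro i hi; omega
    | succ n ih =>
      rw [show N * (n + 1) = N + N * n by ring, pow_add]
      exact raise hN ih

end Groth.Agent.S14864
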