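import Groth.Statements.S14860
import Mathlib
import Groth.Agent.Calg7.IdemLift
import Groth.Agent.S14864
-- import your own Groth.Agent.* helpers here

set_option autoImplicit false
universe u v
open CAlg

namespace Groth.Agent.S14860

open scoped TensorProduct

/-- extend scalars along a surjection -/
def extendLin {B A M N : Type*} [CommRing B] [CommRing A] [Algebra B A] [AddCommGroup M] [Module B M]
    [Module A M] [IsScalarTower B A M] [AddCommGroup N] [Module B N] [Module A N] [IsScalarTower B A N]
    (h : Function.Surjective (algebraMap B A)) (f : M →ₗ[B] N) : M →ₗ[A] N where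
  toFun := f
  map_add' := f.map_add
  map_smul' := fun a x => by
    obtain ⟨b, rfl⟩ := h a
    rw [algebraMap_smul, map_smul, RingHom.id_apply, algebraMap_smul]

universe w

section
variable {B : Type w} [CommRing B]

theorem mem_smul_top_pi {r : ℕ} (J : Ideal B) {y : Fin r → B}
    (hy : y ∈ J • (⊤ : Submodule B (Fin r → B))) (c : Fin r) : y c ∈ J := by
  refine Submodule.smul_induction_on hy (fun a ha z _ => ?_) (fun a b ha hb => ?_)
  · rw [Pi.smul_apply, smul_eq_mul]
    exact J.mul_mem_right _ ha
  · exact J.add_mem ha hb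

theorem smul_top_pi_of_mem {r : ℕ} (J : Ideal B) {y : Fin r → B} (hy : ∀ c, y c ∈ J) :
    y ∈ J • (⊤ : Submodule B (Fin r → B)) := by
  rw [pi_eq_sum_univ' y]
  exact Submodule.sum_mem _ fun c _ => Submodule.smul_mem_smul (hy c) trivial

theorem iInf_smul_top {Q : Type*} [AddCommGroup Q] [Module B Q] [Module.Finite B Q] [Module.Projective B Q]
    (J : ℕ → Ideal B) (hJ : ⨅ n, J n = ⊥) : (⨅ n, J n • (⊤ : Submodule B Q)) = ⊥ := by
  obtain ⟨r, π, hπ⟩ := Module.Finite.exists_fin' B Q
  obtain ⟨i, hi⟩ := Module.projective_lifting_property π LinearMap.id hπ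
  rw [eq_bot_iff]
  intro x hx
  rw [Submodule.mem_iInf] at hx
  have h0 : i x = 0 := funext fun c => by
    have hc : i x c ∈ ⨅ n, J n := Ideal.mem_iInf.2 fun n => mem_smul_top_pi (J n)
      (Submodule.smul_mono le_rfl le_top (Submodule.map_smul'' (J n) ⊤ i ▸ Submodule.mem_map_of_mem (hx n))) c
    rw [hJ] at hc
    exact (Submodule.mem_bot B).1 hc
  rw [Submodule.mem_bot, ← LinearMap.id_apply (R := B) x, ← hi, LinearMap.comp_apply, h0, map_zero]

/-- the converse direction, abstractly -/
theorem finite_projective_of_levels {P : Type v} [AddCommGroup P] [Module B P]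
    (J : ℕ → Ideal B) (I : Ideal B) (hI : I = J 1) [IsAdicComplete I B]
    (hm : ∀ n, ∃ m, I ^ m ≤ J n)
    (hcomplete : ∀ b : ℕ → B, (∀ n, b (n + 1) - b n ∈ J n) → ∃ L, ∀ n, L - b n ∈ J n)
    (hsep : ⨅ n, J n = ⊥) (hanti : Antitone J)
    (hP : (⨅ n, J n • (⊤ : Submodule B P)) = ⊥)
    (h1 : Module.Finite (B ⧸ J 1) (P ⧸ J 1 • (⊤ : Submodule B P)))
    (hproj : ∀ n, Module.Projective (B ⧸ J n) (P ⧸ J n • (⊤ : Submodule B P))) :
    Module.Finite B P ∧ Module.Projective B P := by
  classical
  haveI := h1
  haveI := hproj 1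
  obtain ⟨Q, _, _, hQf, hQp, ⟨E⟩⟩ := Groth.Calg7.LiftProj.exists_lift (B := B) (A := B ⧸ J 1)
    (fun n e he => by
      let x : Matrix (Fin n) (Fin n) B := Matrix.of fun i j => (Ideal.Quotient.mk_surjective (e i j)).choose
      have hx : x.map (algebraMap B (B ⧸ J 1)) = e :=
        Matrix.ext fun i j => (Ideal.Quotient.mk_surjective (e i j)).choose_spec
      obtain ⟨g, hg, hgx⟩ := Groth.Calg7.IdemLift.exists_idem_of_complete I x (fun i j => by
        rw [hI, ← Ideal.Quotient.eq_zero_iff_mem]
        have : (x * x - x).map (algebraMap B (B ⧸ J 1)) = e * e - e := by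
          rw [Matrix.map_sub _ (map_sub _), Matrix.map_mul, hx]
        rw [he.eq, sub_self] at this
        exact congrFun (congrFun this i) j)
      refine ⟨g, hg, ?_⟩
      rw [← hx]
      exact Matrix.ext fun i j => Ideal.Quotient.eq.2 (hI ▸ hgx i j)) (P ⧸ J 1 • (⊤ : Submodule B P))
  let f₀ : Q →ₗ[B] P ⧸ J 1 • (⊤ : Submodule B P) :=
    (E.toLinearMap.restrictScalars B) ∘ₗ (TensorProduct.mk B (B ⧸ J 1) Q 1)
  obtain ⟨f, hf⟩ := Module.projective_lifting_property (J 1 • (⊤ : Submodule B P)).mkQ f₀
    (Submodule.mkQ_surjective _)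
  have hf' : ∀ q, Submodule.Quotient.mk (f q) = f₀ q := LinearMap.congr_fun hf
  have hker : ∀ q, f q ∈ J 1 • (⊤ : Submodule B P) → q ∈ J 1 • (⊤ : Submodule B Q) := by
    intro q hq
    have h0 : (1 : B ⧸ J 1) ⊗ₜ[B] q = 0 := E.injective (by
      rw [map_zero]
      exact ((hf' q).symm.trans ((Submodule.Quotient.mk_eq_zero _).2 hq)))
    have h2 := congrArg (TensorProduct.quotTensorEquivQuotSMul Q (J 1)) h0
    rw [map_zero, TensorProduct.quotTensorEquivQuotSMul_mk_one_tmul] at h2
    exact (Submodule.Quotient.mk_eq_zero _).1 h2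
  have hsurj1 : (⊤ : Submodule B P) ≤ LinearMap.range f ⊔ J 1 • ⊤ := by
    intro x _
    obtain ⟨z, hz⟩ := E.surjective (Submodule.Quotient.mk x)
    obtain ⟨q, rfl⟩ : ∃ q, (1 : B ⧸ J 1) ⊗ₜ[B] q = z := by
      induction z using TensorProduct.induction_on generalizing x with
      | zero => exact ⟨0, TensorProduct.tmul_zero _ _⟩
      | tmul a q =>
        obtain ⟨b, rfl⟩ := Ideal.Quotient.mk_surjective a
        refine ⟨b • q, ?_⟩
        rw [← TensorProduct.smul_tmul, Algebra.smul_def, mul_one, Ideal.Quotient.algebraMap_eq]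
      | add a b ha hb =>
        obtain ⟨y₁, hy₁⟩ := Submodule.Quotient.mk_surjective _ (E a)
        obtain ⟨y₂, hy₂⟩ := Submodule.Quotient.mk_surjective _ (E b)
        obtain ⟨qa, rfl⟩ := @ha y₁ trivial hy₁.symm
        obtain ⟨qb, rfl⟩ := @hb y₂ trivial hy₂.symm
        exact ⟨qa + qb, TensorProduct.tmul_add _ _ _⟩
    rw [← add_sub_cancel (f q) x]
    refine Submodule.add_mem_sup ⟨q, rfl⟩ ?_
    rw [← Submodule.Quotient.eq, hf' q]
    exact hz.symm
  have hlev : ∀ n, (⊤ : Submodule B P) ≤ LinearMap.range f ⊔ J n • ⊤ := by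
    intro n
    obtain ⟨m, hmn⟩ := hm n
    have hk : ∀ k, (⊤ : Submodule B P) ≤ LinearMap.range f ⊔ I ^ k • ⊤ := by
      intro k
      induction k with
      | zero => simp
      | succ k ih =>
        refine ih.trans (sup_le le_sup_left ?_)
        refine (Submodule.smul_mono le_rfl hsurj1).trans ?_
        rw [Submodule.smul_sup]
        refine sup_le (le_sup_of_le_left Submodule.smul_le_right) (le_sup_of_le_right ?_)
        rw [← Submodule.mul_smul, pow_succ, hI]
    exact (hk m).trans (sup_le_sup_left (Submodule.smul_mono hmn le_rfl) _)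
  have hinj : ∀ n, 1 ≤ n → ∀ q, f q ∈ J n • (⊤ : Submodule B P) → q ∈ J n • (⊤ : Submodule B Q) := by
    intro n hn
    haveI := hproj n
    obtain ⟨m, hmn⟩ := hm n
    let fb : (Q ⧸ J n • (⊤ : Submodule B Q)) →ₗ[B] (P ⧸ J n • (⊤ : Submodule B P)) :=
      Submodule.mapQ _ _ f (Submodule.map_le_iff_le_comap.1 (by
        rw [Submodule.map_smul'']; exact Submodule.smul_mono le_rfl le_top))
    have hfb : Function.Surjective fb := by
      intro y
      obtain ⟨y, rfl⟩ := Submodule.Quotient.mk_surjective _ y
      obtain ⟨_, ⟨q, rfl⟩, z, hz, rfl⟩ := Submodule.mem_sup.1 (hlev n (Submodule.mem_top (x := y)))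
      exact ⟨Submodule.Quotient.mk q, ((Submodule.Quotient.eq _).2 (by simpa using Submodule.neg_mem _ hz))⟩
    obtain ⟨s, hs⟩ := Module.projective_lifting_property
      (extendLin (A := B ⧸ J n) Ideal.Quotient.mk_surjective fb) LinearMap.id hfb
    have hs' : ∀ y, fb (s y) = y := LinearMap.congr_fun hs
    let h : (Q ⧸ J n • (⊤ : Submodule B Q)) →ₗ[B] (Q ⧸ J n • (⊤ : Submodule B Q)) :=
      LinearMap.id - (s.restrictScalars B) ∘ₗ fb
    have hrange : LinearMap.range h = LinearMap.ker fb := by
      refine le_antisymm ?_ fun z hz => ⟨z, ?_⟩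
      · rintro _ ⟨z, rfl⟩
        simp [h, hs']
      · simp [h, LinearMap.mem_ker.1 hz]
    have hK : LinearMap.ker fb ≤ I • LinearMap.ker fb := by
      intro z hz
      have e : h z = z := by simp [h, LinearMap.mem_ker.1 hz]
      rw [← e]
      have hzI : z ∈ I • (⊤ : Submodule B (Q ⧸ J n • (⊤ : Submodule B Q))) := by
        obtain ⟨q, rfl⟩ := Submodule.Quotient.mk_surjective _ z
        have hq : q ∈ J 1 • (⊤ : Submodule B Q) := hker q
          (Submodule.smul_mono (hanti hn) le_rfl ((Submodule.Quotient.mk_eq_zero _).1 hz))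
        have := Submodule.mem_map_of_mem (f := (J n • (⊤ : Submodule B Q)).mkQ) hq
        rw [Submodule.map_smul''] at this
        exact Submodule.smul_mono hI.ge le_top this
      have := Submodule.mem_map_of_mem (f := h) hzI
      rwa [Submodule.map_smul'', Submodule.map_top, hrange] at this
    have hK' : ∀ k, LinearMap.ker fb ≤ I ^ k • LinearMap.ker fb := by
      intro k
      induction k with
      | zero => simp
      | succ k ih =>
        refine ih.trans ((Submodule.smul_mono le_rfl hK).trans ?_)
        rw [← Submodule.mul_smul, pow_succ]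
    intro q hq
    have h2 := Submodule.smul_mono hmn (le_top : LinearMap.ker fb ≤ ⊤)
      (hK' m (show Submodule.Quotient.mk q ∈ LinearMap.ker fb from (Submodule.Quotient.mk_eq_zero _).2 hq))
    have h3 : J n • (⊤ : Submodule B (Q ⧸ J n • (⊤ : Submodule B Q))) = ⊥ := by
      rw [← Submodule.range_mkQ (J n • (⊤ : Submodule B Q)), ← Submodule.map_top, ← Submodule.map_smul'',
        eq_bot_iff]
      rintro _ ⟨z, hz, rfl⟩
      exact (Submodule.mem_bot B).2 ((Submodule.Quotient.mk_eq_zero _).2 hz)
    rw [h3, Submodule.mem_bot] at h2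
    exact (Submodule.Quotient.mk_eq_zero _).1 h2
  have hbij : Function.Bijective f := by
    constructor
    · refine (injective_iff_map_eq_zero f).2 fun q hq => ?_
      have hq' : q ∈ ⨅ n, J n • (⊤ : Submodule B Q) := (Submodule.mem_iInf _).2 fun n =>
        Submodule.smul_mono (hanti (le_max_left n 1)) le_rfl
          (hinj _ (le_max_right n 1) q (hq ▸ Submodule.zero_mem _))
      rwa [iInf_smul_top J hsep, Submodule.mem_bot] at hq'
    · intro x
      choose q hq using fun n => show ∃ q, x - f q ∈ J (n + 1) • (⊤ : Submodule B P) from by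
        obtain ⟨_, ⟨q, rfl⟩, z, hz, e⟩ := Submodule.mem_sup.1 (hlev (n + 1) (Submodule.mem_top (x := x)))
        exact ⟨q, by rwa [← e, add_sub_cancel_left]⟩
      have hdiff : ∀ n, q (n + 1) - q n ∈ J (n + 1) • (⊤ : Submodule B Q) := fun n => by
        refine hinj _ (Nat.le_add_left 1 n) _ ?_
        rw [map_sub, show f (q (n + 1)) - f (q n) = (x - f (q n)) - (x - f (q (n + 1))) by abel]
        exact Submodule.sub_mem _ (hq n) (Submodule.smul_mono (hanti (Nat.le_succ _)) le_rfl (hq (n + 1)))
      obtain ⟨r, π, hπ⟩ := Module.Finite.exists_fin' B Q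
      obtain ⟨i, hi⟩ := Module.projective_lifting_property π LinearMap.id hπ
      have hc : ∀ c, ∃ L, ∀ n, L - i (q n) c ∈ J n := fun c => hcomplete (fun n => i (q n) c) fun n => by
        refine hanti (Nat.le_succ n) ?_
        have := Submodule.mem_map_of_mem (f := i) (hdiff n)
        rw [Submodule.map_smul'', map_sub] at this
        exact mem_smul_top_pi _ (Submodule.smul_mono le_rfl le_top this) c
      choose L hL using hc
      refine ⟨π L, (sub_eq_zero.1 ?_).symm⟩
      have hx' : x - f (π L) ∈ ⨅ n, J n • (⊤ : Submodule B P) := (Submodule.mem_iInf _).2 fun n => by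
        have h1 : f (π (L - i (q n))) ∈ J n • (⊤ : Submodule B P) := by
          have := Submodule.mem_map_of_mem (f := f ∘ₗ π) (smul_top_pi_of_mem (J n) (fun c => hL c n))
          rw [Submodule.map_smul''] at this
          exact Submodule.smul_mono le_rfl le_top this
        have e : π (i (q n)) = q n := LinearMap.congr_fun hi (q n)
        rw [map_sub, e, map_sub] at h1
        have h2 := Submodule.smul_mono (hanti (Nat.le_succ n)) le_rfl (hq n)
        have := Submodule.sub_mem _ h2 h1
        rwa [show x - f (q n) - (f (π L) - f (q n)) = x - f (π L) by abel] at this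
      rwa [hP, Submodule.mem_bot] at hx'
  exact ⟨Module.Finite.equiv (LinearEquiv.ofBijective f hbij),
    Module.Projective.of_equiv (LinearEquiv.ofBijective f hbij)⟩

theorem levels_of_finite_projective {P : Type v} [AddCommGroup P] [Module B P] [Module.Finite B P]
    [Module.Projective B P] (J : Ideal B) :
    Module.Finite (B ⧸ J) (P ⧸ J • (⊤ : Submodule B P)) ∧
      Module.Projective (B ⧸ J) (P ⧸ J • (⊤ : Submodule B P)) := by
  let e : ((B ⧸ J) ⊗[B] P) ≃ₗ[B ⧸ J] (P ⧸ J • (⊤ : Submodule B P)) :=
    { extendLin Ideal.Quotient.mk_surjective (TensorProduct.quotTensorEquivQuotSMul P J).toLinearMap,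
      TensorProduct.quotTensorEquivQuotSMul P J with }
  exact ⟨Module.Finite.equiv e, Module.Projective.of_equiv e⟩

end

/-- Let p be a prime and R a commutative ring in which p is nilpotent; write W = W(R) for the p-typical
Witt vectors and, for n ≥ 0, I_n ⊆ W for the ideal of Witt vectors whose first n components vanish
(the kernel of the truncation W → W_n(R), so W/I_n = W_n(R)). For a W-module P conditions (i) and
(ii) below are equivalent: (i) P is a projective W-module of finite type; (ii) P is separated for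
the filtration by the submodules I_n P, and for every n the W_n(R)-module P/I_n P is finitely
generated and projective. (The published statement is made for every ℤ_(p)-algebra R, the section's
standing convention; over R = ℚ, where W(ℚ) ≅ ℚ^ℕ by the ghost map, the module ⊕_ℕ ℚ satisfies (ii)
but is not finitely generated, and the published proof uses that I_1 is nilpotent in each W_n(R),
which holds when p is nilpotent in R; so p is taken nilpotent here. The third equivalent condition
of the published statement, freeness Zariski-locally on R, is not rendered.) -/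
theorem result (p : ℕ) [Fact p.Prime] (R : Type u) [CommRing R]
    (hp : IsNilpotent (p : R))
    (P : Type v) [AddCommGroup P] [Module (WittVector p R) P] :
    (Module.Finite (WittVector p R) P ∧ Module.Projective (WittVector p R) P) ↔
      ((⨅ n : ℕ, (RingHom.ker (WittVector.truncate (p := p) (R := R) n) • (⊤ : Submodule (WittVector p R) P))) = ⊥ ∧
        ∀ n : ℕ, Module.Finite (WittVector p R ⧸ RingHom.ker (WittVector.truncate (p := p) (R := R) n))
              (P ⧸ (RingHom.ker (WittVector.truncate (p := p) (R := R) n) • (⊤ : Submodule (WittVector p R) P))) ∧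
            Module.Projective (WittVector p R ⧸ RingHom.ker (WittVector.truncate (p := p) (R := R) n))
              (P ⧸ (RingHom.ker (WittVector.truncate (p := p) (R := R) n) • (⊤ : Submodule (WittVector p R) P)))) := by
  set J : ℕ → Ideal (WittVector p R) := fun n => RingHom.ker (WittVector.truncate (p := p) (R := R) n) with hJ
  have hmem : ∀ n x, x ∈ J n ↔ ∀ i < n, x.coeff i = 0 := fun n x => WittVector.mem_ker_truncate n x
  have hsep : ⨅ n, J n = ⊥ := eq_bot_iff.2 fun x hx => by
    rw [Ideal.mem_iInf] at hx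
    exact (Submodule.mem_bot _).2 (WittVector.ext fun i => by
      rw [(hmem (i + 1) x).1 (hx (i + 1)) i (Nat.lt_succ_self i), WittVector.zero_coeff])
  constructor
  · rintro ⟨hf, hpr⟩
    exact ⟨iInf_smul_top J hsep, fun n => levels_of_finite_projective (J n)⟩
  · rintro ⟨hs, hlev⟩
    obtain ⟨N, hN⟩ := hp
    haveI : IsAdicComplete (Ideal.span {(p : R)}) R :=
      Groth.Calg7.IdemLift.isAdicComplete_of_pow_eq_bot _ _ (N := N) (by
        rw [Ideal.span_singleton_pow, hN, Ideal.span_singleton_eq_bot])
    haveI := Groth.Calg7.WittComplete.isAdicComplete_ker (p := p) (R := R)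
    set I := RingHom.ker (WittVector.constantCoeff : WittVector p R →+* R) with hI
    have hI1 : I = J 1 := Ideal.ext fun x => by
      rw [hmem, hI, RingHom.mem_ker]
      exact ⟨fun h i hi => by rwa [Nat.lt_one_iff.1 hi], fun h => h 0 Nat.one_pos⟩
    obtain ⟨hA, hB, hC⟩ := Groth.Agent.S14864.result p R ⟨N, hN⟩
    refine finite_projective_of_levels J I hI1 (fun n => ?_) (fun b hb => ?_) hsep
      (fun a b hab x hx => (hmem a x).2 fun i hi => (hmem b x).1 hx i (by omega)) hs (hlev 1).1
      (fun n => (hlev n).2)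
    · obtain ⟨k, hk⟩ := hC n
      obtain ⟨m, hm⟩ := hA k
      exact ⟨m, hm.trans (by rwa [Ideal.span_singleton_pow] at hk ⊢)⟩
    · have hc : ∀ n, ∀ i < n, (b (n + 1)).coeff i = (b n).coeff i := fun n i hi => by
        have h := sub_eq_zero.1 ((map_sub (WittVector.truncate (p := p) (R := R) n) _ _).symm.trans (hb n))
        simpa [WittVector.coeff_truncate] using congrArg (fun z => TruncatedWittVector.coeff ⟨i, hi⟩ z) h
      have hst : ∀ i n, i < n → (b n).coeff i = (b (i + 1)).coeff i := by
        intro i n hn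
        induction n, hn using Nat.le_induction with
        | base => rfl
        | succ n hn ih => rw [hc n i hn, ih]
      refine ⟨WittVector.mk p fun i => (b (i + 1)).coeff i, fun n => ?_⟩
      rw [hJ, RingHom.mem_ker, map_sub, sub_eq_zero]
      ext i
      simp only [WittVector.coeff_truncate, WittVector.coeff_mk]
      exact (hst i n i.2).symm

end Groth.Agent.S14860
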