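import Groth.Statements.S14862
import Mathlib
import Groth.Agent.Calg7.WittDivClosed
-- import your own Groth.Agent.* helpers here

set_option autoImplicit false
universe u
open CAlg

namespace Groth.Agent.S14862

/-- Let p be a prime and S a commutative ring without p-torsion which is complete and separated for the
p-adic topology; write W = W(S) for the p-typical Witt vectors, I_r ⊆ W for the ideal of Witt
vectors whose first r components vanish (the image of the r-th iterate of the Verschiebung) and
W(p^s S) ⊆ W for the ideal of Witt vectors all of whose components lie in p^s S (the kernel of W(S)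
→ W(S/p^s S)). Then for every natural number u the ideal p^u W is closed for the linear topology on
W in which the ideals I_r + W(p^s S) form a neighbourhood basis of zero: the intersection over all r
and s of p^u W + I_r + W(p^s S) equals p^u W. (The published statement asks only that S have no
p-torsion; S is moreover taken p-adically complete and separated here, the case in which the result
is applied and through which the published proof goes.) -/
theorem result (p : ℕ) [Fact p.Prime] (S : Type u) [CommRing S]
    (hS : ∀ y : S, (p : S) * y = 0 → y = 0) [IsAdicComplete (Ideal.span {(p : S)}) S] (u : ℕ) :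
    (⨅ r : ℕ, ⨅ s : ℕ,
        Ideal.span {(p : WittVector p S) ^ u} ⊔ RingHom.ker (WittVector.truncate (p := p) (R := S) r) ⊔
          RingHom.ker (WittVector.map (p := p) (Ideal.Quotient.mk (Ideal.span {(p : S) ^ s})))) =
      Ideal.span {(p : WittVector p S) ^ u} := by
  refine le_antisymm (fun x hx => ?_) (le_iInf fun r => le_iInf fun s => le_trans le_sup_left le_sup_left)
  have hsol : ∀ m : ℕ, ∃ z : WittVector p S,
      ∀ i < m, ((p : WittVector p S) ^ u * z - x).coeff i = 0 := by
    intro m
    refine Groth.Calg7.WittDiv.exists_solution hS x m u fun s => ?_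
    simp only [Submodule.mem_iInf] at hx
    obtain ⟨w, hw, b, hb, hx'⟩ := Submodule.mem_sup.1 (hx m s)
    obtain ⟨c, hc, d, hd, rfl⟩ := Submodule.mem_sup.1 hw
    obtain ⟨z, rfl⟩ := Ideal.mem_span_singleton'.1 hc
    refine ⟨z, (Groth.Calg7.WittDiv.small_iff _ _ _).2 ?_⟩
    rw [RingHom.mem_ker] at hb
    have hd' : WittVector.truncate m
        (WittVector.map (Ideal.Quotient.mk (Ideal.span {(p : S) ^ s})) d) = 0 := by
      rw [← RingHom.mem_ker, WittVector.mem_ker_truncate]
      rw [WittVector.mem_ker_truncate] at hd
      intro i hi
      rw [WittVector.map_coeff, hd i hi, map_zero]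
    rw [← hx', show (p : WittVector p S) ^ u * z - (z * (p : WittVector p S) ^ u + d + b) = -(d + b) by ring,
      map_neg, map_add, hb, add_zero, map_neg, hd', neg_zero]
  obtain ⟨z, hz⟩ := Groth.Calg7.WittDiv.exists_solution_all hS x u hsol
  exact Ideal.mem_span_singleton'.2 ⟨z, by rw [mul_comm, hz]⟩

end Groth.Agent.S14862
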