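import Groth.Statements.S14863
import Groth.Agent.Misc5Disp.Dieudonne
import Groth.Agent.Misc5Disp.Normal

set_option autoImplicit false
universe u v
open Disp

namespace Groth.Agent.S14863

/-- Let p be a prime and k a perfect commutative ring of characteristic p, so that the Frobenius σ of W
= W(k) is an automorphism. Let M be a Dieudonné module over k, that is, a projective W-module of
finite type with a σ-semilinear operator F and a σ⁻¹-semilinear operator V such that FV = VF = p.
Then (M, VM, F, V⁻¹) is a 3n-display over k: there exists a 3n-display structure on the W-module M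
whose distinguished submodule is exactly the image of V, whose Frobenius operator is F, and whose
operator V⁻¹ sends V m to m for every m. (The published statement is the equivalence of the category
of 3n-displays over k with that of Dieudonné modules, displays corresponding to topologically
nilpotent V; this row is the passage from a Dieudonné module to a 3n-display.) -/
theorem result (p : ℕ) [Fact p.Prime] (k : Type u) [CommRing k]
    [CharP k p] [PerfectRing k p]
    (M : Type v) [AddCommGroup M] [Module (WittVector p k) M]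
    [Module.Finite (WittVector p k) M] [Module.Projective (WittVector p k) M]
    (F : M →ₛₗ[(WittVector.frobenius : WittVector p k →+* WittVector p k)] M)
    (V : M →ₛₗ[((WittVector.frobeniusEquiv p k).symm : WittVector p k →+* WittVector p k)] M)
    (hFV : ∀ m : M, F (V m) = (p : WittVector p k) • m) (hVF : ∀ m : M, V (F m) = (p : WittVector p k) • m) :
    ∃ D : W4c1extbt610.Display3n p k M,
      D.F = F ∧ (∀ x : M, x ∈ D.Q ↔ x ∈ Set.range V) ∧
        ∀ (m : M) (h : V m ∈ D.Q), D.Vinv ⟨V m, h⟩ = m := by
  classical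
  haveI : IsAdicComplete (Ideal.span {(p : k)}) k :=
    Groth.Misc5Disp.isAdicComplete_of_isNilpotent ⟨1, by rw [pow_one, CharP.cast_eq_zero]⟩
  haveI := Groth.Misc5Disp.isAdicComplete_IV (p := p) (R := k)
  let σ : WittVector p k →+* WittVector p k := WittVector.frobenius
  let τ : WittVector p k →+* WittVector p k := ((WittVector.frobeniusEquiv p k).symm : WittVector p k →+* WittVector p k)
  have hστ : ∀ a, σ (τ a) = a := fun a => by
    have := (WittVector.frobeniusEquiv p k).apply_symm_apply a
    rwa [WittVector.frobeniusEquiv_apply] at this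
  have hτσ : ∀ a, τ (σ a) = a := fun a => by
    have := (WittVector.frobeniusEquiv p k).symm_apply_apply a
    rwa [WittVector.frobeniusEquiv_apply] at this
  let Q : Submodule (WittVector p k) M :=
    { carrier := Set.range V
      add_mem' := by rintro _ _ ⟨a, rfl⟩ ⟨b, rfl⟩; exact ⟨a + b, map_add V a b⟩
      zero_mem' := ⟨0, map_zero V⟩
      smul_mem' := by
        rintro c _ ⟨a, rfl⟩
        refine ⟨σ c • a, ?_⟩
        rw [map_smulₛₗ]
        exact congrArg (· • V a) (hτσ c) }
  obtain ⟨r, φ, e, he⟩ := Groth.Misc5Disp.exists_dualBasis (A := WittVector p k) (P := M)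
  have htf : ∀ x : M, (p : WittVector p k) • x = 0 → x = 0 := by
    intro x hx
    rw [← he x]
    refine Finset.sum_eq_zero fun i _ => ?_
    have h0 : φ i x = 0 := by
      have h1 : (p : WittVector p k) * φ i x ∈ Groth.Misc5Disp.WI (p := p) (⊥ : Ideal k) := by
        rw [← smul_eq_mul, ← map_smul, hx, map_zero]
        exact zero_mem _
      have h2 := Groth.Misc5Disp.mem_WI_of_p_mul_mem (Groth.Misc5Disp.isRadical_bot_of_perfect p k) h1
      rwa [Groth.Misc5Disp.WI_bot, Ideal.mem_bot] at h2
    rw [h0, zero_smul]
  have hVinj : Function.Injective V := by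
    intro a b hab
    refine sub_eq_zero.1 (htf _ ?_)
    rw [← hFV, map_sub, hab, sub_self, map_zero]
  have hIVQ : W4c1extbt610.IV p k • (⊤ : Submodule (WittVector p k) M) ≤ Q := by
    rw [Groth.Misc5Disp.IV_eq_span_p]
    refine Submodule.smul_le.2 fun a ha m _ => ?_
    obtain ⟨c, rfl⟩ := Ideal.mem_span_singleton'.1 ha
    rw [mul_smul, ← hVF]
    exact Q.smul_mem c ⟨F m, rfl⟩
  -- the normal decomposition
  have hnorm : ∃ L T : Submodule (WittVector p k) M, IsCompl L T ∧ Q = L ⊔ W4c1extbt610.IV p k • T := by
    obtain ⟨hfin, hproj⟩ := Groth.Misc5Disp.finite_projective_mod (M := M)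
      (Algebra.ofId (WittVector p k) (WittVector p k ⧸ Ideal.span {(p : WittVector p k)})) (fun x => ⟨x, rfl⟩)
    have hP := Groth.Misc5Disp.projective_mod_V F V hFV hVF Groth.Misc5Disp.pTorsionMod_of_projective
    set J := Ideal.span {(p : WittVector p k)} • (⊤ : Submodule (WittVector p k) M) with hJ
    set U := Submodule.span (WittVector p k ⧸ Ideal.span {(p : WittVector p k)}) (Set.range fun m : M => J.mkQ (V m)) with hU
    obtain ⟨s, hs⟩ := Module.projective_lifting_property U.mkQ LinearMap.id (Submodule.mkQ_surjective U)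
    have hUmem : ∀ y ∈ U, ∃ q ∈ Q, J.mkQ q = y := by
      intro y hy
      induction hy using Submodule.span_induction with
      | mem z hz => obtain ⟨m, rfl⟩ := hz; exact ⟨V m, ⟨m, rfl⟩, rfl⟩
      | zero => exact ⟨0, zero_mem _, map_zero _⟩
      | add a b _ _ ha hb =>
        obtain ⟨a', ha', rfl⟩ := ha
        obtain ⟨b', hb', rfl⟩ := hb
        exact ⟨a' + b', add_mem ha' hb', map_add _ a' b'⟩
      | smul c a _ ha =>
        obtain ⟨c, rfl⟩ := Ideal.Quotient.mk_surjective c
        obtain ⟨a', ha', rfl⟩ := ha
        exact ⟨c • a', Q.smul_mem c ha', map_smul _ c a'⟩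
    let C : Submodule (WittVector p k) M := ((LinearMap.range s).restrictScalars (WittVector p k)).comap J.mkQ
    refine Groth.Misc5Disp.exists_lift_decomp Q C (eq_top_iff.2 fun x _ => ?_) (le_antisymm ?_ (le_inf hIVQ ?_))
    · obtain ⟨z, hz⟩ := Submodule.mkQ_surjective J (s (U.mkQ (J.mkQ x)))
      rw [← sub_add_cancel x z]
      refine Submodule.add_mem_sup ?_ ⟨U.mkQ (J.mkQ x), hz.symm⟩
      have hmem : J.mkQ (x - z) ∈ U := by
        rw [map_sub, hz, ← Submodule.Quotient.eq]
        exact (LinearMap.congr_fun hs (U.mkQ (J.mkQ x))).symm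
      obtain ⟨q, hq, hqx⟩ := hUmem _ hmem
      rw [← add_sub_cancel q (x - z)]
      refine add_mem hq (hIVQ ?_)
      rw [Groth.Misc5Disp.IV_eq_span_p]
      exact (Submodule.Quotient.eq J).1 hqx.symm
    · rintro x ⟨⟨m, rfl⟩, ⟨y, hy⟩⟩
      rw [Groth.Misc5Disp.IV_eq_span_p, ← hJ, ← Submodule.Quotient.mk_eq_zero J]
      have h0 : U.mkQ (s y) = y := LinearMap.congr_fun hs y
      rw [hy] at h0
      have h1 : U.mkQ (J.mkQ (V m)) = 0 := (Submodule.Quotient.mk_eq_zero U).2 (Submodule.subset_span ⟨m, rfl⟩)
      rw [h1] at h0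
      rw [← h0, map_zero] at hy
      exact hy.symm
    · intro x hx
      rw [Groth.Misc5Disp.IV_eq_span_p] at hx
      refine ⟨0, ?_⟩
      rw [map_zero]
      exact ((Submodule.Quotient.mk_eq_zero J).2 hx).symm
  let g : Q → M := fun y => y.2.choose
  have hg : ∀ y : Q, V (g y) = y := fun y => y.2.choose_spec
  let Vinv : Q →ₛₗ[(WittVector.frobenius : WittVector p k →+* WittVector p k)] M :=
    { toFun := g
      map_add' := fun a b => hVinj (by rw [map_add, hg, hg, hg]; rfl)
      map_smul' := fun c a => hVinj (by
        rw [map_smulₛₗ, hg, hg]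
        show c • (a : M) = τ (σ c) • (a : M)
        rw [hτσ]) }
  refine ⟨{ Q := Q, F := F, Vinv := Vinv, finite := inferInstance, projective := inferInstance, IV_smul_le := hIVQ
            exists_normal := hnorm, span_range_Vinv := ?_, Vinv_verschiebung_smul := fun w x => ?_ }, rfl,
    fun x => Iff.rfl, fun m h => hVinj (hg ⟨V m, h⟩)⟩
  · exact eq_top_iff.2 fun m _ => Submodule.subset_span ⟨⟨V m, ⟨m, rfl⟩⟩, hVinj (hg _)⟩
  · refine hVinj ((hg _).trans ?_)
    rw [map_smulₛₗ, hVF, smul_smul]
    show WittVector.verschiebung w • x = (τ w * (p : WittVector p k)) • x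
    congr 1
    rw [← hτσ (WittVector.verschiebung w), show σ (WittVector.verschiebung w) = (p : WittVector p k) * w from
      Groth.Misc5Disp.frobenius_V w, map_mul, map_natCast, mul_comm]

end Groth.Agent.S14863
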