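import Groth.Statements.S14867
import Mathlib
import Groth.Agent.Calg7.IdemLift
-- import your own Groth.Agent.* helpers here

set_option autoImplicit false
universe u
open CAlg

namespace Groth.Agent.S14867

open scoped TensorProduct in
theorem exists_part (p : ℕ) [Fact p.Prime] (S R : Type u) [CommRing S] [CommRing R] (φ : S →+* R)
    (hφ : Function.Surjective φ) (hnil : ∀ a : S, φ a = 0 → IsNilpotent a) (hp : IsNilpotent (p : S))
    (P : Type u) [AddCommGroup P] [Module (WittVector p R) P]
    [Module.Finite (WittVector p R) P] [Module.Projective (WittVector p R) P] :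
    ∃ (P' : Type u) (_ : AddCommGroup P') (_ : Module (WittVector p S) P'),
      Module.Finite (WittVector p S) P' ∧ Module.Projective (WittVector p S) P' ∧
        ∃ π : P' →ₛₗ[WittVector.map (p := p) φ] P, Function.Surjective π ∧
          LinearMap.ker π = RingHom.ker (WittVector.map (p := p) φ) • (⊤ : Submodule (WittVector p S) P') := by
  obtain ⟨N, hN⟩ := hp
  haveI : IsAdicComplete (Ideal.span {(p : S)}) S :=
    Groth.Calg7.IdemLift.isAdicComplete_of_pow_eq_bot _ _ (N := N) (by
      rw [Ideal.span_singleton_pow, hN, Ideal.span_singleton_eq_bot])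
  haveI : IsAdicComplete (Ideal.span {(p : R)}) R :=
    Groth.Calg7.IdemLift.isAdicComplete_of_pow_eq_bot _ _ (N := N) (by
      rw [Ideal.span_singleton_pow, ← map_natCast φ, ← map_pow, hN, map_zero, Ideal.span_singleton_eq_bot])
  letI : Algebra (WittVector p S) (WittVector p R) := (WittVector.map (p := p) φ).toAlgebra
  obtain ⟨Q, _, _, hQf, hQp, ⟨E⟩⟩ := Groth.Calg7.LiftProj.exists_lift (B := WittVector p S)
    (A := WittVector p R) (fun n e he => Groth.Calg7.IdemLift.exists_idem_witt φ hφ hnil e he) P
  let π : Q →ₛₗ[WittVector.map (p := p) φ] P :=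
    { toFun := fun q => E (1 ⊗ₜ[WittVector p S] q)
      map_add' := fun a b => by rw [TensorProduct.tmul_add, map_add]
      map_smul' := fun b q => by
        rw [TensorProduct.tmul_smul, ← algebraMap_smul (WittVector p R) b
          ((1 : WittVector p R) ⊗ₜ[WittVector p S] q), map_smul]
        rfl }
  have hsurj : Function.Surjective (algebraMap (WittVector p S) (WittVector p R)) :=
    WittVector.map_surjective φ hφ
  refine ⟨Q, inferInstance, inferInstance, hQf, hQp, π, fun y => ?_, le_antisymm (fun q hq => ?_) ?_⟩
  · obtain ⟨z, rfl⟩ := E.surjective y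
    obtain ⟨q, rfl⟩ : ∃ q, (1 : WittVector p R) ⊗ₜ[WittVector p S] q = z := by
      induction z using TensorProduct.induction_on with
      | zero => exact ⟨0, TensorProduct.tmul_zero _ _⟩
      | tmul a q =>
        obtain ⟨b, rfl⟩ := hsurj a
        exact ⟨b • q, by rw [← TensorProduct.smul_tmul, Algebra.smul_def, mul_one]⟩
      | add a b ha hb =>
        obtain ⟨qa, rfl⟩ := ha; obtain ⟨qb, rfl⟩ := hb
        exact ⟨qa + qb, TensorProduct.tmul_add _ _ _⟩
    exact ⟨q, rfl⟩
  · have h0 : (1 : WittVector p R) ⊗ₜ[WittVector p S] q = 0 := E.injective (hq.trans (map_zero E).symm)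
    let q' := Ideal.quotientKerAlgEquivOfSurjective (f := Algebra.ofId (WittVector p S) (WittVector p R)) hsurj
    have h1 := congrArg (TensorProduct.congr q'.symm.toLinearEquiv (LinearEquiv.refl (WittVector p S) Q)) h0
    rw [map_zero, TensorProduct.congr_tmul] at h1
    have h2 := congrArg (TensorProduct.quotTensorEquivQuotSMul Q
      (RingHom.ker (Algebra.ofId (WittVector p S) (WittVector p R)))) h1
    rw [map_zero] at h2
    simp only [AlgEquiv.toLinearEquiv_apply, map_one, LinearEquiv.refl_apply,
      TensorProduct.quotTensorEquivQuotSMul_mk_one_tmul] at h2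
    exact (Submodule.Quotient.mk_eq_zero _).1 h2
  · rw [Submodule.smul_le]
    intro j hj q _
    change π (j • q) = 0
    rw [map_smulₛₗ, RingHom.mem_ker.1 hj, zero_smul]

/-- Let p be a prime and S → R a surjective homomorphism of commutative rings such that every element of
its kernel 𝔞 is nilpotent and p is nilpotent in S; write J = W(𝔞) for the kernel of the induced
surjection W(S) → W(R) of rings of p-typical Witt vectors. Then finitely generated projective
modules lift along W(S) → W(R), uniquely up to isomorphism: for every finitely generated projective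
W(R)-module P there is a finitely generated projective W(S)-module P̃ together with a surjection P̃
→ P, semilinear over W(S) → W(R), whose kernel is J·P̃ (that is, an isomorphism W(R) ⊗_{W(S)} P̃ ≅
P); and for any two such pairs (P̃_1, π_1), (P̃_2, π_2) there is a W(S)-linear isomorphism P̃_1 ≅
P̃_2 compatible with π_1 and π_2. -/
theorem result (p : ℕ) [Fact p.Prime] (S R : Type u)
    [CommRing S] [CommRing R] (φ : S →+* R) (hφ : Function.Surjective φ)
    (hnil : ∀ a : S, φ a = 0 → IsNilpotent a) (hp : IsNilpotent (p : S))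
    (P : Type u) [AddCommGroup P] [Module (WittVector p R) P]
    [Module.Finite (WittVector p R) P] [Module.Projective (WittVector p R) P] :
    (∃ (P' : Type u) (_ : AddCommGroup P') (_ : Module (WittVector p S) P'),
        Module.Finite (WittVector p S) P' ∧ Module.Projective (WittVector p S) P' ∧
          ∃ π : P' →ₛₗ[WittVector.map (p := p) φ] P, Function.Surjective π ∧
            LinearMap.ker π = RingHom.ker (WittVector.map (p := p) φ) • (⊤ : Submodule (WittVector p S) P')) ∧
      ∀ (P₁ : Type u) [AddCommGroup P₁] [Module (WittVector p S) P₁]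
        [Module.Finite (WittVector p S) P₁] [Module.Projective (WittVector p S) P₁]
        (P₂ : Type u) [AddCommGroup P₂] [Module (WittVector p S) P₂]
        [Module.Finite (WittVector p S) P₂] [Module.Projective (WittVector p S) P₂]
        (π₁ : P₁ →ₛₗ[WittVector.map (p := p) φ] P) (π₂ : P₂ →ₛₗ[WittVector.map (p := p) φ] P),
        Function.Surjective π₁ →
          LinearMap.ker π₁ = RingHom.ker (WittVector.map (p := p) φ) • (⊤ : Submodule (WittVector p S) P₁) →
        Function.Surjective π₂ →
          LinearMap.ker π₂ = RingHom.ker (WittVector.map (p := p) φ) • (⊤ : Submodule (WittVector p S) P₂) →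
        ∃ e : P₁ ≃ₗ[WittVector p S] P₂, ∀ x : P₁, π₂ (e x) = π₁ x := by
  refine ⟨exists_part p S R φ hφ hnil hp P, ?_⟩
  intro P₁ _ _ _ _ P₂ _ _ _ _ π₁ π₂ h1 k1 h2 k2
  obtain ⟨N, hN⟩ := hp
  haveI : IsAdicComplete (Ideal.span {(p : S)}) S :=
    Groth.Calg7.IdemLift.isAdicComplete_of_pow_eq_bot _ _ (N := N) (by
      rw [Ideal.span_singleton_pow, hN, Ideal.span_singleton_eq_bot])
  letI : Module (WittVector p S) P := Module.compHom P (WittVector.map (p := p) φ)
  let l₁ : P₁ →ₗ[WittVector p S] P :=
    { toFun := π₁, map_add' := map_add π₁, map_smul' := fun b x => map_smulₛₗ π₁ b x }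
  let l₂ : P₂ →ₗ[WittVector p S] P :=
    { toFun := π₂, map_add' := map_add π₂, map_smul' := fun b x => map_smulₛₗ π₂ b x }
  obtain ⟨e, he⟩ := Module.projective_lifting_property l₂ l₁ h2
  obtain ⟨g, hg⟩ := Module.projective_lifting_property l₁ l₂ h1
  have he' : ∀ x, π₂ (e x) = π₁ x := LinearMap.congr_fun he
  have hg' : ∀ x, π₁ (g x) = π₂ x := LinearMap.congr_fun hg
  have hJ : RingHom.ker (WittVector.map (p := p) φ) ≤ (⊥ : Ideal (WittVector p S)).jacobson := by
    intro x hx
    rw [Ideal.mem_jacobson_bot]
    intro y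
    refine Groth.Calg7.IdemLift.isUnit_of_map φ hφ hnil _ ?_
    rw [map_add, map_mul, RingHom.mem_ker.1 hx, zero_mul, zero_add, map_one]
    exact isUnit_one
  have key : ∀ (Q : Type u) [AddCommGroup Q] [Module (WittVector p S) Q]
      [Module.Finite (WittVector p S) Q] (π : Q →ₛₗ[WittVector.map (p := p) φ] P),
      LinearMap.ker π = RingHom.ker (WittVector.map (p := p) φ) • (⊤ : Submodule (WittVector p S) Q) →
      ∀ f : Q →ₗ[WittVector p S] Q, (∀ x, π (f x) = π x) → Function.Bijective f := by
    intro Q _ _ _ π hk f hf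
    have hs : Function.Surjective f := by
      rw [← LinearMap.range_eq_top]
      refine Submodule.eq_top_iff'.2 fun x => ?_
      have hle : (⊤ : Submodule (WittVector p S) Q) ≤ LinearMap.range f ⊔
          RingHom.ker (WittVector.map (p := p) φ) • (⊤ : Submodule (WittVector p S) Q) := fun z _ => by
        rw [← add_sub_cancel (f z) z]
        refine Submodule.add_mem_sup ⟨z, rfl⟩ (hk ▸ ?_)
        rw [LinearMap.mem_ker, map_sub, hf, sub_self]
      exact Submodule.le_of_le_smul_of_le_jacobson_bot Module.Finite.fg_top hJ hle trivial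
    exact ⟨OrzechProperty.injective_of_surjective_endomorphism f hs, hs⟩
  have hb1 := key P₁ π₁ k1 (g ∘ₗ e) (fun x => by rw [LinearMap.comp_apply, hg', he'])
  have hb2 := key P₂ π₂ k2 (e ∘ₗ g) (fun x => by rw [LinearMap.comp_apply, he', hg'])
  exact ⟨LinearEquiv.ofBijective e ⟨Function.Injective.of_comp (f := g) (g := e) hb1.1, Function.Surjective.of_comp (f := e) (g := g) hb2.2⟩, he'⟩

end Groth.Agent.S14867
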