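import Groth.Statements.S14868
-- import your own Groth.Agent.* helpers here

set_option autoImplicit false
universe u v w
open Disp

namespace Groth.Agent.S14868

/-- Let p be a prime, R a commutative ring, W = W(R) its ring of p-typical Witt vectors with Frobenius σ
and Verschiebung V, and let (P_1, Q_1, F, V⁻¹) and (P_2, Q_2, F, V⁻¹) be 3n-displays over R. A
bilinear form of 3n-displays is a W-bilinear map ( , ) : P_1 × P_2 → W such that V((V⁻¹y_1, V⁻¹y_2))
= (y_1, y_2) for all y_1 ∈ Q_1 and y_2 ∈ Q_2. For such a form the following relations hold: (V⁻¹y_1,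
F x_2) = σ((y_1, x_2)) for y_1 ∈ Q_1, x_2 ∈ P_2; (F x_1, F x_2) = p·σ((x_1, x_2)) for x_1 ∈ P_1, x_2
∈ P_2; (F x_1, V⁻¹y_2) = σ((x_1, y_2)) for x_1 ∈ P_1, y_2 ∈ Q_2; and (y_1, y_2) lies in the ideal
I_R = V W for y_1 ∈ Q_1, y_2 ∈ Q_2. -/
theorem result (p : ℕ) [Fact p.Prime] (R : Type u) [CommRing R]
    (P₁ : Type v) [AddCommGroup P₁] [Module (WittVector p R) P₁]
    (P₂ : Type w) [AddCommGroup P₂] [Module (WittVector p R) P₂]
    (D₁ : W4c1extbt610.Display3n p R P₁) (D₂ : W4c1extbt610.Display3n p R P₂)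
    (B : P₁ →ₗ[WittVector p R] P₂ →ₗ[WittVector p R] WittVector p R)
    (hB : ∀ (y₁ : D₁.Q) (y₂ : D₂.Q),
      WittVector.verschiebung (B (D₁.Vinv y₁) (D₂.Vinv y₂)) = B (y₁ : P₁) (y₂ : P₂)) :
    (∀ (y₁ : D₁.Q) (x₂ : P₂), B (D₁.Vinv y₁) (D₂.F x₂) = WittVector.frobenius (B (y₁ : P₁) x₂)) ∧
      (∀ (x₁ : P₁) (x₂ : P₂),
        B (D₁.F x₁) (D₂.F x₂) = (p : WittVector p R) * WittVector.frobenius (B x₁ x₂)) ∧
      (∀ (x₁ : P₁) (y₂ : D₂.Q), B (D₁.F x₁) (D₂.Vinv y₂) = WittVector.frobenius (B x₁ (y₂ : P₂))) ∧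
      ∀ (y₁ : D₁.Q) (y₂ : D₂.Q), B (y₁ : P₁) (y₂ : P₂) ∈ W4c1extbt610.IV p R := by
  classical
  have Vinj : Function.Injective (WittVector.verschiebung : WittVector p R → WittVector p R) := by
    intro a b h
    ext n
    have := congrArg (fun z : WittVector p R => z.coeff (n + 1)) h
    simpa [WittVector.verschiebung_coeff_succ] using this
  have Vmul : ∀ a b : WittVector p R,
      WittVector.verschiebung a * b = WittVector.verschiebung (a * WittVector.frobenius b) := fun a b =>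
    (WittVector.verschiebung_mul_frobenius a b).symm
  have h1 : ∀ (y₁ : D₁.Q) (x₂ : P₂), B (D₁.Vinv y₁) (D₂.F x₂) = WittVector.frobenius (B (y₁ : P₁) x₂) := by
    intro y₁ x₂
    apply Vinj
    have h := hB y₁ ⟨WittVector.verschiebung 1 • x₂, D₂.IV_smul_le
      (Submodule.smul_mem_smul (W4c1extbt610.verschiebung_mem_IV p R 1) Submodule.mem_top)⟩
    rw [D₂.Vinv_verschiebung_smul, one_smul] at h
    rw [h, map_smul, smul_eq_mul, Vmul, one_mul]
  have h3 : ∀ (x₁ : P₁) (y₂ : D₂.Q), B (D₁.F x₁) (D₂.Vinv y₂) = WittVector.frobenius (B x₁ (y₂ : P₂)) := by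
    intro x₁ y₂
    apply Vinj
    have h := hB ⟨WittVector.verschiebung 1 • x₁, D₁.IV_smul_le
      (Submodule.smul_mem_smul (W4c1extbt610.verschiebung_mem_IV p R 1) Submodule.mem_top)⟩ y₂
    rw [D₁.Vinv_verschiebung_smul, one_smul] at h
    rw [h, map_smul, LinearMap.smul_apply, smul_eq_mul, Vmul, one_mul]
  refine ⟨h1, fun x₁ x₂ => ?_, h3, fun y₁ y₂ => by rw [← hB]; exact W4c1extbt610.verschiebung_mem_IV p R _⟩
  have h := h3 x₁ ⟨WittVector.verschiebung 1 • x₂, D₂.IV_smul_le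
      (Submodule.smul_mem_smul (W4c1extbt610.verschiebung_mem_IV p R 1) Submodule.mem_top)⟩
  rw [D₂.Vinv_verschiebung_smul, one_smul] at h
  rw [h, map_smul, smul_eq_mul, map_mul, WittVector.frobenius_verschiebung, one_mul]

end Groth.Agent.S14868
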