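import Groth.Statements.S14869
import Mathlib
-- import your own Groth.Agent.* helpers here

set_option autoImplicit false
universe u v w
open CAlg

namespace Groth.Agent.S14869

open TensorProduct in
/-- Let S → R be a surjective homomorphism of commutative rings, let π : P_1 → P_2 be a surjective
homomorphism of S-modules with P_2 projective, and let π̄ : R ⊗_S P_1 → R ⊗_S P_2 be its base
change. Then every R-linear section σ̄ of π̄ lifts to a section of π: there is an S-linear map σ :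
P_2 → P_1 with π ∘ σ = id whose base change R ⊗_S σ is σ̄. -/
theorem result (S R : Type u) [CommRing S] [CommRing R] [Algebra S R]
    (hSR : Function.Surjective (algebraMap S R))
    (P₁ : Type v) [AddCommGroup P₁] [Module S P₁]
    (P₂ : Type w) [AddCommGroup P₂] [Module S P₂] [Module.Projective S P₂]
    (π : P₁ →ₗ[S] P₂) (hπ : Function.Surjective π)
    (σ' : R ⊗[S] P₂ →ₗ[R] R ⊗[S] P₁) (hσ' : (π.baseChange R).comp σ' = LinearMap.id) :
    ∃ σ : P₂ →ₗ[S] P₁, π.comp σ = LinearMap.id ∧ σ.baseChange R = σ' := by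
  classical
  set 𝔞 := RingHom.ker (algebraMap S R)
  let mk₁ : P₁ →ₗ[S] R ⊗[S] P₁ := TensorProduct.mk S R P₁ 1
  have hmk₁ : Function.Surjective mk₁ := by
    intro z
    induction z using TensorProduct.induction_on with
    | zero => exact ⟨0, map_zero _⟩
    | tmul r m =>
      obtain ⟨s, rfl⟩ := hSR r
      exact ⟨s • m, by simp [mk₁, TensorProduct.tmul_smul, TensorProduct.smul_tmul', Algebra.smul_def]⟩
    | add x y hx hy => obtain ⟨a, rfl⟩ := hx; obtain ⟨b, rfl⟩ := hy; exact ⟨a + b, map_add _ _ _⟩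
  obtain ⟨σ₁, hσ₁⟩ := Module.projective_lifting_property mk₁
    ((σ'.restrictScalars S).comp (TensorProduct.mk S R P₂ 1)) hmk₁
  let e : (S ⧸ 𝔞) ≃ₗ[S] R :=
    (Ideal.quotientKerAlgEquivOfSurjective (f := Algebra.ofId S R) hSR).toLinearEquiv
  have hker : ∀ x : P₂, (1 : R) ⊗ₜ[S] x = 0 → x ∈ 𝔞 • (⊤ : Submodule S P₂) := by
    intro x hx
    have h2 := congrArg (TensorProduct.congr e.symm (LinearEquiv.refl S P₂)) hx
    rw [map_zero, TensorProduct.congr_tmul] at h2
    have he : e.symm (1 : R) = (1 : S ⧸ 𝔞) :=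
      map_one (Ideal.quotientKerAlgEquivOfSurjective (f := Algebra.ofId S R) hSR).symm
    rw [he] at h2
    have h3 := congrArg (TensorProduct.quotTensorEquivQuotSMul P₂ 𝔞) h2
    rw [map_zero, ← map_one (Ideal.Quotient.mk 𝔞)] at h3
    erw [TensorProduct.quotTensorEquivQuotSMul_mk_tmul, one_smul] at h3
    exact (Submodule.Quotient.mk_eq_zero _).1 h3
  let πr : ↥(𝔞 • (⊤ : Submodule S P₁)) →ₗ[S] ↥(𝔞 • (⊤ : Submodule S P₂)) :=
    π.restrict fun x hx => by
      have := Submodule.mem_map_of_mem (f := π) hx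
      rw [Submodule.map_smul'', Submodule.map_top, LinearMap.range_eq_top.2 hπ] at this
      exact this
  have hπr : Function.Surjective πr := by
    rintro ⟨y, hy⟩
    rw [← LinearMap.range_eq_top.2 hπ, ← Submodule.map_top, ← Submodule.map_smul''] at hy
    obtain ⟨x, hx, rfl⟩ := hy
    exact ⟨⟨x, hx⟩, Subtype.ext rfl⟩
  have hdiff : ∀ x, x - π (σ₁ x) ∈ 𝔞 • (⊤ : Submodule S P₂) := by
    intro x
    apply hker
    have h1 : (1 : R) ⊗ₜ[S] σ₁ x = σ' ((1 : R) ⊗ₜ[S] x) := LinearMap.congr_fun hσ₁ x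
    have h2 := LinearMap.congr_fun hσ' ((1 : R) ⊗ₜ[S] x)
    rw [LinearMap.comp_apply, ← h1, LinearMap.baseChange_tmul, LinearMap.id_apply] at h2
    rw [TensorProduct.tmul_sub, h2, sub_self]
  obtain ⟨τ, hτ⟩ := Module.projective_lifting_property πr
    (((LinearMap.id : P₂ →ₗ[S] P₂) - π.comp σ₁).codRestrict _ hdiff) hπr
  refine ⟨σ₁ + (Submodule.subtype _).comp τ, LinearMap.ext fun x => ?_, TensorProduct.AlgebraTensorModule.ext fun r x => ?_⟩
  · have := congrArg Subtype.val (LinearMap.congr_fun hτ x)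
    simp only [LinearMap.comp_apply, LinearMap.codRestrict_apply, LinearMap.sub_apply, LinearMap.id_apply,
      πr, LinearMap.restrict_coe_apply] at this
    simp [this]
  · have hz : ∀ y ∈ 𝔞 • (⊤ : Submodule S P₁), (1 : R) ⊗ₜ[S] y = 0 := by
      intro y hy
      induction hy using Submodule.smul_induction_on' with
      | smul a ha n _ =>
        rw [← TensorProduct.smul_tmul, Algebra.smul_def, RingHom.mem_ker.1 ha, zero_mul, TensorProduct.zero_tmul]
      | add y _ z _ hy hz => rw [TensorProduct.tmul_add, hy, hz, add_zero]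
    have h1 : (1 : R) ⊗ₜ[S] σ₁ x = σ' ((1 : R) ⊗ₜ[S] x) := LinearMap.congr_fun hσ₁ x
    rw [show r ⊗ₜ[S] x = r • ((1 : R) ⊗ₜ[S] x) by rw [TensorProduct.smul_tmul', smul_eq_mul, mul_one],
      map_smul, map_smul, LinearMap.baseChange_tmul]
    congr 1
    simp only [LinearMap.add_apply, LinearMap.comp_apply, Submodule.subtype_apply, TensorProduct.tmul_add]
    rw [hz _ (τ x).2, add_zero, h1]

end Groth.Agent.S14869
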