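import Groth.Statements.S14874
import Groth.Agent.PLieAlg.Radical

set_option autoImplicit false
universe u v
open PLie

namespace Groth.Agent.S14874

/-- Let `L` be a finite-dimensional Lie algebra over a field of characteristic `p` equipped with a
`p`-mapping `φ`. Let `N` be the nilradical of `L` (the ideal nilpotent as a Lie ring that contains
every such ideal) and `P` its `p`-radical (the largest ideal stable under `φ` all of whose elements
are `p`-nilpotent). Then `N = P` if and only if the centre of `L` is contained in `P`. -/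
theorem result
    (k : Type u) [Field k] (p : ℕ) [Fact p.Prime] [CharP k p]
    (L : Type v) [LieRing L] [LieAlgebra k L] [Module.Finite k L]
    (φ : PLie.PMap k p L)
    (N : LieIdeal k L) (hN : LieRing.IsNilpotent N)
    (hNmax : ∀ I : LieIdeal k L, LieRing.IsNilpotent I → I ≤ N)
    (P : LieIdeal k L) (hPsub : ∀ x ∈ P, φ x ∈ P) (hPnil : ∀ x ∈ P, PLie.IsPNilpotent φ x)
    (hPmax : ∀ J : LieIdeal k L, (∀ x ∈ J, φ x ∈ J) → (∀ x ∈ J, PLie.IsPNilpotent φ x) → J ≤ P) :
    N = P ↔ LieAlgebra.center k L ≤ P := by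
  have hcN : LieAlgebra.center k L ≤ N := by
    refine hNmax _ (Groth.PLieAlg.isNilpotent_of_forall_ad _ fun y hy ↦ ⟨1, LinearMap.ext fun z ↦ ?_⟩)
    rw [pow_one, LieAlgebra.ad_apply, ← lie_skew, (LieModule.mem_maxTrivSubmodule k L L y).mp hy z, neg_zero]
    rfl
  refine ⟨fun h ↦ h ▸ hcN, fun hc ↦ ?_⟩
  refine le_antisymm (hPmax N (fun x hx ↦ Groth.PLieAlg.pmap_mem_nilradical φ N hN hNmax hx) fun x hx ↦ ?_) ?_
  · obtain ⟨n, hn⟩ := Groth.PLieAlg.ad_isNilpotent_of_mem N hN hx
    have hcen : φ.toFun^[n] x ∈ LieAlgebra.center k L := by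
      refine (LieModule.mem_maxTrivSubmodule k L L _).mpr fun z ↦ ?_
      have : LieAlgebra.ad k L (φ.toFun^[n] x) = 0 := by
        rw [Groth.PLieAlg.radical_ad_iterate]
        exact pow_eq_zero_of_le (Nat.lt_pow_self (Fact.out : p.Prime).one_lt).le hn
      rw [← lie_skew, ← LieAlgebra.ad_apply k, this, LinearMap.zero_apply, neg_zero]
    obtain ⟨m, hm⟩ := hPnil _ (hc hcen)
    exact ⟨m + n, by rw [Function.iterate_add_apply, hm]⟩
  · exact hNmax P (Groth.PLieAlg.isNilpotent_of_forall_ad P fun y hy ↦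
      Groth.PLieAlg.ad_isNilpotent_of_isPNilpotent φ (hPnil y hy))

end Groth.Agent.S14874
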