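import Groth.Statements.S14875
import Groth.Agent.PLieAlg.Radical

set_option autoImplicit false
universe u v
open PLie

namespace Groth.Agent.S14875

/-- Let `L` be a finite-dimensional Lie algebra over a field of characteristic `p` equipped with a
`p`-mapping `φ`, whose Killing form is non-degenerate. Let `U` and `H` be Lie subalgebras of `L`
such that `H` is the normaliser of `U`, `U` is the set of elements of `H` that lie in the solvable
radical of `H` and are `p`-nilpotent, and the orthogonal of `U` for the Killing form is closed under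
the bracket. Then `U` is the orthogonal of `H` for the Killing form. (The published statement is for
the Lie algebra of a reductive group over a field of characteristic `p` with its canonical
`p`-structure; this row states it for any finite-dimensional Lie algebra with a `p`-mapping.) -/
theorem result
    (k : Type u) [Field k] (p : ℕ) [Fact p.Prime] [CharP k p]
    (L : Type v) [LieRing L] [LieAlgebra k L] [Module.Finite k L]
    (φ : PLie.PMap k p L) (hκ : (killingForm k L).Nondegenerate)
    (U H : LieSubalgebra k L) (hH : H = U.normalizer)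
    (hU : ∀ x : L, x ∈ U ↔ ∃ hx : x ∈ H, (⟨x, hx⟩ : ↥H) ∈ LieAlgebra.radical k ↥H ∧ PLie.IsPNilpotent φ x)
    (hperp : ∀ a b : L, (∀ y ∈ U, killingForm k L a y = 0) → (∀ y ∈ U, killingForm k L b y = 0) →
      ∀ y ∈ U, killingForm k L ⁅a, b⁆ y = 0) :
    ∀ x : L, x ∈ U ↔ ∀ h ∈ H, killingForm k L h x = 0 := by
  have hUH : U ≤ H := hH ▸ U.le_normalizer
  have hrefl : (killingForm k L).IsRefl := (LieModule.traceForm_isSymm k L L).isRefl
  -- the filtration by the lower central series of `U` acting on `L`
  have : LieModule.IsNilpotent U L := (LieModule.isNilpotent_iff_forall' (R := k)).mpr fun u ↦ by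
    obtain ⟨hx, -, hn⟩ := (hU u).mp u.2
    exact Groth.PLieAlg.ad_isNilpotent_of_isPNilpotent φ hn
  obtain ⟨m, hm⟩ := (LieModule.isNilpotent_iff k U L).mp this
  have hst : ∀ j, ∀ h ∈ H, ∀ w ∈ LieModule.lowerCentralSeries k U L j, ⁅h, w⁆ ∈ LieModule.lowerCentralSeries k U L j := by
    intro j
    induction j with
    | zero => intros; simp
    | succ j ih =>
      intro h hh w hw
      rw [LieModule.lowerCentralSeries_succ, ← LieSubmodule.mem_toSubmodule, LieSubmodule.lieIdeal_oper_eq_linear_span'] at hw
      induction hw using Submodule.span_induction with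
      | mem w hw =>
        obtain ⟨u, -, n, hn, rfl⟩ := hw
        have hu : ⁅h, (u : L)⁆ ∈ U := (LieSubalgebra.mem_normalizer_iff U h).mp (hH ▸ hh) _ u.2
        rw [LieSubalgebra.coe_bracket_of_module, leibniz_lie, LieModule.lowerCentralSeries_succ]
        exact add_mem (LieSubmodule.lie_mem_lie (x := (⟨_, hu⟩ : U)) (LieSubmodule.mem_top _) hn)
          (LieSubmodule.lie_mem_lie (x := u) (LieSubmodule.mem_top _) (ih h hh n hn))
      | zero => simp
      | add a b _ _ ha hb => rw [lie_add]; exact add_mem ha hb
      | smul c a _ ha => rw [lie_smul]; exact SMulMemClass.smul_mem c ha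
  have hzero : ∀ h ∈ H, ∀ u ∈ U, killingForm k L h u = 0 := by
    intro h hh u hu
    have hj : ∀ j z, ((LieAlgebra.ad k L h ∘ₗ LieAlgebra.ad k L u) ^ j) z ∈ LieModule.lowerCentralSeries k U L j := by
      intro j
      induction j with
      | zero => intro z; simp
      | succ j ih =>
        intro z
        rw [pow_succ', Module.End.mul_apply]
        refine hst _ h hh _ ?_
        rw [LieModule.lowerCentralSeries_succ]
        exact LieSubmodule.lie_mem_lie (x := (⟨u, hu⟩ : U)) (LieSubmodule.mem_top _) (ih z)
    have hnil : IsNilpotent (LieAlgebra.ad k L h ∘ₗ LieAlgebra.ad k L u) :=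
      ⟨m, LinearMap.ext fun z ↦ by simpa [hm] using hj m z⟩
    exact (LinearMap.isNilpotent_trace_of_isNilpotent hnil).eq_zero
  intro x
  refine ⟨fun hx h hh ↦ hzero h hh x hx, fun hx ↦ ?_⟩
  have hxU : x ∈ (killingForm k L).orthogonal ((killingForm k L).orthogonal U.toSubmodule) := by
    intro w hw
    refine hx w (hH ▸ (LieSubalgebra.mem_normalizer_iff U w).mpr fun u hu ↦ ?_)
    have : ⁅w, u⁆ ∈ (killingForm k L).orthogonal ((killingForm k L).orthogonal U.toSubmodule) := by
      intro w' hw'
      have e1 : ∀ y ∈ U, killingForm k L w' y = 0 := fun y hy ↦ hrefl _ _ (hw' y hy)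
      have e2 : ∀ y ∈ U, killingForm k L w y = 0 := fun y hy ↦ hrefl _ _ (hw y hy)
      exact (LieModule.traceForm_apply_lie_apply k L L w' w u).symm.trans (hperp w' w e1 e2 u hu)
    rwa [LinearMap.BilinForm.orthogonal_orthogonal hκ hrefl] at this
  rwa [LinearMap.BilinForm.orthogonal_orthogonal hκ hrefl] at hxU

end Groth.Agent.S14875
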