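import Groth.Statements.S14877
import Groth.Agent.AlgGrp2.TorsorQuot
import Groth.Agent.AlgGrp2.TorsorDesc
import Groth.Agent.Agf.Quot
import Mathlib.AlgebraicGeometry.Sites.Fpqc
-- import your own Groth.Agent.* helpers here

set_option autoImplicit false
universe u
open CategoryTheory MonoidalCategory CartesianMonoidalCategory MonObj GrpObj AlgebraicGeometry CategoryTheory.Limits
open AlgGrp

namespace Groth.Agent.S14877


section LocalTriviality

variable {S : Scheme.{u}} {G P X : Over S} [GrpObj G] {a : AlgGrp.Action G P} {π : P ⟶ X}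

/-- The tautological action on `U × G` makes it a torsor over `U`. -/
lemma isPullback_shear (U : Over S) :
    IsPullback (lift (snd G (U ⊗ G) ≫ fst U G) (fst G (U ⊗ G) * (snd G (U ⊗ G) ≫ snd U G)))
      (snd G (U ⊗ G)) (fst U G) (fst U G) := by
  have w : lift (snd G (U ⊗ G) ≫ fst U G) (fst G (U ⊗ G) * (snd G (U ⊗ G) ≫ snd U G)) ≫ fst U G =
      snd G (U ⊗ G) ≫ fst U G := lift_fst _ _
  refine ⟨⟨w⟩, ⟨PullbackCone.IsLimit.mk w
    (fun c => lift ((c.fst ≫ snd U G) * (c.snd ≫ snd U G)⁻¹) c.snd) (fun c => ?_) (fun c => lift_snd _ _)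
    (fun c m h1 h2 => ?_)⟩⟩
  · apply CartesianMonoidalCategory.hom_ext
    · simp [c.condition]
    · simp [MonObj.comp_mul, _root_.mul_assoc]
  · apply CartesianMonoidalCategory.hom_ext
    · rw [lift_fst, ← h1, ← h2]
      simp [MonObj.comp_mul]
    · rw [lift_snd, h2]

/-- After the trivialising base change the action map becomes an isomorphism. -/
lemma isIso_baseChange (hinv : GIT.IsInvariant a π) (U : Over S) (g : U ⟶ X) (s : U ⟶ P)
    (hpb : IsPullback (fst U G).left (lift (snd U G) (fst U G ≫ s) ≫ a.act).left g.left π.left) :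
    IsIso (pullback.snd (GIT.PsiY a π hinv)
      (pullback.fst (pullback.snd π.left π.left ≫ π.left) g.left)) := by
  let ℓ : U ⊗ G ⟶ P := lift (snd U G) (fst U G ≫ s) ≫ a.act
  let act' : G ⊗ (U ⊗ G) ⟶ U ⊗ G :=
    lift (snd G (U ⊗ G) ≫ fst U G) (fst G (U ⊗ G) * (snd G (U ⊗ G) ≫ snd U G))
  let D := pullback π.left π.left
  let d : D ⟶ X.left := pullback.snd π.left π.left ≫ π.left
  let M := pullback (pullback.snd π.left π.left) ℓ.left
  have hM : IsPullback (pullback.fst (pullback.snd π.left π.left) ℓ.left)
      (pullback.snd (pullback.snd π.left π.left) ℓ.left ≫ (fst U G).left) d g.left :=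
    (IsPullback.of_hasPullback (pullback.snd π.left π.left) ℓ.left).paste_vert hpb.flip
  have hM' : IsPullback (pullback.fst (pullback.snd π.left π.left) ℓ.left ≫ pullback.fst π.left π.left)
      (pullback.snd (pullback.snd π.left π.left) ℓ.left) π.left (ℓ.left ≫ π.left) :=
    (IsPullback.of_hasPullback (pullback.snd π.left π.left) ℓ.left).paste_horiz
      (IsPullback.of_hasPullback π.left π.left)
  have hact : act' ≫ ℓ = (G ◁ ℓ) ≫ a.act := by
    have hw : (G ◁ ℓ) = lift (fst G (U ⊗ G)) (snd G (U ⊗ G) ≫ ℓ) := by ext <;> simp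
    rw [hw]
    simp only [act', ℓ, comp_lift_assoc, lift_fst_assoc, lift_snd, Category.assoc,
      Groth.Agf.lift_mul_act]
  have houter : IsPullback ((G ◁ ℓ).left ≫ a.act.left) (snd G (U ⊗ G)).left π.left (ℓ.left ≫ π.left) := by
    have h1 := (((isPullback_shear (G := G) U).map (Over.forget S))).paste_horiz hpb.flip
    have h3 : IsPullback (act'.left ≫ ℓ.left) (snd G (U ⊗ G)).left π.left ((fst U G).left ≫ g.left) := h1
    rw [← Over.comp_left, hact, Over.comp_left, hpb.w] at h3
    exact h3
  let u : (G ⊗ (U ⊗ G)).left ⟶ M :=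
    pullback.lift ((G ◁ ℓ).left ≫ GIT.PsiY a π hinv) (snd G (U ⊗ G)).left (by
      rw [Category.assoc, GIT.PsiY, pullback.lift_snd, ← Over.comp_left, ← Over.comp_left,
        whiskerLeft_snd])
  have hu1 : u ≫ pullback.fst (pullback.snd π.left π.left) ℓ.left = (G ◁ ℓ).left ≫ GIT.PsiY a π hinv :=
    pullback.lift_fst _ _ _
  have hu2 : u ≫ pullback.snd (pullback.snd π.left π.left) ℓ.left = (snd G (U ⊗ G)).left :=
    pullback.lift_snd _ _ _
  have hsq : IsPullback (G ◁ ℓ).left u (GIT.PsiY a π hinv)
      (pullback.fst (pullback.snd π.left π.left) ℓ.left) := by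
    refine IsPullback.of_bot ?_ hu1.symm (IsPullback.of_hasPullback (pullback.snd π.left π.left) ℓ.left)
    rw [hu2, GIT.PsiY, pullback.lift_snd]
    exact Groth.GrpschAbsch.isPullback_whiskerLeft G ℓ
  have hiso : IsIso u := by
    have e : u = (houter.isoIsPullback _ _ hM').hom := hM'.hom_ext
      ((by rw [reassoc_of% hu1, GIT.PsiY, pullback.lift_fst] :
        u ≫ pullback.fst (pullback.snd π.left π.left) ℓ.left ≫ pullback.fst π.left π.left =
          (G ◁ ℓ).left ≫ a.act.left).trans (houter.isoIsPullback_hom_fst _ _ hM').symm)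
      (hu2.trans (houter.isoIsPullback_hom_snd _ _ hM').symm)
    rw [e]; infer_instance
  let e : M ≅ pullback d g.left := hM.isoPullback
  have h2 : IsPullback (G ◁ ℓ).left (u ≫ e.hom) (GIT.PsiY a π hinv) (pullback.fst d g.left) :=
    hsq.of_iso (Iso.refl _) (Iso.refl _) e (Iso.refl _) (by simp) (by simp) (by simp)
      (by simp [e])
  have : IsIso (h2.isoPullback.hom ≫ pullback.snd (GIT.PsiY a π hinv) (pullback.fst d g.left)) := by
    rw [h2.isoPullback_hom_snd]; infer_instance
  exact IsIso.of_isIso_comp_left h2.isoPullback.hom _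

end LocalTriviality

/-- Over an algebraically closed field k of characteristic zero, let G be an algebraic group (a smooth
k-group scheme of finite type) acting on a variety P (reduced, separated, of finite type over k),
and let π : P → X be a geometric quotient by this action onto a variety X: π is invariant,
surjective and open, the map (g, p) ↦ (g·p, p) from G × P to P ×_X P is surjective on points, and
for every open U of X the sections of O_X over U are exactly the invariant sections of O_P over
π⁻¹U. Suppose the bundle is locally isotrivial: every point of X has an open neighbourhood U with a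
finite étale surjective morphism U' → U and a morphism s : U' → P lifting U' → U → X such that (u,
g) ↦ g·s(u) exhibits U' × G as the fibre product U' ×_X P. Then the bundle is principal: (g, p) ↦
(g·p, p) is an isomorphism of G × P onto P ×_X P, and π is flat. (The published definition of an
étale covering asks only for a finite étale morphism; this row also requires it to be surjective,
since an empty cover would make every bundle isotrivial.) -/
theorem result (k : Type u) [Field k] [IsAlgClosed k] [CharZero k]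
    (G P X : Over (Spec (CommRingCat.of k))) [GrpObj G] [Smooth G.hom] [QuasiCompact G.hom]
    [LocallyOfFiniteType P.hom] [QuasiCompact P.hom] [IsSeparated P.hom] [IsReduced P.left]
    [LocallyOfFiniteType X.hom] [QuasiCompact X.hom] [IsSeparated X.hom] [IsReduced X.left]
    (a : AlgGrp.Action G P) (π : P ⟶ X) (hinv : GIT.IsInvariant a π)
    (hq : Function.Surjective π.left.base ∧ IsOpenMap π.left.base ∧
      Function.Surjective (GIT.PsiY a π hinv).base ∧
      ∀ U : X.left.Opens, Function.Injective (π.left.app U) ∧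
        Set.range (π.left.app U) = {f | GIT.IsInvSection a π U f})
    (hli : ∀ x : ↥X.left, ∃ (U : X.left.Opens) (_ : x ∈ U) (U' : Scheme.{u}) (φ : U' ⟶ ↑U)
      (_ : IsFinite φ) (_ : Etale φ) (_ : Surjective φ) (s : Over.mk (φ ≫ U.ι ≫ X.hom) ⟶ P),
      s.left ≫ π.left = φ ≫ U.ι ∧
      IsPullback (fst (Over.mk (φ ≫ U.ι ≫ X.hom)) G).left (lift (snd (Over.mk (φ ≫ U.ι ≫ X.hom)) G) (fst (Over.mk (φ ≫ U.ι ≫ X.hom)) G ≫ s) ≫ a.act).left
        (φ ≫ U.ι) π.left) :
    IsIso (GIT.PsiY a π hinv) ∧ Flat π.left := by
  choose U hU U' φ hfin het hsur s hs hpb using hli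
  have := LocallyOfFiniteType.isLocallyNoetherian X.hom
  let g : ∀ x : X.left, U' x ⟶ X.left := fun x => φ x ≫ (U x).ι
  let E : PreZeroHypercover.{u} X.left := ⟨↥X.left, U', g⟩
  have hlft : ∀ x, LocallyOfFiniteType (g x) := fun x => by
    have := hfin x
    infer_instance
  have hE : E.presieve₀ ∈ Scheme.fppfPrecoverage X.left := by
    rw [Scheme.fppfPrecoverage, Scheme.presieve₀_mem_precoverage_iff]
    refine ⟨fun x => ?_, fun x => ?_⟩
    · have := hsur x
      obtain ⟨y, hy⟩ := (φ x).surjective ⟨x, hU x⟩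
      exact ⟨x, y, by show (φ x ≫ (U x).ι) y = x; rw [Scheme.Hom.comp_apply, hy]; rfl⟩
    · have := het x
      exact ⟨inferInstanceAs (Flat (φ x ≫ (U x).ι)),
        inferInstanceAs (LocallyOfFinitePresentation (φ x ≫ (U x).ι))⟩
  let 𝒰 : Scheme.Cover Scheme.fpqcPrecoverage X.left :=
    ⟨E, Scheme.fppfPrecoverage_le_fpqcPrecoverage _ hE⟩
  constructor
  · let d := Limits.pullback.snd π.left π.left ≫ π.left
    refine Groth.DescentBase.of_fpqcCover (MorphismProperty.isomorphisms Scheme.{u}) inferInstance
      (GIT.PsiY a π hinv) (𝒰.pullback₁ d) fun x => ?_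
    let W : Over (Spec (CommRingCat.of k)) := Over.mk (φ x ≫ (U x).ι ≫ X.hom)
    exact isIso_baseChange hinv W (Over.homMk (φ x ≫ (U x).ι) (Category.assoc _ _ _)) (s x) (hpb x)
  · refine Groth.DescentBase.of_fpqcCover @Flat inferInstance π.left 𝒰 fun x => ?_
    let W : Over (Spec (CommRingCat.of k)) := Over.mk (φ x ≫ (U x).ι ≫ X.hom)
    have h1 : Flat (fst W G).left :=
      Groth.GrpschAbsch.fst_left_mem @Flat W G inferInstance
    rw [← (hpb x).flip.isoPullback_hom_snd, MorphismProperty.cancel_left_of_respectsIso @Flat] at h1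
    exact h1

end Groth.Agent.S14877
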