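import Groth.Statements.S14879
-- import your own Groth.Agent.* helpers here

set_option autoImplicit false
universe u
open Finset
open AlgGrp

namespace Groth.Agent.S14879

open Matrix Equiv in
lemma sum_minors {k : Type u} [CommRing k] {p r : ℕ} (M : Matrix (Fin (p + r)) (Fin (p + r)) k)
    (a : Fin p → Fin (p + r)) (b : Fin r → Fin (p + r)) :
    ∑ σ : Perm (Fin (p + r)), ((Perm.sign σ : ℤ) : k) *
      (M.submatrix a (fun i => σ (Fin.castAdd r i))).det *
      (M.submatrix b (fun j => σ (Fin.natAdd p j))).det =
    ((p.factorial * r.factorial : ℕ) : k) * (M.submatrix (Fin.append a b) id).det := by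
  classical
  let γ : Perm (Fin p) → Perm (Fin r) → Perm (Fin (p + r)) := fun α β =>
    finSumFinEquiv.permCongr (Equiv.sumCongr α β)
  have hsign : ∀ α β, Perm.sign (γ α β) = Perm.sign α * Perm.sign β := fun α β => by
    simp only [γ, Perm.sign_permCongr]
    exact Perm.sign_sumCongr α β
  have hγl : ∀ α β i, γ α β (Fin.castAdd r i) = Fin.castAdd r (α i) := fun α β i => by
    simp [γ, Equiv.permCongr_apply]
  have hγr : ∀ α β j, γ α β (Fin.natAdd p j) = Fin.natAdd p (β j) := fun α β j => by
    simp [γ, Equiv.permCongr_apply]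
  let N := M.submatrix (Fin.append a b) id
  have key : ∀ α : Perm (Fin p), ∀ β : Perm (Fin r),
      ∑ σ : Perm (Fin (p + r)), ((Perm.sign σ : ℤ) : k) *
        ((((Perm.sign α : ℤ) : k) * ∏ i, M (a i) (σ (Fin.castAdd r (α i)))) *
          (((Perm.sign β : ℤ) : k) * ∏ j, M (b j) (σ (Fin.natAdd p (β j))))) = N.det := by
    intro α β
    rw [← Matrix.det_transpose, Matrix.det_apply']
    refine Fintype.sum_equiv (Equiv.mulRight (γ α β)) _ _ fun σ => ?_
    rw [Equiv.coe_mulRight, Perm.sign_mul, hsign, Fin.prod_univ_add]
    simp only [Matrix.transpose_apply, N, Matrix.submatrix_apply, id, Perm.mul_apply, hγl, hγr,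
      Fin.append_left, Fin.append_right, Units.val_mul, Int.cast_mul]
    ring
  calc _ = ∑ σ : Perm (Fin (p + r)), ∑ α : Perm (Fin p), ∑ β : Perm (Fin r),
        ((Perm.sign σ : ℤ) : k) *
        ((((Perm.sign α : ℤ) : k) * ∏ i, M (a i) (σ (Fin.castAdd r (α i)))) *
          (((Perm.sign β : ℤ) : k) * ∏ j, M (b j) (σ (Fin.natAdd p (β j))))) := by
        refine Finset.sum_congr rfl fun σ _ => ?_
        rw [← Matrix.det_transpose, Matrix.det_apply', ← Matrix.det_transpose (M.submatrix b _),
          Matrix.det_apply', _root_.mul_assoc, Finset.sum_mul_sum, Finset.mul_sum]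
        refine Finset.sum_congr rfl fun α _ => ?_
        rw [Finset.mul_sum]
        rfl
    _ = _ := by
        rw [Finset.sum_comm]
        refine (Finset.sum_congr rfl fun α _ => Finset.sum_comm.trans
          (Finset.sum_congr rfl fun β _ => key α β)).trans ?_
        simp [Fintype.card_perm, N, mul_assoc]

open Equiv in
lemma det_append {k : Type u} [CommRing k] {p r : ℕ} (M : Matrix (Fin (p + r)) (Fin (p + r)) k)
    (A : Finset (Fin (p + r))) (hA : A.card = p) (B : Finset (Fin (p + r))) (hB : B.card = r) :
    (M.submatrix (Fin.append (A.orderEmbOfFin hA) (B.orderEmbOfFin hB)) id).det =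
      if B = Aᶜ then (-1 : k) ^ ((A ×ˢ Aᶜ).filter (fun ab => ab.2 < ab.1)).card * M.det else 0 := by
  classical
  set f := Fin.append (A.orderEmbOfFin hA) (B.orderEmbOfFin hB) with hf
  split_ifs with hBA
  · subst hBA
    have hinj : Function.Injective f := by
      rw [hf, Fin.append_injective_iff]
      refine ⟨(A.orderEmbOfFin hA).injective, (Aᶜ.orderEmbOfFin hB).injective, fun i j h => ?_⟩
      exact Finset.mem_compl.mp (h ▸ Finset.orderEmbOfFin_mem Aᶜ hB j) (Finset.orderEmbOfFin_mem A hA i)
    let τ : Perm (Fin (p + r)) := Equiv.ofBijective f hinj.bijective_of_finite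
    rw [show f = ⇑τ from rfl, Matrix.det_permute]
    congr 1
    have hc : ((Finset.univ : Finset (Fin (p + r))).sigma Finset.Ioi).filter
        (fun x => τ x.2 < τ x.1) = ((Finset.univ : Finset (Fin (p + r))).sigma Finset.Ioi).filter
        (fun x => ¬ τ x.1 < τ x.2) := by
      refine Finset.filter_congr fun x hx => ?_
      have hne : x.1 ≠ x.2 := (Finset.mem_Ioi.mp (Finset.mem_sigma.mp hx).2).ne
      exact ⟨fun h => h.asymm, fun h => (le_of_not_gt h).lt_of_ne (τ.injective.ne hne.symm)⟩
    have hcard : (((Finset.univ : Finset (Fin (p + r))).sigma Finset.Ioi).filter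
        (fun x => τ x.2 < τ x.1)).card = ((A ×ˢ Aᶜ).filter (fun ab => ab.2 < ab.1)).card := by
      refine Finset.card_bij (fun x _ => (τ x.1, τ x.2)) ?_ ?_ ?_
      · rintro ⟨i, j⟩ h
        simp only [Finset.mem_filter, Finset.mem_sigma, Finset.mem_univ, true_and,
          Finset.mem_Ioi] at h
        obtain ⟨hij, hlt⟩ := h
        change f j < f i at hlt
        refine Finset.mem_filter.mpr ⟨Finset.mem_product.mpr ?_, hlt⟩
        show f i ∈ A ∧ f j ∈ Aᶜ
        revert hij hlt
        refine Fin.addCases (fun i => ?_) (fun i => ?_) i <;>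
          refine Fin.addCases (fun j => ?_) (fun j => ?_) j <;>
          intro hij hlt <;> simp only [hf, Fin.append_left, Fin.append_right] at hlt ⊢
        · exact absurd hlt ((A.orderEmbOfFin hA).strictMono (by simp only [Fin.lt_def, Fin.val_castAdd, Fin.val_natAdd] at hij ⊢; omega)).asymm
        · exact ⟨Finset.orderEmbOfFin_mem A hA i, Finset.orderEmbOfFin_mem Aᶜ hB j⟩
        · simp [Fin.lt_def] at hij; omega
        · exact absurd hlt ((Aᶜ.orderEmbOfFin hB).strictMono (by simp only [Fin.lt_def, Fin.val_castAdd, Fin.val_natAdd] at hij ⊢; omega)).asymm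
      · rintro ⟨i, j⟩ _ ⟨i', j'⟩ _ h
        simp only [Prod.mk.injEq, τ.injective.eq_iff] at h
        simp [h]
      · rintro ⟨x, y⟩ h
        obtain ⟨h, hlt⟩ := Finset.mem_filter.mp h
        obtain ⟨hx, hy⟩ := Finset.mem_product.mp h
        obtain ⟨i, hi⟩ : ∃ i, A.orderEmbOfFin hA i = x := by
          have := Finset.range_orderEmbOfFin A hA ▸ (Finset.mem_coe.mpr hx); exact this
        obtain ⟨j, hj⟩ : ∃ j, Aᶜ.orderEmbOfFin hB j = y := by
          have := Finset.range_orderEmbOfFin Aᶜ hB ▸ (Finset.mem_coe.mpr hy); exact this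
        refine ⟨⟨Fin.castAdd r i, Fin.natAdd p j⟩, ?_, ?_⟩
        · simp only [Finset.mem_filter, Finset.mem_sigma, Finset.mem_univ, true_and, Finset.mem_Ioi]
          refine ⟨by simp [Fin.lt_def]; omega, ?_⟩
          show f _ < f _
          simpa [hf, hi, hj] using hlt
        · show (f _, f _) = _
          simp [hf, hi, hj]
    rw [← hcard, hc, Equiv.Perm.sign_eq_prod_prod_Ioi, Finset.prod_sigma', Finset.prod_ite,
      Finset.prod_const_one, Finset.prod_const]
    push_cast
    simp
  · obtain ⟨b, hbB, hbA⟩ : ∃ b ∈ B, b ∈ A := by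
      by_contra h
      push Not at h
      exact hBA (Finset.eq_of_subset_of_card_le (fun x hx => Finset.mem_compl.mpr (h x hx))
        (by rw [Finset.card_compl, hA, hB, Fintype.card_fin]; omega))
    obtain ⟨i, hi⟩ : ∃ i, A.orderEmbOfFin hA i = b := by
      have := Finset.range_orderEmbOfFin A hA ▸ (Finset.mem_coe.mpr hbA); exact this
    obtain ⟨j, hj⟩ : ∃ j, B.orderEmbOfFin hB j = b := by
      have := Finset.range_orderEmbOfFin B hB ▸ (Finset.mem_coe.mpr hbB); exact this
    refine Matrix.det_zero_of_row_eq (i := Fin.castAdd r i) (j := Fin.natAdd p j) ?_ ?_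
    · simp [Fin.ext_iff]; omega
    · ext c
      simp [Matrix.submatrix_apply, hf, hi, hj]

/-- Let k be a field of characteristic zero, n = p + r with p, r ≥ 1, M an n × n matrix over k, A a set
of p row indices and B a set of r row indices, both listed increasingly. For a permutation π of the
indices, with permutation matrix P_π, let Y_A(M·P_π) be the minor of M·P_π on the rows A and the
first p columns, and Z_B(M·P_π) the minor on the rows B and the last r columns. Then the sum over
all π of sign(π)·Y_A(M·P_π)·Z_B(M·P_π) equals p!·r!·(−1)^N·det M when B is the complement of A,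
where N is the number of pairs (a, b) with a in A, b outside A and b < a, and equals 0 otherwise.
Taking det M = 1 this says that the pairing (f, h) ↦ Σ_π sign(π) f(π) h(π) between the spans of the
left p-minors and of the right r-minors is invariant under left translation by matrices of
determinant one and pairs Y_A with the signed complementary minor to p!·r!. (The published statement
asserts that the two families of minors are dual bases for this pairing, that is, the value 1 in
place of p!·r!; the p!·r! permutations preserving the two column blocks each contribute the same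
signed term, so this row carries that factor, which is 1 only for n = 2.) -/
theorem result (k : Type u) [Field k] [CharZero k]
    (p r : ℕ) (hp : 1 ≤ p) (hr : 1 ≤ r) (M : Matrix (Fin (p + r)) (Fin (p + r)) k)
    (A : Finset (Fin (p + r))) (hA : A.card = p) (B : Finset (Fin (p + r))) (hB : B.card = r) :
    ∑ π : Equiv.Perm (Fin (p + r)), (((Equiv.Perm.sign π : ℤˣ) : ℤ) : k) *
      ((M * π.permMatrix k).submatrix (A.orderEmbOfFin hA) (Fin.castAdd r)).det *
      ((M * π.permMatrix k).submatrix (B.orderEmbOfFin hB) (Fin.natAdd p)).det =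
    if B = Aᶜ then ((p.factorial * r.factorial : ℕ) : k) *
      (-1 : k) ^ ((A ×ˢ Aᶜ).filter (fun ab => ab.2 < ab.1)).card * M.det else 0 := by
  have h := sum_minors M (A.orderEmbOfFin hA) (B.orderEmbOfFin hB)
  rw [det_append M A hA B hB, ← Equiv.sum_comp (Equiv.inv (Equiv.Perm (Fin (p + r))))] at h
  simp only [Equiv.inv_apply, Equiv.Perm.sign_inv] at h
  rw [mul_ite, mul_zero, ← _root_.mul_assoc] at h
  rw [← h]
  refine Finset.sum_congr rfl fun π _ => ?_
  have e : ∀ (m : Type) [Fintype m] (f : m → Fin (p + r)) (g : m → Fin (p + r)),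
      (M * π.permMatrix k).submatrix f g = M.submatrix f (fun i => π⁻¹ (g i)) := by
    intro m _ f g
    rw [Equiv.Perm.permMatrix, PEquiv.mul_toMatrix_toPEquiv]
    rfl
  rw [e, e]

end Groth.Agent.S14879
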