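import Groth.Statements.S14882
-- import your own Groth.Agent.* helpers here

set_option autoImplicit false
universe u
open CategoryTheory MonoidalCategory CartesianMonoidalCategory MonObj GrpObj AlgebraicGeometry CategoryTheory.Limits
open AlgGrp

namespace Groth.Agent.S14882

/-- Over an algebraically closed field k of characteristic zero, let G be an algebraic group (a smooth
k-group scheme of finite type), X a variety (reduced, separated, of finite type over k) and Γ a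
finite group acting on X on the right (x ↦ x·σ, with x·(στ) = (x·σ)·τ). Let φ and φ' be 1-cocycles Γ
→ G(X), φ_{στ} = φ_σ · (φ_τ ∘ (·σ)), with attached Γ-linearizations of X × G given on points by
λ_σ(x, g) = (x·σ, φ_σ(x)⁻¹·g) and λ'_σ(x, g) = (x·σ, φ'_σ(x)⁻¹·g). Then the two Γ-linearized trivial
bundles are isomorphic, meaning that there is an automorphism Φ of X × G over X, commuting with the
action of G by right multiplication, with Φ ∘ λ_σ = λ'_σ ∘ Φ for every σ, if and only if the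
cocycles are cohomologous: there is ψ in G(X) with φ_σ = ψ⁻¹ · φ'_σ · (ψ ∘ (·σ)) for every σ. Hence
isomorphism classes of Γ-linearizations of the trivial bundle correspond to H¹(Γ, G(X)). -/
theorem result (k : Type u) [Field k] [IsAlgClosed k] [CharZero k]
    (G X : Over (Spec (CommRingCat.of k))) [GrpObj G] [Smooth G.hom] [QuasiCompact G.hom]
    [LocallyOfFiniteType X.hom] [QuasiCompact X.hom] [IsSeparated X.hom] [IsReduced X.left]
    (Γ : Type) [Group Γ] [Finite Γ] (ρ : Γ → (X ⟶ X)) (hρ₁ : ρ 1 = 𝟙 X) (hρ : ∀ σ τ : Γ, ρ (σ * τ) = ρ σ ≫ ρ τ)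
    (φ φ' : Γ → (X ⟶ G)) (hφ : ∀ σ τ : Γ, φ (σ * τ) = φ σ * (ρ σ ≫ φ τ))
    (hφ' : ∀ σ τ : Γ, φ' (σ * τ) = φ' σ * (ρ σ ≫ φ' τ))
    (lam lam' : Γ → (X ⊗ G ⟶ X ⊗ G))
    (hlam : ∀ (σ : Γ) (T : Over (Spec (CommRingCat.of k))) (x : T ⟶ X) (g : T ⟶ G),
      lift x g ≫ lam σ = lift (x ≫ ρ σ) ((x ≫ φ σ)⁻¹ * g))
    (hlam' : ∀ (σ : Γ) (T : Over (Spec (CommRingCat.of k))) (x : T ⟶ X) (g : T ⟶ G),
      lift x g ≫ lam' σ = lift (x ≫ ρ σ) ((x ≫ φ' σ)⁻¹ * g)) :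
    (∃ Φ : X ⊗ G ⟶ X ⊗ G, IsIso Φ ∧ Φ ≫ fst X G = fst X G ∧
      (∀ (T : Over (Spec (CommRingCat.of k))) (x : T ⟶ X) (g h : T ⟶ G),
        lift x (g * h) ≫ Φ ≫ snd X G = (lift x g ≫ Φ ≫ snd X G) * h) ∧
      ∀ σ : Γ, lam σ ≫ Φ = Φ ≫ lam' σ) ↔
    ∃ ψ : X ⟶ G, ∀ σ : Γ, φ σ = ψ⁻¹ * φ' σ * (ρ σ ≫ ψ) := by
  constructor
  · rintro ⟨Φ, -, h₁, h₂, h₃⟩
    refine ⟨lift (𝟙 X) 1 ≫ Φ ≫ snd X G, fun σ => ?_⟩
    set ψ := lift (𝟙 X) 1 ≫ Φ ≫ snd X G with hψ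
    have key : ∀ (T : Over (Spec (CommRingCat.of k))) (x : T ⟶ X) (g : T ⟶ G),
        lift x g ≫ Φ = lift x ((x ≫ ψ) * g) := by
      intro T x g
      apply CartesianMonoidalCategory.hom_ext
      · simp [h₁]
      · have h := h₂ T x 1 g
        rw [_root_.one_mul] at h
        rw [Category.assoc, h, lift_snd]
        simp [hψ, comp_lift_assoc, MonObj.comp_one]
    have h := congrArg (fun t => lift (𝟙 X) 1 ≫ t ≫ snd X G) (h₃ σ)
    simp only [← Category.assoc, hlam, key, hlam', lift_snd, _root_.mul_one, Category.id_comp] at h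
    -- h : (ρ σ ≫ ψ) * (φ σ)⁻¹ = (φ' σ)⁻¹ * ψ
    rw [_root_.mul_assoc, eq_inv_mul_iff_mul_eq]
    calc ψ * φ σ = φ' σ * ((φ' σ)⁻¹ * ψ) * φ σ := by group
      _ = φ' σ * ((ρ σ ≫ ψ) * (φ σ)⁻¹) * φ σ := by rw [h]
      _ = φ' σ * (ρ σ ≫ ψ) := by group
  · rintro ⟨ψ, hψ⟩
    let Φ : X ⊗ G ⟶ X ⊗ G := lift (fst X G) ((fst X G ≫ ψ) * snd X G)
    let Ψ : X ⊗ G ⟶ X ⊗ G := lift (fst X G) ((fst X G ≫ ψ)⁻¹ * snd X G)
    have hΦ : ∀ (T : Over (Spec (CommRingCat.of k))) (x : T ⟶ X) (g : T ⟶ G),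
        lift x g ≫ Φ = lift x ((x ≫ ψ) * g) := by
      intro T x g
      simp [Φ, MonObj.comp_mul]
    refine ⟨Φ, ⟨Ψ, ?_, ?_⟩, lift_fst _ _, ?_, ?_⟩
    · simp [Φ, Ψ, MonObj.comp_mul, GrpObj.comp_inv]
    · simp [Φ, Ψ, MonObj.comp_mul]
    · intro T x g h
      rw [← Category.assoc, hΦ, ← Category.assoc, hΦ, lift_snd, lift_snd, _root_.mul_assoc]
    · intro σ
      have hs : lift (fst X G) (snd X G) ≫ lam σ ≫ Φ = lift (fst X G) (snd X G) ≫ Φ ≫ lam' σ := by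
        rw [← Category.assoc, hlam, hΦ, ← Category.assoc, hΦ, hlam', hψ]
        congr 1
        simp only [MonObj.comp_mul, GrpObj.comp_inv, Category.assoc]
        group
      simpa [lift_fst_snd] using hs

end Groth.Agent.S14882
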