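import Groth.Statements.S14883
import Groth.Agent.AlgGrp2.TorsorDesc
-- import your own Groth.Agent.* helpers here

set_option autoImplicit false
universe u
open CategoryTheory MonoidalCategory CartesianMonoidalCategory MonObj GrpObj AlgebraicGeometry CategoryTheory.Limits
open AlgGrp

namespace Groth.Agent.S14883

/-- Over an algebraically closed field k of characteristic zero, let G be an algebraic group (a smooth
k-group scheme of finite type) and H an algebraic subgroup (a smooth closed subgroup scheme, j : H →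
G). Let π : G → B be the quotient of G by H (a geometric quotient for the action h·g = g·h⁻¹ which
is a principal H-bundle: (h, g) ↦ (g·h⁻¹, g) is an isomorphism H × G ≅ G ×_B G and π is flat). Let X
be a variety (reduced, separated, of finite type over k), proper over k, with an H-action and in
which every finite set of points lies in an affine open subset, and let qX : G × X → QX be the
associated bundle G_H(X), that is a geometric quotient for the action h·(g, x) = (g·h⁻¹, h·x) on G ×
X which is a principal H-bundle, with structure map pX : QX → B satisfying pX ∘ qX = π ∘ pr₁, where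
QX is a variety. Here a geometric quotient is an invariant, surjective, open morphism whose
fibre-pair map (h, y) ↦ (h·y, y) is surjective on points and whose sections over every open are
exactly the invariant sections. Then pX : G_H(X) → G/H is proper. -/
theorem result (k : Type u) [Field k] [IsAlgClosed k] [CharZero k]
    (G H : Over (Spec (CommRingCat.of k))) [GrpObj G] [Smooth G.hom] [QuasiCompact G.hom]
    [GrpObj H] (j : H ⟶ G) [IsMonHom j] [IsClosedImmersion j.left] [Smooth H.hom]
    (B : Over (Spec (CommRingCat.of k))) [LocallyOfFiniteType B.hom] [QuasiCompact B.hom] [IsSeparated B.hom] [IsReduced B.left]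
    (r : AlgGrp.Action H G) (hr : ∀ (T : Over (Spec (CommRingCat.of k))) (h : T ⟶ H) (g : T ⟶ G),
      lift h g ≫ r.act = g * (h ≫ j)⁻¹)
    (π : G ⟶ B) (hπinv : GIT.IsInvariant r π)
    (hπ : (Function.Surjective π.left.base ∧ IsOpenMap π.left.base ∧
      Function.Surjective (GIT.PsiY r π hπinv).base ∧
      (∀ U : B.left.Opens, Function.Injective (π.left.app U) ∧
        Set.range (π.left.app U) = {f | GIT.IsInvSection r π U f}) ∧
      IsIso (GIT.PsiY r π hπinv) ∧ Flat π.left))
    (X : Over (Spec (CommRingCat.of k))) [IsProper X.hom] [IsReduced X.left]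
    (hF : ∀ F : Finset ↥X.left, ∃ U : X.left.Opens, IsAffineOpen U ∧ (↑F : Set ↥X.left) ⊆ (U : Set ↥X.left))
    (aX : AlgGrp.Action H X) (b : AlgGrp.Action H (G ⊗ X))
    (hb : ∀ (T : Over (Spec (CommRingCat.of k))) (h : T ⟶ H) (g : T ⟶ G) (x : T ⟶ X),
      lift h (lift g x) ≫ b.act = lift (g * (h ≫ j)⁻¹) (lift h x ≫ aX.act))
    (QX : Over (Spec (CommRingCat.of k))) [LocallyOfFiniteType QX.hom] [QuasiCompact QX.hom] [IsSeparated QX.hom] [IsReduced QX.left] (qX : G ⊗ X ⟶ QX) (hqinv : GIT.IsInvariant b qX)
    (hq : (Function.Surjective qX.left.base ∧ IsOpenMap qX.left.base ∧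
      Function.Surjective (GIT.PsiY b qX hqinv).base ∧
      (∀ U : QX.left.Opens, Function.Injective (qX.left.app U) ∧
        Set.range (qX.left.app U) = {f | GIT.IsInvSection b qX U f}) ∧
      IsIso (GIT.PsiY b qX hqinv) ∧ Flat qX.left))
    (pX : QX ⟶ B) (hp : qX ≫ pX = fst G X ≫ π) :
    IsProper pX.left := by
  obtain ⟨hπs, -, -, -, hπiso, hπflat⟩ := hπ
  have : Surjective π.left := ⟨hπs⟩
  have := Groth.AlgGrp2.quasiCompact_left π
  have hπsq := Groth.AlgGrp2.isPullback_of_psiY r π hπinv hπiso
  have heq : ∀ (Z : Over (Spec (CommRingCat.of k))) (aZ : AlgGrp.Action H Z) (bZ : AlgGrp.Action H (G ⊗ Z)),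
      (∀ (T : Over (Spec (CommRingCat.of k))) (h : T ⟶ H) (g : T ⟶ G) (x : T ⟶ Z),
        lift h (lift g x) ≫ bZ.act = lift (g * (h ≫ j)⁻¹) (lift h x ≫ aZ.act)) →
      bZ.act ≫ fst G Z = (H ◁ fst G Z) ≫ r.act := by
    intro Z aZ bZ hbZ
    have hid : lift (fst H (G ⊗ Z)) (lift (snd H (G ⊗ Z) ≫ fst G Z) (snd H (G ⊗ Z) ≫ snd G Z)) =
        𝟙 _ := by ext <;> simp
    have hwl : (H ◁ fst G Z) = lift (fst H (G ⊗ Z)) (snd H (G ⊗ Z) ≫ fst G Z) := by ext <;> simp
    rw [← Category.id_comp bZ.act, ← hid, hbZ, lift_fst, hwl, hr]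
  obtain ⟨hqs, -, -, -, hqiso, hqflat⟩ := hq
  have : Surjective qX.left := ⟨hqs⟩
  have : QuasiCompact (G ⊗ X).hom :=
    inferInstanceAs (QuasiCompact (Limits.pullback.fst G.hom X.hom ≫ G.hom))
  have := Groth.AlgGrp2.quasiCompact_left qX
  have hsq := Groth.AlgGrp2.isPullback_of_equivariant b qX
    (Groth.AlgGrp2.isPullback_of_psiY b qX hqinv hqiso) r π hπsq (fst G X) pX (heq X aX b hb) hp
  refine MorphismProperty.of_isPullback_of_descendsAlong (P := @IsProper) hsq.flip.flip.flip
    (Q := @Surjective ⊓ @Flat ⊓ @QuasiCompact) ⟨⟨inferInstance, inferInstance⟩, inferInstance⟩ ?_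
  exact MorphismProperty.of_isPullback (CategoryTheory.IsPullback.of_hasPullback G.hom X.hom).flip
    ‹IsProper X.hom›

end Groth.Agent.S14883
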