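import Groth.Statements.S14884
import Groth.Agent.AlgGrp2.TorsorDesc
-- import your own Groth.Agent.* helpers here

set_option autoImplicit false
universe u
open CategoryTheory MonoidalCategory CartesianMonoidalCategory MonObj GrpObj AlgebraicGeometry CategoryTheory.Limits
open AlgGrp

namespace Groth.Agent.S14884

/-- Over an algebraically closed field k of characteristic zero, let G be an algebraic group (a smooth
k-group scheme of finite type) and H an algebraic subgroup (a smooth closed subgroup scheme, j : H →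
G). Let π : G → B be the quotient of G by H (a geometric quotient for the action h·g = g·h⁻¹ which
is a principal H-bundle: (h, g) ↦ (g·h⁻¹, g) is an isomorphism H × G ≅ G ×_B G and π is flat). Let X
and Y be varieties (reduced, separated, of finite type over k) with H-actions, in each of which
every finite set of points lies in an affine open subset, let i : X → Y be an H-equivariant open
immersion, let qX : G × X → QX be the associated bundle G_H(X), that is a geometric quotient for the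
action h·(g, x) = (g·h⁻¹, h·x) on G × X which is a principal H-bundle, with structure map pX : QX →
B satisfying pX ∘ qX = π ∘ pr₁, and likewise qY : G × Y → QY and pY for Y, with QX and QY varieties.
Here a geometric quotient is an invariant, surjective, open morphism whose fibre-pair map (h, y) ↦
(h·y, y) is surjective on points and whose sections over every open are exactly the invariant
sections. Let m : QX → QY be the morphism induced by id × i, that is m ∘ qX = qY ∘ (id × i) and pY ∘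
m = pX. Then m = G_H(i) is an open immersion. -/
theorem result (k : Type u) [Field k] [IsAlgClosed k] [CharZero k]
    (G H : Over (Spec (CommRingCat.of k))) [GrpObj G] [Smooth G.hom] [QuasiCompact G.hom]
    [GrpObj H] (j : H ⟶ G) [IsMonHom j] [IsClosedImmersion j.left] [Smooth H.hom]
    (B : Over (Spec (CommRingCat.of k))) [LocallyOfFiniteType B.hom] [QuasiCompact B.hom] [IsSeparated B.hom] [IsReduced B.left]
    (r : AlgGrp.Action H G) (hr : ∀ (T : Over (Spec (CommRingCat.of k))) (h : T ⟶ H) (g : T ⟶ G),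
      lift h g ≫ r.act = g * (h ≫ j)⁻¹)
    (π : G ⟶ B) (hπinv : GIT.IsInvariant r π)
    (hπ : (Function.Surjective π.left.base ∧ IsOpenMap π.left.base ∧
      Function.Surjective (GIT.PsiY r π hπinv).base ∧
      (∀ U : B.left.Opens, Function.Injective (π.left.app U) ∧
        Set.range (π.left.app U) = {f | GIT.IsInvSection r π U f}) ∧
      IsIso (GIT.PsiY r π hπinv) ∧ Flat π.left))
    (X Y : Over (Spec (CommRingCat.of k))) [LocallyOfFiniteType X.hom] [QuasiCompact X.hom] [IsSeparated X.hom] [IsReduced X.left] [LocallyOfFiniteType Y.hom] [QuasiCompact Y.hom] [IsSeparated Y.hom] [IsReduced Y.left]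
    (hFX : ∀ F : Finset ↥X.left, ∃ U : X.left.Opens, IsAffineOpen U ∧ (↑F : Set ↥X.left) ⊆ (U : Set ↥X.left))
    (hFY : ∀ F : Finset ↥Y.left, ∃ U : Y.left.Opens, IsAffineOpen U ∧ (↑F : Set ↥Y.left) ⊆ (U : Set ↥Y.left))
    (aX : AlgGrp.Action H X) (aY : AlgGrp.Action H Y) (i : X ⟶ Y) [IsOpenImmersion i.left]
    (hi : aX.act ≫ i = (H ◁ i) ≫ aY.act)
    (b : AlgGrp.Action H (G ⊗ X))
    (hb : ∀ (T : Over (Spec (CommRingCat.of k))) (h : T ⟶ H) (g : T ⟶ G) (x : T ⟶ X),
      lift h (lift g x) ≫ b.act = lift (g * (h ≫ j)⁻¹) (lift h x ≫ aX.act))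
    (c : AlgGrp.Action H (G ⊗ Y))
    (hc : ∀ (T : Over (Spec (CommRingCat.of k))) (h : T ⟶ H) (g : T ⟶ G) (x : T ⟶ Y),
      lift h (lift g x) ≫ c.act = lift (g * (h ≫ j)⁻¹) (lift h x ≫ aY.act))
    (QX QY : Over (Spec (CommRingCat.of k))) [LocallyOfFiniteType QX.hom] [QuasiCompact QX.hom] [IsSeparated QX.hom] [IsReduced QX.left] [LocallyOfFiniteType QY.hom] [QuasiCompact QY.hom] [IsSeparated QY.hom] [IsReduced QY.left]
    (qX : G ⊗ X ⟶ QX) (hqXinv : GIT.IsInvariant b qX) (hqX : (Function.Surjective qX.left.base ∧ IsOpenMap qX.left.base ∧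
      Function.Surjective (GIT.PsiY b qX hqXinv).base ∧
      (∀ U : QX.left.Opens, Function.Injective (qX.left.app U) ∧
        Set.range (qX.left.app U) = {f | GIT.IsInvSection b qX U f}) ∧
      IsIso (GIT.PsiY b qX hqXinv) ∧ Flat qX.left))
    (qY : G ⊗ Y ⟶ QY) (hqYinv : GIT.IsInvariant c qY) (hqY : (Function.Surjective qY.left.base ∧ IsOpenMap qY.left.base ∧
      Function.Surjective (GIT.PsiY c qY hqYinv).base ∧
      (∀ U : QY.left.Opens, Function.Injective (qY.left.app U) ∧
        Set.range (qY.left.app U) = {f | GIT.IsInvSection c qY U f}) ∧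
      IsIso (GIT.PsiY c qY hqYinv) ∧ Flat qY.left))
    (pX : QX ⟶ B) (hpX : qX ≫ pX = fst G X ≫ π) (pY : QY ⟶ B) (hpY : qY ≫ pY = fst G Y ≫ π)
    (m : QX ⟶ QY) (hm : qX ≫ m = (G ◁ i) ≫ qY) (hmp : m ≫ pY = pX) :
    IsOpenImmersion m.left := by
  obtain ⟨hπs, -, -, -, hπiso, hπflat⟩ := hπ
  have : Surjective π.left := ⟨hπs⟩
  have := Groth.AlgGrp2.quasiCompact_left π
  have hπsq := Groth.AlgGrp2.isPullback_of_psiY r π hπinv hπiso
  have heq : ∀ (Z : Over (Spec (CommRingCat.of k))) (aZ : AlgGrp.Action H Z) (bZ : AlgGrp.Action H (G ⊗ Z)),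
      (∀ (T : Over (Spec (CommRingCat.of k))) (h : T ⟶ H) (g : T ⟶ G) (x : T ⟶ Z),
        lift h (lift g x) ≫ bZ.act = lift (g * (h ≫ j)⁻¹) (lift h x ≫ aZ.act)) →
      bZ.act ≫ fst G Z = (H ◁ fst G Z) ≫ r.act := by
    intro Z aZ bZ hbZ
    have hid : lift (fst H (G ⊗ Z)) (lift (snd H (G ⊗ Z) ≫ fst G Z) (snd H (G ⊗ Z) ≫ snd G Z)) =
        𝟙 _ := by ext <;> simp
    have hwl : (H ◁ fst G Z) = lift (fst H (G ⊗ Z)) (snd H (G ⊗ Z) ≫ fst G Z) := by ext <;> simp
    rw [← Category.id_comp bZ.act, ← hid, hbZ, lift_fst, hwl, hr]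
  obtain ⟨hqs, -, -, -, hqiso, hqflat⟩ := hqX
  obtain ⟨hqs', -, -, -, hqiso', hqflat'⟩ := hqY
  have : Surjective qX.left := ⟨hqs⟩
  have : Surjective qY.left := ⟨hqs'⟩
  have : QuasiCompact (G ⊗ X).hom :=
    inferInstanceAs (QuasiCompact (Limits.pullback.fst G.hom X.hom ≫ G.hom))
  have : QuasiCompact (G ⊗ Y).hom :=
    inferInstanceAs (QuasiCompact (Limits.pullback.fst G.hom Y.hom ≫ G.hom))
  have := Groth.AlgGrp2.quasiCompact_left qX
  have := Groth.AlgGrp2.quasiCompact_left qY
  have he : b.act ≫ (G ◁ i) = (H ◁ (G ◁ i)) ≫ c.act := by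
    have hid : lift (fst H (G ⊗ X)) (lift (snd H (G ⊗ X) ≫ fst G X) (snd H (G ⊗ X) ≫ snd G X)) =
        𝟙 _ := by ext <;> simp
    have hwl : (H ◁ (G ◁ i)) = lift (fst H (G ⊗ X)) (lift (snd H (G ⊗ X) ≫ fst G X)
        ((snd H (G ⊗ X) ≫ snd G X) ≫ i)) := by ext <;> simp
    rw [← Category.id_comp b.act, ← hid, hb, lift_whiskerLeft, hwl, hc]
    congr 1
    rw [Category.assoc, hi, lift_whiskerLeft_assoc]
  have hsq := Groth.AlgGrp2.isPullback_of_equivariant b qX
    (Groth.AlgGrp2.isPullback_of_psiY b qX hqXinv hqiso) c qY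
    (Groth.AlgGrp2.isPullback_of_psiY c qY hqYinv hqiso') (G ◁ i) m he hm
  refine MorphismProperty.of_isPullback_of_descendsAlong (P := @IsOpenImmersion) hsq.flip.flip.flip
    (Q := @Surjective ⊓ @Flat ⊓ @QuasiCompact) ⟨⟨inferInstance, inferInstance⟩, inferInstance⟩ ?_
  exact Groth.GrpschAbsch.whiskerLeft_left_mem @IsOpenImmersion G i inferInstance

end Groth.Agent.S14884
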