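import Groth.Statements.S14885
-- import your own Groth.Agent.* helpers here

set_option autoImplicit false
universe u v
open CategoryTheory TopologicalSpace Opposite AlgebraicGeometry Topology
open AlgGrp

namespace Groth.Agent.S14885

/-- Let a group Γ act on a ringed space X (a topological space with a sheaf of rings) by automorphisms
τ_g, and let π : X → Y be a Γ-invariant morphism of ringed spaces which exhibits Y as the quotient
ringed space X/Γ: the underlying continuous map of π is a topological quotient map whose fibres are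
exactly the Γ-orbits, and for every open subset V of Y the ring map O_Y(V) → O_X(π⁻¹V) is injective
with image the sections s satisfying τ_g^♯(s) = s for all g. Then (Y, π) is a categorical quotient
for the action in the category of ringed spaces: every morphism of ringed spaces f : X → Z with f ∘
τ_g = f for all g (as morphisms of ringed spaces) factors uniquely as f = f̄ ∘ π. -/
theorem result (X Y : SheafedSpace CommRingCat.{u}) (Γ : Type v) [Group Γ]
    (τ : Γ →* Aut X) (π : X ⟶ Y) (hτ : ∀ g : Γ, (τ g).hom ≫ π = π)
    (h1 : IsQuotientMap π.hom.base)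
    (h2 : ∀ x x' : X, π.hom.base x = π.hom.base x' ↔ ∃ g : Γ, (τ g).hom.hom.base x = x')
    (h3 : ∀ V : Opens Y, Function.Injective (π.hom.c.app (op V)) ∧
      Set.range (π.hom.c.app (op V)) =
        {s | ∀ g : Γ, (τ g).hom.hom.c.app (op ((Opens.map π.hom.base).obj V)) s =
          X.presheaf.map (eqToHom (congrArg (fun f : X ⟶ Y => op ((Opens.map f.hom.base).obj V)) (hτ g).symm)) s})
    (Z : SheafedSpace CommRingCat.{u}) (f : X ⟶ Z) (hf : ∀ g : Γ, (τ g).hom ≫ f = f) :
    ∃! fbar : Y ⟶ Z, π ≫ fbar = f := by
  classical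
  have hπ : Function.Surjective π.hom.base := h1.surjective
  have hcf : ∀ x x', π.hom.base x = π.hom.base x' → f.hom.base x = f.hom.base x' := by
    intro x x' hx
    obtain ⟨g, rfl⟩ := (h2 x x').mp hx
    conv_lhs => rw [← hf g]
    rfl
  let b : C(Y, Z) := ⟨fun y => f.hom.base (Function.surjInv hπ y), by
    rw [h1.continuous_iff]
    have : ((fun y => f.hom.base (Function.surjInv hπ y)) ∘ π.hom.base) = f.hom.base :=
      funext fun x => hcf _ _ (Function.surjInv_eq hπ _)
    show Continuous (fun x => f.hom.base (Function.surjInv hπ (π.hom.base x)))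
    rw [show (fun x => f.hom.base (Function.surjInv hπ (π.hom.base x))) = f.hom.base from this]
    exact f.hom.base.hom.continuous⟩
  have hb : π.hom.base ≫ TopCat.ofHom b = f.hom.base := by
    ext x
    exact hcf _ _ (Function.surjInv_eq hπ _)
  have he : ∀ V : Opens Z, (Opens.map f.hom.base).obj V =
      (Opens.map π.hom.base).obj ((Opens.map (TopCat.ofHom b)).obj V) := fun V => by
    rw [← hb]; rfl
  have hmap : ∀ {A B C : (Opens X)ᵒᵖ} (i : A ⟶ B) (j : B ⟶ C) (l : A ⟶ C) (x : X.presheaf.obj A),
      X.presheaf.map j (X.presheaf.map i x) = X.presheaf.map l x := by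
    intro A B C i j l x
    rw [Subsingleton.elim l (i ≫ j), X.presheaf.map_comp]
    rfl
  have hmap' : ∀ {A B : (Opens X)ᵒᵖ} (i j : A ⟶ B) (x : X.presheaf.obj A),
      X.presheaf.map i x = X.presheaf.map j x := fun i j x => by rw [Subsingleton.elim i j]
  let s' : ∀ (V : Opens Z), Z.presheaf.obj (op V) →
      X.presheaf.obj (op ((Opens.map π.hom.base).obj ((Opens.map (TopCat.ofHom b)).obj V))) :=
    fun V t => X.presheaf.map (eqToHom (congrArg op (he V))) (f.hom.c.app (op V) t)
  have hinv : ∀ (V : Opens Z) (t : Z.presheaf.obj (op V)),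
      s' V t ∈ Set.range (π.hom.c.app (op ((Opens.map (TopCat.ofHom b)).obj V))) := by
    intro V t
    rw [(h3 _).2]
    intro g
    have h := PresheafedSpace.congr_app (congrArg InducedCategory.Hom.hom (hf g)) (op V)
    have h' : (τ g).hom.hom.c.app (op ((Opens.map f.hom.base).obj V)) (f.hom.c.app (op V) t) =
        X.presheaf.map (eqToHom (congrArg (fun e : X ⟶ Z => op ((Opens.map e.hom.base).obj V)) (hf g).symm))
          (f.hom.c.app (op V) t) := ConcreteCategory.congr_hom h t
    have hn := ConcreteCategory.congr_hom ((τ g).hom.hom.c.naturality (eqToHom (congrArg op (he V))))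
      (f.hom.c.app (op V) t)
    refine hn.trans ?_
    show X.presheaf.map _ ((τ g).hom.hom.c.app (op ((Opens.map f.hom.base).obj V)) (f.hom.c.app (op V) t)) = _
    rw [h']
    show X.presheaf.map _ (X.presheaf.map _ _) = X.presheaf.map _ (X.presheaf.map _ _)
    rw [hmap _ _ (eqToHom ((congrArg (fun e : X ⟶ Z => op ((Opens.map e.hom.base).obj V)) (hf g).symm).trans
      (congrArg (fun O : Opens X => op ((Opens.map (τ g).hom.hom.base).obj O)) (he V)))),
      hmap _ _ (eqToHom ((congrArg (fun e : X ⟶ Z => op ((Opens.map e.hom.base).obj V)) (hf g).symm).trans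
      (congrArg (fun O : Opens X => op ((Opens.map (τ g).hom.hom.base).obj O)) (he V))))]
  choose β hβ using hinv
  let c : Z.presheaf ⟶ TopCat.ofHom b _* Y.presheaf :=
    { app := fun V => CommRingCat.ofHom
        { toFun := β V.unop
          map_one' := (h3 _).1 (by rw [hβ, map_one]; simp [s'])
          map_zero' := (h3 _).1 (by rw [hβ, map_zero]; simp [s'])
          map_mul' := fun x y => (h3 _).1 (by rw [hβ, map_mul, hβ, hβ]; simp [s'])
          map_add' := fun x y => (h3 _).1 (by rw [hβ, map_add, hβ, hβ]; simp [s']) }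
      naturality := fun U V i => by
        ext t
        apply (h3 _).1
        show π.hom.c.app _ (β V.unop (Z.presheaf.map i t)) =
          π.hom.c.app _ (Y.presheaf.map ((Opens.map (TopCat.ofHom b)).op.map i) (β U.unop t))
        rw [hβ]
        refine Eq.trans ?_ (ConcreteCategory.congr_hom
          (π.hom.c.naturality ((Opens.map (TopCat.ofHom b)).op.map i)) (β U.unop t)).symm
        show X.presheaf.map _ (f.hom.c.app V (Z.presheaf.map i t)) = X.presheaf.map _ (π.hom.c.app _ (β U.unop t))
        rw [hβ, show f.hom.c.app V (Z.presheaf.map i t) =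
          X.presheaf.map ((Opens.map f.hom.base).op.map i) (f.hom.c.app U t) from
            ConcreteCategory.congr_hom (f.hom.c.naturality i) t]
        rw [hmap _ _ ((Opens.map f.hom.base).op.map i ≫ eqToHom (congrArg op (he V.unop)))]
        exact (hmap _ _ _ _).symm }
  let fbar : Y ⟶ Z := InducedCategory.homMk ⟨TopCat.ofHom b, c⟩
  have hcomp : π ≫ fbar = f := by
    refine SheafedSpace.ext _ _ hb ?_
    ext V t
    show X.presheaf.map _ (π.hom.c.app _ (β V t)) = f.hom.c.app (op V) t
    rw [hβ]
    exact (hmap _ _ (𝟙 _) _).trans (by rw [X.presheaf.map_id]; rfl)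
  refine ⟨fbar, hcomp, fun f' hf' => ?_⟩
  have hb' : f'.hom.base = TopCat.ofHom b := by
    ext y
    obtain ⟨x, rfl⟩ := hπ y
    exact (congrArg (fun e : X ⟶ Z => e.hom.base x) (hf'.trans hcomp.symm))
  refine SheafedSpace.ext _ _ hb' ?_
  ext V t
  apply (h3 _).1
  show π.hom.c.app _ (Y.presheaf.map _ (f'.hom.c.app (op V) t)) = π.hom.c.app _ (β V t)
  rw [hβ]
  refine (ConcreteCategory.congr_hom (π.hom.c.naturality _) _).trans ?_
  have h := ConcreteCategory.congr_hom
    (PresheafedSpace.congr_app (congrArg InducedCategory.Hom.hom hf') (op V)) t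
  show X.presheaf.map _ (π.hom.c.app _ (f'.hom.c.app (op V) t)) = _
  rw [show π.hom.c.app _ (f'.hom.c.app (op V) t) = _ from h]
  exact hmap _ _ _ _

end Groth.Agent.S14885
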