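import Groth.Statements.S14887
import Groth.Agent.Flatmor4.GenericSpecialize

set_option autoImplicit false
universe u
open CategoryTheory AlgebraicGeometry
open FlatMor

namespace Groth.Agent.S14887

/-- Let R be a valuation ring and let φ : X → Spec R be flat and locally of finite presentation. Call x
∈ X fibre-generic when it is the generic point of an irreducible component of its fibre, i.e. no
point y ≠ x with φ y = φ x specializes to x. Then every generization of a fibre-generic point is
fibre-generic. (The published statement allows an arbitrary base scheme and takes φ finitely
presented. Over a two-dimensional base it fails: for the affine line over the affine plane with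
coordinates a, b, the closed point u = a/b of the generic fibre specializes to the generic point of
the fibre over a = b = 0, and the chain-lifting step of the published proof does not hold in that
generality. This row takes the base to be the spectrum of a valuation ring, the case in which the
result is applied to relative curves, and assumes only local finite presentation, the property being
local on X.) -/
theorem result
    (R : Type u) [CommRing R] [IsDomain R] [ValuationRing R] {X : Scheme.{u}}
    (φ : X ⟶ Spec (CommRingCat.of R)) [Flat φ] [LocallyOfFinitePresentation φ]
    (x x' : X) (hgen : x' ⤳ x) (hx : ∀ y : X, y ⤳ x → φ y = φ x → y = x) :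
    ∀ y : X, y ⤳ x' → φ y = φ x' → y = x' := by
  have hmaxx : ∀ z, φ.base z = φ.base x → z ⤳ x → z = x := fun z hz hzx => hx z hzx hz
  have h1 := Groth.FibreDim.fibreDimAt_le_of_specializes φ hgen
  rw [(Groth.FibreDim.fibreDimAt_eq_height_of_max φ hmaxx).1] at h1
  have h2 := Groth.Flatmor4.height_asFiber_le_of_specializes_of_valuation φ hgen
  obtain ⟨t, e, ht, he, -, hfd⟩ := Groth.FibreDim.exists_fibre_quantities φ x'
  obtain ⟨m, -, hm⟩ := Groth.FibreDim.exists_relTrdeg_eq_height φ x
  rw [hfd, hm] at h1
  rw [ht, hm, Nat.cast_le] at h2
  have h3 : t + e ≤ m := by exact_mod_cast h1
  have he0 : e = 0 := by omega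
  rw [he0, Nat.cast_zero, Order.coheight_eq_zero] at he
  exact fun y hy hφ => (Groth.FibreDim.isMax_asFiber_iff φ x').mp he y hφ hy

end Groth.Agent.S14887
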