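import Groth.Statements.S14888
import Mathlib
-- import your own Groth.Agent.* helpers here

set_option autoImplicit false
universe u
open CategoryTheory AlgebraicGeometry
open CAlg

namespace Groth.Agent.S14888


/-- Let R be a valuation ring whose spectrum is finite (finite height) and let f : X → Spec R be locally
of finite type with locally quasi-finite fibres. For every x ∈ X the canonical morphism Spec O_{X,x}
→ X is an open immersion, and the composite Spec O_{X,x} → Spec R is locally of finite type; in
particular O_{X,x} is finitely generated as an R-algebra. (The published statement takes X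
quasi-finite over Spec R; the assertions are local at x, so this row assumes only that X is locally
of finite type with discrete fibres.) -/
theorem result
    (R : Type u) [CommRing R] [IsDomain R] [ValuationRing R] [Finite (PrimeSpectrum R)]
    {X : Scheme.{u}} (f : X ⟶ Spec (CommRingCat.of R)) [LocallyOfFiniteType f] [LocallyQuasiFinite f]
    (x : X) :
    IsOpenImmersion (X.fromSpecStalk x) ∧ LocallyOfFiniteType (X.fromSpecStalk x ≫ f) := by
  obtain ⟨_, ⟨V : X.Opens, hV, rfl⟩, hxV, -⟩ :=
    X.isBasis_affineOpens.exists_subset_of_mem_open (Set.mem_univ x) isOpen_univ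
  have : CompactSpace V := isCompact_iff_compactSpace.mp hV.isCompact
  have : IsAffine V := hV
  have : QuasiCompact (V.ι ≫ f) := (HasAffineProperty.iff_of_isAffine (P := @QuasiCompact)).mpr inferInstance
  have hfin : Finite {z // z ∈ V} := by
    have : Finite ↥(Spec (CommRingCat.of R)) := ‹Finite (PrimeSpectrum R)›
    have h := (V.ι ≫ f).finite_preimage Set.finite_univ
    exact Set.finite_univ_iff.mp (h.subset fun _ _ => trivial)
  let S : Set X := {z | z ∈ V ∧ ¬ z ⤳ x}
  have hSfin : S.Finite := (Set.finite_range (Subtype.val : V → X)).subset fun z hz => ⟨⟨z, hz.1⟩, rfl⟩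
  have hC : IsClosed (⋃ z ∈ S, closure {z}) := hSfin.isClosed_biUnion fun _ _ => isClosed_closure
  let W : X.Opens := V ⊓ ⟨(⋃ z ∈ S, closure {z})ᶜ, hC.isOpen_compl⟩
  have hxW : x ∈ W := ⟨hxV, by
    simp only [TopologicalSpace.Opens.coe_mk, Set.mem_compl_iff, Set.mem_iUnion, not_exists]
    exact fun z hz h => hz.2 (specializes_iff_mem_closure.mpr h)⟩
  have hW : ∀ z ∈ W, z ⤳ x := fun z hz => by
    by_contra h
    exact hz.2 (Set.mem_biUnion (show z ∈ S from ⟨hz.1, h⟩) (subset_closure rfl))
  obtain ⟨_, ⟨W' : X.Opens, hW', rfl⟩, hxW', hW'W⟩ :=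
    X.isBasis_affineOpens.exists_subset_of_mem_open hxW W.2
  have hgerm : IsIso (X.presheaf.germ W' x hxW') := by
    let := (X.presheaf.germ W' x hxW').hom.toAlgebra
    have := hW'.isLocalization_stalk ⟨x, hxW'⟩
    set p := hW'.primeIdealOf ⟨x, hxW'⟩
    have hunit : ∀ a ∈ p.asIdeal.primeCompl, IsUnit a := by
      intro a ha
      rw [← Ideal.span_singleton_eq_top, ← hW'.iSup_basicOpen_eq_self_iff]
      simp only [iSup_subtype, Set.mem_singleton_iff, iSup_iSup_eq_left]
      refine le_antisymm (X.basicOpen_le a) fun z hz => (hW z (hW'W hz)).mem_open (X.basicOpen a).2 ?_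
      have h2 : hW'.fromSpec p ∈ X.basicOpen a :=
        show p ∈ hW'.fromSpec ⁻¹ᵁ X.basicOpen a by rw [hW'.fromSpec_preimage_basicOpen a]; exact ha
      rw [hW'.fromSpec_primeIdealOf ⟨x, hxW'⟩] at h2
      exact h2
    exact (ConcreteCategory.isIso_iff_bijective _).mpr
      (IsLocalization.atUnits Γ(X, W') p.asIdeal.primeCompl (fun a ha => hunit a ha)
        (S := X.presheaf.stalk x)).bijective
  have hopen : IsOpenImmersion (X.fromSpecStalk x) := by
    rw [← hW'.fromSpecStalk_eq_fromSpecStalk hxW']
    delta IsAffineOpen.fromSpecStalk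
    infer_instance
  exact ⟨hopen, inferInstance⟩

end Groth.Agent.S14888
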