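import Groth.Statements.S14892
import Mathlib
import Groth.Agent.Calg7.Abhyankar
-- import your own Groth.Agent.* helpers here

set_option autoImplicit false
universe u
open CAlg

namespace Groth.Agent.S14892

/-- value group -/
abbrev M (K : Type u) [Field K] (A : ValuationSubring K) : Type u :=
  Additive Kˣ ⧸ Subgroup.toAddSubgroup A.unitGroup

theorem linearIndependent_chain (K : Type u) [Field K] (A : ValuationSubring K) {G : Type u} [AddCommGroup G] (θ : Kˣ → G)
    (hθ : ∀ u v, θ (u * v) = θ u + θ v) (hinj : ∀ u v, θ u = θ v → u⁻¹ * v ∈ A.unitGroup) {n : ℕ}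
    (P : Fin (n + 1) → Ideal A) (hP : ∀ i, (P i).IsPrime) (hmono : StrictMono P)
    (x : Fin n → Kˣ) (y : Fin n → A) (hxy : ∀ i, (y i : K) = x i)
    (hy : ∀ i : Fin n, y i ∈ P i.succ ∧ y i ∉ P i.castSucc) :
    LinearIndependent ℤ (fun i => θ (x i)) := by
  classical
  rw [Fintype.linearIndependent_iff]
  intro c hc
  by_contra hne
  simp only [not_forall] at hne
  have hex : (Finset.univ.filter (fun i => c i ≠ 0)).Nonempty := by
    obtain ⟨i, hi⟩ := hne; exact ⟨i, by simp [hi]⟩
  obtain ⟨i₀, hi₀, hmin⟩ := Finset.exists_min_image _ id hex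
  have hrel : ∀ a b : Fin n → ℕ, (∀ j, (a j : ℤ) - b j = c j) →
      θ (∏ j, x j ^ a j) =
        θ (∏ j, x j ^ b j) := by
      intro a b hab
      have key : ∀ e : Fin n → ℕ, θ (∏ j, x j ^ e j) =
          ∑ j, (e j : ℤ) • θ (x j) := by
        intro e
        generalize (Finset.univ : Finset (Fin n)) = s
        induction s using Finset.induction_on with
        | empty =>
          rw [Finset.prod_empty, Finset.sum_empty]
          have h1 := hθ 1 1
          rw [one_mul, left_eq_add] at h1
          exact h1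
        | insert i u hi ih =>
          rw [Finset.prod_insert hi, Finset.sum_insert hi, ← ih, natCast_zsmul, hθ]
          congr 1
          induction e i with
          | zero =>
            have h1 := hθ 1 1
            rw [one_mul, left_eq_add] at h1
            rw [pow_zero, zero_smul, h1]
          | succ k ihk => rw [pow_succ, succ_nsmul, hθ, ihk]
      rw [key, key]
      refine sub_eq_zero.1 (Eq.trans ?_ hc)
      rw [show (∑ j, c j • θ (x j)) =
          ∑ j, ((a j : ℤ) • θ (x j) -
            (b j : ℤ) • θ (x j))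
        from Finset.sum_congr rfl fun j _ => by rw [← sub_smul, hab]]
      exact (Finset.sum_sub_distrib _ _).symm
  have hkey : ∀ a b : Fin n → ℕ,
      θ (∏ j, x j ^ a j) =
        θ (∏ j, x j ^ b j) →
      (∀ j, a j = 0 ∨ b j = 0) → (∀ j, b j ≠ 0 → c j ≠ 0) → 0 < a i₀ → False := by
    intro a b hprod h0 hsupp hpos
    have hu : (∏ j, x j ^ a j)⁻¹ * ∏ j, x j ^ b j ∈ A.unitGroup := hinj _ _ hprod
    obtain ⟨u, hu'⟩ : ∃ u : Aˣ, ((u : A) : K) * ∏ j, (x j : K) ^ a j = ∏ j, (x j : K) ^ b j := by
      refine ⟨A.unitGroupMulEquiv ⟨_, hu⟩, ?_⟩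
      rw [ValuationSubring.coe_unitGroupMulEquiv_apply]
      simp only [Units.val_mul, Units.val_inv_eq_inv_val, Units.coe_prod, Units.val_pow_eq_pow_val]
      rw [mul_comm, ← mul_assoc, mul_inv_cancel₀ (Finset.prod_ne_zero_iff.2 fun j _ => pow_ne_zero _ (x j).ne_zero),
        one_mul]
    have he : (u : A) * ∏ j, y j ^ a j = ∏ j, y j ^ b j := by
      apply Subtype.ext
      push_cast
      simp only [hxy]
      exact hu'
    haveI := hP i₀.succ
    have hl : ∏ j, y j ^ b j ∈ P i₀.succ := he ▸ Ideal.mul_mem_left _ _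
      (Ideal.mem_of_dvd _ (Finset.dvd_prod_of_mem _ (Finset.mem_univ i₀))
        (Ideal.pow_mem_of_mem _ (hy i₀).1 _ hpos))
    obtain ⟨j, -, hj⟩ := (Ideal.IsPrime.prod_mem_iff (p := P i₀.succ)).1 hl
    have hbj : b j ≠ 0 := fun h => by
      rw [h, pow_zero] at hj
      exact (hP i₀.succ).ne_top ((Ideal.eq_top_iff_one _).2 hj)
    have hji : i₀ ≠ j := by rintro rfl; rcases h0 i₀ with h | h <;> omega
    have hlt : i₀ < j := by
      refine lt_of_le_of_ne (hmin j (Finset.mem_filter.2 ⟨Finset.mem_univ _, ?_⟩)) hji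
      exact hsupp j hbj
    exact (hy j).2 (hmono.monotone (Fin.succ_le_castSucc_iff.2 hlt) ((hP i₀.succ).mem_of_pow_mem _ hj))
  have hne0 : c i₀ ≠ 0 := (Finset.mem_filter.1 hi₀).2
  have hr := hrel (fun j => (c j).toNat) (fun j => (-c j).toNat) (fun j => by omega)
  rcases lt_or_gt_of_ne hne0 with h | h
  · exact hkey (fun j => (-c j).toNat) (fun j => (c j).toNat) hr.symm (fun j => by omega)
      (fun j => by omega) (by omega)
  · exact hkey (fun j => (c j).toNat) (fun j => (-c j).toNat) hr (fun j => by omega)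
      (fun j => by omega) (by omega)

/-- If the field K has finite transcendence degree d over its prime subfield, then every valuation
subring of K has height (Krull dimension) at most d + 1. -/
theorem result
    (K : Type u) [Field K] (A : ValuationSubring K) (d : ℕ)
    (hd : Algebra.trdeg (⊥ : Subfield K) K = d) :
    ringKrullDim A ≤ ((d + 1 : ℕ) : WithBot ℕ∞) := by
  classical
  let vL : Valuation K A.ValueGroup := A.valuation
  let vK : Valuation (⊥ : Subfield K) A.ValueGroup := vL.comap (algebraMap (⊥ : Subfield K) K)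
  haveI : vK.HasExtension vL := ⟨Valuation.IsEquiv.refl⟩
  have hA : vL.valuationSubring = A := A.valuationSubring_valuation
  have hE : Module.rank ℤ (Groth.Calg7.Abhyankar.Q (K := (⊥ : Subfield K)) vL) ≤ d :=
    le_trans (self_le_add_right _ _) ((Groth.Calg7.Abhyankar.abhyankar vK vL).trans hd.le)
  let φ : M K A →ₗ[ℤ] Groth.Calg7.Abhyankar.Q (K := (⊥ : Subfield K)) vL :=
    (QuotientAddGroup.map (Subgroup.toAddSubgroup A.unitGroup)
      (Subgroup.toAddSubgroup (Groth.Calg7.Abhyankar.H (K := (⊥ : Subfield K)) vL)) (AddMonoidHom.id _)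
      (fun z hz => show Additive.toMul z ∈ Groth.Calg7.Abhyankar.H (K := (⊥ : Subfield K)) vL from
        Subgroup.mem_sup_left (by rw [hA]; exact hz))).toIntLinearMap
  have hker : Module.rank ℤ (LinearMap.ker φ) ≤ 1 := by
    set f : ℤ →+* A := Int.castRingHom A with hf
    obtain ⟨q, hq⟩ : ∃ q : ℤ, (IsLocalRing.maximalIdeal A).comap f = Ideal.span {q} :=
      ⟨_, (Submodule.IsPrincipal.span_singleton_generator _).symm⟩
    let cl : Kˣ → M K A := fun u => QuotientAddGroup.mk (Additive.ofMul u)
    let g : M K A := if h : (q : K) ≠ 0 then cl (Units.mk0 _ h) else 0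
    have hint : ∀ (N : ℕ) (n : ℤ) (hn : (n : K) ≠ 0), n.natAbs ≤ N →
        cl (Units.mk0 _ hn) ∈ Submodule.span ℤ {g} := by
      intro N
      induction N with
      | zero => intro n hn h; exact absurd (by rw [show n = 0 by omega, Int.cast_zero]) hn
      | succ N ih =>
        intro n hn h
        by_cases hmem : f n ∈ IsLocalRing.maximalIdeal A
        · have hdvd : q ∣ n := Ideal.mem_span_singleton.1 (hq ▸ hmem)
          obtain ⟨n', rfl⟩ := hdvd
          have hq0 : (q : K) ≠ 0 := fun h0 => hn (by rw [Int.cast_mul, h0, zero_mul])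
          have hn0 : (n' : K) ≠ 0 := fun h0 => hn (by rw [Int.cast_mul, h0, mul_zero])
          have hq1 : 2 ≤ q.natAbs := by
            by_contra hlt
            have : q = 0 ∨ IsUnit q := by rw [Int.isUnit_iff_natAbs_eq]; omega
            rcases this with rfl | hu
            · exact hq0 Int.cast_zero
            · exact (Ideal.IsMaximal.ne_top inferInstance : IsLocalRing.maximalIdeal A ≠ ⊤)
                (by
                  have h1 : (1 : ℤ) ∈ (IsLocalRing.maximalIdeal A).comap f := by
                    rw [hq, Ideal.mem_span_singleton]; exact hu.dvd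
                  rw [Ideal.mem_comap, map_one] at h1
                  exact (Ideal.eq_top_iff_one _).2 h1)
          have hlt : n'.natAbs ≤ N := by
            have : 2 * n'.natAbs ≤ (q * n').natAbs := by
              rw [Int.natAbs_mul]; exact Nat.mul_le_mul_right _ hq1
            have : n'.natAbs ≠ 0 := fun h0 => hn0 (by rw [Int.natAbs_eq_zero.1 h0, Int.cast_zero])
            omega
          have e : cl (Units.mk0 _ hn) = g + cl (Units.mk0 _ hn0) := by
            simp only [g, dif_pos hq0]
            exact congrArg cl (Units.ext (by simp) : Units.mk0 _ hn = Units.mk0 _ hq0 * Units.mk0 _ hn0)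
          rw [e]
          exact add_mem (Submodule.mem_span_singleton_self g) (ih n' hn0 hlt)
        · have hu : IsUnit (f n) := not_not.1 hmem
          have h0 : cl (Units.mk0 _ hn) = 0 := (QuotientAddGroup.eq_zero_iff _).2 (by
            change Units.mk0 _ hn ∈ A.unitGroup
            rw [A.mem_unitGroup_iff]
            change A.valuation (n : K) = 1
            have := (A.valuation_eq_one_iff (f n)).1 hu
            rwa [hf, Int.coe_castRingHom, SubringClass.coe_intCast] at this)
          rw [h0]
          exact zero_mem _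
    refine le_trans (Submodule.rank_mono (t := Submodule.span ℤ {g}) fun z hz => ?_)
      ((rank_span_le _).trans (Cardinal.mk_singleton g).le)
    obtain ⟨z, rfl⟩ := QuotientAddGroup.mk_surjective z
    have hz' : Additive.toMul z ∈ Groth.Calg7.Abhyankar.H (K := (⊥ : Subfield K)) vL :=
      (QuotientAddGroup.eq_zero_iff _).1 hz
    obtain ⟨w, hw, _, ⟨c, rfl⟩, e⟩ := Subgroup.mem_sup.1 hz'
    have h0 : cl w = 0 := (QuotientAddGroup.eq_zero_iff _).2 (by rw [hA] at hw; exact hw)
    have hz2 : (QuotientAddGroup.mk z : M K A) =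
        cl w + cl (Units.map (algebraMap (⊥ : Subfield K) K).toMonoidHom c) := congrArg cl e.symm
    suffices hcl : cl (Units.map (algebraMap (⊥ : Subfield K) K).toMonoidHom c) ∈ Submodule.span ℤ {g} by
      rw [hz2, h0]
      exact Submodule.add_mem _ (Submodule.zero_mem _) hcl
    have hc : ((c : (⊥ : Subfield K)) : K) ∈ Subfield.closure (∅ : Set K) := by
      rw [Subfield.closure_empty]; exact (c : (⊥ : Subfield K)).2
    obtain ⟨a, ha, b, hb, hab⟩ := Subfield.mem_closure_iff.1 hc
    rw [Subring.closure_empty, Subring.mem_bot] at ha hb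
    obtain ⟨a, rfl⟩ := ha
    obtain ⟨b, rfl⟩ := hb
    have hc0 : ((c : (⊥ : Subfield K)) : K) ≠ 0 := fun h => c.ne_zero (Subtype.ext h)
    have ha0 : (a : K) ≠ 0 := fun h => hc0 (by rw [← hab, h, zero_div])
    have hb0 : (b : K) ≠ 0 := fun h => hc0 (by rw [← hab, h, div_zero])
    have e2 : cl (Units.map (algebraMap (⊥ : Subfield K) K).toMonoidHom c) =
        cl (Units.mk0 _ ha0) - cl (Units.mk0 _ hb0) := by
      have : Units.map (algebraMap (⊥ : Subfield K) K).toMonoidHom c =
          Units.mk0 _ ha0 / Units.mk0 _ hb0 := Units.ext (by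
        rw [Units.val_div_eq_div_val]
        exact hab.symm)
      rw [this]
      rfl
    rw [e2]
    exact sub_mem (hint _ a ha0 le_rfl) (hint _ b hb0 le_rfl)
  have hM : Module.rank ℤ (M K A) ≤ ((d + 1 : ℕ) : Cardinal) := by
    rw [← φ.rank_range_add_rank_ker, Nat.cast_add, Nat.cast_one]
    exact add_le_add ((Submodule.rank_le _).trans hE) hker
  refine iSup_le fun l => ?_
  change ((l.length : ℕ∞) : WithBot ℕ∞) ≤ (((d + 1 : ℕ) : ℕ∞) : WithBot ℕ∞)
  rw [WithBot.coe_le_coe, Nat.cast_le]
  let P : Fin (l.length + 1) → Ideal A := fun i => (l i).asIdeal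
  have hP : StrictMono P := fun i j h => l.strictMono h
  choose y hy using fun i : Fin l.length => SetLike.exists_of_lt (hP (Fin.castSucc_lt_succ (i := i)))
  have hy0 : ∀ i, (y i : K) ≠ 0 := fun i h => (hy i).2 (by
    rw [show y i = 0 from Subtype.ext h]; exact zero_mem _)
  have hli := linearIndependent_chain K A (fun u => (QuotientAddGroup.mk (Additive.ofMul u) : M K A))
    (fun u v => rfl) (fun u v h => QuotientAddGroup.eq.1 h) P (fun i => (l i).isPrime) hP
    (fun i => Units.mk0 _ (hy0 i)) y (fun i => rfl) hy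
  have h1 := (hli.comp (ULift.down.{u}) ULift.down_injective).cardinal_le_rank.trans hM
  rwa [Cardinal.mk_uLift, Cardinal.mk_fin, Cardinal.lift_natCast, Nat.cast_le] at h1

end Groth.Agent.S14892
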