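import Groth.Statements.S14893
import Groth.Agent.Calg4.FiniteFractionDim

set_option autoImplicit false
universe u
open CAlg

namespace Groth.Agent.S14893

/-- Every valuation ring R is a filtered union of subrings which are valuation rings with finite
spectrum (finite height): there is a nonempty directed index type and a monotone family of such
subrings of R whose supremum is R. -/
theorem result
    (R : Type u) [CommRing R] [IsDomain R] [ValuationRing R] :
    ∃ (ι : Type u) (_ : Preorder ι) (_ : IsDirected ι (fun a b ↦ a ≤ b)) (_ : Nonempty ι)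
      (F : ι → Subring R), Monotone F ∧ (⨆ i, F i) = ⊤ ∧
        ∀ i, ValuationRing (F i) ∧ Finite (PrimeSpectrum (F i)) := by
  classical
  let mk : Finset R → Subring R := fun s =>
    { carrier := {r : R | ∃ a ∈ Subring.closure (↑s : Set R), ∃ b ∈ Subring.closure (↑s : Set R),
        b ≠ 0 ∧ r * b = a}
      zero_mem' := ⟨0, zero_mem _, 1, one_mem _, one_ne_zero, zero_mul _⟩
      one_mem' := ⟨1, one_mem _, 1, one_mem _, one_ne_zero, one_mul _⟩
      add_mem' := by
        rintro r r' ⟨a, ha, b, hb, hb0, h⟩ ⟨a', ha', b', hb', hb0', h'⟩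
        exact ⟨a * b' + a' * b, add_mem (mul_mem ha hb') (mul_mem ha' hb), b * b', mul_mem hb hb',
          mul_ne_zero hb0 hb0', by rw [← h, ← h']; ring⟩
      mul_mem' := by
        rintro r r' ⟨a, ha, b, hb, hb0, h⟩ ⟨a', ha', b', hb', hb0', h'⟩
        exact ⟨a * a', mul_mem ha ha', b * b', mul_mem hb hb',
          mul_ne_zero hb0 hb0', by rw [← h, ← h']; ring⟩
      neg_mem' := by
        rintro r ⟨a, ha, b, hb, hb0, h⟩
        exact ⟨-a, neg_mem ha, b, hb, hb0, by rw [← h, neg_mul]⟩ }
  have hsub : ∀ s : Finset R, ∀ x ∈ Subring.closure (↑s : Set R), x ∈ mk s := fun s x hx =>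
    ⟨x, hx, 1, one_mem _, one_ne_zero, mul_one x⟩
  refine ⟨Finset R, inferInstance, inferInstance, inferInstance, mk, ?_, ?_, fun s => ?_⟩
  · rintro s t hst r ⟨a, ha, b, hb, h⟩
    have hle := Subring.closure_mono (Finset.coe_subset.mpr hst)
    exact ⟨a, hle ha, b, hle hb, h⟩
  · rw [eq_top_iff]
    intro r _
    exact (le_iSup mk {r}) (hsub _ r (Subring.subset_closure (Finset.mem_singleton_self r)))
  · haveI : ValuationRing (mk s) := by
      have : PreValuationRing (mk s) := by
        refine ⟨fun a b => ?_⟩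
        by_cases ha : (a : R) = 0
        · exact ⟨0, Or.inr (Subtype.ext (by simp [ha]))⟩
        by_cases hb : (b : R) = 0
        · exact ⟨0, Or.inl (Subtype.ext (by simp [hb]))⟩
        have key : ∀ (x y : mk s) (c : R), (x : R) ≠ 0 → (x : R) * c = y → c ∈ mk s := by
          rintro ⟨x, a, ha, b, hb, hb0, hx⟩ ⟨y, a', ha', b', hb', hb0', hy⟩ c hx0 (h : x * c = y)
          refine ⟨a' * b, mul_mem ha' hb, a * b', mul_mem ha hb', ?_, ?_⟩
          · exact mul_ne_zero (hx ▸ mul_ne_zero hx0 hb0) hb0'
          · rw [← hx, ← hy, ← h]; ring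
        obtain ⟨c, h | h⟩ := ValuationRing.cond (a : R) b
        · exact ⟨⟨c, key a b c ha h⟩, Or.inl (Subtype.ext h)⟩
        · exact ⟨⟨c, key b a c hb h⟩, Or.inr (Subtype.ext h)⟩
      exact { toPreValuationRing := this }
    refine ⟨inferInstance, ?_⟩
    let V := mk s
    let s' : Finset V := s.attach.image fun x => ⟨x.1, hsub s x.1 (Subring.subset_closure x.2)⟩
    refine Groth.Agent.Calg4.FiniteFractionDim.finite_primeSpectrum s' ?_
    have hlift : ∀ a : R, a ∈ Subring.closure (↑s : Set R) →
        ∃ a' : V, a' ∈ Subring.closure (↑s' : Set V) ∧ (a' : R) = a := by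
      intro a ha
      have : Subring.closure (↑s : Set R) ≤ (Subring.closure (↑s' : Set V)).map V.subtype := by
        rw [Subring.closure_le]
        intro x hx
        exact Subring.mem_map.mpr ⟨⟨x, hsub s x (Subring.subset_closure hx)⟩,
          Subring.subset_closure (Finset.mem_image.mpr ⟨⟨x, hx⟩, Finset.mem_attach _ _, rfl⟩), rfl⟩
      obtain ⟨a', h1, h2⟩ := Subring.mem_map.mp (this ha)
      exact ⟨a', h1, h2⟩
    rintro ⟨r, a, ha, b, hb, hb0, h⟩
    obtain ⟨a', ha1, ha2⟩ := hlift a ha
    obtain ⟨b', hb1, hb2⟩ := hlift b hb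
    refine ⟨a', ha1, b', hb1, fun h0 => hb0 (by rw [← hb2, h0]; rfl), Subtype.ext ?_⟩
    show r * (b' : R) = (a' : R)
    rw [ha2, hb2, h]

end Groth.Agent.S14893
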