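import Groth.Statements.S14896
import Mathlib
-- import your own Groth.Agent.* helpers here

set_option autoImplicit false
universe u
open CAlg

namespace Groth.Agent.S14896

/-- Let L/K be a finite extension of valued fields, v_L extending v_K, with K° = the valuation ring of
v_K having finite spectrum (finite height), and L° the valuation ring of v_L. If L° is local-étale
over K°, i.e. L° is the localization at a prime ideal of some étale K°-algebra B compatibly with the
K°-algebra structures, then L° is étale over K°. (For valued fields of finite height 'unramified' in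
the local-étale sense is thus the same as K° → L° étale; the published lemma phrases the hypothesis
as 'L/K unramified'.) -/
theorem result
    {K L Γ₀ Γ₁ : Type u} [Field K] [Field L] [Algebra K L] [FiniteDimensional K L]
    [LinearOrderedCommGroupWithZero Γ₀] [LinearOrderedCommGroupWithZero Γ₁]
    (vK : Valuation K Γ₀) (vL : Valuation L Γ₁) [vK.HasExtension vL]
    [Finite (PrimeSpectrum vK.valuationSubring)]
    (B : Type u) [CommRing B] [Algebra vK.valuationSubring B] [Algebra.Etale vK.valuationSubring B]
    [Algebra B vL.valuationSubring] [IsScalarTower vK.valuationSubring B vL.valuationSubring]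
    (P : Ideal B) [P.IsPrime] [IsLocalization.AtPrime vL.valuationSubring P] :
    Algebra.Etale vK.valuationSubring vL.valuationSubring := by
  classical
  let K₀ := vK.valuationSubring
  haveI : Algebra.QuasiFinite K₀ B := inferInstance
  have hfin : (Set.univ : Set (PrimeSpectrum B)).Finite := by
    refine Set.Finite.subset (Set.Finite.biUnion (Set.finite_univ (α := PrimeSpectrum K₀))
      fun p _ => (Algebra.QuasiFinite.finite_primesOver (S := B) p.asIdeal).preimage
        (f := PrimeSpectrum.asIdeal) fun a _ b _ h => PrimeSpectrum.ext h) ?_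
    intro q _
    simp only [Set.mem_iUnion]
    exact ⟨PrimeSpectrum.comap (algebraMap K₀ B) q, Set.mem_univ _, q.2, ⟨rfl⟩⟩
  have hsep : ∀ q : {q : PrimeSpectrum B // ¬ q.asIdeal ≤ P}, ∃ g ∈ q.1.asIdeal, g ∉ P := fun q =>
    SetLike.not_le_iff_exists.mp q.2
  choose g hg hgP using hsep
  haveI : Finite (PrimeSpectrum B) := Set.finite_univ_iff.mp hfin
  haveI := Fintype.ofFinite {q : PrimeSpectrum B // ¬ q.asIdeal ≤ P}
  let G := ∏ q, g q
  have hG : G ∉ P := fun h => by
    obtain ⟨q, -, hq⟩ := Ideal.IsPrime.prod_mem_iff.mp h
    exact hgP q hq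
  have key : ∀ q : Ideal B, q.IsPrime → G ∉ q → q ≤ P := fun q hq hGq => by
    by_contra hle
    exact hGq (Ideal.mem_of_dvd _ (Finset.dvd_prod_of_mem g (Finset.mem_univ (⟨⟨q, hq⟩, hle⟩ : {q : PrimeSpectrum B // ¬ q.asIdeal ≤ P}))) (hg ⟨⟨q, hq⟩, hle⟩))
  haveI : IsLocalization P.primeCompl (Localization.Away G) := by
    refine IsLocalization.of_le (Submonoid.powers G) P.primeCompl (Submonoid.powers_le.mpr hG) fun x hx => ?_
    by_contra hu
    obtain ⟨M, hM, hxM⟩ := exists_max_ideal_of_mem_nonunits hu
    have hGM : G ∉ M.comap (algebraMap B (Localization.Away G)) := fun h =>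
      hM.ne_top (Ideal.eq_top_of_isUnit_mem _ h (IsLocalization.Away.algebraMap_isUnit G))
    exact hx (key _ inferInstance hGM hxM)
  haveI : IsLocalization.Away G vL.valuationSubring :=
    (IsLocalization.isLocalization_iff_of_isLocalization (M := Submonoid.powers G) (N := P.primeCompl)
      (S := Localization.Away G) (P := vL.valuationSubring)).mpr inferInstance
  exact Algebra.Etale.of_equiv ((IsLocalization.algEquiv (Submonoid.powers G) (Localization.Away G) vL.valuationSubring).restrictScalars K₀)

end Groth.Agent.S14896
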