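import Groth.Statements.S14901
import Groth.Agent.FibreDim.StalkFormula
import Groth.Agent.Variety2.DimScheme
import Groth.Agent.SpectralTopology.Constructible
import Groth.Agent.SpectralTopology.Dim
import Mathlib.AlgebraicGeometry.Morphisms.QuasiSeparated
import Mathlib.AlgebraicGeometry.Morphisms.Separated

set_option autoImplicit false
set_option linter.style.haveILetI false
set_option linter.unusedVariables false
universe u
open MovLem

namespace Groth.Agent.S14901

open AlgebraicGeometry CategoryTheory IsLocalRing in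
/-- Points of the image have height at most the dimension of the image. -/
theorem height_le_dim_range {k : Type u} [Field k] {S X : Scheme.{u}}
    (pX : X ⟶ Spec (CommRingCat.of k)) [LocallyOfFiniteType pX] [QuasiCompact pX]
    (f : S ⟶ X) [QuasiCompact f] [LocallyOfFinitePresentation f] (w : X) (hw : w ∈ Set.range f.base) :
    ((Order.height w : ℕ∞) : WithBot ℕ∞) ≤ topologicalKrullDim (Set.range f.base) := by
  haveI : CompactSpace X := QuasiCompact.compactSpace_of_compactSpace pX
  haveI : IsLocallyNoetherian X := LocallyOfFiniteType.isLocallyNoetherian pX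
  haveI : QuasiSeparatedSpace X := inferInstance
  have hE : Topology.IsConstructible (Set.range f.base) := by
    simpa using Scheme.Hom.isConstructible_image f Topology.IsConstructible.univ
  obtain ⟨U, hU, hne, hsub⟩ := Groth.SpectralTopology.exists_open_of_dense hE
    (isIrreducible_singleton.closure (s := ({w} : Set X))) (by
      refine le_trans (closure_mono ?_) le_rfl
      exact Set.singleton_subset_iff.mpr ⟨hw, subset_closure rfl⟩)
  have hwU : w ∈ U := ((isGenericPoint_closure (x := w)).mem_open_set_iff hU).mpr (by rwa [Set.inter_comm])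
  let O : X.Opens := ⟨U, hU⟩
  let w' : O.toScheme := ⟨w, hwU⟩
  have hw' : Order.height w = Order.height w' :=
    Groth.Variety2.Dim.height_eq_of_isPreimmersion (O.ι ≫ pX) pX O.ι rfl w'
  rw [hw', ← Groth.Variety2.Dim.dim_closure_singleton w']
  have hsub' : O.ι '' closure {w'} ⊆ Set.range f.base := by
    rintro _ ⟨z, hz, rfl⟩
    refine hsub ⟨z.2, ?_⟩
    have := image_closure_subset_closure_image O.ι.continuous ⟨z, hz, rfl⟩
    rw [Set.image_singleton] at this
    exact this
  let g : closure {w'} → Set.range f.base := fun z => ⟨O.ι z.1, hsub' ⟨z.1, z.2, rfl⟩⟩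
  have hg : Topology.IsInducing g :=
    (O.ι.isOpenEmbedding.toIsInducing.comp Topology.IsInducing.subtypeVal).codRestrict _
  exact hg.topologicalKrullDim_le

open AlgebraicGeometry CategoryTheory IsLocalRing in
/-- Points of `S` maximal in their fibre have codimension at most the dimension of the image. -/
theorem exists_stalk_dim_le {k : Type u} [Field k] {S X : Scheme.{u}}
    (pX : X ⟶ Spec (CommRingCat.of k)) [LocallyOfFiniteType pX] [QuasiCompact pX]
    (f : S ⟶ X) [LocallyOfFiniteType f] [QuasiCompact f] (s : S) :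
    ∃ η : S, f.base η = f.base s ∧
      ringKrullDim (S.presheaf.stalk η) ≤ topologicalKrullDim (Set.range f.base) := by
  haveI : IsLocallyNoetherian X := LocallyOfFiniteType.isLocallyNoetherian pX
  haveI : IsLocallyNoetherian S := LocallyOfFiniteType.isLocallyNoetherian f
  have hC := irreducibleComponent_mem_irreducibleComponents (f.asFiber s)
  let z : f.fiber (f.base s) := genericPoints.ofComponent ⟨_, hC⟩ |>.1
  have hz : ∀ z' : f.fiber (f.base s), z' ⤳ z → z ⤳ z' := fun z' h => by
    have hg : IsGenericPoint z (irreducibleComponent (f.asFiber s)) :=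
      genericPoints.isGenericPoint_ofComponent (⟨_, hC⟩ : irreducibleComponents (f.fiber (f.base s)))
    have hle : irreducibleComponent (f.asFiber s) ⊆ closure {z'} := by
      rw [← hg.def]
      exact closure_minimal (Set.singleton_subset_iff.mpr (specializes_iff_mem_closure.mp h)) isClosed_closure
    have he := hC.eq_of_ge (y := closure {z'}) isIrreducible_singleton.closure hle
    exact hg.specializes (he ▸ (subset_closure rfl : z' ∈ closure {z'}))
  let η : S := (f.fiberι (f.base s)).base z
  have hη : f.base η = f.base s := by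
    have : η ∈ Set.range (f.fiberι (f.base s)).base := ⟨z, rfl⟩
    rw [f.range_fiberι] at this
    exact this
  refine ⟨η, hη, ?_⟩
  have hfib : ringKrullDim (S.presheaf.stalk η ⧸
      (maximalIdeal (X.presheaf.stalk (f.base η))).map (f.stalkMap η).hom) = 0 := by
    rw [← Groth.FibreDim.ringKrullDim_fiber_stalk f (f.base s) z, ringKrullDim_stalk_eq_coheight]
    exact WithBot.coe_eq_zero.mpr (Order.coheight_eq_zero.mpr (show IsMax z from fun z' h => hz z' h))
  letI := (f.stalkMap η).hom.toAlgebra
  let K : Ideal (X.presheaf.stalk (f.base η)) := RingHom.ker (f.stalkMap η).hom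
  have hK : K ≠ ⊤ := RingHom.ker_ne_top _
  haveI : Nontrivial (X.presheaf.stalk (f.base η) ⧸ K) := Ideal.Quotient.nontrivial_iff.mpr hK
  haveI : IsLocalRing (X.presheaf.stalk (f.base η) ⧸ K) := .of_surjective' _ Ideal.Quotient.mk_surjective
  letI : Algebra (X.presheaf.stalk (f.base η) ⧸ K) (S.presheaf.stalk η) :=
    (RingHom.kerLift (f.stalkMap η).hom).toAlgebra
  haveI : IsLocalHom (algebraMap (X.presheaf.stalk (f.base η) ⧸ K) (S.presheaf.stalk η)) := ⟨fun a ha => by
    obtain ⟨b, rfl⟩ := Ideal.Quotient.mk_surjective a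
    exact (IsLocalHom.map_nonunit (f := (f.stalkMap η).hom) b ha).map _⟩
  refine le_trans (Groth.FibreDim.ringKrullDim_le_add_fibre (X.presheaf.stalk (f.base η) ⧸ K) (S.presheaf.stalk η)) ?_
  have hm : (maximalIdeal (X.presheaf.stalk (f.base η) ⧸ K)).map
      (algebraMap (X.presheaf.stalk (f.base η) ⧸ K) (S.presheaf.stalk η)) =
      (maximalIdeal (X.presheaf.stalk (f.base η))).map (f.stalkMap η).hom := by
    rw [← IsLocalRing.map_maximalIdeal_of_surjective _ Ideal.Quotient.mk_surjective, Ideal.map_map]
    rfl
  rw [hm, hfib, add_zero, ringKrullDim]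
  refine iSup_le fun l => ?_
  let q : Spec (CommRingCat.of (X.presheaf.stalk (f.base η) ⧸ K)) ⟶ X :=
    Spec.map (CommRingCat.ofHom (Ideal.Quotient.mk K)) ≫ X.fromSpecStalk (f.base η)
  haveI : IsClosedImmersion (Spec.map (CommRingCat.ofHom (Ideal.Quotient.mk K))) :=
    IsClosedImmersion.spec_of_surjective _ Ideal.Quotient.mk_surjective
  haveI : IsPreimmersion q := inferInstance
  let i : Fin (l.length + 1) → X := fun j => q.base (l (Fin.rev j))
  have hi : StrictMono i := fun a b hab => by
    have h : l (Fin.rev b) < l (Fin.rev a) := l.strictMono (Fin.rev_lt_rev.mpr hab)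
    have h1 : l (Fin.rev b) ⤳ l (Fin.rev a) := (PrimeSpectrum.le_iff_specializes _ _).mp h.le
    refine lt_of_le_not_ge (h1.map q.continuous) fun h2 => h.not_ge ?_
    exact (PrimeSpectrum.le_iff_specializes _ _).mpr (q.isEmbedding.toIsInducing.specializes_iff.mp h2)
  let l' : LTSeries X := LTSeries.mk l.length i hi
  obtain ⟨P, hP, hle⟩ := Ideal.exists_minimalPrimes_le (I := (⊥ : Ideal (X.presheaf.stalk (f.base η) ⧸ K)))
    (J := l.head.asIdeal) bot_le
  haveI := hP.1.1
  obtain ⟨Q, hQ, hQP⟩ := Ideal.exists_comap_eq_of_mem_minimalPrimes_of_injective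
    (f := RingHom.kerLift (f.stalkMap η).hom) (RingHom.kerLift_injective _) P hP
  have hw : q.base ⟨P, hP.1.1⟩ ∈ Set.range f.base := by
    refine ⟨(S.fromSpecStalk η).base ⟨Q, hQ⟩, ?_⟩
    rw [← Scheme.Hom.comp_apply, ← Scheme.SpecMap_stalkMap_fromSpecStalk]
    show (X.fromSpecStalk (f.base η)).base ((Spec.map (f.stalkMap η)).base ⟨Q, hQ⟩) =
      (X.fromSpecStalk (f.base η)).base ((Spec.map (CommRingCat.ofHom (Ideal.Quotient.mk K))).base ⟨P, hP.1.1⟩)
    congr 1
    apply PrimeSpectrum.ext
    show Q.comap (f.stalkMap η).hom = P.comap (Ideal.Quotient.mk K)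
    rw [← hQP, Ideal.comap_comap]
    rfl
  haveI : LocallyOfFinitePresentation f := inferInstance
  refine le_trans ?_ (height_le_dim_range pX f _ hw)
  refine WithBot.coe_le_coe.mpr (le_trans (Order.length_le_height (p := l') ?_) le_rfl)
  show i (Fin.last _) ≤ q.base ⟨P, hP.1.1⟩
  have h1 : (⟨P, hP.1.1⟩ : PrimeSpectrum _) ⤳ l (Fin.rev (Fin.last _)) := by
    rw [Fin.rev_last]
    exact (PrimeSpectrum.le_iff_specializes _ _).mp hle
  exact h1.map q.continuous

open AlgebraicGeometry CategoryTheory in
/-- Let k be a field, let S and X be separated k-schemes of finite type that are locally equidimensional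
(all irreducible components passing through a given point have the same dimension), let f : S → X be
a k-morphism and Z ⊆ X a closed subset. Let d be the dimension of the image f(S), as a subspace of
X. If every point s of S with f(s) ∈ Z satisfies dim O_{S,s} ≥ d + 1 (equivalently: the closed
subset f⁻¹(Z) of S has local codimension at least d + 1 at each of its points), then f⁻¹(Z) is
empty. -/
theorem result (k : Type u) [Field k] (S X : Scheme.{u})
    (pS : S ⟶ Spec (CommRingCat.of k)) (pX : X ⟶ Spec (CommRingCat.of k))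
    [IsSeparated pS] [LocallyOfFiniteType pS] [QuasiCompact pS]
    [IsSeparated pX] [LocallyOfFiniteType pX] [QuasiCompact pX]
    (hS : ∀ (s : S) (A B : Set S), A ∈ irreducibleComponents (S : Type u) → B ∈ irreducibleComponents (S : Type u) →
      s ∈ A → s ∈ B → topologicalKrullDim A = topologicalKrullDim B)
    (hX : ∀ (x : X) (A B : Set X), A ∈ irreducibleComponents (X : Type u) → B ∈ irreducibleComponents (X : Type u) →
      x ∈ A → x ∈ B → topologicalKrullDim A = topologicalKrullDim B)
    (f : S ⟶ X) (hf : f ≫ pX = pS) (Z : Set X) (hZ : IsClosed Z)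
    (h : ∀ s : S, f.base s ∈ Z →
      topologicalKrullDim (Set.range f.base) + 1 ≤ ringKrullDim (S.presheaf.stalk s)) :
    f.base ⁻¹' Z = ∅ := by
  by_contra hne
  obtain ⟨s, hs⟩ := Set.nonempty_iff_ne_empty.mpr hne
  subst hf
  haveI : LocallyOfFiniteType f := locallyOfFiniteType_of_comp f pX
  haveI : QuasiCompact f := QuasiCompact.of_comp f pX
  obtain ⟨η, hη, hle⟩ := exists_stalk_dim_le pX f s
  have h1 := le_trans (h η (hη.symm ▸ hs)) hle
  haveI : Nonempty (Set.range f.base) := ⟨⟨_, s, rfl⟩⟩
  have h0 : (0 : WithBot ℕ∞) ≤ topologicalKrullDim (Set.range f.base) :=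
    Groth.SpectralTopology.topologicalKrullDim_nonneg
  haveI : IsLocallyNoetherian X := LocallyOfFiniteType.isLocallyNoetherian pX
  haveI : IsLocallyNoetherian S := LocallyOfFiniteType.isLocallyNoetherian f
  have hfin : ringKrullDim (S.presheaf.stalk η) < ⊤ := ringKrullDim_lt_top
  generalize topologicalKrullDim (Set.range f.base) = d at h1 h0 hle h
  generalize ringKrullDim (S.presheaf.stalk η) = e at hle hfin
  have hd : d + 1 ≤ ringKrullDim (S.presheaf.stalk η) := h η (hη.symm ▸ hs)
  obtain rfl | ⟨m, rfl⟩ : d = ⊤ ∨ ∃ m : ℕ, d = (m : WithBot ℕ∞) := by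
    cases d with
    | bot => simp at h0
    | coe a => cases a with
      | top => exact Or.inl rfl
      | coe m => exact Or.inr ⟨m, rfl⟩
  · exact absurd (lt_of_le_of_lt (le_trans (le_add_of_nonneg_right zero_le_one) hd) ringKrullDim_lt_top) (lt_irrefl _)
  · norm_cast at h1
    omega

end Groth.Agent.S14901
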