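import Groth.Statements.S14903
-- import your own Groth.Agent.* helpers here

set_option autoImplicit false
universe u v
open Neron

namespace Groth.Agent.S14903

/-- Let c : H → Ψ be a surjective homomorphism of abelian groups with kernel H₀, n ≥ 1 an integer and J
⊆ H₀ a subgroup with H₀ = J + nH₀ (every element of H₀ is j + n·y with j ∈ J, y ∈ H₀). Then c maps
the set of x ∈ H with n·x ∈ J onto the n-torsion of Ψ: the image of that set under c is exactly the
set of φ ∈ Ψ with n·φ = 0. -/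
theorem result (H : Type u) (Ψ : Type v) [AddCommGroup H] [AddCommGroup Ψ]
    (c : H →+ Ψ) (hc : Function.Surjective c) (n : ℕ) (hn : 1 ≤ n) (J : AddSubgroup H) (hJ : J ≤ c.ker)
    (hJn : ∀ h ∈ c.ker, ∃ j ∈ J, ∃ y ∈ c.ker, h = j + n • y) :
    c '' {x : H | n • x ∈ J} = {φ : Ψ | n • φ = 0} := by
  ext φ
  constructor
  · rintro ⟨x, hx, rfl⟩
    have := hJ hx
    simpa [AddMonoidHom.mem_ker, map_nsmul] using this
  · intro hφ
    obtain ⟨x, rfl⟩ := hc φ
    obtain ⟨j, hj, y, hy, hxy⟩ := hJn (n • x) (by simpa [AddMonoidHom.mem_ker, map_nsmul] using hφ)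
    refine ⟨x - y, ?_, by simpa [AddMonoidHom.mem_ker.1 hy] using AddMonoidHom.mem_ker.1 hy⟩
    show n • (x - y) ∈ J
    rw [nsmul_sub, hxy, add_sub_cancel_right]; exact hj

end Groth.Agent.S14903
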