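import Groth.Statements.S14904
import Groth.Agent.NeronArea.GaModel

open scoped CategoryTheory.Obj

set_option autoImplicit false
universe u
open CategoryTheory MonoidalCategory CartesianMonoidalCategory MonObj GrpObj AlgebraicGeometry
open Neron

namespace Groth.Agent.S14904

open Groth.NeronArea.GaCoord Groth.NeronArea.GaModel Groth.NeronArea.ModelTorsion Groth.NeronArea.FieldComponents Groth.Reductive in
/-- Let R be a complete discrete valuation ring with fraction field K of characteristic 0 and
algebraically closed residue field k of characteristic 0, and let G be an affine smooth R-group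
scheme of finite type together with an isomorphism of K-group schemes between its generic fibre and
the additive group over K (an affine smooth R-model of the additive group). Then the special fibre
G_k is connected and G is isomorphic to the additive group over R as an R-group scheme (existence of
an isomorphism of group schemes). -/
theorem result (R : Type u) [CommRing R] [IsDomain R] [IsDiscreteValuationRing R]
    [IsAdicComplete (IsLocalRing.maximalIdeal R) R] (K : Type u) [Field K] [Algebra R K] [IsFractionRing R K] [CharZero K]
    [IsAlgClosed (IsLocalRing.ResidueField R)] [CharZero (IsLocalRing.ResidueField R)]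
    (G : Over (Spec (CommRingCat.of R))) [GrpObj G] [Smooth G.hom] [IsAffineHom G.hom] [LocallyOfFiniteType G.hom]
    (e : Red.bc (Spec.map (CommRingCat.ofHom (algebraMap R K))) G ≅ Red.Ga (Spec (CommRingCat.of K))) [IsMonHom e.hom] :
    ConnectedSpace ↥(Red.bc (Spec.map (CommRingCat.ofHom (IsLocalRing.residue R))) G).left ∧
      ∃ e' : G ≅ Red.Ga (Spec (CommRingCat.of R)), IsMonHom e'.hom := by
  haveI := henselian_of_complete R
  haveI : IsAffine G.left := isAffine_of_isAffineHom G.hom
  let k := IsLocalRing.ResidueField R
  let GK := Red.bc (Spec.map (CommRingCat.ofHom (algebraMap R K))) G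
  let Gk := Red.bc (Spec.map (CommRingCat.ofHom (IsLocalRing.residue R))) G
  haveI : Smooth Gk.hom := inferInstanceAs (Smooth (Limits.pullback.snd G.hom _))
  haveI : LocallyOfFiniteType Gk.hom := inferInstanceAs (LocallyOfFiniteType (Limits.pullback.snd G.hom _))
  haveI : IsReduced Gk.left := Groth.Agf.isReduced_of_smooth Gk.hom
  haveI : IsCommMonObj (Red.Ga (Spec (CommRingCat.of K))) := by
    constructor
    rw [MonObj.mul_eq_mul, MonObj.comp_mul, braiding_hom_fst, braiding_hom_snd]
    apply gaFn_injective
    rw [gaFn_mul, gaFn_mul, add_comm]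
  haveI : IsCommMonObj GK := Groth.NeronArea.ModelTorsion.isCommMonObj_of_mono e.hom
  haveI : IsCommMonObj G := isCommMonObj_of_fibre (IsFractionRing.injective R K) G
  haveI : QuasiCompact G.hom := inferInstance
  haveI : QuasiCompact Gk.hom := inferInstanceAs (QuasiCompact (Limits.pullback.snd G.hom _))
  refine ⟨connectedSpace_of_neutral fun x => ?_, ?_⟩
  · obtain ⟨n, hn, hxn⟩ := exists_pow_mem x
    obtain ⟨σ, hσ, hrel⟩ := exists_torsion_section G n (Nat.cast_ne_zero.2 hn.ne') x hxn
    obtain ⟨Φ, hΦ⟩ := exists_embedding_ga G e
    have h1 : σ = 1 := by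
      refine hΦ ?_
      rw [map_one]
      have h2 := congrArg (fun y => Multiplicative.toAdd (Φ y)) hσ
      simp only [map_pow, map_one, toAdd_pow, toAdd_one] at h2
      exact toAdd_eq_zero.1 ((smul_eq_zero.1 h2).resolve_left hn.ne')
    rw [h1, map_one] at hrel
    exact hrel
  · let t := Red.gaFn e.hom
    have ht : Function.Bijective (ev GK t) := bijective_ev_of_iso e
    haveI : IsDomain Γ(GK.left, ⊤) :=
      (RingEquiv.ofBijective _ ht).toMulEquiv.isDomain_iff.1 inferInstance
    have ht0 : t ≠ 0 := fun h => Polynomial.X_ne_zero (ht.1 (a₂ := (0 : Polynomial K))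
      (by rw [ev_X, map_zero]; exact h))
    obtain ⟨c, T, hc, hT, hTbar⟩ := exists_normalised G t ht0
    haveI := Groth.NeronArea.isSchemeTheoreticallyDominant_specMap (algebraMap R K)
      (IsFractionRing.injective R K)
    haveI : IsMonHom (gaMk G T) := by
      refine isMonHom_gaMk G T (add_of_generic (algebraMap R K) G T fun {Z} a b => ?_)
      rw [hT, map_mul, map_mul, map_mul, cst_comp, cst_comp, cst_comp, add_of_isMonHom GK e.hom a b,
        mul_add]
    have hadd : ∀ {Y : Over (Spec (CommRingCat.of R))} (a b : Y ⟶ G),
        (a * b).left.appTop T = a.left.appTop T + b.left.appTop T := fun {Y} a b => by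
      simpa only [gaFn_gaMk] using add_of_isMonHom G (gaMk G T) a b
    obtain ⟨x, hx⟩ := exists_val_ne_zero (X := Gk) _ hTbar
    have hbar := injective_ev (X := Gk) _ (add_pullback (IsLocalRing.residue R) G T hadd) x hx
    haveI := isIso_gaMk G T (bijective_ev G t ht c hc T hT hbar)
    exact ⟨asIso (gaMk G T), ‹IsMonHom (gaMk G T)›⟩

end Groth.Agent.S14904
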