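import Groth.Statements.S14905
import Groth.Agent.NeronArea.GaOpen

open scoped CategoryTheory.Obj

set_option autoImplicit false
universe u
open CategoryTheory MonoidalCategory CartesianMonoidalCategory MonObj GrpObj AlgebraicGeometry
open Neron

namespace Groth.Agent.S14905

open Groth.NeronArea.GaModel Groth.NeronArea.GaOpen Groth.NeronArea.ModelTorsion Groth.NeronArea.FieldComponents Groth.Reductive in
/-- Let R be a complete discrete valuation ring with fraction field K of characteristic 0 and
algebraically closed residue field k of characteristic p > 0, and let G be an affine smooth R-group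
scheme of finite type together with an isomorphism of K-group schemes between its generic fibre and
the additive group over K. Then the group of connected components of the special fibre G_k is a
p-group: for every k-point x of G_k some power x^(p^m) lies in the connected component of the
identity; and the identity component of G is the additive group over R: there is a homomorphism of
R-group schemes from the additive group over R to G which is an open immersion. (The published
statement also asserts that every finite abelian p-group occurs as such a component group; this row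
does not state that.) -/
theorem result (R : Type u) [CommRing R] [IsDomain R] [IsDiscreteValuationRing R]
    [IsAdicComplete (IsLocalRing.maximalIdeal R) R] (K : Type u) [Field K] [Algebra R K] [IsFractionRing R K] [CharZero K]
    [IsAlgClosed (IsLocalRing.ResidueField R)]
    (p : ℕ) [Fact p.Prime] [CharP (IsLocalRing.ResidueField R) p]
    (G : Over (Spec (CommRingCat.of R))) [GrpObj G] [Smooth G.hom] [IsAffineHom G.hom] [LocallyOfFiniteType G.hom]
    (e : Red.bc (Spec.map (CommRingCat.ofHom (algebraMap R K))) G ≅ Red.Ga (Spec (CommRingCat.of K))) [IsMonHom e.hom] :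
    (∀ x : 𝟙_ (Over (Spec (CommRingCat.of (IsLocalRing.ResidueField R)))) ⟶ Red.bc (Spec.map (CommRingCat.ofHom (IsLocalRing.residue R))) G,
        ∃ m : ℕ, (x ^ (p ^ m)).left.base (IsLocalRing.closedPoint (IsLocalRing.ResidueField R)) ∈
          connectedComponent ((η[Red.bc (Spec.map (CommRingCat.ofHom (IsLocalRing.residue R))) G]).left.base (IsLocalRing.closedPoint (IsLocalRing.ResidueField R)))) ∧
      ∃ j : Red.Ga (Spec (CommRingCat.of R)) ⟶ G, IsMonHom j ∧ IsOpenImmersion j.left := by
  haveI := henselian_of_complete R
  haveI : IsAffine G.left := isAffine_of_isAffineHom G.hom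
  let GK := Red.bc (Spec.map (CommRingCat.ofHom (algebraMap R K))) G
  let Gk := Red.bc (Spec.map (CommRingCat.ofHom (IsLocalRing.residue R))) G
  haveI : Smooth Gk.hom := inferInstanceAs (Smooth (Limits.pullback.snd G.hom _))
  haveI : LocallyOfFiniteType Gk.hom := inferInstanceAs (LocallyOfFiniteType (Limits.pullback.snd G.hom _))
  haveI : IsCommMonObj (Red.Ga (Spec (CommRingCat.of K))) := by
    constructor
    rw [MonObj.mul_eq_mul, MonObj.comp_mul, braiding_hom_fst, braiding_hom_snd]
    apply gaFn_injective
    rw [gaFn_mul, gaFn_mul, add_comm]
  haveI : IsCommMonObj GK := Groth.NeronArea.ModelTorsion.isCommMonObj_of_mono e.hom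
  haveI : IsCommMonObj G := isCommMonObj_of_fibre (IsFractionRing.injective R K) G
  haveI : QuasiCompact G.hom := inferInstance
  haveI : QuasiCompact Gk.hom := inferInstanceAs (QuasiCompact (Limits.pullback.snd G.hom _))
  refine ⟨fun x => ?_, exists_openImmersion G e⟩
  have hp : p.Prime := Fact.out
  obtain ⟨n, hn, hxn⟩ := exists_pow_mem x
  obtain ⟨m, b, hb, rfl⟩ := Nat.exists_eq_pow_mul_and_not_dvd hn.ne' p hp.ne_one
  have hbk : (b : IsLocalRing.ResidueField R) ≠ 0 := fun h =>
    hb ((CharP.cast_eq_zero_iff (IsLocalRing.ResidueField R) p b).1 h)
  obtain ⟨σ, hσ, hrel⟩ := exists_torsion_section G b hbk (x ^ p ^ m) (by rw [← pow_mul]; exact hxn)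
  obtain ⟨Φ, hΦ⟩ := exists_embedding_ga G e
  have h1 : σ = 1 := by
    refine hΦ ?_
    rw [map_one]
    have h2 := congrArg (fun y => Multiplicative.toAdd (Φ y)) hσ
    simp only [map_pow, map_one, toAdd_pow, toAdd_one] at h2
    exact toAdd_eq_zero.1 ((smul_eq_zero.1 h2).resolve_left fun h => hbk (by rw [h, Nat.cast_zero]))
  rw [h1, map_one] at hrel
  exact ⟨m, (mem_neutral_iff _).1 hrel⟩

end Groth.Agent.S14905
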