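import Groth.Statements.S14906
import Groth.Agent.NeronArea.GmOpen

open scoped CategoryTheory.Obj

set_option autoImplicit false
set_option linter.style.haveILetI false
universe u
open CategoryTheory MonoidalCategory CartesianMonoidalCategory MonObj GrpObj AlgebraicGeometry
open Neron

namespace Groth.Agent.S14906

open Groth.NeronArea.GaModel Groth.NeronArea.GmCoord Groth.NeronArea.GmModel Groth.NeronArea.GmOpen Groth.NeronArea.ModelTorsion Groth.NeronArea.FieldComponents Groth.Reductive in
/-- Let R be a complete discrete valuation ring with fraction field K of characteristic 0 and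
algebraically closed residue field k, and let G be an affine smooth R-group scheme of finite type
together with an isomorphism of K-group schemes between its generic fibre and the multiplicative
group over K (an affine smooth R-model of the multiplicative group). Suppose the identity component
of the special fibre G_k is the multiplicative group: there is a homomorphism of k-group schemes
from the multiplicative group over k to G_k which is an open immersion. Then G_k is connected and G
is isomorphic to the multiplicative group over R as an R-group scheme (existence of an isomorphism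
of group schemes). -/
theorem result (R : Type u) [CommRing R] [IsDomain R] [IsDiscreteValuationRing R]
    [IsAdicComplete (IsLocalRing.maximalIdeal R) R] (K : Type u) [Field K] [Algebra R K] [IsFractionRing R K] [CharZero K]
    [IsAlgClosed (IsLocalRing.ResidueField R)]
    (G : Over (Spec (CommRingCat.of R))) [GrpObj G] [Smooth G.hom] [IsAffineHom G.hom] [LocallyOfFiniteType G.hom]
    (e : Red.bc (Spec.map (CommRingCat.ofHom (algebraMap R K))) G ≅ Red.Gm (Spec (CommRingCat.of K))) [IsMonHom e.hom]
    (j₀ : Red.Gm (Spec (CommRingCat.of (IsLocalRing.ResidueField R))) ⟶ Red.bc (Spec.map (CommRingCat.ofHom (IsLocalRing.residue R))) G) [IsMonHom j₀]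
    [IsOpenImmersion j₀.left] :
    ConnectedSpace ↥(Red.bc (Spec.map (CommRingCat.ofHom (IsLocalRing.residue R))) G).left ∧
      ∃ e' : G ≅ Red.Gm (Spec (CommRingCat.of R)), IsMonHom e'.hom := by
  haveI := henselian_of_complete R
  haveI : IsAffine G.left := isAffine_of_isAffineHom G.hom
  let k := IsLocalRing.ResidueField R
  let fK := Spec.map (CommRingCat.ofHom (algebraMap R K))
  let fk := Spec.map (CommRingCat.ofHom (IsLocalRing.residue R))
  let GK := Red.bc fK G
  let Gk := Red.bc fk G
  let Gm := Red.Gm (Spec (CommRingCat.of R))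
  haveI : Smooth Gk.hom := inferInstanceAs (Smooth (Limits.pullback.snd G.hom _))
  haveI : LocallyOfFiniteType Gk.hom := inferInstanceAs (LocallyOfFiniteType (Limits.pullback.snd G.hom _))
  haveI : IsCommMonObj (Red.Gm (Spec (CommRingCat.of K))) := by
    constructor
    rw [MonObj.mul_eq_mul, MonObj.comp_mul, braiding_hom_fst, braiding_hom_snd]
    apply gmFn_injective
    rw [gmFn_mul, gmFn_mul, mul_comm]
  haveI : IsCommMonObj GK := Groth.NeronArea.ModelTorsion.isCommMonObj_of_mono e.hom
  haveI : IsCommMonObj G := isCommMonObj_of_fibre (IsFractionRing.injective R K) G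
  haveI : QuasiCompact G.hom := inferInstance
  haveI : QuasiCompact Gk.hom := inferInstanceAs (QuasiCompact (Limits.pullback.snd G.hom _))
  haveI : Mono j₀.left := inferInstance
  haveI : Mono j₀ := (Over.forget _).mono_of_mono_map (inferInstanceAs (Mono j₀.left))
  obtain ⟨j, hjhom, hjopen, hcomp⟩ := exists_openImmersion G e j₀
  let Jk : Red.bc fk Gm ⟶ Gk := (Over.pullback fk).map j
  haveI : IsMonHom Jk := inferInstanceAs (IsMonHom ((Over.pullback fk).map j))
  haveI : JacobsonSpace Gk.left := LocallyOfFiniteType.jacobsonSpace Gk.hom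
  have hkap : ∀ x : 𝟙_ (Over (Spec (CommRingCat.of R))) ⟶ Gm,
      kap G e (x ≫ j) = algebraMap R K (secAt x (gmT R : Γ(Gm.left, ⊤))) := fun x => by
    show (Scheme.ΓSpecIso (CommRingCat.of K)).hom ((ptK (algebraMap R K) G (x ≫ j)).left.appTop _) = _
    rw [← gmFn_comp, ptK_comp, Category.assoc, hcomp, gmFn_bcGm]
    exact appTop_ptK (algebraMap R K) Gm x _
  have hunit : ∀ x : 𝟙_ (Over (Spec (CommRingCat.of R))) ⟶ Gm,
      IsUnit (secAt x (gmT R : Γ(Gm.left, ⊤))) := fun x => (gmT R).isUnit.map (secAt x)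
  have hmk : ∀ u : Rˣ, ∃ x : 𝟙_ (Over (Spec (CommRingCat.of R))) ⟶ Gm,
      secAt x (gmT R : Γ(Gm.left, ⊤)) = u := fun u => by
    let uu : Γ((𝟙_ (Over (Spec (CommRingCat.of R)))).left, ⊤)ˣ :=
      Units.map (Scheme.ΓSpecIso (CommRingCat.of R)).inv.hom.toMonoidHom u
    refine ⟨gmMk _ uu, ?_⟩
    show (Scheme.ΓSpecIso (CommRingCat.of R)).hom
      ((gmMk (𝟙_ (Over (Spec (CommRingCat.of R)))) uu).left.appTop (Red.gmFn (𝟙 Gm))) = _
    rw [← gmFn_comp, Category.comp_id, gmFn_gmMk]
    show (Scheme.ΓSpecIso (CommRingCat.of R)).hom ((Scheme.ΓSpecIso (CommRingCat.of R)).inv (u : R)) = _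
    rw [← CommRingCat.comp_apply, Iso.inv_hom_id]
    rfl
  have hfac : ∀ σ : 𝟙_ (Over (Spec (CommRingCat.of R))) ⟶ G,
      σ.left.base (IsLocalRing.closedPoint R) ∈ Set.range j.left.base → ∃ x, x ≫ j = σ := fun σ hσ => by
    have hrange : Set.range σ.left.base ⊆ Set.range j.left.base := by
      rintro _ ⟨z, rfl⟩
      exact ((IsLocalRing.specializes_closedPoint z).map σ.left.continuous).mem_open
        j.left.isOpenEmbedding.isOpen_range hσ
    refine ⟨Over.homMk (IsOpenImmersion.lift j.left σ.left hrange) ?_, ?_⟩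
    · rw [← Over.w j, ← Category.assoc, IsOpenImmersion.lift_fac, Over.w σ]
    · exact Over.OverMorphism.ext (IsOpenImmersion.lift_fac _ _ _)
  have hrangek : ∀ σ : 𝟙_ (Over (Spec (CommRingCat.of R))) ⟶ G,
      pp (ptK (IsLocalRing.residue R) G σ) ∈ Set.range Jk.left →
        σ.left.base (IsLocalRing.closedPoint R) ∈ Set.range j.left.base := fun σ ⟨w, hw⟩ => by
    refine ⟨(Limits.pullback.fst Gm.hom fk).base w, ?_⟩
    have h1 : Jk.left ≫ Limits.pullback.fst G.hom fk = Limits.pullback.fst Gm.hom fk ≫ j.left :=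
      Limits.pullback.lift_fst _ _ _
    rw [← Scheme.Hom.comp_apply, ← h1, Scheme.Hom.comp_apply, hw]
    show ((ptK (IsLocalRing.residue R) G σ).left ≫ Limits.pullback.fst G.hom fk).base _ = _
    rw [ptK_fst, Scheme.Hom.comp_apply]
    congr 1
    exact IsLocalRing.comap_closedPoint (IsLocalRing.residue R)
  haveI : IsOpenImmersion Jk.left :=
    MorphismProperty.of_isPullback (P := @IsOpenImmersion)
      (IsPullback.of_right (h₁₂ := Limits.pullback.snd G.hom fk) (v₁₃ := fk) (h₂₂ := G.hom)
        (h₁₁ := Jk.left) (v₁₁ := Limits.pullback.fst Gm.hom fk) (v₁₂ := Limits.pullback.fst G.hom fk)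
        (h₂₁ := j.left)
        (by rw [show Jk.left ≫ Limits.pullback.snd G.hom fk = Limits.pullback.snd Gm.hom fk from
              Limits.pullback.lift_snd _ _ _, Over.w j]
            exact (IsPullback.of_hasPullback Gm.hom fk).flip)
        (Limits.pullback.lift_fst _ _ _) (IsPullback.of_hasPullback G.hom fk).flip).flip hjopen
  have hlift : ∀ y : 𝟙_ (Over (Spec (CommRingCat.of k))) ⟶ Gk, pp y ∈ Set.range Jk.left →
      ∃ x : 𝟙_ (Over (Spec (CommRingCat.of R))) ⟶ Gm, ptK (IsLocalRing.residue R) G (x ≫ j) = y := fun y hy => by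
    have hrange : Set.range y.left.base ⊆ Set.range Jk.left.base := by
      rintro _ ⟨z, rfl⟩
      rwa [Subsingleton.elim (α := PrimeSpectrum k) z (IsLocalRing.closedPoint k)]
    let y' : 𝟙_ (Over (Spec (CommRingCat.of k))) ⟶ Red.bc fk Gm :=
      Over.homMk (IsOpenImmersion.lift Jk.left y.left hrange)
        (by rw [← Over.w Jk, ← Category.assoc, IsOpenImmersion.lift_fac, Over.w y])
    have hy' : y' ≫ Jk = y := Over.OverMorphism.ext (IsOpenImmersion.lift_fac _ _ _)
    let z := Red.gmFn (y' ≫ (bcGm (IsLocalRing.residue R)).hom)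
    obtain ⟨r, hr⟩ := IsLocalRing.residue_surjective ((Scheme.ΓSpecIso (CommRingCat.of k)).hom z)
    have hru : IsUnit r := by
      rw [← IsLocalRing.notMem_maximalIdeal, ← IsLocalRing.residue_eq_zero_iff, hr]
      exact ((isUnit_gmFn (y' ≫ (bcGm (IsLocalRing.residue R)).hom)).map (Scheme.ΓSpecIso (CommRingCat.of k)).hom.hom).ne_zero
    obtain ⟨x, hx⟩ := hmk hru.unit
    refine ⟨x, ?_⟩
    rw [ptK_comp, ← hy']
    congr 1
    rw [← cancel_mono (bcGm (IsLocalRing.residue R)).hom]
    apply gmFn_injective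
    apply (ConcreteCategory.bijective_of_isIso (Scheme.ΓSpecIso (CommRingCat.of k)).hom).1
    rw [gmFn_bcGm]
    refine (appTop_ptK (IsLocalRing.residue R) Gm x _).trans ?_
    rw [hx, IsUnit.unit_spec, hr]
  have hone : pp (1 : 𝟙_ (Over (Spec (CommRingCat.of k))) ⟶ Gk) ∈ Set.range Jk.left := by
    rw [← one_comp Jk]
    exact ⟨_, rfl⟩
  have hpts : ∀ y : 𝟙_ (Over (Spec (CommRingCat.of k))) ⟶ Gk, pp y ∈ Set.range Jk.left := by
    intro w
    have hz : Limits.pullback.fst G.hom fk (pp w) ∈ SGA7.specialFibreSet R G := by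
      show (Limits.pullback.fst G.hom fk ≫ G.hom).base (pp w) = IsLocalRing.closedPoint R
      rw [Limits.pullback.condition, Scheme.Hom.comp_apply,
        Subsingleton.elim (α := PrimeSpectrum k) ((Limits.pullback.snd G.hom fk).base (pp w)) (IsLocalRing.closedPoint k)]
      exact IsLocalRing.comap_closedPoint (IsLocalRing.residue R)
    obtain ⟨v, hv, hv₀⟩ := Groth.Agent.S5038.result R G.hom (w.left ≫ Limits.pullback.fst G.hom fk)
      (by rw [Category.assoc, Limits.pullback.condition, ← Category.assoc]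
          exact (congrArg (· ≫ fk) (Over.w w)).trans (Category.id_comp _))
    let σ : 𝟙_ (Over (Spec (CommRingCat.of R))) ⟶ G := Over.homMk v hv
    have hσ : ptK (IsLocalRing.residue R) G σ = w := by
      apply Over.OverMorphism.ext
      apply Limits.pullback.hom_ext
      · rw [ptK_fst]
        exact hv₀
      · exact (Over.w (ptK (IsLocalRing.residue R) G σ)).trans (Over.w w).symm
    obtain ⟨n, hn, hwn⟩ := exists_pow_mem w
    let U : Set Gk.left := Set.range Jk.left
    let sh := shift (w ^ n)
    have hU : IsOpen U := Jk.left.isOpenEmbedding.isOpen_range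
    let C := connectedComponent (η[Gk].left (IsLocalRing.closedPoint k))
    obtain ⟨z₀, -, hz1, hz2⟩ := (isIrreducible_connectedComponent (G := Gk)
        (η[Gk].left (IsLocalRing.closedPoint k))).isPreirreducible U (sh.left ⁻¹' U) hU
      (hU.preimage sh.left.continuous)
      ⟨_, (mem_neutral_iff 1).1 (one_mem _), hone⟩
      ⟨_, (mem_neutral_iff _).1 (inv_mem hwn), by
        show sh.left (pp (w ^ n)⁻¹) ∈ U
        rw [← pp_comp, comp_shift, inv_mul_cancel]
        exact hone⟩
    obtain ⟨z, hzU, hzc⟩ := nonempty_inter_closedPoints (Z := U ∩ sh.left ⁻¹' U) ⟨z₀, hz1, hz2⟩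
      (hU.inter (hU.preimage sh.left.continuous)).isLocallyClosed
    obtain ⟨y₁, rfl⟩ := exists_point z hzc
    have hy2 : pp (y₁ * w ^ n) ∈ U := by
      rw [← comp_shift, pp_comp]
      exact hzU.2
    obtain ⟨x₁, hx₁⟩ := hlift y₁ hzU.1
    obtain ⟨x₂, hx₂⟩ := hlift _ hy2
    let ρ := σ ^ n * (x₁ ≫ j) * (x₂ ≫ j)⁻¹
    have hρ : ptK (IsLocalRing.residue R) G ρ = 1 := by
      rw [map_mul, map_mul, map_inv, map_pow, hσ, hx₁, hx₂, mul_comm y₁, mul_inv_cancel]
    obtain ⟨x₃, hx₃⟩ := hfac ρ (hrangek ρ (by rw [hρ]; exact hone))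
    have hu : ∃ u : Rˣ, kap G e σ ^ n = algebraMap R K u := by
      refine ⟨(hunit x₃).unit * (hunit x₂).unit * (hunit x₁).unit⁻¹, ?_⟩
      have h1 : σ ^ n = (x₃ ≫ j) * (x₂ ≫ j) * (x₁ ≫ j)⁻¹ := by
        rw [hx₃, inv_mul_cancel_right, mul_inv_cancel_right]
      rw [← map_pow, h1, map_mul, map_mul, map_inv, hkap, hkap, hkap, Units.val_mul, Units.val_mul,
        map_mul, map_mul, map_units_inv]
      rfl
    obtain ⟨u, hu⟩ := hu
    obtain ⟨r, hr⟩ := IsIntegrallyClosed.exists_algebraMap_eq_of_isIntegral_pow (R := R) (K := K)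
      hn (hu ▸ isIntegral_algebraMap)
    have hru : IsUnit r := (isUnit_pow_iff hn.ne').1 (by
      rw [IsFractionRing.injective R K ((map_pow _ r n).trans ((congrArg (· ^ n) hr).trans hu))]
      exact u.isUnit)
    obtain ⟨x, hx⟩ := hmk hru.unit
    have hσx : x ≫ j = σ := kap_injective G e (by rw [hkap, hx, IsUnit.unit_spec, hr])
    rw [← hσ, ← hσx, ptK_comp, pp_comp]
    exact ⟨_, rfl⟩
  haveI hJsurj : Surjective Jk.left := by
    refine ⟨fun z => ?_⟩
    by_contra hz
    have hcl : IsClosed (Set.range Jk.left)ᶜ := Jk.left.isOpenEmbedding.isOpen_range.isClosed_compl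
    obtain ⟨z', hz', hzc⟩ := nonempty_inter_closedPoints ⟨z, hz⟩ hcl.isLocallyClosed
    obtain ⟨y, rfl⟩ := exists_point z' hzc
    exact hz' (hpts y)
  haveI : Surjective j.left := by
    refine ⟨fun p => ?_⟩
    by_cases hp : G.hom p = IsLocalRing.closedPoint R
    · obtain ⟨q, rfl⟩ : p ∈ Set.range (Limits.pullback.fst G.hom fk) := by
        rw [Scheme.Pullback.range_fst]
        exact ⟨IsLocalRing.closedPoint k, (IsLocalRing.comap_closedPoint (IsLocalRing.residue R)).trans hp.symm⟩
      obtain ⟨q', rfl⟩ := hJsurj.surj q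
      refine ⟨Limits.pullback.fst Gm.hom fk q', ?_⟩
      rw [← Scheme.Hom.comp_apply, ← Scheme.Hom.comp_apply]
      rw [show Jk.left ≫ Limits.pullback.fst G.hom fk = Limits.pullback.fst Gm.hom fk ≫ j.left from
        Limits.pullback.lift_fst _ _ _]
    · have hgen : (G.hom p).asIdeal = ⊥ := by
        by_contra h0
        exact hp (PrimeSpectrum.ext (IsLocalRing.eq_maximalIdeal ((G.hom p).isPrime.isMaximal h0)))
      obtain ⟨q, rfl⟩ : p ∈ Set.range (Limits.pullback.fst G.hom fK) := by
        rw [Scheme.Pullback.range_fst]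
        refine ⟨IsLocalRing.closedPoint K, PrimeSpectrum.ext ?_⟩
        rw [hgen]
        show Ideal.comap (algebraMap R K) (IsLocalRing.maximalIdeal K) = ⊥
        rw [IsLocalRing.maximalIdeal_eq_bot, ← RingHom.ker_eq_comap_bot]
        exact (RingHom.injective_iff_ker_eq_bot _).1 (IsFractionRing.injective R K)
      let JK := (Over.pullback fK).map j
      haveI : IsIso JK := by
        have h : JK = (bcGm (algebraMap R K)).hom ≫ e.inv := by
          rw [← hcomp, Category.assoc, e.hom_inv_id, Category.comp_id]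
        rw [h]
        infer_instance
      haveI : IsIso JK.left := inferInstanceAs (IsIso ((Over.forget _).map JK))
      obtain ⟨q', rfl⟩ := JK.left.surjective q
      refine ⟨Limits.pullback.fst Gm.hom fK q', ?_⟩
      rw [← Scheme.Hom.comp_apply, ← Scheme.Hom.comp_apply]
      rw [show JK.left ≫ Limits.pullback.fst G.hom fK = Limits.pullback.fst Gm.hom fK ≫ j.left from
        Limits.pullback.lift_fst _ _ _]
  haveI : IsIso j.left := (isIso_iff_isOpenImmersion_and_surjective j.left).2 ⟨hjopen, inferInstance⟩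
  haveI : IsIso ((Over.forget (Spec (CommRingCat.of R))).map j) := inferInstanceAs (IsIso j.left)
  haveI : IsIso j := isIso_of_reflects_iso j (Over.forget _)
  refine ⟨?_, (asIso j).symm, inferInstanceAs (IsMonHom (asIso j).inv)⟩
  let E := (bcGm (IsLocalRing.residue R)).symm ≪≫ (Over.pullback fk).mapIso (asIso j)
  haveI : IsIso (gmLine k).hom.left := inferInstanceAs (IsIso ((Over.forget _).map (gmLine k).hom))
  haveI : IrreducibleSpace (lineM k).left :=
    inferInstanceAs (IrreducibleSpace (PrimeSpectrum (LaurentPolynomial k)))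
  let h := (gmLine k).symm ≪≫ E
  haveI : IsIso h.hom.left := inferInstanceAs (IsIso ((Over.forget _).map h.hom))
  exact (h.hom.left.surjective).connectedSpace h.hom.left.continuous

end Groth.Agent.S14906
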