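import Groth.Statements.S14907
import Groth.Agent.NeronArea.ModelTorsion

open scoped CategoryTheory.Obj

set_option autoImplicit false
universe u
open CategoryTheory MonoidalCategory CartesianMonoidalCategory MonObj GrpObj AlgebraicGeometry
open Neron

namespace Groth.Agent.S14907

open Groth.NeronArea.ModelTorsion Groth.NeronArea.FieldComponents in
/-- Let R be a complete discrete valuation ring with fraction field K of characteristic 0 and
algebraically closed residue field k of characteristic 0, and let G be an affine smooth R-group
scheme of finite type together with an isomorphism of K-group schemes between its generic fibre and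
the multiplicative group over K. Suppose the identity component of the special fibre G_k is the
additive group: there is a homomorphism of k-group schemes from the additive group over k to G_k
which is an open immersion. Then the group of connected components of G_k is cyclic: there is a
k-point x₀ of G_k such that every connected component of G_k contains (the point underlying) some
power x₀^m. (The further assertion that every cyclic group occurs is not stated.) -/
theorem result (R : Type u) [CommRing R] [IsDomain R] [IsDiscreteValuationRing R]
    [IsAdicComplete (IsLocalRing.maximalIdeal R) R] (K : Type u) [Field K] [Algebra R K] [IsFractionRing R K] [CharZero K]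
    [IsAlgClosed (IsLocalRing.ResidueField R)] [CharZero (IsLocalRing.ResidueField R)]
    (G : Over (Spec (CommRingCat.of R))) [GrpObj G] [Smooth G.hom] [IsAffineHom G.hom] [LocallyOfFiniteType G.hom]
    (e : Red.bc (Spec.map (CommRingCat.ofHom (algebraMap R K))) G ≅ Red.Gm (Spec (CommRingCat.of K))) [IsMonHom e.hom]
    (j₀ : Red.Ga (Spec (CommRingCat.of (IsLocalRing.ResidueField R))) ⟶ Red.bc (Spec.map (CommRingCat.ofHom (IsLocalRing.residue R))) G) [IsMonHom j₀]
    [IsOpenImmersion j₀.left] :
    ∃ x₀ : 𝟙_ (Over (Spec (CommRingCat.of (IsLocalRing.ResidueField R)))) ⟶ Red.bc (Spec.map (CommRingCat.ofHom (IsLocalRing.residue R))) G,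
      ∀ x : 𝟙_ (Over (Spec (CommRingCat.of (IsLocalRing.ResidueField R)))) ⟶ Red.bc (Spec.map (CommRingCat.ofHom (IsLocalRing.residue R))) G,
        ∃ m : ℕ, (x₀ ^ m).left.base (IsLocalRing.closedPoint (IsLocalRing.ResidueField R)) ∈ connectedComponent (x.left.base (IsLocalRing.closedPoint (IsLocalRing.ResidueField R))) := by
  haveI := henselian_of_complete R
  haveI : IsCommMonObj (Red.Gm (Spec (CommRingCat.of K))) := by
    constructor
    rw [MonObj.mul_eq_mul, MonObj.comp_mul, braiding_hom_fst, braiding_hom_snd]
    apply Groth.Reductive.gmFn_injective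
    rw [Groth.Reductive.gmFn_mul, Groth.Reductive.gmFn_mul, mul_comm]
  haveI : IsCommMonObj (Red.bc (Spec.map (CommRingCat.ofHom (algebraMap R K))) G) :=
    Groth.NeronArea.ModelTorsion.isCommMonObj_of_mono e.hom
  haveI : IsCommMonObj G := isCommMonObj_of_fibre (IsFractionRing.injective R K) G
  haveI : QuasiCompact G.hom := inferInstance
  obtain ⟨Φ, hΦ⟩ := exists_embedding G e
  obtain ⟨N, hN, hexp⟩ := exists_exponent G
  obtain ⟨x₀, hx₀⟩ := exists_cyclic_generator G Φ hΦ N (Nat.cast_ne_zero.2 hN.ne')
  refine ⟨x₀, fun x => ?_⟩
  obtain ⟨m, hm⟩ := hx₀ x (hexp x)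
  exact ⟨m, hm.symm⟩

end Groth.Agent.S14907
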