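import Groth.Statements.S14908
import Groth.Agent.NeronArea.ModelTorsion

open scoped CategoryTheory.Obj

set_option autoImplicit false
universe u
open CategoryTheory MonoidalCategory CartesianMonoidalCategory MonObj GrpObj AlgebraicGeometry
open Neron

namespace Groth.Agent.S14908

open Groth.NeronArea.ModelTorsion Groth.NeronArea.FieldComponents in
/-- Let R be a complete discrete valuation ring with fraction field K of characteristic 0 and
algebraically closed residue field k of characteristic p > 0, and let G be an affine smooth R-group
scheme of finite type together with an isomorphism of K-group schemes between its generic fibre and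
the multiplicative group over K. Suppose the identity component of the special fibre G_k is the
additive group: there is a homomorphism of k-group schemes from the additive group over k to G_k
which is an open immersion. Then the group of connected components of G_k is the product of a cyclic
group of order prime to p and a p-group; equivalently its prime-to-p part is cyclic: there is a
k-point x₀ of G_k such that for every k-point x of G_k some power x^(p^e) lies in the connected
component of some power x₀^m. (The further assertion that every such group occurs is not stated.) -/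
theorem result (R : Type u) [CommRing R] [IsDomain R] [IsDiscreteValuationRing R]
    [IsAdicComplete (IsLocalRing.maximalIdeal R) R] (K : Type u) [Field K] [Algebra R K] [IsFractionRing R K] [CharZero K]
    [IsAlgClosed (IsLocalRing.ResidueField R)]
    (p : ℕ) [Fact p.Prime] [CharP (IsLocalRing.ResidueField R) p]
    (G : Over (Spec (CommRingCat.of R))) [GrpObj G] [Smooth G.hom] [IsAffineHom G.hom] [LocallyOfFiniteType G.hom]
    (e : Red.bc (Spec.map (CommRingCat.ofHom (algebraMap R K))) G ≅ Red.Gm (Spec (CommRingCat.of K))) [IsMonHom e.hom]
    (j₀ : Red.Ga (Spec (CommRingCat.of (IsLocalRing.ResidueField R))) ⟶ Red.bc (Spec.map (CommRingCat.ofHom (IsLocalRing.residue R))) G) [IsMonHom j₀]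
    [IsOpenImmersion j₀.left] :
    ∃ x₀ : 𝟙_ (Over (Spec (CommRingCat.of (IsLocalRing.ResidueField R)))) ⟶ Red.bc (Spec.map (CommRingCat.ofHom (IsLocalRing.residue R))) G,
      ∀ x : 𝟙_ (Over (Spec (CommRingCat.of (IsLocalRing.ResidueField R)))) ⟶ Red.bc (Spec.map (CommRingCat.ofHom (IsLocalRing.residue R))) G,
        ∃ e₁ m : ℕ, (x ^ (p ^ e₁)).left.base (IsLocalRing.closedPoint (IsLocalRing.ResidueField R)) ∈ connectedComponent ((x₀ ^ m).left.base (IsLocalRing.closedPoint (IsLocalRing.ResidueField R))) := by
  haveI := henselian_of_complete R
  haveI : IsCommMonObj (Red.Gm (Spec (CommRingCat.of K))) := by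
    constructor
    rw [MonObj.mul_eq_mul, MonObj.comp_mul, braiding_hom_fst, braiding_hom_snd]
    apply Groth.Reductive.gmFn_injective
    rw [Groth.Reductive.gmFn_mul, Groth.Reductive.gmFn_mul, mul_comm]
  haveI : IsCommMonObj (Red.bc (Spec.map (CommRingCat.ofHom (algebraMap R K))) G) :=
    Groth.NeronArea.ModelTorsion.isCommMonObj_of_mono e.hom
  haveI : IsCommMonObj G := isCommMonObj_of_fibre (IsFractionRing.injective R K) G
  haveI : QuasiCompact G.hom := inferInstance
  obtain ⟨Φ, hΦ⟩ := exists_embedding G e
  obtain ⟨N, hN, hexp⟩ := exists_exponent G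
  obtain ⟨a, b, hb, rfl⟩ := Nat.exists_eq_pow_mul_and_not_dvd hN.ne' p (Fact.out (p := p.Prime)).ne_one
  obtain ⟨x₀, hx₀⟩ := exists_cyclic_generator G Φ hΦ b
    (fun h => hb ((CharP.cast_eq_zero_iff (IsLocalRing.ResidueField R) p b).1 h))
  refine ⟨x₀, fun x => ?_⟩
  obtain ⟨m, hm⟩ := hx₀ (x ^ p ^ a) (by rw [← pow_mul]; exact hexp x)
  exact ⟨a, m, hm⟩

end Groth.Agent.S14908
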