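import Groth.Statements.S1493
import Groth.Agent.KoszulLCI.Regular
-- import your own Groth.Agent.* helpers here

set_option autoImplicit false
universe u
attribute [local instance] HasDerivedCategory.standard
open FlatMor

namespace Groth.Agent.S1493

open AlgebraicGeometry CategoryTheory Limits in
/-- Let f : X → Y be locally of finite type with X and Y regular (locally Noetherian with regular local
rings). Then f is a local complete intersection morphism (affine-locally: local complete
intersection ring maps). -/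
theorem result {X Y : Scheme.{u}} (f : X ⟶ Y) [LocallyOfFiniteType f] [IsLocallyNoetherian X] [IsLocallyNoetherian Y]
    (hX : ∀ x : X, IsRegularLocalRing ↑(X.presheaf.stalk x)) (hY : ∀ y : Y, IsRegularLocalRing ↑(Y.presheaf.stalk y)) :
    (∀ (U : X.Opens) (V : Y.Opens) (hU : IsAffineOpen U) (hV : IsAffineOpen V) (hUV : U ≤ f ⁻¹ᵁ V),
        letI := (f.appLE V U hUV).hom.toAlgebra
        LCI.IsLCI Γ(Y, V) Γ(X, U)) := by
  intro U V hU hV hUV
  have regOf : ∀ (W : Scheme.{u}) (T : W.Opens), IsAffineOpen T → IsLocallyNoetherian W →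
      (∀ w : W, IsRegularLocalRing ↑(W.presheaf.stalk w)) → IsRegularRing Γ(W, T) := fun W T hT _ h => by
    have : IsNoetherianRing Γ(W, T) := IsLocallyNoetherian.component_noetherian ⟨T, hT⟩
    refine IsRegularRing.mk fun p _ => ?_
    let _ := (W.presheaf.germ T (hT.fromSpec ⟨p, inferInstance⟩) (hT.range_fromSpec.le ⟨_, rfl⟩)).hom.toAlgebra
    have : IsLocalization p.primeCompl (W.presheaf.stalk (hT.fromSpec ⟨p, inferInstance⟩)) :=
      hT.isLocalization_stalk' ⟨p, inferInstance⟩ (hT.range_fromSpec.le ⟨_, rfl⟩)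
    have := h (hT.fromSpec ⟨p, inferInstance⟩)
    exact IsRegularLocalRing.of_ringEquiv (IsLocalization.algEquiv p.primeCompl
      (W.presheaf.stalk (hT.fromSpec ⟨p, inferInstance⟩)) (Localization.AtPrime p)).toRingEquiv
  let _ := (f.appLE V U hUV).hom.toAlgebra
  have := regOf X U hU inferInstance hX
  have := regOf Y V hV inferInstance hY
  have : Algebra.FiniteType Γ(Y, V) Γ(X, U) :=
    HasRingHomProperty.appLE (P := @LocallyOfFiniteType) f ‹_› ⟨V, hV⟩ ⟨U, hU⟩ hUV
  exact Groth.KoszulLCI.isLCI_of_isRegularRing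

end Groth.Agent.S1493
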