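import Groth.Statements.S14932
import Groth.Agent.Variety2Frob.GenericPoint
import Groth.Agent.Variety2.DimScheme

set_option autoImplicit false
universe u
open CategoryTheory CategoryTheory.Limits AlgebraicGeometry
open Variety

namespace Groth.Agent.S14932

open Groth.Variety2.Dim Groth.Misc10

section

variable {k : Type u} [Field k] (p : ℕ) [Fact p.Prime] [CharP k p] {X : Scheme.{u}}
  (f : X ⟶ Spec (CommRingCat.of k))

theorem frob_Spec : FrobSch.frob (Spec (CommRingCat.of k)) p =
    Spec.map (CommRingCat.ofHom (frobenius k p)) := by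
  refine ext_of_isAffine ?_
  rw [← cancel_mono (Scheme.ΓSpecIso (CommRingCat.of k)).hom, Scheme.ΓSpecIso_naturality]
  ext x
  rw [CommRingCat.comp_apply, CommRingCat.comp_apply, FrobSch.frob_appTop, map_pow]
  rfl

/-- Frobenius of the twist factors through the relative Frobenius. -/
theorem fst_relFrob :
    haveI : FrobSch.IsCharP X p := FrobSch.IsCharP.of_hom f p
    pullback.fst f (FrobSch.frob (Spec (CommRingCat.of k)) p) ≫ FrobSch.relFrob f p =
      FrobSch.frob (FrobSch.frobTwist f p) p := by
  haveI : FrobSch.IsCharP X p := FrobSch.IsCharP.of_hom f p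
  apply pullback.hom_ext
  · rw [Category.assoc, FrobSch.relFrob_fst]
    exact (FrobSch.frob_comp p _).symm
  · rw [Category.assoc, FrobSch.relFrob_snd, FrobSch.frob_comp p, pullback.condition]

theorem relFrob_surjective : Function.Surjective (FrobSch.relFrob f p) := by
  haveI : FrobSch.IsCharP X p := FrobSch.IsCharP.of_hom f p
  intro z
  refine ⟨pullback.fst f (FrobSch.frob (Spec (CommRingCat.of k)) p) z, ?_⟩
  rw [← Scheme.Hom.comp_apply, fst_relFrob, FrobSch.frob_apply]

theorem fst_relFrob_apply (x : X) :
    pullback.fst f (FrobSch.frob (Spec (CommRingCat.of k)) p) (FrobSch.relFrob f p x) = x := by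
  haveI : FrobSch.IsCharP X p := FrobSch.IsCharP.of_hom f p
  rw [← Scheme.Hom.comp_apply, FrobSch.relFrob_fst, FrobSch.frob_apply]

/-- The image of the residue field map of the relative Frobenius is `k(κ(w) ^ p)`. -/
theorem fieldRange_residueFieldMap (w : X) :
    letI := (resHom f w).toAlgebra
    ((FrobSch.relFrob f p).residueFieldMap w).hom.fieldRange =
      (IntermediateField.adjoin k (Set.range fun x : X.residueField w => x ^ p)).toSubfield := by
  haveI : FrobSch.IsCharP X p := FrobSch.IsCharP.of_hom f p
  letI := (resHom f w).toAlgebra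
  set F := FrobSch.relFrob f p
  set π := pullback.fst f (FrobSch.frob (Spec (CommRingCat.of k)) p)
  set h := pullback.snd f (FrobSch.frob (Spec (CommRingCat.of k)) p)
  have hπ : IsPullback π h f (FrobSch.frob (Spec (CommRingCat.of k)) p) := IsPullback.of_hasPullback _ _
  haveI : CharP (X.residueField w) p :=
    charP_of_injective_algebraMap (algebraMap k (X.residueField w)).injective p
  obtain ⟨U, hU, hwU, -⟩ := exists_isAffineOpen_mem_and_subset (U := ⊤) (show w ∈ (⊤ : X.Opens) from trivial)
  set V : (FrobSch.frobTwist f p).Opens := π ⁻¹ᵁ U ⊓ h ⁻¹ᵁ ⊤ with hVdef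
  have hpush := (isIso_pushoutSection_iff hπ (US := ⊤) (UT := ⊤) (UX := U) (UY := V) le_top le_top rfl).1
    (isIso_pushoutSection_of_isAffineOpen hπ _ _ _ (isAffineOpen_top _) (isAffineOpen_top _) hU)
  have : IsAffine U := hU
  have : IsAffine (⊤ : (Spec (CommRingCat.of k)).Opens) := isAffineOpen_top _
  have hV : IsAffineOpen V := .of_isIso (Scheme.Hom.isPullback_resLE hπ (US := ⊤) (UT := ⊤) (UX := U) (UY := V) le_top le_top rfl).isoPullback.hom
  have hUV : U ≤ F ⁻¹ᵁ V := fun y hy => ⟨by
    show π (F y) ∈ U
    rw [fst_relFrob_apply]; exact hy, trivial⟩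
  set ev := X.evaluation U w hwU
  set ev' := (FrobSch.frobTwist f p).evaluation V (F w) (hUV hwU)
  set Φ := (F.residueFieldMap w).hom
  set L := (IntermediateField.adjoin k (Set.range fun x : X.residueField w => x ^ p))
  have hΦ : ∀ a, Φ (ev' a) = ev (F.appLE V U hUV a) :=
    FrobResidue.residueFieldMap_evaluation F hUV w hwU
  have hπF : ∀ s, F.appLE V U hUV (π.appLE U V inf_le_left s) = s ^ p := by
    intro s
    have e : π.appLE U V inf_le_left ≫ F.appLE V U hUV =
        (FrobSch.frob X p).appLE U U (le_of_eq (FrobSch.frob_preimage X p U).symm) := by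
      rw [Scheme.Hom.appLE_comp_appLE]
      simp only [show F ≫ π = FrobSch.frob X p from FrobSch.relFrob_fst f p]
    rw [show F.appLE V U hUV (π.appLE U V inf_le_left s) =
      (FrobSch.frob X p).appLE U U (le_of_eq (FrobSch.frob_preimage X p U).symm) s from
        congrArg (fun g : Γ(X, U) ⟶ Γ(X, U) => g s) e]
    change X.presheaf.map (homOfLE (le_of_eq (FrobSch.frob_preimage X p U).symm)).op
      ((FrobSch.frob X p).app U s) = _
    rw [FrobSch.frob_app]
    exact congrArg (fun g => g (s ^ p)) (X.presheaf.map_id _)
  have hcF : ∀ c, F.appLE V U hUV (h.appLE ⊤ V inf_le_right c) = f.appLE ⊤ U le_top c := by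
    intro c
    have e : h.appLE ⊤ V inf_le_right ≫ F.appLE V U hUV = f.appLE ⊤ U le_top := by
      rw [Scheme.Hom.appLE_comp_appLE]
      simp only [show F ≫ h = f from FrobSch.relFrob_snd f p]
    exact congrArg (fun g : Γ(Spec (CommRingCat.of k), ⊤) ⟶ Γ(X, U) => g c) e
  have hf : ∀ c, ev (f.appLE ⊤ U le_top c) =
      resHom f w ((Scheme.ΓSpecIso (CommRingCat.of k)).hom c) := by
    intro c
    have e : f.appLE ⊤ U le_top ≫ ev =
        (Scheme.ΓSpecIso (CommRingCat.of k)).hom ≫ CommRingCat.ofHom (resHom f w) := by
      rw [← Iso.inv_comp_eq]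
      apply Spec.map_injective
      rw [resHom_spec, Spec.map_comp, Spec.map_comp]
      change (Spec.map (X.presheaf.germ U w hwU ≫ X.residue w) ≫ _) ≫ _ = _
      rw [Spec.map_comp, Category.assoc, Category.assoc]
      have h1 := hU.fromSpecStalk_eq_fromSpecStalk hwU
      rw [IsAffineOpen.fromSpecStalk] at h1
      have h2 := IsAffineOpen.SpecMap_appLE_fromSpec f (isAffineOpen_top (Spec (CommRingCat.of k))) hU le_top
      have h3 : (isAffineOpen_top (Spec (CommRingCat.of k))).fromSpec =
          Spec.map (Scheme.ΓSpecIso (CommRingCat.of k)).inv := by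
        rw [IsAffineOpen.fromSpec_top, Scheme.isoSpec_Spec_inv]
      rw [← h3, h2, reassoc_of% h1]
      exact (Category.assoc _ _ _).symm
    exact congrArg (fun g : Γ(Spec (CommRingCat.of k), ⊤) ⟶ X.residueField w => g c) e
  have hgen := FrobResidue.closure_eq_top_of_isPushout hpush
  -- the image consists of elements of `L`
  have h2 : ∀ a, Φ (ev' a) ∈ L.toSubfield := by
    intro a
    have hle : Subring.closure (Set.range (π.appLE U V inf_le_left).hom ∪ Set.range (h.appLE ⊤ V inf_le_right).hom) ≤
        Subring.comap (Φ.comp ev'.hom) L.toSubfield.toSubring := by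
      rw [Subring.closure_le]
      rintro _ (⟨s, rfl⟩ | ⟨c, rfl⟩)
      · show Φ (ev' _) ∈ L
        rw [hΦ, hπF, map_pow]
        exact IntermediateField.subset_adjoin k _ ⟨ev s, rfl⟩
      · show Φ (ev' _) ∈ L
        rw [hΦ, hcF, hf]
        exact L.algebraMap_mem _
    exact hle (hgen ▸ Subring.mem_top a)
  refine le_antisymm ?_ ?_
  · rintro _ ⟨z, rfl⟩
    obtain ⟨a, b, rfl⟩ := FrobResidue.exists_div_of_isAffineOpen hV (F w) (hUV hwU) z
    rw [map_div₀]
    exact div_mem (h2 a) (h2 b)
  · have hk : ∀ c : k, algebraMap k (X.residueField w) c ∈ Φ.fieldRange := by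
      intro c
      refine ⟨ev' (h.appLE ⊤ V inf_le_right ((Scheme.ΓSpecIso (CommRingCat.of k)).inv c)), ?_⟩
      rw [hΦ, hcF, hf]
      exact congrArg (resHom f w) (congrArg (fun g : CommRingCat.of k ⟶ _ => g c)
        (Scheme.ΓSpecIso (CommRingCat.of k)).inv_hom_id)
    show L.toSubfield ≤ Φ.fieldRange
    have : L ≤ Φ.fieldRange.toIntermediateField hk := by
      rw [IntermediateField.adjoin_le_iff]
      rintro _ ⟨z, rfl⟩
      obtain ⟨a, b, rfl⟩ := FrobResidue.exists_div_of_isAffineOpen hU w hwU z
      show _ ∈ Φ.fieldRange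
      have h1 : ∀ a, ev a ^ p ∈ Φ.fieldRange := fun a =>
        ⟨ev' (π.appLE U V inf_le_left a), by rw [hΦ, hπF, map_pow]⟩
      change (ev a / ev b) ^ p ∈ _
      rw [div_pow]
      exact div_mem (h1 a) (h1 b)
    exact this

theorem residueDegree_eq_finrank (w : X) :
    letI := (resHom f w).toAlgebra
    (FrobSch.relFrob f p).residueDegree w = Module.finrank
      (IntermediateField.adjoin k (Set.range fun x : X.residueField w => x ^ p)) (X.residueField w) := by
  letI := (resHom f w).toAlgebra
  set L := IntermediateField.adjoin k (Set.range fun x : X.residueField w => x ^ p)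
  show FrobDeg.hdeg ((FrobSch.relFrob f p).residueFieldMap w).hom = _
  rw [Weil.hdeg_eq_of_fieldRange_eq _ L.val.toRingHom (by
    rw [fieldRange_residueFieldMap p f w]
    ext z
    exact ⟨fun h => ⟨⟨z, h⟩, rfl⟩, fun ⟨y, hy⟩ => hy ▸ y.2⟩)]
  rfl

end

/-- Let k be a field of characteristic p > 0 and X a variety over k (an integral scheme, separated and
of finite type over k) which is geometrically reduced over k, of dimension d. Then the Frobenius
twist X^(p) = X ×_{Spec k, F_k} Spec k, the base change of X along the absolute Frobenius of Spec k,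
is an integral scheme, and the relative Frobenius F_{X/k} : X → X^(p) has degree p^d: the residue
field of the generic point of X is an extension of degree p^d of the residue field of its image in
X^(p). (The published item also says that X^(p) is separated and of finite type over k and that
F_{X/k} is finite and dominant; these hold for every base change of a separated morphism of finite
type, respectively for the relative Frobenius of every scheme locally of finite type over a base of
characteristic p, and are not restated. It also states the equivalence of: X^(p) reduced, X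
geometrically reduced, X has a nonempty open smooth over k; that equivalence is not part of this
row.) -/
theorem result (k : Type u) [Field k]
    (p : ℕ) [Fact p.Prime] [CharP k p] (X : Scheme.{u}) [X.Over (Spec (CommRingCat.of k))] [IsIntegral X]
    [IsSeparated (X ↘ (Spec (CommRingCat.of k)))] [LocallyOfFiniteType (X ↘ (Spec (CommRingCat.of k)))] [QuasiCompact (X ↘ (Spec (CommRingCat.of k)))]
    [GeometricallyReduced (X ↘ (Spec (CommRingCat.of k)))] (d : ℕ) (hd : topologicalKrullDim X = d) :
    IsIntegral (FrobSch.frobTwist (X ↘ (Spec (CommRingCat.of k))) p) ∧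
      (FrobSch.relFrob (X ↘ (Spec (CommRingCat.of k))) p).residueDegree (genericPoint X) = p ^ d := by
  haveI : IsReduced (FrobSch.frobTwist (X ↘ (Spec (CommRingCat.of k))) p) := by
    have h := IsPullback.of_hasPullback (X ↘ (Spec (CommRingCat.of k))) (Spec.map (CommRingCat.ofHom (frobenius k p)))
    haveI := GeometricallyReduced.geometrically_isReduced (f := (X ↘ (Spec (CommRingCat.of k)))) _ _ _ h
    exact isReduced_of_isOpenImmersion (pullback.congrHom rfl (frob_Spec (k := k) p)).hom
  haveI : IrreducibleSpace ↥(FrobSch.frobTwist (X ↘ (Spec (CommRingCat.of k))) p) := by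
    have hne : Nonempty ↥(FrobSch.frobTwist (X ↘ (Spec (CommRingCat.of k))) p) :=
      ⟨FrobSch.relFrob (X ↘ (Spec (CommRingCat.of k))) p (genericPoint X)⟩
    have hirr := (IrreducibleSpace.isIrreducible_univ X).image
      (FrobSch.relFrob (X ↘ (Spec (CommRingCat.of k))) p) (Scheme.Hom.continuous _).continuousOn
    rw [Set.image_univ, (relFrob_surjective p _).range_eq] at hirr
    exact { isPreirreducible_univ := hirr.2, toNonempty := hne }
  refine ⟨isIntegral_of_irreducibleSpace_of_isReduced _, ?_⟩
  rw [residueDegree_eq_finrank p]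
  letI := (resHom (X ↘ (Spec (CommRingCat.of k))) (genericPoint X)).toAlgebra
  haveI := Weil.essFiniteType_resHom (X ↘ (Spec (CommRingCat.of k))) (genericPoint X)
  haveI := Groth.Variety2Frob.isGeometricallyReduced_residueField (X ↘ (Spec (CommRingCat.of k)))
  refine Groth.Variety2Frob.finrank_adjoin_pow p d ?_
  show trdegAt (X ↘ (Spec (CommRingCat.of k))) (genericPoint X) = d
  rw [height_toNat_spec]
  have h := (dim_eq_height_genericPoint (X := X)).symm.trans hd
  rw [show Order.height (genericPoint X) = (d : ℕ∞) from by exact_mod_cast h, ENat.toNat_natCast]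

end Groth.Agent.S14932
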