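import Groth.Statements.S14933
import Groth.Agent.S14930
import Groth.Agent.OmegaSheaf.Universal
import Groth.Agent.FlatMor2.NilBaseChange

set_option autoImplicit false
universe u
open CategoryTheory CategoryTheory.Limits AlgebraicGeometry
open Variety

namespace Groth.Agent.S14933

open Groth.QCohMod (res res_res)

theorem appLE_of_eq {X Y : Scheme.{u}} {g g' : X ⟶ Y} (h : g = g') (V : Y.Opens) (U : X.Opens)
    (e : U ≤ g ⁻¹ᵁ V) : g.appLE V U e = g'.appLE V U (h ▸ e) := by subst h; rfl

theorem kills_relFrob (p : ℕ) [Fact p.Prime] {X S : Scheme.{u}} [FrobSch.IsCharP S p] (f : X ⟶ S)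
    {Ω : X.Modules} (d : OmegaSh.Der f Ω) (W : (FrobSch.frobTwist f p).Opens)
    (t : Γ(FrobSch.frobTwist f p, W)) :
    d.app (FrobSch.relFrob f p ⁻¹ᵁ W) ((FrobSch.relFrob f p).app W t) = 0 := by
  haveI : FrobSch.IsCharP X p := FrobSch.IsCharP.of_hom f p
  let φ := FrobSch.relFrob f p
  let P := FrobSch.frobTwist f p
  let pX : P ⟶ X := pullback.fst f (FrobSch.frob S p)
  let pS : P ⟶ S := pullback.snd f (FrobSch.frob S p)
  have hsurj : Function.Surjective φ.base :=
    (MorphismProperty.universally_le _ _ (Groth.Agent.S14930.result p f).1).surjective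
  have hid : ∀ x : X, pX (φ x) = x := fun x => by
    rw [← Scheme.Hom.comp_apply, FrobSch.relFrob_fst]; rfl
  refine Groth.CohTwo.eq_of_local Ω _ _ fun x hx => ?_
  obtain ⟨_, ⟨V : S.Opens, hV, rfl⟩, hxV, -⟩ :=
    S.isBasis_affineOpens.exists_subset_of_mem_open (Set.mem_univ (f x)) isOpen_univ
  obtain ⟨_, ⟨U : X.Opens, hU, rfl⟩, hxU, hle⟩ :=
    X.isBasis_affineOpens.exists_subset_of_mem_open (show x ∈ φ ⁻¹ᵁ W ⊓ f ⁻¹ᵁ V from ⟨hx, hxV⟩)
      (φ ⁻¹ᵁ W ⊓ f ⁻¹ᵁ V).2
  have hUW : U ≤ φ ⁻¹ᵁ W := fun y hy => (hle hy).1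
  have hUV : U ≤ f ⁻¹ᵁ V := fun y hy => (hle hy).2
  refine ⟨U, hUW, hxU, ?_⟩
  rw [map_zero]
  refine Eq.trans (Groth.OmegaSheaf.res_der f d hUW _) ?_
  have hW₁ : pX ⁻¹ᵁ U ≤ W := fun q hq => by
    obtain ⟨y, rfl⟩ := hsurj q
    have h2 : pX (φ y) ∈ U := hq
    rw [hid] at h2
    exact hUW h2
  have hU₁ : U ≤ φ ⁻¹ᵁ (pX ⁻¹ᵁ U) := fun y hy => by
    show pX (φ y) ∈ U
    rw [hid]; exact hy
  have hres : X.presheaf.map (homOfLE hUW).op (φ.app W t) =
      φ.appLE (pX ⁻¹ᵁ U) U hU₁ (P.presheaf.map (homOfLE hW₁).op t) := by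
    rw [← CommRingCat.comp_apply, ← CommRingCat.comp_apply, Scheme.Hom.map_appLE]
    rfl
  rw [hres]
  haveI : IsAffineHom (FrobSch.frob S p) := ⟨fun A hA => hA⟩
  have hpo := Groth.FlatMor2.isPushout_app (IsPullback.of_hasPullback f (FrobSch.frob S p)) hV hU hUV
  have hmem : P.presheaf.map (homOfLE hW₁).op t ∈
      Subring.closure (Set.range (pX.app U) ∪ Set.range (pS.appLE (FrobSch.frob S p ⁻¹ᵁ V) (pX ⁻¹ᵁ U)
        (by rw [← Scheme.Hom.comp_preimage, ← pullback.condition, Scheme.Hom.comp_preimage]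
            exact pX.preimage_mono hUV))) := by
    rw [CommRingCat.closure_range_union_range_eq_top_of_isPushout hpo]; trivial
  have hmul : ∀ a b : Γ(X, U), d.app U (a * b) = a • d.app U b + b • d.app U a := fun a b => d.d_mul a b
  generalize P.presheaf.map (homOfLE hW₁).op t = s at hmem ⊢
  induction hmem using Subring.closure_induction with
  | mem s hs =>
    rcases hs with ⟨a, rfl⟩ | ⟨c, rfl⟩
    · have e : φ.appLE (pX ⁻¹ᵁ U) U hU₁ (pX.app U a) = a ^ p := by
        rw [← CommRingCat.comp_apply, Scheme.Hom.app_eq_appLE, Scheme.Hom.appLE_comp_appLE,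
          appLE_of_eq (FrobSch.relFrob_fst f p), Scheme.Hom.appLE, CommRingCat.comp_apply]
        show X.presheaf.map _ (a ^ p) = a ^ p
        rw [map_pow]
        refine congrArg (· ^ p) ?_
        erw [X.presheaf.map_id]
        rfl
      rw [e]
      have hpow : ∀ n : ℕ, d.app U (a ^ (n + 1)) = ((n + 1 : ℕ) : Γ(X, U)) • (a ^ n • d.app U a) := by
        intro n
        induction n with
        | zero => simp
        | succ n ih =>
          rw [pow_succ a (n + 1), hmul, ih, smul_smul, smul_smul, smul_smul, ← add_smul]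
          congr 1
          push_cast; ring
      obtain ⟨n, hn⟩ : ∃ n, p = n + 1 := ⟨p - 1, (Nat.succ_pred_eq_of_pos (Fact.out : p.Prime).pos).symm⟩
      rw [hn, hpow n, ← hn, FrobSch.natCast_eq_zero_app X p U, zero_smul]
    · rw [← CommRingCat.comp_apply, Scheme.Hom.appLE_comp_appLE, appLE_of_eq (FrobSch.relFrob_snd f p),
        Scheme.Hom.appLE, CommRingCat.comp_apply]
      have h0 : d.app (f ⁻¹ᵁ (FrobSch.frob S p ⁻¹ᵁ V)) (f.app (FrobSch.frob S p ⁻¹ᵁ V) c) = 0 := d.d_app c
      rw [← Groth.OmegaSheaf.res_der, h0]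
      exact map_zero _
  | zero => simp
  | one =>
    rw [map_one]
    exact d.d_one _
  | add a b _ _ ha hb => rw [map_add, map_add, ha, hb, add_zero]
  | neg a _ ha => rw [map_neg, map_neg, ha, neg_zero]
  | mul a b _ _ ha hb => rw [map_mul, hmul, ha, hb, smul_zero, smul_zero, add_zero]


/-- Let p be a prime, S a scheme of characteristic p (p is zero in the structure sheaf) and f : X → S a
morphism of schemes, with relative Frobenius F_{X/S} : X → X^(p) = X ×_{S,F_S} S over S. Then the
sheaf of differentials of X over S is also the sheaf of differentials of X over X^(p): if Ω is an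
O_X-module and d : O_X → Ω a universal S-derivation, then d kills every section coming from X^(p),
i.e. there is a derivation O_X → Ω relative to F_{X/S} with the same values as d, and that
derivation is universal among derivations relative to F_{X/S}. -/
theorem result (p : ℕ) [Fact p.Prime]
    {X S : Scheme.{u}} [FrobSch.IsCharP S p] (f : X ⟶ S)
    (Ω : X.Modules) (d : OmegaSh.Der f Ω) (hd : OmegaSh.IsUniversal d) :
    ∃ d' : OmegaSh.Der (FrobSch.relFrob f p) Ω,
      (∀ (U : X.Opens) (s : Γ(X, U)), d'.app U s = d.app U s) ∧ OmegaSh.IsUniversal d' := by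
  let d' : OmegaSh.Der (FrobSch.relFrob f p) Ω :=
    { d := fun {U} => d.d
      d_mul := fun {U} a b => d.d_mul a b
      d_map := fun {U V} g x => d.d_map g x
      d_app := fun {U} t => kills_relFrob p f d U.unop t }
  refine ⟨d', fun U s => rfl, fun F D => ?_⟩
  let D₀ : OmegaSh.Der f F :=
    { d := fun {U} => D.d
      d_mul := fun {U} a b => D.d_mul a b
      d_map := fun {U V} g x => D.d_map g x
      d_app := fun {U} c => by
        show D.app (f ⁻¹ᵁ U.unop) (f.app U.unop c) = 0
        have h0 : D.app (FrobSch.relFrob f p ⁻¹ᵁ (pullback.snd f (FrobSch.frob S p) ⁻¹ᵁ U.unop))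
            ((FrobSch.relFrob f p).app _ ((pullback.snd f (FrobSch.frob S p)).app U.unop c)) = 0 :=
          D.d_app ((pullback.snd f (FrobSch.frob S p)).app U.unop c)
        rw [Scheme.Hom.app_eq_appLE, appLE_of_eq (FrobSch.relFrob_snd f p).symm, Scheme.Hom.appLE,
          Scheme.Hom.comp_app, CommRingCat.comp_apply, ← Groth.OmegaSheaf.res_der]
        erw [h0]
        exact map_zero _ }
  obtain ⟨α, hα, huniq⟩ := hd F D₀
  refine ⟨α, ?_, fun β hβ => huniq β ?_⟩
  · exact PresheafOfModules.Derivation.ext (funext fun U => congrArg (fun E : OmegaSh.Der f F => E.d (X := U)) hα)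
  · exact PresheafOfModules.Derivation.ext (funext fun U => congrArg (fun E : OmegaSh.Der (FrobSch.relFrob f p) F => E.d (X := U)) hβ)

end Groth.Agent.S14933
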