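import Groth.Statements.S14942
import Groth.Agent.AbVarMul.FrobWeil
import Groth.Agent.AbVarMul.SimpleIsogeny
import Groth.Agent.S16589

set_option autoImplicit false
universe u
open CategoryTheory MonoidalCategory CartesianMonoidalCategory MonObj GrpObj AlgebraicGeometry
open AbVar TensorProduct

namespace Groth.Agent.S14942

/-- Part 1: let A be a simple abelian variety over a finite field k with q elements — a proper,
geometrically integral commutative group scheme over k whose only abelian subvarieties over k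
(geometrically integral closed subgroup schemes) are the trivial subgroup and A itself — with
q-Frobenius endomorphism π_A (the identity on points, the q-th power map on sections; a
homomorphism). Let Ω be an algebraic closure of k, l a prime invertible in k, and assume (as is the
case) that the l-adic Tate module of Ω-points T_l A is free of finite rank over ℤ_l. Then the
characteristic polynomial of T_l(π_A), which has rational coefficients, is a power of the minimal
polynomial of π_A over ℚ: viewed over ℚ_l it equals h^n for some polynomial h with rational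
coefficients irreducible over ℚ and some n. -/
theorem result (k Ω : Type u) [Field k] [Finite k] [Field Ω] [Algebra k Ω] [IsAlgClosure k Ω]
    (l : ℕ) [Fact l.Prime] (hl : (l : k) ≠ 0) (A : Over (Spec (CommRingCat.of k)))
    [GrpObj A] [IsCommMonObj A] [IsProper A.hom] [GeometricallyIntegral A.hom]
    (hsimple : ∀ (B : Over (Spec (CommRingCat.of k))) [GrpObj B] [GeometricallyIntegral B.hom] (i : B ⟶ A) [IsMonHom i]
      [IsClosedImmersion i.left], Subsingleton B.left ∨ IsIso i)
    (πA : A ⟶ A) [IsMonHom πA] (hπAb : πA.left.base = 𝟙 _)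
    (hπAle : ∀ U : A.left.Opens, U ≤ πA.left ⁻¹ᵁ U)
    (hπAapp : ∀ (U : A.left.Opens) (s : Γ(A.left, U)), (πA.left.appLE U U (hπAle U)).hom s = s ^ Nat.card k)
    [Module.Free ℤ_[l] (AbDual.TateMod A l (SGA7.pt Ω))] [Module.Finite ℤ_[l] (AbDual.TateMod A l (SGA7.pt Ω))] :
    ∃ (h : Polynomial ℚ) (n : ℕ), Irreducible h ∧
      ((AbDual.tateMapₗ (l := l) (T := SGA7.pt Ω) πA).charpoly).map (algebraMap ℤ_[l] ℚ_[l]) =
        (h.map (algebraMap ℚ ℚ_[l])) ^ n := by
  have := IsAlgClosure.isAlgClosed k (K := Ω)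
  obtain ⟨g, hg⟩ := Groth.FibreDim.exists_dim_eq_nat A
  obtain ⟨P, hPm, hPd, hP⟩ := Groth.AbVarMul.exists_degPoly hg (EndAV.End.of πA)
  have hc : (AbDual.tateMapₗ (l := l) (T := SGA7.pt (K := k) Ω) πA).charpoly =
      P.map (Int.castRingHom ℤ_[l]) := Groth.AbVarMul.charpoly_tateMap Ω hl (EndAV.End.of πA) P hP
  have hmap : ((AbDual.tateMapₗ (l := l) (T := SGA7.pt (K := k) Ω) πA).charpoly).map
      (algebraMap ℤ_[l] ℚ_[l]) = (P.map (Int.castRingHom ℚ)).map (algebraMap ℚ ℚ_[l]) := by
    rw [hc, Polynomial.map_map, Polynomial.map_map]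
    exact congrArg (fun f => P.map f) (RingHom.ext_int _ _)
  rcases Nat.eq_zero_or_pos g with rfl | hg0
  · refine ⟨Polynomial.X, 0, Polynomial.irreducible_X, ?_⟩
    rw [hmap, (hPm.natDegree_eq_zero.1 (by simpa using hPd))]
    simp
  set x := EndAV.toEnd0 (EndAV.End.of πA)
  set mp := minpoly ℚ x with hmp
  obtain ⟨hfree, hfin, -⟩ := Groth.AbVarMul.free_finite_hom (A := A) (B := A) hg hg
  have : Module.Free ℤ (EndAV.End A) := hfree
  have : Module.Finite ℤ (EndAV.End A) := hfin
  have hint : IsIntegral ℚ x := Algebra.IsIntegral.isIntegral x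
  -- a complex root
  obtain ⟨z, hz⟩ : ∃ z, z ∈ (P.map (Int.castRingHom ℂ)).roots := by
    refine Multiset.card_pos_iff_exists_mem.1 ?_
    rw [← (IsAlgClosed.splits _).natDegree_eq_card_roots,
      Polynomial.natDegree_map_eq_of_injective Int.cast_injective, hPd]
    omega
  have hroot : Polynomial.aeval z mp = 0 := Groth.AbVarMul.aeval_minpoly_root _ hP hz
  have : Nontrivial (EndAV.End0 A) := by
    rw [← not_subsingleton_iff_nontrivial]
    intro h
    rw [hmp, minpoly.subsingleton] at hroot
    simp at hroot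
  have : NoZeroDivisors (EndAV.End0 A) := ⟨fun {v w} hvw => by
    obtain ⟨n, a, hn, ha⟩ := Groth.AbVarMul.exists_int_smul_eq_tmul v
    obtain ⟨m, b, hm, hb⟩ := Groth.AbVarMul.exists_int_smul_eq_tmul w
    have hinj : Function.Injective (EndAV.toEnd0 (A := A)) :=
      Algebra.TensorProduct.includeRight_injective Int.cast_injective
    have hab : a * b = 0 := hinj (by
      rw [map_mul, map_zero, EndAV.toEnd0_apply, EndAV.toEnd0_apply, ← ha, ← hb, smul_mul_smul_comm,
        hvw, smul_zero])
    have hz0 : ∀ (n : ℤ) (v : EndAV.End0 A) (a : EndAV.End A), n ≠ 0 → n • v = (1 : ℚ) ⊗ₜ[ℤ] a →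
        a = 0 → v = 0 := fun n v a hn ha h0 => by
      rw [h0, TensorProduct.tmul_zero, ← Int.cast_smul_eq_zsmul ℚ] at ha
      exact (smul_eq_zero.1 ha).resolve_left (Int.cast_ne_zero.2 hn)
    by_cases h0 : a.toHom = 1
    · exact Or.inl (hz0 n v a hn ha (EndAV.End.ext h0))
    refine Or.inr (hz0 m w b hm hb ?_)
    obtain ⟨d, ψ, hd, hψ, hψ1, -⟩ := Groth.AbVarMul.exists_quasi_inverse_of_simple hsimple a.toHom h0
    have h2 : b.toHom ^ d = 1 := by
      have h3 := congrArg (fun f => f ≫ ψ) (congrArg EndAV.End.toHom hab)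
      rw [EndAV.End.toHom_mul, EndAV.End.toHom_zero, Category.assoc, hψ1, MonObj.comp_pow,
        Category.comp_id] at h3
      exact h3.trans (MonObj.one_comp ψ)
    have h4 : (d : ℤ) • b = 0 := EndAV.End.ext (by
      rw [natCast_zsmul, EndAV.End.toHom_nsmul, h2, EndAV.End.toHom_zero])
    have := Groth.AbVarMul.isTorsionFree_hom (A := A) (B := A)
    exact (smul_eq_zero.1 h4).resolve_left (by exact_mod_cast hd.ne')⟩
  have : IsDomain (EndAV.End0 A) := NoZeroDivisors.to_isDomain _
  have hirr : Irreducible mp := minpoly.irreducible hint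
  obtain ⟨Q, hQ1, hQ2⟩ := Groth.Agent.S16589.result k Ω l hl A g hg (EndAV.End.of πA) hirr
  obtain rfl : Q = P := Polynomial.map_injective (Int.castRingHom ℤ_[l]) Int.cast_injective
    (hQ1.symm.trans hc)
  exact ⟨mp, _, hirr, by rw [hmap, hQ2, Polynomial.map_pow]⟩

end Groth.Agent.S14942
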