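import Groth.Statements.S14943
import Groth.Agent.AbVarMul.FrobWeil
import Groth.Agent.AbVarMul.DegCharpolyBC

set_option autoImplicit false
universe u
open CategoryTheory MonoidalCategory CartesianMonoidalCategory MonObj GrpObj AlgebraicGeometry
open AbVar

namespace Groth.Agent.S14943

/-- Let A be an abelian variety over a finite field k with q elements (a proper, geometrically integral
commutative group scheme over k), π_A its q-Frobenius endomorphism (the identity on points and the
q-th power map on sections; a homomorphism), Ω an algebraic closure of k and l a prime invertible in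
k. Then the Frobenius endomorphism acts semisimply on V_l(A) = ℚ_l ⊗_{ℤ_l} T_l(A), T_l(A) the l-adic
Tate module of Ω-points: the ℚ_l-linear endomorphism ℚ_l ⊗ T_l(π_A) is semisimple. (The published
statement is that ℚ[π_A] ⊆ ℚ ⊗ End_k(A) is a semisimple algebra, hence acts semisimply in every
representation over a field of characteristic zero; this row states that action on V_l(A).) -/
theorem result (k Ω : Type u) [Field k] [Finite k] [Field Ω] [Algebra k Ω] [IsAlgClosure k Ω]
    (l : ℕ) [Fact l.Prime] (hl : (l : k) ≠ 0) (A : Over (Spec (CommRingCat.of k)))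
    [GrpObj A] [IsCommMonObj A] [IsProper A.hom] [GeometricallyIntegral A.hom]
    (πA : A ⟶ A) [IsMonHom πA] (hπAb : πA.left.base = 𝟙 _)
    (hπAle : ∀ U : A.left.Opens, U ≤ πA.left ⁻¹ᵁ U)
    (hπAapp : ∀ (U : A.left.Opens) (s : Γ(A.left, U)), (πA.left.appLE U U (hπAle U)).hom s = s ^ Nat.card k) :
    Module.End.IsSemisimple ((AbDual.tateMapₗ (l := l) (T := SGA7.pt Ω) πA).baseChange ℚ_[l]) := by
  have := IsAlgClosure.isAlgClosed k (K := Ω)
  obtain ⟨g, hg⟩ := Groth.FibreDim.exists_dim_eq_nat A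
  obtain ⟨e⟩ := Groth.AbVarMul.nonempty_tateMod_bc (K := Ω) (A := A) (g := g)
    ((Groth.AbVarMul.dim_bcF Ω A).trans hg) (Groth.AbVarMul.natCast_ne_zero_bc Ω hl) (l := l)
  have := Module.Finite.equiv e
  have hsq := (Groth.AbVarMul.frob_minpoly hπAle hπAapp).1
  obtain ⟨q, c, hc, hq, hqπ⟩ := Groth.AbVarMul.exists_int_smul_minpoly (EndAV.End.of πA)
  have hsq' : Squarefree ((minpoly ℚ (EndAV.toEnd0 (EndAV.End.of πA))).map (algebraMap ℚ ℚ_[l])) :=
    (PerfectField.separable_iff_squarefree.2 hsq).map.squarefree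
  refine Module.End.isSemisimple_of_squarefree_aeval_eq_zero hsq' ?_
  let Φ : EndAV.End A →+* Module.End ℚ_[l] (TensorProduct ℤ_[l] ℚ_[l] (AbDual.TateMod A l (SGA7.pt (K := k) Ω))) :=
    (Module.End.baseChangeHom ℤ_[l] ℚ_[l] (AbDual.TateMod A l (SGA7.pt (K := k) Ω))).toRingHom.comp
      (EndAV.End.tateRep (A := A) l (SGA7.pt (K := k) Ω))
  have h := congrArg Φ hqπ
  rw [map_zero, Polynomial.hom_eval₂, RingHom.ext_int (Φ.comp _)
    (((algebraMap ℚ_[l] (Module.End ℚ_[l] (TensorProduct ℤ_[l] ℚ_[l] (AbDual.TateMod A l (SGA7.pt (K := k) Ω))))).comp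
      (algebraMap ℚ ℚ_[l])).comp (Int.castRingHom ℚ)), ← Polynomial.eval₂_map, hq,
    ← Polynomial.eval₂_map, ← Polynomial.aeval_def] at h
  rw [show (c • minpoly ℚ (EndAV.toEnd0 (EndAV.End.of πA))).map (algebraMap ℚ ℚ_[l]) =
    c • (minpoly ℚ (EndAV.toEnd0 (EndAV.End.of πA))).map (algebraMap ℚ ℚ_[l]) from
      map_zsmul (Polynomial.mapRingHom (algebraMap ℚ ℚ_[l])) c _, map_zsmul,
    ← Int.cast_smul_eq_zsmul ℚ_[l], smul_eq_zero] at h
  exact h.resolve_left (Int.cast_ne_zero.2 hc)

end Groth.Agent.S14943
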