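import Groth.Statements.S14948
import Groth.Agent.AbVarMul.DegForm

set_option autoImplicit false
universe u
open CategoryTheory MonoidalCategory CartesianMonoidalCategory MonObj GrpObj AlgebraicGeometry
open AbVar

namespace Groth.Agent.S14948

/-- Let A be an abelian variety of dimension g over a field k (a proper, geometrically integral
commutative group scheme over k) and f_1, …, f_m endomorphisms of A (homomorphisms) which are
linearly independent over ℤ in the additive group of k-morphisms A → A, written multiplicatively.
Then the degree is a homogeneous polynomial function of degree 2g: there is a homogeneous polynomial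
P of degree 2g in m variables with rational coefficients such that for all integers a_1, …, a_m, if
the endomorphism a_1 f_1 + ⋯ + a_m f_m (the product of the f_i^{a_i}) is finite then its rank at
every point of A equals P(a_1, …, a_m), and if it is not finite then P(a_1, …, a_m) = 0. -/
theorem result (k : Type u) [Field k]
    (A : Over (Spec (CommRingCat.of k)))
    [GrpObj A] [IsCommMonObj A] [IsProper A.hom] [GeometricallyIntegral A.hom]
    (g : ℕ) (hg : topologicalKrullDim A.left = g) (m : ℕ) (f : Fin m → (A ⟶ A)) [∀ i, IsMonHom (f i)]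
    (hf : LinearIndependent ℤ (fun i => Additive.ofMul (f i))) :
    ∃ P : MvPolynomial (Fin m) ℚ, P.IsHomogeneous (2 * g) ∧
      ∀ a : Fin m → ℤ, (IsFinite (∏ i, f i ^ a i).left →
          ∀ x : A.left, (Scheme.Hom.finrank (∏ i, f i ^ a i).left x : ℚ) = MvPolynomial.eval (fun i => (a i : ℚ)) P) ∧
        (¬ IsFinite (∏ i, f i ^ a i).left → MvPolynomial.eval (fun i => (a i : ℚ)) P = 0) := by
  obtain ⟨P, hP, hPe⟩ := Groth.AbVarMul.exists_degree_form (A := A) (B := A) hg hg
    (fun i => EndAV.Hom.of (f i))
  refine ⟨P, hP, fun a => ?_⟩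
  let Φ : EndAV.Hom A A →+ Additive (A ⟶ A) :=
    AddMonoidHom.mk' (fun φ => Additive.ofMul φ.toHom) (fun _ _ => rfl)
  have e : (∑ i, a i • EndAV.Hom.of (f i)).toHom = ∏ i, f i ^ a i := by
    have h := map_sum Φ (fun i => a i • EndAV.Hom.of (f i)) Finset.univ
    simp only [map_zsmul] at h
    exact h
  rw [← e, hPe a]
  refine ⟨fun hfin x => ?_, fun hfin => ?_⟩
  · rw [Groth.AbVarMul.finrank_eq_homDeg _ rfl x]
  · rw [Groth.AbVarMul.homDeg_of_not_isFinite _ hfin, Nat.cast_zero]

end Groth.Agent.S14948
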