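import Groth.Statements.S14958
import Groth.Agent.EtaleAlgebra.MilnorTor
-- import your own Groth.Agent.* helpers here

set_option autoImplicit false
universe u
open TensorProduct CategoryTheory CategoryTheory.Limits
open EtAlg

namespace Groth.Agent.S14958

/-- Let B' = B ×_A A' be a fibre product of commutative rings with A' → A surjective and L' a B'-module.
Then L' is a fixed point of the glueing adjunction, i.e. the canonical map from L' to the compatible
pairs in (B ⊗_{B'} L') × (A' ⊗_{B'} L') is injective (it is always surjective), if and only if the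
map Tor_1(L', B) ⊕ Tor_1(L', A') → Tor_1(L', A) over B' induced by B → A and A' → A is surjective.
Here Tor_1(L', –) is the first left derived functor of L' ⊗_{B'} – on B'-modules. -/
theorem result (B' B A' A : Type u) [CommRing B'] [CommRing B] [CommRing A'] [CommRing A]
    [Algebra B' B] [Algebra B' A'] [Algebra B A] [Algebra A' A] [Algebra B' A] [IsScalarTower B' B A] [IsScalarTower B' A' A]
    (hsq : EtMil.IsFibreSquare B' B A' A)
    (L' : Type u) [AddCommGroup L'] [Module B' L'] :
    (∀ l : L', ((1 : B) ⊗ₜ[B'] l : B ⊗[B'] L') = 0 → ((1 : A') ⊗ₜ[B'] l : A' ⊗[B'] L') = 0 → l = 0) ↔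
    Epi (biprod.desc
      (((Tor (ModuleCat.{u} B') 1).obj (ModuleCat.of B' L')).map
        (ModuleCat.ofHom (IsScalarTower.toAlgHom B' B A).toLinearMap))
      (((Tor (ModuleCat.{u} B') 1).obj (ModuleCat.of B' L')).map
        (ModuleCat.ofHom (IsScalarTower.toAlgHom B' A' A).toLinearMap))) := by
  let p : (L' →₀ B') →ₗ[B'] L' := Finsupp.linearCombination B' id
  have hp : Function.Surjective p := fun l =>
    ⟨Finsupp.single l 1, (Finsupp.linearCombination_single B' 1 l).trans (one_smul _ _)⟩
  have hex := LinearMap.exact_subtype_ker_map p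
  have hS := Groth.Agent.EtaleAlgebra.MilnorTor.shortExact_presentation
    (K := LinearMap.ker p) (F := L' →₀ B') (L := L') (LinearMap.ker p).subtype p Subtype.val_injective hex hp
  haveI : Module.Flat B' (ModuleCat.of B' (L' →₀ B')) := Module.Flat.of_free (R := B') (M := L' →₀ B')
  refine (Groth.Agent.EtaleAlgebra.MilnorTor.injective_iff (K := LinearMap.ker p) (F := L' →₀ B')
    (L' := L') (LinearMap.ker p).subtype p hex hp hsq
    (fun x h1 h2 => Groth.Agent.EtaleAlgebra.MilnorTor.finsupp_eq_zero hsq x h1 h2)).trans ?_
  exact (Groth.Agent.EtaleAlgebra.MilnorTor.epi_tor_iff hS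
    (ModuleCat.ofHom (IsScalarTower.toAlgHom B' B A).toLinearMap)
    (ModuleCat.ofHom (IsScalarTower.toAlgHom B' A' A).toLinearMap)).symm

end Groth.Agent.S14958
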