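import Groth.Statements.S14959
import Groth.Agent.QCohMod.PullbackSections
import Groth.Agent.QCohMod.Stalk
import Groth.Agent.QCohMod.Affine
-- import your own Groth.Agent.* helpers here

set_option autoImplicit false
universe u
open AlgebraicGeometry CategoryTheory CategoryTheory.Limits
open Pinch

namespace Groth.Agent.S14959

open TensorProduct in
private theorem subsingleton_of_pinching {A : Type u} [CommRing A] (M : Type u) [AddCommGroup M] [Module A M]
    {A' B : Type u} [CommRing A'] [CommRing B] [Algebra A A'] [Algebra A B]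
    (hsurj : Function.Surjective (algebraMap A A'))
    (hinj : RingHom.ker (algebraMap A B) ⊓ RingHom.ker (algebraMap A A') = ⊥)
    (himg : ∀ b ∈ Ideal.map (algebraMap A B) (RingHom.ker (algebraMap A A')),
      ∃ i ∈ RingHom.ker (algebraMap A A'), algebraMap A B i = b)
    (h1 : Subsingleton (A' ⊗[A] M)) (h2 : Subsingleton (B ⊗[A] M)) : Subsingleton M := by
  let I := RingHom.ker (algebraMap A A')
  have hIM : ∀ i ∈ I, ∀ m : M, i • m = 0 := by
    intro i hi m
    have huniq : ∀ j ∈ I, ∀ k ∈ I, algebraMap A B j = algebraMap A B k → j = k := by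
      intro j hj k hk e
      have : j - k ∈ RingHom.ker (algebraMap A B) ⊓ I :=
        ⟨by simp [e], I.sub_mem hj hk⟩
      rw [hinj, Ideal.mem_bot, sub_eq_zero] at this
      exact this
    choose β hβI hβ using fun b : B => himg (b * algebraMap A B i) (Ideal.mul_mem_left _ b (Ideal.mem_map_of_mem _ hi))
    let L : B →ₗ[A] A :=
      { toFun := β
        map_add' := fun b c => huniq _ (hβI _) _ (I.add_mem (hβI b) (hβI c)) (by rw [hβ, map_add, hβ, hβ, add_mul])
        map_smul' := fun a b => huniq _ (hβI _) _ (I.mul_mem_left a (hβI b)) (by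
          rw [hβ, RingHom.id_apply, smul_eq_mul, map_mul, hβ, Algebra.smul_def, mul_assoc]) }
    have h0 := congrArg (TensorProduct.lift ((LinearMap.lsmul A M).comp L)) (Subsingleton.elim ((1 : B) ⊗ₜ[A] m) 0)
    rw [map_zero, TensorProduct.lift.tmul] at h0
    have h1' : L 1 = i := huniq _ (hβI 1) _ hi (by rw [hβ, one_mul])
    simpa [h1'] using h0
  refine ⟨fun x y => ?_⟩
  let q : A' →ₗ[A] M →ₗ[A] M :=
    { toFun := fun a => LinearMap.lsmul A M (Function.surjInv hsurj a)
      map_add' := fun a b => LinearMap.ext fun m => by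
        have hm := hIM (Function.surjInv hsurj (a + b) - (Function.surjInv hsurj a + Function.surjInv hsurj b))
          (by simp [I, Function.surjInv_eq hsurj]) m
        rw [sub_smul, sub_eq_zero, add_smul] at hm
        simpa using hm
      map_smul' := fun c a => LinearMap.ext fun m => by
        have hm := hIM (Function.surjInv hsurj (c • a) - c * Function.surjInv hsurj a)
          (by simp [I, Function.surjInv_eq hsurj, Algebra.smul_def]) m
        rw [sub_smul, sub_eq_zero, mul_smul] at hm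
        simpa using hm }
  have hq : ∀ m : M, q 1 m = m := fun m => by
    have hm := hIM (Function.surjInv hsurj (1 : A') - 1) (by simp [I, Function.surjInv_eq hsurj]) m
    rw [sub_smul, one_smul, sub_eq_zero] at hm
    exact hm
  rw [← hq x, ← hq y, ← TensorProduct.lift.tmul (f' := q), ← TensorProduct.lift.tmul (f' := q),
    Subsingleton.elim ((1 : A') ⊗ₜ[A] x) (1 ⊗ₜ y)]

/-- Let w : X' → X, g : X' → Y', f : X → Y, u : Y' → Y be a cartesian square of schemes with f affine
and u a closed immersion which is a pinching square: for every affine open V of Y, with I(V) the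
kernel of Γ(V, O_Y) → Γ(u⁻¹V, O_Y'), the kernel of Γ(V, O_Y) → Γ(f⁻¹V, O_X) meets I(V) in 0 and the
ideal generated by the image of I(V) in Γ(f⁻¹V, O_X) consists of images of elements of I(V)
(equivalently Γ(V, O_Y) is the fibre product of Γ(u⁻¹V, O_Y') and Γ(f⁻¹V, O_X) over Γ(h⁻¹V, O_X'),
i.e. O_Y = u_*O_Y' ×_{h_*O_X'} f_*O_X). If G is a quasi-coherent O_Y-module whose pullbacks u*G and
f*G are zero, then G = 0. -/
theorem result {X X' Y Y' : Scheme.{u}} (f : X ⟶ Y) (u : Y' ⟶ Y) (w : X' ⟶ X) (g : X' ⟶ Y')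
    (hP : IsPullback w g f u) [IsAffineHom f] [IsClosedImmersion u]
    (hM : ∀ V ∈ Y.affineOpens,
      RingHom.ker (f.app V).hom ⊓ RingHom.ker (u.app V).hom = ⊥ ∧
      ∀ a ∈ Ideal.map (f.app V).hom (RingHom.ker (u.app V).hom),
        ∃ i ∈ RingHom.ker (u.app V).hom, (f.app V).hom i = a)
    (G : Y.Modules) [G.IsQuasicoherent]
    (h1 : IsZero ((Scheme.Modules.pullback u).obj G)) (h2 : IsZero ((Scheme.Modules.pullback f).obj G)) :
    IsZero G := by
  rw [Groth.QCohMod.isZero_iff_support_eq_empty, Set.eq_empty_iff_forall_notMem]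
  intro y hy
  obtain ⟨V, hV, hyV, -⟩ := exists_isAffineOpen_mem_and_subset (X := Y) (x := y) (U := ⊤) trivial
  rw [Groth.QCohMod.mem_support_iff G hV y hyV] at hy
  suffices h : Subsingleton Γ(G, V) by
    rw [Module.mem_support_iff'] at hy
    obtain ⟨m, hm⟩ := hy
    exact hm 1 (Ideal.primeCompl _).one_mem (Subsingleton.elim _ _)
  obtain ⟨hinj, himg⟩ := hM V hV
  have sec : ∀ {Z : Scheme.{u}} (q : Z ⟶ Y) [IsAffineHom q],
      IsZero ((Scheme.Modules.pullback q).obj G) →
      letI := (q.app V).hom.toAlgebra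
      Subsingleton (TensorProduct Γ(Y, V) Γ(Z, q ⁻¹ᵁ V) Γ(G, V)) := by
    intro Z q _ hq
    have e : ∀ (h : q ⁻¹ᵁ V ≤ q ⁻¹ᵁ V), (q.appLE V (q ⁻¹ᵁ V) h).hom.toAlgebra = (q.app V).hom.toAlgebra :=
      fun h => by rw [Scheme.Hom.app_eq_appLE]
    have hz : Subsingleton Γ((Scheme.Modules.pullback q).obj G, q ⁻¹ᵁ V) :=
      AddCommGrpCat.subsingleton_of_isZero
        (Functor.map_isZero (Scheme.Modules.toPresheaf Z ⋙ (evaluation _ _).obj (Opposite.op (q ⁻¹ᵁ V))) hq)
    have := (Groth.QCohMod.pullSecEquiv q G (le_refl (q ⁻¹ᵁ V)) hV (hV.preimage q)).toEquiv.subsingleton_congr.mpr hz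
    rwa [show Groth.QCohMod.sectionsAlg q (le_refl (q ⁻¹ᵁ V)) = (q.app V).hom.toAlgebra from e _] at this
  let := (u.app V).hom.toAlgebra
  let := (f.app V).hom.toAlgebra
  refine subsingleton_of_pinching Γ(G, V) (A' := Γ(Y', u ⁻¹ᵁ V)) (B := Γ(X, f ⁻¹ᵁ V)) ?_ hinj himg (sec u h1) (sec f h2)
  exact u.app_surjective V hV

end Groth.Agent.S14959
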