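import Groth.Statements.S14960
import Groth.Agent.Misc8.PinchFlat
import Groth.Agent.QCohMod.PullbackQCoh
-- import your own Groth.Agent.* helpers here

set_option autoImplicit false
universe u
open AlgebraicGeometry CategoryTheory CategoryTheory.Limits
open Pinch

namespace Groth.Agent.S14960

/-- Let w : X' → X, g : X' → Y', f : X → Y, u : Y' → Y be a cartesian square of schemes with f affine
and u a closed immersion which is a pinching square: for every affine open V of Y, with I(V) the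
kernel of Γ(V, O_Y) → Γ(u⁻¹V, O_Y'), the kernel of Γ(V, O_Y) → Γ(f⁻¹V, O_X) meets I(V) in 0 and the
ideal generated by the image of I(V) in Γ(f⁻¹V, O_X) consists of images of elements of I(V)
(equivalently Γ(V, O_Y) is the fibre product of Γ(u⁻¹V, O_Y') and Γ(f⁻¹V, O_X) over Γ(h⁻¹V, O_X'),
i.e. O_Y = u_*O_Y' ×_{h_*O_X'} f_*O_X). A quasi-coherent O_Y-module G is a flat O_Y-module if and
only if u*G is a flat O_Y'-module and f*G is a flat O_X-module. -/
theorem result {X X' Y Y' : Scheme.{u}} (f : X ⟶ Y) (u : Y' ⟶ Y) (w : X' ⟶ X) (g : X' ⟶ Y')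
    (hP : IsPullback w g f u) [IsAffineHom f] [IsClosedImmersion u]
    (hM : ∀ V ∈ Y.affineOpens,
      RingHom.ker (f.app V).hom ⊓ RingHom.ker (u.app V).hom = ⊥ ∧
      ∀ a ∈ Ideal.map (f.app V).hom (RingHom.ker (u.app V).hom),
        ∃ i ∈ RingHom.ker (u.app V).hom, (f.app V).hom i = a)
    (G : Y.Modules) [G.IsQuasicoherent] :
    FlatMod.IsFlat G ↔
      FlatMod.IsFlat ((Scheme.Modules.pullback u).obj G) ∧ FlatMod.IsFlat ((Scheme.Modules.pullback f).obj G) := by
  have fwd : ∀ {Z : Scheme.{u}} (q : Z ⟶ Y) [IsAffineHom q], FlatMod.IsFlat G →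
      FlatMod.IsFlat ((Scheme.Modules.pullback q).obj G) := by
    intro Z q _ hG
    refine Groth.Misc8.PinchMod.isFlat_of_affine_cover _ fun z => ?_
    obtain ⟨V, hV, hzV, -⟩ := exists_isAffineOpen_mem_and_subset (X := Y) (x := q z) (U := ⊤) trivial
    refine ⟨q ⁻¹ᵁ V, hV.preimage q, hzV, ?_⟩
    let := (q.app V).hom.toAlgebra
    have := Groth.Misc8.PinchMod.flat_sections G hG hV
    exact Module.Flat.of_linearEquiv (Groth.Misc8.PinchMod.sectionsEquiv q G hV).symm
  refine ⟨fun h => ⟨fwd u h, fwd f h⟩, fun ⟨h1, h2⟩ => ?_⟩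
  refine Groth.Misc8.PinchMod.isFlat_of_affine_cover G fun y => ?_
  obtain ⟨V, hV, hyV, -⟩ := exists_isAffineOpen_mem_and_subset (X := Y) (x := y) (U := ⊤) trivial
  refine ⟨V, hV, hyV, ?_⟩
  obtain ⟨hinj, himg⟩ := hM V hV
  let := (u.app V).hom.toAlgebra
  let := (f.app V).hom.toAlgebra
  have hu := Groth.Misc8.PinchMod.flat_sections _ h1 (hV.preimage u)
  have hf := Groth.Misc8.PinchMod.flat_sections _ h2 (hV.preimage f)
  exact Groth.Misc8.PinchMod.flat_of_pinching Γ(G, V) (A' := Γ(Y', u ⁻¹ᵁ V)) (B := Γ(X, f ⁻¹ᵁ V))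
    (u.app_surjective V hV) hinj himg
    (Module.Flat.of_linearEquiv (Groth.Misc8.PinchMod.sectionsEquiv u G hV))
    (Module.Flat.of_linearEquiv (Groth.Misc8.PinchMod.sectionsEquiv f G hV))

end Groth.Agent.S14960
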