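import Groth.Statements.S14963
import Groth.Agent.Misc1.Azumaya.Basic
import Mathlib.RingTheory.LocalRing.ResidueField.Ideal
-- import your own Groth.Agent.* helpers here

set_option autoImplicit false
universe u v w
open TensorProduct
open Brauer

namespace Groth.Agent.S14963

/-- Let R → S be a ring homomorphism with Spec S → Spec R surjective and B an R-algebra which is
finitely generated and projective as an R-module. If S ⊗_R B is an Azumaya S-algebra, then B is an
Azumaya R-algebra. (The published statement is for a surjective morphism of schemes X → Y and a
finite locally free O_Y-algebra; this row is the case of affine X and Y. The converse direction,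
base change, is omitted.) -/
theorem result (R : Type u) [CommRing R]
    (S : Type v) [CommRing S] [Algebra R S]
    (hS : Function.Surjective (PrimeSpectrum.comap (algebraMap R S)))
    (B : Type w) [Ring B] [Algebra R B] [Module.Finite R B] [Module.Projective R B]
    [IsAzumaya S (S ⊗[R] B)] : IsAzumaya R B := by
  refine Groth.Azum.bij_of_fibres R B fun p _ => ?_
  obtain ⟨q, hq⟩ := hS ⟨p, inferInstance⟩
  have hle : p = q.asIdeal.comap (algebraMap R S) := (congrArg PrimeSpectrum.asIdeal hq).symm
  let T := q.asIdeal.ResidueField
  let j : p.ResidueField →+* T := Ideal.ResidueField.map p q.asIdeal (algebraMap R S) hle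
  letI : Algebra p.ResidueField T := j.toAlgebra
  have : IsScalarTower R p.ResidueField T := IsScalarTower.of_algebraMap_eq fun r => by
    show algebraMap R T r = j (algebraMap R p.ResidueField r)
    rw [IsScalarTower.algebraMap_apply R S T]
    exact (Ideal.ResidueField.map_algebraMap p q.asIdeal (algebraMap R S) hle r).symm
  have := Groth.Azum.baseChange S (S ⊗[R] B) T
  have := IsAzumaya.of_AlgEquiv T _ _ (Groth.Azum.cancelEquiv R B S T)
  have := IsAzumaya.of_AlgEquiv T _ _ (Groth.Azum.cancelEquiv R B p.ResidueField T).symm
  have : Module.FinitePresentation p.ResidueField (p.ResidueField ⊗[R] B) := Module.finitePresentation_of_projective _ _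
  exact Groth.Azum.of_faithfullyFlat p.ResidueField (p.ResidueField ⊗[R] B) T

end Groth.Agent.S14963
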