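import Groth.Statements.S14965
import Groth.Agent.AzMilnor.Basic
import Groth.Agent.EtaleAlgebra.MilnorGlue

set_option autoImplicit false
universe u
open TensorProduct
open Brauer

namespace Groth.Agent.S14965

/-- Let B' = B ×_A A' be a fibre product of commutative rings with A' → A surjective, N an Azumaya
B-algebra, M' an Azumaya A'-algebra and φ : A ⊗_B N ≅ A ⊗_{A'} M' an isomorphism of A-algebras. If a
B'-algebra D' with B'-algebra homomorphisms π₁ : D' → N and π₂ : D' → M' is the glued algebra N ×_φ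
M', in the sense that (π₁, π₂) is injective with image the pairs (n, m') satisfying φ(1 ⊗ n) = 1 ⊗
m', then D' is an Azumaya B'-algebra. (The published statement is for Azumaya algebras on the
pushout scheme of a closed immersion and an affine morphism, glued as u_*B' ×_{h_*} f_*A; this row
is the case of an affine pushout.) -/
theorem result (B' B A' A : Type u) [CommRing B'] [CommRing B] [CommRing A'] [CommRing A]
    [Algebra B' B] [Algebra B' A'] [Algebra B A] [Algebra A' A] [Algebra B' A] [IsScalarTower B' B A] [IsScalarTower B' A' A]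
    (hsq : EtMil.IsFibreSquare B' B A' A)
    (N : Type u) [Ring N] [Algebra B N] [Algebra B' N] [IsScalarTower B' B N] [IsAzumaya B N]
    (M' : Type u) [Ring M'] [Algebra A' M'] [Algebra B' M'] [IsScalarTower B' A' M'] [IsAzumaya A' M']
    (φ : A ⊗[B] N ≃ₐ[A] A ⊗[A'] M')
    (D' : Type u) [Ring D'] [Algebra B' D'] (π₁ : D' →ₐ[B'] N) (π₂ : D' →ₐ[B'] M')
    (hinj : ∀ d : D', π₁ d = 0 → π₂ d = 0 → d = 0)
    (himg : ∀ (n : N) (m' : M'), φ ((1 : A) ⊗ₜ[B] n) = (1 : A) ⊗ₜ[A'] m' ↔ ∃ d : D', π₁ d = n ∧ π₂ d = m') :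
    IsAzumaya B' D' := by
  let g : D' →ₗ[B'] EtMil.glue B' φ.toLinearEquiv :=
    (LinearMap.prod π₁.toLinearMap π₂.toLinearMap).codRestrict _
      fun d => (himg (π₁ d) (π₂ d)).2 ⟨d, rfl, rfl⟩
  have hg : Function.Bijective g := by
    refine ⟨(injective_iff_map_eq_zero g).2 fun d hd => ?_, fun x => ?_⟩
    · have h := congrArg Subtype.val hd
      exact hinj d (congrArg Prod.fst h) (congrArg Prod.snd h)
    · obtain ⟨d, h1, h2⟩ := (himg _ _).1 x.2
      exact ⟨d, Subtype.ext (Prod.ext h1 h2)⟩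
  let e₁ : B ⊗[B'] D' →ₐ[B] N :=
    Algebra.TensorProduct.lift (Algebra.ofId B N) π₁ fun x y => Algebra.commutes x (π₁ y)
  let e₂ : A' ⊗[B'] D' →ₐ[A'] M' :=
    Algebra.TensorProduct.lift (Algebra.ofId A' M') π₂ fun x y => Algebra.commutes x (π₂ y)
  have h₁ : e₁.toLinearMap = (LinearMap.liftBaseChange B (EtMil.glueFst B' φ.toLinearEquiv)) ∘ₗ
      g.baseChange B := by
    ext d
    simp [e₁, g, EtMil.glueFst]
  have h₂ : e₂.toLinearMap = (LinearMap.liftBaseChange A' (EtMil.glueSnd B' φ.toLinearEquiv)) ∘ₗ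
      g.baseChange A' := by
    ext d
    simp [e₂, g, EtMil.glueSnd]
  have hb₁ : Function.Bijective e₁ := by
    show Function.Bijective e₁.toLinearMap
    rw [h₁, LinearMap.coe_comp]
    exact (Groth.EtaleAlgebra.Milnor.glueFst_bijective (Groth.EtaleAlgebra.Milnor.surjective_left hsq)
      hsq.1 (fun _ => Groth.EtaleAlgebra.Milnor.exists_ker_lift hsq)).comp
      ((LinearEquiv.ofBijective g hg).baseChange B' B _ _).bijective
  have hb₂ : Function.Bijective e₂ := by
    show Function.Bijective e₂.toLinearMap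
    rw [h₂, LinearMap.coe_comp]
    exact (Groth.EtaleAlgebra.Milnor.glueSnd_bijective hsq).comp
      ((LinearEquiv.ofBijective g hg).baseChange B' A' _ _).bijective
  haveI : IsAzumaya B (B ⊗[B'] D') := IsAzumaya.of_AlgEquiv _ _ _ (AlgEquiv.ofBijective e₁ hb₁).symm
  haveI : IsAzumaya A' (A' ⊗[B'] D') := IsAzumaya.of_AlgEquiv _ _ _ (AlgEquiv.ofBijective e₂ hb₂).symm
  exact Groth.AzMilnor.isAzumaya_of_baseChange hsq D'

end Groth.Agent.S14965
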