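import Groth.Statements.S14966
import Groth.Agent.EtaleAlgebra.Milnor

set_option autoImplicit false
universe u
open EtAlg

namespace Groth.Agent.S14966

/-- Let A → A' be an injective homomorphism of commutative rings and let I ⊆ A be the conductor, i.e.
the annihilator of the A-module A'/A. Then the conductor square formed by A → A/I, A → A', A/I →
A'/IA' and A' → A'/IA' is a fibre product square of rings with A' → A'/IA' surjective: A = A/I
×_{A'/IA'} A'. (The published Lemma is for the conductor square of a finite modification of schemes;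
this row is the underlying statement for one injective ring map, which needs no finiteness.) -/
theorem result (A A' : Type u) [CommRing A] [CommRing A'] [Algebra A A']
    (hinj : Function.Injective (algebraMap A A')) :
    EtMil.IsFibreSquare A (A ⧸ Module.annihilator A (A' ⧸ LinearMap.range (Algebra.linearMap A A'))) A'
      (A' ⧸ Ideal.map (algebraMap A A') (Module.annihilator A (A' ⧸ LinearMap.range (Algebra.linearMap A A')))) := by
  let c := Module.annihilator A (A' ⧸ LinearMap.range (Algebra.linearMap A A'))
  have hc : ∀ j ∈ c, ∀ a' : A', ∃ k ∈ c, algebraMap A A' k = algebraMap A A' j * a' := by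
    intro j hj a'
    have h := Module.mem_annihilator.1 hj
    have h0 : ∀ b : A', ∃ k : A, algebraMap A A' k = algebraMap A A' j * b := fun b => by
      have := h (Submodule.Quotient.mk b)
      rw [← Submodule.Quotient.mk_smul, Submodule.Quotient.mk_eq_zero] at this
      obtain ⟨k, hk⟩ := this
      exact ⟨k, by rw [← Algebra.smul_def]; exact hk⟩
    obtain ⟨k, hk⟩ := h0 a'
    refine ⟨k, Module.mem_annihilator.2 fun q => ?_, hk⟩
    obtain ⟨b, rfl⟩ := Submodule.Quotient.mk_surjective _ q
    obtain ⟨l, hl⟩ := h0 (a' * b)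
    rw [← Submodule.Quotient.mk_smul, Submodule.Quotient.mk_eq_zero]
    exact ⟨l, by rw [Algebra.linearMap_apply, hl, Algebra.smul_def, hk, mul_assoc]⟩
  have hI : ∀ a' ∈ c.map (algebraMap A A'), ∃ k ∈ c, algebraMap A A' k = a' := by
    intro a' ha
    suffices ∀ r : A', ∃ k ∈ c, algebraMap A A' k = r * a' by simpa using this 1
    induction ha using Submodule.span_induction with
    | mem x hx =>
      obtain ⟨j, hj, rfl⟩ := hx
      intro r
      obtain ⟨k, hk, hk'⟩ := hc j hj r
      exact ⟨k, hk, by rw [hk', mul_comm]⟩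
    | zero => exact fun r => ⟨0, c.zero_mem, by simp⟩
    | add a b _ _ iha ihb =>
      intro r
      obtain ⟨k, hk, hka⟩ := iha r
      obtain ⟨l, hl, hlb⟩ := ihb r
      exact ⟨k + l, c.add_mem hk hl, by rw [map_add, hka, hlb, mul_add]⟩
    | smul s a _ iha =>
      intro r
      obtain ⟨k, hk, hka⟩ := iha (r * s)
      exact ⟨k, hk, by rw [hka, smul_eq_mul, mul_assoc]⟩
  refine ⟨Ideal.Quotient.mk_surjective, fun b a' hba => ?_⟩
  obtain ⟨a, rfl⟩ := Ideal.Quotient.mk_surjective b
  obtain ⟨k, hk, hk'⟩ := hI (a' - algebraMap A A' a) (by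
    rw [← Ideal.Quotient.eq_zero_iff_mem, map_sub, sub_eq_zero]
    exact hba.symm)
  refine ⟨a + k, ⟨?_, by rw [map_add, hk']; simp⟩, fun y hy => hinj (by rw [map_add, hk', hy.2]; simp)⟩
  exact Ideal.Quotient.eq.2 (by simpa [c] using hk)

end Groth.Agent.S14966
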