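import Groth.Statements.S14967
import Groth.Agent.Misc1.Azumaya.Basic
import Mathlib.RingTheory.Finiteness.Descent
import Mathlib.LinearAlgebra.TensorProduct.RightExactness
-- import your own Groth.Agent.* helpers here

set_option autoImplicit false
universe u v w
open TensorProduct
open Brauer

namespace Groth.Agent.S14967

/-- Let R → S be a faithfully flat homomorphism of commutative rings and B an R-algebra, with no
finiteness assumption. If S ⊗_R B is an Azumaya S-algebra then B is an Azumaya R-algebra. (The
published statement is for a flat surjective morphism of schemes X → Y and a quasi-coherent
O_Y-algebra; this row is the case of affine X and Y, where flat and surjective means faithfully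
flat. The converse, base change, is omitted.) -/
theorem result (R : Type u) [CommRing R]
    (S : Type v) [CommRing S] [Algebra R S] [Module.FaithfullyFlat R S]
    (B : Type w) [Ring B] [Algebra R B] [IsAzumaya S (S ⊗[R] B)] : IsAzumaya R B := by
  have hfin : Module.Finite R B := Module.Finite.of_finite_tensorProduct_of_faithfullyFlat S
  have : Module.FinitePresentation S (S ⊗[R] B) := Module.finitePresentation_of_projective _ _
  obtain ⟨n, f, hf⟩ := Module.Finite.exists_fin' R B
  have : Module.Finite S (S ⊗[R] LinearMap.ker f) := by
    have hex : Function.Exact ((LinearMap.ker f).subtype.baseChange S) (f.baseChange S) :=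
      lTensor_exact S (LinearMap.exact_subtype_ker_map f) hf
    have hinj : Function.Injective ((LinearMap.ker f).subtype.baseChange S) :=
      Module.Flat.lTensor_preserves_injective_linearMap _ (Submodule.subtype_injective _)
    have hfg : (LinearMap.ker (f.baseChange S)).FG :=
      Module.FinitePresentation.fg_ker _ (LinearMap.lTensor_surjective S hf)
    rw [LinearMap.exact_iff.1 hex] at hfg
    have : Module.Finite S (LinearMap.range ((LinearMap.ker f).subtype.baseChange S)) := Module.Finite.iff_fg.2 hfg
    exact Module.Finite.equiv (LinearEquiv.ofInjective _ hinj).symm
  have hker : Module.Finite R (LinearMap.ker f) := Module.Finite.of_finite_tensorProduct_of_faithfullyFlat S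
  have : Module.FinitePresentation R B :=
    Module.finitePresentation_of_surjective f hf (Module.Finite.iff_fg.1 hker)
  exact Groth.Azum.of_faithfullyFlat R B S

end Groth.Agent.S14967
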