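import Groth.Statements.S1497
import Groth.Agent.Chow.AmpleComp
import Groth.Agent.Chow.QuasiProjective

set_option autoImplicit false
universe u
attribute [local instance] HasDerivedCategory.standard
open FlatMor

namespace Groth.Agent.S1497

open AlgebraicGeometry CategoryTheory Limits in
/-- An immersion into projective space over a base with an ample module gives an ample module. -/
theorem exists_ample_of_immersion {X S : Scheme.{u}} {n : ℕ} (i : X ⟶ CohB1.ProjSpaceOver n S)
    [IsImmersion i] [QuasiCompact i] (hS : ∃ N : S.Modules, CohB1.IsAmple N) :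
    ∃ L : X.Modules, CohB1.IsAmple L := by
  haveI := Groth.Variety2.isProper_projSpaceOver_toBase n S
  haveI : QuasiCompact (Groth.Chow.PEmb.strMap i) :=
    inferInstanceAs (QuasiCompact (i ≫ CohB1.ProjSpaceOver.toBase n S))
  obtain ⟨N, hN⟩ := hS
  haveI : CompactSpace S := hN.2.1
  haveI : S.IsSeparated := Groth.PropsBasic.Ample.isSeparated_of_cover hN.1 hN.2.2
  obtain ⟨hft, hqc, L, hL⟩ := Groth.Chow.PEmb.isQuasiProjective i
  obtain ⟨m₀, hm₀⟩ := Groth.Chow.exists_comp_isAmple _ hL hN
  exact ⟨_, hm₀ m₀ le_rfl⟩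

open AlgebraicGeometry CategoryTheory Limits in
/-- Let S be a scheme with an ample invertible sheaf and f : X → S a morphism. Then f is a quasi-compact
immersion into some projective space P^n_S over S if and only if f is of finite type and X has an
ample invertible sheaf. -/
theorem result {X S : Scheme.{u}} (hS : ∃ N : S.Modules, CohB1.IsAmple N) (f : X ⟶ S) :
    (∃ (n : ℕ) (i : X ⟶ CohB1.ProjSpaceOver n S), IsImmersion i ∧ QuasiCompact i ∧ i ≫ pullback.snd (CohB1.ProjSpace.toSpec n (ULift.{u} ℤ)) (specULiftZIsTerminal.from S) = f) ↔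
      (LocallyOfFiniteType f ∧ QuasiCompact f ∧ ∃ L : X.Modules, CohB1.IsAmple L) := by
  constructor
  · rintro ⟨n, i, hi, hqc, rfl⟩
    haveI := Groth.Variety2.isProper_projSpaceOver_toBase n S
    exact ⟨inferInstanceAs (LocallyOfFiniteType (i ≫ CohB1.ProjSpaceOver.toBase n S)),
      inferInstanceAs (QuasiCompact (i ≫ CohB1.ProjSpaceOver.toBase n S)),
      exists_ample_of_immersion i hS⟩
  · rintro ⟨hft, hqc, L, hL⟩
    obtain ⟨n₁, hn₁⟩ := Groth.Chow.exists_isRelVeryAmplePn f hL
    obtain ⟨n, i, hi, hif, -⟩ := hn₁ n₁ le_rfl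
    haveI := Groth.Variety2.isProper_projSpaceOver_toBase n S
    haveI : QuasiCompact (i ≫ CohB1.ProjSpaceOver.toBase n S) := by
      rw [show i ≫ CohB1.ProjSpaceOver.toBase n S = f from hif]; exact hqc
    exact ⟨n, i, hi, QuasiCompact.of_comp i (CohB1.ProjSpaceOver.toBase n S), hif⟩

end Groth.Agent.S1497
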