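import Groth.Statements.S14972
import Groth.Agent.CohTwo.ProjHilbert
import Groth.Agent.S15191

set_option autoImplicit false
open CategoryTheory CategoryTheory.Limits AlgebraicGeometry
open Coherent

namespace Groth.CohTwo.HNChain

open Groth.CohTwo.ProjHilb Groth.CohTwo.ChainSeries

variable {n d : ℕ}

local notation "X₀" => CohB1.ProjSpace n ℂ

/-- The condition on a factor: pure of dimension `d` and semistable, in the divided form. -/
def GoodFac (d : ℕ) (Q : (CohB1.ProjSpace n ℂ).Modules) : Prop :=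
  (topologicalKrullDim ↥(CohB1.support Q) = (d : WithBot ℕ∞) ∧
    ∀ (G : (CohB1.ProjSpace n ℂ).Modules) (ι : G ⟶ Q), Mono ι → Coh.IsCoh G → ¬ IsZero G →
      topologicalKrullDim ↥(CohB1.support G) = (d : WithBot ℕ∞)) ∧
  (∀ (G : (CohB1.ProjSpace n ℂ).Modules) (ι : G ⟶ Q), Mono ι → Coh.IsCoh G → ¬ IsZero G →
    ∀ φ ψ : Polynomial ℚ, IsPolyZ Q φ → IsPolyZ G ψ → W4c2simpsonmod1.RedLE d ψ φ)

theorem not_isZero_of_dim {Q : (CohB1.ProjSpace n ℂ).Modules}
    (h : topologicalKrullDim ↥(CohB1.support Q) = (d : WithBot ℕ∞)) : ¬ IsZero Q := fun hz => by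
  have : IsEmpty (CohB1.support Q) := ⟨fun x => x.2 (AddCommGrpCat.subsingleton_of_isZero
    ((Groth.QCohMod.stalk x.1).map_isZero hz))⟩
  have hbot : topologicalKrullDim ↥(CohB1.support Q) = ⊥ := by
    rw [topologicalKrullDim, Order.krullDim_eq_bot_iff]
    exact ⟨fun Z => by obtain ⟨z, -⟩ := Z.isIrreducible'.nonempty; exact isEmptyElim z⟩
  rw [hbot] at h
  exact WithBot.bot_ne_coe h

theorem goodFac_iff {Q : (CohB1.ProjSpace n ℂ).Modules} (hQ : Coh.IsCoh Q) :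
    GoodFac d Q ↔ ShStab.IsSemistable ℂ X₀ (O1 n ℂ) Q d := by
  haveI := Groth.HilbStab.isLocallyNoetherian ℂ (X := X₀)
  constructor
  · rintro ⟨⟨hdim, hp⟩, hss⟩
    refine ⟨hQ, not_isZero_of_dim hdim, hp, fun G ι hι hG hG0 _ pG pQ hpG hpQ => ?_⟩
    have h1 := Groth.HilbStab.alpha_pos_of_isPure ℂ isAmple_O1 hp ι hG hG0 hpG
    have h2 := Groth.HilbStab.alpha_pos_of_isPure ℂ isAmple_O1 hp (𝟙 Q) hQ
      (not_isZero_of_dim hdim) hpQ
    exact (redLE_iff_div h1 h2).2 (hss G ι hι hG hG0 pQ pG (isPolyZ_of_isHilbPoly hQ hpQ)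
      (isPolyZ_of_isHilbPoly hG hpG))
  · rintro ⟨-, h0, hp, hss⟩
    refine ⟨⟨hp Q (𝟙 Q) inferInstance hQ h0, hp⟩, fun G ι hι hG hG0 φ ψ hφ hψ => ?_⟩
    haveI := hι
    by_cases hiso : IsIso ι
    · haveI := hiso
      have : ψ = φ := Groth.HilbStab.isHilbPoly_unique ℂ (isHilbPoly_of_isPolyZ hψ)
        (Groth.HilbStab.isHilbPoly_iso ℂ (asIso ι).symm (isHilbPoly_of_isPolyZ hφ))
      subst this
      exact ⟨0, fun m _ => le_rfl⟩
    · have h1 := Groth.HilbStab.alpha_pos_of_isPure ℂ isAmple_O1 hp ι hG hG0 (isHilbPoly_of_isPolyZ hψ)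
      have h2 := Groth.HilbStab.alpha_pos_of_isPure ℂ isAmple_O1 hp (𝟙 Q) hQ h0
        (isHilbPoly_of_isPolyZ hφ)
      exact (redLE_iff_div h1 h2).1 (hss G ι hι hG hG0 hiso ψ φ (isHilbPoly_of_isPolyZ hψ)
        (isHilbPoly_of_isPolyZ hφ))

theorem alpha_pos_of_ss {Q : (CohB1.ProjSpace n ℂ).Modules}
    (h : ShStab.IsSemistable ℂ X₀ (O1 n ℂ) Q d) {p : Polynomial ℚ}
    (hp : ShStab.IsHilbPoly ℂ X₀ (O1 n ℂ) Q p) : 0 < StabCat.alpha d p :=
  Groth.HilbStab.alpha_pos_of_isPure ℂ isAmple_O1 h.2.2.1 (𝟙 Q) h.1 h.2.1 hp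

theorem nonempty_cokernel_iso {E : (CohB1.ProjSpace n ℂ).Modules} {A B A' B' : Subobject E}
    (h : A ≤ B) (hA : A = A') (hB : B = B') :
    cokernel (Subobject.ofLE A B h) = cokernel (Subobject.ofLE A' B' (hA ▸ hB ▸ h)) := by
  subst hA hB; rfl

end Groth.CohTwo.HNChain

namespace Groth.Agent.S14972

/-- Over the complex numbers, let E be a coherent sheaf on projective n-space which is pure of dimension
d (its support and the support of every nonzero coherent subsheaf have dimension d). Then there is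
exactly one finite chain of coherent subsheaves 0 = E_0 ⊂ E_1 ⊂ ⋯ ⊂ E_k = E such that each
successive quotient E_j/E_(j-1) is pure of dimension d and p-semistable (every nonzero coherent
subsheaf G of it with Hilbert polynomial ψ satisfies ψ(m)/r(ψ) ≤ φ(m)/r(φ) for all large integers m,
φ being the Hilbert polynomial of the quotient and r denoting d! times the degree-d coefficient) and
the reduced Hilbert polynomials φ/r(φ) of consecutive quotients strictly decrease for large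
arguments. The chain is recorded as a finite set of subobjects of E, totally ordered by inclusion,
containing 0 and E, all of whose members are coherent. (The published statement is for modules over
a sheaf of rings of differential operators and filtrations by submodules stable under it, and does
not assume E pure, although quotients pure of dimension d force it; this row is the case of the
structure sheaf, where every coherent subsheaf is stable, and assumes E pure.) -/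
theorem result (n d : ℕ)
    (E : (CohB1.ProjSpace n ℂ).Modules) (hE : Coh.IsCoh E)
    (hpure : (topologicalKrullDim ↥(CohB1.support E) = (d : WithBot ℕ∞) ∧
          ∀ (G : (CohB1.ProjSpace n ℂ).Modules) (ι : G ⟶ E), Mono ι → Coh.IsCoh G → ¬ IsZero G → topologicalKrullDim ↥(CohB1.support G) = (d : WithBot ℕ∞))) :
    ∃! C : Finset (Subobject E),
      ⊥ ∈ C ∧ ⊤ ∈ C ∧ IsChain (fun A B : Subobject E => A ≤ B) (↑C : Set (Subobject E)) ∧
      (∀ A ∈ C, Coh.IsCoh (A : (CohB1.ProjSpace n ℂ).Modules)) ∧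
      (∀ A ∈ C, ∀ B ∈ C, ∀ hAB : A < B, (∀ D ∈ C, ¬ (A < D ∧ D < B)) →
        (topologicalKrullDim ↥(CohB1.support (cokernel (Subobject.ofLE A B hAB.le))) = (d : WithBot ℕ∞) ∧
          ∀ (G : (CohB1.ProjSpace n ℂ).Modules) (ι : G ⟶ (cokernel (Subobject.ofLE A B hAB.le))), Mono ι → Coh.IsCoh G → ¬ IsZero G → topologicalKrullDim ↥(CohB1.support G) = (d : WithBot ℕ∞)) ∧
        (∀ (G : (CohB1.ProjSpace n ℂ).Modules) (ι : G ⟶ (cokernel (Subobject.ofLE A B hAB.le))), Mono ι → Coh.IsCoh G → ¬ IsZero G →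
          ∀ φ ψ : Polynomial ℚ, (∀ m : ℤ, (Curv2.euler ℂ (CohB1.ProjSpace n ℂ) (CohB1.tensorMod (cokernel (Subobject.ofLE A B hAB.le)) (Twist.twistProjSpace n ℂ m)) : ℚ) = φ.eval (m : ℚ)) → (∀ m : ℤ, (Curv2.euler ℂ (CohB1.ProjSpace n ℂ) (CohB1.tensorMod G (Twist.twistProjSpace n ℂ m)) : ℚ) = ψ.eval (m : ℚ)) →
            W4c2simpsonmod1.RedLE d ψ φ)) ∧
      (∀ A ∈ C, ∀ B ∈ C, ∀ B' ∈ C, ∀ hAB : A < B, ∀ hBB : B < B',
        (∀ D ∈ C, ¬ (A < D ∧ D < B)) → (∀ D ∈ C, ¬ (B < D ∧ D < B')) →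
        ∀ ψ ψ' : Polynomial ℚ, (∀ m : ℤ, (Curv2.euler ℂ (CohB1.ProjSpace n ℂ) (CohB1.tensorMod (cokernel (Subobject.ofLE A B hAB.le)) (Twist.twistProjSpace n ℂ m)) : ℚ) = ψ.eval (m : ℚ)) →
          (∀ m : ℤ, (Curv2.euler ℂ (CohB1.ProjSpace n ℂ) (CohB1.tensorMod (cokernel (Subobject.ofLE B B' hBB.le)) (Twist.twistProjSpace n ℂ m)) : ℚ) = ψ'.eval (m : ℚ)) →
          W4c2simpsonmod1.RedLT d ψ' ψ) := by
  classical
  haveI := Groth.HilbStab.isLocallyNoetherian ℂ (X := CohB1.ProjSpace n ℂ)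
  have h0 : ¬ IsZero E := Groth.CohTwo.HNChain.not_isZero_of_dim hpure.1
  obtain ⟨s, hs, huniq⟩ := Groth.Agent.S15191.result ℂ (CohB1.ProjSpace n ℂ)
    (Groth.CohTwo.ProjHilb.O1 n ℂ) Groth.CohTwo.ProjHilb.isAmple_O1 d E hE h0 hpure.2
  have hcoh : ∀ i, Coh.IsCoh ((s i : Subobject E) : (CohB1.ProjSpace n ℂ).Modules) :=
    Groth.HilbStab.isCoh_series hE s hs.1 fun i => (hs.2.2.1 i).1
  refine ⟨Finset.univ.image s, ⟨Finset.mem_image.2 ⟨0, Finset.mem_univ _, hs.1⟩,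
    Finset.mem_image.2 ⟨Fin.last _, Finset.mem_univ _, hs.2.1⟩, ?_, ?_, ?_, ?_⟩, ?_⟩
  · intro A hA B hB _
    simp only [Finset.coe_image, Finset.coe_univ, Set.image_univ, Set.mem_range] at hA hB
    obtain ⟨i, rfl⟩ := hA
    obtain ⟨j, rfl⟩ := hB
    exact (le_total i j).imp (fun h => s.monotone h) (fun h => s.monotone h)
  · intro A hA
    obtain ⟨i, -, rfl⟩ := Finset.mem_image.1 hA
    exact hcoh i
  · intro A hA B hB hAB hbtw
    obtain ⟨a, -, rfl⟩ := Finset.mem_image.1 hA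
    obtain ⟨b, -, rfl⟩ := Finset.mem_image.1 hB
    obtain ⟨i, hi1, hi2⟩ := Groth.CohTwo.ChainSeries.exists_index s ⟨a, rfl⟩ ⟨b, rfl⟩ hAB
      fun j => hbtw _ (Finset.mem_image.2 ⟨j, Finset.mem_univ _, rfl⟩)
    have hg := (Groth.CohTwo.HNChain.goodFac_iff (hs.2.2.1 i).1).2 (hs.2.2.1 i)
    rw [show StabCat.factor s i = cokernel (Subobject.ofLE (s a) (s b) hAB.le) from
      Groth.CohTwo.HNChain.nonempty_cokernel_iso _ hi1 hi2] at hg
    exact hg
  · intro A hA B hB B' hB' hAB hBB h1 h2 ψ ψ' hψ hψ'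
    obtain ⟨a, -, rfl⟩ := Finset.mem_image.1 hA
    obtain ⟨b, -, rfl⟩ := Finset.mem_image.1 hB
    obtain ⟨c, -, rfl⟩ := Finset.mem_image.1 hB'
    obtain ⟨i, hi1, hi2⟩ := Groth.CohTwo.ChainSeries.exists_index s ⟨a, rfl⟩ ⟨b, rfl⟩ hAB
      fun j => h1 _ (Finset.mem_image.2 ⟨j, Finset.mem_univ _, rfl⟩)
    obtain ⟨j, hj1, hj2⟩ := Groth.CohTwo.ChainSeries.exists_index s ⟨b, rfl⟩ ⟨c, rfl⟩ hBB
      fun m => h2 _ (Finset.mem_image.2 ⟨m, Finset.mem_univ _, rfl⟩)
    have hij : i.val + 1 = j.val := by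
      have := s.strictMono.injective (hi2.trans hj1.symm)
      simpa [Fin.ext_iff] using this
    have hp : ShStab.IsHilbPoly ℂ (CohB1.ProjSpace n ℂ) (Groth.CohTwo.ProjHilb.O1 n ℂ)
        (StabCat.factor s i) ψ := by
      rw [show StabCat.factor s i = cokernel (Subobject.ofLE (s a) (s b) hAB.le) from
        Groth.CohTwo.HNChain.nonempty_cokernel_iso _ hi1 hi2]
      exact Groth.CohTwo.ProjHilb.isHilbPoly_of_isPolyZ hψ
    have hq : ShStab.IsHilbPoly ℂ (CohB1.ProjSpace n ℂ) (Groth.CohTwo.ProjHilb.O1 n ℂ)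
        (StabCat.factor s j) ψ' := by
      rw [show StabCat.factor s j = cokernel (Subobject.ofLE (s b) (s c) hBB.le) from
        Groth.CohTwo.HNChain.nonempty_cokernel_iso _ hj1 hj2]
      exact Groth.CohTwo.ProjHilb.isHilbPoly_of_isPolyZ hψ'
    exact (Groth.CohTwo.ProjHilb.redLT_iff_div
      (Groth.CohTwo.HNChain.alpha_pos_of_ss (hs.2.2.1 j) hq)
      (Groth.CohTwo.HNChain.alpha_pos_of_ss (hs.2.2.1 i) hp)).1 (hs.2.2.2 i j hij ψ ψ' hp hq)
  · rintro C ⟨hb, ht, hC, hcohC, hgood, hdec⟩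
    obtain ⟨t, ht0, ht1, hmem, hbtw⟩ := Groth.CohTwo.ChainSeries.exists_series_of_chain C hb ht hC
    have hf : ∀ i : Fin t.length, Coh.IsCoh (StabCat.factor t i) := fun i => by
      have h1 := hcohC _ ((hmem _).2 ⟨i.castSucc, rfl⟩)
      have h2 := hcohC _ ((hmem _).2 ⟨i.succ, rfl⟩)
      haveI := h1.1
      exact Groth.QCohMod.isCoh_cokernel _ h2
    have hss : ∀ i : Fin t.length, ShStab.IsSemistable ℂ (CohB1.ProjSpace n ℂ)
        (Groth.CohTwo.ProjHilb.O1 n ℂ) (StabCat.factor t i) d := fun i =>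
      (Groth.CohTwo.HNChain.goodFac_iff (hf i)).1
        (hgood _ ((hmem _).2 ⟨i.castSucc, rfl⟩) _ ((hmem _).2 ⟨i.succ, rfl⟩) (t.step i) (hbtw i))
    have hHN : ShStab.IsHNFiltration ℂ (CohB1.ProjSpace n ℂ) (Groth.CohTwo.ProjHilb.O1 n ℂ) E d t := by
      refine ⟨ht0, ht1, hss, fun i j hij p q hp hq => ?_⟩
      have e : t i.succ = t j.castSucc := congrArg t (Fin.ext (by simp [hij]))
      have hstep : t i.succ < t j.succ := by rw [e]; exact t.step j
      have hstepbtw : ∀ D ∈ C, ¬ (t i.succ < D ∧ D < t j.succ) := fun D hD h =>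
        hbtw j D hD ⟨e ▸ h.1, h.2⟩
      have hq' : Groth.CohTwo.ProjHilb.IsPolyZ
          (cokernel (Subobject.ofLE (t i.succ) (t j.succ) hstep.le)) q := by
        rw [Groth.CohTwo.HNChain.nonempty_cokernel_iso _ e rfl]
        exact Groth.CohTwo.ProjHilb.isPolyZ_of_isHilbPoly (hf j) hq
      exact (Groth.CohTwo.ProjHilb.redLT_iff_div
        (Groth.CohTwo.HNChain.alpha_pos_of_ss (hss j) hq)
        (Groth.CohTwo.HNChain.alpha_pos_of_ss (hss i) hp)).2
        (hdec _ ((hmem _).2 ⟨i.castSucc, rfl⟩) _ ((hmem _).2 ⟨i.succ, rfl⟩)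
          _ ((hmem _).2 ⟨j.succ, rfl⟩) (t.step i) hstep (hbtw i) hstepbtw p q
          (Groth.CohTwo.ProjHilb.isPolyZ_of_isHilbPoly (hf i) hp) hq')
    rw [← huniq t hHN]
    ext A
    simp only [Finset.mem_image, Finset.mem_univ, true_and]
    exact hmem A

end Groth.Agent.S14972
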