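import Groth.Statements.S1498
import Groth.Agent.CohBase.UniformFibreVanish
import Groth.Agent.CohBase.FibreConsequencesFP
import Groth.Agent.CohBase.InvNearFibre
import Groth.Agent.CohBase.RpushSections
import Groth.Agent.PropsBasic.LocFree
import Groth.Agent.QCohMod.ClosedImm

set_option autoImplicit false
universe u
attribute [local instance] HasDerivedCategory.standard
open FlatMor

namespace Groth.Agent.S1498

section Aux

open AlgebraicGeometry CategoryTheory CategoryTheory.Limits TopologicalSpace

set_option backward.isDefEq.respectTransparency false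
set_option backward.isDefEq.respectTransparency.types false

lemma isFinLocFree_of_invertible {X : Scheme.{u}} {E : X.Modules} (hE : PicF.IsInvertible E) :
    FlatMod.IsFinLocFree E := fun x => by
  obtain ⟨U, hU, he⟩ := (Groth.LocFree.isInvertible_iff_ofRank_one.1 hE) x
  exact ⟨U, 1, hU, he⟩

/-- Cohomology of a quasi-coherent module along an isomorphism. -/
lemma subsingleton_HH_pullback_iso {W Z : Scheme.{u}} (e : W ⟶ Z) [IsIso e] (M : Z.Modules)
    [M.IsQuasicoherent] (p : ℕ) (h : Subsingleton (Coh.HH Z M p)) :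
    Subsingleton (Coh.HH W ((Scheme.Modules.pullback e).obj M) p) := by
  haveI : ((Scheme.Modules.pullback e).obj M).IsQuasicoherent :=
    Groth.QCohMod.isQCoh_pullback_obj _ _
  have hiso : IsIso ((Scheme.Modules.pullbackPushforwardAdjunction e).unit.app M) := by
    rw [Groth.QCohMod.isIso_unit_closedImmersion_iff]
    intro U a ha s
    rw [Scheme.Hom.ker_apply, RingHom.mem_ker] at ha
    have : a = 0 := (ConcreteCategory.bijective_of_isIso (e.app U.1)).1 (ha.trans (map_zero _).symm)
    rw [this, zero_smul]
  have h2 := Groth.CohBase.UniformFibreVanish.subsingleton_HH_congr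
    (@asIso _ _ _ _ _ hiso) p h
  obtain ⟨e'⟩ := Groth.CohBase.nonempty_equiv_H_push e ((Scheme.Modules.pullback e).obj M) p
  exact @Equiv.subsingleton _ _ e'.symm.toEquiv h2

/-- The fibres of a thickening are those of the thickened morphism. -/
lemma subsingleton_fiberH_of_thickening {X S X' S' : Scheme.{u}} {f : X ⟶ S} {f' : X' ⟶ S'}
    {i : S ⟶ S'} {i' : X ⟶ X'} [IsClosedImmersion i] (hc : IsPullback i' f f' i) {M' : X'.Modules}
    {M : X.Modules} [M.IsQuasicoherent] (e : (Scheme.Modules.pullback i').obj M' ≅ M) (y : S) (p : ℕ)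
    (h : Subsingleton (CohIII.fiberH f M y p)) :
    Subsingleton (CohIII.fiberH f' M' (i y) p) := by
  haveI : IsIso (i.residueFieldMap y) := by
    rw [ConcreteCategory.isIso_iff_bijective]
    refine ⟨(i.residueFieldMap y).hom.injective, fun a => ?_⟩
    obtain ⟨b, rfl⟩ := IsLocalRing.residue_surjective a
    obtain ⟨c, rfl⟩ := i.stalkMap_surjective y b
    exact ⟨S'.residue (i y) c, congr($(Scheme.residue_residueFieldMap i y) c)⟩
  have hp : IsPullback (f.fiberι y ≫ i') (f.fiberToSpecResidueField y ≫ Spec.map (i.residueFieldMap y))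
      f' (S'.fromSpecResidueField (i y)) := by
    refine ((IsPullback.of_hasPullback f (S.fromSpecResidueField y)).paste_horiz hc).of_iso
      (Iso.refl _) (Iso.refl _) (asIso (Spec.map (i.residueFieldMap y))) (Iso.refl _)
      ((Category.comp_id _).trans (Category.id_comp _).symm)
      (Category.id_comp _).symm ((Category.comp_id _).trans (Category.id_comp _).symm) ?_
    exact (Category.comp_id _).trans (i.SpecMap_residueFieldMap_fromSpecResidueField y).symm
  let u : f'.fiber (i y) ⟶ f.fiber y := hp.isoPullback.inv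
  have hu : u ≫ f.fiberι y ≫ i' = f'.fiberι (i y) := hp.isoPullback_inv_fst
  haveI : ((Scheme.Modules.pullback (f.fiberι y)).obj M).IsQuasicoherent :=
    Groth.QCohMod.isQCoh_pullback_obj _ _
  refine Groth.CohBase.UniformFibreVanish.subsingleton_HH_congr ?_ p
    (subsingleton_HH_pullback_iso u _ p h)
  exact (Scheme.Modules.pullback u).mapIso ((Scheme.Modules.pullback _).mapIso e.symm ≪≫
      (Scheme.Modules.pullbackComp (f.fiberι y) i').app M') ≪≫
    (Scheme.Modules.pullbackComp u (f.fiberι y ≫ i')).app M' ≪≫
    (Scheme.Modules.pullbackCongr hu).app M'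

end Aux

open AlgebraicGeometry CategoryTheory Limits in
/-- Parts (1) and (2) (the source moreover reconstructs X' as the relative Proj of the resulting
algebra, which is not stated here): let f : X → S be proper, flat and of finite presentation with S
quasi-compact, and let L be an O_X-module ample relative to f. Then there is d₀ ≥ 0 such that for
every thickening i : S → S', every proper flat morphism of finite presentation f' : X' → S' with a
cartesian square over i, and every invertible O_{X'}-module L' pulling back to L, for all d ≥ d₀ the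
cohomology H^p, p > 0, of L'^{⊗d} vanishes over the preimage of every affine open of S' and f'_*
L'^{⊗d} is a finite locally free O_{S'}-module. -/
theorem result {X S : Scheme.{u}} (f : X ⟶ S) [IsProper f] [Flat f] [LocallyOfFinitePresentation f] [CompactSpace ↑S]
    (L : X.Modules) (hL : RelAmple.IsRelAmple f L) :
    ∃ d₀ : ℕ, ∀ (X' S' : Scheme.{u}) (i : S ⟶ S') (i' : X ⟶ X') (f' : X' ⟶ S') (hi : MoreMor.IsThickening i) (hc : IsPullback i' f f' i)
      (hf'₁ : IsProper f') (hf'₂ : Flat f') (hf'₃ : LocallyOfFinitePresentation f') (L' : X'.Modules) (hL' : PicF.IsInvertible L')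
      (e : Nonempty ((Scheme.Modules.pullback i').obj L' ≅ L)) (d : ℕ), d₀ ≤ d →
        (∀ (U : S'.Opens) (p : ℕ), IsAffineOpen U → 0 < p → Subsingleton (Coh.HHon X' (CohB1.tensorPow L' d) (f' ⁻¹ᵁ U) p)) ∧
        FlatMod.IsFinLocFree ((Scheme.Modules.pushforward f').obj (CohB1.tensorPow L' d)) := by
  obtain ⟨N, hN⟩ := Groth.CohBase.UniformFibreVanish.exists_uniform_fibre_vanishing f L hL
  refine ⟨N, fun X' S' i i' f' hi hc hf'₁ hf'₂ hf'₃ L' hL' ⟨e⟩ d hd => ?_⟩
  haveI : IsClosedImmersion i := hi.1
  haveI : HasInjectiveResolutions X'.Modules := inferInstance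
  let M := CohB1.tensorPow L' d
  have hM : PicF.IsInvertible M := Groth.PicAux.isInvertible_tensorPow hL' d
  haveI : M.IsQuasicoherent := Groth.PicAux.isQCoh_of_isInvertible hM
  have hLd : PicF.IsInvertible (CohB1.tensorPow L d) :=
    Groth.PicAux.isInvertible_tensorPow (Groth.Ega2Proj.isInvertible_of_isRelAmple hL) d
  haveI : (CohB1.tensorPow L d).IsQuasicoherent := Groth.PicAux.isQCoh_of_isInvertible hLd
  have hfp : CohB1.IsFP M :=
    Groth.PropsBasic.LocFree.isFP_of_isFinLocFree M (isFinLocFree_of_invertible hM)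
  have hfl : FlatMod.IsFlatOver f' M := Groth.CohBase.isFlatOver_of_isInvertible f' hM
  have eM : (Scheme.Modules.pullback i').obj M ≅ CohB1.tensorPow L d :=
    (Groth.PicAux.pullback_tensorPow i' L' d).some ≪≫ (Groth.PicAux.nonempty_tensorPow_iso e d).some
  have hv : ∀ (y' : S') (p : ℕ), 1 ≤ p → Subsingleton (CohIII.fiberH f' M y' p) := fun y' p hp => by
    obtain ⟨y, rfl⟩ := hi.2.surj y'
    exact subsingleton_fiberH_of_thickening hc eM y p (hN y d hd p hp)
  refine ⟨fun U p hU hp => ?_, ?_⟩
  · let I := injectiveResolution M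
    have hz := Groth.CohBase.isZero_Rpush_of_fibres f' hfp hfl p fun y' => hv y' p hp
    obtain ⟨e'⟩ := Groth.CohBase.nonempty_sections_equiv f' I p hU
    have hs : Subsingleton Γ((Groth.CohBase.pushCx f' I).homology p, U) := by
      have hz' : IsZero ((Groth.CohBase.pushCx f' I).homology p) :=
        hz.of_iso (I.isoRightDerivedObj (Scheme.Modules.pushforward f') p).symm
      exact subsingleton_of_forall_eq 0 fun x => (congr($(hz'.eq_of_src
        (𝟙 ((Groth.CohBase.pushCx f' I).homology p)) 0).app U x)).trans rfl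
    obtain ⟨e''⟩ := Groth.CohBase.nonempty_equiv_HHon M (f' ⁻¹ᵁ U) p
    exact @Equiv.subsingleton _ _ (e''.trans e'.symm).toEquiv hs
  · haveI := Groth.CohBase.isQCoh_Rpush f' (M := M) 0
    refine Groth.KTheory.LocFree.isFinLocFree_of_iso
      ((Coh.push f').rightDerivedZeroIsoSelf.app M)
      (Groth.LocFree.isFinLocFree_of_affine_cover fun y => ?_)
    obtain ⟨V, hV, hy⟩ := Groth.QCohMod.exists_affine_mem y
    obtain ⟨C, hC⟩ := Groth.CohBase.exists_isModel_fp f' M hfp hfl hV
    exact ⟨V, hV, hy, hC.finite_projective_fp 0 hC.flat_Qc_zero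
      (by simpa using hC.flat_Qc_of_next f' hV 1 fun y _ => hv y 1 le_rfl)⟩

end Groth.Agent.S1498
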