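import Groth.Statements.S14982
import Groth.Agent.Misc8.CoactFreeLocus

set_option autoImplicit false
set_option linter.style.haveILetI false
universe u
open CategoryTheory MonoidalCategory CartesianMonoidalCategory MonObj AlgebraicGeometry
open CoactBr

namespace Groth.Agent.S14982

/-- Let `R` be a commutative ring, `A` a commutative Hopf algebra over `R` which is finite locally free
as an `R`-module (`G = Spec A` a finite flat group scheme over `S = Spec R`), `B` a commutative
`R`-algebra with a coaction of `A` that is an algebra map (an action of `G` on `X = Spec B`), `C =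
B^A` the ring of invariants and `π : X → Y = Spec C` the quotient map. Let `K` be a field over `R`,
`x : B → K` an `R`-algebra map (a point of `X`) and `y` the image in `Y` of the point underlying
`x`. Then the inertia group scheme at `x` is trivial (for every scheme `T` over `Spec K`, every
`T`-point of `G` fixing the point of `X` induced by `x` is the unit) if and only if there is a flat
morphism locally of finite presentation `Y' → Y` whose image contains `y` and over which the action
becomes free: for every scheme `T` over `S` and every `T`-point `ζ` of `X` whose composite with `π`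
lifts to `Y'`, every `T`-point of `G` fixing `ζ` is the unit (this is freeness of the base-changed
action of `G ×_S Y'` on `X ×_Y Y'`, written through points of `G` and `X`). (`G` finite flat is read
as finite locally free. The published result also says that `X ×_Y Y'` is then a torsor under
`G_{Y'}` and gives a third equivalent condition, that after a further fppf base change the action is
induced from an action of the trivial group; neither is stated here.) -/
theorem result
    (R A B K : Type u) [CommRing R] [CommRing A] [HopfAlgebra R A]
    [Module.Flat R A] [Module.Finite R A] [Module.Projective R A]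
    [CommRing B] [Algebra R B] [HopfRep.Comod R A B] [GLin.IsCoactAlg R A B]
    [Field K] [Algebra R K] (x : B →ₐ[R] K) :
    (∀ (T : Over (Spec (CommRingCat.of R))) (h : T ⟶ CoactBr.sp R K) (g : T ⟶ CoactBr.sp R A),
        lift g (h ≫ CoactBr.pt x) ≫ (CoactBr.action R A B).act = h ≫ CoactBr.pt x → g = 1) ↔
      ∃ (Y' : Scheme.{u}) (c : Y' ⟶ Spec (CommRingCat.of (GLin.invariants R A B))),
        Flat c ∧ LocallyOfFinitePresentation c ∧
        (∃ y' : Y', c.base y' =
          (Spec.map (CommRingCat.ofHom (x.toRingHom.comp (GLin.invariants R A B).val.toRingHom))).base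
            (IsLocalRing.closedPoint K)) ∧
        ∀ (T : Over (Spec (CommRingCat.of R))) (ζ : T ⟶ CoactBr.sp R B),
          (∃ t : T.left ⟶ Y', t ≫ c = ζ.left ≫ Spec.map (CommRingCat.ofHom (GLin.invariants R A B).val.toRingHom)) →
          ∀ g : T ⟶ CoactBr.sp R A, lift g ζ ≫ (CoactBr.action R A B).act = ζ → g = 1 := by
  constructor
  · intro hx
    obtain ⟨f, hf, hfree⟩ := Groth.Misc8.CoactInertia.exists_invariant_free (A := A) hx
    let U : (Spec (CommRingCat.of (GLin.invariants R A B))).Opens := PrimeSpectrum.basicOpen f
    refine ⟨U.toScheme, U.ι, inferInstance, inferInstance, ⟨⟨_, ?_⟩, rfl⟩, ?_⟩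
    · show f ∉ Ideal.comap _ (IsLocalRing.maximalIdeal K)
      rw [Ideal.mem_comap, IsLocalRing.maximalIdeal_eq_bot]
      exact hf
    intro T ζ ⟨t, ht⟩ g hg
    refine Groth.Misc8.CoactInertia.hom_ext_points g 1 fun C _ _ s => ?_
    obtain ⟨y, hy⟩ := Groth.Misc8.CoactInertia.pt_surjective (s ≫ ζ)
    obtain ⟨k, hk⟩ := Groth.Misc8.CoactInertia.pt_surjective (s ≫ g)
    have h := congrArg (s ≫ ·) ((Groth.Misc8.CoactInertia.fix_iff g ζ).mp hg)
    simp only [comp_lift_assoc] at h
    rw [← hy, ← hk, CoactBr.lift_pt_ract] at h
    have hu : IsUnit (y (f : B)) := by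
      by_contra hu
      obtain ⟨m, hm, hmem⟩ := exists_max_ideal_of_mem_nonunits hu
      have e : Spec.map (CommRingCat.ofHom (y.toRingHom.comp (GLin.invariants R A B).val.toRingHom)) =
          (s.left ≫ t) ≫ U.ι := by
        rw [Category.assoc, ht, ← Category.assoc, ← Over.comp_left, ← hy, CoactBr.pt_left, CommRingCat.ofHom_comp,
          Spec.map_comp]
        rfl
      have h2 : (Spec.map (CommRingCat.ofHom (y.toRingHom.comp (GLin.invariants R A B).val.toRingHom))).base
          ⟨m, hm.isPrime⟩ ∈ U := by
        rw [e]
        exact ((s.left ≫ t).base ⟨m, hm.isPrime⟩).2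
      exact h2 hmem
    rw [← hk, hfree C y k (CoactBr.pt_injective h) hu, MonObj.comp_one, CoactBr.one_eq_pt]
  · rintro ⟨Y', c, _, _, ⟨y', hy'⟩, hfree⟩ T h g hg
    let m := (h ≫ CoactBr.pt x).left ≫ Spec.map (CommRingCat.ofHom (GLin.invariants R A B).val.toRingHom)
    let T' : Over (Spec (CommRingCat.of R)) := Over.mk (Limits.pullback.fst m c ≫ T.hom)
    let π : T' ⟶ T := Over.homMk (Limits.pullback.fst m c) rfl
    haveI : Flat (Limits.pullback.fst m c) := MorphismProperty.pullback_fst (P := @Flat) m c ‹_›
    haveI : Surjective (Limits.pullback.fst m c) := by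
      refine ⟨fun z => ?_⟩
      have hz : m.base z = c.base y' := by
        rw [hy']
        have : m = h.left ≫ Spec.map (CommRingCat.ofHom (x.toRingHom.comp (GLin.invariants R A B).val.toRingHom)) := by
          simp only [m, Over.comp_left, Category.assoc, CoactBr.pt_left, CommRingCat.ofHom_comp, Spec.map_comp]
          rfl
        rw [this]
        rw [Scheme.Hom.comp_apply]
        exact congrArg _ (Subsingleton.elim (α := PrimeSpectrum K) (h.left.base z) (IsLocalRing.closedPoint K))
      obtain ⟨w, hw, -⟩ := Scheme.Pullback.exists_preimage_pullback z y' hz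
      exact ⟨w, hw⟩
    haveI : Epi π.left := Flat.epi_of_flat_of_surjective (Limits.pullback.fst m c)
    haveI : Epi π := Over.epi_of_epi_left π
    have key : π ≫ g = 1 := by
      refine hfree T' (π ≫ h ≫ CoactBr.pt x) ⟨Limits.pullback.snd m c, ?_⟩ _ ?_
      · exact Limits.pullback.condition.symm
      · have := congrArg (π ≫ ·) hg
        simp only [comp_lift_assoc] at this
        exact this
    rw [← cancel_epi π, key, MonObj.comp_one]

end Groth.Agent.S14982
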