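import Groth.Statements.S14985
import Groth.Agent.Calg3.K0Nilpotent
import Groth.Agent.Calg8.Cancellation

set_option autoImplicit false
universe u
open CAlg

namespace Groth.Agent.S14985

open TensorProduct Groth.Calg3.K0Proj Polynomial

variable {R : Type u} [CommRing R] (P : Type u) [AddCommGroup P] [Module R P] [Module.Finite R P]
  [Module.Projective R P]

/-- Tensor powers as bundled modules. -/
noncomputable def T : ℕ → FPMod R
  | 0 => FPMod.of R R
  | k + 1 => FPMod.of R (T k ⊗[R] P)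

theorem nonempty_tensorPower_equiv_T : ∀ k : ℕ, Nonempty (TensorPower R k P ≃ₗ[R] T (R := R) P k)
  | 0 => ⟨(TensorPower.algebraMap₀ (R := R) (M := P)).symm⟩
  | k + 1 => by
    obtain ⟨e⟩ := nonempty_tensorPower_equiv_T k
    exact ⟨(TensorPower.mulEquiv (R := R) (M := P) (n := k) (m := 1)).symm.trans
      (TensorProduct.congr e (PiTensorProduct.subsingletonEquiv (R := R) (s := fun _ : Fin 1 => P) (0 : Fin 1)))⟩

theorem nonempty_T_add (a : ℕ) : ∀ b : ℕ, Nonempty (T (R := R) P (a + b) ≃ₗ[R] (T (R := R) P a ⊗[R] T (R := R) P b))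
  | 0 => ⟨(TensorProduct.rid R (T (R := R) P a)).symm⟩
  | b + 1 => by
    obtain ⟨e⟩ := nonempty_T_add a b
    exact ⟨(TensorProduct.congr e (LinearEquiv.refl R P)).trans (TensorProduct.assoc R _ _ _)⟩

theorem rankAtStalk_T [Nontrivial R] : ∀ (k : ℕ) (p : PrimeSpectrum R),
    Module.rankAtStalk (R := R) (T (R := R) P k) p = Module.rankAtStalk P p ^ k
  | 0, p => by
    change Module.rankAtStalk (R := R) R p = _
    rw [Module.rankAtStalk_self, pow_zero, Pi.one_apply]
  | k + 1, p => by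
    change Module.rankAtStalk (R := R) (T (R := R) P k ⊗[R] P) p = _
    rw [Module.rankAtStalk_tensorProduct, Pi.mul_apply, rankAtStalk_T k p, pow_succ]

/-- The additive map `X ^ k ↦ [P^⊗k]`. -/
noncomputable def ell : ℤ[X] →ₗ[ℤ] K R := (basisMonomials ℤ).constr ℤ fun k => cl (R := R) (T (R := R) P k)

theorem ell_X_pow (k : ℕ) : ell (R := R) P (X ^ k) = cl (R := R) (T (R := R) P k) := by
  rw [ell, X_pow_eq_monomial, ← congrFun (coe_basisMonomials ℤ) k, Module.Basis.constr_basis]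

theorem ell_mul_eq_zero (g : ℤ[X]) (hg : ∀ k, ell (R := R) P (X ^ k * g) = 0) (p : ℤ[X]) : ell (R := R) P (p * g) = 0 := by
  induction p using Polynomial.induction_on' with
  | add p q hp hq => rw [add_mul, map_add, hp, hq, add_zero]
  | monomial k a => rw [← smul_X_eq_monomial, smul_mul_assoc, map_smul, hg, smul_zero]

theorem ell_sub_pow (r : ℕ) : ∀ (m k : ℕ),
    ell (R := R) P (X ^ k * (X - (r : ℤ[X])) ^ m) = G P r m (T (R := R) P k)
  | 0, k => by rw [pow_zero, mul_one, ell_X_pow]; rfl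
  | m + 1, k => by
    have h : (X : ℤ[X]) ^ k * (X - (r : ℤ[X])) ^ (m + 1) =
        X ^ (k + 1) * (X - (r : ℤ[X])) ^ m - r • (X ^ k * (X - (r : ℤ[X])) ^ m) := by
      rw [nsmul_eq_mul]; ring
    rw [h, map_sub, map_nsmul, ell_sub_pow r m (k + 1), ell_sub_pow r m k]
    rfl

theorem exists_smul_cl_eq [Nontrivial R] (n r : ℕ) (hn : 1 ≤ n) (hr : ∀ p, Module.rankAtStalk (R := R) P p = r)
    (hr0 : 1 ≤ r) (hfree : Module.Free R (T (R := R) P n)) :
    ∃ N : ℕ, 1 ≤ N ∧ N • cl (R := R) P = (N * r) • cl (R := R) R := by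
  obtain ⟨p₀⟩ : Nonempty (PrimeSpectrum R) := inferInstance
  have hs : Module.finrank R (T (R := R) P n) = r ^ n := by
    have h := rankAtStalk_T (R := R) P n p₀
    rw [Module.rankAtStalk_eq_finrank_of_free, hr] at h
    exact h
  let eT : T (R := R) P n ≃ₗ[R] (Fin (r ^ n) → R) := (Module.finBasisOfFinrankEq R _ hs).equivFun
  obtain ⟨m, hm⟩ := exists_G_eq_zero P r hr
  have hg : ∀ p : ℤ[X], ell (R := R) P (p * (X - (r : ℤ[X])) ^ m) = 0 :=
    ell_mul_eq_zero P _ fun k => by rw [ell_sub_pow, hm]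
  have hh : ∀ p : ℤ[X], ell (R := R) P (p * (X ^ n - (r : ℤ[X]) ^ n)) = 0 := ell_mul_eq_zero P _ fun k => by
    obtain ⟨e⟩ := nonempty_T_add (R := R) P k n
    have h1 : cl (R := R) (T (R := R) P (k + n)) = (r ^ n) • cl (R := R) (T (R := R) P k) := by
      rw [cl_congr ((e.trans (TensorProduct.congr (LinearEquiv.refl R _) eT)).trans
        (TensorProduct.piScalarRight R R (T (R := R) P k) (Fin (r ^ n)))), cl_pi]
    have h2 : (X : ℤ[X]) ^ k * (X ^ n - (r : ℤ[X]) ^ n) = X ^ (k + n) - (r ^ n) • X ^ k := by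
      rw [nsmul_eq_mul, Nat.cast_pow]; ring
    rw [h2, map_sub, map_nsmul, ell_X_pow, ell_X_pow, h1, sub_self]
  obtain ⟨q, hq⟩ : (X : ℤ[X]) - (r : ℤ[X]) ∣
      (∑ i ∈ Finset.range n, X ^ i * (r : ℤ[X]) ^ (n - 1 - i)) - ((n * r ^ (n - 1) : ℕ) : ℤ[X]) := by
    rw [Nat.cast_mul, Nat.cast_pow, ← geom_sum₂_self, ← Finset.sum_sub_distrib]
    exact Finset.dvd_sum fun i _ => by rw [← sub_mul]; exact (sub_dvd_pow_sub_pow _ _ i).mul_right _
  set c : ℕ := n * r ^ (n - 1) with hc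
  have hc0 : 1 ≤ c := Nat.mul_pos hn (pow_pos hr0 _)
  have key : (X : ℤ[X]) ^ n - (r : ℤ[X]) ^ n = (c : ℤ[X]) * (X - (r : ℤ[X])) + q * (X - (r : ℤ[X])) ^ 2 := by
    have hs := geom_sum₂_mul (X : ℤ[X]) (r : ℤ[X]) n
    rw [sub_eq_iff_eq_add] at hq
    rw [← hs, hq]; ring
  have main : ∀ j : ℕ, ∃ a b : ℤ[X], (c : ℤ[X]) ^ j * (X - (r : ℤ[X])) =
      a * (X ^ n - (r : ℤ[X]) ^ n) + b * (X - (r : ℤ[X])) ^ (j + 1) := by
    intro j
    induction j with
    | zero => exact ⟨0, 1, by ring⟩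
    | succ j ih =>
      obtain ⟨a, b, hab⟩ := ih
      refine ⟨(c : ℤ[X]) * a + b * (X - (r : ℤ[X])) ^ j, -b * q, ?_⟩
      rw [pow_succ' (c : ℤ[X]), mul_assoc, hab, key]; ring
  obtain ⟨a, b, hab⟩ := main m
  refine ⟨c ^ m, Nat.one_le_pow _ _ hc0, ?_⟩
  have h0 : ell (R := R) P ((c : ℤ[X]) ^ m * (X - (r : ℤ[X]))) = 0 := by
    rw [hab, map_add, hh, pow_succ', ← mul_assoc, hg, add_zero]
  have h1 : (c : ℤ[X]) ^ m * (X - (r : ℤ[X])) = (c ^ m) • X ^ 1 - (c ^ m * r) • X ^ 0 := by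
    rw [nsmul_eq_mul, nsmul_eq_mul]; push_cast; ring
  rw [h1, map_sub, map_nsmul, map_nsmul, ell_X_pow, ell_X_pow, sub_eq_zero] at h0
  calc c ^ m • cl (R := R) P = c ^ m • cl (R := R) (T (R := R) P 1) :=
        congrArg (c ^ m • ·) (cl_congr (TensorProduct.lid R P).symm)
    _ = _ := h0

/-- Let R be a Noetherian commutative ring of finite Krull dimension and P a finitely generated
projective R-module. If the n-th tensor power of P is free for some n ≥ 1, then the direct sum of N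
copies of P is free for some N ≥ 1. -/
theorem result (R : Type u) [CommRing R] [IsNoetherianRing R]
    (hdim : ringKrullDim R < ⊤) (P : Type u) [AddCommGroup P] [Module R P] [Module.Finite R P]
    [Module.Projective R P] (n : ℕ) (hn : 1 ≤ n) (hfree : Module.Free R (TensorPower R n P)) :
    ∃ N : ℕ, 1 ≤ N ∧ Module.Free R (Fin N → P) := by
  rcases subsingleton_or_nontrivial R with hR | hR
  · haveI := Module.subsingleton R (Fin 1 → P)
    exact ⟨1, le_rfl, inferInstance⟩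
  obtain ⟨en⟩ := nonempty_tensorPower_equiv_T (R := R) P n
  have hfreeT : Module.Free R (T (R := R) P n) := Module.Free.of_equiv en
  obtain ⟨p₀⟩ : Nonempty (PrimeSpectrum R) := inferInstance
  have hr : ∀ p, Module.rankAtStalk (R := R) P p = Module.rankAtStalk (R := R) P p₀ := fun p =>
    Nat.pow_left_injective (by omega : n ≠ 0) (show _ ^ n = _ ^ n by
      rw [← rankAtStalk_T (R := R) P n p, ← rankAtStalk_T (R := R) P n p₀, Module.rankAtStalk_eq_finrank_of_free]
      rfl)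
  rcases Nat.eq_zero_or_pos (Module.rankAtStalk (R := R) P p₀) with h0 | h0
  · haveI : Subsingleton P :=
      (Module.rankAtStalk_eq_zero_iff_subsingleton (R := R)).mp (funext fun p => (hr p).trans h0)
    exact ⟨1, le_rfl, inferInstance⟩
  obtain ⟨N, hN, hcl⟩ := exists_smul_cl_eq P n _ hn hr h0 hfreeT
  obtain ⟨d, hd⟩ : ∃ d : ℕ, ringKrullDim R = d := by
    have h1 := ringKrullDim_nonneg_of_nontrivial (R := R)
    revert h1 hdim
    generalize ringKrullDim R = x
    intro hdim h1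
    induction x using WithBot.recBotCoe with
    | bot => simp at h1
    | coe y =>
      induction y using ENat.recTopCoe with
      | top => simp at hdim
      | coe d => exact ⟨d, rfl⟩
  refine ⟨(d + 1) * N, Nat.one_le_iff_ne_zero.mpr (Nat.mul_ne_zero (by omega) (by omega)), ?_⟩
  set r := Module.rankAtStalk (R := R) P p₀
  have hcl' : cl (R := R) (Fin ((d + 1) * N) → P) = cl (R := R) (Fin ((d + 1) * (N * r)) → R) := by
    rw [cl_pi, cl_pi, mul_smul, hcl, ← mul_smul]
  obtain ⟨s, ⟨e⟩⟩ := exists_stable_equiv hcl'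
  obtain ⟨e'⟩ := Groth.Calg8.cancel hd s (P := Fin ((d + 1) * (N * r)) → R) (fun p => by
    rw [Module.rankAtStalk_eq_finrank_of_free, Pi.natCast_apply, Module.finrank_fin_fun, Nat.cast_id]
    calc d < d + 1 := Nat.lt_succ_self d
      _ = (d + 1) * (1 * 1) := by omega
      _ ≤ (d + 1) * (N * r) := Nat.mul_le_mul_left _ (Nat.mul_le_mul hN h0)) e
  exact Module.Free.of_equiv e'.symm

end Groth.Agent.S14985
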