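import Groth.Statements.S14988
import Groth.Agent.VBCurves.TensorDual
import Groth.Agent.LocFree.Tensor
import Groth.Agent.LocFree.Basic

set_option autoImplicit false
universe u
open CategoryTheory CategoryTheory.Limits AlgebraicGeometry
open ResProp

namespace Groth.Agent.S14988

/-- Maps out of the image of a quotient of a coproduct are determined on the summands. -/
theorem hom_ext_of_preserves {C : Type*} [Category C] {D : Type*} [Category D] {κ : Type u} (G : C ⥤ D)
    (V : κ → C) [HasCoproduct V] [PreservesColimitsOfSize.{u, u} G] {N : C} (ρ : ∐ V ⟶ N) [Epi ρ]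
    {Z : D} (g h : G.obj N ⟶ Z)
    (hgh : ∀ l, G.map (Sigma.ι V l ≫ ρ) ≫ g = G.map (Sigma.ι V l ≫ ρ) ≫ h) : g = h := by
  haveI : PreservesColimitsOfShape WalkingSpan G := by
    haveI : PreservesColimitsOfSize.{0, 0} G := preservesSmallestColimits_of_preservesColimits G
    infer_instance
  refine (cancel_epi (G.map ρ)).1 ((isColimitOfPreserves G (coproductIsCoproduct V)).hom_ext
    fun ⟨l⟩ => ?_)
  simpa [Category.assoc] using hgh l

/-- In the case of schemes, let f : X ⟶ Y be a morphism of quasi-compact quasi-separated schemes. If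
every quasi-coherent module on Y is a quotient of a direct sum of finite locally free modules (Y has
the resolution property) and some family (W_i) of finite locally free modules on X is f-generating,
i.e. every quasi-coherent module on X is a quotient of a direct sum of modules W_i ⊗ f^*N with N
quasi-coherent on Y, then every quasi-coherent module on X is a quotient of a direct sum of finite
locally free modules (X has the resolution property). (The published statement is for quasi-compact
quasi-separated morphisms of algebraic stacks and assumes the family universally f-generating; this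
row is the case of schemes and assumes the family only f-generating, which is what the argument
uses.) -/
theorem result {X Y : Scheme.{u}}
    [CompactSpace X] [QuasiSeparatedSpace X] [CompactSpace Y] [QuasiSeparatedSpace Y] (f : X ⟶ Y)
    (hY : ∀ N : Y.Modules, Coh.IsQCoh N →
      ∃ (κ : Type u) (V : κ → Y.Modules) (π : (∐ V) ⟶ N), (∀ k, FlatMod.IsFinLocFree (V k)) ∧ Epi π)
    {ι : Type u} (W : ι → X.Modules) (hW : ∀ i, FlatMod.IsFinLocFree (W i))
    (hf : ∀ M : X.Modules, Coh.IsQCoh M →
      ∃ (κ : Type u) (j : κ → ι) (N : κ → Y.Modules)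
        (π : (∐ fun k => CohB1.tensorMod (W (j k)) ((Scheme.Modules.pullback f).obj (N k))) ⟶ M),
        (∀ k, Coh.IsQCoh (N k)) ∧ Epi π) :
    ∀ M : X.Modules, Coh.IsQCoh M →
      ∃ (κ : Type u) (E : κ → X.Modules) (π : (∐ E) ⟶ M), (∀ k, FlatMod.IsFinLocFree (E k)) ∧ Epi π := by
  classical
  haveI := fun i => hW i
  intro M hM
  obtain ⟨κ, j, N, π, hN, hπ⟩ := hf M hM
  choose κ' V ρ hV hρ using fun k => hY (N k) (hN k)
  let G := fun k => Scheme.Modules.pullback f ⋙ Groth.CohTwo.SheafHomIso.tF (W (j k))
  let S : (Σ k, κ' k) → X.Modules := fun p => (G p.1).obj (V p.1 p.2)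
  let E : κ → X.Modules := fun k => CohB1.tensorMod (W (j k)) ((Scheme.Modules.pullback f).obj (N k))
  let π' : (∐ E) ⟶ M := π
  have hπ' : Epi π' := hπ
  let a : ∀ p, S p ⟶ M := fun p => (G p.1).map (Sigma.ι (V p.1) p.2 ≫ ρ p.1) ≫ Sigma.ι E p.1 ≫ π'
  refine ⟨(Σ k, κ' k), S, Sigma.desc a, fun p => Groth.LocFree.isFinLocFree_tensorMod (hW _)
    (Groth.LocFree.isFinLocFree_pullback f (hV _ _)), ⟨fun {Z} g h hgh => ?_⟩⟩
  refine (cancel_epi π').1 (Sigma.hom_ext _ _ fun k => ?_)
  haveI := hρ k
  letI := Groth.Duality.SheafHom.hasSheafHom (X := X)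
  haveI : PreservesColimitsOfSize.{u, u} (Groth.CohTwo.SheafHomIso.tF (W (j k))) :=
    (DCoh.sheafHomAdj (W (j k))).leftAdjoint_preservesColimits
  haveI : PreservesColimitsOfSize.{u, u} (Scheme.Modules.pullback f) :=
    (Scheme.Modules.pullbackPushforwardAdjunction f).leftAdjoint_preservesColimits
  haveI : PreservesColimitsOfSize.{u, u} (G k) := comp_preservesColimits _ _
  refine hom_ext_of_preserves (G k) (V k) (ρ k) _ _ fun l => ?_
  have h3 : Sigma.ι S ⟨k, l⟩ ≫ Sigma.desc a ≫ g = Sigma.ι S ⟨k, l⟩ ≫ Sigma.desc a ≫ h :=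
    congrArg (fun q => Sigma.ι S ⟨k, l⟩ ≫ q) hgh
  rw [Sigma.ι_desc_assoc, Sigma.ι_desc_assoc] at h3
  have h2 := h3
  simp only [a, Category.assoc] at h2
  exact h2

end Groth.Agent.S14988
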