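import Groth.Statements.S14989
import Groth.Agent.ResPropLib.FlatCover
import Groth.Agent.ResPropLib.Generators
import Groth.Agent.CohTwo.CohSub

set_option autoImplicit false
universe u
open CategoryTheory CategoryTheory.Limits AlgebraicGeometry
open ResProp

namespace Groth.Agent.S14989

/-- In the case of schemes, on a Noetherian integral scheme Y with affine diagonal (any two affine opens
meet in an affine open) every coherent module is a quotient of a torsion-free coherent module,
torsion-freeness meaning that each stalk is a torsion-free module over the local ring. (The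
published statement is for Noetherian integral algebraic stacks with affine diagonal; this row is
the case of schemes.) -/
theorem result (Y : Scheme.{u}) [IsNoetherian Y] [IsIntegral Y]
    (hd : ∀ V W : Y.Opens, IsAffineOpen V → IsAffineOpen W → IsAffineOpen (V ⊓ W))
    (F : Y.Modules) (hF : Coh.IsCoh F) :
    ∃ (F' : Y.Modules) (π : F' ⟶ F), Coh.IsCoh F' ∧
      (∀ y : Y, NoZeroSMulDivisors ↥(Y.presheaf.stalk y) ↥(F'.presheaf.stalk y)) ∧ Epi π := by
  classical
  haveI := hF.1
  obtain ⟨F', π, hq, hflat, hπ⟩ := Groth.ResPropLib.exists_flat_cover hd F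
  haveI := hq
  obtain ⟨s, hs⟩ := isCompact_univ.elim_finite_subcover (fun V : Y.affineOpens => ((V : Y.Opens) : Set Y))
    (fun V => (V : Y.Opens).2) fun x _ => by
      obtain ⟨V, hV, hxV⟩ := Groth.QCohMod.exists_affine_mem x
      exact Set.mem_iUnion.2 ⟨⟨V, hV⟩, hxV⟩
  let W : s → Y.Opens := fun V => (V.1 : Y.Opens)
  have hcov : ∀ x, ∃ j, x ∈ W j := fun x => by
    obtain ⟨V, hV, hxV⟩ := Set.mem_iUnion₂.1 (hs (Set.mem_univ x))
    exact ⟨⟨V, hV⟩, hxV⟩
  have hfin : ∀ j, ∃ S : Finset Γ(F', W j),
      Submodule.span Γ(Y, W j) ((S.image (π.app (W j)) : Finset Γ(F, W j)) : Set Γ(F, W j)) = ⊤ := fun j => by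
    have := Groth.QCohMod.finite_sections F hF.2 j.1.2
    obtain ⟨G, hG⟩ := Module.Finite.fg_top (R := Γ(Y, W j)) (M := Γ(F, W j))
    choose l hl using Groth.QCohMod.app_surjective_of_epi π (U := W j) j.1.2
    refine ⟨G.image l, ?_⟩
    convert hG
    simp [Finset.image_image, Function.comp_def, hl]
  choose S hS using hfin
  obtain ⟨K, i, hi, hK, hKS⟩ := Groth.CohTwo.exists_coh_sub F' W (fun j => j.1.2) hcov S
  haveI := hi
  haveI := hK.1
  refine ⟨K, i ≫ π, hK, fun y => ?_, ?_⟩
  · let g := RefHull.stalkMapₗ i y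
    have hg : Function.Injective g := by
      have : Mono ((Groth.DerivedCoh.KFlat.stk y).map i) := inferInstance
      exact (ModuleCat.mono_iff_injective _).1 this
    haveI : Module.Flat (Y.presheaf.stalk y) (F'.presheaf.stalk y) := hflat y
    refine ⟨fun {c v} h => ?_⟩
    by_cases hc : c = 0
    · exact Or.inl hc
    · refine Or.inr (hg ?_)
      rw [map_zero]
      have h' : c • g v = 0 := by rw [← map_smul, h, map_zero]
      exact (smul_eq_zero.1 h').resolve_left hc
  · refine Groth.ResPropLib.epi_of_generators (i ≫ π) W (fun j => j.1.2) hcov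
      (fun j => ((S j).image (π.app (W j)) : Set Γ(F, W j))) hS fun j t ht => ?_
    obtain ⟨a, ha, rfl⟩ := Finset.mem_image.1 (Finset.mem_coe.1 ht)
    obtain ⟨b, hb⟩ := hKS j a ha
    exact ⟨b, by rw [← hb]; rfl⟩

end Groth.Agent.S14989
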