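import Groth.Statements.S14990
import Mathlib
import Groth.Agent.Variety2.ZeroScheme
import Groth.Agent.Variety2.BertiniJets

set_option autoImplicit false
universe u
open CategoryTheory CategoryTheory.Limits AlgebraicGeometry
open Variety

namespace Groth.Agent.S14990

open Groth.PicAux in
/-- The germ of a generator is a basis of the stalk. -/
theorem smul_germ_gen {X : Scheme.{u}} {L : X.Modules} {W : X.Opens} {e : Γ(L, W)} (he : Gen L W e)
    {x : X} (hx : x ∈ W) :
    Function.Bijective fun r : X.presheaf.stalk x => r • L.presheaf.germ W x hx e := by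
  constructor
  · intro r r' h
    obtain ⟨U, hxU, a, rfl⟩ := X.presheaf.exists_germ_eq r
    obtain ⟨U', hxU', a', rfl⟩ := X.presheaf.exists_germ_eq r'
    let V : X.Opens := U ⊓ U' ⊓ W
    have hV : x ∈ V := ⟨⟨hxU, hxU'⟩, hx⟩
    have e1 : ∀ (U : X.Opens) (hxU : x ∈ U) (hVU : V ≤ U) (a : Γ(X, U)),
        X.presheaf.germ U x hxU a • L.presheaf.germ W x hx e =
          L.presheaf.germ V x hV (resX X hVU a • res L (inf_le_right : V ≤ W) e) := by
      intro U hxU hVU a
      refine Eq.trans ?_ (PresheafOfModules.germ_smul L.val x V hV (resX X hVU a) (res L (inf_le_right : V ≤ W) e)).symm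
      exact congrArg₂ (· • ·) (X.presheaf.germ_res_apply (homOfLE hVU) x hV a).symm
        (L.presheaf.germ_res_apply (homOfLE (inf_le_right : V ≤ W)) x hV e).symm
    change _ • _ = _ • _ at h
    rw [e1 U hxU (inf_le_left.trans inf_le_left) a, e1 U' hxU' (inf_le_left.trans inf_le_right) a'] at h
    obtain ⟨V', hxV', i, i', hV'⟩ := L.presheaf.germ_eq x hV hV _ _ h
    have h2 : res L i.le (resX X (inf_le_left.trans inf_le_left : V ≤ U) a • res L (inf_le_right : V ≤ W) e) =
        res L i.le (resX X (inf_le_left.trans inf_le_right : V ≤ U') a' • res L (inf_le_right : V ≤ W) e) := hV'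
    rw [res_smul, res_smul, res_res, resX_resX, resX_resX] at h2
    have h3 := he.smul_inj (i.le.trans inf_le_right) h2
    rw [← X.presheaf.germ_res_apply (homOfLE (i.le.trans (inf_le_left.trans inf_le_left) : V' ≤ U)) x hxV' a,
      ← X.presheaf.germ_res_apply (homOfLE (i.le.trans (inf_le_left.trans inf_le_right) : V' ≤ U')) x hxV' a']
    exact congrArg (X.presheaf.germ V' x hxV') h3
  · intro m
    obtain ⟨U, hxU, m, rfl⟩ := L.presheaf.exists_germ_eq m
    let V : X.Opens := U ⊓ W
    obtain ⟨r, hr⟩ := he.exists_coeff (inf_le_right : V ≤ W) (res L (inf_le_left : V ≤ U) m)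
    refine ⟨X.presheaf.germ V x ⟨hxU, hx⟩ r, ?_⟩
    change _ • L.presheaf.germ W x hx e = _
    rw [← L.presheaf.germ_res_apply (homOfLE (inf_le_left : V ≤ U)) x ⟨hxU, hx⟩ m]
    refine Eq.trans ?_ (congrArg (L.presheaf.germ V x ⟨hxU, hx⟩) hr).symm
    refine Eq.trans ?_ (PresheafOfModules.germ_smul L.val x V ⟨hxU, hx⟩ r _).symm
    exact congrArg₂ (· • ·) rfl (L.presheaf.germ_res_apply (homOfLE (inf_le_right : V ≤ W)) x _ e).symm

/-- Let k be an algebraically closed field, Y a scheme smooth and of finite type over k, L an invertible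
O_Y-module, s_1, …, s_m global sections of L (morphisms O_Y ⟶ L) such that at every closed point p
the span of the s_i maps onto L_p/m_p^2 L_p, and f a further global section of L. Then the zero
scheme of f + Σ c_i s_i is smooth over k for all c outside the zero set of some nonzero polynomial
in m variables. (The published hypothesis is stated at every point of Y; it can only hold at closed
points, which is where the argument uses it, so this row asks it at closed points.) -/
theorem result (k : Type u) [Field k] [IsAlgClosed k]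
    (Y : Scheme.{u}) [Y.Over (Spec (CommRingCat.of k))] [Smooth (Y ↘ Spec (CommRingCat.of k))]
    [QuasiCompact (Y ↘ Spec (CommRingCat.of k))]
    (L : Y.Modules) (hL : FlatMod.IsFinLocFreeOfRank 1 L) (m : ℕ)
    (s : Fin m → (Coh.structureModule Y ⟶ L)) (f : Coh.structureModule Y ⟶ L)
    (hjet : ∀ p : Y, IsClosed ({p} : Set Y) → ∀ l : ↥(L.presheaf.stalk p), ∃ c : Fin m → k,
      (L.presheaf.germ ⊤ p trivial)
          (PicF2.secVal L (∑ i : Fin m, Formal.smulMod k (Coh.structureModule Y) (c i) ≫ s i) ⊤) - l ∈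
        (IsLocalRing.maximalIdeal ↥(Y.presheaf.stalk p)) ^ 2 •
          (⊤ : Submodule ↥(Y.presheaf.stalk p) ↥(L.presheaf.stalk p))) :
    ∃ q : MvPolynomial (Fin m) k, q ≠ 0 ∧ ∀ c : Fin m → k, MvPolynomial.eval c q ≠ 0 →
      Smooth ((PicF2.zeroScheme L (f + ∑ i : Fin m, Formal.smulMod k (Coh.structureModule Y) (c i) ≫ s i)).subschemeι ≫
        (Y ↘ Spec (CommRingCat.of k))) := by
  classical
  open Groth.Variety2 Groth.PicAux in
  have hinv : PicF.IsInvertible L := Zero.isInvertible_of_rank_one hL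
  open Groth.Variety2 Groth.PicAux in
  have hcov : ∀ x : Y, ∃ W : Y.affineOpens, x ∈ W.1 ∧ ∃ e : Γ(L, W.1), Gen L W.1 e := by
    intro x
    obtain ⟨V, e, hxV, he⟩ := (isInvertible_iff_exists_gen L).1 hinv x
    obtain ⟨W, hW, hxW, hWV⟩ := exists_isAffineOpen_mem_and_subset (U := V) hxV
    exact ⟨⟨W, hW⟩, hxW, _, he.res hWV⟩
  choose W hxW e he using hcov
  have hWa : ∀ x, IsAffineOpen (W x).1 := fun x => (W x).2
  have : CompactSpace Y := QuasiCompact.compactSpace_of_compactSpace (Y ↘ Spec (CommRingCat.of k))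
  have : JacobsonSpace Y := LocallyOfFiniteType.jacobsonSpace (Y ↘ Spec (CommRingCat.of k))
  obtain ⟨T, hT⟩ := isCompact_univ.elim_finite_subcover (fun x => ((W x).1 : Set Y))
    (fun x => (W x).1.2) (fun x _ => Set.mem_iUnion.2 ⟨x, hxW x⟩)
  let φ : ∀ x, CommRingCat.of k ⟶ Γ(Y, (W x).1) := fun x =>
    (Scheme.ΓSpecIso (CommRingCat.of k)).inv ≫ (Y ↘ Spec (CommRingCat.of k)).appLE ⊤ (W x).1 le_top
  have hφspec : ∀ x, Spec.map (φ x) = (hWa x).fromSpec ≫ (Y ↘ Spec (CommRingCat.of k)) := by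
    intro x
    have h0 := IsAffineOpen.SpecMap_appLE_fromSpec (Y ↘ Spec (CommRingCat.of k))
      (isAffineOpen_top _) (hWa x) le_top
    rw [IsAffineOpen.fromSpec_top, Scheme.isoSpec_Spec_inv] at h0
    rw [← h0, Spec.map_comp]
  have hφsm : ∀ x, (φ x).hom.Smooth := fun x =>
    (RingHom.Smooth.respectsIso.cancel_left_isIso (Scheme.ΓSpecIso (CommRingCat.of k)).inv
      ((Y ↘ Spec (CommRingCat.of k)).appLE ⊤ (W x).1 le_top)).2
      ((Y ↘ Spec (CommRingCat.of k)).smooth_appLE (isAffineOpen_top _) (hWa x) le_top)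
  choose a ha using fun x (i : Fin m) =>
    (he x).exists_coeff le_rfl (Groth.Variety2.Zero.val L (s i) (W x).1)
  choose b hb using fun x => (he x).exists_coeff le_rfl (Groth.Variety2.Zero.val L f (W x).1)
  simp only [Groth.PicAux.res_self] at ha hb
  -- values of linear combinations
  have hval : ∀ x (c : Fin m → k), Groth.Variety2.Zero.val L
      (∑ i : Fin m, Formal.smulMod k (Coh.structureModule Y) (c i) ≫ s i) (W x).1 =
      (∑ i, (φ x).hom (c i) * a x i) • e x := by
    intro x c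
    rw [Groth.Variety2.Zero.val_sum, Finset.sum_smul]
    refine Finset.sum_congr rfl fun i _ => ?_
    rw [mul_smul, ← ha x i]
    exact (s i).app_smul ((φ x).hom (c i)) _
  -- jets at maximal ideals
  have hjets : ∀ x (P : PrimeSpectrum Γ(Y, (W x).1)), P.asIdeal.IsMaximal → ∀ l : Γ(Y, (W x).1),
      ∃ c : Fin m → k, (∑ i, (φ x).hom (c i) * a x i) - l ∈ P.asIdeal ^ 2 := by
    intro x P hP l
    let p : Y := (hWa x).fromSpec P
    have hpW : p ∈ (W x).1 := (hWa x).range_fromSpec.le ⟨P, rfl⟩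
    have hpc : IsClosed ({p} : Set Y) := by
      have hPc : P ∈ closedPoints (PrimeSpectrum Γ(Y, (W x).1)) :=
        (PrimeSpectrum.isClosed_singleton_iff_isMaximal P).2 hP
      have heq : (hWa x).fromSpec ⁻¹' closedPoints Y = closedPoints _ :=
        (hWa x).fromSpec.isOpenEmbedding.preimage_closedPoints
      exact heq.ge hPc
    obtain ⟨c, hc⟩ := hjet p hpc (L.presheaf.germ (W x).1 p hpW (l • e x))
    refine ⟨c, ?_⟩
    set z := (∑ i, (φ x).hom (c i) * a x i) - l
    have h1 : L.presheaf.germ (W x).1 p hpW (z • e x) ∈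
        (IsLocalRing.maximalIdeal ↥(Y.presheaf.stalk p)) ^ 2 •
          (⊤ : Submodule ↥(Y.presheaf.stalk p) ↥(L.presheaf.stalk p)) := by
      convert hc using 1
      rw [sub_smul, map_sub, ← hval x c, ← Groth.Variety2.Zero.res_val L _ (le_top : (W x).1 ≤ ⊤)]
      congr 1
      exact L.presheaf.germ_res_apply _ _ _ _
    set ge := L.presheaf.germ (W x).1 p hpW (e x)
    set gz := Y.presheaf.germ (W x).1 p hpW z
    have h2 : L.presheaf.germ (W x).1 p hpW (z • e x) = gz • ge :=
      PresheafOfModules.germ_smul L.val p (W x).1 hpW z (e x)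
    rw [h2] at h1
    have hbij := smul_germ_gen (he x) hpW
    have h3 : ∀ w ∈ (IsLocalRing.maximalIdeal ↥(Y.presheaf.stalk p)) ^ 2 •
        (⊤ : Submodule ↥(Y.presheaf.stalk p) ↥(L.presheaf.stalk p)),
        ∃ r ∈ (IsLocalRing.maximalIdeal ↥(Y.presheaf.stalk p)) ^ 2, r • ge = w := by
      intro w hw
      refine Submodule.smul_induction_on hw (fun r hr n _ => ?_) ?_
      · obtain ⟨t, ht⟩ := hbij.2 n
        exact ⟨r * t, Ideal.mul_mem_right t _ hr, by rw [mul_smul]; exact congrArg (r • ·) ht⟩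
      · intro w w' h h'
        obtain ⟨r, hr, rfl⟩ := h
        obtain ⟨r', hr', rfl⟩ := h'
        exact ⟨r + r', add_mem hr hr', add_smul r r' ge⟩
    obtain ⟨r, hr, hre⟩ := h3 _ h1
    have hgz : gz ∈ (IsLocalRing.maximalIdeal ↥(Y.presheaf.stalk p)) ^ 2 := (hbij.1 hre) ▸ hr
    -- back to the affine ring
    let := (Y.presheaf.germ (W x).1 p hpW).hom.toAlgebra
    have hloc : IsLocalization.AtPrime (Y.presheaf.stalk p) P.asIdeal := by
      have h := (hWa x).isLocalization_stalk ⟨p, hpW⟩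
      have hP' : (hWa x).primeIdealOf ⟨p, hpW⟩ = P :=
        (hWa x).fromSpec.isOpenEmbedding.injective ((hWa x).fromSpec_primeIdealOf ⟨p, hpW⟩)
      exact hP' ▸ h
    rw [← IsLocalization.AtPrime.map_eq_maximalIdeal P.asIdeal (Y.presheaf.stalk p), ← Ideal.map_pow] at hgz
    obtain ⟨⟨y, w⟩, hyw⟩ := (IsLocalization.mem_map_algebraMap_iff P.asIdeal.primeCompl (Y.presheaf.stalk p)).1 hgz
    change algebraMap Γ(Y, (W x).1) _ z * algebraMap Γ(Y, (W x).1) _ w.1 = algebraMap Γ(Y, (W x).1) _ y.1 at hyw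
    rw [← map_mul] at hyw
    obtain ⟨w', hw'⟩ := (IsLocalization.eq_iff_exists P.asIdeal.primeCompl (Y.presheaf.stalk p)).1 hyw
    obtain ⟨v, q, hq, hvq⟩ := hP.exists_inv (show (w' : Γ(Y, (W x).1)) * w.1 ∉ P.asIdeal from
      fun h => (P.2.mem_or_mem h).elim w'.2 w.2)
    have h5 : (w' : Γ(Y, (W x).1)) * w.1 * z ∈ P.asIdeal ^ 2 := by
      rw [mul_assoc, mul_comm w.1 z, hw']
      exact Ideal.mul_mem_left _ _ y.2
    have h6 : z ∈ P.asIdeal := (P.2.mem_or_mem (Ideal.pow_le_self two_ne_zero h5)).resolve_left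
      fun h => (P.2.mem_or_mem h).elim w'.2 w.2
    have h7 : z = v * ((w' : Γ(Y, (W x).1)) * w.1 * z) + q * z := by
      linear_combination -z * hvq
    rw [h7, pow_two]
    refine add_mem (Ideal.mul_mem_left _ v ?_) (Ideal.mul_mem_mul hq h6)
    rwa [← pow_two]
  have hloc : ∀ x, ∃ q : MvPolynomial (Fin m) k, q ≠ 0 ∧ ∀ c, MvPolynomial.eval c q ≠ 0 →
      (CommRingCat.Hom.hom (φ x ≫ CommRingCat.ofHom (Ideal.Quotient.mk
        (Ideal.span {b x + ∑ i, (φ x).hom (c i) * a x i})))).Smooth := by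
    intro x
    let := (φ x).hom.toAlgebra
    have : Algebra.Smooth k Γ(Y, (W x).1) := hφsm x
    obtain ⟨q, hq, hsm⟩ := Groth.Variety2.Bertini.exists_smooth_member_jets k Γ(Y, (W x).1) (a x) (b x) (by
      refine Groth.Variety2.Bertini.eq_top_of_forall_maximal Γ(Y, (W x).1) _ fun P hP => ?_
      set U := Submodule.span Γ(Y, (W x).1) (Set.range fun i => (a x i, KaehlerDifferential.D k Γ(Y, (W x).1) (a x i))) ⊔
        P • (⊤ : Submodule Γ(Y, (W x).1) (Γ(Y, (W x).1) × Ω[Γ(Y, (W x).1)⁄k]))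
      have hDP : ∀ y ∈ P ^ 2, KaehlerDifferential.D k Γ(Y, (W x).1) y ∈ P • (⊤ : Submodule Γ(Y, (W x).1) Ω[Γ(Y, (W x).1)⁄k]) := by
        intro y hy
        rw [pow_two] at hy
        refine Submodule.mul_induction_on hy (fun p hp q hq => ?_) ?_
        · rw [Derivation.leibniz]
          exact add_mem (Submodule.smul_mem_smul hp trivial) (Submodule.smul_mem_smul hq trivial)
        · intro p q h h'; rw [map_add]; exact add_mem h h'
      have hsmul : ∀ (v : Γ(Y, (W x).1)) (w : Ω[Γ(Y, (W x).1)⁄k]), v ∈ P → w ∈ P • (⊤ : Submodule Γ(Y, (W x).1) Ω[Γ(Y, (W x).1)⁄k]) → (v, w) ∈ U := by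
        intro v w hv hw
        refine Submodule.mem_sup_right ?_
        have h1 : (v, (0 : Ω[Γ(Y, (W x).1)⁄k])) ∈ P • (⊤ : Submodule Γ(Y, (W x).1) (Γ(Y, (W x).1) × Ω[Γ(Y, (W x).1)⁄k])) := by
          have h0 := Submodule.smul_mem_smul hv (Submodule.mem_top (R := Γ(Y, (W x).1)) (x := ((1 : Γ(Y, (W x).1)), (0 : Ω[Γ(Y, (W x).1)⁄k]))))
          rwa [Prod.smul_mk, smul_zero, smul_eq_mul, mul_one] at h0
        have h2 : ((0 : Γ(Y, (W x).1)), w) ∈ P • (⊤ : Submodule Γ(Y, (W x).1) (Γ(Y, (W x).1) × Ω[Γ(Y, (W x).1)⁄k])) := by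
          have h0 := Submodule.mem_map_of_mem (f := LinearMap.inr Γ(Y, (W x).1) Γ(Y, (W x).1) Ω[Γ(Y, (W x).1)⁄k]) hw
          rw [Submodule.map_smul''] at h0
          exact Submodule.smul_mono le_rfl le_top h0
        simpa using add_mem h1 h2
      have hjet' : ∀ l : Γ(Y, (W x).1), (l, KaehlerDifferential.D k Γ(Y, (W x).1) l) ∈ U := by
        intro l
        obtain ⟨c, hc⟩ := hjets x ⟨P, hP.isPrime⟩ hP l
        have h1 : (∑ i, (φ x).hom (c i) • (a x i, KaehlerDifferential.D k Γ(Y, (W x).1) (a x i))) ∈ U :=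
          Submodule.mem_sup_left (Submodule.sum_mem _ fun i _ =>
            Submodule.smul_mem _ _ (Submodule.subset_span ⟨i, rfl⟩))
        have h2 := hsmul _ _ (Ideal.pow_le_self two_ne_zero hc) (hDP _ hc)
        convert sub_mem h1 h2 using 1
        have hD : ∀ i, KaehlerDifferential.D k Γ(Y, (W x).1) ((φ x).hom (c i) * a x i) =
            (φ x).hom (c i) • KaehlerDifferential.D k Γ(Y, (W x).1) (a x i) := fun i => by
          rw [Derivation.leibniz,
            show (φ x).hom (c i) = algebraMap k Γ(Y, (W x).1) (c i) from (RingHom.algebraMap_toAlgebra (φ x).hom).symm ▸ rfl, Derivation.map_algebraMap, smul_zero,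
            add_zero]
        rw [map_sub, map_sum]
        simp only [hD, Prod.smul_mk, Prod.mk_sub_mk, smul_eq_mul]
        exact Prod.ext (by simp [Prod.fst_sum]) (by simp [Prod.snd_sum])
      have hone : ((1 : Γ(Y, (W x).1)), (0 : Ω[Γ(Y, (W x).1)⁄k])) ∈ U := by simpa using hjet' 1
      rintro ⟨α, ω⟩ -
      have hω : ω ∈ Submodule.span Γ(Y, (W x).1) (Set.range (KaehlerDifferential.D k Γ(Y, (W x).1))) :=
        KaehlerDifferential.span_range_derivation k Γ(Y, (W x).1) ▸ Submodule.mem_top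
      have h0 : ((0 : Γ(Y, (W x).1)), ω) ∈ U := by
        induction hω using Submodule.span_induction with
        | mem z hz =>
          obtain ⟨y, rfl⟩ := hz
          simpa using sub_mem (hjet' y) (U.smul_mem y hone)
        | zero => exact U.zero_mem
        | add y z _ _ hy hz => simpa using add_mem hy hz
        | smul r y _ hy => simpa using U.smul_mem r hy
      simpa using add_mem (U.smul_mem α hone) h0)
    exact ⟨q, hq, fun c hc => RingHom.smooth_algebraMap.2 (hsm c hc)⟩
  choose q hq hsm using hloc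
  refine ⟨∏ x ∈ T, q x, Finset.prod_ne_zero_iff.2 fun x _ => hq x, fun c hc => ?_⟩
  rw [map_prod] at hc
  set t : Coh.structureModule Y ⟶ L :=
    f + ∑ i : Fin m, Formal.smulMod k (Coh.structureModule Y) (c i) ≫ s i
  set I := PicF2.zeroScheme L t
  let g : I.subscheme ⟶ Spec (CommRingCat.of k) := I.subschemeι ≫ (Y ↘ Spec (CommRingCat.of k))
  have : LocallyOfFinitePresentation g :=
    Groth.Variety2.locallyOfFinitePresentation_of_noetherian g
  change Smooth g
  rw [← Scheme.Hom.smoothLocus_eq_top_iff, eq_top_iff]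
  intro z _
  obtain ⟨x, hxT, hzx⟩ := Set.mem_iUnion₂.1 (hT (Set.mem_univ (I.subschemeι z)))
  have : IsOpenImmersion (I.subschemeCover.f (W x)) := I.subschemeCover.map_prop _
  obtain ⟨w, hw⟩ : z ∈ (I.subschemeCover.f (W x)).opensRange := by
    rw [Scheme.IdealSheafData.opensRange_subschemeCover_map]; exact hzx
  have hideal : I.ideal (W x) = Ideal.span {b x + ∑ i, (φ x).hom (c i) * a x i} := by
    refine Groth.Variety2.Zero.zeroScheme_ideal_eq_span hinv t (W x) (he x) ?_
    rw [Groth.Variety2.Zero.val_add, hval, hb x, add_smul]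
  have hs : Smooth (I.subschemeCover.f (W x) ≫ g) := by
    have hc' : I.subschemeCover.f (W x) ≫ g =
        Spec.map (φ x ≫ CommRingCat.ofHom (Ideal.Quotient.mk (I.ideal (W x)))) := by
      rw [Spec.map_comp, hφspec x]
      simp only [g, ← Category.assoc, Scheme.IdealSheafData.subschemeCover_map_subschemeι,
        Scheme.IdealSheafData.glueDataObjι]
      simp only [Category.assoc]
      rfl
    rw [hc']
    refine (HasRingHomProperty.Spec_iff (P := @Smooth)).2 ?_
    rw [hideal]
    exact hsm x c (Finset.prod_ne_zero_iff.1 hc x hxT)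
  have h2 : w ∈ (I.subschemeCover.f (W x) ≫ g).smoothLocus := by
    rw [Scheme.Hom.smoothLocus_eq_top]; trivial
  rw [← Scheme.Hom.preimage_smoothLocus_eq] at h2
  exact hw ▸ h2

end Groth.Agent.S14990
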