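import Groth.Statements.S14994
import Mathlib
-- import your own Groth.Agent.* helpers here

set_option autoImplicit false
universe u
open CAlg

namespace Groth.Agent.S14994

/-- Let A be a Noetherian integrally closed domain, M a finitely generated torsion-free A-module, N a
submodule of M and ι : M → M** the canonical map to the double dual. Write N** → M** for the double
dual of the inclusion N → M. Then every m ∈ M whose image ι(m) lies in the image of N** is a torsion
element modulo N: some nonzero a ∈ A satisfies a·m ∈ N. In other words the preimage of N** under ι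
is contained in the saturation of N in M (the preimage of the torsion submodule of M/N), and the two
coincide when M/N is torsion-free. (The published statement asserts equality of the preimage with
the saturation for every N; for N = xA inside M = A = k[x] the saturation is all of M while N** has
image xA = N under the identification M** = M, so only the inclusion stated here holds, and it is
the inclusion later used, for saturated N, where the two sides agree.) -/
theorem result (A : Type u) [CommRing A] [IsDomain A]
    [IsNoetherianRing A] [IsIntegrallyClosed A]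
    (M : Type u) [AddCommGroup M] [Module A M] [Module.Finite A M] [NoZeroSMulDivisors A M]
    (N : Submodule A M) :
    (LinearMap.range N.subtype.dualMap.dualMap).comap (Module.Dual.eval A M) ≤
      (Submodule.torsion A (M ⧸ N)).comap N.mkQ := by
  intro m hm
  rw [Submodule.mem_comap, Submodule.mem_torsion_iff]
  by_contra hcon
  set K := FractionRing A
  let ℓ := LocalizedModule.mkLinearMap (nonZeroDivisors A) (M ⧸ N)
  set q := N.mkQ m with hq
  have hne : ℓ q ≠ 0 := by
    intro h0
    obtain ⟨a, ha⟩ := (IsLocalizedModule.eq_zero_iff (nonZeroDivisors A) ℓ).1 h0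
    exact hcon ⟨a, ha⟩
  obtain ⟨g, hg⟩ : ∃ g : Module.Dual (Localization (nonZeroDivisors A)) (LocalizedModule (nonZeroDivisors A) (M ⧸ N)), g (ℓ q) ≠ 0 := by
    by_contra hall
    push Not at hall
    exact hne ((Module.forall_dual_apply_eq_zero_iff K _).1 hall)
  obtain ⟨s, hs⟩ := (Module.Finite.fg_top : (⊤ : Submodule A (M ⧸ N)).FG)
  obtain ⟨b, hb⟩ := IsLocalization.exist_integer_multiples (S := K) (nonZeroDivisors A) s (fun x => g (ℓ x))
  let φ : (M ⧸ N) →ₗ[A] K := ((b : A) • ((g.restrictScalars A) ∘ₗ ℓ))
  have hφ : ∀ x, φ x ∈ LinearMap.range (Algebra.linearMap A K) := by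
    have : (⊤ : Submodule A (M ⧸ N)) ≤ (LinearMap.range (Algebra.linearMap A K)).comap φ := by
      rw [← hs, Submodule.span_le]
      intro x hx
      obtain ⟨a, ha⟩ := hb x hx
      exact ⟨a, ha⟩
    exact fun x => this Submodule.mem_top
  have hinjAK : Function.Injective (Algebra.linearMap A K) := IsFractionRing.injective A K
  let f : (M ⧸ N) →ₗ[A] A := (LinearEquiv.ofInjective _ hinjAK).symm.toLinearMap ∘ₗ φ.codRestrict _ hφ
  have hf : ∀ x, algebraMap A K (f x) = φ x := fun x =>
    congrArg Subtype.val ((LinearEquiv.ofInjective _ hinjAK).apply_symm_apply (φ.codRestrict _ hφ x))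
  have hfq : f q ≠ 0 := by
    intro h0
    have := hf q
    rw [h0, map_zero] at this
    have h2 : (b : A) • g (ℓ q) = 0 := this.symm
    rw [Algebra.smul_def, mul_eq_zero] at h2
    rcases h2 with h2 | h2
    · exact nonZeroDivisors.ne_zero b.2 ((injective_iff_map_eq_zero _).1 (IsFractionRing.injective A K) _ h2)
    · exact hg h2
  obtain ⟨ξ, hξ⟩ := hm
  have h3 := LinearMap.congr_fun hξ (f ∘ₗ N.mkQ)
  rw [LinearMap.dualMap_apply] at h3
  have hz : N.subtype.dualMap (f ∘ₗ N.mkQ) = 0 := by
    ext x
    show f (N.mkQ (x : M)) = 0
    rw [Submodule.mkQ_apply, (Submodule.Quotient.mk_eq_zero _).2 x.2, map_zero]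
  rw [hz, map_zero] at h3
  exact hfq h3.symm

end Groth.Agent.S14994
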