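import Groth.Statements.S15002
import Groth.Agent.CohTwo.TwistOnHilbert
import Groth.Agent.HilbStab.Scalar
import Groth.Agent.HilbStab.Cmp
import Groth.Agent.FlatMor2.StratVanish.Main

set_option autoImplicit false
universe u
open CategoryTheory CategoryTheory.Limits AlgebraicGeometry
open Coherent

namespace Groth.Agent.S15002

open Polynomial in
/-- Let k be an algebraically closed field and X an integral scheme, smooth and proper over k, with a
closed immersion ι into projective N-space over k compatible with the structure maps; write E(m) = E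
⊗ ι^*O(m). Let 1 ≤ ℓ ≤ d and let E be a coherent O_X-module whose Hilbert polynomial P (χ(E(m)) =
P(m) for all integers m) is nonzero of degree d, which is pure of dimension d (every nonzero
coherent subsheaf of E has support of Krull dimension d) and ℓ-stable: writing R(m) = Σ_i α_i(R)
m^i/i! for a polynomial R, for every coherent subsheaf F of E with Hilbert polynomial Q such that 0
< α_d(Q) < α_d(P), the vector (α_{d−1}(Q)/α_d(Q), …, α_{d−ℓ}(Q)/α_d(Q)) is strictly smaller than
(α_{d−1}(P)/α_d(P), …, α_{d−ℓ}(P)/α_d(P)) in the lexicographic order. Then E is simple: every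
endomorphism φ of E is multiplication by a scalar, i.e. there is c ∈ k with φ(s) = c·s for every
local section s of E. (The published statement gives more generally, for such E, that the
endomorphisms of the restriction of E to the complement of any closed subset meeting the support of
E in codimension at least ℓ + 1 are the scalars; this row is the case of the empty closed subset.) -/
theorem result (k : Type u) [Field k] [IsAlgClosed k]
    (X : Scheme.{u}) [X.Over (Spec (CommRingCat.of k))] [IsIntegral X]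
    [Smooth (X ↘ Spec (CommRingCat.of k))] [IsProper (X ↘ Spec (CommRingCat.of k))]
    (N : ℕ) (ι : X ⟶ CohB1.ProjSpace N k) [IsClosedImmersion ι] (hι : ι ≫ CohB1.ProjSpace.toSpec N k = X ↘ Spec (CommRingCat.of k))
    (d ℓ : ℕ) (hℓ : 1 ≤ ℓ) (hℓd : ℓ ≤ d)
    (E : X.Modules) (hE : Coh.IsCoh E) (P : ℚ[X]) (hPd : P.natDegree = d) (hP0 : P ≠ 0)
    (hP : ∀ m : ℤ, (Curv2.euler k X (Pic13.twistOn k ι E m) : ℚ) = P.eval (m : ℚ))
    (hpure : ∀ (F : X.Modules) (j : F ⟶ E), Mono j → Coh.IsCoh F → ¬ IsZero F →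
      topologicalKrullDim (CohB1.support F) = (d : WithBot ℕ∞))
    (hst : ∀ (F : X.Modules) (j : F ⟶ E), Mono j → Coh.IsCoh F → ∀ Q : ℚ[X],
      (∀ m : ℤ, (Curv2.euler k X (Pic13.twistOn k ι F m) : ℚ) = Q.eval (m : ℚ)) →
        0 < Q.coeff d → Q.coeff d < P.coeff d →
          toLex (fun j : Fin ℓ => ((Q).coeff (d - 1 - (j : ℕ)) * (Nat.factorial (d - 1 - (j : ℕ)) : ℚ)) / ((Q).coeff d * (Nat.factorial d : ℚ))) < toLex (fun j : Fin ℓ => ((P).coeff (d - 1 - (j : ℕ)) * (Nat.factorial (d - 1 - (j : ℕ)) : ℚ)) / ((P).coeff d * (Nat.factorial d : ℚ))))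
    (φ : E ⟶ E) :
    ∃ c : k, ∀ (V : X.Opens) (s : E.val.obj (Opposite.op V)),
      (φ.val.app (Opposite.op V)) s = (X.ringCatSheaf.obj.map (homOfLE (le_top : V ≤ ⊤)).op (Coh.toGlobal (X ↘ Spec (CommRingCat.of k)) c : X.ringCatSheaf.obj.obj (Opposite.op ⊤))) • s := by
  classical
  haveI := Groth.HilbStab.isLocallyNoetherian k (X := X)
  haveI := hE.1
  let L := Groth.CohTwo.TwistOnHilb.L1 ι
  have hL : CohB1.IsAmple L := Groth.CohTwo.TwistOnHilb.isAmple_L1 ι
  have hp : ShStab.IsPure X E d := hpure
  have hPh : ShStab.IsHilbPoly k X L E P := Groth.CohTwo.TwistOnHilb.isHilbPoly_of_isPolyZ ι hP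
  have h0 : ¬ CategoryTheory.Limits.IsZero E := fun hz => hP0 <|
    Groth.HilbStab.isHilbPoly_unique k hPh (fun m => by
      rw [Polynomial.eval_zero, ← Int.cast_zero, Int.cast_inj]
      exact EulerDeg.euler_of_isZero fun q => Groth.FlatMor2.StratVanish.subsingleton_HH_of_isZero
        ((DCoh.tensorRightMod (CohB1.tensorPow L m)).map_isZero hz) q)
  have hiso : ∀ ψ : E ⟶ E, ψ ≠ 0 → CategoryTheory.IsIso ψ := by
    intro ψ hψ
    haveI : CategoryTheory.Mono ψ := by
      by_contra hm
      have hI : Coh.IsCoh (CategoryTheory.Abelian.image ψ) :=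
        haveI := Groth.QCohMod.isQCoh_cokernel ψ
        Groth.QCohMod.isCoh_kernel (CategoryTheory.Limits.cokernel.π ψ) hE
      haveI := hI.1
      let q := CategoryTheory.Abelian.factorThruImage ψ
      have hK := Groth.QCohMod.isCoh_kernel q hE
      have hK0 : ¬ CategoryTheory.Limits.IsZero (CategoryTheory.Limits.kernel q) := fun h => hm <| by
        haveI : CategoryTheory.Mono q :=
          CategoryTheory.Preadditive.mono_of_kernel_zero (h.eq_of_src _ _)
        rw [← CategoryTheory.Abelian.image.fac ψ]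
        exact CategoryTheory.mono_comp q _
      have hI0 : ¬ CategoryTheory.Limits.IsZero (CategoryTheory.Abelian.image ψ) := fun h => hψ (by
        rw [← CategoryTheory.Abelian.image.fac ψ, h.eq_of_src (CategoryTheory.Abelian.image.ι ψ) 0,
          CategoryTheory.Limits.comp_zero])
      obtain ⟨pK, hpK⟩ := Groth.HilbStab.exists_isHilbPoly k X hL hK
      obtain ⟨pI, hpI⟩ := Groth.HilbStab.exists_isHilbPoly k X hL hI
      have hsum := Groth.HilbStab.isHilbPoly_kernel_add k hL hE q hI hpK hPh hpI
      have hαK := Groth.HilbStab.alpha_pos_of_isPure k hL hp (CategoryTheory.Limits.kernel.ι q) hK hK0 hpK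
      have hαI := Groth.HilbStab.alpha_pos_of_isPure k hL hp (CategoryTheory.Abelian.image.ι ψ) hI hI0 hpI
      have hd : (0 : ℚ) < (d.factorial : ℚ) := by exact_mod_cast d.factorial_pos
      have hcK : 0 < pK.coeff d := pos_of_mul_pos_right hαK hd.le
      have hcI : 0 < pI.coeff d := pos_of_mul_pos_right hαI hd.le
      have hcP : P.coeff d = pK.coeff d + pI.coeff d := by rw [hsum, Polynomial.coeff_add]
      have e1 := hst _ (CategoryTheory.Limits.kernel.ι q) inferInstance hK pK
        (Groth.CohTwo.TwistOnHilb.isPolyZ_of_isHilbPoly ι hK hpK) hcK (by linarith)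
      have e2 := hst _ (CategoryTheory.Abelian.image.ι ψ) inferInstance hI pI
        (Groth.CohTwo.TwistOnHilb.isPolyZ_of_isHilbPoly ι hI hpI) hcI (by linarith)
      obtain ⟨i₁, e1eq, e1lt⟩ := e1
      obtain ⟨i₂, e2eq, e2lt⟩ := e2
      simp only [Pi.toLex_apply] at e1eq e1lt e2eq e2lt
      have hden : ∀ {c : ℚ}, 0 < c → 0 < c * (d.factorial : ℚ) := fun hc => mul_pos hc hd
      let v : Polynomial ℚ → Fin ℓ → ℚ := fun R j =>
        R.coeff (d - 1 - (j : ℕ)) * (Nat.factorial (d - 1 - (j : ℕ)) : ℚ)
      have hadd : ∀ j, v P j = v pK j + v pI j := fun j => by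
        simp only [v, hsum, Polynomial.coeff_add, add_mul]
      let w : Polynomial ℚ → Fin ℓ → ℚ := fun R j => v R j / (R.coeff d * (d.factorial : ℚ))
      have key : ∀ j, w pK j ≤ w P j → w pI j ≤ w P j → (w pK j < w P j ∨ w pI j < w P j) → False := by
        intro j h1 h2 h3
        simp only [w] at h1 h2 h3
        have hP' : 0 < P.coeff d * (d.factorial : ℚ) := hden (by linarith)
        rw [div_le_div_iff₀ (hden hcK) hP'] at h1
        rw [div_le_div_iff₀ (hden hcI) hP'] at h2
        rw [div_lt_div_iff₀ (hden hcK) hP', div_lt_div_iff₀ (hden hcI) hP'] at h3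
        rw [hadd j, hcP] at h1 h2 h3
        rcases h3 with h3 | h3 <;> nlinarith
      have hw1 : ∀ j, j < i₁ → w pK j = w P j := fun j hj => e1eq j hj
      have hw2 : ∀ j, j < i₂ → w pI j = w P j := fun j hj => e2eq j hj
      have hw1' : w pK i₁ < w P i₁ := e1lt
      have hw2' : w pI i₂ < w P i₂ := e2lt
      rcases lt_trichotomy i₁ i₂ with h | h | h
      · exact key i₁ hw1'.le (hw2 i₁ h).le (Or.inl hw1')
      · subst h
        exact key i₁ hw1'.le hw2'.le (Or.inl hw1')
      · exact key i₂ (hw1 i₂ h).le hw2'.le (Or.inr hw2')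
    exact Groth.HilbStab.isIso_of_mono_of_eq k hL hE ψ hE hPh hPh
  obtain ⟨c, rfl⟩ := Groth.HilbStab.exists_eq_scalar k hL hE h0 hiso φ
  exact ⟨c, fun V s => Groth.HilbStab.scalar_app _ E V s⟩

end Groth.Agent.S15002
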