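import Groth.Statements.S15009
import Mathlib
import Groth.Agent.Curves2.Lattice
-- import your own Groth.Agent.* helpers here

set_option autoImplicit false
universe u
open TFCurv

namespace Groth.Agent.S15009

/-- Let O be a one-dimensional Noetherian local domain with algebraically closed residue field whose
integral closure O~ in its fraction field K is a finite O-module. A finitely generated torsion-free
O-module M of rank n (that is, K ⊗ M has K-dimension n) is isomorphic to an O-submodule M' of K^n
with O^n ⊆ M' ⊆ O~^n. -/
theorem result (O : Type u) [CommRing O] [IsDomain O] [IsNoetherianRing O] [IsLocalRing O] (hdim : ringKrullDim O = 1) [IsAlgClosed (IsLocalRing.ResidueField O)] (K : Type u) [Field K] [Algebra O K] [IsFractionRing O K] (hfin : Module.Finite O ↥(integralClosure O K)) (M : Type u) [AddCommGroup M] [Module O M] [Module.Finite O M] [NoZeroSMulDivisors O M] (n : ℕ) (hn : Module.finrank K (TensorProduct O K M) = n) : ∃ M' : Submodule O (Fin n → K), Submodule.pi Set.univ (fun _ : Fin n => (1 : Submodule O K)) ≤ M' ∧ M' ≤ Submodule.pi Set.univ (fun _ : Fin n =>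 (Subalgebra.toSubmodule (integralClosure O K))) ∧ Nonempty (M ≃ₗ[O] ↥M') := by
  haveI := hfin
  obtain ⟨j, hj, hbasis⟩ := Groth.Curves2.Lattice.exists_normal_form K hdim M n hn
  let v : (Fin n → ↥(integralClosure O K)) →ₗ[O] (Fin n → K) :=
    (integralClosure O K).val.toLinearMap.compLeft (Fin n)
  have hv : Function.Injective v := fun a b h => by
    funext i; exact Subtype.ext (congrFun h i)
  refine ⟨LinearMap.range (v.comp j), ?_, ?_, ⟨LinearEquiv.ofInjective _ (hv.comp hj)⟩⟩
  · intro f hf
    have hsingle : ∀ i, (Pi.single i (f i) : Fin n → K) ∈ LinearMap.range (v.comp j) := by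
      intro i
      obtain ⟨a, ha⟩ := Submodule.mem_one.1 (hf i (Set.mem_univ i))
      obtain ⟨m, hm⟩ := hbasis i
      refine ⟨a • m, ?_⟩
      rw [map_smul, LinearMap.comp_apply, hm, ← ha]
      funext l
      by_cases hl : l = i
      · subst hl; simp [v, Algebra.smul_def]
      · simp [v, Pi.single_apply, hl]
    rw [← Finset.univ_sum_single f]
    exact Submodule.sum_mem _ fun i _ => hsingle i
  · rintro _ ⟨m, rfl⟩ i -
    exact (j m i).2

end Groth.Agent.S15009
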