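import Groth.Statements.S1501
import Groth.Agent.Ega2Proj.RelAmple
import Groth.Agent.Limits.AmpleThickening
import Groth.Agent.Chow.VeryAmplePn
-- import your own Groth.Agent.* helpers here

set_option autoImplicit false
universe u
open FlatMor

namespace Groth.Agent.S1501

open AlgebraicGeometry CategoryTheory Limits in
/-- Let (f, f') : (X ⊂ X') → (S ⊂ S') be a morphism of thickenings (iX : X → X' and iS : S → S'
thickenings with f ≫ iS = iX ≫ f') and L' an invertible O_{X'}-module with pullback L to X. Then L'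
is ample relative to f' if and only if L is ample relative to f. -/
theorem result {X X' S S' : Scheme.{u}} (iX : X ⟶ X') (iS : S ⟶ S') (f : X ⟶ S) (f' : X' ⟶ S')
    (hX : MoreMor.IsThickening iX) (hS : MoreMor.IsThickening iS) (w : iX ≫ f' = f ≫ iS)
    (L' : X'.Modules) (hL' : PicF.IsInvertible L') :
    RelAmple.IsRelAmple f' L' ↔ RelAmple.IsRelAmple f ((Scheme.Modules.pullback iX).obj L') := by
  obtain ⟨hXc, hXs⟩ := hX
  obtain ⟨hSc, hSs⟩ := hS
  have key : ∀ Z' : X'.Opens, CohB1.IsAmple (L'.restrict Z'.ι) ↔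
      CohB1.IsAmple (((Scheme.Modules.pullback iX).obj L').restrict (iX ⁻¹ᵁ Z').ι) := by
    intro Z'
    haveI : IsClosedImmersion (iX ∣_ Z') := IsZariskiLocalAtTarget.restrict hXc Z'
    haveI : Surjective (iX ∣_ Z') := IsZariskiLocalAtTarget.restrict hXs Z'
    let e : (Scheme.Modules.pullback (iX ∣_ Z')).obj (L'.restrict Z'.ι) ≅
        ((Scheme.Modules.pullback iX).obj L').restrict (iX ⁻¹ᵁ Z').ι :=
      (Scheme.Modules.pullback (iX ∣_ Z')).mapIso (Groth.Ega2Proj.restrictIsoPullback Z'.ι L') ≪≫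
        (Scheme.Modules.pullbackComp (iX ∣_ Z') Z'.ι).app L' ≪≫
        (Scheme.Modules.pullbackCongr (morphismRestrict_ι iX Z')).app L' ≪≫
        ((Scheme.Modules.pullbackComp (iX ⁻¹ᵁ Z').ι iX).app L').symm ≪≫
        (Groth.Ega2Proj.restrictIsoPullback (iX ⁻¹ᵁ Z').ι _).symm
    refine ⟨fun h => Groth.Ega2Proj.isAmple_of_iso e (Groth.Chow.isAmple_pullback_of_isAffineHom _ h),
      fun h => ?_⟩
    exact Groth.Limits.AmpleThickening.isAmple_of_surjective_closedImmersion (iX ∣_ Z') _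
      (Groth.Ega2Proj.isInvertible_restrict Z'.ι hL') (Groth.Ega2Proj.isAmple_of_iso e.symm h)
  have hpre : ∀ V' : S'.Opens, iX ⁻¹ᵁ (f' ⁻¹ᵁ V') = f ⁻¹ᵁ (iS ⁻¹ᵁ V') := fun V' => by
    rw [← Scheme.Hom.comp_preimage, ← Scheme.Hom.comp_preimage, w]
  constructor
  · rintro ⟨hqc, h⟩
    haveI : QuasiCompact (f ≫ iS) := w ▸ inferInstance
    haveI : QuasiCompact f := QuasiCompact.of_comp f iS
    refine Groth.Ega2Proj.isRelAmple_of_local f fun x => ?_
    obtain ⟨V', hV', hxV', -⟩ :=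
      exists_isAffineOpen_mem_and_subset (x := iS (f x)) (U := (⊤ : S'.Opens)) trivial
    refine ⟨iS ⁻¹ᵁ V', _, (iX ⁻¹ᵁ (f' ⁻¹ᵁ V')).ι, inferInstance, hxV', ?_, (key _).1 (h ⟨V', hV'⟩)⟩
    rw [Scheme.Opens.range_ι, hpre]
  · intro h
    haveI : QuasiCompact f := h.1
    haveI : QuasiCompact (iX ≫ f') := w ▸ inferInstance
    haveI : QuasiCompact f' := by
      refine ⟨fun U hU hUc => ?_⟩
      have hc : IsCompact ((iX ≫ f') ⁻¹' U) := QuasiCompact.isCompact_preimage _ hU hUc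
      rw [show f' ⁻¹' U = iX '' ((iX ≫ f') ⁻¹' U) from (Set.image_preimage_eq (f' ⁻¹' U) iX.surjective).symm]
      exact hc.image iX.continuous
    refine ⟨inferInstance, fun V' => (key _).2 ?_⟩
    haveI : CompactSpace (iX ⁻¹ᵁ (f' ⁻¹ᵁ V'.1)).toScheme :=
      isCompact_iff_compactSpace.mp (QuasiCompact.isCompact_preimage (f := iX ≫ f') _ V'.1.2 V'.2.isCompact)
    refine Groth.Ega2Proj.isAmple_of_isRelAmple h ⟨iS ⁻¹ᵁ V'.1, V'.2.preimage iS⟩ _ ?_
    rw [Scheme.Opens.range_ι, hpre]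

end Groth.Agent.S1501
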