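import Groth.Statements.S15010
import Mathlib
-- import your own Groth.Agent.* helpers here

set_option autoImplicit false
universe u
open TFCurv

namespace Groth.Agent.S15010

/-- Let O be a one-dimensional Noetherian local domain with algebraically closed residue field whose
integral closure O~ in its fraction field K is a finite O-module. If M and N are O-submodules of K^n
with O^n ⊆ M ⊆ O~^n and O^n ⊆ N ⊆ O~^n, then every O-linear isomorphism M → N is the restriction of
x ↦ A·x for an invertible n × n matrix A with entries in O~. -/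
theorem result (O : Type u) [CommRing O] [IsDomain O] [IsNoetherianRing O] [IsLocalRing O] (hdim : ringKrullDim O = 1) [IsAlgClosed (IsLocalRing.ResidueField O)] (K : Type u) [Field K] [Algebra O K] [IsFractionRing O K] (hfin : Module.Finite O ↥(integralClosure O K)) (n : ℕ) (M N : Submodule O (Fin n → K)) (hM1 : Submodule.pi Set.univ (fun _ : Fin n => (1 : Submodule O K)) ≤ M) (hM2 : M ≤ Submodule.pi Set.univ (fun _ : Fin n => (Subalgebra.toSubmodule (integralClosure O K)))) (hN1 : Submodule.pi Set.univ (fun _ : Fin n => (1 : Submodule O K)) ≤ N) (hN2 : N ≤ Submodule.pi Set.univ (fun _ : Fin n => (Subalgebra.toSubmodule (integralClosure O K)))) (φ : ↥M ≃ₗ[O] ↥N) : ∃ A : Matrix (Fin n) (Fin n) ↥(integralClosure O K), IsUnit A ∧ ∀ x : ↥M, ((φ x : ↥N) : Fin n → K) = (A.map (algebraMap ↥(integralClosure O K) K)).mulVec (x : Fin n → K) := by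
  classical
  set B := ↥(integralClosure O K)
  -- matrix of a linear map between such lattices
  have mat : ∀ (P Q : Submodule O (Fin n → K)),
      Submodule.pi Set.univ (fun _ : Fin n => (1 : Submodule O K)) ≤ P →
      Q ≤ Submodule.pi Set.univ (fun _ : Fin n => Subalgebra.toSubmodule (integralClosure O K)) →
      ∀ ψ : ↥P →ₗ[O] ↥Q, ∃ A : Matrix (Fin n) (Fin n) B, ∀ x : ↥P,
        ((ψ x : ↥Q) : Fin n → K) = (A.map (algebraMap B K)).mulVec (x : Fin n → K) := by
    intro P Q hP hQ ψ
    have he : ∀ i, (Pi.single i 1 : Fin n → K) ∈ P := fun i => hP fun l _ => by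
      by_cases h : l = i
      · subst h; rw [Pi.single_eq_same]; exact Submodule.mem_one.2 ⟨1, map_one _⟩
      · rw [Pi.single_eq_of_ne h]; exact zero_mem _
    let A : Matrix (Fin n) (Fin n) B :=
      Matrix.of fun r i => ⟨((ψ ⟨_, he i⟩ : ↥Q) : Fin n → K) r, hQ (ψ ⟨_, he i⟩).2 r (Set.mem_univ r)⟩
    refine ⟨A, fun x => ?_⟩
    obtain ⟨b, hb⟩ := IsLocalization.exist_integer_multiples_of_finset (nonZeroDivisors O)
      (Finset.univ.image (x : Fin n → K))
    choose a ha using fun i : Fin n => hb ((x : Fin n → K) i) (Finset.mem_image_of_mem _ (Finset.mem_univ i))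
    have hbx : (b : O) • x = ∑ i, a i • (⟨_, he i⟩ : ↥P) := by
      refine Subtype.ext ?_
      rw [Submodule.coe_smul, AddSubmonoidClass.coe_finsetSum]
      funext l
      rw [Finset.sum_apply, Finset.sum_eq_single l]
      · simp [Algebra.smul_def]
        exact ((ha l).trans (Algebra.smul_def _ _)).symm
      · intro i _ hil; simp [Pi.single_eq_of_ne (Ne.symm hil)]
      · simp
    have hb0 : algebraMap O K (b : O) ≠ 0 := fun h =>
      nonZeroDivisors.coe_ne_zero b (IsFractionRing.injective O K (h.trans (map_zero _).symm))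
    funext r
    refine mul_left_cancel₀ hb0 ?_
    have h1 := congrArg (fun z => ((ψ z : ↥Q) : Fin n → K) r) hbx
    simp only [map_smul, map_sum, Submodule.coe_smul, AddSubmonoidClass.coe_finsetSum,
      Finset.sum_apply, Pi.smul_apply] at h1
    rw [← Algebra.smul_def, h1]
    simp only [Matrix.mulVec, dotProduct, Finset.mul_sum, Matrix.map_apply]
    refine Finset.sum_congr rfl fun i _ => ?_
    rw [Algebra.smul_def, ha i]
    simp only [A, Matrix.of_apply, Algebra.smul_def]
    change _ * _ * ((ψ ⟨_, he i⟩ : ↥Q) : Fin n → K) r =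
      _ * (((ψ ⟨_, he i⟩ : ↥Q) : Fin n → K) r * _)
    ring
  obtain ⟨A, hA⟩ := mat M N hM1 hN2 φ.toLinearMap
  obtain ⟨C, hC⟩ := mat N M hN1 hM2 φ.symm.toLinearMap
  have hAC : ∀ (P : Submodule O (Fin n → K)), Submodule.pi Set.univ (fun _ : Fin n => (1 : Submodule O K)) ≤ P →
      ∀ (D : Matrix (Fin n) (Fin n) B), (∀ x ∈ P, (D.map (algebraMap B K)).mulVec x = x) → D = 1 := by
    intro P hP D hD
    have hmat : D.map (algebraMap B K) = 1 := by
      ext r i
      have hi : (Pi.single i 1 : Fin n → K) ∈ P := hP fun l _ => by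
        by_cases h : l = i
        · subst h; rw [Pi.single_eq_same]; exact Submodule.mem_one.2 ⟨1, map_one _⟩
        · rw [Pi.single_eq_of_ne h]; exact zero_mem _
      have := congrFun (hD _ hi) r
      rw [Matrix.mulVec_single_one] at this
      simpa [Matrix.one_apply, Pi.single_apply] using this
    refine Matrix.map_injective (f := algebraMap B K) Subtype.val_injective ?_
    change D.map (algebraMap B K) = (1 : Matrix (Fin n) (Fin n) B).map (algebraMap B K)
    rw [hmat, Matrix.map_one _ (map_zero _) (map_one _)]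
  have h1 : A * C = 1 := hAC N hN1 _ fun x hx => by
    rw [Matrix.map_mul, ← Matrix.mulVec_mulVec]
    have := hA (φ.symm ⟨x, hx⟩)
    rw [show ((φ.symm ⟨x, hx⟩ : ↥M) : Fin n → K) = _ from hC ⟨x, hx⟩] at this
    simpa using this.symm
  have h2 : C * A = 1 := hAC M hM1 _ fun x hx => by
    rw [Matrix.map_mul, ← Matrix.mulVec_mulVec]
    have := hC (φ ⟨x, hx⟩)
    rw [show ((φ ⟨x, hx⟩ : ↥N) : Fin n → K) = _ from hA ⟨x, hx⟩] at this
    simpa using this.symm
  exact ⟨A, ⟨⟨A, C, h1, h2⟩, rfl⟩, hA⟩

end Groth.Agent.S15010
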