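import Groth.Statements.S15011
import Mathlib
import Groth.Agent.Curves2.Lattice
-- import your own Groth.Agent.* helpers here

set_option autoImplicit false
universe u
open TFCurv

namespace Groth.Agent.S15011

/-- Let O be a one-dimensional Noetherian local domain with maximal ideal m and algebraically closed
residue field, whose integral closure O~ in its fraction field K is a finite O-module; put e =
length(O~/m O~), the multiplicity of O. Then a finitely generated torsion-free O-module of rank n
can be generated by at most n·e elements. -/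
theorem result (O : Type u) [CommRing O] [IsDomain O] [IsNoetherianRing O] [IsLocalRing O] (hdim : ringKrullDim O = 1) [IsAlgClosed (IsLocalRing.ResidueField O)] (K : Type u) [Field K] [Algebra O K] [IsFractionRing O K] (hfin : Module.Finite O ↥(integralClosure O K)) (M : Type u) [AddCommGroup M] [Module O M] [Module.Finite O M] [NoZeroSMulDivisors O M] (n : ℕ) (hn : Module.finrank K (TensorProduct O K M) = n) : ((⊤ : Submodule O M).spanFinrank : ℕ∞) ≤ (n : ℕ∞) * Module.length O (↥(integralClosure O K) ⧸ (IsLocalRing.maximalIdeal O) • (⊤ : Submodule O ↥(integralClosure O K))) := by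
  classical
  haveI := hfin
  obtain ⟨j, hj, hbasis⟩ := Groth.Curves2.Lattice.exists_normal_form K hdim M n hn
  haveI := Groth.Curves2.Lattice.isPrincipalIdealRing_normalization K hdim
  set B := ↥(integralClosure O K)
  set mB : Ideal B := (IsLocalRing.maximalIdeal O).map (algebraMap O B) with hmB
  have hmB0 : mB ≠ ⊥ := by
    intro h
    have hm : IsLocalRing.maximalIdeal O = ⊥ := by
      rw [eq_bot_iff]
      intro a ha
      have h1 : algebraMap O B a ∈ mB := Ideal.mem_map_of_mem _ ha
      rw [h, Ideal.mem_bot] at h1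
      have h2 : algebraMap O K a = 0 := by
        rw [IsScalarTower.algebraMap_apply O B K, h1, map_zero]
      exact (Ideal.mem_bot).2 (IsFractionRing.injective O K (h2.trans (map_zero _).symm))
    rw [ringKrullDim_eq_zero_of_isField (IsLocalRing.isField_iff_maximalIdeal_eq.2 hm)] at hdim
    exact zero_ne_one hdim
  obtain ⟨g, hg⟩ := (IsPrincipalIdealRing.principal mB).principal
  change mB = Ideal.span {g} at hg
  have hg0 : g ≠ 0 := fun h => hmB0 (by rw [hg, h]; simp)
  have hfinmax : {I : Ideal B | I.IsMaximal}.Finite :=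
    (Groth.Curves2.Lattice.finite_primes_normalization K hdim).subset fun I hI => hI.isPrime
  let W : Ideal B → Submodule O ↥(IsLocalRing.maximalIdeal O) := fun I =>
    Submodule.comap ((Algebra.linearMap O B).comp (IsLocalRing.maximalIdeal O).subtype)
      ((I * mB).restrictScalars O)
  obtain ⟨x, hx⟩ := Groth.Curves2.Lattice.exists_forall_notMem hfinmax.toFinset W (by
    intro I hI htop
    have hle : mB ≤ I * mB := Ideal.map_le_iff_le_comap.2 fun a ha =>
      (show (⟨a, ha⟩ : ↥(IsLocalRing.maximalIdeal O)) ∈ W I from htop ▸ Submodule.mem_top)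
    have hgm : g ∈ I * mB := hle (hg ▸ Ideal.mem_span_singleton_self g)
    rw [hg, Ideal.mem_mul_span_singleton] at hgm
    obtain ⟨z, hz, hzg⟩ := hgm
    have : z = 1 := mul_right_cancel₀ hg0 (by rw [hzg, one_mul])
    exact (hfinmax.mem_toFinset.1 hI).ne_top (Ideal.eq_top_iff_one _ |>.2 (this ▸ hz)))
  set xB : B := algebraMap O B (x : O) with hxB
  have hspan : Ideal.span {xB} = mB := by
    have hmem : xB ∈ mB := Ideal.mem_map_of_mem _ x.2
    rw [hg, Ideal.mem_span_singleton'] at hmem
    obtain ⟨u, hu⟩ := hmem
    have hunit : IsUnit u := by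
      by_contra h
      obtain ⟨I, hI, huI⟩ := exists_max_ideal_of_mem_nonunits h
      refine hx I (hfinmax.mem_toFinset.2 hI) ?_
      change xB ∈ I * mB
      rw [← hu, hg]
      exact Ideal.mul_mem_mul huI (Ideal.mem_span_singleton_self g)
    rw [hg, ← hu]
    exact Ideal.span_singleton_mul_left_unit hunit g
  have hx0 : (x : O) ≠ 0 := fun h => hmB0 (by rw [← hspan, hxB, h]; simp)
  -- `M` as a lattice
  set N := LinearMap.range j with hN
  have hxinj : Function.Injective (LinearMap.lsmul O (Fin n → B) (x : O)) := by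
    intro a b h
    funext i
    have hi : xB * a i = xB * b i := by
      have := congrFun h i
      simpa [Algebra.smul_def, hxB] using this
    exact mul_left_cancel₀ (fun h0 => hmB0 (by rw [← hspan, h0]; simp)) hi
  have hfinV : Module.length O ((Fin n → B) ⧸ N) ≠ ⊤ := by
    -- every element of `B^n` is carried into `N` by a non-zero element of `O`
    obtain ⟨s, hs⟩ := (inferInstance : Module.Finite O B).fg_top
    obtain ⟨b, hb⟩ := IsLocalization.exist_integer_multiples_of_finset (nonZeroDivisors O)
      (s.image fun z : B => (z : K))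
    have hbB : ∀ z : B, ∃ a : O, algebraMap O K a = algebraMap O K (b : O) * (z : K) := by
      intro z
      have hz : z ∈ Submodule.span O (↑s : Set B) := hs ▸ Submodule.mem_top
      induction hz using Submodule.span_induction with
      | mem y hy =>
        obtain ⟨a, ha⟩ := hb (y : K) (Finset.mem_image_of_mem _ hy)
        exact ⟨a, ha.trans (Algebra.smul_def _ _)⟩
      | zero => exact ⟨0, by simp⟩
      | add p q _ _ hp hq =>
        obtain ⟨a₁, h₁⟩ := hp; obtain ⟨a₂, h₂⟩ := hq
        exact ⟨a₁ + a₂, by rw [map_add, h₁, h₂]; exact (mul_add _ _ _).symm⟩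
      | smul r p _ hp =>
        obtain ⟨a, h⟩ := hp
        exact ⟨r * a, by rw [map_mul, h]; change _ = _ * (r • (p : K)); rw [Algebra.smul_def]; ring⟩
    refine Groth.Curves2.Lattice.length_ne_top_of_smul_eq_zero hdim
      (nonZeroDivisors.coe_ne_zero b) fun t => ?_
    obtain ⟨f, rfl⟩ := Submodule.Quotient.mk_surjective N t
    rw [← Submodule.Quotient.mk_smul, Submodule.Quotient.mk_eq_zero, ← Finset.univ_sum_single f,
      Finset.smul_sum]
    refine Submodule.sum_mem _ fun i _ => ?_
    obtain ⟨a, ha⟩ := hbB (f i)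
    have : (b : O) • (Pi.single i (f i) : Fin n → B) = a • (Pi.single i 1 : Fin n → B) := by
      rw [← Pi.single_smul, ← Pi.single_smul]
      congr 1
      refine Subtype.ext ?_
      change (b : O) • (f i : K) = a • (1 : K)
      rw [Algebra.smul_def, Algebra.smul_def, mul_one, ha]
    rw [this]
    exact N.smul_mem a (hbasis i)
  -- generators versus length
  let e : M ≃ₗ[O] ↥N := LinearEquiv.ofInjective j hj
  have hlenM : Module.length O (↥N ⧸ LinearMap.range (LinearMap.lsmul O ↥N (x : O))) =
      (n : ℕ∞) * Module.length O (B ⧸ IsLocalRing.maximalIdeal O • (⊤ : Submodule O B)) := by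
    rw [Groth.Curves2.Lattice.length_quotient_smul_eq N _ hxinj hfinV]
    have hB : IsLocalRing.maximalIdeal O • (⊤ : Submodule O B) =
        LinearMap.range (LinearMap.lsmul O B (x : O)) := by
      rw [Ideal.smul_top_eq_map, ← hmB, ← hspan]
      ext z
      simp only [Submodule.restrictScalars_mem, Ideal.mem_span_singleton', LinearMap.mem_range,
        LinearMap.lsmul_apply, Algebra.smul_def, hxB]
      constructor <;> rintro ⟨y, rfl⟩ <;> exact ⟨y, mul_comm _ _⟩
    rw [hB]
    have hpi : LinearMap.range (LinearMap.lsmul O (Fin n → B) (x : O)) =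
        Submodule.pi Set.univ fun _ => LinearMap.range (LinearMap.lsmul O B (x : O)) := by
      ext f
      constructor
      · rintro ⟨y, rfl⟩ i -
        exact ⟨y i, rfl⟩
      · intro hf
        choose y hy using fun i => hf i (Set.mem_univ i)
        exact ⟨y, funext hy⟩
    rw [hpi, LinearEquiv.length_eq (Submodule.quotientPi _), Module.length_pi_of_fintype,
      Finset.sum_const, Finset.card_univ, Fintype.card_fin, nsmul_eq_mul]
  have hgen : ((⊤ : Submodule O M).spanFinrank : ℕ∞) ≤
      Module.length O (M ⧸ LinearMap.range (LinearMap.lsmul O M (x : O))) := by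
    set P := IsLocalRing.maximalIdeal O • (⊤ : Submodule O ↥(⊤ : Submodule O M)) with hP
    letI : Module (O ⧸ IsLocalRing.maximalIdeal O) (↥(⊤ : Submodule O M) ⧸ P) :=
      inferInstanceAs (Module (O ⧸ IsLocalRing.maximalIdeal O) (_ ⧸ IsLocalRing.maximalIdeal O • (⊤ : Submodule O ↥(⊤ : Submodule O M))))
    letI : Field (O ⧸ IsLocalRing.maximalIdeal O) := Ideal.Quotient.field _
    haveI : IsScalarTower O (O ⧸ IsLocalRing.maximalIdeal O) (↥(⊤ : Submodule O M) ⧸ P) :=
      inferInstanceAs (IsScalarTower O (O ⧸ IsLocalRing.maximalIdeal O) (_ ⧸ IsLocalRing.maximalIdeal O • (⊤ : Submodule O ↥(⊤ : Submodule O M))))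
    haveI : Module.Finite (O ⧸ IsLocalRing.maximalIdeal O) (↥(⊤ : Submodule O M) ⧸ P) :=
      Module.Finite.of_restrictScalars_finite O _ _
    rw [IsLocalRing.spanFinrank_eq_finrank_quotient _ (Module.Finite.fg_top)]
    refine le_of_eq_of_le ((Module.length_eq_finrank (O ⧸ IsLocalRing.maximalIdeal O) _).symm.trans
      (Module.length_eq_of_surjective (R := O ⧸ IsLocalRing.maximalIdeal O) (S := O)
        Ideal.Quotient.mk_surjective).symm) ?_
    let π : (M ⧸ LinearMap.range (LinearMap.lsmul O M (x : O))) →ₗ[O] ↥(⊤ : Submodule O M) ⧸ P :=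
      Submodule.mapQ _ _ (Submodule.topEquiv.symm.toLinearMap) (by
        rintro _ ⟨y, rfl⟩
        exact Submodule.smul_mem_smul x.2 (Submodule.mem_top (x := (⟨y, trivial⟩ : ↥(⊤ : Submodule O M)))))
    refine Module.length_le_of_surjective π ?_
    rintro q
    obtain ⟨y, rfl⟩ := Submodule.Quotient.mk_surjective P q
    exact ⟨Submodule.Quotient.mk (y : M), rfl⟩
  refine hgen.trans (le_of_eq ?_)
  rw [← hlenM]
  refine LinearEquiv.length_eq (Submodule.Quotient.equiv _ _ e ?_)
  ext v
  constructor
  · rintro ⟨_, ⟨y, rfl⟩, rfl⟩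
    exact ⟨e y, by simp⟩
  · rintro ⟨w, rfl⟩
    exact ⟨(x : O) • e.symm w, ⟨e.symm w, rfl⟩, by simp⟩

end Groth.Agent.S15011
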