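import Groth.Statements.S15035
import Groth.Agent.Curves2.DualPosition
import Groth.Agent.Gorenstein.Basic
-- import your own Groth.Agent.* helpers here

set_option autoImplicit false
universe u
open TFCurv

namespace Groth.Agent.S15035

/-- Let O be a one-dimensional Gorenstein local domain with algebraically closed residue field whose
integral closure O~ in its fraction field K is a finite O-module, and C ⊆ O the conductor of O in
O~. Then every finitely generated torsion-free O-module of rank n is isomorphic to an O-submodule
M'' of K^n with C^n ⊆ M'' ⊆ O^n. (For a general O the published statement places M'' between (O~*)^n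
and ω^n for the canonical ideal ω; only the Gorenstein case ω = O, O~* = C is stated.) -/
theorem result (O : Type u) [CommRing O] [IsDomain O] [LocCoh.IsGorensteinLocalRing O] (hdim : ringKrullDim O = 1) [IsAlgClosed (IsLocalRing.ResidueField O)] (K : Type u) [Field K] [Algebra O K] [IsFractionRing O K] (hfin : Module.Finite O ↥(integralClosure O K)) (M : Type u) [AddCommGroup M] [Module O M] [Module.Finite O M] [NoZeroSMulDivisors O M] (n : ℕ) (hn : Module.finrank K (TensorProduct O K M) = n) : ∃ M'' : Submodule O (Fin n → K), Submodule.pi Set.univ (fun _ : Fin n => (((1 : Submodule O K).colon (Subalgebra.toSubmodule (integralClosure O K))) • (1 : Submodule O K))) ≤ M'' ∧ M'' ≤ Submodule.pi Set.univ (fun _ : Fin n => (1 : Submodule O K)) ∧ Nonempty (M ≃ₗ[O] ↥M'') := by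
  obtain ⟨d, hd, hd1, -, -⟩ := GrothGoren.exists_dim O ((GrothGoren.isGorenstein_iff O).1 ‹_›)
  obtain rfl : d = 1 := by rw [hd] at hdim; exact_mod_cast hdim
  haveI := hfin
  obtain ⟨Θ, hΘ, h1, h2⟩ := Groth.Curves2.DualPosition.exists_between K hdim
    (Groth.Curves2.Canonical.isCanonical_self hd1) M n hn
  refine ⟨LinearMap.range Θ, fun f hf => ?_, ?_, ⟨LinearEquiv.ofInjective Θ hΘ⟩⟩
  · have h3 : ∀ i, ∃ a ∈ (1 : Submodule O K).colon (Subalgebra.toSubmodule (integralClosure O K)),
        algebraMap O K a = f i := fun i => by
      have := hf i (Set.mem_univ i)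
      refine Submodule.smul_induction_on (p := fun x => ∃ a ∈ _, algebraMap O K a = x) this
        (fun c hc x hx => ?_) (fun x y hx hy => ?_)
      · obtain ⟨r, rfl⟩ := Submodule.mem_one.1 hx
        exact ⟨c * r, Ideal.mul_mem_right _ _ hc, by rw [map_mul, Algebra.smul_def]⟩
      · obtain ⟨a, ha, rfl⟩ := hx
        obtain ⟨b, hb, rfl⟩ := hy
        exact ⟨a + b, add_mem ha hb, map_add _ _ _⟩
    choose a ha hfa using h3
    exact (funext hfa) ▸ h2 a ha
  · rintro _ ⟨m, rfl⟩ i -
    exact h1 m i

end Groth.Agent.S15035
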