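import Groth.Statements.S15012
import Groth.Agent.Curves2.Colength
import Groth.Agent.S15035
-- import your own Groth.Agent.* helpers here

set_option autoImplicit false
universe u
open TFCurv

namespace Groth.Agent.S15012

/-- Let O be a one-dimensional Gorenstein local domain with algebraically closed residue field whose
integral closure O~ in its fraction field K is a finite O-module, and let C ⊆ O be the conductor of
O in O~. Every finitely generated torsion-free O-module of rank n is isomorphic to an O-submodule M'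
of K^n with C^n ⊆ M' ⊆ O~^n and length(M'/C^n) = n · length(O/C); that is, every isomorphism class
of rank-n torsion-free modules is represented by a submodule of (O~/C)^n of the same length as
(O/C)^n. -/
theorem result (O : Type u) [CommRing O] [IsDomain O] [LocCoh.IsGorensteinLocalRing O] (hdim : ringKrullDim O = 1) [IsAlgClosed (IsLocalRing.ResidueField O)] (K : Type u) [Field K] [Algebra O K] [IsFractionRing O K] (hfin : Module.Finite O ↥(integralClosure O K)) (M : Type u) [AddCommGroup M] [Module O M] [Module.Finite O M] [NoZeroSMulDivisors O M] (n : ℕ) (hn : Module.finrank K (TensorProduct O K M) = n) : ∃ M' : Submodule O (Fin n → K), Submodule.pi Set.univ (fun _ : Fin n => (((1 : Submodule O K).colon (Subalgebra.toSubmodule (integralClosure O K))) • (1 : Submodule O K))) ≤ M' ∧ M' ≤ Submodule.pi Set.univ (fun _ : Fin n => (Subalgebra.toSubmodule (integralClosure O K))) ∧ Nonempty (M ≃ₗ[O] ↥M') ∧ Module.length O (↥M' ⧸ Submodule.comap M'.subtype (Submodule.pi Set.univ (fun _ : Fin n =>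 (((1 : Submodule O K).colon (Subalgebra.toSubmodule (integralClosure O K))) • (1 : Submodule O K))))) = (n : ℕ∞) * Module.length O (O ⧸ ((1 : Submodule O K).colon (Subalgebra.toSubmodule (integralClosure O K)))) := by
  haveI := hfin
  haveI : IsNoetherianRing O := by
    obtain ⟨d, hd, -⟩ := GrothGoren.exists_dim O ((GrothGoren.isGorenstein_iff O).1 ‹_›)
    infer_instance
  obtain ⟨M'', hC, h1, ⟨e⟩⟩ := Groth.Agent.S15035.result O hdim K hfin M n hn
  let 𝔠 : Ideal O := (1 : Submodule O K).colon (Subalgebra.toSubmodule (integralClosure O K))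
  let v : (Fin n → ↥(integralClosure O K)) →ₗ[O] (Fin n → K) :=
    (integralClosure O K).val.toLinearMap.compLeft (Fin n)
  have hv : Function.Injective v := fun a b h => funext fun i => Subtype.ext (congrFun h i)
  let Cn : Submodule O (Fin n → ↥(integralClosure O K)) :=
    (Groth.Curves2.Colength.condPow (O := O) K n).restrictScalars O
  let On := Groth.Curves2.Colength.std (O := O) K n
  have hmemc : ∀ x : K, x ∈ 𝔠 • (1 : Submodule O K) ↔ ∃ a ∈ 𝔠, algebraMap O K a = x := fun x => by
    refine ⟨fun hx => ?_, fun ⟨a, ha, h⟩ => ?_⟩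
    · refine Submodule.smul_induction_on (p := fun x => ∃ a ∈ 𝔠, algebraMap O K a = x) hx
        (fun c hc y hy => ?_) (fun y z hy hz => ?_)
      · obtain ⟨r, rfl⟩ := Submodule.mem_one.1 hy
        exact ⟨c * r, Ideal.mul_mem_right _ _ hc, by rw [map_mul, Algebra.smul_def]⟩
      · obtain ⟨a, ha, rfl⟩ := hy
        obtain ⟨b, hb, rfl⟩ := hz
        exact ⟨a + b, add_mem ha hb, map_add _ _ _⟩
    · rw [← h, Algebra.algebraMap_eq_smul_one]
      exact Submodule.smul_mem_smul ha (Submodule.one_le.1 le_rfl)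
  have hCn : ∀ x, x ∈ Cn ↔ v x ∈ Submodule.pi Set.univ (fun _ : Fin n => 𝔠 • (1 : Submodule O K)) := by
    refine fun x => ⟨fun hx i _ => ?_, fun hx i b => ?_⟩
    · obtain ⟨a, ha⟩ := hx i 1
      rw [mul_one] at ha
      refine (hmemc _).2 ⟨a, Submodule.mem_colon.2 fun b hb => ?_, congrArg Subtype.val ha⟩
      obtain ⟨r, hr⟩ := hx i ⟨b, hb⟩
      refine Submodule.mem_one.2 ⟨r, ?_⟩
      have h2 : algebraMap O K r = ((x i : ↥(integralClosure O K)) : K) * b := congrArg Subtype.val hr
      have h3 : algebraMap O K a = ((x i : ↥(integralClosure O K)) : K) := congrArg Subtype.val ha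
      rw [Algebra.smul_def, h2, h3]
    · obtain ⟨a, ha, hax⟩ := (hmemc _).1 (hx i (Set.mem_univ i))
      obtain ⟨r, hr⟩ := Submodule.mem_one.1 (Submodule.mem_colon.1 ha (b : K) b.2)
      refine ⟨r, Subtype.ext ?_⟩
      change algebraMap O K r = ((x i : ↥(integralClosure O K)) : K) * (b : K)
      rw [hr, Algebra.smul_def, hax]
      rfl
  have hOn : ∀ x, v x ∈ Submodule.pi Set.univ (fun _ : Fin n => (1 : Submodule O K)) → x ∈ On := by
    intro x hx i _
    obtain ⟨a, ha⟩ := Submodule.mem_one.1 (hx i (Set.mem_univ i))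
    exact ⟨a, Subtype.ext ha⟩
  let N := M''.comap v
  have hrange : M'' ≤ LinearMap.range v := fun y hy => by
    choose a ha using fun i => Submodule.mem_one.1 (h1 hy i (Set.mem_univ i))
    exact ⟨fun i => algebraMap O _ (a i), funext ha⟩
  have eN : ↥N ≃ₗ[O] ↥M'' :=
    (N.equivMapOfInjective v hv) ≪≫ₗ LinearEquiv.ofEq _ _ (Submodule.map_comap_eq_self hrange)
  obtain ⟨P, hCP, ⟨eP⟩, hlen⟩ := Groth.Curves2.Colength.exists_move (O := O) K hdim n N
    (fun x hx => hC ((hCn x).1 hx)) (fun x hx => hOn x (h1 hx))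
  refine ⟨P.map v, fun y hy => ?_, ?_, ⟨e ≪≫ₗ eN.symm ≪≫ₗ eP ≪≫ₗ P.equivMapOfInjective v hv⟩, ?_⟩
  · choose a ha hay using fun i => (hmemc _).1 (hy i (Set.mem_univ i))
    have hy' : v (fun i => algebraMap O _ (a i)) = y := funext hay
    rw [← hy'] at hy ⊢
    exact ⟨_, hCP ((hCn _).2 hy), rfl⟩
  · rintro _ ⟨x, -, rfl⟩ i -
    exact (x i).2
  have eq1 : (↥P ⧸ Cn.comap P.subtype) ≃ₗ[O] (↥(P.map v) ⧸ (Submodule.pi Set.univ
      (fun _ : Fin n => 𝔠 • (1 : Submodule O K))).comap (P.map v).subtype) :=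
    Submodule.Quotient.equiv _ _ (P.equivMapOfInjective v hv) (by
      ext ⟨y, hy⟩
      obtain ⟨x, hx, rfl⟩ := hy
      refine ⟨?_, fun h => ⟨⟨x, hx⟩, (hCn x).2 h, rfl⟩⟩
      rintro ⟨z, hz, hzx⟩
      have h3 : v z.1 = v x := congrArg Subtype.val hzx
      change v x ∈ Submodule.pi Set.univ (fun _ : Fin n => 𝔠 • (1 : Submodule O K))
      rw [← h3]
      exact (hCn _).1 hz)
  let g : (Fin n → O) →ₗ[O] ↥On ⧸ Cn.comap On.subtype :=
    (Submodule.mkQ _).comp (((Algebra.linearMap O ↥(integralClosure O K)).compLeft (Fin n)).codRestrict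
      On fun a i _ => ⟨a i, rfl⟩)
  have hg : Function.Surjective g := fun y => by
    obtain ⟨⟨y, hy⟩, rfl⟩ := Submodule.Quotient.mk_surjective _ y
    choose a ha using fun i => hy i (Set.mem_univ i)
    exact ⟨a, congrArg _ (Subtype.ext (funext ha))⟩
  have hK : Function.Injective (algebraMap O K) := IsFractionRing.injective O K
  have hker : LinearMap.ker g = Submodule.pi Set.univ (fun _ : Fin n => 𝔠) := by
    ext a
    refine (Submodule.Quotient.mk_eq_zero _).trans ⟨fun h i _ => ?_, fun h => (hCn _).2 fun i _ => ?_⟩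
    · obtain ⟨b, hb, hbe⟩ := (hmemc _).1 ((hCn _).1 h i (Set.mem_univ i))
      exact (hK (hbe : algebraMap O K b = algebraMap O K (a i))) ▸ hb
    · exact (hmemc _).2 ⟨a i, h i (Set.mem_univ i), rfl⟩
  refine eq1.length_eq.symm.trans (hlen.trans ?_)
  refine ((g.quotKerEquivOfSurjective hg).symm ≪≫ₗ Submodule.quotEquivOfEq _ _ hker ≪≫ₗ
    Submodule.quotientPi (fun _ : Fin n => 𝔠)).length_eq.trans ?_
  rw [Module.length_pi_of_fintype, Finset.sum_const, Finset.card_univ, Fintype.card_fin, nsmul_eq_mul]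

end Groth.Agent.S15012
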