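import Groth.Statements.S15017
import Groth.Agent.Curves2.Semigroup
-- import your own Groth.Agent.* helpers here

set_option autoImplicit false
open TFCurv

namespace Groth.Agent.S15017

/-- Let Γ be a numerical semigroup (a submonoid of (ℕ, +) with finite complement), Γ ≠ ℕ, with conductor
c (every n ≥ c lies in Γ, c − 1 does not). If Γ is symmetric (for x < c, x is a gap exactly when c −
1 − x ∈ Γ) and has multiplicity greater than 2 (neither 1 nor 2 lies in Γ), then Γ is generated by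
its elements smaller than c: every minimal generator of Γ is less than the conductor. -/
theorem result (Γ : AddSubmonoid ℕ) (c : ℕ) (hc : ∀ n : ℕ, c ≤ n → n ∈ Γ) (hc0 : c ≠ 0) (hc1 : c - 1 ∉ Γ) (hsymm : ∀ x : ℕ, x < c → (x ∉ Γ ↔ c - 1 - x ∈ Γ)) (he : (1 : ℕ) ∉ Γ ∧ (2 : ℕ) ∉ Γ) : AddSubmonoid.closure {γ : ℕ | γ ∈ Γ ∧ γ < c} = Γ := by
  have hex : ∃ x, x ∈ Γ ∧ x ≠ 0 := ⟨c, hc c le_rfl, hc0⟩
  classical
  obtain ⟨he', he0⟩ := Nat.find_spec hex
  set e := Nat.find hex with hedef
  have hemin : ∀ γ : ℕ, γ ∈ Γ → γ ≠ 0 → e ≤ γ := fun γ h1 h2 => Nat.find_min' hex ⟨h1, h2⟩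
  have he2 : 2 < e := by
    by_contra hle
    have : e = 1 ∨ e = 2 := by omega
    rcases this with h | h
    · exact he.1 (h ▸ he')
    · exact he.2 (h ▸ he')
  refine le_antisymm ?_ ?_
  · exact AddSubmonoid.closure_le.2 fun γ hγ => hγ.1
  · intro n hn
    induction n using Nat.strong_induction_on with
    | _ n ih =>
      by_cases hlt : n < c
      · exact AddSubmonoid.subset_closure ⟨hn, hlt⟩
      · obtain ⟨a, b, ha, hb, han, hbn, rfl⟩ :=
          Groth.Curves2.NumSgp.exists_decomp hc hc0 hsymm he' he2 hemin (Nat.le_of_not_lt hlt)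
        exact add_mem (ih a han ha) (ih b hbn hb)

end Groth.Agent.S15017
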