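import Groth.Statements.S15018
-- import your own Groth.Agent.* helpers here

set_option autoImplicit false
open TFCurv

namespace Groth.Agent.S15018

/-- Let Γ be a numerical semigroup (a submonoid of (ℕ, +) with finite complement), Γ ≠ ℕ, with conductor
c (every n ≥ c lies in Γ, c − 1 does not). Then Γ is symmetric (for x < c, x is a gap exactly when c
− 1 − x ∈ Γ) if and only if there is exactly one gap n of Γ such that Γ ∪ {n} is again stable under
adding elements of Γ, i.e. n + γ ∈ Γ for every nonzero γ ∈ Γ. -/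
theorem result (Γ : AddSubmonoid ℕ) (c : ℕ) (hc : ∀ n : ℕ, c ≤ n → n ∈ Γ) (hc0 : c ≠ 0) (hc1 : c - 1 ∉ Γ) : (∀ x : ℕ, x < c → (x ∉ Γ ↔ c - 1 - x ∈ Γ)) ↔ ∃! n : ℕ, n ∉ Γ ∧ ∀ γ : ℕ, γ ∈ Γ → γ ≠ 0 → n + γ ∈ Γ := by
  constructor
  · intro hsymm
    refine ⟨c - 1, ⟨hc1, fun γ _ h0 => hc _ (by omega)⟩, ?_⟩
    rintro n ⟨hn, hn'⟩
    have hlt : n < c := by by_contra h; exact hn (hc n (by omega))
    by_contra hne
    have h1 := (hsymm n hlt).1 hn
    have h2 := hn' _ h1 (by omega)
    rw [show n + (c - 1 - n) = c - 1 by omega] at h2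
    exact hc1 h2
  · rintro ⟨m, -, huniq⟩ x hx
    constructor
    · intro hxg
      classical
      have hm : m = c - 1 := (huniq _ ⟨hc1, fun γ _ h0 => hc _ (by omega)⟩).symm
      let P : ℕ → Prop := fun γ => γ ∈ Γ ∧ x + γ ∉ Γ
      have hP0 : P 0 := ⟨zero_mem _, by simpa using hxg⟩
      set M := Nat.findGreatest P c with hM
      have hMP : P M := Nat.findGreatest_spec (Nat.zero_le c) hP0
      have hpf : x + M = m := by
        refine huniq _ ⟨hMP.2, fun γ hγ h0 => ?_⟩
        by_contra hbad
        have hP : P (M + γ) := ⟨add_mem hMP.1 hγ, by rwa [← add_assoc]⟩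
        have hle : M + γ ≤ c := by
          by_contra h
          exact hP.2 (hc _ (by omega))
        have := Nat.le_findGreatest hle hP
        omega
      rw [show c - 1 - x = M by omega]
      exact hMP.1
    · intro h1 hxm
      have := add_mem hxm h1
      rw [show x + (c - 1 - x) = c - 1 by omega] at this
      exact hc1 this

end Groth.Agent.S15018
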