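import Groth.Statements.S15019
import Groth.Agent.Curves2.Semigroup
-- import your own Groth.Agent.* helpers here

set_option autoImplicit false
open TFCurv

namespace Groth.Agent.S15019

/-- Let Γ be a numerical semigroup (a submonoid of (ℕ, +) with finite complement), Γ ≠ ℕ, with conductor
c (every n ≥ c lies in Γ, c − 1 does not), let e be its multiplicity (the least nonzero element of
Γ), and let S ⊆ ℕ be a Γ-module in normal form: 0 ∈ S and γ + s ∈ S for all γ ∈ Γ, s ∈ S. Then the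
set of gaps n of S with S ∪ {n} again a Γ-module (n + γ ∈ S for every nonzero γ ∈ Γ) has at most e −
1 elements, and so does the set of nonzero s ∈ S with S ∖ {s} again a Γ-module (s − γ ∉ S for every
nonzero γ ∈ Γ with γ ≤ s). -/
theorem result (Γ : AddSubmonoid ℕ) (c : ℕ) (hc : ∀ n : ℕ, c ≤ n → n ∈ Γ) (hc0 : c ≠ 0) (hc1 : c - 1 ∉ Γ) (e : ℕ) (he : e ∈ Γ) (he0 : e ≠ 0) (hemin : ∀ γ : ℕ, γ ∈ Γ → γ ≠ 0 → e ≤ γ) (S : Set ℕ) (hS0 : (0 : ℕ) ∈ S) (hS : ∀ γ : ℕ, γ ∈ Γ → ∀ s : ℕ, s ∈ S → γ + s ∈ S) : {n : ℕ | n ∉ S ∧ ∀ γ : ℕ, γ ∈ Γ → γ ≠ 0 → n + γ ∈ S}.encard ≤ ((e - 1 : ℕ) : ℕ∞) ∧ {s : ℕ | s ∈ S ∧ s ≠ 0 ∧ ∀ γ : ℕ, γ ∈ Γ → γ ≠ 0 → γ ≤ s → s - γ ∉ S}.encard ≤ ((e - 1 : ℕ) : ℕ∞) := by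
  have key : ∀ A : Set ℕ, (∀ x ∈ A, x % e ≠ 0) →
      (∀ x ∈ A, ∀ y ∈ A, x < y → x % e ≠ y % e) → A.encard ≤ ((e - 1 : ℕ) : ℕ∞) := by
    intro A h1 h2
    have hmaps : Set.MapsTo (fun x => x % e) A ↑(Finset.Ico 1 e) := by
      intro x hx
      have := h1 x hx
      have := Nat.mod_lt x (Nat.pos_of_ne_zero he0)
      simp only [Finset.coe_Ico, Set.mem_Ico]
      omega
    have hinj : Set.InjOn (fun x => x % e) A := by
      intro x hx y hy hxy
      rcases lt_trichotomy x y with h | h | h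
      · exact absurd hxy (h2 x hx y hy h)
      · exact h
      · exact absurd hxy.symm (h2 y hy x hx h)
    calc A.encard = ((fun x => x % e) '' A).encard := hinj.encard_image.symm
      _ ≤ (↑(Finset.Ico 1 e) : Set ℕ).encard := Set.encard_le_encard hmaps.image_subset
      _ = _ := by rw [Set.encard_coe_eq_coe_finsetCard, Nat.card_Ico]
  have hcong : ∀ x y : ℕ, x < y → x % e = y % e → (y - x) ∈ Γ ∧ y - x ≠ 0 := by
    intro x y hxy h
    obtain ⟨j, hj⟩ := (Nat.modEq_iff_dvd' hxy.le).1 h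
    exact ⟨by rw [hj, mul_comm]; exact Groth.Curves2.NumSgp.mul_mem he j, by omega⟩
  have hdiv : ∀ x : ℕ, x % e = 0 → x ∈ Γ := fun x h => by
    have := Groth.Curves2.NumSgp.mul_mem he (x / e)
    rwa [Nat.div_mul_cancel (Nat.dvd_of_mod_eq_zero h)] at this
  constructor
  · refine key _ (fun x hx h => hx.1 ?_) (fun x hx y hy hxy h => hy.1 ?_)
    · simpa using hS x (hdiv x h) 0 hS0
    · obtain ⟨h1, h2⟩ := hcong x y hxy h
      have := hx.2 _ h1 h2
      rwa [show x + (y - x) = y by omega] at this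
  · refine key _ (fun x hx h => ?_) (fun x hx y hy hxy h => ?_)
    · exact hx.2.2 x (hdiv x h) hx.2.1 le_rfl (by simpa using hS0)
    · obtain ⟨h1, h2⟩ := hcong x y hxy h
      exact hy.2.2 _ h1 h2 (by omega) (by rw [show y - (y - x) = x by omega]; exact hx.1)

end Groth.Agent.S15019
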