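import Groth.Statements.S7197
import Groth.Agent.FlatmorThree.AmpleFamily
import Groth.Agent.Ega2Proj.RelProjAmple
import Groth.Agent.Chow.DenseAffine
import Groth.Agent.S8910
import Groth.Agent.RefRank.AdmBlowUp
import Groth.Agent.FlatMorOne.FTIdeal
import Groth.Agent.Divisors.EffCartierMore
-- import your own Groth.Agent.* helpers here

set_option autoImplicit false
universe u
open FlatMor

namespace Groth.Agent.S7197

open AlgebraicGeometry CategoryTheory Limits in
/-- A quasi-compact quasi-separated scheme X with finitely many irreducible components admits a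
quasi-compact dense open U together with a blowing up X' → X which is U-admissible and whose source
X' carries an ample family of invertible modules. -/
theorem result (X : Scheme.{u}) [CompactSpace ↥X] [QuasiSeparatedSpace ↥X]
    (hirr : (irreducibleComponents ↥X).Finite) :
    ∃ (U : X.Opens) (𝓘 : X.IdealSheafData) (X' : Scheme.{u}) (b : X' ⟶ X),
      IsCompact (U : Set ↥X) ∧ Dense (U : Set ↥X) ∧ BlowUp.IsAdmissibleFor U 𝓘 ∧ BlowUp.IsBlowUp b 𝓘 ∧
      MoreMor.HasAmpleFamily X' := by
  classical
  choose V hVa hxV hVd using fun x => Groth.Chow.exists_dense_affine hirr x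
  obtain ⟨t, ht⟩ := isCompact_univ.elim_finite_subcover (fun x => (V x : Set X)) (fun x => (V x).2)
    (fun x _ => Set.mem_iUnion.2 ⟨x, hxV x⟩)
  choose I hI hIs using fun x => Groth.FlatMorOne.exists_ftIdeal_support_eq
    ⟨(V x : Set X)ᶜ, (V x).2.isClosed_compl⟩ (show IsCompact ((V x : Set X)ᶜ)ᶜ by
      rw [compl_compl]; exact (hVa x).isCompact)
  let U : X.Opens := t.inf V
  have hUV : ∀ x ∈ t, U ≤ V x := fun x hx => Finset.inf_le hx
  have key : ∀ s : Finset X, IsCompact ((s.inf V : X.Opens) : Set X) ∧ Dense ((s.inf V : X.Opens) : Set X) := by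
    intro s
    induction s using Finset.induction with
    | empty =>
      rw [Finset.inf_empty]
      exact ⟨isCompact_univ, dense_univ⟩
    | insert a s _ ih =>
      rw [Finset.inf_insert, TopologicalSpace.Opens.coe_inf]
      exact ⟨QuasiSeparatedSpace.inter_isCompact _ _ (V a).2 (hVa a).isCompact (s.inf V).2 ih.1,
        (hVd a).inter_of_isOpen_left ih.2 (V a).2⟩
  have hadm : BlowUp.IsAdmissibleFor U (∏ x ∈ t, I x) := Groth.RefRank.isAdmissibleFor_prod _ _
    fun x hx => ⟨hI x, by
      rw [hIs]
      exact Set.disjoint_left.2 fun y hy hyU => hy (hUV x hx hyU)⟩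
  obtain ⟨X', b, hb⟩ := Groth.BlowUpBasics.exists_isBlowUp X (∏ x ∈ t, I x)
  obtain ⟨L, hL⟩ := (Groth.Ega2Proj.isQuasiProjective_of_isProjective
    (Groth.Agent.S8910.result _ hadm.1 b hb)).2.2
  let e : Fin t.card ≃ t := t.equivFin.symm
  refine ⟨U, _, X', b, (key t).1, (key t).2, hadm, hb, ?_⟩
  refine Groth.FlatmorThree.AmpleFam.hasAmpleFamily_of_divisors (fun i => (I (e i).1).comap b) ?_ ?_
    (fun _ => L) (fun _ => Groth.Ega2Proj.isInvertible_of_isRelAmple hL) ?_
  · intro i
    have h := hb.1
    rw [← Finset.prod_erase_mul t I (e i).2, Groth.Divisors.comap_mul] at h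
    exact (Groth.Divisors.isEffCartierIdeal_factors h).2
  · refine Set.eq_empty_iff_forall_notMem.2 fun y hy => ?_
    obtain ⟨x, hx, hyx⟩ := Set.mem_iUnion₂.1 (ht (Set.mem_univ (b y)))
    obtain ⟨i, hi⟩ := e.surjective ⟨x, hx⟩
    have h := Set.mem_iInter.1 hy i
    simp only [hi, Scheme.IdealSheafData.support_comap] at h
    have h' : b y ∈ ((I x).support : Set X) := h
    rw [hIs] at h'
    exact h' hyx
  · intro i
    have hop : ((I (e i).1).comap b).support.compl = b ⁻¹ᵁ V (e i).1 := by
      refine TopologicalSpace.Opens.ext ?_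
      show (((I (e i).1).comap b).support : Set X')ᶜ = _
      rw [Scheme.IdealSheafData.support_comap]
      show (b.base ⁻¹' ((I (e i).1).support : Set X))ᶜ = _
      rw [hIs]
      exact compl_compl _
    rw [hop]
    exact hL.2 ⟨V (e i).1, hVa _⟩

end Groth.Agent.S7197
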