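import Groth.Statements.S1502
import Groth.Agent.S7197
import Groth.Agent.FlatmorThree.AmpleFamilyCoprod
import Groth.Agent.HTopHyper.PhGlue
import Groth.Agent.HTopHyper.BlowUpProper
import Groth.Agent.BlowUpBasics.Universal
import Groth.Agent.Cycles.PushDiv
import Groth.Agent.Limits.Approximation
-- import your own Groth.Agent.* helpers here

set_option autoImplicit false
universe u
open FlatMor

namespace Groth.Agent.S1502

section aux

open AlgebraicGeometry CategoryTheory Limits TopologicalSpace

variable {A B C : Scheme.{u}}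

theorem bijective_right (p : A ⟶ B) (q : B ⟶ C) [IsPreimmersion (p ≫ q)] (a : A) :
    Function.Bijective (q.residueFieldMap (p a)).hom := by
  have h : (p.residueFieldMap a).hom ∘ (q.residueFieldMap (p a)).hom = ((p ≫ q).residueFieldMap a).hom :=
    funext fun c => (Groth.Cycles.residueFieldMap_comp_apply p q a c).symm
  refine ⟨(q.residueFieldMap (p a)).hom.injective, Function.Surjective.of_comp_left ?_
    (p.residueFieldMap a).hom.injective⟩
  rw [h]
  exact (Groth.Cycles.residueFieldMap_bijective (p ≫ q) a).2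

theorem bijective_comp (p : A ⟶ B) (q : B ⟶ C) (a : A) (hp : Function.Bijective (p.residueFieldMap a).hom)
    (hq : Function.Bijective (q.residueFieldMap (p a)).hom) :
    Function.Bijective ((p ≫ q).residueFieldMap a).hom := by
  have h : (p.residueFieldMap a).hom ∘ (q.residueFieldMap (p a)).hom = ((p ≫ q).residueFieldMap a).hom :=
    funext fun c => (Groth.Cycles.residueFieldMap_comp_apply p q a c).symm
  exact h ▸ hp.comp hq

/-- A completely decomposed proper cover with an ample family of a closed subset of a Noetherian scheme. -/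
theorem exists_cover_noetherian {X : Scheme.{u}} [IsNoetherian X] (Z : Closeds X) :
    ∃ (Y : Scheme.{u}) (f : Y ⟶ X), IsProper f ∧
      (∀ x ∈ Z, ∃ y : Y, f y = x ∧ Function.Bijective (f.residueFieldMap y).hom) ∧ MoreMor.HasAmpleFamily Y := by
  induction Z using WellFoundedLT.induction with
  | ind Z ih =>
    let I := Scheme.IdealSheafData.vanishingIdeal Z
    let V := I.subscheme
    let ι : V ⟶ X := I.subschemeι
    have hι : Set.range ι = (Z : Set X) := by
      rw [I.range_subschemeι, Scheme.IdealSheafData.coe_support_vanishingIdeal]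
    have : IsLocallyNoetherian V := LocallyOfFiniteType.isLocallyNoetherian ι
    have : CompactSpace V := QuasiCompact.compactSpace_of_compactSpace ι
    have : IsNoetherian V := {}
    obtain ⟨U, J, V', b, -, hUd, hJU, hb, hV'⟩ :=
      Groth.Agent.S7197.result V NoetherianSpace.finite_irreducibleComponents
    have : IsProper b := Groth.HTopHyper.isProper_of_isBlowUp hb fun W => by
      have : IsNoetherianRing Γ(V, W.1) := IsLocallyNoetherian.component_noetherian W
      exact IsNoetherian.noetherian _
    have : IsIso (b ∣_ U) := Groth.BlowUpBasics.isIso_morphismRestrict hb U hJU.2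
    have hlift : ∀ v ∈ U, ∃ w : V', b w = v ∧ Function.Bijective ((b ≫ ι).residueFieldMap w).hom := by
      intro v hv
      let s : (U : Scheme.{u}) ⟶ V' := inv (b ∣_ U) ≫ (b ⁻¹ᵁ U).ι
      have hs : s ≫ b = U.ι := by
        rw [Category.assoc, ← morphismRestrict_ι, IsIso.inv_hom_id_assoc]
      have : IsPreimmersion (s ≫ b) := by rw [hs]; infer_instance
      refine ⟨s ⟨v, hv⟩, ?_, bijective_comp b ι _ (bijective_right s b _)
        (Groth.Cycles.residueFieldMap_bijective ι _)⟩
      rw [← Scheme.Hom.comp_apply, hs]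
      rfl
    by_cases hZ : (Z : Set X) = ∅
    · exact ⟨V', b ≫ ι, inferInstance, fun x hx => ((Set.eq_empty_iff_forall_notMem.1 hZ) x hx).elim, hV'⟩
    · let Z' : Closeds X := ⟨ι '' (U : Set V)ᶜ, ι.isClosedEmbedding.isClosedMap _ U.2.isClosed_compl⟩
      have hlt : Z' < Z := by
        refine lt_of_le_of_ne (fun x hx => ?_) fun hEq => ?_
        · obtain ⟨v, -, rfl⟩ := hx
          show ι v ∈ (Z : Set X)
          rw [← hι]
          exact ⟨v, rfl⟩
        · obtain ⟨x, hx⟩ := Set.nonempty_iff_ne_empty.2 hZ
          rw [← hι] at hx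
          obtain ⟨v, rfl⟩ := hx
          have : Nonempty V := ⟨v⟩
          obtain ⟨v', hv'⟩ := hUd.nonempty
          have hmem : ι v' ∈ (Z : Set X) := hι ▸ ⟨v', rfl⟩
          rw [← hEq] at hmem
          obtain ⟨v'', hv'', he⟩ := hmem
          exact hv'' (ι.isClosedEmbedding.injective he ▸ hv')
      obtain ⟨Y₁, f₁, hf₁, hcov, hY₁⟩ := ih Z' hlt
      refine ⟨V' ⨿ Y₁, coprod.desc (b ≫ ι) f₁, Groth.HTopHyper.isProper_coprodDesc _ _, fun x hx => ?_,
        Groth.FlatmorThree.AmpleFam.hasAmpleFamily_coprod hV' hY₁⟩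
      replace hx : x ∈ (Z : Set X) := hx
      rw [← hι] at hx
      obtain ⟨v, rfl⟩ := hx
      have push : ∀ {P : Scheme.{u}} (k : P ⟶ V' ⨿ Y₁) [IsPreimmersion k] (g : P ⟶ X)
          (hk : k ≫ coprod.desc (b ≫ ι) f₁ = g) (y : P), Function.Bijective (g.residueFieldMap y).hom →
          Function.Bijective ((coprod.desc (b ≫ ι) f₁).residueFieldMap (k y)).hom := by
        intro P k _ g hk y hy
        subst hk
        have h : (k.residueFieldMap y).hom ∘ ((coprod.desc (b ≫ ι) f₁).residueFieldMap (k y)).hom =
            ((k ≫ coprod.desc (b ≫ ι) f₁).residueFieldMap y).hom :=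
          funext fun c => (Groth.Cycles.residueFieldMap_comp_apply _ _ y c).symm
        refine ⟨((coprod.desc (b ≫ ι) f₁).residueFieldMap (k y)).hom.injective,
          Function.Surjective.of_comp_left ?_ (k.residueFieldMap y).hom.injective⟩
        rw [h]; exact hy.2
      by_cases hv : v ∈ U
      · obtain ⟨w, hw, hbij⟩ := hlift v hv
        refine ⟨(coprod.inl : V' ⟶ V' ⨿ Y₁) w, ?_, push _ _ (coprod.inl_desc _ _) w hbij⟩
        rw [← Scheme.Hom.comp_apply, coprod.inl_desc, Scheme.Hom.comp_apply, hw]
      · obtain ⟨y, hy, hbij⟩ := hcov (ι v) ⟨v, hv, rfl⟩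
        refine ⟨(coprod.inr : Y₁ ⟶ V' ⨿ Y₁) y, ?_, push _ _ (coprod.inr_desc _ _) y hbij⟩
        rw [← Scheme.Hom.comp_apply, coprod.inr_desc, hy]

end aux

open AlgebraicGeometry CategoryTheory Limits in
/-- Let X be quasi-compact and quasi-separated. Then there is a morphism f : Y → X which is proper, of
finite presentation and completely decomposed (every point of X is the image of a point with trivial
residue field extension) such that Y has an ample family of invertible modules. -/
theorem result (X : Scheme.{u}) [CompactSpace ↑X] [QuasiSeparatedSpace ↑X] :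
    ∃ (Y : Scheme.{u}) (f : Y ⟶ X), IsProper f ∧ LocallyOfFinitePresentation f ∧
      (∀ x : X, ∃ y : Y, f y = x ∧ Function.Bijective (f.residueFieldMap y)) ∧ MoreMor.HasAmpleFamily Y := by
  obtain ⟨D⟩ := Groth.Limits.exists_zsystem X
  obtain ⟨i⟩ := (inferInstance : Nonempty D.Iᵒᵖ)
  have : ∀ {i j : D.Iᵒᵖ} (a : i ⟶ j), IsAffineHom (D.D.map a) := fun a => D.affine _ _ a
  let π : X ⟶ D.D.obj i := D.π.app i
  have : IsAffineHom π := isAffineHom_π_app D.D _ D.isLimit i
  obtain ⟨Y₀, g, hg, hcov, hY₀⟩ := exists_cover_noetherian (X := D.D.obj i) ⊤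
  have : LocallyOfFinitePresentation g := inferInstance
  refine ⟨pullback π g, pullback.fst π g, inferInstance, inferInstance, fun x => ?_,
    Groth.Agent.S7184.result (pullback.snd π g) (Or.inl (MorphismProperty.pullback_snd π g ‹IsAffineHom π›)) hY₀⟩
  obtain ⟨y₀, hy, hb⟩ := hcov (π x) trivial
  have : IsIso (g.residueFieldMap y₀) := (ConcreteCategory.isIso_iff_bijective _).2 hb
  let a : Y₀.residueField y₀ ⟶ X.residueField x :=
    inv (g.residueFieldMap y₀) ≫ (Scheme.residueFieldCongr hy).hom ≫ π.residueFieldMap x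
  let s : Spec (X.residueField x) ⟶ pullback π g := pullback.lift (X.fromSpecResidueField x)
    (Spec.map a ≫ Y₀.fromSpecResidueField y₀) (by
      rw [Category.assoc, ← Scheme.Hom.SpecMap_residueFieldMap_fromSpecResidueField g y₀,
        ← Spec.map_comp_assoc]
      simp only [a, IsIso.hom_inv_id_assoc]
      rw [Spec.map_comp_assoc, Scheme.residueFieldCongr_fromSpecResidueField,
        Scheme.Hom.SpecMap_residueFieldMap_fromSpecResidueField])
  have hs : s ≫ pullback.fst π g = X.fromSpecResidueField x := pullback.lift_fst _ _ _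
  have : IsPreimmersion (s ≫ pullback.fst π g) := by rw [hs]; infer_instance
  let pt : Spec (X.residueField x) := IsLocalRing.closedPoint (X.residueField x)
  refine ⟨s pt, ?_, bijective_right s (pullback.fst π g) pt⟩
  rw [← Scheme.Hom.comp_apply, hs, Scheme.fromSpecResidueField_apply]

end Groth.Agent.S1502
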