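import Groth.Statements.S15023
import Mathlib
import Groth.Agent.Curves2.ValueSet
import Groth.Agent.S15020
import Groth.Agent.Curves2.RankEmbed
-- import your own Groth.Agent.* helpers here

set_option autoImplicit false
universe u
open TFCurv

namespace Groth.Agent.S15023

set_option maxHeartbeats 800000
set_option synthInstance.maxHeartbeats 100000

/-- Let k be an algebraically closed field and A ≠ k[[t]] a k-subalgebra of k[[t]] that is closed in the
t-adic topology, over which k[[t]] is a finite module, and such that every power series is carried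
into A by multiplication with some nonzero element of A (so k[[t]] lies in the fraction field of A
and is its normalisation, as for the complete local ring of a unibranch curve singularity), and let
Γ ⊆ ℕ be the set of t-orders of the nonzero elements of A (its value semigroup); assume moreover
that A is the monomial ring of Γ (a power series lies in A exactly when all its exponents lie in Γ),
and let δ be the number of gaps of Γ. Then every finitely generated torsion-free A-module of rank
one is isomorphic to an A-submodule M' of k[[t]] with t^{2δ} k[[t]] ⊆ M' and dim_k(k[[t]]/M') = δ,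
equivalently dim_k(M'/t^{2δ}k[[t]]) = δ: every isomorphism class of rank-one torsion-free modules is
represented by a δ-dimensional A-stable subspace of k[[t]]/t^{2δ}k[[t]]. -/
theorem result (k : Type u) [Field k] [IsAlgClosed k] (A : Subalgebra k (PowerSeries k)) (hA : Module.Finite ↥A (PowerSeries k)) (hcl : ∀ f : PowerSeries k, (∀ n : ℕ, ∃ g ∈ A, (n : ℕ∞) ≤ PowerSeries.order (f - g)) → f ∈ A) (hsing : A ≠ ⊤) (hbir : ∀ f : PowerSeries k, ∃ a ∈ A, a ≠ 0 ∧ a * f ∈ A) (Γ : Set ℕ) (hΓ : ∀ n : ℕ, n ∈ Γ ↔ ∃ f ∈ A, PowerSeries.order f = n) (hmono : ∀ f : PowerSeries k, f ∈ A ↔ ∀ n : ℕ, PowerSeries.coeff n f ≠ 0 → n ∈ Γ) (M : Type u) [AddCommGroup M] [Module ↥A M] [Module.Finite ↥A M] [NoZeroSMulDivisors ↥A M] (hrk : Module.finrank (FractionRing ↥A) (TensorProduct ↥A (FractionRing ↥A) M) = 1) : ∃ M' : Submodule ↥A (PowerSeries k), (Ideal.span {(PowerSeries.X : PowerSeries k) ^ (2 * Γᶜ.ncard)}).restrictScalars ↥A ≤ M' ∧ Nonempty (M ≃ₗ[↥A] ↥M') ∧ Module.finrank k (PowerSeries k ⧸ M'.restrictScalars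 k) = Γᶜ.ncard := by
  classical
  obtain ⟨c0, hc0⟩ := Groth.Curves2.ValueSet.exists_conductor A hA hbir
  -- an embedding of `M` into `k[[t]]`
  obtain ⟨j₀, hj₀⟩ := Groth.Curves2.Lattice.exists_injective_linearMap_base
    (R := ↥A) (K := FractionRing ↥A) (M := M) hrk
  let ι : M →ₗ[↥A] PowerSeries k := (Algebra.linearMap ↥A (PowerSeries k)).comp j₀
  have hι : Function.Injective ι :=
    Function.Injective.comp (g := Algebra.linearMap ↥A (PowerSeries k)) Subtype.val_injective hj₀
  -- the least order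
  have hM0 : ∃ x : M, x ≠ 0 := by
    by_contra h
    push_neg at h
    have : Subsingleton M := ⟨fun x y => by rw [h x, h y]⟩
    have : Subsingleton (TensorProduct ↥A (FractionRing ↥A) M) :=
      subsingleton_of_forall_eq 0 fun z => by
        induction z using TensorProduct.induction_on with
        | zero => rfl
        | tmul a m => rw [Subsingleton.elim m 0, TensorProduct.tmul_zero]
        | add a b ha hb => rw [ha, hb, add_zero]
    rw [Module.finrank_zero_of_subsingleton] at hrk
    exact zero_ne_one hrk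
  have hex : ∃ n : ℕ, ∃ g ∈ LinearMap.range ι, PowerSeries.order g = n := by
    obtain ⟨x, hx⟩ := hM0
    obtain ⟨n, hn⟩ := ENat.ne_top_iff_exists.1
      ((PowerSeries.order_finite_iff_ne_zero.2 (fun h => hx (hι (h.trans (map_zero ι).symm)))).ne)
    exact ⟨n, ι x, ⟨x, rfl⟩, hn.symm⟩
  set m := Nat.find hex with hmdef
  let mulX : ℕ → (PowerSeries k →ₗ[↥A] PowerSeries k) := fun d =>
    LinearMap.mulLeft ↥A ((PowerSeries.X : PowerSeries k) ^ d)
  have hmulX : ∀ d, Function.Injective (mulX d) := fun d =>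
    mul_right_injective₀ (pow_ne_zero d PowerSeries.X_ne_zero)
  set N := (LinearMap.range ι).comap (mulX m) with hN
  have hNmap : N.map (mulX m) = LinearMap.range ι := by
    rw [hN, Submodule.map_comap_eq, inf_eq_right]
    rintro g hg
    by_cases hg0 : g = 0
    · exact hg0 ▸ zero_mem _
    obtain ⟨n, hn⟩ := ENat.ne_top_iff_exists.1 ((PowerSeries.order_finite_iff_ne_zero.2 hg0).ne)
    have hmn : m ≤ n := Nat.find_min' hex ⟨g, hg, hn.symm⟩
    obtain ⟨q, hq⟩ : (PowerSeries.X : PowerSeries k) ^ m ∣ g :=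
      PowerSeries.X_pow_dvd_iff.2 fun i hi => PowerSeries.coeff_of_lt_order i
        (by rw [← hn]; exact_mod_cast (by omega : i < n))
    exact ⟨q, hq.symm⟩
  obtain ⟨g0, hg0N, hg0⟩ : ∃ g0 ∈ N, PowerSeries.order g0 = ((0 : ℕ) : ℕ∞) := by
    obtain ⟨g, hg, hgo⟩ := Nat.find_spec hex
    rw [← hNmap] at hg
    obtain ⟨q, hq, rfl⟩ := hg
    refine ⟨q, hq, ?_⟩
    change PowerSeries.order (PowerSeries.X ^ m * q) = (m : ℕ∞) at hgo
    rw [PowerSeries.order_mul, PowerSeries.order_X_pow] at hgo
    induction ho : PowerSeries.order q using ENat.recTopCoe with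
    | top => rw [ho, add_top] at hgo; exact absurd hgo (ENat.top_ne_natCast m)
    | coe o =>
      rw [ho, ← Nat.cast_add, Nat.cast_inj] at hgo
      obtain rfl : o = 0 := by omega
      rfl
  set S : Set ℕ := {n | ∃ f ∈ N, PowerSeries.order f = n} with hS
  let Γm : AddSubmonoid ℕ :=
    { carrier := Γ
      zero_mem' := (hΓ 0).2 ⟨1, A.one_mem, by simp⟩
      add_mem' := fun {a b} ha hb => by
        obtain ⟨f, hf, hfo⟩ := (hΓ a).1 ha
        obtain ⟨g, hg, hgo⟩ := (hΓ b).1 hb
        exact (hΓ _).2 ⟨f * g, A.mul_mem hf hg, by rw [PowerSeries.order_mul, hfo, hgo, Nat.cast_add]⟩ }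
  have hSmod : ∀ γ : ℕ, γ ∈ Γm → ∀ s : ℕ, s ∈ S → γ + s ∈ S := by
    intro γ hγ s hs
    obtain ⟨f, hf, hfo⟩ := (hΓ γ).1 hγ
    obtain ⟨g, hg, hgo⟩ := hs
    exact ⟨(⟨f, hf⟩ : ↥A) • g, N.smul_mem _ hg, by
      change PowerSeries.order (f * g) = _
      rw [PowerSeries.order_mul, hfo, hgo, Nat.cast_add]⟩
  have hS0 : (0 : ℕ) ∈ S := ⟨g0, hg0N, hg0⟩
  have hΓc : ∀ n, c0 ≤ n → n ∈ Γ := fun n hn => (hΓ n).2 ⟨PowerSeries.X ^ n, hc0 _ (by
    rw [PowerSeries.order_X_pow]; exact_mod_cast hn), PowerSeries.order_X_pow n⟩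
  have hΓS : ∀ n, n ∈ Γ → n ∈ S := fun n hn => by simpa using hSmod n hn 0 hS0
  have hexΓ : ∃ c, ∀ n, c ≤ n → n ∈ Γ := ⟨c0, hΓc⟩
  set c := Nat.find hexΓ with hcdef
  have hcne : c ≠ 0 := by
    intro h
    refine hsing (eq_top_iff.2 fun f _ => ?_)
    let B : Submodule ↥A (PowerSeries k) := 1
    have hB : ∀ x : PowerSeries k, x ∈ B ↔ x ∈ A := fun x => by
      rw [Submodule.mem_one]
      exact ⟨fun ⟨y, hy⟩ => hy ▸ y.2, fun hx => ⟨⟨x, hx⟩, rfl⟩⟩
    rw [← hB]
    refine Groth.Curves2.ValueSet.mem_of_le_order A hA B 0 (fun n hn => ?_) (by simp)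
    obtain ⟨x, hx, hxo⟩ := (hΓ n).1 (Nat.find_spec hexΓ n (by omega))
    exact ⟨x, (hB x).2 hx, hxo⟩
  have hc1 : c - 1 ∉ Γ := by
    intro h
    refine Nat.find_min hexΓ (show c - 1 < c by omega) fun n hn => ?_
    rcases lt_or_eq_of_le hn with h' | h'
    · exact Nat.find_spec hexΓ n (by omega)
    · exact h' ▸ h
  have hexS : ∃ cS, ∀ n, cS ≤ n → n ∈ S := ⟨c0, fun n hn => hΓS n (hΓc n hn)⟩
  set cS := Nat.find hexS with hcSdef
  have hcS1 : cS = 0 ∨ cS - 1 ∉ S := by
    by_cases h0 : cS = 0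
    · exact Or.inl h0
    refine Or.inr fun h => Nat.find_min hexS (show cS - 1 < cS by omega) fun n hn => ?_
    rcases lt_or_eq_of_le hn with h' | h'
    · exact Nat.find_spec hexS n (by omega)
    · exact h' ▸ h
  have hr := Groth.Agent.S15020.result Γm c (Nat.find_spec hexΓ) hcne hc1 S hS0 hSmod cS
    (Nat.find_spec hexS) hcS1
  have hΓfin : Γᶜ.Finite := (Set.finite_le_nat c0).subset fun n hn => by
    simp only [Set.mem_setOf_eq]; by_contra h; exact hn (hΓc n (by omega))
  have hδS : Sᶜ.ncard ≤ Γᶜ.ncard := Set.ncard_le_ncard (Set.compl_subset_compl.2 hΓS) hΓfin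
  have hsplit : cS = {s : ℕ | s ∈ S ∧ s < cS}.ncard + Sᶜ.ncard := by
    rw [← Set.ncard_union_eq ?_ ((Set.finite_lt_nat cS).subset fun x hx => hx.2)
      (hΓfin.subset (Set.compl_subset_compl.2 hΓS))]
    · conv_lhs => rw [← Set.ncard_Iio_nat cS]
      congr 1
      ext x
      simp only [Set.mem_Iio, Set.mem_union, Set.mem_setOf_eq, Set.mem_compl_iff]
      exact ⟨fun h => (em (x ∈ S)).imp (fun h' => ⟨h', h⟩) id,
        fun h => h.elim And.right fun h' => by by_contra hh; exact h' (Nat.find_spec hexS x (by omega))⟩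
    · exact Set.disjoint_left.2 fun x hx hx' => hx' hx.1
  change {s : ℕ | s ∈ S ∧ s < cS}.ncard ≤ Γᶜ.ncard at hr
  set j := Γᶜ.ncard - Sᶜ.ncard with hj
  refine ⟨N.map (mulX j), ?_, ?_, ?_⟩
  · intro f hf
    rw [Submodule.restrictScalars_mem, Ideal.mem_span_singleton] at hf
    obtain ⟨q, rfl⟩ := hf
    refine ⟨PowerSeries.X ^ (2 * Γᶜ.ncard - j) * q, ?_, ?_⟩
    · refine Groth.Curves2.ValueSet.mem_of_le_order A hA N cS (fun n hn => Nat.find_spec hexS n hn) ?_
      rw [PowerSeries.order_mul, PowerSeries.order_X_pow]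
      exact le_add_of_le_of_nonneg (by exact_mod_cast (by omega : cS ≤ 2 * Γᶜ.ncard - j)) zero_le
    · change PowerSeries.X ^ j * (PowerSeries.X ^ (2 * Γᶜ.ncard - j) * q) = _
      rw [← mul_assoc, ← pow_add, show j + (2 * Γᶜ.ncard - j) = 2 * Γᶜ.ncard by omega]
  · exact ⟨((LinearEquiv.ofInjective ι hι).trans (LinearEquiv.ofEq _ _ hNmap.symm)).trans
      ((Submodule.equivMapOfInjective (mulX m) (hmulX m) N).symm.trans
        (Submodule.equivMapOfInjective (mulX j) (hmulX j) N))⟩
  · have hV : ∀ n : ℕ, n ∈ (fun x => x + j) '' S ↔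
        ∃ f ∈ (N.map (mulX j)).restrictScalars k, PowerSeries.order f = n := by
      intro n
      constructor
      · rintro ⟨x, ⟨f, hf, hfo⟩, rfl⟩
        refine ⟨_, Submodule.mem_map_of_mem hf, ?_⟩
        change PowerSeries.order (PowerSeries.X ^ j * f) = _
        rw [PowerSeries.order_mul, PowerSeries.order_X_pow, hfo, ← Nat.cast_add, add_comm]
      · rintro ⟨_, ⟨f, hf, rfl⟩, hfo⟩
        change PowerSeries.order (PowerSeries.X ^ j * f) = _ at hfo
        rw [PowerSeries.order_mul, PowerSeries.order_X_pow] at hfo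
        induction ho : PowerSeries.order f using ENat.recTopCoe with
        | top => rw [ho, add_top] at hfo; exact absurd hfo (ENat.top_ne_natCast n)
        | coe o =>
          rw [ho, ← Nat.cast_add, Nat.cast_inj] at hfo
          exact ⟨o, ⟨f, hf, ho⟩, by simp only; omega⟩
    refine (Groth.Curves2.ValueSet.finrank_quotient_eq_ncard_gaps _ _ hV (cS + j) fun f hf => ?_).2.trans ?_
    · obtain ⟨q, rfl⟩ : (PowerSeries.X : PowerSeries k) ^ (cS + j) ∣ f :=
        PowerSeries.X_pow_dvd_iff.2 fun i hi =>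
          PowerSeries.coeff_of_lt_order i (lt_of_lt_of_le (by exact_mod_cast hi) hf)
      refine ⟨PowerSeries.X ^ cS * q,
        Groth.Curves2.ValueSet.mem_of_le_order A hA N cS (fun n hn => Nat.find_spec hexS n hn) ?_, ?_⟩
      · rw [PowerSeries.order_mul, PowerSeries.order_X_pow]
        exact le_add_of_le_of_nonneg le_rfl zero_le
      · change PowerSeries.X ^ j * (PowerSeries.X ^ cS * q) = _
        rw [← mul_assoc, ← pow_add, add_comm cS j]
    · have : ((fun x => x + j) '' S)ᶜ = Set.Iio j ∪ (fun x => x + j) '' Sᶜ := by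
        ext x
        simp only [Set.mem_compl_iff, Set.mem_image, Set.mem_union, Set.mem_Iio]
        constructor
        · intro h
          by_cases hx : x < j
          · exact Or.inl hx
          · exact Or.inr ⟨x - j, fun h' => h ⟨x - j, h', by omega⟩, by omega⟩
        · rintro (h | ⟨y, hy, rfl⟩) ⟨z, hz, hz'⟩
          · omega
          · exact hy (by rwa [show y = z by omega])
      rw [this, Set.ncard_union_eq ?_ (Set.finite_Iio j)
        ((hΓfin.subset (Set.compl_subset_compl.2 hΓS)).image _), Set.ncard_Iio_nat,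
        Set.ncard_image_of_injective _ (add_left_injective j)]
      · omega
      · refine Set.disjoint_left.2 fun x hx hx' => ?_
        obtain ⟨y, -, rfl⟩ := hx'
        simp only [Set.mem_Iio] at hx
        omega

end Groth.Agent.S15023
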