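import Groth.Statements.S15024
import Mathlib
import Groth.Agent.Calg7.FiniteLengthTensor
-- import your own Groth.Agent.* helpers here

set_option autoImplicit false
universe u
open CategoryTheory
open TFCurv

namespace Groth.Agent.S15024

open Groth.Calg7.Tor


/-- Let O be a one-dimensional Noetherian local domain with algebraically closed residue field whose
integral closure O~ in its fraction field K is a finite O-module, M a finitely generated
torsion-free O-module and f : O^n → M an injective O-linear map whose cokernel T has finite length.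
Then Tor_1^O(O~, M) and Tor_1^O(O~, T) are isomorphic (existence of an isomorphism only), and O~ ⊗_O
f : O~ ⊗ O^n → O~ ⊗ M is injective, so that 0 → O~^n → O~ ⊗ M → O~ ⊗ T → 0 is exact. -/
theorem result (O : Type u) [CommRing O] [IsDomain O] [IsNoetherianRing O] [IsLocalRing O] (hdim : ringKrullDim O = 1) [IsAlgClosed (IsLocalRing.ResidueField O)] (K : Type u) [Field K] [Algebra O K] [IsFractionRing O K] (hfin : Module.Finite O ↥(integralClosure O K)) (M : Type u) [AddCommGroup M] [Module O M] [Module.Finite O M] [NoZeroSMulDivisors O M] (n : ℕ) (f : (Fin n → O) →ₗ[O] M) (hf : Function.Injective f) (hT : IsFiniteLength O (M ⧸ LinearMap.range f)) : Nonempty (((Tor (ModuleCat.{u} O) 1).obj (ModuleCat.of O ↥(integralClosure O K))).obj (ModuleCat.of O M) ≅ ((Tor (ModuleCat.{u} O) 1).obj (ModuleCat.of O ↥(integralClosure O K))).obj (ModuleCat.of O (M ⧸ LinearMap.range f))) ∧ Function.Injective (LinearMap.lTensor ↥(integralClosure O K) f) := by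
  classical
  obtain ⟨c, hc0, hc⟩ := Groth.Calg7.FiniteLengthTensor.exists_smul_eq_zero hdim hT
  obtain ⟨h, -, h2⟩ := Groth.Calg7.FiniteLengthTensor.exists_quasi_inverse f hf c hc
  have hinj : Function.Injective (LinearMap.lTensor ↥(integralClosure O K) f) := by
    rw [injective_iff_map_eq_zero]
    intro x hx
    refine Groth.Calg7.FiniteLengthTensor.eq_zero_of_smul hc0 x ?_
    have hcomp : h ∘ₗ f = c • LinearMap.id := LinearMap.ext fun z => h2 z
    have := congrArg (LinearMap.lTensor ↥(integralClosure O K) h) hx
    rw [map_zero, ← LinearMap.comp_apply, ← LinearMap.lTensor_comp, hcomp, LinearMap.lTensor_smul,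
      LinearMap.lTensor_id, LinearMap.smul_apply, LinearMap.id_apply] at this
    exact this
  refine ⟨?_, hinj⟩
  let S : ShortComplex (ModuleCat.{u} O) := ShortComplex.mk (ModuleCat.ofHom f)
    (ModuleCat.ofHom (LinearMap.range f).mkQ) (by ext x; exact (Submodule.Quotient.mk_eq_zero _).2 ⟨_, rfl⟩)
  have hS : S.ShortExact := {
    exact := (ShortComplex.ShortExact.moduleCat_exact_iff_function_exact _).2 (LinearMap.exact_map_mkQ_range f)
    mono_f := (ModuleCat.mono_iff_injective _).2 hf
    epi_g := (ModuleCat.epi_iff_surjective _).2 (Submodule.mkQ_surjective _) }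
  haveI : Module.Flat O S.X₁ := inferInstanceAs (Module.Flat O (Fin n → O))
  set A := ModuleCat.of O ↥(integralClosure O K)
  haveI : Mono (mapR 0 A S.f) := mono_tor_zero_map A S.f hinj
  have hδ : δR A hS 0 = 0 := by rw [← cancel_mono (mapR 0 A S.f), δR_mapR_f, Limits.zero_comp]
  haveI : Mono (mapR 1 A S.g) := (exactR₂ A hS 1).mono_g ((isZero_of_flat_right A S.X₁ 0).eq_of_src _ _)
  haveI : Epi (mapR 1 A S.g) := (exactR₃ A hS 0).epi_f hδ
  haveI : IsIso (mapR 1 A S.g) := isIso_of_mono_of_epi _
  exact ⟨asIso (mapR 1 A S.g)⟩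

end Groth.Agent.S15024
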