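import Groth.Statements.S15025
import Mathlib
import Groth.Agent.Calg7.FiniteLengthTensor
-- import your own Groth.Agent.* helpers here

set_option autoImplicit false
universe u
open CategoryTheory
open TFCurv

namespace Groth.Agent.S15025

open Groth.Calg7.Tor


/-- Let O be a one-dimensional Noetherian local domain with algebraically closed residue field whose
integral closure O~ in its fraction field K is a finite O-module, M a finitely generated
torsion-free O-module and g : M → O^n an injective O-linear map whose cokernel T' has finite length.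
Then the torsion submodule of O~ ⊗_O M is O-linearly isomorphic to Tor_1^O(O~, T') (existence of an
isomorphism only). -/
theorem result (O : Type u) [CommRing O] [IsDomain O] [IsNoetherianRing O] [IsLocalRing O] (hdim : ringKrullDim O = 1) [IsAlgClosed (IsLocalRing.ResidueField O)] (K : Type u) [Field K] [Algebra O K] [IsFractionRing O K] (hfin : Module.Finite O ↥(integralClosure O K)) (M : Type u) [AddCommGroup M] [Module O M] [Module.Finite O M] [NoZeroSMulDivisors O M] (n : ℕ) (g : M →ₗ[O] (Fin n → O)) (hg : Function.Injective g) (hT : IsFiniteLength O ((Fin n → O) ⧸ LinearMap.range g)) : Nonempty (↥(Submodule.torsion O (TensorProduct O ↥(integralClosure O K) M)) ≃ₗ[O] ↑(((Tor (ModuleCat.{u} O) 1).obj (ModuleCat.of O ↥(integralClosure O K))).obj (ModuleCat.of O ((Fin n → O) ⧸ LinearMap.range g)))) := by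
  classical
  obtain ⟨c, hc0, hc⟩ := Groth.Calg7.FiniteLengthTensor.exists_smul_eq_zero hdim hT
  obtain ⟨h, -, h2⟩ := Groth.Calg7.FiniteLengthTensor.exists_quasi_inverse g hg c hc
  set B := ↥(integralClosure O K)
  have hker : Submodule.torsion O (TensorProduct O B M) = LinearMap.ker (LinearMap.lTensor B g) := by
    ext x
    rw [Submodule.mem_torsion_iff, LinearMap.mem_ker]
    constructor
    · rintro ⟨a, ha⟩
      refine Groth.Calg7.FiniteLengthTensor.eq_zero_of_smul (nonZeroDivisors.ne_zero a.2) _ ?_
      rw [← map_smul]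
      change LinearMap.lTensor B g (a • x) = 0
      rw [ha, map_zero]
    · intro hx
      refine ⟨⟨c, mem_nonZeroDivisors_of_ne_zero hc0⟩, ?_⟩
      have hcomp : h ∘ₗ g = c • LinearMap.id := LinearMap.ext fun z => h2 z
      have := congrArg (LinearMap.lTensor B h) hx
      rw [map_zero, ← LinearMap.comp_apply, ← LinearMap.lTensor_comp, hcomp, LinearMap.lTensor_smul,
        LinearMap.lTensor_id, LinearMap.smul_apply, LinearMap.id_apply] at this
      exact this
  let S : ShortComplex (ModuleCat.{u} O) := ShortComplex.mk (ModuleCat.ofHom g)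
    (ModuleCat.ofHom (LinearMap.range g).mkQ) (by ext x; exact (Submodule.Quotient.mk_eq_zero _).2 ⟨_, rfl⟩)
  have hS : S.ShortExact := {
    exact := (ShortComplex.ShortExact.moduleCat_exact_iff_function_exact _).2 (LinearMap.exact_map_mkQ_range g)
    mono_f := (ModuleCat.mono_iff_injective _).2 hg
    epi_g := (ModuleCat.epi_iff_surjective _).2 (Submodule.mkQ_surjective _) }
  haveI : Module.Flat O S.X₂ := inferInstanceAs (Module.Flat O (Fin n → O))
  set A := ModuleCat.of O B
  haveI : Mono (δR A hS 0) := (exactR₃ A hS 0).mono_g ((isZero_of_flat_right A S.X₂ 0).eq_of_src _ _)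
  let φ : T 1 A S.X₃ →ₗ[O] TensorProduct O B M := (δR A hS 0 ≫ (zeroIso A).hom.app S.X₁).hom
  haveI : IsIso ((zeroIso A).hom.app S.X₁) := ((zeroIso A).app S.X₁).isIso_hom
  have hφm : Mono (δR A hS 0 ≫ (zeroIso A).hom.app S.X₁) := @mono_comp _ _ _ _ _ (δR A hS 0) ‹_› ((zeroIso A).hom.app S.X₁) (IsIso.mono_of_iso _)
  have hφi : Function.Injective φ := (ModuleCat.mono_iff_injective (δR A hS 0 ≫ (zeroIso A).hom.app S.X₁)).1 hφm
  have hnat : ∀ y : T 0 A S.X₁, LinearMap.lTensor B g (((zeroIso A).hom.app S.X₁).hom y) =
      ((zeroIso A).hom.app S.X₂).hom ((mapR 0 A S.f).hom y) := fun y => by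
    have e := (zeroIso A).hom.naturality S.f
    exact (LinearMap.congr_fun (congrArg ModuleCat.Hom.hom e) y).symm
  have hex := (ShortComplex.ShortExact.moduleCat_exact_iff_function_exact _).1 (exactR₁ A hS 0)
  have hrange : LinearMap.range φ = LinearMap.ker (LinearMap.lTensor B g) := by
    ext x
    constructor
    · rintro ⟨z, rfl⟩
      rw [LinearMap.mem_ker]
      exact (hnat ((δR A hS 0).hom z)).trans (by rw [hex.apply_apply_eq_zero z]; exact map_zero _)
    · intro hx
      rw [LinearMap.mem_ker] at hx
      obtain ⟨y, rfl⟩ := ((zeroIso A).app S.X₁).toLinearEquiv.surjective x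
      have h0 := (hnat y).symm.trans hx
      rw [← map_zero ((zeroIso A).app S.X₂).toLinearEquiv.toLinearMap] at h0
      obtain ⟨z, hz⟩ := (hex y).1 (((zeroIso A).app S.X₂).toLinearEquiv.injective h0)
      exact ⟨z, congrArg (fun w => ((zeroIso A).hom.app S.X₁).hom w) hz⟩
  exact ⟨(LinearEquiv.ofEq _ _ (hker.trans hrange.symm)).trans (LinearEquiv.ofInjective φ hφi).symm⟩

end Groth.Agent.S15025
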