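import Groth.Statements.S15026
import Groth.Agent.Limits.NormPicSurj

set_option autoImplicit false
universe u
open CategoryTheory CategoryTheory.Limits AlgebraicGeometry
open TFCurv

namespace Groth.Agent.S15026

/-- Let X be an integral proper curve (integral, proper, of dimension one) over an algebraically closed
field k, with normalisation ν : X~ → X. Then every invertible module N on X~ is isomorphic to ν^*L
for some invertible module L on X: the pullback map Pic(X) → Pic(X~) is surjective. (The published
statement is the short exact sequence 0 → ⊕_x O~_x^×/O_x^× → Pic(X) → Pic(X~) → 0; only its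
surjectivity is stated here.) -/
theorem result (k : Type u) [Field k] [IsAlgClosed k] (X : Scheme.{u}) [X.Over (Spec (CommRingCat.of k))] [IsIntegral X] [IsProper (X ↘ Spec (CommRingCat.of k))] (hdim : topologicalKrullDim X = 1) [QuasiCompact (X.fromSpecStalk (genericPoint X))] [QuasiSeparated (X.fromSpecStalk (genericPoint X))] (N : (Curv2.normalization X).Modules) (hN : PicF.IsInvertible N) : ∃ L : X.Modules, PicF.IsInvertible L ∧ Nonempty ((Scheme.Modules.pullback (Curv2.normalizationι X)).obj L ≅ N) := by
  obtain ⟨hfin, hdom, ⟨V, hVne, hVi⟩, hNi, -⟩ := Groth.Agent.S1585.result k X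
  haveI := hfin
  haveI := hdom
  haveI := hVi
  haveI : IsSchemeTheoreticallyDominant (Curv2.normalizationι X) := .of_isDominant _
  haveI : TopologicalSpace.NoetherianSpace X := Groth.EulerDeg.noetherianSpace_of_proper k X
  haveI : TopologicalSpace.NoetherianSpace X.toTopCat := Groth.EulerDeg.noetherianSpace_of_proper k X
  haveI : T0Space X.toTopCat := inferInstanceAs (T0Space X)
  haveI : QuasiSober X.toTopCat := inferInstanceAs (QuasiSober X)
  have hξ : genericPoint X ∈ V :=
    ((genericPoint_spec X).mem_open_set_iff V.isOpen).mpr (by simpa using hVne)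
  have hcl : ∀ x : X, x ∉ V → IsClosed ({x} : Set X) := fun x hx => by
    by_contra hc
    exact hx ((Groth.EulerDeg.eq_of_specializes_of_not_isClosed (X := X.toTopCat) hdim.le hc
      ((genericPoint_spec X).specializes (Set.mem_univ x))) ▸ hξ)
  have hZ := Groth.EulerDeg.finite_and_isClosed_of_closed_points (X := X.toTopCat) (U := Set.univ)
    (Z := (V : Set X)ᶜ) isOpen_univ (Set.subset_univ _)
    (by rw [V.isOpen.isClosed_compl.closure_eq, Set.inter_univ]) hcl
  exact Groth.LimNormPic.exists_descent (Curv2.normalizationι X) V hZ.1 hcl hN

end Groth.Agent.S15026
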