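import Groth.Statements.S15030
import Mathlib
import Groth.Agent.Curves2.ExtTwo
-- import your own Groth.Agent.* helpers here

set_option autoImplicit false
universe u
open CategoryTheory
open TFCurv

namespace Groth.Agent.S15030

/-- Let k be an algebraically closed field of characteristic zero, δ ≥ 1, and A ⊂ k[[t]] the complete
local ring of the A_{2δ} singularity, i.e. the k-subalgebra of power series all of whose exponents
lie in the semigroup generated by 2 and 2δ + 1 (so A = k[[t², t^{2δ+1}]]). For 0 ≤ i ≤ δ let M_i ⊂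
k[[t]] be the A-submodule generated by 1 and t^{2δ+1−2i} (these represent all rank-one torsion-free
A-modules). Then for 0 ≤ i, j ≤ δ the A-module Ext¹_A(M_i, M_j) has length 2·min(i, j) (length over
A equals k-dimension here). (The published statement also covers the two-branch case n = 2δ − 1 with
the same value; only the one-branch case is stated.) -/
theorem result (k : Type u) [Field k] [IsAlgClosed k] [CharZero k] (δ : ℕ) (hδ : 1 ≤ δ) (A : Subalgebra k (PowerSeries k)) (hmono : ∀ f : PowerSeries k, f ∈ A ↔ ∀ n : ℕ, PowerSeries.coeff n f ≠ 0 → n ∈ AddSubmonoid.closure ({2, 2 * δ + 1} : Set ℕ)) (i j : ℕ) (hi : i ≤ δ) (hj : j ≤ δ) : Module.length ↥A (Abelian.Ext (ModuleCat.of ↥A ↥(Submodule.span ↥A ({1, (PowerSeries.X : PowerSeries k) ^ (2 * δ + 1 - 2 * i)} : Set (PowerSeries k)))) (ModuleCat.of ↥A ↥(Submodule.span ↥A ({1, (PowerSeries.X : PowerSeries k) ^ (2 * δ + 1 - 2 * j)} : Set (PowerSeries k)))) 1) = ((2 * min i j : ℕ) : ℕ∞) := by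
  classical
  have hΓ : ∀ n, n ∈ AddSubmonoid.closure ({2, 2 * δ + 1} : Set ℕ) ↔ (Even n ∨ 2 * δ + 1 ≤ n) := by
    intro n
    constructor
    · intro hn
      induction hn using AddSubmonoid.closure_induction with
      | mem x hx =>
        rcases hx with rfl | hx
        · exact Or.inl even_two
        · exact Or.inr (le_of_eq (Set.mem_singleton_iff.1 hx).symm)
      | zero => exact Or.inl Even.zero
      | add x y _ _ hx hy =>
        rcases hx with hx | hx <;> rcases hy with hy | hy
        · exact Or.inl (hx.add hy)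
        all_goals exact Or.inr (by omega)
    · have h2 : ∀ r, 2 * r ∈ AddSubmonoid.closure ({2, 2 * δ + 1} : Set ℕ) := fun r => by
        have := AddSubmonoid.nsmul_mem (AddSubmonoid.closure ({2, 2 * δ + 1} : Set ℕ))
          (AddSubmonoid.subset_closure (Set.mem_insert 2 _)) r
        rw [smul_eq_mul, show r * 2 = 2 * r by omega] at this
        exact this
      rintro (⟨r, rfl⟩ | hn)
      · rw [← two_mul]; exact h2 r
      · rcases Nat.even_or_odd n with ⟨r, rfl⟩ | ⟨r, rfl⟩
        · rw [← two_mul]; exact h2 r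
        · rw [show 2 * r + 1 = (2 * δ + 1) + 2 * (r - δ) by omega]
          exact add_mem (AddSubmonoid.subset_closure (Set.mem_insert_of_mem _ rfl)) (h2 _)
  have hA : ∀ f, f ∈ A ↔ ∀ n, PowerSeries.coeff n f ≠ 0 → Even n ∨ 2 * δ + 1 ≤ n := fun f =>
    (hmono f).trans (forall₂_congr fun n _ => hΓ n)
  let x : PowerSeries k := PowerSeries.X ^ 2
  let P : ℕ → Submodule ↥A (PowerSeries k) := fun m =>
    { carrier := {f | ∀ n, PowerSeries.coeff n f ≠ 0 → Even n ∨ 2 * δ + 1 ≤ n + 2 * m}
      add_mem' := fun {f g} hf hg n hn => by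
        rw [map_add] at hn
        by_cases h : PowerSeries.coeff n f = 0
        · exact hg n (by rwa [h, zero_add] at hn)
        · exact hf n h
      zero_mem' := fun n hn => absurd (map_zero _) hn
      smul_mem' := fun a f hf n hn => by
        rw [Subalgebra.smul_def, smul_eq_mul, PowerSeries.coeff_mul] at hn
        obtain ⟨⟨b, c⟩, hbc, hne⟩ := Finset.exists_ne_zero_of_sum_ne_zero hn
        rw [Finset.HasAntidiagonal.mem_antidiagonal] at hbc
        obtain ⟨h1, h2⟩ := mul_ne_zero_iff.1 hne
        rw [← hbc]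
        rcases (hA _).1 a.2 b h1 with hb | hb
        · rcases hf c h2 with hc | hc
          · exact Or.inl (hb.add hc)
          · exact Or.inr (by omega)
        · exact Or.inr (by omega) }
  have hP : ∀ m f, f ∈ P m ↔ ∀ n, PowerSeries.coeff n f ≠ 0 → Even n ∨ 2 * δ + 1 ≤ n + 2 * m :=
    fun m f => Iff.rfl
  have hmono' : ∀ a b, a ≤ b → b ≤ δ → P a ≤ P b := fun a b hab _ f hf n hn =>
    (hf n hn).imp id fun h => by omega
  have hX : ∀ m, (PowerSeries.X : PowerSeries k) ^ (2 * δ + 1 - 2 * m) ∈ P m := fun m => by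
    refine (hP _ _).2 fun n hn => Or.inr ?_
    simp only [PowerSeries.coeff_X_pow, ne_eq, ite_eq_right_iff, one_ne_zero, imp_false, not_not] at hn
    omega
  have h1 : ∀ m, (1 : PowerSeries k) ∈ P m := fun m => by
    refine (hP _ _).2 fun n hn => Or.inl ?_
    simp only [PowerSeries.coeff_one, ne_eq, ite_eq_right_iff, one_ne_zero, imp_false, not_not] at hn
    exact hn ▸ Even.zero
  have hspan : ∀ m ≤ δ, P m = Submodule.span ↥A {1, (PowerSeries.X : PowerSeries k) ^ (2 * δ + 1 - 2 * m)} := by
    intro m hm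
    refine le_antisymm (fun f hf => ?_) (Submodule.span_le.2 ?_)
    · set r := 2 * δ + 1 - 2 * m with hr
      let b : PowerSeries k := PowerSeries.mk fun e => if Even e then PowerSeries.coeff (r + e) f else 0
      have hb : b ∈ A := (hA _).2 fun n hn => Or.inl (by
        by_contra he
        exact hn (by rw [PowerSeries.coeff_mk, if_neg he]))
      have ha : f - b * (PowerSeries.X : PowerSeries k) ^ r ∈ A := (hA _).2 fun n hn => Or.inl (by
        by_contra he
        refine hn ?_
        rw [map_sub, PowerSeries.coeff_mul_X_pow']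
        by_cases h : r ≤ n
        · rw [if_pos h, PowerSeries.coeff_mk, if_pos ?_, show r + (n - r) = n by omega, sub_self]
          obtain ⟨q, hq⟩ := Nat.not_even_iff_odd.1 he
          exact ⟨q - (δ - m), by omega⟩
        · rw [if_neg h, sub_zero]
          by_contra hne
          exact ((hP _ _).1 hf n hne).elim he (by omega))
      exact Submodule.mem_span_pair.2 ⟨⟨_, ha⟩, ⟨_, hb⟩, by simp [Subalgebra.smul_def]⟩
    · rintro _ (rfl | rfl)
      · exact h1 m
      · exact hX m
  have hdvd : ∀ (f : PowerSeries k) (d : ℕ), (∀ n, n < 2 * d → PowerSeries.coeff n f = 0) →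
      ∃ y, f = x ^ d * y ∧ ∀ n, PowerSeries.coeff n y = PowerSeries.coeff (n + 2 * d) f := by
    intro f d h
    obtain ⟨y, rfl⟩ := PowerSeries.X_pow_dvd_iff.2 h
    refine ⟨y, by simp only [x, ← pow_mul], fun n => ?_⟩
    rw [PowerSeries.coeff_X_pow_mul', if_pos (by omega), Nat.add_sub_cancel]
  let ε : ↥A →+* k := PowerSeries.constantCoeff.comp A.val.toRingHom
  have hεsurj : Function.Surjective ε := fun a =>
    ⟨⟨PowerSeries.C a, A.algebraMap_mem a⟩, PowerSeries.constantCoeff_C a⟩
  refine Groth.Curves2.ExtTwo.length_ext_chain (A := ↥A) (B := PowerSeries k) Subtype.val_injective x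
    (IsRegular.of_ne_zero (pow_ne_zero 2 PowerSeries.X_ne_zero)) δ
    (fun m => PowerSeries.X ^ (2 * δ + 1 - 2 * m)) P hspan ?_ ?_ hmono' ?_ ?_ ?_ ?_
    (Submodule.subtype _) Subtype.val_injective (Submodule.subtype _) Subtype.val_injective i j hi hj
    (by rw [Submodule.range_subtype, hspan i hi]) (by rw [Submodule.range_subtype, hspan j hj])
  · ext f
    rw [hP]
    simp only [mul_zero, add_zero]
    exact ⟨fun h => ⟨⟨f, (hA f).2 h⟩, rfl⟩, fun ⟨a, ha⟩ => ha ▸ (hA _).1 a.2⟩
  · refine (hP _ _).2 fun n hn => Or.inl ?_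
    simp only [x, PowerSeries.coeff_X_pow, ne_eq, ite_eq_right_iff, one_ne_zero, imp_false, not_not] at hn
    exact hn ▸ even_two
  · intro m hm f hf g hg n hn
    rw [PowerSeries.coeff_mul] at hn
    obtain ⟨⟨b, c⟩, hbc, hne⟩ := Finset.exists_ne_zero_of_sum_ne_zero hn
    rw [Finset.HasAntidiagonal.mem_antidiagonal] at hbc
    obtain ⟨h1, h2⟩ := mul_ne_zero_iff.1 hne
    rw [← hbc]
    rcases hf b h1 with hb | hb
    · rcases hg c h2 with hc | hc
      · exact Or.inl (hb.add hc)
      · exact Or.inr (by omega)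
    · exact Or.inr (by omega)
  · intro a b hba ha y hy n hn
    simp only [x, ← pow_mul, PowerSeries.coeff_X_pow_mul'] at hn
    split_ifs at hn with h
    · rcases hy _ hn with ⟨q, hq⟩ | hq
      · exact Or.inl ⟨q + (a - b), by omega⟩
      · exact Or.inr (by omega)
    · exact absurd rfl hn
  · intro a b hba ha g hg hgs
    have hlow : ∀ n, n < 2 * (a - b) → PowerSeries.coeff n g = 0 := by
      intro n hn
      by_contra hne
      rcases Nat.even_or_odd n with he | ⟨q, rfl⟩
      · have := hgs (n + (2 * δ + 1 - 2 * a)) (by rwa [PowerSeries.coeff_mul_X_pow])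
        obtain ⟨q, rfl⟩ := he
        rcases this with ⟨q', hq'⟩ | h <;> omega
      · rcases hg _ hne with ⟨q', hq'⟩ | h <;> omega
    obtain ⟨y, hy, hyc⟩ := hdvd g _ hlow
    refine ⟨y, (hP _ _).2 fun n hn => ?_, hy⟩
    rw [hyc] at hn
    rcases hg _ hn with ⟨q, hq⟩ | hq
    · exact Or.inl ⟨q - (a - b), by omega⟩
    · exact Or.inr (by omega)
  · intro m hm
    refine Groth.Curves2.ExtTwo.length_two ε hεsurj (P m) _
      (PowerSeries.coeff 0).toAddMonoidHom (PowerSeries.coeff (2 * δ + 1 - 2 * m)).toAddMonoidHom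
      ?_ ?_ ⟨1, h1 m, ?_⟩ ⟨_, hX m, ?_, ?_⟩ ?_
    · intro a p _
      simp [ε, Subalgebra.smul_def]
    · intro a p hp hp0
      simp only [LinearMap.toAddMonoidHom_coe, Subalgebra.smul_def, smul_eq_mul, PowerSeries.coeff_mul] at hp0 ⊢
      rw [Finset.sum_eq_single (0, 2 * δ + 1 - 2 * m) ?_ (fun h => absurd (by simp) h),
        PowerSeries.coeff_zero_eq_constantCoeff]
      · rfl
      rintro ⟨b, c⟩ hbc hne
      rw [Finset.HasAntidiagonal.mem_antidiagonal] at hbc
      by_contra hne'
      obtain ⟨hb, hc⟩ := mul_ne_zero_iff.1 hne'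
      have hc0 : c ≠ 0 := fun h => hc (h ▸ hp0)
      have hb0 : b ≠ 0 := fun h => hne (Prod.ext h (by simp only; omega))
      rcases (hA _).1 a.2 b hb with ⟨q, hq⟩ | hq
      · rcases hp c hc with ⟨q', hq'⟩ | hq' <;> omega
      · omega
    · simp
    · simp [PowerSeries.coeff_X_pow]
      omega
    · simp
    · intro p hp
      constructor
      · rintro ⟨y, hy, rfl⟩
        refine ⟨?_, ?_⟩
        · simp [x, Groth.Curves2.ExtTwo.mulPow]
        · simp only [LinearMap.toAddMonoidHom_coe, Groth.Curves2.ExtTwo.mulPow, x, pow_one,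
            LinearMap.mulLeft_apply, PowerSeries.coeff_X_pow_mul']
          split_ifs with h
          · by_contra hne
            rcases hy _ hne with ⟨q, hq⟩ | hq <;> omega
          · rfl
      · rintro ⟨h0, hr⟩
        simp only [LinearMap.toAddMonoidHom_coe] at h0 hr
        have hlow : ∀ n, n < 2 * 1 → PowerSeries.coeff n p = 0 := by
          intro n hn
          by_contra hne
          rcases Nat.eq_zero_or_pos n with rfl | hn0
          · exact hne h0
          · rcases hp _ hne with ⟨q, hq⟩ | hq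
            · omega
            · exact hne (by rw [show n = 2 * δ + 1 - 2 * m by omega]; exact hr)
        obtain ⟨y, hy, hyc⟩ := hdvd p 1 hlow
        refine ⟨y, (hP _ _).2 fun n hn => ?_, hy.symm⟩
        rw [hyc] at hn
        rcases hp _ hn with ⟨q, hq⟩ | hq
        · exact Or.inl ⟨q - 1, by omega⟩
        · by_cases he : n + 2 * 1 = 2 * δ + 1 - 2 * m
          · exact absurd (he ▸ hr) hn
          · by_cases hev : Even n
            · exact Or.inl hev
            · obtain ⟨q, rfl⟩ := Nat.not_even_iff_odd.1 hev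
              exact Or.inr (by omega)

end Groth.Agent.S15030
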