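import Groth.Statements.S15031
import Mathlib
import Groth.Agent.Curves2.ExtMonomial
-- import your own Groth.Agent.* helpers here

set_option autoImplicit false
universe u
open CategoryTheory
open TFCurv

namespace Groth.Agent.S15031

/-- Let k be an algebraically closed field, n ≥ 2, and A = R_n ⊂ k[[t]] the monomial ring of the cubical
semigroup ⟨n, n+1, …, 2n−1⟩, i.e. the k-subalgebra of power series with no terms of degree 1, …,
n−1. For 0 ≤ i ≤ n − 2 let M_i ⊂ k[[t]] be the A-submodule generated by 1, t, …, t^i (the monomial
module whose value set is Γ_n together with 1, …, i). Then the A-module Ext¹_A(M_i, M_i) has length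
i·(n − 2 − i); as the A-endomorphisms of M_i are the scalars, this number is the invariant χ₁(M_i) =
dim Ext¹(M_i, M_i) − dim(End(M_i)/A). (The published statement asserts the value for every module
with this value set; only the monomial module is stated here.) -/
theorem result (k : Type u) [Field k] [IsAlgClosed k] (n : ℕ) (hn : 2 ≤ n) (A : Subalgebra k (PowerSeries k)) (hmono : ∀ f : PowerSeries k, f ∈ A ↔ ∀ m : ℕ, PowerSeries.coeff m f ≠ 0 → (m = 0 ∨ n ≤ m)) (i : ℕ) (hi : i + 2 ≤ n) : Module.length ↥A (Abelian.Ext (ModuleCat.of ↥A ↥(Submodule.span ↥A ((fun a : ℕ => (PowerSeries.X : PowerSeries k) ^ a) '' Set.Iic i))) (ModuleCat.of ↥A ↥(Submodule.span ↥A ((fun a : ℕ => (PowerSeries.X : PowerSeries k) ^ a) '' Set.Iic i))) 1) = ((i * (n - 2 - i) : ℕ) : ℕ∞) := by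
  classical
  set M := Submodule.span ↥A ((fun a : ℕ => (PowerSeries.X : PowerSeries k) ^ a) '' Set.Iic i)
    with hM
  have hmem := fun f => Groth.Curves2.ExtMonomial.mem_span_monomials hmono (Set.Iic i) (by simp)
    (fun a ha => by simp at ha; omega) f
  let T := Finset.Iic i
  let Q := Finset.Ico (n + i + 1) (2 * n)
  let L : (↥T → k) →ₗ[k] (Fin i × ↥Q → k) :=
    { toFun := fun w sp => if n + ((sp.1 : ℕ) + 1) ≤ (sp.2 : ℕ) then
        (if h : (sp.2 : ℕ) - (n + ((sp.1 : ℕ) + 1)) ∈ T then w ⟨_, h⟩ else 0) else 0
      map_add' := fun w w' => by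
        funext sp
        simp only [Pi.add_apply]
        split_ifs <;> simp
      map_smul' := fun r w => by
        funext sp
        simp only [Pi.smul_apply, RingHom.id_apply]
        split_ifs <;> simp }
  rw [Groth.Curves2.ExtMonomial.length_ext hmono (fun s : Fin i => (s : ℕ) + 1) (fun s => by omega)
    (fun s => by omega) (fun a b h => by
      apply Fin.ext
      simpa using h)
    M.subtype Subtype.val_injective (fun f => by
      rw [Submodule.range_subtype, hM, hmem]
      refine forall₂_congr fun m _ => ⟨?_, ?_⟩
      · rintro (h | h)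
        · rcases Nat.eq_zero_or_pos m with h0 | h0
          · exact Or.inl h0
          · exact Or.inr (Or.inl ⟨⟨m - 1, by simp at h; omega⟩, by simp; omega⟩)
        · exact Or.inr (Or.inr h)
      · rintro (h | ⟨s, rfl⟩ | h)
        · exact Or.inl (by simp [h])
        · exact Or.inl (by simp)
        · exact Or.inr h)
    M.subtype Subtype.val_injective T n le_rfl (fun a ha => by simp [T] at ha; omega)
    (Or.inr (by simp [T]; omega))
    (fun f => by simp only [Submodule.range_subtype, hM, hmem, T, Finset.mem_Iic, Set.mem_Iic])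
    Q (fun p => by simp [Q, T]; omega) L (fun w s p => rfl)]
  -- the rank of the relations
  let ext0 : (Fin i → k) →ₗ[k] (↥T → k) :=
    { toFun := fun v a => if h : 1 ≤ (a : ℕ) then v ⟨(a : ℕ) - 1, by
          have := Finset.mem_Iic.1 a.2
          omega⟩ else 0
      map_add' := fun v v' => by
        funext a
        simp only [Pi.add_apply]
        split_ifs <;> simp
      map_smul' := fun r v => by
        funext a
        simp only [Pi.smul_apply, RingHom.id_apply]
        split_ifs <;> simp }
  have hinj : Function.Injective (L.comp ext0) := by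
    rw [injective_iff_map_eq_zero]
    intro v hv
    funext j
    have hp : n + i + 1 ∈ Q := by simp [Q]; omega
    have := congrFun hv (⟨i - 1 - (j : ℕ), by omega⟩, ⟨n + i + 1, hp⟩)
    simp only [LinearMap.comp_apply, L, ext0, LinearMap.coe_mk, AddHom.coe_mk, Pi.zero_apply] at this
    rw [if_pos (by omega), dif_pos (by simp [T]; omega), dif_pos (by omega)] at this
    refine (congrArg v (Fin.ext ?_)).trans this
    simp only
    omega
  have hrange : LinearMap.range L = LinearMap.range (L.comp ext0) := by
    refine le_antisymm ?_ (LinearMap.range_comp_le_range _ _)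
    rintro _ ⟨w, rfl⟩
    refine ⟨fun j => w ⟨(j : ℕ) + 1, by simp [T]⟩, ?_⟩
    funext sp
    simp only [LinearMap.comp_apply, L, ext0, LinearMap.coe_mk, AddHom.coe_mk]
    split_ifs with h1 h2 h3
    · exact congrArg w (Subtype.ext (by simp only; omega))
    · exfalso
      have := Finset.mem_Ico.1 sp.2.2
      have := sp.1.2
      omega
    · rfl
    · rfl
  rw [hrange, LinearMap.finrank_range_of_inj hinj, Module.finrank_fintype_fun_eq_card,
    Fintype.card_fin, Nat.card_Ico]
  congr 1
  rw [show 2 * n - (n + i + 1) = (n - 2 - i) + 1 by omega, Nat.mul_succ, Nat.add_sub_cancel]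

end Groth.Agent.S15031
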