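import Groth.Statements.S15032
import Mathlib
import Groth.Agent.Curves2.ExtMonomial
-- import your own Groth.Agent.* helpers here

set_option autoImplicit false
universe u
open CategoryTheory
open TFCurv

namespace Groth.Agent.S15032

/-- Let k be an algebraically closed field, n ≥ 2, and A = R_n ⊂ k[[t]] the monomial ring of the cubical
semigroup ⟨n, n+1, …, 2n−1⟩, i.e. the k-subalgebra of power series with no terms of degree 1, …,
n−1. For the normalisation R~ = k[[t]] viewed as an A-module, χ₁(R~) = (n − 1)², where χ₁(M) = dim_k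
Ext¹_A(M, M) − dim_k(End_A(M)/A): the length of the A-module Ext¹_A(k[[t]], k[[t]]) equals (n − 1)²
plus the length of the A-linear endomorphisms of k[[t]] modulo multiplications by elements of A. -/
theorem result (k : Type u) [Field k] [IsAlgClosed k] (n : ℕ) (hn : 2 ≤ n) (A : Subalgebra k (PowerSeries k)) (hmono : ∀ f : PowerSeries k, f ∈ A ↔ ∀ m : ℕ, PowerSeries.coeff m f ≠ 0 → (m = 0 ∨ n ≤ m)) : Module.length ↥A (Abelian.Ext (ModuleCat.of ↥A (PowerSeries k)) (ModuleCat.of ↥A (PowerSeries k)) 1) = (((n - 1) ^ 2 : ℕ) : ℕ∞) + Module.length ↥A ((PowerSeries k →ₗ[↥A] PowerSeries k) ⧸ LinearMap.range (Algebra.lsmul ↥A ↥A (PowerSeries k) : ↥A →ₐ[↥A] Module.End ↥A (PowerSeries k)).toLinearMap) := by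
  classical
  let Q := Finset.range n
  have hext : Module.length ↥A (Abelian.Ext (ModuleCat.of ↥A (PowerSeries k))
      (ModuleCat.of ↥A (PowerSeries k)) 1) = (((n - 1) * n : ℕ) : ℕ∞) := by
    rw [Groth.Curves2.ExtMonomial.length_ext hmono (fun s : Fin (n - 1) => (s : ℕ) + 1)
      (fun s => by omega) (fun s => by omega) (fun a b h => by apply Fin.ext; simpa using h)
      LinearMap.id Function.injective_id (fun f => by
        simp only [LinearMap.range_id, Submodule.mem_top, true_iff]
        intro m _
        rcases Nat.eq_zero_or_pos m with h | h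
        · exact Or.inl h
        · by_cases hm : m < n
          · exact Or.inr (Or.inl ⟨⟨m - 1, by omega⟩, by simp; omega⟩)
          · exact Or.inr (Or.inr (by omega)))
      LinearMap.id Function.injective_id ∅ 0 (Nat.zero_le _) (fun a ha => absurd ha (by simp))
      (Or.inl rfl) (fun f => by simp) Q (fun p => by simp [Q]) 0
      (fun w s p => by simp)]
    rw [LinearMap.range_zero, finrank_bot, Fintype.card_fin, Finset.card_range, Nat.sub_zero]
  rw [hext]
  -- endomorphisms modulo `A`
  let ev : (PowerSeries k →ₗ[↥A] PowerSeries k) →ₗ[↥A] PowerSeries k :=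
    { toFun := fun φ => φ 1, map_add' := fun _ _ => rfl, map_smul' := fun _ _ => rfl }
  have hev : Function.Injective ev := fun φ ψ h => LinearMap.ext fun f => by
    have h1 := Groth.Curves2.ExtMonomial.map_eq_mul hmono (N := PowerSeries k) LinearMap.id φ f
    have h2 := Groth.Curves2.ExtMonomial.map_eq_mul hmono (N := PowerSeries k) LinearMap.id ψ f
    simp only [LinearMap.id_apply] at h1 h2
    rw [h1, h2, show φ 1 = ψ 1 from h]
  let ε : ↥A →+* k := PowerSeries.constantCoeff.comp A.val.toRingHom
  letI : Algebra ↥A k := ε.toAlgebra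
  have hεsurj : Function.Surjective (algebraMap ↥A k) := fun a =>
    ⟨⟨PowerSeries.C a, Groth.Curves2.ExtMonomial.C_mem hmono a⟩, PowerSeries.constantCoeff_C a⟩
  let Ψ : (PowerSeries k →ₗ[↥A] PowerSeries k) →ₗ[↥A] (Fin (n - 1) → k) :=
    { toFun := fun φ j => PowerSeries.coeff ((j : ℕ) + 1) (φ 1)
      map_add' := fun _ _ => by funext j; simp
      map_smul' := fun r φ => by
        funext j
        obtain ⟨h, hh⟩ := Groth.Curves2.ExtMonomial.exists_eq hmono r
        rw [RingHom.id_apply, LinearMap.smul_apply, Pi.smul_apply, Subalgebra.smul_def, smul_eq_mul,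
          Algebra.smul_def]
        change _ = PowerSeries.constantCoeff (r : PowerSeries k) * _
        conv_lhs => rw [hh, add_mul, map_add, PowerSeries.coeff_C_mul, mul_assoc,
          PowerSeries.coeff_X_pow_mul', if_neg (by omega : ¬ n ≤ (j : ℕ) + 1), add_zero] }
  have hsurj : Function.Surjective Ψ := by
    intro v
    refine ⟨LinearMap.mulLeft ↥A (∑ j, PowerSeries.C (v j) *
      (PowerSeries.X : PowerSeries k) ^ ((j : ℕ) + 1)), funext fun j => ?_⟩
    change PowerSeries.coeff ((j : ℕ) + 1) (_ * 1) = v j
    rw [mul_one, map_sum]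
    simp only [PowerSeries.coeff_C_mul, PowerSeries.coeff_X_pow, mul_ite, mul_one, mul_zero]
    rw [Finset.sum_eq_single j (fun b _ hb => if_neg fun h => hb (Fin.ext (by omega)))
      (fun h => absurd (Finset.mem_univ j) h), if_pos rfl]
  have hker : LinearMap.ker Ψ = LinearMap.range
      (Algebra.lsmul ↥A ↥A (PowerSeries k) : ↥A →ₐ[↥A] Module.End ↥A (PowerSeries k)).toLinearMap := by
    ext φ
    constructor
    · intro hφ
      have hA1 : φ 1 ∈ A := (hmono _).2 fun m hm => by
        by_contra h
        push Not at h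
        have := congrFun hφ ⟨m - 1, by omega⟩
        simp only [Ψ, LinearMap.coe_mk, AddHom.coe_mk, Pi.zero_apply] at this
        rw [show m - 1 + 1 = m by omega] at this
        exact hm this
      exact ⟨⟨φ 1, hA1⟩, hev (mul_one _)⟩
    · rintro ⟨a, rfl⟩
      funext j
      change PowerSeries.coeff ((j : ℕ) + 1) ((a : PowerSeries k) * 1) = 0
      rw [mul_one]
      by_contra hne
      have := (hmono _).1 a.2 _ hne
      omega
  rw [((Submodule.quotEquivOfEq _ _ hker.symm).trans (Ψ.quotKerEquivOfSurjective hsurj)).length_eq,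
    Module.length_eq_of_surjective (M := Fin (n - 1) → k) hεsurj, Module.length_eq_finrank,
    Module.finrank_fintype_fun_eq_card, Fintype.card_fin, ← Nat.cast_add]
  congr 1
  obtain ⟨m, rfl⟩ : ∃ m, n = m + 1 := ⟨n - 1, by omega⟩
  simp only [Nat.add_sub_cancel]
  ring

end Groth.Agent.S15032
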