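import Groth.Statements.S15033
import Mathlib
import Groth.Agent.Curves2.ExtMonomial
-- import your own Groth.Agent.* helpers here

set_option autoImplicit false
universe u
open CategoryTheory
open TFCurv

namespace Groth.Agent.S15033

/-- Let k be an algebraically closed field, n ≥ 2, and A = R_n ⊂ k[[t]] the monomial ring of the cubical
semigroup ⟨n, n+1, …, 2n−1⟩, i.e. the k-subalgebra of power series with no terms of degree 1, …,
n−1. For 0 ≤ i < n − 1 let R_{n−i} ⊂ k[[t]] be the A-submodule generated by 1, t^{n−i}, t^{n−i+1},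
…, t^{n−1}, i.e. the overring of A consisting of the power series with no terms of degree 1, …, n −
i − 1. Then the A-module Ext¹_A(R_{n−i}, R_{n−i}) has length i·(n − 1). Since the A-endomorphisms of
R_{n−i} are the multiplications by elements of R_{n−i}, of colength i over A, this is the published
value χ₁(R_{n−i}) = i·(n − 2) of χ₁(M) = dim Ext¹(M, M) − dim(End(M)/A). -/
theorem result (k : Type u) [Field k] [IsAlgClosed k] (n : ℕ) (hn : 2 ≤ n) (A : Subalgebra k (PowerSeries k)) (hmono : ∀ f : PowerSeries k, f ∈ A ↔ ∀ m : ℕ, PowerSeries.coeff m f ≠ 0 → (m = 0 ∨ n ≤ m)) (i : ℕ) (hi : i + 2 ≤ n) : Module.length ↥A (Abelian.Ext (ModuleCat.of ↥A ↥(Submodule.span ↥A ((fun a : ℕ => (PowerSeries.X : PowerSeries k) ^ a) '' ({0} ∪ Set.Icc (n - i) (n - 1))))) (ModuleCat.of ↥A ↥(Submodule.span ↥A ((fun a : ℕ => (PowerSeries.X : PowerSeries k) ^ a) '' ({0} ∪ Set.Icc (n - i) (n - 1))))) 1) = ((i * (n - 1) : ℕ) : ℕ∞) := by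
  classical
  set M := Submodule.span ↥A ((fun a : ℕ => (PowerSeries.X : PowerSeries k) ^ a) ''
    ({0} ∪ Set.Icc (n - i) (n - 1))) with hM
  have hmem := fun f => Groth.Curves2.ExtMonomial.mem_span_monomials hmono
    ({0} ∪ Set.Icc (n - i) (n - 1)) (by simp) (fun a ha => by simp at ha; omega) f
  let Q := (Finset.Ico (n - i) (n + (n - i))).erase n
  rw [Groth.Curves2.ExtMonomial.length_ext hmono (fun s : Fin i => n - i + (s : ℕ))
    (fun s => by omega) (fun s => by omega) (fun a b h => by
      apply Fin.ext
      simpa using h)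
    M.subtype Subtype.val_injective (fun f => by
      rw [Submodule.range_subtype, hM, hmem]
      refine forall₂_congr fun m _ => ⟨?_, ?_⟩
      · rintro ((h | h) | h)
        · exact Or.inl h
        · simp at h
          exact Or.inr (Or.inl ⟨⟨m - (n - i), by omega⟩, by simp; omega⟩)
        · exact Or.inr (Or.inr h)
      · rintro (h | ⟨s, rfl⟩ | h)
        · exact Or.inl (Or.inl h)
        · exact Or.inl (Or.inr (by simp; omega))
        · exact Or.inr h)
    M.subtype Subtype.val_injective {0} (n - i) (Nat.sub_le _ _)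
    (fun a ha => by simp at ha; omega) (Or.inr (by simp; omega))
    (fun f => by
      rw [Submodule.range_subtype, hM, hmem]
      refine forall₂_congr fun m _ => ?_
      simp
      omega)
    Q (fun p => by simp [Q]; omega) 0
    (fun w s p => by
      simp only [LinearMap.zero_apply, Pi.zero_apply]
      have := Finset.mem_erase.1 p.2
      have h2 := Finset.mem_Ico.1 this.2
      split_ifs with h1 h3
      · simp at h3
        omega
      · rfl
      · rfl)]
  rw [LinearMap.range_zero, finrank_bot, Fintype.card_fin, Nat.sub_zero,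
    Finset.card_erase_of_mem (by simp; omega), Nat.card_Ico]
  congr 2
  omega

end Groth.Agent.S15033
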