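import Groth.Statements.S15036
import Groth.Agent.Curves2.Semigroup
-- import your own Groth.Agent.* helpers here

set_option autoImplicit false
open TFCurv

namespace Groth.Agent.S15036

/-- Let Γ be a numerical semigroup (a submonoid of (ℕ, +) with finite complement), Γ ≠ ℕ, with conductor
c (every n ≥ c lies in Γ, c − 1 does not); let S ⊆ ℕ be a Γ-module in normal form (0 ∈ S, γ + s ∈ S
for γ ∈ Γ, s ∈ S) with conductor c(S) (all n ≥ c(S) in S, c(S) − 1 ∉ S), and let s be a gap of S
such that S ∪ {s} is again a Γ-module. Enumerate S increasingly as s_0 < s_1 < ⋯ and put τ_i(S) =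
s_i + ℓ(S), where ℓ counts the gaps of Γ filled; since ℓ(S ∪ {s}) = ℓ(S) + 1, the termwise
comparison τ(S) ≤ τ(S ∪ {s}) says that the i-th element of S is at most one more than the i-th
element of S ∪ {s} for every i. This holds if and only if s = c(S) − 1, the largest gap of S. -/
theorem result (Γ : AddSubmonoid ℕ) (c : ℕ) (hc : ∀ n : ℕ, c ≤ n → n ∈ Γ) (hc0 : c ≠ 0) (hc1 : c - 1 ∉ Γ) (S : Set ℕ) (hS0 : (0 : ℕ) ∈ S) (hS : ∀ γ : ℕ, γ ∈ Γ → ∀ s : ℕ, s ∈ S → γ + s ∈ S) (cS : ℕ) (hcS : ∀ n : ℕ, cS ≤ n → n ∈ S) (hcS0 : cS ≠ 0) (hcS1 : cS - 1 ∉ S) (s : ℕ) (hs : s ∉ S) (hs' : ∀ γ : ℕ, γ ∈ Γ → γ ≠ 0 → s + γ ∈ S) : (∀ i : ℕ, Nat.nth (fun m => m ∈ S) i ≤ Nat.nth (fun m => m ∈ insert s S) i + 1) ↔ s + 1 = cS := by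
  classical
  have hinfS : (setOf fun m => m ∈ S).Infinite := Groth.Curves2.NumSgp.infinite_setOf_mem hcS
  have hinfT : (setOf fun m => m ∈ insert s S).Infinite := hinfS.mono fun m hm => Or.inr hm
  have hsc : s < cS := by by_contra h; exact hs (hcS s (by omega))
  have hcount : ∀ n, Nat.count (fun m => m ∈ insert s S) n =
      Nat.count (fun m => m ∈ S) n + (if s < n then 1 else 0) := by
    intro n
    induction n with
    | zero => simp
    | succ n ih =>
      rw [Nat.count_succ, Nat.count_succ, ih]
      by_cases hn : n = s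
      · subst hn
        simp [hs]
      · have h1 : (n ∈ insert s S) ↔ n ∈ S := by simp [hn]
        simp only [h1]
        split_ifs <;> omega
  constructor
  · intro h
    by_contra hne
    have hex : ∃ g, g ∉ S ∧ s < g := ⟨cS - 1, hcS1, by omega⟩
    obtain ⟨hg, hsg⟩ := Nat.find_spec hex
    set g := Nat.find hex with hgdef
    have hmT : g - 1 ∈ insert s S := by
      by_cases he : g - 1 = s
      · exact Or.inl he
      · refine Or.inr ?_
        by_contra hm
        exact Nat.find_min hex (show g - 1 < g by omega) ⟨hm, by omega⟩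
    have h' := h (Nat.count (fun m => m ∈ insert s S) (g - 1))
    rw [Nat.nth_count (p := fun m => m ∈ insert s S) hmT] at h'
    have hlt := (Nat.lt_nth_iff_count_lt hinfS (b := g + 1)
      (a := Nat.count (fun m => m ∈ insert s S) (g - 1)))
    have hT := Nat.count_succ (fun m => m ∈ insert s S) (g - 1)
    rw [if_pos hmT, show g - 1 + 1 = g by omega, hcount g, if_pos hsg] at hT
    have hS' := Nat.count_succ (fun m => m ∈ S) g
    rw [if_neg hg] at hS'
    have : Nat.count (fun m => m ∈ insert s S) (g - 1) <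
        Nat.count (fun m => m ∈ S) (g + 1) := by
      rw [hlt]; omega
    omega
  · intro hse i
    have hm : Nat.nth (fun m => m ∈ insert s S) i ∈ insert s S :=
      Nat.nth_mem_of_infinite (p := fun m => m ∈ insert s S) hinfT i
    set m := Nat.nth (fun m => m ∈ insert s S) i with hmdef
    have hi : Nat.count (fun m => m ∈ insert s S) m = i :=
      Nat.count_nth_of_infinite hinfT i
    have hT := Nat.count_succ (fun m => m ∈ insert s S) m
    rw [if_pos hm, hi, hcount (m + 1)] at hT
    have hlt : i < Nat.count (fun m => m ∈ S) (m + 2) := by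
      rw [show m + 2 = (m + 1) + 1 by omega, Nat.count_succ]
      by_cases hsm : s < m + 1
      · rw [if_pos hsm] at hT
        rw [if_pos (hcS (m + 1) (by omega))]
        omega
      · rw [if_neg hsm] at hT
        omega
    have := Nat.nth_lt_of_lt_count hlt
    omega

end Groth.Agent.S15036
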