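import Groth.Statements.S15037
import Groth.Agent.Curves2.Semigroup
-- import your own Groth.Agent.* helpers here

set_option autoImplicit false
open TFCurv

namespace Groth.Agent.S15037

/-- Let Γ be a numerical semigroup (a submonoid of (ℕ, +) with finite complement), Γ ≠ ℕ, with conductor
c (every n ≥ c lies in Γ, c − 1 does not); let S and S' ⊆ ℕ be Γ-modules in normal form with
conductors c(S), c(S'), let δ(S), δ(S') be their numbers of gaps and r(S), r(S') their numbers of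
elements below the conductor, and enumerate them increasingly as s_i, s'_i (i ≥ 0). With τ_i(S) =
s_i + ℓ(S) and ℓ(S) = δ(Γ) − δ(S), the termwise order τ(S) ≤ τ(S') reads s_i + δ(S') ≤ s'_i + δ(S)
for all i. It holds if and only if r(S') ≤ r(S) and s_i + δ(S') ≤ s'_i + δ(S) for all i < r(S')
(beyond r(S) the entries τ_i(S) = i + δ(Γ) are the largest possible). -/
theorem result (Γ : AddSubmonoid ℕ) (c : ℕ) (hc : ∀ n : ℕ, c ≤ n → n ∈ Γ) (hc0 : c ≠ 0) (hc1 : c - 1 ∉ Γ) (S : Set ℕ) (hS0 : (0 : ℕ) ∈ S) (hS : ∀ γ : ℕ, γ ∈ Γ → ∀ s : ℕ, s ∈ S → γ + s ∈ S) (cS : ℕ) (hcS : ∀ n : ℕ, cS ≤ n → n ∈ S) (hcS1 : cS = 0 ∨ cS - 1 ∉ S) (S' : Set ℕ) (hS'0 : (0 : ℕ) ∈ S') (hS' : ∀ γ : ℕ, γ ∈ Γ → ∀ s : ℕ, s ∈ S' → γ + s ∈ S') (cS' : ℕ) (hcS' : ∀ n : ℕ, cS' ≤ n → n ∈ S') (hcS'1 : cS' = 0 ∨ cS' - 1 ∉ S') : (∀ i : ℕ, Nat.nth (fun m => m ∈ S) i + S'ᶜ.ncard ≤ Nat.nth (fun m => m ∈ S') i + Sᶜ.ncard) ↔ ((S' ∩ Set.Iio cS').ncard ≤ (S ∩ Set.Iio cS).ncard ∧ ∀ i : ℕ, i < (S'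 ∩ Set.Iio cS').ncard → Nat.nth (fun m => m ∈ S) i + S'ᶜ.ncard ≤ Nat.nth (fun m => m ∈ S') i + Sᶜ.ncard) := by
  classical
  have key : ∀ (T : Set ℕ) (cT : ℕ), (∀ n, cT ≤ n → n ∈ T) → (cT = 0 ∨ cT - 1 ∉ T) →
      ∀ i, (((T ∩ Set.Iio cT).ncard ≤ i → Nat.nth (fun m => m ∈ T) i = i + Tᶜ.ncard) ∧
        (i < (T ∩ Set.Iio cT).ncard → Nat.nth (fun m => m ∈ T) i < i + Tᶜ.ncard)) := by
    intro T cT hT hT1
    have hr : (T ∩ Set.Iio cT).ncard = Nat.count (fun m => m ∈ T) cT := by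
      rw [Nat.count_eq_card_filter_range, ← Set.ncard_coe_finset]
      congr 1
      ext x; simp [and_comm]
    have hδ : Nat.count (fun m => m ∈ T) cT + Tᶜ.ncard = cT := by
      have h := Set.ncard_inter_add_ncard_diff_eq_ncard (Set.Iio cT) T (Set.finite_Iio cT)
      have h' : Set.Iio cT \ T = Tᶜ := by
        ext x
        simp only [Set.mem_diff, Set.mem_Iio, Set.mem_compl_iff, and_iff_right_iff_imp]
        intro hx
        by_contra hh
        exact hx (hT x (by omega))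
      rw [h', Set.inter_comm, hr] at h
      simpa using h
    have hcnt : ∀ d, Nat.count (fun m => m ∈ T) (cT + d) = Nat.count (fun m => m ∈ T) cT + d := by
      intro d
      induction d with
      | zero => simp
      | succ d ih => rw [← add_assoc, Nat.count_succ, if_pos (hT _ (by omega)), ih]; omega
    rw [hr]
    intro i
    constructor
    · intro hi
      have hm : i + Tᶜ.ncard ∈ T := hT _ (by omega)
      have h := Nat.nth_count (p := fun m => m ∈ T) hm
      rw [show i + Tᶜ.ncard = cT + (i + Tᶜ.ncard - cT) by omega, hcnt] at h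
      rw [show Nat.count (fun m => m ∈ T) cT + (i + Tᶜ.ncard - cT) = i by omega] at h
      omega
    · intro hi
      have hc0' : cT ≠ 0 := by rintro rfl; simp at hi
      have hgap : cT - 1 ∉ T := hT1.resolve_left hc0'
      have hprev : Nat.count (fun m => m ∈ T) (cT - 1) = Nat.count (fun m => m ∈ T) cT := by
        conv_rhs => rw [show cT = cT - 1 + 1 by omega, Nat.count_succ, if_neg hgap]
        rfl
      have hlt := Nat.nth_lt_of_lt_count (hprev ▸ hi)
      set m := Nat.nth (fun m => m ∈ T) i with hm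
      have hinf : (setOf fun m => m ∈ T).Infinite := Groth.Curves2.NumSgp.infinite_setOf_mem hT
      have hci : Nat.count (fun m => m ∈ T) m = i := Nat.count_nth_of_infinite hinf i
      obtain ⟨d, hd⟩ : ∃ d, cT - 1 = (m + 1) + d := ⟨cT - 1 - (m + 1), by omega⟩
      have hsucc := Nat.count_succ (fun m => m ∈ T) m
      rw [if_pos (Nat.nth_mem_of_infinite (p := fun m => m ∈ T) hinf i), hci] at hsucc
      rw [hd, Nat.count_add, hsucc] at hprev
      have := Nat.count_le (p := fun k => m + 1 + k ∈ T) (n := d)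
      omega
  have k1 := key S cS hcS hcS1
  have k2 := key S' cS' hcS' hcS'1
  constructor
  · intro h
    refine ⟨?_, fun i _ => h i⟩
    by_contra hlt
    push_neg at hlt
    have := h ((S ∩ Set.Iio cS).ncard)
    rw [(k1 _).1 le_rfl] at this
    have := (k2 _).2 hlt
    omega
  · rintro ⟨-, h⟩ i
    by_cases hi : i < (S' ∩ Set.Iio cS').ncard
    · exact h i hi
    · rw [(k2 i).1 (by omega)]
      rcases lt_or_ge i ((S ∩ Set.Iio cS).ncard) with h' | h'
      · have := (k1 i).2 h'; omega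
      · rw [(k1 i).1 h']; omega

end Groth.Agent.S15037
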