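import Groth.Statements.S15038
import Groth.Agent.Curves2.Semigroup
-- import your own Groth.Agent.* helpers here

set_option autoImplicit false
open TFCurv

namespace Groth.Agent.S15038

/-- Let Γ be a numerical semigroup (a submonoid of (ℕ, +) with finite complement), Γ ≠ ℕ, with conductor
c (every n ≥ c lies in Γ, c − 1 does not). If Γ is symmetric (for x < c, x is a gap exactly when c −
1 − x ∈ Γ) and its multiplicity e, the least nonzero element of Γ, is greater than 2, then Γ is
generated as an additive monoid by at most e − 1 elements. -/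
theorem result (Γ : AddSubmonoid ℕ) (c : ℕ) (hc : ∀ n : ℕ, c ≤ n → n ∈ Γ) (hc0 : c ≠ 0) (hc1 : c - 1 ∉ Γ) (hsymm : ∀ x : ℕ, x < c → (x ∉ Γ ↔ c - 1 - x ∈ Γ)) (e : ℕ) (he : e ∈ Γ) (he0 : e ≠ 0) (hemin : ∀ γ : ℕ, γ ∈ Γ → γ ≠ 0 → e ≤ γ) (he2 : 2 < e) : ∃ G : Finset ℕ, G.card ≤ e - 1 ∧ AddSubmonoid.closure (↑G : Set ℕ) = Γ := by
  classical
  have hw : ∀ r ∈ Finset.range e, ∃ n, n ∈ Γ ∧ n % e = r := by
    intro r hr
    refine ⟨r + c * e, hc _ ?_, ?_⟩
    · have := Nat.le_mul_of_pos_right c (Nat.pos_of_ne_zero he0)
      omega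
    · rw [Nat.add_mul_mod_self_right]; exact Nat.mod_eq_of_lt (Finset.mem_range.1 hr)
  set T : Finset ℕ := ((Finset.range e).erase 0).erase ((c - 1) % e) with hT
  let w : ℕ → ℕ := fun r => if h : r ∈ Finset.range e then Nat.find (hw r h) else 0
  set G : Finset ℕ := insert e (T.image w) with hG
  have hr0 : (c - 1) % e ≠ 0 := by
    intro h
    apply hc1
    have := Groth.Curves2.NumSgp.mul_mem he ((c - 1) / e)
    rwa [Nat.div_mul_cancel (Nat.dvd_of_mod_eq_zero h)] at this
  have hTcard : T.card ≤ e - 2 := by
    have h1 : (c - 1) % e ∈ (Finset.range e).erase 0 :=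
      Finset.mem_erase.2 ⟨hr0, Finset.mem_range.2 (Nat.mod_lt _ (Nat.pos_of_ne_zero he0))⟩
    rw [hT, Finset.card_erase_of_mem h1, Finset.card_erase_of_mem
      (Finset.mem_range.2 (Nat.pos_of_ne_zero he0)), Finset.card_range]
    omega
  refine ⟨G, ?_, le_antisymm (AddSubmonoid.closure_le.2 ?_) ?_⟩
  · have := Finset.card_insert_le e (T.image w)
    have := Finset.card_image_le (s := T) (f := w)
    rw [hG]; omega
  · intro x hx
    simp only [hG, Finset.coe_insert, Set.mem_insert_iff, Finset.coe_image, Set.mem_image] at hx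
    rcases hx with rfl | ⟨r, hr, rfl⟩
    · exact he
    · have hr' : r ∈ Finset.range e :=
        Finset.mem_of_mem_erase (Finset.mem_of_mem_erase hr)
      simp only [w, dif_pos hr']
      exact (Nat.find_spec (hw r hr')).1
  · intro n hn
    have heG : e ∈ AddSubmonoid.closure (↑G : Set ℕ) :=
      AddSubmonoid.subset_closure (by simp [hG])
    induction n using Nat.strong_induction_on with
    | _ n ih =>
      by_cases hne : e ≤ n ∧ n - e ∈ Γ
      · have := add_mem heG (ih (n - e) (by omega) hne.2)
        rwa [Nat.add_sub_cancel' hne.1] at this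
      by_cases h0 : n % e = 0
      · have := Groth.Curves2.NumSgp.mul_mem heG (n / e)
        rwa [Nat.div_mul_cancel (Nat.dvd_of_mod_eq_zero h0)] at this
      by_cases hmax : n % e = (c - 1) % e
      · by_cases hcn : c ≤ n
        · obtain ⟨a, b, ha, hb, han, hbn, rfl⟩ :=
            Groth.Curves2.NumSgp.exists_decomp hc hc0 hsymm he he2 hemin hcn
          exact add_mem (ih a han ha) (ih b hbn hb)
        · exfalso
          apply hc1
          have hd : e ∣ c - 1 - n := (Nat.modEq_iff_dvd' (by omega)).1 hmax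
          have := add_mem hn (Groth.Curves2.NumSgp.mul_mem he ((c - 1 - n) / e))
          rw [Nat.div_mul_cancel hd] at this
          rwa [show n + (c - 1 - n) = c - 1 by omega] at this
      · -- `n` is the least element of its residue class
        have hr : n % e ∈ Finset.range e :=
          Finset.mem_range.2 (Nat.mod_lt _ (Nat.pos_of_ne_zero he0))
        have hrT : n % e ∈ T := by
          rw [hT]; exact Finset.mem_erase.2 ⟨hmax, Finset.mem_erase.2 ⟨h0, hr⟩⟩
        apply AddSubmonoid.subset_closure
        simp only [hG, Finset.coe_insert, Set.mem_insert_iff, Finset.coe_image, Set.mem_image]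
        refine Or.inr ⟨n % e, hrT, ?_⟩
        simp only [w, dif_pos hr]
        refine le_antisymm (Nat.find_min' _ ⟨hn, rfl⟩) ?_
        by_contra hlt
        push_neg at hlt
        obtain ⟨hm1, hm2⟩ := Nat.find_spec (hw _ hr)
        set m := Nat.find (hw _ hr) with hm
        apply hne
        have hd : e ∣ n - m := (Nat.modEq_iff_dvd' hlt.le).1 hm2
        obtain ⟨j, hj⟩ := hd
        have hj0 : j ≠ 0 := by rintro rfl; simp at hj; omega
        have hje : e * j = e + (j - 1) * e := by
          obtain ⟨j, rfl⟩ := Nat.exists_eq_succ_of_ne_zero hj0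
          simp; ring
        refine ⟨by omega, ?_⟩
        have := add_mem hm1 (Groth.Curves2.NumSgp.mul_mem he (j - 1))
        rwa [show n - e = m + (j - 1) * e by omega]

end Groth.Agent.S15038
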