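import Groth.Statements.S15040
import Mathlib
import Groth.Agent.Curves2.ExtDual
import Groth.Agent.Gorenstein.Basic
-- import your own Groth.Agent.* helpers here

set_option autoImplicit false
universe u
open CategoryTheory
open TFCurv

namespace Groth.Agent.S15040

/-- Let O be a one-dimensional Gorenstein local domain with algebraically closed residue field whose
integral closure O~ in its fraction field K is a finite O-module, and let M be an intermediate ring
O ⊆ M ⊆ O~ (an overring of O), viewed as an O-module. Put M⁻¹ = {x ∈ K | x·M ⊆ O}, which lies in O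
and is identified with an ideal of O. Then Ext¹_O(M, M) and Hom_O(M⁻¹, O/M⁻¹) are isomorphic abelian
groups (existence of an additive isomorphism only). -/
theorem result (O : Type u) [CommRing O] [IsDomain O] [LocCoh.IsGorensteinLocalRing O] (hdim : ringKrullDim O = 1) [IsAlgClosed (IsLocalRing.ResidueField O)] (K : Type u) [Field K] [Algebra O K] [IsFractionRing O K] (hfin : Module.Finite O ↥(integralClosure O K)) (M : Subalgebra O K) (hM : M ≤ integralClosure O K) : Nonempty (Abelian.Ext (ModuleCat.of O ↥M) (ModuleCat.of O ↥M) 1 ≃+ (↥((1 : Submodule O K) / Subalgebra.toSubmodule M) →ₗ[O] (O ⧸ Submodule.comap (Algebra.linearMap O K) ((1 : Submodule O K) / Subalgebra.toSubmodule M)))) := by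
  classical
  obtain ⟨d, hd, hd1, -, -⟩ := GrothGoren.exists_dim O ((GrothGoren.isGorenstein_iff O).1 ‹_›)
  obtain rfl : d = 1 := by rw [hd] at hdim; exact_mod_cast hdim
  have hW := Groth.Curves2.Canonical.isCanonical_self hd1
  haveI : Module.Finite O ↥M := by
    haveI := hfin
    exact Module.Finite.of_injective (Subalgebra.inclusion hM).toLinearMap
      (Subalgebra.inclusion_injective hM)
  haveI : Module.IsTorsionFree O K := Groth.Calg3.isTorsionFree_of_smul_eq_zero fun r x hr h => by
    rw [Algebra.smul_def, mul_eq_zero] at h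
    exact h.resolve_left fun h => hr (IsFractionRing.injective O K (h.trans (map_zero _).symm))
  haveI : Module.IsTorsionFree O ↥M :=
    Groth.Calg3.isTorsionFree_of_injective M.val.toLinearMap Subtype.val_injective
  have hKinj : Function.Injective (Algebra.linearMap O K) := IsFractionRing.injective O K
  set I := Submodule.comap (Algebra.linearMap O K) ((1 : Submodule O K) / Subalgebra.toSubmodule M)
    with hI
  have hle : ∀ z ∈ (1 : Submodule O K) / Subalgebra.toSubmodule M, ∃ a : O, algebraMap O K a = z := by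
    intro z hz
    have := Submodule.mem_div_iff_forall_mul_mem.1 hz 1 M.one_mem
    rw [mul_one] at this
    exact Submodule.mem_one.1 this
  let e₀ : ↥I ≃ₗ[O] ↥((1 : Submodule O K) / Subalgebra.toSubmodule M) :=
    LinearEquiv.ofBijective ((Algebra.linearMap O K).restrict fun x hx => hx)
      ⟨fun a b h => Subtype.ext (hKinj (congrArg Subtype.val h)), fun z => by
        obtain ⟨a, ha⟩ := hle z.1 z.2
        exact ⟨⟨a, show algebraMap O K a ∈ _ by rw [ha]; exact z.2⟩, Subtype.ext ha⟩⟩
  -- `I = Hom(M, O)`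
  have hmulI : ∀ (x : ↥I) (m : ↥M), ∃ a : O, algebraMap O K a = algebraMap O K (x : O) * (m : K) :=
    fun x m => Submodule.mem_one.1 (Submodule.mem_div_iff_forall_mul_mem.1 x.2 _ m.2)
  choose μ hμ using hmulI
  let toDual : ↥I →ₗ[O] (↥M →ₗ[O] O) := LinearMap.mk₂ O μ
    (fun x x' m => hKinj (by simp [hμ]; ring))
    (fun r x m => hKinj (by simp [hμ]; ring))
    (fun x m m' => hKinj (by simp [hμ]; ring))
    (fun r x m => hKinj (by simp [hμ, Algebra.smul_def]; ring))
  have hcross : ∀ (φ : ↥M →ₗ[O] O) (m : ↥M),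
      algebraMap O K (φ 1) * (m : K) = algebraMap O K (φ m) := by
    intro φ m
    obtain ⟨⟨a, b⟩, hab⟩ := IsLocalization.surj (nonZeroDivisors O) (m : K)
    have h1 : (b : O) • m = a • (1 : ↥M) := Subtype.ext (by
      simp only [SetLike.val_smul, Algebra.smul_def, OneMemClass.coe_one, mul_one]
      rw [mul_comm]; exact hab)
    have h2 := congrArg (fun z => algebraMap O K (φ z)) h1
    simp only [map_smul, smul_eq_mul, map_mul] at h2
    refine mul_left_cancel₀ (show algebraMap O K (b : O) ≠ 0 from fun e =>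
      nonZeroDivisors.coe_ne_zero b (hKinj (e.trans (map_zero _).symm))) ?_
    rw [h2, ← hab]; ring
  have hdual : Function.Bijective toDual := by
    refine ⟨fun x x' h => Subtype.ext (hKinj ?_), fun φ => ?_⟩
    · have := congrArg (algebraMap O K) (LinearMap.congr_fun h 1)
      change algebraMap O K (μ x 1) = algebraMap O K (μ x' 1) at this
      rw [hμ, hμ] at this
      simpa using this
    · refine ⟨⟨φ 1, Submodule.mem_div_iff_forall_mul_mem.2 fun m hm => Submodule.mem_one.2
        ⟨φ ⟨m, hm⟩, (hcross φ ⟨m, hm⟩).symm⟩⟩, LinearMap.ext fun m => hKinj ?_⟩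
      change algebraMap O K (μ _ m) = algebraMap O K (φ m)
      rw [hμ]; exact hcross φ m
  let eI := LinearEquiv.ofBijective toDual hdual
  haveI : Module.Finite O ↥I := Module.Finite.iff_fg.2 (IsNoetherian.noetherian I)
  haveI : Module.IsTorsionFree O ↥I :=
    Groth.Calg3.isTorsionFree_of_injective I.subtype Subtype.val_injective
  obtain ⟨E₁⟩ := Groth.Curves2.Canonical.exists_ext_dual hW hdim 1 ↥M ↥M
  have E₂ : Abelian.Ext (ModuleCat.of O (↥M →ₗ[O] O)) (ModuleCat.of O (↥M →ₗ[O] O)) 1 ≃+
      Abelian.Ext (ModuleCat.of O ↥I) (ModuleCat.of O ↥I) 1 :=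
    (((Abelian.extFunctor 1).mapIso eI.toModuleIso.op).app _).addCommGroupIsoToAddEquiv.trans
      (((Abelian.extFunctorObj _ 1).mapIso eI.symm.toModuleIso).addCommGroupIsoToAddEquiv)
  let S : ShortComplex (ModuleCat.{u} O) := Groth.Curves2.ExtTools.cokerSC I.subtype
  have hS : S.ShortExact :=
    Groth.Curves2.ExtTools.cokerSC_shortExact I.subtype Subtype.val_injective
  obtain ⟨E₃⟩ := Groth.Curves2.Canonical.exists_shift_co hS (ModuleCat.of O ↥I) 0
    (fun z => by
      have := Groth.Curves2.Canonical.subsingleton_ext hW (M := ↥I) 1 le_rfl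
      exact @Subsingleton.elim (Abelian.Ext (ModuleCat.of O ↥I) S.X₂ 1) this _ _)
  have hzero : ((Abelian.Ext.mk₀ S.g).postcomp (ModuleCat.of O ↥I) (add_zero 0)).range = ⊥ := by
    rw [eq_bot_iff]
    rintro _ ⟨z, rfl⟩
    obtain ⟨φ, rfl⟩ := (Groth.Curves2.Canonical.homEquiv ↥I O).surjective z
    have hφ : ∀ x : ↥I, φ x ∈ I := by
      intro x
      change algebraMap O K (φ x) ∈ (1 : Submodule O K) / Subalgebra.toSubmodule M
      rw [Submodule.mem_div_iff_forall_mul_mem]
      intro m hm
      obtain ⟨⟨a, b⟩, hab⟩ := IsLocalization.surj (nonZeroDivisors O) m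
      have hy : μ x ⟨m, hm⟩ ∈ I := by
        change algebraMap O K (μ x ⟨m, hm⟩) ∈ (1 : Submodule O K) / Subalgebra.toSubmodule M
        rw [hμ, Submodule.mem_div_iff_forall_mul_mem]
        intro m' hm'
        rw [mul_assoc]
        exact Submodule.mem_div_iff_forall_mul_mem.1 x.2 _ (M.mul_mem hm hm')
      refine Submodule.mem_one.2 ⟨φ ⟨_, hy⟩, ?_⟩
      have h1 : (b : O) • (⟨_, hy⟩ : ↥I) = a • x := Subtype.ext (hKinj (by
        change algebraMap O K ((b : O) * μ x ⟨m, hm⟩) = algebraMap O K (a * (x : O))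
        simp only [map_mul, hμ, ← hab]; ring))
      have h2 := congrArg (fun z => algebraMap O K (φ z)) h1
      simp only [map_smul, smul_eq_mul, map_mul] at h2
      refine mul_left_cancel₀ (show algebraMap O K (b : O) ≠ 0 from fun e =>
        nonZeroDivisors.coe_ne_zero b (hKinj (e.trans (map_zero _).symm))) ?_
      rw [h2, ← hab]; ring
    have hzero' : (LinearMap.range I.subtype).mkQ.comp φ = 0 := LinearMap.ext fun x =>
      (Submodule.Quotient.mk_eq_zero _).2 (by rw [Submodule.range_subtype]; exact hφ x)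
    refine AddSubgroup.mem_bot.2 ((Abelian.Ext.mk₀_comp_mk₀ _ _).trans ?_)
    have : (ModuleCat.homAddEquiv (M := ModuleCat.of O ↥I) (N := ModuleCat.of O O)).symm φ ≫ S.g = 0 :=
      ModuleCat.hom_ext hzero'
    exact (congrArg Abelian.Ext.mk₀ this).trans (Abelian.Ext.mk₀_zero (X := ModuleCat.of O ↥I) (Y := S.X₃))
  let E₄ : Abelian.Ext (ModuleCat.of O ↥I) (ModuleCat.of O ↥I) 1 ≃+
      Abelian.Ext (ModuleCat.of O ↥I) S.X₃ 0 :=
    E₃.trans ((QuotientAddGroup.quotientAddEquivOfEq hzero).trans QuotientAddGroup.quotientBot)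
  let E₅ : (↥I →ₗ[O] (O ⧸ I)) ≃+ Abelian.Ext (ModuleCat.of O ↥I) S.X₃ 0 :=
    ((LinearEquiv.congrRight (Submodule.quotEquivOfEq _ _ (Submodule.range_subtype I).symm) :
      (↥I →ₗ[O] (O ⧸ I)) ≃ₗ[O] (↥I →ₗ[O] (O ⧸ LinearMap.range I.subtype))).toAddEquiv).trans
        (Groth.Curves2.Canonical.homEquiv _ _)
  exact ⟨((E₁.trans E₂).trans (E₄.trans E₅.symm)).trans
    (LinearEquiv.congrLeft (O ⧸ I) O e₀).toAddEquiv⟩

end Groth.Agent.S15040
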