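import Groth.Statements.S15041
import Mathlib
import Groth.Agent.Curves2.ExtTwo
import Groth.Agent.Curves2.ValueDual
import Groth.Agent.CurveConductor.Bounds
-- import your own Groth.Agent.* helpers here

set_option autoImplicit false
universe u
open CategoryTheory
open TFCurv

namespace Groth.Agent.S15041

section Helpers

open PowerSeries

variable {k : Type u} [Field k] {A : Subalgebra k (PowerSeries k)}

/-- The series with exponents in `S`. -/
def Supp (S : Set ℕ) (f : PowerSeries k) : Prop := ∀ n, PowerSeries.coeff n f ≠ 0 → n ∈ S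

lemma supp_mul {S T R : Set ℕ} {f g : PowerSeries k} (hf : Supp S f) (hg : Supp T g)
    (h : ∀ a ∈ S, ∀ b ∈ T, a + b ∈ R) : Supp R (f * g) := fun n hn => by
  rw [PowerSeries.coeff_mul] at hn
  obtain ⟨⟨a, b⟩, hab, hne⟩ := Finset.exists_ne_zero_of_sum_ne_zero hn
  rw [Finset.HasAntidiagonal.mem_antidiagonal] at hab
  obtain ⟨h1, h2⟩ := mul_ne_zero_iff.1 hne
  exact hab ▸ h a (hf a h1) b (hg b h2)

lemma supp_X_pow {S : Set ℕ} {a : ℕ} (ha : a ∈ S) : Supp S ((X : PowerSeries k) ^ a) := fun n hn => by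
  simp only [PowerSeries.coeff_X_pow, ne_eq, ite_eq_right_iff, one_ne_zero, imp_false, not_not] at hn
  exact hn ▸ ha

open scoped Classical in
/-- The part of a series with exponents in `S`, shifted down by `r`. -/
noncomputable def part (S : Set ℕ) (r : ℕ) (f : PowerSeries k) : PowerSeries k :=
  PowerSeries.mk fun n => if n ∈ S then coeff (r + n) f else 0

lemma supp_part (S : Set ℕ) (r : ℕ) (f : PowerSeries k) : Supp S (part S r f) := fun n hn => by
  classical
  by_contra h
  exact hn (by rw [part, PowerSeries.coeff_mk, if_neg h])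

/-- Splitting a series along two monomials. -/
lemma split {S S' : Set ℕ} (r : ℕ) (f : PowerSeries k)
    (h : ∀ n, coeff n f ≠ 0 → n ∈ S ∨ (r ≤ n ∧ n - r ∈ S')) :
    f = part S 0 f + X ^ r * part {n | n ∈ S' ∧ r + n ∉ S} r f := by
  classical
  ext n
  rw [map_add, PowerSeries.coeff_X_pow_mul', part, part, PowerSeries.coeff_mk, zero_add]
  by_cases hS : n ∈ S
  · rw [if_pos hS, left_eq_add]
    split_ifs with hr
    · rw [PowerSeries.coeff_mk, if_neg]
      rintro ⟨-, h2⟩
      exact h2 (by rwa [show r + (n - r) = n by omega])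
    · rfl
  · rw [if_neg hS, zero_add]
    by_cases hf : coeff n f = 0
    · rw [hf]
      split_ifs with hr
      · rw [PowerSeries.coeff_mk]
        split_ifs with h2
        · rw [show r + (n - r) = n by omega, hf]
        · rfl
      · rfl
    · obtain ⟨hr, h2⟩ := (h n hf).resolve_left hS
      rw [if_pos hr, PowerSeries.coeff_mk, if_pos ⟨h2, by rwa [show r + (n - r) = n by omega]⟩,
        show r + (n - r) = n by omega]

/-- The length of a quotient of monomial modules. -/
theorem length_mon {A : Type u} [CommRing A] [IsLocalRing A] [Algebra k A] [Algebra A (PowerSeries k)]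
    [IsScalarTower k A (PowerSeries k)]
    (hres : Function.Surjective (fun r : k => IsLocalRing.residue A (algebraMap k A r)))
    {SU SW : Set ℕ} (U W : Submodule A (PowerSeries k)) (hU : ∀ f, f ∈ U ↔ Supp SU f)
    (hW : ∀ f, f ∈ W ↔ Supp SW f) (D : Finset ℕ) (hD : ∀ n, n ∈ D ↔ n ∈ SU ∧ n ∉ SW) :
    Module.length A (↥U ⧸ W.comap U.subtype) = (D.card : ℕ∞) := by
  classical
  rw [Groth.CurveConductor.length_eq_finrank_of_residue hres (↥U ⧸ W.comap U.subtype)]
  let Ψ : ↥U →ₗ[k] (↥D → k) :=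
    (LinearMap.pi fun n : ↥D => PowerSeries.coeff (R := k) (n : ℕ)).comp (U.subtype.restrictScalars k)
  have hs : Function.Surjective Ψ := fun v => by
    refine ⟨⟨∑ n : ↥D, PowerSeries.C (v n) * X ^ (n : ℕ), (hU _).2 fun m hm => ?_⟩, funext fun n => ?_⟩
    · by_contra h
      refine hm ?_
      simp only [map_sum, PowerSeries.coeff_C_mul, PowerSeries.coeff_X_pow, mul_ite, mul_one, mul_zero]
      exact Finset.sum_eq_zero fun n _ => if_neg fun (hh : m = (n : ℕ)) => h (by rw [hh]; exact ((hD _).1 n.2).1)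
    · change PowerSeries.coeff (n : ℕ) (∑ m : ↥D, PowerSeries.C (v m) * X ^ (m : ℕ)) = v n
      simp only [map_sum, PowerSeries.coeff_C_mul, PowerSeries.coeff_X_pow, mul_ite, mul_one, mul_zero]
      rw [Finset.sum_eq_single n (fun b _ hb => if_neg fun hh => hb (Subtype.ext hh.symm))
        (fun h => absurd (Finset.mem_univ n) h), if_pos rfl]
  have hk : LinearMap.ker Ψ = (W.comap U.subtype).restrictScalars k := by
    ext p
    rw [LinearMap.mem_ker, Submodule.restrictScalars_mem, Submodule.mem_comap, hW]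
    constructor
    · intro h n hn
      by_contra hnW
      exact hn (congrFun h ⟨n, (hD n).2 ⟨(hU _).1 p.2 n hn, hnW⟩⟩)
    · intro h
      funext n
      by_contra hne
      exact ((hD _).1 n.2).2 (h _ hne)
  rw [← (Submodule.Quotient.restrictScalarsEquiv k (W.comap U.subtype)).length_eq,
    ((Submodule.quotEquivOfEq _ _ hk.symm).trans (Ψ.quotKerEquivOfSurjective hs)).length_eq,
    Module.length_eq_finrank, Module.finrank_fintype_fun_eq_card, Fintype.card_coe]

lemma length_prod_quot {A : Type u} [CommRing A] [IsLocalRing A] [Algebra k A] [Algebra A (PowerSeries k)]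
    [IsScalarTower k A (PowerSeries k)]
    (hres : Function.Surjective (fun r : k => IsLocalRing.residue A (algebraMap k A r)))
    {N : Type u} [AddCommGroup N] [Module A N]
    (e : N ≃ₗ[A] PowerSeries k × PowerSeries k) (R : Submodule A N) (W : Submodule A (PowerSeries k))
    (hW : ∀ f, f ∈ W ↔ Supp {n | 3 ≤ n} f) (hR : R.map e.toLinearMap = W.prod W) :
    Module.length A (N ⧸ R) = 6 := by
  rw [(Submodule.Quotient.equiv _ _ e hR).length_eq,
    Groth.CurveConductor.length_eq_finrank_of_residue hres ((PowerSeries k × PowerSeries k) ⧸ W.prod W),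
    ← (Submodule.Quotient.restrictScalarsEquiv k (W.prod W)).length_eq]
  let Ψ : (PowerSeries k × PowerSeries k) →ₗ[k] (Fin 3 → k) × (Fin 3 → k) :=
    LinearMap.prodMap (LinearMap.pi fun n : Fin 3 => PowerSeries.coeff (R := k) (n : ℕ))
      (LinearMap.pi fun n : Fin 3 => PowerSeries.coeff (R := k) (n : ℕ))
  have hs1 : Function.Surjective (LinearMap.pi fun n : Fin 3 => PowerSeries.coeff (R := k) (n : ℕ)) :=
    fun v => ⟨PowerSeries.mk fun n => if h : n < 3 then v ⟨n, h⟩ else 0, funext fun n => by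
      simp [n.2]⟩
  have hs : Function.Surjective Ψ := Function.Surjective.prodMap hs1 hs1
  have h1 : ∀ f : PowerSeries k, f ∈ W ↔ ∀ n : Fin 3, PowerSeries.coeff (n : ℕ) f = 0 := fun f => by
    rw [hW]
    refine ⟨fun h n => by_contra fun hne => absurd (h _ hne) (not_le.2 n.2), fun h n hn => ?_⟩
    by_contra hlt
    exact hn (h ⟨n, not_le.1 hlt⟩)
  have hk : LinearMap.ker Ψ = (W.prod W).restrictScalars k := by
    ext z
    simp [Ψ, Prod.ext_iff, funext_iff, h1]
  rw [((Submodule.quotEquivOfEq _ _ hk.symm).trans (Ψ.quotKerEquivOfSurjective hs)).length_eq,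
    Module.length_eq_finrank, Module.finrank_prod, Module.finrank_fintype_fun_eq_card, Fintype.card_fin]
  rfl

variable {Γ : Set ℕ} (hA : ∀ f, f ∈ A ↔ Supp Γ f)

include hA

/-- Submodules cut out by exponents. -/
def mon (S : Set ℕ) (hS : ∀ a ∈ Γ, ∀ b ∈ S, a + b ∈ S) : Submodule ↥A (PowerSeries k) where
  carrier := {f | Supp S f}
  add_mem' {f g} hf hg n hn := by
    rw [map_add] at hn
    by_cases h : coeff n f = 0
    · exact hg n (by rwa [h, zero_add] at hn)
    · exact hf n h
  zero_mem' n hn := absurd (map_zero _) hn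
  smul_mem' a f hf := supp_mul ((hA _).1 a.2) hf hS

lemma finite_top (hc : ∀ n, 3 ≤ n → n ≠ 5 → n ∈ Γ) (h0 : 0 ∈ Γ) : Module.Finite ↥A (PowerSeries k) := by
  classical
  refine ⟨⟨{1, X, (X : PowerSeries k) ^ 2}, eq_top_iff.2 fun f _ => ?_⟩⟩
  let c : PowerSeries k := PowerSeries.C (coeff 1 f)
  let d : PowerSeries k := PowerSeries.C (coeff 2 f) + PowerSeries.C (coeff 5 f) * X ^ 3
  have hd : d ∈ A := add_mem (A.algebraMap_mem _)
    (A.mul_mem (A.algebraMap_mem _) ((hA _).2 (supp_X_pow (hc 3 le_rfl (by omega)))))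
  have hb : f - c * X - d * X ^ 2 ∈ A := (hA _).2 fun n hn => by
    simp only [c, d, map_sub, add_mul, map_add, mul_assoc, ← pow_add, PowerSeries.coeff_C_mul,
      PowerSeries.coeff_X, PowerSeries.coeff_X_pow] at hn
    rcases Nat.eq_zero_or_pos n with rfl | hn0
    · exact h0
    refine hc n ?_ ?_
    · by_contra h
      interval_cases n <;> simp at hn
    · rintro rfl
      simp at hn
  simp only [Finset.coe_insert, Finset.coe_singleton]
  rw [Submodule.mem_span_triple]
  exact ⟨⟨_, hb⟩, ⟨c, A.algebraMap_mem _⟩, ⟨d, hd⟩, by simp [Subalgebra.smul_def]; ring⟩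

/-- `Ext¹` of `A + A t^r` with itself. -/
theorem length_ext_self (hfin : Module.Finite ↥A (PowerSeries k)) (r e : ℕ) (h0 : 0 ∈ Γ)
    (he : e ∈ Γ ∧ e + r ∈ Γ)
    (S : Set ℕ) (hS : ∀ n, n ∈ S ↔ (n ∈ Γ ∨ (r ≤ n ∧ n - r ∈ Γ)))
    (hΓS : ∀ a ∈ Γ, ∀ b ∈ S, a + b ∈ S)
    (SU SW : Set ℕ) (hSU : ∀ u, u ∈ SU ↔ ∀ b ∈ Γ, b + r ∈ Γ → e ≤ u + b ∧ u + b - e ∈ S)
    (hSW : ∀ u, u ∈ SW ↔ (e ≤ u ∧ (u - e ∈ S ∨ (r ≤ u - e ∧ u - e - r ∈ S))))
    (hΓU : ∀ a ∈ Γ, ∀ b ∈ SU, a + b ∈ SU) (hΓW : ∀ a ∈ Γ, ∀ b ∈ SW, a + b ∈ SW)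
    (hWU : SW ⊆ SU) (D : Finset ℕ) (hD : ∀ n, n ∈ D ↔ n ∈ SU ∧ n ∉ SW) :
    Module.length ↥A (Abelian.Ext
      (ModuleCat.of ↥A ↥(Submodule.span ↥A ({1, (X : PowerSeries k) ^ r} : Set (PowerSeries k))))
      (ModuleCat.of ↥A ↥(Submodule.span ↥A ({1, (X : PowerSeries k) ^ r} : Set (PowerSeries k)))) 1) =
      (D.card : ℕ∞) := by
  classical
  set M := Submodule.span ↥A ({1, (X : PowerSeries k) ^ r} : Set (PowerSeries k)) with hM
  have hmem : ∀ f, f ∈ M ↔ Supp S f := fun f => by
    constructor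
    · intro hf
      obtain ⟨a, b, rfl⟩ := Submodule.mem_span_pair.1 hf
      refine (mon hA S hΓS).add_mem ((mon hA S hΓS).smul_mem a ?_) ((mon hA S hΓS).smul_mem b ?_)
      · change Supp S 1
        rw [← pow_zero (X : PowerSeries k)]
        exact supp_X_pow ((hS 0).2 (Or.inl h0))
      · exact supp_X_pow ((hS r).2 (Or.inr ⟨le_rfl, by rwa [Nat.sub_self]⟩))
    · intro hf
      refine Submodule.mem_span_pair.2 ⟨⟨part Γ 0 f, (hA _).2 (supp_part _ _ _)⟩,
        ⟨part {n | n ∈ Γ ∧ r + n ∉ Γ} r f, (hA _).2 fun n hn => (supp_part _ _ _ n hn).1⟩, ?_⟩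
      simp only [Subalgebra.smul_def, smul_eq_mul, mul_one]
      conv_rhs => rw [split (S := Γ) (S' := Γ) r f fun n hn => (hS n).1 (hf n hn)]
      ring
  have hXA : ∀ a ∈ Γ, (X : PowerSeries k) ^ a ∈ A := fun a ha => (hA _).2 (supp_X_pow ha)
  obtain ⟨E⟩ := Groth.Curves2.ExtTwo.exists_ext_two (A := ↥A) (B := PowerSeries k) Subtype.val_injective
    ((X : PowerSeries k) ^ r) ⟨_, hXA e he.1⟩ ⟨_, hXA (e + r) he.2⟩ (pow_add _ _ _)
    (IsRegular.of_ne_zero (pow_ne_zero e PowerSeries.X_ne_zero))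
    (M := ↥M) (N := ↥M) M.subtype Subtype.val_injective (by rw [Submodule.range_subtype])
    M.subtype Subtype.val_injective (mon hA SU hΓU) (mon hA SW hΓW)
    (fun g => by
      change Supp SU g ↔ _
      constructor
      · intro hg b a hab
        have hb : Supp {n | n ∈ Γ ∧ n + r ∈ Γ} (b : PowerSeries k) := fun n hn =>
          ⟨(hA _).1 b.2 n hn, (hA _).1 a.2 _ (by
            change PowerSeries.coeff (n + r) (algebraMap ↥A (PowerSeries k) a) ≠ 0
            rw [hab]
            change PowerSeries.coeff (n + r) ((b : PowerSeries k) * X ^ r) ≠ 0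
            rwa [PowerSeries.coeff_mul_X_pow])⟩
        have hgb : Supp {m | e ≤ m ∧ m - e ∈ S} (g * (b : PowerSeries k)) :=
          supp_mul hg hb fun u hu c hc => (hSU u).1 hu c hc.1 hc.2
        obtain ⟨y, hy⟩ : (X : PowerSeries k) ^ e ∣ g * (b : PowerSeries k) :=
          PowerSeries.X_pow_dvd_iff.2 fun m hm => by
            by_contra hne
            exact absurd (hgb m hne).1 (not_le.2 hm)
        refine ⟨y, ?_, hy⟩
        rw [Submodule.range_subtype, hmem]
        intro n hn
        have := hgb (n + e) (by rwa [hy, PowerSeries.coeff_X_pow_mul])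
        simpa using this.2
      · intro hg u hu
        refine (hSU u).2 fun b hb hbr => ?_
        obtain ⟨y, hy, hgy⟩ := hg ⟨_, hXA b hb⟩ ⟨_, hXA (b + r) hbr⟩ (pow_add _ _ _)
        rw [Submodule.range_subtype, hmem] at hy
        have h1 : PowerSeries.coeff (u + b) ((X : PowerSeries k) ^ e * y) ≠ 0 := by
          rw [show (X : PowerSeries k) ^ e * y = g * X ^ b from hgy.symm, PowerSeries.coeff_mul_X_pow]
          exact hu
        rw [PowerSeries.coeff_X_pow_mul'] at h1
        split_ifs at h1 with h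
        · exact ⟨h, hy _ h1⟩
        · exact absurd rfl h1)
    (fun g => by
      change Supp SW g ↔ _
      simp only [Submodule.range_subtype, hmem]
      constructor
      · intro hg
        obtain ⟨h, rfl⟩ : (X : PowerSeries k) ^ e ∣ g := PowerSeries.X_pow_dvd_iff.2 fun m hm => by
          by_contra hne
          exact absurd ((hSW m).1 (hg m hne)).1 (not_le.2 hm)
        refine ⟨part S 0 h, supp_part _ _ _, part {n | n ∈ S ∧ r + n ∉ S} r h,
          fun n hn => (supp_part _ _ _ n hn).1, ?_⟩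
        have hsp := split (S := S) (S' := S) r h fun n hn => by
          have := ((hSW (n + e)).1 (hg _ (by rwa [PowerSeries.coeff_X_pow_mul]))).2
          simpa using this
        conv_lhs => rw [hsp]
        rfl
      · rintro ⟨y, hy, y', hy', rfl⟩
        refine supp_mul (T := {m | m ∈ S ∨ (r ≤ m ∧ m - r ∈ S)}) (supp_X_pow (rfl : e ∈ ({e} : Set ℕ))) ?_ ?_
        · intro n hn
          rw [map_add] at hn
          by_cases h : PowerSeries.coeff n y = 0
          · rw [h, zero_add, PowerSeries.coeff_X_pow_mul'] at hn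
            split_ifs at hn with hle
            · exact Or.inr ⟨hle, hy' _ hn⟩
            · exact absurd rfl hn
          · exact Or.inl (hy n h)
        · rintro a rfl b hb
          exact (hSW _).2 ⟨Nat.le_add_right _ _, by simpa using hb⟩)
  rw [E.length_eq]
  haveI := Groth.Curves2.ValueDual.isLocalRing A hfin
  exact length_mon (Groth.Curves2.ValueDual.residue_surjective A hfin) _ _ (fun _ => Iff.rfl)
    (fun _ => Iff.rfl) D hD

/-- `Ext¹` of the normalisation with itself. -/
theorem length_ext_top (hΓ : ∀ n, n ∈ Γ ↔ n ≠ 1 ∧ n ≠ 2 ∧ n ≠ 5)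
    {M : Type u} [AddCommGroup M] [Module ↥A M] (ιM : M →ₗ[↥A] PowerSeries k)
    (hι : Function.Bijective ιM) :
    Module.length ↥A (Abelian.Ext (ModuleCat.of ↥A M) (ModuleCat.of ↥A M) 1) = 6 := by
  classical
  have hfin := finite_top hA (fun n h1 h2 => (hΓ n).2 ⟨by omega, by omega, h2⟩) ((hΓ 0).2 (by omega))
  let e := LinearEquiv.ofBijective ιM hι
  let q : (Fin 3 → ↥A) →ₗ[↥A] PowerSeries k :=
    ∑ j : Fin 3, (LinearMap.toSpanSingleton ↥A (PowerSeries k) (X ^ (j : ℕ))).comp (LinearMap.proj j)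
  have hq : ∀ x : Fin 3 → ↥A, q x = (x 0 : PowerSeries k) + (x 1 : PowerSeries k) * X +
      (x 2 : PowerSeries k) * X ^ 2 := fun x => by
    simp [q, Fin.sum_univ_three, Subalgebra.smul_def]
  have hq1 : Function.Surjective q := fun f => by
    have hd : PowerSeries.C (coeff 2 f) + PowerSeries.C (coeff 5 f) * X ^ 3 ∈ A :=
      add_mem (A.algebraMap_mem _)
        (A.mul_mem (A.algebraMap_mem _) ((hA _).2 (supp_X_pow ((hΓ 3).2 (by omega)))))
    have hb : f - PowerSeries.C (coeff 1 f) * X -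
        (PowerSeries.C (coeff 2 f) + PowerSeries.C (coeff 5 f) * X ^ 3) * X ^ 2 ∈ A := (hA _).2 fun n hn => by
      simp only [map_sub, add_mul, map_add, mul_assoc, ← pow_add, PowerSeries.coeff_C_mul,
        PowerSeries.coeff_X, PowerSeries.coeff_X_pow] at hn
      refine (hΓ n).2 ⟨?_, ?_, ?_⟩ <;> (rintro rfl; simp at hn)
    refine ⟨![⟨_, hb⟩, ⟨_, A.algebraMap_mem (coeff 1 f)⟩, ⟨_, hd⟩], ?_⟩
    rw [hq]
    simp [← PowerSeries.algebraMap_eq]
    ring
  let π : (Fin 3 → ↥A) →ₗ[↥A] M := e.symm.toLinearMap.comp q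
  let K := LinearMap.ker q
  have hexact : Function.Exact K.subtype π := fun x => by
    change e.symm (q x) = 0 ↔ _
    rw [LinearEquiv.map_eq_zero_iff]
    exact ⟨fun h => ⟨⟨x, h⟩, rfl⟩, fun ⟨y, hy⟩ => hy ▸ y.2⟩
  obtain ⟨E⟩ := Groth.Curves2.ExtMonomial.exists_extOne_equiv (R := ↥A) (K := ↥K) (P := Fin 3 → ↥A) (M := M) (N := M) K.subtype π Subtype.val_injective
    (e.symm.surjective.comp hq1) hexact
  rw [E.length_eq]
  have hK : ∀ b c : ↥A, PowerSeries.coeff 1 ((b : PowerSeries k) * X + (c : PowerSeries k) * X ^ 2) = 0 →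
      PowerSeries.coeff 2 ((b : PowerSeries k) * X + (c : PowerSeries k) * X ^ 2) = 0 →
      PowerSeries.coeff 5 ((b : PowerSeries k) * X + (c : PowerSeries k) * X ^ 2) = 0 →
      ∃ x : ↥K, (x : Fin 3 → ↥A) 1 = b ∧ (x : Fin 3 → ↥A) 2 = c := fun b c h1 h2 h5 => by
    have ha : -((b : PowerSeries k) * X + (c : PowerSeries k) * X ^ 2) ∈ A := neg_mem ((hA _).2
      fun n hn => (hΓ n).2 ⟨fun h => hn (h ▸ h1), fun h => hn (h ▸ h2), fun h => hn (h ▸ h5)⟩)
    exact ⟨⟨![⟨_, ha⟩, b, c], by
      rw [LinearMap.mem_ker, hq]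
      change -((b : PowerSeries k) * X + (c : PowerSeries k) * X ^ 2) + (b : PowerSeries k) * X +
        (c : PowerSeries k) * X ^ 2 = 0
      ring⟩, rfl, rfl⟩
  have hXA : ∀ a, a ≠ 1 → a ≠ 2 → a ≠ 5 → (X : PowerSeries k) ^ a ∈ A := fun a h1 h2 h5 =>
    (hA _).2 (supp_X_pow ((hΓ a).2 ⟨h1, h2, h5⟩))
  let t3 : ↥A := ⟨_, hXA 3 (by omega) (by omega) (by omega)⟩
  let t4 : ↥A := ⟨_, hXA 4 (by omega) (by omega) (by omega)⟩
  obtain ⟨p, hp1, hp2⟩ := hK t3 0 (by simp [t3, ← pow_succ, PowerSeries.coeff_X_pow])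
    (by simp [t3, ← pow_succ, PowerSeries.coeff_X_pow]) (by simp [t3, ← pow_succ, PowerSeries.coeff_X_pow])
  obtain ⟨p', hp'1, hp'2⟩ := hK t4 (-t3)
    (by simp [t3, t4, ← pow_succ, ← pow_add, PowerSeries.coeff_X_pow])
    (by simp [t3, t4, ← pow_succ, ← pow_add, PowerSeries.coeff_X_pow])
    (by simp [t3, t4, ← pow_succ, ← pow_add, PowerSeries.coeff_X_pow])
  -- the two middle coordinates of a relation are divisible by `t³`
  have hdvd : ∀ x : ↥K, (X : PowerSeries k) ^ 3 ∣ ((x : Fin 3 → ↥A) 1 : PowerSeries k) ∧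
      (X : PowerSeries k) ^ 3 ∣ ((x : Fin 3 → ↥A) 2 : PowerSeries k) := fun x => by
    have h0 : q x = 0 := x.2
    rw [hq] at h0
    have hz : ∀ (a : ↥A) m, (m = 1 ∨ m = 2) → PowerSeries.coeff m (a : PowerSeries k) = 0 := fun a m hm => by
      by_contra hne
      have := (hΓ m).1 ((hA _).1 a.2 m hne)
      omega
    have e1 := congrArg (PowerSeries.coeff 1) h0
    have e2 := congrArg (PowerSeries.coeff 2) h0
    rw [map_add, map_add, map_zero, hz _ _ (Or.inl rfl), zero_add, PowerSeries.coeff_mul_X_pow',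
      if_neg (by omega), add_zero, show ∀ g : PowerSeries k, coeff 1 (g * X) = coeff 0 g from
        fun g => PowerSeries.coeff_succ_mul_X 0 g] at e1
    rw [map_add, map_add, map_zero, hz _ _ (Or.inr rfl), zero_add, PowerSeries.coeff_mul_X_pow',
      if_pos le_rfl, show ∀ g : PowerSeries k, coeff 2 (g * X) = coeff 1 g from
        fun g => PowerSeries.coeff_succ_mul_X 1 g,
      hz _ _ (Or.inl rfl), zero_add, Nat.sub_self] at e2
    constructor <;> refine PowerSeries.X_pow_dvd_iff.2 fun m hm => ?_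
    all_goals interval_cases m
    exacts [e1, hz _ _ (Or.inl rfl), hz _ _ (Or.inr rfl), e2, hz _ _ (Or.inl rfl), hz _ _ (Or.inr rfl)]
  choose B hB using fun x : ↥K => (hdvd x).1
  choose C hC using fun x : ↥K => (hdvd x).2
  have htn : (X : PowerSeries k) ^ 3 ≠ 0 := pow_ne_zero 3 PowerSeries.X_ne_zero
  have hcoord : ∀ x y : ↥K, (x : Fin 3 → ↥A) 1 = (y : Fin 3 → ↥A) 1 →
      (x : Fin 3 → ↥A) 2 = (y : Fin 3 → ↥A) 2 → x = y := fun x y h1 h2 => by
    refine Subtype.ext (funext fun j => ?_)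
    fin_cases j
    · have hx : q x = 0 := x.2
      have hy : q y = 0 := y.2
      rw [hq] at hx hy
      rw [h1, h2] at hx
      change (x : Fin 3 → ↥A) 0 = (y : Fin 3 → ↥A) 0
      exact Subtype.ext (by linear_combination hx - hy)
    · exact h1
    · exact h2
  -- homomorphisms out of the relations
  let G : (↥K →ₗ[↥A] M) →ₗ[↥A] PowerSeries k × PowerSeries k :=
    { toFun := fun φ => (ιM (φ p), X * ιM (φ p) - ιM (φ p'))
      map_add' := fun φ ψ => by
        simp only [LinearMap.add_apply, map_add, Prod.mk_add_mk]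
        refine Prod.ext rfl ?_
        simp only
        ring
      map_smul' := fun r φ => by
        simp only [LinearMap.smul_apply, map_smul, RingHom.id_apply, Prod.smul_mk, Subalgebra.smul_def,
          smul_eq_mul]
        refine Prod.ext rfl ?_
        simp only
        ring }
  have hcramer : ∀ (φ : ↥K →ₗ[↥A] M) (x : ↥K),
      ιM (φ x) = B x * (G φ).1 + C x * (G φ).2 := by
    intro φ x
    -- a relation times `t^6` is a combination of `p` and `p'`
    have hu : X ^ 3 * ((x : Fin 3 → ↥A) 1 : PowerSeries k) + X ^ 4 * ((x : Fin 3 → ↥A) 2 : PowerSeries k) ∈ A :=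
      A.add_mem (A.mul_mem (hXA 3 (by omega) (by omega) (by omega)) ((x : Fin 3 → ↥A) 1).2)
        (A.mul_mem (hXA 4 (by omega) (by omega) (by omega)) ((x : Fin 3 → ↥A) 2).2)
    let u : ↥A := ⟨_, hu⟩
    let v : ↥A := -(t3 * (x : Fin 3 → ↥A) 2)
    have h6 : (t3 * t3) • x = u • p + v • p' := hcoord _ _
      (by
        refine Subtype.ext ?_
        simp only [SetLike.val_smul, Pi.smul_apply, Submodule.coe_add, Pi.add_apply, smul_eq_mul,
          hp1, hp'1, MulMemClass.coe_mul, AddMemClass.coe_add, u, v, t3, t4, NegMemClass.coe_neg]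
        ring)
      (by
        refine Subtype.ext ?_
        simp only [SetLike.val_smul, Pi.smul_apply, Submodule.coe_add, Pi.add_apply, smul_eq_mul,
          hp2, hp'2, MulMemClass.coe_mul, AddMemClass.coe_add, ZeroMemClass.coe_zero, u, v, t3,
          NegMemClass.coe_neg, mul_zero, zero_add]
        ring)
    have h7 := congrArg (fun z => ιM (φ z)) h6
    simp only [map_add] at h7
    rw [map_smul, map_smul, map_smul, map_smul, map_smul, map_smul] at h7
    simp only [Subalgebra.smul_def, smul_eq_mul, MulMemClass.coe_mul, NegMemClass.coe_neg, u, v, t3,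
      hB x, hC x] at h7
    refine mul_left_cancel₀ (mul_ne_zero htn htn) ?_
    change _ = X ^ 3 * X ^ 3 * (B x * ιM (φ p) + C x * (X * ιM (φ p) - ιM (φ p')))
    rw [h7]
    ring
  have hGinj : Function.Injective G := fun φ ψ h => LinearMap.ext fun x => hι.1 (by
    rw [hcramer, hcramer, h])
  have hGsurj : Function.Surjective G := fun gh => by
    have hmem : ∀ (x y : ↥K), B (x + y) = B x + B y ∧ C (x + y) = C x + C y := fun x y => by
      constructor <;> refine mul_left_cancel₀ htn ?_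
      · rw [← hB, mul_add, ← hB, ← hB]; rfl
      · rw [← hC, mul_add, ← hC, ← hC]; rfl
    have hsmul : ∀ (r : ↥A) (x : ↥K), B (r • x) = (r : PowerSeries k) * B x ∧
        C (r • x) = (r : PowerSeries k) * C x := fun r x => by
      constructor <;> refine mul_left_cancel₀ htn ?_
      · rw [← hB, mul_left_comm, ← hB]; rfl
      · rw [← hC, mul_left_comm, ← hC]; rfl
    let ψ : ↥K →ₗ[↥A] PowerSeries k :=
      { toFun := fun x => B x * gh.1 + C x * gh.2
        map_add' := fun x y => by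
          rw [(hmem x y).1, (hmem x y).2]
          ring
        map_smul' := fun r x => by
          rw [(hsmul r x).1, (hsmul r x).2, RingHom.id_apply, Subalgebra.smul_def, smul_eq_mul]
          ring }
    have hBp : B p = 1 ∧ C p = 0 := by
      constructor <;> refine mul_left_cancel₀ htn ?_
      · rw [← hB, hp1, mul_one]
      · rw [← hC, hp2, mul_zero]; rfl
    have hBp' : B p' = X ∧ C p' = -1 := by
      constructor <;> refine mul_left_cancel₀ htn ?_
      · rw [← hB, hp'1, ← pow_succ]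
      · rw [← hC, hp'2, mul_neg, mul_one]; rfl
    refine ⟨e.symm.toLinearMap.comp ψ, ?_⟩
    have hψ : ∀ x, ιM (e.symm (ψ x)) = ψ x := fun x => e.apply_symm_apply _
    refine Prod.ext ?_ ?_
    · change ιM (e.symm (ψ p)) = gh.1
      rw [hψ]
      change B p * gh.1 + C p * gh.2 = gh.1
      rw [hBp.1, hBp.2]; ring
    · change X * ιM (e.symm (ψ p)) - ιM (e.symm (ψ p')) = gh.2
      rw [hψ, hψ]
      change X * (B p * gh.1 + C p * gh.2) - (B p' * gh.1 + C p' * gh.2) = gh.2
      rw [hBp.1, hBp.2, hBp'.1, hBp'.2]; ring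
  let W₀ : Submodule ↥A (PowerSeries k) := mon hA {n | 3 ≤ n} (fun a _ b hb => by
    simp only [Set.mem_setOf_eq] at hb ⊢; omega)
  let e₁ : (↥K →ₗ[↥A] M) ≃ₗ[↥A] PowerSeries k × PowerSeries k := LinearEquiv.ofBijective G ⟨hGinj, hGsurj⟩
  have himage : (LinearMap.range (LinearMap.lcomp ↥A M K.subtype)).map e₁.toLinearMap = W₀.prod W₀ := by
    ext gh
    constructor
    · rintro ⟨_, ⟨v, rfl⟩, rfl⟩
      have hv : ∀ x : Fin 3 → ↥A, ιM (v x) =
          ∑ j, (x j : PowerSeries k) * ιM (v (Pi.single j 1)) := fun x => by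
        conv_lhs => rw [← Finset.univ_sum_single x]
        rw [map_sum, map_sum]
        refine Finset.sum_congr rfl fun j _ => ?_
        rw [show Pi.single j (x j) = x j • (Pi.single j 1 : Fin 3 → ↥A) by
          rw [← Pi.single_smul, smul_eq_mul, mul_one], map_smul, map_smul, Subalgebra.smul_def, smul_eq_mul]
      have hx0 : ∀ x : ↥K, ((x : Fin 3 → ↥A) 0 : PowerSeries k) =
          -(((x : Fin 3 → ↥A) 1 : PowerSeries k) * X + ((x : Fin 3 → ↥A) 2 : PowerSeries k) * X ^ 2) := fun x => by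
        have h0 : q x = 0 := x.2
        rw [hq] at h0
        linear_combination h0
      have hb : ∀ x : ↥K, ∃ w, ιM (v (x : Fin 3 → ↥A)) = X ^ 3 * w := fun x => by
        refine ⟨-(B x * X + C x * X ^ 2) * ιM (v (Pi.single 0 1)) + B x * ιM (v (Pi.single 1 1)) +
          C x * ιM (v (Pi.single 2 1)), ?_⟩
        rw [hv, Fin.sum_univ_three, hx0, hB x, hC x]
        ring
      have hs : ∀ w, Supp {n | 3 ≤ n} ((X : PowerSeries k) ^ 3 * w) := fun w n hn => by
        by_contra h
        exact hn (by rw [PowerSeries.coeff_X_pow_mul', if_neg (show ¬ 3 ≤ n from h)])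
      obtain ⟨w, hw⟩ := hb p
      obtain ⟨w', hw'⟩ := hb p'
      refine ⟨?_, ?_⟩
      · change Supp _ (ιM (v (p : Fin 3 → ↥A)))
        rw [hw]; exact hs w
      · change Supp _ (X * ιM (v (p : Fin 3 → ↥A)) - ιM (v (p' : Fin 3 → ↥A)))
        rw [hw, hw', mul_left_comm, ← mul_sub]; exact hs _
    · rintro ⟨h1, h2⟩
      obtain ⟨w1, hw1⟩ : (X : PowerSeries k) ^ 3 ∣ gh.1 := PowerSeries.X_pow_dvd_iff.2 fun m hm => by
        by_contra hne; exact absurd (h1 m hne) (not_le.2 hm)
      obtain ⟨w2, hw2⟩ : (X : PowerSeries k) ^ 3 ∣ gh.2 := PowerSeries.X_pow_dvd_iff.2 fun m hm => by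
        by_contra hne; exact absurd (h2 m hne) (not_le.2 hm)
      let v : (Fin 3 → ↥A) →ₗ[↥A] M :=
        (LinearMap.toSpanSingleton ↥A M (e.symm w1)).comp (LinearMap.proj 1) +
        (LinearMap.toSpanSingleton ↥A M (e.symm w2)).comp (LinearMap.proj 2)
      refine ⟨_, ⟨v, rfl⟩, ?_⟩
      change G _ = gh
      have hψ : ∀ w, ιM (e.symm w) = w := fun w => e.apply_symm_apply w
      refine Prod.ext ?_ ?_
      · change ιM (v (p : Fin 3 → ↥A)) = gh.1
        simp only [v, LinearMap.add_apply, LinearMap.comp_apply, LinearMap.proj_apply,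
          LinearMap.toSpanSingleton_apply, hp1, hp2, zero_smul, add_zero]
        rw [map_smul, hψ, Subalgebra.smul_def, smul_eq_mul, hw1]
      · change X * ιM (v (p : Fin 3 → ↥A)) - ιM (v (p' : Fin 3 → ↥A)) = gh.2
        simp only [v, LinearMap.add_apply, LinearMap.comp_apply, LinearMap.proj_apply,
          LinearMap.toSpanSingleton_apply, hp1, hp2, hp'1, hp'2, zero_smul, add_zero]
        rw [map_add, map_smul, map_smul, map_smul, hψ, hψ, Subalgebra.smul_def, Subalgebra.smul_def,
          Subalgebra.smul_def, smul_eq_mul, smul_eq_mul, smul_eq_mul, hw2]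
        simp only [t3, t4, NegMemClass.coe_neg]
        ring
  haveI := Groth.Curves2.ValueDual.isLocalRing A hfin
  exact length_prod_quot (Groth.Curves2.ValueDual.residue_surjective A hfin) e₁ _ W₀ (fun _ => Iff.rfl) himage

end Helpers


/-- Let k be an algebraically closed field of characteristic zero and A ⊂ k[[t]] the complete local ring
of the E_6 singularity, i.e. the k-subalgebra of power series all of whose exponents lie in the
semigroup generated by 3 and 4 (A = k[[t³, t⁴]]). Its rank-one torsion-free modules are A, M₁ = A +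
A·t⁵, its dual M₁* = A + A·t, M₂ = A + A·t² and M₃ = A + A·t + A·t² = k[[t]], of index 0, 1, 1, 2,
3. Then Ext¹_A(M, M) has length 2·index(M): length 2 for M₁ and for M₁*, 4 for M₂ and 6 for M₃
(length over A equals k-dimension). As End_A(M₁) = End_A(M₁*) = M₁, End_A(M₂) = M₂, End_A(M₃) = M₃
have colength 1, 1, 2, 3 over A, this is the identity χ₁(M) = dim Ext¹(M, M) − dim(End(M)/A) =
index(M). -/
theorem result (k : Type u) [Field k] [IsAlgClosed k] [CharZero k] (A : Subalgebra k (PowerSeries k)) (hmono : ∀ f : PowerSeries k, f ∈ A ↔ ∀ n : ℕ, PowerSeries.coeff n f ≠ 0 → n ∈ AddSubmonoid.closure ({3, 4} : Set ℕ)) : Module.length ↥A (Abelian.Ext (ModuleCat.of ↥A ↥(Submodule.span ↥A ({1, (PowerSeries.X : PowerSeries k) ^ 5} : Set (PowerSeries k)))) (ModuleCat.of ↥A ↥(Submodule.span ↥A ({1, (PowerSeries.X : PowerSeries k) ^ 5} : Set (PowerSeries k)))) 1) = 2 ∧ Module.length ↥A (Abelian.Ext (ModuleCat.of ↥A ↥(Submodule.span ↥A ({1, (PowerSeries.X : PowerSeries k)} : Set (PowerSeries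 k)))) (ModuleCat.of ↥A ↥(Submodule.span ↥A ({1, (PowerSeries.X : PowerSeries k)} : Set (PowerSeries k)))) 1) = 2 ∧ Module.length ↥A (Abelian.Ext (ModuleCat.of ↥A ↥(Submodule.span ↥A ({1, (PowerSeries.X : PowerSeries k) ^ 2} : Set (PowerSeries k)))) (ModuleCat.of ↥A ↥(Submodule.span ↥A ({1, (PowerSeries.X : PowerSeries k) ^ 2} : Set (PowerSeries k)))) 1) = 4 ∧ Module.length ↥A (Abelian.Ext (ModuleCat.of ↥A ↥(Submodule.span ↥A ({1, (PowerSeries.X : PowerSeries k), (PowerSeries.X : PowerSeries k) ^ 2} : Set (PowerSeries k)))) (ModuleCat.of ↥A ↥(Submodule.span ↥A ({1, (PowerSeries.X : PowerSeries k), (PowerSeries.X : PowerSeries k) ^ 2} : Set (PowerSeries k)))) 1) = 6 := by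
  classical
  have hΓ : ∀ n, n ∈ AddSubmonoid.closure ({3, 4} : Set ℕ) ↔ (n ≠ 1 ∧ n ≠ 2 ∧ n ≠ 5) := by
    intro n
    constructor
    · intro hn
      induction hn using AddSubmonoid.closure_induction with
      | mem x hx => rcases hx with rfl | hx <;> [skip; rw [Set.mem_singleton_iff.1 hx]] <;> omega
      | zero => omega
      | add x y _ _ hx hy => omega
    · intro hn
      obtain ⟨a, b, rfl⟩ : ∃ a b, n = 3 * a + 4 * b := by
        rcases Nat.lt_or_ge n 6 with h | h
        · interval_cases n <;> first | omega | exact ⟨0, 0, rfl⟩ | exact ⟨1, 0, rfl⟩ | exact ⟨0, 1, rfl⟩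
        · exact ⟨(n - 4 * (n % 3)) / 3, n % 3, by omega⟩
      have h3 := AddSubmonoid.nsmul_mem (AddSubmonoid.closure ({3, 4} : Set ℕ))
        (AddSubmonoid.subset_closure (Set.mem_insert 3 _)) a
      have h4 := AddSubmonoid.nsmul_mem (AddSubmonoid.closure ({3, 4} : Set ℕ))
        (AddSubmonoid.subset_closure (Set.mem_insert_of_mem 3 (Set.mem_singleton 4))) b
      have := add_mem h3 h4
      rwa [smul_eq_mul, smul_eq_mul, mul_comm a, mul_comm b] at this
  let Γ : Set ℕ := {n | n ≠ 1 ∧ n ≠ 2 ∧ n ≠ 5}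
  have hA : ∀ f, f ∈ A ↔ Supp Γ f := fun f => (hmono f).trans (forall₂_congr fun n _ => hΓ n)
  have hfin := finite_top hA (fun n h1 h2 => ⟨by omega, by omega, h2⟩)
    (⟨by omega, by omega, by omega⟩ : (0 : ℕ) ∈ Γ)
  refine ⟨?_, ?_, ?_, ?_⟩
  · exact length_ext_self hA hfin 5 3 (by simp [Γ]) (by simp [Γ]) {n | n ≠ 1 ∧ n ≠ 2}
      (fun n => by simp [Γ]; omega) (fun a ha b hb => by simp [Γ] at *; omega)
      {n | 3 ≤ n} {n | 3 ≤ n ∧ n ≠ 4 ∧ n ≠ 5}
      (fun u => by
        simp only [Γ, Set.mem_setOf_eq]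
        refine ⟨fun hu b hb hb' => by omega, fun h => ?_⟩
        have h1 := h 3 (by omega) (by omega)
        have h2 := h 4 (by omega) (by omega)
        omega)
      (fun u => by simp; omega) (fun a ha b hb => by simp [Γ] at *; omega)
      (fun a ha b hb => by simp [Γ] at *; omega) (fun n hn => by simp at *; omega)
      {4, 5} (fun n => by simp; omega)
  · have h := length_ext_self hA hfin 1 3 (by simp [Γ]) (by simp [Γ]) {n | n ≠ 2}
      (fun n => by simp [Γ]; omega) (fun a ha b hb => by simp [Γ] at *; omega)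
      {n | n ≠ 2} {n | 3 ≤ n}
      (fun u => by
        simp only [Γ, Set.mem_setOf_eq]
        refine ⟨fun hu b hb hb' => by omega, fun h => ?_⟩
        have h1 := h 3 (by omega) (by omega)
        omega)
      (fun u => by simp; omega) (fun a ha b hb => by simp [Γ] at *; omega)
      (fun a ha b hb => by simp [Γ] at *; omega) (fun n hn => by simp at *; omega)
      {0, 1} (fun n => by simp; omega)
    rw [pow_one] at h
    exact h
  · exact length_ext_self hA hfin 2 4 (by simp [Γ]) (by simp [Γ]) {n | n ≠ 1}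
      (fun n => by simp [Γ]; omega) (fun a ha b hb => by simp [Γ] at *; omega)
      {n | n ≠ 1} {n | 4 ≤ n ∧ n ≠ 5}
      (fun u => by
        simp only [Γ, Set.mem_setOf_eq]
        refine ⟨fun hu b hb hb' => by omega, fun h => ?_⟩
        have h1 := h 4 (by omega) (by omega)
        omega)
      (fun u => by simp; omega) (fun a ha b hb => by simp [Γ] at *; omega)
      (fun a ha b hb => by simp [Γ] at *; omega) (fun n hn => by simp at *; omega)
      {0, 2, 3, 5} (fun n => by simp; omega)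
  · refine length_ext_top hA (fun n => Iff.rfl) (Submodule.subtype _) ⟨Subtype.val_injective, fun f => ?_⟩
    let c : PowerSeries k := PowerSeries.C (PowerSeries.coeff 1 f)
    let d : PowerSeries k := PowerSeries.C (PowerSeries.coeff 2 f) +
      PowerSeries.C (PowerSeries.coeff 5 f) * PowerSeries.X ^ 3
    have hd : d ∈ A := add_mem (A.algebraMap_mem _)
      (A.mul_mem (A.algebraMap_mem _) ((hA _).2 (supp_X_pow (by simp [Γ]))))
    have hb : f - c * PowerSeries.X - d * PowerSeries.X ^ 2 ∈ A := (hA _).2 fun n hn => by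
      simp only [c, d, map_sub, add_mul, map_add, mul_assoc, ← pow_add, PowerSeries.coeff_C_mul,
        PowerSeries.coeff_X, PowerSeries.coeff_X_pow] at hn
      refine ⟨?_, ?_, ?_⟩ <;> (rintro rfl; simp at hn)
    exact ⟨⟨f, Submodule.mem_span_triple.2 ⟨⟨_, hb⟩, ⟨c, A.algebraMap_mem _⟩, ⟨d, hd⟩,
      by simp [Subalgebra.smul_def]; ring⟩⟩, rfl⟩

end Groth.Agent.S15041
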