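import Groth.Statements.S15047
import Mathlib

set_option autoImplicit false
universe u
open TensorProduct
open Desc

namespace Groth.Agent.S15047

/-- The range of `n ↦ 1 ⊗ n` is the equaliser, for a faithfully flat algebra. -/
theorem mem_range_mk (A A' : Type u) [CommRing A] [CommRing A'] [Algebra A A']
    [Module.FaithfullyFlat A A'] (N : Type u) [AddCommGroup N] [Module A N] (x : A' ⊗[A] N)
    (hx : (1 : A') ⊗ₜ[A] x = LinearMap.lTensor A' (TensorProduct.mk A A' N 1) x) :
    ∃ n, (1 : A') ⊗ₜ[A] n = x := by
  let q := (LinearMap.range (TensorProduct.mk A A' N 1)).mkQ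
  have h1 : (1 : A') ⊗ₜ[A] q x = 0 := by
    have := congrArg (q.lTensor A') hx
    rw [← LinearMap.lTensor_comp_apply] at this
    have hz : q ∘ₗ TensorProduct.mk A A' N 1 = 0 := LinearMap.range_mkQ_comp _
    rw [hz, LinearMap.lTensor_zero] at this
    simpa using this
  have h2 := Module.FaithfullyFlat.tensorProduct_mk_injective (A := A) (B := A') _
    (a₁ := q x) (a₂ := 0) (by simpa using h1)
  exact LinearMap.mem_range.mp ((Submodule.Quotient.mk_eq_zero _).mp h2)

/-- Let A → A' be a faithfully flat homomorphism of commutative rings and M, N any A-modules. An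
A'-linear map f : A' ⊗_A M → A' ⊗_A N whose two base changes to A' ⊗_A A' (along a ↦ a ⊗ 1 and a ↦ 1
⊗ a) coincide is the base change of a unique A-linear map h : M → N. Since (A' ⊗_A A') ⊗_A M is
generated over A' ⊗_A A' by the elements 1 ⊗ m, the agreement of the two base changes is stated on
these generators: for every m, the two images of f (1 ⊗ m) in (A' ⊗_A A') ⊗_A N agree. Equivalently,
the sequence Hom_A(M, N) → Hom_{A'}(A' ⊗ M, A' ⊗ N) ⇉ Hom_{A' ⊗ A'}(A' ⊗ A' ⊗ M, A' ⊗ A' ⊗ N) is an
equalizer diagram. -/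
theorem result (A A' : Type u) [CommRing A] [CommRing A'] [Algebra A A']
    [Module.FaithfullyFlat A A'] (M N : Type u) [AddCommGroup M] [Module A M] [AddCommGroup N] [Module A N]
    (f : A' ⊗[A] M →ₗ[A'] A' ⊗[A] N)
    (hf : ∀ m : M,
      LinearMap.rTensor N (Algebra.TensorProduct.includeLeft : A' →ₐ[A] A' ⊗[A] A').toLinearMap (f (1 ⊗ₜ[A] m)) =
        LinearMap.rTensor N (Algebra.TensorProduct.includeRight : A' →ₐ[A] A' ⊗[A] A').toLinearMap (f (1 ⊗ₜ[A] m))) :
    ∃! h : M →ₗ[A] N, h.baseChange A' = f := by
  have hinj := Module.FaithfullyFlat.tensorProduct_mk_injective (A := A) (B := A') N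
  have hr : ∀ m, ∃ n : N, (1 : A') ⊗ₜ[A] n = f (1 ⊗ₜ[A] m) := by
    intro m
    refine mem_range_mk A A' N _ ?_
    have hm := congrArg (TensorProduct.assoc A A' A' N) (hf m)
    have e1 : ∀ y : A' ⊗[A] N, TensorProduct.assoc A A' A' N
        (LinearMap.rTensor N (Algebra.TensorProduct.includeLeft : A' →ₐ[A] A' ⊗[A] A').toLinearMap y) =
        LinearMap.lTensor A' (TensorProduct.mk A A' N 1) y := by
      intro y; induction y with
      | zero => simp
      | tmul a n => simp
      | add y z hy hz => simp only [map_add, hy, hz]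
    have e2 : ∀ y : A' ⊗[A] N, TensorProduct.assoc A A' A' N
        (LinearMap.rTensor N (Algebra.TensorProduct.includeRight : A' →ₐ[A] A' ⊗[A] A').toLinearMap y) =
        (1 : A') ⊗ₜ[A] y := by
      intro y; induction y with
      | zero => simp
      | tmul a n => simp
      | add y z hy hz => simp only [map_add, hy, hz, tmul_add]
    rw [e1, e2] at hm
    exact hm.symm
  choose h hh using hr
  refine ⟨{ toFun := h, map_add' := ?_, map_smul' := ?_ }, ?_, ?_⟩
  · intro a b
    exact hinj (by simp [tmul_add, hh, map_add])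
  · intro r a
    refine hinj ?_
    simp only [TensorProduct.mk_apply, RingHom.id_apply, hh, tmul_smul]
    exact LinearMap.map_smul_of_tower f r _
  · ext m; simp [hh]
  · intro k hk
    ext m
    refine hinj ?_
    simp only [TensorProduct.mk_apply, LinearMap.coe_mk, AddHom.coe_mk, hh]
    rw [← hk]; simp

end Groth.Agent.S15047
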