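import Groth.Statements.S15049
import Groth.Agent.Misc8.LubinTateDVR

set_option autoImplicit false
universe u
open LubinTate

namespace Groth.Agent.S15049

/-- Let O be a discrete valuation ring with finite residue field of cardinality q, π a uniformizer of O,
and f = πT + T^q ∈ O[[T]]. Then there is a one-dimensional commutative formal group law F(X,Y) over
O for which f is an endomorphism, f(F(X,Y)) = F(f(X), f(Y)); and F is the unique power series in
O[[X,Y]] with zero constant term and linear part X + Y satisfying this identity. (The published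
statement is for the ring of integers of a finite extension of ℚ_p or of 𝔽_q((X)); completeness is
not used and any discrete valuation ring with finite residue field is allowed here.) -/
theorem result (O : Type u) [CommRing O] [IsDomain O] [IsDiscreteValuationRing O]
    [Finite (IsLocalRing.ResidueField O)] (π : O) (hπ : Irreducible π) (f : PowerSeries O)
    (hf : f = π • PowerSeries.X + PowerSeries.X ^ Nat.card (IsLocalRing.ResidueField O)) :
    ∃ F : FormalGroup O, F.IsComm ∧
      PowerSeries.subst F.toPowerSeries f =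
        MvPowerSeries.subst (fun i : Fin 2 => PowerSeries.subst (MvPowerSeries.X i : MvPowerSeries (Fin 2) O) f) F.toPowerSeries ∧
      ∀ G : MvPowerSeries (Fin 2) O, G.constantCoeff = 0 → G.coeff (Finsupp.single 0 1) = 1 →
        G.coeff (Finsupp.single 1 1) = 1 →
        PowerSeries.subst G f =
        MvPowerSeries.subst (fun i : Fin 2 => PowerSeries.subst (MvPowerSeries.X i : MvPowerSeries (Fin 2) O) f) G →
        G = F.toPowerSeries := by
  open Groth.Misc8.LT in
  obtain ⟨F, h0, h1, hE⟩ := exists_O (σ := Fin 2) hπ (fun _ => (1 : O))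
  have hq := Groth.Misc8.LT.two_le_card (O := O)
  have hc3 : ∀ i j : Fin 3, ∀ k, (![(MvPowerSeries.X i : MvPowerSeries (Fin 3) O), MvPowerSeries.X j] k).constantCoeff = 0 :=
    fun i j k => by fin_cases k <;> simp
  have hE3 : ∀ i j : Fin 3, Groth.Misc8.LT.E 1 π (Nat.card (IsLocalRing.ResidueField O))
      (F.subst ![(MvPowerSeries.X i : MvPowerSeries (Fin 3) O), MvPowerSeries.X j]) = 0 := fun i j =>
    Groth.Misc8.LT.comp 1 π hq F hE _ (hc3 i j) (fun k => by fin_cases k <;> exact Groth.Misc8.LT.E_X π hq _)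
  have h03 : ∀ i j : Fin 3, (F.subst ![(MvPowerSeries.X i : MvPowerSeries (Fin 3) O), MvPowerSeries.X j]).constantCoeff = 0 :=
    fun i j => MvPowerSeries.constantCoeff_subst_eq_zero MvPowerSeries.HasSubst.X_X (hc3 i j) h0
  have hl : ∀ k, (![F.subst ![(MvPowerSeries.X 0 : MvPowerSeries (Fin 3) O), MvPowerSeries.X 1], MvPowerSeries.X 2] k).constantCoeff = 0 :=
    fun k => by fin_cases k <;> simp [h03]
  have hr : ∀ k, (![(MvPowerSeries.X 0 : MvPowerSeries (Fin 3) O), F.subst ![MvPowerSeries.X 1, MvPowerSeries.X 2]] k).constantCoeff = 0 :=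
    fun k => by fin_cases k <;> simp [h03]
  have hassoc : F.subst ![F.subst ![(MvPowerSeries.X 0 : MvPowerSeries (Fin 3) O), MvPowerSeries.X 1], MvPowerSeries.X 2] =
      F.subst ![(MvPowerSeries.X 0 : MvPowerSeries (Fin 3) O), F.subst ![MvPowerSeries.X 1, MvPowerSeries.X 2]] := by
    refine Groth.Misc8.LT.unique_O hπ
      (MvPowerSeries.constantCoeff_subst_eq_zero (MvPowerSeries.hasSubst_of_constantCoeff_zero hl) hl h0)
      (MvPowerSeries.constantCoeff_subst_eq_zero (MvPowerSeries.hasSubst_of_constantCoeff_zero hr) hr h0)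
      (fun j => ?_)
      (Groth.Misc8.LT.comp 1 π hq F hE _ hl fun k => by
        fin_cases k
        · exact hE3 0 1
        · exact Groth.Misc8.LT.E_X π hq _)
      (Groth.Misc8.LT.comp 1 π hq F hE _ hr fun k => by
        fin_cases k
        · exact Groth.Misc8.LT.E_X π hq _
        · exact hE3 1 2)
    rw [Groth.Misc8.LT.coeff_single_subst F h0 _ hl, Groth.Misc8.LT.coeff_single_subst F h0 _ hr]
    simp only [Fin.sum_univ_two, h1, one_mul, Matrix.cons_val_zero, Matrix.cons_val_one, Matrix.cons_val_fin_one,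
      Groth.Misc8.LT.coeff_single_subst F h0 _ (hc3 _ _)]
    ring
  let FG : FormalGroup O := ⟨F, h0, h1 0, h1 1, hassoc⟩
  refine ⟨FG, ⟨?_⟩, (Groth.Misc8.LT.E_eq_zero_iff hf h0).mp hE, fun G hG0 hG1 hG2 hG => ?_⟩
  · have hs : ∀ k, (![(MvPowerSeries.X 1 : MvPowerSeries (Fin 2) O), MvPowerSeries.X 0] k).constantCoeff = 0 :=
      fun k => by fin_cases k <;> simp
    refine Groth.Misc8.LT.unique_O hπ h0
      (MvPowerSeries.constantCoeff_subst_eq_zero MvPowerSeries.HasSubst.X_X hs h0) (fun j => ?_) hE
      (Groth.Misc8.LT.comp 1 π hq F hE _ hs (fun k => by fin_cases k <;> exact Groth.Misc8.LT.E_X π hq _))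
    show MvPowerSeries.coeff (Finsupp.single j 1) F = MvPowerSeries.coeff (Finsupp.single j 1) (F.subst _)
    rw [Groth.Misc8.LT.coeff_single_subst F h0 _ hs]
    fin_cases j <;> simp [h1, Fin.sum_univ_two, MvPowerSeries.coeff_index_single_X]
  · refine Groth.Misc8.LT.unique_O hπ hG0 h0 (fun j => ?_) ((Groth.Misc8.LT.E_eq_zero_iff hf hG0).mpr hG) hE
    fin_cases j
    · exact hG1.trans (h1 0).symm
    · exact hG2.trans (h1 1).symm

end Groth.Agent.S15049
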