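import Groth.Statements.S15051
import Groth.Agent.Misc8.LubinTateDVR

set_option autoImplicit false
universe u
open LubinTate

namespace Groth.Agent.S15051

/-- Let O be a discrete valuation ring with finite residue field of cardinality q, π a uniformizer of O,
and f = πT + T^q ∈ O[[T]]; let F be a one-dimensional formal group law over O for which f is an
endomorphism, f(F(X,Y)) = F(f(X), f(Y)), and g ∈ O[[T]] a power series with zero constant term which
commutes with f, g(f(T)) = f(g(T)). Then g is an endomorphism of F, that is g(F(X,Y)) = F(g(X),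
g(Y)); so α ↦ [α] maps O into the endomorphisms of the Lubin–Tate formal group. (The published
statement is for the ring of integers of a finite extension of ℚ_p or of 𝔽_q((X)); completeness is
not used and any discrete valuation ring with finite residue field is allowed here.) -/
theorem result (O : Type u) [CommRing O] [IsDomain O] [IsDiscreteValuationRing O]
    [Finite (IsLocalRing.ResidueField O)] (π : O) (hπ : Irreducible π) (f : PowerSeries O)
    (hf : f = π • PowerSeries.X + PowerSeries.X ^ Nat.card (IsLocalRing.ResidueField O))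
    (F : FormalGroup O)
    (hF : PowerSeries.subst F.toPowerSeries f =
        MvPowerSeries.subst (fun i : Fin 2 => PowerSeries.subst (MvPowerSeries.X i : MvPowerSeries (Fin 2) O) f) F.toPowerSeries)
    (g : PowerSeries O) (hg0 : g.constantCoeff = 0)
    (hgf : PowerSeries.subst g f = PowerSeries.subst f g) :
    PowerSeries.subst F.toPowerSeries g =
      MvPowerSeries.subst (fun i : Fin 2 => PowerSeries.subst (MvPowerSeries.X i : MvPowerSeries (Fin 2) O) g)
        F.toPowerSeries := by
  open Groth.Misc8.LT in
  have hF' := (E_eq_zero_iff hf F.zero_constantCoeff).mpr hF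
  open Groth.Misc8.LT in
  have hg' := (E_eq_zero_iff_unit hf hg0).mpr hgf
  have hgi : ∀ i : Fin 2, (PowerSeries.subst (MvPowerSeries.X i : MvPowerSeries (Fin 2) O) g).constantCoeff = 0 :=
    fun i => MvPowerSeries.constantCoeff_subst_eq_zero
      (MvPowerSeries.hasSubst_of_constantCoeff_zero fun _ => MvPowerSeries.constantCoeff_X i)
      (fun _ => MvPowerSeries.constantCoeff_X i) hg0
  have hq := Groth.Misc8.LT.two_le_card (O := O)
  refine Groth.Misc8.LT.unique_O hπ ?_ ?_ (fun j => ?_)
    (Groth.Misc8.LT.comp 1 π hq (σ := Unit) g hg' _ (fun _ => F.zero_constantCoeff) (fun _ => hF'))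
    (Groth.Misc8.LT.comp 1 π hq _ hF' _ hgi fun i =>
      Groth.Misc8.LT.comp 1 π hq (σ := Unit) g hg' _ (fun _ => MvPowerSeries.constantCoeff_X i)
        (fun _ => Groth.Misc8.LT.E_X π hq i))
  · exact MvPowerSeries.constantCoeff_subst_eq_zero
      (MvPowerSeries.hasSubst_of_constantCoeff_zero fun _ => F.zero_constantCoeff) (fun _ => F.zero_constantCoeff) hg0
  · exact MvPowerSeries.constantCoeff_subst_eq_zero
      (MvPowerSeries.hasSubst_of_constantCoeff_zero hgi) hgi F.zero_constantCoeff
  · rw [PowerSeries.subst_def, Groth.Misc8.LT.coeff_single_subst (σ := Unit) g hg0 _ (fun _ => F.zero_constantCoeff),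
      Groth.Misc8.LT.coeff_single_subst _ F.zero_constantCoeff _ hgi, Fin.sum_univ_two, F.lin_coeff_X, F.lin_coeff_Y]
    simp only [PowerSeries.subst_def,
      Groth.Misc8.LT.coeff_single_subst (σ := Unit) g hg0 _ (fun _ => MvPowerSeries.constantCoeff_X _)]
    fin_cases j <;> simp [F.lin_coeff_X, F.lin_coeff_Y, MvPowerSeries.coeff_index_single_X]

end Groth.Agent.S15051
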