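import Groth.Statements.S15052
import Groth.Agent.Misc8.LubinTateDVR

set_option autoImplicit false
universe u
open LubinTate

namespace Groth.Agent.S15052

/-- Let O be a discrete valuation ring with finite residue field of cardinality q, π a uniformizer of O,
and f = πT + T^q ∈ O[[T]]; let K be the fraction field of O and F a one-dimensional formal group law
over O for which f is an endomorphism, f(F(X,Y)) = F(f(X), f(Y)). Then there is a unique power
series ℓ ∈ K[[T]] with zero constant term and linear coefficient 1 such that ℓ(f(T)) = π·ℓ(T); this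
logarithm is a homomorphism to the additive formal group, ℓ(F(T,S)) = ℓ(T) + ℓ(S), and it is
O-linear in the sense that ℓ(g(T)) = α·ℓ(T) for every α ∈ O and every series g ∈ O[[T]] with zero
constant term and linear coefficient α commuting with f. (The published statement is for the ring of
integers of a finite extension of ℚ_p; completeness is not used and any discrete valuation ring with
finite residue field is allowed here.) -/
theorem result (O : Type u) [CommRing O] [IsDomain O] [IsDiscreteValuationRing O]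
    [Finite (IsLocalRing.ResidueField O)] (K : Type u) [Field K] [Algebra O K] [IsFractionRing O K]
    (π : O) (hπ : Irreducible π) (f : PowerSeries O)
    (hf : f = π • PowerSeries.X + PowerSeries.X ^ Nat.card (IsLocalRing.ResidueField O))
    (F : FormalGroup O)
    (hF : PowerSeries.subst F.toPowerSeries f =
        MvPowerSeries.subst (fun i : Fin 2 => PowerSeries.subst (MvPowerSeries.X i : MvPowerSeries (Fin 2) O) f) F.toPowerSeries) :
    ∃ ℓ : PowerSeries K, (ℓ.constantCoeff = 0 ∧ ℓ.coeff 1 = 1 ∧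
      PowerSeries.subst (PowerSeries.map (algebraMap O K) f) ℓ = algebraMap O K π • ℓ) ∧
      (∀ ℓ' : PowerSeries K, ℓ'.constantCoeff = 0 → ℓ'.coeff 1 = 1 →
        PowerSeries.subst (PowerSeries.map (algebraMap O K) f) ℓ' = algebraMap O K π • ℓ' → ℓ' = ℓ) ∧
      PowerSeries.subst ((F.toPowerSeries).map (algebraMap O K)) ℓ =
        PowerSeries.subst (MvPowerSeries.X (0 : Fin 2) : MvPowerSeries (Fin 2) K) ℓ +
          PowerSeries.subst (MvPowerSeries.X (1 : Fin 2) : MvPowerSeries (Fin 2) K) ℓ ∧
      (∀ (α : O) (g : PowerSeries O), g.constantCoeff = 0 → g.coeff 1 = α →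
        PowerSeries.subst g f = PowerSeries.subst f g →
        PowerSeries.subst (PowerSeries.map (algebraMap O K) g) ℓ = algebraMap O K α • ℓ) := by
  have hq := Groth.Misc8.LT.two_le_card (O := O)
  set q := Nat.card (IsLocalRing.ResidueField O) with hqdef
  set h := algebraMap O K with hh
  set πK := h π with hπK
  have hinj : Function.Injective h := IsFractionRing.injective O K
  have hne : ∀ n, 2 ≤ n → πK - πK ^ n ≠ 0 := by
    intro n hn
    rw [hπK, ← map_pow, ← map_sub]
    exact (map_ne_zero_iff _ hinj).mpr (Groth.Misc8.LT.pi_sub_pow_ne_zero hπ n hn)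
  obtain ⟨L, h0, h1, hE⟩ := Groth.Misc8.LT.exists_solution (σ := Unit) (0 : K) πK hq (fun _ => 1)
    fun ψ _ m hm => ⟨-(MvPowerSeries.coeff m (Groth.Misc8.LT.E (0 : K) πK q ψ)) / (πK - πK ^ m.degree),
      by rw [mul_div_cancel₀ _ (hne _ hm), add_neg_cancel]⟩
  have hfK : ∀ u : Unit, ((PowerSeries.map h f : PowerSeries K) : MvPowerSeries Unit K) = Groth.Misc8.LT.fX πK q u := by
    intro u
    have : ((PowerSeries.map h f : PowerSeries K) : MvPowerSeries Unit K) = MvPowerSeries.map h (f : MvPowerSeries Unit O) := rfl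
    rw [this, Groth.Misc8.LT.f_eq hf u]
    simp [Groth.Misc8.LT.fX, hπK, hqdef]
  have hiff : ∀ ℓ : PowerSeries K, Groth.Misc8.LT.E (σ := Unit) (0 : K) πK q ℓ = 0 ↔
      PowerSeries.subst (PowerSeries.map h f) ℓ = πK • ℓ := by
    intro ℓ
    rw [Groth.Misc8.LT.E, map_zero, zero_mul, add_zero, sub_eq_zero, eq_comm, PowerSeries.subst_def,
      show (fun _ : Unit => ((PowerSeries.map h f : PowerSeries K) : MvPowerSeries Unit K)) = Groth.Misc8.LT.fX πK q from
        funext hfK, PowerSeries.smul_eq_C_mul]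
    exact Iff.rfl
  have hF' : Groth.Misc8.LT.E 1 πK q (MvPowerSeries.map h F.toPowerSeries) = 0 := by
    rw [← map_one h, hπK, ← Groth.Misc8.LT.E_map h 1 π hq,
      (Groth.Misc8.LT.E_eq_zero_iff hf F.zero_constantCoeff).mpr hF, map_zero]
  have hF0 : MvPowerSeries.constantCoeff (MvPowerSeries.map h F.toPowerSeries) = 0 := by
    rw [MvPowerSeries.constantCoeff_map, F.zero_constantCoeff, map_zero]
  refine ⟨L, ⟨h0, h1 (), (hiff L).mp hE⟩, ?_, ?_, ?_⟩
  · intro ℓ' h0' h1' hℓ'
    exact Groth.Misc8.LT.unique (σ := Unit) (0 : K) πK hq hne h0' h0 (fun _ => h1'.trans (h1 ()).symm)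
      ((hiff ℓ').mpr hℓ') hE
  · have hX : ∀ i : Fin 2, ∀ _ : Unit, MvPowerSeries.constantCoeff (MvPowerSeries.X i : MvPowerSeries (Fin 2) K) = 0 :=
      fun i _ => MvPowerSeries.constantCoeff_X i
    have hc : ∀ i : Fin 2, Groth.Misc8.LT.E (0 : K) πK q (PowerSeries.subst (MvPowerSeries.X i : MvPowerSeries (Fin 2) K) L) = 0 :=
      fun i => Groth.Misc8.LT.comp 0 πK hq (σ := Unit) L hE _ (hX i) (fun _ => Groth.Misc8.LT.E_X πK hq i)
    have hz : ∀ i : Fin 2, MvPowerSeries.constantCoeff (PowerSeries.subst (MvPowerSeries.X i : MvPowerSeries (Fin 2) K) L) = 0 :=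
      fun i => MvPowerSeries.constantCoeff_subst_eq_zero (MvPowerSeries.hasSubst_of_constantCoeff_zero (hX i)) (hX i) h0
    refine Groth.Misc8.LT.unique (0 : K) πK hq hne ?_ ?_ (fun j => ?_)
      (Groth.Misc8.LT.comp 0 πK hq (σ := Unit) L hE _ (fun _ => hF0) (fun _ => hF')) ?_
    · exact MvPowerSeries.constantCoeff_subst_eq_zero
        (MvPowerSeries.hasSubst_of_constantCoeff_zero fun _ => hF0) (fun _ => hF0) h0
    · rw [map_add, hz, hz, add_zero]
    · rw [map_add]
      simp only [PowerSeries.subst_def, Groth.Misc8.LT.coeff_single_subst (σ := Unit) L h0 _ (fun _ => hF0),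
        Groth.Misc8.LT.coeff_single_subst (σ := Unit) L h0 _ (hX _)]
      fin_cases j <;> simp [h1, F.lin_coeff_X, F.lin_coeff_Y, MvPowerSeries.coeff_index_single_X]
    · rw [Groth.Misc8.LT.E_add πK hq, hc, hc, add_zero]
  · intro α g hg0 hg1 hgf
    have hgE : Groth.Misc8.LT.E (σ := Unit) 1 πK q (MvPowerSeries.map h (g : MvPowerSeries Unit O)) = 0 := by
      rw [← map_one h, hπK, ← Groth.Misc8.LT.E_map h 1 π hq,
        (Groth.Misc8.LT.E_eq_zero_iff_unit hf hg0).mpr hgf, map_zero]
    have hgc : MvPowerSeries.constantCoeff (MvPowerSeries.map h (g : MvPowerSeries Unit O)) = 0 := by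
      rw [MvPowerSeries.constantCoeff_map]
      exact (congrArg h hg0).trans (map_zero h)
    rw [PowerSeries.smul_eq_C_mul]
    refine Groth.Misc8.LT.unique (σ := Unit) (0 : K) πK hq hne ?_ ?_ (fun j => ?_)
      (Groth.Misc8.LT.comp 0 πK hq (σ := Unit) L hE _ (fun _ => hgc) (fun _ => hgE)) ?_
    · exact MvPowerSeries.constantCoeff_subst_eq_zero
        (MvPowerSeries.hasSubst_of_constantCoeff_zero fun _ => hgc) (fun _ => hgc) h0
    · exact ((map_mul _ _ _).trans (by rw [h0, mul_zero]))
    · rw [PowerSeries.subst_def]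
      refine ((Groth.Misc8.LT.coeff_single_subst (σ := Unit) L h0 (fun _ => MvPowerSeries.map h (g : MvPowerSeries Unit O))
        (fun _ => hgc) j).trans ?_).trans (MvPowerSeries.coeff_C_mul _ _ _).symm
      simp only [Finset.univ_unique, Finset.sum_singleton, h1, one_mul, mul_one, MvPowerSeries.coeff_map]
      exact congrArg h hg1
    · exact (Groth.Misc8.LT.E_C_mul (σ := Unit) πK (h α) hq L).trans (by rw [hE, mul_zero])

end Groth.Agent.S15052
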