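import Groth.Statements.S15054
import Groth.Agent.AlgGrp1.Basic

set_option autoImplicit false
set_option linter.style.haveILetI false
universe u
open CategoryTheory CategoryTheory.Limits MonoidalCategory CartesianMonoidalCategory MonObj GrpObj AlgebraicGeometry
open BTGrp

namespace Groth.Agent.S15054

/-- Let ℓ be a prime and G = (G_ν)_ν an ℓ-divisible (Barsotti–Tate) group of height h over a scheme S,
given as the system of its finite locally free layers G_ν of order ℓ^{νh} with inclusions G_ν →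
G_{ν+1} exhibiting G_ν as the ℓ^ν-torsion of G_{ν+1} and projections G_{ν+1} → G_ν (multiplication
by ℓ). Let i_t : G_1 → G_{t+1} denote the iterated inclusions, pinned by i_0 = id and i_{t+1} = i_t
followed by G_{t+1} → G_{t+2}. Then for every t, i_t identifies G_1 with the kernel of
multiplication by ℓ on G_{t+1}: the ℓ-torsion of every layer is the first layer. (The published
statement identifies G_v with the ℓ^v-torsion of G_{v+t} for all v; this row is its case v = 1. The
published base is the spectrum of a Noetherian ring; the argument is formal and any base scheme is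
allowed here.) -/
theorem result {S : Scheme.{u}} (ℓ h : ℕ) [Fact ℓ.Prime] (G : BTGrp.ProBT ℓ S h)
    (i : (t : ℕ) → (G.G 1 ⟶ G.G (t + 1))) (hi0 : i 0 = 𝟙 (G.G 1))
    (hi : ∀ t : ℕ, i (t + 1) = i t ≫ G.incl (t + 1)) (t : ℕ) :
    AlgGrp.IsKernel (i t) ((𝟙 (G.G (t + 1))) ^ ℓ) := by
  have hpow : ∀ (n : ℕ) (ν : ℕ) (T : Over S) (x : T ⟶ G.G ν), x ≫ (𝟙 (G.G ν)) ^ n = x ^ n := fun n ν T x => by
    rw [MonObj.comp_pow, Category.comp_id]
  have hincl : ∀ (n ν : ℕ) (T : Over S) (x : T ⟶ G.G ν), (x ≫ G.incl ν) ^ n = (x ^ n) ≫ G.incl ν :=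
    fun n ν T x => (MonObj.pow_comp x n (G.incl ν)).symm
  have hone : ∀ (ν : ℕ) (T : Over S), (1 : T ⟶ G.G ν) ≫ G.incl ν = 1 := fun ν T => MonObj.one_comp _
  induction t with
  | zero =>
    rw [hi0]
    refine Groth.AlgGrp1.IsKernel.mk' inferInstance fun T x => ⟨fun _ => ?_, fun _ => ⟨x, Category.comp_id x⟩⟩
    rw [hpow]
    have h2 := (G.isKernel 1)
    haveI := Groth.AlgGrp1.IsKernel.mono h2
    rw [← cancel_mono (G.incl 1), hone, ← hincl, ← hpow]
    have := (Groth.AlgGrp1.IsKernel.exists_iff h2 (x ≫ G.incl 1)).1 ⟨x, rfl⟩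
    rwa [pow_one] at this
  | succ t ih =>
    haveI := Groth.AlgGrp1.IsKernel.mono ih
    have h2 := G.isKernel (t + 1)
    haveI := Groth.AlgGrp1.IsKernel.mono h2
    rw [hi]
    refine Groth.AlgGrp1.IsKernel.mk' inferInstance fun T x => ⟨?_, fun hx => ?_⟩
    · rintro ⟨y, rfl⟩
      rw [hpow, ← Category.assoc, hincl, ← hpow, (Groth.AlgGrp1.IsKernel.exists_iff ih _).1 ⟨y, rfl⟩, hone]
    · rw [hpow] at hx
      obtain ⟨y, rfl⟩ := Groth.AlgGrp1.IsKernel.exists_lift h2 x (by
        rw [hpow, pow_succ', pow_mul, hx, one_pow])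
      rw [hincl, ← hone (t + 1) T, cancel_mono] at hx
      obtain ⟨z, rfl⟩ := Groth.AlgGrp1.IsKernel.exists_lift ih y (by rw [hpow]; exact hx)
      exact ⟨z, (Category.assoc _ _ _).symm⟩

end Groth.Agent.S15054
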