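import Groth.Statements.S15055
import Groth.Agent.S15054
import Groth.Agent.AlgGrp1.Basic
import Groth.Agent.Calg4.MonoFactor.Over
import Groth.Agent.FlatMor2.FlatComp
import Groth.Agent.BTExact.FinrankComp

set_option autoImplicit false
universe u
open CategoryTheory CategoryTheory.Limits MonoidalCategory CartesianMonoidalCategory MonObj GrpObj AlgebraicGeometry
open BTGrp

namespace Groth.Agent.S15055

open CategoryTheory.Limits MonoidalCategory CartesianMonoidalCategory MonObj GrpObj

/-- A flat kernel makes a homomorphism a torsor under it. -/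
theorem isPullback_kernel_translate {S : Scheme.{u}} {G H K : Over S} [GrpObj G] [GrpObj H]
    (p : G ⟶ H) [IsMonHom p] (k : K ⟶ G) (hk : AlgGrp.IsKernel k p) :
    IsPullback (fst G K) ((G ◁ k) ≫ μ[G]) p p := by
  have hm : Mono k := Groth.AlgGrp1.IsKernel.mono hk
  have hkone : k ≫ p = 1 := by
    have := (Groth.AlgGrp1.IsKernel.exists_iff hk k).1 ⟨𝟙 K, Category.id_comp k⟩
    exact this
  have hμ : (G ◁ k) ≫ μ[G] = fst G K * (snd G K ≫ k) := by
    rw [Hom.mul_def]; congr 1
  have w : fst G K ≫ p = ((G ◁ k) ≫ μ[G]) ≫ p := by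
    rw [hμ, MonObj.mul_comp, Category.assoc, hkone, MonObj.comp_one, _root_.mul_one]
  have hl : ∀ s : PullbackCone p p, ∃ l : s.pt ⟶ K, l ≫ k = s.fst⁻¹ * s.snd := fun s =>
    Groth.AlgGrp1.IsKernel.exists_lift hk _ (by
      rw [MonObj.mul_comp, GrpObj.inv_comp, s.condition, inv_mul_cancel])
  choose l hl using hl
  refine ⟨⟨w⟩, ⟨PullbackCone.IsLimit.mk w (fun s => lift s.fst (l s)) (fun s => by simp) ?_ ?_⟩⟩
  · intro s
    rw [hμ, MonObj.comp_mul]
    simp [hl]
  · intro s m h₁ h₂
    apply CartesianMonoidalCategory.hom_ext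
    · simpa using h₁
    · rw [lift_snd, ← cancel_mono k, hl, ← h₂, hμ, MonObj.comp_mul, h₁]
      simp

/-- Let R be a Noetherian ring, ℓ a prime and G = (G_ν)_ν an ℓ-divisible (Barsotti–Tate) group of height
h over Spec R, given as the system of its finite locally free layers G_ν of order ℓ^{νh} with
inclusions exhibiting G_ν as the ℓ^ν-torsion of G_{ν+1} and projections j_t : G_{t+1} → G_t through
which multiplication by ℓ on G_{t+1} factors. Let i_t : G_1 → G_{t+1} be the iterated inclusions
(i_0 = id, i_{t+1} = i_t followed by G_{t+1} → G_{t+2}). Then for every t the sequence 1 → G_1 →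
G_{t+1} → G_t → 1 is exact: i_t is the kernel of j_t, and j_t is finite locally free of degree ℓ^h
and surjective; in particular multiplication by ℓ is an epimorphism of fppf sheaves on the
ℓ-divisible group, with kernel of order ℓ^h. (The published statement treats the sequence 0 → G_v →
G_{v+t} → G_t → 0 for every v; this row is its case v = 1, combined with the consequence, stated
separately in the text, that multiplication by ℓ on the ℓ-divisible group is finite locally free of
degree ℓ^h and surjective.) -/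
theorem result (R : Type u) [CommRing R] [IsNoetherianRing R] (ℓ h : ℕ)
    [Fact ℓ.Prime] (G : BTGrp.ProBT ℓ (Spec (CommRingCat.of R)) h)
    (i : (t : ℕ) → (G.G 1 ⟶ G.G (t + 1))) (hi0 : i 0 = 𝟙 (G.G 1))
    (hi : ∀ t : ℕ, i (t + 1) = i t ≫ G.incl (t + 1)) (t : ℕ) :
    AlgGrp.IsKernel (i t) (G.proj t) ∧ Mor2.IsFinLocFreeOfDeg (ℓ ^ h) (G.proj t).left ∧
      Surjective (G.proj t).left := by
  have h54 := Groth.Agent.S15054.result ℓ h G i hi0 hi t
  have := Groth.AlgGrp1.IsKernel.mono (G.isKernel t)
  have := Groth.AlgGrp1.IsKernel.mono h54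
  have hmon : ∀ s, IsMonHom (i s) := by
    intro s
    induction s with
    | zero => rw [hi0]; infer_instance
    | succ s ih => rw [hi]; infer_instance
  have hker : AlgGrp.IsKernel (i t) (G.proj t) := by
    refine Groth.AlgGrp1.IsKernel.mk' inferInstance fun T x => ?_
    rw [Groth.AlgGrp1.IsKernel.exists_iff h54 x, ← G.proj_incl t, ← Category.assoc,
      ← cancel_mono (G.incl t) (g := x ≫ G.proj t), MonObj.one_comp]
  refine ⟨hker, ?_⟩
  obtain ⟨⟨hf1, hf2, hf3⟩, hd1⟩ := G.finLocFree 1
  obtain ⟨⟨ha1, ha2, ha3⟩, hda⟩ := G.finLocFree (t + 1)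
  obtain ⟨⟨hb1, hb2, hb3⟩, hdb⟩ := G.finLocFree t
  have hsq := isPullback_kernel_translate (G.proj t) (i t) hker
  obtain ⟨Q, p, j, hpj, hs, hfl, hlfp, hmono, hQ, hsq'⟩ := Groth.Calg4.MonoFactor.exists_over_factor
    (G.proj t) hsq (Groth.Calg4.MonoFactor.fst_left_prop @Flat (G.G (t + 1)) hf2)
  have : Mono j.left := inferInstanceAs (Mono ((Over.forget _).map j))
  have hw : p.left ≫ Q.hom = (G.G (t + 1)).hom := Over.w p
  have hwj : j.left ≫ (G.G t).hom = Q.hom := Over.w j
  have : IsSeparated Q.hom := by rw [← hwj]; infer_instance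
  have : IsFinite (p.left ≫ Q.hom) := by rw [hw]; exact ha1
  have : Flat (p.left ≫ Q.hom) := by rw [hw]; exact ha2
  have hpf : IsFinite p.left := IsFinite.of_comp p.left Q.hom
  have : UniversallyClosed Q.hom := UniversallyClosed.of_comp_surjective p.left Q.hom
  have : IsProper Q.hom := { }
  have : IsProper (j.left ≫ (G.G t).hom) := by rw [hwj]; infer_instance
  have : IsProper j.left := IsProper.of_comp j.left (G.G t).hom
  have : IsClosedImmersion j.left :=
    (IsClosedImmersion.iff_isProper_and_mono _).2 ⟨inferInstance, inferInstance⟩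
  have : IsFinite Q.hom := by rw [← hwj]; infer_instance
  have : Flat Q.hom := Groth.FlatMor2.flat_of_comp_surjective p.left Q.hom
  -- the rank of the quotient map
  have hP : IsPullback (fst (G.G (t + 1)) (G.G 1)).left (((G.G (t + 1)) ◁ i t) ≫ μ[G.G (t + 1)]).left
      p.left p.left := hsq'.map (Over.forget _)
  have hK : IsPullback (snd (G.G (t + 1)) (G.G 1)).left (fst (G.G (t + 1)) (G.G 1)).left (G.G 1).hom
      (G.G (t + 1)).hom := (IsPullback.of_hasPullback (G.G (t + 1)).hom (G.G 1).hom).flip
  have hdp : ∀ q, p.left.finrank q = ℓ ^ h := fun q => by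
    obtain ⟨x, rfl⟩ := p.left.surjective q
    rw [← Scheme.Hom.finrank_of_isPullback _ _ _ _ hP.flip x,
      Scheme.Hom.finrank_of_isPullback _ _ _ _ hK x, hd1, _root_.one_mul]
  have hdQ : ∀ s, Q.hom.finrank s = (G.G t).hom.finrank s := fun s => by
    have h1 := Groth.BTExact.finrank_comp p.left Q.hom (ℓ ^ h) hdp s
    simp only [hw] at h1
    rw [hda, add_mul, _root_.one_mul, pow_add, mul_comm] at h1
    rw [hdb]
    exact (Nat.eq_of_mul_eq_mul_left (pow_pos (Nat.Prime.pos (Fact.out : ℓ.Prime)) h) h1).symm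
  have : Flat (j.left ≫ (G.G t).hom) := by rw [hwj]; infer_instance
  have : IsIso j.left := Groth.BTExact.isIso_of_finrank_eq j.left (G.G t).hom fun s => by
    simp only [hwj]; exact hdQ s
  have hproj : (G.proj t).left = p.left ≫ j.left := by rw [← hpj]; rfl
  rw [hproj]
  exact ⟨⟨⟨inferInstance, inferInstance, inferInstance⟩,
    fun y => by rw [Groth.BTExact.finrank_comp_right_of_isIso, hdp]⟩, inferInstance⟩

end Groth.Agent.S15055
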