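import Groth.Statements.S15056
import Mathlib.FieldTheory.IsAlgClosed.AlgebraicClosure
import Mathlib.RingTheory.LocalRing.MaximalIdeal.Basic
import Mathlib.RingTheory.LocalRing.Basic
import Mathlib.RingTheory.Noetherian.Nilpotent

set_option autoImplicit false
set_option linter.style.haveILetI false
universe u
open scoped TensorProduct
open FrobAlg

namespace Groth.Agent.S15056

/-- Let p be a prime number, R a Noetherian ring of characteristic p and A a finitely generated
commutative Hopf algebra over R (an affine algebraic R-group G = Spec A). The n-fold relative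
Frobenius of G is the trivial homomorphism exactly when a^(p^n) = 0 for every a in the augmentation
ideal; G has finite Frobenius height when this holds for some n. Then G has finite Frobenius height
if and only if A is a finite R-module and, for every algebraically closed field K and every ring
homomorphism R → K, the base change K ⊗_R A is a local ring (G is finite over R with connected
geometric fibres). -/
theorem result (p : ℕ) [Fact p.Prime] (R : Type u) [CommRing R] [CharP R p]
    [IsNoetherianRing R] (A : Type u) [CommRing A] [HopfAlgebra R A] [Algebra.FiniteType R A] :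
    (∃ n : ℕ, ∀ a : A, Bialgebra.counitAlgHom R A a = 0 → a ^ p ^ n = 0) ↔
      (Module.Finite R A ∧ ∀ (K : Type u) [Field K] [IsAlgClosed K] [Algebra R K], IsLocalRing (K ⊗[R] A)) := by
  haveI : IsNoetherianRing A := Algebra.FiniteType.isNoetherianRing R A
  set ε := Bialgebra.counitAlgHom R A with hε
  have hsub : ∀ a : A, ε (a - algebraMap R A (ε a)) = 0 := fun a => by
    rw [map_sub, AlgHom.commutes, Algebra.algebraMap_self, RingHom.id_apply, sub_self]
  constructor
  · rintro ⟨n, hn⟩
    have hint : ∀ a : A, IsIntegral R a := fun a => by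
      have h1 : IsIntegral R (a - algebraMap R A (ε a)) :=
        IsIntegral.of_pow (pow_pos (Fact.out : p.Prime).pos n) (by rw [hn _ (hsub a)]; exact isIntegral_zero)
      have h2 := h1.add (isIntegral_algebraMap (x := ε a))
      rwa [sub_add_cancel] at h2
    haveI : Algebra.IsIntegral R A := ⟨hint⟩
    refine ⟨Algebra.IsIntegral.finite, fun K _ _ _ => ?_⟩
    let e : K ⊗[R] A →ₐ[K] K :=
      Algebra.TensorProduct.lift (AlgHom.id K K) ((Algebra.ofId R K).comp ε) (fun _ _ => Commute.all _ _)
    have hnil : ∀ x : K ⊗[R] A, IsNilpotent (x - algebraMap K _ (e x)) := fun x => by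
      induction x with
      | zero => simp
      | add x y hx hy =>
        rw [map_add, map_add, add_sub_add_comm]
        exact Commute.isNilpotent_add (Commute.all _ _) hx hy
      | tmul c a =>
        refine ⟨p ^ n, ?_⟩
        have he : algebraMap K (K ⊗[R] A) (e (c ⊗ₜ[R] a)) = c ⊗ₜ[R] algebraMap R A (ε a) := by
          rw [Algebra.TensorProduct.lift_tmul, AlgHom.id_apply, Algebra.TensorProduct.algebraMap_apply,
            Algebra.algebraMap_self, RingHom.id_apply, AlgHom.comp_apply, Algebra.ofId_apply,
            Algebra.algebraMap_eq_smul_one (ε a), Algebra.algebraMap_eq_smul_one (ε a), mul_smul_comm, mul_one,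
            TensorProduct.smul_tmul]
        rw [he, ← TensorProduct.tmul_sub, Algebra.TensorProduct.tmul_pow, hn _ (hsub a), TensorProduct.tmul_zero]
    haveI : Nontrivial (K ⊗[R] A) := e.toRingHom.domain_nontrivial
    refine IsLocalRing.of_isUnit_or_isUnit_one_sub_self fun x => ?_
    have key : ∀ y : K ⊗[R] A, e y ≠ 0 → IsUnit y := fun y hy => by
      have h := (hnil y).isUnit_add_right_of_commute ((isUnit_iff_ne_zero.2 hy).map (algebraMap K (K ⊗[R] A))) (Commute.all _ _)
      rwa [sub_add_cancel] at h
    by_cases hx : e x = 0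
    · exact Or.inr (key _ (by rw [map_sub, map_one, hx, sub_zero]; exact one_ne_zero))
    · exact Or.inl (key _ hx)
  · rintro ⟨-, hloc⟩
    have hle : RingHom.ker ε ≤ nilradical A := fun a ha => by
      rw [mem_nilradical, nilpotent_iff_mem_prime]
      intro q hq
      let L := AlgebraicClosure (FractionRing (A ⧸ q))
      let φ : A →ₐ[R] L := IsScalarTower.toAlgHom R A L
      haveI := hloc L
      let e₁ : L ⊗[R] A →ₐ[L] L := Algebra.TensorProduct.lift (AlgHom.id L L) φ (fun _ _ => Commute.all _ _)
      let e₂ : L ⊗[R] A →ₐ[L] L :=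
        Algebra.TensorProduct.lift (AlgHom.id L L) ((Algebra.ofId R L).comp ε) (fun _ _ => Commute.all _ _)
      have hmax : ∀ e : L ⊗[R] A →ₐ[L] L, RingHom.ker e = IsLocalRing.maximalIdeal _ := fun e =>
        IsLocalRing.eq_maximalIdeal (RingHom.ker_isMaximal_of_surjective e.toRingHom
          (fun c => ⟨algebraMap L _ c, e.commutes c⟩))
      have h2 : (1 : L) ⊗ₜ[R] a ∈ RingHom.ker e₂ := by
        rw [RingHom.mem_ker, Algebra.TensorProduct.lift_tmul, AlgHom.comp_apply, RingHom.mem_ker.1 ha, map_zero,
          mul_zero]
      rw [hmax, ← hmax e₁, RingHom.mem_ker, Algebra.TensorProduct.lift_tmul, map_one, one_mul] at h2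
      have h3 : algebraMap (A ⧸ q) L (Ideal.Quotient.mk q a) = 0 := by
        rw [← Ideal.Quotient.algebraMap_eq, ← IsScalarTower.algebraMap_apply]
        exact h2
      have hinj : Function.Injective (algebraMap (A ⧸ q) L) := by
        rw [IsScalarTower.algebraMap_eq (A ⧸ q) (FractionRing (A ⧸ q)) L, RingHom.coe_comp]
        exact (RingHom.injective _).comp (IsFractionRing.injective (A ⧸ q) (FractionRing (A ⧸ q)))
      exact Ideal.Quotient.eq_zero_iff_mem.1 (hinj (h3.trans (map_zero _).symm))
    obtain ⟨N, hN⟩ := IsNoetherianRing.isNilpotent_nilradical A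
    refine ⟨N, fun a ha => ?_⟩
    have h1 : a ^ N ∈ (nilradical A) ^ N := Ideal.pow_mem_pow (hle (RingHom.mem_ker.2 ha)) N
    rw [hN] at h1
    exact pow_eq_zero_of_le (Nat.lt_pow_self (Fact.out : p.Prime).one_lt).le (by simpa using h1)

end Groth.Agent.S15056
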