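import Groth.Statements.S1506
import Groth.Agent.PCohHom.FppfSource

set_option autoImplicit false
universe u
attribute [local instance] HasDerivedCategory.standard
open FlatMor

namespace Groth.Agent.S1506

open AlgebraicGeometry CategoryTheory Limits in
/-- Let a : X' → X be flat, surjective and locally of finite presentation and f : X → S. Then f is
pseudo-coherent if and only if a ≫ f is. -/
theorem result {X X' S : Scheme.{u}} (f : X ⟶ S) (a : X' ⟶ X) [Flat a] [Surjective a] [LocallyOfFinitePresentation a] :
    MoreMor.IsPseudoCoherentMor f ↔ MoreMor.IsPseudoCoherentMor (a ≫ f) := by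
  rw [← Groth.PCohHom.morPC_iff, ← Groth.PCohHom.morPC_iff]
  exact ⟨fun h => Groth.PCohHom.morPC_comp (Groth.PCohHom.morPC_of_flat_lfp a) h, Groth.PCohHom.morPC_of_fppf a f⟩

end Groth.Agent.S1506
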