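import Groth.Statements.S15061
import Groth.Agent.PropsBasic.HopfConnected

set_option autoImplicit false
set_option linter.style.haveILetI false
universe u
open scoped TensorProduct
open Hopf

namespace Groth.Agent.S15061

/-- Let R be a henselian Noetherian local ring and A a commutative Hopf algebra over R which is finite
and flat as an R-module (a finite flat R-group G = Spec A, not assumed commutative); let e ∈ A be an
idempotent with ε(e) = 1 such that A/(1 − e) is a local ring, so that G⁰ = Spec A/(1 − e) is the
connected component of the unit section, and let B ⊆ A be the subalgebra of functions invariant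
under right translation by G⁰: the equaliser of a ↦ (id ⊗ π)(Δ a) and a ↦ a ⊗ 1 into A ⊗_R A/(1 −
e). Then B is a sub-Hopf-algebra of A (comultiplication and antipode preserve it), B is finite étale
over R, A is faithfully flat over B, and the ideal of A generated by the elements of B killed by the
counit is exactly (1 − e). In other words G^ét := Spec B is a finite étale R-group, G → G^ét is a
faithfully flat homomorphism, and its kernel is G⁰: the sequence 1 → G⁰ → G → G^ét → 1 is exact. -/
theorem result (R : Type u) [CommRing R] [HenselianLocalRing R] [IsNoetherianRing R]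
    (A : Type u) [CommRing A] [HopfAlgebra R A] [Module.Finite R A] [Module.Flat R A]
    (e : A) (he : IsIdempotentElem e) (hε : Bialgebra.counitAlgHom R A e = 1)
    [IsLocalRing (A ⧸ Ideal.span ({1 - e} : Set A))] :
    SGA3.IsHopfSubalgebra R A
        (AlgHom.equalizer
          ((Algebra.TensorProduct.map (AlgHom.id R A) (Ideal.Quotient.mkₐ R (Ideal.span ({1 - e} : Set A)))).comp
            (Bialgebra.comulAlgHom R A))
          (Algebra.TensorProduct.includeLeft : A →ₐ[R] A ⊗[R] (A ⧸ Ideal.span ({1 - e} : Set A)))) ∧
      Algebra.Etale R ↥(AlgHom.equalizer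
          ((Algebra.TensorProduct.map (AlgHom.id R A) (Ideal.Quotient.mkₐ R (Ideal.span ({1 - e} : Set A)))).comp
            (Bialgebra.comulAlgHom R A))
          (Algebra.TensorProduct.includeLeft : A →ₐ[R] A ⊗[R] (A ⧸ Ideal.span ({1 - e} : Set A)))) ∧
      Module.FaithfullyFlat ↥(AlgHom.equalizer
          ((Algebra.TensorProduct.map (AlgHom.id R A) (Ideal.Quotient.mkₐ R (Ideal.span ({1 - e} : Set A)))).comp
            (Bialgebra.comulAlgHom R A))
          (Algebra.TensorProduct.includeLeft : A →ₐ[R] A ⊗[R] (A ⧸ Ideal.span ({1 - e} : Set A)))) A ∧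
      SGA3.augIdealSpan R A
        (AlgHom.equalizer
          ((Algebra.TensorProduct.map (AlgHom.id R A) (Ideal.Quotient.mkₐ R (Ideal.span ({1 - e} : Set A)))).comp
            (Bialgebra.comulAlgHom R A))
          (Algebra.TensorProduct.includeLeft : A →ₐ[R] A ⊗[R] (A ⧸ Ideal.span ({1 - e} : Set A)))) =
        Ideal.span ({1 - e} : Set A) := by
  haveI : Module.Projective R A := by
    haveI := Module.finitePresentation_of_finite R A
    exact Module.Flat.projective_of_finitePresentation
  haveI : (Ideal.span ({1 - e} : Set A)).IsHopfIdeal R := Groth.HopfConn.isHopfIdeal e he hε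
  haveI : Module.Finite R (A ⧸ Ideal.span ({1 - e} : Set A)) :=
    Module.Finite.of_surjective (Ideal.Quotient.mkₐ R _).toLinearMap (Ideal.Quotient.mkₐ_surjective R _)
  haveI : Module.Projective R (A ⧸ Ideal.span ({1 - e} : Set A)) := by
    refine Module.Projective.of_split
      (Submodule.liftQ (Submodule.restrictScalars R (Ideal.span ({1 - e} : Set A))) (LinearMap.mulLeft R e) ?_ ∘ₗ
        (Submodule.Quotient.restrictScalarsEquiv R _).symm.toLinearMap)
      (Ideal.Quotient.mkₐ R _).toLinearMap ?_
    · intro x hx
      obtain ⟨c, rfl⟩ := Ideal.mem_span_singleton'.1 hx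
      show e * (c * (1 - e)) = 0
      have e1 : e * e = e := he
      linear_combination (-c) * e1
    · refine LinearMap.ext fun x => ?_
      obtain ⟨a, rfl⟩ := Ideal.Quotient.mk_surjective x
      show Ideal.Quotient.mk _ (e * a) = Ideal.Quotient.mk _ a
      rw [Ideal.Quotient.eq, Ideal.mem_span_singleton']
      exact ⟨-a, by ring⟩
  let π := Bialgebra.Quotient.mkBialgHom (R := R) (Ideal.span ({1 - e} : Set A))
  have hπ : Function.Surjective π := Ideal.Quotient.mk_surjective
  have hker : RingHom.ker (π : A →ₐ[R] A ⧸ Ideal.span ({1 - e} : Set A)) = Ideal.span {1 - e} :=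
    Ideal.ext fun _ => Ideal.Quotient.eq_zero_iff_mem
  obtain ⟨hfin, hproj⟩ := Groth.HopfGalois.finite_projective_inv π hπ
  haveI := hfin
  haveI := hproj
  haveI : Algebra.FormallyUnramified R (Groth.HopfGalois.inv π) :=
    Groth.HopfConn.formallyUnramified π hπ e he hker
  haveI : Algebra.FinitePresentation R (Groth.HopfGalois.inv π) :=
    Algebra.FinitePresentation.of_finiteType.mp inferInstance
  refine ⟨Groth.HopfConn.isHopfSubalgebra π hπ, Algebra.Etale.of_formallyUnramified_of_flat (R := R)
    (S := Groth.HopfGalois.inv π), Groth.HopfConn.faithfullyFlat π hπ, le_antisymm ?_ ?_⟩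
  · exact (Groth.HopfConn.aug_ge π).trans hker.le
  · exact hker.ge.trans (Groth.HopfConn.aug_le π hπ)

end Groth.Agent.S15061
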