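import Groth.Statements.S15063
import Groth.Agent.PropsBasic.HopfConnected
import Groth.Agent.Sga3.ConvPoints

set_option autoImplicit false
set_option linter.style.haveILetI false
universe u
open Hopf TensorProduct WithConv

namespace Groth.Agent.S15063

/-- Let R be a henselian Noetherian local ring and A a commutative Hopf algebra over R which is finite
and flat as an R-module (a finite flat R-group G = Spec A, not assumed commutative); let e ∈ A be an
idempotent with ε(e) = 1 such that A/(1 − e) is a local ring, so that Spec A/(1 − e) is the
connected component G⁰ of G containing the unit section. Then G⁰ is normal in G: for every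
commutative R-algebra T, every T-valued point g of G and every T-valued point h of G killing the
ideal (1 − e), the conjugate g·h·g⁻¹ again kills (1 − e). (The published statement is for a flat
affine algebraic R-group and also asserts that G⁰ is an open and closed flat subgroup; this row
states the normality clause for finite flat G.) -/
theorem result (R : Type u) [CommRing R] [HenselianLocalRing R] [IsNoetherianRing R]
    (A : Type u) [CommRing A] [HopfAlgebra R A] [Module.Finite R A] [Module.Flat R A]
    (e : A) (he : IsIdempotentElem e) (hε : Bialgebra.counitAlgHom R A e = 1)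
    [IsLocalRing (A ⧸ Ideal.span ({1 - e} : Set A))] :
    SGA3.IsNormalHopfIdeal R A (Ideal.span ({1 - e} : Set A)) := by
  haveI : (Ideal.span ({1 - e} : Set A)).IsHopfIdeal R := Groth.HopfConn.isHopfIdeal e he hε
  haveI : Module.Finite R (A ⧸ Ideal.span ({1 - e} : Set A)) :=
    Module.Finite.of_surjective (Ideal.Quotient.mkₐ R _).toLinearMap (Ideal.Quotient.mkₐ_surjective R _)
  set I := Ideal.span ({1 - e} : Set A) with hI
  let H := A ⧸ I
  let iA : A →ₐ[R] A ⊗[R] H := Algebra.TensorProduct.includeLeft
  let iH : A →ₐ[R] A ⊗[R] H := Algebra.TensorProduct.includeRight.comp (Ideal.Quotient.mkₐ R I)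
  let c : WithConv (A →ₐ[R] A ⊗[R] H) :=
    toConv iA * toConv iH * toConv (iA.comp (HopfAlgebra.antipodeAlgHom R A))
  -- the universal conjugate fixes `e`
  have hc : c.ofConv e = 1 := by
    refine Groth.HopfConn.idem_eq_of_sub_mem_jacobson (he.map _) IsIdempotentElem.one
      (Groth.HopfConn.ker_ev_le_jacobson (Bialgebra.counitAlgHom R H) ?_)
    let E := Groth.HopfConn.ev (C := A) (Bialgebra.counitAlgHom R H)
    have h1 : toConv (E.comp iA) = toConv (AlgHom.id R A) := by
      apply WithConv.ofConv_injective
      refine AlgHom.ext fun a => ?_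
      simp [E, iA, Groth.HopfConn.ev_tmul]
    have h2 : toConv (E.comp iH) = (1 : WithConv (A →ₐ[R] A)) := by
      apply WithConv.ofConv_injective
      refine AlgHom.ext fun a => ?_
      show E (iH a) = algebraMap R A (Coalgebra.counit (R := R) a)
      simp [E, iH, Groth.HopfConn.ev_tmul]
      exact congrArg _ (CoalgHomClass.counit_comp_apply (Bialgebra.Quotient.mkBialgHom (R := R) I) a)
    have h3 : toConv (E.comp c.ofConv) = (1 : WithConv (A →ₐ[R] A)) := by
      have : toConv (E.comp c.ofConv) = toConv (E.comp iA) * toConv (E.comp iH) * (toConv (E.comp iA))⁻¹ := by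
        simp only [c]
        rw [AlgHom.comp_convMul_distrib, AlgHom.comp_convMul_distrib]
        rfl
      rw [this, h1, h2, mul_one, mul_inv_cancel]
    have h4 := congrArg (fun f : WithConv (A →ₐ[R] A) => f.ofConv e) h3
    change E (c.ofConv e) = algebraMap R A (Coalgebra.counit (R := R) e) at h4
    rw [map_sub, h4, map_one, show Coalgebra.counit (R := R) e = 1 from hε, map_one, sub_self]
  -- specialise
  intro T _ _ g h hh a ha
  have hT : ∀ g h : A →ₐ[R] T, (∀ a ∈ I, h a = 0) →
      (toConv g * toConv h * toConv (g.comp (HopfAlgebra.antipodeAlgHom R A))).ofConv e = 1 := by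
    intro g h hh
    let h0 : H →ₐ[R] T := Ideal.Quotient.liftₐ I h hh
    let P : A ⊗[R] H →ₐ[R] T := Algebra.TensorProduct.lift g h0 fun _ _ => .all _ _
    have e1 : toConv (P.comp iA) = toConv g := by
      apply WithConv.ofConv_injective
      refine AlgHom.ext fun a => ?_
      simp [P, iA]
    have e2 : toConv (P.comp iH) = toConv h := by
      apply WithConv.ofConv_injective
      refine AlgHom.ext fun a => ?_
      show P ((1 : A) ⊗ₜ[R] Ideal.Quotient.mk I a) = h a
      rw [Algebra.TensorProduct.lift_tmul, map_one, one_mul]
      rfl
    have e3 : toConv (P.comp c.ofConv) =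
        toConv g * toConv h * toConv (g.comp (HopfAlgebra.antipodeAlgHom R A)) := by
      simp only [c]
      rw [AlgHom.comp_convMul_distrib, AlgHom.comp_convMul_distrib]
      rw [← e1, ← e2, show g = P.comp iA from (congrArg WithConv.ofConv e1).symm]
      rfl
    rw [← e3]
    show P (c.ofConv e) = 1
    rw [hc, map_one]
  obtain ⟨b, rfl⟩ := Ideal.mem_span_singleton'.1 ha
  rw [map_mul]
  refine mul_eq_zero_of_right _ ?_
  rw [Groth.Sga3.ConvPoints.conv3_eq, map_sub, map_one, sub_eq_zero, eq_comm]
  exact hT g h hh

end Groth.Agent.S15063
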