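import Groth.Statements.S15067
import Mathlib
-- import your own Groth.Agent.* helpers here

set_option autoImplicit false
universe u
open scoped TensorProduct
open Hopf

namespace Groth.Agent.S15067
open WithConv

theorem id_antipode_cancel (R A : Type u) [CommRing R] [CommRing A] [HopfAlgebra R A] :
    toConv (AlgHom.id R A) * toConv (HopfAlgebra.antipodeAlgHom R A) = 1 := by
  apply WithConv.ofConv_injective
  apply AlgHom.toLinearMap_injective
  apply WithConv.toConv_injective
  rw [AlgHom.toLinearMap_convMul, AlgHom.toLinearMap_convOne]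
  simp [LinearMap.id_mul_antipode]

theorem formallyUnramified_of_kernel (R A A'' : Type u) [CommRing R]
    [CommRing A] [HopfAlgebra R A] [CommRing A''] [HopfAlgebra R A'']
    [Algebra A'' A] [IsScalarTower R A'' A] [Module.FaithfullyFlat A'' A]
    (hΔ : (Bialgebra.comulAlgHom R A).comp (IsScalarTower.toAlgHom R A'' A) =
      (Algebra.TensorProduct.map (IsScalarTower.toAlgHom R A'' A) (IsScalarTower.toAlgHom R A'' A)).comp
        (Bialgebra.comulAlgHom R A''))
    (hε : (Bialgebra.counitAlgHom R A).comp (IsScalarTower.toAlgHom R A'' A) = Bialgebra.counitAlgHom R A'')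
    [Algebra.Etale R (A ⧸ (RingHom.ker (Bialgebra.counitAlgHom R A'')).map (algebraMap A'' A))] :
    Algebra.FormallyUnramified A'' A := by
  let J := (RingHom.ker (Bialgebra.counitAlgHom R A'')).map (algebraMap A'' A)
  let T := A ⊗[A''] A
  let φ : A'' →ₐc[R] A := BialgHom.ofAlgHom (IsScalarTower.toAlgHom R A'' A) hε hΔ.symm
  let f : A →ₐ[R] T := (Algebra.TensorProduct.includeLeft : A →ₐ[A''] T).restrictScalars R
  let f' : A →ₐ[R] T := (Algebra.TensorProduct.includeRight : A →ₐ[A''] T).restrictScalars R
  let S := HopfAlgebra.antipodeAlgHom R A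
  let g : WithConv (A →ₐ[R] T) := toConv (f.comp S) * toConv f'
  have hinv : toConv f * toConv (f.comp S) = (1 : WithConv (A →ₐ[R] T)) := by
    have h := AlgHom.comp_convMul_distrib f (toConv (AlgHom.id R A)) (toConv S)
    rw [id_antipode_cancel, ofConv_toConv, ofConv_toConv, AlgHom.comp_id] at h
    refine WithConv.ofConv_injective (h.symm.trans ?_)
    exact AlgHom.ext fun c => f.commutes _
  have hinv' : toConv (f.comp S) * toConv f = (1 : WithConv (A →ₐ[R] T)) := by
    have h := AlgHom.comp_convMul_distrib f (toConv S) (toConv (AlgHom.id R A))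
    rw [AlgHom.antipode_id_cancel, ofConv_toConv, ofConv_toConv, AlgHom.comp_id] at h
    refine WithConv.ofConv_injective (h.symm.trans ?_)
    exact AlgHom.ext fun c => f.commutes _
  have hgφ : ∀ a : A'', g.ofConv (algebraMap A'' A a) = algebraMap R T (Bialgebra.counitAlgHom R A'' a) := by
    intro a
    have h := AlgHom.convMul_comp_bialgHom_distrib (toConv (f.comp S)) (toConv f') φ
    have h' := AlgHom.convMul_comp_bialgHom_distrib (toConv (f.comp S)) (toConv f) φ
    have he : f'.comp (φ : A'' →ₐ[R] A) = f.comp (φ : A'' →ₐ[R] A) :=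
      AlgHom.ext fun b => by
        show (1 : A) ⊗ₜ[A''] algebraMap A'' A b = algebraMap A'' A b ⊗ₜ[A''] (1 : A)
        rw [Algebra.algebraMap_eq_smul_one, TensorProduct.tmul_smul, TensorProduct.smul_tmul']
    rw [ofConv_toConv, ofConv_toConv, he] at h
    rw [ofConv_toConv, ofConv_toConv, ← h] at h'
    have := DFunLike.congr_fun h' a
    rw [hinv'] at this
    refine this.symm.trans ?_
    exact congrArg (algebraMap R T) (DFunLike.congr_fun hε a)
  have hker : ∀ x ∈ J, g.ofConv x = 0 := fun x hx => by
    have hle : J ≤ RingHom.ker g.ofConv := by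
      refine Ideal.map_le_iff_le_comap.mpr fun a ha => ?_
      show g.ofConv (algebraMap A'' A a) = 0
      rw [hgφ, RingHom.mem_ker.mp ha, map_zero]
    exact hle hx
  let gbar : A ⧸ J →ₐ[R] T := Ideal.Quotient.liftₐ J g.ofConv hker
  let Ψ : A ⊗[R] (A ⧸ J) →ₐ[A] T :=
    Algebra.TensorProduct.lift (Algebra.ofId A T) gbar fun _ _ => Commute.all _ _
  have hsurj : ∀ y : A, (1 : A) ⊗ₜ[A''] y ∈ Ψ.range := fun y => by
    let hh : WithConv (A →ₐ[R] A ⊗[R] (A ⧸ J)) :=
      toConv (Algebra.TensorProduct.includeLeft) *
        toConv ((Algebra.TensorProduct.includeRight : A ⧸ J →ₐ[R] A ⊗[R] (A ⧸ J)).comp (Ideal.Quotient.mkₐ R J))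
    have h := AlgHom.comp_convMul_distrib (Ψ.restrictScalars R) (toConv (Algebra.TensorProduct.includeLeft))
      (toConv ((Algebra.TensorProduct.includeRight : A ⧸ J →ₐ[R] A ⊗[R] (A ⧸ J)).comp (Ideal.Quotient.mkₐ R J)))
    have e1 : (Ψ.restrictScalars R).comp Algebra.TensorProduct.includeLeft = f :=
      AlgHom.ext fun a => by simp [Ψ, f, T]
    have e2 : (Ψ.restrictScalars R).comp ((Algebra.TensorProduct.includeRight :
        A ⧸ J →ₐ[R] A ⊗[R] (A ⧸ J)).comp (Ideal.Quotient.mkₐ R J)) = g.ofConv :=
      AlgHom.ext fun a => by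
        show Ψ ((1 : A) ⊗ₜ[R] Ideal.Quotient.mk J a) = g.ofConv a
        show Ψ ((1 : A) ⊗ₜ[R] Ideal.Quotient.mk J a) = g.ofConv a
        rw [Algebra.TensorProduct.lift_tmul, map_one, one_mul]
        exact Ideal.Quotient.lift_mk J _ _
    rw [ofConv_toConv, ofConv_toConv, e1, e2, toConv_ofConv] at h
    have h2 : toConv f * g = toConv f' := by
      show toConv f * (toConv (f.comp S) * toConv f') = toConv f'
      rw [← mul_assoc, hinv, one_mul]
    rw [h2, ofConv_toConv] at h
    exact ⟨hh.ofConv y, DFunLike.congr_fun h y⟩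
  have htop : Function.Surjective Ψ := fun z => by
    show z ∈ Ψ.range
    induction z using TensorProduct.induction_on with
    | zero => exact zero_mem _
    | add x y hx hy => exact add_mem hx hy
    | tmul x y =>
      have e : x ⊗ₜ[A''] y = x • ((1 : A) ⊗ₜ[A''] y) := by
        rw [TensorProduct.smul_tmul', smul_eq_mul, mul_one]
      rw [e]
      exact Ψ.range.smul_mem (hsurj y) x
  haveI : Algebra.FormallyUnramified A T := Algebra.FormallyUnramified.of_surjective Ψ htop
  exact Algebra.FormallyUnramified.of_formallyUnramified_tensorProduct_of_faithfullyFlat A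


/-- Let R be a henselian Noetherian local ring, A and A'' commutative Hopf algebras over R which are
finite and flat as R-modules (finite flat R-groups G = Spec A, G'' = Spec A''), and A'' → A an
R-algebra homomorphism compatible with the comultiplications and counits (a homomorphism π : G →
G'') making A a faithfully flat A''-module (π faithfully flat). Let J ⊆ A be the ideal generated by
the image of the augmentation ideal of A'', so that G' = Spec A/J is the kernel of π and 1 → G' → G
→ G'' → 1 is an exact sequence of finite flat R-groups. Then: (2) if A'' and A/J are local rings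
(G'' and G' connected), A is a local ring (G is connected); (3) if A'' and A/J are étale over R (G''
and G' finite étale), A is étale over R (G is finite étale). -/
theorem result (R : Type u) [CommRing R] [HenselianLocalRing R] [IsNoetherianRing R]
    (A A'' : Type u) [CommRing A] [HopfAlgebra R A] [Module.Finite R A] [Module.Flat R A]
    [CommRing A''] [HopfAlgebra R A''] [Module.Finite R A''] [Module.Flat R A'']
    [Algebra A'' A] [IsScalarTower R A'' A] [Module.FaithfullyFlat A'' A]
    (hΔ : (Bialgebra.comulAlgHom R A).comp (IsScalarTower.toAlgHom R A'' A) =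
      (Algebra.TensorProduct.map (IsScalarTower.toAlgHom R A'' A) (IsScalarTower.toAlgHom R A'' A)).comp
        (Bialgebra.comulAlgHom R A''))
    (hε : (Bialgebra.counitAlgHom R A).comp (IsScalarTower.toAlgHom R A'' A) = Bialgebra.counitAlgHom R A'') :
    ((IsLocalRing A'' ∧
        IsLocalRing (A ⧸ (RingHom.ker (Bialgebra.counitAlgHom R A'')).map (algebraMap A'' A))) → IsLocalRing A) ∧
      ((Algebra.Etale R A'' ∧
        Algebra.Etale R (A ⧸ (RingHom.ker (Bialgebra.counitAlgHom R A'')).map (algebraMap A'' A))) →
        Algebra.Etale R A) := by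
  refine ⟨fun ⟨hA'', hQ⟩ => ?_, fun ⟨hA'', hQ⟩ => ?_⟩
  · haveI := hA''
    haveI := hQ
    let J := (RingHom.ker (Bialgebra.counitAlgHom R A'')).map (algebraMap A'' A)
    haveI : Nontrivial A := (Ideal.Quotient.mk_surjective (I := J)).nontrivial
    haveI : Module.Finite A'' A := Module.Finite.of_restrictScalars_finite R A'' A
    haveI : Algebra.IsIntegral A'' A := Algebra.IsIntegral.of_finite A'' A
    have hle : ∀ M : Ideal A, M.IsMaximal → J ≤ M := fun M hM => by
      haveI := hM
      haveI : (M.comap (algebraMap A'' A)).IsMaximal := Ideal.isMaximal_comap_of_isIntegral_of_isMaximal M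
      refine Ideal.map_le_iff_le_comap.mpr ?_
      rw [IsLocalRing.eq_maximalIdeal (I := M.comap (algebraMap A'' A)) ‹_›]
      exact IsLocalRing.le_maximalIdeal (RingHom.ker_ne_top _)
    refine IsLocalRing.of_unique_max_ideal ?_
    obtain ⟨M, hM⟩ := Ideal.exists_maximal A
    refine ⟨M, hM, fun M' hM' => ?_⟩
    haveI := hM
    haveI := hM'
    have h1 := IsLocalRing.eq_maximalIdeal (Ideal.IsMaximal.map_of_surjective_of_ker_le
      (m := M) (f := Ideal.Quotient.mk J) Ideal.Quotient.mk_surjective (by rw [Ideal.mk_ker]; exact hle M hM))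
    have h2 := IsLocalRing.eq_maximalIdeal (Ideal.IsMaximal.map_of_surjective_of_ker_le
      (m := M') (f := Ideal.Quotient.mk J) Ideal.Quotient.mk_surjective (by rw [Ideal.mk_ker]; exact hle M' hM'))
    have h3 := congrArg (Ideal.comap (Ideal.Quotient.mk J)) (h2.trans h1.symm)
    rw [Ideal.comap_map_of_surjective _ Ideal.Quotient.mk_surjective, Ideal.comap_map_of_surjective _ Ideal.Quotient.mk_surjective,
      ← RingHom.ker_eq_comap_bot, Ideal.mk_ker, sup_eq_left.mpr (hle M hM), sup_eq_left.mpr (hle M' hM')] at h3
    exact h3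
  · haveI := hA''
    haveI := hQ
    haveI := formallyUnramified_of_kernel R A A'' hΔ hε
    haveI : Algebra.FormallyUnramified R A := Algebra.FormallyUnramified.comp R A'' A
    haveI : Algebra.FinitePresentation R A := Algebra.FinitePresentation.of_finiteType.mp inferInstance
    exact Algebra.Etale.of_formallyUnramified_of_flat

end Groth.Agent.S15067
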