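import Groth.Statements.S15068
import Groth.Agent.PropsBasic.HopfConnectedSeq

set_option autoImplicit false
set_option linter.style.haveILetI false
universe u
open scoped TensorProduct
open Hopf

namespace Groth.Agent.S15068

/-- Let R be a henselian Noetherian local ring, A and A'' commutative Hopf algebras over R which are
finite and flat as R-modules, and A'' → A an R-algebra homomorphism compatible with
comultiplications and counits making A faithfully flat over A'' (a faithfully flat homomorphism π :
G → G'' of finite flat R-groups); let J ⊆ A be the ideal generated by the image of the augmentation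
ideal of A'' (G' = Spec A/J = ker π, so 1 → G' → G → G'' → 1 is exact). Assume A'' is a local ring
(G'' connected) and A/J is étale over R (G' finite étale), and let e ∈ A be an idempotent with ε(e)
= 1 such that A/(1 − e) is local (G⁰ = Spec A/(1 − e), the unit component of G). Then the composite
A'' → A → A/(1 − e) is bijective: the restriction G⁰ → G'' of π is an isomorphism, whose inverse
splits the extension, G ≅ G' × G''. -/
theorem result (R : Type u) [CommRing R] [HenselianLocalRing R]
    [IsNoetherianRing R] (A A'' : Type u) [CommRing A] [HopfAlgebra R A] [Module.Finite R A] [Module.Flat R A]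
    [CommRing A''] [HopfAlgebra R A''] [Module.Finite R A''] [Module.Flat R A'']
    [Algebra A'' A] [IsScalarTower R A'' A] [Module.FaithfullyFlat A'' A]
    (hΔ : (Bialgebra.comulAlgHom R A).comp (IsScalarTower.toAlgHom R A'' A) =
      (Algebra.TensorProduct.map (IsScalarTower.toAlgHom R A'' A) (IsScalarTower.toAlgHom R A'' A)).comp
        (Bialgebra.comulAlgHom R A''))
    (hε : (Bialgebra.counitAlgHom R A).comp (IsScalarTower.toAlgHom R A'' A) = Bialgebra.counitAlgHom R A'')
    [IsLocalRing A''] [Algebra.Etale R (A ⧸ (RingHom.ker (Bialgebra.counitAlgHom R A'')).map (algebraMap A'' A))]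
    (e : A) (he : IsIdempotentElem e) (heε : Bialgebra.counitAlgHom R A e = 1)
    [IsLocalRing (A ⧸ Ideal.span ({1 - e} : Set A))] :
    Function.Bijective ((Ideal.Quotient.mkₐ R (Ideal.span ({1 - e} : Set A))).comp (IsScalarTower.toAlgHom R A'' A)) := by
  set J := (RingHom.ker (Bialgebra.counitAlgHom R A'')).map (algebraMap A'' A) with hJdef
  set I := Ideal.span ({1 - e} : Set A) with hIdef
  haveI : Module.Flat A'' (A ⧸ I) := Groth.HopfConn.flat_quot_idem he
  haveI : Module.Finite R (A ⧸ I) :=
    Module.Finite.of_surjective (Ideal.Quotient.mkₐ R I).toLinearMap (Ideal.Quotient.mkₐ_surjective R I)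
  haveI : Module.Finite A'' (A ⧸ I) := Module.Finite.of_restrictScalars_finite R A'' _
  haveI : Module.FaithfullyFlat A'' (A ⧸ I) := Groth.HopfConn.faithfullyFlat_of_local
  have hJε : J ≤ RingHom.ker (Bialgebra.counitAlgHom R A) := by
    rw [hJdef, Ideal.map_le_iff_le_comap]
    intro x hx
    have := DFunLike.congr_fun hε x
    rw [RingHom.mem_ker] at hx
    exact this.trans hx
  have hIε : I ≤ RingHom.ker (Bialgebra.counitAlgHom R A) :=
    Ideal.span_le.2 (by simp [show Coalgebra.counit (R := R) e = 1 from heε])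
  let εC : A ⧸ (J ⊔ I) →ₐ[R] R := Ideal.Quotient.liftₐ _ (Bialgebra.counitAlgHom R A) (sup_le hJε hIε)
  haveI : Nontrivial (A ⧸ (J ⊔ I)) := RingHom.domain_nontrivial εC.toRingHom
  haveI : IsLocalRing (A ⧸ (J ⊔ I)) := IsLocalRing.of_surjective'
    (Ideal.Quotient.factor (le_sup_right : I ≤ J ⊔ I)) (Ideal.Quotient.factor_surjective (le_sup_right : I ≤ J ⊔ I))
  haveI : Algebra.FormallyUnramified R (A ⧸ (J ⊔ I)) :=
    Algebra.FormallyUnramified.of_surjective (Ideal.Quotient.factorₐ R (le_sup_left : J ≤ J ⊔ I))
      (Ideal.Quotient.factor_surjective (le_sup_left : J ≤ J ⊔ I))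
  haveI : Module.Finite R (A ⧸ (J ⊔ I)) :=
    Module.Finite.of_surjective (Ideal.Quotient.mkₐ R _).toLinearMap (Ideal.Quotient.mkₐ_surjective R _)
  have hC := Groth.HopfConn.algebraMap_bijective_of_unramified εC
  set S : Submodule A'' (A ⧸ I) := LinearMap.range (Algebra.linearMap A'' (A ⧸ I))
  have hsup : ⊤ ≤ S ⊔ RingHom.ker (Bialgebra.counitAlgHom R A'') • (⊤ : Submodule A'' (A ⧸ I)) := by
    intro x _
    obtain ⟨a, rfl⟩ := Ideal.Quotient.mk_surjective x
    obtain ⟨r, hr⟩ := hC.2 (Ideal.Quotient.mk (J ⊔ I) a)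
    have h1 : a - algebraMap R A r ∈ J ⊔ I := by
      rw [← Ideal.Quotient.eq, ← hr]
      rfl
    obtain ⟨j, hj, i, hi, hji⟩ := Submodule.mem_sup.1 h1
    have h2 : Ideal.Quotient.mk I a = algebraMap A'' (A ⧸ I) (algebraMap R A'' r) + Ideal.Quotient.mk I j := by
      rw [← IsScalarTower.algebraMap_apply, eq_add_of_sub_eq hji.symm, map_add, map_add,
        Ideal.Quotient.eq_zero_iff_mem.2 hi, add_zero, add_comm]
      rfl
    rw [h2]
    refine Submodule.add_mem_sup ⟨_, rfl⟩ ?_
    rw [Ideal.smul_top_eq_map, Submodule.restrictScalars_mem,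
      IsScalarTower.algebraMap_eq A'' A (A ⧸ I), ← Ideal.map_map]
    exact Ideal.mem_map_of_mem _ hj
  have hS : ⊤ ≤ S := Submodule.le_of_le_smul_of_le_jacobson_bot (Module.Finite.fg_top)
    (by
      rw [IsLocalRing.jacobson_eq_maximalIdeal (⊥ : Ideal A'') bot_ne_top]
      exact IsLocalRing.le_maximalIdeal (RingHom.ker_ne_top _)) hsup
  exact ⟨FaithfulSMul.algebraMap_injective A'' (A ⧸ I), fun x => LinearMap.mem_range.1 (hS Submodule.mem_top)⟩

end Groth.Agent.S15068
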