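import Groth.Statements.S1507
import Groth.Agent.PCohHom.Hom

set_option autoImplicit false
universe u
attribute [local instance] HasDerivedCategory.standard
open FlatMor

namespace Groth.Agent.S1507

/-- Let A → B be flat and of finite presentation and I an ideal of B. Then A → B/I is a pseudo-coherent
ring map if and only if I is a pseudo-coherent B-module. -/
theorem result {A B : Type u} [CommRing A] [CommRing B] [Algebra A B] [Module.Flat A B] [Algebra.FinitePresentation A B] (I : Ideal B) :
    MoreMor.IsPseudoCoherentHom A (B ⧸ I) ↔ DRing.IsPseudoCoherentModule' B ↥I := by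
  rw [Groth.PCohHom.pcHom_iff_of_surjective (Groth.PCohHom.pcHom_of_flat_finitePresentation A B)
    (Ideal.Quotient.mkₐ A I) Ideal.Quotient.mk_surjective]
  have h0 : Groth.PCohHom.PCAlong (Ideal.Quotient.mkₐ A I).toRingHom ↔
      DRing.IsPseudoCoherentModule' B (B ⧸ I) :=
    Groth.PCohHom.pcAlong_algebraMap (P := B) (B := B ⧸ I)
  rw [h0, Groth.PCohHom.pc_iff, Groth.PCohHom.pc_iff]
  let i : I →ₗ[B] B := I.subtype
  let π : B →ₗ[B] B ⧸ I := Algebra.linearMap B (B ⧸ I)
  have he : Function.Exact i π := fun x => by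
    simp only [π, Algebra.linearMap_apply, Ideal.Quotient.algebraMap_eq, Ideal.Quotient.eq_zero_iff_mem]
    exact ⟨fun hx => ⟨⟨x, hx⟩, rfl⟩, fun ⟨y, hy⟩ => hy ▸ y.2⟩
  refine ⟨fun h n => Groth.PCohHom.fpk_ker (i := i) (π := π) Subtype.val_injective he
      Ideal.Quotient.mk_surjective (Groth.PCohHom.fpk_of_free n) (h (n + 1)), fun h n => ?_⟩
  exact (Groth.PCohHom.fpk_coker (i := i) (π := π) Subtype.val_injective he
    Ideal.Quotient.mk_surjective (h n) (Groth.PCohHom.fpk_of_free (n + 1))).mono n.le_succ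

end Groth.Agent.S1507
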