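import Groth.Statements.S15071
import Groth.Agent.S15848
import Groth.Agent.RefRank.Normality
import Groth.Agent.Misc6.BidualLocFree
import Groth.Agent.Duality.SheafExtStalk
import Groth.Agent.KTheory.LocFree
-- import your own Groth.Agent.* helpers here

set_option autoImplicit false
universe u
open CategoryTheory CategoryTheory.Limits AlgebraicGeometry
open OrdSurf

namespace Groth.Agent.S15071

/-- Let k be an algebraically closed field of characteristic zero and X a smooth projective surface over
k (an integral k-scheme, smooth over k, of dimension two, admitting a closed immersion over k into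
some projective space P^n_k). Let φ : M → N be a monomorphism between finite locally free
O_X-modules. Then either φ is an isomorphism, or the support of the cokernel of φ contains a point
of X whose local ring has Krull dimension at most one, i.e. the support has codimension at most one
in X. (The published statement phrases the first alternative as M and N being isomorphic; the
argument shows that the given monomorphism is an isomorphism, which is the form stated here.) -/
theorem result (k : Type u) [Field k] [IsAlgClosed k] [CharZero k]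
    (X : Scheme.{u}) [X.Over (Spec (CommRingCat.of k))] [IsIntegral X]
    [Smooth (X ↘ Spec (CommRingCat.of k))] (hdim : topologicalKrullDim X = 2)
    (hproj : ∃ (n : ℕ) (ι : X ⟶ CohB1.ProjSpace n k), IsClosedImmersion ι ∧
      ι ≫ CohB1.ProjSpace.toSpec n k = X ↘ Spec (CommRingCat.of k))
    (M N : X.Modules) (hM : FlatMod.IsFinLocFree M) (hN : FlatMod.IsFinLocFree N)
    (φ : M ⟶ N) [Mono φ] :
    IsIso φ ∨ ∃ x : X, x ∈ CohB1.support (cokernel φ) ∧ ringKrullDim (X.presheaf.stalk x) ≤ 1 := by
  have : IsLocallyNoetherian X := LocallyOfFiniteType.isLocallyNoetherian (X ↘ Spec (CommRingCat.of k))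
  have hreg : ∀ x : X, IsRegularLocalRing (X.presheaf.stalk x) := fun x =>
    Groth.Agent.S15848.isRegularLocalRing_of_smooth_field (X ↘ Spec (CommRingCat.of k)) x
  have hX := Groth.RefRank.isNormalScheme_of_regular hreg
  have hMc := Groth.KTheory.LocFree.isCoh hM
  have hNc := Groth.KTheory.LocFree.isCoh hN
  refine or_iff_not_imp_right.mpr fun hne => ?_
  push_neg at hne
  let V₀ : X.Opens := ⟨_, Groth.RefRank.isOpen_bijective_stalkMap hMc hNc φ⟩
  have hdim : ∀ x : X, x ∉ V₀ → (2 : WithBot ℕ∞) ≤ ringKrullDim (X.presheaf.stalk x) := by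
    intro x hx
    by_contra hlt
    refine hx ⟨(Groth.QCohMod.mono_iff_stalk φ).mp inferInstance x, ?_⟩
    refine (Groth.Duality.SheafExtStalk.subsingleton_stalk_cokernel_iff φ x).mp (not_not.mp fun hns => ?_)
    have h1 := hne x hns
    obtain ⟨m, hm⟩ := WithBot.ne_bot_iff_exists.mp (ringKrullDim_ne_bot (R := X.presheaf.stalk x))
    rw [← hm] at hlt h1
    cases m with
    | top => exact hlt (WithBot.coe_le_coe.mpr le_top)
    | coe j =>
      have h2 : ¬ 2 ≤ j := fun h => hlt (WithBot.coe_le_coe.mpr (by exact_mod_cast h : (2 : ℕ∞) ≤ (j : ℕ∞)))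
      have h3 : 1 < j := by exact_mod_cast h1
      exact h2 h3
  have hbij : ∀ U : X.Opens, Function.Bijective (φ.app U) := by
    intro U
    have hM' := Groth.RefRank.bijective_res_of_isReflexive hX hMc
      (Groth.Misc6.BidualLocFree.isReflexive_of_isFinLocFree hM) (inf_le_left : U ⊓ V₀ ≤ U)
      fun y hy hy' => hdim y fun h => hy' ⟨hy, h⟩
    have hN' := Groth.RefRank.bijective_res_of_isReflexive hX hNc
      (Groth.Misc6.BidualLocFree.isReflexive_of_isFinLocFree hN) (inf_le_left : U ⊓ V₀ ≤ U)
      fun y hy hy' => hdim y fun h => hy' ⟨hy, h⟩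
    have hV := Groth.RefRank.app_bijective_of_stalk φ (V := U ⊓ V₀) fun y hy => hy.2
    have hc : ∀ m, Groth.QCohMod.res N inf_le_left (φ.app U m) =
        φ.app (U ⊓ V₀) (Groth.QCohMod.res M inf_le_left m) := fun m =>
      (congr($(φ.mapPresheaf.naturality (homOfLE (inf_le_left : U ⊓ V₀ ≤ U)).op) m)).symm
    exact (Function.Bijective.of_comp_iff' hN' (φ.app U)).mp (by
      rw [show (⇑(Groth.QCohMod.res N (inf_le_left : U ⊓ V₀ ≤ U)) ∘ ⇑(φ.app U)) =
        ⇑(φ.app (U ⊓ V₀)) ∘ ⇑(Groth.QCohMod.res M (inf_le_left : U ⊓ V₀ ≤ U)) from funext hc]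
      exact hV.comp hM')
  refine (Groth.RefRank.isIso_iff_bijective_stalk φ).mpr fun x => ?_
  refine ⟨(Groth.QCohMod.mono_iff_stalk φ).mp inferInstance x, fun v => ?_⟩
  obtain ⟨W, hx, n, rfl⟩ := Groth.QCohMod.exists_germ N x v
  obtain ⟨m, rfl⟩ := (hbij W).2 n
  exact ⟨Groth.QCohMod.germ M x hx m, RefHull.stalkMapₗ_germ φ x hx m⟩

end Groth.Agent.S15071
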