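import Groth.Statements.S15072
import Groth.Agent.Misc8.CentralAlgInj
import Groth.Agent.QCohAlg.Basic
-- import your own Groth.Agent.* helpers here

set_option autoImplicit false
universe u
open CategoryTheory AlgebraicGeometry TopologicalSpace Opposite
open OrdSurf

namespace Groth.Agent.S15072


/-- Let X be a scheme, A a sheaf of rings on X (not necessarily commutative) and φ : O_X → A a morphism
of sheaves of rings with central image, making A a sheaf of O_X-algebras; assume that A, regarded as
an O_X-module through φ, is finite locally free. Let I be a sheaf of A-modules which is an injective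
object of the category of sheaves of A-modules. Then I, regarded as an O_X-module through φ, is an
injective object of the category of O_X-modules: restriction of scalars along φ preserves injective
objects. (The published statement is for a maximal order on a smooth projective surface, which is a
locally free sheaf of algebras of finite rank; the argument uses only that local freeness, and the
row is stated for any scheme and any finite locally free sheaf of algebras.) -/
theorem result (X : Scheme.{u})
    (A : Sheaf (Opens.grothendieckTopology X) RingCat.{u}) (φ : X.ringCatSheaf ⟶ A)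
    (hcen : ∀ (U : (Opens X)ᵒᵖ) (s : X.ringCatSheaf.obj.obj U) (a : A.obj.obj U),
      φ.hom.app U s * a = a * φ.hom.app U s)
    (hA : FlatMod.IsFinLocFree (X := X) ((SheafOfModules.restrictScalars φ).obj (SheafOfModules.unit A)))
    (I : SheafOfModules.{u} A) [Injective I] :
    Injective ((SheafOfModules.restrictScalars φ).obj I) := by
  haveI hfl : Limits.PreservesFiniteLimits (SheafOfModules.restrictScalars.{u} φ) :=
    Groth.QCohAlg.preservesFiniteLimits_restrictScalars φ
  let F := fun x => (Groth.Misc8.CentralAlg.nonempty_frame φ hA x).some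
  let J : X → SheafOfModules.{u} A := fun x =>
    Groth.Misc8.CentralAlg.skyA (F x) (Groth.Misc8.CentralAlg.hull φ I x)
  let K : (Σ x : X, (I ⟶ J x)) → SheafOfModules.{u} A := fun p => J p.1
  have hmono : Mono (Limits.Pi.lift fun p : (Σ x : X, (I ⟶ J x)) => p.2 : I ⟶ ∏ᶜ K) := by
    refine Preadditive.mono_of_cancel_zero _ fun {Z} k hk => ?_
    refine SheafOfModules.hom_ext (PresheafOfModules.hom_ext fun U => ModuleCat.hom_ext
      (LinearMap.ext fun z => ?_))
    obtain ⟨U⟩ := U
    refine Groth.Misc8.CentralAlg.exists_appS_ne_zero _ F U _ fun x hx g => ?_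
    have h1 : k ≫ g = 0 := by
      have := hk =≫ Limits.Pi.π K ⟨x, g⟩
      rwa [Category.assoc, Limits.Pi.lift_π, Limits.zero_comp] at this
    rw [← Groth.Misc8.CentralAlg.appS_comp (f := k), h1]
    rfl
  let G := SheafOfModules.restrictScalars.{u} φ
  have htS : ∀ (R : Sheaf (Opens.grothendieckTopology X) RingCat.{u}),
      Limits.PreservesLimitsOfShape (Discrete (Σ x : X, (I ⟶ J x))) (SheafOfModules.toSheaf.{u} R) := fun R => by
    haveI : Limits.PreservesLimitsOfShape (Discrete (Σ x : X, (I ⟶ J x)))
        (SheafOfModules.toSheaf.{u} R ⋙ sheafToPresheaf _ _) :=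
      inferInstanceAs (Limits.PreservesLimitsOfShape _ (SheafOfModules.forget.{u} R ⋙ PresheafOfModules.toPresheaf R.obj))
    exact Limits.preservesLimitsOfShape_of_reflects_of_preserves _ (sheafToPresheaf _ _)
  haveI := htS A
  haveI := htS X.ringCatSheaf
  haveI : Limits.PreservesLimitsOfShape (Discrete (Σ x : X, (I ⟶ J x))) G := by
    have : Limits.ReflectsLimitsOfShape (Discrete (Σ x : X, (I ⟶ J x))) (SheafOfModules.toSheaf.{u} X.ringCatSheaf) :=
      Limits.reflectsLimitsOfShape_of_reflectsIsomorphisms
    have : Limits.PreservesLimitsOfShape (Discrete (Σ x : X, (I ⟶ J x)))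
        (G ⋙ SheafOfModules.toSheaf X.ringCatSheaf) :=
      Limits.preservesLimitsOfShape_of_natIso (Groth.QCohAlg.restrictScalarsToSheaf φ).symm
    exact Limits.preservesLimitsOfShape_of_reflects_of_preserves _ (SheafOfModules.toSheaf.{u} X.ringCatSheaf)
  haveI : ∀ p, Injective (G.obj (K p)) := fun p =>
    Groth.Misc8.CentralAlg.injective_res_skyA hcen (F p.1) _
  haveI : Injective (G.obj (∏ᶜ K)) := Injective.of_iso (Limits.PreservesProduct.iso G K).symm inferInstance
  obtain ⟨r, hr⟩ := Injective.factors (𝟙 I) (Limits.Pi.lift fun p : (Σ x : X, (I ⟶ J x)) => p.2 : I ⟶ ∏ᶜ K)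
  refine ⟨fun {P Q} g f hf => ?_⟩
  obtain ⟨h, hh⟩ := Injective.factors (g ≫ G.map (Limits.Pi.lift fun p : (Σ x : X, (I ⟶ J x)) => p.2 : I ⟶ ∏ᶜ K)) f
  refine ⟨h ≫ G.map r, ?_⟩
  rw [reassoc_of% hh, ← G.map_comp, hr, G.map_id, Category.comp_id]

end Groth.Agent.S15072
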