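import Groth.Statements.S15075
import Groth.Agent.Misc1.TorSh
-- import your own Groth.Agent.* helpers here

set_option autoImplicit false
universe u
open CategoryTheory CategoryTheory.Limits AlgebraicGeometry TopologicalSpace Opposite
open OrdSurf

namespace Groth.Agent.S15075

/-- Let k be an algebraically closed field of characteristic zero and X a smooth projective surface over
k (an integral k-scheme, smooth over k, of dimension two, admitting a closed immersion over k into
some projective space P^n_k), with generic point η. Let A be a sheaf of rings on X with a morphism φ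
: O_X → A of sheaves of rings with central image (a sheaf of O_X-algebras) whose generic stalk A_η
is a division ring, i.e. simple as a left module over itself. Let M and N be sheaves of A-modules
whose underlying O_X-modules (through φ) are coherent with torsion-free stalks, and whose generic
stalks M_η and N_η are simple A_η-modules (one-dimensional over the division ring A_η). Then every
nonzero morphism of sheaves of A-modules M → N is a monomorphism. (The published statement takes A
to be an order on X — coherent and torsion-free over O_X with A_η a central division algebra over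
k(X) — and M, N torsion-free A-modules of rank one; of these hypotheses only the ones listed are
assumed here, the others playing no role in the argument.) -/
theorem result (k : Type u) [Field k] [IsAlgClosed k] [CharZero k]
    (X : Scheme.{u}) [X.Over (Spec (CommRingCat.of k))] [IsIntegral X]
    [Smooth (X ↘ Spec (CommRingCat.of k))] (hdim : topologicalKrullDim X = 2)
    (hproj : ∃ (n : ℕ) (ι : X ⟶ CohB1.ProjSpace n k), IsClosedImmersion ι ∧
      ι ≫ CohB1.ProjSpace.toSpec n k = X ↘ Spec (CommRingCat.of k))
    (A : Sheaf (Opens.grothendieckTopology X) RingCat.{u}) (φ : X.ringCatSheaf ⟶ A)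
    (hcen : ∀ (U : (Opens X)ᵒᵖ) (s : X.ringCatSheaf.obj.obj U) (a : A.obj.obj U),
      φ.hom.app U s * a = a * φ.hom.app U s)
    (hAη : IsSimpleModule (↑(TopCat.Presheaf.stalk (C := RingCat.{u}) (X := X.carrier) A.obj (genericPoint X))) (↑(TopCat.Presheaf.stalk (C := RingCat.{u}) (X := X.carrier) A.obj (genericPoint X))))
    (M N : SheafOfModules.{u} A)
    (hMc : Coh.IsCoh (X := X) ((SheafOfModules.restrictScalars φ).obj M))
    (hNc : Coh.IsCoh (X := X) ((SheafOfModules.restrictScalars φ).obj N))
    (hMt : TorSh.IsTorsionFree (X := X) ((SheafOfModules.restrictScalars φ).obj M))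
    (hNt : TorSh.IsTorsionFree (X := X) ((SheafOfModules.restrictScalars φ).obj N))
    (hMη : IsSimpleModule (↑(TopCat.Presheaf.stalk (C := RingCat.{u}) (X := X.carrier) A.obj (genericPoint X))) (↑(TopCat.Presheaf.stalk (C := Ab.{u}) (X := X.carrier) M.val.presheaf (genericPoint X))))
    (hNη : IsSimpleModule (↑(TopCat.Presheaf.stalk (C := RingCat.{u}) (X := X.carrier) A.obj (genericPoint X))) (↑(TopCat.Presheaf.stalk (C := Ab.{u}) (X := X.carrier) N.val.presheaf (genericPoint X))))
    (ψ : M ⟶ N) (hψ : ψ ≠ 0) : Mono ψ := by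
  have hMq : SheafOfModules.IsQuasicoherent (R := X.ringCatSheaf) ((SheafOfModules.restrictScalars φ).obj M) := hMc.1
  have hNq : SheafOfModules.IsQuasicoherent (R := X.ringCatSheaf) ((SheafOfModules.restrictScalars φ).obj N) := hNc.1
  let η := genericPoint X
  let ab : M.val.presheaf ⟶ N.val.presheaf := (PresheafOfModules.toPresheaf _).map ψ.val
  let S : ↑(TopCat.Presheaf.stalk (C := Ab.{u}) (X := X.carrier) M.val.presheaf η) →+
      ↑(TopCat.Presheaf.stalk (C := Ab.{u}) (X := X.carrier) N.val.presheaf η) :=
    ((TopCat.Presheaf.stalkFunctor Ab.{u} η).map ab).hom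
  have hS : ∀ (V : X.Opens) (hV : η ∈ V) (m : M.val.obj (Opposite.op V)),
      S (TopCat.Presheaf.germ (C := Ab.{u}) (X := X.carrier) M.val.presheaf V η hV m) =
        TopCat.Presheaf.germ (C := Ab.{u}) (X := X.carrier) N.val.presheaf V η hV (ψ.val.app (Opposite.op V) m) :=
    fun V hV m => TopCat.Presheaf.stalkFunctor_map_germ_apply V η hV ab m
  let Sl : ↑(TopCat.Presheaf.stalk (C := Ab.{u}) (X := X.carrier) M.val.presheaf η) →ₗ[↑(TopCat.Presheaf.stalk (C := RingCat.{u}) (X := X.carrier) A.obj η)]
      ↑(TopCat.Presheaf.stalk (C := Ab.{u}) (X := X.carrier) N.val.presheaf η) :=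
    { toFun := S
      map_add' := map_add S
      map_smul' := fun r t => by
        obtain ⟨V, hV, a, rfl⟩ := TopCat.Presheaf.exists_germ_eq (C := RingCat.{u}) A.obj r
        obtain ⟨W, hW, m, rfl⟩ := TopCat.Presheaf.exists_germ_eq (C := Ab.{u}) M.val.presheaf t
        rw [RingHom.id_apply,
          ← TopCat.Presheaf.germ_res_apply A.obj (homOfLE (inf_le_left : V ⊓ W ≤ V)) η ⟨hV, hW⟩ a,
          ← TopCat.Presheaf.germ_res_apply M.val.presheaf (homOfLE (inf_le_right : V ⊓ W ≤ W)) η ⟨hV, hW⟩ m,
          ]
        refine Eq.trans ?_ (congrArg (fun q => _ • q) (hS _ _ _).symm)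
        refine (congrArg S (PresheafOfModules.germ_ringCat_smul M.val η (V ⊓ W) ⟨hV, hW⟩ _ _).symm).trans ?_
        refine (hS _ _ _).trans ?_
        refine (congrArg _ (map_smul (ψ.val.app _).hom _ _)).trans ?_
        exact PresheafOfModules.germ_ringCat_smul N.val η (V ⊓ W) ⟨hV, hW⟩ _ _ }
  have hinj : Function.Injective Sl := by
    refine Sl.injective_or_eq_zero.resolve_right fun h0 => hψ ?_
    refine SheafOfModules.Hom.ext (PresheafOfModules.hom_ext fun U => ModuleCat.hom_ext (LinearMap.ext fun m => ?_))
    refine Groth.Misc1.TorSh.eq_zero_of_germ ((SheafOfModules.restrictScalars φ).obj N) (U := U.unop)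
      (ψ.val.app U m) fun z hz => ?_
    refine Groth.Misc1.TorSh.germ_eq_zero_of_generic _ hNt hz _ ?_
    exact (hS U.unop (Groth.Misc1.TorSh.generic_mem hz) m).symm.trans
      (congrArg (fun f => f (TopCat.Presheaf.germ (C := Ab.{u}) (X := X.carrier) M.val.presheaf U.unop η (Groth.Misc1.TorSh.generic_mem hz) m)) h0)
  have hker : ∀ (U : (Opens X)ᵒᵖ) (m : M.val.obj U), ψ.val.app U m = 0 → m = 0 := by
    intro U m hm
    refine Groth.Misc1.TorSh.eq_zero_of_germ ((SheafOfModules.restrictScalars φ).obj M) (U := U.unop) m fun z hz => ?_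
    refine Groth.Misc1.TorSh.germ_eq_zero_of_generic _ hMt hz _ (hinj ?_)
    exact (hS U.unop (Groth.Misc1.TorSh.generic_mem hz) m).trans ((congrArg _ hm).trans
      ((map_zero _).trans (map_zero Sl).symm))
  refine ⟨fun g h e => SheafOfModules.Hom.ext (PresheafOfModules.hom_ext fun U => ModuleCat.hom_ext (LinearMap.ext fun t => ?_))⟩
  refine sub_eq_zero.mp (hker U _ ((map_sub (ψ.val.app U).hom _ _).trans (sub_eq_zero.mpr ?_)))
  exact congrArg (fun k => k.val.app U t) e

end Groth.Agent.S15075
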