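import Groth.Statements.S15076
import Groth.Agent.QCohMod.SupportPullback
import Groth.Agent.KTheory.LocFree
-- import your own Groth.Agent.* helpers here

set_option autoImplicit false
universe u
open CategoryTheory CategoryTheory.Limits AlgebraicGeometry TopologicalSpace Opposite
open OrdSurf

namespace Groth.Agent.S15076

noncomputable abbrev rs {X : Scheme.{u}} {A : Sheaf (Opens.grothendieckTopology X) RingCat.{u}} (φ : X.ringCatSheaf ⟶ A)
    (P : SheafOfModules.{u} A) : X.Modules :=
  (SheafOfModules.restrictScalars φ).obj P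

abbrev stA {X : Scheme.{u}} {A : Sheaf (Opens.grothendieckTopology X) RingCat.{u}} (x : X) (P : SheafOfModules.{u} A) : Type u :=
  ↑(TopCat.Presheaf.stalk (C := Ab.{u}) (X := X.carrier) P.val.presheaf x)

abbrev stO {X : Scheme.{u}} {A : Sheaf (Opens.grothendieckTopology X) RingCat.{u}} (φ : X.ringCatSheaf ⟶ A)
    (x : X) (P : SheafOfModules.{u} A) : Type u := ↑((rs φ P).presheaf.stalk x)

open Groth.QCohMod in
lemma projective_res {X : Scheme.{u}} (A : Sheaf (Opens.grothendieckTopology X) RingCat.{u}) (φ : X.ringCatSheaf ⟶ A)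
    (M : SheafOfModules.{u} A) (x : X)
    (hU : Module.Free (X.presheaf.stalk x)
      (stO φ x (SheafOfModules.unit A)))
    (hM : Module.Projective ↑(TopCat.Presheaf.stalk (C := RingCat.{u}) (X := X.carrier) A.obj x)
      ↑(TopCat.Presheaf.stalk (C := Ab.{u}) (X := X.carrier) M.val.presheaf x)) :
    Module.Projective (X.presheaf.stalk x)
      (stO φ x M) := by
  let Ax := ↑(TopCat.Presheaf.stalk (C := RingCat.{u}) (X := X.carrier) A.obj x)
  have hsm : ∀ r : X.presheaf.stalk x, ∃ a : Ax, ∀ (P : SheafOfModules.{u} A) (t : stO φ x P),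
      (r • t : stO φ x P) = (show stO φ x P from a • (show stA x P from t)) := by
    intro r
    obtain ⟨U, hx, r, rfl⟩ := TopCat.Presheaf.exists_germ_eq X.presheaf r
    refine ⟨TopCat.Presheaf.germ (C := RingCat.{u}) A.obj U x hx (φ.hom.app (Opposite.op U) r), fun P t => ?_⟩
    obtain ⟨W, hW, m, rfl⟩ := exists_germ (rs φ P) x t
    rw [← germ_res _ (inf_le_right : U ⊓ W ≤ W) x ⟨hx, hW⟩ m,
      ← TopCat.Presheaf.germ_res_apply X.presheaf (homOfLE (inf_le_left : U ⊓ W ≤ U)) x ⟨hx, hW⟩ r,
      ← TopCat.Presheaf.germ_res_apply A.obj (homOfLE (inf_le_left : U ⊓ W ≤ U)) x ⟨hx, hW⟩]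
    refine (germ_smul _ x _ _ _).symm.trans ?_
    refine Eq.trans ?_ (PresheafOfModules.germ_ringCat_smul P.val x (U ⊓ W) ⟨hx, hW⟩ _ _)
    refine congrArg (germ (rs φ P) x _) ?_
    refine congrArg (fun q : A.obj.obj (Opposite.op (U ⊓ W)) => q • (show P.val.obj (Opposite.op (U ⊓ W)) from res (rs φ P) inf_le_right m)) ?_
    exact NatTrans.naturality_apply φ.hom (homOfLE (inf_le_left : U ⊓ W ≤ U)).op r
  let one : stA x (SheafOfModules.unit A) :=
    TopCat.Presheaf.germ (C := Ab.{u}) (X := X.carrier) (SheafOfModules.unit A).val.presheaf ⊤ x trivial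
      (1 : A.obj.obj (Opposite.op ⊤))
  let e₀ : Ax →ₗ[Ax] stA x (SheafOfModules.unit A) := LinearMap.toSpanSingleton Ax _ one
  have he₀ : ∀ (W : X.Opens) (hW : x ∈ W) (a : A.obj.obj (Opposite.op W)),
      e₀ (TopCat.Presheaf.germ (C := RingCat.{u}) A.obj W x hW a) =
        TopCat.Presheaf.germ (C := Ab.{u}) (X := X.carrier) (SheafOfModules.unit A).val.presheaf W x hW a := by
    intro W hW a
    show TopCat.Presheaf.germ (C := RingCat.{u}) A.obj W x hW a • one = _
    have h1 : one = TopCat.Presheaf.germ (C := Ab.{u}) (X := X.carrier) (SheafOfModules.unit A).val.presheaf W x hW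
        (1 : A.obj.obj (Opposite.op W)) := by
      refine (TopCat.Presheaf.germ_res_apply _ (homOfLE (le_top : W ≤ ⊤)) x hW _).symm.trans ?_
      exact congrArg _ (map_one (A.obj.map (homOfLE (le_top : W ≤ ⊤)).op).hom)
    rw [h1]
    refine (PresheafOfModules.germ_ringCat_smul (SheafOfModules.unit A).val x W hW a _).symm.trans ?_
    exact congrArg _ (mul_one a)
  have hb : Function.Bijective e₀ := by
    refine ⟨(injective_iff_map_eq_zero _).mpr fun a ha => ?_, fun t => ?_⟩
    · obtain ⟨W, hW, a, rfl⟩ := TopCat.Presheaf.exists_germ_eq (C := RingCat.{u}) A.obj a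
      rw [he₀] at ha
      obtain ⟨V, hV, i, j, e⟩ := TopCat.Presheaf.germ_eq (C := Ab.{u}) (X := X.carrier) (SheafOfModules.unit A).val.presheaf x hW hW a 0
        (ha.trans (map_zero (TopCat.Presheaf.germ (C := Ab.{u}) (X := X.carrier) (SheafOfModules.unit A).val.presheaf W x hW).hom).symm)
      rw [← TopCat.Presheaf.germ_res_apply A.obj i x hV a]
      exact (congrArg _ (e.trans (map_zero _))).trans (map_zero _)
    · obtain ⟨W, hW, a, rfl⟩ := TopCat.Presheaf.exists_germ_eq (C := Ab.{u}) _ t
      exact ⟨_, he₀ W hW a⟩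
  let e : Ax ≃ₗ[Ax] stA x (SheafOfModules.unit A) := LinearEquiv.ofBijective e₀ hb
  obtain ⟨s, hs⟩ := Module.projective_def'.mp hM
  let σ₀ : stA x M →ₗ[Ax] (stA x M →₀ stA x (SheafOfModules.unit A)) :=
    (Finsupp.mapRange.linearMap e.toLinearMap).comp s
  let π₀ : (stA x M →₀ stA x (SheafOfModules.unit A)) →ₗ[Ax] stA x M :=
    (Finsupp.linearCombination Ax id).comp (Finsupp.mapRange.linearMap e.symm.toLinearMap)
  have hcomp : ∀ t, π₀ (σ₀ t) = t := by
    intro t
    refine (congrArg (Finsupp.linearCombination Ax id) ?_).trans (LinearMap.congr_fun hs t)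
    ext i
    simp [σ₀]
  let σ : stO φ x M →ₗ[X.presheaf.stalk x] (stO φ x M →₀ stO φ x (SheafOfModules.unit A)) :=
    { toFun := fun t => σ₀ t
      map_add' := fun t t' => map_add σ₀ t t'
      map_smul' := fun r t => by
        obtain ⟨a, ha⟩ := hsm r
        rw [RingHom.id_apply, ha M t]
        refine (map_smul σ₀ a (show stA x M from t)).trans ?_
        refine Finsupp.ext fun i => ?_
        exact (ha (SheafOfModules.unit A) ((σ₀ (show stA x M from t)) i)).symm }
  let π : (stO φ x M →₀ stO φ x (SheafOfModules.unit A)) →ₗ[X.presheaf.stalk x] stO φ x M :=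
    { toFun := fun t => π₀ t
      map_add' := fun t t' => map_add π₀ t t'
      map_smul' := fun r t => by
        obtain ⟨a, ha⟩ := hsm r
        rw [RingHom.id_apply, ha M (π₀ t)]
        refine Eq.trans ?_ (map_smul π₀ a (show stA x M →₀ stA x (SheafOfModules.unit A) from t))
        refine congrArg π₀ (Finsupp.ext fun i => ?_)
        exact ha (SheafOfModules.unit A) (t i) }
  have : Module.Free (X.presheaf.stalk x) (stO φ x M →₀ stO φ x (SheafOfModules.unit A)) := Module.Free.finsupp _ _ _
  exact Module.Projective.of_split σ π (LinearMap.ext hcomp)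

/-- Let k be an algebraically closed field of characteristic zero and X a smooth projective surface over
k (an integral k-scheme, smooth over k, of dimension two, admitting a closed immersion over k into
some projective space P^n_k). Let A be a sheaf of rings on X with a morphism φ : O_X → A of sheaves
of rings with central image (a sheaf of O_X-algebras) such that A is finite locally free as an
O_X-module through φ. Let M be a sheaf of A-modules whose underlying O_X-module is coherent and
which is locally projective over A in the sense that every stalk M_x is a projective module over the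
stalk A_x. Then the underlying O_X-module of M is finite locally free. (The published statement
takes A to be a maximal order on X, which is locally free of finite rank; only that consequence is
assumed here, together with the stalkwise reading of local projectivity.) -/
theorem result (k : Type u) [Field k] [IsAlgClosed k] [CharZero k]
    (X : Scheme.{u}) [X.Over (Spec (CommRingCat.of k))] [IsIntegral X]
    [Smooth (X ↘ Spec (CommRingCat.of k))] (hdim : topologicalKrullDim X = 2)
    (hproj : ∃ (n : ℕ) (ι : X ⟶ CohB1.ProjSpace n k), IsClosedImmersion ι ∧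
      ι ≫ CohB1.ProjSpace.toSpec n k = X ↘ Spec (CommRingCat.of k))
    (A : Sheaf (Opens.grothendieckTopology X) RingCat.{u}) (φ : X.ringCatSheaf ⟶ A)
    (hcen : ∀ (U : (Opens X)ᵒᵖ) (s : X.ringCatSheaf.obj.obj U) (a : A.obj.obj U),
      φ.hom.app U s * a = a * φ.hom.app U s)
    (hA : FlatMod.IsFinLocFree (X := X) ((SheafOfModules.restrictScalars φ).obj (SheafOfModules.unit A)))
    (M : SheafOfModules.{u} A)
    (hMc : Coh.IsCoh (X := X) ((SheafOfModules.restrictScalars φ).obj M))
    (hMp : ∀ x : X, Module.Projective ↑(TopCat.Presheaf.stalk (C := RingCat.{u}) (X := X.carrier) A.obj x)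
      ↑(TopCat.Presheaf.stalk (C := Ab.{u}) (X := X.carrier) M.val.presheaf x)) :
    FlatMod.IsFinLocFree (X := X) ((SheafOfModules.restrictScalars φ).obj M) := by
  have : IsLocallyNoetherian X := LocallyOfFiniteType.isLocallyNoetherian (X ↘ Spec (CommRingCat.of k))
  have hMq : SheafOfModules.IsQuasicoherent (R := X.ringCatSheaf) ((SheafOfModules.restrictScalars φ).obj M) := hMc.1
  refine Groth.KTheory.LocFree.isFinLocFree_of_free_stalks hMc fun x => ?_
  have hf : Module.Free (X.presheaf.stalk x) (stO φ x (SheafOfModules.unit A)) := Groth.KTheory.LocFree.free_stalk hA x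
  have : Module.Projective (X.presheaf.stalk x) (stO φ x M) := projective_res A φ M x hf (hMp x)
  have : Module.Finite (X.presheaf.stalk x) (stO φ x M) := Groth.QCohMod.finite_stalk (rs φ M) hMc.2 x
  exact (Module.free_of_flat_of_isLocalRing : Module.Free (X.presheaf.stalk x) (stO φ x M))

end Groth.Agent.S15076
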