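import Groth.Statements.S15086
import Groth.Agent.Variety2.DimTrdeg
import Mathlib.AlgebraicGeometry.AlgClosed.Basic
import Mathlib.FieldTheory.PrimitiveElement
-- import your own Groth.Agent.* helpers here

set_option autoImplicit false
universe u
open CategoryTheory CategoryTheory.Limits AlgebraicGeometry
open MovLem

namespace Groth.Agent.S15086

open CategoryTheory CategoryTheory.Limits AlgebraicGeometry Groth.Variety2.Dim

section Count

variable {k : Type u} [Field k] {X : Scheme.{u}} (sX : X ⟶ Spec (CommRingCat.of k)) [LocallyOfFiniteType sX]

/-- the residue field of a closed point is finite over the base field -/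
theorem finite_resHom {x : X} (hx : IsClosed ({x} : Set X)) : (resHom sX x).Finite := by
  have := LocallyOfFiniteType.jacobsonSpace sX
  have : IsClosedImmersion (X.fromSpecResidueField x) := isClosed_singleton_iff_isClosedImmersion.mp hx
  have hfin : IsFinite (X.fromSpecResidueField x ≫ sX) :=
    (isFinite_iff_locallyOfFiniteType_of_jacobsonSpace (f := X.fromSpecResidueField x ≫ sX)).mpr inferInstance
  rw [← resHom_spec, IsFinite.SpecMap_iff] at hfin
  exact hfin

variable (K : Type u) [Field K] [IsAlgClosed K] [Algebra k K] [PerfectField k]

/-- the geometric points over a closed point are counted by the degree of its residue field -/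
theorem encard_fibre (i : Spec (CommRingCat.of K) ⟶ Spec (CommRingCat.of k))
    (hi : i = Spec.map (CommRingCat.ofHom (algebraMap k K))) {x : X} (hx : IsClosed ({x} : Set X)) :
    ((pullback.fst sX i).base ⁻¹' {x}).encard =
      ((@Module.finrank k (X.residueField x) _ _ (resHom sX x).toAlgebra.toModule : ℕ) : ℕ∞) := by
  letI := (resHom sX x).toAlgebra
  have : Module.Finite k (X.residueField x) := finite_resHom sX hx
  let a : Spec (X.residueField x) ⟶ Spec (CommRingCat.of k) := X.fromSpecResidueField x ≫ sX
  have haf : IsFinite a := by
    change IsFinite (X.fromSpecResidueField x ≫ sX)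
    rw [← resHom_spec, IsFinite.SpecMap_iff]
    exact finite_resHom sX hx
  let Q := pullback a i
  let m : Q ⟶ pullback sX i :=
    pullback.map a i sX i (X.fromSpecResidueField x) (𝟙 _) (𝟙 _) (by simp [a]) (by simp)
  have hrange : Set.range m.base = (pullback.fst sX i).base ⁻¹' {x} := by
    have h := Scheme.Pullback.range_map a i sX i (X.fromSpecResidueField x) (𝟙 _) (𝟙 _) (by simp [a]) (by simp)
    rw [h, Scheme.range_fromSpecResidueField]
    simp
  have hinj : Function.Injective m.base := by
    have hm : m = (pullbackRightPullbackFstIso sX i (X.fromSpecResidueField x)).inv ≫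
        pullback.snd (X.fromSpecResidueField x) (pullback.fst sX i) := by
      apply pullback.hom_ext
      · rw [Category.assoc, pullbackRightPullbackFstIso_inv_snd_fst]
        exact pullback.lift_fst _ _ _
      · rw [Category.assoc, pullbackRightPullbackFstIso_inv_snd_snd]
        exact (pullback.lift_snd _ _ _).trans (Category.comp_id _)
    have : IsPreimmersion m := by rw [hm]; infer_instance
    exact m.isEmbedding.injective
  rw [← hrange, ← Set.image_univ, hinj.injOn.encard_image, Set.encard_univ]
  have : IsFinite (pullback.snd a i) := inferInstance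
  have hclosed : ∀ q : Q, IsClosed ({q} : Set Q) := fun q => by
    haveI : DiscreteTopology ((pullback.snd a i) ⁻¹' {(pullback.snd a i) q}) :=
      isDiscrete_iff_discreteTopology.mp ((pullback.snd a i).isDiscrete_preimage_singleton _)
    have huniv : (pullback.snd a i) ⁻¹' {(pullback.snd a i) q} = Set.univ :=
      Set.eq_univ_of_forall fun z => Subsingleton.elim (α := Spec (CommRingCat.of K)) _ _
    have hd := (pullback.snd a i).isDiscrete_preimage_singleton ((pullback.snd a i) q)
    rw [huniv] at hd
    haveI : DiscreteTopology Q := isDiscrete_univ_iff.1 hd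
    exact isClosed_discrete _
  let e1 : Q ≃ closedPoints Q := ⟨fun q => ⟨q, hclosed q⟩, fun q => q.1, fun _ => rfl, fun _ => rfl⟩
  let e2 : {p : Spec (CommRingCat.of K) ⟶ Q // p ≫ pullback.snd a i = 𝟙 _} ≃
      (X.residueField x →ₐ[k] K) :=
    { toFun := fun p => AlgHom.mk (Spec.preimage (p.1 ≫ pullback.fst a i)).hom fun c => by
        have h : CommRingCat.ofHom (resHom sX x) ≫ Spec.preimage (p.1 ≫ pullback.fst a i) =
            CommRingCat.ofHom (algebraMap k K) := by
          apply Spec.map_injective
          rw [Spec.map_comp, Spec.map_preimage, resHom_spec, Category.assoc,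
            show pullback.fst a i ≫ X.fromSpecResidueField x ≫ sX = pullback.snd a i ≫ i from pullback.condition,
            reassoc_of% p.2, hi]
        exact congr(($h).hom c)
      invFun := fun g => ⟨pullback.lift (Spec.map (CommRingCat.ofHom g.toRingHom)) (𝟙 _) (by
        rw [Category.id_comp, hi]
        change Spec.map (CommRingCat.ofHom g.toRingHom) ≫ X.fromSpecResidueField x ≫ sX = _
        rw [← resHom_spec, ← Spec.map_comp]
        exact congrArg (fun f => Spec.map (CommRingCat.ofHom f)) g.comp_algebraMap), pullback.lift_snd _ _ _⟩
      left_inv := fun p => by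
        refine Subtype.ext (pullback.hom_ext ?_ ?_)
        · rw [pullback.lift_fst]
          exact Spec.map_preimage _
        · rw [pullback.lift_snd, p.2]
      right_inv := fun g => by
        apply AlgHom.ext
        intro c
        have h : ∀ p : Spec (CommRingCat.of K) ⟶ Q, p ≫ pullback.fst a i = Spec.map (CommRingCat.ofHom g.toRingHom) →
            (Spec.preimage (p ≫ pullback.fst a i)).hom c = g c := fun p hp => by
          rw [hp, Spec.preimage_map]; rfl
        exact h _ (pullback.lift_fst _ _ _) }
  rw [ENat.card_congr (e1.trans ((pointEquivClosedPoint (pullback.snd a i)).symm.trans e2)),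
    ENat.card_eq_coe_fintype_card, AlgHom.card]

end Count

/-- Let k be an infinite perfect field with algebraic closure k̄, let φ : X → Y be a finite morphism of
k-schemes locally of finite type, let x be a closed point of X and y = φ(x). Let π_X : X_{k̄} → X
and π_Y : Y_{k̄} → Y be the base-change projections and φ_{k̄} : X_{k̄} → Y_{k̄} the induced
morphism. Then the number of points of π_Y⁻¹(y) is at most the number of points of π_X⁻¹(x);
equality holds if and only if the residue field extension k(y) → k(x) is an isomorphism; and
equality holds whenever φ_{k̄} is injective on π_X⁻¹(x). (Cardinalities are taken in ℕ ∪ {∞}; both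
fibres are in fact finite.) -/
theorem result
    {k : Type u} [Field k] [Infinite k] [PerfectField k] {X Y : Scheme.{u}}
    (sX : X ⟶ Spec (CommRingCat.of k)) (sY : Y ⟶ Spec (CommRingCat.of k))
    [LocallyOfFiniteType sX] [LocallyOfFiniteType sY]
    (φ : X ⟶ Y) (hφ : φ ≫ sY = sX) [IsFinite φ]
    (i : Spec (CommRingCat.of (AlgebraicClosure k)) ⟶ Spec (CommRingCat.of k))
    (hi : i = Spec.map (CommRingCat.ofHom (algebraMap k (AlgebraicClosure k))))
    (φbar : pullback sX i ⟶ pullback sY i)
    (h1 : φbar ≫ pullback.fst sY i = pullback.fst sX i ≫ φ)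
    (h2 : φbar ≫ pullback.snd sY i = pullback.snd sX i)
    (x : X) (hx : IsClosed ({x} : Set X)) :
    ((pullback.fst sY i).base ⁻¹' {φ.base x}).encard ≤ ((pullback.fst sX i).base ⁻¹' {x}).encard ∧
      (((pullback.fst sY i).base ⁻¹' {φ.base x}).encard = ((pullback.fst sX i).base ⁻¹' {x}).encard ↔
          Function.Bijective (φ.residueFieldMap x).hom) ∧
      (Set.InjOn φbar.base ((pullback.fst sX i).base ⁻¹' {x}) →
        ((pullback.fst sY i).base ⁻¹' {φ.base x}).encard = ((pullback.fst sX i).base ⁻¹' {x}).encard) := by
  letI := (resHom sX x).toAlgebra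
  have hy : IsClosed ({φ.base x} : Set Y) := by
    rw [← Set.image_singleton]
    exact φ.isClosedMap _ hx
  letI := (resHom sY (φ.base x)).toAlgebra
  letI := (φ.residueFieldMap x).hom.toAlgebra
  have htow : IsScalarTower k (Y.residueField (φ.base x)) (X.residueField x) := by
    have h : CommRingCat.ofHom (resHom sX x) =
        CommRingCat.ofHom (resHom sY (φ.base x)) ≫ φ.residueFieldMap x := by
      apply Spec.map_injective
      rw [Spec.map_comp, resHom_spec, resHom_spec, ← Category.assoc,
        Scheme.Hom.SpecMap_residueFieldMap_fromSpecResidueField, Category.assoc, hφ]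
    exact IsScalarTower.of_algebraMap_eq' congr(($h).hom)
  have : Module.Finite k (X.residueField x) := finite_resHom sX hx
  have : Module.Finite k (Y.residueField (φ.base x)) := finite_resHom sY hy
  have : Module.Finite (Y.residueField (φ.base x)) (X.residueField x) :=
    Module.Finite.of_restrictScalars_finite k _ _
  rw [encard_fibre sX (AlgebraicClosure k) i hi hx, encard_fibre sY (AlgebraicClosure k) i hi hy,
    Nat.cast_le, Nat.cast_inj]
  have hmul := Module.finrank_mul_finrank k (Y.residueField (φ.base x)) (X.residueField x)
  have hpos : 0 < Module.finrank k (Y.residueField (φ.base x)) := Module.finrank_pos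
  have hpos' : 0 < Module.finrank (Y.residueField (φ.base x)) (X.residueField x) := Module.finrank_pos
  have hle : Module.finrank k (Y.residueField (φ.base x)) ≤ Module.finrank k (X.residueField x) :=
    hmul ▸ Nat.le_mul_of_pos_right _ hpos'
  refine ⟨hle, ⟨fun h => ?_, fun h => ?_⟩, fun hinj => le_antisymm hle ?_⟩
  · have h1 : Module.finrank (Y.residueField (φ.base x)) (X.residueField x) = 1 := by
      rw [← hmul] at h
      exact (Nat.eq_of_mul_eq_mul_left hpos ((mul_one _).trans h)).symm
    exact (Subalgebra.bot_eq_top_iff_finrank_eq_one (F := Y.residueField (φ.base x))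
      (E := X.residueField x)).2 h1 |> fun h2 => ⟨RingHom.injective _, fun z => by
        obtain ⟨c, hc⟩ := Algebra.mem_bot.1 (h2 ▸ Algebra.mem_top (x := z))
        exact ⟨c, hc⟩⟩
  · rw [← hmul]
    have : Module.finrank (Y.residueField (φ.base x)) (X.residueField x) = 1 :=
      (LinearEquiv.ofBijective (Algebra.linearMap (Y.residueField (φ.base x)) (X.residueField x)) h).finrank_eq.symm.trans
        (Module.finrank_self _)
    rw [this, mul_one]
  · rw [← Nat.cast_le (α := ℕ∞), ← encard_fibre sX (AlgebraicClosure k) i hi hx,
      ← encard_fibre sY (AlgebraicClosure k) i hi hy]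
    refine Set.encard_le_encard_of_injOn (f := φbar.base) (fun z hz => ?_) hinj
    change (φbar ≫ pullback.fst sY i) z = φ.base x
    rw [h1]
    exact congrArg φ.base hz

end Groth.Agent.S15086

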