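import Groth.Statements.S15087
import Groth.Agent.MovLem71.Basic

set_option autoImplicit false
set_option maxHeartbeats 2000000
universe u v w
open MovLem

namespace Groth.Agent.S15087

open TensorProduct in
theorem exists_dependence {k : Type u} [Field k] {κ B : Type u} [Field κ] [Algebra k κ] [Module.Finite k κ]
    [CommRing B] [Algebra k B] [Algebra.FiniteType k B] (r N : ℕ) (hdim : ringKrullDim B < r)
    (a : Fin r → κ) (b : Fin r → B) (T' : B) :
    ∃ h : MvPolynomial (Fin r) k, h ≠ 0 ∧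
      ∀ (L : Type w) [CommRing L] [Algebra k L] (φ : κ →ₐ[k] L) (ψ : B →ₐ[k] L) (g : Fin r → L),
        (∀ i, (ψ (b i) - φ (a i)) * ψ T' ^ N = g i) → MvPolynomial.aeval g h = 0 := by
  let u : Fin r → κ ⊗[k] B := fun i => ((1 : κ) ⊗ₜ b i - a i ⊗ₜ (1 : B)) * ((1 : κ) ⊗ₜ (T' ^ N))
  haveI : Algebra.FiniteType k (κ ⊗[k] B) := Algebra.FiniteType.trans (R := k) (S := κ) (A := κ ⊗[k] B) inferInstance inferInstance
  have hlt : ringKrullDim (κ ⊗[k] B) < (r : ℕ) :=
    lt_of_le_of_lt (Groth.FibreDim.ringKrullDim_tensor_le (K := κ) (A := B)) hdim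
  obtain ⟨h, h0, hh⟩ := Groth.MovLem71.exists_aeval_eq_zero (k := k) (B := κ ⊗[k] B) hlt u
  refine ⟨h, h0, fun L _ _ φ ψ g hg => ?_⟩
  let χ : κ ⊗[k] B →ₐ[k] L := Algebra.TensorProduct.lift φ ψ fun _ _ => Commute.all _ _
  have hu : (fun i => χ (u i)) = g := funext fun i => by
    simp only [χ, u, map_mul, map_sub, map_pow, Algebra.TensorProduct.lift_tmul, map_one, mul_one, one_mul]
    exact hg i
  have := congrArg χ hh
  rw [map_zero] at this
  rw [← this, ← hu]
  exact (MvPolynomial.comp_aeval_apply (f := u) χ h).symm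

theorem exists_kernel {k : Type u} [Field k] (r N d : ℕ) (hr : 1 ≤ r)
    (J : Ideal (MvPolynomial (Fin r ⊕ (Unit ⊕ Fin d)) k))
    (hdim : ringKrullDim (MvPolynomial (Fin r ⊕ (Unit ⊕ Fin d)) k ⧸ J) ≤ (r - 1 : ℕ))
    (ht : J ⊔ Ideal.span {MvPolynomial.X (Sum.inr (Sum.inl ()))} = ⊤)
    (P : Ideal (MvPolynomial (Fin r) k)) (hP : P.IsMaximal) :
    ∃ h : MvPolynomial (Fin r) k, h ≠ 0 ∧
      ∀ (L : Type w) [Field L] [Algebra k L] (ξ : Fin r → L) (t : L) (y : Fin d → L) (g : Fin r → L),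
        (∀ p ∈ P, MvPolynomial.aeval ξ p = 0) →
        (∀ q ∈ J, MvPolynomial.aeval (Sum.elim (fun i => ξ i + t ^ N * g i) (Sum.elim (fun _ : Unit => t) y)) q = 0) →
        MvPolynomial.aeval g h = 0 := by
  letI := Ideal.Quotient.field P
  let B := MvPolynomial (Fin r ⊕ (Unit ⊕ Fin d)) k ⧸ J
  let T : B := Ideal.Quotient.mk J (MvPolynomial.X (Sum.inr (Sum.inl ())))
  obtain ⟨T', hT'⟩ : ∃ T', T * T' = 1 := by
    obtain ⟨a, ha, b, hb, hab⟩ := Submodule.mem_sup.1 ((Ideal.eq_top_iff_one _).1 ht)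
    obtain ⟨c, rfl⟩ := Ideal.mem_span_singleton.1 hb
    refine ⟨Ideal.Quotient.mk J c, ?_⟩
    rw [← map_mul, ← map_one (Ideal.Quotient.mk J), ← hab, map_add, Ideal.Quotient.eq_zero_iff_mem.2 ha, zero_add]
  haveI : Algebra.FiniteType k B := Algebra.FiniteType.of_surjective (Ideal.Quotient.mkₐ k J) Ideal.Quotient.mk_surjective
  haveI : Module.Finite k (MvPolynomial (Fin r) k ⧸ P) := finite_of_finite_type_of_isJacobsonRing k _
  obtain ⟨h, h0, hh⟩ := exists_dependence.{u, w} (k := k) (κ := MvPolynomial (Fin r) k ⧸ P) (B := B) r N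
    (lt_of_le_of_lt hdim (by exact_mod_cast (by omega : r - 1 < r)))
    (fun i => Ideal.Quotient.mk P (MvPolynomial.X i)) (fun i => Ideal.Quotient.mk J (MvPolynomial.X (Sum.inl i))) T'
  refine ⟨h, h0, fun L _ _ ξ t y g hξ hq => ?_⟩
  let ψ : B →ₐ[k] L := Ideal.Quotient.liftₐ J (MvPolynomial.aeval (Sum.elim (fun i => ξ i + t ^ N * g i) (Sum.elim (fun _ : Unit => t) y))) hq
  let φ : (MvPolynomial (Fin r) k ⧸ P) →ₐ[k] L := Ideal.Quotient.liftₐ P (MvPolynomial.aeval ξ) hξ
  have e : ψ T = t := MvPolynomial.aeval_X _ _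
  have hT : t * ψ T' = 1 := by rw [← e, ← map_mul, hT', map_one]
  refine hh L φ ψ g fun i => ?_
  have e1 : ψ (Ideal.Quotient.mk J (MvPolynomial.X (Sum.inl i))) = ξ i + t ^ N * g i := MvPolynomial.aeval_X _ _
  have e2 : φ (Ideal.Quotient.mk P (MvPolynomial.X i)) = ξ i := MvPolynomial.aeval_X _ _
  rw [e1, e2, add_sub_cancel_left, mul_comm, ← mul_assoc, ← mul_pow, mul_comm _ t, hT, one_pow, one_mul]

/-- Let k be an infinite perfect field, r, m, s ≥ 1 and d ≥ 0, and put N = s(m+1). In affine space with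
coordinates x_1, …, x_r, t, y_1, …, y_d (the cube of dimension d taken as affine d-space with faces
given by setting some coordinates equal to 0 or 1), let Z = V(I) be an integral closed subscheme of
dimension r which does not meet the hyperplane t = 0 and which meets every face {y_i = ε_i for i ∈
S} (S nonempty, ε_i ∈ {0, 1}) in dimension at most r − |S|. Let Σ be a finite set of closed points
of affine r-space over k. Then there is a nonzero polynomial h in k[g_1, …, g_r] such that for every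
field K over k and every g ∈ K^r with h(g) ≠ 0, the translate of Z_K by x ↦ x + t^N g meets no set
{x ∈ Σ} × A^1 × F with F a proper face: for every field L over K, every point ξ of affine r-space
over L lying on a point of Σ, every t ∈ L and every y ∈ L^d lying on a proper face, the point (ξ +
t^N g, t, y) is not a zero of I. (The published statement assumes that Z is an irreducible
admissible additive cycle meeting the faces through Σ properly; the two consequences of
admissibility that its proof uses — Z misses t = 0, and Z meets all faces properly — are the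
hypotheses here, and the dense open subset of affine r-space is given as the locus h ≠ 0.) -/
theorem result
    {k : Type u} [Field k] [Infinite k] [PerfectField k] (r m s d : ℕ) (hr : 1 ≤ r) (hm : 1 ≤ m) (hs : 1 ≤ s)
    (I : Ideal (MvPolynomial (Fin r ⊕ (Unit ⊕ Fin d)) k)) (hI : I.IsPrime)
    (hdim : ringKrullDim (MvPolynomial (Fin r ⊕ (Unit ⊕ Fin d)) k ⧸ I) = r)
    (ht0 : I ⊔ Ideal.span {MvPolynomial.X (Sum.inr (Sum.inl ()))} = ⊤)
    (hface : ∀ (S : Finset (Fin d)), S.Nonempty → ∀ (ε : Fin d → k), (∀ i, ε i = 0 ∨ ε i = 1) →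
      ringKrullDim (MvPolynomial (Fin r ⊕ (Unit ⊕ Fin d)) k ⧸
        (I ⊔ Ideal.span ((fun i => MvPolynomial.X (Sum.inr (Sum.inr i)) - MvPolynomial.C (ε i)) '' (S : Set (Fin d))))) ≤ (r - S.card : ℕ))
    (Sigma : Finset (Ideal (MvPolynomial (Fin r) k))) (hSigma : ∀ P ∈ Sigma, P.IsMaximal) :
    ∃ h : MvPolynomial (Fin r) k, h ≠ 0 ∧
      ∀ (K : Type v) [Field K] [Algebra k K] (g : Fin r → K), MvPolynomial.aeval g h ≠ 0 →
        ∀ (L : Type w) [Field L] [Algebra k L] [Algebra K L] [IsScalarTower k K L]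
          (ξ : Fin r → L) (t : L) (y : Fin d → L),
          ∀ P ∈ Sigma, (∀ p ∈ P, MvPolynomial.aeval ξ p = 0) →
            ∀ (S : Finset (Fin d)), S.Nonempty → ∀ (ε : Fin d → k), (∀ i, ε i = 0 ∨ ε i = 1) →
              (∀ i ∈ S, y i = algebraMap k L (ε i)) →
                ¬ (∀ q ∈ I, MvPolynomial.aeval
                    (Sum.elim (fun i => ξ i + t ^ (s * (m + 1)) * algebraMap K L (g i))
                      (Sum.elim (fun _ : Unit => t) y)) q = 0) := by
  classical
  let e : Bool → k := fun b => if b then 1 else 0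
  let J : Fin d → Bool → Ideal (MvPolynomial (Fin r ⊕ (Unit ⊕ Fin d)) k) := fun i b =>
    I ⊔ Ideal.span {MvPolynomial.X (Sum.inr (Sum.inr i)) - MvPolynomial.C (e b)}
  have he : ∀ b : Bool, e b = 0 ∨ e b = 1 := fun b => by cases b <;> simp [e]
  have hJ : ∀ i b, ringKrullDim (MvPolynomial (Fin r ⊕ (Unit ⊕ Fin d)) k ⧸ J i b) ≤ (r - 1 : ℕ) := fun i b => by
    have := hface {i} (Finset.singleton_nonempty i) (fun _ => e b) (fun _ => he b)
    rw [Finset.coe_singleton, Set.image_singleton, Finset.card_singleton] at this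
    exact this
  have hJt : ∀ i b, J i b ⊔ Ideal.span {MvPolynomial.X (Sum.inr (Sum.inl ()))} = ⊤ := fun i b =>
    top_le_iff.1 (ht0 ▸ sup_le_sup_right le_sup_left _)
  choose h h0 hh using fun (x : Sigma × Fin d × Bool) =>
    exists_kernel.{u, w} r (s * (m + 1)) d hr (J x.2.1 x.2.2) (hJ _ _) (hJt _ _) x.1.1 (hSigma _ x.1.2)
  refine ⟨∏ x, h x, Finset.prod_ne_zero_iff.2 fun x _ => h0 x, ?_⟩
  intro K _ _ g hg L _ _ _ _ ξ t y P hP hξ S hS ε hε hy hI'
  obtain ⟨i, hi⟩ := hS
  let b : Bool := decide (ε i = 1)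
  have heb : e b = ε i := by
    rcases hε i with h1 | h1 <;> simp [e, b, h1]
  have key := hh ⟨⟨P, hP⟩, i, b⟩ L ξ t y (fun j => algebraMap K L (g j)) hξ fun q hq => by
    obtain ⟨a, ha, c, hc, rfl⟩ := Submodule.mem_sup.1 hq
    obtain ⟨c, rfl⟩ := Ideal.mem_span_singleton.1 hc
    simp [hI' a ha, heb, hy i hi]
  apply hg
  rw [map_prod]
  refine Finset.prod_eq_zero (i := ⟨⟨P, hP⟩, i, b⟩) (Finset.mem_univ _) ((algebraMap K L).injective ?_)
  rw [map_zero, ← key]
  exact MvPolynomial.comp_aeval_apply (f := g) (IsScalarTower.toAlgHom k K L) _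

end Groth.Agent.S15087
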