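import Groth.Statements.S15088
import Groth.Agent.MovLem71.Basic

set_option autoImplicit false
universe u v
open MovLem

namespace Groth.Agent.S15088

open MvPolynomial in
theorem subst_ne_zero {F : Type u} [Field F] {r : ℕ} (ξ : Fin r → F) (c : F) (hc : c ≠ 0)
    (p : MvPolynomial (Fin r) F) (hp : p ≠ 0) :
    aeval (fun i => C (ξ i) + C c * X i : Fin r → MvPolynomial (Fin r) F) p ≠ 0 := fun h => by
  apply hp
  have := congrArg (aeval (fun i => C c⁻¹ * (X i - C (ξ i)) : Fin r → MvPolynomial (Fin r) F)) h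
  rw [map_zero, MvPolynomial.comp_aeval_apply] at this
  rw [← this]
  conv_lhs => rw [← MvPolynomial.aeval_X_left_apply p]
  congr 2
  funext i
  simp only [map_add, map_mul, MvPolynomial.aeval_C, MvPolynomial.aeval_X, MvPolynomial.algebraMap_eq]
  rw [← mul_assoc, ← map_mul, mul_inv_cancel₀ hc, map_one, one_mul, add_sub_cancel]


/-- Let k be an infinite perfect field, r, m, s ≥ 1 and d ≥ 0, and put N = s(m+1). In affine space with
coordinates x_1, …, x_r, t, y_1, …, y_d let Z = V(I) be an integral closed subscheme of dimension r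
which does not meet t = 0 and such that neither the projection of Z to the x-coordinates nor its
projection to the t-line is dominant (I contains a nonzero polynomial in the x's alone and a nonzero
polynomial in t alone). Let Σ be a finite set of closed points of affine r-space over k. Then there
is a nonzero polynomial h in k[g_1, …, g_r] such that for every field K over k and every g ∈ K^r
with h(g) ≠ 0 the translate Z_g = {(x, t, y) : (x + t^N g, t, y) ∈ Z_K} of Z_K is empty over an open
neighbourhood of the points of affine r-space over K lying over Σ: the closure of the image of Z_g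
in affine r-space over K (the zero set of the contraction to K[x_1, …, x_r] of the ideal of Z_g)
contains no point lying over a point of Σ. (The published statement assumes that Z is an irreducible
admissible additive cycle meeting the faces through Σ properly; of this its proof uses only that Z
misses t = 0, which is a hypothesis here, and the dense open subset of affine r-space is given as
the locus h ≠ 0.) -/
theorem result
    {k : Type u} [Field k] [Infinite k] [PerfectField k] (r m s d : ℕ) (hr : 1 ≤ r) (hm : 1 ≤ m) (hs : 1 ≤ s)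
    (I : Ideal (MvPolynomial (Fin r ⊕ (Unit ⊕ Fin d)) k)) (hI : I.IsPrime)
    (hdim : ringKrullDim (MvPolynomial (Fin r ⊕ (Unit ⊕ Fin d)) k ⧸ I) = r)
    (ht0 : I ⊔ Ideal.span {MvPolynomial.X (Sum.inr (Sum.inl ()))} = ⊤)
    (hx : Ideal.comap (MvPolynomial.rename (Sum.inl : Fin r → Fin r ⊕ (Unit ⊕ Fin d)) :
        MvPolynomial (Fin r) k →ₐ[k] MvPolynomial (Fin r ⊕ (Unit ⊕ Fin d)) k) I ≠ ⊥)
    (ht : Ideal.comap (MvPolynomial.rename (fun _ : Unit => (Sum.inr (Sum.inl ()) : Fin r ⊕ (Unit ⊕ Fin d))) :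
        MvPolynomial Unit k →ₐ[k] MvPolynomial (Fin r ⊕ (Unit ⊕ Fin d)) k) I ≠ ⊥)
    (Sigma : Finset (Ideal (MvPolynomial (Fin r) k))) (hSigma : ∀ P ∈ Sigma, P.IsMaximal) :
    ∃ h : MvPolynomial (Fin r) k, h ≠ 0 ∧
      ∀ (K : Type v) [Field K] [Algebra k K] (g : Fin r → K), MvPolynomial.aeval g h ≠ 0 →
        ∀ P ∈ Sigma,
          Ideal.comap (MvPolynomial.rename (Sum.inl : Fin r → Fin r ⊕ (Unit ⊕ Fin d)) :
              MvPolynomial (Fin r) K →ₐ[K] MvPolynomial (Fin r ⊕ (Unit ⊕ Fin d)) K)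
            (Ideal.map (MvPolynomial.aeval
                (Sum.elim (fun i : Fin r => MvPolynomial.X (Sum.inl i) +
                    MvPolynomial.X (Sum.inr (Sum.inl ())) ^ (s * (m + 1)) * MvPolynomial.C (g i))
                  (fun j : Unit ⊕ Fin d => MvPolynomial.X (Sum.inr j))) :
                MvPolynomial (Fin r ⊕ (Unit ⊕ Fin d)) k →ₐ[k] MvPolynomial (Fin r ⊕ (Unit ⊕ Fin d)) K) I) ⊔
            Ideal.map (MvPolynomial.map (algebraMap k K) : MvPolynomial (Fin r) k →+* MvPolynomial (Fin r) K) P = ⊤ := by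
  classical
  let F := AlgebraicClosure k
  set N := s * (m + 1) with hN
  obtain ⟨p, hp, hp0⟩ := Submodule.exists_mem_ne_zero_of_ne_bot hx
  obtain ⟨f0, hf0, hf00⟩ := Submodule.exists_mem_ne_zero_of_ne_bot ht
  set T : MvPolynomial (Fin r ⊕ (Unit ⊕ Fin d)) k := MvPolynomial.X (Sum.inr (Sum.inl ())) with hT
  let f1 : Polynomial k := MvPolynomial.pUnitAlgEquiv k f0
  have hf1 : Polynomial.aeval T f1 ∈ I := by
    have : (Polynomial.aeval T).comp (MvPolynomial.pUnitAlgEquiv k).toAlgHom = MvPolynomial.rename (fun _ : Unit => (Sum.inr (Sum.inl ()) : Fin r ⊕ (Unit ⊕ Fin d))) := by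
      ext i; simp [hT]
    have e := AlgHom.congr_fun this f0
    exact (show Polynomial.aeval T f1 = _ from e) ▸ hf0
  obtain ⟨f2, hf2, hf2X⟩ := f1.exists_eq_pow_rootMultiplicity_mul_and_not_dvd (by rw [Ne, EmbeddingLike.map_eq_zero_iff]; exact hf00) 0
  rw [map_zero, sub_zero] at hf2X hf2
  have hTI : T ∉ I := fun h => hI.ne_top (by rw [← ht0, sup_eq_left.2 (by rwa [Ideal.span_singleton_le_iff_mem])])
  have hf2I : Polynomial.aeval T f2 ∈ I := by
    rw [hf2, map_mul, map_pow, Polynomial.aeval_X] at hf1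
    exact (hI.mem_or_mem hf1).resolve_left fun h => hTI (hI.mem_of_pow_mem _ h)
  have hf20 : f2 ≠ 0 := fun h => hf2X (h ▸ dvd_zero _)
  let f := f2 * Polynomial.C f2.leadingCoeff⁻¹
  have hfm : f.Monic := Polynomial.monic_mul_leadingCoeff_inv hf20
  have hfI : Polynomial.aeval T f ∈ I := by rw [map_mul]; exact I.mul_mem_right _ hf2I
  have hroot0 : ∀ a ∈ (f.map (algebraMap k F)).roots, a ≠ 0 := fun a ha h => by
    subst h
    rw [Polynomial.mem_roots (hfm.map _).ne_zero, Polynomial.IsRoot.def, Polynomial.eval_map_algebraMap] at ha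
    rw [Polynomial.aeval_def, Polynomial.eval₂_at_zero, map_eq_zero, Polynomial.coeff_mul_C, mul_eq_zero] at ha
    rcases ha with ha | ha
    · exact hf2X (Polynomial.X_dvd_iff.2 ha)
    · exact inv_ne_zero (Polynomial.leadingCoeff_ne_zero.2 hf20) ha
  choose mP hmP0 hmP using fun (P : Sigma) i => Groth.MovLem71.exists_minpoly_mem P.1 (hSigma _ P.2) i
  let Z : Sigma → Finset (Fin r → F) := fun P => Fintype.piFinset fun i => ((mP P i).map (algebraMap k F)).roots.toFinset
  let pF := MvPolynomial.map (algebraMap k F) p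
  let fac : (Fin r → F) → F → MvPolynomial (Fin r) F := fun ξ a =>
    MvPolynomial.aeval (fun i => MvPolynomial.C (ξ i) + MvPolynomial.C (a ^ N) * MvPolynomial.X i) pF
  let H := ∏ P : Sigma, ∏ ξ ∈ Z P, ∏ a ∈ (f.map (algebraMap k F)).roots.toFinset, fac ξ a
  have hH : H ≠ 0 := Finset.prod_ne_zero_iff.2 fun P _ => Finset.prod_ne_zero_iff.2 fun ξ _ => Finset.prod_ne_zero_iff.2 fun a ha =>
    subst_ne_zero ξ _ (pow_ne_zero _ (hroot0 a (Multiset.mem_toFinset.1 ha))) pF
      (fun h => hp0 (MvPolynomial.map_injective _ (algebraMap k F).injective (h.trans (map_zero _).symm)))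
  obtain ⟨h, c, h0, hhc⟩ := Groth.MovLem71.exists_map_multiple (k := k) (F := F) H hH
  refine ⟨h, h0, fun K _ _ g hg P hP => ?_⟩
  by_contra hne
  obtain ⟨M, hM, hle⟩ := Ideal.exists_le_maximal _ hne
  let R := MvPolynomial (Fin r) K
  let fR : Polynomial R := f.map (algebraMap k R)
  haveI : Module.Finite R (AdjoinRoot fR) := (hfm.map _).finite_adjoinRoot
  let uu : Fin r → AdjoinRoot fR := fun i => AdjoinRoot.of fR (MvPolynomial.X i) + AdjoinRoot.root fR ^ N * AdjoinRoot.of fR (MvPolynomial.C (g i))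
  let q := MvPolynomial.aeval (R := k) uu p
  let θ : MvPolynomial (Fin r ⊕ (Unit ⊕ Fin d)) k →ₐ[k] MvPolynomial (Fin r ⊕ (Unit ⊕ Fin d)) K :=
    MvPolynomial.aeval (Sum.elim (fun i : Fin r => MvPolynomial.X (Sum.inl i) +
      MvPolynomial.X (Sum.inr (Sum.inl ())) ^ N * MvPolynomial.C (g i)) (fun j : Unit ⊕ Fin d => MvPolynomial.X (Sum.inr j)))
  let J := Ideal.map θ I
  let rn : R →ₐ[k] MvPolynomial (Fin r ⊕ (Unit ⊕ Fin d)) K := (MvPolynomial.rename Sum.inl).restrictScalars k
  let Φ : AdjoinRoot fR →+* MvPolynomial (Fin r ⊕ (Unit ⊕ Fin d)) K ⧸ J :=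
    AdjoinRoot.lift ((Ideal.Quotient.mk J).comp rn.toRingHom) (Ideal.Quotient.mk J (θ T)) (by
      rw [Polynomial.eval₂_map]
      have : ((Ideal.Quotient.mk J).comp rn.toRingHom).comp (algebraMap k R) =
          (Ideal.Quotient.mk J).comp (algebraMap k (MvPolynomial (Fin r ⊕ (Unit ⊕ Fin d)) K)) :=
        RingHom.ext fun x => congrArg (Ideal.Quotient.mk J) (rn.commutes x)
      rw [this, ← Polynomial.hom_eval₂, ← Polynomial.aeval_def, Polynomial.aeval_algHom_apply]
      exact Ideal.Quotient.eq_zero_iff_mem.2 (Ideal.mem_map_of_mem _ hfI))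
  have hΦu : ∀ i, Φ (uu i) = Ideal.Quotient.mk J (θ (MvPolynomial.X (Sum.inl i))) := fun i => by
    simp [Φ, uu, θ, rn, hT, map_add, map_mul, map_pow]
    erw [MvPolynomial.rename_X, MvPolynomial.rename_C]
  have hΦq : Φ q = 0 := by
    have e : Φ.comp (MvPolynomial.aeval (R := k) uu).toRingHom =
        ((Ideal.Quotient.mk J).comp θ.toRingHom).comp (MvPolynomial.rename Sum.inl).toRingHom := by
      refine MvPolynomial.ringHom_ext (fun x => ?_) fun i => ?_
      · simp only [RingHom.comp_apply, AlgHom.toRingHom_eq_coe, RingHom.coe_coe, MvPolynomial.aeval_C, MvPolynomial.rename_C]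
        rw [IsScalarTower.algebraMap_apply k R (AdjoinRoot fR), AdjoinRoot.algebraMap_eq, AdjoinRoot.lift_of, RingHom.comp_apply,
          ← MvPolynomial.algebraMap_eq, θ.commutes]
        exact congrArg (Ideal.Quotient.mk J) (rn.commutes x)
      · simpa using hΦu i
    exact (RingHom.congr_fun e p).trans (Ideal.Quotient.eq_zero_iff_mem.2 (Ideal.mem_map_of_mem _ hp))
  haveI := hM.isPrime
  obtain ⟨Q, hQq, hQ, hQM⟩ := Ideal.exists_ideal_over_prime_of_isIntegral (S := AdjoinRoot fR) M (Ideal.span {q}) (fun x hx => by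
    apply hle
    refine Ideal.mem_sup_left ?_
    obtain ⟨c, hc⟩ := Ideal.mem_span_singleton.1 (Ideal.mem_comap.1 hx)
    rw [Ideal.mem_comap]
    show rn x ∈ J
    rw [← Ideal.Quotient.eq_zero_iff_mem]
    have : Φ (algebraMap R (AdjoinRoot fR) x) = 0 := by rw [hc, map_mul, hΦq, zero_mul]
    rwa [AdjoinRoot.algebraMap_eq, AdjoinRoot.lift_of] at this)
  let L := AlgebraicClosure (FractionRing (AdjoinRoot fR ⧸ Q))
  let χ : AdjoinRoot fR →+* L := (algebraMap (FractionRing (AdjoinRoot fR ⧸ Q)) L).comp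
    ((algebraMap (AdjoinRoot fR ⧸ Q) (FractionRing (AdjoinRoot fR ⧸ Q))).comp (Ideal.Quotient.mk Q))
  have hχQ : ∀ z ∈ Q, χ z = 0 := fun z hz => by simp [χ, Ideal.Quotient.eq_zero_iff_mem.2 hz]
  let χK : K →+* L := (χ.comp (AdjoinRoot.of fR)).comp MvPolynomial.C
  letI : Algebra k L := (χ.comp (algebraMap k (AdjoinRoot fR))).toAlgebra
  let χa : AdjoinRoot fR →ₐ[k] L := { χ with commutes' := fun _ => rfl }
  let χR : R →ₐ[k] L := χa.comp (IsScalarTower.toAlgHom k R (AdjoinRoot fR))
  have hχRK : ∀ x : K, χR (MvPolynomial.C x) = χK x := fun _ => rfl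
  let σ : F →ₐ[k] L := IsAlgClosed.lift
  obtain ⟨a', ha', ha⟩ := Groth.MovLem71.exists_root_map σ hfm.ne_zero (χ (AdjoinRoot.root fR)) (by
    rw [show χ (AdjoinRoot.root fR) = χa (AdjoinRoot.root fR) from rfl, Polynomial.aeval_algHom_apply,
      ← Polynomial.aeval_map_algebraMap R, AdjoinRoot.aeval_eq, AdjoinRoot.mk_self, map_zero])
  have hcoord : ∀ i, ∃ b ∈ ((mP ⟨P, hP⟩ i).map (algebraMap k F)).roots, σ b = χR (MvPolynomial.X i) := fun i => by
    refine Groth.MovLem71.exists_root_map σ (hmP0 _ i) _ ?_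
    rw [Polynomial.aeval_algHom_apply]
    refine hχQ _ (Ideal.mem_comap.1 (hQM.symm ▸ ?_ : _ ∈ Ideal.comap (algebraMap R (AdjoinRoot fR)) Q))
    refine hle (Ideal.mem_sup_right ?_)
    have e := Ideal.mem_map_of_mem (MvPolynomial.map (algebraMap k K) : MvPolynomial (Fin r) k →+* MvPolynomial (Fin r) K) (hmP ⟨P, hP⟩ i)
    rw [Polynomial.aeval_def, Polynomial.hom_eval₂, MvPolynomial.map_X,
      show (MvPolynomial.map (algebraMap k K)).comp (algebraMap k (MvPolynomial (Fin r) k)) = algebraMap k (MvPolynomial (Fin r) K) from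
        RingHom.ext fun x => MvPolynomial.map_C (algebraMap k K) x] at e
    exact e
  choose ξ hξ hξσ using hcoord
  have hval : MvPolynomial.eval₂ σ.toRingHom (fun i => χK (g i)) (fac ξ a') = 0 := by
    rw [← hχQ q (hQq (Ideal.mem_span_singleton_self q))]
    have e : (MvPolynomial.eval₂Hom σ.toRingHom (fun i => χK (g i))).comp
        (((MvPolynomial.aeval (fun i => MvPolynomial.C (ξ i) + MvPolynomial.C (a' ^ N) * MvPolynomial.X i : Fin r → MvPolynomial (Fin r) F))).toRingHom.comp
          (MvPolynomial.map (algebraMap k F))) = χ.comp (MvPolynomial.aeval (R := k) uu).toRingHom := by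
      refine MvPolynomial.ringHom_ext (fun x => ?_) fun i => ?_
      · simp
        first | exact σ.commutes x | rfl
      · simp [uu, χR, χK, hξσ i, ha]
        rfl
    exact RingHom.congr_fun e p
  apply hg
  refine χK.injective ?_
  rw [map_zero]
  have e2 : MvPolynomial.eval₂ σ.toRingHom (fun i => χK (g i)) (MvPolynomial.map (algebraMap k F) h) = χK (MvPolynomial.aeval g h) := by
    rw [MvPolynomial.eval₂_map, MvPolynomial.aeval_def, ]
    rw [show MvPolynomial.eval₂ (algebraMap k K) g h = MvPolynomial.eval₂Hom (algebraMap k K) g h from rfl, MvPolynomial.map_eval₂Hom]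
    congr 2
    exact RingHom.ext fun x => (σ.commutes x).trans (χR.commutes x).symm
  rw [← e2, hhc, MvPolynomial.eval₂_mul]
  refine mul_eq_zero_of_left ?_ _
  rw [← MvPolynomial.coe_eval₂Hom, map_prod]
  refine Finset.prod_eq_zero (i := ⟨P, hP⟩) (Finset.mem_univ _) ?_
  rw [map_prod]
  refine Finset.prod_eq_zero (i := ξ) (Fintype.mem_piFinset.2 fun i => Multiset.mem_toFinset.2 (hξ i)) ?_
  rw [map_prod]
  exact Finset.prod_eq_zero (i := a') (Multiset.mem_toFinset.2 ha') hval

end Groth.Agent.S15088
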