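import Groth.Statements.S1509
import Groth.Agent.KoszulLCI.Perfect
import Groth.Agent.KoszulLCI.Immersion

set_option autoImplicit false
universe u
attribute [local instance] HasDerivedCategory.standard
open FlatMor

namespace Groth.Agent.S1509

open AlgebraicGeometry CategoryTheory Limits in
/-- A regular closed immersion (kernel ideal locally generated by a regular sequence) is a perfect
morphism. -/
theorem result {Z X : Scheme.{u}} (i : Z ⟶ X) (hi : Mor2.IsRegularClosedImmersion i) : MoreMor.IsPerfectMor i := by
  obtain ⟨hcl, h⟩ := hi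
  have : IsClosedImmersion i := hcl
  have hK : RegImm.IsRegularImmersion .koszul i := by
    refine ⟨inferInstance, fun z => ?_⟩
    obtain ⟨U, hU, hz, rs, hrs, hker⟩ := h z
    exact ⟨⟨U, hU⟩, hz, IsZariskiLocalAtTarget.restrict hcl U, rs,
      Groth.KoszulLCI.isKoszulRegularSeq_of_isWeaklyRegular hrs.toIsWeaklyRegular,
      (Scheme.Hom.ker_apply i ⟨U, hU⟩).symm.trans hker⟩
  intro U V hU hV hUV
  let _ := (i.appLE V U hUV).hom.toAlgebra
  exact Groth.KoszulLCI.isPerfectHom_of_isLCI
    ((Groth.KoszulLCI.morLCI_iff i).mp (Groth.KoszulLCI.morLCI_of_isRegularImmersion i hK) U V hU hV hUV)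

end Groth.Agent.S1509
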