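import Groth.Statements.S1510
import Groth.Agent.PCohHom.PerfCancel

set_option autoImplicit false
universe u
attribute [local instance] HasDerivedCategory.standard
open FlatMor

namespace Groth.Agent.S1510

open AlgebraicGeometry CategoryTheory Limits in
/-- Let f : X → Y and g : Y → S with g smooth and f ≫ g perfect. Then f is perfect. -/
theorem result {X Y S : Scheme.{u}} (f : X ⟶ Y) (g : Y ⟶ S) [Smooth g] (h : MoreMor.IsPerfectMor (f ≫ g)) :
    MoreMor.IsPerfectMor f := by
  exact (Groth.PCohHom.morPerf_iff _).mp (Groth.PCohHom.morPerf_cancel_smooth ((Groth.PCohHom.morPerf_iff _).mpr h))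

end Groth.Agent.S1510
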