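import Groth.Statements.S15100
import Mathlib
import Groth.Agent.RankOneCok.NotFree

set_option autoImplicit false
universe u
open TensorProduct
open CAlg

namespace Groth.Agent.S15100

/-- Let V be a discrete valuation ring with uniformizer u and V → R → A commutative V-algebras with A an
R-algebra compatibly; assume A is a Noetherian local domain of Krull dimension 3 with u in its
maximal ideal, that Ω_{A/V} is a free A-module of rank 2 and that A ⊗_R Ω_{R/V} is a free A-module
of rank 1. Suppose that on the special fibre Ω_{A/R} is locally free exactly away from the closed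
point: for every prime P of A containing u other than the maximal ideal the localization (Ω_{A/R})_P
is free over A_P, while Ω_{A/R} is not free over A. Then Ω_{A/R} is not locally free on the generic
fibre: there is a prime Q of A not containing u with (Ω_{A/R})_Q not free over A_Q. (In the
published statement R is a regular local ring of dimension 2 and A a local ring of dimension 3, both
smooth over V, which yields the two freeness hypotheses used here, and the hypothesis is phrased as
local freeness of Ω of the special fibre of A over that of R away from the closed point.) -/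
theorem result
    (V R A : Type u) [CommRing V] [IsDomain V] [IsDiscreteValuationRing V] [CommRing R] [CommRing A]
    [IsDomain A] [IsNoetherianRing A] [IsLocalRing A]
    [Algebra V R] [Algebra V A] [Algebra R A] [IsScalarTower V R A]
    (u : V) (hu : Irreducible u) (huA : algebraMap V A u ∈ IsLocalRing.maximalIdeal A)
    (hdimA : ringKrullDim A = 3)
    (hΩA : Module.Free A (Ω[A⁄V])) (hrkA : Module.finrank A (Ω[A⁄V]) = 2)
    (hΩR : Module.Free A (A ⊗[R] Ω[R⁄V])) (hrkR : Module.finrank A (A ⊗[R] Ω[R⁄V]) = 1)
    (h0 : ∀ P : PrimeSpectrum A, algebraMap V A u ∈ P.asIdeal → P.asIdeal ≠ IsLocalRing.maximalIdeal A →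
      Module.Free (Localization.AtPrime P.asIdeal) (LocalizedModule P.asIdeal.primeCompl (Ω[A⁄R])))
    (hm : ¬ Module.Free A (Ω[A⁄R])) :
    ∃ Q : PrimeSpectrum A, algebraMap V A u ∉ Q.asIdeal ∧
      ¬ Module.Free (Localization.AtPrime Q.asIdeal) (LocalizedModule Q.asIdeal.primeCompl (Ω[A⁄R])) := by
  haveI := hΩA
  haveI := hΩR
  haveI : Module.Finite A (Ω[A⁄V]) := Module.finite_of_finrank_pos (by omega)
  haveI : Module.Finite A (A ⊗[R] Ω[R⁄V]) := Module.finite_of_finrank_pos (by omega)
  let b : Module.Basis (Fin 2) A (Ω[A⁄V]) := Module.finBasisOfFinrankEq A (Ω[A⁄V]) hrkA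
  let e : Module.Basis (Fin 1) A (A ⊗[R] Ω[R⁄V]) := Module.finBasisOfFinrankEq A _ hrkR
  let g := KaehlerDifferential.map V R A A
  have hg : Function.Surjective g := KaehlerDifferential.map_surjective V R A
  let v := KaehlerDifferential.mapBaseChange V R A (e 0)
  have hker : LinearMap.ker g = Submodule.span A {v} := by
    rw [← KaehlerDifferential.range_mapBaseChange, LinearMap.range_eq_map, ← e.span_eq, Submodule.map_span]
    congr 1
    ext x
    constructor
    · rintro ⟨_, ⟨i, rfl⟩, rfl⟩
      rw [Fin.fin_one_eq_zero i]; rfl
    · rintro rfl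
      exact ⟨_, ⟨0, rfl⟩, rfl⟩
  haveI : Module.Finite A (Ω[A⁄R]) := Module.Finite.of_surjective g hg
  have hv : v ≠ 0 := by
    intro h
    have hi : Function.Injective g := by
      rw [← LinearMap.ker_eq_bot, hker, h, Submodule.span_singleton_eq_bot]
    exact hm (Module.Free.of_equiv (LinearEquiv.ofBijective g ⟨hi, hg⟩))
  have hmem : ∀ i, b.repr v i ∈ IsLocalRing.maximalIdeal A := fun i => by
    rw [IsLocalRing.mem_maximalIdeal]
    exact fun hu => hm (Groth.RankOneCok.free_of_isUnit g hg b v hker i hu)
  let I : Ideal A := Ideal.span {b.repr v 0, b.repr v 1}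
  have hI : I ≤ IsLocalRing.maximalIdeal A := by
    rw [Ideal.span_le]
    rintro x (rfl | rfl) <;> exact hmem _
  obtain ⟨P, hP⟩ := Ideal.nonempty_minimalPrimes (ne_top_of_le_ne_top (IsLocalRing.maximalIdeal.isMaximal A).ne_top hI)
  haveI := hP.1.1
  have hne : P ≠ IsLocalRing.maximalIdeal A := by
    intro h
    have h2 : P.height ≤ 2 := (Ideal.height_le_card_of_mem_minimalPrimes_span (Set.toFinite _) hP).trans (by
      exact_mod_cast (Set.ncard_insert_le _ _).trans (by simp))
    subst h
    have h3 := IsLocalRing.maximalIdeal_height_eq_ringKrullDim (R := A)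
    rw [hdimA] at h3
    have h4 : (IsLocalRing.maximalIdeal A).height = 3 := WithBot.coe_injective (h3.trans (by rfl))
    rw [h4] at h2
    exact absurd h2 (by decide)
  have hnf := Groth.RankOneCok.not_free_localized g hg b v hv hker P
    (hP.1.2 (Ideal.subset_span (by simp))) (hP.1.2 (Ideal.subset_span (by simp)))
  exact ⟨⟨P, inferInstance⟩, fun hu' => hnf (h0 ⟨P, inferInstance⟩ hu' hne), hnf⟩

end Groth.Agent.S15100
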