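import Groth.Statements.S15104
import Groth.Agent.ModelsGraphs.RedFibreAlgClosed
import Groth.Agent.ModelsGraphs.CurveOfModel
import Groth.Agent.S3347

set_option autoImplicit false
set_option linter.unusedSimpArgs false
universe u
open CategoryTheory CategoryTheory.Limits AlgebraicGeometry
open Models

namespace Groth.Agent.S15104

/-- Let R be a discrete valuation ring with algebraically closed residue field k and fraction field K, C
a smooth proper curve over K with H⁰(C, O_C) = K and dim_K H¹(C, O_C) = g ≥ 2, and X → Spec R a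
minimal regular model of C: a regular proper model none of whose vertical prime divisors is an
exceptional curve of the first kind. Let Γ₁, …, Γ_n enumerate the irreducible components of the
closed fibre, with multiplicities r_i having gcd 1, and suppose the closed fibre is not reduced
(some r_i ≥ 2). Then dim_k H¹((X_k)_red, O) < g, the left side computed as the R-length of H¹(X, O_X
/ I) for I the ideal sheaf of the reduced closed fibre. (The published lemma states this for any
regular model with gcd(r_i) = 1; its proof uses, in the last step, that the component added last is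
not an exceptional curve, the standing hypothesis of the result it serves, and the inequality fails
after blowing up a node of a reduced semi-stable fibre, so minimality is assumed here.) -/
theorem result
    (R : Type u) [CommRing R] [IsDomain R] [IsDiscreteValuationRing R]
    (hk : IsAlgClosed (IsLocalRing.ResidueField R))
    (C : Scheme.{u}) (fC : C ⟶ (Spec (CommRingCat.of (FractionRing R)))) [IsProper fC] [Smooth fC]
    (hC0 : Models.hRank (FractionRing R) C fC (Coh.structureModule C) 0 = 1)
    (g : ℕ) (hg2 : 2 ≤ g) (hg : Models.curveGenus (FractionRing R) C fC = g)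
    (X : Scheme.{u}) (p : X ⟶ (Spec (CommRingCat.of R))) (hX : Models.IsMinimalModel R X p C fC)
    {n : ℕ} (Γ : Fin n → ArSurf.VertComp R (Over.mk p)) (hΓ : Models.IsComponentList R (Over.mk p) Γ)
    (hgcd : Models.multGcd R (Over.mk p) Γ = 1) (hnr : ∃ i, 2 ≤ Models.mult R (Over.mk p) (Γ i)) :
    Models.lengthH R (Over.mk p) (ClSub.quotMod (Models.redFibreIdeal R (Over.mk p))) 1 < g := by
  obtain ⟨hC, hH0⟩ := Groth.ModelsGraphs.CurveOfModel.isSmoothProperCurve fC hC0
    (by rw [hg]; omega) hX.1 hΓ
  obtain ⟨L, hL⟩ := Groth.ModelsGraphs.InterLattice.exists_inverses fC p hX.1 Γ hΓ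
  obtain ⟨S, rfl, -⟩ := Groth.ModelsGraphs.InterLattice.exists_sit fC p hH0 hX.1 Γ hΓ L hL
  have hmin := (Groth.Agent.S3347.result R C X fC p hC hH0 hX.1 S.Γs hΓ L hL).1 hX
  obtain ⟨⟨h1, h2, h3, g', hg'⟩, h4, hreg⟩ := id hX.1
  haveI : Flat (Over.mk p).hom := h1
  haveI : IsProper (Over.mk p).hom := h4
  haveI := hk
  haveI : IsIntegral C := hC.2.2.1
  haveI : IsLocallyNoetherian (Over.mk p).left :=
    LocallyOfFiniteType.isLocallyNoetherian (Over.mk p).hom
  haveI : CompactSpace (Over.mk p).left := QuasiCompact.compactSpace_of_compactSpace (Over.mk p).hom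
  have hb : ∀ j, Models.mult R (Over.mk p) (S.Γs j) =
      Models.multGcd R (Over.mk p) S.Γs * Models.mult R (Over.mk p) (S.Γs j) := fun j => by
    rw [hgcd, one_mul]
  have hred := Groth.ModelsGraphs.RedFibre.redFibreIdeal_eq (X := Over.mk p) hreg hΓ
  have hfibre := Groth.ModelsGraphs.Inter.specialFibreIdeal_eq (X := Over.mk p) hreg hΓ
  have hF1 := Groth.ModelsGraphs.FieldChain.isFieldSub_one hreg hΓ hL S.glob (S.n_pos g')
  obtain ⟨m, a, -, ham, -, hfld⟩ := Groth.ModelsGraphs.FieldChain.exists_chain hreg hΓ hL S.glob hb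
    _ (fun _ => 1) (fun _ => le_rfl) (fun j => S.m_pos j) le_rfl hF1
  have hF := hfld (Fin.last m)
  rw [ham] at hF
  have h0 := Groth.ModelsGraphs.RedFibre.lengthH_zero_eq_one_of_isAlgClosed (X := Over.mk p) _ hF
  have h0r := Groth.ModelsGraphs.RedFibre.lengthH_zero_eq_one_of_isAlgClosed (X := Over.mk p) _ hF1
  obtain ⟨i, hi⟩ := hnr
  have hone : (fun _ => 1) ≠ fun j => Models.mult R (Over.mk p) (S.Γs j) := fun h => by
    have := congrFun h i
    omega
  have hlt := Groth.ModelsGraphs.RedFibre.chi_lt hreg hΓ hL S.glob hb hmin _ (fun _ => 1) (fun _ => le_rfl)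
    (fun j => S.m_pos j) le_rfl hone
  have hχ := Groth.ModelsGraphs.ChiDivided.one_sub_genus_eq hreg hΓ hL fC (le_of_eq hC.2.2.2) hH0 g' hg' 1
    (fun j => Models.mult R (Over.mk p) (S.Γs j)) (fun j => (one_mul _).symm)
  simp only [Groth.ModelsGraphs.FieldChain.ideal, pow_one] at h0 h0r
  simp only [pow_one] at hlt
  rw [Groth.ModelsGraphs.ChiStep.chi_eq_lengthH, Groth.ModelsGraphs.ChiStep.chi_eq_lengthH] at hlt
  rw [hg] at hχ
  rw [hred]
  rw [h0, h0r] at hlt
  rw [h0] at hχ
  push_cast at hlt hχ
  omega

end Groth.Agent.S15104
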