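import Groth.Statements.S15115
import Groth.Agent.GitQuot.Reynolds

set_option autoImplicit false
universe u
open HopfRep

namespace Groth.Agent.S15115

open TensorProduct in
/-- Let k be an algebraically closed field, H a finite-dimensional commutative Hopf algebra over k all
of whose finite-dimensional comodules are semisimple (a finite linearly reductive group scheme G
over k), A a commutative k-algebra, and M an A-module with an H-coaction that is A-linear (G acts on
M by A-module maps, A carrying the trivial action). Let A' be a commutative A-algebra and N = A' ⊗_A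
M its base change, exhibited by an A-linear map φ : M → N, with the induced coaction: A'-linear and
compatible with φ. Then invariants commute with this base change: writing M^G for the A-submodule of
coinvariant elements of M, the natural map A' ⊗_A M^G → N, a' ⊗ m ↦ a' φ(m), is injective and its
image is exactly the set of coinvariant elements of N. (The published statement is the isomorphism
ρ^* π_* F → π'_* σ^* F for a tame Deligne–Mumford stack with coarse moduli space π and any base
change ρ of the coarse space; this row is the statement about invariants to which its proof reduces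
it, for modules that need not be finitely generated.) -/
theorem result (k : Type u) [Field k] [IsAlgClosed k]
    (H : Type u) [CommRing H] [HopfAlgebra k H] [Module.Finite k H] (hred : HopfRep.IsLinearlyReductive k H)
    (A : Type u) [CommRing A] [Algebra k A]
    (M : Type u) [AddCommGroup M] [Module k M] [Module A M] [IsScalarTower k A M] [HopfRep.Comod k H M]
    (hlin : ∀ (a : A) (m : M), HopfRep.Comod.coact (k := k) (A := H) (a • m) = a • HopfRep.Comod.coact (k := k) (A := H) m)
    (A' : Type u) [CommRing A'] [Algebra k A'] [Algebra A A'] [IsScalarTower k A A']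
    (N : Type u) [AddCommGroup N] [Module k N] [Module A N] [Module A' N]
    [IsScalarTower k A N] [IsScalarTower A A' N] [IsScalarTower k A' N] [HopfRep.Comod k H N]
    (φ : M →ₗ[A] N) (hφ : IsBaseChange A' φ)
    (hcomp : ∀ m : M, HopfRep.Comod.coact (k := k) (A := H) (φ m) =
      LinearMap.rTensor H (φ.restrictScalars k) (HopfRep.Comod.coact (k := k) (A := H) m))
    (hlinN : ∀ (a' : A') (n : N), HopfRep.Comod.coact (k := k) (A := H) (a' • n) = a' • HopfRep.Comod.coact (k := k) (A := H) n)
    (P : Submodule A M) (hP : (P : Set M) = (HopfRep.fixedPts k H M : Set M)) :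
    Function.Injective (TensorProduct.lift (((Algebra.lsmul A A N : A' →ₐ[A] Module.End A N).toLinearMap).compl₂ (φ ∘ₗ P.subtype))) ∧
      Set.range (TensorProduct.lift (((Algebra.lsmul A A N : A' →ₐ[A] Module.End A N).toLinearMap).compl₂ (φ ∘ₗ P.subtype))) =
        (HopfRep.fixedPts k H N : Set N) := by
  obtain ⟨E, hE⟩ := Groth.GitQuot.exists_reynolds (V := M) (A := H) hred
  obtain ⟨E', hE'⟩ := Groth.GitQuot.exists_reynolds (V := N) (A := H) hred
  have hsM : ∀ a : A, Hoch.IsComodHom H ((LinearMap.lsmul A M a).restrictScalars k) := fun a => by
    refine LinearMap.ext fun m => ?_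
    change HopfRep.Comod.coact (k := k) (A := H) (a • m) = _
    rw [hlin, LinearMap.comp_apply]
    generalize HopfRep.Comod.coact (k := k) (A := H) m = z
    induction z using TensorProduct.induction_on with
    | zero => simp
    | tmul p q => simp [TensorProduct.smul_tmul']
    | add p q hp hq => simp only [smul_add, map_add, hp, hq]
  have hsN : ∀ a' : A', Hoch.IsComodHom H ((LinearMap.lsmul A' N a').restrictScalars k) := fun a' => by
    refine LinearMap.ext fun n => ?_
    change HopfRep.Comod.coact (k := k) (A := H) (a' • n) = _
    rw [hlinN, LinearMap.comp_apply]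
    generalize HopfRep.Comod.coact (k := k) (A := H) n = z
    induction z using TensorProduct.induction_on with
    | zero => simp
    | tmul p q => simp [TensorProduct.smul_tmul']
    | add p q hp hq => simp only [smul_add, map_add, hp, hq]
  have hφ' : Hoch.IsComodHom H (φ.restrictScalars k) := LinearMap.ext fun m => hcomp m
  have hmemP : ∀ {m : M}, m ∈ P ↔ m ∈ HopfRep.fixedPts k H M := fun {m} => Set.ext_iff.1 hP m
  let Q : M →ₗ[A] P :=
    { toFun := fun m => ⟨E m, hmemP.2 (hE.apply_mem m)⟩
      map_add' := fun x y => Subtype.ext (E.map_add x y)
      map_smul' := fun a x => Subtype.ext (LinearMap.congr_fun (hE.natural hred hE (hsM a)) x) }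
  let L := TensorProduct.lift (((Algebra.lsmul A A N : A' →ₐ[A] Module.End A N).toLinearMap).compl₂ (φ ∘ₗ P.subtype))
  have hL : ∀ z : A' ⊗[A] P, L z = hφ.equiv (P.subtype.lTensor A' z) := by
    intro z
    induction z using TensorProduct.induction_on with
    | zero => simp
    | tmul p q => simp [L, IsBaseChange.equiv_tmul]
    | add p q hp hq => simp only [map_add, hp, hq]
  have hQ : Q ∘ₗ P.subtype = LinearMap.id := LinearMap.ext fun x => Subtype.ext ((hE.fixed _).2 (hmemP.1 x.2))
  have hEN : ∀ n : N, E' n ∈ Set.range L := by
    intro n
    refine hφ.inductionOn n (fun n => E' n ∈ Set.range L) ⟨0, by simp⟩ (fun m => ?_) (fun s n hn => ?_) (fun a b ha hb => ?_)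
    · refine ⟨(1 : A') ⊗ₜ Q m, ?_⟩
      have h := LinearMap.congr_fun (hE.natural hred hE' hφ') m
      simpa [L, Q] using h.symm
    · obtain ⟨z, hz⟩ := hn
      have h := LinearMap.congr_fun (hE'.natural hred hE' (hsN s)) n
      refine ⟨(LinearMap.lsmul A' A' s).restrictScalars A |>.rTensor P z, ?_⟩
      refine Eq.trans ?_ h.symm
      change L _ = s • E' n
      rw [← hz]
      clear hz h
      induction z using TensorProduct.induction_on with
      | zero => simp
      | tmul p q => simp [L, mul_smul]
      | add p q hp hq => simp only [map_add, smul_add, hp, hq]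
    · obtain ⟨x, hx⟩ := ha
      obtain ⟨y, hy⟩ := hb
      exact ⟨x + y, by rw [map_add, hx, hy, map_add]⟩
  refine ⟨?_, Set.eq_of_subset_of_subset ?_ fun n hn => ?_⟩
  · have hinj : Function.Injective (P.subtype.lTensor A') :=
      Function.LeftInverse.injective (g := Q.lTensor A') fun z => by
        rw [← LinearMap.lTensor_comp_apply, hQ, LinearMap.lTensor_id_apply]
    intro x y hxy
    exact hinj (hφ.equiv.injective (by rw [← hL, ← hL]; exact hxy))
  · rintro _ ⟨z, rfl⟩
    induction z using TensorProduct.induction_on with
    | zero => rw [map_zero]; exact (HopfRep.fixedPts k H N).zero_mem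
    | tmul p q =>
      have h1 : φ (q : M) ∈ HopfRep.fixedPts k H N := Groth.GitQuot.map_mem_fixedPts hφ' (hmemP.1 q.2)
      have h2 := Groth.GitQuot.map_mem_fixedPts (hsN p) h1
      simpa using h2
    | add p q hp hq => rw [map_add]; exact (HopfRep.fixedPts k H N).add_mem hp hq
  · rw [← (hE'.fixed n).2 hn]
    exact hEN n

end Groth.Agent.S15115
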