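import Groth.Statements.S15116


set_option autoImplicit false
universe u v
open NRGIT

namespace Groth.Agent.S15116

/-- Let k be a characteristic-zero field and A a commutative k-algebra, graded by the integers with all
pieces of positive degree zero, and D a k-derivation of A that raises degrees by a fixed positive
integer l. If no maximal ideal of A contains both every piece of negative degree and the image of D,
then there is f with D f = 1. (The published statement is for an affine variety with an action of
the semidirect product of the additive and multiplicative groups, the multiplicative group acting on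
the coordinate ring with non-positive weights and on the Lie algebra of the additive group with
positive weight: the derivation is a generator of that Lie algebra, the maximal ideals containing
the pieces of negative degree are the limit points under the multiplicative group, and a limit point
has trivial additive stabiliser exactly when the image of D is not contained in its ideal; this row
keeps only this algebraic content, for any such graded algebra. The first assertion of the published
lemma, that every point has a limit in the variety under the multiplicative group as t → 0, is not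
part of this row.) -/
theorem result (k : Type u) [Field k] [CharZero k]
    (A : Type v) [CommRing A] [Algebra k A] (𝒜 : ℤ → Submodule k A) [GradedAlgebra 𝒜]
    (hpos : ∀ i : ℤ, 0 < i → 𝒜 i = ⊥)
    (D : Derivation k A A) (l : ℤ) (hl : 0 < l)
    (hD : ∀ (i : ℤ) (a : A), a ∈ 𝒜 i → D a ∈ 𝒜 (i + l))
    (hfree : ∀ m : Ideal A, m.IsMaximal → (∀ i : ℤ, i < 0 → (𝒜 i : Set A) ⊆ m) → ∃ a : A, D a ∉ m) :
    ∃ f : A, D f = 1 := by
  classical
  let π : A → A := fun a => (DirectSum.decompose 𝒜 a 0 : A)
  have hπadd : ∀ a b, π (a + b) = π a + π b := by intro a b; simp [π, DirectSum.decompose_add]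
  have hπmem : ∀ a, π a ∈ 𝒜 0 := fun a => SetLike.coe_mem _
  have hπdeg : ∀ (i : ℤ) (a : A), i ≠ 0 → a ∈ 𝒜 i → π a = 0 := fun i a hi ha =>
    DirectSum.decompose_of_mem_ne 𝒜 ha hi
  have hmul : ∀ a x : A, π (a * x) = π a * π x := by
    intro a x
    induction a using DirectSum.Decomposition.inductionOn 𝒜 with
    | zero => simp [π]
    | add p q hp hq => rw [add_mul, hπadd, hπadd, add_mul, hp, hq]
    | homogeneous p =>
      rename_i i
      induction x using DirectSum.Decomposition.inductionOn 𝒜 with
      | zero => simp [π]
      | add y z hy hz => rw [mul_add, hπadd, hπadd, mul_add, hy, hz]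
      | homogeneous y =>
        rename_i j
        have hpy : (p : A) * y ∈ 𝒜 (i + j) := SetLike.mul_mem_graded p.2 y.2
        by_cases hp0 : i = 0
        · by_cases hy0 : j = 0
          · subst hp0; subst hy0
            rw [add_zero] at hpy
            simp only [π, DirectSum.decompose_of_mem_same 𝒜 hpy, DirectSum.decompose_of_mem_same 𝒜 p.2,
              DirectSum.decompose_of_mem_same 𝒜 y.2]
          · rw [hπdeg _ _ hy0 y.2, mul_zero, hπdeg _ _ (by omega) hpy]
        · rw [hπdeg _ _ hp0 p.2, zero_mul]
          by_cases hij : i + j = 0
          · rcases lt_or_gt_of_ne hp0 with h | h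
            · have : (y : A) = 0 := by
                exact (Submodule.mem_bot k).mp ((hpos j (by omega)) ▸ SetLike.coe_mem y)
              simp [π, this]
            · have : (p : A) = 0 := by
                exact (Submodule.mem_bot k).mp ((hpos i h) ▸ SetLike.coe_mem p)
              simp [π, this]
          · exact hπdeg _ _ hij hpy
  let J : Ideal A :=
    { carrier := {x | ∃ f, D f = π x}
      add_mem' := fun {x y} ⟨f, hf⟩ ⟨f', hf'⟩ => ⟨f + f', by rw [map_add, hf, hf', hπadd]⟩
      zero_mem' := ⟨0, by simp [π]⟩
      smul_mem' := fun a x ⟨f, hf⟩ => ⟨π a * f, by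
        have h0 : D (π a) = 0 := by
          have := hD 0 (π a) (hπmem a)
          rwa [zero_add, hpos l hl] at this
        rw [smul_eq_mul, hmul, Derivation.leibniz, h0, hf]
        simp [smul_eq_mul]⟩ }
  have hJ : J = ⊤ := by
    by_contra hne
    obtain ⟨m, hm, hle⟩ := Ideal.exists_le_maximal J hne
    obtain ⟨a, ha⟩ := hfree m hm fun i hi x hx => hle ⟨0, by rw [map_zero, hπdeg i x hi.ne hx]⟩
    apply ha
    apply hle
    clear ha
    refine ⟨(DirectSum.decompose 𝒜 a (-l) : A), ?_⟩
    induction a using DirectSum.Decomposition.inductionOn 𝒜 with
    | zero => simp [π]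
    | add p q hp hq =>
      rw [DirectSum.decompose_add, DirectSum.add_apply, Submodule.coe_add, map_add, map_add, hπadd, hp, hq]
    | homogeneous p =>
      rename_i i
      by_cases hi : i = -l
      · subst hi
        have := hD _ _ p.2
        rw [neg_add_cancel] at this
        rw [DirectSum.decompose_of_mem_same 𝒜 p.2]
        exact (DirectSum.decompose_of_mem_same 𝒜 this).symm
      · rw [DirectSum.decompose_of_mem_ne 𝒜 p.2 hi, map_zero,
          hπdeg _ _ (by omega) (hD _ _ p.2)]
  obtain ⟨f, hf⟩ := (hJ ▸ Submodule.mem_top : (1 : A) ∈ J)
  refine ⟨f, hf.trans ?_⟩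
  exact DirectSum.decompose_of_mem_same 𝒜 SetLike.GradedOne.one_mem

end Groth.Agent.S15116
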