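import Groth.Statements.S15117
-- import your own Groth.Agent.* helpers here

set_option autoImplicit false
universe u v w
open TensorProduct
open NRGIT

namespace Groth.Agent.S15117

/-- Let k be a field, π : A → B a map of commutative bialgebras over k, W a right A-comodule and V ⊆ W a
subcomodule all of whose elements are coinvariant for the B-coaction induced through π. Then the
coaction of every v ∈ V lies in V ⊗ A' ⊆ W ⊗ A, where A' ⊆ A is the set of elements a with (π ⊗
id)(Δ a) = 1 ⊗ a, i.e. coinvariant for the coaction of B on A through π on the left factor; the row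
states membership in the span of the pure tensors w ⊗ a with w ∈ V and a ∈ A'. (The published
statement is for a linear algebraic group H over an algebraically closed field of characteristic
zero, a normal subgroup N and an H-stable space V of N-invariant sections of a linearised line
bundle, with the coaction landing in O(H)^N ⊗ V, where O(H)^N is the ring of functions on H
invariant under N acting by right multiplication; this row is the comodule form, for any bialgebra
map over a field, where normality of N is not needed.) -/
theorem result (k : Type u) [Field k]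
    (A B : Type v) [CommRing A] [CommRing B] [Bialgebra k A] [Bialgebra k B] (π : A →ₐc[k] B)
    (W : Type w) [AddCommGroup W] [Module k W] [HopfRep.Comod k A W]
    (V : Submodule k W) (hV : HopfRep.IsSubcomod (k := k) (A := A) V)
    (hfix : ∀ v ∈ V, (π.toLinearMap.lTensor W) (HopfRep.Comod.coact (k := k) (A := A) v) = v ⊗ₜ[k] (1 : B))
    (v : W) (hv : v ∈ V) :
    HopfRep.Comod.coact (k := k) (A := A) v ∈
      Submodule.span k {x : W ⊗[k] A | ∃ w ∈ V, ∃ a : A,
        (π.toLinearMap.rTensor A) (Coalgebra.comul (R := k) a) = (1 : B) ⊗ₜ[k] a ∧ x = w ⊗ₜ[k] a} := by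
  classical
  let b := Module.Free.chooseBasis k V
  obtain ⟨x, hx⟩ := hV v hv
  let e : V ⊗[k] A ≃ₗ[k] (Module.Free.ChooseBasisIndex k V →₀ A) :=
    TensorProduct.equivFinsuppOfBasisLeft b
  have hx' : x = (e x).sum fun i a => b i ⊗ₜ[k] a := by
    conv_lhs => rw [← e.symm_apply_apply x]
    exact TensorProduct.equivFinsuppOfBasisLeft_symm_apply b (e x)
  set c := e x
  rw [← hx, hx', map_finsuppSum]
  refine Submodule.finsuppSum_mem _ _ _ _ fun i hi => Submodule.subset_span ?_
  refine ⟨b i, (b i).2, c i, ?_, by simp⟩
  have hco := LinearMap.congr_fun (HopfRep.Comod.coassoc (k := k) (A := A) (V := W)) v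
  simp only [LinearMap.comp_apply, LinearEquiv.coe_coe] at hco
  rw [← hx, hx'] at hco
  simp only [map_finsuppSum, LinearMap.rTensor_tmul, Submodule.subtype_apply, LinearMap.lTensor_tmul] at hco
  have h := congrArg ((π.toLinearMap.rTensor A).lTensor W) hco
  simp only [map_finsuppSum, LinearMap.lTensor_tmul] at h
  have key : ∀ (w : W) (a : A), w ∈ V → ((π.toLinearMap.rTensor A).lTensor W)
      ((TensorProduct.assoc k W A A) ((HopfRep.Comod.coact (k := k) (A := A) w) ⊗ₜ[k] a)) =
      w ⊗ₜ[k] ((1 : B) ⊗ₜ[k] a) := by
    intro w a hw
    have : ∀ z : W ⊗[k] A, ((π.toLinearMap.rTensor A).lTensor W) ((TensorProduct.assoc k W A A) (z ⊗ₜ[k] a)) =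
        (TensorProduct.assoc k W B A) ((π.toLinearMap.lTensor W z) ⊗ₜ[k] a) := by
      intro z
      induction z using TensorProduct.induction_on with
      | zero => simp
      | tmul p q => simp
      | add p q hp hq => simp only [TensorProduct.add_tmul, map_add, hp, hq]
    rw [this, hfix w hw, TensorProduct.assoc_tmul]
  rw [Finsupp.sum_congr (g2 := fun i a => (b i : W) ⊗ₜ[k] ((1 : B) ⊗ₜ[k] a))
    (fun j _ => key _ _ (b j).2)] at h
  have hinj : Function.Injective ((V.subtype).rTensor (B ⊗[k] A)) :=
    Module.Flat.rTensor_preserves_injective_linearMap _ Subtype.val_injective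
  have h2 : c.sum (fun i a => b i ⊗ₜ[k] ((1 : B) ⊗ₜ[k] a)) =
      c.sum (fun i a => b i ⊗ₜ[k] ((π.toLinearMap.rTensor A) (Coalgebra.comul (R := k) a))) := by
    apply hinj
    simp only [map_finsuppSum, LinearMap.rTensor_tmul, Submodule.subtype_apply]
    exact h
  have h3 := congrArg (TensorProduct.equivFinsuppOfBasisLeft b) h2
  have h4 := DFunLike.congr_fun h3 i
  simp only [map_finsuppSum, TensorProduct.equivFinsuppOfBasisLeft_apply_tmul, Module.Basis.repr_self,
    Finsupp.mapRange_single, one_smul, Finsupp.sum_apply, Finsupp.single_apply] at h4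
  simpa [Finsupp.sum, Finset.sum_ite_eq', hi] using h4.symm

end Groth.Agent.S15117
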