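import Groth.Statements.S15118
import Groth.Agent.GitLin.OrbitQuot
import Mathlib.AlgebraicGeometry.AlgClosed.Basic

set_option autoImplicit false
universe u
open CategoryTheory MonoidalCategory CartesianMonoidalCategory MonObj GrpObj AlgebraicGeometry Topology
open NRGIT

namespace Groth.Agent.S15118

/-- Over an algebraically closed field k of characteristic zero, let H be a linear algebraic group
(affine, reduced, of finite type) with a closed normal subgroup N and quotient q : H → Q (a
surjective homomorphism with kernel N), acting on a variety X (reduced, separated, of finite type);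
let the restricted action of N have a geometric quotient π : X → Y with Y a variety, and let Q act
on Y so that π is equivariant along q. Then every orbit of a geometric point of Y under Q is closed
exactly when every orbit of a geometric point of X under H is closed. (The published lemma assumes
in addition that the stabilisers of the N-action are finite, which this part does not use; it takes
geometric quotients in the sense of affine good quotients that are orbit spaces, while this row uses
a universally submersive geometric quotient that need not be affine; the induced action of Q on Y is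
taken as a datum together with the equivariance of π.) -/
theorem result (k : Type u) [Field k] [IsAlgClosed k] [CharZero k]
    (H N Q X Y : Over (Spec (CommRingCat.of k))) [GrpObj H] [GrpObj N] [GrpObj Q]
    [IsAffine H.left] [LocallyOfFiniteType H.hom] [IsReduced H.left]
    [IsAffine N.left] [LocallyOfFiniteType N.hom] [IsReduced N.left]
    [IsAffine Q.left] [LocallyOfFiniteType Q.hom] [IsReduced Q.left]
    [LocallyOfFiniteType X.hom] [QuasiCompact X.hom] [IsSeparated X.hom] [IsReduced X.left]
    [LocallyOfFiniteType Y.hom] [QuasiCompact Y.hom] [IsSeparated Y.hom] [IsReduced Y.left]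
    (i : N ⟶ H) [IsMonHom i] [IsClosedImmersion i.left] (hnorm : AlgGrp.IsNormalHom i)
    (q : H ⟶ Q) [IsMonHom q] [Surjective q.left] (hker : AlgGrp.IsKernel i q)
    (a : AlgGrp.Action H X) (aN : AlgGrp.Action N X) (haN : aN.act = (i ▷ X) ≫ a.act)
    (π : X ⟶ Y) (hπ : GIT.IsGeomQuot aN π)
    (aQ : AlgGrp.Action Q Y) (hequiv : (q ⊗ₘ π) ≫ aQ.act = a.act ≫ π) :
    GIT.IsClosedAction aQ ↔ GIT.IsClosedAction a := by
  have key : ∀ {T : Over (Spec (CommRingCat.of k))} (f : T ⟶ X),
      IsClosed (Set.range (GIT.psi a f).left.base) ↔
        IsClosed (Set.range (GIT.psi aQ (f ≫ π)).left.base) := fun {T} f => by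
    rw [Groth.GitLin.range_psi_eq_preimage q i a aN haN π hπ.inv hπ.orbit aQ hequiv f]
    exact (Groth.GitLin.isQuotientMap_whiskerRight π hπ.subm T).isClosed_preimage
  constructor
  · intro h Ω _ _ T e f
    exact (key f).2 (h Ω T e (f ≫ π))
  · intro h Ω _ _ T e g
    have : LocallyOfFiniteType π.left := by
      have : LocallyOfFiniteType (π.left ≫ Y.hom) := by rw [Over.w π]; infer_instance
      exact locallyOfFiniteType_of_comp π.left Y.hom
    let p₂ := Limits.pullback.snd π.left g.left
    let F : Limits.pullback π.left g.left ⟶ Spec (CommRingCat.of Ω) := p₂ ≫ e.hom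
    have : LocallyOfFiniteType F := inferInstance
    have hJ : JacobsonSpace ↥(Limits.pullback π.left g.left) := LocallyOfFiniteType.jacobsonSpace F
    obtain ⟨x₀, hx₀⟩ := hπ.surj (g.left (e.inv (IsLocalRing.closedPoint Ω)))
    obtain ⟨z, -, -⟩ := Scheme.Pullback.exists_preimage_pullback (f := π.left) (g := g.left) x₀ _ hx₀
    obtain ⟨z, hz⟩ : (closedPoints ↥(Limits.pullback π.left g.left)).Nonempty := by
      have h1 := closure_closedPoints (X := ↥(Limits.pullback π.left g.left))
      by_contra hne
      rw [Set.not_nonempty_iff_eq_empty] at hne
      rw [hne, closure_empty] at h1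
      exact (h1.ge (Set.mem_univ z) : z ∈ (∅ : Set _))
    let sec := pointOfClosedPoint F z hz
    let f : T ⟶ X := Over.homMk (e.hom ≫ sec ≫ Limits.pullback.fst π.left g.left) (by
      rw [← Over.w π, Category.assoc, Category.assoc, Limits.pullback.condition_assoc, Over.w g]
      have h2 : sec ≫ p₂ = e.inv := by
        rw [← cancel_mono e.hom, Category.assoc, Iso.inv_hom_id]
        exact pointOfClosedPoint_comp F z hz
      rw [reassoc_of% h2, Iso.hom_inv_id_assoc])
    have hf : f ≫ π = g := by
      refine Over.OverMorphism.ext ?_
      change (e.hom ≫ sec ≫ Limits.pullback.fst π.left g.left) ≫ π.left = g.left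
      rw [Category.assoc, Category.assoc, Limits.pullback.condition, ← Category.assoc sec]
      have h2 : sec ≫ p₂ = e.inv := by
        rw [← cancel_mono e.hom, Category.assoc, Iso.inv_hom_id]
        exact pointOfClosedPoint_comp F z hz
      rw [show sec ≫ Limits.pullback.snd π.left g.left = e.inv from h2, Iso.hom_inv_id_assoc]
    exact hf ▸ (key f).1 (h Ω T e f)

end Groth.Agent.S15118
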