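import Groth.Statements.S15119
import Groth.Agent.Misc8.StabFinite
import Groth.Agent.AlgGrp2.Basic

set_option autoImplicit false
universe u
open CategoryTheory MonoidalCategory CartesianMonoidalCategory MonObj GrpObj AlgebraicGeometry Topology
open NRGIT

namespace Groth.Agent.S15119

/-- Over an algebraically closed field k of characteristic zero, let H be a linear algebraic group
(affine, reduced, of finite type) with a closed normal subgroup N and quotient q : H → Q (a
surjective homomorphism with kernel N), acting on a variety X (reduced, separated, of finite type);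
let the restricted action of N have a geometric quotient π : X → Y with Y a variety, and let Q act
on Y so that π is equivariant along q, and assume the stabilisers of the geometric points of X under
N are finite. Then for every geometric point x of X, the stabiliser of π(x) in Q is finite exactly
when the stabiliser of x in H is finite (stabilisers are group schemes over the field of definition
of the point, and finite replaces 'a finite group of points', the same for group schemes of finite
type over an algebraically closed field; the published lemma takes geometric quotients in the sense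
of affine good quotients that are orbit spaces, while this row uses a universally submersive
geometric quotient that need not be affine; the induced action of Q on Y is taken as a datum
together with the equivariance of π). -/
theorem result (k : Type u) [Field k] [IsAlgClosed k] [CharZero k]
    (H N Q X Y : Over (Spec (CommRingCat.of k))) [GrpObj H] [GrpObj N] [GrpObj Q]
    [IsAffine H.left] [LocallyOfFiniteType H.hom] [IsReduced H.left]
    [IsAffine N.left] [LocallyOfFiniteType N.hom] [IsReduced N.left]
    [IsAffine Q.left] [LocallyOfFiniteType Q.hom] [IsReduced Q.left]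
    [LocallyOfFiniteType X.hom] [QuasiCompact X.hom] [IsSeparated X.hom] [IsReduced X.left]
    [LocallyOfFiniteType Y.hom] [QuasiCompact Y.hom] [IsSeparated Y.hom] [IsReduced Y.left]
    (i : N ⟶ H) [IsMonHom i] [IsClosedImmersion i.left] (hnorm : AlgGrp.IsNormalHom i)
    (q : H ⟶ Q) [IsMonHom q] [Surjective q.left] (hker : AlgGrp.IsKernel i q)
    (a : AlgGrp.Action H X) (aN : AlgGrp.Action N X) (haN : aN.act = (i ▷ X) ≫ a.act)
    (hfin : ∀ (Ω : Type u) [Field Ω] [IsAlgClosed Ω] (T : Over (Spec (CommRingCat.of k)))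
      (_ : T.left ≅ Spec (CommRingCat.of Ω)) (f : T ⟶ X), IsFinite (GLinSh.stabTo aN f))
    (π : X ⟶ Y) (hπ : GIT.IsGeomQuot aN π)
    (aQ : AlgGrp.Action Q Y) (hequiv : (q ⊗ₘ π) ≫ aQ.act = a.act ≫ π)
    (Ω : Type u) [Field Ω] [IsAlgClosed Ω] (T : Over (Spec (CommRingCat.of k)))
    (e : T.left ≅ Spec (CommRingCat.of Ω)) (x : T ⟶ X) :
    IsFinite (GLinSh.stabTo aQ (x ≫ π)) ↔ IsFinite (GLinSh.stabTo a x) := by
  have hT : ∀ {A B : Over (Spec (CommRingCat.of k))} (v : A ⟶ B) [LocallyOfFiniteType A.hom],
      LocallyOfFiniteType v.left := fun {A B} v _ => by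
    have : LocallyOfFiniteType (v.left ≫ B.hom) := by rw [Over.w v]; infer_instance
    exact locallyOfFiniteType_of_comp v.left B.hom
  rw [Groth.Misc8.StabFinite.isFinite_stabTo_iff e, Groth.Misc8.StabFinite.isFinite_stabTo_iff e]
  have hN := (Groth.Misc8.StabFinite.isFinite_stabTo_iff e aN x).1 (hfin Ω T e x)
  have hact : ∀ (h : T ⟶ H) (y : T ⟶ X),
      lift (h ≫ q) (y ≫ π) ≫ aQ.act = lift h y ≫ a.act ≫ π := fun h y => by
    rw [← hequiv, lift_map_assoc]
  have hact' : ∀ (n : T ⟶ N) (y : T ⟶ X), lift n y ≫ aN.act = lift (n ≫ i) y ≫ a.act := fun n y => by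
    rw [haN, lift_whiskerRight_assoc]
  have hiq : ∀ n : T ⟶ N, (n ≫ i) ≫ q = 1 := fun n => by
    rw [Category.assoc, hker.w, ← Category.assoc, toUnit_unique (n ≫ toUnit N) (toUnit T), Hom.one_def]
  let F : Groth.Misc8.StabFinite.Stab a x → Groth.Misc8.StabFinite.Stab aQ (x ≫ π) := fun h =>
    ⟨h.1 ≫ q, by rw [hact, ← Category.assoc, h.2]⟩
  have hsurj : Function.Surjective F := by
    rintro ⟨g, hg⟩
    have := hT q
    obtain ⟨h₀, hh₀⟩ := Groth.Misc8.StabFinite.exists_point_lift e q g
    let x' := lift h₀ x ≫ a.act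
    have hx' : x' ≫ π = x ≫ π := by rw [Category.assoc, ← hact, hh₀, hg]
    have hPl : LocallyOfFiniteType (GIT.PsiY aN π hπ.inv) := by
      have : LocallyOfFiniteType (GIT.PsiY aN π hπ.inv ≫ Limits.pullback.snd π.left π.left) := by
        rw [GIT.PsiY, Limits.pullback.lift_snd]
        show LocallyOfFiniteType (Limits.pullback.snd _ _)
        infer_instance
      exact locallyOfFiniteType_of_comp _ (Limits.pullback.snd π.left π.left)
    obtain ⟨l, hl⟩ := Groth.Misc8.StabFinite.exists_lift e (GIT.PsiY aN π hπ.inv)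
      (Limits.pullback.lift x.left x'.left (congrArg Over.Hom.left hx'.symm)) (fun t => hπ.orbit _)
    have hl₂ : l ≫ (snd N X).left = x'.left := by
      have := congrArg (· ≫ Limits.pullback.snd π.left π.left) hl
      simpa only [GIT.PsiY, Category.assoc, Limits.pullback.lift_snd] using this
    have hl₁ : l ≫ aN.act.left = x.left := by
      have := congrArg (· ≫ Limits.pullback.fst π.left π.left) hl
      simpa only [GIT.PsiY, Category.assoc, Limits.pullback.lift_fst] using this
    let m : T ⟶ N ⊗ X := Over.homMk l (by rw [← Over.w (snd N X), reassoc_of% hl₂, Over.w x'])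
    have hm₁ : m ≫ aN.act = x := Over.OverMorphism.ext hl₁
    have hm₂ : m ≫ snd N X = x' := Over.OverMorphism.ext hl₂
    have hm : lift (m ≫ fst N X) x' = m := by rw [← hm₂, lift_comp_fst_snd]
    refine ⟨⟨(m ≫ fst N X) ≫ i * h₀, ?_⟩, Subtype.ext ?_⟩
    · rw [Groth.AlgGrp2.lift_mul_act]
      show lift ((m ≫ fst N X) ≫ i) x' ≫ a.act = x
      rw [← hact', hm, hm₁]
    · show ((m ≫ fst N X) ≫ i * h₀) ≫ q = g
      rw [MonObj.mul_comp, hiq, _root_.one_mul, hh₀]
  constructor
  · intro hfinQ
    have hfib : ∀ g, (F ⁻¹' {g}).Finite := by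
      intro g
      rcases (F ⁻¹' {g}).eq_empty_or_nonempty with h | ⟨h₀, hh₀⟩
      · rw [h]; exact Set.finite_empty
      refine Set.Finite.subset (Set.finite_range (fun n : Groth.Misc8.StabFinite.Stab aN x =>
        (⟨h₀.1 * (n.1 ≫ i), by rw [Groth.AlgGrp2.lift_mul_act, ← hact', n.2, h₀.2]⟩ :
          Groth.Misc8.StabFinite.Stab a x))) fun h hh => ?_
      have he : (h₀.1⁻¹ * h.1) ≫ q = toUnit T ≫ η[Q] := by
        have e1 : h₀.1 ≫ q = h.1 ≫ q := congrArg Subtype.val ((Set.mem_singleton_iff.1 hh₀).trans
          (Set.mem_singleton_iff.1 hh).symm)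
        rw [MonObj.mul_comp, GrpObj.inv_comp, e1, inv_mul_cancel, Hom.one_def]
      obtain ⟨n, hn⟩ : ∃ n : T ⟶ N, n ≫ i = h₀.1⁻¹ * h.1 :=
        ⟨hker.lift (h₀.1⁻¹ * h.1) (toUnit T) he, hker.lift_fst _ _ _⟩
      refine ⟨⟨n, ?_⟩, Subtype.ext ?_⟩
      · have h3 : lift h₀.1⁻¹ x ≫ a.act = x := by
          have h4 := congrArg (fun y => lift h₀.1⁻¹ y ≫ a.act) h₀.2
          simp only [← Groth.AlgGrp2.lift_mul_act, inv_mul_cancel, Groth.AlgGrp2.lift_one_act] at h4
          exact h4.symm
        rw [hact', hn, Groth.AlgGrp2.lift_mul_act, h.2, h3]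
      · show h₀.1 * (n ≫ i) = h.1
        rw [hn, mul_inv_cancel_left]
    have : (Set.univ : Set (Groth.Misc8.StabFinite.Stab a x)).Finite :=
      Set.Finite.of_finite_fibers F (Set.toFinite _) (fun g _ => by rw [Set.univ_inter]; exact hfib g)
    exact Set.finite_univ_iff.1 this
  · intro
    exact Finite.of_surjective F hsurj

end Groth.Agent.S15119
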