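import Groth.Statements.S15121
import Mathlib.RingTheory.GradedAlgebra.Basic
import Mathlib.RingTheory.Ideal.Maximal

set_option autoImplicit false
universe u v w
open InvQ

namespace Groth.Agent.S15121

/-- Let k be a field of characteristic zero and A a commutative k-algebra graded by a finitely generated
free abelian group Λ (the character group of a torus acting on Spec A) whose grading monoid is
positive: if the pieces of degrees w and −w are both non-zero then w = 0. Let δ be a locally
nilpotent k-derivation of A (an action of the additive group) that is homogeneous of degree d, with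
the piece of degree d equal to zero (the graded condition on the Lie algebra weight). Suppose that
no maximal ideal of A contains both all graded pieces of non-zero degree and the image of δ (every
torus-fixed closed point has trivial stabiliser under the additive group). Then δ has a homogeneous
slice: some s of degree −d with δ s = 1. (The published statement is for the coordinate ring of an
affine variety over an algebraically closed field of characteristic zero and concludes moreover that
the quotient map by the additive group is a trivial principal bundle, which follows from the slice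
by a standard argument not restated here; this row keeps the algebraic content, for any such graded
algebra.) -/
theorem result
    (k : Type u) [Field k] [CharZero k]
    (A : Type v) [CommRing A] [Algebra k A]
    (Λ : Type w) [AddCommGroup Λ] [DecidableEq Λ] [Module.Free ℤ Λ] [Module.Finite ℤ Λ]
    (𝒜 : Λ → Submodule k A) [GradedAlgebra 𝒜]
    (hpos : ∀ w : Λ, 𝒜 w ≠ ⊥ → 𝒜 (-w) ≠ ⊥ → w = 0)
    (δ : Derivation k A A) (hnil : ∀ a : A, ∃ n : ℕ, ((δ : A →ₗ[k] A) ^ n) a = 0)
    (d : Λ) (hhom : ∀ (w : Λ) (a : A), a ∈ 𝒜 w → δ a ∈ 𝒜 (w + d)) (hd : 𝒜 d = ⊥)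
    (hfix : ∀ m : Ideal A, m.IsMaximal → (∀ w : Λ, w ≠ 0 → (𝒜 w : Set A) ⊆ m) → ¬ (Set.range δ ⊆ m)) :
    ∃ s ∈ 𝒜 (-d), δ s = 1 := by
  classical
  let P : A →+ A := GradedRing.proj 𝒜 0
  have hP : ∀ {w : Λ} {a : A}, a ∈ 𝒜 w → P a = if w = 0 then a else 0 := fun {w a} ha => by
    rw [show P a = (DirectSum.decompose 𝒜 a 0 : A) from GradedRing.proj_apply 𝒜 0 a]
    split_ifs with h
    · subst h
      exact DirectSum.decompose_of_mem_same 𝒜 ha
    · exact DirectSum.decompose_of_mem_ne 𝒜 ha h
  have hmem : ∀ a, P a ∈ 𝒜 0 := fun a => by
    rw [show P a = (DirectSum.decompose 𝒜 a 0 : A) from GradedRing.proj_apply 𝒜 0 a]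
    exact SetLike.coe_mem _
  have hmul : ∀ x y, P (x * y) = P x * P y := fun x y => by
    induction x using DirectSum.Decomposition.inductionOn 𝒜 with
    | zero => simp
    | add x x' hx hx' => rw [add_mul, map_add, map_add, hx, hx', add_mul]
    | homogeneous u =>
      rename_i i
      induction y using DirectSum.Decomposition.inductionOn 𝒜 with
      | zero => simp
      | add y y' hy hy' => rw [mul_add, map_add, map_add, hy, hy', mul_add]
      | homogeneous v =>
        rename_i j
        rw [hP (SetLike.mul_mem_graded u.2 v.2), hP u.2, hP v.2]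
        by_cases hi : i = 0
        · subst hi
          simp
        · rw [if_neg hi, zero_mul]
          split_ifs with hij
          · by_contra hne
            refine hi (hpos i ?_ ?_)
            · exact (Submodule.ne_bot_iff _).2 ⟨u, u.2, fun e => hne (by rw [e, zero_mul])⟩
            · rw [← eq_neg_of_add_eq_zero_right hij]
              exact (Submodule.ne_bot_iff _).2 ⟨v, v.2, fun e => hne (by rw [e, mul_zero])⟩
          · rfl
  by_contra hns
  push Not at hns
  let I : Ideal A :=
    { carrier := {x | ∃ s ∈ 𝒜 (-d), δ s = P x}
      add_mem' := by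
        rintro x y ⟨s, hs, e⟩ ⟨t, ht, e'⟩
        exact ⟨s + t, add_mem hs ht, by rw [map_add, map_add, e, e']⟩
      zero_mem' := ⟨0, zero_mem _, by simp⟩
      smul_mem' := by
        rintro c x ⟨s, hs, e⟩
        refine ⟨P c * s, by simpa using SetLike.mul_mem_graded (hmem c) hs, ?_⟩
        have h0 : δ (P c) = 0 := by
          have := hhom 0 (P c) (hmem c)
          rwa [zero_add, hd, Submodule.mem_bot] at this
        rw [δ.leibniz, h0, smul_zero, add_zero, e, smul_eq_mul, smul_eq_mul, hmul] }
  have hI : I ≠ ⊤ := (Ideal.ne_top_iff_one I).2 fun ⟨s, hs, e⟩ =>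
    hns s hs (e.trans ((hP (SetLike.one_mem_graded 𝒜)).trans (if_pos rfl)))
  obtain ⟨m, hm, hIm⟩ := I.exists_le_maximal hI
  refine hfix m hm (fun w hw a ha => hIm ⟨0, zero_mem _, by rw [map_zero, hP ha, if_neg hw]⟩) ?_
  rintro _ ⟨b, rfl⟩
  apply hIm
  induction b using DirectSum.Decomposition.inductionOn 𝒜 with
  | zero => exact ⟨0, zero_mem _, by simp⟩
  | add b b' hb hb' => rw [map_add]; exact add_mem hb hb'
  | homogeneous u =>
    rename_i i
    by_cases hi : i + d = 0
    · exact ⟨u, eq_neg_of_add_eq_zero_left hi ▸ u.2, by rw [hP (hhom i u u.2), if_pos hi]⟩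
    · exact ⟨0, zero_mem _, by rw [map_zero, hP (hhom i u u.2), if_neg hi]⟩

end Groth.Agent.S15121
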