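import Groth.Statements.S15122
import Mathlib
-- import your own Groth.Agent.* helpers here

set_option autoImplicit false
universe u v w
open GIT

namespace Groth.Agent.S15122

/-- Let R be a commutative ring, A a commutative R-algebra graded by the natural numbers, σ a
homogeneous element of degree zero, and B the localisation of A away from σ, equipped with a grading
by the natural numbers for which the localisation map ι : A → B is a graded ring homomorphism (such
a grading is necessarily the one induced from A). Then the homogeneous ideal of B generated by the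
image of the irrelevant ideal of A is the whole irrelevant ideal of B; in other words the induced
rational map from Proj B to Proj A is defined everywhere. (The published statement also assumes σ a
non-zero-divisor, which this step does not use, and goes on to conclude that Proj B → Proj A is an
open immersion onto the basic open set of σ.) -/
theorem result
    (R : Type u) (A : Type v) (B : Type w) [CommRing R] [CommRing A] [CommRing B] [Algebra R A] [Algebra R B]
    [Algebra A B] [IsScalarTower R A B]
    (𝒜 : ℕ → Submodule R A) [GradedAlgebra 𝒜] (ℬ : ℕ → Submodule R B) [GradedAlgebra ℬ]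
    (σ : A) (hσ0 : σ ∈ 𝒜 0) [IsLocalization.Away σ B]
    (ι : 𝒜 →+*ᵍ ℬ) (hι : ∀ a : A, ι a = algebraMap A B a) :
    (HomogeneousIdeal.irrelevant 𝒜).map ι = HomogeneousIdeal.irrelevant ℬ := by
  classical
  apply le_antisymm
  · rw [HomogeneousIdeal.map_le_iff_le_comap]
    intro a ha
    change GradedRing.proj ℬ 0 (ι a) = 0
    rw [GradedRing.proj_apply, ← ι.map_directSumDecompose,
      show (DirectSum.decompose 𝒜 a 0 : A) = 0 from ha, map_zero]
  · intro b hb
    obtain ⟨⟨a, ⟨_, k, rfl⟩⟩, hab⟩ := IsLocalization.surj (Submonoid.powers σ) b
    rw [← hι, ← hι] at hab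
    have hb0 : GradedRing.projZeroRingHom ℬ b = 0 := hb
    have h0 : (ι (DirectSum.decompose 𝒜 a 0 : A) : B) = 0 := by
      rw [ι.map_directSumDecompose]
      change GradedRing.projZeroRingHom ℬ (ι a) = 0
      rw [← hab, map_mul, hb0, zero_mul]
    have hmem : a - (DirectSum.decompose 𝒜 a 0 : A) ∈ HomogeneousIdeal.irrelevant 𝒜 := by
      change GradedRing.proj 𝒜 0 (a - _) = 0
      rw [map_sub, GradedRing.proj_apply, GradedRing.proj_apply,
        DirectSum.decompose_of_mem_same 𝒜 (SetLike.coe_mem _), sub_self]
    have hin : (ι a : B) ∈ ((HomogeneousIdeal.irrelevant 𝒜).map ι).toIdeal := by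
      rw [HomogeneousIdeal.toIdeal_map]
      have := Ideal.mem_map_of_mem ι hmem
      rwa [map_sub, h0, sub_zero] at this
    have hu : IsUnit (ι (σ ^ k) : B) := by
      rw [hι]
      exact IsLocalization.map_units B (⟨σ ^ k, k, rfl⟩ : Submonoid.powers σ)
    rw [← hab] at hin
    exact (Ideal.mul_unit_mem_iff_mem _ hu).1 hin

end Groth.Agent.S15122
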