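import Groth.Statements.S15125
import Mathlib
-- import your own Groth.Agent.* helpers here

set_option autoImplicit false
universe u
open scoped TensorProduct
open Fields

namespace Groth.Agent.S15125

open Polynomial in
theorem forward (K L : Type u) [Field K] [Field L] [Algebra K L] (x : L) (hx : IsSeparable K x) (n : ℕ) :
    x ⊗ₜ[K] (1 : L) - (1 : L) ⊗ₜ[K] x ∈ KaehlerDifferential.ideal K L ^ n := by
  induction n with
  | zero => simp
  | succ n ih =>
    set q : L[X] := (minpoly K x).map (algebraMap K L) /ₘ (X - C x)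
    have hq : (minpoly K x).map (algebraMap K L) = (X - C x) * q := by
      refine (mul_divByMonic_eq_iff_isRoot.2 ?_).symm
      rw [IsRoot, eval_map, ← aeval_def, minpoly.aeval]
    have hc : q.eval x ≠ 0 := by
      have h1 : aeval x (derivative (minpoly K x)) ≠ 0 := hx.aeval_derivative_ne_zero (minpoly.aeval K x)
      rw [aeval_def, ← eval_map, ← derivative_map, hq, derivative_mul] at h1
      simpa using h1
    set incl : L →+* L ⊗[K] L := (Algebra.TensorProduct.includeRight : L →ₐ[K] L ⊗[K] L).toRingHom with hincl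
    set z : L ⊗[K] L := x ⊗ₜ[K] (1 : L) - (1 : L) ⊗ₜ[K] x with hz
    set G : L ⊗[K] L := q.eval₂ incl (x ⊗ₜ[K] (1 : L)) with hG
    have h0 : z * G = 0 := by
      have h1 := congrArg (eval₂ incl (x ⊗ₜ[K] (1 : L))) hq
      rw [eval₂_mul, eval₂_sub, eval₂_X, eval₂_C, eval₂_map] at h1
      have h2 : incl.comp (algebraMap K L) = algebraMap K (L ⊗[K] L) :=
        (Algebra.TensorProduct.includeRight : L →ₐ[K] L ⊗[K] L).comp_algebraMap
      rw [h2, ← aeval_def, show x ⊗ₜ[K] (1 : L) = (Algebra.TensorProduct.includeLeft : L →ₐ[K] L ⊗[K] L) x from rfl,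
        aeval_algHom_apply, minpoly.aeval, map_zero] at h1
      exact h1.symm
    set e : L ⊗[K] L := 1 - incl (q.eval x)⁻¹ * G with he
    have heI : e ∈ KaehlerDifferential.ideal K L := by
      show Algebra.TensorProduct.lmul' K e = 0
      rw [he, map_sub, map_one, map_mul, hG]
      have h3 : (Algebra.TensorProduct.lmul' (S := L) K).toRingHom.comp incl = RingHom.id L :=
        RingHom.ext fun a => show Algebra.TensorProduct.lmul' K ((1 : L) ⊗ₜ[K] a) = a by simp
      have h4 := hom_eval₂ q incl (Algebra.TensorProduct.lmul' (S := L) K).toRingHom (x ⊗ₜ[K] (1 : L))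
      rw [h3] at h4
      simp only [AlgHom.toRingHom_eq_coe, RingHom.coe_coe, Algebra.TensorProduct.lmul'_apply_tmul, mul_one] at h4
      rw [h4, show eval₂ (RingHom.id L) x q = q.eval x from rfl]
      simp [hincl, inv_mul_cancel₀ hc]
    have : z = z * e := by
      rw [he, mul_sub, mul_one, mul_left_comm, h0, mul_zero, sub_zero]
    rw [this, pow_succ]
    exact Ideal.mul_mem_mul ih heI

theorem ann_tmul {R M L : Type u} [CommRing R] [Field M] [Field L] [Algebra M L] [Algebra M R]
    (ε : R) (hann : ∀ a, ε * a = 0 → ε ∣ a) (l : R ⊗[M] L) (hl : (ε ⊗ₜ[M] (1 : L)) * l = 0) :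
    (ε ⊗ₜ[M] (1 : L)) ∣ l := by
  let b := (Module.Free.chooseBasis M L).baseChange R
  have hs : ∀ t : R ⊗[M] L, (ε ⊗ₜ[M] (1 : L)) * t = ε • t := fun t => by
    rw [Algebra.smul_def]; rfl
  rw [hs] at hl
  have h2 : ∀ i, ε ∣ b.repr l i := fun i => hann _ (by
    simpa using congrArg (fun t => b.repr t i) hl)
  choose c hc using h2
  refine ⟨∑ i ∈ (b.repr l).support, c i • b i, ?_⟩
  rw [hs, Finset.smul_sum]
  conv_lhs => rw [← b.linearCombination_repr l, Finsupp.linearCombination_apply, Finsupp.sum]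
  exact Finset.sum_congr rfl fun i _ => by rw [← mul_smul, ← hc]

theorem backward {K L M R : Type u} [Field K] [Field L] [Field M] [CommRing R] [Algebra K L] [Algebra K M]
    [Algebra M L] [IsScalarTower K M L] [Algebra K R] [Algebra M R] [IsScalarTower K M R]
    (ι : L →ₐ[K] R) (π : R →ₐ[M] L) (hπ : ∀ l, π (ι l) = l) (ε : R) (hε : π ε = 0)
    (hann : ∀ a, ε * a = 0 → ε ∣ a) (m : M) (hm : algebraMap M R m = ι (algebraMap M L m) + ε)
    (y : L ⊗[K] L) (hy : Algebra.TensorProduct.lmul' K y = 1)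
    (h : y * (algebraMap M L m ⊗ₜ[K] (1 : L) - (1 : L) ⊗ₜ[K] algebraMap M L m) = 0) : False := by
  set x := algebraMap M L m with hx
  let ψ : L ⊗[K] L →ₐ[K] R ⊗[M] L := Algebra.TensorProduct.lift
    ((Algebra.TensorProduct.includeRight : L →ₐ[M] R ⊗[M] L).restrictScalars K)
    ((Algebra.TensorProduct.includeLeft : R →ₐ[K] R ⊗[M] L).comp ι) fun _ _ => Commute.all _ _
  have hz : ψ (x ⊗ₜ[K] (1 : L) - (1 : L) ⊗ₜ[K] x) = ε ⊗ₜ[M] (1 : L) := by
    have h1 : (1 : R) ⊗ₜ[M] x = algebraMap M R m ⊗ₜ[M] (1 : L) := by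
      rw [hx, Algebra.algebraMap_eq_smul_one, Algebra.algebraMap_eq_smul_one, TensorProduct.smul_tmul]
    simp only [ψ, map_sub, Algebra.TensorProduct.lift_tmul, map_one, one_mul, mul_one,
      AlgHom.coe_comp, Function.comp_apply, AlgHom.coe_restrictScalars',
      Algebra.TensorProduct.includeRight_apply, Algebra.TensorProduct.includeLeft_apply]
    rw [h1, ← TensorProduct.sub_tmul, hm, add_sub_cancel_left]
  obtain ⟨w, hw⟩ := ann_tmul ε hann (ψ y) (by rw [← hz, mul_comm, ← map_mul, h, map_zero])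
  let π' : R ⊗[M] L →ₐ[M] L := Algebra.TensorProduct.lift π (AlgHom.id M L) fun _ _ => Commute.all _ _
  have h2 : (π'.restrictScalars K).comp ψ = Algebra.TensorProduct.lmul' K :=
    Algebra.TensorProduct.ext' fun a b => by simp [π', ψ, hπ, mul_comm]
  have h3 : π' (ψ y) = 1 := by rw [← hy, ← h2]; rfl
  rw [hw, map_mul] at h3
  simp [π', hε] at h3

theorem backward' {K L M R : Type u} [Field K] [Field L] [Field M] [CommRing R] [Algebra K L] [Algebra K M]
    [Algebra M L] [IsScalarTower K M L] [Algebra K R] (σ : M →ₐ[K] R) (π : R →ₐ[K] L)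
    (hσ : ∀ m, π (σ m) = algebraMap M L m)
    (ι : L →ₐ[K] R) (hπ : ∀ l, π (ι l) = l) (ε : R) (hε : π ε = 0)
    (hann : ∀ a, ε * a = 0 → ε ∣ a) (m : M) (hm : σ m = ι (algebraMap M L m) + ε)
    (y : L ⊗[K] L) (hy : Algebra.TensorProduct.lmul' K y = 1)
    (h : y * (algebraMap M L m ⊗ₜ[K] (1 : L) - (1 : L) ⊗ₜ[K] algebraMap M L m) = 0) : False := by
  letI : Algebra M R := σ.toRingHom.toAlgebra
  haveI : IsScalarTower K M R := IsScalarTower.of_algebraMap_eq fun k => (σ.commutes k).symm
  exact backward ι { π.toRingHom with commutes' := hσ } hπ ε hε hann m hm y hy h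

open Polynomial IntermediateField.algebraAdjoinAdjoin in
theorem exists_lift (K L : Type u) [Field K] [Field L] [Algebra K L] (x : L) (hx : ¬ IsSeparable K x) :
    ∃ σ : IntermediateField.adjoin K {x} →ₐ[K] DualNumber L,
      (∀ m, TrivSqZeroExt.fst (σ m) = (m : L)) ∧
        σ ⟨x, IntermediateField.mem_adjoin_simple_self K x⟩ = TrivSqZeroExt.inl x + DualNumber.eps := by
  classical
  set a : DualNumber L := TrivSqZeroExt.inl x + DualNumber.eps with ha
  have hd : derivative (minpoly K x) = 0 := by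
    by_cases hi : IsIntegral K x
    · by_contra h
      exact hx ((separable_iff_derivative_ne_zero (minpoly.irreducible hi)).2 h)
    · rw [minpoly.eq_zero hi, derivative_zero]
  have hf : aeval a (minpoly K x) = 0 := by
    rw [ha, aeval_add_of_sq_eq_zero _ _ _ (by rw [sq, DualNumber.eps_mul_eps]), hd, map_zero, zero_mul, add_zero]
    rw [show TrivSqZeroExt.inl x = (TrivSqZeroExt.inlAlgHom K L L) x from rfl, aeval_algHom_apply, minpoly.aeval, map_zero]
  let p : K[X] →ₐ[K] Algebra.adjoin K ({x} : Set L) :=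
    aeval ⟨x, Algebra.self_mem_adjoin_singleton K x⟩
  have hpval : ∀ g, (p g : L) = aeval x g := fun g => by
    have := (aeval_algHom_apply (Algebra.adjoin K ({x} : Set L)).val (⟨x, Algebra.self_mem_adjoin_singleton K x⟩ : Algebra.adjoin K ({x} : Set L)) g).symm
    exact this
  have hp : Function.Surjective p := by
    rintro ⟨l, hl⟩
    rw [Algebra.adjoin_singleton_eq_range_aeval] at hl
    obtain ⟨g, rfl⟩ := hl
    exact ⟨g, Subtype.ext (hpval g)⟩
  have hker : RingHom.ker p.toRingHom ≤ RingHom.ker (aeval (R := K) a).toRingHom := fun g hg => by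
    have : aeval x g = 0 := by rw [← hpval]; exact congrArg Subtype.val hg
    obtain ⟨q, rfl⟩ := minpoly.dvd K x this
    show aeval a _ = 0
    rw [map_mul, hf, zero_mul]
  let s : Algebra.adjoin K ({x} : Set L) →+* DualNumber L :=
    RingHom.liftOfSurjective p.toRingHom hp ⟨(aeval (R := K) a).toRingHom, hker⟩
  have hs : ∀ g, s (p g) = aeval a g := fun g => RingHom.liftOfRightInverse_comp_apply _ _ _ _ g
  have hsfst : ∀ b, TrivSqZeroExt.fst (s b) = (b : L) := fun b => by
    obtain ⟨g, rfl⟩ := hp b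
    rw [hs, hpval, show TrivSqZeroExt.fst (aeval a g) = TrivSqZeroExt.fstHom K L L (aeval a g) from rfl, ← aeval_algHom_apply]
    simp [ha]
  have hunit : ∀ b : nonZeroDivisors (Algebra.adjoin K ({x} : Set L)), IsUnit (s b) := fun b => by
    rw [TrivSqZeroExt.isUnit_iff_isUnit_fst, hsfst, isUnit_iff_ne_zero]
    exact fun h => nonZeroDivisors.coe_ne_zero b (Subtype.ext h)
  let σ : IntermediateField.adjoin K ({x} : Set L) →+* DualNumber L := IsLocalization.lift hunit
  refine ⟨{ σ with commutes' := fun k => ?_ }, fun m => ?_, ?_⟩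
  · show σ (algebraMap K _ k) = _
    rw [IsScalarTower.algebraMap_apply K (Algebra.adjoin K ({x} : Set L)) (IntermediateField.adjoin K ({x} : Set L)), IsLocalization.lift_eq,
      show algebraMap K (Algebra.adjoin K ({x} : Set L)) k = p (C k) from (aeval_C _ k).symm, hs, aeval_C]
  · have : (TrivSqZeroExt.fstHom K L L).toRingHom.comp σ = (IntermediateField.adjoin K ({x} : Set L)).val.toRingHom := by
      refine IsLocalization.ringHom_ext (nonZeroDivisors (Algebra.adjoin K ({x} : Set L))) (RingHom.ext fun b => ?_)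
      show TrivSqZeroExt.fst (σ _) = _
      rw [IsLocalization.lift_eq, hsfst]
      rfl
    exact RingHom.congr_fun this m
  · show σ _ = _
    rw [show (⟨x, IntermediateField.mem_adjoin_simple_self K x⟩ : IntermediateField.adjoin K ({x} : Set L))
      = algebraMap (Algebra.adjoin K ({x} : Set L)) _ (p X) from Subtype.ext (show x = (p X : L) by rw [hpval, aeval_X]),
      IsLocalization.lift_eq, hs, aeval_X]

/-- Let L be a finitely generated field extension of K, and I ⊆ L ⊗_K L the kernel of multiplication L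
⊗_K L → L. An element x of L has the property that x ⊗ 1 and 1 ⊗ x have the same image in the I-adic
completion of L ⊗_K L if and only if x is separable algebraic over K. Equivalently, the equaliser of
the two natural maps from L to that completion is the separable algebraic closure of K in L. -/
theorem result
    (K L : Type u) [Field K] [Field L] [Algebra K L]
    (hfg : (⊤ : IntermediateField K L).FG) (x : L) :
    AdicCompletion.of (KaehlerDifferential.ideal K L) (L ⊗[K] L) (x ⊗ₜ[K] (1 : L)) =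
        AdicCompletion.of (KaehlerDifferential.ideal K L) (L ⊗[K] L) ((1 : L) ⊗ₜ[K] x) ↔
      x ∈ separableClosure K L := by
  set I := KaehlerDifferential.ideal K L
  set z : L ⊗[K] L := x ⊗ₜ[K] (1 : L) - (1 : L) ⊗ₜ[K] x with hz
  have hiff : AdicCompletion.of I (L ⊗[K] L) (x ⊗ₜ[K] (1 : L)) = AdicCompletion.of I (L ⊗[K] L) ((1 : L) ⊗ₜ[K] x)
      ↔ ∀ n, z ∈ (I ^ n • ⊤ : Submodule (L ⊗[K] L) (L ⊗[K] L)) := by
    rw [AdicCompletion.ext_iff]
    exact forall_congr' fun n => Submodule.Quotient.eq _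
  rw [hiff, mem_separableClosure_iff]
  refine ⟨fun h => ?_, fun h n => by rw [Ideal.smul_top_eq_map, Algebra.algebraMap_self, Ideal.map_id]; exact forward K L x h n⟩
  by_contra hx
  haveI : Algebra.EssFiniteType K (⊤ : IntermediateField K L) := IntermediateField.essFiniteType_iff.2 hfg
  haveI : Algebra.EssFiniteType K L := Algebra.EssFiniteType.of_surjective (IntermediateField.topEquiv (F := K) (E := L)).toAlgHom (IntermediateField.topEquiv (F := K) (E := L)).surjective
  haveI : IsNoetherianRing (L ⊗[K] L) := Algebra.EssFiniteType.isNoetherianRing L _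
  obtain ⟨⟨r, hr⟩, hrz⟩ := (Ideal.mem_iInf_smul_pow_eq_bot_iff I z).1 (Submodule.mem_iInf _ |>.2 h)
  obtain ⟨σ, hσ, hσx⟩ := exists_lift K L x hx
  refine backward' σ (TrivSqZeroExt.fstHom K L L) hσ (TrivSqZeroExt.inlAlgHom K L L) (fun l => rfl) DualNumber.eps ?_ ?_
    (⟨x, IntermediateField.mem_adjoin_simple_self K x⟩ : IntermediateField.adjoin K ({x} : Set L)) hσx (1 - r) ?_ ?_
  · exact DualNumber.fst_eps
  · intro b hb
    refine ⟨TrivSqZeroExt.inl b.snd, ?_⟩
    have h1 := congrArg TrivSqZeroExt.snd hb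
    ext
    · simpa [TrivSqZeroExt.snd_mul] using h1
    · simp [TrivSqZeroExt.snd_mul]
  · rw [map_sub, map_one, show Algebra.TensorProduct.lmul' K r = 0 from hr, sub_zero]
  · show (1 - r) * z = 0
    rw [sub_mul, one_mul, sub_eq_zero]
    exact hrz.symm

end Groth.Agent.S15125
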