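import Groth.Statements.S15126
import Mathlib

set_option autoImplicit false
universe u
open Formal

namespace Groth.Agent.S15126

/-- Affine case. Let k be a field, n > 0, and R a commutative algebra over the power series ring
k[[z_1,…,z_n]]; for a commutative k-algebra Q regard Q[[z_1,…,z_n]] as a k[[z]]-algebra
coefficientwise. Then the functor Q ↦ Hom_{k[[z]]-alg}(R, Q[[z]]) on commutative k-algebras is
corepresentable: there exist a commutative k-algebra P and a k[[z]]-algebra homomorphism u : R →
P[[z]] such that every k[[z]]-algebra homomorphism R → Q[[z]] arises from u by applying a unique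
k-algebra homomorphism P → Q coefficientwise. If moreover R is countably generated as a
k[[z]]-algebra, P may be taken countably generated over k. (The published statement is for an adic
formal scheme Y over the formal disc Spf k[[z]], asserting that the sheaf of sections of Y over the
disc is a scheme, affine over the fibre of Y at the origin, and of pro-finite type when Y is; this
row is the case Y = Spf R, to which the published argument reduces, stated for the underlying
algebra R; k is algebraically closed there, which is not used.) -/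
theorem result
    (k : Type u) [Field k] (n : ℕ) (hn : 0 < n)
    (R : Type u) [CommRing R] [Algebra (MvPowerSeries (Fin n) k) R] :
    ∃ (P : Type u) (_ : CommRing P) (_ : Algebra k P)
      (u : R →ₐ[MvPowerSeries (Fin n) k] MvPowerSeries (Fin n) P),
      (∀ (Q : Type u) [CommRing Q] [Algebra k Q]
          (f : R →ₐ[MvPowerSeries (Fin n) k] MvPowerSeries (Fin n) Q),
          ∃! g : P →ₐ[k] Q,
            (MvPowerSeries.map (σ := Fin n) (g : P →+* Q)).comp (u : R →+* MvPowerSeries (Fin n) P) =
              (f : R →+* MvPowerSeries (Fin n) Q)) ∧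
      ((∃ s : Set R, s.Countable ∧ Algebra.adjoin (MvPowerSeries (Fin n) k) s = ⊤) →
        ∃ t : Set P, t.Countable ∧ Algebra.adjoin k t = ⊤) := by
  classical
  let Λ := MvPowerSeries (Fin n) k
  let T := MvPolynomial (R × (Fin n →₀ ℕ)) k
  let mp {Q Q' : Type u} [CommRing Q] [CommRing Q'] (g : Q →+* Q') :
      MvPowerSeries (Fin n) Q →+* MvPowerSeries (Fin n) Q' := MvPowerSeries.map g
  let u₀ : R → MvPowerSeries (Fin n) T := fun r d => MvPolynomial.X (r, d)
  let rels : Set T :=
    (⋃ (a : R) (b : R) (d : Fin n →₀ ℕ),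
      {MvPowerSeries.coeff d (u₀ (a + b) - (u₀ a + u₀ b)), MvPowerSeries.coeff d (u₀ (a * b) - u₀ a * u₀ b)}) ∪
    ⋃ (z : Λ) (d : Fin n →₀ ℕ),
      {MvPowerSeries.coeff d (u₀ (algebraMap Λ R z) - mp (MvPolynomial.C) z)}
  let J := Ideal.span rels
  let P := T ⧸ J
  let q : T →ₐ[k] P := Ideal.Quotient.mkₐ k J
  let u₁ : R → MvPowerSeries (Fin n) P := fun r => mp q.toRingHom (u₀ r)
  have hq : ∀ x ∈ rels, q x = 0 := fun x hx => Ideal.Quotient.eq_zero_iff_mem.2 (Ideal.subset_span hx)
  have hzero : ∀ w : MvPowerSeries (Fin n) T, (∀ d, MvPowerSeries.coeff d w ∈ rels) → mp q.toRingHom w = 0 :=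
    fun w hw => MvPowerSeries.ext fun d => by
      rw [MvPowerSeries.coeff_map, map_zero]; exact hq _ (hw d)
  have hadd : ∀ a b, u₁ (a + b) = u₁ a + u₁ b := fun a b => by
    have := hzero (u₀ (a + b) - (u₀ a + u₀ b)) fun d => Or.inl (by simp only [Set.mem_iUnion]; exact ⟨a, b, d, Or.inl rfl⟩)
    rwa [map_sub, map_add, sub_eq_zero] at this
  have hmul : ∀ a b, u₁ (a * b) = u₁ a * u₁ b := fun a b => by
    have := hzero (u₀ (a * b) - u₀ a * u₀ b) fun d => Or.inl (by simp only [Set.mem_iUnion]; exact ⟨a, b, d, Or.inr rfl⟩)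
    rwa [map_sub, map_mul, sub_eq_zero] at this
  have hcomm : ∀ z, u₁ (algebraMap Λ R z) = algebraMap Λ (MvPowerSeries (Fin n) P) z := fun z => by
    have := hzero (u₀ (algebraMap Λ R z) - mp (MvPolynomial.C) z) fun d => Or.inr (by simp only [Set.mem_iUnion]; exact ⟨z, d, rfl⟩)
    rw [map_sub, sub_eq_zero] at this
    rw [show u₁ (algebraMap Λ R z) = _ from this]
    rfl
  have h1 : u₁ 1 = 1 := by rw [← map_one (algebraMap Λ R), hcomm, map_one]
  have h0 : u₁ 0 = 0 := by rw [← map_zero (algebraMap Λ R), hcomm, map_zero]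
  let u : R →ₐ[Λ] MvPowerSeries (Fin n) P :=
    { toFun := u₁, map_one' := h1, map_mul' := hmul, map_zero' := h0, map_add' := hadd, commutes' := hcomm }
  refine ⟨P, inferInstance, inferInstance, u, fun Q _ _ f => ?_, fun ⟨s, hs, hgen⟩ => ?_⟩
  · let e : T →ₐ[k] Q := MvPolynomial.aeval fun p => MvPowerSeries.coeff p.2 (f p.1)
    have he : ∀ r, mp e.toRingHom (u₀ r) = f r := fun r => MvPowerSeries.ext fun d => by
      rw [MvPowerSeries.coeff_map]
      change e (MvPolynomial.X (r, d)) = _
      exact MvPolynomial.aeval_X _ _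
    have hJ : ∀ x ∈ J, e x = 0 := fun x hx => by
      refine RingHom.mem_ker.1 ((Ideal.span_le (I := RingHom.ker e.toRingHom)).2 ?_ hx)
      have hz : ∀ w, mp e.toRingHom w = 0 → ∀ d, e (MvPowerSeries.coeff d w) = 0 := fun w hw d => by
        have h := congrArg (MvPowerSeries.coeff d) hw
        rwa [MvPowerSeries.coeff_map, map_zero] at h
      rintro y (hy | hy)
      · simp only [Set.mem_iUnion] at hy
        obtain ⟨a, b, d, rfl | rfl⟩ := hy
        · exact hz _ (by rw [map_sub, map_add, he, he, he, map_add, sub_self]) d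
        · exact hz _ (by rw [map_sub, map_mul, he, he, he, map_mul, sub_self]) d
      · simp only [Set.mem_iUnion] at hy
        obtain ⟨z, d, rfl⟩ := hy
        refine hz _ ?_ d
        rw [map_sub, he, f.commutes, sub_eq_zero]
        ext d
        simp [mp, MvPowerSeries.algebraMap_apply'']
        exact (e.commutes _).symm
    refine ⟨Ideal.Quotient.liftₐ J e hJ, ?_, fun g hg => ?_⟩
    · refine RingHom.ext fun r => ?_
      exact (MvPowerSeries.ext fun d => rfl).trans (he r)
    · refine Ideal.Quotient.algHom_ext _ (MvPolynomial.algHom_ext fun p => ?_)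
      have := congrArg (MvPowerSeries.coeff p.2) (RingHom.congr_fun hg p.1)
      change g (q (MvPolynomial.X (p.1, p.2))) = MvPowerSeries.coeff p.2 (f p.1) at this
      change g (q (MvPolynomial.X p)) = e (MvPolynomial.X p)
      rw [show e (MvPolynomial.X p) = MvPowerSeries.coeff p.2 (f p.1) from MvPolynomial.aeval_X _ _]
      exact this
  · let t : Set P := ⋃ r ∈ s, Set.range fun d => MvPowerSeries.coeff d (u r)
    refine ⟨t, hs.biUnion fun r _ => Set.countable_range _, ?_⟩
    let P' := Algebra.adjoin k t
    have hC : ∀ (z : Λ) d, MvPowerSeries.coeff d (algebraMap Λ (MvPowerSeries (Fin n) P) z) ∈ P' := fun z d =>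
      P'.algebraMap_mem (MvPowerSeries.coeff d z)
    have key : ∀ r : R, ∀ d, MvPowerSeries.coeff d (u r) ∈ P' := by
      intro r
      have hr : r ∈ Algebra.adjoin Λ s := by rw [hgen]; trivial
      induction hr using Algebra.adjoin_induction with
      | mem x hx => exact fun d => Algebra.subset_adjoin (Set.mem_biUnion hx ⟨d, rfl⟩)
      | algebraMap z => intro d; rw [u.commutes]; exact hC z d
      | add x y _ _ hx hy => intro d; rw [map_add, map_add]; exact add_mem (hx d) (hy d)
      | mul x y _ _ hx hy =>
        intro d; rw [map_mul, MvPowerSeries.coeff_mul]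
        exact sum_mem fun p _ => mul_mem (hx _) (hy _)
    refine eq_top_iff.2 fun x hx' => ?_
    clear hx'
    obtain ⟨y, rfl⟩ := Ideal.Quotient.mkₐ_surjective k J x
    induction y using MvPolynomial.induction_on with
    | C a => exact P'.algebraMap_mem a
    | add a b ha hb => rw [map_add]; exact add_mem ha hb
    | mul_X a p ha => rw [map_mul]; exact mul_mem ha (key p.1 p.2)

end Groth.Agent.S15126
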