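import Groth.Statements.S15129
import Groth.Agent.ArtinFlat.Basic
-- import your own Groth.Agent.* helpers here

set_option autoImplicit false
universe u v
open CAlg

namespace Groth.Agent.S15129

/-- Over an Artinian local ring A with residue field k, for an exact sequence 0 → M → N → P → 0 of
A-modules with N flat: if k ⊗_A M → k ⊗_A N is injective then P is flat; if P is flat then M is flat
and k ⊗_A M → k ⊗_A N is injective. (The published statement is for local Artinian algebras over an
algebraically closed field of characteristic zero having that field as residue field; this row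
allows any Artinian local ring.) -/
theorem result
    (A : Type u) [CommRing A] [IsLocalRing A] [IsArtinianRing A]
    (M N P : Type v) [AddCommGroup M] [Module A M] [AddCommGroup N] [Module A N]
    [AddCommGroup P] [Module A P] [Module.Flat A N] (f : M →ₗ[A] N) (g : N →ₗ[A] P)
    (hf : Function.Injective f) (hg : Function.Surjective g) (hfg : Function.Exact f g) :
    (Function.Injective (f.lTensor (IsLocalRing.ResidueField A)) → Module.Flat A P) ∧
    (Module.Flat A P → Module.Flat A M ∧ Function.Injective (f.lTensor (IsLocalRing.ResidueField A))) := by
  refine ⟨Groth.ArtinFlat.flat_of_residue Groth.ArtinFlat.isNilpotent_maximalIdeal f g hfg hg, fun hP => ?_⟩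
  have hfree : Module.Free A P := Groth.ArtinFlat.free_of_flat Groth.ArtinFlat.isNilpotent_maximalIdeal
  obtain ⟨s, hs⟩ := Module.projective_lifting_property g LinearMap.id hg
  let e := LinearEquiv.ofInjective f hf
  let r : N →ₗ[A] M := e.symm.toLinearMap ∘ₗ (LinearMap.id - s ∘ₗ g).codRestrict (LinearMap.range f) (fun n => by
    rw [← LinearMap.exact_iff.mp hfg, LinearMap.mem_ker, LinearMap.sub_apply, LinearMap.id_coe, id_eq,
      LinearMap.comp_apply, map_sub, show g (s (g n)) = g n from LinearMap.congr_fun hs (g n), sub_self])
  have hr : r ∘ₗ f = LinearMap.id := by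
    refine LinearMap.ext fun m => e.injective ?_
    simp only [r, LinearMap.comp_apply, LinearEquiv.coe_coe, LinearEquiv.apply_symm_apply, LinearMap.id_coe, id_eq]
    exact Subtype.ext (by simp [e, hfg.apply_apply_eq_zero m])
  refine ⟨Module.Flat.of_retract f r hr, Function.LeftInverse.injective (g := r.lTensor _) fun z => ?_⟩
  rw [← LinearMap.lTensor_comp_apply, hr, LinearMap.lTensor_id, LinearMap.id_coe, id_eq]

end Groth.Agent.S15129
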