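import Groth.Statements.S15130
import Groth.Agent.ArtinFlat.Basic
import Groth.Agent.S15129
-- import your own Groth.Agent.* helpers here

set_option autoImplicit false
universe u v
open CAlg

namespace Groth.Agent.S15130

/-- Let A be an Artinian local ring with residue field k and P → Q → R → M → 0 a complex of A-modules
with P, Q, R flat which is exact at R and at M. If the reduced complex k ⊗ P → k ⊗ Q → k ⊗ R is
exact (the rest of the reduced sequence is then automatically exact), then M is flat and the
original complex is exact at Q as well. (The published statement is for local Artinian algebras over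
an algebraically closed field of characteristic zero having that field as residue field; this row
allows any Artinian local ring.) -/
theorem result
    (A : Type u) [CommRing A] [IsLocalRing A] [IsArtinianRing A]
    (P Q R M : Type v) [AddCommGroup P] [Module A P] [AddCommGroup Q] [Module A Q]
    [AddCommGroup R] [Module A R] [AddCommGroup M] [Module A M]
    [Module.Flat A P] [Module.Flat A Q] [Module.Flat A R]
    (f : P →ₗ[A] Q) (g : Q →ₗ[A] R) (h : R →ₗ[A] M)
    (hfg : g ∘ₗ f = 0) (hgh : Function.Exact g h) (hh : Function.Surjective h)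
    (hred : Function.Exact (f.lTensor (IsLocalRing.ResidueField A)) (g.lTensor (IsLocalRing.ResidueField A))) :
    Module.Flat A M ∧ Function.Exact f g := by
  let k := IsLocalRing.ResidueField A
  let I := LinearMap.range g
  let g' : Q →ₗ[A] I := g.rangeRestrict
  have hg' : Function.Surjective g' := g.surjective_rangeRestrict
  have hgI : g = I.subtype ∘ₗ g' := rfl
  have hI : Function.Exact I.subtype h := LinearMap.exact_iff.mpr (by rw [Submodule.range_subtype]; exact LinearMap.exact_iff.mp hgh)
  have hgf : g' ∘ₗ f = 0 := LinearMap.ext fun x => Subtype.ext (LinearMap.congr_fun hfg x)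
  have hinj : Function.Injective (I.subtype.lTensor k) := by
    rw [injective_iff_map_eq_zero]
    intro x hx
    obtain ⟨q, rfl⟩ := LinearMap.lTensor_surjective k hg' x
    rw [← LinearMap.lTensor_comp_apply, ← hgI] at hx
    obtain ⟨p, rfl⟩ := (hred q).mp hx
    rw [← LinearMap.lTensor_comp_apply, hgf, LinearMap.lTensor_zero, LinearMap.zero_apply]
  have h1 := Groth.Agent.S15129.result A I R M I.subtype h (Submodule.injective_subtype _) hh hI
  have hM := h1.1 hinj
  have hIflat := (h1.2 hM).1
  refine ⟨hM, ?_⟩
  let K := LinearMap.ker g'
  have h2 := (Groth.Agent.S15129.result A K Q I K.subtype g' (Submodule.injective_subtype _) hg'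
    g'.exact_subtype_ker_map).2 hIflat
  let f' : P →ₗ[A] K := f.codRestrict K fun x => LinearMap.mem_ker.mpr (LinearMap.congr_fun hgf x)
  have hf' : K.subtype ∘ₗ f' = f := rfl
  have hsurj : Function.Surjective f' := by
    refine Groth.ArtinFlat.surjective_of_residue Groth.ArtinFlat.isNilpotent_maximalIdeal f' fun z => ?_
    have hgK : g ∘ₗ K.subtype = 0 := LinearMap.ext fun x => congrArg Subtype.val (LinearMap.mem_ker.mp x.2)
    have hz : g.lTensor k (K.subtype.lTensor k z) = 0 := by
      rw [← LinearMap.lTensor_comp_apply, hgK, LinearMap.lTensor_zero, LinearMap.zero_apply]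
    obtain ⟨p, hp⟩ := (hred _).mp hz
    refine ⟨p, h2.2 ?_⟩
    rw [← LinearMap.lTensor_comp_apply, hf']
    exact hp
  intro q
  refine ⟨fun hq => ?_, fun ⟨p, hp⟩ => hp ▸ LinearMap.congr_fun hfg p⟩
  obtain ⟨p, hp⟩ := hsurj ⟨q, LinearMap.mem_ker.mpr (Subtype.ext hq)⟩
  exact ⟨p, congrArg Subtype.val hp⟩

end Groth.Agent.S15130
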