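import Groth.Statements.S15131
import Groth.Agent.ArtfunDeform.FunctorBasic

set_option autoImplicit false
universe u v
open CategoryTheory
open ArtFun

namespace Groth.Agent.S15131

open Groth.ArtfunDeform ArtFun.Art


/-- Let k be a field and F a functor on local Artinian k-algebras with residue field k with F(k) a
single point, satisfying (H1) (the comparison map of A₁ ×_A A₂ is surjective when A₂ → A is a small
extension) and (H2) (it is bijective when A = k and A₂ = k[ε]). If the tangent space F(k[ε]) is a
single point then F is the one-point functor: every F(A) has exactly one element. (The converse is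
clear.) -/
theorem result
    {k : Type u} [Field k] (F : ArtFun.Art k k ⥤ Type v)
    (h0 : ArtFun.H0 F) (h1 : ArtFun.Hbar F) (h2 : ArtFun.Heps F)
    (ht : Subsingleton (ArtFun.TangentSpace F)) (A : ArtFun.Art k k) :
    Nonempty (F.obj A) ∧ Subsingleton (F.obj A) := by
  refine (surj_induction (P := fun A B f => Function.Surjective f ∧
    (Subsingleton (F.obj A) → Subsingleton (F.obj B))) ?_ ?_ ?_ (toBase A) A.res_surjective).2 h0.2
      |> fun hs => ⟨⟨F.map (homMk (A := base k k) (B := A) (Algebra.ofId k A) (AlgHom.ext fun c => A.res.commutes c)) h0.1.some⟩, hs⟩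
  · intro A B e he
    exact ⟨(bijective_of_isIso e).2, fun hA => (bijective_map_of_isIso F e).1.subsingleton⟩
  · intro A B p hp
    refine ⟨hp.1, fun hA => ⟨fun y y' => ?_⟩⟩
    obtain ⟨P, q₁, q₂, hP⟩ := exists_isFibreProd p p hp.1
    obtain ⟨t, hker⟩ := hp.2.2.1.principal
    change RingHom.ker p.toAlgHom = Ideal.span {t} at hker
    obtain ⟨g, hg⟩ := exists_isDiff hp hker hP
    obtain ⟨w, hw1, hw2⟩ := exists_action h1 hp hP y y' (Subsingleton.elim _ _)
    have : w = F.map (fpLift hP (𝟙 B) (𝟙 B) rfl) y := by
      refine (cmp_injective_iff (isFibreProd_diff hp hker hP hg)).1 (h2 _ _ _).1 _ _ ?_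
        (@Subsingleton.elim _ ht _ _)
      rw [map_map, fpLift_fst, map_id', hw1]
    rw [← hw2, this, map_map, fpLift_snd, map_id']
  · exact fun A B C p q hp hq => ⟨hq.1.comp hp.1, fun hA => hp.2 (hq.2 hA)⟩

end Groth.Agent.S15131
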