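import Groth.Statements.S15133
import Mathlib
import Groth.Agent.ArtComplex.Middle

set_option autoImplicit false
universe u
open CategoryTheory
open CAlg

namespace Groth.Agent.S15133

/-- Let A be an Artinian local ring with residue field k, n ≥ 1, and 0 → I → P₀ → P₁ → ⋯ → Pₙ a complex
of A-modules with P₀, …, Pₙ flat whose reduction 0 → k ⊗ I → k ⊗ P₀ → ⋯ → k ⊗ Pₙ is exact. Then I
and coker(Pₙ₋₁ → Pₙ) are flat. The complex is written as a cochain complex C indexed by ℕ with C⁰ =
I and Cⁱ⁺¹ = Pᵢ; its terms in degrees above n + 1 play no role. (The published statement adds that I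
maps onto the kernel of k ⊗ P₀ → k ⊗ P₁, which is already part of the exactness hypothesis, and is
for local Artinian algebras over an algebraically closed field of characteristic zero having that
field as residue field; this row allows any Artinian local ring.) -/
theorem result
    (A : Type u) [CommRing A] [IsLocalRing A] [IsArtinianRing A] (n : ℕ) (hn : 0 < n)
    (C : CochainComplex (ModuleCat.{u} A) ℕ)
    (hflat : ∀ i, i ≤ n → Module.Flat A (C.X (i + 1)))
    (hred : ∀ j, j ≤ n →
      (((MonoidalCategory.tensorLeft (ModuleCat.of A (IsLocalRing.ResidueField A))).mapHomologicalComplex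
        (ComplexShape.up ℕ)).obj C).ExactAt j) :
    Module.Flat A (C.X 0) ∧ Module.Flat A (C.X (n + 1) ⧸ LinearMap.range (C.d n (n + 1)).hom) := by
  let F := MonoidalCategory.tensorLeft (ModuleCat.of A (IsLocalRing.ResidueField A))
  let D := (F.mapHomologicalComplex (ComplexShape.up ℕ)).obj C
  have hex : ∀ i, i + 1 ≤ n → Function.Exact ((C.d i (i + 1)).hom.lTensor (IsLocalRing.ResidueField A))
      ((C.d (i + 1) (i + 2)).hom.lTensor (IsLocalRing.ResidueField A)) := fun i hi => by
    have h := (D.exactAt_iff' i (i + 1) (i + 2) (CochainComplex.prev_nat_succ i) (CochainComplex.next ℕ _)).1 (hred (i + 1) hi)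
    exact (CategoryTheory.ShortComplex.ShortExact.moduleCat_exact_iff_function_exact _).1 h
  have hinj : Function.Injective ((C.d 0 1).hom.lTensor (IsLocalRing.ResidueField A)) := by
    have h := (D.exactAt_iff' 0 0 1 CochainComplex.prev_nat_zero (CochainComplex.next ℕ _)).1 (hred 0 (Nat.zero_le n))
    have h' := (CategoryTheory.ShortComplex.ShortExact.moduleCat_exact_iff_function_exact _).1 h
    have h0 : (D.sc' 0 0 1).f = 0 := D.shape _ _ (by simp)
    rw [injective_iff_map_eq_zero]
    intro x hx
    obtain ⟨y, hy⟩ := (h' x).1 hx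
    rw [← hy, h0]
    rfl
  have hd : ∀ i, (C.d (i + 1) (i + 2)).hom ∘ₗ (C.d i (i + 1)).hom = 0 := fun i => by
    rw [← ModuleCat.hom_comp, C.d_comp_d]; rfl
  obtain ⟨m, rfl⟩ : ∃ m, n = m + 1 := ⟨n - 1, by omega⟩
  have := hflat m (by omega); have := hflat (m + 1) le_rfl
  have := hflat 0 (by omega); have := hflat 1 (by omega)
  refine ⟨?_, (Groth.ArtComplex.middle _ _ (hd m) (hex m le_rfl)).2.2⟩
  obtain ⟨hr, hp, -⟩ := Groth.ArtComplex.middle _ _ (hd 0) (hex 0 (by omega))
  let f0 : C.X 0 →ₗ[A] LinearMap.ker (C.d (0 + 1) (0 + 2)).hom :=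
    (C.d 0 (0 + 1)).hom.codRestrict _ fun x => hr.le ⟨x, rfl⟩
  have hs : Function.Surjective f0 := fun y => by
    obtain ⟨x, hx⟩ := hr.ge y.2
    exact ⟨x, Subtype.ext hx⟩
  have hi : Function.Injective (f0.lTensor (IsLocalRing.ResidueField A)) := by
    have he : (C.d 0 1).hom = (LinearMap.ker (C.d (0 + 1) (0 + 2)).hom).subtype ∘ₗ f0 := rfl
    rw [he, LinearMap.lTensor_comp, LinearMap.coe_comp] at hinj
    exact hinj.of_comp
  have := Groth.ArtComplex.injective_of_projective_of_lTensor f0 hs hi
  exact Module.Flat.of_linearEquiv (LinearEquiv.ofBijective f0 ⟨this, hs⟩)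

end Groth.Agent.S15133
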