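import Groth.Statements.S15134
import Groth.Agent.ArtfunDeform.FunctorBasic

set_option autoImplicit false
universe u v
open CategoryTheory
open ArtFun

namespace Groth.Agent.S15134

open Groth.ArtfunDeform


/-- Let k be a field and F a functor on local Artinian k-algebras with residue field k with F(k) a
point. If F satisfies (H2') — the comparison map F(A₁ ×_k A₂) → F(A₁) × F(A₂) is bijective for every
pair of objects — then F satisfies condition (L): for every small extension f : B → A with kernel J,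
writing P = B ×_k B, Q = A ×_k A, r : P → Q for the map induced by f, and C = P/K with K the ideal
of P consisting of the pairs (b, b) with b ∈ J, every element of F(Q) whose two images in F(A) agree
lifts along F(C) → F(Q). Here P and Q are pinned as fibre products over k, K is described through
the two projections, and the two inequalities on K (it lies in the maximal ideal of P and is killed
by r), which always hold, are taken as hypotheses so that the quotient object and the factored map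
can be named. -/
theorem result
    {k : Type u} [Field k] (F : ArtFun.Art k k ⥤ Type v) (h0 : ArtFun.H0 F)
    (h2' : ∀ ⦃P A' A'' : ArtFun.Art k k⦄ (p' : P ⟶ A') (p'' : P ⟶ A'')
      (h : ArtFun.Art.IsFibreProd p' p'' (ArtFun.Art.toBase A') (ArtFun.Art.toBase A'')),
      Function.Bijective (ArtFun.cmp F h))
    ⦃B A : ArtFun.Art k k⦄ (f : B ⟶ A) (hf : ArtFun.Art.IsSmallExt f)
    ⦃P : ArtFun.Art k k⦄ (p₁ p₂ : P ⟶ B)
    (hP : ArtFun.Art.IsFibreProd p₁ p₂ (ArtFun.Art.toBase B) (ArtFun.Art.toBase B))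
    ⦃Q : ArtFun.Art k k⦄ (q₁ q₂ : Q ⟶ A)
    (hQ : ArtFun.Art.IsFibreProd q₁ q₂ (ArtFun.Art.toBase A) (ArtFun.Art.toBase A))
    (r : P ⟶ Q) (hr₁ : r ≫ q₁ = p₁ ≫ f) (hr₂ : r ≫ q₂ = p₂ ≫ f)
    (hK : Ideal.span {z : P | p₁ z = p₂ z ∧ f (p₁ z) = 0} ≤ IsLocalRing.maximalIdeal P)
    (hKr : Ideal.span {z : P | p₁ z = p₂ z ∧ f (p₁ z) = 0} ≤ RingHom.ker r.toAlgHom)
    (y : F.obj Q) (hy : F.map q₁ y = F.map q₂ y) :
    ∃ z : F.obj (ArtFun.Art.quot P (Ideal.span {z : P | p₁ z = p₂ z ∧ f (p₁ z) = 0}) hK),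
      F.map (ArtFun.Art.quotFactor hK r hKr) z = y := by
  have hδ := fpLift_fst hQ (𝟙 A) (𝟙 A) rfl
  let δ := fpLift hQ (𝟙 A) (𝟙 A) rfl
  have hy' : F.map δ (F.map q₁ y) = y := by
    refine (cmp_injective_iff hQ).1 (h2' q₁ q₂ hQ).1 _ _ ?_ ?_
    · rw [map_map F δ, fpLift_fst, map_id']
    · rw [map_map F δ, fpLift_snd, map_id', hy]
  let Δ := fpLift hP (𝟙 B) (𝟙 B) rfl
  let mkC := ArtFun.Art.quotMk P _ hK
  have hkill : RingHom.ker f.toAlgHom ≤ RingHom.ker (Δ ≫ mkC).toAlgHom := fun b hb => by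
    change ArtFun.Art.quotMk P _ hK (Δ b) = 0
    refine (quotMk_eq_zero_iff hK _).2 (Ideal.subset_span ?_)
    have h1 : p₁ (Δ b) = b := by rw [← ArtFun.Art.comp_apply, fpLift_fst]; rfl
    have h2 : p₂ (Δ b) = b := by rw [← ArtFun.Art.comp_apply, fpLift_snd]; rfl
    exact ⟨h1.trans h2.symm, by rw [h1]; exact hb⟩
  let e := ArtFun.Art.quotFactor (ker_le_maximalIdeal f) f le_rfl
  haveI : IsIso e := isIso_of_bijective e
    ⟨quotFactor_injective _ _ _ le_rfl, quotFactor_surjective _ _ _ hf.1⟩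
  let δ' := inv e ≫ ArtFun.Art.quotFactor (ker_le_maximalIdeal f) (Δ ≫ mkC) hkill
  refine ⟨F.map δ' (F.map q₁ y), ?_⟩
  conv_rhs => rw [← hy']
  rw [map_map F δ']
  refine congrArg (fun u => F.map u (F.map q₁ y)) ?_
  rw [Category.assoc, IsIso.inv_comp_eq]
  apply hom_ext_apply
  intro x
  obtain ⟨b, rfl⟩ := ArtFun.Art.quotMk_surjective _ _ (ker_le_maximalIdeal f) x
  refine hQ.inj _ _ ?_ ?_
  · change q₁ (r (Δ b)) = q₁ (δ (f b))
    rw [← ArtFun.Art.comp_apply r q₁, hr₁, ← ArtFun.Art.comp_apply δ q₁, fpLift_fst, ArtFun.Art.comp_apply,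
      ← ArtFun.Art.comp_apply Δ p₁, fpLift_fst]
    rfl
  · change q₂ (r (Δ b)) = q₂ (δ (f b))
    rw [← ArtFun.Art.comp_apply r q₂, hr₂, ← ArtFun.Art.comp_apply δ q₂, fpLift_snd, ArtFun.Art.comp_apply,
      ← ArtFun.Art.comp_apply Δ p₂, fpLift_snd]
    rfl

end Groth.Agent.S15134
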