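import Groth.Statements.S15135
import Groth.Agent.EtaleAlgebra.EmbeddedDefGraph
-- import your own Groth.Agent.* helpers here

set_option autoImplicit false
universe u v
open Deform

namespace Groth.Agent.S15135

/-- For R-modules M ⊆ N, the first-order embedded deformations of M in N are in canonical bijection with
Hom_R(M, N/M). Writing N ⊗ k[ε] = N ⊕ εN as N × N (the pair (x, y) standing for x + εy), such a
deformation is an R-submodule L of N × N which is stable under multiplication by ε (if (x, y) ∈ L
then (0, x) ∈ L), reduces to M (x ∈ M exactly when (x, y) ∈ L for some y) and is flat over the dual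
numbers, flatness being stated elementwise as: (0, y) ∈ L only if y ∈ M (for a submodule reducing to
M this is the equality of the kernel and the image of ε on L, i.e. flatness over k[ε] when R is an
algebra over a field k). To φ : M → N/M corresponds the submodule of all (x, y) with x ∈ M and y ≡
φ(x) mod M. The first clause says this rule defines exactly one submodule for each φ; the second
says that a submodule has the three properties precisely when its membership is given by this rule
for some φ. (The published statement is a linear isomorphism t_G ≅ Hom_R(M, N/M) for the functor G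
of flat deformations of M inside N ⊗ A over local Artinian algebras A; this row states only the
underlying bijection, and the obstruction half is not stated here.) -/
theorem result
    (R : Type u) [CommRing R] (N : Type v) [AddCommGroup N] [Module R N] (M : Submodule R N) :
    (∀ φ : M →ₗ[R] (N ⧸ M), ∃! L : Submodule R (N × N),
        ∀ x y : N, (x, y) ∈ L ↔ ∃ h : x ∈ M, Submodule.Quotient.mk y = φ ⟨x, h⟩) ∧
    (∀ L : Submodule R (N × N),
      ((∀ x y : N, (x, y) ∈ L → ((0 : N), x) ∈ L) ∧
        (∀ x : N, x ∈ M ↔ ∃ y : N, (x, y) ∈ L) ∧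
        (∀ y : N, ((0 : N), y) ∈ L → y ∈ M)) ↔
      ∃ φ : M →ₗ[R] (N ⧸ M), ∀ x y : N, (x, y) ∈ L ↔ ∃ h : x ∈ M, Submodule.Quotient.mk y = φ ⟨x, h⟩) := by
  refine ⟨fun φ => Groth.EtaleAlgebra.EmbeddedDef.existsUnique_graph M M.mkQ φ, fun L => ?_⟩
  refine Iff.trans ?_ (Groth.EtaleAlgebra.EmbeddedDef.graph_iff M M.mkQ M.mkQ_surjective L)
  constructor
  · rintro ⟨h1, h2, h3⟩
    refine ⟨h2, fun y => ⟨fun h => (Submodule.Quotient.mk_eq_zero M).2 (h3 y h), fun h => ?_⟩⟩
    obtain ⟨z, hz⟩ := (h2 y).1 ((Submodule.Quotient.mk_eq_zero M).1 h)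
    exact h1 y z hz
  · rintro ⟨h2, h3⟩
    exact ⟨fun x y h => (h3 x).2 ((Submodule.Quotient.mk_eq_zero M).2 ((h2 x).2 ⟨y, h⟩)), h2,
      fun y h => (Submodule.Quotient.mk_eq_zero M).1 ((h3 y).1 h)⟩

end Groth.Agent.S15135
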