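import Groth.Statements.S15138
import Groth.Agent.ResolveSurf.FiniteExtensionTrace
import Groth.Agent.S2654
import Groth.Agent.PropsBasic.NagataLocal

set_option autoImplicit false
set_option backward.isDefEq.respectTransparency.types false
set_option linter.style.haveILetI false
universe u
open CategoryTheory CategoryTheory.Limits AlgebraicGeometry
open Resolve

namespace Groth.Agent.S15138

open Groth.ResolveSurf

/-- Let A → B be a finite injective ring map between excellent Noetherian normal domains of Krull
dimension two (the affine form of a finite surjective morphism of two-dimensional excellent normal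
integral schemes), let K ⊆ L be the induced extension of fraction fields, and assume that the degree
[L : K] is a unit in A. If B has rational singularities, in the sense that its localization at every
maximal ideal of height two defines a rational singularity (every proper morphism onto the spectrum
from an integral normal scheme which is an isomorphism over a nonempty open has H^1 of the structure
sheaf zero), then A has rational singularities in the same sense. (The published statement is for
schemes; the property is local on the target and a finite morphism is affine, so this row is its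
affine form.) -/
theorem result (A B : Type u) [CommRing A] [CommRing B]
    [IsDomain A] [IsDomain B] [IsNoetherianRing A] [IsNoetherianRing B] [IsIntegrallyClosed A] [IsIntegrallyClosed B]
    (hAe : EGA4.IsExcellent A) (hBe : EGA4.IsExcellent B) (hA2 : ringKrullDim A = 2) (hB2 : ringKrullDim B = 2)
    [Algebra A B] [Module.Finite A B] (hinj : Function.Injective (algebraMap A B))
    (K L : Type u) [Field K] [Field L] [Algebra A K] [IsFractionRing A K] [Algebra B L] [IsFractionRing B L]
    [Algebra K L] [Algebra A L] [IsScalarTower A K L] [IsScalarTower A B L]
    (hdeg : IsUnit ((Module.finrank K L : ℕ) : A))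
    (hB : ∀ (n : Ideal B) [n.IsMaximal], ringKrullDim (Localization.AtPrime n) = 2 →
      Curv2.IsRationalSing (Localization.AtPrime n))
    (m : Ideal A) [m.IsMaximal] (hm : ringKrullDim (Localization.AtPrime m) = 2) :
    Curv2.IsRationalSing (Localization.AtPrime m) := by
  have hNB : CAlg.IsNagata B := Groth.Agent.S2654.result B ⟨hBe.1, hBe.2.2.1, hBe.2.2.2⟩
  let A' := Localization.AtPrime m
  let M : Submonoid B := Algebra.algebraMapSubmonoid B m.primeCompl
  let B' := Localization M
  have hM : M ≤ nonZeroDivisors B := by
    rintro _ ⟨a, ha, rfl⟩
    rw [mem_nonZeroDivisors_iff_ne_zero]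
    exact fun h => ha ((map_eq_zero_iff _ hinj).1 h ▸ m.zero_mem)
  haveI : IsDomain B' := IsLocalization.isDomain_localization hM
  haveI : IsNoetherianRing B' := IsLocalization.isNoetherianRing M B' inferInstance
  haveI : IsIntegrallyClosed B' := isIntegrallyClosed_of_isLocalization B' M hM
  letI : Algebra A' B' := (IsLocalization.map B' (algebraMap A B) (show m.primeCompl ≤ M.comap (algebraMap A B)
    from fun a ha => ⟨a, ha, rfl⟩) : A' →+* B').toAlgebra
  haveI : IsScalarTower A A' B' := IsScalarTower.of_algebraMap_eq fun a => by
    rw [IsScalarTower.algebraMap_apply A B B']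
    exact (IsLocalization.map_eq (g := algebraMap A B) _ a).symm
  haveI : IsLocalization (Algebra.algebraMapSubmonoid B m.primeCompl) B' := inferInstanceAs (IsLocalization M B')
  haveI : Module.Finite A' B' := Module.Finite.of_isLocalization A B m.primeCompl
  have hinj' : Function.Injective (algebraMap A' B') :=
    IsLocalization.map_injective_of_injective' (M := m.primeCompl) (N := M) (f := algebraMap A B) (Rₘ := A') (Sₘ := B')
      (hf := fun a ha => ⟨a, ha, rfl⟩) (hN := fun h => nonZeroDivisors.ne_zero (hM h) rfl) (hf' := hinj)
  letI : Algebra A' K := (IsLocalization.lift (M := m.primeCompl) (g := algebraMap A K) fun y =>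
    IsUnit.mk0 _ fun h => y.2 ((map_eq_zero_iff _ (IsFractionRing.injective A K)).1 h ▸ m.zero_mem)).toAlgebra
  haveI : IsScalarTower A A' K := IsScalarTower.of_algebraMap_eq fun a => (IsLocalization.lift_eq _ a).symm
  haveI : IsFractionRing A' K := IsFractionRing.isFractionRing_of_isDomain_of_isLocalization m.primeCompl A' K
  letI : Algebra B' L := (IsLocalization.lift (M := M) (g := algebraMap B L) fun y =>
    IsUnit.mk0 _ fun h => nonZeroDivisors.ne_zero (hM y.2) ((map_eq_zero_iff _ (IsFractionRing.injective B L)).1 h)).toAlgebra
  haveI : IsScalarTower B B' L := IsScalarTower.of_algebraMap_eq fun b => (IsLocalization.lift_eq _ b).symm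
  haveI : IsFractionRing B' L := IsFractionRing.isFractionRing_of_isDomain_of_isLocalization M B' L
  letI : Algebra A' L := ((algebraMap K L).comp (algebraMap A' K)).toAlgebra
  haveI : IsScalarTower A' K L := IsScalarTower.of_algebraMap_eq' rfl
  haveI : IsScalarTower A' B' L := IsScalarTower.of_algebraMap_eq' (by
    refine IsLocalization.ringHom_ext m.primeCompl (RingHom.ext fun a => ?_)
    change algebraMap K L (algebraMap A' K (algebraMap A A' a)) =
      algebraMap B' L (algebraMap A' B' (algebraMap A A' a))
    rw [← IsScalarTower.algebraMap_apply A A' K, ← IsScalarTower.algebraMap_apply A A' B',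
      ← IsScalarTower.algebraMap_apply A K L, IsScalarTower.algebraMap_apply A B B',
      ← IsScalarTower.algebraMap_apply B B' L, ← IsScalarTower.algebraMap_apply A B L])
  have hB' : ∀ (n : Ideal B') [n.IsMaximal], Curv2.IsRationalSing (Localization.AtPrime n) := by
    intro n hn
    let n₀ := n.comap (algebraMap B B')
    haveI hn₀ : n₀.IsMaximal := by
      refine Ideal.isMaximal_of_isIntegral_of_isMaximal_comap (R := A) n₀ ?_
      have e : n₀.comap (algebraMap A B) = (n.comap (algebraMap A' B')).comap (algebraMap A A') := by
        rw [Ideal.comap_comap, Ideal.comap_comap, ← IsScalarTower.algebraMap_eq, ← IsScalarTower.algebraMap_eq]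
      haveI : (n.comap (algebraMap A' B')).IsMaximal := Ideal.isMaximal_comap_of_isIntegral_of_isMaximal n
      rw [e, IsLocalRing.eq_maximalIdeal (I := n.comap (algebraMap A' B')) inferInstance,
        show (IsLocalRing.maximalIdeal A').comap (algebraMap A A') = m from IsLocalization.AtPrime.under_maximalIdeal A' m]
      infer_instance
    haveI : IsLocalization.AtPrime (Localization.AtPrime n) n₀ :=
      IsLocalization.isLocalization_isLocalization_atPrime_isLocalization M (Localization.AtPrime n) n
    exact FiniteExtensionTrace.isRationalSing_of_ringEquiv
      (IsLocalization.algEquiv n₀.primeCompl (Localization.AtPrime n₀) (Localization.AtPrime n)).toRingEquiv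
      (FiniteExtensionTrace.isRationalSing_atPrime hB2.le hB n₀)
  intro X f hf hX hXn hbir
  letI : X.Over (Spec (CommRingCat.of A')) := ⟨f⟩
  haveI : IsProper (X ↘ Spec (CommRingCat.of A')) := hf
  refine subsingleton_of_forall_eq 0 fun x => ?_
  have h := FiniteExtensionTrace.natCast_smul_eq_zero hinj' (Groth.PropsBasic.isNagata_of_isLocalization M B' hNB)
    K L hB' hXn hbir x
  have hu : IsUnit ((Module.finrank K L : ℕ) : A') := by
    simpa using hdeg.map (algebraMap A A')
  exact hu.smul_eq_zero.1 h

end Groth.Agent.S15138
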