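import Groth.Statements.S1648
import Groth.Agent.ResolveSurf.RegularRational
import Groth.Agent.S1274
import Groth.Agent.S7319

set_option autoImplicit false
set_option backward.isDefEq.respectTransparency.types false
set_option linter.style.haveILetI false
universe u
open CategoryTheory CategoryTheory.Limits AlgebraicGeometry
open Resolve

namespace Groth.Agent.S1648

theorem birational {X' X : Scheme.{u}} (ρ : X' ⟶ X) [IsIntegral X] [IsIntegral X'] (U : X.Opens)
    (hU : (U : Set X).Nonempty) [IsIso (ρ ∣_ U)] :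
    ρ (genericPoint X') = genericPoint X ∧ IsIso (ρ.stalkMap (genericPoint X')) := by
  obtain ⟨u, hu⟩ := hU
  haveI : Nonempty U := ⟨⟨u, hu⟩⟩
  haveI : Nonempty (ρ ⁻¹ᵁ U) := (ρ ∣_ U).surjective.nonempty
  haveI : IsIntegral U := isIntegral_of_isOpenImmersion U.ι
  haveI : IsIntegral (ρ ⁻¹ᵁ U) := isIntegral_of_isOpenImmersion (ρ ⁻¹ᵁ U).ι
  refine ⟨?_, ?_⟩
  · rw [← genericPoint_eq_of_isOpenImmersion (ρ ⁻¹ᵁ U).ι, ← Scheme.Hom.comp_apply, ← morphismRestrict_ι,
      Scheme.Hom.comp_apply, genericPoint_eq_of_isOpenImmersion (ρ ∣_ U), genericPoint_eq_of_isOpenImmersion U.ι]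
  · refine LocImmersion.BirationalNormal.isIso_stalkMap_of_eq ρ
      (genericPoint_eq_of_isOpenImmersion (ρ ⁻¹ᵁ U).ι) ?_
    have h1 : IsIso (((ρ ⁻¹ᵁ U).ι ≫ ρ).stalkMap (genericPoint (ρ ⁻¹ᵁ U))) := by
      rw [Scheme.Hom.stalkMap_congr_hom _ _ (morphismRestrict_ι ρ U).symm]
      infer_instance
    rw [Scheme.Hom.stalkMap_comp] at h1
    exact @IsIso.of_isIso_comp_right _ _ _ _ _ _ ((ρ ⁻¹ᵁ U).ι.stalkMap _) inferInstance h1

/-- A Nagata regular local ring of dimension two defines a rational singularity: every normal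
modification of its spectrum has vanishing H^1 of the structure sheaf. -/
theorem result (A : Type u) [CommRing A] [IsRegularLocalRing A] (hN : CAlg.IsNagata A)
    (hdim : ringKrullDim A = 2) : Curv2.IsRationalSing A := by
  intro X f hfp hXi hXn hmod
  obtain ⟨U, hU, hiso⟩ := hmod
  haveI := hfp
  haveI := hXi
  haveI := hiso
  haveI := Groth.Ega4Algebra1.isDomain_of_isRegularLocalRing A
  haveI := Groth.Ega4Algebra1.isIntegrallyClosed_of_isRegularLocalRing A
  let S : Scheme.{u} := Spec (CommRingCat.of A)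
  let m : S := IsLocalRing.closedPoint A
  obtain ⟨hgen, hbir⟩ := birational f U hU
  have hne : ((f ⁻¹ᵁ U : X.Opens) : Set X).Nonempty := by
    obtain ⟨u, hu⟩ := hU
    haveI : Nonempty (U : Scheme.{u}) := ⟨⟨u, hu⟩⟩
    obtain ⟨x⟩ : Nonempty (f ⁻¹ᵁ U) := (f ∣_ U).surjective.nonempty
    exact ⟨x.1, x.2⟩
  have hm : IsClosed ({m} : Set S) := IsLocalRing.isClosed_singleton_closedPoint A
  let W : S.Opens := ⟨({m} : Set S)ᶜ, hm.isOpen_compl⟩
  haveI hWiso : IsIso (f ∣_ W) := Groth.ResolveSurf.RegularRational.isIso_restrict_punctured hdim.le f hgen hbir U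
    hne hiso W (fun h => h rfl)
  have hWc : IsCompact (W : Set S) := TopologicalSpace.NoetherianSpace.isCompact _
  obtain ⟨I, S', b, hb, hadm, h0, h0f⟩ := Groth.Agent.S1274.result f W hWc
  let e : A ≃+* S.presheaf.stalk m :=
    (stalkClosedPointIso (CommRingCat.of A)).commRingCatIsoToRingEquiv.symm
  obtain ⟨X'', g, hg, hgW, hcart⟩ := Groth.Agent.S7319.result S {m} (Set.finite_singleton m) hm (by
    intro x hx
    rw [Set.mem_singleton_iff] at hx
    subst hx
    exact ⟨hm, IsRegularLocalRing.of_ringEquiv e, (ringKrullDim_eq_of_ringEquiv e).symm.trans hdim⟩)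
    I (fun x hx => by
      by_contra hxm
      exact Set.disjoint_left.1 hadm.2 hx hxm)
  obtain ⟨k, hk, -⟩ := hb.2 X'' g hcart
  let h : X'' ⟶ X := k ≫ h0
  have hhf : h ≫ f = g := by rw [Category.assoc, h0f, hk]
  obtain ⟨hgp, hgs⟩ := Groth.ResolveSurf.RegularRational.contractionSeq hg
  obtain ⟨hX''i, hX''1⟩ := hgs (Groth.ResolveSurf.RegularRational.subsingleton_H1_of_isAffine S)
  haveI := hX''i
  haveI : IsProper h := by
    haveI : IsProper (h ≫ f) := hhf ▸ hgp
    exact IsProper.of_comp h f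
  have hWne : (W : Set S).Nonempty := ⟨genericPoint S, fun hh => by
    have h1 : IsField A := by
      rw [IsLocalRing.isField_iff_maximalIdeal_eq]
      have h2 := genericPoint_eq_bot_of_affine (CommRingCat.of A)
      exact (congrArg PrimeSpectrum.asIdeal (hh.symm.trans h2))
    rw [ringKrullDim_eq_zero_of_isField h1] at hdim
    exact absurd hdim (by norm_num)⟩
  haveI := hgW
  obtain ⟨hgg, hgb⟩ := birational g W hWne
  have hhgen : h (genericPoint X'') = genericPoint X := by
    have hgW' : genericPoint S ∈ W := ((genericPoint_spec S).mem_open_set_iff W.2).2 (by simpa using hWne)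
    have h1 : f (h (genericPoint X'')) = genericPoint S := by rw [← Scheme.Hom.comp_apply, hhf, hgg]
    have h2 := (f ∣_ W).isEmbedding.injective (a₁ := ⟨h (genericPoint X''), show f _ ∈ W from h1 ▸ hgW'⟩)
      (a₂ := ⟨genericPoint X, show f _ ∈ W from hgen ▸ hgW'⟩) (Subtype.ext (by rw [morphismRestrict_base_coe, morphismRestrict_base_coe]; exact h1.trans hgen.symm))
    exact congrArg Subtype.val h2
  have hhbir : IsIso (h.stalkMap (genericPoint X'')) := by
    have h3 : IsIso ((h ≫ f).stalkMap (genericPoint X'')) := by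
      rw [Scheme.Hom.stalkMap_congr_hom _ _ hhf]
      infer_instance
    rw [Scheme.Hom.stalkMap_comp] at h3
    haveI : IsIso (f.stalkMap (h (genericPoint X''))) := by rw [hhgen]; exact hbir
    exact @IsIso.of_isIso_comp_left _ _ _ _ _ (f.stalkMap (h (genericPoint X''))) (h.stalkMap _) inferInstance h3
  haveI : IsLocallyNoetherian X := LocallyOfFiniteType.isLocallyNoetherian f
  haveI := Groth.ModelsGraphs.RatSingPush.isIso_unitToPush h (fun x => (hXn x).2) hhgen hhbir
  exact Groth.ResolveSurf.RegularRational.subsingleton_H1_of_dominated h hX''1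

end Groth.Agent.S1648
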