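import Groth.Statements.S15142
import Groth.Agent.S15138
import Groth.Agent.S1648
import Groth.Agent.Calg8.IntegralDimEq

set_option autoImplicit false
set_option backward.isDefEq.respectTransparency.types false
set_option linter.style.haveILetI false
universe u
open CategoryTheory CategoryTheory.Limits AlgebraicGeometry
open Resolve

namespace Groth.Agent.S15142

/-- The invariants of an integrally closed domain are integrally closed. -/
theorem isIntegrallyClosed_fixedPoints (A : Type u) [CommRing A] [IsDomain A] [IsIntegrallyClosed A]
    (G : Type u) [Group G] [MulSemiringAction G A] : IsIntegrallyClosed (FixedPoints.subring A G) := by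
  let B := FixedPoints.subring A G
  let K := FractionRing A
  have hinj : Function.Injective (algebraMap B K) :=
    (IsFractionRing.injective A K).comp Subtype.val_injective
  refine (isIntegrallyClosed_iff (FractionRing B)).2 fun {x} hx => ?_
  obtain ⟨b₁, b₂, hb₂, rfl⟩ := IsFractionRing.div_surjective B x
  have hb₂0 : b₂ ≠ 0 := nonZeroDivisors.ne_zero hb₂
  let L : FractionRing B →ₐ[B] K := IsFractionRing.liftAlgHom (g := Algebra.ofId B K) hinj
  have h1 : IsIntegral B (L (algebraMap B _ b₁ / algebraMap B _ b₂)) := hx.map L
  rw [map_div₀, L.commutes, L.commutes] at h1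
  obtain ⟨a, ha⟩ := IsIntegrallyClosed.isIntegral_iff.1 (h1.tower_top (A := A))
  have hK2 : algebraMap B K b₂ ≠ 0 := (map_ne_zero_iff _ hinj).2 hb₂0
  rw [eq_div_iff hK2, IsScalarTower.algebraMap_apply B A K b₂, IsScalarTower.algebraMap_apply B A K b₁,
    ← map_mul] at ha
  have hab : a * (b₂ : A) = b₁ := IsFractionRing.injective A K ha
  have hfix : ∀ σ : G, σ • a = a := fun σ => by
    refine mul_right_cancel₀ (show (b₂ : A) ≠ 0 from fun h => hb₂0 (Subtype.ext h)) ?_
    rw [hab]
    conv_rhs => rw [← b₁.2 σ, ← hab, smul_mul', b₂.2 σ]
  refine ⟨⟨a, hfix⟩, ?_⟩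
  rw [eq_div_iff ((map_ne_zero_iff _ (IsFractionRing.injective B (FractionRing B))).2 hb₂0), ← map_mul]
  exact congrArg _ (Subtype.ext hab)

/-- Let R be a Noetherian domain, let A be an excellent Noetherian regular domain of Krull dimension two
(all localizations at primes are regular local rings) which is essentially of finite type over R,
and suppose a finite group G acts on A through ring automorphisms that commute with the R-action. If
the order of G is a unit in A, then the ring of invariants A^G has rational singularities: its
localization at every maximal ideal of height two defines a rational singularity (every proper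
morphism onto the spectrum from an integral normal scheme which is an isomorphism over a nonempty
open has H^1 of the structure sheaf zero). (The published statement does not assume the ring of
invariants excellent; its argument passes through the finite extension A^G ⊆ A of two-dimensional
excellent normal domains of degree dividing the order of G, and this row carries the excellence of
A^G as a hypothesis.) -/
theorem result (R A : Type u) [CommRing R] [IsDomain R]
    [IsNoetherianRing R] [CommRing A] [IsDomain A] [IsNoetherianRing A] [Algebra R A] [Algebra.EssFiniteType R A]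
    (hAe : EGA4.IsExcellent A) (hA2 : ringKrullDim A = 2)
    (hreg : ∀ (p : Ideal A) [p.IsPrime], IsRegularLocalRing (Localization.AtPrime p))
    (G : Type u) [Group G] [Finite G] [MulSemiringAction G A] [SMulCommClass G R A]
    (hG : IsUnit ((Nat.card G : ℕ) : A))
    (hGe : EGA4.IsExcellent (FixedPoints.subring A G))
    (m : Ideal (FixedPoints.subring A G)) [m.IsMaximal] (hm : ringKrullDim (Localization.AtPrime m) = 2) :
    Curv2.IsRationalSing (Localization.AtPrime m) := by
  let S := FixedPoints.subring A G
  haveI : IsNoetherianRing S := hGe.1
  haveI : IsIntegrallyClosed A := IsIntegrallyClosed.of_localization_maximal fun p _ _ => by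
    haveI := hreg p
    exact Groth.Ega4Algebra1.isIntegrallyClosed_of_isRegularLocalRing _
  haveI : IsIntegrallyClosed S := isIntegrallyClosed_fixedPoints A G
  have hinj : Function.Injective (algebraMap S A) := Subtype.val_injective
  -- the image of `G` acts faithfully
  let φ : G →* RingAut A := MulSemiringAction.toRingAut G A
  let H := φ.range
  haveI : Finite H := inferInstanceAs (Finite (Set.range φ))
  letI : MulSemiringAction H A := MulSemiringAction.compHom A H.subtype
  haveI hgal : IsGaloisGroup H S A :=
    { faithful := ⟨fun h => Subtype.ext (RingEquiv.ext fun a => h a)⟩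
      commutes := ⟨fun ⟨_, g, hg⟩ s a => by
        subst hg
        change g • ((s : A) * a) = (s : A) * g • a
        rw [smul_mul', s.2 g]⟩
      isInvariant := ⟨fun a ha => ⟨⟨a, fun g => ha ⟨φ g, g, rfl⟩⟩, rfl⟩⟩ }
  haveI : Algebra.IsIntegral S A := hgal.isInvariant.isIntegral
  let K := FractionRing S
  let L := FractionRing A
  letI : Algebra K L := FractionRing.liftAlgebra S L
  haveI : IsScalarTower S K L := FractionRing.isScalarTower_liftAlgebra S L
  letI := IsFractionRing.mulSemiringAction H A L
  haveI : IsGaloisGroup H K L := IsGaloisGroup.to_isFractionRing H S A K L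
  haveI : IsGalois K L := IsGaloisGroup.isGalois H K L
  haveI : FiniteDimensional K L := IsGaloisGroup.finiteDimensional H K L
  haveI : IsIntegralClosure A S L := IsIntegralClosure.of_isIntegrallyClosedIn
  haveI : Module.Finite S A := IsIntegralClosure.finite S K L A
  -- the degree divides the order of `G`
  have hdeg : IsUnit ((Module.finrank K L : ℕ) : S) := by
    rw [← IsGaloisGroup.card_eq_finrank H K L]
    refine isUnit_of_dvd_unit (map_dvd (Nat.castRingHom S) (Subgroup.card_range_dvd φ)) ?_
    obtain ⟨c, hc⟩ := hG.exists_right_inv
    refine isUnit_iff_exists_inv.2 ⟨⟨c, fun g => ?_⟩, Subtype.ext ?_⟩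
    · refine hG.mul_left_cancel ?_
      have h := congrArg (g • ·) hc
      simp only [smul_mul', smul_one] at h
      rw [show g • ((Nat.card G : ℕ) : A) = (Nat.card G : ℕ) from map_natCast (MulSemiringAction.toRingHom G A g) _] at h
      rw [h, hc]
    · simpa using hc
  have hS2 : ringKrullDim S = 2 := (Groth.Calg8.ringKrullDim_eq_of_integral S A hinj).symm.trans hA2
  have hNA : CAlg.IsNagata A := Groth.Agent.S2654.result A ⟨hAe.1, hAe.2.2.1, hAe.2.2.2⟩
  refine Groth.Agent.S15138.result S A hGe hAe hS2 hA2 hinj K L hdeg (fun n _ hn => ?_) m hm
  haveI := hreg n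
  exact Groth.Agent.S1648.result _ (Groth.PropsBasic.isNagata_of_isLocalization n.primeCompl _ hNA) hn

end Groth.Agent.S15142
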