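import Groth.Statements.S15146
import Mathlib.RingTheory.PowerSeries.Order
import Mathlib.RingTheory.PowerSeries.Inverse

set_option autoImplicit false
universe u
open HilbZeta

namespace Groth.Agent.S15146

/-- Let k be a field, s a natural number and R a k-subalgebra of the product of s copies of the power
series ring k[[x]], of finite codimension δ over k and local with residue field k (all components of
an element of R have the same constant term); write v_i for the x-adic order of the i-th component
of an s-tuple, and let c = (c_1, …, c_s) be the conductor exponents, so that an s-tuple f satisfies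
f·g ∈ R for every s-tuple g exactly when v_i(f) ≥ c_i for all i (over an algebraically closed field
such an R is precisely the completed local ring of a reduced curve singularity having s branches
sitting inside its normalisation, δ is its delta invariant and the conductor ideal is generated by
the x_i^{c_i}). If J is an ideal of R of finite colength which contains, for each i, an element f_i
with v_i(f_i) = l_i, then every s-tuple g with v_i(g) ≥ l_i + c_i for all i lies in R and belongs to
J. (The published statement is over an algebraically closed field; this row allows any field.) -/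
theorem result (k : Type u) [Field k] (s : ℕ)
    (R : Subalgebra k (Fin s → PowerSeries k))
    (hfin : Module.Finite k ((Fin s → PowerSeries k) ⧸ Subalgebra.toSubmodule R))
    (hloc : ∀ f ∈ R, ∀ i j : Fin s, PowerSeries.constantCoeff (f i) = PowerSeries.constantCoeff (f j))
    (c : Fin s → ℕ)
    (hc : ∀ f : Fin s → PowerSeries k,
      (∀ g : Fin s → PowerSeries k, g * f ∈ R) ↔ ∀ i, ((c i : ℕ) : ℕ∞) ≤ (f i).order)
    (J : Ideal ↥R) (hJ : Module.Finite k (↥R ⧸ J))
    (l : Fin s → ℕ) (hl : ∀ i : Fin s, ∃ f ∈ J, ((f : Fin s → PowerSeries k) i).order = ((l i : ℕ) : ℕ∞))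
    (g : Fin s → PowerSeries k) (hg : ∀ i : Fin s, ((l i + c i : ℕ) : ℕ∞) ≤ (g i).order) :
    ∃ hgR : g ∈ R, (⟨g, hgR⟩ : ↥R) ∈ J := by
  classical
  choose f hfJ hford using hl
  have hex : ∀ i, ∃ q : PowerSeries k, (g i) = ((f i : Fin s → PowerSeries k) i) * q ∧ ((c i : ℕ) : ℕ∞) ≤ q.order := by
    intro i
    set F := (f i : Fin s → PowerSeries k) i
    have hne : F ≠ 0 := fun h => by
      have := hford i
      rw [show (f i : Fin s → PowerSeries k) i = 0 from h, PowerSeries.order_zero] at this
      exact ENat.top_ne_coe _ this
    have hd : PowerSeries.X ^ (l i + c i) ∣ g i :=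
      PowerSeries.X_pow_dvd_iff.mpr fun m hm =>
        PowerSeries.coeff_of_lt_order _ (lt_of_lt_of_le (by exact_mod_cast hm) (hg i))
    obtain ⟨r, hr⟩ := hd
    obtain ⟨U, hU⟩ : ∃ U, F = PowerSeries.X ^ (l i) * U := by
      refine PowerSeries.X_pow_dvd_iff.mpr fun m hm => PowerSeries.coeff_of_lt_order _ ?_
      rw [hford i]; exact_mod_cast hm
    have hUu : IsUnit U := by
      rw [PowerSeries.isUnit_iff_constantCoeff, isUnit_iff_ne_zero]
      intro h0
      have hc0 : PowerSeries.coeff (l i) F = 0 := by
        rw [hU, PowerSeries.coeff_X_pow_mul', if_pos le_rfl, Nat.sub_self, PowerSeries.coeff_zero_eq_constantCoeff, h0]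
      have := PowerSeries.coeff_order hne
      simp [show F.order = _ from hford i] at this
      exact this hc0
    refine ⟨((hUu.unit⁻¹ : (PowerSeries k)ˣ) : PowerSeries k) * PowerSeries.X ^ (c i) * r, ?_, ?_⟩
    · have hUU : U * ((hUu.unit⁻¹ : (PowerSeries k)ˣ) : PowerSeries k) = 1 := IsUnit.mul_val_inv hUu
      rw [hr, hU, pow_add]
      linear_combination (-(PowerSeries.X ^ l i * PowerSeries.X ^ c i * r)) * hUU
    · refine PowerSeries.nat_le_order _ _ fun m hm => ?_
      exact PowerSeries.X_pow_dvd_iff.mp (Dvd.dvd.mul_right (Dvd.intro_left _ rfl) r) m hm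
  choose q hq hqo using hex
  have hqR : ∀ i, (Pi.single i (q i) : Fin s → PowerSeries k) ∈ R := by
    intro i
    have h1 := (hc (Pi.single i (q i))).mpr (fun j => ?_) 1
    · simpa using h1
    · by_cases hj : j = i
      · subst hj; simpa using hqo j
      · simp [Pi.single_eq_of_ne hj]
  let x : R := ∑ i, f i * ⟨Pi.single i (q i), hqR i⟩
  have hx : (x : Fin s → PowerSeries k) = g := by
    funext j
    simp only [x, AddSubmonoidClass.coe_finsetSum, MulMemClass.coe_mul, Finset.sum_apply, Pi.mul_apply]
    rw [Finset.sum_eq_single j]
    · simp [hq j]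
    · intro i _ hij; simp [Pi.single_eq_of_ne (Ne.symm hij)]
    · simp
  refine ⟨hx ▸ x.2, ?_⟩
  have hxJ : x ∈ J := Submodule.sum_mem _ fun i _ => J.mul_mem_right _ (hfJ i)
  convert hxJ using 1
  exact Subtype.ext hx.symm

end Groth.Agent.S15146
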