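import Groth.Statements.S15147
import Mathlib

set_option autoImplicit false
universe u
open HilbZeta

namespace Groth.Agent.S15147

/-- Let k be a field, s a natural number and R a k-subalgebra of the product of s copies of the power
series ring k[[x]], of finite codimension δ over k and local with residue field k (all components of
an element of R have the same constant term); write v_i for the x-adic order of the i-th component
of an s-tuple, and let c = (c_1, …, c_s) be the conductor exponents, so that an s-tuple f satisfies
f·g ∈ R for every s-tuple g exactly when v_i(f) ≥ c_i for all i (over an algebraically closed field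
such an R is precisely the completed local ring of a reduced curve singularity having s branches
sitting inside its normalisation, δ is its delta invariant and the conductor ideal is generated by
the x_i^{c_i}). Let I be an ideal of R of finite colength with branch-length vector a = (a_1, …,
a_s): for every i the ideal of k[[x]] generated by the i-th components of the elements of I is
(x^{a_i}), so that the pullback of Spec R/I to the i-th branch has length a_i. Then F^{a+c} ⊆ I ⊆
F^a: every s-tuple g with v_i(g) ≥ a_i + c_i for all i lies in R and belongs to I, and every element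
of I has v_i ≥ a_i for all i. (The published statement is over an algebraically closed field; this
row allows any field.) -/
theorem result (k : Type u) [Field k] (s : ℕ)
    (R : Subalgebra k (Fin s → PowerSeries k))
    (hfin : Module.Finite k ((Fin s → PowerSeries k) ⧸ Subalgebra.toSubmodule R))
    (hloc : ∀ f ∈ R, ∀ i j : Fin s, PowerSeries.constantCoeff (f i) = PowerSeries.constantCoeff (f j))
    (c : Fin s → ℕ)
    (hc : ∀ f : Fin s → PowerSeries k,
      (∀ g : Fin s → PowerSeries k, g * f ∈ R) ↔ ∀ i, ((c i : ℕ) : ℕ∞) ≤ (f i).order)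
    (I : Ideal ↥R) (hI : Module.Finite k (↥R ⧸ I)) (a : Fin s → ℕ)
    (ha : (∀ i : Fin s, Ideal.map ((Pi.evalAlgHom k (fun _ : Fin s => PowerSeries k) i).comp R.val) I = Ideal.span {PowerSeries.X ^ (a i)})) :
    (∀ g : Fin s → PowerSeries k, (∀ i : Fin s, ((a i + c i : ℕ) : ℕ∞) ≤ (g i).order) →
      ∃ hgR : g ∈ R, (⟨g, hgR⟩ : ↥R) ∈ I) ∧
    (∀ f ∈ I, ∀ i : Fin s, ((a i : ℕ) : ℕ∞) ≤ ((f : Fin s → PowerSeries k) i).order) := by
  have h2 : ∀ f ∈ I, ∀ i : Fin s, ((a i : ℕ) : ℕ∞) ≤ ((f : Fin s → PowerSeries k) i).order := by
    intro f hf i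
    have := Ideal.mem_map_of_mem ((Pi.evalAlgHom k (fun _ : Fin s => PowerSeries k) i).comp R.val) hf
    rw [ha i, Ideal.mem_span_singleton] at this
    obtain ⟨q, hq⟩ := this
    change (f : Fin s → PowerSeries k) i = _ at hq
    rw [hq, PowerSeries.order_mul, PowerSeries.order_X_pow]
    exact le_self_add
  refine ⟨fun g hg => ?_, h2⟩
  classical
  have key : ∀ i, ∃ h : ↥R, h ∈ I ∧ (h : Fin s → PowerSeries k) = Pi.single i (g i) := by
    intro i
    obtain ⟨f, hf, hfo⟩ : ∃ f ∈ I, PowerSeries.coeff (a i) ((f : Fin s → PowerSeries k) i) ≠ 0 := by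
      by_contra hcon
      push Not at hcon
      have hle : Ideal.map ((Pi.evalAlgHom k (fun _ : Fin s => PowerSeries k) i).comp R.val) I ≤
          Ideal.span {PowerSeries.X ^ (a i + 1)} := by
        rw [Ideal.map_le_iff_le_comap]
        intro f hf
        rw [Ideal.mem_comap, Ideal.mem_span_singleton, PowerSeries.X_pow_dvd_iff]
        intro m hm
        rcases Nat.lt_succ_iff_lt_or_eq.1 hm with hm' | rfl
        · exact PowerSeries.coeff_of_lt_order _ (lt_of_lt_of_le (by exact_mod_cast hm') (h2 f hf i))
        · exact hcon f hf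
      rw [ha i] at hle
      have := PowerSeries.X_pow_dvd_iff.1
        (Ideal.mem_span_singleton.1 (hle (Ideal.mem_span_singleton_self _))) (a i) (Nat.lt_succ_self _)
      simp [PowerSeries.coeff_X_pow] at this
    have hord : ((f : Fin s → PowerSeries k) i).order = (a i : ℕ) :=
      le_antisymm (PowerSeries.order_le _ hfo) (h2 f hf i)
    obtain ⟨q, hq⟩ : ((f : Fin s → PowerSeries k) i) ∣ g i := by
      have hne : (f : Fin s → PowerSeries k) i ≠ 0 := fun h0 => hfo (by simp [h0])
      refine dvd_trans ?_ (PowerSeries.X_pow_dvd_iff.2 fun m hm =>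
        PowerSeries.coeff_of_lt_order _ (lt_of_lt_of_le
          (show (m : ℕ∞) < ((a i + c i : ℕ) : ℕ∞) from Nat.cast_lt.2 (by omega)) (hg i)) :
        PowerSeries.X ^ (a i) ∣ g i)
      conv_lhs => rw [← PowerSeries.X_pow_order_mul_divXPowOrder (f := (f : Fin s → PowerSeries k) i)]
      rw [hord, ENat.toNat_natCast]
      refine (IsUnit.mul_right_dvd ?_).2 dvd_rfl
      exact PowerSeries.isUnit_divided_by_X_pow_order hne
    have hqo : ((c i : ℕ) : ℕ∞) ≤ q.order := by
      have := hg i
      rw [hq, PowerSeries.order_mul, hord, Nat.cast_add] at this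
      exact (ENat.add_le_add_iff_left (ENat.natCast_ne_top _)).1 this
    have hqR : Pi.single i q ∈ R := by
      simpa using (hc (Pi.single i q)).2 (fun j => by
        rcases eq_or_ne j i with rfl | hj
        · simpa using hqo
        · simp [Pi.single_eq_of_ne hj]) 1
    refine ⟨f * ⟨_, hqR⟩, I.mul_mem_right _ hf, ?_⟩
    funext j
    rcases eq_or_ne j i with rfl | hj
    · simp [hq]
    · simp [Pi.single_eq_of_ne hj]
  choose h hI hv using key
  have hsum : ((∑ i, h i : ↥R) : Fin s → PowerSeries k) = g := by
    rw [AddSubmonoidClass.coe_finsetSum, Finset.sum_congr rfl fun i _ => hv i]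
    exact Finset.univ_sum_single g
  have hmem : g ∈ R := hsum ▸ (∑ i, h i : ↥R).2
  refine ⟨hmem, ?_⟩
  rw [show (⟨g, hmem⟩ : ↥R) = ∑ i, h i from Subtype.ext hsum.symm]
  exact Ideal.sum_mem _ fun i _ => hI i

end Groth.Agent.S15147
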