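import Groth.Statements.S15148
import Groth.Agent.HilbZeta.Colength
import Groth.Agent.S15147

set_option autoImplicit false
universe u
open HilbZeta

namespace Groth.Agent.S15148

/-- Let k be a field, s a natural number and R a k-subalgebra of the product of s copies of the power
series ring k[[x]], of finite codimension δ over k and local with residue field k (all components of
an element of R have the same constant term); write v_i for the x-adic order of the i-th component
of an s-tuple, and let c = (c_1, …, c_s) be the conductor exponents, so that an s-tuple f satisfies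
f·g ∈ R for every s-tuple g exactly when v_i(f) ≥ c_i for all i (over an algebraically closed field
such an R is precisely the completed local ring of a reduced curve singularity having s branches
sitting inside its normalisation, δ is its delta invariant and the conductor ideal is generated by
the x_i^{c_i}), and put C = c_1 + ⋯ + c_s. Let I be an ideal of R of finite colength d with
branch-length vector a (for every i the ideal of k[[x]] generated by the i-th components of the
elements of I is (x^{a_i})). Then −δ ≤ d − Σ a_i ≤ C − δ, and the second inequality is strict when R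
is not the whole product (the singularity is not smooth). (The published statement is over an
algebraically closed field; this row allows any field.) -/
theorem result (k : Type u) [Field k] (s : ℕ)
    (R : Subalgebra k (Fin s → PowerSeries k))
    (hfin : Module.Finite k ((Fin s → PowerSeries k) ⧸ Subalgebra.toSubmodule R))
    (hloc : ∀ f ∈ R, ∀ i j : Fin s, PowerSeries.constantCoeff (f i) = PowerSeries.constantCoeff (f j))
    (c : Fin s → ℕ)
    (hc : ∀ f : Fin s → PowerSeries k,
      (∀ g : Fin s → PowerSeries k, g * f ∈ R) ↔ ∀ i, ((c i : ℕ) : ℕ∞) ≤ (f i).order)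
    (I : Ideal ↥R) (hI : Module.Finite k (↥R ⧸ I)) (a : Fin s → ℕ)
    (ha : (∀ i : Fin s, Ideal.map ((Pi.evalAlgHom k (fun _ : Fin s => PowerSeries k) i).comp R.val) I = Ideal.span {PowerSeries.X ^ (a i)})) :
    (∑ i, a i) ≤ Module.finrank k (↥R ⧸ I) + Module.finrank k ((Fin s → PowerSeries k) ⧸ Subalgebra.toSubmodule R) ∧
    Module.finrank k (↥R ⧸ I) + Module.finrank k ((Fin s → PowerSeries k) ⧸ Subalgebra.toSubmodule R) ≤ (∑ i, a i) + ∑ i, c i ∧
    (R ≠ ⊤ → Module.finrank k (↥R ⧸ I) + Module.finrank k ((Fin s → PowerSeries k) ⧸ Subalgebra.toSubmodule R) < (∑ i, a i) + ∑ i, c i) := by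
  classical
  haveI := hfin
  haveI := hI
  obtain ⟨h₁, h₂⟩ := Groth.Agent.S15147.result k s R hfin hloc c hc I hI a ha
  haveI := Groth.HilbZeta.finite_prod_quotient I
  have hle₁ : LinearMap.ker (Groth.HilbZeta.trunc k (fun i => a i + c i)) ≤ Groth.HilbZeta.toProd I :=
    fun g hg => Groth.HilbZeta.mem_toProd.2 (h₁ g fun i => by
      simpa using (Groth.HilbZeta.mem_ker_trunc _ _).1 hg i)
  have hle₂ : Groth.HilbZeta.toProd I ≤ LinearMap.ker (Groth.HilbZeta.trunc k a) := fun g hg => by
    obtain ⟨h, hgI⟩ := Groth.HilbZeta.mem_toProd.1 hg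
    exact (Groth.HilbZeta.mem_ker_trunc _ _).2 fun i => h₂ _ hgI i
  rw [← Groth.HilbZeta.finrank_prod_quotient I]
  haveI := Groth.HilbZeta.finite_quotient_ker_trunc (k := k) (fun i => a i + c i)
  have hkey := Submodule.finrank_quotient_add_finrank
    ((Groth.HilbZeta.toProd I).map (LinearMap.ker (Groth.HilbZeta.trunc k (fun i => a i + c i))).mkQ)
  rw [(Submodule.quotientQuotientEquivQuotient _ _ hle₁).finrank_eq,
    Groth.HilbZeta.finrank_quotient_ker_trunc, Finset.sum_add_distrib] at hkey
  refine ⟨?_, by omega, fun hR => ?_⟩
  · haveI := Groth.HilbZeta.finite_quotient_ker_trunc (k := k) a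
    rw [← Groth.HilbZeta.finrank_quotient_ker_trunc (k := k) a]
    exact LinearMap.finrank_le_finrank_of_surjective (Submodule.factor_surjective hle₂)
  · suffices 0 < Module.finrank k ↥((Groth.HilbZeta.toProd I).map
        (LinearMap.ker (Groth.HilbZeta.trunc k (fun i => a i + c i))).mkQ) by omega
    by_contra h0
    rw [Nat.not_lt, Nat.le_zero, Submodule.finrank_eq_zero, ← LinearMap.le_ker_iff_map,
      Submodule.ker_mkQ] at h0
    -- then the conductor would be everything
    have hc0 : ∀ i, c i = 0 := by
      intro i
      by_contra hci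
      have hmap : Ideal.map ((Pi.evalAlgHom k (fun _ : Fin s => PowerSeries k) i).comp R.val) I ≤
          Ideal.span {PowerSeries.X ^ (a i + 1)} := by
        rw [Ideal.map_le_iff_le_comap]
        intro f hf
        rw [Ideal.mem_comap, Ideal.mem_span_singleton, PowerSeries.X_pow_dvd_iff]
        intro m hm
        have h3 := (Groth.HilbZeta.mem_ker_trunc _ _).1
          (h0 (Groth.HilbZeta.mem_toProd.2 ⟨f.2, hf⟩)) i
        exact PowerSeries.coeff_of_lt_order _ (lt_of_lt_of_le
          (show (m : ℕ∞) < ((a i + c i : ℕ) : ℕ∞) from Nat.cast_lt.2 (by omega)) h3)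
      rw [ha i] at hmap
      have h4 := PowerSeries.X_pow_dvd_iff.1
        (Ideal.mem_span_singleton.1 (hmap (Ideal.mem_span_singleton_self _))) (a i) (Nat.lt_succ_self _)
      simp [PowerSeries.coeff_X_pow] at h4
    apply hR
    rw [eq_top_iff]
    intro g _
    simpa using (hc 1).2 (fun i => by simp [hc0]) g

end Groth.Agent.S15148
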