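import Groth.Statements.S15149
import Groth.Agent.HilbZeta.Colength
import Mathlib.RingTheory.PowerSeries.NoZeroDivisors
import Mathlib.RingTheory.PowerSeries.Inverse

set_option autoImplicit false
universe u
open HilbZeta

namespace Groth.Agent.S15149

/-- Let k be a field, s a natural number and R a k-subalgebra of the product of s copies of the power
series ring k[[x]], of finite codimension δ over k and local with residue field k (all components of
an element of R have the same constant term); write v_i for the x-adic order of the i-th component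
of an s-tuple, and let c = (c_1, …, c_s) be the conductor exponents, so that an s-tuple f satisfies
f·g ∈ R for every s-tuple g exactly when v_i(f) ≥ c_i for all i (over an algebraically closed field
such an R is precisely the completed local ring of a reduced curve singularity having s branches
sitting inside its normalisation, δ is its delta invariant and the conductor ideal is generated by
the x_i^{c_i}). Fix a branch j, a colength d and a branch-length vector a = (a_1, …, a_s) with a_j ≥
c_j, and let ξ be the s-tuple with x in the j-th place and 1 elsewhere. Call an ideal I of R of type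
(d, a) when it has colength d and, for every i, the ideal of k[[x]] generated by the i-th components
of its elements is (x^{a_i}). Then multiplication by ξ is a bijection from the ideals of type (d, a)
onto the ideals of type (d + 1, a + e_j), where a + e_j is a with its j-th entry raised by one: for
every ideal I of type (d, a) the set ξ·I is (the image of) an ideal of type (d + 1, a + e_j), and
every ideal of type (d + 1, a + e_j) is ξ·I for some ideal I of type (d, a). (The published
statement is the equality, in the Grothendieck ring of varieties, of the classes of the two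
corresponding branch-length strata of the punctual Hilbert scheme; this row states the bijection on
ideals underlying it, which is what the argument establishes; the published statement is over an
algebraically closed field, and this row allows any field.) -/
theorem result (k : Type u) [Field k] (s : ℕ)
    (R : Subalgebra k (Fin s → PowerSeries k))
    (hfin : Module.Finite k ((Fin s → PowerSeries k) ⧸ Subalgebra.toSubmodule R))
    (hloc : ∀ f ∈ R, ∀ i j : Fin s, PowerSeries.constantCoeff (f i) = PowerSeries.constantCoeff (f j))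
    (c : Fin s → ℕ)
    (hc : ∀ f : Fin s → PowerSeries k,
      (∀ g : Fin s → PowerSeries k, g * f ∈ R) ↔ ∀ i, ((c i : ℕ) : ℕ∞) ≤ (f i).order)
    (j : Fin s) (d : ℕ) (a : Fin s → ℕ) (hj : c j ≤ a j) :
    (∀ I ∈ {I : Ideal ↥R | Module.Finite k (↥R ⧸ I) ∧ Module.finrank k (↥R ⧸ I) = d ∧ (∀ i : Fin s, Ideal.map ((Pi.evalAlgHom k (fun _ : Fin s => PowerSeries k) i).comp R.val) I = Ideal.span {PowerSeries.X ^ (a i)})},
      ∃ J ∈ {I : Ideal ↥R | Module.Finite k (↥R ⧸ I) ∧ Module.finrank k (↥R ⧸ I) = d + 1 ∧ (∀ i : Fin s, Ideal.map ((Pi.evalAlgHom k (fun _ : Fin s => PowerSeries k) i).comp R.val) I = Ideal.span {PowerSeries.X ^ ((Function.update a j (a j + 1)) i)})},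
        (Subtype.val '' (J : Set ↥R)) = (fun f => Pi.mulSingle j PowerSeries.X * f) '' (Subtype.val '' (I : Set ↥R))) ∧
    (∀ J ∈ {I : Ideal ↥R | Module.Finite k (↥R ⧸ I) ∧ Module.finrank k (↥R ⧸ I) = d + 1 ∧ (∀ i : Fin s, Ideal.map ((Pi.evalAlgHom k (fun _ : Fin s => PowerSeries k) i).comp R.val) I = Ideal.span {PowerSeries.X ^ ((Function.update a j (a j + 1)) i)})},
      ∃ I ∈ {I : Ideal ↥R | Module.Finite k (↥R ⧸ I) ∧ Module.finrank k (↥R ⧸ I) = d ∧ (∀ i : Fin s, Ideal.map ((Pi.evalAlgHom k (fun _ : Fin s => PowerSeries k) i).comp R.val) I = Ideal.span {PowerSeries.X ^ (a i)})},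
        (Subtype.val '' (J : Set ↥R)) = (fun f => Pi.mulSingle j PowerSeries.X * f) '' (Subtype.val '' (I : Set ↥R))) := by
  classical
  haveI := hfin
  let P := Fin s → PowerSeries k
  let ξ : P := Pi.mulSingle j PowerSeries.X
  let μ : P →ₗ[k] P := LinearMap.mulLeft k ξ
  have hξj : ξ j = PowerSeries.X := by simp [ξ]
  have hξi : ∀ i, i ≠ j → ξ i = 1 := fun i hi => by simp [ξ, Pi.mulSingle_eq_of_ne hi]
  have hμ : Function.Injective μ := fun f g h => funext fun i => by
    have := congrFun h i
    refine mul_left_cancel₀ (a := ξ i) ?_ this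
    rcases eq_or_ne i j with rfl | hi
    · rw [hξj]; exact PowerSeries.X_ne_zero
    · rw [hξi i hi]; exact one_ne_zero
  -- changing the `j`-th component deep inside the conductor stays in `R`
  have hmem : ∀ f g : P, (∀ i, i ≠ j → f i = g i) → ((c j : ℕ∞) ≤ (f j - g j).order) →
      f ∈ R → g ∈ R := by
    intro f g hfg hj' hf
    have h := (hc (f - g)).2 (fun i => by
      rcases eq_or_ne i j with rfl | hi
      · exact hj'
      · rw [Pi.sub_apply, hfg i hi, sub_self, PowerSeries.order_zero]; exact le_top) 1
    rw [one_mul] at h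
    have := R.sub_mem hf h
    rwa [sub_sub_cancel] at this
  have hord : ∀ (b : Fin s → ℕ) (I : Ideal ↥R),
      (∀ i : Fin s, Ideal.map ((Pi.evalAlgHom k (fun _ : Fin s => PowerSeries k) i).comp R.val) I =
        Ideal.span {PowerSeries.X ^ (b i)}) →
      ∀ f ∈ I, ∀ i, PowerSeries.X ^ (b i) ∣ (f : P) i := by
    intro b I hb f hf i
    have := Ideal.mem_map_of_mem ((Pi.evalAlgHom k (fun _ : Fin s => PowerSeries k) i).comp R.val) hf
    rwa [hb i, Ideal.mem_span_singleton] at this
  -- branch ideals of `ξ·I`
  have hbranch : ∀ I J : Ideal ↥R, Groth.HilbZeta.toProd J = (Groth.HilbZeta.toProd I).map μ →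
      ∀ i, Ideal.map ((Pi.evalAlgHom k (fun _ : Fin s => PowerSeries k) i).comp R.val) J =
        Ideal.span {ξ i} * Ideal.map ((Pi.evalAlgHom k (fun _ : Fin s => PowerSeries k) i).comp R.val) I := by
    intro I J hIJ i
    refine le_antisymm ?_ ?_
    · rw [Ideal.map_le_iff_le_comap]
      intro f hf
      obtain ⟨g, hg, hgf⟩ : (f : P) ∈ (Groth.HilbZeta.toProd I).map μ :=
        hIJ ▸ Groth.HilbZeta.mem_toProd.2 ⟨f.2, hf⟩
      obtain ⟨hgR, hgI⟩ := Groth.HilbZeta.mem_toProd.1 hg
      rw [Ideal.mem_comap]
      show (f : P) i ∈ _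
      rw [← hgf]
      exact Ideal.mul_mem_mul (Ideal.mem_span_singleton_self _)
        (Ideal.mem_map_of_mem ((Pi.evalAlgHom k (fun _ : Fin s => PowerSeries k) i).comp R.val) hgI)
    · rw [Ideal.map, Ideal.span_mul_span', Set.singleton_mul, Ideal.span_le]
      rintro _ ⟨_, ⟨g, hg, rfl⟩, rfl⟩
      obtain ⟨h, hJ⟩ := Groth.HilbZeta.mem_toProd.1
        (hIJ ▸ Submodule.mem_map_of_mem (f := μ) (Groth.HilbZeta.mem_toProd.2 ⟨g.2, hg⟩))
      exact Ideal.mem_map_of_mem ((Pi.evalAlgHom k (fun _ : Fin s => PowerSeries k) i).comp R.val) hJ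
  -- colengths of `W` and `ξ·W`
  have hcol : ∀ W : Submodule k P,
      (Module.Finite k (P ⧸ W.map μ) ↔ Module.Finite k (P ⧸ W)) ∧
      (Module.Finite k (P ⧸ W) → Module.finrank k (P ⧸ W.map μ) = Module.finrank k (P ⧸ W) + 1) := by
    intro W
    let φ : (P ⧸ W) →ₗ[k] (P ⧸ W.map μ) :=
      Submodule.mapQ W (W.map μ) μ (fun x hx => ⟨x, hx, rfl⟩)
    have hφ : Function.Injective φ := by
      rw [injective_iff_map_eq_zero]
      intro x hx
      obtain ⟨x, rfl⟩ := Submodule.Quotient.mk_surjective _ x
      rw [Submodule.mapQ_apply, Submodule.Quotient.mk_eq_zero] at hx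
      obtain ⟨y, hy, hyx⟩ := hx
      exact (Submodule.Quotient.mk_eq_zero _).2 (hμ hyx ▸ hy)
    let ε : P →ₗ[k] k := (PowerSeries.coeff 0) ∘ₗ LinearMap.proj j
    let ε' : (P ⧸ W.map μ) →ₗ[k] k := (W.map μ).liftQ ε (by
      rintro _ ⟨y, -, rfl⟩
      show PowerSeries.coeff 0 (ξ j * y j) = 0
      rw [hξj]; simp)
    have hker : LinearMap.ker ε' = LinearMap.range φ := by
      refine le_antisymm ?_ ?_
      · intro x hx
        obtain ⟨x, rfl⟩ := Submodule.Quotient.mk_surjective _ x
        have hx0 : PowerSeries.constantCoeff (x j) = 0 := by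
          rw [← PowerSeries.coeff_zero_eq_constantCoeff_apply]
          exact hx
        obtain ⟨q, hq⟩ := PowerSeries.X_dvd_iff.2 hx0
        refine ⟨Submodule.Quotient.mk (Function.update x j q), ?_⟩
        rw [Submodule.mapQ_apply]
        congr 1
        funext i
        show ξ i * Function.update x j q i = x i
        rcases eq_or_ne i j with rfl | hi
        · rw [hξj, Function.update_self, hq]
        · rw [hξi i hi, Function.update_of_ne hi, one_mul]
      · rintro _ ⟨x, rfl⟩
        obtain ⟨x, rfl⟩ := Submodule.Quotient.mk_surjective _ x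
        show PowerSeries.coeff 0 (ξ j * x j) = 0
        rw [hξj]; simp
    have hε : Function.Surjective ε' := fun r =>
      ⟨Submodule.Quotient.mk (fun _ => PowerSeries.C r),
        show PowerSeries.coeff 0 (PowerSeries.C r) = r by simp⟩
    refine ⟨⟨fun h => Module.Finite.of_injective φ hφ, fun h => ?_⟩, fun h => ?_⟩
    · haveI : Module.Finite k ↥(LinearMap.ker ε') := by rw [hker]; infer_instance
      haveI : Module.Finite k ((P ⧸ W.map μ) ⧸ LinearMap.ker ε') :=
        Module.Finite.equiv (ε'.quotKerEquivOfSurjective hε).symm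
      exact Module.Finite.of_submodule_quotient (LinearMap.ker ε')
    · haveI : Module.Finite k ↥(LinearMap.ker ε') := by rw [hker]; infer_instance
      haveI : Module.Finite k ((P ⧸ W.map μ) ⧸ LinearMap.ker ε') :=
        Module.Finite.equiv (ε'.quotKerEquivOfSurjective hε).symm
      haveI := Module.Finite.of_submodule_quotient (LinearMap.ker ε')
      rw [← Submodule.finrank_quotient_add_finrank (LinearMap.ker ε'),
        (ε'.quotKerEquivOfSurjective hε).finrank_eq, Module.finrank_self, hker,
        LinearMap.finrank_range_of_inj hφ, add_comm]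
  have himage : ∀ I J : Ideal ↥R, Groth.HilbZeta.toProd J = (Groth.HilbZeta.toProd I).map μ →
      (Subtype.val '' (J : Set ↥R)) =
        (fun f => Pi.mulSingle j PowerSeries.X * f) '' (Subtype.val '' (I : Set ↥R)) := by
    intro I J h
    rw [← Groth.HilbZeta.coe_toProd, h, ← Groth.HilbZeta.coe_toProd, Submodule.map_coe]
    rfl
  have hrank : ∀ I J : Ideal ↥R, Groth.HilbZeta.toProd J = (Groth.HilbZeta.toProd I).map μ →
      (Module.Finite k (↥R ⧸ J) ↔ Module.Finite k (↥R ⧸ I)) ∧
      (Module.Finite k (↥R ⧸ I) → Module.finrank k (↥R ⧸ J) = Module.finrank k (↥R ⧸ I) + 1) := by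
    intro I J h
    obtain ⟨h1, h2⟩ := hcol (Groth.HilbZeta.toProd I)
    rw [← h] at h1 h2
    refine ⟨⟨fun hJ => ?_, fun hI => ?_⟩, fun hI => ?_⟩
    · haveI := Groth.HilbZeta.finite_prod_quotient J
      haveI := h1.1 inferInstance
      exact Groth.HilbZeta.finite_quotient_of_prod I
    · haveI := Groth.HilbZeta.finite_prod_quotient I
      haveI := h1.2 inferInstance
      exact Groth.HilbZeta.finite_quotient_of_prod J
    · haveI := Groth.HilbZeta.finite_prod_quotient I
      haveI := h1.2 inferInstance
      have h3 := h2 inferInstance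
      rw [Groth.HilbZeta.finrank_prod_quotient J, Groth.HilbZeta.finrank_prod_quotient I] at h3
      omega
  refine ⟨?_, ?_⟩
  · rintro I ⟨hIf, hId, hIa⟩
    -- `ξ·f ∈ R`
    have hξR : ∀ f : ↥R, f ∈ I → ξ * (f : P) ∈ R := fun f hf => by
      refine hmem f _ (fun i hi => by rw [Pi.mul_apply, hξi i hi, one_mul]) ?_ f.2
      refine PowerSeries.le_order _ _ fun m hm => PowerSeries.X_pow_dvd_iff.1
        (dvd_trans (pow_dvd_pow _ hj) ?_) m (Nat.cast_lt.1 hm)
      rw [Pi.mul_apply]
      exact dvd_sub (hord a I hIa f hf j) (dvd_mul_of_dvd_right (hord a I hIa f hf j) _)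
    let J : Ideal ↥R :=
      { carrier := {g | (g : P) ∈ (Groth.HilbZeta.toProd I).map μ}
        zero_mem' := zero_mem ((Groth.HilbZeta.toProd I).map μ)
        add_mem' := fun hg hh => ((Groth.HilbZeta.toProd I).map μ).add_mem hg hh
        smul_mem' := fun r g hg => by
          obtain ⟨f, hf, hfg⟩ := hg
          obtain ⟨hfR, hfI⟩ := Groth.HilbZeta.mem_toProd.1 hf
          refine ⟨(r : P) * f, Groth.HilbZeta.mem_toProd.2
            ⟨R.mul_mem r.2 hfR, I.mul_mem_left r hfI⟩, ?_⟩
          show ξ * ((r : P) * f) = (r : P) * (g : P)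
          rw [← hfg, mul_left_comm]; rfl }
    have hJ : Groth.HilbZeta.toProd J = (Groth.HilbZeta.toProd I).map μ := by
      refine le_antisymm (fun g hg => ?_) (fun g hg => ?_)
      · obtain ⟨h, hgJ⟩ := Groth.HilbZeta.mem_toProd.1 hg; exact hgJ
      · obtain ⟨f, hf, rfl⟩ := hg
        obtain ⟨hfR, hfI⟩ := Groth.HilbZeta.mem_toProd.1 hf
        exact Groth.HilbZeta.mem_toProd.2
          ⟨hξR _ hfI, show μ f ∈ (Groth.HilbZeta.toProd I).map μ from ⟨f, hf, rfl⟩⟩
    refine ⟨J, ⟨(hrank I J hJ).1.2 hIf, by rw [(hrank I J hJ).2 hIf, hId], fun i => ?_⟩, himage I J hJ⟩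
    rw [hbranch I J hJ i, hIa i, Ideal.span_singleton_mul_span_singleton]
    rcases eq_or_ne i j with rfl | hi
    · rw [hξj, Function.update_self, pow_succ']
    · rw [hξi i hi, Function.update_of_ne hi, one_mul]
  · rintro J ⟨hJf, hJd, hJa⟩
    let I : Ideal ↥R :=
      { carrier := {g | ∃ h : ξ * (g : P) ∈ R, (⟨ξ * (g : P), h⟩ : ↥R) ∈ J}
        zero_mem' := ⟨by simp, by convert J.zero_mem; simp⟩
        add_mem' := fun {g g'} ⟨h, hg⟩ ⟨h', hg'⟩ => ⟨by
          simpa [mul_add] using R.add_mem h h', by
          convert J.add_mem hg hg' using 1; ext1; simp [mul_add]⟩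
        smul_mem' := fun r g ⟨h, hg⟩ => ⟨by
          simpa [mul_left_comm] using R.mul_mem r.2 h, by
          convert J.mul_mem_left r hg using 1; ext1; simp [mul_left_comm]⟩ }
    have hJI : Groth.HilbZeta.toProd J = (Groth.HilbZeta.toProd I).map μ := by
      refine le_antisymm (fun f hf => ?_) ?_
      · obtain ⟨hfR, hfJ⟩ := Groth.HilbZeta.mem_toProd.1 hf
        have hdvd := hord _ J hJa _ hfJ j
        rw [Function.update_self] at hdvd
        obtain ⟨q, hq⟩ := dvd_trans (dvd_pow_self PowerSeries.X (Nat.succ_ne_zero (a j))) hdvd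
        have hfq : ξ * Function.update f j q = f := by
          funext i
          rcases eq_or_ne i j with rfl | hi
          · rw [Pi.mul_apply, hξj, Function.update_self]; exact hq.symm
          · rw [Pi.mul_apply, hξi i hi, Function.update_of_ne hi, one_mul]
        have hgR : Function.update f j q ∈ R := by
          refine hmem f _ (fun i hi => (Function.update_of_ne hi q f).symm) ?_ hfR
          rw [Function.update_self]
          refine PowerSeries.le_order _ _ fun m hm => PowerSeries.X_pow_dvd_iff.1
            (dvd_trans (pow_dvd_pow _ hj) (dvd_sub (dvd_trans (pow_dvd_pow _ (Nat.le_succ _)) hdvd) ?_))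
            m (Nat.cast_lt.1 hm)
          obtain ⟨t, ht⟩ := hdvd
          refine ⟨t, mul_left_cancel₀ PowerSeries.X_ne_zero ?_⟩
          rw [← mul_assoc, ← pow_succ']
          exact hq.symm.trans ht
        exact ⟨_, Groth.HilbZeta.mem_toProd.2 ⟨hgR, by
          show ∃ h : ξ * Function.update f j q ∈ R, _
          refine ⟨hfq.symm ▸ hfR, ?_⟩
          convert hfJ using 2⟩, hfq⟩
      · rintro _ ⟨g, hg, rfl⟩
        obtain ⟨hgR, h, hgJ⟩ := Groth.HilbZeta.mem_toProd.1 hg
        exact Groth.HilbZeta.mem_toProd.2 ⟨h, hgJ⟩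
    have hIf := (hrank I J hJI).1.1 hJf
    refine ⟨I, ⟨hIf, by have := (hrank I J hJI).2 hIf; omega, fun i => ?_⟩, himage I J hJI⟩
    have h := hbranch I J hJI i
    rw [hJa i] at h
    rcases eq_or_ne i j with rfl | hi
    · rw [hξj, Function.update_self, pow_succ', ← Ideal.span_singleton_mul_span_singleton] at h
      exact ((Ideal.span_singleton_mul_right_inj PowerSeries.X_ne_zero).1 h).symm
    · rw [hξi i hi, Function.update_of_ne hi, Ideal.span_singleton_one, Ideal.top_mul] at h
      exact h.symm

end Groth.Agent.S15149
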