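import Groth.Statements.S1515
import Groth.Agent.PCohHom.PerfCancel
import Groth.Agent.S1676
import Groth.Agent.S1509
import Groth.Agent.S2206

set_option autoImplicit false
universe u
attribute [local instance] HasDerivedCategory.standard
open FlatMor

namespace Groth.Agent.S1515

open AlgebraicGeometry CategoryTheory Limits TensorProduct

/-- Perfection of the diagonal read on rings. -/
theorem finiteTorDim_of_diagonal (A B : Type u) [CommRing A] [CommRing B] [Algebra A B] [Algebra (B ⊗[A] B) B]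
    (hmul : algebraMap (B ⊗[A] B) B = (Algebra.TensorProduct.lmul' A : B ⊗[A] B →ₐ[A] B).toRingHom)
    (h : Groth.PCohHom.MorPerf (pullback.diagonal (Spec.map (CommRingCat.ofHom (algebraMap A B))))) :
    DRing.HasFiniteTorDim (B ⊗[A] B) B := by
  rw [diagonal_SpecMap, MorphismProperty.cancel_right_of_respectsIso (P := Groth.PCohHom.MorPerf),
    HasRingHomProperty.Spec_iff (P := Groth.PCohHom.MorPerf)] at h
  have h2 : Groth.PCohHom.RingPerf (algebraMap (B ⊗[A] B) B) := by rw [hmul]; exact h
  exact (Groth.PCohHom.ringPerf_algebraMap.mp h2).2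

/-- The diagonal of an affine piece of a morphism with perfect diagonal. -/
theorem morPerf_diagonal_piece {X Y X' Y' : Scheme.{u}} (f : X ⟶ Y) (g : X' ⟶ Y') (a : X' ⟶ X) (b : Y' ⟶ Y)
    [IsOpenImmersion a] [IsOpenImmersion b] (h : g ≫ b = a ≫ f)
    (hd : Groth.PCohHom.MorPerf (pullback.diagonal f)) : Groth.PCohHom.MorPerf (pullback.diagonal g) := by
  let j := pullback.map g g f f a a b h h
  have hj : pullback.diagonal g ≫ j = a ≫ pullback.diagonal f := by
    refine pullback.hom_ext ?_ ?_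
    · rw [Category.assoc, Category.assoc, pullback.diagonal_fst, Category.comp_id]
      erw [pullback.lift_fst]
      rw [pullback.diagonal_fst_assoc]
    · rw [Category.assoc, Category.assoc, pullback.diagonal_snd, Category.comp_id]
      erw [pullback.lift_snd]
      rw [pullback.diagonal_snd_assoc]
  refine Groth.PCohHom.morPerf_cancel_smooth (g := j) ?_
  rw [hj]
  exact IsZariskiLocalAtSource.comp hd a

theorem smooth_of_flat_of_perfect {X Y : Scheme.{u}} (f : X ⟶ Y) [LocallyOfFiniteType f] [IsLocallyNoetherian Y]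
    [Flat f] (hd : MoreMor.IsPerfectMor (pullback.diagonal f)) : Smooth f := by
  refine ⟨fun {U} hU {V} hV e => ?_⟩
  have : IsNoetherianRing Γ(Y, U) := IsLocallyNoetherian.component_noetherian ⟨U, hU⟩
  let _ := (f.appLE U V e).hom.toAlgebra
  have : Algebra.FiniteType Γ(Y, U) Γ(X, V) := HasRingHomProperty.appLE @LocallyOfFiniteType f inferInstance ⟨U, hU⟩ ⟨V, hV⟩ e
  have : Module.Flat Γ(Y, U) Γ(X, V) := HasRingHomProperty.appLE @Flat f inferInstance ⟨U, hU⟩ ⟨V, hV⟩ e
  have h1 := morPerf_diagonal_piece f (Spec.map (CommRingCat.ofHom (algebraMap Γ(Y, U) Γ(X, V))))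
    hV.fromSpec hU.fromSpec (IsAffineOpen.SpecMap_appLE_fromSpec f hU hV e)
    ((Groth.PCohHom.morPerf_iff _).mpr hd)
  let _ : Algebra (Γ(X, V) ⊗[Γ(Y, U)] Γ(X, V)) Γ(X, V) :=
    (Algebra.TensorProduct.lmul' Γ(Y, U) : Γ(X, V) ⊗[Γ(Y, U)] Γ(X, V) →ₐ[Γ(Y, U)] Γ(X, V)).toRingHom.toAlgebra
  exact Groth.Agent.S2206.result (fun x y => Algebra.TensorProduct.lmul'_apply_tmul x y)
    (finiteTorDim_of_diagonal _ _ rfl h1)

open AlgebraicGeometry CategoryTheory Limits in
/-- (1) ⇔ (2) ⇔ (4): let f : X → Y be separated and of finite type between locally Noetherian schemes,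
with diagonal Δ (a closed immersion). Then f is smooth iff f is flat and Δ is a regular closed
immersion, iff f is flat and Δ is a perfect morphism. -/
theorem result {X Y : Scheme.{u}} (f : X ⟶ Y) [IsSeparated f] [LocallyOfFiniteType f] [QuasiCompact f] [IsLocallyNoetherian X] [IsLocallyNoetherian Y] :
    (Smooth f ↔ Flat f ∧ Mor2.IsRegularClosedImmersion (pullback.diagonal f)) ∧
    (Smooth f ↔ Flat f ∧ MoreMor.IsPerfectMor (pullback.diagonal f)) := by
  have hreg : Smooth f → Flat f ∧ Mor2.IsRegularClosedImmersion (pullback.diagonal f) := fun hs =>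
    ⟨inferInstance, Groth.Agent.S1676.result (pullback.fst f f) _ (pullback.diagonal_fst f)⟩
  exact ⟨⟨hreg, fun ⟨_, h⟩ => smooth_of_flat_of_perfect f (Groth.Agent.S1509.result _ h)⟩,
    ⟨fun hs => ⟨(hreg hs).1, Groth.Agent.S1509.result _ (hreg hs).2⟩, fun ⟨_, h⟩ => smooth_of_flat_of_perfect f h⟩⟩

end Groth.Agent.S1515
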