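import Groth.Statements.S15150
import Mathlib.Tactic
import Mathlib.RingTheory.Noetherian.Nilpotent
import Mathlib.RingTheory.Spectrum.Prime.FreeLocus
-- import your own Groth.Agent.* helpers here

set_option autoImplicit false
universe u
open HilbZeta

open scoped TensorProduct

namespace Groth.Agent.S15150

/-- Let A be a reduced commutative ring, S an A-algebra together with an A-algebra homomorphism π : S →
A (a section of Spec S → Spec A), with kernel m, and I an ideal of S such that S/I is a finite
projective A-module of constant rank d and m is contained in the radical of I (the finite flat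
subscheme Spec S/I of degree d lies, as a set, on the section). Then m^d ⊆ I: the subscheme lies in
the (d−1)-st infinitesimal neighbourhood of the section. (The published statement is for a closed
subscheme, flat and proper of degree d over a Noetherian base, of a family of reduced curve
singularities with a section, with no reducedness assumption on the base; over the dual numbers k[ε]
the ideal (x − ε) of k[ε][x] has quotient free of rank one and radical containing x but does not
contain x, so the base is taken reduced here, and the statement is given in its affine form, to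
which the argument reduces at once; the curve hypotheses play no role and are dropped; the condition
that Spec S/I lies set-theoretically on the section, which the published argument deduces from
properness of Z inside the germ, is a hypothesis here.) -/
theorem result (A : Type u) [CommRing A] [IsReduced A]
    (S : Type u) [CommRing S] [Algebra A S] (π : S →ₐ[A] A) (I : Ideal S) (d : ℕ)
    [Module.Finite A (S ⧸ I)] [Module.Projective A (S ⧸ I)]
    (hrank : ∀ p : PrimeSpectrum A, Module.rankAtStalk (R := A) (S ⧸ I) p = d)
    (hsupp : RingHom.ker π ≤ I.radical) :
    RingHom.ker π ^ d ≤ I := by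
  classical
  intro x hx
  rw [← Ideal.Quotient.eq_zero_iff_mem]
  set Q := S ⧸ I
  set m : Ideal Q := (RingHom.ker π).map (Ideal.Quotient.mk I) with hm
  have hxm : Ideal.Quotient.mk I x ∈ m ^ d := by
    rw [hm, ← Ideal.map_pow]; exact Ideal.mem_map_of_mem _ hx
  have hnil : ∀ y ∈ m, IsNilpotent y := by
    intro y hy
    obtain ⟨s, hs, rfl⟩ := (Ideal.mem_map_iff_of_surjective _ Ideal.Quotient.mk_surjective).mp hy
    obtain ⟨n, hn⟩ := hsupp hs
    exact ⟨n, by rw [← map_pow, Ideal.Quotient.eq_zero_iff_mem]; exact hn⟩
  have hfib : ∀ p : PrimeSpectrum A,
      (1 : p.asIdeal.ResidueField) ⊗ₜ[A] Ideal.Quotient.mk I x = 0 := by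
    intro p
    let κ := p.asIdeal.ResidueField
    let F := κ ⊗[A] Q
    let ι : Q →+* F := Algebra.TensorProduct.includeRight.toRingHom
    set n := m.map ι with hn
    have hxn : (1 : κ) ⊗ₜ[A] Ideal.Quotient.mk I x ∈ n ^ d := by
      rw [hn, ← Ideal.map_pow]; exact Ideal.mem_map_of_mem ι hxm
    have hdim : Module.finrank κ F = d := by
      rw [← hrank p]
      exact (Module.rankAtStalk_eq (R := A) (M := S ⧸ I) p).symm
    haveI : IsNoetherianRing F := isNoetherian_of_tower κ (inferInstance : IsNoetherian κ F)
    have hnn : n ≤ nilradical F := by
      rw [hn, Ideal.map_le_iff_le_comap]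
      intro y hy
      exact mem_nilradical.mpr ((hnil y hy).map ι)
    have hnilp : IsNilpotent n := by
      obtain ⟨N, hN⟩ := IsNoetherianRing.isNilpotent_nilradical F
      refine ⟨N, ?_⟩
      rw [Ideal.zero_eq_bot, eq_bot_iff, ← Ideal.zero_eq_bot, ← hN]
      exact Ideal.pow_right_mono hnn N
    let P : ℕ → Ideal F := fun k => n ^ k
    have key : ∀ k : ℕ, P k = ⊥ ∨
        Module.finrank κ ((P k).restrictScalars κ) + k ≤ d := by
      intro k
      induction k with
      | zero =>
        right
        rw [show P 0 = ⊤ from (pow_zero n).trans Ideal.one_eq_top, Submodule.restrictScalars_top,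
          finrank_top, hdim, add_zero]
      | succ k ih =>
        rcases ih with h | h
        · left
          change n ^ (k + 1) = ⊥
          change n ^ k = ⊥ at h
          rw [Submodule.pow_succ, h, Submodule.bot_mul]
        by_cases h0 : P (k + 1) = ⊥
        · exact Or.inl h0
        right
        have hle : P (k + 1) ≤ P k := Ideal.pow_le_pow_right k.le_succ
        have hne : P (k + 1) ≠ P k := by
          intro he
          apply h0
          change n ^ (k + 1) = n ^ k at he
          change n ^ (k + 1) = ⊥
          obtain ⟨N, hN⟩ := hnilp
          have : ∀ j, n ^ (k + 1 + j) = n ^ (k + 1) := by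
            intro j
            induction j with
            | zero => rfl
            | succ j ihj => rw [← add_assoc, Submodule.pow_succ, ihj, he, ← Submodule.pow_succ, he]
          rw [← this N, eq_bot_iff, ← Ideal.zero_eq_bot, ← hN]
          exact Ideal.pow_le_pow_right (Nat.le_add_left N _)
        have hlt := Submodule.finrank_lt_finrank_of_lt
          (show (P (k + 1)).restrictScalars κ < (P k).restrictScalars κ from
            lt_of_le_of_ne hle fun e => hne (Submodule.restrictScalars_injective κ F F e))
        omega
    rcases key d with h | h
    · change n ^ d = ⊥ at h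
      rw [h, Ideal.mem_bot] at hxn; exact hxn
    · have h0 : Module.finrank κ ((P d).restrictScalars κ) = 0 := by omega
      rw [Submodule.finrank_eq_zero] at h0
      have : (1 : κ) ⊗ₜ[A] Ideal.Quotient.mk I x ∈ (P d).restrictScalars κ := hxn
      rw [h0, Submodule.mem_bot] at this
      exact this
  obtain ⟨m', f, g, -, -, hgf⟩ := Module.Finite.exists_comp_eq_id_of_projective A Q
  rw [show Ideal.Quotient.mk I x = f (g (Ideal.Quotient.mk I x)) from
    (LinearMap.congr_fun hgf _).symm]
  suffices g (Ideal.Quotient.mk I x) = 0 by rw [this, map_zero]
  funext i
  have hmem : ∀ p : PrimeSpectrum A, g (Ideal.Quotient.mk I x) i ∈ p.asIdeal := by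
    intro p
    have := congrArg ((LinearMap.proj i ∘ₗ g).baseChange p.asIdeal.ResidueField) (hfib p)
    rw [LinearMap.baseChange_tmul, map_zero] at this
    have h2 := congrArg (TensorProduct.rid A p.asIdeal.ResidueField) this
    rw [TensorProduct.rid_tmul, map_zero, Algebra.smul_def, mul_one] at h2
    exact Ideal.algebraMap_residueField_eq_zero.mp h2
  have : g (Ideal.Quotient.mk I x) i ∈ nilradical A := by
    rw [nilradical_eq_sInf, Submodule.mem_sInf]
    exact fun q hq => hmem ⟨q, hq⟩
  rwa [nilradical_eq_zero] at this

end Groth.Agent.S15150
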