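import Groth.Statements.S15151
import Mathlib

set_option autoImplicit false
universe u
open CategoryTheory AlgebraicGeometry
open HilbZeta

namespace Groth.Agent.S15151

/-- Let k be a field, and let f : X → Y and g : Y → Spec k[t] be morphisms of schemes with f
quasi-compact and with zero kernel ideal sheaf (Y is the scheme-theoretic image of f), such that the
composite X → Spec k[t] is flat. Then g is flat; in particular a k[t]-subalgebra of a flat
k[t]-algebra is flat. (The published statement has no quasi-compactness hypothesis on f and is over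
an algebraically closed field; this row assumes f quasi-compact and allows any field.) -/
theorem result (k : Type u) [Field k]
    (X Y : Scheme.{u}) (f : X ⟶ Y) (g : Y ⟶ Spec (CommRingCat.of (Polynomial k)))
    [QuasiCompact f] (hker : f.ker = ⊥) [Flat (f ≫ g)] : Flat g := by
  rw [HasRingHomProperty.iff_exists_appLE (P := @Flat)
    (RingHom.Flat.stableUnderComposition.stableUnderCompositionWithLocalizationAway
      RingHom.Flat.holdsForLocalizationAway).left]
  intro y
  obtain ⟨V, hV, hyV, -⟩ := exists_isAffineOpen_mem_and_subset (U := ⊤) (Set.mem_univ y)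
  refine ⟨⟨⊤, isAffineOpen_top _⟩, ⟨V, hV⟩, hyV, le_top, ?_⟩
  let ι := (Scheme.ΓSpecIso (CommRingCat.of (Polynomial k))).inv
  have hι : Function.Bijective ι.hom := ConcreteCategory.bijective_of_isIso ι
  rw [← RingHom.Flat.comp_iff_of_bijective_right hι]
  let φ : Polynomial k →+* Γ(Y, V) := ((g.appLE ⊤ V le_top).hom).comp ι.hom
  show φ.Flat
  letI := φ.toAlgebra
  show Module.Flat (Polynomial k) Γ(Y, V)
  rw [Module.Flat.flat_iff_torsion_eq_bot_of_isBezout, eq_bot_iff]
  rintro s ⟨⟨a, ha⟩, has⟩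
  have hinj : Function.Injective (f.app V).hom := by
    rw [RingHom.injective_iff_ker_eq_bot, ← f.ker_apply ⟨V, hV⟩, hker]
    rfl
  refine hinj (?_ : (f.app V).hom s = (f.app V).hom 0)
  rw [map_zero]
  refine X.sheaf.eq_of_locally_eq' (fun W : {W : X.affineOpens // (W : X.Opens) ≤ f ⁻¹ᵁ V} =>
    (W.1 : X.Opens)) (f ⁻¹ᵁ V) (fun W => homOfLE W.2) ?_ _ _ fun W => ?_
  · intro x hx
    obtain ⟨W, hW, hxW, hWsub⟩ := exists_isAffineOpen_mem_and_subset (U := f ⁻¹ᵁ V) hx
    exact TopologicalSpace.Opens.mem_iSup.2 ⟨⟨⟨W, hW⟩, hWsub⟩, hxW⟩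
  let ψ : Polynomial k →+* Γ(X, (W.1 : X.Opens)) :=
    ((f ≫ g).appLE ⊤ W.1 le_top).hom.comp ι.hom
  have hψ : ψ.Flat := (RingHom.Flat.comp_iff_of_bijective_right hι).2
    (HasRingHomProperty.appLE (P := @Flat) (f ≫ g) inferInstance ⟨⊤, isAffineOpen_top _⟩ W.1 le_top)
  have hfac : ψ = ((f.appLE V W.1 W.2).hom).comp φ := by
    show _ = ((f.appLE V W.1 W.2).hom).comp (((g.appLE ⊤ V le_top).hom).comp ι.hom)
    rw [← RingHom.comp_assoc, ← CommRingCat.hom_comp,
      Scheme.Hom.appLE_comp_appLE f g ⊤ V (W.1 : X.Opens) le_top W.2]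
  refine Eq.trans (?_ : (f.appLE V W.1 W.2).hom s = 0) (map_zero _).symm
  letI := ψ.toAlgebra
  have : Module.Flat (Polynomial k) Γ(X, (W.1 : X.Opens)) := hψ
  have hmem : (f.appLE V W.1 W.2).hom s ∈ Submodule.torsion (Polynomial k) Γ(X, (W.1 : X.Opens)) := by
    refine ⟨⟨a, ha⟩, ?_⟩
    show ψ a * _ = 0
    rw [hfac, RingHom.comp_apply, ← map_mul]
    exact (congrArg _ has).trans (map_zero _)
  rw [Module.Flat.torsion_eq_bot, Submodule.mem_bot] at hmem
  exact hmem

end Groth.Agent.S15151
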