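import Groth.Statements.S15152
import Groth.Agent.HilbZeta.Colength
import Mathlib.RingTheory.PowerSeries.Trunc
import Mathlib

set_option autoImplicit false
universe u
open HilbZeta

namespace Groth.Agent.S15152

/-- Let k be a field, s a natural number and R a k-subalgebra of the product of s copies of the power
series ring k[[x]], of finite codimension δ over k and local with residue field k (all components of
an element of R have the same constant term); write v_i for the x-adic order of the i-th component
of an s-tuple, and let c = (c_1, …, c_s) be the conductor exponents, so that an s-tuple f satisfies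
f·g ∈ R for every s-tuple g exactly when v_i(f) ≥ c_i for all i (over an algebraically closed field
such an R is precisely the completed local ring of a reduced curve singularity having s branches
sitting inside its normalisation, δ is its delta invariant and the conductor ideal is generated by
the x_i^{c_i}). Let A be the k-subalgebra of the product of s polynomial rings k[x] consisting of
the tuples whose image in the power series product lies in R, and m₀ its ideal of tuples with zero
constant terms. Then: A is of finite type over k and has no idempotents besides 0 and 1; the product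
of polynomial rings is a finite A-module, and for some N every product of N elements of m₀
multiplies all of it into A; every element of R is approximated to any x-adic order by elements of
A; and for every N there is an M such that every element of A whose components are all divisible by
x^M lies in m₀^N. In words: Y = Spec A is a connected affine curve whose normalisation is the
disjoint union of s affine lines and is an isomorphism away from the origin, and the completed local
ring of Y at the origin is R, compatibly with the inclusion of the polynomial product in the power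
series product. (The published statement asserts the existence of such a curve Y and is over an
algebraically closed field; this row names Y and allows any field.) -/
theorem result (k : Type u) [Field k] (s : ℕ)
    (R : Subalgebra k (Fin s → PowerSeries k))
    (hfin : Module.Finite k ((Fin s → PowerSeries k) ⧸ Subalgebra.toSubmodule R))
    (hloc : ∀ f ∈ R, ∀ i j : Fin s, PowerSeries.constantCoeff (f i) = PowerSeries.constantCoeff (f j))
    (c : Fin s → ℕ)
    (hc : ∀ f : Fin s → PowerSeries k,
      (∀ g : Fin s → PowerSeries k, g * f ∈ R) ↔ ∀ i, ((c i : ℕ) : ℕ∞) ≤ (f i).order)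
    (A : Subalgebra k (Fin s → Polynomial k))
    (hA : ∀ g : Fin s → Polynomial k, g ∈ A ↔ (fun i => ((g i : Polynomial k) : PowerSeries k)) ∈ R) :
    Algebra.FiniteType k ↥A ∧
    (∀ e ∈ A, e * e = e → e = 0 ∨ e = 1) ∧
    Module.Finite ↥A (Fin s → Polynomial k) ∧
    (∃ N : ℕ, ∀ g : Fin N → (Fin s → Polynomial k),
      (∀ n, g n ∈ A ∧ ∀ i, (g n i).coeff 0 = 0) → ∀ p : Fin s → Polynomial k, p * ∏ n, g n ∈ A) ∧
    (∀ f ∈ R, ∀ N : ℕ, ∃ g ∈ A, ∀ i : Fin s, (N : ℕ∞) ≤ (f i - ((g i : Polynomial k) : PowerSeries k)).order) ∧
    (∀ N : ℕ, ∃ M : ℕ, ∀ g : ↥A, (∀ i : Fin s, Polynomial.X ^ M ∣ (g : Fin s → Polynomial k) i) →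
      g ∈ (Ideal.span {h : ↥A | ∀ i : Fin s, ((h : Fin s → Polynomial k) i).coeff 0 = 0}) ^ N) := by
  classical
  set q := Finset.univ.sup c + 1 with hq
  have hqc : ∀ i, c i ≤ q := fun i => (Finset.le_sup (Finset.mem_univ i)).trans (Nat.le_succ _)
  -- deep tuples lie in `A`
  have hdeep : ∀ g : Fin s → Polynomial k, (∀ i, Polynomial.X ^ q ∣ g i) → g ∈ A := by
    intro g hg
    rw [hA]
    have := (hc (fun i => ((g i : Polynomial k) : PowerSeries k))).2 (fun i =>
      PowerSeries.le_order _ _ fun m hm => by
        rw [Polynomial.coeff_coe]
        exact Polynomial.X_pow_dvd_iff.1 (hg i) m (lt_of_lt_of_le (Nat.cast_lt.1 hm) (hqc i))) 1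
    simpa using this
  let φ : Polynomial k →ₐ[k] (Fin s → Polynomial k) :=
    Polynomial.aeval (fun _ => Polynomial.X ^ q)
  have hφA : ∀ r, φ r ∈ A := by
    intro r
    induction r using Polynomial.induction_on' with
    | add r r' hr hr' => rw [map_add]; exact A.add_mem hr hr'
    | monomial n a =>
      rw [← Polynomial.C_mul_X_pow_eq_monomial, map_mul, map_pow, Polynomial.aeval_X,
        Polynomial.aeval_C]
      exact A.mul_mem (A.algebraMap_mem a) (A.pow_mem (hdeep _ fun i => dvd_refl _) n)
  -- the product is finite over `A`
  haveI hfinP : Module.Finite ↥A (Fin s → Polynomial k) := by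
    refine ⟨⟨(Finset.univ ×ˢ Finset.range q).image
      (fun x => Pi.single x.1 (Polynomial.X ^ x.2)), eq_top_iff.2 fun g _ => ?_⟩⟩
    rw [← Finset.univ_sum_single g]
    refine Submodule.sum_mem _ fun i _ => ?_
    induction g i using Polynomial.induction_on' with
    | add u v hu hv => rw [Pi.single_add]; exact add_mem hu hv
    | monomial n a =>
      have : (Pi.single i (Polynomial.monomial n a) : Fin s → Polynomial k) =
          (⟨φ (Polynomial.C a * Polynomial.X ^ (n / q)), hφA _⟩ : ↥A) •
            Pi.single i (Polynomial.X ^ (n % q)) := by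
        funext l
        show _ = φ (Polynomial.C a * Polynomial.X ^ (n / q)) l * _
        rcases eq_or_ne l i with rfl | hl
        · simp only [Pi.single_eq_same, φ, map_mul,
            map_pow, Polynomial.aeval_C, Polynomial.aeval_X, Pi.mul_apply, Pi.pow_apply,
            Pi.algebraMap_apply]
          rw [mul_assoc, ← pow_mul, ← pow_add, Nat.div_add_mod,
            ← Polynomial.C_mul_X_pow_eq_monomial]
          rfl
        · simp [Pi.single_eq_of_ne hl]
      rw [this]
      refine Submodule.smul_mem _ _ (Submodule.subset_span ?_)
      simp only [Finset.coe_image, Set.mem_image, Finset.mem_coe, Finset.mem_product,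
        Finset.mem_univ, Finset.mem_range, true_and]
      exact ⟨(i, n % q), Nat.mod_lt _ (Nat.succ_pos _), rfl⟩
  refine ⟨⟨fg_of_fg_of_fg k ↥A (Fin s → Polynomial k)
      (inferInstance : Algebra.FiniteType k (Fin s → Polynomial k)).out hfinP.fg_top
      Subtype.val_injective⟩, ?_, hfinP, ?_, ?_, ?_⟩
  · -- idempotents
    intro e he hee
    have h01 : ∀ i, e i = 0 ∨ e i = 1 := fun i => by
      have h := congrFun hee i
      rw [Pi.mul_apply] at h
      exact IsIdempotentElem.iff_eq_zero_or_one.1 h
    have hR := hloc _ ((hA e).1 he)
    rcases isEmpty_or_nonempty (Fin s) with hs | ⟨⟨i₀⟩⟩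
    · exact Or.inl (funext fun i => isEmptyElim i)
    rcases h01 i₀ with h | h
    · refine Or.inl (funext fun i => (h01 i).resolve_right fun h' => ?_)
      have := hR i₀ i; simp [h, h'] at this
    · refine Or.inr (funext fun i => (h01 i).resolve_left fun h' => ?_)
      have := hR i₀ i; simp [h, h'] at this
  · refine ⟨q, fun g hg p => hdeep _ fun i => ?_⟩
    rw [Pi.mul_apply, Finset.prod_apply]
    refine dvd_mul_of_dvd_right ?_ _
    have := Finset.prod_dvd_prod_of_dvd (fun _ => Polynomial.X) (fun n => g n i)
      (s := Finset.univ) fun n _ => Polynomial.X_dvd_iff.2 ((hg n).2 i)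
    simpa using this
  · intro f hf N
    let g : Fin s → Polynomial k := fun i => PowerSeries.trunc (max N q) (f i)
    have hord : ∀ i, ((max N q : ℕ) : ℕ∞) ≤ (f i - (g i : PowerSeries k)).order := fun i =>
      PowerSeries.le_order _ _ fun m hm => by
        rw [map_sub, Polynomial.coeff_coe, PowerSeries.coeff_trunc, if_pos (Nat.cast_lt.1 hm), sub_self]
    refine ⟨g, (hA g).2 ?_, fun i => le_trans (by exact_mod_cast le_max_left N q) (hord i)⟩
    have h := (hc (fun i => f i - (g i : PowerSeries k))).2 (fun i =>
      le_trans (by exact_mod_cast (hqc i).trans (le_max_right N q)) (hord i)) 1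
    rw [one_mul] at h
    have := R.sub_mem hf h
    convert this using 1
    funext i
    simp
  · intro N
    refine ⟨q * N + q, fun g hg => ?_⟩
    choose h hh using hg
    let t : Fin s → ↥A := fun i => ⟨Pi.single i (Polynomial.X ^ q), hdeep _ fun l => by
      rcases eq_or_ne l i with rfl | hl
      · simp
      · simp [Pi.single_eq_of_ne hl]⟩
    let w : Fin s → ↥A := fun i => ⟨Pi.single i (Polynomial.X ^ q * h i), hdeep _ fun l => by
      rcases eq_or_ne l i with rfl | hl
      · simp
      · simp [Pi.single_eq_of_ne hl]⟩
    have ht : ∀ (v : Fin s → Polynomial k) (i : Fin s) (hv : Polynomial.X ^ q ∣ v i)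
        (hv' : ∀ l, l ≠ i → v l = 0) (hvA : v ∈ A), (⟨v, hvA⟩ : ↥A) ∈
        Ideal.span {h : ↥A | ∀ i : Fin s, ((h : Fin s → Polynomial k) i).coeff 0 = 0} := by
      intro v i hv hv' hvA
      refine Ideal.subset_span fun l => ?_
      rcases eq_or_ne l i with rfl | hl
      · exact Polynomial.X_pow_dvd_iff.1 hv 0 (Nat.succ_pos _)
      · simp [hv' l hl]
    have hg' : g = ∑ i, t i ^ N * w i := by
      apply Subtype.ext
      rw [AddSubmonoidClass.coe_finsetSum]
      conv_lhs => rw [← Finset.univ_sum_single (g : Fin s → Polynomial k)]
      refine Finset.sum_congr rfl fun i _ => ?_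
      show _ = (Pi.single i (Polynomial.X ^ q) : Fin s → Polynomial k) ^ N * Pi.single i (Polynomial.X ^ q * h i)
      funext l
      rcases eq_or_ne l i with rfl | hl
      · simp [hh l, pow_add, pow_mul, mul_assoc]
      · simp [Pi.single_eq_of_ne hl]
    rw [hg']
    refine Ideal.sum_mem _ fun i _ => ?_
    exact Ideal.mul_mem_right _ _ (Ideal.pow_mem_pow (ht _ i (by simp)
      (fun l hl => Pi.single_eq_of_ne hl _) _) N)

end Groth.Agent.S15152
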