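import Groth.Statements.S15153
import Groth.Agent.Calg6.RankImage
import Mathlib

set_option autoImplicit false
universe u
open TensorProduct
open HilbZeta

namespace Groth.Agent.S15153

open TensorProduct

open TensorProduct in
theorem span_range_baseChange_mk {A : Type u} [CommRing A] {κ : Type u} [CommRing κ] [Algebra A κ]
    {K K' : Type u} [AddCommMonoid K] [Module A K] [AddCommMonoid K'] [Module A K'] (φ : K →ₗ[A] K') :
    Submodule.span κ (Set.range fun x : K => (1 : κ) ⊗ₜ[A] φ x) =
      LinearMap.range (φ.baseChange κ) := by
  refine le_antisymm (Submodule.span_le.2 (by rintro _ ⟨x, rfl⟩; exact ⟨1 ⊗ₜ x, rfl⟩)) ?_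
  rintro _ ⟨z, rfl⟩
  induction z using TensorProduct.induction_on with
  | zero => simp
  | tmul c x =>
    rw [show c ⊗ₜ[A] x = c • ((1 : κ) ⊗ₜ[A] x) by rw [TensorProduct.smul_tmul', smul_eq_mul, mul_one],
      map_smul]
    exact Submodule.smul_mem _ _ (Submodule.subset_span ⟨x, rfl⟩)
  | add a b ha hb => rw [map_add]; exact add_mem ha hb

theorem isConstructible_of_isOpen {T : Type u} [TopologicalSpace T] [TopologicalSpace.NoetherianSpace T]
    {U : Set T} (hU : IsOpen U) : Topology.IsConstructible U :=
  IsRetrocompact.isConstructible hU fun _ _ _ => TopologicalSpace.NoetherianSpace.isCompact _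

open TensorProduct in
theorem finrank_span_baseChange {A : Type u} [CommRing A] {S Q : Type u} [CommRing S] [Algebra A S]
    [AddCommGroup Q] [Module A Q] [Module S Q] [IsScalarTower A S Q] {κ : Type u} [Field κ]
    [Algebra A κ] {m : ℕ} (π : (Fin m → A) →ₗ[A] Q) (i : Q →ₗ[A] (Fin m → A))
    (hπi : π ∘ₗ i = LinearMap.id) (L : S →ₗ[A] ((Fin m → A) →ₗ[A] (Fin m → A)))
    (hL : ∀ s, L s = i ∘ₗ DistribSMul.toLinearMap A Q s ∘ₗ π) :
    Module.finrank κ (Submodule.span κ
      (Set.range fun s : S => LinearMap.baseChange κ (DistribSMul.toLinearMap A Q s))) =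
    Module.finrank κ ↥(LinearMap.range ((LinearMap.range L).subtype.baseChange κ)) := by
  let e := (Module.isBaseChange_map_of_finite_free (R := A) (Fin m → A) κ (Fin m)).equiv
  have hid : ∀ x, π.baseChange κ (i.baseChange κ x) = x := fun x => by
    rw [← LinearMap.comp_apply, ← LinearMap.baseChange_comp, hπi, LinearMap.baseChange_id,
      LinearMap.id_apply]
  let Ψ : Module.End κ (κ ⊗[A] Q) →ₗ[κ]
      ((κ ⊗[A] (Fin m → A)) →ₗ[κ] (κ ⊗[A] (Fin m → A))) :=
    (LinearMap.llcomp κ _ _ _ (i.baseChange κ)).comp (LinearMap.lcomp κ _ (π.baseChange κ))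
  have hΨ : Function.Injective Ψ := by
    intro f g hfg
    refine LinearMap.ext fun x => ?_
    have h := LinearMap.congr_fun hfg (i.baseChange κ x)
    change i.baseChange κ (f (π.baseChange κ _)) = i.baseChange κ (g (π.baseChange κ _)) at h
    rw [hid] at h
    rw [← hid (f x), h, hid]
  rw [(Submodule.equivMapOfInjective Ψ hΨ (Submodule.span κ _)).finrank_eq,
    (e.submoduleMap (LinearMap.range _)).finrank_eq]
  refine congrArg (fun p : Submodule κ _ => Module.finrank κ p) ?_
  have hspan := span_range_baseChange_mk (κ := κ) (LinearMap.range L).subtype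
  rw [Submodule.map_span, ← hspan, Submodule.map_span, ← Set.range_comp, ← Set.range_comp]
  have hs : ∀ s : S, Ψ ((DistribSMul.toLinearMap A Q s).baseChange κ) = e (1 ⊗ₜ L s) := fun s => by
    rw [IsBaseChange.equiv_tmul, one_smul, hL]
    show _ = (i ∘ₗ DistribSMul.toLinearMap A Q s ∘ₗ π).baseChange κ
    rw [LinearMap.baseChange_comp, LinearMap.baseChange_comp]
    rfl
  have hset : Set.range (Ψ ∘ fun s : S => (DistribSMul.toLinearMap A Q s).baseChange κ) =
      Set.range (e.toLinearMap ∘ fun x : LinearMap.range L => (1 : κ) ⊗ₜ[A] (LinearMap.range L).subtype x) := by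
    apply Set.Subset.antisymm
    · rintro _ ⟨s, rfl⟩
      exact ⟨⟨L s, s, rfl⟩, (hs s).symm⟩
    · rintro _ ⟨⟨_, s, rfl⟩, rfl⟩
      exact ⟨s, hs s⟩
  exact congrArg (Submodule.span κ) hset

/-- Let A be a Noetherian commutative ring, S a commutative A-algebra and Q an S-module which is finite
and flat as an A-module. For a prime p of A with residue field κ(p), multiplication by an element of
S induces a κ(p)-linear endomorphism of the fibre κ(p) ⊗_A Q; let φ(p) be the κ(p)-dimension of the
span of these endomorphisms, which is the colength of the annihilator of the fibre module κ(p) ⊗_A Q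
in the fibre algebra κ(p) ⊗_A S (the length of the smallest subscheme of the fibre carrying it).
Then p ↦ φ(p) is a constructible function: for every n the primes with φ(p) = n form a constructible
subset of Spec A. (The published statement is for a coherent sheaf, flat and finite over a
Noetherian base, on a family of reduced curve singularities with a section, and its function of the
base point is this colength; the curve hypotheses play no role and the row is the affine form over
any Noetherian ring.) -/
theorem result (A : Type u) [CommRing A] [IsNoetherianRing A]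
    (S : Type u) [CommRing S] [Algebra A S]
    (Q : Type u) [AddCommGroup Q] [Module A Q] [Module S Q] [IsScalarTower A S Q]
    [Module.Finite A Q] [Module.Flat A Q] (n : ℕ) :
    Topology.IsConstructible {p : PrimeSpectrum A |
      Module.finrank p.asIdeal.ResidueField
        (Submodule.span p.asIdeal.ResidueField
          (Set.range fun s : S =>
            LinearMap.baseChange p.asIdeal.ResidueField (DistribSMul.toLinearMap A Q s))) = n} := by
  classical
  have : Module.FinitePresentation A Q := Module.finitePresentation_of_finite A Q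
  have : Module.Projective A Q := Module.Flat.projective_of_finitePresentation
  obtain ⟨m, π, i, -, -, hπi⟩ := Module.Finite.exists_comp_eq_id_of_projective A Q
  let V := Fin m → A
  let L : S →ₗ[A] (V →ₗ[A] V) :=
    { toFun := fun s => i ∘ₗ DistribSMul.toLinearMap A Q s ∘ₗ π
      map_add' := fun s t => by ext v; simp [add_smul]
      map_smul' := fun a s => by ext v; simp [smul_assoc] }
  have hfree : Module.Free A (V →ₗ[A] V) := Module.Free.linearMap A A V V
  have hproj : Module.Projective A (V →ₗ[A] V) := Module.Projective.of_free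
  have hfin : Module.Finite A (V →ₗ[A] V) := Module.Finite.linearMap A A V V
  have hfin' : Module.Finite A (LinearMap.range L) :=
    Module.Finite.iff_fg.2 (IsNoetherian.noetherian _)
  let φ := (LinearMap.range L).subtype
  have h0 := Groth.Calg6.lowerSemicontinuous_finrank_range (B := A) (K := ↥(LinearMap.range L))
    (K' := (Fin m → A) →ₗ[A] (Fin m → A)) φ
  have key' : ∀ y : PrimeSpectrum A, _ = _ := fun y =>
    finrank_span_baseChange (κ := y.asIdeal.ResidueField) π i hπi L fun _ => rfl
  obtain ⟨F, hF, key⟩ : ∃ F : PrimeSpectrum A → ℕ, LowerSemicontinuous F ∧ ∀ y : PrimeSpectrum A,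
      Module.finrank y.asIdeal.ResidueField
        (Submodule.span y.asIdeal.ResidueField
          (Set.range fun s : S =>
            LinearMap.baseChange y.asIdeal.ResidueField (DistribSMul.toLinearMap A Q s))) = F y :=
    ⟨_, h0, key'⟩
  simp only [key]
  have hgt : ∀ c, Topology.IsConstructible {y | c < F y} := fun c =>
    isConstructible_of_isOpen (lowerSemicontinuous_iff_isOpen_preimage.1 hF c)
  rcases n with _ | n
  · rw [show {y | F y = 0} = {y | 0 < F y}ᶜ by ext y; simp]
    exact (hgt 0).compl
  · rw [show {y | F y = n + 1} = {y | n < F y} \ {y | n + 1 < F y} by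
      ext y; simp only [Set.mem_setOf_eq, Set.mem_sdiff]; omega]
    exact (hgt n).sdiff (hgt (n + 1))

end Groth.Agent.S15153
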