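import Groth.Statements.S15155
import Mathlib
import Groth.Agent.SkewDet.Square

set_option autoImplicit false
open CAlg

namespace Groth.Agent.S15155

/-- Let J be the 2m × 2m block matrix with blocks 0, I_m in the first row and −I_m, 0 in the second,
over the complex numbers. On the set of complex 2m × 2m matrices A with ᵗA · J = J · A (equivalently
ᵗA = J A J⁻¹, J being invertible), the characteristic polynomial is the square of a single
polynomial in the entries of A with coefficients in ℂ[X], and the determinant is the square of a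
single polynomial in the entries of A. -/
theorem result (m : ℕ) :
    (∃ P : MvPolynomial ((Fin m ⊕ Fin m) × (Fin m ⊕ Fin m)) (Polynomial ℂ),
      ∀ A : Matrix (Fin m ⊕ Fin m) (Fin m ⊕ Fin m) ℂ,
        A.transpose * Matrix.fromBlocks 0 1 (-1) 0 = Matrix.fromBlocks 0 1 (-1) 0 * A →
        A.charpoly = (MvPolynomial.eval (fun ij => Polynomial.C (A ij.1 ij.2)) P) ^ 2) ∧
    (∃ Q : MvPolynomial ((Fin m ⊕ Fin m) × (Fin m ⊕ Fin m)) ℂ,
      ∀ A : Matrix (Fin m ⊕ Fin m) (Fin m ⊕ Fin m) ℂ,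
        A.transpose * Matrix.fromBlocks 0 1 (-1) 0 = Matrix.fromBlocks 0 1 (-1) 0 * A →
        A.det = (MvPolynomial.eval (fun ij => A ij.1 ij.2) Q) ^ 2) := by
  obtain ⟨J, hJ⟩ : ∃ J : Matrix (Fin m ⊕ Fin m) (Fin m ⊕ Fin m) ℂ, Matrix.fromBlocks 0 1 (-1) 0 = J := ⟨_, rfl⟩
  have hJt : J.transpose = -J := by simp [← hJ, Matrix.fromBlocks_transpose, Matrix.fromBlocks_neg]
  have hJJ : J * J = -1 := by
    rw [← Matrix.fromBlocks_one, Matrix.fromBlocks_neg]; simp [← hJ, Matrix.fromBlocks_multiply]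
  rw [hJ]
  obtain ⟨Q, hQ⟩ := Groth.SkewDet.exists_pfaffian ℂ (Fin m ⊕ Fin m)
  obtain ⟨c, hc⟩ : ∃ c : ℂ, (-J).det = c ^ 2 := ⟨_, hQ ℂ (-J) (by rw [Matrix.transpose_neg, hJt])⟩
  constructor
  · refine ⟨Groth.SkewDet.pfRoot Q J c ((Matrix.scalar _ (MvPolynomial.C Polynomial.X) -
      Matrix.of (fun i j => MvPolynomial.X (i, j)) : Matrix (Fin m ⊕ Fin m) (Fin m ⊕ Fin m)
        (MvPolynomial ((Fin m ⊕ Fin m) × (Fin m ⊕ Fin m)) (Polynomial ℂ)))), fun A hA => ?_⟩
    let φ := (MvPolynomial.aeval (R := Polynomial ℂ)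
      fun ij : (Fin m ⊕ Fin m) × (Fin m ⊕ Fin m) => Polynomial.C (A ij.1 ij.2)).restrictScalars ℂ
    have hφ : ∀ x, MvPolynomial.eval (fun ij => Polynomial.C (A ij.1 ij.2)) x = φ x := fun x => by
      simp [φ]
    have hmap : φ.toRingHom.mapMatrix (Matrix.scalar _ (MvPolynomial.C Polynomial.X) -
        Matrix.of (fun i j => MvPolynomial.X (i, j))) = A.charmatrix := by
      refine Matrix.ext fun i j => ?_
      rw [RingHom.mapMatrix_apply, Matrix.map_apply]
      have hX : φ.toRingHom (MvPolynomial.X (i, j)) = Polynomial.C (A i j) := MvPolynomial.aeval_X _ _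
      have hC : φ.toRingHom (MvPolynomial.C Polynomial.X) = Polynomial.X := MvPolynomial.aeval_C _ _
      by_cases h : i = j
      · subst h
        rw [Matrix.sub_apply, map_sub, Matrix.charmatrix_apply_eq, Matrix.of_apply, hX, Matrix.scalar_apply,
          Matrix.diagonal_apply_eq, hC]
      · rw [Matrix.sub_apply, map_sub, Matrix.charmatrix_apply_ne _ _ _ h, Matrix.of_apply, hX,
          Matrix.scalar_apply, Matrix.diagonal_apply_ne _ h, map_zero, zero_sub]
    rw [hφ, Groth.SkewDet.map_pfRoot, hmap]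
    refine Groth.SkewDet.det_eq_pfRoot_sq Q hQ J hJt hJJ c hc A.charmatrix ?_
    have h' := congrArg (algebraMap ℂ (Polynomial ℂ)).mapMatrix hA
    simp only [map_mul, RingHom.mapMatrix_apply, Matrix.transpose_map] at h'
    rw [Matrix.charmatrix, Matrix.transpose_sub, Matrix.sub_mul, Matrix.mul_sub]
    congr 1
    rw [Matrix.scalar_apply, Matrix.diagonal_transpose]
    exact (Matrix.scalar_commute _ (fun r => Commute.all _ r) _).eq
  · refine ⟨Groth.SkewDet.pfRoot Q J c (Matrix.of (fun i j => MvPolynomial.X (i, j))), fun A hA => ?_⟩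
    let φ := MvPolynomial.aeval (R := ℂ) fun ij : (Fin m ⊕ Fin m) × (Fin m ⊕ Fin m) => A ij.1 ij.2
    have hφ : ∀ x, MvPolynomial.eval (fun ij => A ij.1 ij.2) x = φ x := fun x => by simp [φ]
    have hmap : φ.toRingHom.mapMatrix (Matrix.of (fun i j => MvPolynomial.X (i, j))) = A :=
      Matrix.ext fun i j => MvPolynomial.aeval_X _ _
    rw [hφ, Groth.SkewDet.map_pfRoot, hmap]
    exact Groth.SkewDet.det_eq_pfRoot_sq Q hQ J hJt hJJ c hc A (by simpa using hA)

end Groth.Agent.S15155
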