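import Groth.Statements.S15159
import Mathlib
-- import your own Groth.Agent.* helpers here

set_option autoImplicit false
open CAlg

namespace Groth.Agent.S15159

section
variable {ι : Type} [Fintype ι] [DecidableEq ι] {H W : Type} [AddCommGroup H] [Module ℂ H]
  [FiniteDimensional ℂ H] [AddCommGroup W] [Module ℂ W]

theorem finrank_part {Hs : ι → Submodule ℂ H} (hI : DirectSum.IsInternal Hs) (P : ι → Prop) [DecidablePred P] :
    Module.finrank ℂ ↥(⨆ i ∈ Finset.univ.filter P, Hs i) = ∑ i ∈ Finset.univ.filter P, Module.finrank ℂ (Hs i) := by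
  classical
  obtain ⟨b, hb⟩ : ∃ b : Module.Basis (Σ i, Fin (Module.finrank ℂ (Hs i))) ℂ H,
      ∀ i j, b ⟨i, j⟩ = ((Module.finBasis ℂ (Hs i) j : Hs i) : H) :=
    ⟨hI.collectedBasis fun i => Module.finBasis ℂ (Hs i), fun i j => by
      rw [DirectSum.IsInternal.collectedBasis_coe]⟩
  let f : {x : Σ i, Fin (Module.finrank ℂ (Hs i)) // P x.1} → H := fun x => b x.1
  have hspan : (⨆ i ∈ Finset.univ.filter P, Hs i) = Submodule.span ℂ (Set.range f) := by
    refine le_antisymm (iSup₂_le fun i hi => ?_) (Submodule.span_le.2 ?_)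
    · intro x hx
      have hx' := congrArg (fun z : Hs i => (z : H)) ((Module.finBasis ℂ (Hs i)).sum_repr ⟨x, hx⟩)
      simp only [Submodule.coe_sum, Submodule.coe_smul] at hx'
      rw [← hx']
      refine sum_mem fun j _ => Submodule.smul_mem _ _ (Submodule.subset_span ⟨⟨⟨i, j⟩, (Finset.mem_filter.1 hi).2⟩, ?_⟩)
      exact hb i j
    · rintro _ ⟨⟨⟨i, j⟩, hij⟩, rfl⟩
      show b ⟨i, j⟩ ∈ _
      rw [hb]
      exact Submodule.mem_iSup_of_mem i (Submodule.mem_iSup_of_mem (Finset.mem_filter.2 ⟨Finset.mem_univ i, hij⟩)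
        (Module.finBasis ℂ (Hs i) j).2)
  rw [hspan, finrank_span_eq_card (R := ℂ) (b := f) (b.linearIndependent.comp _ Subtype.val_injective),
    Fintype.card_congr (Equiv.subtypeSigmaEquiv _ _), Fintype.card_sigma]
  simp only [Fintype.card_fin]
  exact (Finset.sum_subtype (p := P) (Finset.univ.filter P) (fun x => by simp) (fun i => Module.finrank ℂ (Hs i))).symm

/-- The basic inequality from a gap of weights. -/
theorem ineq {q : H →ₗ[ℂ] H →ₗ[ℂ] W} {Hs : ι → Submodule ℂ H} (hI : DirectSum.IsInternal Hs) (m : ι → ℤ)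
    (R : ℤ → Prop) (hzero : ∀ i j, R (m i + m j) → ∀ x ∈ Hs i, ∀ y ∈ Hs j, q x y = 0) (c d : ℤ) (hcd : c ≤ d)
    (hR : ∀ z, z ≤ c + d → R z) :
    (∀ x ∈ (⨆ i ∈ Finset.univ.filter (fun i => m i ≤ c), Hs i), ∀ y ∈ (⨆ i ∈ Finset.univ.filter (fun i => m i ≤ c), Hs i), q x y = 0) ∧
    (⨆ i ∈ Finset.univ.filter (fun i => m i ≤ d), Hs i) ≤
      (⨅ (y : H) (_ : y ∈ ⨆ i ∈ Finset.univ.filter (fun i => m i ≤ c), Hs i), LinearMap.ker (q.flip y)) := by
  have key : ∀ x ∈ (⨆ i ∈ Finset.univ.filter (fun i => m i ≤ d), Hs i),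
      ∀ y ∈ (⨆ i ∈ Finset.univ.filter (fun i => m i ≤ c), Hs i), q x y = 0 := by
    intro x hx y hy
    have h1 : (⨆ i ∈ Finset.univ.filter (fun i => m i ≤ c), Hs i) ≤ LinearMap.ker (q x) := by
      refine iSup₂_le fun j hj z hz => ?_
      have h2 : (⨆ i ∈ Finset.univ.filter (fun i => m i ≤ d), Hs i) ≤ LinearMap.ker (q.flip z) := by
        refine iSup₂_le fun i hi w hw => ?_
        exact hzero i j (hR _ (by have := (Finset.mem_filter.1 hi).2; have := (Finset.mem_filter.1 hj).2; omega)) w hw z hz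
      exact h2 hx
    exact h1 hy
  have hsub : (⨆ i ∈ Finset.univ.filter (fun i => m i ≤ c), Hs i) ≤ ⨆ i ∈ Finset.univ.filter (fun i => m i ≤ d), Hs i :=
    iSup₂_le fun i hi => le_iSup₂_of_le i (Finset.mem_filter.2 ⟨Finset.mem_univ i, (Finset.mem_filter.1 hi).2.trans hcd⟩) le_rfl
  refine ⟨fun x hx y hy => key x (hsub hx) y hy, fun x hx => ?_⟩
  rw [Submodule.mem_iInf]
  intro y
  rw [Submodule.mem_iInf]
  exact fun hy => key x hx y hy

theorem sum_levels (m : ι → ℤ) (w : ι → ℕ) (N : ℕ) (hN : ∀ i, (m i).natAbs ≤ N) :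
    ((∑ t ∈ Finset.range N, ∑ i ∈ Finset.univ.filter (fun i => m i ≤ -((t : ℤ) + 1)), w i : ℕ) : ℤ) =
      ∑ i, max (-m i) 0 * (w i : ℤ) := by
  simp only [Finset.sum_filter]
  rw [Finset.sum_comm]
  push_cast
  refine Finset.sum_congr rfl fun i _ => ?_
  have hcard : (Finset.range N).filter (fun t : ℕ => m i ≤ -((t : ℤ) + 1)) = Finset.range (-m i).toNat := by
    ext t; simp only [Finset.mem_filter, Finset.mem_range]; have := hN i; omega
  rw [← Finset.sum_filter, hcard, Finset.sum_const, Finset.card_range, nsmul_eq_mul, Int.toNat_eq_max]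

end

theorem three_weights {H W : Type} [AddCommGroup H] [Module ℂ H] [FiniteDimensional ℂ H] [AddCommGroup W]
    [Module ℂ W] (s : W →ₗ[ℂ] W) (q : H →ₗ[ℂ] H →ₗ[ℂ] W) (hq : ∀ x y : H, q x y = s (q y x)) (hq0 : q ≠ 0)
    (V : Submodule ℂ H) (hV : V ≠ ⊥) (hiso : ∀ x ∈ V, ∀ y ∈ V, q x y = 0)
    (hle : Module.finrank ℂ H ≤ Module.finrank ℂ V +
      Module.finrank ℂ ↥(⨅ (y : H) (_ : y ∈ V), LinearMap.ker (q.flip y) : Submodule ℂ H)) :
    ∃ (Hs : Fin 3 → Submodule ℂ H) (m : Fin 3 → ℤ), DirectSum.IsInternal Hs ∧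
      (∑ i, m i * (Module.finrank ℂ (Hs i) : ℤ)) = 0 ∧ (∃ i, m i ≠ 0 ∧ Hs i ≠ ⊥) ∧
      ∀ i j, (∃ x ∈ Hs i, ∃ y ∈ Hs j, q x y ≠ 0) → 0 ≤ m i + m j ∧
        (Module.finrank ℂ H < Module.finrank ℂ V +
          Module.finrank ℂ ↥(⨅ (y : H) (_ : y ∈ V), LinearMap.ker (q.flip y) : Submodule ℂ H) → 0 < m i + m j) := by
  classical
  set U : Submodule ℂ H := ⨅ (y : H) (_ : y ∈ V), LinearMap.ker (q.flip y)
  have hU : ∀ x, x ∈ U ↔ ∀ y ∈ V, q x y = 0 := fun x => by simp [U, Submodule.mem_iInf]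
  have hVU : V ≤ U := fun x hx => (hU x).2 fun y hy => hiso x hx y hy
  obtain ⟨C, hC⟩ := exists_isCompl U
  obtain ⟨P₀, hP₀⟩ := exists_isCompl (V.comap U.subtype)
  set P := P₀.map U.subtype
  have hPU : P ≤ U := Submodule.map_subtype_le U P₀
  have hVP : ∀ x ∈ V, x ∈ P → x = 0 := by
    rintro x hx ⟨⟨y, hy⟩, hyP, rfl⟩
    exact congrArg Subtype.val (Submodule.disjoint_def.1 hP₀.disjoint ⟨y, hy⟩ hx hyP)
  have hsum : ∀ x ∈ U, ∃ v ∈ V, ∃ p ∈ P, v + p = x := by
    intro x hx
    obtain ⟨v, hv, p, hp, hvp⟩ := Submodule.mem_sup.1 (hP₀.sup_eq_top.ge (Submodule.mem_top (x := (⟨x, hx⟩ : U))))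
    exact ⟨v, hv, p, Submodule.mem_map_of_mem hp, congrArg Subtype.val hvp⟩
  let Hs : Fin 3 → Submodule ℂ H := ![V, P, C]
  have hI : DirectSum.IsInternal Hs := by
    refine DirectSum.isInternal_submodule_of_iSupIndep_of_iSup_eq_top ?_ ?_
    · rw [iSupIndep_iff_finset_sum_eq_zero_imp_eq_zero]
      intro s' v hv hsum0
      have hz : ∀ (a b c : H), a ∈ V → b ∈ P → c ∈ C → a + b + c = 0 → a = 0 ∧ b = 0 ∧ c = 0 := by
        intro a b c ha hb hc habc
        have hc0 : c = 0 := Submodule.disjoint_def.1 hC.disjoint c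
          (by rw [eq_neg_of_add_eq_zero_right habc]; exact neg_mem (add_mem (hVU ha) (hPU hb))) hc
        subst hc0
        rw [add_zero] at habc
        have ha0 : a = 0 := hVP a ha (by rw [eq_neg_of_add_eq_zero_left habc]; exact neg_mem hb)
        subst ha0
        exact ⟨rfl, by simpa using habc, rfl⟩
      let v' : Fin 3 → H := fun i => if i ∈ s' then v i else 0
      have hv' : ∀ i, v' i ∈ Hs i := fun i => by
        by_cases h : i ∈ s'
        · rw [show v' i = v i from if_pos h]; exact hv i h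
        · rw [show v' i = 0 from if_neg h]; exact zero_mem _
      have hs0 : ∑ i, v' i = 0 := by
        rw [← hsum0]; simp [v', Finset.sum_ite_mem]
      rw [Fin.sum_univ_three] at hs0
      obtain ⟨h0, h1, h2⟩ := hz _ _ _ (hv' 0) (hv' 1) (hv' 2) hs0
      intro i hi
      rw [← (if_pos hi : v' i = v i)]
      fin_cases i <;> assumption
    · refine top_le_iff.1 fun x _ => ?_
      obtain ⟨u, hu, c, hc, rfl⟩ := Submodule.mem_sup.1 (hC.sup_eq_top.ge (Submodule.mem_top (x := x)))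
      obtain ⟨v, hv, p, hp, rfl⟩ := hsum u hu
      exact add_mem (add_mem (Submodule.mem_iSup_of_mem 0 hv) (Submodule.mem_iSup_of_mem 1 hp)) (Submodule.mem_iSup_of_mem 2 hc)
  set a := Module.finrank ℂ V
  set b := Module.finrank ℂ P
  set c := Module.finrank ℂ C
  have hUab : Module.finrank ℂ U = a + b := by
    rw [← Submodule.finrank_add_eq_of_isCompl hP₀]
    congr 1
    · exact (Submodule.comapSubtypeEquivOfLe hVU).finrank_eq
    · exact (Submodule.equivMapOfInjective _ U.subtype_injective P₀).finrank_eq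
  have hn : Module.finrank ℂ H = a + b + c := by rw [← Submodule.finrank_add_eq_of_isCompl hC, hUab]
  have ha : 0 < a := Nat.pos_of_ne_zero fun h => hV (Submodule.finrank_eq_zero.1 h)
  refine ⟨Hs, ![-((b : ℤ) + c), (a : ℤ) - c, (a : ℤ) + b], hI, ?_, ⟨0, ?_, hV⟩, ?_⟩
  · rw [Fin.sum_univ_three]
    show -((b : ℤ) + c) * (a : ℤ) + ((a : ℤ) - c) * (b : ℤ) + ((a : ℤ) + b) * (c : ℤ) = 0
    ring
  · intro h
    have h' : -((b : ℤ) + c) = 0 := by simpa using h
    apply hq0
    have hVtop : V = ⊤ := Submodule.eq_top_of_finrank_eq (by omega)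
    refine LinearMap.ext fun x => LinearMap.ext fun y => ?_
    exact hiso x (hVtop ▸ Submodule.mem_top) y (hVtop ▸ Submodule.mem_top)
  · rintro i j ⟨x, hx, y, hy, hne⟩
    have hVU0 : ∀ u ∈ U, ∀ v ∈ V, q u v = 0 ∧ q v u = 0 := fun u hu v hv =>
      ⟨(hU u).1 hu v hv, by rw [hq, (hU u).1 hu v hv, map_zero]⟩
    rw [hUab] at hle ⊢
    fin_cases i <;> fin_cases j <;>
      first
        | exact absurd (hiso x hx y hy) hne
        | exact absurd ((hVU0 x (hPU hx) y hy).1) hne
        | exact absurd ((hVU0 y (hPU hy) x hx).2) hne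
        | (simp only [Matrix.cons_val_zero, Matrix.cons_val_one, Matrix.cons_val, Fin.zero_eta, Fin.mk_one, Fin.reduceFinMk]; exact ⟨by omega, fun _ => by omega⟩)


/-- Let W be a finite-dimensional complex vector space with an involution s, H a finite-dimensional
complex vector space and q : H → H → W a nonzero bilinear map with q(x)(y) = s(q(y)(x)). Write V^⊥ =
{x | q(x)(y) = 0 for all y ∈ V} and call V totally isotropic when q vanishes on V × V. The pair (H,
q) is semistable (dim V + dim V^⊥ ≤ dim H for every nonzero totally isotropic subspace V),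
respectively stable (strict inequality), if and only if the line of q is semistable, respectively
stable, for the action of SL(H), the latter being expressed through one-parameter subgroups: for
every decomposition H = ⊕_i H_i into subspaces with integer weights m_i such that Σ_i m_i dim H_i =
0 and some nonzero H_i has nonzero weight, there are indices i, j with q(H_i, H_j) ≠ 0 and m_i + m_j
≤ 0, respectively m_i + m_j < 0. (The published statement speaks of semistability and stability of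
the point of the projective space of such forms under SL(H); this row states the numerical condition
on one-parameter subgroups to which that is equivalent and which the published argument verifies.) -/
theorem result
    (W : Type) [AddCommGroup W] [Module ℂ W] [FiniteDimensional ℂ W]
    (s : W →ₗ[ℂ] W) (hs : s ∘ₗ s = LinearMap.id)
    (H : Type) [AddCommGroup H] [Module ℂ H] [FiniteDimensional ℂ H]
    (q : H →ₗ[ℂ] H →ₗ[ℂ] W) (hq : ∀ x y : H, q x y = s (q y x)) (hq0 : q ≠ 0) :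
    ((∀ V : Submodule ℂ H, V ≠ ⊥ → (∀ x ∈ V, ∀ y ∈ V, q x y = 0) →
        Module.finrank ℂ V + Module.finrank ℂ ↥(⨅ (y : H) (_ : y ∈ V), LinearMap.ker (q.flip y) : Submodule ℂ H) ≤ Module.finrank ℂ H) ↔
      (∀ (ι : Type) [Fintype ι] [DecidableEq ι] (Hs : ι → Submodule ℂ H) (m : ι → ℤ),
        DirectSum.IsInternal Hs → (∑ i, m i * (Module.finrank ℂ (Hs i) : ℤ)) = 0 →
        (∃ i, m i ≠ 0 ∧ Hs i ≠ ⊥) →
        ∃ i j, (∃ x ∈ Hs i, ∃ y ∈ Hs j, q x y ≠ 0) ∧ m i + m j ≤ 0)) ∧
    ((∀ V : Submodule ℂ H, V ≠ ⊥ → (∀ x ∈ V, ∀ y ∈ V, q x y = 0) →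
        Module.finrank ℂ V + Module.finrank ℂ ↥(⨅ (y : H) (_ : y ∈ V), LinearMap.ker (q.flip y) : Submodule ℂ H) < Module.finrank ℂ H) ↔
      (∀ (ι : Type) [Fintype ι] [DecidableEq ι] (Hs : ι → Submodule ℂ H) (m : ι → ℤ),
        DirectSum.IsInternal Hs → (∑ i, m i * (Module.finrank ℂ (Hs i) : ℤ)) = 0 →
        (∃ i, m i ≠ 0 ∧ Hs i ≠ ⊥) →
        ∃ i j, (∃ x ∈ Hs i, ∃ y ∈ Hs j, q x y ≠ 0) ∧ m i + m j < 0)) := by
  classical
  refine ⟨⟨fun hss => ?_, fun hw V hV hiso => ?_⟩, ⟨fun hst => ?_, fun hw V hV hiso => ?_⟩⟩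
  · intro ι _ _ Hs m hI hsum hne
    by_contra hcon
    push Not at hcon
    have hzero : ∀ i j, m i + m j ≤ 0 → ∀ x ∈ Hs i, ∀ y ∈ Hs j, q x y = 0 := fun i j h x hx y hy => by
      by_contra hxy
      exact absurd (hcon i j ⟨x, hx, y, hy, hxy⟩) (not_lt.2 h)
    set w : ι → ℕ := fun i => Module.finrank ℂ (Hs i)
    have hn : Module.finrank ℂ H = ∑ i, w i := by
      have := finrank_part hI (fun _ => True)
      rw [show (⨆ i ∈ Finset.univ.filter (fun _ : ι => True), Hs i) = ⊤ from top_le_iff.1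
        (hI.submodule_iSup_eq_top.ge.trans (iSup_le fun i => le_iSup₂_of_le i (by simp) le_rfl)), finrank_top] at this
      rw [this]
      exact Finset.sum_congr (Finset.filter_true_of_mem fun _ _ => trivial) fun _ _ => rfl
    have hlev : ∀ t : ℕ, (∑ i ∈ Finset.univ.filter (fun i => m i ≤ -((t : ℤ) + 1)), w i) +
        (∑ i ∈ Finset.univ.filter (fun i => m i ≤ (t : ℤ) + 1), w i) ≤ ∑ i, w i := by
      intro t
      rw [← finrank_part hI, ← finrank_part hI, ← hn]
      set Vt : Submodule ℂ H := ⨆ i ∈ Finset.univ.filter (fun i => m i ≤ -((t : ℤ) + 1)), Hs i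
      rcases eq_or_ne Vt ⊥ with h0 | h0
      · rw [h0, finrank_bot, zero_add]; exact Submodule.finrank_le _
      obtain ⟨h1, h2⟩ := ineq hI m (· ≤ 0) hzero (-((t : ℤ) + 1)) ((t : ℤ) + 1) (by omega) (fun z hz => by omega)
      exact le_trans (Nat.add_le_add_left (Submodule.finrank_mono h2) _) (hss Vt h0 h1)
    obtain ⟨N, hN⟩ : ∃ N : ℕ, ∀ i, (m i).natAbs ≤ N :=
      ⟨Finset.univ.sup fun i => (m i).natAbs, fun i => Finset.le_sup (f := fun i => (m i).natAbs) (Finset.mem_univ i)⟩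
    have hle : ∀ t : ℕ, (∑ i ∈ Finset.univ.filter (fun i => m i ≤ -((t : ℤ) + 1)), w i) ≤
        ∑ i ∈ Finset.univ.filter (fun i => -(m i - 1) ≤ -((t : ℤ) + 1)), w i := fun t => by
      have h1 := hlev t
      have h2 := Finset.sum_filter_add_sum_filter_not Finset.univ (fun i => m i ≤ (t : ℤ) + 1) w
      have h3 : Finset.univ.filter (fun i => ¬ m i ≤ (t : ℤ) + 1) = Finset.univ.filter (fun i => -(m i - 1) ≤ -((t : ℤ) + 1)) :=
        Finset.filter_congr fun i _ => by omega
      rw [h3] at h2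
      omega
    have hA := Finset.sum_le_sum (s := Finset.range (N + 1)) fun t _ => hle t
    have hA' : ((∑ t ∈ Finset.range (N + 1), ∑ i ∈ Finset.univ.filter (fun i => m i ≤ -((t : ℤ) + 1)), w i : ℕ) : ℤ) ≤
        ((∑ t ∈ Finset.range (N + 1), ∑ i ∈ Finset.univ.filter (fun i => -(m i - 1) ≤ -((t : ℤ) + 1)), w i : ℕ) : ℤ) := by
      exact_mod_cast hA
    rw [sum_levels m w _ (fun i => (hN i).trans (Nat.le_succ N)),
      sum_levels (fun i => -(m i - 1)) w _ (fun i => by have := hN i; omega)] at hA'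
    obtain ⟨i₀, hi₀, hi₀'⟩ := hne
    have hw₀ : 0 < w i₀ := Nat.pos_of_ne_zero fun h => hi₀' (Submodule.finrank_eq_zero.1 h)
    have hpt : ∀ i, max (-(-(m i - 1))) 0 * (w i : ℤ) ≤ max (-m i) 0 * (w i : ℤ) + m i * (w i : ℤ) := fun i => by
      rw [← add_mul]; exact mul_le_mul_of_nonneg_right (by omega) (Int.natCast_nonneg _)
    -- strictness somewhere with positive weight
    obtain ⟨i₁, hi₁, hw₁⟩ : ∃ i, 0 < m i ∧ 0 < w i := by
      by_contra h
      push Not at h
      have hneg : ∑ i, m i * (w i : ℤ) < 0 := Finset.sum_neg' (fun i _ => by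
        rcases le_or_gt (m i) 0 with h' | h'
        · exact mul_nonpos_of_nonpos_of_nonneg h' (Int.natCast_nonneg _)
        · rw [Nat.le_zero.1 (h i h'), Nat.cast_zero, mul_zero]) ⟨i₀, Finset.mem_univ _, by
          refine mul_neg_of_neg_of_pos (lt_of_le_of_ne (not_lt.1 fun h' => ?_) hi₀) (by exact_mod_cast hw₀)
          exact absurd (h i₀ h') (by omega)⟩
      exact absurd hsum hneg.ne
    have := Finset.sum_lt_sum (s := Finset.univ) (fun i _ => hpt i) ⟨i₁, Finset.mem_univ _, by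
      rw [← add_mul]; exact mul_lt_mul_of_pos_right (by omega) (by exact_mod_cast hw₁)⟩
    rw [Finset.sum_add_distrib, hsum, add_zero] at this
    exact absurd hA' (not_le.2 this)
  · by_contra hcon
    push Not at hcon
    obtain ⟨Hs, m, hI, hsum, hne, hpos⟩ := three_weights s q hq hq0 V hV hiso hcon.le
    obtain ⟨i, j, hij, hle⟩ := hw (Fin 3) Hs m hI hsum hne
    exact absurd ((hpos i j hij).2 hcon) (not_lt.2 hle)
  · intro ι _ _ Hs m hI hsum hne
    by_contra hcon
    push Not at hcon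
    have hzero : ∀ i j, m i + m j < 0 → ∀ x ∈ Hs i, ∀ y ∈ Hs j, q x y = 0 := fun i j h x hx y hy => by
      by_contra hxy
      exact absurd (hcon i j ⟨x, hx, y, hy, hxy⟩) (not_le.2 h)
    set w : ι → ℕ := fun i => Module.finrank ℂ (Hs i)
    have hn : Module.finrank ℂ H = ∑ i, w i := by
      have := finrank_part hI (fun _ => True)
      rw [show (⨆ i ∈ Finset.univ.filter (fun _ : ι => True), Hs i) = ⊤ from top_le_iff.1
        (hI.submodule_iSup_eq_top.ge.trans (iSup_le fun i => le_iSup₂_of_le i (by simp) le_rfl)), finrank_top] at this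
      rw [this]
      exact Finset.sum_congr (Finset.filter_true_of_mem fun _ _ => trivial) fun _ _ => rfl
    have hlev : ∀ t : ℕ, 0 < (∑ i ∈ Finset.univ.filter (fun i => m i ≤ -((t : ℤ) + 1)), w i) →
        (∑ i ∈ Finset.univ.filter (fun i => m i ≤ -((t : ℤ) + 1)), w i) +
        (∑ i ∈ Finset.univ.filter (fun i => m i ≤ (t : ℤ)), w i) < ∑ i, w i := by
      intro t h0
      rw [← finrank_part hI] at h0 ⊢
      rw [← finrank_part hI, ← hn]
      set Vt : Submodule ℂ H := ⨆ i ∈ Finset.univ.filter (fun i => m i ≤ -((t : ℤ) + 1)), Hs i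
      obtain ⟨h1, h2⟩ := ineq hI m (· < 0) hzero (-((t : ℤ) + 1)) (t : ℤ) (by omega) (fun z hz => by omega)
      exact lt_of_le_of_lt (Nat.add_le_add_left (Submodule.finrank_mono h2) _)
        (hst Vt (fun h => by rw [h, finrank_bot] at h0; exact lt_irrefl 0 h0) h1)
    obtain ⟨N, hN⟩ : ∃ N : ℕ, ∀ i, (m i).natAbs ≤ N :=
      ⟨Finset.univ.sup fun i => (m i).natAbs, fun i => Finset.le_sup (f := fun i => (m i).natAbs) (Finset.mem_univ i)⟩
    have hle : ∀ t : ℕ, (∑ i ∈ Finset.univ.filter (fun i => m i ≤ -((t : ℤ) + 1)), w i) ≤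
        (∑ i ∈ Finset.univ.filter (fun i => -m i ≤ -((t : ℤ) + 1)), w i) ∧
        (0 < (∑ i ∈ Finset.univ.filter (fun i => m i ≤ -((t : ℤ) + 1)), w i) →
          (∑ i ∈ Finset.univ.filter (fun i => m i ≤ -((t : ℤ) + 1)), w i) <
            (∑ i ∈ Finset.univ.filter (fun i => -m i ≤ -((t : ℤ) + 1)), w i)) := fun t => by
      have h2 := Finset.sum_filter_add_sum_filter_not Finset.univ (fun i => m i ≤ (t : ℤ)) w
      have h3 : Finset.univ.filter (fun i => ¬ m i ≤ (t : ℤ)) = Finset.univ.filter (fun i => -m i ≤ -((t : ℤ) + 1)) :=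
        Finset.filter_congr fun i _ => by omega
      rw [h3] at h2
      refine ⟨?_, fun h => by have := hlev t h; omega⟩
      rcases Nat.eq_zero_or_pos (∑ i ∈ Finset.univ.filter (fun i => m i ≤ -((t : ℤ) + 1)), w i) with h | h
      · omega
      · have := hlev t h; omega
    obtain ⟨i₀, hi₀, hi₀'⟩ := hne
    have hw₀ : 0 < w i₀ := Nat.pos_of_ne_zero fun h => hi₀' (Submodule.finrank_eq_zero.1 h)
    obtain ⟨i₁, hi₁, hw₁⟩ : ∃ i, m i < 0 ∧ 0 < w i := by
      by_contra h
      push Not at h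
      have hpos : 0 < ∑ i, m i * (w i : ℤ) := Finset.sum_pos' (fun i _ => by
        rcases le_or_gt 0 (m i) with h' | h'
        · exact mul_nonneg h' (Int.natCast_nonneg _)
        · rw [Nat.le_zero.1 (h i h'), Nat.cast_zero, mul_zero]) ⟨i₀, Finset.mem_univ _, by
          refine mul_pos (lt_of_le_of_ne (not_lt.1 fun h' => ?_) hi₀.symm) (by exact_mod_cast hw₀)
          exact absurd (h i₀ h') (by omega)⟩
      exact absurd hsum hpos.ne'
    have h0 : 0 < ∑ i ∈ Finset.univ.filter (fun i => m i ≤ -(((0 : ℕ) : ℤ) + 1)), w i :=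
      lt_of_lt_of_le hw₁ (Finset.single_le_sum (fun i _ => Nat.zero_le _) (Finset.mem_filter.2 ⟨Finset.mem_univ _, by omega⟩))
    have hA := Finset.sum_lt_sum (s := Finset.range (N + 1)) (fun t _ => (hle t).1)
      ⟨0, Finset.mem_range.2 N.succ_pos, (hle 0).2 h0⟩
    have hA' : ((∑ t ∈ Finset.range (N + 1), ∑ i ∈ Finset.univ.filter (fun i => m i ≤ -((t : ℤ) + 1)), w i : ℕ) : ℤ) <
        ((∑ t ∈ Finset.range (N + 1), ∑ i ∈ Finset.univ.filter (fun i => -m i ≤ -((t : ℤ) + 1)), w i : ℕ) : ℤ) := by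
      exact_mod_cast hA
    rw [sum_levels m w _ (fun i => (hN i).trans (Nat.le_succ N)),
      sum_levels (fun i => -m i) w _ (fun i => by have := hN i; omega)] at hA'
    refine absurd hA' (not_lt.2 (le_of_eq ?_))
    have : ∑ i, (max (-(-m i)) 0 * (w i : ℤ) - max (-m i) 0 * (w i : ℤ)) = 0 := by
      rw [← hsum]; exact Finset.sum_congr rfl fun i _ => by rw [← sub_mul]; congr 1; omega
    rw [Finset.sum_sub_distrib] at this
    exact sub_eq_zero.1 this
  · by_contra hcon
    push Not at hcon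
    obtain ⟨Hs, m, hI, hsum, hne, hpos⟩ := three_weights s q hq hq0 V hV hiso hcon
    obtain ⟨i, j, hij, hle⟩ := hw (Fin 3) Hs m hI hsum hne
    exact absurd (hpos i j hij).1 (not_le.2 hle)

end Groth.Agent.S15159
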