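import Groth.Statements.S15166
import Groth.Agent.BddFin.Quadratic
-- import your own Groth.Agent.* helpers here

set_option autoImplicit false
universe u v
open Polynomial
open BddFin

namespace Groth.Agent.S15166

/-- Let K be a field of characteristic different from 2 such that K contains all roots of unity (for
every n ≥ 1 the polynomial X^n − 1 splits into linear factors over K), V a finite-dimensional
K-vector space and q a quadratic form on V that does not represent zero. Then every finite subgroup
of the group of K-linear automorphisms of V preserving q is abelian and has order at most 2 ^ (dim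
V). (The published statement also covers perfect fields of characteristic 2; this row is the case of
characteristic ≠ 2.) -/
theorem result
    (K : Type u) [Field K] (hK : ∀ n : ℕ, 0 < n → (X ^ n - 1 : K[X]).Splits) (h2 : (2 : K) ≠ 0)
    (V : Type v) [AddCommGroup V] [Module K V] [FiniteDimensional K V]
    (q : QuadraticForm K V) (hq : q.Anisotropic)
    (G : Subgroup (V ≃ₗ[K] V)) [Finite G] (hG : ∀ g ∈ G, ∀ x : V, q (g x) = q x) :
    (∀ g ∈ G, ∀ h ∈ G, g * h = h * g) ∧ Nat.card G ≤ 2 ^ Module.finrank K V := by
  classical
  let φ : (V ≃ₗ[K] V) →* Module.End K V := LinearEquiv.automorphismGroup.toLinearMapMonoidHom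
  have hφ : Function.Injective φ := LinearEquiv.toLinearMap_injective
  have hsq : ∀ g ∈ G, g * g = 1 := by
    intro g hg
    apply hφ
    rw [map_mul, map_one, ← pow_two]
    obtain ⟨d, hd, hgd⟩ := isOfFinOrder_iff_pow_eq_one.mp
      ((isOfFinOrder_of_finite (⟨g, hg⟩ : G)))
    refine Groth.BddFin.isometry_sq_eq_one hK h2 q hq (φ g) (hG g hg) d hd ?_
    rw [← map_pow]
    have := congrArg (Subgroup.subtype G) hgd
    simp at this
    rw [this, map_one]
  have hcomm : ∀ g ∈ G, ∀ h ∈ G, g * h = h * g := by
    intro g hg h hh
    have e : ∀ x ∈ G, x⁻¹ = x := fun x hx => inv_eq_of_mul_eq_one_right (hsq x hx)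
    calc g * h = (g * h)⁻¹ := (e _ (G.mul_mem hg hh)).symm
      _ = h * g := by rw [mul_inv_rev, e g hg, e h hh]
  refine ⟨hcomm, ?_⟩
  cases nonempty_fintype G
  let s : Finset (Module.End K V) := Finset.univ.image fun g : G => φ g.1
  have hs : s.card = Nat.card G := by
    rw [show s = Finset.univ.image (φ ∘ Subtype.val) from rfl,
      Finset.card_image_of_injective _ (hφ.comp Subtype.val_injective), Finset.card_univ,
      Nat.card_eq_fintype_card]
  rw [← hs]
  refine Groth.BddFin.card_involutions_le h2 _ V le_rfl s ?_ ?_
  · simp only [s, Finset.mem_image, Finset.mem_univ, true_and, forall_exists_index]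
    rintro _ a rfl
    rw [← map_mul, hsq a.1 a.2, map_one]
  · simp only [s, Finset.mem_image, Finset.mem_univ, true_and, forall_exists_index]
    rintro _ a rfl _ b rfl
    rw [← map_mul, ← map_mul, hcomm a.1 a.2 b.1 b.2]

end Groth.Agent.S15166
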