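import Groth.Statements.S15167
import Groth.Agent.BddFin.RootsDeg

set_option autoImplicit false
universe u v
open Polynomial
open BddFin

namespace Groth.Agent.S15167

/-- Let K be a field such that K contains all roots of unity (for every n ≥ 1 the polynomial X^n − 1
splits into linear factors over K), A a central simple K-algebra of dimension n ^ 2, and x an
invertible element of A some power x ^ m (m ≥ 1) of which lies in K. Then there are a positive
integer r dividing n and elements a_i of K such that the minimal polynomial of x over K is the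
product of the polynomials X ^ r − a_i. -/
theorem result
    (K : Type u) [Field K] (hK : ∀ n : ℕ, 0 < n → (X ^ n - 1 : K[X]).Splits)
    (A : Type v) [Ring A] [Algebra K A] [Algebra.IsCentral K A] [IsSimpleRing A] [FiniteDimensional K A]
    (n : ℕ) (hn : Module.finrank K A = n ^ 2)
    (x : A) (hx : IsUnit x) (hxm : ∃ m : ℕ, 0 < m ∧ x ^ m ∈ (algebraMap K A).range) :
    ∃ r : ℕ, 0 < r ∧ r ∣ n ∧ ∃ s : Multiset K, minpoly K x = (s.map fun a : K => X ^ r - C a).prod := by
  classical
  obtain ⟨m, hm, c, hc⟩ := hxm
  haveI : Nontrivial A := inferInstance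
  have hc0 : c ≠ 0 := fun h => (hx.pow m).ne_zero (by rw [← hc, h, map_zero])
  obtain ⟨r, hr, hshape⟩ := Groth.BddFin.exists_factor_shape hK hm hc0
  have hq : aeval x (X ^ m - C c) = 0 := by simp [hc]
  refine ⟨r, hr, ?_, Groth.BddFin.exists_prod_eq (minpoly.monic (IsIntegral.of_finite K x))
    fun g hg hirr hdvd => hshape g hg hirr (hdvd.trans (minpoly.dvd K x hq))⟩
  obtain ⟨f, -, hf⟩ := Groth.BddFin.exists_redCharpoly hn
  obtain ⟨P, hP, hdeg, hch⟩ := hf x
  obtain ⟨s, hs⟩ := Groth.BddFin.exists_prod_eq hP fun g hg hirr hdvd => hshape g hg hirr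
    (Groth.BddFin.dvd_of_aeval_eq_zero (f x) hch (by rw [aeval_algHom_apply, hq, map_zero]) hg hirr hdvd)
  rw [← hdeg, hs, Groth.BddFin.natDegree_prod_map r hr]
  exact dvd_mul_left r _

end Groth.Agent.S15167
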