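import Groth.Statements.S15169
import Groth.Agent.BddFin.Wedderburn
-- import your own Groth.Agent.* helpers here

set_option autoImplicit false
universe u v
open BddFin

open Polynomial

namespace Groth.Agent.S15169

/-- (1) ⇒ (2): let K be a field with char K = p > 0 and A a central division K-algebra with dim_K A = p
^ 2. If some element of A is not separable over K, then there are v, u in A with v ^ p and u ^ p in
K and v * u - u * v = 1 which generate A as a K-algebra. -/
theorem result
    (K : Type u) [Field K] (p : ℕ) [Fact p.Prime] [CharP K p]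
    (A : Type v) [DivisionRing A] [Algebra K A] [Algebra.IsCentral K A] [FiniteDimensional K A]
    (hA : Module.finrank K A = p ^ 2) (h : ∃ v : A, ¬ IsSeparable K v) :
    ∃ v u : A, v ^ p ∈ (algebraMap K A).range ∧ u ^ p ∈ (algebraMap K A).range ∧ v * u - u * v = 1 ∧
      Algebra.adjoin K {v, u} = ⊤ := by
  obtain ⟨v, hv⟩ := h
  have hp0 := (Fact.out : p.Prime)
  have hvK : v ∉ (algebraMap K A).range := by
    rintro ⟨c, rfl⟩
    exact hv (isSeparable_algebraMap c)
  have hint : IsIntegral K v := IsIntegral.of_finite K v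
  have hdeg := Groth.BddFin.natDegree_minpoly hA hvK
  have hvp : v ^ p ∈ (algebraMap K A).range := by
    rcases Polynomial.separable_or p (minpoly.irreducible hint) with h | ⟨_, g, hg, hge⟩
    · exact absurd h hv
    · have hdg : g.natDegree = 1 := by
        have := natDegree_expand p g
        rw [hge, hdeg] at this
        nlinarith [hp0.pos]
      have hl : g.coeff 1 ≠ 0 := by
        have := Polynomial.leadingCoeff_ne_zero.mpr hg.ne_zero
        rwa [leadingCoeff, hdg] at this
      have h0 := minpoly.aeval K v
      rw [← hge, expand_aeval, aeval_eq_sum_range, hdg] at h0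
      simp [Finset.sum_range_succ] at h0
      refine ⟨-((g.coeff 1)⁻¹ * g.coeff 0), ?_⟩
      have hs : g.coeff 1 • v ^ p = -(g.coeff 0 • (1 : A)) := by
        rw [← add_eq_zero_iff_eq_neg, add_comm]; exact h0
      rw [Algebra.algebraMap_eq_smul_one]
      calc (-((g.coeff 1)⁻¹ * g.coeff 0)) • (1 : A) = (g.coeff 1)⁻¹ • (-(g.coeff 0 • (1 : A))) := by
            rw [smul_neg, smul_smul, neg_smul]
        _ = v ^ p := by rw [← hs, smul_smul, inv_mul_cancel₀ hl, one_smul]
  haveI : CharP A p := charP_of_injective_algebraMap (algebraMap K A).injective p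
  let D : A →ₗ[K] A := LinearMap.mulLeft K v - LinearMap.mulRight K v
  haveI : CharP (Module.End K A) p := charP_of_injective_algebraMap
    (algebraMap K (Module.End K A)).injective p
  have hadp : ∀ x y : A, ((LinearMap.mulLeft K x - LinearMap.mulRight K x) ^ p) y
      = x ^ p * y - y * x ^ p := by
    intro x y
    rw [sub_pow_char_of_commute p (LinearMap.commute_mulLeft_right x x), LinearMap.pow_mulLeft,
      LinearMap.pow_mulRight]
    rfl
  obtain ⟨z, hz⟩ := Groth.BddFin.exists_not_commute hvK
  have hDp : (D ^ p) z = 0 := by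
    rw [hadp]
    obtain ⟨c, hc⟩ := hvp
    rw [← hc, Algebra.commutes, sub_self]
  have hDz : D z ≠ 0 := by simpa [D, sub_eq_zero] using Ne.symm hz
  obtain ⟨y, hy1, hy2⟩ : ∃ y, D y ≠ 0 ∧ D (D y) = 0 := by
    by_contra hcon
    push Not at hcon
    have : ∀ n : ℕ, D ((D ^ n) z) ≠ 0 := by
      intro n
      induction n with
      | zero => simpa using hDz
      | succ n ih =>
        rw [pow_succ', Module.End.mul_apply]
        exact hcon _ ih
    have := this p
    rw [hDp, map_zero] at this
    exact this rfl
  have hcomm : Commute v (D y) := by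
    show v * D y = D y * v
    exact sub_eq_zero.mp hy2
  set u := (D y)⁻¹ * y with hu
  have hvu : v * u - u * v = 1 := by
    rw [hu, ← mul_assoc, hcomm.inv_right₀.eq, mul_assoc, mul_assoc, ← mul_sub]
    have : v * y - y * v = D y := rfl
    rw [this, inv_mul_cancel₀ hy1]
  have hne : v * u ≠ u * v := fun h => by rw [h, sub_self] at hvu; exact zero_ne_one hvu
  refine ⟨v, u, hvp, ?_, hvu, Groth.BddFin.adjoin_pair_eq_top_of_ne hA hne⟩
  refine Groth.BddFin.mem_range_of_commute_pair hA hne ?_ ((Commute.refl u).pow_left p)
  show u ^ p * v = v * u ^ p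
  rw [← sub_eq_zero, ← hadp u v]
  have hE : (LinearMap.mulLeft K u - LinearMap.mulRight K u) v = -1 := by
    simp only [LinearMap.sub_apply, LinearMap.mulLeft_apply, LinearMap.mulRight_apply]
    rw [← neg_sub, hvu]
  obtain ⟨q, hq⟩ : ∃ q, p = q + 2 := ⟨p - 2, by have := hp0.two_le; omega⟩
  rw [hq, pow_succ, pow_succ, Module.End.mul_apply, Module.End.mul_apply, hE, map_neg]
  simp

end Groth.Agent.S15169
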