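import Groth.Statements.S1517
import Mathlib.RingTheory.Ideal.Basic
import Mathlib.RingTheory.TwoSidedIdeal.Basic
import Mathlib.Tactic
-- import your own Groth.Agent.* helpers here

set_option autoImplicit false
universe u
open Brauer

namespace Groth.Agent.S1517

/-- Let A be a ring with no nontrivial two-sided ideals and M a nonzero right ideal, viewed as a right
A-module with endomorphism ring A'. Then every A'-linear endomorphism of M is right multiplication
by exactly one element of A; that is, the natural map from A to the bicommutant of M is a bijection. -/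
theorem result (A : Type u) [Ring A] [IsSimpleRing A]
    (M : Submodule Aᵐᵒᵖ A) (hM : M ≠ ⊥)
    (g : Module.End (Module.End Aᵐᵒᵖ M) M) :
    ∃! a : A, ∀ m : M, (g m : A) = (m : A) * a := by
  have hmul : ∀ (x : M) (y : A), (x : A) * y ∈ M := fun x y => M.smul_mem (MulOpposite.op y) x.2
  have hmemR : ∀ y ∈ Ideal.span (M : Set A), ∀ z, y * z ∈ Ideal.span (M : Set A) := by
    intro y hy z
    induction hy using Submodule.span_induction with
    | mem y hy => exact Ideal.subset_span (hmul ⟨y, hy⟩ z)
    | zero => rw [zero_mul]; exact zero_mem _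
    | add a b _ _ iha ihb => rw [add_mul]; exact add_mem iha ihb
    | smul c a _ iha => rw [smul_eq_mul, mul_assoc]; exact Ideal.mul_mem_left _ c iha
  obtain ⟨m₀, hm₀, hne⟩ := M.exists_mem_ne_zero_of_ne_bot hM
  have hone : (1 : A) ∈ Ideal.span (M : Set A) := by
    let I : TwoSidedIdeal A := TwoSidedIdeal.mk' (Ideal.span (M : Set A) : Set A) (zero_mem _)
      (fun h h' => add_mem h h') (fun h => neg_mem h) (fun h => Ideal.mul_mem_left _ _ h)
      (fun h => hmemR _ h _)
    have hI : ∀ x, x ∈ I ↔ x ∈ Ideal.span (M : Set A) := fun x => by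
      simp [I, TwoSidedIdeal.mem_mk']
    exact (hI 1).1 (IsSimpleRing.one_mem_of_ne_zero_mem I hne ((hI m₀).2 (Ideal.subset_span hm₀)))
  have key : ∀ y ∈ Ideal.span (M : Set A), ∃ b : A, ∀ x : M,
      (g ⟨(x : A) * y, hmul x y⟩ : A) = (x : A) * b := by
    intro y hy
    induction hy using Submodule.span_induction with
    | mem y hy =>
      refine ⟨(g ⟨y, hy⟩ : A), fun x => ?_⟩
      let L : Module.End Aᵐᵒᵖ M :=
        { toFun := fun z => ⟨(x : A) * z, hmul x z⟩
          map_add' := fun z w => Subtype.ext (mul_add _ _ _)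
          map_smul' := fun c z => Subtype.ext (mul_assoc _ _ _).symm }
      exact congrArg Subtype.val (g.map_smul L ⟨y, hy⟩)
    | zero =>
      refine ⟨0, fun x => ?_⟩
      have : (⟨(x : A) * 0, hmul x 0⟩ : M) = 0 := Subtype.ext (mul_zero _)
      rw [this, map_zero, mul_zero]; rfl
    | add a b _ _ iha ihb =>
      obtain ⟨p, hp⟩ := iha
      obtain ⟨q, hq⟩ := ihb
      refine ⟨p + q, fun x => ?_⟩
      have : (⟨(x : A) * (a + b), hmul x _⟩ : M) = ⟨_, hmul x a⟩ + ⟨_, hmul x b⟩ :=
        Subtype.ext (mul_add _ _ _)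
      rw [this, map_add, Submodule.coe_add, hp, hq, mul_add]
    | smul c a _ iha =>
      obtain ⟨p, hp⟩ := iha
      refine ⟨c * p, fun x => ?_⟩
      have h := hp ⟨(x : A) * c, hmul x c⟩
      simpa only [smul_eq_mul, mul_assoc] using h
  obtain ⟨a, ha⟩ := key 1 hone
  refine ⟨a, fun m => ?_, fun b hb => ?_⟩
  · simpa only [mul_one] using ha m
  · have h0 : ∀ y ∈ Ideal.span (M : Set A), y * (b - a) = 0 := by
      intro y hy
      induction hy using Submodule.span_induction with
      | mem y hy =>
        have := ha ⟨y, hy⟩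
        simp only [mul_one] at this
        rw [mul_sub, sub_eq_zero, ← this]
        exact (hb ⟨y, hy⟩).symm
      | zero => exact zero_mul _
      | add a b _ _ iha ihb => rw [add_mul, iha, ihb, add_zero]
      | smul c a _ iha => rw [smul_eq_mul, mul_assoc, iha, mul_zero]
    simpa [sub_eq_zero] using h0 1 hone

end Groth.Agent.S1517
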