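import Groth.Statements.S15170
import Groth.Agent.BddFin.Wedderburn
-- import your own Groth.Agent.* helpers here

set_option autoImplicit false
universe u v
open BddFin

open Polynomial

namespace Groth.Agent.S15170

/-- (2) ⇒ (3): let K be a field with char K = p > 0 and A a central division K-algebra with dim_K A = p
^ 2. If v, u in A satisfy v ^ p ∈ K, u ^ p ∈ K and v * u - u * v = 1, then some Galois extension L
of K with [L : K] = p admits a K-algebra embedding into A (so A has a Galois subfield of degree p
over K). -/
theorem result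
    (K : Type u) [Field K] (p : ℕ) [Fact p.Prime] [CharP K p]
    (A : Type v) [DivisionRing A] [Algebra K A] [Algebra.IsCentral K A] [FiniteDimensional K A]
    (hA : Module.finrank K A = p ^ 2) (v u : A) (hv : v ^ p ∈ (algebraMap K A).range)
    (hu : u ^ p ∈ (algebraMap K A).range) (hvu : v * u - u * v = 1) :
    ∃ (L : Type v) (_ : Field L) (_ : Algebra K L), IsGalois K L ∧ Module.finrank K L = p ∧
      Nonempty (L →ₐ[K] A) := by
  have hne : v * u ≠ u * v := fun h => by rw [h, sub_self] at hvu; exact zero_ne_one hvu
  set w := v * u with hw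
  have h1 : v * w = (w + 1) * v := by
    rw [hw, add_mul, one_mul, ← mul_assoc]
    have : v * u * v = v * (v * u) - v := by
      rw [mul_assoc, show u * v = v * u - 1 by rw [← hvu]; abel, mul_sub, mul_one]
    rw [this]
    rw [← mul_assoc, sub_add_cancel]
  have h2 : u * w = (w - 1) * u := by
    rw [hw, ← mul_assoc, show u * v = v * u - 1 by rw [← hvu]; abel]
  haveI : CharP A p := charP_of_injective_algebraMap (algebraMap K A).injective p
  have key : ∀ (x : A) (t : A), Commute w t → t ^ p = t → x * w = (w + t) * x →
      x * (w ^ p - w) = (w ^ p - w) * x := by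
    intro x t ht htp hx
    have hn : ∀ n : ℕ, x * w ^ n = (w + t) ^ n * x := by
      intro n
      induction n with
      | zero => simp
      | succ n ih => rw [pow_succ, pow_succ, ← mul_assoc, ih, mul_assoc, hx, ← mul_assoc]
    rw [mul_sub, hn p, hx, add_pow_char_of_commute p ht, htp, ← sub_mul, add_sub_add_right_eq_sub]
  have hp0 := (Fact.out : p.Prime)
  have hm1 : (-1 : A) ^ p = -1 := by
    rcases hp0.eq_two_or_odd' with rfl | ho
    · rw [neg_one_sq]
      exact (CharTwo.neg_eq (1 : A)).symm
    · exact ho.neg_one_pow
  have hc := Groth.BddFin.mem_range_of_commute_pair hA hne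
    (z := w ^ p - w)
    (key v 1 (Commute.one_right w) (one_pow p) h1).symm
    (key u (-1) ((Commute.one_right w).neg_right) hm1
      (by rw [h2, sub_eq_add_neg])).symm
  obtain ⟨c, hc⟩ := hc
  have hwK : w ∉ (algebraMap K A).range := by
    rintro ⟨r, hr⟩
    have hv0 : v ≠ 0 := fun h => hne (by rw [hw, h, zero_mul, mul_zero])
    have h3 : w * v = (w + 1) * v := by rw [← h1, ← hr, Algebra.commutes]
    exact one_ne_zero (α := A) (by simpa using (mul_right_cancel₀ hv0 h3).symm)
  have hdeg : (X ^ p - X - C c : K[X]).natDegree = p := by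
    have : ((X : K[X]) + C c).natDegree < p := by
      rw [natDegree_X_add_C]; exact hp0.one_lt
    rw [sub_sub, natDegree_sub_eq_left_of_natDegree_lt (by rwa [natDegree_X_pow]), natDegree_X_pow]
  have hsep : (X ^ p - X - C c : K[X]).Separable := by
    refine ⟨0, -1, ?_⟩
    simp [derivative_pow, CharP.cast_eq_zero]
  refine Groth.BddFin.exists_galois_subfield hA hwK (X ^ p - X - C c) hsep
    ((Multiset.range p).map fun i : ℕ => w + (i : A)) ?_ ?_ ?_ ?_ ?_
  · intro r hr
    obtain ⟨i, _, rfl⟩ := Multiset.mem_map.mp hr
    exact (Commute.refl w).add_right (Nat.commute_cast w i)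
  · exact Multiset.mem_map.mpr ⟨0, Multiset.mem_range.mpr hp0.pos, by simp⟩
  · intro r hr
    obtain ⟨i, _, rfl⟩ := Multiset.mem_map.mp hr
    rw [map_sub, map_sub, map_pow, aeval_X, aeval_C, hc,
      add_pow_char_of_commute p (Nat.commute_cast w i)]
    have : ((i : A)) ^ p = (i : A) := by
      rw [← map_natCast (algebraMap K A), ← map_pow, ← frobenius_def, map_natCast (frobenius K p)]
    rw [this]
    abel
  · simp [hdeg]
  · refine Multiset.Nodup.map_on ?_ (Multiset.nodup_range p)
    intro i hi j hj h
    have := (CharP.natCast_eq_natCast A p).mp (add_left_cancel h)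
    rw [Multiset.mem_range] at hi hj
    exact Nat.ModEq.eq_of_lt_of_lt this hi hj

end Groth.Agent.S15170
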