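import Groth.Statements.S15172
import Mathlib.Algebra.Polynomial.Monic
import Mathlib.Algebra.Polynomial.Roots
import Mathlib.Algebra.Polynomial.BigOperators
import Mathlib.Tactic
-- import your own Groth.Agent.* helpers here

set_option autoImplicit false
universe u v
open Polynomial
open BddFin

namespace Groth.Agent.S15172

/-- Let L be a field of characteristic p > 0 and s a finite subset of L containing 0 and closed under
addition (a finite additive subgroup). Then the polynomial f = ∏_{a ∈ s} (X - a) is additive: f (x +
y) = f x + f y for all x, y in any commutative L-algebra (equivalently, as an identity of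
polynomials in two variables). -/
theorem result
    (L : Type u) [Field L] (p : ℕ) [Fact p.Prime] [CharP L p] (s : Finset L) (h0 : (0 : L) ∈ s)
    (hadd : ∀ a ∈ s, ∀ b ∈ s, a + b ∈ s) (R : Type v) [CommRing R] [Algebra L R] (x y : R) :
    aeval (x + y) (∏ a ∈ s, (X - C a)) = aeval x (∏ a ∈ s, (X - C a)) + aeval y (∏ a ∈ s, (X - C a)) := by
  classical
  set f : L[X] := ∏ a ∈ s, (X - C a) with hf
  have htrans : ∀ a ∈ s, f.comp (X + C a) = f := by
    intro a ha
    rw [hf, prod_comp]
    have e : ∀ b : L, (X - C b).comp (X + C a) = X - C (b - a) := by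
      intro b; rw [sub_comp, X_comp, C_comp, map_sub]; abel
    simp only [e]
    have hinj : Function.Injective fun b : L => b + a := fun _ _ h => add_right_cancel h
    have hs : s.image (fun b => b + a) = s :=
      Finset.eq_of_subset_of_card_le
        (fun x hx => by
          obtain ⟨b, hb, rfl⟩ := Finset.mem_image.mp hx
          exact hadd b hb a ha)
        (by rw [Finset.card_image_of_injective _ hinj])
    conv_lhs => rw [← hs]
    rw [Finset.prod_image hinj.injOn]
    simp
  set fS : (L[X])[X] := f.map C with hfS
  set g : (L[X])[X] := fS.comp (X + C X) - fS - C f with hg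
  have hmonic : f.Monic := monic_prod_X_sub_C _ s
  have hdeg : f.natDegree = s.card := natDegree_finsetProd_X_sub_C_eq_card _ _
  have hroot : ∀ a ∈ s, g.eval (C a) = 0 := by
    intro a ha
    have h1 : fS.eval (C a) = 0 := by
      rw [hfS, eval_map, eval₂_at_apply]
      simp [hf, eval_prod, Finset.prod_eq_zero ha]
    have h2 : fS.eval (C a + X) = f := by
      rw [hfS, eval_map]
      show f.comp (C a + X) = f
      rw [add_comm, htrans a ha]
    simp [hg, eval_comp, h1, h2]
  have hg0 : g = 0 := by
    apply eq_zero_of_natDegree_lt_card_of_eval_eq_zero' g (s.image C)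
    · intro x hx
      obtain ⟨a, ha, rfl⟩ := Finset.mem_image.mp hx
      exact hroot a ha
    · rw [Finset.card_image_of_injective _ C_injective]
      have hn : 0 < s.card := Finset.card_pos.mpr ⟨0, h0⟩
      have hfd : fS.natDegree = s.card := by rw [hfS, natDegree_map_eq_of_injective C_injective, hdeg]
      have hm1 : (fS.comp (X + C X)).Monic := (hmonic.map C).comp_X_add_C X
      have hd1 : (fS.comp (X + C X)).natDegree = s.card := by
        rw [natDegree_comp, natDegree_X_add_C, mul_one, hfd]
      calc g.natDegree ≤ max (fS.comp (X + C X) - fS).natDegree (C f).natDegree := natDegree_sub_le _ _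
        _ < s.card := max_lt ?_ (by rw [natDegree_C]; exact hn)
      rcases eq_or_ne (fS.comp (X + C X) - fS) 0 with h | h
      · rw [h, natDegree_zero]; exact hn
      · have hne : fS.comp (X + C X) ≠ 0 := hm1.ne_zero
        rw [← hd1]
        exact natDegree_lt_natDegree h (degree_sub_lt_left
          (by rw [degree_eq_natDegree hne, degree_eq_natDegree (hmonic.map C).ne_zero, hd1, hfd])
          hne (hm1.trans (hmonic.map C).symm))
  have h := congrArg (eval₂ (aeval y).toRingHom x) hg0
  have hC : (aeval y).toRingHom.comp C = algebraMap L R := RingHom.ext fun c => aeval_C y c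
  simp only [hg, hfS, eval₂_sub, eval₂_comp, eval₂_add, eval₂_X, eval₂_C, eval₂_map, eval₂_zero,
    hC, AlgHom.toRingHom_eq_coe, RingHom.coe_coe, aeval_X] at h
  have hC' : ((aeval y : L[X] →ₐ[L] R) : L[X] →+* R).comp C = algebraMap L R := hC
  rw [hC', ← aeval_def, ← aeval_def, sub_sub, sub_eq_zero] at h
  exact h

end Groth.Agent.S15172
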