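import Groth.Statements.S15173
import Groth.Agent.BddFin.Wedderburn
import Mathlib.GroupTheory.FiniteAbelian.Basic
-- import your own Groth.Agent.* helpers here

set_option autoImplicit false
universe u v
open Polynomial
open BddFin

namespace Groth.Agent.S15173

/-- Let K be a field of characteristic p > 0 such that K contains all roots of unity (for every n ≥ 1
the polynomial X^n − 1 splits into linear factors over K), and A a finite-dimensional central
division algebra over K. If A contains an element w not in K with w ^ p in K, then the quotient of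
the unit group of A by that of K has unbounded finite subgroups: for every N there is a subgroup H
of the units of A containing the units of K as a subgroup of finite index greater than N. (The
published statement assumes only that some element of A is inseparable over K and passes at once to
a purely inseparable subfield of degree p; this row assumes an element generating such a subfield
directly, which is what the rest of the printed argument uses.) -/
theorem result
    (K : Type u) [Field K] (p : ℕ) [Fact p.Prime] [CharP K p] (hK : ∀ n : ℕ, 0 < n → (X ^ n - 1 : K[X]).Splits)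
    (A : Type v) [DivisionRing A] [Algebra K A] [Algebra.IsCentral K A] [FiniteDimensional K A]
    (w : A) (hw : w ^ p ∈ (algebraMap K A).range) (hwK : w ∉ (algebraMap K A).range) (N : ℕ) :
    ∃ H : Subgroup Aˣ, (Units.map (algebraMap K A : K →* A)).range ≤ H ∧
      N < ((Units.map (algebraMap K A : K →* A)).range).relIndex H := by
  have hp0 := (Fact.out : p.Prime)
  haveI : CharP A p := charP_of_injective_algebraMap (algebraMap K A).injective p
  haveI hKinf : Infinite K := by
    rcases finite_or_infinite K with hfK | hiK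
    swap
    · exact hiK
    exfalso
    cases nonempty_fintype K
    obtain ⟨k, hk⟩ : ∃ k, Fintype.card K + 1 < p ^ k :=
      ⟨Fintype.card K + 1, Nat.lt_pow_self hp0.one_lt⟩
    have hk0 : k ≠ 0 := by rintro rfl; simp at hk
    have hn : 0 < p ^ k - 1 := by omega
    have hne : ((p ^ k - 1 : ℕ) : K) ≠ 0 := by
      rw [Ne, CharP.cast_eq_zero_iff K p]
      intro hd
      have h1 : p ∣ p ^ k := dvd_pow_self p hk0
      have := Nat.dvd_sub h1 hd
      rw [Nat.sub_sub_self (Nat.one_le_pow _ _ hp0.pos)] at this
      exact hp0.one_lt.ne' (Nat.dvd_one.mp this)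
    have hs : (X ^ (p ^ k - 1) - C 1 : K[X]).Separable := separable_X_pow_sub_C 1 hne one_ne_zero
    rw [C_1] at hs
    have hcard := splits_iff_card_roots.mp (hK _ hn)
    rw [show (X ^ (p ^ k - 1) - 1 : K[X]).natDegree = p ^ k - 1 by
      rw [← C_1, natDegree_X_pow_sub_C]] at hcard
    have : Multiset.card (X ^ (p ^ k - 1) - 1 : K[X]).roots ≤ Fintype.card K :=
      Multiset.card_le_card (t := Finset.univ.val)
        ((Multiset.le_iff_subset (nodup_roots hs)).mpr fun x _ => Finset.mem_univ_val x)
    omega
  set Z := (Units.map (algebraMap K A : K →* A)).range with hZ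
  have hZc : ∀ z ∈ Z, ∀ g : Aˣ, g * z * g⁻¹ = z := by
    rintro z ⟨c, rfl⟩ g
    ext
    simp [← Algebra.commutes]
  haveI : Z.Normal := ⟨fun z hz g => (hZc z hz g).symm ▸ hz⟩
  have hu : ∀ a : K, w + algebraMap K A a ≠ 0 := by
    intro a h
    exact hwK ⟨-a, by rw [map_neg]; exact (eq_neg_of_add_eq_zero_left h).symm⟩
  let u : K → Aˣ := fun a => Units.mk0 _ (hu a)
  let q : K → Aˣ ⧸ Z := fun a => QuotientGroup.mk (u a)
  have hq : Function.Injective q := by
    intro a b h
    rw [QuotientGroup.eq] at h
    obtain ⟨c, hc⟩ := h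
    have hc' : (u b : A) = (u a : A) * algebraMap K A c := by
      have : u b = u a * Units.map (algebraMap K A : K →* A) c := by rw [hc, mul_inv_cancel_left]
      rw [this]; rfl
    simp only [u, Units.val_mk0] at hc'
    by_contra hab
    by_cases h1 : (c : K) = 1
    · rw [h1, map_one, mul_one] at hc'
      exact hab ((algebraMap K A).injective (add_left_cancel hc').symm)
    · apply hwK
      refine ⟨(1 - (c : K))⁻¹ * ((c : K) * a - b), ?_⟩
      have e : (1 - (c : K)) • w = algebraMap K A ((c : K) * a - b) := by
        rw [sub_smul, one_smul, Algebra.smul_def, map_sub, map_mul]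
        rw [add_mul, ← Algebra.commutes, ← Algebra.commutes (c : K) (algebraMap K A a)] at hc'
        rw [sub_eq_sub_iff_add_eq_add, hc', add_comm]
      rw [map_mul, ← e, Algebra.smul_def, ← mul_assoc, ← map_mul,
        inv_mul_cancel₀ (sub_ne_zero.mpr (Ne.symm h1)), map_one, one_mul]
  let e : Fin (N + 1) ↪ K := Fin.valEmbedding.trans (Infinite.natEmbedding K)
  classical
  let S : Finset (Aˣ ⧸ Z) := Finset.univ.image (q ∘ e)
  have hScard : S.card = N + 1 := by
    simp [S, Finset.card_image_of_injective _ (hq.comp e.injective)]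
  let T : Subgroup (Aˣ ⧸ Z) := Subgroup.closure (S : Set (Aˣ ⧸ Z))
  have hpow : ∀ a : K, q a ^ p = 1 := by
    intro a
    show ((u a ^ p : Aˣ) : Aˣ ⧸ Z) = 1
    rw [QuotientGroup.eq_one_iff]
    obtain ⟨c, hc⟩ := hw
    have hne : c + a ^ p ≠ 0 := by
      intro h
      apply pow_ne_zero p (hu a)
      rw [add_pow_char_of_commute p (Algebra.commutes a w).symm, ← hc, ← map_pow, ← map_add, h,
        map_zero]
    refine ⟨Units.mk0 _ hne, Units.ext ?_⟩
    show algebraMap K A (c + a ^ p) = (w + algebraMap K A a) ^ p
    rw [add_pow_char_of_commute p (Algebra.commutes a w).symm, map_add, map_pow, hc]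
  have hcomm : ∀ x ∈ (S : Set (Aˣ ⧸ Z)), ∀ y ∈ (S : Set (Aˣ ⧸ Z)), x * y = y * x := by
    intro x hx y hy
    simp only [S, Finset.coe_image, Set.mem_image] at hx hy
    obtain ⟨i, _, rfl⟩ := hx
    obtain ⟨j, _, rfl⟩ := hy
    show ((u (e i) * u (e j) : Aˣ) : Aˣ ⧸ Z) = ((u (e j) * u (e i) : Aˣ) : Aˣ ⧸ Z)
    congr 1
    apply Units.ext
    show (w + _) * (w + _) = (w + _) * (w + _)
    exact (((Commute.refl w).add_left (Algebra.commute_algebraMap_left _ w)).add_right
      ((Algebra.commute_algebraMap_right _ w).add_left (Algebra.commute_algebraMap_left _ _))).eq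
  haveI hTfg : Group.FG T := (Group.fg_iff_subgroup_fg T).mpr ⟨S, rfl⟩
  letI : CommGroup T := Subgroup.closureCommGroupOfComm hcomm
  have htor : IsMulTorsion T := by
    rintro ⟨x, hx⟩
    rw [isOfFinOrder_iff_pow_eq_one]
    refine ⟨p, hp0.pos, ?_⟩
    apply Subtype.ext
    show x ^ p = 1
    induction hx using Subgroup.closure_induction with
    | mem y hy =>
      simp only [S, Finset.coe_image, Set.mem_image] at hy
      obtain ⟨i, _, rfl⟩ := hy
      exact hpow _
    | one => exact one_pow p
    | mul y z hy hz ihy ihz =>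
      have hc : Commute y z := congrArg Subtype.val (mul_comm (⟨y, hy⟩ : T) ⟨z, hz⟩)
      rw [hc.mul_pow, ihy, ihz, mul_one]
    | inv y _ ihy => rw [inv_pow, ihy, inv_one]
  haveI : Finite T := CommGroup.finite_of_fg_isMulTorsion _ htor
  refine ⟨T.comap (QuotientGroup.mk' Z), ?_, ?_⟩
  · intro z hz
    show QuotientGroup.mk' Z z ∈ T
    rw [QuotientGroup.mk'_apply, (QuotientGroup.eq_one_iff z).mpr hz]
    exact T.one_mem
  · have hk := Subgroup.relIndex_ker (QuotientGroup.mk' Z) (K := T.comap (QuotientGroup.mk' Z))
    rw [QuotientGroup.ker_mk'] at hk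
    rw [hk, Subgroup.map_comap_eq_self_of_surjective (QuotientGroup.mk'_surjective Z)]
    calc N < S.card := by omega
      _ = Nat.card (S : Set (Aˣ ⧸ Z)) := by simp
      _ ≤ Nat.card T := Nat.card_mono (Set.toFinite _) Subgroup.subset_closure

end Groth.Agent.S15173
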