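import Groth.Statements.S15174
import Groth.Agent.TorusPts.Apps

set_option autoImplicit false
universe u
open CategoryTheory MonoidalCategory CartesianMonoidalCategory MonObj GrpObj AlgebraicGeometry
open BddFin

namespace Groth.Agent.S15174

/-- Let n and d be positive integers with d larger than the order of every finite subgroup of GL_n(ℤ);
let K be a field whose characteristic does not divide d and which contains a primitive d-th root of
unity; let T be a K-group scheme that is an n-dimensional torus (it becomes isomorphic, as a group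
scheme, to the split torus D(ℤ^n) = 𝔾_m^n after some field extension L of K). Write T(K) for the
group of sections Spec K → T. If T(K) has an element of order d, then some homomorphism 𝔾_m → T of
K-group schemes is a monomorphism (T has a subtorus isomorphic to 𝔾_m). -/
theorem result
    (n d : ℕ) (hn : 0 < n) (hd : 0 < d)
    (hΥ : ∀ H : Subgroup (Matrix.GeneralLinearGroup (Fin n) ℤ), Finite H → Nat.card H < d)
    (K : Type u) [Field K] (hdK : (d : K) ≠ 0) (ζ : K) (hζ : IsPrimitiveRoot ζ d)
    (T : Over (Spec (CommRingCat.of K))) [GrpObj T]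
    (hT : ∃ (L : Type u) (_ : Field L) (_ : Algebra K L),
      Red.IsSplitTorusWith (Fin n → ℤ) (Red.bc (Spec.map (CommRingCat.ofHom (algebraMap K L))) T))
    (x : 𝟙_ (Over (Spec (CommRingCat.of K))) ⟶ T) (hx : orderOf x = d) :
    ∃ i : Red.Gm (Spec (CommRingCat.of K)) ⟶ T, IsMonHom i ∧ Mono i := by
  obtain ⟨H, hH, E, _, _, Φ, hΦ, hinv, hcoch⟩ := Groth.TorusPts.exists_data T hT
  by_contra hno
  have hv := hcoch fun i hi hm => hno ⟨i, hi, hm⟩
  haveI := Fintype.ofFinite H
  haveI : NeZero d := ⟨hd.ne'⟩
  have hxd : x ^ d = 1 := hx ▸ pow_orderOf_eq_one x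
  have hrange : ∀ m, (Φ x m : E) ∈ Set.range (algebraMap K E) := fun m => by
    have h1 : (Φ x m : E) ^ d = 1 := by
      rw [← Units.val_pow_eq_pow_val, ← MonoidHom.pow_apply, ← map_pow, hxd, map_one]
      rfl
    obtain ⟨i, -, hi⟩ := (hζ.map_of_injective (algebraMap K E).injective).eq_pow_of_pow_eq_one h1
    exact ⟨ζ ^ i, by rw [map_pow, hi]⟩
  have hpow := Groth.TorusPts.pow_eq_one_of_phi hΦ
    (Groth.TorusPts.pow_card_eq_one hv (Φ x) (hinv x hrange))
  have hdvd : d ∣ Nat.card H := hx ▸ orderOf_dvd_of_pow_eq_one hpow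
  exact absurd (Nat.le_of_dvd Nat.card_pos hdvd) (not_le.2 (hΥ H hH))

end Groth.Agent.S15174
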