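import Groth.Statements.S15175
import Groth.Agent.TorusPts.Apps

set_option autoImplicit false
universe u
open CategoryTheory MonoidalCategory CartesianMonoidalCategory MonObj GrpObj AlgebraicGeometry
open Polynomial
open BddFin

namespace Groth.Agent.S15175

/-- Let K be a field such that K contains all roots of unity (for every n ≥ 1 the polynomial X^n − 1
splits into linear factors over K), and T a K-group scheme that is an n-dimensional torus (it
becomes isomorphic, as a group scheme, to the split torus D(ℤ^n) = 𝔾_m^n after some field extension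
L of K) and is anisotropic (no homomorphism 𝔾_m → T of K-group schemes is a monomorphism, i.e. T
contains no subtorus isomorphic to 𝔾_m); T(K) is the group of sections Spec K → T. Then a torsion
element of T(K) has order invertible in K (prime to the characteristic) and at most |H| for some
finite subgroup H of GL_n(ℤ) (that is, at most Υ(n), the largest such order), and a finite subgroup
of T(K) has at most |H| ^ n elements for some finite subgroup H of GL_n(ℤ) (at most Υ(n) ^ n). (The
published corollary also records that a finite subgroup of T(K) has order prime to the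
characteristic; that follows from the first clause applied to its elements of prime order and is not
restated.) -/
theorem result
    (K : Type u) [Field K] (hK : ∀ n : ℕ, 0 < n → (X ^ n - 1 : K[X]).Splits) (n : ℕ)
    (T : Over (Spec (CommRingCat.of K))) [GrpObj T]
    (hT : ∃ (L : Type u) (_ : Field L) (_ : Algebra K L),
      Red.IsSplitTorusWith (Fin n → ℤ) (Red.bc (Spec.map (CommRingCat.ofHom (algebraMap K L))) T))
    (haniso : ∀ i : Red.Gm (Spec (CommRingCat.of K)) ⟶ T, IsMonHom i → Mono i → False) :
    (∀ x : 𝟙_ (Over (Spec (CommRingCat.of K))) ⟶ T, IsOfFinOrder x →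
        ((orderOf x : ℕ) : K) ≠ 0 ∧
        ∃ H : Subgroup (Matrix.GeneralLinearGroup (Fin n) ℤ), Finite H ∧ orderOf x ≤ Nat.card H) ∧
    (∀ G : Subgroup (𝟙_ (Over (Spec (CommRingCat.of K))) ⟶ T), Finite G →
        ∃ H : Subgroup (Matrix.GeneralLinearGroup (Fin n) ℤ), Finite H ∧ Nat.card G ≤ Nat.card H ^ n) := by
  obtain ⟨H, hH, E, _, _, Φ, hΦ, hinv, hcoch⟩ := Groth.TorusPts.exists_data T hT
  have hv := hcoch haniso
  haveI := Fintype.ofFinite H
  have hrange : ∀ x, IsOfFinOrder x → ∀ m, (Φ x m : E) ∈ Set.range (algebraMap K E) := fun x hx m => by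
    refine Groth.TorusPts.mem_range_of_pow_eq_one hx.orderOf_pos (hK _ hx.orderOf_pos) ?_
    rw [← Units.val_pow_eq_pow_val, ← MonoidHom.pow_apply, ← map_pow, pow_orderOf_eq_one, map_one]
    rfl
  have hfin : ∀ (G : Subgroup (𝟙_ (Over (Spec (CommRingCat.of K))) ⟶ T)), Finite G → ∀ x : G,
      IsOfFinOrder (x : 𝟙_ (Over (Spec (CommRingCat.of K))) ⟶ T) := fun G hG x =>
    Submonoid.isOfFinOrder_coe.2 (isOfFinOrder_of_finite (x : G.toSubmonoid))
  have hpow : ∀ x, IsOfFinOrder x → Φ x ^ Nat.card H = 1 := fun x hx =>
    Groth.TorusPts.pow_card_eq_one hv (Φ x) (hinv x (hrange x hx))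
  refine ⟨fun x hx => ⟨fun h0 => ?_, H, hH, Nat.le_of_dvd Nat.card_pos
      (orderOf_dvd_of_pow_eq_one (Groth.TorusPts.pow_eq_one_of_phi hΦ (hpow x hx)))⟩,
    fun G hG => ⟨H, hH, Groth.TorusPts.card_le_of_pow Nat.card_pos
      (Φ := Φ.comp G.subtype) (hΦ.comp Subtype.val_injective) fun x => hpow x (hfin G hG x)⟩⟩
  refine Groth.TorusPts.cast_ne_zero_of_pow hΦ hx ?_
  rw [← map_natCast (algebraMap K E), h0, map_zero]

end Groth.Agent.S15175
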