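import Groth.Statements.S15176
import Groth.Agent.TorusPts.Apps

set_option autoImplicit false
universe u
open CategoryTheory MonoidalCategory CartesianMonoidalCategory MonObj GrpObj AlgebraicGeometry
open Polynomial
open BddFin

namespace Groth.Agent.S15176

/-- Let K be a field such that K contains all roots of unity (for every n ≥ 1 the polynomial X^n − 1
splits into linear factors over K), and T a K-group scheme that is a 2-dimensional torus (it becomes
isomorphic, as a group scheme, to the split torus D(ℤ^2) = 𝔾_m^2 after some field extension L of K)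
and is anisotropic (no homomorphism 𝔾_m → T of K-group schemes is a monomorphism, i.e. T contains no
subtorus isomorphic to 𝔾_m); T(K) is the group of sections Spec K → T. Then torsion elements of T(K)
have order ≤ 6, and finite subgroups of T(K) have at most 36 elements. -/
theorem result
    (K : Type u) [Field K] (hK : ∀ n : ℕ, 0 < n → (X ^ n - 1 : K[X]).Splits)
    (T : Over (Spec (CommRingCat.of K))) [GrpObj T]
    (hT : ∃ (L : Type u) (_ : Field L) (_ : Algebra K L),
      Red.IsSplitTorusWith (Fin 2 → ℤ) (Red.bc (Spec.map (CommRingCat.ofHom (algebraMap K L))) T))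
    (haniso : ∀ i : Red.Gm (Spec (CommRingCat.of K)) ⟶ T, IsMonHom i → Mono i → False) :
    (∀ x : 𝟙_ (Over (Spec (CommRingCat.of K))) ⟶ T, IsOfFinOrder x → orderOf x ≤ 6) ∧
    (∀ G : Subgroup (𝟙_ (Over (Spec (CommRingCat.of K))) ⟶ T), Finite G → Nat.card G ≤ 36) := by
  obtain ⟨H, hH, E, _, _, Φ, hΦ, hinv, hcoch⟩ := Groth.TorusPts.exists_data T hT
  have hv := hcoch haniso
  haveI := Fintype.ofFinite H
  have hrange : ∀ x, IsOfFinOrder x → ∀ m, (Φ x m : E) ∈ Set.range (algebraMap K E) := fun x hx m => by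
    refine Groth.TorusPts.mem_range_of_pow_eq_one hx.orderOf_pos (hK _ hx.orderOf_pos) ?_
    rw [← Units.val_pow_eq_pow_val, ← MonoidHom.pow_apply, ← map_pow, pow_orderOf_eq_one, map_one]
    rfl
  have hfin : ∀ (G : Subgroup (𝟙_ (Over (Spec (CommRingCat.of K))) ⟶ T)), Finite G → ∀ x : G,
      IsOfFinOrder (x : 𝟙_ (Over (Spec (CommRingCat.of K))) ⟶ T) := fun G hG x =>
    Submonoid.isOfFinOrder_coe.2 (isOfFinOrder_of_finite (x : G.toSubmonoid))
  obtain ⟨h, hh, hpos, hle⟩ := Groth.TorusPts.exists_small_det_two hv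
  obtain ⟨e, he⟩ := Int.eq_ofNat_of_zero_le hpos.le
  have he0 : 0 < e := by omega
  have he4 : e ≤ 4 := by omega
  have hpow : ∀ x, IsOfFinOrder x → Φ x ^ e = 1 := fun x hx =>
    Groth.TorusPts.pow_det_eq_one (h : Matrix (Fin 2) (Fin 2) ℤ) (Φ x) (hinv x (hrange x hx) h hh) e he
  refine ⟨fun x hx => ?_, fun G hG => ?_⟩
  · have := Nat.le_of_dvd he0 (orderOf_dvd_of_pow_eq_one (Groth.TorusPts.pow_eq_one_of_phi hΦ (hpow x hx)))
    omega
  · have h1 := Groth.TorusPts.card_le_of_pow he0 (Φ := Φ.comp G.subtype) (hΦ.comp Subtype.val_injective)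
      fun x => hpow x (hfin G hG x)
    have h2 : e ^ 2 ≤ 4 ^ 2 := Nat.pow_le_pow_left he4 2
    omega

end Groth.Agent.S15176
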