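import Groth.Statements.S15180
import Groth.Agent.BddFin.LineQuotGm

set_option autoImplicit false
universe u
open CategoryTheory MonoidalCategory CartesianMonoidalCategory MonObj GrpObj AlgebraicGeometry
open BddFin

namespace Groth.Agent.S15180

lemma transport {K : Type u} [Field K] {G G₀ H : Over (Spec (CommRingCat.of K))} [GrpObj G] [GrpObj G₀]
    [GrpObj H] (w : Grp.mk G ≅ Grp.mk G₀) (i : H ⟶ G)
    (h : ∃ φ : G₀ ⟶ G₀, IsMonHom φ ∧ AlgGrp.IsKernel (i ≫ w.hom.hom.hom) φ ∧ Flat φ.left ∧ Surjective φ.left) :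
    ∃ φ : G ⟶ G, IsMonHom φ ∧ AlgGrp.IsKernel i φ ∧ Flat φ.left ∧ Surjective φ.left := by
  obtain ⟨φ, hφ, hker, hf, hs⟩ := h
  let e : G ≅ G₀ := (Grp.forget _).mapIso w
  haveI he : IsMonHom e.hom := inferInstanceAs (IsMonHom w.hom.hom.hom)
  haveI he' : IsMonHom e.inv := inferInstanceAs (IsMonHom w.inv.hom.hom)
  have hc := Groth.BddFin.LineQuot.flat_surjective_conj e.hom φ e.inv
  refine ⟨e.hom ≫ φ ≫ e.inv, inferInstance, ?_, hc.1 hf, hc.2 hs⟩
  refine IsPullback.of_iso hker (Iso.refl _) e.symm (Iso.refl _) e.symm ?_ ?_ ?_ ?_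
  · show (i ≫ e.hom) ≫ e.inv = 𝟙 _ ≫ i
    simp
  · simp
  · show φ ≫ e.inv = e.inv ≫ e.hom ≫ φ ≫ e.inv
    simp
  · show η[G₀] ≫ e.inv = 𝟙 _ ≫ η[G]
    rw [IsMonHom.one_hom, Category.id_comp]

/-- Let K be an arbitrary field, G a K-group scheme isomorphic (as a group scheme) to 𝔾_a (additive) or
to 𝔾_m (multiplicative), and H a finite subgroup scheme of G (a monomorphic homomorphism H → G with
H finite over K). Then the quotient G/H is isomorphic to G; equivalently, there is a homomorphism of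
K-group schemes G → G which is flat and surjective and whose kernel is H. -/
theorem result
    (K : Type u) [Field K] (G H : Over (Spec (CommRingCat.of K))) [GrpObj G] [GrpObj H]
    (hG : Nonempty (Grp.mk G ≅ Grp.mk (Red.Ga (Spec (CommRingCat.of K)))) ∨
      Nonempty (Grp.mk G ≅ Grp.mk (Red.Gm (Spec (CommRingCat.of K)))))
    (i : H ⟶ G) [IsMonHom i] [Mono i] [IsFinite H.hom] :
    ∃ φ : G ⟶ G, IsMonHom φ ∧ AlgGrp.IsKernel i φ ∧ Flat φ.left ∧ Surjective φ.left := by
  rcases hG with ⟨⟨w⟩⟩ | ⟨⟨w⟩⟩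
  · haveI : IsMonHom w.hom.hom.hom := inferInstance
    haveI : IsIso w.hom.hom.hom := ((Grp.forget _).mapIso w).isIso_hom
    exact transport w i (Groth.BddFin.LineQuot.quot_ga (i ≫ w.hom.hom.hom))
  · haveI : IsMonHom w.hom.hom.hom := inferInstance
    haveI : IsIso w.hom.hom.hom := ((Grp.forget _).mapIso w).isIso_hom
    exact transport w i (Groth.BddFin.LineQuot.quot_gm (i ≫ w.hom.hom.hom))

end Groth.Agent.S15180
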