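import Groth.Statements.S15183
import Mathlib.RingTheory.SimpleModule.WedderburnArtin
import Mathlib.RingTheory.Polynomial.Cyclotomic.Roots
import Mathlib.Tactic
-- import your own Groth.Agent.* helpers here

set_option autoImplicit false
universe u v
open Polynomial
open BddFin

namespace Groth.Agent.S15183

/-- Let K be a field such that K contains all roots of unity (for every n ≥ 1 the polynomial X^n − 1
splits into linear factors over K), and A a finite-dimensional central simple K-algebra which is not
a division algebra (some non-zero element is not a unit). Then the quotient of the unit group of A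
by that of K has elements of every finite order invertible in K: for every d ≥ 1 with d ≠ 0 in K
there is a unit x of A with x ^ d in K and x ^ k not in K for 0 < k < d. (The published assertion is
phrased for the automorphism group of the Severi–Brauer variety of A, which is isomorphic to the
units of A modulo those of K; this row is the algebra-side statement its proof establishes.) -/
theorem result
    (K : Type u) [Field K] (hK : ∀ n : ℕ, 0 < n → (X ^ n - 1 : K[X]).Splits)
    (A : Type v) [Ring A] [Algebra K A] [Algebra.IsCentral K A] [IsSimpleRing A] [FiniteDimensional K A]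
    (hA : ∃ y : A, y ≠ 0 ∧ ¬ IsUnit y) (d : ℕ) (hd : 0 < d) (hdK : (d : K) ≠ 0) :
    ∃ x : A, IsUnit x ∧ x ^ d ∈ (algebraMap K A).range ∧
      ∀ k : ℕ, 0 < k → k < d → x ^ k ∉ (algebraMap K A).range := by
  classical
  haveI : IsArtinianRing A := IsArtinianRing.of_finite K A
  obtain ⟨m, hm, D, _, _, ⟨e⟩⟩ := IsSimpleRing.exists_algEquiv_matrix_divisionRing K A
  obtain ⟨y, hy0, hyu⟩ := hA
  have hm2 : 2 ≤ m := by
    by_contra hlt
    haveI := hm
    have hm1 : m = 1 := by have := Nat.pos_of_ne_zero hm.out; omega
    subst hm1
    apply hyu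
    have h0 : e y 0 0 ≠ 0 := by
      intro h
      apply hy0
      apply e.injective
      rw [map_zero]
      ext i j
      rw [Subsingleton.elim i 0, Subsingleton.elim j 0, h]
      rfl
    refine (MulEquiv.isUnit_map e).mp ⟨⟨e y, Matrix.diagonal fun _ => (e y 0 0)⁻¹, ?_, ?_⟩, rfl⟩
    · ext i j
      rw [Subsingleton.elim i 0, Subsingleton.elim j 0]
      simp [mul_inv_cancel₀ h0]
    · ext i j
      rw [Subsingleton.elim i 0, Subsingleton.elim j 0]
      simp [inv_mul_cancel₀ h0]
  haveI : NeZero (d : K) := ⟨hdK⟩
  obtain ⟨ζ, hζ⟩ := Polynomial.Splits.exists_eval_eq_zero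
    (((hK d hd).of_dvd (by rw [← C_1]; exact X_pow_sub_C_ne_zero hd 1)
      (cyclotomic.dvd_X_pow_sub_one d K)))
    (by
      have hpos := degree_cyclotomic_pos d K hd
      exact hpos.ne')
  have hprim : IsPrimitiveRoot ζ d := isRoot_cyclotomic_iff.mp hζ
  have hζ0 : ζ ≠ 0 := hprim.ne_zero hd.ne'
  let i0 : Fin m := ⟨0, by omega⟩
  let i1 : Fin m := ⟨1, by omega⟩
  let dv : Fin m → D := fun i => if i = i0 then algebraMap K D ζ else 1
  set M : Matrix (Fin m) (Fin m) D := Matrix.diagonal dv with hM
  have hMu : IsUnit M := by
    refine ⟨⟨M, Matrix.diagonal fun i => if i = i0 then algebraMap K D ζ⁻¹ else 1, ?_, ?_⟩, rfl⟩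
    · rw [hM, Matrix.diagonal_mul_diagonal, ← Matrix.diagonal_one]
      congr 1
      funext i
      simp only [dv]
      split_ifs <;> simp only [← map_mul, mul_inv_cancel₀ hζ0, map_one, one_mul]
    · rw [hM, Matrix.diagonal_mul_diagonal, ← Matrix.diagonal_one]
      congr 1
      funext i
      simp only [dv]
      split_ifs <;> simp only [← map_mul, inv_mul_cancel₀ hζ0, map_one, one_mul]
  refine ⟨e.symm M, (MulEquiv.isUnit_map e.symm).mpr hMu, ⟨1, ?_⟩, fun k hk hkd => ?_⟩
  · rw [map_one, ← map_pow]
    have : M ^ d = 1 := by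
      rw [hM, Matrix.diagonal_pow, ← Matrix.diagonal_one]
      congr 1
      funext i
      simp only [dv, Pi.pow_apply]
      split_ifs <;> simp [← map_pow, hprim.pow_eq_one]
    rw [this, map_one]
  · rintro ⟨c, hc⟩
    have h := congrArg e hc
    rw [e.commutes, map_pow, e.apply_symm_apply, hM, Matrix.diagonal_pow,
      Matrix.algebraMap_eq_diagonal] at h
    have h' := Matrix.diagonal_injective h
    have h0 := congrFun h' i0
    have h1 := congrFun h' i1
    have hne : i1 ≠ i0 := by simp [i0, i1]
    simp [dv, hne] at h0 h1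
    rw [h1, map_one, ← map_pow] at h0
    exact hprim.pow_ne_one_of_pos_of_lt hk.ne' hkd ((algebraMap K D).injective (by rw [map_one]; exact h0.symm))

end Groth.Agent.S15183
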