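import Groth.Statements.S15184
import Groth.Agent.BddFin.Wedderburn
-- import your own Groth.Agent.* helpers here

set_option autoImplicit false
universe u v
open BddFin

open Polynomial

namespace Groth.Agent.S15184

/-- Let K be a field with char K = p > 0 and A a central division K-algebra with dim_K A = p ^ 2. If p =
2 or p = 3, then some element of A is not separable over K. -/
theorem result
    (K : Type u) [Field K] (p : ℕ) [Fact p.Prime] [CharP K p]
    (A : Type v) [DivisionRing A] [Algebra K A] [Algebra.IsCentral K A] [FiniteDimensional K A]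
    (hA : Module.finrank K A = p ^ 2) (hp : p = 2 ∨ p = 3) :
    ∃ v : A, ¬ IsSeparable K v := by
  obtain ⟨a, haK⟩ : ∃ a : A, a ∉ (algebraMap K A).range := by
    by_contra h
    push Not at h
    have : Module.finrank K A ≤ 1 := finrank_le_one (1 : A) fun a => by
      obtain ⟨c, rfl⟩ := h a; exact ⟨c, by simp [Algebra.smul_def]⟩
    have := (Fact.out : p.Prime).two_le
    nlinarith
  by_cases hsep : IsSeparable K a
  swap
  · exact ⟨a, hsep⟩
  rcases hp with rfl | rfl
  · set f := minpoly K a with hf
    have hint : IsIntegral K a := IsIntegral.of_finite K a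
    have hdeg : f.natDegree = 2 := Groth.BddFin.natDegree_minpoly hA haK
    have h2 : f.coeff 2 = 1 := hdeg ▸ minpoly.monic hint
    have ha : a * a = -(f.coeff 1 • a) - f.coeff 0 • (1 : A) := by
      have h := minpoly.aeval K a
      rw [← hf, aeval_eq_sum_range, hdeg] at h
      simp [Finset.sum_range_succ, h2, pow_succ] at h
      have e : a * a = (f.coeff 0 • (1:A) + f.coeff 1 • a + a * a) - f.coeff 1 • a - f.coeff 0 • (1 : A) := by
        abel
      rw [e, h]; abel
    obtain ⟨z, hz⟩ := Groth.BddFin.exists_not_commute haK
    set y := z * a - a * z with hy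
    have hya : y * a = (-(f.coeff 1 • (1 : A)) - a) * y := by
      have e1 : y * a = z * (a * a) - a * z * a := by rw [hy, sub_mul, mul_assoc]
      have e2 : (-(f.coeff 1 • (1 : A)) - a) * y =
          -(f.coeff 1 • y) - (a * z * a - (a * a) * z) := by
        simp only [hy, sub_mul, neg_mul, smul_mul_assoc, one_mul, mul_sub, mul_assoc, smul_sub]
        abel
      rw [e1, e2, ha, hy]
      simp only [mul_sub, sub_mul, mul_neg, neg_mul, mul_smul_comm, smul_mul_assoc, smul_sub,
        one_mul, mul_one]
      abel
    have hy0 : y ≠ 0 := sub_ne_zero.mpr hz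
    have hcomm : Commute (y ^ 2) a := by
      show y ^ 2 * a = a * y ^ 2
      calc y ^ 2 * a = y * (y * a) := by rw [pow_two, mul_assoc]
        _ = -(f.coeff 1 • (y * y)) - y * a * y := by
          conv_lhs => rw [hya]
          simp only [sub_mul, neg_mul, smul_mul_assoc, one_mul, mul_sub, mul_neg, mul_smul_comm,
            mul_assoc]
        _ = a * y ^ 2 := by
          rw [hya]
          simp only [pow_two, sub_mul, neg_mul, smul_mul_assoc, one_mul, mul_assoc]
          abel
    have hne : a * y ≠ y * a := by
      intro h
      rw [hya] at h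
      have h' : a = -(f.coeff 1 • (1 : A)) - a := mul_right_cancel₀ hy0 h
      obtain ⟨u, w, huw⟩ := (hsep : f.Separable)
      have := congrArg (aeval a) huw
      have hfe : f = X ^ 2 + C (f.coeff 1) * X + C (f.coeff 0) := by
        conv_lhs => rw [as_sum_range_C_mul_X_pow f, hdeg]
        simp [Finset.sum_range_succ, h2]
        ring
      have hd : derivative f = C (2 : K) * X + C (f.coeff 1) := by
        conv_lhs => rw [hfe]
        simp [derivative_pow]
      rw [map_add, map_mul, map_mul, minpoly.aeval, mul_zero, zero_add, map_one, hd] at this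
      have e : aeval a (C (2 : K) * X + C (f.coeff 1)) = 0 := by
        simp only [map_add, map_mul, aeval_X, aeval_C, Algebra.algebraMap_eq_smul_one,
          smul_mul_assoc, one_mul]
        rw [two_smul]
        nth_rewrite 1 [h']
        abel
      rw [e, mul_zero] at this
      exact zero_ne_one this
    refine ⟨y, Groth.BddFin.not_isSeparable_of_pow_mem
      (Groth.BddFin.mem_range_of_commute_pair hA hne hcomm ((Commute.refl y).pow_left 2)) ?_⟩
    rintro ⟨c, hc⟩
    exact hne (by rw [← hc, Algebra.commutes])
  · rcases Groth.BddFin.cubic_cases rfl hA haK hsep with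
      ⟨L, _, _, _, hL, ⟨ι⟩⟩ | ⟨v, hv, hv3⟩
    · exact Groth.BddFin.exists_inseparable_of_galois hA hL ι
    · exact ⟨v, Groth.BddFin.not_isSeparable_of_pow_mem hv3 hv⟩

end Groth.Agent.S15184
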