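import Groth.Statements.S15185
import Groth.Agent.BddFin.RootsDeg

set_option autoImplicit false
universe u v
open Polynomial
open BddFin

namespace Groth.Agent.S15185

/-- Let K be a field of characteristic p > 0 such that K contains all roots of unity (for every n ≥ 1
the polynomial X^n − 1 splits into linear factors over K), A a central division algebra of dimension
n ^ 2 over K, and write n = n' · p ^ m with n' prime to p; let N be the reduced norm of A. Consider
the kernel of the homomorphism from the units of A modulo those of K to Kˣ/(Kˣ)^(p^m) induced by N.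
Every element of finite order of that kernel has order dividing n': if x ≠ 0 in A has x ^ r in K for
some r ≥ 1 and N x is a (p ^ m)-th power of a non-zero element of K, then x ^ n' lies in K. -/
theorem result
    (K : Type u) [Field K] (p : ℕ) [Fact p.Prime] [CharP K p] (hK : ∀ n : ℕ, 0 < n → (X ^ n - 1 : K[X]).Splits)
    (A : Type v) [DivisionRing A] [Algebra K A] [Algebra.IsCentral K A] [FiniteDimensional K A]
    (n n' m : ℕ) (hA : Module.finrank K A = n ^ 2) (hn : n = n' * p ^ m) (hn' : ¬ p ∣ n')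
    (N : A →* K) (hN : CSAGal.IsRedNorm K A N)
    (x : A) (hx : x ≠ 0) (hxr : ∃ r : ℕ, 0 < r ∧ x ^ r ∈ (algebraMap K A).range)
    (hNx : ∃ b : K, b ≠ 0 ∧ N x = b ^ (p ^ m)) :
    x ^ n' ∈ (algebraMap K A).range := by
  classical
  have hp := (Fact.out : p.Prime)
  obtain ⟨r, a, hr, hdvd, hmin⟩ := Groth.BddFin.exists_minpoly_division hK hA hx hxr
  have hra : x ^ r = algebraMap K A a := by
    have h := minpoly.aeval K x
    rwa [hmin, map_sub, map_pow, aeval_X, aeval_C, sub_eq_zero] at h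
  -- it suffices that `p` does not divide `r`
  suffices hpr : ¬ p ∣ r by
    have hr' : r ∣ n' :=
      (Nat.Coprime.pow_right m ((hp.coprime_iff_not_dvd.2 hpr).symm)).dvd_of_dvd_mul_right (hn ▸ hdvd)
    obtain ⟨t, ht⟩ := hr'
    exact ⟨a ^ t, by rw [ht, map_pow, pow_mul, hra]⟩
  rintro ⟨r₁, rfl⟩
  have ha : ¬ ∃ c : K, a = c ^ p := by
    rintro ⟨c, rfl⟩
    have h1 : (minpoly K x) ∣ (X ^ r₁ - C c) ^ p := by
      rw [hmin, sub_pow_char_of_commute _ (Commute.all _ _), ← pow_mul, ← C_pow, mul_comm]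
    have h2 := (minpoly.irreducible (IsIntegral.of_finite K x)).prime.dvd_of_dvd_pow h1
    have hr₁ : 0 < r₁ := Nat.pos_of_ne_zero (by rintro rfl; simp at hr)
    have h3 := natDegree_le_of_dvd h2 (X_pow_sub_C_ne_zero hr₁ c)
    rw [hmin, natDegree_X_pow_sub_C, natDegree_X_pow_sub_C] at h3
    have := hp.two_le
    nlinarith
  obtain ⟨b, hb, hNb⟩ := hNx
  obtain ⟨k, hk, hNk⟩ := Groth.BddFin.redNorm_eq_of_minpoly hA hN hr hmin
  -- `n = r * k`
  have hm : m ≠ 0 := by
    rintro rfl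
    exact hn' ⟨r₁ * k, by rw [pow_zero, mul_one] at hn; rw [← hn, hk, mul_assoc]⟩
  have hsq : ((-1 : K) ^ n) ^ 2 = 1 := by rw [← pow_mul, pow_mul', neg_one_sq, one_pow]
  -- write `k = k' * p ^ e` with `k'` prime to `p`
  have hk0 : k ≠ 0 := by
    rintro rfl
    rw [mul_zero] at hk
    rw [hk] at hA
    simp [Module.finrank_pos.ne'] at hA
  obtain ⟨e, k', hk', rfl⟩ := Nat.exists_eq_pow_mul_and_not_dvd hk0 p hp.one_lt.ne'
  have hem : e < m := by
    by_contra hle
    have h1 : p ^ m * p ∣ n' * p ^ m := by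
      rw [← hn, hk, ← pow_succ]
      calc p ^ (m + 1) ∣ p ^ (e + 1) := pow_dvd_pow p (by omega)
        _ ∣ p * r₁ * (p ^ e * k') := ⟨r₁ * k', by rw [pow_succ]; ring⟩
    rw [mul_comm n'] at h1
    exact hn' (Nat.dvd_of_mul_dvd_mul_left (pow_pos hp.pos m) h1)
  obtain ⟨l, rfl⟩ : ∃ l, m = e + (l + 1) := ⟨m - e - 1, by omega⟩
  -- absorb the signs into the Frobenius
  have hε : ∀ ε : K, ε ^ 2 = 1 → ∃ δ : K, δ ^ p = ε := by
    intro ε hε
    rcases sq_eq_one_iff.1 hε with rfl | rfl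
    · exact ⟨1, one_pow p⟩
    · exact ⟨-1, by rw [neg_one_pow_char]⟩
  have hone : ∀ ε : K, ε ^ 2 = 1 → ε ^ p ^ (e + (l + 1)) = ε := by
    intro ε hε
    rcases sq_eq_one_iff.1 hε with rfl | rfl
    · exact one_pow _
    · rw [← iterateFrobenius_def, map_neg, map_one]
  have hne : ((-1 : K) ^ n * (-1) ^ (p ^ e * k')) ^ 2 = 1 := by
    rw [mul_pow, hsq, one_mul, ← pow_mul, pow_mul', neg_one_sq, one_pow]
  -- so `a ^ k'` is a `p`-th power
  have hpow : (a ^ k') ^ p ^ e = (((-1 : K) ^ n * (-1) ^ (p ^ e * k') * b) ^ p ^ (l + 1)) ^ p ^ e := by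
    have hexp : p ^ (l + 1) * p ^ e = p ^ (e + (l + 1)) := by rw [← pow_add, add_comm]
    rw [← pow_mul, ← pow_mul, hexp, mul_comm k' (p ^ e), mul_pow _ b, hone _ hne, ← hNb, hNk,
      neg_pow a]
    have h1 : ((-1 : K) ^ n * (-1) ^ (p ^ e * k')) * ((-1) ^ n * ((-1) ^ (p ^ e * k') * a ^ (p ^ e * k')))
        = ((-1 : K) ^ n * (-1) ^ (p ^ e * k')) ^ 2 * a ^ (p ^ e * k') := by ring
    rw [h1, hne, one_mul]
  have hinj : a ^ k' = ((-1 : K) ^ n * (-1) ^ (p ^ e * k') * b) ^ p ^ (l + 1) :=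
    iterateFrobenius_inj K p e hpow
  apply ha
  obtain ⟨u, v, huv⟩ : ∃ u v : ℤ, (k' : ℤ) * u + (p : ℤ) * v = 1 :=
    ⟨_, _, (Int.gcd_eq_gcd_ab k' p).symm.trans (by
      rw [Int.gcd_natCast_natCast, (hp.coprime_iff_not_dvd.2 hk').symm, Nat.cast_one])⟩
  have ha0 : a ≠ 0 := fun h => pow_ne_zero _ hx (by rw [hra, h, map_zero])
  refine ⟨(((-1 : K) ^ n * (-1) ^ (p ^ e * k') * b) ^ p ^ l) ^ u * a ^ v, ?_⟩
  rw [mul_pow, ← zpow_natCast, ← zpow_natCast (a ^ v), ← zpow_mul, ← zpow_mul, mul_comm u, zpow_mul,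
    zpow_natCast, ← pow_mul, ← pow_succ, ← hinj, ← zpow_natCast, ← zpow_mul, ← zpow_add₀ ha0,
    mul_comm v, huv, zpow_one]

end Groth.Agent.S15185
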