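import Groth.Statements.S15223
import Groth.Agent.CohTwo.EllSimple.Main
-- import your own Groth.Agent.* helpers here

set_option autoImplicit false
open CategoryTheory CategoryTheory.Limits AlgebraicGeometry
universe u
open Coherent

namespace Groth.Agent.S15223

/-- Let k be a field, S an integral k-scheme of finite type with generic point ξ, f : Y → S a smooth
proper morphism which is projective (some invertible sheaf on Y is the restriction of O(1) along an
S-immersion into a projective space over S), and 1 ≤ ℓ ≤ d. Let E be a coherent sheaf on Y, flat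
over S, whose fibre E_s on Y_s (over the residue field κ(s)) is nonzero and pure of dimension d for
every point s of S. Call E_s ℓ-simple when, for every open U ⊆ Y_s such that every point z of
Supp(E_s) outside U has codimension at least ℓ + 1 in Supp(E_s) (the generizations of z inside
Supp(E_s) form a space of Krull dimension ≥ ℓ + 1), the restriction E_s|_U is nonzero and each of
its endomorphisms is multiplication by a scalar from κ(s) (on sections over every open V ⊆ U). If
E_s is ℓ-simple for every closed point s of S, then the generic fibre E_ξ is ℓ-simple over κ(ξ).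
(The published statement speaks of a flat family of pure sheaves with ℓ-simple closed fibres; this
row asks the fibre at every point of S to be nonzero and pure of the fixed dimension d ≥ ℓ.) -/
theorem result (k : Type u) [Field k]
    (S : Scheme.{u}) (q : S ⟶ Spec (CommRingCat.of k)) [IsIntegral S] [LocallyOfFiniteType q] [CompactSpace S]
    (Y : Scheme.{u}) (f : Y ⟶ S) [Smooth f] [IsProper f] (L : Y.Modules) (hL : RelAmple.IsRelVeryAmplePn f L)
    (d ℓ : ℕ) (hℓ : 1 ≤ ℓ) (hℓd : ℓ ≤ d)
    (E : Y.Modules) (hE : Coh.IsCoh E) (hfl : FlatMod.IsFlatOver f E)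
    (hfib : ∀ s : S, ¬ IsZero (CohIII.fiberMod f E s) ∧ ShStab.IsPure (Over.mk (f.fiberToSpecResidueField s)).left (CohIII.fiberMod f E s) d)
    (hsimple : ∀ s : S, IsClosed ({s} : Set S) →
      (∀ U : (f.fiber s).Opens,
        (∀ z : ↥(f.fiber s), z ∉ U → z ∈ CohB1.support (CohIII.fiberMod f E s) →
          ((ℓ : WithBot ℕ∞) + 1 ≤ topologicalKrullDim {t : ↥(f.fiber s) // t ∈ CohB1.support (CohIII.fiberMod f E s) ∧ t ⤳ z})) →
        ¬ IsZero ((Scheme.Modules.restrictFunctor U.ι).obj (CohIII.fiberMod f E s)) ∧
        ∀ φ : (Scheme.Modules.restrictFunctor U.ι).obj (CohIII.fiberMod f E s) ⟶ (Scheme.Modules.restrictFunctor U.ι).obj (CohIII.fiberMod f E s),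
          ∃ c : ↥(S.residueField s), ∀ (V : (U : Scheme.{u}).Opens) (x : (CohIII.fiberMod f E s).val.obj (Opposite.op (U.ι ''ᵁ V))),
            (φ.app V) ((Scheme.Modules.restrictAppIso U.ι (CohIII.fiberMod f E s) V).inv x) =
              (Scheme.Modules.restrictAppIso U.ι (CohIII.fiberMod f E s) V).inv
                (((f.fiber s).ringCatSheaf.obj.map (homOfLE (le_top : U.ι ''ᵁ V ≤ ⊤)).op
                  (Coh.toGlobal (f.fiberToSpecResidueField s) c)) • x))) :
    (∀ U : (f.fiber (genericPoint S)).Opens,
        (∀ z : ↥(f.fiber (genericPoint S)), z ∉ U → z ∈ CohB1.support (CohIII.fiberMod f E (genericPoint S)) →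
          ((ℓ : WithBot ℕ∞) + 1 ≤ topologicalKrullDim {t : ↥(f.fiber (genericPoint S)) // t ∈ CohB1.support (CohIII.fiberMod f E (genericPoint S)) ∧ t ⤳ z})) →
        ¬ IsZero ((Scheme.Modules.restrictFunctor U.ι).obj (CohIII.fiberMod f E (genericPoint S))) ∧
        ∀ φ : (Scheme.Modules.restrictFunctor U.ι).obj (CohIII.fiberMod f E (genericPoint S)) ⟶ (Scheme.Modules.restrictFunctor U.ι).obj (CohIII.fiberMod f E (genericPoint S)),
          ∃ c : ↥(S.residueField (genericPoint S)), ∀ (V : (U : Scheme.{u}).Opens) (x : (CohIII.fiberMod f E (genericPoint S)).val.obj (Opposite.op (U.ι ''ᵁ V))),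
            (φ.app V) ((Scheme.Modules.restrictAppIso U.ι (CohIII.fiberMod f E (genericPoint S)) V).inv x) =
              (Scheme.Modules.restrictAppIso U.ι (CohIII.fiberMod f E (genericPoint S)) V).inv
                (((f.fiber (genericPoint S)).ringCatSheaf.obj.map (homOfLE (le_top : U.ι ''ᵁ V ≤ ⊤)).op
                  (Coh.toGlobal (f.fiberToSpecResidueField (genericPoint S)) c)) • x)) := by
  intro U hU
  let ξ := genericPoint S
  have h := Groth.CohTwo.EllSimple.ellSimple_generic k S q Y f d ℓ E hE hfl hfib
    (fun s hs V hV u => by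
      obtain ⟨-, h⟩ := hsimple s hs V hV
      obtain ⟨c, hc⟩ := h u
      refine ⟨(Scheme.ΓSpecIso (S.residueField s)).inv c, fun W x => ?_⟩
      have hc' := hc W ((Scheme.Modules.restrictAppIso V.ι _ W).hom x)
      have e : (Scheme.ΓSpecIso (S.residueField s)).hom ((Scheme.ΓSpecIso (S.residueField s)).inv c) = c :=
        congr($((Scheme.ΓSpecIso (S.residueField s)).inv_hom_id) c)
      rw [← e] at hc'
      exact (Groth.CohTwo.EllSimple.isScalar_restrict_iff _ _ _ u _ W _).1 hc') U hU
  refine ⟨h.1, fun φ => ?_⟩
  obtain ⟨c, hc⟩ := h.2 φ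
  exact ⟨(Scheme.ΓSpecIso (S.residueField ξ)).hom c, fun V x =>
    (Groth.CohTwo.EllSimple.isScalar_restrict_iff _ _ _ φ c V x).2 (hc V _)⟩

end Groth.Agent.S15223
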