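import Groth.Statements.S15224
import Mathlib.Tactic
-- import your own Groth.Agent.* helpers here

set_option autoImplicit false
open Finset
open W4c2rk2extmaps

namespace Groth.Agent.S15224

/-- In a commutative ℚ-algebra R let y be an element and put c_k = y^k / k! for every k. Then for k ≥ 2,
Σ_{i=1}^{k-1} (-1)^(i-1) c_i c_(k-i) + (-1)^(k-1) c_k = c_k. (The published statement concerns the
Chern classes of a specific vector bundle on a Jacobian, which are of the form c_k = (4θ)^k / k!;
the printed argument establishes the identity for every sequence of this form in a commutative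
ℚ-algebra, which is the form stated here.) -/
theorem result (R : Type*) [CommRing R] [Algebra ℚ R] (y : R)
    (c : ℕ → R) (hc : ∀ k : ℕ, c k = ((Nat.factorial k : ℚ)⁻¹) • y ^ k)
    (k : ℕ) (hk : 2 ≤ k) :
    (∑ i ∈ Finset.Ico 1 k, (-1 : R) ^ (i - 1) * c i * c (k - i)) + (-1 : R) ^ (k - 1) * c k = c k := by
  have hmul : ∀ i j : ℕ, c i * c j = ((i + j).choose i : R) * c (i + j) := by
    intro i j
    have hq : (i.factorial : ℚ)⁻¹ * (j.factorial : ℚ)⁻¹ =
        ((i + j).choose i : ℚ) * ((i + j).factorial : ℚ)⁻¹ := by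
      rw [Nat.cast_choose ℚ (Nat.le_add_right i j), Nat.add_sub_cancel_left]
      have h3 : ((i + j).factorial : ℚ) ≠ 0 := by exact_mod_cast (i + j).factorial_ne_zero
      field_simp
    rw [hc, hc, hc, smul_mul_smul_comm, ← pow_add, hq, mul_smul, Nat.cast_smul_eq_nsmul,
      nsmul_eq_mul]
  have hS : ∀ k : ℕ, 1 ≤ k → (∑ i ∈ Finset.Ico 1 k, (-1 : R) ^ (i - 1) * c i * c (k - i))
      + (-1 : R) ^ (k - 1) * c k = c k := by
    intro k hk
    have h0 : (∑ i ∈ Finset.range (k + 1), (-1 : R) ^ i * c i * c (k - i)) = 0 := by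
      have e : ∀ i ∈ Finset.range (k + 1), (-1 : R) ^ i * c i * c (k - i)
          = ((((-1 : ℤ) ^ i * (k.choose i : ℤ) : ℤ)) : R) * c k := by
        intro i hi
        rw [mul_assoc, hmul, Nat.add_sub_cancel' (Finset.mem_range_succ_iff.mp hi)]
        push_cast
        ring
      rw [Finset.sum_congr rfl e, ← Finset.sum_mul, ← Int.cast_sum,
        Int.alternating_sum_range_choose_of_ne (by omega), Int.cast_zero, zero_mul]
    rw [Finset.sum_range_succ, Finset.range_eq_Ico, Finset.sum_eq_sum_Ico_succ_bot (by omega : 0 < k),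
      Nat.sub_self, Nat.sub_zero] at h0
    have hc0 : c 0 = 1 := by simp [hc]
    have hneg : ∀ i, 1 ≤ i → (-1 : R) ^ i = -(-1 : R) ^ (i - 1) := by
      intro i hi
      conv_lhs => rw [← Nat.sub_add_cancel hi, pow_succ]
      ring
    have e : ∀ i ∈ Finset.Ico (0 + 1) k, (-1 : R) ^ i * c i * c (k - i) =
        -((-1 : R) ^ (i - 1) * c i * c (k - i)) := by
      intro i hi
      rw [hneg i (by simp at hi; omega)]; ring
    rw [Finset.sum_congr rfl e, Finset.sum_neg_distrib, hneg k hk, hc0] at h0
    linear_combination -h0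
  exact hS k (by omega)

end Groth.Agent.S15224
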