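import Groth.Statements.S15227
import Groth.Agent.VBCurves.Secant
-- import your own Groth.Agent.* helpers here

set_option autoImplicit false
open CategoryTheory CategoryTheory.Limits AlgebraicGeometry MonoidalCategory
open VBCurve

open Groth.VBCurves Groth.VBCurves.Secant
open scoped Groth.CurveBridge

namespace Groth.Agent.S15227

/-- Let X be a smooth proper integral curve over ℂ of genus g ≥ 3 which is non-hyperelliptic, K a module
isomorphic to its sheaf of differentials, and N an invertible module of degree g − 1 with H^0(N) =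
0, so that the complete linear system of K ⊗ N maps X to a projective space of dimension 2g − 3 as a
curve of degree 3g − 3. An effective divisor D of degree d, recorded through its invertible ideal
sheaf I ⊂ O_X (of degree −d), is a d-secant when its linear span has dimension d − 2, i.e. h^0(I ⊗ K
⊗ N) = h^0(K ⊗ N) − d + 1. Then there is no (g − 1)-secant: no invertible ideal I ⊂ O_X of degree 1
− g satisfies h^0(I ⊗ K ⊗ N) + (g − 2) = h^0(K ⊗ N). -/
theorem result
    (X : Scheme.{0}) [X.Over (Spec (CommRingCat.of ℂ))] [IsIntegral X]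
    [IsProper (X ↘ Spec (CommRingCat.of ℂ))] [Smooth (X ↘ Spec (CommRingCat.of ℂ))]
    (hdim : topologicalKrullDim X = 1) (hg : 2 ≤ Curv2.genus ℂ X)
    (hnh : ∀ M : X.Modules, PicF.IsInvertible M → Curv2.deg ℂ X M 1 = 2 →
      Module.finrank ℂ (Coh.HH X M 0) ≤ 1)
    (K : X.Modules) (eK : K ≅ Omega.sheaf (X ↘ Spec (CommRingCat.of ℂ)))
    (g : ℕ) (hg3 : 3 ≤ g) (hgen : Curv2.genus ℂ X = g)
    (N : X.Modules) (hN : PicF.IsInvertible N) (hdN : Curv2.deg ℂ X N 1 = (g : ℤ) - 1)
    (h0 : Module.finrank ℂ (Coh.HH X N 0) = 0) :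
    ¬ ∃ (I : X.Modules) (ι : I ⟶ Coh.structureModule X),
        PicF.IsInvertible I ∧ Mono ι ∧ Curv2.deg ℂ X I 1 = -((g : ℤ) - 1) ∧
        Module.finrank ℂ (Coh.HH X (CohB1.tensorMod I (CohB1.tensorMod K N)) 0) + (g - 2) =
          Module.finrank ℂ (Coh.HH X (CohB1.tensorMod K N) 0) := by
  have hc := IsVBCurve.of_smooth (X := X) ℂ hdim
  have hK := Groth.CurveBridge.isFunctionField (k := ℂ) (X := X) hdim
  have hreg := Groth.CurveBridge.isRegCurve_of_smooth ℂ X hdim
  obtain ⟨ω, hω⟩ := exists_isDualizing_of_smooth hdim hK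
  have hΩ := Groth.CurveBridge.isInvertible_omega (k := ℂ) (X := X) hK
  have hKi : PicF.IsInvertible K := Groth.LocFree.isInvertible_iff_ofRank_one.2
    (Groth.LocFree.isFinLocFreeOfRank_of_iso eK.symm (Groth.LocFree.isInvertible_iff_ofRank_one.1 hΩ))
  have hK1 := Groth.LocFree.isInvertible_iff_ofRank_one.1 hKi
  obtain ⟨hΩ0, -, hΩd⟩ := Groth.CurveBridge.omega_numerics (k := ℂ) (X := X) hreg
  have hK0 : Module.finrank ℂ (Coh.HH X K 0) = Curv2.genus ℂ X :=
    (Groth.EulerDeg.hEquiv ℂ eK 0).finrank_eq.trans hΩ0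
  have hKd : Curv2.deg ℂ X K 1 = 2 * (Curv2.genus ℂ X : ℤ) - 2 := by
    rw [dg_eq ℂ hK1, dg_eq_of_iso ℂ (Groth.LocFree.isFinLocFree_of_rank hK1) eK,
      ← dg_eq ℂ (Groth.LocFree.isInvertible_iff_ofRank_one.1 hΩ), hΩd]
  have hKN := h0_of_large hc hω (Groth.PicAux.isInvertible_tensorMod hKi hN)
    (by rw [Groth.EulerDeg.deg_tensor_invertible ℂ hc.dim.le hKi hN]; omega)
  rw [Groth.EulerDeg.deg_tensor_invertible ℂ hc.dim.le hKi hN, hKd, hdN, hgen] at hKN
  rintro ⟨I, ι, hI, hι, hdI, hcount⟩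
  obtain ⟨e⟩ := nonempty_tensor_iso hreg hK hc hKi hN hI hK0.ge hKd (by omega) (by omega)
  have hI0 : ι ≠ 0 := fun h0 => not_isZero_of_rank
    (Groth.LocFree.isInvertible_iff_ofRank_one.1 hI) one_pos
    ((IsZero.iff_id_eq_zero I).2 (by rw [← cancel_mono ι, h0]; simp))
  have := h0_pos_of_ideal (k := ℂ) hc hN e ι hI0
  omega

end Groth.Agent.S15227
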