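import Groth.Statements.S15228
import Groth.Agent.VBCurves.Secant
-- import your own Groth.Agent.* helpers here

set_option autoImplicit false
open CategoryTheory CategoryTheory.Limits AlgebraicGeometry MonoidalCategory
open VBCurve

open Groth.VBCurves Groth.VBCurves.Secant
open scoped Groth.CurveBridge

namespace Groth.Agent.S15228

/-- Let X be a smooth proper integral curve over ℂ of genus g ≥ 3 which is non-hyperelliptic, K a module
isomorphic to its sheaf of differentials, and N an invertible module of degree g with h^0(N) ≤ 1, so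
that the complete linear system of K ⊗ N maps X to a projective space of dimension 2g − 2 as a curve
of degree 3g − 2. An effective divisor D of degree d, recorded through its invertible ideal sheaf I
⊂ O_X (of degree −d), is a d-secant when its linear span has dimension d − 2, i.e. h^0(I ⊗ K ⊗ N) =
h^0(K ⊗ N) − d + 1. Then X has exactly one g-secant: some invertible ideal I ⊂ O_X of degree −g
satisfies h^0(I ⊗ K ⊗ N) + (g − 1) = h^0(K ⊗ N), and any two such ideals are equal as subobjects of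
O_X (an isomorphism between them commutes with the inclusions). -/
theorem result
    (X : Scheme.{0}) [X.Over (Spec (CommRingCat.of ℂ))] [IsIntegral X]
    [IsProper (X ↘ Spec (CommRingCat.of ℂ))] [Smooth (X ↘ Spec (CommRingCat.of ℂ))]
    (hdim : topologicalKrullDim X = 1) (hg : 2 ≤ Curv2.genus ℂ X)
    (hnh : ∀ M : X.Modules, PicF.IsInvertible M → Curv2.deg ℂ X M 1 = 2 →
      Module.finrank ℂ (Coh.HH X M 0) ≤ 1)
    (K : X.Modules) (eK : K ≅ Omega.sheaf (X ↘ Spec (CommRingCat.of ℂ)))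
    (g : ℕ) (hg3 : 3 ≤ g) (hgen : Curv2.genus ℂ X = g)
    (N : X.Modules) (hN : PicF.IsInvertible N) (hdN : Curv2.deg ℂ X N 1 = (g : ℤ))
    (h0 : Module.finrank ℂ (Coh.HH X N 0) ≤ 1) :
    (∃ (I : X.Modules) (ι : I ⟶ Coh.structureModule X),
        PicF.IsInvertible I ∧ Mono ι ∧ Curv2.deg ℂ X I 1 = -((g : ℤ)) ∧
        Module.finrank ℂ (Coh.HH X (CohB1.tensorMod I (CohB1.tensorMod K N)) 0) + (g - 1) =
          Module.finrank ℂ (Coh.HH X (CohB1.tensorMod K N) 0)) ∧
      ∀ (I I' : X.Modules) (ι : I ⟶ Coh.structureModule X) (ι' : I' ⟶ Coh.structureModule X),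
        (PicF.IsInvertible I ∧ Mono ι ∧ Curv2.deg ℂ X I 1 = -((g : ℤ)) ∧
        Module.finrank ℂ (Coh.HH X (CohB1.tensorMod I (CohB1.tensorMod K N)) 0) + (g - 1) =
          Module.finrank ℂ (Coh.HH X (CohB1.tensorMod K N) 0)) →
        (PicF.IsInvertible I' ∧ Mono ι' ∧ Curv2.deg ℂ X I' 1 = -((g : ℤ)) ∧
        Module.finrank ℂ (Coh.HH X (CohB1.tensorMod I' (CohB1.tensorMod K N)) 0) + (g - 1) =
          Module.finrank ℂ (Coh.HH X (CohB1.tensorMod K N) 0)) →
        ∃ φ : I' ≅ I, φ.hom ≫ ι = ι' := by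
  have hc := IsVBCurve.of_smooth (X := X) ℂ hdim
  have hK := Groth.CurveBridge.isFunctionField (k := ℂ) (X := X) hdim
  have hreg := Groth.CurveBridge.isRegCurve_of_smooth ℂ X hdim
  obtain ⟨ω, hω⟩ := exists_isDualizing_of_smooth hdim hK
  have hΩ := Groth.CurveBridge.isInvertible_omega (k := ℂ) (X := X) hK
  have hKi : PicF.IsInvertible K := Groth.LocFree.isInvertible_iff_ofRank_one.2
    (Groth.LocFree.isFinLocFreeOfRank_of_iso eK.symm (Groth.LocFree.isInvertible_iff_ofRank_one.1 hΩ))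
  have hK1 := Groth.LocFree.isInvertible_iff_ofRank_one.1 hKi
  obtain ⟨hΩ0, -, hΩd⟩ := Groth.CurveBridge.omega_numerics (k := ℂ) (X := X) hreg
  have hK0 : Module.finrank ℂ (Coh.HH X K 0) = Curv2.genus ℂ X :=
    (Groth.EulerDeg.hEquiv ℂ eK 0).finrank_eq.trans hΩ0
  have hKd : Curv2.deg ℂ X K 1 = 2 * (Curv2.genus ℂ X : ℤ) - 2 := by
    rw [dg_eq ℂ hK1, dg_eq_of_iso ℂ (Groth.LocFree.isFinLocFree_of_rank hK1) eK,
      ← dg_eq ℂ (Groth.LocFree.isInvertible_iff_ofRank_one.1 hΩ), hΩd]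
  have hKN := h0_of_large hc hω (Groth.PicAux.isInvertible_tensorMod hKi hN)
    (by rw [Groth.EulerDeg.deg_tensor_invertible ℂ hc.dim.le hKi hN]; omega)
  rw [Groth.EulerDeg.deg_tensor_invertible ℂ hc.dim.le hKi hN, hKd, hdN, hgen] at hKN
  have hRR := riemann_roch hc hω N
  have h1N : Module.finrank ℂ (Coh.HH X N 0) = 1 := by omega
  have hne : ∀ {J : X.Modules} (j : J ⟶ Coh.structureModule X), PicF.IsInvertible J → Mono j →
      j ≠ 0 := fun {J} j hJ hj h0 => not_isZero_of_rank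
    (Groth.LocFree.isInvertible_iff_ofRank_one.1 hJ) one_pos
    ((IsZero.iff_id_eq_zero J).2 (by rw [← cancel_mono j, h0]; simp))
  refine ⟨?_, fun I I' ι ι' ⟨hI, hm, hdI, hcI⟩ ⟨hI', hm', hdI', hcI'⟩ => ?_⟩
  · obtain ⟨I, hI, hinv⟩ := Groth.PicAux.exists_isInverseOf hN
    obtain ⟨u⟩ := id hinv
    let e := (Groth.PicAux.tensorMod_comm hI hN).some ≪≫ u
    have : Nontrivial (I ⟶ Coh.structureModule X) := Module.nontrivial_of_finrank_pos (R := ℂ)
      (by rw [finrank_hom_ideal hN e, h1N]; norm_num)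
    obtain ⟨ι, hι⟩ := exists_ne (0 : I ⟶ Coh.structureModule X)
    refine ⟨I, ι, hI, Groth.EulerDeg.mono_of_ne_zero hI
      (Groth.EulerDeg.isInvertible_structureModule X) hι, ?_, ?_⟩
    · rw [HomEuler.deg_inverse hc hN hI hinv, hdN]
    · have f : CohB1.tensorMod I (CohB1.tensorMod K N) ≅ K :=
        PicGrp.tensorModIso (Iso.refl I) (Groth.PicAux.tensorMod_comm hKi hN).some ≪≫
          (Groth.PicAux.tensorMod_assoc hI hN hKi).some.symm ≪≫
          PicGrp.tensorModIso e (Iso.refl K) ≪≫ (Groth.PicAux.tensorMod_one hKi).some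
      rw [(Groth.EulerDeg.hEquiv ℂ f 0).finrank_eq, hK0]
      omega
  · obtain ⟨e⟩ := nonempty_tensor_iso hreg hK hc hKi hN hI hK0.ge hKd (by omega) (by omega)
    obtain ⟨e'⟩ := nonempty_tensor_iso hreg hK hc hKi hN hI' hK0.ge hKd (by omega) (by omega)
    obtain ⟨N', hN', hinv⟩ := Groth.PicAux.exists_isInverseOf hN
    obtain ⟨v⟩ := id hinv
    have key : ∀ {J : X.Modules}, PicF.IsInvertible J →
        (CohB1.tensorMod J N ≅ Coh.structureModule X) → Nonempty (J ≅ N') := fun {J} hJ a =>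
      ⟨(SecTwist.unitorR J).symm ≪≫ PicGrp.tensorModIso (Iso.refl J) v.symm ≪≫
        (Groth.PicAux.tensorMod_assoc hJ hN hN').some.symm ≪≫
        PicGrp.tensorModIso a (Iso.refl N') ≪≫ (Groth.PicAux.tensorMod_one hN').some⟩
    obtain ⟨a⟩ := key hI e
    obtain ⟨a'⟩ := key hI' e'
    let ψ : I' ≅ I := a' ≪≫ a.symm
    have hf : Module.finrank ℂ (I' ⟶ Coh.structureModule X) = 1 :=
      (finrank_hom_ideal hN e').trans h1N
    have hι0 : ψ.hom ≫ ι ≠ 0 := fun h0 => hne ι hI hm (by rw [← cancel_epi ψ.hom, h0, comp_zero])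
    obtain ⟨c, hc'⟩ := (finrank_eq_one_iff_of_nonzero' _ hι0).1 hf ι'
    have hc0 : c ≠ 0 := fun h0 => hne ι' hI' hm' (by rw [← hc', h0, zero_smul])
    exact ⟨{ hom := c • ψ.hom
             inv := c⁻¹ • ψ.inv
             hom_inv_id := by simp [hc0]
             inv_hom_id := by simp [hc0] }, by rw [← hc', Linear.smul_comp]⟩

end Groth.Agent.S15228
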