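import Groth.Statements.S15229
import Mathlib.Tactic
-- import your own Groth.Agent.* helpers here

set_option autoImplicit false
open Finset
open W4c2rk2extmaps

namespace Groth.Agent.S15229

/-- In a commutative ℚ-algebra R let θ, η be elements and g a natural number, and put c_k = (4θ)^k / k!.
Suppose θ^(g+1) = 0 and that η satisfies the relation η^(g+1) = Σ_{i=1}^{g+1} (-1)^(i-1) c_i
η^(g+1-i). Then η^(g+k) θ^(g-k) = c_k η^g θ^(g-k) for every 1 ≤ k ≤ g. (The published statement
concerns the first Chern class η of the tautological line bundle on a projective bundle P(U) over a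
g-dimensional Jacobian, with c_k the Chern classes of U, which are (4θ)^k / k!; there θ^(g+1)
vanishes for dimension reasons and the displayed relation is the projective-bundle relation, and the
printed argument derives the identity from exactly these three inputs, which is the form stated
here.) -/
theorem result (R : Type*) [CommRing R] [Algebra ℚ R]
    (θ η : R) (g : ℕ) (c : ℕ → R) (hc : ∀ k : ℕ, c k = ((Nat.factorial k : ℚ)⁻¹) • ((4 : R) * θ) ^ k)
    (hθ : θ ^ (g + 1) = 0)
    (hrel : η ^ (g + 1) = ∑ i ∈ Finset.Ico 1 (g + 2), (-1 : R) ^ (i - 1) * c i * η ^ (g + 1 - i))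
    (k : ℕ) (hk1 : 1 ≤ k) (hkg : k ≤ g) :
    η ^ (g + k) * θ ^ (g - k) = c k * η ^ g * θ ^ (g - k) := by
  have hmul : ∀ i j : ℕ, c i * c j = ((i + j).choose i : R) * c (i + j) := by
    intro i j
    have hq : (i.factorial : ℚ)⁻¹ * (j.factorial : ℚ)⁻¹ =
        ((i + j).choose i : ℚ) * ((i + j).factorial : ℚ)⁻¹ := by
      rw [Nat.cast_choose ℚ (Nat.le_add_right i j), Nat.add_sub_cancel_left]
      have h3 : ((i + j).factorial : ℚ) ≠ 0 := by exact_mod_cast (i + j).factorial_ne_zero
      field_simp
    rw [hc, hc, hc, smul_mul_smul_comm, ← pow_add, hq, mul_smul, Nat.cast_smul_eq_nsmul,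
      nsmul_eq_mul]
  have hS : ∀ k : ℕ, 1 ≤ k → (∑ i ∈ Finset.Ico 1 k, (-1 : R) ^ (i - 1) * c i * c (k - i))
      + (-1 : R) ^ (k - 1) * c k = c k := by
    intro k hk
    have h0 : (∑ i ∈ Finset.range (k + 1), (-1 : R) ^ i * c i * c (k - i)) = 0 := by
      have e : ∀ i ∈ Finset.range (k + 1), (-1 : R) ^ i * c i * c (k - i)
          = ((((-1 : ℤ) ^ i * (k.choose i : ℤ) : ℤ)) : R) * c k := by
        intro i hi
        rw [mul_assoc, hmul, Nat.add_sub_cancel' (Finset.mem_range_succ_iff.mp hi)]
        push_cast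
        ring
      rw [Finset.sum_congr rfl e, ← Finset.sum_mul, ← Int.cast_sum,
        Int.alternating_sum_range_choose_of_ne (by omega), Int.cast_zero, zero_mul]
    rw [Finset.sum_range_succ, Finset.range_eq_Ico, Finset.sum_eq_sum_Ico_succ_bot (by omega : 0 < k),
      Nat.sub_self, Nat.sub_zero] at h0
    have hc0 : c 0 = 1 := by simp [hc]
    have hneg : ∀ i, 1 ≤ i → (-1 : R) ^ i = -(-1 : R) ^ (i - 1) := by
      intro i hi
      conv_lhs => rw [← Nat.sub_add_cancel hi, pow_succ]
      ring
    have e : ∀ i ∈ Finset.Ico (0 + 1) k, (-1 : R) ^ i * c i * c (k - i) =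
        -((-1 : R) ^ (i - 1) * c i * c (k - i)) := by
      intro i hi
      rw [hneg i (by simp at hi; omega)]; ring
    rw [Finset.sum_congr rfl e, Finset.sum_neg_distrib, hneg k hk, hc0] at h0
    linear_combination -h0
  induction k using Nat.strong_induction_on with
  | _ k ih =>
  have hzero : ∀ i, k < i → c i * θ ^ (g - k) = 0 := by
    intro i hi
    have : θ ^ (i + (g - k)) = 0 := by
      rw [show i + (g - k) = (g + 1) + (i - k - 1) by omega, pow_add, hθ, zero_mul]
    rw [hc, smul_mul_assoc, mul_pow, mul_assoc, ← pow_add, this, mul_zero, smul_zero]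
  have hexp : η ^ (g + k) * θ ^ (g - k) =
      ∑ i ∈ Finset.Ico 1 (g + 2), (-1 : R) ^ (i - 1) * c i * (η ^ (g + k - i) * θ ^ (g - k)) := by
    rw [show g + k = (k - 1) + (g + 1) by omega, pow_add, hrel, Finset.mul_sum, Finset.sum_mul]
    refine Finset.sum_congr rfl fun i hi => ?_
    simp only [Finset.mem_Ico] at hi
    rw [show k - 1 + (g + 1) - i = (k - 1) + (g + 1 - i) by omega, pow_add]
    ring
  rw [hexp, ← Finset.sum_Ico_consecutive _ (by omega : 1 ≤ k + 1) (by omega : k + 1 ≤ g + 2)]
  have htail : ∑ i ∈ Finset.Ico (k + 1) (g + 2),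
      (-1 : R) ^ (i - 1) * c i * (η ^ (g + k - i) * θ ^ (g - k)) = 0 := by
    refine Finset.sum_eq_zero fun i hi => ?_
    simp only [Finset.mem_Ico] at hi
    linear_combination ((-1 : R) ^ (i - 1) * η ^ (g + k - i)) * hzero i (by omega)
  rw [htail, add_zero, Finset.sum_Ico_succ_top hk1]
  have hhead : ∀ i ∈ Finset.Ico 1 k, (-1 : R) ^ (i - 1) * c i * (η ^ (g + k - i) * θ ^ (g - k)) =
      (-1 : R) ^ (i - 1) * c i * c (k - i) * (η ^ g * θ ^ (g - k)) := by
    intro i hi
    simp only [Finset.mem_Ico] at hi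
    have hi' := ih (k - i) (by omega) (by omega) (by omega)
    rw [show g + (k - i) = g + k - i by omega, show g - (k - i) = (g - k) + i by omega, pow_add] at hi'
    set a : R := ((Nat.factorial i : ℚ)⁻¹) • (4 : R) ^ i with ha
    have hci : c i = a * θ ^ i := by rw [hc, ha, smul_mul_assoc, mul_pow]
    rw [hci]
    linear_combination ((-1 : R) ^ (i - 1) * a) * hi'
  rw [Finset.sum_congr rfl hhead, ← Finset.sum_mul, show g + k - k = g by omega, ← add_mul,
    hS k hk1]
  ring

end Groth.Agent.S15229
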