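import Groth.Statements.S15231
import Groth.Agent.DAlg.Nilpotent


set_option autoImplicit false
universe u
open CategoryTheory CategoryTheory.Limits
attribute [local instance] HasDerivedCategory.standard
open DRing

namespace Groth.Agent.S15231

/-- Let R be a Noetherian local commutative ring with residue field κ, let P be any object of D(R) and
a, b integers. Suppose that H^i(P ⊗^L_R κ) = 0 for every i outside [a, b] (over the field κ this
says exactly that P ⊗^L_R κ has tor amplitude in [a, b] as an object of D(κ)). Then for every
R-module N of finite length, H^i(P ⊗^L_R N) = 0 for every i outside [a, b]. The derived base change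
to κ and the derived tensor products with R-modules are the total left derived functors on D(R),
assumed to exist for every R-module (as they do). -/
theorem result (R : Type u) [CommRing R] [IsNoetherianRing R]
    [IsLocalRing R] [DRing.HasLBaseChange (IsLocalRing.residue R)] [∀ M : ModuleCat.{u} R, DRing.HasLTensor R M]
    (P : Dual.D R) (a b : ℤ)
    (h : ∀ i : ℤ, (i < a ∨ b < i) →
      Subsingleton (Dual.HD (IsLocalRing.ResidueField R) ((DRing.LBaseChange (IsLocalRing.residue R)).obj P) i))
    (N : Type u) [AddCommGroup N] [Module R N] (hN : IsFiniteLength R N) (i : ℤ) (hi : i < a ∨ b < i) :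
    Subsingleton (Dual.HD R ((DRing.LTensor R (ModuleCat.of R N)).obj P) i) := by
  obtain ⟨P₀, hP₀, hfree, ⟨e⟩⟩ := DAlg.exists_kProjective_rep P
  have := hP₀
  have : ∀ j, Module.Flat R (P₀.X j) := fun j => have := hfree j; inferInstance
  suffices IsZero ((DRing.tensorCx P₀ (ModuleCat.of R N)).homology i) by
    have := DAlg.subsingleton_HD_toD this
    exact (DAlg.HDCongr ((DRing.LTensor R (ModuleCat.of R N)).mapIso e.symm ≪≫
      DAlg.lTensorIso (ModuleCat.of R N) P₀) i).toEquiv.subsingleton
  have hκ : IsZero ((DRing.tensorCx P₀ (ModuleCat.of R (IsLocalRing.ResidueField R))).homology i) := by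
    refine (DAlg.isZero_extCx_iff (S := IsLocalRing.ResidueField R) P₀ i).1 (DAlg.isZero_homology_of_subsingleton ?_)
    have := h i hi
    exact (DAlg.HDCongr ((DRing.LBaseChange (IsLocalRing.residue R)).mapIso e.symm ≪≫
      DAlg.lBaseChangeIso (IsLocalRing.residue R) P₀) i).symm.toEquiv.subsingleton
  induction hN with
  | of_subsingleton => exact DAlg.isZero_tensor_of_subsingleton P₀ i _
  | @of_simple_quotient M _ _ N hs _ ih =>
    refine DAlg.isZero_tensor_ext P₀ i N.subtype N.mkQ Subtype.val_injective (LinearMap.exact_subtype_mkQ N)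
      N.mkQ_surjective ih ?_
    obtain ⟨m, hm, ⟨f⟩⟩ := isSimpleModule_iff_quot_maximal.1 hs
    obtain rfl := IsLocalRing.eq_maximalIdeal hm
    exact DAlg.isZero_tensor_of_linearEquiv P₀ i f.symm hκ

end Groth.Agent.S15231
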