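import Groth.Statements.S15232
import Groth.Agent.DAlg.Fibre


set_option autoImplicit false
universe u
open CategoryTheory CategoryTheory.Limits
attribute [local instance] HasDerivedCategory.standard
open DRing

namespace Groth.Agent.S15232

/-- Let R be a Noetherian commutative ring and I an ideal contained in the Jacobson radical of R, and
assume the derived base change D(R) → D(R/I) exists. Let P be a pseudo-coherent object of D(R) and
a, b integers. If P ⊗^L_R R/I has tor amplitude in [a, b] as an object of D(R/I), then P has tor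
amplitude in [a, b] as an object of D(R). Tor amplitude is taken in the flat-representative form
(isomorphic in the derived category to a complex of flat modules vanishing outside [a, b]). -/
theorem result (R : Type u) [CommRing R] [IsNoetherianRing R]
    (I : Ideal R) (hI : I ≤ Ideal.jacobson (⊥ : Ideal R)) [DRing.HasLBaseChange (Ideal.Quotient.mk I)]
    (P : Dual.D R) (hP : DRing.IsPseudoCoherent' R P) (a b : ℤ)
    (h : DRing.HasTorAmplitudeIn (R ⧸ I) a b ((DRing.LBaseChange (Ideal.Quotient.mk I)).obj P)) :
    DRing.HasTorAmplitudeIn R a b P := by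
  obtain ⟨F, B, hB, hF, ⟨e⟩⟩ := hP
  have hFP : DRing.TermwiseFiniteProjective F := fun i => ⟨(hF i).1, have := (hF i).2; inferInstance⟩
  have hfin : ∀ i, Module.Finite R (F.X i) := fun i => (hF i).1
  have hproj : ∀ i, Module.Projective R (F.X i) := fun i => (hFP i).2
  have := DAlg.isKProjective_of_bounded hB hproj
  let E := DAlg.extCx (algebraMap R (R ⧸ I)) F
  have hEP : DRing.TermwiseFiniteProjective E := fun i => ⟨DAlg.finite_extCx_X F i, DAlg.projective_extCx_X F i⟩
  have hEb : DRing.VanishesAbove E B := fun i hi =>
    (ModuleCat.extendScalars (algebraMap R (R ⧸ I))).map_isZero (hB i hi)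
  have hEf : DRing.TermwiseFlat E := fun i => have := (hEP i).2; inferInstance
  have hz := DAlg.isZero_of_torAmplitude E hEb hEf (DAlg.TorAmp.of_iso h
    ((DRing.LBaseChange (Ideal.Quotient.mk I)).mapIso e.symm ≪≫ DAlg.lBaseChangeIso (Ideal.Quotient.mk I) F))
  refine DAlg.torAmp_of_forall_tensor F hB (fun i => have := hproj i; inferInstance) e fun M j hj => ?_
  refine DAlg.isZero_tensor_of_forall_maximal F hFP j (fun m hm => ?_) M
  have : ∀ i, Module.Flat (R ⧸ I) (E.X i) := hEf
  have : Module.Flat (R ⧸ I) (FlatCxBase.Coker E j (j + 1)) := by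
    have h1 := DAlg.flat_coker_of_isZero E (j + 1) fun M => hz M _ (by omega)
    rwa [add_sub_cancel_right] at h1
  have := DAlg.projective_coker_of_flat hEP j (j + 1)
  obtain ⟨r, hr⟩ := DAlg.exists_retraction_mod (S := R ⧸ I) F (i := j - 1) Ideal.Quotient.mk_surjective
    (by omega) (rfl : j + 1 = j + 1) (DAlg.isZero_homology_of_tensor fun M => hz M j hj)
  refine ⟨r, fun x => Submodule.smul_mono_left ?_ (hr x)⟩
  rw [show algebraMap R (R ⧸ I) = Ideal.Quotient.mk I from rfl, Ideal.mk_ker]
  exact hI.trans (sInf_le ⟨bot_le, hm⟩)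

end Groth.Agent.S15232
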