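import Groth.Statements.S15247
import Groth.Agent.VectorBundles.HilbertLower

set_option autoImplicit false
open Fano

namespace Groth.Agent.S15247

/-- Over ℂ, let Y be an irreducible closed subscheme of projective m-space of dimension m − d, where 1 ≤
d and d + 1 ≤ m. Then the hypersurfaces of degree d + 1 containing Y form a linear family of
codimension at least m + 1 (that is, greater than m) in the projective space of all hypersurfaces of
degree d + 1. Here Y is given by a homogeneous ideal I of ℂ[x_0, …, x_m] whose radical is prime and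
with dim ℂ[x_0, …, x_m]/I = m + 1 − d, a hypersurface contains Y when its form lies in I, and the
conclusion reads: the forms of degree d + 1 in I span a subspace of codimension at least m + 1 in
the space of all forms of degree d + 1. -/
theorem result (m d : ℕ) (hd : 1 ≤ d) (hdm : d + 1 ≤ m)
    (I : Ideal (MvPolynomial (Fin (m + 1)) ℂ))
    (hI : I.IsHomogeneous (CohB1.polyGrading m ℂ))
    (hirr : I.radical.IsPrime)
    (hdim : ringKrullDim (MvPolynomial (Fin (m + 1)) ℂ ⧸ I) = ((m + 1 - d : ℕ) : WithBot ℕ∞)) :
    m + 1 + Module.finrank ℂ ↥(CohB1.polyGrading m ℂ (d + 1) ⊓ Submodule.restrictScalars ℂ I)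
      ≤ Module.finrank ℂ (LefPen.Form m ℂ (d + 1)) := by
  have : Ideal.IsPrime I.radical := hirr
  have h1 : ringKrullDim (MvPolynomial (Fin (m + 1)) ℂ ⧸ I.radical) =
      ((m - d + 1 : ℕ) : WithBot ℕ∞) := by
    rw [show m - d + 1 = m + 1 - d by omega, ← hdim, ringKrullDim_quotient, ringKrullDim_quotient,
      PrimeSpectrum.zeroLocus_radical]
  have h2 := Groth.VectorBundles.finrank_add_le_of_isPrime m (m - d) (d + 1) I.radical h1
  have h3 : Module.finrank ℂ ↥(CohB1.polyGrading m ℂ (d + 1) ⊓ Submodule.restrictScalars ℂ I) ≤
      Module.finrank ℂ ↥(CohB1.polyGrading m ℂ (d + 1) ⊓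
        Submodule.restrictScalars ℂ I.radical) := by
    have : FiniteDimensional ℂ ↥(CohB1.polyGrading m ℂ (d + 1) ⊓
        Submodule.restrictScalars ℂ I.radical) :=
      Module.Finite.of_injective (Submodule.inclusion (inf_le_left :
        _ ≤ CohB1.polyGrading m ℂ (d + 1))) (Submodule.inclusion_injective _)
    exact Submodule.finrank_mono (inf_le_inf_left _ fun x hx => Ideal.le_radical hx)
  have h4 : m + 1 ≤ (m + 1).choose (d + 1) :=
    Groth.VectorBundles.le_choose_of_pos_of_lt _ _ (by omega) (by omega)
  rw [show m - d + (d + 1) = m + 1 by omega] at h2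
  omega

end Groth.Agent.S15247
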