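import Groth.Statements.S15248
import Groth.Agent.Misc6.CodimFun

set_option autoImplicit false
open Fano

namespace Groth.Agent.S15248

open MvPolynomial Groth.Misc6 Groth.Misc6.ConeDim Groth.Misc6.SeqCodim in
/-- Coordinates on the space of tuples of forms. -/
noncomputable def coords (m d : ℕ) :
    ((j : Fin d) → LefPen.Form m ℂ (j.1 + 1)) ≃ₗ[ℂ] (Coord m (fun j : Fin d => j.1 + 1) → ℂ) where
  toFun G v := coeff v.2.1 (G v.1).1
  map_add' G H := by funext v; simp
  map_smul' t G := by funext v; simp
  invFun x j := ⟨G x j, isHomogeneous_G x j⟩
  left_inv G := funext fun j => Subtype.ext (formOf_coeff (G j).2)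
  right_inv x := funext fun v => coeff_formOf _ v.2

/-- Over ℂ, let m and d be integers with 1 ≤ d ≤ m − 2, and consider sequences (X_1, …, X_d) of
hypersurfaces of projective m-space with X_j of degree j. The sequences whose intersection X_1 ∩ ⋯ ∩
X_d has dimension greater than m − d form a locus of codimension greater than m in the product of
the projective spaces of hypersurfaces of degrees 1, …, d. Here a sequence is a point G of the
affine space of tuples of forms in the m + 1 homogeneous coordinates with G_j of degree j (zero
forms allowed), the dimension condition reads dim ℂ[x_0, …, x_m]/(G_1, …, G_d) ≥ m + 2 − d, and the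
conclusion is that this locus has codimension at least m + 1 in that affine space (the ideal of
polynomial functions vanishing on it has height at least m + 1). The tuples with some G_j = 0 belong
to the locus and form a closed subset of codimension exactly m + 1, and away from them the locus is
the inverse image of the projective one, so this affine form carries the same content as the
projective one. -/
theorem result (m d : ℕ) (hd : 1 ≤ d) (hdm : d + 2 ≤ m) :
    LefPen.CodimGE ℂ
      {G : (j : Fin d) → LefPen.Form m ℂ (j.1 + 1) |
        ((m + 2 - d : ℕ) : WithBot ℕ∞) ≤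
          ringKrullDim (MvPolynomial (Fin (m + 1)) ℂ ⧸
            Ideal.span (Set.range fun j : Fin d => (G j).1))}
      (m + 1) := by
  open MvPolynomial Groth.Misc6 Groth.Misc6.ConeDim Groth.Misc6.SeqCodim in
  refine CodimFun.codimGE_of (coords m d) _ (m + 1) fun Q hQ hvan => ?_
  refine SeqCodim.ringKrullDim_add_le (by omega) (m + 1) (fun j => ?_) Q fun x hx hgood => ?_
  · show m + 1 ≤ Nat.choose (m + 1 - j.1 + (j.1 + 1) - 1) (j.1 + 1)
    rw [show m + 1 - j.1 + (j.1 + 1) - 1 = m + 1 by have := j.2; omega]
    exact Groth.Misc6.SeqCodim.succ_le_choose (by omega) (by have := j.2; omega)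
  · obtain ⟨f, hf, hf'⟩ := Groth.Misc6.SeqCodim.exists_sep d x hgood
    refine hf (hx f (hvan f fun v hv => hf' _ fun hg => ?_))
    have h := (Groth.Misc6.SeqCodim.good_iff _ d).1 hg
    have heq : (Set.range fun j : {j : Fin d // j.1 < d} => Groth.Misc6.SeqCodim.G (coords m d v) j.1) =
        Set.range fun j : Fin d => (v j).1 := by
      have : ∀ j : Fin d, Groth.Misc6.SeqCodim.G (coords m d v) j = (v j).1 := fun j =>
        congrArg Subtype.val (congrFun ((coords m d).left_inv v) j)
      ext y
      exact ⟨fun ⟨j, hj⟩ => ⟨j.1, (this j.1).symm.trans hj⟩,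
        fun ⟨j, hj⟩ => ⟨⟨j, j.2⟩, (this j).trans hj⟩⟩
    rw [heq] at h
    have h2 := hv.trans h
    norm_cast at h2
    omega

end Groth.Agent.S15248
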