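import Groth.Statements.S15251
import Groth.Agent.AlgStBasic.AtlasOfBase
import Groth.Agent.AlgSpBasic.LocPInst

set_option autoImplicit false
set_option backward.isDefEq.respectTransparency false
set_option backward.isDefEq.respectTransparency.types false
open CategoryTheory AlgebraicGeometry
universe u
open AlgSt

namespace Groth.Agent.S15251

/-- Let S be a scheme and f : 𝒳 → 𝒴 a 1-morphism of stacks in groupoids over the category of schemes
over S. If 𝒴 is a Deligne–Mumford stack and for every scheme U over S and every 1-morphism g : U → 𝒴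
the 2-fibre product U ×_𝒴 𝒳 is a Deligne–Mumford stack, then 𝒳 is a Deligne–Mumford stack. All
stacks here are for the étale topology on schemes over S; an algebraic stack is a stack in groupoids
whose diagonal is representable by algebraic spaces and which has a smooth surjective atlas from a
scheme, and a Deligne–Mumford stack is an algebraic stack with an étale surjective atlas from a
scheme. (The published statement asks the fibre-product condition only for affine schemes U and uses
Deligne–Mumford stacks whose diagonal is moreover separated and quasi-compact; this row asks the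
condition for every scheme U over S and uses Deligne–Mumford stacks with no condition on the
diagonal beyond representability by algebraic spaces.) -/
theorem result {S : Scheme.{u}} {𝒳 𝒴 : AlgSt.Cat S}
    (h𝒳 : Stk.IsStack (QuotSh.J Scheme.etalePrecoverage S) 𝒳)
    (h𝒴 : AlgSt.IsDM Scheme.etalePrecoverage 𝒴) (f : 𝒳 ⥤ᵇ 𝒴)
    (hf : ∀ (U : Over S) (g : FibCat.overCat U ⥤ᵇ 𝒴),
      AlgSt.IsDM Scheme.etalePrecoverage (FibCat.fp g f)) :
    AlgSt.IsDM Scheme.etalePrecoverage 𝒳 := by
  obtain ⟨U, u, hu, hus⟩ := (Groth.AlgStBasic.hasAtlas_isEtaleMor_iff 𝒴).1 h𝒴.2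
  have h := Groth.AlgStBasic.hasAtlas_of_fp_atlas
    (Groth.StkBase.isFibGrpd_overCat U) h𝒳.1 h𝒴.1.isStack.1 u hu hus f
    ((Groth.AlgStBasic.hasAtlas_isEtaleMor_iff _).1 (hf U u).2)
  obtain ⟨U₀, u₀, hu₀, hus₀⟩ := h𝒴.1.atlas
  exact ⟨Groth.AlgStBasic.isAlgStack_etale_of_hasAtlas h𝒳 (Groth.AlgStBasic.hasAtlas_of_fp_atlas
    (Groth.StkBase.isFibGrpd_overCat U₀) h𝒳.1 h𝒴.1.isStack.1 u₀ hu₀ hus₀ f (hf U₀ u₀).1.atlas),
    (Groth.AlgStBasic.hasAtlas_isEtaleMor_iff _).2 h⟩

end Groth.Agent.S15251
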