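import Groth.Statements.S15252
import Groth.Agent.S14372
import Mathlib.LinearAlgebra.Dimension.Finite
import Mathlib.LinearAlgebra.FiniteDimensional.Lemmas
import Mathlib.Algebra.Polynomial.Roots
import Mathlib.Analysis.Complex.Polynomial.Basic

set_option autoImplicit false
open Fano

namespace Groth.Agent.S15252

open MvPolynomial

theorem eval_smul_of_isHomogeneous {σ R : Type*} [CommRing R] {f : MvPolynomial σ R} {d : ℕ}
    (hf : f.IsHomogeneous d) (c : R) (x : σ → R) : eval (c • x) f = c ^ d * eval x f := by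
  classical
  rw [eval_eq, eval_eq, Finset.mul_sum]
  refine Finset.sum_congr rfl fun e he => ?_
  have hdeg : ∑ i ∈ e.support, e i = d := by
    simpa [Finsupp.weight_apply, Finsupp.sum] using hf (mem_support_iff.1 he)
  simp only [Pi.smul_apply, smul_eq_mul, mul_pow, Finset.prod_mul_distrib,
    Finset.prod_pow_eq_pow_sum, hdeg]
  ring

/-- The zeros of a form on an affine line whose point at infinity is not a zero are finite. -/
theorem finite_setOf_eval_eq_zero {σ : Type*} {f : MvPolynomial σ ℂ} {d : ℕ}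
    (hf : f.IsHomogeneous d) (v w : σ → ℂ) (hv : eval v f ≠ 0) :
    {t : ℂ | eval (t • v + w) f = 0}.Finite := by
  let P : (σ → ℂ) → (σ → ℂ) → Polynomial ℂ := fun a b =>
    MvPolynomial.aeval (fun i => Polynomial.C (b i) + Polynomial.C (a i) * Polynomial.X) f
  have hP : ∀ a b (t : ℂ), (P a b).eval t = eval (t • a + b) f := by
    intro a b t
    simp only [P]
    rw [← Polynomial.coe_aeval_eq_eval, comp_aeval_apply, aeval_eq_eval]
    congr 2
    funext i
    simp
    ring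
  by_cases h0 : P v w = 0
  · exfalso
    have hz : P w v = 0 := by
      apply Polynomial.eq_zero_of_infinite_isRoot
      refine ((Set.finite_singleton (0 : ℂ)).infinite_compl).mono fun s hs => ?_
      have hs' : s ≠ 0 := hs
      change (P w v).eval s = 0
      rw [hP]
      have := hP v w s⁻¹
      rw [h0, Polynomial.eval_zero] at this
      have hsw : s • w + v = s • (s⁻¹ • v + w) := by
        rw [smul_add, smul_inv_smul₀ hs', add_comm]
      rw [hsw, eval_smul_of_isHomogeneous hf, ← this, mul_zero]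
    have := hP w v 0
    rw [hz, Polynomial.eval_zero, zero_smul, zero_add] at this
    exact hv this.symm
  · exact (Polynomial.finite_setOfPred_isRoot h0).subset fun t ht => (hP v w t).trans ht

/-- Let X be a smooth cubic hypersurface in projective 4-space over ℂ and let L₁, L₂ be two distinct
lines on X which meet. Then there is a finite set G of points of L₁ such that every line on X
meeting both L₁ and L₂ passes through a point of G. Here X is given by a cubic form f in five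
variables satisfying the Jacobian smoothness condition at every nonzero zero, a line on X is a
2-dimensional subspace of ℂ^5 on which f vanishes, two lines meet when the subspaces intersect
non-trivially, and a point of L₁ is a 1-dimensional subspace of it. (The published statement also
covers two disjoint lines; this row assumes that L₁ and L₂ meet.) -/
theorem result
    (f : MvPolynomial (Fin 5) ℂ) (hf : f.IsHomogeneous 3)
    (hsm : ∀ u : Fin 5 → ℂ, u ≠ 0 → MvPolynomial.eval u f = 0 →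
      ∃ i : Fin 5, MvPolynomial.eval u (MvPolynomial.pderiv i f) ≠ 0)
    (L₁ L₂ : Submodule ℂ (Fin 5 → ℂ)) (h₁ : Module.finrank ℂ ↥L₁ = 2) (h₂ : Module.finrank ℂ ↥L₂ = 2)
    (hf₁ : ∀ u ∈ L₁, MvPolynomial.eval u f = 0) (hf₂ : ∀ u ∈ L₂, MvPolynomial.eval u f = 0)
    (hne : L₁ ≠ L₂) (hmeet : L₁ ⊓ L₂ ≠ ⊥) :
    ∃ G : Set (Submodule ℂ (Fin 5 → ℂ)), G.Finite ∧ (∀ g ∈ G, Module.finrank ℂ ↥g = 1 ∧ g ≤ L₁) ∧
      ∀ L : Submodule ℂ (Fin 5 → ℂ), Module.finrank ℂ ↥L = 2 → (∀ u ∈ L, MvPolynomial.eval u f = 0) →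
        L ⊓ L₁ ≠ ⊥ → L ⊓ L₂ ≠ ⊥ → ∃ g ∈ G, g ≤ L := by
  classical
  have hg₀ : Module.finrank ℂ ↥(L₁ ⊓ L₂) = 1 := by
    have h3 : Module.finrank ℂ ↥(L₁ ⊓ L₂) ≠ 2 := fun h => by
      have e1 := Submodule.eq_of_le_of_finrank_eq (inf_le_left : L₁ ⊓ L₂ ≤ L₁) (h.trans h₁.symm)
      have e2 := Submodule.eq_of_le_of_finrank_eq (inf_le_right : L₁ ⊓ L₂ ≤ L₂) (h.trans h₂.symm)
      exact hne (e1.symm.trans e2)
    have h4 : Module.finrank ℂ ↥(L₁ ⊓ L₂) ≠ 0 := fun h =>
      hmeet (Submodule.finrank_eq_zero.1 h)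
    have h5 := Submodule.finrank_mono (inf_le_left : L₁ ⊓ L₂ ≤ L₁)
    omega
  set P := L₁ ⊔ L₂ with hP
  have hP3 : Module.finrank ℂ ↥P = 3 := by
    have := Submodule.finrank_sup_add_finrank_inf_eq L₁ L₂
    rw [hP]
    omega
  obtain ⟨v, hvP, hv⟩ : ∃ v ∈ P, eval v f ≠ 0 := by
    by_contra hc
    push Not at hc
    have := Groth.Agent.S14372.result ℂ 4 3 (by norm_num) f hf P hc
      (fun u hu hu0 => hsm u hu0 (hc u hu))
    exact absurd ((congrArg (2 * ·) hP3).ge.trans this) (by norm_num)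
  have hv0 : v ≠ 0 := by
    rintro rfl
    apply hv
    have := eval_smul_of_isHomogeneous hf 0 (0 : Fin 5 → ℂ)
    simpa using this
  let Zpts : (Fin 5 → ℂ) → Set (Submodule ℂ (Fin 5 → ℂ)) := fun w =>
    (fun t : ℂ => Submodule.span ℂ {t • v + w}) '' {t : ℂ | eval (t • v + w) f = 0}
  let b := Module.finBasisOfFinrankEq ℂ ↥P hP3
  obtain ⟨i₀, hi₀⟩ : ∃ i, b.repr ⟨v, hvP⟩ i ≠ 0 := by
    by_contra hc
    push Not at hc
    have : (⟨v, hvP⟩ : ↥P) = 0 := b.repr.injective (by rw [map_zero]; ext i; exact hc i)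
    exact hv0 (congrArg Subtype.val this)
  set w₁ := b (i₀ + 1) with hw₁
  set w₂ := b (i₀ + 2) with hw₂
  have hi : i₀ + 1 ≠ i₀ ∧ i₀ + 2 ≠ i₀ ∧ i₀ + 2 ≠ i₀ + 1 :=
    (by decide : ∀ i : Fin 3, i + 1 ≠ i ∧ i + 2 ≠ i ∧ i + 2 ≠ i + 1) i₀
  let M : ↥P → Submodule ℂ (Fin 5 → ℂ) := fun w => Submodule.span ℂ {v, (w : Fin 5 → ℂ)}
  have hcoef : ∀ (a c : ℂ) (i : Fin 3), i₀ ≠ i → a • v + c • (b i : Fin 5 → ℂ) = 0 →
      a = 0 ∧ c = 0 := by
    intro a c i hne' h
    have h' : a • (⟨v, hvP⟩ : ↥P) + c • b i = 0 := Subtype.ext h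
    have hr := congrArg (fun z => b.repr z i₀) h'
    simp only [map_add, map_smul, map_zero, Finsupp.add_apply, Finsupp.smul_apply, b.repr_self,
      Finsupp.single_eq_of_ne hne', smul_eq_mul, mul_zero, add_zero, Finsupp.coe_zero,
      Pi.zero_apply, mul_eq_zero, hi₀, or_false] at hr
    subst hr
    simp only [zero_smul, zero_add, smul_eq_zero] at h'
    exact ⟨rfl, h'.resolve_right (b.ne_zero i)⟩
  have hpoint : ∀ L : Submodule ℂ (Fin 5 → ℂ), L ≤ P → Module.finrank ℂ ↥L = 2 →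
      (∀ u ∈ L, eval u f = 0) → ∀ i, i₀ ≠ i →
      ∃ g ∈ Zpts (b i), g ≤ L ∧ g ≤ M (b i) := by
    intro L hLP hL hfL i hne'
    have hM : Module.finrank ℂ ↥(M (b i)) = 2 := by
      have hli : LinearIndependent ℂ ![v, (b i : Fin 5 → ℂ)] :=
        LinearIndependent.pair_iff.2 fun a c h => hcoef a c i hne' h
      have := finrank_span_eq_card hli
      rw [Matrix.range_cons, Matrix.range_cons, Matrix.range_empty, Set.union_empty,
        Set.singleton_union, Fintype.card_fin] at this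
      exact this
    have hMP : M (b i) ≤ P := Submodule.span_le.2 (by
      rintro x (rfl | rfl)
      · exact hvP
      · exact Submodule.coe_mem _)
    have hne0 : L ⊓ M (b i) ≠ ⊥ := by
      intro h
      have e := Submodule.finrank_sup_add_finrank_inf_eq L (M (b i))
      rw [h, finrank_bot] at e
      have := Submodule.finrank_mono (sup_le hLP hMP)
      omega
    obtain ⟨x, hx, hx0⟩ := Submodule.exists_mem_ne_zero_of_ne_bot hne0
    obtain ⟨a, c, hac⟩ := Submodule.mem_span_pair.1 hx.2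
    have hc : c ≠ 0 := by
      rintro rfl
      rw [zero_smul, add_zero] at hac
      subst hac
      have ha : a ≠ 0 := fun ha => hx0 (by rw [ha, zero_smul])
      have := hfL _ hx.1
      rw [eval_smul_of_isHomogeneous hf] at this
      exact hv ((mul_eq_zero.1 this).resolve_left (pow_ne_zero _ ha))
    have hmem : (c⁻¹ * a) • v + (b i : Fin 5 → ℂ) = c⁻¹ • x := by
      rw [← hac, smul_add, smul_smul, inv_smul_smul₀ hc]
    refine ⟨_, ⟨c⁻¹ * a, ?_, rfl⟩, ?_, ?_⟩
    · change eval _ f = 0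
      rw [hmem]; exact hfL _ (Submodule.smul_mem _ _ hx.1)
    · rw [Submodule.span_le, Set.singleton_subset_iff, hmem]
      exact Submodule.smul_mem _ _ hx.1
    · rw [Submodule.span_le, Set.singleton_subset_iff, hmem]
      exact Submodule.smul_mem _ _ hx.2
  let S : Set (Submodule ℂ (Fin 5 → ℂ)) :=
    {L | L ≤ P ∧ Module.finrank ℂ ↥L = 2 ∧ ∀ u ∈ L, eval u f = 0}
  have hS : S.Finite := by
    have hfin : ∀ i, (Zpts (b i)).Finite := fun i =>
      (finite_setOf_eval_eq_zero hf v _ hv).image _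
    refine ((hfin (i₀ + 1)).image2 (fun g g' => g ⊔ g') (hfin (i₀ + 2))).subset ?_
    rintro L ⟨hLP, hL, hfL⟩
    obtain ⟨g, hg, hgL, hgM⟩ := hpoint L hLP hL hfL (i₀ + 1) hi.1.symm
    obtain ⟨g', hg', hg'L, hg'M⟩ := hpoint L hLP hL hfL (i₀ + 2) hi.2.1.symm
    refine ⟨g, hg, g', hg', Submodule.eq_of_le_of_finrank_le (sup_le hgL hg'L) ?_⟩
    obtain ⟨t, ht, rfl⟩ := hg
    obtain ⟨t', ht', rfl⟩ := hg'
    have hli : LinearIndependent ℂ ![t • v + (w₁ : Fin 5 → ℂ), t' • v + (w₂ : Fin 5 → ℂ)] := by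
      rw [LinearIndependent.pair_iff]
      intro α β h
      have h' : (α * t + β * t') • (⟨v, hvP⟩ : ↥P) + α • w₁ + β • w₂ = 0 := Subtype.ext (by
        simp only [Submodule.coe_add, Submodule.coe_smul, Submodule.coe_zero]
        rw [← h]; module)
      have hr := congrArg (fun z => b.repr z i₀) h'
      simp only [w₁, w₂, map_add, map_smul, map_zero, Finsupp.add_apply, Finsupp.smul_apply,
        b.repr_self, Finsupp.single_eq_of_ne hi.1.symm, Finsupp.single_eq_of_ne hi.2.1.symm,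
        smul_eq_mul, mul_zero, add_zero, Finsupp.coe_zero,
        Pi.zero_apply, mul_eq_zero, hi₀, or_false] at hr
      rw [hr, zero_smul, zero_add] at h'
      have h1 := congrArg (fun z => b.repr z (i₀ + 1)) h'
      have h2 := congrArg (fun z => b.repr z (i₀ + 2)) h'
      simp [w₁, w₂, Finsupp.single_apply, hi.2.2, hi.2.2.symm] at h1 h2
      exact ⟨h1, h2⟩
    have := finrank_span_eq_card hli
    rw [hL]
    rw [Matrix.range_cons, Matrix.range_cons, Matrix.range_empty, Set.union_empty,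
      Fintype.card_fin, Submodule.span_union] at this
    exact this.ge
  refine ⟨{g | g = L₁ ⊓ L₂ ∨ (Module.finrank ℂ ↥g = 1 ∧ ∃ L ∈ S, g = L ⊓ L₁)}, ?_, ?_, ?_⟩
  · exact ((hS.image (fun L => L ⊓ L₁)).insert (L₁ ⊓ L₂)).subset fun g hg =>
      hg.imp id (fun ⟨_, L, hL, e⟩ => ⟨L, hL, e.symm⟩)
  · rintro g (rfl | ⟨hg, L, -, rfl⟩)
    · exact ⟨hg₀, inf_le_left⟩
    · exact ⟨hg, inf_le_right⟩
  · intro L hL hfL hL₁ hL₂
    by_cases hc : L₁ ⊓ L₂ ≤ L
    · exact ⟨_, Or.inl rfl, hc⟩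
    have h1 : Module.finrank ℂ ↥(L ⊓ L₁) = 1 := by
      have h3 : Module.finrank ℂ ↥(L ⊓ L₁) ≠ 2 := fun h => by
        have e1 := Submodule.eq_of_le_of_finrank_eq (inf_le_right : L ⊓ L₁ ≤ L₁) (h.trans h₁.symm)
        exact hc (inf_le_left.trans (e1 ▸ inf_le_left))
      have h4 : Module.finrank ℂ ↥(L ⊓ L₁) ≠ 0 := fun h => hL₁ (Submodule.finrank_eq_zero.1 h)
      have h5 := Submodule.finrank_mono (inf_le_right : L ⊓ L₁ ≤ L₁)
      omega
    have hd : (L ⊓ L₁) ⊓ (L ⊓ L₂) = ⊥ := by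
      by_contra hd
      have hd1 : Module.finrank ℂ ↥((L ⊓ L₁) ⊓ (L ⊓ L₂)) ≠ 0 := fun h =>
        hd (Submodule.finrank_eq_zero.1 h)
      have hle : (L ⊓ L₁) ⊓ (L ⊓ L₂) ≤ L₁ ⊓ L₂ :=
        le_inf (inf_le_left.trans inf_le_right) (inf_le_right.trans inf_le_right)
      have := Submodule.eq_of_le_of_finrank_le hle (by omega)
      exact hc (this ▸ inf_le_left.trans inf_le_left)
    have hLP : L ≤ P := by
      have e := Submodule.finrank_sup_add_finrank_inf_eq (L ⊓ L₁) (L ⊓ L₂)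
      rw [hd, finrank_bot] at e
      have h4 : Module.finrank ℂ ↥(L ⊓ L₂) ≠ 0 := fun h => hL₂ (Submodule.finrank_eq_zero.1 h)
      have hle : (L ⊓ L₁) ⊔ (L ⊓ L₂) ≤ L := sup_le inf_le_left inf_le_left
      have := Submodule.eq_of_le_of_finrank_le hle (by omega)
      rw [← this]
      exact sup_le_sup inf_le_right inf_le_right
    exact ⟨_, Or.inr ⟨h1, L, ⟨hLP, hL, hfL⟩, rfl⟩, inf_le_left⟩

end Groth.Agent.S15252
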