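import Groth.Statements.S15254
import Groth.Agent.PicAux.EffCartierLine
import Groth.Agent.EulerDeg.CartierDegree
import Groth.Agent.RefRank.DivSheaf
import Groth.Agent.Duality.SupportVanish
import Groth.Agent.Variety2.Growth.Basic

set_option autoImplicit false
universe u
open CategoryTheory CategoryTheory.Limits AlgebraicGeometry TopologicalSpace
open W4c2seshadripos

namespace Groth.Agent.S15254

/-- Let X be an integral scheme proper over a field k (the published statement: a projective variety), x
a closed point of X with ideal sheaf m_x, and L an ample invertible O_X-module. Then there is m₀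
such that for every m ≥ m₀, every i > 1 and every a ≥ 0 the cohomology group H^i(X, m_x^a ⊗ L^{⊗m})
vanishes (here m_x^a ⊗ L^{⊗m} = m_x^a · L^{⊗m}, the ideal sheaf m_x^a being taken as an O_X-module). -/
theorem result (k : Type u) [Field k] (X : Scheme.{u})
    [X.Over (Spec (CommRingCat.of k))] [IsProper (X ↘ (Spec (CommRingCat.of k)))] [IsIntegral X]
    (x : X) (hx : IsClosed ({x} : Set X)) (L : X.Modules) (hL : CohB1.IsAmple L) :
    ∃ m₀ : ℕ, ∀ m : ℕ, m₀ ≤ m → ∀ i : ℕ, 1 < i → ∀ a : ℕ,
      Subsingleton (Coh.HH X (CohB1.tensorMod (ClSub.idealMod ((W4c2seshadripos.pointIdeal x hx) ^ a))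
        (CohB1.tensorPow L m)) i) := by
  open Groth Groth.Inter Groth.PicAux Groth.Variety2.Growth Groth.HilbStab in
  exact by
    have hN : AlgebraicGeometry.IsNoetherian X := Groth.Inter.isNoetherian k
    have hO := EulerDeg.isInvertible_structureModule X
    obtain ⟨m₀, hm₀⟩ := PnCoh.exists_subsingleton_of_isAmple (X ↘ Spec (CommRingCat.of k)) hL
      (Coh.structureModule X) (isCoh_of_isInvertible hO)
    refine ⟨m₀, fun m hm i hi a => ?_⟩
    let I := (W4c2seshadripos.pointIdeal x hx) ^ a
    let T := CohB1.tensorPow L m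
    have hT : PicF.IsInvertible T := PicAux.isInvertible_tensorPow hL.1 m
    have hd : topologicalKrullDim ({x} : Set X) ≤ ((0 : ℕ) : WithBot ℕ∞) := by
      rw [Variety2.Dim.dim_closed hx]
      refine iSup₂_le fun z hz => ?_
      have : Order.height z = 0 := by
        rw [Set.mem_singleton_iff.1 hz, Variety2.Dim.height_eq_zero_iff]
        exact hx
      rw [this]; exact le_rfl
    have hs : CohB1.support (CohB1.tensorMod (ClSub.quotMod I) T) ⊆ {x} := by
      refine (support_tensorMod_subset hT _).trans ((EulerDeg.support_quotMod_subset I).trans ?_)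
      rcases a with _ | b
      · simp [I]
      · simp [I, W4c2seshadripos.pointIdeal]
    obtain ⟨j, rfl⟩ : ∃ j, i = j + 1 := ⟨i - 1, by omega⟩
    have h3 : Subsingleton (Coh.HH X (CohB1.tensorMod (ClSub.quotMod I) T) j) :=
      Groth.Duality.SupportVanish.subsingleton_HH_of_support _ hx hd hs (by omega)
    have h2 : Subsingleton (Coh.HH X (CohB1.tensorMod (Coh.structureModule X) T) (j + 1)) :=
      hm₀ m hm (j + 1) j.succ_pos
    refine subsingleton_of_forall_eq 0 fun e => ?_
    obtain ⟨z, rfl⟩ := (EulerDeg.exact_left k (shortExact_tensorRightMod hT (shortExact_idealMod I)) j e).1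
      (@Subsingleton.elim _ h2 _ _)
    exact (congrArg _ (@Subsingleton.elim _ h3 z 0)).trans (map_zero _)

end Groth.Agent.S15254
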