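import Groth.Statements.S15259
import Groth.Agent.W4c2.EssFT

set_option autoImplicit false
universe u
open CategoryTheory CategoryTheory.Limits AlgebraicGeometry TopologicalSpace
open W4c2seshadripos

namespace Groth.Agent.S15259

/-- Call f : X → Y locally essentially of finite type when Y has a cover by affine opens U = Spec A such
that each f⁻¹(U) has a cover by affine opens Spec B with A → B essentially of finite type (a
localization of a finite-type A-algebra; Mathlib's RingHom.EssFiniteType), and essentially of finite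
type when moreover f is quasi-compact. Then f is essentially of finite type exactly when every
affine open U = Spec A of Y has f⁻¹(U) covered by finitely many affine opens V = Spec B of X with A
→ B essentially of finite type. -/
theorem result {X Y : Scheme.{u}} (f : X ⟶ Y) :
    ((∃ S : Set Y.affineOpens, (⋃ U ∈ S, ((U : Y.Opens) : Set ↥Y)) = Set.univ ∧
      ∀ U ∈ S, ∃ T : Set X.affineOpens, (⋃ V ∈ T, ((V : X.Opens) : Set ↥X)) = ((f ⁻¹ᵁ (U : Y.Opens)) : Set ↥X) ∧
        ∀ V ∈ T, ∃ e : (V : X.Opens) ≤ f ⁻¹ᵁ (U : Y.Opens), (f.appLE (U : Y.Opens) (V : X.Opens) e).hom.EssFiniteType) ∧ QuasiCompact f) ↔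
    ∀ U : Y.affineOpens, ∃ T : Set X.affineOpens, T.Finite ∧ (⋃ V ∈ T, ((V : X.Opens) : Set ↥X)) = ((f ⁻¹ᵁ (U : Y.Opens)) : Set ↥X) ∧
        ∀ V ∈ T, ∃ e : (V : X.Opens) ≤ f ⁻¹ᵁ (U : Y.Opens), (f.appLE (U : Y.Opens) (V : X.Opens) e).hom.EssFiniteType := by
  constructor
  · rintro ⟨⟨S, hS, h⟩, hqc⟩ U
    obtain ⟨T, hT, hT'⟩ := (Groth.W4c2.exists_cover_iff f U).2 fun x hx =>
      Groth.W4c2.eftAt_of_cover f S hS (fun U' hU' => (Groth.W4c2.exists_cover_iff f U').1 (h U' hU')) U x hx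
    have hcpt : IsCompact ((f ⁻¹ᵁ (U : Y.Opens)) : Set ↥X) := f.isCompact_preimage U.2.isCompact
    obtain ⟨T', hT'sub, hT'fin, hT'cov⟩ :=
      hcpt.elim_finite_subcover_image (fun V (_ : V ∈ T) => (V : X.Opens).isOpen) hT.symm.subset
    refine ⟨T', hT'fin, Set.Subset.antisymm (Set.iUnion₂_subset fun V hV => ?_) hT'cov,
      fun V hV => hT' V (hT'sub hV)⟩
    exact (hT' V (hT'sub hV)).1
  · intro h
    refine ⟨⟨Set.univ, ?_, fun U _ => ?_⟩, ?_⟩
    · refine Set.eq_univ_of_forall fun y => ?_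
      obtain ⟨U, hU, hy, -⟩ := exists_isAffineOpen_mem_and_subset (U := ⊤) (Set.mem_univ y)
      exact Set.mem_biUnion (Set.mem_univ (⟨U, hU⟩ : Y.affineOpens)) hy
    · obtain ⟨T, -, hT, hT'⟩ := h U
      exact ⟨T, hT, hT'⟩
    · rw [quasiCompact_iff_forall_isAffineOpen]
      intro U hU
      obtain ⟨T, hfin, hT, -⟩ := h ⟨U, hU⟩
      rw [← hT]
      exact hfin.isCompact_biUnion fun V _ => V.2.isCompact

end Groth.Agent.S15259
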