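import Groth.Statements.S15261
import Groth.Agent.W4c2.EssFT
import Mathlib.AlgebraicGeometry.Morphisms.Flat
import Mathlib.RingTheory.RingHomProperties

set_option autoImplicit false
universe u
open CategoryTheory CategoryTheory.Limits AlgebraicGeometry TopologicalSpace
open W4c2seshadripos

namespace Groth.Agent.S15261

/-- Say a morphism of schemes h : S → T is locally essentially of finite type when for every affine open
U = Spec A of T the preimage h⁻¹(U) is covered by affine opens V = Spec B of S with A → B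
essentially of finite type (the every-affine-open form of the notion). If f : X → Y is locally
essentially of finite type and g : Y' → Y is any morphism of schemes, then the base change X ×_Y Y'
→ Y' is locally essentially of finite type. (The quasi-compact variant, essentially of finite type,
follows since quasi-compactness is stable under base change.) -/
theorem result {X Y Y' : Scheme.{u}} (f : X ⟶ Y) (g : Y' ⟶ Y)
    (hf : ∀ U : Y.affineOpens, ∃ T : Set X.affineOpens, (⋃ V ∈ T, ((V : X.Opens) : Set ↥X)) = ((f ⁻¹ᵁ (U : Y.Opens)) : Set ↥X) ∧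
        ∀ V ∈ T, ∃ e : (V : X.Opens) ≤ f ⁻¹ᵁ (U : Y.Opens), (f.appLE (U : Y.Opens) (V : X.Opens) e).hom.EssFiniteType)
    (U : Y'.affineOpens) :
    ∃ T : Set (pullback f g).affineOpens, (⋃ V ∈ T, ((V : (pullback f g).Opens) : Set ↥(pullback f g))) = (((pullback.snd f g) ⁻¹ᵁ (U : Y'.Opens)) : Set ↥(pullback f g)) ∧
        ∀ V ∈ T, ∃ e : (V : (pullback f g).Opens) ≤ (pullback.snd f g) ⁻¹ᵁ (U : Y'.Opens), ((pullback.snd f g).appLE (U : Y'.Opens) (V : (pullback f g).Opens) e).hom.EssFiniteType := by
  refine (Groth.W4c2.exists_cover_iff (pullback.snd f g) U).2 fun z hz => ?_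
  obtain ⟨U₀, hU₀, hy, -⟩ := exists_isAffineOpen_mem_and_subset
    (U := ⊤) (Set.mem_univ (f (pullback.fst f g z)))
  have hy' : g (pullback.snd f g z) ∈ U₀ := by
    rw [← Scheme.Hom.comp_apply, ← pullback.condition, Scheme.Hom.comp_apply]; exact hy
  obtain ⟨U', hU', hzU', hU'sub⟩ := exists_isAffineOpen_mem_and_subset
    (U := (g ⁻¹ᵁ U₀) ⊓ (U : Y'.Opens)) (show pullback.snd f g z ∈ _ from ⟨hy', hz⟩)
  obtain ⟨V, hxV, e, hV⟩ := (Groth.W4c2.exists_cover_iff f ⟨U₀, hU₀⟩).1 (hf ⟨U₀, hU₀⟩) (pullback.fst f g z) hy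
  have hUg : U' ≤ g ⁻¹ᵁ U₀ := fun w hw => (hU'sub hw).1
  have H : IsPullback (pullback.fst f g) (pullback.snd f g) f g := IsPullback.of_hasPullback f g
  let W : (pullback f g).Opens := pullback.fst f g ⁻¹ᵁ (V : X.Opens) ⊓ pullback.snd f g ⁻¹ᵁ U'
  have hWaff : IsAffineOpen W := by
    have : IsAffine (V : X.Opens).toScheme := V.2
    have : IsAffine U'.toScheme := hU'
    have : IsAffine U₀.toScheme := hU₀
    exact .of_isIso (Scheme.Hom.isPullback_resLE H hUg e (rfl : W = _)).isoPullback.hom
  have hpo := (isIso_pushoutSection_iff H hUg e (rfl : W = _)).1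
    (isIso_pushoutSection_of_isAffineOpen H hUg e rfl hU₀ hU' V.2)
  have : (RingHom.toMorphismProperty RingHom.EssFiniteType).IsStableUnderCobaseChange :=
    RingHom.isStableUnderCobaseChange_toMorphismProperty_iff.2 RingHom.EssFiniteType.isStableUnderBaseChange
  have h2 : ((pullback.snd f g).appLE U' W inf_le_right).hom.EssFiniteType :=
    MorphismProperty.of_isPushout (P := RingHom.toMorphismProperty RingHom.EssFiniteType) hpo.flip hV
  exact Groth.W4c2.eftAt_transfer (pullback.snd f g) hz
    (U' := ⟨U', hU'⟩) ⟨⟨W, hWaff⟩, ⟨hxV, hzU'⟩, inf_le_right, h2⟩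

end Groth.Agent.S15261
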