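import Groth.Statements.S15271
import Groth.Agent.CohTwo.GrLocFree
import Groth.Agent.HilbStab.JH
import Groth.Agent.HilbStab.KerCoker
import Groth.Agent.HilbStab.BC.Stable
import Groth.Agent.S15202
-- import your own Groth.Agent.* helpers here

set_option autoImplicit false
open CategoryTheory CategoryTheory.Limits AlgebraicGeometry
open Coherent

namespace Groth.Agent.S15271

open Groth.HilbStab Groth.HilbStab.BC Groth.GrFree

/-- A module that is zero or semistable has a Jordan–Hölder filtration. -/
theorem exists_jh {X : Scheme.{0}} [X.Over (Spec (CommRingCat.of ℂ))]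
    [IsProper (X ↘ Spec (CommRingCat.of ℂ))] {L : X.Modules} (hL : CohB1.IsAmple L) {d : ℕ}
    {M : X.Modules} (h : IsZero M ∨ ShStab.IsSemistable ℂ X L M d) :
    ∃ s : LTSeries (Subobject M), ShStab.IsJHFiltration ℂ X L M d s := by
  rcases h with hz | hss
  · refine ⟨RelSeries.singleton _ ⊥, rfl, ?_, fun i => i.elim0⟩
    show (⊥ : Subobject M) = ⊤
    refine le_antisymm bot_le (Subobject.le_of_comm 0 ?_)
    exact (hz.eq_of_tgt _ _)
  · exact S15202.result ℂ X L hL d M hss


/-- Over the complex numbers, let X be a proper scheme with an ample invertible sheaf L and let ξ be a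
complex point of X. Let E be a coherent sheaf on X which is semistable of dimension d with respect
to L (nonzero, pure of dimension d, and the reduced Hilbert polynomial of every nonzero proper
coherent subsheaf is at most that of E for large arguments) and which has a filtration by coherent
subsheaves with stable d-dimensional successive quotients of the reduced Hilbert polynomial of E
whose associated graded sheaf (the direct sum of the quotients) is finite locally free on an open
neighbourhood of ξ. Let G be a coherent subsheaf of E whose reduced Hilbert polynomial equals that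
of E (r(E)·p_G = r(G)·p_E for Hilbert polynomials p_G, p_E with respect to L, r denoting d! times
the degree-d coefficient). Then G, and likewise the quotient E/G, has a filtration by coherent
subsheaves with stable d-dimensional successive quotients of the same reduced Hilbert polynomial
whose associated graded sheaf is finite locally free on an open neighbourhood of ξ. (The published
statement is for modules over a sheaf of rings of differential operators on the closed fibres of a
projective flat family with a section; this row is the case of the structure sheaf on one complex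
fibre, and does not assume the fibre irreducible.) -/
theorem result
    (X : Scheme.{0}) [X.Over (Spec (CommRingCat.of ℂ))] [IsProper (X ↘ Spec (CommRingCat.of ℂ))]
    (L : X.Modules) (hL : CohB1.IsAmple L) (d : ℕ)
    (E : X.Modules) (hE : ShStab.IsSemistable ℂ X L E d)
    (ξ : Spec (CommRingCat.of ℂ) ⟶ X) (hξ : ξ ≫ (X ↘ Spec (CommRingCat.of ℂ)) = 𝟙 (Spec (CommRingCat.of ℂ)))
    (sE : LTSeries (Subobject E)) (hsE : ShStab.IsJHFiltration ℂ X L E d sE)
    (hgrE : ∀ x ∈ Set.range ξ.base, ∃ U : X.Opens, x ∈ U ∧ FlatMod.IsFinLocFree ((StabCat.grObj sE).restrict U.ι))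
    (G : X.Modules) (ι : G ⟶ E) [Mono ι] (hG : Coh.IsCoh G)
    (pG pE : Polynomial ℚ) (hpG : ShStab.IsHilbPoly ℂ X L G pG) (hpE : ShStab.IsHilbPoly ℂ X L E pE)
    (hred : StabCat.RedEq d pG pE) :
    (∃ sG : LTSeries (Subobject G), ShStab.IsJHFiltration ℂ X L G d sG ∧
        ∀ x ∈ Set.range ξ.base, ∃ U : X.Opens, x ∈ U ∧ FlatMod.IsFinLocFree ((StabCat.grObj sG).restrict U.ι)) ∧
    (∃ sQ : LTSeries (Subobject (cokernel ι)), ShStab.IsJHFiltration ℂ X L (cokernel ι) d sQ ∧
        ∀ x ∈ Set.range ξ.base, ∃ U : X.Opens, x ∈ U ∧ FlatMod.IsFinLocFree ((StabCat.grObj sQ).restrict U.ι)) := by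
  haveI := HilbStab.isLocallyNoetherian ℂ (X := X)
  have h0 := (redEq_iff d).mp hred
  haveI := hE.1.1
  haveI := hG.1
  have hαE : 0 < StabCat.alpha d pE := alpha_pos_of_isPure ℂ hL hE.2.2.1 (𝟙 E) hE.1 hE.2.1 hpE
  have hQc : Coh.IsCoh (cokernel ι) := QCohMod.isCoh_cokernel ι hE.1
  obtain ⟨pQ, hpQ⟩ := exists_isHilbPoly ℂ X hL hQc
  have hsum := isHilbPoly_cokernel_add ℂ hL hG ι hE.1 hpG hpE hpQ
  have hQ0 : cr d pQ pE = 0 := by
    have h := cr_add_left d pG pQ pE
    rw [← hsum, cr_self, h0, zero_add] at h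
    exact h.symm
  -- both `G` and the quotient are zero or semistable
  have hGss : IsZero G ∨ ShStab.IsSemistable ℂ X L G d := by
    refine or_iff_not_imp_left.mpr fun hz => ?_
    refine ⟨hG, hz, isPure_of_mono hE.2.2.1 ι, fun F κ _ hF hF0 hi pF pG' hpF hpG' => ?_⟩
    rw [isHilbPoly_unique ℂ hpG' hpG, redLE_iff]
    have h1 := nn_cr_sub ℂ hL hE (κ ≫ ι) hF hpF hpE
    refine nn_cr_trans (alpha_pos_of_isPure ℂ hL hE.2.2.1 (κ ≫ ι) hF hF0 hpF).le hαE
      (alpha_pos_of_isPure ℂ hL hE.2.2.1 ι hG hz hpG).le h1 ?_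
    rw [cr_swap, h0, neg_zero]
    exact nn_zero
  have hQss : IsZero (cokernel ι) ∨ ShStab.IsSemistable ℂ X L (cokernel ι) d := by
    rcases hGss with hz | hss
    · obtain rfl : ι = 0 := hz.eq_of_src _ _
      exact Or.inr (isSemistable_of_iso' ℂ (cokernelZeroIsoTarget (X := G) (Y := E)).symm hE)
    · exact (kernel_cokernel_semistable ℂ hL hss hE hpG hpE hred ι).2.imp id And.left
  obtain ⟨sG, hsG⟩ := exists_jh hL hGss
  obtain ⟨sQ, hsQ⟩ := exists_jh hL hQss
  -- the concatenated filtration of `E`
  let π := cokernel.π ι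
  let p : LTSeries (Subobject E) := LTSeries.map sG (Subobject.map ι).obj (map_strictMono ι)
  let q : LTSeries (Subobject E) := LTSeries.map sQ (Subobject.pullback π).obj (pullback_strictMono π)
  have hw : ι ≫ π = 0 := cokernel.condition ι
  have hconn : p.last = q.head := by
    rw [show p.last = (Subobject.map ι).obj sG.last from rfl,
      show q.head = (Subobject.pullback π).obj sQ.head from rfl, hsG.2.1, hsQ.1, Subobject.map_top,
      pullback_bot_eq ι π hw (ShortComplex.exact_of_g_is_cokernel _ (cokernelIsCokernel ι))]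
  let t : LTSeries (Subobject E) := RelSeries.smash p q hconn
  have heG : ∀ i : Fin sG.length, Nonempty (StabCat.factor t (i.castAdd q.length) ≅
      StabCat.factor sG i) := fun i => by
    exact ⟨facCongr (RelSeries.smash_castAdd hconn i) (RelSeries.smash_succ_castAdd hconn i) _
      (le_of_lt (p.step i)) ≪≫ mapFacIso ι (le_of_lt (sG.step i)) (le_of_lt (p.step i))⟩
  have heQ : ∀ i : Fin sQ.length, Nonempty (StabCat.factor t (i.natAdd p.length) ≅
      StabCat.factor sQ i) := fun i => by
    obtain ⟨e⟩ := pullbackFacIso π (le_of_lt (sQ.step i)) (le_of_lt (q.step i))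
    exact ⟨facCongr (RelSeries.smash_natAdd hconn i) (RelSeries.smash_succ_natAdd hconn i) _
      (le_of_lt (q.step i)) ≪≫ e⟩
  have htransfer : ∀ {M : X.Modules} {pM : Polynomial ℚ}, ShStab.IsHilbPoly ℂ X L M pM →
      cr d pM pE = 0 → (IsZero M ∨ 0 < StabCat.alpha d pM) →
      ∀ (s : LTSeries (Subobject M)), ShStab.IsJHFiltration ℂ X L M d s →
      ∀ (i : Fin s.length) (P : Polynomial ℚ), ShStab.IsHilbPoly ℂ X L (StabCat.factor s i) P →
      cr d P pE = 0 := by
    intro M pM hpM hM hcase s hs i P hP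
    have hPM := (redEq_iff d).mp ((hs.2.2 i).2 P pM hP hpM)
    rcases hcase with hz | hα
    · exact ((hs.2.2 i).1.2.1 (by
        have hh : IsZero ((s i.succ : Subobject M) : X.Modules) := IsZero.of_mono (s i.succ).arrow hz
        exact (IsZero.iff_id_eq_zero _).2 (coequalizer.hom_ext (hh.eq_of_src _ _)))).elim
    · have h := cr_trans_eq d P pM pE
      rw [hPM, hM, smul_zero, smul_zero, add_zero, smul_eq_zero] at h
      exact h.resolve_left hα.ne'
  have hcaseG : IsZero G ∨ 0 < StabCat.alpha d pG :=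
    hGss.imp id fun h => alpha_pos_of_isPure ℂ hL hE.2.2.1 ι hG h.2.1 hpG
  have hcaseQ : IsZero (cokernel ι) ∨ 0 < StabCat.alpha d pQ :=
    hQss.imp id fun h => alpha_pos_of_isPure ℂ hL h.2.2.1 (𝟙 _) hQc h.2.1 hpQ
  have ht : ShStab.IsJHFiltration ℂ X L E d t := by
    refine ⟨?_, ?_, fun i => ?_⟩
    · rw [RelSeries.head_smash, show p.head = (Subobject.map ι).obj sG.head from rfl, hsG.1,
        Subobject.map_bot]
    · rw [RelSeries.last_smash, show q.last = (Subobject.pullback π).obj sQ.last from rfl, hsQ.2.1,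
        Subobject.pullback_top]
    · refine Fin.addCases (m := p.length) (n := q.length) (fun a => ?_) (fun a => ?_) i
      · obtain ⟨e⟩ := heG a
        refine ⟨isStable_of_iso' (Iso.refl L) e.symm (hsG.2.2 a).1, fun P P' hP hP' => ?_⟩
        rw [isHilbPoly_unique ℂ hP' hpE, redEq_iff]
        exact htransfer hpG h0 hcaseG sG hsG a P (isHilbPoly_iso ℂ e hP)
      · obtain ⟨e⟩ := heQ a
        refine ⟨isStable_of_iso' (Iso.refl L) e.symm (hsQ.2.2 a).1, fun P P' hP hP' => ?_⟩
        rw [isHilbPoly_unique ℂ hP' hpE, redEq_iff]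
        exact htransfer hpQ hQ0 hcaseQ sQ hsQ a P (isHilbPoly_iso ℂ e hP)
  obtain ⟨-, ⟨gr⟩⟩ := jh_unique ℂ hL hE t sE ht hsE
  have hfac : ∀ x ∈ Set.range ξ.base, ∀ i, FreeAt (StabCat.factor t i) x := by
    intro x hx i
    obtain ⟨U, hxU, hU⟩ := hgrE x hx
    exact freeAt_factor t x (fun j => (ht.2.2 j).1.1)
      (freeAt_of_iso gr.symm x (freeAt_of_nhd hxU hU)) i
  refine ⟨⟨sG, hsG, fun x hx => ?_⟩, ⟨sQ, hsQ, fun x hx => ?_⟩⟩
  · refine exists_nhd_of_freeAt (PnCoh.isCoh_sigma _ fun i => (hsG.2.2 i).1.1)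
      (freeAt_sigma _ x fun i => ?_)
    obtain ⟨e⟩ := heG i
    exact freeAt_of_iso e x (hfac x hx _)
  · refine exists_nhd_of_freeAt (PnCoh.isCoh_sigma _ fun i => (hsQ.2.2 i).1.1)
      (freeAt_sigma _ x fun i => ?_)
    obtain ⟨e⟩ := heQ i
    exact freeAt_of_iso e x (hfac x hx _)

end Groth.Agent.S15271
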