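import Groth.Statements.S15267
import Groth.Agent.S15271
import Groth.Agent.S10830
import Groth.Agent.CohTwo.SupportLocal
import Groth.Agent.Flatmor4.FpqcSubterminal
-- import your own Groth.Agent.* helpers here

set_option autoImplicit false
open CategoryTheory CategoryTheory.Limits AlgebraicGeometry
open Coherent

namespace Groth.Agent.S15267

open Groth.HilbStab Groth.GrFree Groth.KTheory.LocFree Groth.QCohMod

/-- A module with a filtration from bottom to top with free factors is free at the point. -/
theorem freeAt_of_series {X : Scheme.{0}} {M : X.Modules} (s : LTSeries (Subobject M))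
    (h0 : s.head = ⊥) (h1 : s.last = ⊤) (x : X)
    (hf : ∀ i, FreeAt (StabCat.factor s i) x) : FreeAt M x := by
  suffices H : ∀ i : Fin (s.length + 1), FreeAt ((s i : Subobject M) : X.Modules) x by
    have h := H (Fin.last _)
    rw [show s (Fin.last _) = ⊤ from h1] at h
    exact freeAt_of_iso (asIso (⊤ : Subobject M).arrow) x h
  intro i
  induction i using Fin.induction with
  | zero =>
    rw [show s 0 = ⊥ from h0]
    have hz : IsZero (((⊥ : Subobject M)) : X.Modules) := (isZero_zero _).of_iso Subobject.botCoeIsoZero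
    exact freeAt_of_nhd (U := ⊤) trivial (isFinLocFree_zero
      ((Scheme.Modules.restrictFunctor (⊤ : X.Opens).ι).map_isZero hz))
  | succ i ih =>
    let j := Subobject.ofLE (s i.castSucc) (s i.succ) (le_of_lt (s.step i))
    have hS : (ShortComplex.mk j (cokernel.π j) (cokernel.condition j)).ShortExact :=
      { exact := ShortComplex.exact_of_g_is_cokernel _ (cokernelIsCokernel j) }
    exact freeAt_ext hS x ih (hf i)

theorem freeAt_of_jh {X : Scheme.{0}} [X.Over (Spec (CommRingCat.of ℂ))] {L M : X.Modules} {d : ℕ}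
    {s : LTSeries (Subobject M)} (hs : ShStab.IsJHFiltration ℂ X L M d s) {x : X}
    (hgr : ∃ U : X.Opens, x ∈ U ∧ FlatMod.IsFinLocFree ((StabCat.grObj s).restrict U.ι)) :
    FreeAt M x := by
  obtain ⟨U, hxU, hU⟩ := hgr
  exact freeAt_of_series s hs.1 hs.2.1 x fun i =>
    freeAt_factor s x (fun j => (hs.2.2 j).1.1) (freeAt_of_nhd hxU hU) i


/-- Over the complex numbers, let X be an irreducible proper scheme of dimension d with an ample
invertible sheaf L, and let ξ be a complex point of X. Let E and F be coherent sheaves on X which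
are semistable of dimension d with respect to L (nonzero, pure of dimension d, and the reduced
Hilbert polynomial of every nonzero proper coherent subsheaf is at most that of the sheaf for large
arguments), with the same reduced Hilbert polynomial (r(F)·p_E = r(E)·p_F for Hilbert polynomials
p_E, p_F, r denoting d! times the degree-d coefficient), and suppose that each of E and F has a
filtration by coherent subsheaves with stable d-dimensional successive quotients of the same reduced
Hilbert polynomial whose associated graded sheaf (the direct sum of the quotients) is finite locally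
free on some open neighbourhood of ξ. Then every morphism f from E to F whose pull-back along ξ is
the zero map is zero. (The published statement is for modules over a sheaf of rings of differential
operators on a projective flat family X over S with irreducible fibres of dimension d and a section
ξ, the conditions being imposed on all closed fibres; this row is the case of the structure sheaf
over a single complex fibre, to which the published proof reduces.) -/
theorem result
    (X : Scheme.{0}) [X.Over (Spec (CommRingCat.of ℂ))] [IsProper (X ↘ Spec (CommRingCat.of ℂ))]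
    [IrreducibleSpace X] (d : ℕ) (hX : topologicalKrullDim X = (d : WithBot ℕ∞))
    (L : X.Modules) (hL : CohB1.IsAmple L)
    (E F : X.Modules) (hE : ShStab.IsSemistable ℂ X L E d) (hF : ShStab.IsSemistable ℂ X L F d)
    (pE pF : Polynomial ℚ) (hpE : ShStab.IsHilbPoly ℂ X L E pE) (hpF : ShStab.IsHilbPoly ℂ X L F pF)
    (hred : StabCat.RedEq d pE pF)
    (ξ : Spec (CommRingCat.of ℂ) ⟶ X) (hξ : ξ ≫ (X ↘ Spec (CommRingCat.of ℂ)) = 𝟙 (Spec (CommRingCat.of ℂ)))
    (sE : LTSeries (Subobject E)) (hsE : ShStab.IsJHFiltration ℂ X L E d sE)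
    (hgrE : ∀ x ∈ Set.range ξ.base, ∃ U : X.Opens, x ∈ U ∧ FlatMod.IsFinLocFree ((StabCat.grObj sE).restrict U.ι))
    (sF : LTSeries (Subobject F)) (hsF : ShStab.IsJHFiltration ℂ X L F d sF)
    (hgrF : ∀ x ∈ Set.range ξ.base, ∃ U : X.Opens, x ∈ U ∧ FlatMod.IsFinLocFree ((StabCat.grObj sF).restrict U.ι))
    (f : E ⟶ F) (hf : (Scheme.Modules.pullback ξ).map f = 0) : f = 0 := by
  haveI := HilbStab.isLocallyNoetherian ℂ (X := X)
  by_contra hf0
  let I := Abelian.image f
  let q : E ⟶ I := Abelian.factorThruImage f
  let j : I ⟶ F := Abelian.image.ι f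
  have hfac : q ≫ j = f := Abelian.image.fac f
  haveI := hE.1.1
  haveI := hF.1.1
  have hI0 : ¬ IsZero I := fun hz => hf0 (by rw [← hfac, hz.eq_of_tgt q 0, zero_comp])
  have hI : Coh.IsCoh I := by
    haveI := (QCohMod.isCoh_cokernel f hF.1).1
    exact QCohMod.isCoh_kernel (cokernel.π f) hF.1
  haveI := hI.1
  -- the cokernel is semistable of the same slope, so is the image
  have h0 := (redEq_iff d).mp hred
  have hαE : 0 < StabCat.alpha d pE := alpha_pos_of_isPure ℂ hL hE.2.2.1 (𝟙 E) hE.1 hE.2.1 hpE
  have hC : Coh.IsCoh (cokernel j) := QCohMod.isCoh_cokernel j hF.1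
  obtain ⟨pI, hpI⟩ := exists_isHilbPoly ℂ X hL hI
  obtain ⟨pC, hpC⟩ := exists_isHilbPoly ℂ X hL hC
  have hsum := isHilbPoly_cokernel_add ℂ hL hI j hF.1 hpI hpF hpC
  let eC : cokernel f ≅ cokernel j := cokernelIsoOfEq hfac.symm ≪≫ cokernelEpiComp q j
  have hCF : cr d pC pF = 0 := by
    rcases (kernel_cokernel_semistable ℂ hL hE hF hpE hpF hred f).2 with hz | ⟨-, hr⟩
    · rw [eq_zero_of_isZero ℂ (hz.of_iso eC.symm) hpC]
      simp [cr, StabCat.alpha]
    · have hCE := (redEq_iff d).mp (hr pC (isHilbPoly_iso ℂ eC.symm hpC))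
      have h := cr_trans_eq d pC pE pF
      rw [hCE, h0, smul_zero, smul_zero, add_zero, smul_eq_zero] at h
      exact h.resolve_left hαE.ne'
  have hIF : cr d pI pF = 0 := by
    have h := cr_add_left d pI pC pF
    rw [← hsum, cr_self, hCF, add_zero] at h
    exact h.symm
  obtain ⟨y⟩ : Nonempty (Spec (CommRingCat.of ℂ) : Scheme.{0}) := inferInstance
  have hx : ξ.base y ∈ Set.range ξ.base := ⟨y, rfl⟩
  obtain ⟨⟨sI, hsI, hgI⟩, ⟨sC, hsC, hgC⟩⟩ := S15271.result X L hL d F hF ξ hξ sF hsF hgrF I j hI
    pI pF hpI hpF ((redEq_iff d).mpr hIF)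
  have fI := freeAt_of_jh hsI (hgI _ hx)
  have fC := freeAt_of_jh hsC (hgC _ hx)
  -- the image vanishes at the point
  have hS : (ShortComplex.mk j (cokernel.π j) (cokernel.condition j)).ShortExact :=
    { exact := ShortComplex.exact_of_g_is_cokernel _ (cokernelIsCokernel j) }
  haveI := fI
  haveI := fC
  obtain ⟨hinj, hexact, hsurj⟩ := stalk_exact hS (ξ.base y)
  obtain ⟨l, hl⟩ := Module.projective_lifting_property (stalkₗ (cokernel.π j) (ξ.base y))
    LinearMap.id hsurj
  obtain ⟨e, he, -⟩ := hexact.splitSurjectiveEquiv hinj ⟨l, hl⟩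
  letI := stalkAlg ξ y
  let r := (LinearMap.fst _ _ _).comp e.toLinearMap
  have hr : r.comp (stalkₗ j (ξ.base y)) = LinearMap.id := by
    rw [show stalkₗ j (ξ.base y) = _ from he]
    ext t
    simp [r]
  have hq : Function.Surjective (stalkₗ q (ξ.base y)) :=
    (QCohMod.epi_iff_stalk q).mp inferInstance _
  have hzero : (Flatmor4.stalkLin f (ξ.base y)).lTensor
      ((Spec (CommRingCat.of ℂ)).presheaf.stalk y) = 0 := by
    refine LinearMap.ext fun z => ?_
    have h := congrFun (Flatmor4.stalk_map_pullback ξ f y) (pullStalkEquiv ξ E y z)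
    rw [hf, Functor.map_zero] at h
    simp only [Function.comp_apply, LinearEquiv.symm_apply_apply] at h
    exact (pullStalkEquiv ξ F y).injective (h.symm.trans (map_zero _).symm)
  have hf' : (Flatmor4.stalkLin f (ξ.base y)) =
      (stalkₗ j (ξ.base y)).comp (stalkₗ q (ξ.base y)) := by
    rw [← stalkₗ_comp, hfac]; rfl
  have hsub : Subsingleton (TensorProduct (X.presheaf.stalk (ξ.base y))
      ((Spec (CommRingCat.of ℂ)).presheaf.stalk y) (I.presheaf.stalk (ξ.base y))) := by
    refine ⟨fun a b => ?_⟩
    have key : ∀ a : TensorProduct (X.presheaf.stalk (ξ.base y))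
        ((Spec (CommRingCat.of ℂ)).presheaf.stalk y) (I.presheaf.stalk (ξ.base y)), a = 0 := fun a => by
      obtain ⟨c, rfl⟩ := LinearMap.lTensor_surjective _ hq a
      have h1 := LinearMap.congr_fun hzero c
      rw [hf', LinearMap.lTensor_comp, LinearMap.comp_apply, LinearMap.zero_apply] at h1
      have h2 := congrArg (r.lTensor ((Spec (CommRingCat.of ℂ)).presheaf.stalk y)) h1
      rw [← LinearMap.lTensor_comp_apply, hr, LinearMap.lTensor_id, LinearMap.id_apply, map_zero] at h2
      exact h2
    rw [key a, key b]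
  have hI_stalk : Subsingleton (I.presheaf.stalk (ξ.base y)) := by
    let b := (Module.Free.chooseBasis (X.presheaf.stalk (ξ.base y)) (I.presheaf.stalk (ξ.base y)))
    haveI : IsEmpty (Module.Free.ChooseBasisIndex (X.presheaf.stalk (ξ.base y))
        (I.presheaf.stalk (ξ.base y))) :=
      ⟨fun i => (b.baseChange ((Spec (CommRingCat.of ℂ)).presheaf.stalk y)).ne_zero i
        (Subsingleton.elim _ _)⟩
    exact ⟨fun u v => b.repr.injective (Subsingleton.elim _ _)⟩
  -- but its support is everything
  have hdim := hF.2.2.1 I j inferInstance hI hI0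
  have hlt := S10830.result X (by rw [hX]; exact WithBot.coe_eq_coe.not.mpr (ENat.coe_ne_top d)) (CohB1.support I)
    (CohTwo.isClosed_support I hI) (fun h => (h ▸ Set.mem_univ (ξ.base y) : ξ.base y ∈ CohB1.support I) hI_stalk)
  rw [hdim, hX] at hlt
  exact lt_irrefl _ hlt

end Groth.Agent.S15267
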