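import Groth.Statements.S15268
import Groth.Agent.CohTwo.FibreVanish
import Groth.Agent.S15267
import Groth.Agent.S15270
import Groth.Agent.CohBase.FibreBC
import Groth.Agent.FlatStrata.ProjSpace
import Groth.Agent.FlatStrata.TwistSections
import Groth.Agent.Variety2.ProjBasics
import Mathlib.AlgebraicGeometry.AlgClosed.Basic
-- import your own Groth.Agent.* helpers here

set_option autoImplicit false
open CategoryTheory CategoryTheory.Limits AlgebraicGeometry
open Coherent

namespace Groth.Agent.S15268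

/-- Over the complex numbers, let S be a separated scheme of finite type, X a closed subscheme of
projective n-space over S which is flat over S and whose fibre X_t over every complex point t of S
is irreducible of dimension d, and ξ a section of X over S. Let E and F be coherent sheaves on X,
flat over S, such that for every complex point t of S, on the fibre X_t polarised by the pull-back
of O(1): the restrictions E_t and F_t are semistable of dimension d (nonzero, pure of dimension d,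
reduced Hilbert polynomials of nonzero proper coherent subsheaves at most that of the sheaf for
large arguments) with the same reduced Hilbert polynomial (r(F_t)·p_{E_t} = r(E_t)·p_{F_t}, r
denoting d! times the degree-d coefficient), and each of E_t, F_t has a filtration by coherent
subsheaves with stable d-dimensional successive quotients of that reduced Hilbert polynomial whose
associated graded sheaf is finite locally free on an open neighbourhood of the point ξ(t). Then
every morphism φ from E to F whose pull-back along ξ is the zero map is zero. (The published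
statement is for modules over a sheaf of rings of differential operators and imposes the fibre
conditions at the closed points of the base; this row is the case of the structure sheaf, with the
conditions at complex points, which are the closed points here.) -/
theorem result
    (S : Scheme.{0}) (sS : S ⟶ Spec (CommRingCat.of ℂ)) [LocallyOfFiniteType sS] [QuasiCompact sS] [IsSeparated sS]
    (n : ℕ) (X : Scheme.{0}) (i : X ⟶ CohB1.ProjSpaceOver n S) [IsClosedImmersion i] [Flat (i ≫ (CohB1.ProjSpaceOver n S ↘ S))] (d : ℕ)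
    (ξ : S ⟶ X) (hξ : ξ ≫ (i ≫ (CohB1.ProjSpaceOver n S ↘ S)) = 𝟙 S)
    (hfib : ∀ (t : Spec (CommRingCat.of ℂ) ⟶ S), t ≫ sS = 𝟙 (Spec (CommRingCat.of ℂ)) →
      IrreducibleSpace (PicF.XT (i ≫ (CohB1.ProjSpaceOver n S ↘ S)) (Over.mk t)) ∧ topologicalKrullDim (PicF.XT (i ≫ (CohB1.ProjSpaceOver n S ↘ S)) (Over.mk t)) = (d : WithBot ℕ∞))
    (E F : X.Modules) (hE : Coh.IsCoh E) (hF : Coh.IsCoh F)
    (hEfl : FlatMod.IsFlatOver (i ≫ (CohB1.ProjSpaceOver n S ↘ S)) E) (hFfl : FlatMod.IsFlatOver (i ≫ (CohB1.ProjSpaceOver n S ↘ S)) F)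
    (hss : ∀ (t : Spec (CommRingCat.of ℂ) ⟶ S), t ≫ sS = 𝟙 (Spec (CommRingCat.of ℂ)) →
      @ShStab.IsSemistable ℂ _ (PicF.XT (i ≫ (CohB1.ProjSpaceOver n S ↘ S)) (Over.mk t)) ⟨PicF.XTproj (i ≫ (CohB1.ProjSpaceOver n S ↘ S)) (Over.mk t)⟩ ((Scheme.Modules.pullback (pullback.fst (i ≫ (CohB1.ProjSpaceOver n S ↘ S)) (Over.mk t).hom ≫ i)).obj (Twist.twistOver n S 1)) ((Scheme.Modules.pullback (pullback.fst (i ≫ (CohB1.ProjSpaceOver n S ↘ S)) (Over.mk t).hom)).obj E) d ∧
      @ShStab.IsSemistable ℂ _ (PicF.XT (i ≫ (CohB1.ProjSpaceOver n S ↘ S)) (Over.mk t)) ⟨PicF.XTproj (i ≫ (CohB1.ProjSpaceOver n S ↘ S)) (Over.mk t)⟩ ((Scheme.Modules.pullback (pullback.fst (i ≫ (CohB1.ProjSpaceOver n S ↘ S)) (Over.mk t).hom ≫ i)).obj (Twist.twistOver n S 1)) ((Scheme.Modules.pullback (pullback.fst (i ≫ (CohB1.ProjSpaceOver n S ↘ S)) (Over.mk t).hom)).obj F) d ∧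
      ∀ pE pF : Polynomial ℚ, @ShStab.IsHilbPoly ℂ _ (PicF.XT (i ≫ (CohB1.ProjSpaceOver n S ↘ S)) (Over.mk t)) ⟨PicF.XTproj (i ≫ (CohB1.ProjSpaceOver n S ↘ S)) (Over.mk t)⟩ ((Scheme.Modules.pullback (pullback.fst (i ≫ (CohB1.ProjSpaceOver n S ↘ S)) (Over.mk t).hom ≫ i)).obj (Twist.twistOver n S 1)) ((Scheme.Modules.pullback (pullback.fst (i ≫ (CohB1.ProjSpaceOver n S ↘ S)) (Over.mk t).hom)).obj E) pE →
        @ShStab.IsHilbPoly ℂ _ (PicF.XT (i ≫ (CohB1.ProjSpaceOver n S ↘ S)) (Over.mk t)) ⟨PicF.XTproj (i ≫ (CohB1.ProjSpaceOver n S ↘ S)) (Over.mk t)⟩ ((Scheme.Modules.pullback (pullback.fst (i ≫ (CohB1.ProjSpaceOver n S ↘ S)) (Over.mk t).hom ≫ i)).obj (Twist.twistOver n S 1)) ((Scheme.Modules.pullback (pullback.fst (i ≫ (CohB1.ProjSpaceOver n S ↘ S)) (Over.mk t).hom)).obj F) pF → StabCat.RedEq d pE pF)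
    (hLF : ∀ (t : Spec (CommRingCat.of ℂ) ⟶ S), t ≫ sS = 𝟙 (Spec (CommRingCat.of ℂ)) →
      (∃ sE : LTSeries (Subobject ((Scheme.Modules.pullback (pullback.fst (i ≫ (CohB1.ProjSpaceOver n S ↘ S)) (Over.mk t).hom)).obj E)), @ShStab.IsJHFiltration ℂ _ (PicF.XT (i ≫ (CohB1.ProjSpaceOver n S ↘ S)) (Over.mk t)) ⟨PicF.XTproj (i ≫ (CohB1.ProjSpaceOver n S ↘ S)) (Over.mk t)⟩ ((Scheme.Modules.pullback (pullback.fst (i ≫ (CohB1.ProjSpaceOver n S ↘ S)) (Over.mk t).hom ≫ i)).obj (Twist.twistOver n S 1)) ((Scheme.Modules.pullback (pullback.fst (i ≫ (CohB1.ProjSpaceOver n S ↘ S)) (Over.mk t).hom)).obj E) d sE ∧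
          ∀ x ∈ Set.range (PicF.secT (i ≫ (CohB1.ProjSpaceOver n S ↘ S)) ξ hξ (Over.mk t)).base, ∃ U : (PicF.XT (i ≫ (CohB1.ProjSpaceOver n S ↘ S)) (Over.mk t)).Opens, x ∈ U ∧ FlatMod.IsFinLocFree ((StabCat.grObj sE).restrict U.ι)) ∧
      (∃ sF : LTSeries (Subobject ((Scheme.Modules.pullback (pullback.fst (i ≫ (CohB1.ProjSpaceOver n S ↘ S)) (Over.mk t).hom)).obj F)), @ShStab.IsJHFiltration ℂ _ (PicF.XT (i ≫ (CohB1.ProjSpaceOver n S ↘ S)) (Over.mk t)) ⟨PicF.XTproj (i ≫ (CohB1.ProjSpaceOver n S ↘ S)) (Over.mk t)⟩ ((Scheme.Modules.pullback (pullback.fst (i ≫ (CohB1.ProjSpaceOver n S ↘ S)) (Over.mk t).hom ≫ i)).obj (Twist.twistOver n S 1)) ((Scheme.Modules.pullback (pullback.fst (i ≫ (CohB1.ProjSpaceOver n S ↘ S)) (Over.mk t).hom)).obj F) d sF ∧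
          ∀ x ∈ Set.range (PicF.secT (i ≫ (CohB1.ProjSpaceOver n S ↘ S)) ξ hξ (Over.mk t)).base, ∃ U : (PicF.XT (i ≫ (CohB1.ProjSpaceOver n S ↘ S)) (Over.mk t)).Opens, x ∈ U ∧ FlatMod.IsFinLocFree ((StabCat.grObj sF).restrict U.ι)))
    (φ : E ⟶ F) (hφ : (Scheme.Modules.pullback ξ).map φ = 0) : φ = 0 := by
  haveI : IsLocallyNoetherian S := LocallyOfFiniteType.isLocallyNoetherian sS
  haveI : CompactSpace S := QuasiCompact.compactSpace_of_compactSpace sS
  let P := CohB1.ProjSpaceOver n S ↘ S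
  haveI : IsProper P := Variety2.isProper_projSpaceOver_toBase n S
  let f := i ≫ P
  haveI : IsProper f := inferInstance
  haveI : IsLocallyNoetherian X := LocallyOfFiniteType.isLocallyNoetherian f
  haveI : CompactSpace X := QuasiCompact.compactSpace_of_compactSpace f
  haveI := hE.1
  haveI := hF.1
  by_contra hne
  let I := Abelian.image φ
  let q₀ : E ⟶ I := Abelian.factorThruImage φ
  let j₀ : I ⟶ F := Abelian.image.ι φ
  have hfac : q₀ ≫ j₀ = φ := Abelian.image.fac φ
  have hI : Coh.IsCoh I := by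
    haveI := (QCohMod.isCoh_cokernel φ hF).1
    exact QCohMod.isCoh_kernel (cokernel.π φ) hF
  have hne' : (CohB1.support I).Nonempty := by
    rw [Set.nonempty_iff_ne_empty]
    intro h
    have hz := (QCohMod.isZero_iff_support_eq_empty I).mpr h
    exact hne (by rw [← hfac, hz.eq_of_tgt q₀ 0, zero_comp])
  obtain ⟨x, hxI, hxc⟩ := (CohTwo.isClosed_support I hI).exists_closed_singleton hne'
  -- a complex point below the closed point
  let s : S := f.base x
  have hsc : IsClosed ({s} : Set S) := by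
    have h := f.isClosedMap _ hxc
    rwa [Set.image_singleton] at h
  obtain ⟨⟨t, ht⟩, htp⟩ := (pointEquivClosedPoint sS).surjective ⟨s, hsc⟩
  let pt : (Spec (CommRingCat.of ℂ) : Scheme.{0}) := IsLocalRing.closedPoint ℂ
  have hts : t.base pt = s := congrArg Subtype.val htp
  haveI : IsClosedImmersion t := isClosedImmersion_of_comp_eq_id _ _ ht
  obtain ⟨_, ⟨V, hV, rfl⟩, hsV, -⟩ :=
    S.isBasis_affineOpens.exists_subset_of_mem_open (Set.mem_univ s) isOpen_univ
  haveI : IsNoetherianRing Γ(S, V) := IsLocallyNoetherian.component_noetherian ⟨V, hV⟩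
  haveI : IsNoetherianRing (CommRingCat.of Γ(S, V)) := ‹IsNoetherianRing Γ(S, V)›
  haveI : IsNoetherianRing Γ(Spec (CommRingCat.of Γ(S, V)), ⊤) :=
    isNoetherianRing_of_ringEquiv _ (Scheme.ΓSpecIso (CommRingCat.of Γ(S, V))).symm.commRingCatIsoToRingEquiv
  have H0 := CohBase.isPullback_preimageToSpec f hV
  let q := CohBase.preimageToSpec f (V := V)
  let j := (f ⁻¹ᵁ V).ι
  haveI : IsLocallyNoetherian (f ⁻¹ᵁ V : X.Opens).toScheme := inferInstance
  let σ := H0.lift (hV.fromSpec ≫ ξ) (𝟙 _) (by rw [Category.assoc, hξ, Category.comp_id, Category.id_comp])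
  have hσj : σ ≫ j = hV.fromSpec ≫ ξ := H0.lift_fst _ _ _
  have hσq : σ ≫ q = 𝟙 _ := H0.lift_snd _ _ _
  have htV : Set.range t.base ⊆ Set.range hV.fromSpec.base := by
    rw [hV.range_fromSpec]
    rintro _ ⟨w, rfl⟩
    rw [Subsingleton.elim w pt, hts]
    exact hsV
  let t' := IsOpenImmersion.lift hV.fromSpec t htV
  have ht' : t' ≫ hV.fromSpec = t := IsOpenImmersion.lift_fac _ _ _
  haveI : IsClosedImmersion t' := by
    haveI : IsClosedImmersion (t' ≫ hV.fromSpec) := by rw [ht']; infer_instance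
    exact IsClosedImmersion.of_comp t' hV.fromSpec
  let T : Over S := Over.mk t
  let fst : PicF.XT f T ⟶ X := pullback.fst f T.hom
  let snd : PicF.XT f T ⟶ Spec (CommRingCat.of ℂ) := pullback.snd f T.hom
  have hw : fst ≫ f = (snd ≫ t') ≫ hV.fromSpec := by
    rw [Category.assoc, ht']; exact pullback.condition
  let ι := H0.lift fst (snd ≫ t') hw
  have hιj : ι ≫ j = fst := H0.lift_fst _ _ _
  have hιq : ι ≫ q = snd ≫ t' := H0.lift_snd _ _ _
  have H : IsPullback ι snd q t' := by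
    refine IsPullback.of_right ?_ hιq H0
    rw [hιj, ht']
    exact IsPullback.of_hasPullback f T.hom
  let σZ := PicF.secT f ξ hξ T
  have hσZ : σZ ≫ ι = t' ≫ σ := by
    refine H0.hom_ext ?_ ?_
    · rw [Category.assoc, Category.assoc, hιj, hσj, ← Category.assoc t', ht']
      exact pullback.lift_fst _ _ _
    · rw [Category.assoc, Category.assoc, hιq, hσq, Category.comp_id, ← Category.assoc]
      exact (congrArg (· ≫ t') (pullback.lift_snd _ _ _)).trans (Category.id_comp t')
  let R := Scheme.Modules.restrictFunctor j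
  let e : ∀ M : X.Modules, R.obj M ≅ (Scheme.Modules.pullback j).obj M :=
    fun M => (Scheme.Modules.restrictFunctorIsoPullback j).app M
  have hG : Coh.IsCoh (R.obj F) :=
    QCohMod.isCoh_of_iso (e F).symm (FlatStrata.isCoh_pullback j hF)
  have hfl : FlatMod.IsFlatOver q (R.obj F) := CohBase.isFlatOver_restrict_preimage f hV F hFfl
  have hconj : ∀ (W : Scheme.{0}) (g : W ⟶ (f ⁻¹ᵁ V : X.Opens)),
      (Scheme.Modules.pullback (g ≫ j)).map φ = 0 → (Scheme.Modules.pullback g).map (R.map φ) = 0 := by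
    intro W g h
    have h1 := (FibreVanish.pullback_comp_map_zero_iff g j φ).mp h
    have hn := (Scheme.Modules.restrictFunctorIsoPullback j).hom.naturality φ
    have h2 : R.map φ = (e E).hom ≫ (Scheme.Modules.pullback j).map φ ≫ (e F).inv := by
      rw [← Category.assoc, Iso.eq_comp_inv]
      exact hn
    rw [h2, Functor.map_comp, Functor.map_comp, h1, zero_comp, comp_zero]
  have hφσ : (Scheme.Modules.pullback σ).map (R.map φ) = 0 := by
    refine hconj _ σ ?_
    rw [hσj]
    refine (FibreVanish.pullback_comp_map_zero_iff hV.fromSpec ξ φ).mpr ?_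
    rw [hφ, Functor.map_zero]
  have hpoint : (σ ≫ j).base (t'.base pt) = (t ≫ ξ).base pt := by
    show (t' ≫ σ ≫ j).base pt = _
    rw [hσj, ← Category.assoc, ht']
  have hfree : Module.Free ((f ⁻¹ᵁ V : X.Opens).toScheme.presheaf.stalk (σ (t' pt)))
      ((R.obj F).presheaf.stalk (σ (t' pt))) := by
    obtain ⟨U, hxU, hU⟩ := S15270.result S sS n X i d ξ hξ F hF hFfl (fun t ht => (hss t ht).2.1)
      (fun t ht => (hLF t ht).2) t ht _ ⟨pt, rfl⟩
    have hU' : j (σ (t' pt)) ∈ U := by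
      show (σ ≫ j).base (t'.base pt) ∈ U
      rw [hpoint]; exact hxU
    haveI : GrFree.FreeAt F (j (σ (t' pt))) := GrFree.freeAt_of_nhd hU' hU
    letI := QCohMod.stalkAlg j (σ (t' pt))
    exact GrFree.freeAt_of_iso (e F).symm _
      (Module.Free.of_equiv (QCohMod.pullStalkEquiv j F (σ (t' pt))))
  letI : (PicF.XT f T).Over (Spec (CommRingCat.of ℂ)) := ⟨PicF.XTproj f T⟩
  haveI : IsProper ((PicF.XT f T) ↘ Spec (CommRingCat.of ℂ)) := by
    show IsProper (pullback.snd f T.hom)
    infer_instance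
  obtain ⟨hirr, hdim⟩ := hfib t ht
  obtain ⟨hEss, hFss, hred⟩ := hss t ht
  obtain ⟨⟨sE, hsE, hgrE⟩, ⟨sF, hsF, hgrF⟩⟩ := hLF t ht
  haveI := hirr
  let L := (Scheme.Modules.pullback (fst ≫ i)).obj (Twist.twistOver n S 1)
  have hL : CohB1.IsAmple L := by
    let U := CohB1.ProjSpaceOver.toBase n S ⁻¹ᵁ V
    have hA := (FlatStrata.isRelAmple_twistOne n S).2 ⟨V, hV⟩
    have hrange : Set.range (fst ≫ i).base ⊆ Set.range U.ι.base := by
      rw [Scheme.Opens.range_ι]
      rintro _ ⟨z, rfl⟩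
      show (fst ≫ f).base z ∈ V
      rw [show fst ≫ f = snd ≫ t from pullback.condition]
      show t.base (snd.base z) ∈ V
      rw [Subsingleton.elim (snd.base z) pt, hts]
      exact hsV
    let g := IsOpenImmersion.lift U.ι (fst ≫ i) hrange
    have hg : g ≫ U.ι = fst ≫ i := IsOpenImmersion.lift_fac _ _ _
    haveI : IsClosedImmersion fst := by
      show IsClosedImmersion (pullback.fst f T.hom)
      haveI : IsClosedImmersion T.hom := ‹IsClosedImmersion t›
      infer_instance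
    haveI : IsClosedImmersion (g ≫ U.ι) := by rw [hg]; infer_instance
    haveI : IsClosedImmersion g := IsClosedImmersion.of_comp g U.ι
    refine Ega2Proj.isAmple_of_iso ?_ (Chow.isAmple_pullback_of_isAffineHom g hA)
    exact (Scheme.Modules.pullback g).mapIso ((Scheme.Modules.restrictFunctorIsoPullback U.ι).app _) ≪≫
      (Scheme.Modules.pullbackComp g U.ι).app _ ≪≫ (Scheme.Modules.pullbackCongr hg).app _
  let α : ∀ M : X.Modules, (Scheme.Modules.pullback ι).obj (R.obj M) ≅
      (Scheme.Modules.pullback fst).obj M := fun M =>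
    (Scheme.Modules.pullback ι).mapIso (e M) ≪≫ (Scheme.Modules.pullbackComp ι j).app M ≪≫
      (Scheme.Modules.pullbackCongr hιj).app M
  haveI : IsLocallyNoetherian (PicF.XT f T) := HilbStab.isLocallyNoetherian ℂ
  obtain ⟨pE, hpE⟩ := HilbStab.exists_isHilbPoly ℂ (PicF.XT f T) hL hEss.1
  obtain ⟨pF, hpF⟩ := HilbStab.exists_isHilbPoly ℂ (PicF.XT f T) hL hFss.1
  have hdetect : ∀ χ : (Scheme.Modules.pullback ι).obj (R.obj E) ⟶ (Scheme.Modules.pullback ι).obj (R.obj F),
      (Scheme.Modules.pullback σZ).map χ = 0 → χ = 0 := by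
    intro χ hχ
    have h := S15267.result (PicF.XT f T) d hdim L hL _ _ hEss hFss pE pF hpE hpF (hred pE pF hpE hpF)
      σZ (pullback.lift_snd _ _ _) sE hsE hgrE sF hsF hgrF ((α E).inv ≫ χ ≫ (α F).hom) (by
        rw [Functor.map_comp, Functor.map_comp, hχ, zero_comp, comp_zero])
    rw [← cancel_epi (α E).inv, ← cancel_mono (α F).hom, Category.assoc, h]
    simp
  obtain ⟨y, hy⟩ : ∃ y : (f ⁻¹ᵁ V : X.Opens).toScheme, j y = x := ⟨⟨x, hsV⟩, rfl⟩
  have hqy : q y = t' pt := by
    apply hV.fromSpec.isOpenEmbedding.injective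
    rw [← Scheme.Hom.comp_apply, ← Scheme.Hom.comp_apply, ← H0.w, ht', Scheme.Hom.comp_apply, hy]
    exact hts.symm
  have hzero := FibreVanish.stalk_eq_zero q σ hσq (R.map φ) hG hfl hφσ H hσZ pt hfree hdetect y hqy
  -- so the image vanishes at the closed point
  refine hxI ?_
  subst hy
  have hφx : ∀ u, KTheory.LocFree.stalkₗ φ (j y) u = 0 := by
    intro u
    let N := Scheme.Modules.restrictStalkNatIso j y
    obtain ⟨u', rfl⟩ := (ConcreteCategory.bijective_of_isIso (N.app E).hom).2 u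
    have h := congr($(N.hom.naturality φ) u')
    exact h.symm.trans ((congrArg (N.app F).hom (hzero u')).trans (map_zero _))
  have hq₀ : ∀ u, KTheory.LocFree.stalkₗ q₀ (j y) u = 0 := fun u => by
    apply (QCohMod.mono_iff_stalk j₀).mp inferInstance (j y)
    show KTheory.LocFree.stalkₗ j₀ (j y) (KTheory.LocFree.stalkₗ q₀ (j y) u) = _
    rw [← LinearMap.comp_apply, ← GrFree.stalkₗ_comp, hfac, hφx]
    exact (map_zero _).symm
  refine ⟨fun a b => ?_⟩
  obtain ⟨u, rfl⟩ := (QCohMod.epi_iff_stalk q₀).mp inferInstance (j y) a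
  obtain ⟨v, rfl⟩ := (QCohMod.epi_iff_stalk q₀).mp inferInstance (j y) b
  exact (hq₀ u).trans (hq₀ v).symm

end Groth.Agent.S15268
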