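import Groth.Statements.S1527
import Groth.Agent.EulerDeg.Supported
import Groth.Agent.QCohMod.FTCriterion
-- import your own Groth.Agent.* helpers here

set_option autoImplicit false
universe u
open CategoryTheory CategoryTheory.Limits AlgebraicGeometry
open Variety

namespace Groth.Agent.S1527

/-- On a proper scheme over a field, a coherent module whose support has dimension at most zero is
globally generated (a quotient of a free module). -/
theorem result (k : Type u) [Field k] (X : Scheme.{u}) [X.Over (Spec (CommRingCat.of k))] [IsProper (X ↘ (Spec (CommRingCat.of k)))]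
    (F : X.Modules) (hF : Coh.IsCoh F) (hsupp : topologicalKrullDim (CohB1.support F) ≤ 0) :
    Curv2.IsGloballyGenerated F := by
  have := hF.1
  have := Groth.EulerDeg.noetherianSpace_of_proper k X
  refine ⟨(Γ(F, (⊤ : X.Opens)) : Type u), Groth.QCohMod.freeHom F id, Groth.QCohMod.epi_freeHom F id fun x => eq_top_iff.mpr fun t _ => ?_⟩
  obtain ⟨s, rfl⟩ := Groth.EulerDeg.surjective_germ_top
    (Groth.EulerDeg.supportedAtClosed_of_dim_le_zero hsupp) x t
  exact Submodule.subset_span ⟨s, rfl⟩

end Groth.Agent.S1527
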