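import Groth.Statements.S15285
-- import your own Groth.Agent.* helpers here

set_option autoImplicit false
universe v v' u u'
open PicCat

namespace Groth.Agent.S15285

open CategoryTheory MonoidalCategory Functor.LaxMonoidal in
theorem map_whisker_unit {C : Type u} [Category.{v} C] [MonoidalCategory C]
    {D : Type u'} [Category.{v'} D] [MonoidalCategory D] [IsGroupoid D]
    (F : C ⥤ D) [F.LaxMonoidal] (X : C) (φ : 𝟙_ C ⟶ 𝟙_ C) :
    F.map ((λ_ X).inv ≫ φ ▷ X ≫ (λ_ X).hom) =
      (λ_ (F.obj X)).inv ≫ (ε F ≫ F.map φ ≫ inv (ε F)) ▷ F.obj X ≫ (λ_ (F.obj X)).hom := by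
  have h : (λ_ (F.obj X)).inv ≫ ε F ▷ F.obj X ≫ μ F (𝟙_ C) X = F.map (λ_ X).inv := by
    rw [← cancel_mono (F.map (λ_ X).hom)]
    simp [← left_unitality]
  rw [left_unitality F X]
  simp only [comp_whiskerRight, Category.assoc]
  rw [← comp_whiskerRight_assoc (inv (ε F)) (ε F), IsIso.inv_hom_id, id_whiskerRight,
    Category.id_comp, μ_natural_left_assoc, reassoc_of% h, F.map_comp, F.map_comp]

open CategoryTheory MonoidalCategory in
/-- Let C and D be Picard categories (monoidal groupoids in which tensoring on either side with any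
object is an equivalence of categories) and F : C ⥤ D a lax monoidal functor. If F induces a
bijection on isomorphism classes of objects (it is essentially surjective, and F X ≅ F Y only when X
≅ Y) and a bijection on endomorphisms of the unit object, then F is an equivalence of categories. -/
theorem result
    {C : Type u} [Category.{v} C] [MonoidalCategory C] [IsGroupoid C]
    {D : Type u'} [Category.{v'} D] [MonoidalCategory D] [IsGroupoid D]
    (hC : ∀ X : C, (tensorLeft X).IsEquivalence ∧ (tensorRight X).IsEquivalence)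
    (hD : ∀ X : D, (tensorLeft X).IsEquivalence ∧ (tensorRight X).IsEquivalence)
    (F : C ⥤ D) [F.LaxMonoidal] [F.EssSurj]
    (h0 : ∀ X Y : C, Nonempty (F.obj X ≅ F.obj Y) → Nonempty (X ≅ Y))
    (h1 : Function.Bijective (fun φ : 𝟙_ C ⟶ 𝟙_ C => F.map φ)) :
    F.IsEquivalence := by
  have key : ∀ X : C, Function.Bijective (fun φ : X ⟶ X => F.map φ) := by
    intro X
    have hCX : (tensorRight X).IsEquivalence := (hC X).2
    have hDX : (tensorRight (F.obj X)).IsEquivalence := (hD _).2
    let a : (𝟙_ C ⟶ 𝟙_ C) → (X ⟶ X) := fun φ => (λ_ X).inv ≫ φ ▷ X ≫ (λ_ X).hom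
    let b : (𝟙_ C ⟶ 𝟙_ C) → (F.obj X ⟶ F.obj X) := fun φ => (λ_ (F.obj X)).inv ≫
      (Functor.LaxMonoidal.ε F ≫ F.map φ ≫ inv (Functor.LaxMonoidal.ε F)) ▷ F.obj X ≫
        (λ_ (F.obj X)).hom
    have ha : Function.Bijective a := by
      refine ⟨fun φ ψ h => ?_, fun ψ => ?_⟩
      · exact (tensorRight X).map_injective (by simpa [a] using h)
      · obtain ⟨φ, hφ⟩ := (tensorRight X).map_surjective ((λ_ X).hom ≫ ψ ≫ (λ_ X).inv)
        exact ⟨φ, by simp [a, show φ ▷ X = _ from hφ]⟩
    have hb : Function.Bijective b := by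
      refine ⟨fun φ ψ h => h1.injective ?_, fun ψ => ?_⟩
      · have := (tensorRight (F.obj X)).map_injective (X := 𝟙_ D) (Y := 𝟙_ D)
          (show _ ▷ F.obj X = _ ▷ F.obj X from (cancel_mono _).1 ((cancel_epi _).1 h))
        exact (cancel_mono (inv (Functor.LaxMonoidal.ε F))).1
          ((cancel_epi (Functor.LaxMonoidal.ε F)).1 this)
      · obtain ⟨φ, hφ⟩ := (tensorRight (F.obj X)).map_surjective
          ((λ_ (F.obj X)).hom ≫ ψ ≫ (λ_ (F.obj X)).inv)
        obtain ⟨φ', hφ'⟩ := h1.surjective (inv (Functor.LaxMonoidal.ε F) ≫ φ ≫ Functor.LaxMonoidal.ε F)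
        refine ⟨φ', ?_⟩
        change F.map φ' = _ at hφ'
        simp only [b, hφ', Category.assoc, IsIso.hom_inv_id_assoc, IsIso.hom_inv_id, Category.comp_id]
        simp [show φ ▷ F.obj X = _ from hφ]
    have hab : (fun φ : X ⟶ X => F.map φ) ∘ a = b := funext (map_whisker_unit F X)
    exact (Function.Bijective.of_comp_iff _ ha).1 (hab ▸ hb)
  have : F.Faithful := ⟨fun {X Y} f g h => by
    have := (key X).injective (a₁ := f ≫ inv g) (a₂ := 𝟙 X) (by simp [h])
    simpa using congrArg (· ≫ g) this⟩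
  have : F.Full := ⟨fun {X Y} f => by
    obtain ⟨e⟩ := h0 X Y ⟨asIso f⟩
    obtain ⟨φ, hφ⟩ := (key X).surjective (f ≫ F.map e.inv)
    change F.map φ = _ at hφ
    exact ⟨φ ≫ e.hom, by simp [hφ, ← F.map_comp]⟩⟩
  exact { }

end Groth.Agent.S15285
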