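import Groth.Statements.S15286
import Mathlib.CategoryTheory.Monoidal.Skeleton
import Mathlib.Tactic.CategoryTheory.Monoidal.Basic

set_option autoImplicit false
universe v v' u u'
open PicCat

namespace Groth.Agent.S15286

open CategoryTheory MonoidalCategory

section
variable {D : Type u'} [Category.{v'} D] [MonoidalCategory D]

/-- The action of an endomorphism of the unit on an object. -/
abbrev act (φ : 𝟙_ D ⟶ 𝟙_ D) (Z : D) : Z ⟶ Z := (λ_ Z).inv ≫ φ ▷ Z ≫ (λ_ Z).hom

theorem act_naturality (φ : 𝟙_ D ⟶ 𝟙_ D) {Z W : D} (f : Z ⟶ W) :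
    act φ Z ≫ f = f ≫ act φ W := by
  simp only [act, Category.assoc, ← leftUnitor_naturality, ← whisker_exchange_assoc,
    leftUnitor_inv_naturality_assoc]

theorem act_comp (φ ψ : 𝟙_ D ⟶ 𝟙_ D) (Z : D) : act (φ ≫ ψ) Z = act φ Z ≫ act ψ Z := by
  simp [act]

theorem act_one (Z : D) : act (𝟙 (𝟙_ D)) Z = 𝟙 Z := by simp [act]

theorem act_bijective (Z : D) [(tensorRight Z).IsEquivalence] :
    Function.Bijective (fun φ : 𝟙_ D ⟶ 𝟙_ D => act φ Z) := by
  refine ⟨fun φ ψ h => (tensorRight Z).map_injective ((cancel_mono _).1 ((cancel_epi _).1 h)),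
    fun f => ?_⟩
  obtain ⟨φ, hφ⟩ := (tensorRight Z).map_surjective ((λ_ Z).hom ≫ f ≫ (λ_ Z).inv)
  exact ⟨φ, by simp [act, show φ ▷ Z = _ from hφ]⟩

theorem act_whiskerRight (φ : 𝟙_ D ⟶ 𝟙_ D) (Z W : D) : act φ Z ▷ W = act φ (Z ⊗ W) := by
  simp only [act]
  monoidal

theorem act_whiskerLeft [BraidedCategory D] (φ : 𝟙_ D ⟶ 𝟙_ D) (Z W : D) :
    Z ◁ act φ W = act φ (Z ⊗ W) := by
  have h := BraidedCategory.braiding_naturality_right Z (act φ W)
  rw [act_whiskerRight, ← act_naturality φ] at h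
  exact (cancel_mono _).1 h

theorem act_tensor [BraidedCategory D] (φ ψ : 𝟙_ D ⟶ 𝟙_ D) (Z W : D) :
    act φ Z ⊗ₘ act ψ W = act (φ ≫ ψ) (Z ⊗ W) := by
  rw [MonoidalCategory.tensorHom_def, act_whiskerRight, act_whiskerLeft, act_comp]

end

open CategoryTheory MonoidalCategory in
/-- Let C be a Picard category, D a commutative (braided) Picard category, F, G : C ⥤ D lax monoidal
functors and θ₀ : F ⟶ G a monoidal natural transformation. Identify an endomorphism φ of the unit of
D with the automorphism λ⁻¹ ≫ (φ ▷ Z) ≫ λ of any object Z. Then the monoidal natural transformations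
F ⟶ G form a torsor under the monoid homomorphisms χ from the monoid of isomorphism classes of C to
End(𝟙_D): every monoidal θ : F ⟶ G is X ↦ θ₀_X ≫ (action of χ[X] on G X) for a unique such χ, and
for every χ this formula defines a monoidal natural transformation. (The published statement allows
D non-commutative; for a non-braided monoidal groupoid the classes so obtained are crossed rather
than plain homomorphisms, so D is taken braided here.) -/
theorem result
    {C : Type u} [Category.{v} C] [MonoidalCategory C] [IsGroupoid C]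
    {D : Type u'} [Category.{v'} D] [MonoidalCategory D] [BraidedCategory D] [IsGroupoid D]
    (hC : ∀ X : C, (tensorLeft X).IsEquivalence ∧ (tensorRight X).IsEquivalence)
    (hD : ∀ X : D, (tensorLeft X).IsEquivalence ∧ (tensorRight X).IsEquivalence)
    (F G : C ⥤ D) [F.LaxMonoidal] [G.LaxMonoidal] (θ₀ : F ⟶ G) [NatTrans.IsMonoidal θ₀] :
    (∀ θ : F ⟶ G, NatTrans.IsMonoidal θ →
      ∃! χ : Skeleton C →* End (𝟙_ D), ∀ X : C,
        θ.app X = θ₀.app X ≫ (λ_ (G.obj X)).inv ≫
          ((χ (toSkeleton X) : 𝟙_ D ⟶ 𝟙_ D) ▷ G.obj X) ≫ (λ_ (G.obj X)).hom) ∧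
    (∀ χ : Skeleton C →* End (𝟙_ D), ∃ θ : F ⟶ G, NatTrans.IsMonoidal θ ∧ ∀ X : C,
        θ.app X = θ₀.app X ≫ (λ_ (G.obj X)).inv ≫
          ((χ (toSkeleton X) : 𝟙_ D ⟶ 𝟙_ D) ▷ G.obj X) ≫ (λ_ (G.obj X)).hom) := by
  constructor
  · intro θ hθ
    have hex : ∀ X : C, ∃ c : 𝟙_ D ⟶ 𝟙_ D, θ.app X = θ₀.app X ≫ act c (G.obj X) := by
      intro X
      haveI := (hD (G.obj X)).2
      obtain ⟨c, hc⟩ := (act_bijective (G.obj X)).surjective (inv (θ₀.app X) ≫ θ.app X)
      exact ⟨c, by rw [show act c (G.obj X) = _ from hc, IsIso.hom_inv_id_assoc]⟩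
    choose c hc using hex
    have huniq : ∀ (X : C) (a b : 𝟙_ D ⟶ 𝟙_ D), act a (G.obj X) = act b (G.obj X) → a = b :=
      fun X a b h => haveI := (hD (G.obj X)).2; (act_bijective (G.obj X)).injective h
    have hiso : ∀ {X Y : C}, (X ≅ Y) → c X = c Y := by
      intro X Y e
      refine huniq Y _ _ ((cancel_epi (G.map e.hom)).1 ((cancel_epi (θ₀.app X)).1 ?_))
      have h := θ.naturality e.hom
      rw [hc, hc, NatTrans.naturality_assoc] at h
      rw [h, Category.assoc, act_naturality]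
    have hone : c (𝟙_ C) = 𝟙 _ := by
      refine huniq (𝟙_ C) _ _ ?_
      have h := NatTrans.IsMonoidal.unit (τ := θ)
      rw [hc, NatTrans.IsMonoidal.unit_assoc] at h
      rw [act_one]
      exact (cancel_epi (Functor.LaxMonoidal.ε G)).1 (h.trans (Category.comp_id _).symm)
    have hmul : ∀ X Y : C, c (X ⊗ Y) = c X ≫ c Y := by
      intro X Y
      refine huniq (X ⊗ Y) _ _ ?_
      have h := NatTrans.IsMonoidal.tensor (τ := θ) X Y
      rw [hc, hc, hc, ← tensorHom_comp_tensorHom, act_tensor, Category.assoc, act_naturality,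
        NatTrans.IsMonoidal.tensor_assoc] at h
      exact (cancel_epi (Functor.LaxMonoidal.μ G X Y)).1 ((cancel_epi _).1 h)
    have hout : ∀ X : C, c (toSkeleton X).out = c X := fun X =>
      hiso (fromSkeletonToSkeletonIso X)
    let χ : Skeleton C →* End (𝟙_ D) :=
      { toFun := fun s => c s.out
        map_one' := by rw [Skeleton.one_eq]; exact (hout _).trans hone
        map_mul' := fun a b => by
          show c (a * b).out = c b.out ≫ c a.out
          rw [Skeleton.mul_eq, hout, hmul]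
          haveI := (hD (G.obj (𝟙_ C))).2
          refine huniq (𝟙_ C) _ _ ?_
          rw [act_comp, act_comp, act_naturality] }
    refine ⟨χ, fun X => ?_, fun χ' hχ' => MonoidHom.ext fun s => ?_⟩
    · show _ = θ₀.app X ≫ act (c (toSkeleton X).out) (G.obj X)
      rw [hout, hc]
    · show χ' s = c s.out
      have hs : toSkeleton s.out = s := Quotient.out_eq s
      refine huniq s.out _ _ ((cancel_epi (θ₀.app s.out)).1 ?_)
      have h := hχ' s.out
      rw [hs] at h
      exact h.symm.trans (hc s.out)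
  · intro χ
    refine ⟨{ app := fun X => θ₀.app X ≫ act (χ (toSkeleton X) : 𝟙_ D ⟶ 𝟙_ D) (G.obj X)
              naturality := fun X Y f => ?_ }, ⟨?_, fun X Y => ?_⟩, fun X => rfl⟩
    · rw [show toSkeleton Y = toSkeleton X from Quotient.sound ⟨(asIso f).symm⟩,
        NatTrans.naturality_assoc, Category.assoc, act_naturality]
    · show Functor.LaxMonoidal.ε F ≫ θ₀.app (𝟙_ C) ≫ act (χ (toSkeleton (𝟙_ C)) : 𝟙_ D ⟶ 𝟙_ D) _ = _
      rw [← Skeleton.one_eq, map_one, End.one_def, act_one, Category.comp_id,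
        NatTrans.IsMonoidal.unit]
    · show Functor.LaxMonoidal.μ F X Y ≫ θ₀.app (X ⊗ Y) ≫ act (χ (toSkeleton (X ⊗ Y)) : 𝟙_ D ⟶ 𝟙_ D) _ = _
      rw [Skeleton.toSkeleton_tensorObj, map_mul, End.mul_def, NatTrans.IsMonoidal.tensor_assoc,
        ← tensorHom_comp_tensorHom, Category.assoc, act_tensor, act_naturality]
      congr 2
      rw [act_comp, act_comp, act_naturality]

end Groth.Agent.S15286
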