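import Groth.Statements.S15287
import Groth.Agent.Chow.AmpleTwist
import Groth.Agent.Pi1Ample.FiniteAffine

set_option autoImplicit false
universe u
open CategoryTheory AlgebraicGeometry
open PicF
open Opposite TopologicalSpace Groth.PicAux Groth.PropsBasic.Ample

set_option backward.isDefEq.respectTransparency.types false

namespace Groth.Agent.S15287

/-- Let Y be a scheme proper over a field k carrying an ample invertible O_Y-module A, let L be an
invertible O_Y-module and y_1, …, y_m finitely many points of Y. Then there is N₀ such that for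
every N ≥ N₀ the module L ⊗ A^{⊗ N} has a global section generating it at every y_i (each y_i lies
in the largest open over which the section is a basis). (The published statement takes Y projective
over k and A very ample; this row takes Y proper over k and A ample.) -/
theorem result
    (k : Type u) [Field k] (Y : Scheme.{u}) (f : Y ⟶ Spec (CommRingCat.of k)) [IsProper f]
    (A : Y.Modules) (hA : CohB1.IsAmple A) (L : Y.Modules) (hL : PicF.IsInvertible L)
    (ι : Type) [Finite ι] (y : ι → ↥Y) :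
    ∃ N₀ : ℕ, ∀ N : ℕ, N₀ ≤ N →
      ∃ s : Coh.structureModule Y ⟶ CohB1.tensorMod L (CohB1.tensorPow A N),
        ∀ i : ι, y i ∈ CohB1.genLocus (CohB1.tensorMod L (CohB1.tensorPow A N)) s := by
  classical
  -- the points without proper specialization among the given ones
  let Z : Set Y := Set.range y
  have hZ : Z.Finite := Set.finite_range y
  let Mset : Set Y := {z ∈ Z | ∀ w ∈ Z, z ⤳ w → z = w}
  have hMfin : Mset.Finite := hZ.subset fun z hz => hz.1
  let M := hMfin.toFinset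
  have hM : ∀ z ∈ Z, ∃ w ∈ M, z ⤳ w := fun z hz => by
    obtain ⟨w, ⟨hwZ, hzw⟩, hmin⟩ := (hZ.subset (Set.sep_subset Z (z ⤳ ·))).exists_minimalFor
      (fun w => closure ({w} : Set Y)) {w ∈ Z | z ⤳ w} ⟨z, hz, specializes_rfl⟩
    refine ⟨w, hMfin.mem_toFinset.2 ⟨hwZ, fun v hv hwv => ?_⟩, hzw⟩
    have h1 : closure ({v} : Set Y) ⊆ closure {w} := specializes_iff_closure_subset.1 hwv
    exact (hwv.antisymm (specializes_iff_closure_subset.2 (hmin ⟨hv, hzw.trans hwv⟩ h1))).eq
  have hO : ∀ z : M, ∃ (n : ℕ) (t : Γ(CohB1.tensorPow A (n + 1), ⊤)), z.1 ∈ gloc t ∧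
      ∀ w ∈ M, w ≠ z.1 → w ∉ gloc t := by
    intro z
    let C : Set Y := ⋃ w ∈ (↑(M.erase z.1) : Set Y), closure {w}
    have hC : IsClosed C := (M.erase z.1).finite_toSet.isClosed_biUnion fun _ _ => isClosed_closure
    have hzC : z.1 ∉ C := by
      intro hz
      obtain ⟨w, hw, hzw⟩ := Set.mem_iUnion₂.1 hz
      obtain ⟨hne, hwM⟩ := Finset.mem_erase.1 (Finset.mem_coe.1 hw)
      exact hne ((hMfin.mem_toFinset.1 hwM).2 z.1 (hMfin.mem_toFinset.1 z.2).1
        (specializes_iff_mem_closure.2 hzw))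
    obtain ⟨n, t, hzt, ht, -⟩ := exists_affine_gloc_nhd hA (O := ⟨Cᶜ, hC.isOpen_compl⟩) hzC
    exact ⟨n, t, hzt, fun w hw hne hwt => ht hwt (Set.mem_iUnion₂.2
      ⟨w, Finset.mem_coe.2 (Finset.mem_erase.2 ⟨hne, hw⟩), subset_closure (Set.mem_singleton w)⟩)⟩
  choose n t hzt hsep using hO
  obtain ⟨N', hN'⟩ := exists_common_power_finset hA.1 Finset.univ n t
  choose u hu using fun z => hN' z (Finset.mem_univ z)
  choose W n₀ hW hxW hsec using fun z : M => Groth.Chow.exists_twist_sections hA hL z.1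
  refine ⟨(Finset.univ : Finset M).sup n₀ + (N' + 1), fun N hN => ?_⟩
  obtain ⟨q, rfl⟩ : ∃ q, N = q + (N' + 1) := ⟨N - (N' + 1), by omega⟩
  obtain ⟨φ⟩ : Nonempty (CohB1.tensorMod (CohB1.tensorMod (CohB1.tensorPow A q) L)
      (CohB1.tensorPow A (N' + 1)) ≅ CohB1.tensorMod L (CohB1.tensorPow A (q + (N' + 1)))) :=
    ⟨PicGrp.tensorModIso (exists_braiding _ _).choose (Iso.refl _) ≪≫
      (exists_associator _ _ _).choose ≪≫
      PicGrp.tensorModIso (Iso.refl L) (tensorPow_add A q (N' + 1)).some.symm⟩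
  choose σ hσ using fun z : M =>
    hsec z q (le_trans (Finset.le_sup (Finset.mem_univ z)) (by omega))
  have hI₀ : PicF.IsInvertible (CohB1.tensorMod (CohB1.tensorPow A q) L) :=
    isInvertible_tensorMod (isInvertible_tensorPow hA.1 q) hL
  have hI : PicF.IsInvertible (CohB1.tensorMod L (CohB1.tensorPow A (q + (N' + 1)))) :=
    isInvertible_tensorMod hL (isInvertible_tensorPow hA.1 _)
  let s : M → Γ(CohB1.tensorMod L (CohB1.tensorPow A (q + (N' + 1))), ⊤) :=
    fun z => φ.hom.app ⊤ (tmulSec (σ z) (u z))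
  have hs : ∀ z, gloc (s z) = W z ⊓ gloc (t z) := fun z => by
    rw [gloc_map φ.hom, gloc_tmulSec hI₀ (isInvertible_tensorPow hA.1 _), hσ, hu]
  refine ⟨homOfSection (∑ z, s z), fun i => ?_⟩
  obtain ⟨w, hw, hiw⟩ := hM (y i) ⟨i, rfl⟩
  refine hiw.mem_open (CohB1.genLocus _ _).isOpen ?_
  change w ∈ gloc (∑ z, s z)
  obtain ⟨V, e, -, hx, he⟩ := exists_affine_gen_mem hI w
  choose c hc using fun z : M => he.exists_coeff le_rfl (res _ (le_top : V ≤ ⊤) (s z))
  simp only [res_self] at hc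
  have hσ' : res _ (le_top : V ≤ ⊤) (∑ z, s z) = (∑ z, c z) • e := by
    rw [res_sum, Finset.sum_smul]
    exact Finset.sum_congr rfl fun z _ => hc z
  suffices h : w ∈ Y.basicOpen (∑ z, c z) from ((gloc_inf_eq_basicOpen he hσ').ge h).1
  rw [← Y.evaluation_ne_zero_iff_mem_basicOpen w hx, map_sum,
    Finset.sum_eq_single ⟨w, hw⟩ (fun z _ hz => ?_) (fun h => absurd (Finset.mem_univ _) h)]
  · rw [Y.evaluation_ne_zero_iff_mem_basicOpen, ← gloc_inf_eq_basicOpen he (hc _), hs]
    exact ⟨⟨hxW ⟨w, hw⟩, hzt ⟨w, hw⟩⟩, hx⟩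
  · by_contra h0
    rw [← ne_eq, Y.evaluation_ne_zero_iff_mem_basicOpen, ← gloc_inf_eq_basicOpen he (hc _), hs] at h0
    exact hsep z w hw (fun hh => hz (Subtype.ext hh.symm)) h0.1.2

end Groth.Agent.S15287
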