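import Groth.Statements.S15291
import Groth.Agent.PicFree.Desc
import Groth.Agent.PicFree.Extend

set_option autoImplicit false
universe v v' u u'
open PicCat

namespace Groth.Agent.S15291

open CategoryTheory MonoidalCategory in
/-- Every symmetric monoidal groupoid A has a Picardification: a commutative Picard category V (a
symmetric monoidal groupoid in which tensoring with any object on either side is an equivalence of
categories) with a symmetric lax monoidal functor i : A ⥤ V such that, for every commutative Picard
category P, (a) every symmetric lax monoidal functor Φ : A ⥤ P is isomorphic through a monoidal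
natural isomorphism to i ⋙ Ψ for some symmetric lax monoidal Ψ : V ⥤ P, and (b) for symmetric lax
monoidal Ψ, Ψ' : V ⥤ P, whiskering with i is a bijection from the monoidal natural transformations Ψ
⟶ Ψ' onto the monoidal natural transformations i ⋙ Ψ ⟶ i ⋙ Ψ'. Here V has its objects in the
universe of the objects of A and its morphisms in the larger of A's two universe levels, and P
ranges over one arbitrary pair of universe levels. -/
theorem result
    (A : Type u) [Category.{v} A] [MonoidalCategory A] [SymmetricCategory A] [IsGroupoid A] :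
    ∃ (V : Type u) (_ : Category.{max u v} V) (_ : MonoidalCategory V) (_ : SymmetricCategory V)
      (i : A ⥤ V) (_ : i.LaxBraided),
      IsGroupoid V ∧ (∀ X : V, (tensorLeft X).IsEquivalence ∧ (tensorRight X).IsEquivalence) ∧
      ∀ (P : Type u') [Category.{v'} P] [MonoidalCategory P] [SymmetricCategory P] [IsGroupoid P],
        (∀ X : P, (tensorLeft X).IsEquivalence ∧ (tensorRight X).IsEquivalence) →
        (∀ (Φ : A ⥤ P) [Φ.LaxBraided], ∃ (Ψ : V ⥤ P) (_ : Ψ.LaxBraided) (η : i ⋙ Ψ ≅ Φ),
            NatTrans.IsMonoidal η.hom) ∧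
        (∀ (Ψ Ψ' : V ⥤ P) [Ψ.LaxBraided] [Ψ'.LaxBraided] (τ : i ⋙ Ψ ⟶ i ⋙ Ψ'),
            NatTrans.IsMonoidal τ →
              ∃! θ : Ψ ⟶ Ψ', NatTrans.IsMonoidal θ ∧ Functor.whiskerLeft i θ = τ) := by
  refine ⟨Groth.PicFree.Obj A, inferInstance, inferInstance, inferInstance, Groth.PicFree.ι A, inferInstance,
    inferInstance, Groth.PicFree.picard, ?_⟩
  intro P _ _ _ _ hP
  refine ⟨fun Φ _ => ?_, fun Ψ Ψ' _ _ τ hτ => ?_⟩
  · exact ⟨Groth.PicFree.desc (fun X => (hP X).1) Φ, inferInstance, Groth.PicFree.descIso _ Φ,
      Groth.PicFree.isMonoidal_descIso _ Φ⟩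
  · refine ⟨Groth.PicFree.extend (fun X => (hP X).1) hτ,
      ⟨Groth.PicFree.isMonoidal_extend _ hτ, ?_⟩, fun θ hθ => ?_⟩
    · ext a; rfl
    · haveI := hθ.1
      haveI := Groth.PicFree.isMonoidal_extend (fun X => (hP X).1) hτ
      refine Groth.PicFree.monoidal_ext (fun X => (hP X).1) (hθ.2.trans ?_)
      ext a; rfl

end Groth.Agent.S15291
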