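import Groth.Statements.S15295
import Groth.Agent.DR.Basic
import Groth.Agent.LocFree.ExtBaseChange
import Mathlib.RingTheory.Kaehler.TensorProduct

set_option autoImplicit false
universe u
open DeRham

namespace Groth.Agent.S15295

open exteriorPower TensorProduct in
/-- The de Rham complex commutes with base change. Let R → A and R → S be ring maps and B = S ⊗_R A (an
R-algebra over A and S with the pushout property), and let ψ be the induced map of de Rham complexes
from the p-forms of A over R to the p-forms of B over S (additive maps sending b₀ db₁ ∧ … ∧ db_p to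
g(b₀) d(g b₁) ∧ … ∧ d(g b_p), g : A → B the structure map). Then in each degree p the S-linear
extension S ⊗_R ⋀^p Ω_{A/R} → ⋀^p Ω_{B/S}, s ⊗ x ↦ s · ψ_p(x), is bijective. (This row states the
degreewise bijectivity, with the base change written S ⊗_R − rather than − ⊗_R S; the compatibility
of ψ with the differentials, which makes this an isomorphism of complexes, holds for any square of
ring maps.) -/
theorem result (R S A B : Type u) [CommRing R] [CommRing S] [CommRing A] [CommRing B]
    [Algebra R S] [Algebra R A] [Algebra R B] [Algebra A B] [Algebra S B]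
    [IsScalarTower R A B] [IsScalarTower R S B] [Algebra.IsPushout R S A B]
    (ψ : ∀ p : ℕ, ↥(⋀[A]^p (Ω[A⁄R])) →+ ↥(⋀[B]^p (Ω[B⁄S])))
    (hψ : DeRham.IsCxMap (KaehlerDifferential.D R A) (KaehlerDifferential.D S B) (algebraMap A B) ψ)
    (p : ℕ) (Φ : S ⊗[R] ↥(⋀[A]^p (Ω[A⁄R])) →+ ↥(⋀[B]^p (Ω[B⁄S])))
    (hΦ : ∀ (s : S) (x : ↥(⋀[A]^p (Ω[A⁄R]))), Φ (s ⊗ₜ[R] x) = s • ψ p x) :
    Function.Bijective Φ := by
  have hbc : IsBaseChange B (KaehlerDifferential.map R S A B) := by
    refine IsBaseChange.of_equiv (KaehlerDifferential.tensorKaehlerEquiv R S A B) fun x => ?_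
    have hx : x ∈ Submodule.span A (Set.range (KaehlerDifferential.D R A)) := by
      rw [Groth.DR.kaehler_span]; trivial
    induction hx using Submodule.span_induction with
    | mem y hy =>
      obtain ⟨a, rfl⟩ := hy
      rw [KaehlerDifferential.tensorKaehlerEquiv_tmul_D, one_smul, KaehlerDifferential.map_D]
    | zero => simp
    | add y z _ _ hy hz => rw [TensorProduct.tmul_add, map_add, hy, hz, map_add]
    | smul c y _ hy =>
      rw [TensorProduct.tmul_smul, LinearMap.map_smul, ← hy, ← algebraMap_smul B c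
        ((1 : B) ⊗ₜ[A] y), LinearEquiv.map_smul, algebraMap_smul]
  let E := Groth.LocFree.extMap (S := B) p (KaehlerDifferential.map R S A B)
  have hE : IsBaseChange B E := Groth.LocFree.extMap_isBaseChange p _ hbc
  have hψE : ψ p = E.toAddMonoidHom := by
    refine Groth.DR.addHom_ext (KaehlerDifferential.D R A) (Groth.DR.kaehler_span R A) fun b₀ b => ?_
    rw [hψ]
    show _ = E (DeRham.gen _ p b₀ b)
    rw [DeRham.gen, DeRham.gen, map_smul, Groth.LocFree.extMap_ιMulti, algebraMap_smul]
    congr 2
    funext i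
    exact (KaehlerDifferential.map_D R S A B (b i)).symm
  let C : S ⊗[R] ↥(⋀[A]^p (Ω[A⁄R])) ≃ B ⊗[A] ↥(⋀[A]^p (Ω[A⁄R])) :=
    (Algebra.IsPushout.cancelBaseChange R S A B ↥(⋀[A]^p (Ω[A⁄R]))).symm.toEquiv
  have hΦeq : ⇑Φ = hE.equiv ∘ C := by
    funext y
    induction y with
    | zero => simp [C]
    | add y z hy hz =>
      simp only [Function.comp_apply] at hy hz ⊢
      rw [map_add, hy, hz]
      simp [C, map_add]
    | tmul s x =>
      rw [Function.comp_apply, hΦ, hψE]
      show _ = hE.equiv ((Algebra.IsPushout.cancelBaseChange R S A B _).symm (s ⊗ₜ x))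
      rw [Algebra.IsPushout.cancelBaseChange_symm_tmul, hE.equiv_tmul, algebraMap_smul]
      rfl
  rw [hΦeq]
  exact hE.equiv.bijective.comp C.bijective

end Groth.Agent.S15295
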