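import Groth.Statements.S15296
import Groth.Agent.DR.Wedge

set_option autoImplicit false
universe u
open DeRham

namespace Groth.Agent.S15296

open exteriorPower in
/-- Let R → A be a ring map, π a surjective A-linear map from the Kähler differentials of A over R onto
an A-module Ω', δ = π ∘ d the induced derivation A → Ω', and d_A a de Rham differential of the
Kähler differentials. Suppose the kernel of π is generated over A by elements ω with π(ω) = 0 whose
differential d_A(ω) is killed by the second exterior power of π. Then the exterior powers of Ω' over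
A carry a de Rham differential for δ: a family of R-linear maps d from p-forms to (p+1)-forms with
d(f₀ δf₁ ∧ … ∧ δf_p) = δf₀ ∧ δf₁ ∧ … ∧ δf_p and d ∘ d = 0; moreover d is compatible with d_A through
the exterior powers of π. -/
theorem result (R A Ω' : Type u) [CommRing R] [CommRing A] [Algebra R A]
    [AddCommGroup Ω'] [Module A Ω'] [Module R Ω'] [IsScalarTower R A Ω']
    (π : Ω[A⁄R] →ₗ[A] Ω') (hπ : Function.Surjective π)
    (dA : ∀ p : ℕ, ↥(⋀[A]^p (Ω[A⁄R])) →ₗ[R] ↥(⋀[A]^(p + 1) (Ω[A⁄R])))
    (hdA : DeRham.IsDiff (KaehlerDifferential.D R A) dA)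
    (hker : LinearMap.ker π ≤ Submodule.span A {ω : Ω[A⁄R] | π ω = 0 ∧
      exteriorPower.map 2 π (dA 1 ((exteriorPower.oneEquiv A (Ω[A⁄R])).symm ω)) = 0}) :
    ∃ d : ∀ p : ℕ, ↥(⋀[A]^p Ω') →ₗ[R] ↥(⋀[A]^(p + 1) Ω'),
      DeRham.IsDiff (π.compDer (KaehlerDifferential.D R A)) d ∧
        ∀ (p : ℕ) (x : ↥(⋀[A]^p (Ω[A⁄R]))),
          d p (exteriorPower.map p π x) = exteriorPower.map (p + 1) π (dA p x) := by
  classical
  have hsurj : ∀ p, Function.Surjective (exteriorPower.map p π) := fun p =>
    exteriorPower.map_surjective hπ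
  -- the key computation
  have key : ∀ (p : ℕ) (a : A) (b : Fin p → A) (x : ↥(⋀[A]^1 (Ω[A⁄R]))),
      (dA (p + 1) (a • Groth.DR.wedgeL (oneEquiv A _ x) p
          (gen (KaehlerDifferential.D R A) p 1 b)) : ExteriorAlgebra A (Ω[A⁄R])) =
        ExteriorAlgebra.ι A (KaehlerDifferential.D R A a) *
            (ExteriorAlgebra.ι A (oneEquiv A _ x) *
              (gen (KaehlerDifferential.D R A) p 1 b : ExteriorAlgebra A (Ω[A⁄R]))) +
          a • ((dA 1 x : ExteriorAlgebra A (Ω[A⁄R])) *
              (gen (KaehlerDifferential.D R A) p 1 b : ExteriorAlgebra A (Ω[A⁄R]))) := by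
    intro p a b x
    refine Groth.DR.gen_induction (KaehlerDifferential.D R A) (Groth.DR.kaehler_span R A)
      (P := fun x => (dA (p + 1) (a • Groth.DR.wedgeL (oneEquiv A _ x) p
          (gen (KaehlerDifferential.D R A) p 1 b)) : ExteriorAlgebra A (Ω[A⁄R])) =
        ExteriorAlgebra.ι A (KaehlerDifferential.D R A a) *
            (ExteriorAlgebra.ι A (oneEquiv A _ x) *
              (gen (KaehlerDifferential.D R A) p 1 b : ExteriorAlgebra A (Ω[A⁄R]))) +
          a • ((dA 1 x : ExteriorAlgebra A (Ω[A⁄R])) *
              (gen (KaehlerDifferential.D R A) p 1 b : ExteriorAlgebra A (Ω[A⁄R])))) ?_ ?_ ?_ x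
    · simp [Groth.DR.wedgeL]
    · intro y z hy hz
      have hadd : Groth.DR.wedgeL (oneEquiv A (Ω[A⁄R]) (y + z)) p
            (gen (KaehlerDifferential.D R A) p 1 b) =
          Groth.DR.wedgeL (oneEquiv A (Ω[A⁄R]) y) p (gen (KaehlerDifferential.D R A) p 1 b) +
            Groth.DR.wedgeL (oneEquiv A (Ω[A⁄R]) z) p (gen (KaehlerDifferential.D R A) p 1 b) := by
        apply Subtype.ext
        simp [Groth.DR.coe_wedgeL, map_add, add_mul]
      rw [hadd, smul_add, map_add, Submodule.coe_add, hy, hz]
      simp only [map_add, mul_add, add_mul, Submodule.coe_add, smul_add]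
      abel
    · intro b₀ b'
      obtain ⟨e, rfl⟩ : ∃ e, b' = Fin.cons e Fin.elim0 :=
        ⟨b' 0, funext fun i => by fin_cases i; rfl⟩
      have h1 : oneEquiv A (Ω[A⁄R]) (gen (KaehlerDifferential.D R A) 1 b₀ (Fin.cons e Fin.elim0)) =
          b₀ • KaehlerDifferential.D R A e := by simp [gen]
      have h2 : a • Groth.DR.wedgeL (b₀ • KaehlerDifferential.D R A e) p
            (gen (KaehlerDifferential.D R A) p 1 b) =
          gen (KaehlerDifferential.D R A) (p + 1) (a * b₀) (Fin.cons e b) := by
        apply Subtype.ext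
        rw [Groth.DR.coe_gen_cons, Submodule.coe_smul, Groth.DR.coe_wedgeL, map_smul, smul_mul_assoc,
          smul_smul]
      have h3 : (gen (KaehlerDifferential.D R A) 1 1 (Fin.cons e Fin.elim0) :
          ExteriorAlgebra A (Ω[A⁄R])) = ExteriorAlgebra.ι A (KaehlerDifferential.D R A e) := by
        simp [gen, ExteriorAlgebra.ιMulti_succ_apply]
      rw [h1, h2, Groth.DR.coe_d_gen hdA.1, Groth.DR.coe_d_gen hdA.1, Groth.DR.coe_gen_cons,
        one_smul, h3, Derivation.leibniz]
      simp only [map_add, map_smul, add_mul, smul_mul_assoc, mul_smul_comm, mul_assoc]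
      abel
  -- the good elements form a submodule
  let F : ∀ p, ↥(⋀[A]^p (Ω[A⁄R])) →ₗ[R] ↥(⋀[A]^(p + 1) Ω') := fun p =>
    (exteriorPower.map (p + 1) π).restrictScalars R ∘ₗ dA p
  let K : ∀ p, Submodule A ↥(⋀[A]^p (Ω[A⁄R])) := fun p =>
    { carrier := {x | ∀ a : A, F p (a • x) = 0}
      zero_mem' := fun a => by simp
      add_mem' := fun {x y} hx hy a => by rw [smul_add, map_add, hx, hy, add_zero]
      smul_mem' := fun c x hx a => by rw [smul_smul]; exact hx _ }
  have hKer : ∀ (p : ℕ) (ω : Ω[A⁄R]), π ω = 0 →
      ∀ η : ↥(⋀[A]^p (Ω[A⁄R])), Groth.DR.wedgeL ω p η ∈ K (p + 1) := by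
    intro p ω hω η
    have hω' : ω ∈ LinearMap.ker π := hω
    revert η
    refine Submodule.span_induction (p := fun ω _ => ∀ η, Groth.DR.wedgeL ω p η ∈ K (p + 1))
      ?_ ?_ ?_ ?_ (hker hω')
    · rintro ω ⟨h0, h2⟩ η
      refine Groth.DR.gen_induction (KaehlerDifferential.D R A) (Groth.DR.kaehler_span R A)
        (P := fun η => Groth.DR.wedgeL ω p η ∈ K (p + 1)) (by simp)
        (fun x y hx hy => by rw [map_add]; exact add_mem hx hy) (fun b₀ b => ?_) η
      rw [← mul_one b₀, Groth.DR.gen_smul, map_smul]
      refine Submodule.smul_mem _ _ fun a => ?_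
      apply Subtype.ext
      show (exteriorPower.map (p + 1 + 1) π (dA (p + 1) _) : ExteriorAlgebra A Ω') = _
      have hk := key p a b ((oneEquiv A (Ω[A⁄R])).symm ω)
      rw [LinearEquiv.apply_symm_apply] at hk
      have h2' : ExteriorAlgebra.map π
          (dA 1 ((oneEquiv A (Ω[A⁄R])).symm ω) : ExteriorAlgebra A (Ω[A⁄R])) = 0 := by
        rw [← Groth.DR.coe_map, h2]; rfl
      rw [Groth.DR.coe_map, hk]
      simp [h0, h2']
    · intro η
      have : Groth.DR.wedgeL (0 : Ω[A⁄R]) p η = 0 := by
        apply Subtype.ext; simp [Groth.DR.coe_wedgeL]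
      rw [this]; exact zero_mem _
    · intro x y _ _ hx hy η
      have : Groth.DR.wedgeL (x + y) p η = Groth.DR.wedgeL x p η + Groth.DR.wedgeL y p η := by
        apply Subtype.ext; simp [Groth.DR.coe_wedgeL, add_mul]
      rw [this]; exact add_mem (hx η) (hy η)
    · intro c x _ hx η
      have : Groth.DR.wedgeL (c • x) p η = c • Groth.DR.wedgeL x p η := by
        apply Subtype.ext; simp [Groth.DR.coe_wedgeL]
      rw [this]; exact Submodule.smul_mem _ _ (hx η)
  -- a wedge with an entry in the kernel is good
  have hKv : ∀ (p : ℕ) (v : Fin p → Ω[A⁄R]) (i : Fin p), π (v i) = 0 → ιMulti A p v ∈ K p := by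
    intro p v i hi
    obtain ⟨q, rfl⟩ : ∃ q, p = q + 1 := ⟨p - 1, by have := i.isLt; omega⟩
    have h0 : ιMulti A (q + 1) (v ∘ Equiv.swap 0 i) ∈ K (q + 1) := by
      have := hKer q _ hi (ιMulti A q (Fin.tail (v ∘ Equiv.swap 0 i)))
      rw [Groth.DR.wedgeL_ιMulti] at this
      convert this using 2
      conv_lhs => rw [← Fin.cons_self_tail (v ∘ Equiv.swap 0 i)]
      simp
    by_cases h : (0 : Fin (q + 1)) = i
    · subst h; simpa using h0
    · rw [(ιMulti A (q + 1)).map_swap v h] at h0
      exact neg_mem_iff.1 h0
  -- well-definedness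
  have hwd : ∀ (p : ℕ) (x : ↥(⋀[A]^p (Ω[A⁄R]))), exteriorPower.map p π x = 0 → x ∈ K p := by
    intro p
    choose s hs using hπ
    let q := (K p).mkQ
    have hupd : ∀ (i : Fin p) (v : Fin p → Ω[A⁄R]) (a b : Ω[A⁄R]), π a = π b →
        q (ιMulti A p (Function.update v i a)) = q (ιMulti A p (Function.update v i b)) := by
      intro i v a b hab
      rw [← sub_eq_zero, ← map_sub, ← (ιMulti A p).map_update_sub, Submodule.mkQ_apply,
        Submodule.Quotient.mk_eq_zero]
      exact hKv p _ i (by simp [hab])
    have hcongr : ∀ v w : Fin p → Ω[A⁄R], (∀ i, π (v i) = π (w i)) →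
        q (ιMulti A p v) = q (ιMulti A p w) := by
      intro v w hvw
      suffices ∀ S : Finset (Fin p), q (ιMulti A p (fun i => if i ∈ S then w i else v i)) =
          q (ιMulti A p v) by simpa using (this Finset.univ).symm
      intro S
      induction S using Finset.induction_on with
      | empty => simp
      | @insert i S hi ih =>
        rw [← ih]
        have e1 : (fun j => if j ∈ insert i S then w j else v j) =
            Function.update (fun j => if j ∈ S then w j else v j) i (w i) := by
          funext j; rcases eq_or_ne j i with rfl | hj <;> simp [*]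
        have e2 : (fun j => if j ∈ S then w j else v j) =
            Function.update (fun j => if j ∈ S then w j else v j) i (v i) := by
          funext j; rcases eq_or_ne j i with rfl | hj <;> simp [*]
        rw [e1]
        conv_rhs => rw [e2]
        exact hupd i _ _ _ (hvw i).symm
    let G : Ω' [⋀^Fin p]→ₗ[A] (↥(⋀[A]^p (Ω[A⁄R])) ⧸ K p) :=
      { toFun := fun v => q (ιMulti A p (fun i => s (v i)))
        map_update_add' := by
          intro inst v i x y
          obtain rfl : inst = instDecidableEqFin p := Subsingleton.elim _ _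
          have e : ∀ z, (fun j => s (Function.update v i z j)) =
              Function.update (fun j => s (v j)) i (s z) := fun z =>
            funext (Function.apply_update (fun _ => s) v i z)
          rw [e, e, e, ← map_add, ← (ιMulti A p).map_update_add]
          refine hupd i _ _ _ ?_
          simp only [map_add, map_smul, hs]
        map_update_smul' := by
          intro inst v i c x
          obtain rfl : inst = instDecidableEqFin p := Subsingleton.elim _ _
          have e : ∀ z, (fun j => s (Function.update v i z j)) =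
              Function.update (fun j => s (v j)) i (s z) := fun z =>
            funext (Function.apply_update (fun _ => s) v i z)
          rw [e, e, ← map_smul, ← (ιMulti A p).map_update_smul]
          refine hupd i _ _ _ ?_
          simp only [map_add, map_smul, hs]
        map_eq_zero_of_eq' := by
          intro v i j h hij
          rw [(ιMulti A p).map_eq_zero_of_eq (fun k => s (v k)) (congrArg s h) hij, map_zero] }
    intro x hx
    have : alternatingMapLinearEquiv G ∘ₗ exteriorPower.map p π = q :=
      exteriorPower.linearMap_ext (by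
        ext v
        simp only [LinearMap.compAlternatingMap_apply, LinearMap.comp_apply, map_apply_ιMulti,
          alternatingMapLinearEquiv_apply_ιMulti]
        exact hcongr _ _ fun i => hs _)
    have := LinearMap.congr_fun this x
    rw [LinearMap.comp_apply, hx, map_zero] at this
    exact (Submodule.Quotient.mk_eq_zero _).1 this.symm
  have hF : ∀ p x y, exteriorPower.map p π x = exteriorPower.map p π y → F p x = F p y := by
    intro p x y h
    have := hwd p (x - y) (by rw [map_sub, h, sub_self]) 1
    rwa [one_smul, map_sub, sub_eq_zero] at this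
  choose t ht using fun p => hsurj p
  refine ⟨fun p =>
    { toFun := fun y => F p (t p y)
      map_add' := fun y z => by rw [← map_add]; exact hF _ _ _ (by simp [ht])
      map_smul' := fun r y => by
        rw [RingHom.id_apply, ← map_smul]; exact hF _ _ _ (by rw [LinearMap.map_smul_of_tower, ht, ht]) },
    ⟨?_, ?_⟩, ?_⟩
  · intro p b₀ b
    have h1 : exteriorPower.map p π (gen (KaehlerDifferential.D R A) p b₀ b) =
        gen (π.compDer (KaehlerDifferential.D R A)) p b₀ b := by
      simp [gen, Function.comp_def]
    show F p (t p _) = _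
    rw [hF p (t p _) (gen (KaehlerDifferential.D R A) p b₀ b) (by rw [ht, h1])]
    show exteriorPower.map (p + 1) π (dA p _) = _
    rw [hdA.1, map_apply_ιMulti]
    congr 1
    funext i
    refine Fin.cases ?_ (fun j => ?_) i <;> simp
  · intro p
    refine LinearMap.ext fun y => ?_
    show F (p + 1) (t (p + 1) (F p (t p y))) = 0
    rw [hF (p + 1) (t (p + 1) (F p (t p y))) (dA p (t p y)) (by rw [ht]; rfl)]
    show exteriorPower.map (p + 1 + 1) π (dA (p + 1) (dA p _)) = 0
    rw [← LinearMap.comp_apply (dA (p + 1)), hdA.2, LinearMap.zero_apply, map_zero]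
  · intro p x
    exact hF p (t p _) x (ht _ _)

end Groth.Agent.S15296
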