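import Groth.Statements.S15297
import Groth.Agent.DR.Basic
-- import your own Groth.Agent.* helpers here

set_option autoImplicit false
universe u
open DeRham

namespace Groth.Agent.S15297

open exteriorPower in
/-- Let R → A be a ring map and d a de Rham differential of the Kähler differentials of A over R. Then
each d from p-forms to (p+1)-forms, an R-linear map between A-modules, is a differential operator of
order at most 1 relative to R → A: every commutator of d with multiplication by an element of A is
A-linear. -/
theorem result (R A : Type u) [CommRing R] [CommRing A] [Algebra R A]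
    (d : ∀ p : ℕ, ↥(⋀[A]^p (Ω[A⁄R])) →ₗ[R] ↥(⋀[A]^(p + 1) (Ω[A⁄R])))
    (hd : DeRham.IsDiff (KaehlerDifferential.D R A) d) (p : ℕ) :
    Diff16.IsDiffOpLE R A ↥(⋀[A]^p (Ω[A⁄R])) ↥(⋀[A]^(p + 1) (Ω[A⁄R])) 1 (d p) := by
  intro b b' m
  have key : ∀ (c : A) (x : ↥(⋀[A]^p (Ω[A⁄R]))), d p (c • x) - c • d p x =
      (Diff16.commutator R A _ _ (d p) c) x := fun c x => rfl
  refine Groth.DR.gen_induction (KaehlerDifferential.D R A) (Groth.DR.kaehler_span R A)
    (P := fun m => (Diff16.commutator R A _ _ (d p) b) (b' • m) =
      b' • (Diff16.commutator R A _ _ (d p) b) m) (by simp)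
    (fun x y hx hy => by rw [smul_add, map_add, map_add, hx, hy, smul_add]) (fun b₀ f => ?_) m
  rw [← key, ← key, ← Groth.DR.gen_smul, ← Groth.DR.gen_smul, ← Groth.DR.gen_smul, hd.1, hd.1,
    hd.1, hd.1]
  simp only [← Groth.DR.consLin_apply, Derivation.leibniz, map_add, map_smul, smul_add, smul_sub,
    smul_smul]
  module

end Groth.Agent.S15297
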