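import Groth.Statements.S15298
import Mathlib
import Groth.Agent.CompleteLine.PowerSeries

set_option autoImplicit false
universe u
open CAlg

namespace Groth.Agent.S15298

/-- Let k be a field, A a Noetherian k-algebra and x a non-zero-divisor of A such that A is separated
and complete for the (x)-adic topology, and assume that B = A/xA is formally smooth over k. Then A
is a power series ring over B in the variable x: there is a k-algebra isomorphism e : B[[T]] ≅ A
with e(T) = x whose reduction modulo x is the constant-coefficient map, i.e. e(f) ≡ f(0) mod x for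
every power series f. -/
theorem result (k A : Type u) [Field k]
    [CommRing A] [Algebra k A] [IsNoetherianRing A] (x : A) (hx : x ∈ nonZeroDivisors A)
    [IsAdicComplete (Ideal.span {x}) A] [Algebra.FormallySmooth k (A ⧸ Ideal.span {x})] :
    ∃ e : PowerSeries (A ⧸ Ideal.span {x}) ≃ₐ[k] A,
      e PowerSeries.X = x ∧
      ∀ f : PowerSeries (A ⧸ Ideal.span {x}),
        Ideal.Quotient.mk (Ideal.span {x}) (e f) = PowerSeries.constantCoeff f := by
  obtain ⟨s, hs⟩ := Algebra.FormallySmooth.exists_mkₐ_comp_eq_of_isAdicComplete (R := k) (I := Ideal.span {x})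
    (AlgHom.id k (A ⧸ Ideal.span {x}))
  let q : A →ₐ[k] A ⧸ Ideal.span {x} := Ideal.Quotient.mkₐ k (Ideal.span {x})
  have hqs : ∀ b, q (s b) = b := fun b => AlgHom.congr_fun hs b
  have hqx : q x = 0 := Ideal.Quotient.eq_zero_iff_mem.2 (Ideal.mem_span_singleton_self x)
  have hker : ∀ a, q a = 0 → x ∣ a := fun a ha => Ideal.mem_span_singleton.1 (Ideal.Quotient.eq_zero_iff_mem.1 ha)
  refine ⟨AlgEquiv.ofBijective _ (Groth.CompleteLine.bijective_limHom s x hx q hqs hker hqx), ?_, fun f => ?_⟩
  · exact Groth.CompleteLine.limHom_X s x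
  · exact Groth.CompleteLine.mk_limHom s x q hqs hqx f

end Groth.Agent.S15298
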