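import Groth.Statements.S15304
import Groth.Agent.CohDev.TowerStationary
import Groth.Agent.CohBase.SecHomology
import Groth.Agent.OmegaSheaf.IsoLocal
-- import your own Groth.Agent.* helpers here

set_option autoImplicit false
universe u
open Coh

namespace Groth.Agent.S15304

open CategoryTheory CategoryTheory.Limits AlgebraicGeometry Opposite in
/-- Let X be a finite-type scheme over a field k, G a countably quasi-coherent O_X-module
(quasi-coherent, with countably generated sections over every affine open) and H_1 ⊇ H_2 ⊇ ⋯ a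
descending sequence of quasi-coherent submodules, presented here as a tower of quasi-coherent
quotients Q_n = G/H_n receiving compatible epimorphisms from G. If the induced map G → lim_n G/H_n
is an epimorphism of sheaves, then H_n stops changing from some index on: all transition maps
Q_{n+1} → Q_n with n large are isomorphisms. -/
theorem result (k : Type u) [Field k] (X : Scheme.{u})
    [X.Over (Spec (CommRingCat.of k))] [LocallyOfFiniteType (X ↘ Spec (CommRingCat.of k))] [CompactSpace X]
    (Q : ℕᵒᵖ ⥤ X.Modules) (hQ : ∀ n : ℕ, Coh.IsQCoh (Q.obj (op n))) (c : Cone Q)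
    (hG : Coh.IsQCoh c.pt)
    (hGc : (∀ U : X.affineOpens, ∃ s : Set (c.pt.val.obj (op (U : X.Opens))),
        s.Countable ∧ Submodule.span (X.ringCatSheaf.obj.obj (op (U : X.Opens))) s = ⊤))
    (hepi : ∀ n : ℕ, Epi (c.π.app (op n))) (hlim : Epi (limit.lift Q c)) :
    ∃ N : ℕ, ∀ n : ℕ, N ≤ n → IsIso (Q.map (homOfLE (Nat.le_succ n)).op) := by
  have := hG
  have : ∀ n, (Q.obj (op n)).IsQuasicoherent := hQ
  obtain ⟨N, hN⟩ := Groth.CohDev.TowerStationary.exists_stationary_cover (k := k) (F := fun n => Q.obj (op n))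
    this (fun n => Q.map (homOfLE (Nat.le_succ n)).op) (fun n => c.π.app (op n)) (fun n => c.w _) hGc
    (fun U v hv x hx => by
      obtain ⟨s, hs⟩ := Groth.CohDev.TowerStationary.exists_section_limit Q U v hv
      obtain ⟨W, hW, g, hxW, hg⟩ := Groth.CohBase.exists_local_preimage (limit.lift Q c) s x hx
      refine ⟨W, hW, hxW, g, fun n => ?_⟩
      rw [← hs n, Groth.QCohMod.res_app, ← hg]
      exact congr(Scheme.Modules.Hom.app $((limit.lift_π c (op n)).symm) W g))
  refine ⟨N, fun n hn => ?_⟩
  refine Groth.OmegaSheaf.isIso_of_affine_cover _ fun x => ?_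
  obtain ⟨U, hU, hxU, hker⟩ := hN x
  have hs : ∀ m, Function.Surjective (Scheme.Modules.Hom.app (c.π.app (op m)) U) := fun m =>
    have := hepi m
    Groth.QCohMod.app_surjective_of_epi (M := c.pt) (N := Q.obj (op m)) (c.π.app (op m)) hU
  refine ⟨U, hU, hxU, (injective_iff_map_eq_zero _).2 fun w hw => ?_, fun w => ?_⟩
  · obtain ⟨z, rfl⟩ := hs (n + 1) w
    refine (hker (n + 1) (by omega) z).2 ((hker n hn z).1 ?_)
    exact (congr(Scheme.Modules.Hom.app $(c.w (homOfLE (Nat.le_succ n)).op) U z)).symm.trans hw
  · obtain ⟨z, rfl⟩ := hs n w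
    exact ⟨Scheme.Modules.Hom.app (c.π.app (op (n + 1))) U z,
      congr(Scheme.Modules.Hom.app $(c.w (homOfLE (Nat.le_succ n)).op) U z)⟩

end Groth.Agent.S15304
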