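import Groth.Statements.S15305
import Groth.Agent.CohDev.TowerStationary
import Groth.Agent.CohBase.SecHomology
import Groth.Agent.OmegaSheaf.IsoLocal
import Groth.Agent.QCohMod.Coherent
-- import your own Groth.Agent.* helpers here

set_option autoImplicit false
universe u
open Coh

namespace Groth.Agent.S15305

open CategoryTheory CategoryTheory.Limits AlgebraicGeometry Opposite in
/-- Let X be a finite-type scheme over a field k, and let (F_n) be a tower of quasi-coherent O_X-modules
whose limit lim F_n receives an epimorphism from a countably quasi-coherent module G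
(quasi-coherent, with countably generated sections over every affine open), resp. from a coherent G.
Then lim F_n is itself countably quasi-coherent, resp. coherent. -/
theorem result (k : Type u) [Field k] (X : Scheme.{u})
    [X.Over (Spec (CommRingCat.of k))] [LocallyOfFiniteType (X ↘ Spec (CommRingCat.of k))] [CompactSpace X]
    (F : ℕᵒᵖ ⥤ X.Modules) (hF : ∀ n : ℕ, Coh.IsQCoh (F.obj (op n)))
    (G : X.Modules) (hG : Coh.IsQCoh G)
    (hGc : (∀ U : X.affineOpens, ∃ s : Set (G.val.obj (op (U : X.Opens))),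
        s.Countable ∧ Submodule.span (X.ringCatSheaf.obj.obj (op (U : X.Opens))) s = ⊤))
    (φ : G ⟶ limit F) [Epi φ] :
    Coh.IsQCoh (limit F) ∧
      (∀ U : X.affineOpens, ∃ s : Set ((limit F).val.obj (op (U : X.Opens))),
        s.Countable ∧ Submodule.span (X.ringCatSheaf.obj.obj (op (U : X.Opens))) s = ⊤) ∧
      (Coh.IsCoh G → Coh.IsCoh (limit F)) := by
  have := hG
  have hF' : ∀ n, (F.obj (op n)).IsQuasicoherent := hF
  have : IsLocallyNoetherian X := LocallyOfFiniteType.isLocallyNoetherian (X ↘ Spec (CommRingCat.of k))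
  obtain ⟨N, hN⟩ := Groth.CohDev.TowerStationary.exists_stationary_cover (k := k) (F := fun n => F.obj (op n))
    hF' (fun n => F.map (homOfLE (Nat.le_succ n)).op) (fun n => φ ≫ limit.π F (op n))
    (fun n => (Category.assoc _ _ _).trans (congrArg (φ ≫ ·) (limit.w F _))) hGc
    (fun U v hv x hx => by
      obtain ⟨s, hs⟩ := Groth.CohDev.TowerStationary.exists_section_limit F U v hv
      obtain ⟨W, hW, g, hxW, hg⟩ := Groth.CohBase.exists_local_preimage φ s x hx
      refine ⟨W, hW, hxW, g, fun n => ?_⟩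
      rw [← hs n, Groth.QCohMod.res_app, ← hg]
      rfl)
  let ψ : ∀ n, G ⟶ F.obj (op n) := fun n => φ ≫ limit.π F (op n)
  have hw : ∀ {i j : ℕ} (h : i ≤ j), ψ j ≫ F.map (homOfLE h).op = ψ i := fun h =>
    (Category.assoc _ _ _).trans (congrArg (φ ≫ ·) (limit.w F _))
  have hle : ∀ n, N ≤ n → kernel.ι (ψ N) ≫ ψ n = 0 := fun n hn => by
    have := hF' N
    have := hF' n
    let j : kernel (ψ n) ⟶ kernel (ψ N) := kernel.lift _ (kernel.ι (ψ n)) (by
      rw [← hw hn, ← Category.assoc, kernel.condition, zero_comp])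
    have : IsIso j := Groth.OmegaSheaf.isIso_of_affine_cover j fun x => by
      obtain ⟨U, hU, hxU, hker⟩ := hN x
      refine ⟨U, hU, hxU, fun a b hab => ?_, fun w => ?_⟩
      · refine Groth.CohTwo.app_injective (kernel.ι (ψ n)) U ?_
        have e := congrArg (Scheme.Modules.Hom.app (kernel.ι (ψ N)) U) hab
        exact (congr(Scheme.Modules.Hom.app $((kernel.lift_ι _ _ _).symm) U a)).trans
          (e.trans (congr(Scheme.Modules.Hom.app $(kernel.lift_ι (ψ N) (kernel.ι (ψ n)) _) U b)))
      · have h0 : Scheme.Modules.Hom.app (ψ N) U (Scheme.Modules.Hom.app (kernel.ι (ψ N)) U w) = 0 :=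
          congr(Scheme.Modules.Hom.app $(kernel.condition (ψ N)) U w)
        obtain ⟨a, ha⟩ := Groth.CohBase.exists_app_eq_of_kernel (kernel.ι (ψ n)) (ψ n) (kernel.condition _)
          (ShortComplex.exact_of_f_is_kernel _ (kernelIsKernel _)) U _ ((hker n hn _).2 h0)
        refine ⟨a, Groth.CohTwo.app_injective (kernel.ι (ψ N)) U ?_⟩
        exact (congr(Scheme.Modules.Hom.app $(kernel.lift_ι (ψ N) (kernel.ι (ψ n)) _) U a)).trans ha
    rw [← cancel_epi j, comp_zero, ← Category.assoc, kernel.lift_ι, kernel.condition]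
  have h0 : kernel.ι (ψ N) ≫ φ = 0 := by
    refine limit.hom_ext fun n => ?_
    obtain ⟨n⟩ := n
    rw [zero_comp, Category.assoc]
    change kernel.ι (ψ N) ≫ ψ n = 0
    rcases le_total N n with h | h
    · exact hle n h
    · rw [← hw h, ← Category.assoc, kernel.condition, zero_comp]
  have hex : (ShortComplex.mk (kernel.ι (ψ N)) φ h0).Exact := by
    refine ShortComplex.exact_of_f_is_kernel _ (KernelFork.IsLimit.ofι _ _
      (fun g hg => kernel.lift (ψ N) g (by simp only [ψ, ← Category.assoc, hg, zero_comp]))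
      (fun g hg => kernel.lift_ι _ _ _)
      (fun g hg m hm => by rw [← cancel_mono (kernel.ι (ψ N)), hm, kernel.lift_ι]))
  have hL : (limit F : X.Modules).IsQuasicoherent := by
    have := hF' N
    exact (Groth.QCohMod.isQCoh_iff_of_iso (IsColimit.coconePointUniqueUpToIso
      (cokernelIsCokernel (kernel.ι (ψ N))) hex.gIsCokernel)).mp (Groth.QCohMod.isQCoh_cokernel _)
  refine ⟨hL, fun U => ?_, fun hGcoh => ?_⟩
  · obtain ⟨s, hs, hspan⟩ := hGc U
    refine ⟨Scheme.Modules.Hom.app φ U.1 '' s, hs.image _, top_unique ?_⟩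
    intro y _
    obtain ⟨z, rfl⟩ := Groth.QCohMod.app_surjective_of_epi φ U.2 y
    have hspan' : Submodule.span Γ(X, U.1) (s : Set Γ(G, U.1)) = ⊤ := hspan
    have := Submodule.apply_mem_span_image_of_mem_span (Groth.QCohMod.appₗ φ U.1)
      (hspan'.ge (Submodule.mem_top (x := z)))
    exact this
  · refine (Groth.QCohMod.isCoh_iff _).mpr ⟨hL, fun U hU => ?_⟩
    have := ((Groth.QCohMod.isCoh_iff _).1 hGcoh).2 U hU
    exact Module.Finite.of_surjective (Groth.QCohMod.appₗ φ U) (Groth.QCohMod.app_surjective_of_epi φ hU)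

end Groth.Agent.S15305
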