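import Groth.Statements.S15316
import Groth.Agent.NodeRing.Length

set_option autoImplicit false
universe u
open ArLef ArLef.NodeAlg

namespace Groth.Agent.S15316

/-- Let B be a discrete valuation ring with uniformizer π and N = B[[t, e]]/(te - π) the complete local
ring of a semi-stable arithmetic surface at a singular point of the closed fibre. A ring
automorphism σ of N with σ(π) associated to π (for instance a B-algebra automorphism, or one lying
over an automorphism of B) either stabilizes the two branches, σ(t) = α t and σ(e) = β e for units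
α, β, or switches them, σ(t) = α e and σ(e) = β t for units α, β. (The published setting has B
complete with algebraically closed residue field and σ linear over B or over an automorphism of B;
the argument uses only that σ(π) generates (π).) -/
theorem result (B : Type u) [CommRing B] [IsDomain B] [IsDiscreteValuationRing B] (π : B) (hπ : Irreducible π)
    (σ : ArLef.NodeAlg B π ≃+* ArLef.NodeAlg B π)
    (hσ : Associated (σ (algebraMap B (ArLef.NodeAlg B π) π)) (algebraMap B (ArLef.NodeAlg B π) π)) :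
    (∃ α β : (ArLef.NodeAlg B π)ˣ, σ (ArLef.NodeAlg.t π) = (α : ArLef.NodeAlg B π) * ArLef.NodeAlg.t π ∧ σ (ArLef.NodeAlg.e π) = (β : ArLef.NodeAlg B π) * ArLef.NodeAlg.e π) ∨
      (∃ α β : (ArLef.NodeAlg B π)ˣ, σ (ArLef.NodeAlg.t π) = (α : ArLef.NodeAlg B π) * ArLef.NodeAlg.e π ∧ σ (ArLef.NodeAlg.e π) = (β : ArLef.NodeAlg B π) * ArLef.NodeAlg.t π) := by
  have hdom := Groth.NodeRing.node_isDomain hπ
  have hloc := Groth.NodeRing.node_isLocalRing hπ
  have hp := Groth.NodeRing.prime_t hπ
  have hq := Groth.NodeRing.prime_e hπ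
  obtain ⟨c, hc⟩ := hσ.symm
  rw [← Groth.NodeRing.t_mul_e, map_mul σ] at hc
  have hst : Irreducible (σ (ArLef.NodeAlg.t π)) := (MulEquiv.irreducible_iff σ.toMulEquiv).2 hp.irreducible
  have key : ∀ {p q : ArLef.NodeAlg B π}, Prime p → ArLef.NodeAlg.t π * ArLef.NodeAlg.e π = p * q →
      p ∣ σ (ArLef.NodeAlg.t π) → ∃ α β : (ArLef.NodeAlg B π)ˣ,
        σ (ArLef.NodeAlg.t π) = α * p ∧ σ (ArLef.NodeAlg.e π) = β * q := by
    intro p q hp hpq hdvd
    obtain ⟨u, hu⟩ := (hp.irreducible.associated_of_dvd hst hdvd)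
    refine ⟨u, c * u⁻¹, by rw [← hu, mul_comm], ?_⟩
    rw [← hu] at hc
    have h0 : (u : ArLef.NodeAlg B π) * σ (ArLef.NodeAlg.e π) = c * q := by
      refine mul_left_cancel₀ hp.ne_zero ?_
      linear_combination (-1 : ArLef.NodeAlg B π) * hc + (c : ArLef.NodeAlg B π) * hpq
    rw [Units.val_mul, mul_comm (c : ArLef.NodeAlg B π), mul_assoc, ← h0, Units.inv_mul_cancel_left]
  rcases hp.dvd_or_dvd (Dvd.intro ((c : ArLef.NodeAlg B π) * ArLef.NodeAlg.e π)
    (by rw [← hc]; ring) : ArLef.NodeAlg.t π ∣ σ (ArLef.NodeAlg.t π) * σ (ArLef.NodeAlg.e π)) with h | h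
  · exact Or.inl (key hp rfl h)
  · refine Or.inr (key hq (mul_comm _ _) ?_)
    refine (hq.dvd_or_dvd (Dvd.intro ((c : ArLef.NodeAlg B π) * ArLef.NodeAlg.t π)
      (by rw [← hc]; ring) : ArLef.NodeAlg.e π ∣ σ (ArLef.NodeAlg.t π) * σ (ArLef.NodeAlg.e π))).resolve_right
      fun h' => ?_
    have hse : Irreducible (σ (ArLef.NodeAlg.e π)) := (MulEquiv.irreducible_iff σ.toMulEquiv).2 hq.irreducible
    exact Groth.NodeRing.not_t_dvd_e' hπ
      (((hp.irreducible.associated_of_dvd hse h).trans (hq.irreducible.associated_of_dvd hse h').symm).dvd)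

end Groth.Agent.S15316
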