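import Groth.Statements.S15317
import Groth.Agent.NodeRing.Length

set_option autoImplicit false
universe u
open ArLef ArLef.NodeAlg

namespace Groth.Agent.S15317

/-- Let B be a discrete valuation ring with uniformizer π, N = B[[t, e]]/(te - π), and σ a non-trivial
B-algebra automorphism of N stabilizing both branches of the closed fibre (σ(t) associated to t,
σ(e) associated to e). Then the fixed-point ideal of σ, generated by all σ(r) - r, is g·(t, e) for a
non-zero g: the divisorial part of the fixed locus is cut out by g and its residual part is the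
reduced closed point, of multiplicity one. (Stated in the complete local ring, where the published
argument takes place; the published setting has B complete with algebraically closed residue field.) -/
theorem result (B : Type u) [CommRing B] [IsDomain B] [IsDiscreteValuationRing B] (π : B) (hπ : Irreducible π)
    (σ : ArLef.NodeAlg B π ≃ₐ[B] ArLef.NodeAlg B π) (hσ : σ ≠ AlgEquiv.refl)
    (ht : Associated (σ (ArLef.NodeAlg.t π)) (ArLef.NodeAlg.t π))
    (he : Associated (σ (ArLef.NodeAlg.e π)) (ArLef.NodeAlg.e π)) :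
    ∃ g : ArLef.NodeAlg B π, g ≠ 0 ∧
      ArLef.fixIdeal σ = Ideal.span {g} * Ideal.span ({ArLef.NodeAlg.t π, ArLef.NodeAlg.e π} : Set (ArLef.NodeAlg B π)) := by
  have hdom := Groth.NodeRing.node_isDomain hπ
  have hloc := Groth.NodeRing.node_isLocalRing hπ
  have hpt := Groth.NodeRing.prime_t hπ
  have hpe := Groth.NodeRing.prime_e hπ
  obtain ⟨α, hα⟩ := ht.symm
  obtain ⟨β, hβ⟩ := he.symm
  set a := (α : ArLef.NodeAlg B π) - 1 with hadef
  have h1 : (α : ArLef.NodeAlg B π) * β = 1 := by
    have h := σ.commutes π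
    rw [← Groth.NodeRing.t_mul_e, map_mul σ, ← hα, ← hβ] at h
    refine mul_left_cancel₀ (mul_ne_zero hpt.ne_zero hpe.ne_zero) ?_
    linear_combination h
  have hle : ArLef.fixIdeal σ ≤ Ideal.span {ArLef.NodeAlg.t π * a, ArLef.NodeAlg.e π * a} := by
    refine Groth.NodeRing.fixIdeal_le π (Groth.NodeRing.hmax hπ) σ.toRingEquiv.toRingHom
      (Fin.forall_fin_two.2 ⟨?_, ?_⟩) fun b => ?_
    · show σ (ArLef.NodeAlg.t π) - _ ∈ _
      rw [← hα, Ideal.mem_span_pair]
      exact ⟨1, 0, by rw [hadef]; ring⟩
    · show σ (ArLef.NodeAlg.e π) - _ ∈ _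
      rw [← hβ, Ideal.mem_span_pair]
      refine ⟨0, -β, ?_⟩
      rw [hadef]
      linear_combination (-ArLef.NodeAlg.e π) * h1
    · show σ (algebraMap B _ b) - _ ∈ _
      rw [σ.commutes, sub_self]
      exact zero_mem _
  have hge : Ideal.span {ArLef.NodeAlg.t π * a, ArLef.NodeAlg.e π * a} ≤ ArLef.fixIdeal σ := by
    rw [Ideal.span_le, Set.insert_subset_iff, Set.singleton_subset_iff]
    constructor
    · exact Ideal.subset_span ⟨ArLef.NodeAlg.t π, by simp only [← hα, hadef]; ring⟩
    · have hm := Ideal.mul_mem_left (ArLef.fixIdeal σ) (-(α : ArLef.NodeAlg B π))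
        (Ideal.subset_span ⟨ArLef.NodeAlg.e π, rfl⟩ : σ (ArLef.NodeAlg.e π) - ArLef.NodeAlg.e π ∈ ArLef.fixIdeal σ)
      rw [← hβ] at hm
      show ArLef.NodeAlg.e π * a ∈ ArLef.fixIdeal σ
      convert hm using 1
      rw [hadef]
      linear_combination ArLef.NodeAlg.e π * h1
  refine ⟨a, fun h0 => hσ (AlgEquiv.ext fun r => ?_), ?_⟩
  · have hr := hle (Ideal.subset_span ⟨r, rfl⟩)
    rw [h0, mul_zero, mul_zero, Set.pair_eq_singleton, Ideal.span_singleton_eq_bot.2 rfl,
      Submodule.mem_bot, sub_eq_zero] at hr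
    exact hr
  · rw [le_antisymm hle hge, Ideal.span_mul_span', Set.singleton_mul, Set.image_insert_eq,
      Set.image_singleton, mul_comm a, mul_comm a]

end Groth.Agent.S15317
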