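import Groth.Statements.S15318
import Groth.Agent.NodeRing.Length

set_option autoImplicit false
universe u
open ArLef ArLef.NodeAlg

namespace Groth.Agent.S15318

/-- Let B be a discrete valuation ring with uniformizer π, N = B[[t, e]]/(te - π), and σ a B-algebra
automorphism of N switching the two branches of the closed fibre (σ(t) associated to e, σ(e)
associated to t). Then the fixed-point ideal of σ is principal, generated by an element h of order
one (h is not in (t, e)²), and π is a non-zero-divisor modulo h: the fixed locus is a horizontal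
regular divisor through the point with empty residual part. (Stated in the complete local ring,
where the published argument takes place; the published setting has B complete with algebraically
closed residue field.) -/
theorem result (B : Type u) [CommRing B] [IsDomain B] [IsDiscreteValuationRing B] (π : B) (hπ : Irreducible π)
    (σ : ArLef.NodeAlg B π ≃ₐ[B] ArLef.NodeAlg B π)
    (ht : Associated (σ (ArLef.NodeAlg.t π)) (ArLef.NodeAlg.e π))
    (he : Associated (σ (ArLef.NodeAlg.e π)) (ArLef.NodeAlg.t π)) :
    ∃ h : ArLef.NodeAlg B π, ArLef.fixIdeal σ = Ideal.span {h} ∧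
      h ∉ (Ideal.span ({ArLef.NodeAlg.t π, ArLef.NodeAlg.e π} : Set (ArLef.NodeAlg B π))) ^ 2 ∧
      IsSMulRegular (ArLef.NodeAlg B π ⧸ Ideal.span ({h} : Set (ArLef.NodeAlg B π))) π := by
  have hdom := Groth.NodeRing.node_isDomain hπ
  have hloc := Groth.NodeRing.node_isLocalRing hπ
  have hpt := Groth.NodeRing.prime_t hπ
  have hpe := Groth.NodeRing.prime_e hπ
  obtain ⟨α, hα⟩ := ht.symm
  obtain ⟨β, hβ⟩ := he.symm
  set h := (α : ArLef.NodeAlg B π) * ArLef.NodeAlg.e π - ArLef.NodeAlg.t π with hdef
  have h1 : (α : ArLef.NodeAlg B π) * β = 1 := by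
    have h := σ.commutes π
    rw [← Groth.NodeRing.t_mul_e, map_mul σ, ← hα, ← hβ] at h
    refine mul_left_cancel₀ (mul_ne_zero hpt.ne_zero hpe.ne_zero) ?_
    linear_combination h
  have hht : ¬ ArLef.NodeAlg.t π ∣ h := fun hd => by
    have := dvd_add hd (dvd_refl (ArLef.NodeAlg.t π))
    rw [hdef, sub_add_cancel] at this
    exact Groth.NodeRing.not_t_dvd_e' hπ ((IsUnit.dvd_mul_left α.isUnit).1 this)
  have hhe : ¬ ArLef.NodeAlg.e π ∣ h := fun hd => by
    have := dvd_sub (dvd_mul_left (ArLef.NodeAlg.e π) (α : ArLef.NodeAlg B π)) hd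
    rw [hdef, sub_sub_cancel] at this
    exact Groth.NodeRing.not_e_dvd_t' hπ this
  refine ⟨h, le_antisymm ?_ ?_, ?_, ?_⟩
  · refine Groth.NodeRing.fixIdeal_le π (Groth.NodeRing.hmax hπ) σ.toRingEquiv.toRingHom
      (Fin.forall_fin_two.2 ⟨?_, ?_⟩) fun b => ?_
    · show σ (ArLef.NodeAlg.t π) - _ ∈ _
      rw [← hα, Ideal.mem_span_singleton]
      exact ⟨1, by rw [hdef]; ring⟩
    · show σ (ArLef.NodeAlg.e π) - _ ∈ _
      rw [← hβ, Ideal.mem_span_singleton]
      refine ⟨-β, ?_⟩
      rw [hdef]
      linear_combination ArLef.NodeAlg.e π * h1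
    · show σ (algebraMap B _ b) - _ ∈ _
      rw [σ.commutes, sub_self]
      exact zero_mem _
  · rw [Ideal.span_le, Set.singleton_subset_iff]
    exact Ideal.subset_span ⟨ArLef.NodeAlg.t π, by simp only [← hα, hdef]; ring⟩
  · intro hm
    have hmem := Ideal.mem_map_of_mem (Groth.NodeRing.branch π 0) hm
    rw [Ideal.map_pow, Ideal.map_span, Set.image_insert_eq, Set.image_singleton,
      show Groth.NodeRing.branch π 0 (ArLef.NodeAlg.t π) = 0 from Groth.NodeRing.branch_self π 0,
      show Groth.NodeRing.branch π 0 (ArLef.NodeAlg.e π) = PowerSeries.X from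
        Groth.NodeRing.branch_other π 0,
      Ideal.span_insert_zero, Ideal.span_singleton_pow, Ideal.mem_span_singleton,
      PowerSeries.X_pow_dvd_iff] at hmem
    have := hmem 1 (by norm_num)
    rw [hdef, map_sub, map_mul,
      show Groth.NodeRing.branch π 0 (ArLef.NodeAlg.t π) = 0 from Groth.NodeRing.branch_self π 0,
      show Groth.NodeRing.branch π 0 (ArLef.NodeAlg.e π) = PowerSeries.X from
        Groth.NodeRing.branch_other π 0,
      sub_zero, PowerSeries.coeff_succ_mul_X, PowerSeries.coeff_zero_eq_constantCoeff] at this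
    have hu := PowerSeries.isUnit_constantCoeff _ (α.isUnit.map (Groth.NodeRing.branch π 0))
    rw [this] at hu
    have := Groth.NodeRing.isDomain_quot hπ
    exact not_isUnit_zero hu
  · rw [isSMulRegular_iff_right_eq_zero_of_smul]
    intro q hq
    obtain ⟨x, rfl⟩ := Submodule.Quotient.mk_surjective _ q
    rw [← Submodule.Quotient.mk_smul, Submodule.Quotient.mk_eq_zero] at hq
    rw [Submodule.Quotient.mk_eq_zero]
    revert hq
    intro hx
    replace hx : algebraMap B (ArLef.NodeAlg B π) π * x ∈ Ideal.span ({h} : Set (ArLef.NodeAlg B π)) := by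
      convert hx using 1; exact (Algebra.smul_def π x).symm
    rw [← Groth.NodeRing.t_mul_e, mul_assoc, Ideal.mem_span_singleton] at hx
    rw [Ideal.mem_span_singleton]
    exact Groth.NodeRing.dvd_of_dvd_prime_mul hpe hhe _
      (Groth.NodeRing.dvd_of_dvd_prime_mul hpt hht _ hx)

end Groth.Agent.S15318
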