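import Groth.Statements.S15319
import Groth.Agent.NodeRing.Length

set_option autoImplicit false
universe u
open ArLef ArLef.NodeAlg

namespace Groth.Agent.S15319

/-- Let B be a discrete valuation ring with uniformizer π, N = B[[t, e]]/(te - π) the complete local
ring of a semi-stable arithmetic surface over B at a singular point of the closed fibre, and σ a
ring automorphism of N sending π to π + γ π^j with γ a unit of B and j ≥ 1 (σ lies over an
automorphism τ of B with v(τ(π) - π) = j). Then the fixed-point ideal of σ is not contained in (π^j)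
= (t^j e^j): the two branches through the point cannot both occur with multiplicity j in the
divisorial part of the fixed locus. (The published setting has B complete with algebraically closed
residue field.) -/
theorem result (B : Type u) [CommRing B] [IsDomain B] [IsDiscreteValuationRing B] (π : B) (hπ : Irreducible π)
    (j : ℕ) (hj : 1 ≤ j) (γ : B) (hγ : IsUnit γ)
    (σ : ArLef.NodeAlg B π ≃+* ArLef.NodeAlg B π)
    (hσ : σ (algebraMap B (ArLef.NodeAlg B π) π) = algebraMap B (ArLef.NodeAlg B π) (π + γ * π ^ j)) :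
    ¬ ArLef.fixIdeal σ ≤ Ideal.span ({algebraMap B (ArLef.NodeAlg B π) (π ^ j)} : Set (ArLef.NodeAlg B π)) := by
  have hdom := Groth.NodeRing.node_isDomain hπ
  have hloc := Groth.NodeRing.node_isLocalRing hπ
  intro hle
  obtain ⟨l, rfl⟩ : ∃ l, j = l + 1 := ⟨j - 1, by omega⟩
  obtain ⟨c, hc⟩ := Ideal.mem_span_singleton.1 (hle (Ideal.subset_span ⟨ArLef.NodeAlg.t π, rfl⟩))
  obtain ⟨d, hd⟩ := Ideal.mem_span_singleton.1 (hle (Ideal.subset_span ⟨ArLef.NodeAlg.e π, rfl⟩))
  rw [← Groth.NodeRing.t_mul_e, map_mul σ, sub_eq_iff_eq_add.1 hc, sub_eq_iff_eq_add.1 hd, map_add,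
    map_mul, map_pow, ← Groth.NodeRing.t_mul_e] at hσ
  have hu := hγ.map (algebraMap B (ArLef.NodeAlg B π))
  have heq : algebraMap B (ArLef.NodeAlg B π) γ = ArLef.NodeAlg.t π *
      (d + ArLef.NodeAlg.e π * ((ArLef.NodeAlg.t π * ArLef.NodeAlg.e π) ^ l * (c * d))) +
        ArLef.NodeAlg.e π * c := by
    refine mul_left_cancel₀ (pow_ne_zero (l + 1) (mul_ne_zero (Groth.NodeRing.prime_t hπ).ne_zero
      (Groth.NodeRing.prime_e hπ).ne_zero)) ?_
    linear_combination (-1 : ArLef.NodeAlg B π) * hσ
  have hmem : algebraMap B (ArLef.NodeAlg B π) γ ∈ IsLocalRing.maximalIdeal (ArLef.NodeAlg B π) := by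
    rw [Groth.NodeRing.maximalIdeal_eq π (Groth.NodeRing.hmax hπ), heq]
    exact add_mem (Ideal.mul_mem_right _ _ (Ideal.subset_span (by simp)))
      (Ideal.mul_mem_right _ _ (Ideal.subset_span (by simp)))
  exact (IsLocalRing.mem_maximalIdeal _).1 hmem hu

end Groth.Agent.S15319
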