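import Groth.Statements.S1532
import Groth.Agent.Curves1.RR.Numerics

set_option autoImplicit false
universe u
open CategoryTheory CategoryTheory.Limits AlgebraicGeometry
open Curves

namespace Groth.Agent.S1532

/-- Let X be a proper integral one-dimensional scheme over k whose global functions are k, of genus g, L
an invertible module and Z a closed subscheme of dimension zero with ideal sheaf I, with deg L > 2g
- 2 + deg Z. Then H^1(X, I ⊗ L) = 0, and if moreover H^0(X, I ⊗ L) = 0 then g = 0 and deg L = deg Z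
- 1. -/
theorem result (k : Type u) [Field k] (X : Scheme.{u}) [X.Over (Spec (CommRingCat.of k))]
    [IsProper (X ↘ (Spec (CommRingCat.of k)))] [IsIntegral X] (hdim : topologicalKrullDim X = 1)
    (h0 : Module.finrank k (Coh.HH X (Coh.structureModule X) 0) = 1)
    (L : X.Modules) (hL : PicF.IsInvertible L) (Z : X.IdealSheafData) (hZ : topologicalKrullDim (Z.support : Set X) ≤ 0)
    (hdeg : 2 * (Curv2.genus k X : ℤ) - 2 + Module.finrank k (Coh.HH X (ClSub.quotMod Z) 0) < Curv2.deg k X L 1) :
    Subsingleton (Coh.HH X (CohB1.tensorMod (ClSub.idealMod Z) L) 1) ∧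
      (Subsingleton (Coh.HH X (CohB1.tensorMod (ClSub.idealMod Z) L) 0) →
        Curv2.genus k X = 0 ∧ Curv2.deg k X L 1 = Module.finrank k (Coh.HH X (ClSub.quotMod Z) 0) - 1) := by
  have h1 : Subsingleton (Coh.HH X (CohB1.tensorMod (ClSub.idealMod Z) L) 1) := by
    by_contra hn
    rw [not_subsingleton_iff_nontrivial] at hn
    have := Groth.Curves1.RR.deg_le_of_h1_ideal_twist k hdim.le h0 hL Z hZ hn
    omega
  refine ⟨h1, fun hsub => ?_⟩
  obtain ⟨j, hj, hM, he⟩ := Groth.Curves1.RR.ideal_twist k hL Z hZ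
  have e := Groth.EulerDeg.euler_eq_h0_sub_h1 k X hdim.le (CohB1.tensorMod (ClSub.idealMod Z) L)
  rw [Groth.EulerDeg.finrank_eq_zero_of_subsingleton (k := k) hsub,
    Groth.EulerDeg.finrank_eq_zero_of_subsingleton (k := k) h1,
    he, Groth.Curves1.RR.euler_eq k hdim.le h0] at e
  omega

end Groth.Agent.S1532
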