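import Groth.Statements.S15320
import Groth.Agent.NodeRing.Length

set_option autoImplicit false
universe u
open ArLef ArLef.NodeAlg

namespace Groth.Agent.S15320

/-- Let B be a discrete valuation ring with uniformizer π, N = B[[t, e]]/(te - π) the complete local
ring of a semi-stable arithmetic surface over B at a singular point x of the closed fibre, and σ a
ring automorphism of N over an automorphism τ of B with v(τ(π) - π) = j ≥ 1, that is σ(π) = π + γ
π^j with γ a unit of B, and with σ(b) - b ∈ π^j N for every b ∈ B (automatic when B is totally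
ramified over the fixed ring of τ, as in the published setting, where the residue field is
algebraically closed). If σ switches the two branches through x (σ(t) associated to e and σ(e) to
t), then the fixed-point ideal I of σ is contained in no proper principal ideal (x is not on the
divisorial part of the fixed locus) and N/I has length 2j - 1 (the multiplicity of x in the residual
fixed-point scheme). -/
theorem result (B : Type u) [CommRing B] [IsDomain B] [IsDiscreteValuationRing B] (π : B) (hπ : Irreducible π)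
    (j : ℕ) (hj : 1 ≤ j) (γ : B) (hγ : IsUnit γ)
    (σ : ArLef.NodeAlg B π ≃+* ArLef.NodeAlg B π)
    (hσB : ∀ b : B, σ (algebraMap B (ArLef.NodeAlg B π) b) - algebraMap B (ArLef.NodeAlg B π) b ∈
      Ideal.span ({algebraMap B (ArLef.NodeAlg B π) (π ^ j)} : Set (ArLef.NodeAlg B π)))
    (hσπ : σ (algebraMap B (ArLef.NodeAlg B π) π) = algebraMap B (ArLef.NodeAlg B π) (π + γ * π ^ j))
    (ht : Associated (σ (ArLef.NodeAlg.t π)) (ArLef.NodeAlg.e π)) (he : Associated (σ (ArLef.NodeAlg.e π)) (ArLef.NodeAlg.t π)) :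
    (∀ g : ArLef.NodeAlg B π, ArLef.fixIdeal σ ≤ Ideal.span ({g} : Set (ArLef.NodeAlg B π)) → IsUnit g) ∧
      Module.length (ArLef.NodeAlg B π) (ArLef.NodeAlg B π ⧸ ArLef.fixIdeal σ) = ((2 * j - 1 : ℕ) : ℕ∞) := by
  have hdom := Groth.NodeRing.node_isDomain hπ
  have hloc := Groth.NodeRing.node_isLocalRing hπ
  have hpt := Groth.NodeRing.prime_t hπ
  have hpe := Groth.NodeRing.prime_e hπ
  obtain ⟨α, hα⟩ := ht.symm
  obtain ⟨β, hβ⟩ := he.symm
  set t := ArLef.NodeAlg.t π
  set e := ArLef.NodeAlg.e π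
  set h := (α : ArLef.NodeAlg B π) * e - t with hdef
  set g := algebraMap B (ArLef.NodeAlg B π) γ with hgdef
  obtain ⟨l, rfl⟩ : ∃ l, j = l + 1 := ⟨j - 1, by omega⟩
  have h1 : (α : ArLef.NodeAlg B π) * β - 1 = g * (t * e) ^ l := by
    rw [← Groth.NodeRing.t_mul_e, map_mul σ, ← hα, ← hβ, map_add, map_mul, map_pow,
      ← Groth.NodeRing.t_mul_e] at hσπ
    refine mul_left_cancel₀ (mul_ne_zero hpt.ne_zero hpe.ne_zero) ?_
    linear_combination hσπ
  have hhe : ¬ e ∣ h := fun hd => by
    have := dvd_sub (dvd_mul_left e (α : ArLef.NodeAlg B π)) hd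
    rw [hdef, sub_sub_cancel] at this
    exact Groth.NodeRing.not_e_dvd_t' hπ this
  obtain ⟨g', hg'⟩ := (hγ.map (algebraMap B (ArLef.NodeAlg B π))).exists_left_inv
  rw [← hgdef] at hg'
  obtain ⟨c, hc⟩ : ∃ c, (t * e) ^ l * e = (α : ArLef.NodeAlg B π) ^ l * e ^ (2 * l + 1) + c * h := by
    obtain ⟨c, hc⟩ : h ∣ t ^ l - ((α : ArLef.NodeAlg B π) * e) ^ l :=
      dvd_trans ⟨-1, by rw [hdef]; ring⟩ (sub_dvd_pow_sub_pow _ _ l)
    refine ⟨c * e ^ (l + 1), ?_⟩
    rw [mul_pow, pow_succ e (2 * l), two_mul, pow_add]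
    linear_combination (e ^ (l + 1)) * hc
  have hI : ArLef.fixIdeal σ = Ideal.span {h, e ^ (2 * l + 1)} := by
    refine le_antisymm ?_ ?_
    · refine Groth.NodeRing.fixIdeal_le π (Groth.NodeRing.hmax hπ) σ.toRingHom
        (Fin.forall_fin_two.2 ⟨?_, ?_⟩) fun b => ?_
      · show σ t - t ∈ _
        rw [← hα, Ideal.mem_span_pair]
        exact ⟨1, 0, by rw [hdef]; ring⟩
      · show σ e - e ∈ _
        rw [← hβ, Ideal.mem_span_pair]
        refine ⟨-β + g * c, g * (α : ArLef.NodeAlg B π) ^ l, ?_⟩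
        rw [hdef] at hc ⊢
        linear_combination (-g) * hc - e * h1
      · refine Ideal.span_le.2 ?_ (hσB b)
        rw [Set.singleton_subset_iff, SetLike.mem_coe, map_pow, ← Groth.NodeRing.t_mul_e,
          Ideal.mem_span_pair]
        refine ⟨t * c, t * (α : ArLef.NodeAlg B π) ^ l, ?_⟩
        linear_combination (-t) * hc
    · have ht' : h ∈ ArLef.fixIdeal σ := Ideal.subset_span ⟨t, by simp only [← hα, hdef]; ring⟩
      have he' : σ e - e ∈ ArLef.fixIdeal σ := Ideal.subset_span ⟨e, rfl⟩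
      rw [← hβ] at he'
      rw [Ideal.span_le, Set.insert_subset_iff, Set.singleton_subset_iff]
      refine ⟨ht', ?_⟩
      have h3 : (t * e) ^ l * e ∈ ArLef.fixIdeal σ := by
        have := add_mem (Ideal.mul_mem_left _ g' he') (Ideal.mul_mem_left _ (g' * β) ht')
        convert this using 1
        rw [hdef]
        linear_combination (-((t * e) ^ l * e)) * hg' - (g' * e) * h1
      rw [hc] at h3
      have h4 := (Submodule.add_mem_iff_left _ (Ideal.mul_mem_left _ c ht')).1 h3
      exact (Ideal.unit_mul_mem_iff_mem _ (α.isUnit.pow l)).1 h4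
  rw [hI]
  refine ⟨fun d hd => ?_, ?_⟩
  · have hd1 := Ideal.mem_span_singleton.1 (hd (Ideal.subset_span (Set.mem_insert _ _)))
    have hd2 := Ideal.mem_span_singleton.1 (hd (Ideal.subset_span (Set.mem_insert_of_mem _ rfl)))
    obtain ⟨i, -, hi⟩ := (dvd_prime_pow hpe _).1 hd2
    rcases Nat.eq_zero_or_pos i with rfl | hi0
    · rw [pow_zero] at hi
      exact hi.symm.isUnit isUnit_one
    · exact absurd ((dvd_pow_self e hi0.ne').trans (hi.symm.dvd.trans hd1)) hhe
  · change Groth.NodeRing.len h (e ^ (2 * l + 1)) = _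
    rw [Groth.NodeRing.len_comm, Groth.NodeRing.len_pow hpe hhe,
      show Groth.NodeRing.len e h = 1 from ?_, mul_one]
    · congr 1
    · rw [← Groth.NodeRing.len_t_e hπ, Groth.NodeRing.len_comm (ArLef.NodeAlg.t π)]
      refine Groth.NodeRing.len_congr ?_
      rw [← Groth.NodeRing.span_pair_add e t (α : ArLef.NodeAlg B π) isUnit_one.neg]
      congr 3
      rw [hdef]; ring

end Groth.Agent.S15320
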