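import Groth.Statements.S15323
import Groth.Agent.NodeRing.Length

set_option autoImplicit false
universe u
open ArLef ArLef.NodeAlg

namespace Groth.Agent.S15323

/-- In the cases where the branches through the point do not lie in the divisorial part of the fixed
locus, let B be a discrete valuation ring with uniformizer π, N = B[[t, e]]/(te - π) the complete
local ring of a semi-stable arithmetic surface over B at a singular point x of the closed fibre, and
σ a ring automorphism of N with σ(π) = π + γ π^j (γ a unit of B, j ≥ 1) and σ(b) - b ∈ π^j N for all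
b ∈ B (σ lies over an automorphism τ of B with v(τ(π) - π) = j, B totally ramified over the fixed
ring as in the published setting). Suppose σ fixes the branches, σ(t) = α t and σ(e) = β e with
units α, β, and that t does not divide β - 1 and e does not divide α - 1. Then the length of N
modulo the fixed-point ideal of σ (the multiplicity of x in the residual fixed-point scheme) is j
(s₁ + s₂) + 1, where s₁ = length N/(t, β - 1) and s₂ = length N/(e, α - 1) are the fixed-point
multiplicities of σ at x along the two branches, each lowered by one. -/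
theorem result (B : Type u) [CommRing B] [IsDomain B] [IsDiscreteValuationRing B] (π : B) (hπ : Irreducible π)
    (j : ℕ) (hj : 1 ≤ j) (γ : B) (hγ : IsUnit γ)
    (σ : ArLef.NodeAlg B π ≃+* ArLef.NodeAlg B π)
    (hσB : ∀ b : B, σ (algebraMap B (ArLef.NodeAlg B π) b) - algebraMap B (ArLef.NodeAlg B π) b ∈
      Ideal.span ({algebraMap B (ArLef.NodeAlg B π) (π ^ j)} : Set (ArLef.NodeAlg B π)))
    (hσπ : σ (algebraMap B (ArLef.NodeAlg B π) π) = algebraMap B (ArLef.NodeAlg B π) (π + γ * π ^ j))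
    (α β : (ArLef.NodeAlg B π)ˣ) (ht : σ (ArLef.NodeAlg.t π) = (α : ArLef.NodeAlg B π) * ArLef.NodeAlg.t π) (he : σ (ArLef.NodeAlg.e π) = (β : ArLef.NodeAlg B π) * ArLef.NodeAlg.e π)
    (htb : ¬ (ArLef.NodeAlg.t π ∣ (β : ArLef.NodeAlg B π) - 1)) (hea : ¬ (ArLef.NodeAlg.e π ∣ (α : ArLef.NodeAlg B π) - 1)) :
    Module.length (ArLef.NodeAlg B π) (ArLef.NodeAlg B π ⧸ ArLef.fixIdeal σ) =
      (j : ℕ∞) * (Module.length (ArLef.NodeAlg B π) (ArLef.NodeAlg B π ⧸ Ideal.span ({ArLef.NodeAlg.t π, (β : ArLef.NodeAlg B π) - 1} : Set (ArLef.NodeAlg B π))) +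
        Module.length (ArLef.NodeAlg B π) (ArLef.NodeAlg B π ⧸ Ideal.span ({ArLef.NodeAlg.e π, (α : ArLef.NodeAlg B π) - 1} : Set (ArLef.NodeAlg B π)))) + 1 := by
  have hdom := Groth.NodeRing.node_isDomain hπ
  have hloc := Groth.NodeRing.node_isLocalRing hπ
  have hpt := Groth.NodeRing.prime_t hπ
  have hpe := Groth.NodeRing.prime_e hπ
  have hrel := Groth.NodeRing.mul_sub_one hπ hj hσπ ht he
  rw [Groth.NodeRing.fixIdeal_eq hπ hj hγ hσB hσπ ht he]
  set a := (α : ArLef.NodeAlg B π) - 1 with hadef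
  set b := (β : ArLef.NodeAlg B π) - 1 with hbdef
  set g := algebraMap B (ArLef.NodeAlg B π) γ
  have hg : IsUnit g := hγ.map _
  obtain ⟨l, rfl⟩ : ∃ l, j = l + 1 := ⟨j - 1, by omega⟩
  rw [Nat.add_sub_cancel] at hrel
  have hab : a + (α : ArLef.NodeAlg B π) * b = g * (ArLef.NodeAlg.t π * ArLef.NodeAlg.e π) ^ l := by
    rw [hadef, hbdef]; linear_combination hrel
  change Groth.NodeRing.len (a * ArLef.NodeAlg.t π) (b * ArLef.NodeAlg.e π) =
    ((l + 1 : ℕ) : ℕ∞) * (Groth.NodeRing.len (ArLef.NodeAlg.t π) b + Groth.NodeRing.len (ArLef.NodeAlg.e π) a) + 1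
  have htbe : ¬ ArLef.NodeAlg.t π ∣ b * ArLef.NodeAlg.e π := fun h =>
    (hpt.dvd_or_dvd h).elim htb (Groth.NodeRing.not_t_dvd_e' hπ)
  have h1 : Groth.NodeRing.len a (b * ArLef.NodeAlg.e π) =
      Groth.NodeRing.len (ArLef.NodeAlg.t π ^ l * ArLef.NodeAlg.e π ^ (l + 1)) a := by
    rw [Groth.NodeRing.len_comm _ a]
    refine Groth.NodeRing.len_congr ?_
    rw [← Groth.NodeRing.span_pair_add a (b * ArLef.NodeAlg.e π) (ArLef.NodeAlg.e π) α.isUnit,
      ← Groth.NodeRing.span_pair_add a (ArLef.NodeAlg.t π ^ l * ArLef.NodeAlg.e π ^ (l + 1)) 0 hg]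
    congr 3
    linear_combination ArLef.NodeAlg.e π * hab
  have hta : l = 0 ∨ ¬ ArLef.NodeAlg.t π ∣ a := or_iff_not_imp_left.2 fun hl h => by
    refine htb ((IsUnit.dvd_mul_left α.isUnit).1 ((dvd_add_right h).1 ?_))
    rw [hab]
    exact dvd_mul_of_dvd_right ((dvd_mul_right _ _).trans (dvd_pow_self _ hl)) _
  rw [mul_comm a, Groth.NodeRing.len_prime_mul hpt htbe, mul_comm b, Groth.NodeRing.len_t_e_mul hπ,
    mul_comm _ b, h1, Groth.NodeRing.len_pow_mul hpt l hta,
    Groth.NodeRing.len_pow hpe hea]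
  have h2 : (l : ℕ∞) * Groth.NodeRing.len (ArLef.NodeAlg.t π) a =
      (l : ℕ∞) * Groth.NodeRing.len (ArLef.NodeAlg.t π) b := by
    rcases Nat.eq_zero_or_pos l with rfl | hl
    · simp
    · congr 1
      refine (Groth.NodeRing.len_congr ?_).symm
      rw [← Groth.NodeRing.span_pair_add _ a
        (-g * ArLef.NodeAlg.e π * (ArLef.NodeAlg.t π * ArLef.NodeAlg.e π) ^ (l - 1)) isUnit_one,
        ← Groth.NodeRing.span_pair_add _ b 0 α.isUnit.neg]
      congr 3
      obtain ⟨m, rfl⟩ : ∃ m, l = m + 1 := ⟨l - 1, by omega⟩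
      rw [Nat.add_sub_cancel]
      linear_combination -hab
  rw [h2, Nat.cast_succ]
  ring

end Groth.Agent.S15323
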