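import Groth.Statements.S15325
import Groth.Agent.NodeRing.Smooth

set_option autoImplicit false
universe u
open ArLef ArLef.NodeAlg

namespace Groth.Agent.S15325

/-- Let k be a field, A = k[[t, e]]/(te) the complete local ring of a nodal curve at a node x, and σ a
k-algebra automorphism of A fixing the two branches, σ(t) = α t and σ(e) = β e with units α, β.
Writing I for the fixed-point ideal of σ (generated by all σ(r) - r), the fixed-point multiplicity
length(A/I) of σ at x and the fixed-point multiplicities length(A/(I + (t))), length(A/(I + (e))) of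
the automorphisms induced on the two branches satisfy length(A/I) + 1 = length(A/(I + (t))) +
length(A/(I + (e))), as extended natural numbers (both sides are infinite when σ fixes a branch
pointwise). (The published setting has k algebraically closed.) -/
theorem result (k : Type u) [Field k]
    (σ : ArLef.NodeAlg k 0 ≃ₐ[k] ArLef.NodeAlg k 0) (α β : (ArLef.NodeAlg k 0)ˣ)
    (ht : σ (ArLef.NodeAlg.t (0 : k)) = (α : ArLef.NodeAlg k 0) * ArLef.NodeAlg.t (0 : k)) (he : σ (ArLef.NodeAlg.e (0 : k)) = (β : ArLef.NodeAlg k 0) * ArLef.NodeAlg.e (0 : k)) :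
    Module.length (ArLef.NodeAlg k 0) (ArLef.NodeAlg k 0 ⧸ ArLef.fixIdeal σ) + 1 =
      Module.length (ArLef.NodeAlg k 0) (ArLef.NodeAlg k 0 ⧸ (ArLef.fixIdeal σ ⊔ Ideal.span ({ArLef.NodeAlg.t (0 : k)} : Set (ArLef.NodeAlg k 0)))) +
        Module.length (ArLef.NodeAlg k 0) (ArLef.NodeAlg k 0 ⧸ (ArLef.fixIdeal σ ⊔ Ideal.span ({ArLef.NodeAlg.e (0 : k)} : Set (ArLef.NodeAlg k 0)))) := by
  have hm : IsLocalRing.maximalIdeal k = Ideal.span {(0 : k)} := by
    rw [Ideal.span_singleton_eq_bot.2 rfl]
    exact IsLocalRing.maximalIdeal_eq_bot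
  have hloc := Groth.NodeRing.isLocalRing (0 : k) hm
  have hqd : IsDomain (k ⧸ Ideal.span {(0 : k)}) := by
    have : (Ideal.span {(0 : k)}).IsPrime := hm ▸ (IsLocalRing.maximalIdeal.isMaximal k).isPrime
    exact Ideal.Quotient.isDomain _
  set N := ArLef.NodeAlg k 0
  set t : N := ArLef.NodeAlg.t (0 : k)
  set e : N := ArLef.NodeAlg.e (0 : k)
  set I := ArLef.fixIdeal σ with hIdef
  have hte : t * e = 0 := by rw [Groth.NodeRing.t_mul_e, map_zero]
  have hI : I = Ideal.span {((α : N) - 1) * t, ((β : N) - 1) * e} := by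
    refine le_antisymm (Groth.NodeRing.fixIdeal_le (0 : k) hm σ.toRingEquiv.toRingHom
      (Fin.forall_fin_two.2 ⟨?_, ?_⟩) fun b => ?_) ?_
    · show σ t - t ∈ _
      rw [ht, Ideal.mem_span_pair]
      exact ⟨1, 0, by ring⟩
    · show σ e - e ∈ _
      rw [he, Ideal.mem_span_pair]
      exact ⟨0, 1, by ring⟩
    · show σ (algebraMap k _ b) - _ ∈ _
      rw [σ.commutes, sub_self]
      exact zero_mem _
    · rw [Ideal.span_le, Set.insert_subset_iff, Set.singleton_subset_iff]
      exact ⟨Ideal.subset_span ⟨t, by simp only [ht]; ring⟩,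
        Ideal.subset_span ⟨e, by simp only [he]; ring⟩⟩
  have hsup : I ⊔ Ideal.span {t} ⊔ (I ⊔ Ideal.span {e}) = Ideal.span {t, e} := by
    refine le_antisymm ?_ ?_
    · have h1 : I ≤ Ideal.span {t, e} := by
        rw [hI, Ideal.span_le, Set.insert_subset_iff, Set.singleton_subset_iff]
        exact ⟨Ideal.mul_mem_left _ _ (Ideal.subset_span (by simp)),
          Ideal.mul_mem_left _ _ (Ideal.subset_span (by simp))⟩
      exact sup_le (sup_le h1 (Ideal.span_mono (by simp))) (sup_le h1 (Ideal.span_mono (by simp)))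
    · rw [Ideal.span_insert]
      exact sup_le_sup le_sup_right le_sup_right
  have hinf : (I ⊔ Ideal.span {t}) ⊓ (I ⊔ Ideal.span {e}) = I := by
    refine le_antisymm (fun x hx => ?_) (le_inf le_sup_left le_sup_left)
    obtain ⟨⟨i, hi, p, hp, rfl⟩, ⟨i', hi', q, hq, hx'⟩⟩ :=
      (Submodule.mem_inf.1 hx).imp Submodule.mem_sup.1 Submodule.mem_sup.1
    refine add_mem hi ?_
    obtain ⟨p, rfl⟩ := Ideal.mem_span_singleton.1 hp
    obtain ⟨q, rfl⟩ := Ideal.mem_span_singleton.1 hq
    have hd : t * p - e * q ∈ I := by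
      have : t * p - e * q = i' - i := by linear_combination -hx'
      exact this ▸ sub_mem hi' hi
    rw [hI, Ideal.mem_span_pair] at hd
    obtain ⟨u, w, huw⟩ := hd
    have h1 : t * (p - u * ((α : N) - 1)) = e * (q + w * ((β : N) - 1)) := by linear_combination -huw
    obtain ⟨z, hz⟩ : e ∣ p - u * ((α : N) - 1) :=
      ((Groth.NodeRing.prime_v (0 : k) 1).dvd_or_dvd (Dvd.intro _ h1.symm :
        e ∣ t * (p - u * ((α : N) - 1)))).resolve_left (Groth.NodeRing.not_e_dvd_t (0 : k))
    rw [hI, Ideal.mem_span_pair]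
    exact ⟨u, 0, by linear_combination (-t) * hz - z * hte⟩
  let f : (N ⧸ I) →ₗ[N] (N ⧸ (I ⊔ Ideal.span {t})) × (N ⧸ (I ⊔ Ideal.span {e})) :=
    (Submodule.factor le_sup_left).prod (Submodule.factor le_sup_left)
  let g : (N ⧸ (I ⊔ Ideal.span {t})) × (N ⧸ (I ⊔ Ideal.span {e})) →ₗ[N]
      (N ⧸ (I ⊔ Ideal.span {t} ⊔ (I ⊔ Ideal.span {e}))) :=
    (Submodule.factor le_sup_left).coprod (-Submodule.factor le_sup_right)
  have hf : Function.Injective f := by
    rw [injective_iff_map_eq_zero]
    intro x hx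
    obtain ⟨x, rfl⟩ := Submodule.Quotient.mk_surjective _ x
    rw [Submodule.Quotient.mk_eq_zero]
    exact hinf.le ⟨(Submodule.Quotient.mk_eq_zero _).1 (congrArg Prod.fst hx),
      (Submodule.Quotient.mk_eq_zero _).1 (congrArg Prod.snd hx)⟩
  have hg : Function.Surjective g := by
    intro z
    obtain ⟨z, rfl⟩ := Submodule.Quotient.mk_surjective _ z
    refine ⟨(Submodule.Quotient.mk z, 0), ?_⟩
    simp [g]
  have hex : Function.Exact f g := by
    rintro ⟨a, b⟩
    obtain ⟨a, rfl⟩ := Submodule.Quotient.mk_surjective _ a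
    obtain ⟨b, rfl⟩ := Submodule.Quotient.mk_surjective _ b
    constructor
    · intro h
      have h' : a - b ∈ I ⊔ Ideal.span {t} ⊔ (I ⊔ Ideal.span {e}) := by
        rw [← Submodule.Quotient.mk_eq_zero]
        refine Eq.trans ?_ h
        simp [g, sub_eq_add_neg]
      obtain ⟨p, hp, q, hq, hpq⟩ := Submodule.mem_sup.1 h'
      refine ⟨Submodule.Quotient.mk (a - p), Prod.ext ?_ ?_⟩
      · refine (Submodule.Quotient.eq _).2 ?_
        show a - p - a ∈ _
        rw [sub_sub_cancel_left]
        exact neg_mem hp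
      · refine (Submodule.Quotient.eq _).2 ?_
        show a - p - b ∈ _
        rwa [show a - p - b = q by linear_combination -hpq]
    · rintro ⟨z, hz⟩
      obtain ⟨z, rfl⟩ := Submodule.Quotient.mk_surjective _ z
      rw [← hz]
      simp [g, f]
  have := Module.length_eq_add_of_exact f g hf hg hex
  rw [Module.length_prod, hsup, Groth.NodeRing.length_t_e (0 : k) hm] at this
  exact this.symm

end Groth.Agent.S15325
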