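import Groth.Statements.S15327
import Mathlib.LinearAlgebra.Matrix.ToLinearEquiv
import Mathlib.Tactic
import Mathlib.LinearAlgebra.Matrix.DotProduct
-- import your own Groth.Agent.* helpers here

set_option autoImplicit false
open ArLef ArLef.BlowupGraph

namespace Groth.Agent.S15327


open Matrix in
theorem mat_eq_neg {n : ℕ} (G : ArLef.BlowupGraph n) :
    let U : Matrix (Fin n) (Fin n) ℚ :=
      Matrix.of fun m p => (if m = p then 1 else 0) - (if p ∈ G.par m then 1 else 0)
    G.mat = -(Uᵀ * U) := by
  intro U
  ext p q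
  have hS : (Uᵀ * U) p q = (if p = q then (1:ℚ) else 0) - (if q ∈ G.par p then 1 else 0)
      - (if p ∈ G.par q then 1 else 0)
      + ((Finset.univ.filter fun m => p ∈ G.par m ∧ q ∈ G.par m).card : ℚ) := by
    rw [Matrix.mul_apply]
    simp only [Matrix.transpose_apply, Matrix.of_apply, U, sub_mul, mul_sub, Finset.sum_sub_distrib, ite_mul, one_mul,
      zero_mul, Finset.sum_ite_eq', Finset.mem_univ, if_true]
    have h1 : (∑ x : Fin n, (if p ∈ G.par x then if x = q then (1:ℚ) else 0 else 0))
        = if p ∈ G.par q then 1 else 0 := by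
      rw [Finset.sum_eq_single q]
      · simp
      · intro b _ hb; simp [hb]
      · simp
    have h2 : (∑ x : Fin n, (if p ∈ G.par x then if q ∈ G.par x then (1:ℚ) else 0 else 0))
        = ((Finset.univ.filter fun m => p ∈ G.par m ∧ q ∈ G.par m).card : ℚ) := by
      rw [← Finset.sum_boole]
      refine Finset.sum_congr rfl fun x _ => ?_
      by_cases h : p ∈ G.par x <;> simp [h]
    rw [h1, h2]
    ring
  have hirr : ∀ x : Fin n, x ∉ G.par x := fun x hx => lt_irrefl _ (G.par_lt x x hx)
  have key : ∀ p q : Fin n, p < q →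
      (if G.Adj p q then (1:ℚ) else 0) = (if p ∈ G.par q then (1:ℚ) else 0) -
        ((Finset.univ.filter fun m => p ∈ G.par m ∧ q ∈ G.par m).card : ℚ) := by
    intro p q hpq
    have hnq : q ∉ G.par p := fun h => lt_asymm hpq (G.par_lt p q h)
    by_cases hex : ∃ m, p ∈ G.par m ∧ q ∈ G.par m
    · obtain ⟨m, hm1, hm2⟩ := hex
      have hpar : ∀ m, p ∈ G.par m → q ∈ G.par m → G.par m = {p, q} := fun m h1 h2 =>
        (Finset.eq_of_subset_of_card_le (by
          intro x hx; simp only [Finset.mem_insert, Finset.mem_singleton] at hx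
          rcases hx with rfl | rfl <;> assumption)
          (by rw [Finset.card_pair hpq.ne]; exact G.card_le_two m)).symm
      have hu : (Finset.univ.filter fun m => p ∈ G.par m ∧ q ∈ G.par m) = {m} := by
        ext m'
        simp only [Finset.mem_filter, Finset.mem_univ, true_and, Finset.mem_singleton]
        refine ⟨fun h => ?_, fun h => h ▸ ⟨hm1, hm2⟩⟩
        rcases lt_trichotomy m' m with hlt | heq | hgt
        · exact absurd (hpar m' h.1 h.2)
            ((G.meet_of_two m p q hm1 hm2 hpq).2 m' (G.par_lt m' q h.2) hlt)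
        · exact heq
        · exact absurd (hpar m hm1 hm2)
            ((G.meet_of_two m' p q h.1 h.2 hpq).2 m (G.par_lt m q hm2) hgt)
      have hA : ¬ G.Adj p q := by
        rintro (h | h)
        · exact h.2 m (G.par_lt m q hm2) (hpar m hm1 hm2)
        · exact hnq h.1
      rw [if_neg hA, hu, if_pos (G.meet_of_two m p q hm1 hm2 hpq).1]
      simp
    · have he : (Finset.univ.filter fun m => p ∈ G.par m ∧ q ∈ G.par m) = ∅ := by
        ext m; simpa using fun h1 h2 => hex ⟨m, h1, h2⟩
      rw [he]
      by_cases h : p ∈ G.par q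
      · have hA : G.Adj p q := Or.inl ⟨h, fun m _ hm => hex ⟨m, by simp [hm], by simp [hm]⟩⟩
        simp [hA, h]
      · have hA : ¬ G.Adj p q := by rintro (h' | h'); exacts [h h'.1, hnq h'.1]
        simp [hA, h]
  rw [Matrix.neg_apply, hS]
  unfold ArLef.BlowupGraph.mat
  rcases lt_trichotomy p q with h | h | h
  · rw [if_neg h.ne, if_neg h.ne, key p q h,
      if_neg (show q ∉ G.par p from fun h' => lt_asymm h (G.par_lt p q h'))]
    ring
  · subst h
    simp only [if_true, hirr p, if_false, and_self, sub_zero, ArLef.BlowupGraph.selfInt]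
    push_cast
    ring
  · have hsymm : G.Adj p q ↔ G.Adj q p := Or.comm
    rw [if_neg h.ne', if_neg h.ne', if_congr hsymm rfl rfl, key q p h,
      if_neg (show p ∉ G.par q from fun h' => lt_asymm h (G.par_lt q p h'))]
    rw [show (Finset.univ.filter fun m => p ∈ G.par m ∧ q ∈ G.par m)
      = (Finset.univ.filter fun m => q ∈ G.par m ∧ p ∈ G.par m) from
        Finset.filter_congr fun m _ => and_comm]
    ring

open Matrix in
theorem tt_mul {n : ℕ} (G : ArLef.BlowupGraph n) :
    let U : Matrix (Fin n) (Fin n) ℚ :=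
      Matrix.of fun m p => (if m = p then 1 else 0) - (if p ∈ G.par m then 1 else 0)
    (Matrix.of fun k m => (G.tt k m : ℚ) : Matrix (Fin n) (Fin n) ℚ) * Uᵀ = 1 := by
  intro U
  ext k m
  rw [Matrix.mul_apply]
  simp only [Matrix.transpose_apply, Matrix.of_apply, U, mul_sub, Finset.sum_sub_distrib, mul_ite, mul_one, mul_zero,
    Finset.sum_ite_eq, Finset.mem_univ, if_true]
  rw [← Finset.sum_filter, Matrix.one_apply]
  have hf : (Finset.univ.filter fun x => x ∈ G.par m) = G.par m := by ext; simp
  rw [hf]
  have hsum : ∑ p ∈ (G.parN m.1).attach, G.ttN k.1 p.1 = ∑ p ∈ G.par m, G.tt k p := by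
    rw [Finset.sum_attach (G.parN m.1) (fun p => G.ttN k.1 p)]
    simp [ArLef.BlowupGraph.parN, m.2, ArLef.BlowupGraph.tt]
  have h0 : m.1 ≤ k.1 → ∀ p ∈ G.par m, (G.tt k p : ℚ) = 0 := by
    intro hle p hp
    have hpm : p.1 < m.1 := G.par_lt m p hp
    unfold ArLef.BlowupGraph.tt
    rw [ArLef.BlowupGraph.ttN, if_pos (lt_of_lt_of_le hpm hle)]
    simp
  have htt : G.tt k m = if m.1 < k.1 then 0 else if m.1 = k.1 then 1 else
      ∑ p ∈ (G.parN m.1).attach, G.ttN k.1 p.1 := by
    unfold ArLef.BlowupGraph.tt
    rw [ArLef.BlowupGraph.ttN]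
  rcases lt_trichotomy m.1 k.1 with h | h | h
  · rw [if_neg (fun e : k = m => h.ne (by rw [e])), Finset.sum_eq_zero (h0 h.le), htt, if_pos h]
    simp
  · rw [if_pos (Fin.ext h.symm), Finset.sum_eq_zero (h0 h.le), htt, if_neg (not_lt.mpr h.ge), if_pos h]
    simp
  · rw [if_neg (fun e : k = m => h.ne (by rw [e])), htt, if_neg (not_lt.mpr h.le), if_neg h.ne', hsum]
    push_cast
    ring


open Matrix in
/-- Let Φ be the labelled dual graph of the exceptional curves of n successive blow-ups of closed points
starting from a regular surface with algebraically closed residue fields (vertices = exceptional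
curves in order of creation, labels = intersection numbers), I any set of vertices (the curves
contracted to a normal surface) and σ a permutation of the vertices preserving all intersection
numbers and the set I. Let e_{ij} be the multiplicity of E_i × E_j in the fibre square of the
composite blow-down (the sum over k of c^k_i c^k_j, c^k the total transform of the k-th exceptional
curve) and (E_i · E_j)_I Mumford's rational intersection number of the images after contracting I.
Then the sum over i, j outside I of e_{ij} (σ E_i · E_j)_I equals minus the number of σ-fixed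
vertices outside I. (Stated for the dual graphs realized with all residue fields equal to the base
field, which is the case the published argument realizes geometrically.) -/
theorem result (n : ℕ) (G : ArLef.BlowupGraph n) (I : Finset (Fin n))
    (σ : Equiv.Perm (Fin n)) (hσ : ∀ i j : Fin n, G.mat (σ i) (σ j) = G.mat i j)
    (hσI : ∀ i : Fin n, σ i ∈ I ↔ i ∈ I) :
    G.lNum I σ = ArLef.BlowupGraph.rNum I σ := by
  classical
  let U : Matrix (Fin n) (Fin n) ℚ :=
    Matrix.of fun m p => (if m = p then 1 else 0) - (if p ∈ G.par m then 1 else 0)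
  let C : Matrix (Fin n) (Fin n) ℚ := Matrix.of fun k m => (G.tt k m : ℚ)
  have hM : G.mat = -(Uᵀ * U) := mat_eq_neg G
  have hC : C * Uᵀ = 1 := tt_mul G
  have hC' : Uᵀ * C = 1 := mul_eq_one_comm.mp hC
  have hU : U * Cᵀ = 1 := by simpa using congrArg Matrix.transpose hC
  let K : Matrix (Fin n) (Fin n) ℚ := Cᵀ * C
  have hK : ∀ i j, (G.mult i j : ℚ) = K i j := fun i j => by
    simp [K, C, Matrix.of_apply, ArLef.BlowupGraph.mult, Matrix.mul_apply]
  have hKs : ∀ i j, K i j = K j i := fun i j => by
    simp [K, Matrix.mul_apply, mul_comm]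
  have hMK : G.mat * K = -1 := by
    rw [hM, Matrix.neg_mul]
    show -(Uᵀ * U * (Cᵀ * C)) = -1
    rw [Matrix.mul_assoc, ← Matrix.mul_assoc U, hU, Matrix.one_mul, hC']
  let N : Matrix I I ℚ := G.mat.submatrix (fun x : I => x.1) (fun x : I => x.1)
  have hN : IsUnit N.det := by
    rw [isUnit_iff_ne_zero]
    intro h0
    obtain ⟨v, hv, hv0⟩ := (Matrix.exists_mulVec_eq_zero_iff (M := N)).mpr h0
    let w : Fin n → ℚ := fun x => if h : x ∈ I then v ⟨x, h⟩ else 0
    have hMw : ∀ x ∈ I, (G.mat *ᵥ w) x = 0 := by
      intro x hx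
      have := congrFun hv0 ⟨x, hx⟩
      simp only [Matrix.mulVec, dotProduct, N, Matrix.submatrix_apply, Pi.zero_apply] at this ⊢
      rw [← Finset.sum_subset I.subset_univ (fun y _ hy => by simp [w, hy]), ← Finset.sum_attach]
      rw [← this]
      exact Finset.sum_congr rfl fun y _ => by simp [w, y.2]
    have h1 : w ⬝ᵥ (G.mat *ᵥ w) = 0 := Finset.sum_eq_zero fun x _ => by
      by_cases hx : x ∈ I
      · simp [hMw x hx]
      · simp [w, hx]
    rw [hM, Matrix.neg_mulVec, dotProduct_neg, neg_eq_zero, ← Matrix.mulVec_mulVec,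
      Matrix.dotProduct_mulVec, Matrix.vecMul_transpose, _root_.dotProduct_self_eq_zero]  at h1
    have h2 : (Cᵀ * U) *ᵥ w = 0 := by rw [← Matrix.mulVec_mulVec, h1, Matrix.mulVec_zero]
    rw [mul_eq_one_comm.mp hU, Matrix.one_mulVec] at h2
    apply hv
    funext x
    have := congrFun h2 x.1
    simpa [w, x.2] using this
  have main : ∀ a i, a ∉ I → i ∉ I →
      ∑ j ∈ Finset.univ.filter (fun j => j ∉ I), G.pairing I a j * K j i
        = -(if a = i then (1:ℚ) else 0) := by
    intro a i ha hi
    have row : ∀ b, ∑ j ∈ Finset.univ.filter (fun j => j ∉ I), G.mat b j * K j i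
        = -(if b = i then (1:ℚ) else 0) - ∑ c : I, G.mat b c.1 * K c.1 i := by
      intro b
      have h := congrFun (congrFun hMK b) i
      rw [Matrix.mul_apply, Matrix.neg_apply, Matrix.one_apply] at h
      rw [← h, ← Finset.sum_filter_add_sum_filter_not Finset.univ (fun j => j ∉ I),
        Finset.sum_coe_sort I (fun c => G.mat b c * K c i)]
      have : (Finset.univ.filter fun j => ¬ j ∉ I) = I := by ext; simp
      rw [this]
      ring
    have e : ∀ j, G.pairing I a j * K j i =
        G.mat a j * K j i - ∑ c : I, ∑ b : I, G.mat a c.1 * N⁻¹ c b * (G.mat b.1 j * K j i) := by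
      intro j
      unfold ArLef.BlowupGraph.pairing
      rw [sub_mul, Finset.sum_mul]
      congr 1
      refine Finset.sum_congr rfl fun c _ => ?_
      rw [Finset.sum_mul]
      exact Finset.sum_congr rfl fun b _ => mul_assoc _ _ _
    simp only [e, Finset.sum_sub_distrib]
    rw [Finset.sum_comm, row a]
    have e2 : ∀ c : I, (∑ j ∈ Finset.univ.filter (fun j => j ∉ I), ∑ b : I,
        G.mat a c.1 * N⁻¹ c b * (G.mat b.1 j * K j i)) = -(G.mat a c.1 * K c.1 i) := by
      intro c
      rw [Finset.sum_comm]
      have hb : ∀ b : I, ∑ j ∈ Finset.univ.filter (fun j => j ∉ I),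
          G.mat a c.1 * N⁻¹ c b * (G.mat b.1 j * K j i)
          = -(G.mat a c.1 * (N⁻¹ c b * ∑ d : I, N b d * K d.1 i)) := by
        intro b
        rw [← Finset.mul_sum, row b.1, if_neg (fun e : b.1 = i => hi (e ▸ b.2))]
        simp [N]
        ring
      simp only [hb, Finset.sum_neg_distrib, ← Finset.mul_sum]
      congr 2
      have := congrFun (congrArg (fun X => X *ᵥ (fun d : I => K d.1 i))
        (Matrix.nonsing_inv_mul N hN)) c
      rw [← Matrix.mulVec_mulVec, Matrix.one_mulVec] at this
      exact this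
    simp only [e2, Finset.sum_neg_distrib]
    ring
  unfold ArLef.BlowupGraph.lNum ArLef.BlowupGraph.rNum
  have : ∀ i ∈ Finset.univ.filter (fun i => i ∉ I),
      ∑ j ∈ Finset.univ.filter (fun j => j ∉ I), (G.mult i j : ℚ) * G.pairing I (σ i) j
        = -(if σ i = i then (1:ℚ) else 0) := by
    intro i hi
    simp only [Finset.mem_filter, Finset.mem_univ, true_and] at hi
    rw [← main (σ i) i (fun h => hi ((hσI i).mp h)) hi]
    exact Finset.sum_congr rfl fun j _ => by rw [hK, hKs, mul_comm]
  rw [Finset.sum_congr rfl this, Finset.sum_neg_distrib, Finset.sum_boole, Finset.filter_filter]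

end Groth.Agent.S15327
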