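import Groth.Statements.S15328
import Groth.Agent.VBCurves.Higgs

set_option autoImplicit false
open CategoryTheory AlgebraicGeometry CategoryTheory.Limits
open VBCurve

open Groth.VBCurves

namespace Groth.Agent.S15328

/-- Let X be a smooth proper integral curve over the complex numbers, L an invertible module on X and
(E, φ) an L-valued Higgs bundle on X: E finite locally free of rank r ≥ 1 and φ : E → E ⊗ L. A
submodule j : G → E (a monomorphism) is a Higgs submodule when φ restricts to it, that is, some ψ :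
G → G ⊗ L followed by j ⊗ L equals j followed by φ; (E, φ) is semistable when deg G · r ≤ deg E · r'
for every finite locally free Higgs submodule G of rank r' ≥ 1, degrees being χ − rank · χ(O).
Suppose (E, φ) is semistable and F is a finite locally free Higgs submodule of rank r' ≥ 1 with the
same slope, deg F · r = deg E · r'. Then the quotient E/F is finite locally free of rank r − r' and
is semistable of the same slope for its induced Higgs field: for every φ' : E/F → (E/F) ⊗ L
compatible with φ along the projection and every finite locally free submodule G of E/F of rank s ≥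
1 to which φ' restricts, deg G · (r − r') ≤ deg(E/F) · s. (The published statement also assumes F
semistable, which the published argument does not use; this row omits it.) -/
theorem result
    (X : Scheme.{0}) [X.Over (Spec (CommRingCat.of ℂ))] [IsIntegral X]
    [IsProper (X ↘ Spec (CommRingCat.of ℂ))] [Smooth (X ↘ Spec (CommRingCat.of ℂ))]
    (hdim : topologicalKrullDim X = 1)
    (L : X.Modules) (hL : PicF.IsInvertible L)
    (r : ℕ) (hr : 0 < r) (E : X.Modules) (hE : FlatMod.IsFinLocFreeOfRank r E)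
    (φ : E ⟶ CohB1.tensorMod E L)
    (hss : ∀ (G : X.Modules) (s : ℕ) (j : G ⟶ E) (ψ : G ⟶ CohB1.tensorMod G L), Mono j → 0 < s →
      FlatMod.IsFinLocFreeOfRank s G →
      ψ ≫ (CohB1.sheafifyMod X).map (MonoidalCategoryStruct.whiskerRight (C := CohB1.PMod X) j.val (CohB1.toPMod L)) = j ≫ φ →
      Curv2.deg ℂ X G s * (r : ℤ) ≤ Curv2.deg ℂ X E r * (s : ℤ))
    (F : X.Modules) (r' : ℕ) (hr' : 0 < r') (hF : FlatMod.IsFinLocFreeOfRank r' F)
    (i : F ⟶ E) [Mono i] (ψF : F ⟶ CohB1.tensorMod F L)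
    (hψF : ψF ≫ (CohB1.sheafifyMod X).map (MonoidalCategoryStruct.whiskerRight (C := CohB1.PMod X) i.val (CohB1.toPMod L)) = i ≫ φ)
    (hslope : Curv2.deg ℂ X F r' * (r : ℤ) = Curv2.deg ℂ X E r * (r' : ℤ)) :
    FlatMod.IsFinLocFreeOfRank (r - r') (cokernel i) ∧
    ∀ (φ' : cokernel i ⟶ CohB1.tensorMod (cokernel i) L),
      cokernel.π i ≫ φ' = φ ≫ (CohB1.sheafifyMod X).map (MonoidalCategoryStruct.whiskerRight (C := CohB1.PMod X) (cokernel.π i).val (CohB1.toPMod L)) →
      ∀ (G : X.Modules) (s : ℕ) (j : G ⟶ cokernel i) (ψ : G ⟶ CohB1.tensorMod G L), Mono j → 0 < s →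
        FlatMod.IsFinLocFreeOfRank s G →
        ψ ≫ (CohB1.sheafifyMod X).map (MonoidalCategoryStruct.whiskerRight (C := CohB1.PMod X) j.val (CohB1.toPMod L)) = j ≫ φ' →
        Curv2.deg ℂ X G s * ((r - r' : ℕ) : ℤ) ≤ Curv2.deg ℂ X (cokernel i) (r - r') * (s : ℤ) := by
  have hc := IsVBCurve.of_smooth ℂ hdim
  have hE' := Groth.LocFree.isFinLocFree_of_rank hE
  have hF' := Groth.LocFree.isFinLocFree_of_rank hF
  have hd : dg ℂ F * (r : ℤ) = Curv2.deg ℂ X E r * (rk F : ℤ) := by
    rw [rk_eq hF, ← dg_eq ℂ hF, hslope]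
  have hP : PBnd ℂ L φ (Curv2.deg ℂ X E r) r := fun G j hj hG hpos ⟨χ, hχ⟩ =>
    hss G (rk G) j χ hj hpos (isFinLocFreeOfRank_rk hG) hχ
  have hC := isFinLocFree_cokernel_of_inv hL hc hE' hF' (by rwa [rk_eq hF]) i ⟨ψF, hψF⟩ hr hd hP
  obtain ⟨hrC, hdC⟩ := cokernel_numerics (k := ℂ) i hF' hC
  rw [rk_eq hE, rk_eq hF] at hrC
  have hC' : FlatMod.IsFinLocFreeOfRank (r - r') (cokernel i) := by
    have := isFinLocFreeOfRank_rk hC
    rwa [show rk (cokernel i) = r - r' by omega] at this
  refine ⟨hC', fun φ' hφ' G s j ψ hj hs hG hψ => ?_⟩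
  have hQ := PBnd.quot hL i hF' hφ' hd hP
  have hsl : Curv2.deg ℂ X E r * ((r - r' : ℕ) : ℤ) =
      Curv2.deg ℂ X (cokernel i) (r - r') * (r : ℤ) := by
    have h1 : (r : ℤ) = r' + ((r - r' : ℕ) : ℤ) := by omega
    rw [dg_eq ℂ hC']
    rw [← dg_eq ℂ hE, ← dg_eq ℂ hF] at hdC
    linear_combination (-(Curv2.deg ℂ X E r)) * h1 + (r : ℤ) * hdC + hslope
  have := (hQ.congr hr hsl) G j hj (Groth.LocFree.isFinLocFree_of_rank hG) (by rwa [rk_eq hG])
    ⟨ψ, hψ⟩
  rwa [rk_eq hG, ← dg_eq ℂ hG] at this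

end Groth.Agent.S15328
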