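import Groth.Statements.S15329
import Mathlib
-- import your own Groth.Agent.* helpers here

set_option autoImplicit false
open TensorProduct LaurentPolynomial
universe u v
open CAlg

namespace Groth.Agent.S15329

/-- Let k be a field, E a k-vector space and F an increasing ℤ-indexed filtration of E by subspaces. In
E[T, T⁻¹] = k[T, T⁻¹] ⊗ E the Rees module of (E, F) is the k-span of the elements T^n ⊗ v with v ∈ F
n; it is the module of global sections of the equivariant bundle on the affine line attached to (E,
F), and E[T, T⁻¹] that of its sections away from the origin. For a linear form α on E and an integer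
p, the k[T, T⁻¹]-linear form m ↦ T^p · (id ⊗ α)(m) is the invariant section α of the dual bundle
away from the origin multiplied by T^p, and it extends over the origin exactly when it maps the Rees
module into the polynomial subring k[T]. This happens if and only if α vanishes on F(−p − 1); so the
dual equivariant bundle corresponds to the dual space filtered by the annihilators of the F(−p − 1).
(The published statement has the annihilator of F(−p + 1), over the complex numbers; for E = k with
F n = 0 for n < 0 and F n = E for n ≥ 0 the form with p = 0 and α ≠ 0 maps the Rees module into k[T]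
although α does not vanish on F(1) = E, and the published argument gives the index −p − 1, which
this row states, over any field.) -/
theorem result
    (k : Type u) [Field k] (E : Type v) [AddCommGroup E] [Module k E]
    (F : ℤ → Submodule k E) (hF : Monotone F)
    (α : Module.Dual k E) (p : ℤ) :
    (∀ m ∈ Submodule.span k {x : k[T;T⁻¹] ⊗[k] E | ∃ (n : ℤ) (v : E), v ∈ F n ∧ x = T n ⊗ₜ[k] v},
      T p * (TensorProduct.AlgebraTensorModule.rid k k[T;T⁻¹] k[T;T⁻¹]) (LinearMap.baseChange k[T;T⁻¹] α m)
        ∈ (Polynomial.toLaurent : Polynomial k →+* k[T;T⁻¹]).range) ↔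
    ∀ v ∈ F (-p - 1), α v = 0 := by
  classical
  let L : k[T;T⁻¹] ⊗[k] E →ₗ[k] k[T;T⁻¹] :=
    (LinearMap.mulLeft k (T p : k[T;T⁻¹])) ∘ₗ
      ((TensorProduct.AlgebraTensorModule.rid k k[T;T⁻¹] k[T;T⁻¹]).toLinearMap.restrictScalars k) ∘ₗ
        ((LinearMap.baseChange k[T;T⁻¹] α).restrictScalars k)
  have hL : ∀ (n : ℤ) (v : E), L (T n ⊗ₜ[k] v) = LaurentPolynomial.C (α v) * T (p + n) := by
    intro n v
    show T p * ((TensorProduct.AlgebraTensorModule.rid k k[T;T⁻¹] k[T;T⁻¹]) (T n ⊗ₜ[k] α v)) = _
    rw [TensorProduct.AlgebraTensorModule.rid_tmul, Algebra.smul_def, LaurentPolynomial.algebraMap_apply,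
      LaurentPolynomial.T_add]
    simp only [Algebra.algebraMap_self, RingHom.id_apply]
    ring
  let P : Submodule k k[T;T⁻¹] := LinearMap.range (Polynomial.toLaurentAlg (R := k)).toLinearMap
  constructor
  · intro h v hv
    obtain ⟨q, hq⟩ := h _ (Submodule.subset_span ⟨-p - 1, v, hv, rfl⟩)
    change Polynomial.toLaurent q = L (T (-p - 1) ⊗ₜ[k] v) at hq
    rw [hL, show p + (-p - 1) = -1 by ring] at hq
    have hcoef := congrArg (fun f => f.coeff (-1 : ℤ)) hq
    simp only [← LaurentPolynomial.single_eq_C_mul_T, AddMonoidAlgebra.coeff_single, Finsupp.single_eq_same] at hcoef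
    rw [← hcoef, LaurentPolynomial.coeff_toLaurent, Finsupp.mapDomain_notin_range]
    rintro ⟨j, hj⟩
    have : (j : ℤ) = -1 := hj
    omega
  · intro h m hm
    suffices Submodule.span k {x : k[T;T⁻¹] ⊗[k] E | ∃ (n : ℤ) (v : E), v ∈ F n ∧ x = T n ⊗ₜ[k] v} ≤ P.comap L by
      obtain ⟨q, hq⟩ := this hm
      exact ⟨q, hq⟩
    rw [Submodule.span_le]
    rintro _ ⟨n, v, hv, rfl⟩
    rcases le_or_gt 0 (p + n) with hn | hn
    · lift p + n to ℕ using hn with j hj
      refine ⟨Polynomial.C (α v) * Polynomial.X ^ j, ?_⟩
      rw [hL, ← hj]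
      exact Polynomial.toLaurent_C_mul_X_pow j (α v)
    · show L _ ∈ P
      rw [hL, h v (hF (by omega) hv), map_zero, zero_mul]
      exact zero_mem P

end Groth.Agent.S15329
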