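import Groth.Statements.S15330
import Groth.Agent.VBCurves.Higgs

set_option autoImplicit false
open CategoryTheory AlgebraicGeometry CategoryTheory.Limits
open VBCurve

open Groth.VBCurves

namespace Groth.Agent.S15330

/-- Let X be a smooth proper integral curve over the complex numbers, L an invertible module on X, and
(E, φ_E), (F, φ_F) two L-valued Higgs bundles on X of the same rank r ≥ 1 and the same degree d
(degree = χ − rank · χ(O)), each semistable: deg G · r ≤ d · s for every finite locally free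
submodule G of rank s ≥ 1 to which the Higgs field restricts. Let E_0 ⊂ E_1 ⊂ … ⊂ E_n = E with E_0 =
0 and F = F_0 ⊃ F_1 ⊃ … ⊃ F_n = 0 be chains of finite locally free submodules to which the Higgs
fields restrict, of ranks with rk E_i + rk F_i = r, which are opposite: E_{i+1}/E_i ≅ F_i/F_{i+1} as
O-modules for i < n. Then every E_i of positive rank and every F_i of positive rank has slope d/r,
that is deg · r = d · rank, and is semistable for its restricted Higgs field; and each graded piece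
E_{i+1}/E_i of positive rank is finite locally free of rank rk E_{i+1} − rk E_i, of slope d/r, and
semistable for every Higgs field on it compatible with that of E_{i+1} along the projection. (The
published statement indexes the second chain so that F_i/F_{i+1} matches E_i/E_{i−1} and takes the
isomorphisms of graded pieces as Higgs bundles; here they are assumed as O-modules only, together
with the rank bookkeeping rk E_i + rk F_i = r that they imply.) -/
theorem result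
    (X : Scheme.{0}) [X.Over (Spec (CommRingCat.of ℂ))] [IsIntegral X]
    [IsProper (X ↘ Spec (CommRingCat.of ℂ))] [Smooth (X ↘ Spec (CommRingCat.of ℂ))]
    (hdim : topologicalKrullDim X = 1)
    (L : X.Modules) (hL : PicF.IsInvertible L) (r : ℕ) (hr : 0 < r) (d : ℤ)
    (E : X.Modules) (hE : FlatMod.IsFinLocFreeOfRank r E) (φE : E ⟶ CohB1.tensorMod E L)
    (hEd : Curv2.deg ℂ X E r = d)
    (hEss : (∀ (G : X.Modules) (s : ℕ) (j : G ⟶ E) (χ : G ⟶ CohB1.tensorMod G L), Mono j → 0 < s →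
        FlatMod.IsFinLocFreeOfRank s G →
        χ ≫ (CohB1.sheafifyMod X).map (MonoidalCategoryStruct.whiskerRight (C := CohB1.PMod X) j.val (CohB1.toPMod L)) = j ≫ φE →
        Curv2.deg ℂ X G s * (r : ℤ) ≤ Curv2.deg ℂ X E r * (s : ℤ)))
    (F : X.Modules) (hF : FlatMod.IsFinLocFreeOfRank r F) (φF : F ⟶ CohB1.tensorMod F L)
    (hFd : Curv2.deg ℂ X F r = d)
    (hFss : (∀ (G : X.Modules) (s : ℕ) (j : G ⟶ F) (χ : G ⟶ CohB1.tensorMod G L), Mono j → 0 < s →
        FlatMod.IsFinLocFreeOfRank s G →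
        χ ≫ (CohB1.sheafifyMod X).map (MonoidalCategoryStruct.whiskerRight (C := CohB1.PMod X) j.val (CohB1.toPMod L)) = j ≫ φF →
        Curv2.deg ℂ X G s * (r : ℤ) ≤ Curv2.deg ℂ X F r * (s : ℤ)))
    (n : ℕ)
    (Es : ℕ → X.Modules) (rE : ℕ → ℕ) (hEs : ∀ i, FlatMod.IsFinLocFreeOfRank (rE i) (Es i))
    (ιE : ∀ i, Es i ⟶ E) (hιE : ∀ i, Mono (ιE i))
    (ψE : ∀ i, Es i ⟶ CohB1.tensorMod (Es i) L)
    (hψE : ∀ i, ψE i ≫ (CohB1.sheafifyMod X).map (MonoidalCategoryStruct.whiskerRight (C := CohB1.PMod X) (ιE i).val (CohB1.toPMod L)) = ιE i ≫ φE)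
    (a : ∀ i, Es i ⟶ Es (i + 1)) (ha : ∀ i, a i ≫ ιE (i + 1) = ιE i)
    (hE0 : IsZero (Es 0)) (hEn : IsIso (ιE n))
    (Fs : ℕ → X.Modules) (rF : ℕ → ℕ) (hFs : ∀ i, FlatMod.IsFinLocFreeOfRank (rF i) (Fs i))
    (ιF : ∀ i, Fs i ⟶ F) (hιF : ∀ i, Mono (ιF i))
    (ψF : ∀ i, Fs i ⟶ CohB1.tensorMod (Fs i) L)
    (hψF : ∀ i, ψF i ≫ (CohB1.sheafifyMod X).map (MonoidalCategoryStruct.whiskerRight (C := CohB1.PMod X) (ιF i).val (CohB1.toPMod L)) = ιF i ≫ φF)
    (b : ∀ i, Fs (i + 1) ⟶ Fs i) (hb : ∀ i, b i ≫ ιF i = ιF (i + 1))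
    (hF0 : IsIso (ιF 0)) (hFn : IsZero (Fs n))
    (hrk : ∀ i, i ≤ n → rE i + rF i = r)
    (hopp : ∀ i, i < n → Nonempty (cokernel (a i) ≅ cokernel (b i))) :
    (∀ i, i ≤ n → 0 < rE i →
      Curv2.deg ℂ X (Es i) (rE i) * (r : ℤ) = d * (rE i : ℤ) ∧
      (∀ (G : X.Modules) (s : ℕ) (j : G ⟶ (Es i)) (χ : G ⟶ CohB1.tensorMod G L), Mono j → 0 < s →
        FlatMod.IsFinLocFreeOfRank s G →
        χ ≫ (CohB1.sheafifyMod X).map (MonoidalCategoryStruct.whiskerRight (C := CohB1.PMod X) j.val (CohB1.toPMod L)) = j ≫ ψE i →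
        Curv2.deg ℂ X G s * (rE i : ℤ) ≤ Curv2.deg ℂ X (Es i) (rE i) * (s : ℤ))) ∧
    (∀ i, i ≤ n → 0 < rF i →
      Curv2.deg ℂ X (Fs i) (rF i) * (r : ℤ) = d * (rF i : ℤ) ∧
      (∀ (G : X.Modules) (s : ℕ) (j : G ⟶ (Fs i)) (χ : G ⟶ CohB1.tensorMod G L), Mono j → 0 < s →
        FlatMod.IsFinLocFreeOfRank s G →
        χ ≫ (CohB1.sheafifyMod X).map (MonoidalCategoryStruct.whiskerRight (C := CohB1.PMod X) j.val (CohB1.toPMod L)) = j ≫ ψF i →
        Curv2.deg ℂ X G s * (rF i : ℤ) ≤ Curv2.deg ℂ X (Fs i) (rF i) * (s : ℤ))) ∧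
    (∀ i, i < n → rE i < rE (i + 1) →
      FlatMod.IsFinLocFreeOfRank (rE (i + 1) - rE i) (cokernel (a i)) ∧
      Curv2.deg ℂ X (cokernel (a i)) (rE (i + 1) - rE i) * (r : ℤ) = d * ((rE (i + 1) - rE i : ℕ) : ℤ) ∧
      ∀ (φ' : cokernel (a i) ⟶ CohB1.tensorMod (cokernel (a i)) L),
        cokernel.π (a i) ≫ φ' = ψE (i + 1) ≫ (CohB1.sheafifyMod X).map (MonoidalCategoryStruct.whiskerRight (C := CohB1.PMod X) (cokernel.π (a i)).val (CohB1.toPMod L)) →
        (∀ (G : X.Modules) (s : ℕ) (j : G ⟶ cokernel (a i)) (χ : G ⟶ CohB1.tensorMod G L), Mono j → 0 < s →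
        FlatMod.IsFinLocFreeOfRank s G →
        χ ≫ (CohB1.sheafifyMod X).map (MonoidalCategoryStruct.whiskerRight (C := CohB1.PMod X) j.val (CohB1.toPMod L)) = j ≫ φ' →
        Curv2.deg ℂ X G s * ((rE (i + 1) - rE i : ℕ) : ℤ) ≤ Curv2.deg ℂ X (cokernel (a i)) (rE (i + 1) - rE i) * (s : ℤ))) := by
  have hc := IsVBCurve.of_smooth ℂ hdim
  have hPE : PBnd ℂ L φE d r := fun G j hj hG hpos ⟨χ, hχ⟩ => by
    rw [← hEd]; exact hEss G (rk G) j χ hj hpos (isFinLocFreeOfRank_rk hG) hχ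
  have hPF : PBnd ℂ L φF d r := fun G j hj hG hpos ⟨χ, hχ⟩ => by
    rw [← hFd]; exact hFss G (rk G) j χ hj hpos (isFinLocFreeOfRank_rk hG) hχ
  have fE := fun i => Groth.LocFree.isFinLocFree_of_rank (hEs i)
  have fF := fun i => Groth.LocFree.isFinLocFree_of_rank (hFs i)
  have hPEi : ∀ i, PBnd ℂ L (ψE i) d r := fun i => by
    have := hιE i
    exact hPE.sub (ιE i) (hψE i)
  have hPFi : ∀ i, PBnd ℂ L (ψF i) d r := fun i => by
    have := hιF i
    exact hPF.sub (ιF i) (hψF i)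
  have hleE : ∀ i, dg ℂ (Es i) * (r : ℤ) ≤ d * (rE i : ℤ) := by
    intro i
    rcases Nat.eq_zero_or_pos (rE i) with h0 | h0
    · simp [dg_of_rk_zero ℂ (fE i) ((rk_eq (hEs i)).trans h0), h0]
    · have := hPE (Es i) (ιE i) (hιE i) (fE i) (by rwa [rk_eq (hEs i)]) ⟨ψE i, hψE i⟩
      rwa [rk_eq (hEs i)] at this
  have hleF : ∀ i, dg ℂ (Fs i) * (r : ℤ) ≤ d * (rF i : ℤ) := by
    intro i
    rcases Nat.eq_zero_or_pos (rF i) with h0 | h0
    · simp [dg_of_rk_zero ℂ (fF i) ((rk_eq (hFs i)).trans h0), h0]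
    · have := hPF (Fs i) (ιF i) (hιF i) (fF i) (by rwa [rk_eq (hFs i)]) ⟨ψF i, hψF i⟩
      rwa [rk_eq (hFs i)] at this
  -- the sum of the degrees is constant along the chains
  have hsum : ∀ i, i ≤ n → dg ℂ (Es i) + dg ℂ (Fs i) = d := by
    intro i
    induction i with
    | zero =>
      intro _
      have := hF0
      have hz : rk (Es 0) = 0 := Nat.eq_zero_of_not_pos fun hpos =>
        not_isZero_of_rank (hEs 0) (by rwa [rk_eq (hEs 0)] at hpos) hE0
      rw [dg_of_rk_zero ℂ (fE 0) hz, zero_add, dg_eq_of_iso ℂ (fF 0) (asIso (ιF 0)),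
        ← dg_eq ℂ hF, hFd]
    | succ i ih =>
      intro hi
      have := hιE i
      have := hιF (i + 1)
      have : Mono (a i) := by
        have : Mono (a i ≫ ιE (i + 1)) := by rw [ha]; infer_instance
        exact mono_of_mono (a i) (ιE (i + 1))
      have : Mono (b i) := by
        have : Mono (b i ≫ ιF i) := by rw [hb]; infer_instance
        exact mono_of_mono (b i) (ιF i)
      obtain ⟨e⟩ := hopp i (by omega)
      have cE : Coh.IsCoh (cokernel (a i)) := by
        have := (Groth.KTheory.LocFree.isCoh (fE i)).1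
        exact Groth.QCohMod.isCoh_cokernel (a i) (Groth.KTheory.LocFree.isCoh (fE (i + 1)))
      have cF : Coh.IsCoh (cokernel (b i)) := by
        have := (Groth.KTheory.LocFree.isCoh (fF (i + 1))).1
        exact Groth.QCohMod.isCoh_cokernel (b i) (Groth.KTheory.LocFree.isCoh (fF i))
      have h1 := Groth.EulerDeg.euler_add
        (S := ShortComplex.mk (a i) (cokernel.π (a i)) (cokernel.condition (a i)))
        ({ exact := ShortComplex.exact_cokernel (a i) })
        (Groth.DegMono.finCoh ℂ (Groth.KTheory.LocFree.isCoh (fE i))) (Groth.DegMono.finCoh ℂ cE)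
      have h2 := Groth.EulerDeg.euler_add
        (S := ShortComplex.mk (b i) (cokernel.π (b i)) (cokernel.condition (b i)))
        ({ exact := ShortComplex.exact_cokernel (b i) })
        (Groth.DegMono.finCoh ℂ (Groth.KTheory.LocFree.isCoh (fF (i + 1))))
        (Groth.DegMono.finCoh ℂ cF)
      dsimp only at h1 h2
      rw [Groth.EulerDeg.euler_congr ℂ e] at h1
      have h3 := ih (by omega)
      rw [← dg_eq ℂ (hEs i), ← dg_eq ℂ (hFs i)] at h3
      rw [← dg_eq ℂ (hEs (i + 1)), ← dg_eq ℂ (hFs (i + 1))]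
      simp only [Curv2.deg] at h3 ⊢
      rw [h1]
      have r1 : (rE i : ℤ) + rF i = rE (i + 1) + rF (i + 1) := by
        have := hrk i (by omega); have := hrk (i + 1) hi; omega
      linear_combination h3 - h2 + (Curv2.euler ℂ X (Coh.structureModule X)) * r1
  have heq : ∀ i, i ≤ n → dg ℂ (Es i) * (r : ℤ) = d * (rE i : ℤ) ∧
      dg ℂ (Fs i) * (r : ℤ) = d * (rF i : ℤ) := by
    intro i hi
    have h1 := hsum i hi
    have h2 : (rE i : ℤ) + rF i = r := by exact_mod_cast hrk i hi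
    have h3 : dg ℂ (Es i) * (r : ℤ) + dg ℂ (Fs i) * (r : ℤ) = d * (rE i : ℤ) + d * (rF i : ℤ) := by
      rw [← add_mul, h1, ← mul_add, h2]
    exact ⟨le_antisymm (hleE i) (by linarith [hleF i]), le_antisymm (hleF i) (by linarith [hleE i])⟩
  refine ⟨fun i hi hpos => ?_, fun i hi hpos => ?_, fun i hi hlt => ?_⟩
  · refine ⟨by rw [dg_eq ℂ (hEs i)]; exact (heq i hi).1, fun G s j χ hj hs hG hχ => ?_⟩
    have hsl : d * (rE i : ℤ) = Curv2.deg ℂ X (Es i) (rE i) * (r : ℤ) := by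
      rw [dg_eq ℂ (hEs i)]; exact (heq i hi).1.symm
    have := ((hPEi i).congr hr hsl) G j hj (Groth.LocFree.isFinLocFree_of_rank hG)
      (by rwa [rk_eq hG]) ⟨χ, hχ⟩
    rwa [rk_eq hG, ← dg_eq ℂ hG] at this
  · refine ⟨by rw [dg_eq ℂ (hFs i)]; exact (heq i hi).2, fun G s j χ hj hs hG hχ => ?_⟩
    have hsl : d * (rF i : ℤ) = Curv2.deg ℂ X (Fs i) (rF i) * (r : ℤ) := by
      rw [dg_eq ℂ (hFs i)]; exact (heq i hi).2.symm
    have := ((hPFi i).congr hr hsl) G j hj (Groth.LocFree.isFinLocFree_of_rank hG)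
      (by rwa [rk_eq hG]) ⟨χ, hχ⟩
    rwa [rk_eq hG, ← dg_eq ℂ hG] at this
  · have := hιE i
    have := hιE (i + 1)
    have : Mono (a i) := by
      have : Mono (a i ≫ ιE (i + 1)) := by rw [ha]; infer_instance
      exact mono_of_mono (a i) (ιE (i + 1))
    have hinv : Inv L (ψE (i + 1)) (a i) := by
      refine ⟨ψE i, ?_⟩
      have := mono_tw hL (ιE (i + 1))
      refine (cancel_mono ((tw L).map (ιE (i + 1)))).1 ?_
      exact ((Category.assoc _ _ _).trans (congrArg (ψE i ≫ ·) (((tw L).map_comp _ _).symm.trans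
        (congrArg (tw L).map (ha i))))).trans ((hψE i).trans ((congrArg (· ≫ φE) (ha i).symm).trans
          ((Category.assoc _ _ _).trans ((congrArg (a i ≫ ·) (hψE (i + 1)).symm).trans
            (Category.assoc _ _ _).symm))))
    have hfull : 0 < rE i → FlatMod.IsFinLocFree (cokernel (a i)) := fun h0 =>
      isFinLocFree_cokernel_of_inv hL hc (fE (i + 1)) (fE i) (by rwa [rk_eq (hEs i)]) (a i) hinv hr
        (by rw [rk_eq (hEs i)]; exact (heq i hi.le).1) (hPEi (i + 1))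
    have hC : FlatMod.IsFinLocFree (cokernel (a i)) := by
      rcases Nat.eq_zero_or_pos (rE i) with h0 | h0
      · have ha0 : a i = 0 := (isZero_of_rk_eq_zero (fE i) ((rk_eq (hEs i)).trans h0)).eq_of_src _ 0
        exact Groth.KTheory.LocFree.isFinLocFree_of_iso
          (cokernelZeroIsoTarget.symm ≪≫ cokernelIsoOfEq ha0.symm) (fE (i + 1))
      · exact hfull h0
    obtain ⟨hrC, hdC⟩ := cokernel_numerics (k := ℂ) (a i) (fE i) hC
    rw [rk_eq (hEs i), rk_eq (hEs (i + 1))] at hrC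
    have hrk' : rk (cokernel (a i)) = rE (i + 1) - rE i := by omega
    have hC' : FlatMod.IsFinLocFreeOfRank (rE (i + 1) - rE i) (cokernel (a i)) :=
      hrk' ▸ isFinLocFreeOfRank_rk hC
    have hz : (rE (i + 1) : ℤ) = rE i + ((rE (i + 1) - rE i : ℕ) : ℤ) := by omega
    have hsl : Curv2.deg ℂ X (cokernel (a i)) (rE (i + 1) - rE i) * (r : ℤ) =
        d * ((rE (i + 1) - rE i : ℕ) : ℤ) := by
      rw [dg_eq ℂ hC']
      linear_combination (heq (i + 1) hi).1 - (heq i hi.le).1 - (r : ℤ) * hdC + d * hz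
    refine ⟨hC', hsl, fun φ' hφ' G s j χ hj hs hG hχ => ?_⟩
    have hQ := PBnd.quot hL (a i) (fE i) hφ'
      (by rw [rk_eq (hEs i)]; exact (heq i hi.le).1) (hPEi (i + 1))
    have := (hQ.congr hr hsl.symm) G j hj (Groth.LocFree.isFinLocFree_of_rank hG)
      (by rwa [rk_eq hG]) ⟨χ, hχ⟩
    rwa [rk_eq hG, ← dg_eq ℂ hG] at this

end Groth.Agent.S15330
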