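import Groth.Statements.S15335
import Groth.Agent.VBCurves.MaxSlope

set_option autoImplicit false
universe u
open CategoryTheory CategoryTheory.Limits AlgebraicGeometry
open VBCurve

open Groth.VBCurves

namespace Groth.Agent.S15335

/-- Let X be a smooth proper integral curve (integral, smooth and proper of dimension one) over an
algebraically closed field k, and E₁, E₂ finite locally free O_X-modules of ranks r₁ ≥ 1, r₂ ≥ 1.
The maximal slope of E₁ ⊕ E₂ is at most the larger of the maximal slopes of E₁ and E₂: if m₁, m₂ are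
rational numbers such that every finite locally free submodule of positive rank of E₁ (resp. E₂) has
slope deg/rank ≤ m₁ (resp. ≤ m₂), degree meaning χ − rank·χ(O_X), then every finite locally free
submodule F of the biproduct E₁ ⊞ E₂ of rank r' ≥ 1 has slope deg F / r' ≤ max(m₁, m₂). -/
theorem result (k : Type u) [Field k] [IsAlgClosed k] (X : Scheme.{u}) [X.Over (Spec (CommRingCat.of k))]
    [IsIntegral X] [IsProper (X ↘ Spec (CommRingCat.of k))] [Smooth (X ↘ Spec (CommRingCat.of k))]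
    (hdim : topologicalKrullDim X = 1)
    (r₁ r₂ : ℕ) (hr₁ : 0 < r₁) (hr₂ : 0 < r₂) (E₁ E₂ : X.Modules)
    (hE₁ : FlatMod.IsFinLocFreeOfRank r₁ E₁) (hE₂ : FlatMod.IsFinLocFreeOfRank r₂ E₂) (m₁ m₂ : ℚ)
    (h₁ : ∀ (G : X.Modules) (r' : ℕ) (i : G ⟶ E₁), Mono i → 0 < r' → FlatMod.IsFinLocFreeOfRank r' G →
      (Curv2.deg k X G r' : ℚ) / r' ≤ m₁)
    (h₂ : ∀ (G : X.Modules) (r' : ℕ) (i : G ⟶ E₂), Mono i → 0 < r' → FlatMod.IsFinLocFreeOfRank r' G →
      (Curv2.deg k X G r' : ℚ) / r' ≤ m₂)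
    (F : X.Modules) (r' : ℕ) (i : F ⟶ E₁ ⊞ E₂) (hi : Mono i) (hr' : 0 < r')
    (hF : FlatMod.IsFinLocFreeOfRank r' F) :
    (Curv2.deg k X F r' : ℚ) / r' ≤ max m₁ m₂ := by
  have hc := IsVBCurve.of_smooth k hdim
  have f₁ := Groth.LocFree.isFinLocFree_of_rank hE₁
  have f₂ := Groth.LocFree.isFinLocFree_of_rank hE₂
  obtain ⟨K, I, a, c, ha, hc', hK, hI, hr, hd⟩ := exists_split hc
    (biprod.inl : E₁ ⟶ E₁ ⊞ E₂) biprod.snd biprod.inl_snd
    (ShortComplex.Splitting.shortExact { r := biprod.fst, s := biprod.inr })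
    f₁ f₂ (Groth.LocFree.isFinLocFree_of_rank hF) i
  rw [rk_eq hF] at hr
  rw [← dg_eq k hF] at hd
  have key : ∀ (M G : X.Modules) (m : ℚ) (j : G ⟶ M), Mono j → FlatMod.IsFinLocFree G →
      (∀ (G : X.Modules) (r' : ℕ) (i : G ⟶ M), Mono i → 0 < r' →
        FlatMod.IsFinLocFreeOfRank r' G → (Curv2.deg k X G r' : ℚ) / r' ≤ m) →
      m ≤ max m₁ m₂ → (dg k G : ℚ) ≤ max m₁ m₂ * (rk G : ℚ) := by
    intro M G m j hj hG h hm
    rcases Nat.eq_zero_or_pos (rk G) with h0 | h0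
    · simp [dg_of_rk_zero k hG h0, h0]
    · have := h G (rk G) j hj h0 (isFinLocFreeOfRank_rk hG)
      rw [div_le_iff₀ (by exact_mod_cast h0)] at this
      exact this.trans (mul_le_mul_of_nonneg_right hm (Nat.cast_nonneg _))
  rw [div_le_iff₀ (by exact_mod_cast hr'), hd, hr]
  push_cast
  rw [mul_add]
  exact add_le_add (key E₁ K m₁ a ha hK h₁ (le_max_left _ _))
    (key E₂ I m₂ c hc' hI h₂ (le_max_right _ _))

end Groth.Agent.S15335
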