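import Groth.Statements.S15345
-- import your own Groth.Agent.* helpers here

set_option autoImplicit false
universe u
open CategoryTheory CategoryTheory.Limits AlgebraicGeometry
open Mor
open scoped TensorProduct

namespace Groth.Agent.S15345

open TensorProduct

/-- The affine chart of a fibre product lying over affine opens of the three schemes. -/
noncomputable def chart {X Y X' : Scheme.{u}} (f : Y ⟶ X) (g : X' ⟶ X) (R C B : Type u) [CommRing R]
    [CommRing C] [CommRing B] [Algebra R C] [Algebra R B] (a : Spec (CommRingCat.of R) ⟶ X)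
    (b : Spec (CommRingCat.of C) ⟶ Y) (c : Spec (CommRingCat.of B) ⟶ X')
    (e₁ : Spec.map (CommRingCat.ofHom (algebraMap R C)) ≫ a = b ≫ f)
    (e₂ : Spec.map (CommRingCat.ofHom (algebraMap R B)) ≫ a = c ≫ g) :
    Spec (CommRingCat.of (C ⊗[R] B)) ⟶ pullback f g :=
  (pullbackSpecIso R C B).inv ≫ pullback.map _ _ f g b c a e₁ e₂

theorem chart_snd {X Y X' : Scheme.{u}} (f : Y ⟶ X) (g : X' ⟶ X) (R C B : Type u) [CommRing R]
    [CommRing C] [CommRing B] [Algebra R C] [Algebra R B] (a : Spec (CommRingCat.of R) ⟶ X)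
    (b : Spec (CommRingCat.of C) ⟶ Y) (c : Spec (CommRingCat.of B) ⟶ X')
    (e₁ : Spec.map (CommRingCat.ofHom (algebraMap R C)) ≫ a = b ≫ f)
    (e₂ : Spec.map (CommRingCat.ofHom (algebraMap R B)) ≫ a = c ≫ g) :
    chart f g R C B a b c e₁ e₂ ≫ pullback.snd f g =
      Spec.map (CommRingCat.ofHom (Algebra.TensorProduct.includeRight (R := R) (A := C) (B := B)).toRingHom) ≫
        c := by
  simp only [chart, pullback.map, Category.assoc, pullback.lift_snd]
  rw [← Category.assoc, pullbackSpecIso_inv_snd]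
  rfl

theorem isOpenImmersion_chart {X Y X' : Scheme.{u}} (f : Y ⟶ X) (g : X' ⟶ X) (R C B : Type u)
    [CommRing R] [CommRing C] [CommRing B] [Algebra R C] [Algebra R B]
    (a : Spec (CommRingCat.of R) ⟶ X)
    (b : Spec (CommRingCat.of C) ⟶ Y) (c : Spec (CommRingCat.of B) ⟶ X')
    [IsOpenImmersion a] [IsOpenImmersion b] [IsOpenImmersion c]
    (e₁ : Spec.map (CommRingCat.ofHom (algebraMap R C)) ≫ a = b ≫ f)
    (e₂ : Spec.map (CommRingCat.ofHom (algebraMap R B)) ≫ a = c ≫ g) :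
    IsOpenImmersion (chart f g R C B a b c e₁ e₂) := by
  unfold chart
  infer_instance

theorem range_chart {X Y X' : Scheme.{u}} (f : Y ⟶ X) (g : X' ⟶ X) (R C B : Type u) [CommRing R]
    [CommRing C] [CommRing B] [Algebra R C] [Algebra R B] (a : Spec (CommRingCat.of R) ⟶ X)
    [Mono a] (b : Spec (CommRingCat.of C) ⟶ Y) (c : Spec (CommRingCat.of B) ⟶ X')
    (e₁ : Spec.map (CommRingCat.ofHom (algebraMap R C)) ≫ a = b ≫ f)
    (e₂ : Spec.map (CommRingCat.ofHom (algebraMap R B)) ≫ a = c ≫ g) :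
    Set.range (chart f g R C B a b c e₁ e₂) =
      pullback.fst f g ⁻¹' Set.range b ∩ pullback.snd f g ⁻¹' Set.range c := by
  rw [← Scheme.Pullback.range_map (e₁ := e₁) (e₂ := e₂)]
  exact (pullbackSpecIso R C B).inv.surjective.range_comp _

/-- Elements of a tensor product come from a finitely generated subalgebra of the right factor. -/
theorem exists_fg_subalgebra {R C B : Type u} [CommRing R] [CommRing C] [CommRing B] [Algebra R C]
    [Algebra R B] (φ : C ⊗[R] B) :
    ∃ B₀ : Subalgebra R B, B₀.FG ∧ φ ∈ (Algebra.TensorProduct.map (AlgHom.id R C) B₀.val).range := by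
  obtain ⟨S, rfl⟩ := TensorProduct.exists_finset φ
  classical
  refine ⟨Algebra.adjoin R ((S.image Prod.snd : Finset B) : Set B), ⟨_, rfl⟩,
    Subalgebra.sum_mem _ fun i hi => ?_⟩
  exact ⟨i.1 ⊗ₜ ⟨i.2, Algebra.subset_adjoin (Finset.mem_image_of_mem _ hi)⟩, by simp⟩


/-- Let f : Y ⟶ X be a morphism of schemes, X quasi-separated. If for every morphism X' ⟶ X locally of
finite type the projection Y ×_X X' ⟶ X' reflects specializations (the image of y₁ specializing to
the image of y₀ forces y₁ to specialize to y₀), then the same holds for every morphism X' ⟶ X. (The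
published statement assumes moreover that f is a monomorphism; this row does not.) -/
theorem result {X Y : Scheme.{u}} [QuasiSeparatedSpace ↥X]
    (f : Y ⟶ X)
    (h : ∀ (X' : Scheme.{u}) (g : X' ⟶ X) [LocallyOfFiniteType g] (y₀ y₁ : ↥(pullback f g)),
      (pullback.snd f g).base y₁ ⤳ (pullback.snd f g).base y₀ → y₁ ⤳ y₀) :
    ∀ (X' : Scheme.{u}) (g : X' ⟶ X) (y₀ y₁ : ↥(pullback f g)),
        (pullback.snd f g).base y₁ ⤳ (pullback.snd f g).base y₀ → y₁ ⤳ y₀ := by
  intro X' g y₀ y₁ hx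
  -- affine charts around the specialized point
  obtain ⟨U, hU, hU₀, -⟩ := exists_isAffineOpen_mem_and_subset (X := X)
    (x := f (pullback.fst f g y₀)) (U := ⊤) trivial
  have hgU : g (pullback.snd f g y₀) ∈ U := by
    rwa [← Scheme.Hom.comp_apply, ← pullback.condition, Scheme.Hom.comp_apply]
  obtain ⟨V, hV, hV₀, hVU⟩ := exists_isAffineOpen_mem_and_subset (X := X')
    (x := pullback.snd f g y₀) (U := g ⁻¹ᵁ U) hgU
  obtain ⟨W, hW, hW₀, hWU⟩ := exists_isAffineOpen_mem_and_subset (X := Y)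
    (x := pullback.fst f g y₀) (U := f ⁻¹ᵁ U) hU₀
  have hV₁ : pullback.snd f g y₁ ∈ V := hx.mem_open V.2 hV₀
  -- the first projections specialize
  have hW₁ : pullback.fst f g y₁ ∈ W := by
    have hk : ∀ y : ↥(pullback f g), pullback.snd f g y ∈ V →
        ∃ z : ↥(pullback f U.ι), pullback.fst f U.ι z = pullback.fst f g y ∧
          U.ι (pullback.snd f U.ι z) = g (pullback.snd f g y) := fun y hy => by
      obtain ⟨z, hz₁, hz₂⟩ := Scheme.Pullback.exists_preimage_pullback (f := f) (g := U.ι)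
        (pullback.fst f g y) ⟨g (pullback.snd f g y), hVU hy⟩
        (by rw [← Scheme.Hom.comp_apply, pullback.condition, Scheme.Hom.comp_apply]; rfl)
      exact ⟨z, hz₁, by rw [hz₂]; rfl⟩
    obtain ⟨z₀, hz₀, hz₀'⟩ := hk y₀ hV₀
    obtain ⟨z₁, hz₁, hz₁'⟩ := hk y₁ hV₁
    have hs := h _ U.ι z₀ z₁ (U.ι.isOpenEmbedding.isInducing.specializes_iff.1
      (by rw [hz₁', hz₀']; exact hx.map g.continuous))
    have := hs.map (pullback.fst f U.ι).continuous
    rw [hz₀, hz₁] at this
    exact this.mem_open W.2 hW₀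
  let R : Type u := Γ(X, U)
  let C : Type u := Γ(Y, W)
  let B : Type u := Γ(X', V)
  let : Algebra R C := (f.appLE U W hWU).hom.toAlgebra
  let : Algebra R B := (g.appLE U V hVU).hom.toAlgebra
  have e₁ : Spec.map (CommRingCat.ofHom (algebraMap R C)) ≫ hU.fromSpec = hW.fromSpec ≫ f :=
    hU.SpecMap_appLE_fromSpec f hW hWU
  have e₂ : Spec.map (CommRingCat.ofHom (algebraMap R B)) ≫ hU.fromSpec = hV.fromSpec ≫ g :=
    hU.SpecMap_appLE_fromSpec g hV hVU
  let J := chart f g R C B hU.fromSpec hW.fromSpec hV.fromSpec e₁ e₂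
  have hJ : Set.range J = _ := range_chart f g R C B hU.fromSpec hW.fromSpec hV.fromSpec e₁ e₂
  rw [hW.range_fromSpec, hV.range_fromSpec] at hJ
  obtain ⟨q₀, rfl⟩ : y₀ ∈ Set.range J := by rw [hJ]; exact ⟨hW₀, hV₀⟩
  obtain ⟨q₁, rfl⟩ : y₁ ∈ Set.range J := by rw [hJ]; exact ⟨hW₁, hV₁⟩
  refine Specializes.map ?_ J.continuous
  let r : Spec (CommRingCat.of (C ⊗[R] B)) ⟶ Spec (CommRingCat.of B) :=
    Spec.map (CommRingCat.ofHom
      (Algebra.TensorProduct.includeRight (R := R) (A := C) (B := B)).toRingHom)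
  have hr : r q₁ ⤳ r q₀ := hV.fromSpec.isOpenEmbedding.isInducing.specializes_iff.1 (by
    rw [← Scheme.Hom.comp_apply, ← Scheme.Hom.comp_apply,
      ← chart_snd f g R C B hU.fromSpec hW.fromSpec hV.fromSpec e₁ e₂]
    exact hx)
  refine (PrimeSpectrum.le_iff_specializes q₁ q₀).1 ?_
  intro φ hφ
  by_contra hφ₀
  -- descend the separating function to a finitely generated subalgebra
  obtain ⟨B₀, hB₀, φ₀, rfl⟩ := exists_fg_subalgebra φ
  have : Algebra.FiniteType R B₀ := B₀.fg_iff_finiteType.1 hB₀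
  let t := Algebra.TensorProduct.map (AlgHom.id R C) B₀.val
  let tS : Spec (CommRingCat.of (C ⊗[R] B)) ⟶ Spec (CommRingCat.of (C ⊗[R] B₀)) :=
    Spec.map (CommRingCat.ofHom t.toRingHom)
  let r₀ : Spec (CommRingCat.of (C ⊗[R] B₀)) ⟶ Spec (CommRingCat.of B₀) :=
    Spec.map (CommRingCat.ofHom
      (Algebra.TensorProduct.includeRight (R := R) (A := C) (B := B₀)).toRingHom)
  have htr : tS ≫ r₀ = r ≫ Spec.map (CommRingCat.ofHom B₀.val.toRingHom) := by
    simp only [tS, r₀, r, ← Spec.map_comp]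
    congr 1
  let g₀ : Spec (CommRingCat.of B₀) ⟶ X :=
    Spec.map (CommRingCat.ofHom (algebraMap R B₀)) ≫ hU.fromSpec
  have : LocallyOfFiniteType (Spec.map (CommRingCat.ofHom (algebraMap R B₀))) :=
    (HasRingHomProperty.Spec_iff (P := @LocallyOfFiniteType)).2
      (RingHom.finiteType_algebraMap.2 inferInstance)
  let J₀ := chart f g₀ R C B₀ hU.fromSpec hW.fromSpec (𝟙 _) e₁ (Category.id_comp _).symm
  have : IsOpenImmersion J₀ :=
    isOpenImmersion_chart f g₀ R C B₀ hU.fromSpec hW.fromSpec (𝟙 _) e₁ (Category.id_comp _).symm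
  have hs₀ : ∀ q, pullback.snd f g₀ (J₀ (tS q)) =
      Spec.map (CommRingCat.ofHom B₀.val.toRingHom) (r q) := fun q => by
    rw [← Scheme.Hom.comp_apply, chart_snd, Category.comp_id, ← Scheme.Hom.comp_apply,
      ← Scheme.Hom.comp_apply]
    exact congrArg (fun k : Spec (CommRingCat.of (C ⊗[R] B)) ⟶ Spec (CommRingCat.of B₀) => k q) htr
  have hs := h _ g₀ (J₀ (tS q₀)) (J₀ (tS q₁)) (by
    rw [hs₀, hs₀]
    exact hr.map (Spec.map (CommRingCat.ofHom B₀.val.toRingHom)).continuous)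
  have hle := (PrimeSpectrum.le_iff_specializes (tS q₁) (tS q₀)).2
    (J₀.isOpenEmbedding.isInducing.specializes_iff.1 hs)
  exact hφ₀ (hle hφ)

end Groth.Agent.S15345
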