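import Groth.Statements.S15346
import Groth.Agent.MonoVal.Basic

set_option autoImplicit false
set_option backward.isDefEq.respectTransparency false
universe u
open CategoryTheory CategoryTheory.Limits AlgebraicGeometry
open Mor

namespace Groth.Agent.S15346

/-- Let X be a locally Noetherian scheme and f : Y ⟶ X a monomorphism. Suppose that for every discrete
valuation ring A with fraction field K and every commutative square Spec K ⟶ Y, Spec A ⟶ X over f
such that some morphism from the spectrum of the residue field of A to Y lies over Spec A ⟶ X, the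
square admits a lift Spec A ⟶ Y. Then after every base change X' ⟶ X the projection Y ×_X X' ⟶ X'
reflects specializations. -/
theorem result {X Y : Scheme.{u}} [IsLocallyNoetherian X]
    (f : Y ⟶ X) [Mono f]
    (h : ∀ S : ValuativeCommSq f, IsDiscreteValuationRing S.R →
        (∃ l₀ : Spec (CommRingCat.of (IsLocalRing.ResidueField S.R)) ⟶ Y,
            l₀ ≫ f = Spec.map (CommRingCat.ofHom (IsLocalRing.residue S.R)) ≫ S.i₂) →
          S.commSq.HasLift) :
    ∀ (X' : Scheme.{u}) (g : X' ⟶ X) (y₀ y₁ : ↥(pullback f g)),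
        (pullback.snd f g).base y₁ ⤳ (pullback.snd f g).base y₀ → y₁ ⤳ y₀ := by
  intro X' g y₀ y₁ hsp
  let z₀ := (pullback.snd f g) y₀
  let z₁ := (pullback.snd f g) y₁
  have hsp' : z₁ ⤳ z₀ := hsp
  let r : X'.presheaf.stalk z₀ ⟶ X'.residueField z₁ :=
    X'.presheaf.stalkSpecializes hsp' ≫ X'.residue z₁
  obtain ⟨A, hA, hA_local⟩ := IsLocalRing.exists_factor_valuationRing r.hom
  let rA : X'.presheaf.stalk z₀ ⟶ CommRingCat.of A := CommRingCat.ofHom (r.hom.codRestrict _ hA)
  let lam : Spec (CommRingCat.of A) ⟶ X' := Spec.map rA ≫ X'.fromSpecStalk z₀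
  have hl0 : lam (IsLocalRing.closedPoint A) = z₀ := by
    show (Spec.map rA ≫ X'.fromSpecStalk z₀) _ = _
    rw [Scheme.Hom.comp_apply]
    have : Spec.map rA (IsLocalRing.closedPoint A) = IsLocalRing.closedPoint (X'.presheaf.stalk z₀) :=
      IsLocalRing.comap_closedPoint (S := A) (r.hom.codRestrict A.toSubring hA)
    rw [this, Scheme.fromSpecStalk_closedPoint]
  have hlK : Spec.map (CommRingCat.ofHom (algebraMap A (X'.residueField z₁))) ≫ lam =
      X'.fromSpecResidueField z₁ := by
    rw [Scheme.fromSpecResidueField, ← Scheme.SpecMap_stalkSpecializes_fromSpecStalk hsp']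
    simp only [lam, ← Spec.map_comp_assoc]
    rfl
  let gen : Spec (CommRingCat.of A) := (⟨⊥, Ideal.isPrime_bot⟩ : PrimeSpectrum A)
  have hgen : Spec.map (CommRingCat.ofHom (algebraMap A (X'.residueField z₁)))
      (IsLocalRing.closedPoint (X'.residueField z₁)) = gen := by
    apply PrimeSpectrum.ext
    show Ideal.comap (algebraMap A (X'.residueField z₁)) (IsLocalRing.maximalIdeal _) = ⊥
    rw [IsLocalRing.isField_iff_maximalIdeal_eq.1 (Field.toIsField (X'.residueField z₁))]
    exact Ideal.comap_bot_of_injective _ (IsFractionRing.injective A _)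
  have hl1 : lam gen = z₁ := by
    rw [← hgen, ← Scheme.Hom.comp_apply, hlK]; exact Scheme.fromSpecResidueField_apply z₁ _
  obtain ⟨m, hm⟩ := Groth.MonoVal.exists_lift f h A (lam ≫ g) (pullback.fst f g y₀) (pullback.fst f g y₁)
    (by rw [← Scheme.Hom.comp_apply, pullback.condition, Scheme.Hom.comp_apply, Scheme.Hom.comp_apply, hl0])
    (by
      show _ = (lam ≫ g) gen
      rw [← Scheme.Hom.comp_apply, pullback.condition, Scheme.Hom.comp_apply, Scheme.Hom.comp_apply, hl1])
  let n := pullback.lift m lam hm
  have hinj : Function.Injective (pullback.snd f g) := (pullback.snd f g).injective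
  have e0 : n (IsLocalRing.closedPoint A) = y₀ := hinj (by
    rw [← Scheme.Hom.comp_apply, pullback.lift_snd, hl0])
  have e1 : n gen = y₁ := hinj (by rw [← Scheme.Hom.comp_apply, pullback.lift_snd, hl1])
  rw [← e0, ← e1]
  exact ((PrimeSpectrum.le_iff_specializes _ _).1 (bot_le : (⊥ : Ideal A) ≤ _)).map n.continuous

end Groth.Agent.S15346
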