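import Groth.Statements.S15347
-- import your own Groth.Agent.* helpers here

set_option autoImplicit false
universe u
open CategoryTheory CategoryTheory.Limits AlgebraicGeometry
open Mor

namespace Groth.Agent.S15347

/-- A morphism from a reduced scheme factors through an immersion if it lands in the open where the
immersion is closed and meets the image densely. -/
theorem exists_lift_of_dense {X Y T : Scheme.{u}} (f : Y ⟶ X) [IsImmersion f] [IsReduced T]
    (s : T ⟶ X) (hU : ∀ t, s t ∈ f.coborderRange) (hd : Dense (s ⁻¹' Set.range f)) :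
    ∃ l : T ⟶ Y, l ≫ f = s := by
  let s' : T ⟶ f.coborderRange := IsOpenImmersion.lift f.coborderRange.ι s (by
    rw [Scheme.Opens.range_ι]; exact Set.range_subset_iff.2 hU)
  have hs' : s' ≫ f.coborderRange.ι = s := IsOpenImmersion.lift_fac _ _ _
  let q := pullback.snd f.liftCoborder s'
  have hsub : s ⁻¹' Set.range f ⊆ Set.range q := by
    rintro t ⟨y, hy⟩
    obtain ⟨z, -, hz⟩ := Scheme.Pullback.exists_preimage_pullback (f := f.liftCoborder) (g := s') y t
      (f.coborderRange.ι.isOpenEmbedding.injective (by
        rw [← Scheme.Hom.comp_apply, ← Scheme.Hom.comp_apply, f.liftCoborder_ι, hs', hy]))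
    exact ⟨z, hz⟩
  have : Surjective q := ⟨fun t => by
    have := closure_minimal hsub q.isClosedEmbedding.isClosed_range
    rw [hd.closure_eq] at this
    exact this trivial⟩
  have : IsIso q := isIso_of_isClosedImmersion_of_surjective q
  refine ⟨inv q ≫ pullback.fst f.liftCoborder s', ?_⟩
  refine ((congrArg ((inv q ≫ pullback.fst f.liftCoborder s') ≫ ·) f.liftCoborder_ι).symm).trans ?_
  rw [Category.assoc, pullback.condition_assoc, hs']
  exact IsIso.inv_hom_id_assoc q s


/-- Let f : Y ⟶ X be an immersion of schemes. Then: for every valuation ring A with fraction field K and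
every commutative square Spec K ⟶ Y, Spec A ⟶ X over f such that some morphism from the spectrum of
the residue field of A to Y lies over Spec A ⟶ X, the square admits a lift; and for every integral
domain A and every morphism s : Spec A ⟶ X such that the points of a dense subset of Spec A lift to
Y (the residue field of each such point maps to Y over s), there is a nonempty open subscheme U of
Spec A with a morphism U ⟶ Y over s. (The published statement is for a representable, locally
finitely presented morphism of algebraic stacks with locally Noetherian target and a quasi-compact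
immersion, and also lists that f is a monomorphism; this row is the case of schemes, for any
immersion and any target.) -/
theorem result {X Y : Scheme.{u}} (f : Y ⟶ X) [IsImmersion f] :
    (∀ S : ValuativeCommSq f,
        (∃ l₀ : Spec (CommRingCat.of (IsLocalRing.ResidueField S.R)) ⟶ Y,
            l₀ ≫ f = Spec.map (CommRingCat.ofHom (IsLocalRing.residue S.R)) ≫ S.i₂) →
          S.commSq.HasLift) ∧
      ∀ (A : Type u) [CommRing A] [IsDomain A] (s : Spec (CommRingCat.of A) ⟶ X) (D : Set ↥(Spec (CommRingCat.of A))),
        Dense D →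
        (∀ p ∈ D, ∃ l : Spec ((Spec (CommRingCat.of A)).residueField p) ⟶ Y,
            l ≫ f = (Spec (CommRingCat.of A)).fromSpecResidueField p ≫ s) →
          ∃ U : (Spec (CommRingCat.of A)).Opens, (U : Set ↥(Spec (CommRingCat.of A))).Nonempty ∧
            ∃ l : (U : Scheme.{u}) ⟶ Y, l ≫ f = U.ι ≫ s := by
  refine ⟨fun S hl₀ => ?_, fun A _ _ s D hD hl => ?_⟩
  · obtain ⟨l₀, hl₀⟩ := hl₀
    have hr : ∀ z, f z ∈ f.coborderRange := fun z => subset_coborder ⟨z, rfl⟩
    have hc : S.i₂ (IsLocalRing.closedPoint S.R) ∈ f.coborderRange := by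
      have h1 : Spec.map (CommRingCat.ofHom (IsLocalRing.residue S.R))
          (IsLocalRing.closedPoint (IsLocalRing.ResidueField S.R)) = IsLocalRing.closedPoint S.R :=
        IsLocalRing.comap_closedPoint (IsLocalRing.residue S.R)
      have := hr (l₀ (IsLocalRing.closedPoint (IsLocalRing.ResidueField S.R)))
      rw [← Scheme.Hom.comp_apply, hl₀, Scheme.Hom.comp_apply] at this
      exact (congrArg (fun p => S.i₂ p ∈ f.coborderRange) h1).mp this
    let gen := Spec.map (CommRingCat.ofHom (algebraMap S.R S.K))
    have hd : Dense (S.i₂ ⁻¹' Set.range f) := by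
      refine Dense.mono (s₁ := Set.range gen) ?_ (PrimeSpectrum.denseRange_comap_iff_ker_le_nilRadical _ |>.2 ?_)
      · rintro _ ⟨z, rfl⟩
        exact ⟨S.i₁ z, by rw [← Scheme.Hom.comp_apply, S.commSq.w, Scheme.Hom.comp_apply]⟩
      · rw [CommRingCat.hom_ofHom,
          (RingHom.injective_iff_ker_eq_bot _).1 (IsFractionRing.injective S.R S.K)]
        exact bot_le
    obtain ⟨l, hl⟩ := exists_lift_of_dense f S.i₂
      (fun t => ((IsLocalRing.specializes_closedPoint t).map S.i₂.continuous).mem_open
        f.coborderRange.2 hc) hd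
    exact ⟨⟨⟨l, (cancel_mono f).1 (by rw [Category.assoc, hl, S.commSq.w]), hl⟩⟩⟩
  · let U : (Spec (CommRingCat.of A)).Opens := s ⁻¹ᵁ f.coborderRange
    have hDf : D ⊆ s ⁻¹' Set.range f := fun p hp => by
      obtain ⟨l, hl'⟩ := hl p hp
      refine ⟨l (IsLocalRing.closedPoint _), ?_⟩
      rw [← Scheme.Hom.comp_apply, hl', Scheme.Hom.comp_apply,
        Scheme.fromSpecResidueField_apply]
    obtain ⟨p, hp⟩ := hD.nonempty
    obtain ⟨l, hl'⟩ := exists_lift_of_dense f (U.ι ≫ s) (fun t => t.2) (by
      refine Dense.mono (s₁ := U.ι ⁻¹' D) (fun t ht => ?_)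
        (hD.preimage U.ι.isOpenEmbedding.isOpenMap)
      obtain ⟨y, hy⟩ := hDf ht
      exact ⟨y, by rw [hy, Scheme.Hom.comp_apply]⟩)
    exact ⟨U, ⟨p, subset_coborder (hDf hp)⟩, l, hl'⟩

end Groth.Agent.S15347
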