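import Groth.Statements.S15352
import Groth.Agent.GrpschAbsch.IdComp

set_option autoImplicit false
universe u
open CategoryTheory CategoryTheory.Limits MonoidalCategory CartesianMonoidalCategory MonObj GrpObj AlgebraicGeometry
open GrpSch

namespace Groth.Agent.S15352

/-- Let k be an algebraically closed field, G a group scheme locally of finite type over k, G⁰ ⊆ G the
connected component of the unit point, and U a nonempty open subscheme of G contained in G⁰. Then
every point of G⁰ is in the image of the morphism U ×_k U ⟶ G, (g, h) ↦ g·h⁻¹. (The published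
statement writes U as an open of G mapping to G⁰ × G⁰; this row makes the containment U ⊆ G⁰
explicit.) -/
theorem result (k : Type u) [Field k] [IsAlgClosed k]
    (G : Over (Spec (CommRingCat.of k))) [GrpObj G] [LocallyOfFiniteType G.hom] (U : G.left.Opens)
    (hne : (U : Set ↥G.left).Nonempty)
    (hU : (U : Set ↥G.left) ⊆ connectedComponent (η[G].left.base (IsLocalRing.closedPoint k))) :
    connectedComponent (η[G].left.base (IsLocalRing.closedPoint k)) ⊆ Set.range
      ((((Over.homMk U.ι rfl : Over.mk (U.ι ≫ G.hom) ⟶ G) ⊗ₘ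
          ((Over.homMk U.ι rfl : Over.mk (U.ι ≫ G.hom) ⟶ G) ≫ ι[G])) ≫ μ[G]).left.base) := by
  classical
  haveI : Subsingleton ↥(𝟙_ (Over (Spec (CommRingCat.of k)))).left :=
    inferInstanceAs (Subsingleton ↥(Spec (CommRingCat.of k)))
  have := LocallyOfFiniteType.jacobsonSpace G.hom
  set e := η[G].left.base (IsLocalRing.closedPoint k)
  set C := connectedComponent e
  let incl : Over.mk (U.ι ≫ G.hom) ⟶ G := Over.homMk U.ι rfl
  change C ⊆ Set.range (((incl ⊗ₘ (incl ≫ ι[G])) ≫ μ[G]).left.base)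
  set m := (incl ⊗ₘ (incl ≫ ι[G])) ≫ μ[G] with hm
  have hopen : IsOpen (Set.range m.left) := by
    have : IsOpenImmersion incl.left := inferInstanceAs (IsOpenImmersion U.ι)
    have h1 : IsOpenImmersion (incl ▷ Over.mk (U.ι ≫ G.hom)).left :=
      MorphismProperty.of_isPullback (GrpschAbsch.isPullback_whiskerRight incl _).flip this
    have h2 : IsOpenImmersion (G ◁ incl).left :=
      MorphismProperty.of_isPullback (GrpschAbsch.isPullback_whiskerLeft G incl).flip this
    have e1 : m = (incl ▷ _) ≫ (G ◁ incl) ≫ (GrpschAbsch.shearR ι[G]).hom ≫ fst G G := by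
      rw [hm, GrpschAbsch.shearR_hom_fst, ← MonoidalCategory.whiskerLeft_comp_assoc,
        ← MonoidalCategory.tensorHom_def_assoc]
    rw [e1]
    simp only [Over.comp_left]
    refine IsOpenMap.isOpen_range ?_
    exact ((GrpschAbsch.isOpenMap_fst_left G G).comp
      (GrpschAbsch.leftHomeo (GrpschAbsch.shearR ι[G])).isOpenMap).comp
      ((G ◁ incl).left.isOpenEmbedding.isOpenMap.comp (incl ▷ _).left.isOpenEmbedding.isOpenMap)
  have key : ∀ x ∈ C, IsClosed {x} → x ∈ Set.range m.left := by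
    intro x hxC hx
    let x' : 𝟙_ _ ⟶ G := Over.homMk _ ((pointEquivClosedPoint G.hom).symm ⟨x, hx⟩).2
    have hx' : x'.left (IsLocalRing.closedPoint k) = x := pointOfClosedPoint_apply G.hom x hx _
    let L : G ≅ G :=
      { hom := (toUnit G ≫ x') * 𝟙 G
        inv := (toUnit G ≫ x')⁻¹ * 𝟙 G
        hom_inv_id := by simp [MonObj.comp_mul, GrpObj.comp_inv]
        inv_hom_id := by simp [MonObj.comp_mul, GrpObj.comp_inv] }
    let φ := GrpschAbsch.leftHomeo L
    have hφ : φ e = x := by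
      have h1 : η[G] ≫ L.hom = x' := by
        simp [L, MonObj.comp_mul, ← MonObj.one_eq_one]
      exact (Scheme.Hom.comp_apply η[G].left L.hom.left _).symm.trans
        ((congrArg (fun f : 𝟙_ _ ⟶ G ↦ f.left (IsLocalRing.closedPoint k)) h1).trans hx')
    have hU' : φ '' (U : Set G.left) ⊆ C := by
      refine (Set.image_mono hU).trans ((φ.continuous.image_connectedComponent_subset e).trans ?_)
      rw [hφ, ← connectedComponent_eq hxC]
    obtain ⟨g₀, -, hg₀U, hg₀L⟩ := (GrpschAbsch.isIrreducible_connectedComponent G e).2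
      (U : Set G.left) (φ '' (U : Set G.left)) U.isOpen (φ.isOpenMap _ U.isOpen)
      (by obtain ⟨u, hu⟩ := hne; exact ⟨u, hU hu, hu⟩)
      (by obtain ⟨u, hu⟩ := hne; exact ⟨φ u, hU' ⟨u, hu, rfl⟩, u, hu, rfl⟩)
    obtain ⟨g, ⟨hgU, hgL⟩, hgc⟩ := nonempty_inter_closedPoints
      (⟨g₀, hg₀U, hg₀L⟩ : ((U : Set G.left) ∩ φ '' (U : Set G.left)).Nonempty)
      (U.isOpen.inter (φ.isOpenMap _ U.isOpen)).isLocallyClosed
    let g' : 𝟙_ _ ⟶ G := Over.homMk _ ((pointEquivClosedPoint G.hom).symm ⟨g, hgc⟩).2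
    have hg' : ∀ t, g'.left t = g := fun t ↦ by
      rw [Subsingleton.elim t (IsLocalRing.closedPoint k)]
      exact pointOfClosedPoint_apply G.hom g hgc _
    let h' : 𝟙_ _ ⟶ G := g' ≫ L.inv
    have hh' : ∀ t, h'.left t ∈ U := fun t ↦ by
      obtain ⟨u, hu, hue⟩ := hgL
      show L.inv.left (g'.left t) ∈ U
      rw [hg', ← hue]
      show φ.symm (φ u) ∈ U
      rwa [φ.symm_apply_apply]
    have liftU : ∀ f : 𝟙_ _ ⟶ G, (∀ t, f.left t ∈ U) →
        ∃ f' : 𝟙_ _ ⟶ Over.mk (U.ι ≫ G.hom), f' ≫ incl = f := fun f hf ↦ by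
      have hr : Set.range f.left ⊆ Set.range U.ι := by
        rintro _ ⟨t, rfl⟩
        exact (Set.ext_iff.mp (Scheme.Opens.range_ι U) _).mpr (hf t)
      refine ⟨Over.homMk (IsOpenImmersion.lift U.ι f.left hr) ?_, ?_⟩
      · exact (IsOpenImmersion.lift_fac_assoc U.ι f.left hr G.hom).trans (Over.w f)
      · exact Over.OverMorphism.ext (IsOpenImmersion.lift_fac U.ι f.left hr)
    obtain ⟨gU, hgU'⟩ := liftU g' (fun t ↦ by rw [hg']; exact hgU)
    obtain ⟨hU₁, hhU'⟩ := liftU h' hh'
    have hmx : lift gU hU₁ ≫ m = x' := by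
      rw [hm, lift_map_assoc, ← Category.assoc hU₁, hgU', hhU']
      have : ∀ a b : 𝟙_ _ ⟶ G, lift a b ≫ μ[G] = a * b := fun a b ↦ rfl
      rw [this, ← Hom.inv_def]
      simp [h', L, MonObj.comp_mul, GrpObj.comp_inv]
    refine ⟨(lift gU hU₁).left (IsLocalRing.closedPoint k), ?_⟩
    exact (Scheme.Hom.comp_apply (lift gU hU₁).left m.left _).symm.trans
      ((congrArg (fun f : 𝟙_ _ ⟶ G ↦ f.left (IsLocalRing.closedPoint k)) hmx).trans hx')
  intro y hy
  by_contra hyr
  obtain ⟨z, hz, hzc⟩ := nonempty_inter_closedPoints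
    (⟨y, hy, hyr⟩ : (C ∩ (Set.range m.left)ᶜ).Nonempty)
    (isClosed_connectedComponent.inter hopen.isClosed_compl).isLocallyClosed
  exact hz.2 (key z hz.1 hzc)

end Groth.Agent.S15352
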