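import Groth.Statements.S16707
import Mathlib
-- import your own Groth.Agent.* helpers here

set_option autoImplicit false
universe u v
open CAlg

namespace Groth.Agent.S16707

open TensorProduct in
/-- Let A be a commutative ring, I a nilpotent ideal of A and f : M → N a homomorphism of A-modules with
N flat over A (no finiteness assumption on M or N). If the base change of f to A/I, that is M/IM →
N/IN, is bijective, then f is bijective. -/
theorem result (A : Type u) [CommRing A] (I : Ideal A)
    (hI : IsNilpotent I) (M N : Type v) [AddCommGroup M] [Module A M] [AddCommGroup N] [Module A N]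
    [Module.Flat A N] (f : M →ₗ[A] N)
    (hf : Function.Bijective (f.baseChange (A ⧸ I))) :
    Function.Bijective f := by
  have tens : ∀ {X : Type v} [AddCommGroup X] [Module A X], Subsingleton ((A ⧸ I) ⊗[A] X) →
      Subsingleton X := by
    intro X _ _ h
    have e : ((A ⧸ I) ⊗[A] X) ≃ₗ[A] X ⧸ (I • (⊤ : Submodule A X)) :=
      TensorProduct.quotTensorEquivQuotSMul X I
    have htop : I • (⊤ : Submodule A X) = ⊤ :=
      Submodule.Quotient.subsingleton_iff.1 e.symm.toEquiv.subsingleton
    obtain ⟨n, hn⟩ := hI
    have hpow : ∀ j, I ^ j • (⊤ : Submodule A X) = ⊤ := by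
      intro j
      induction j with
      | zero => simp
      | succ j ih => rw [pow_succ, Submodule.mul_smul, htop, ih]
    have := hpow n
    rw [hn, Submodule.zero_eq_bot, Submodule.bot_smul] at this
    exact subsingleton_of_forall_eq 0 fun x => by
      have hx : x ∈ (⊤ : Submodule A X) := trivial
      rw [← this] at hx; exact hx
  have hinj : Function.Injective (f.lTensor (A ⧸ I)) := hf.1
  have hsurj : Function.Surjective (f.lTensor (A ⧸ I)) := hf.2
  have hs : Function.Surjective f := by
    rw [← LinearMap.range_eq_top, ← Submodule.Quotient.subsingleton_iff]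
    apply tens
    refine subsingleton_of_forall_eq 0 fun z => ?_
    obtain ⟨w, rfl⟩ := LinearMap.lTensor_surjective (A ⧸ I) (Submodule.mkQ_surjective (LinearMap.range f)) z
    obtain ⟨v, rfl⟩ := hsurj w
    have hc : (LinearMap.range f).mkQ ∘ₗ f = 0 := LinearMap.range_mkQ_comp f
    rw [← LinearMap.comp_apply, ← LinearMap.lTensor_comp, hc, LinearMap.lTensor_zero, LinearMap.zero_apply]
  refine ⟨?_, hs⟩
  rw [← LinearMap.ker_eq_bot, ← Submodule.subsingleton_iff_eq_bot]
  apply tens
  have hex : Function.Exact (LinearMap.ker f).subtype f := LinearMap.exact_subtype_ker_map f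
  have h1 : Function.Injective ((LinearMap.ker f).subtype.lTensor (A ⧸ I)) :=
    LinearMap.lTensor_injective_of_exact_of_flat f hs _ (Submodule.subtype_injective _) hex _
  refine subsingleton_of_forall_eq 0 fun z => h1 ?_
  rw [map_zero]
  apply hinj
  rw [map_zero, ← LinearMap.comp_apply, ← LinearMap.lTensor_comp, hex.linearMap_comp_eq_zero,
    LinearMap.lTensor_zero, LinearMap.zero_apply]

end Groth.Agent.S16707
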