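import Groth.Statements.S15353
import Mathlib
import Groth.Agent.S16707
import Groth.Agent.Calg7.LiftProjective
-- import your own Groth.Agent.* helpers here

set_option autoImplicit false
universe u
open CAlg

namespace Groth.Agent.S15353

open scoped TensorProduct

open TensorProduct in
theorem bij_of_baseChange {B A : Type u} [CommRing B] [CommRing A] [Algebra B A]
    (hsurj : Function.Surjective (algebraMap B A)) (hnil : IsNilpotent (RingHom.ker (algebraMap B A)))
    {M N : Type u} [AddCommGroup M] [Module B M] [AddCommGroup N] [Module B N] [Module.Flat B N]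
    (φ : M →ₗ[B] N) (h : Function.Bijective (φ.baseChange A)) : Function.Bijective φ := by
  let e : (B ⧸ RingHom.ker (algebraMap B A)) ≃ₗ[B] A :=
    (Ideal.quotientKerAlgEquivOfSurjective (f := Algebra.ofId B A) hsurj).toLinearEquiv
  refine Groth.Agent.S16707.result B _ hnil M N φ ?_
  show Function.Bijective (φ.lTensor (B ⧸ RingHom.ker (algebraMap B A)))
  have hcomm : φ.lTensor (B ⧸ RingHom.ker (algebraMap B A)) =
      (TensorProduct.congr e.symm (LinearEquiv.refl B N)).toLinearMap ∘ₗ φ.lTensor A ∘ₗ
        (TensorProduct.congr e (LinearEquiv.refl B M)).toLinearMap := by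
    refine TensorProduct.ext' fun x y => ?_
    simp
  rw [hcomm, LinearMap.coe_comp, LinearMap.coe_comp]
  exact (TensorProduct.congr e.symm (LinearEquiv.refl B N)).bijective.comp
    (Function.Bijective.comp h (TensorProduct.congr e (LinearEquiv.refl B M)).bijective)


/-- Let f : A' → A be a surjective ring homomorphism whose kernel is a nilpotent ideal. Then the induced
homomorphism of Picard groups Pic(A') → Pic(A), base change of invertible modules along f, is
bijective. -/
theorem result {A' A : Type u} [CommRing A'] [CommRing A]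
    (f : A' →+* A) (hf : Function.Surjective f) (hker : IsNilpotent (RingHom.ker f)) :
    Function.Bijective (CommRing.Pic.mapRingHom f) := by
  algebraize [f]
  have hsurj : Function.Surjective (algebraMap A' A) := hf
  have hnil : IsNilpotent (RingHom.ker (algebraMap A' A)) := hker
  rw [show CommRing.Pic.mapRingHom f = CommRing.Pic.mapAlgebra A' A from rfl]
  constructor
  · rw [injective_iff_map_eq_one]
    intro M hM
    rw [CommRing.Pic.mapAlgebra_apply, CommRing.Pic.mk_eq_one_iff] at hM
    obtain ⟨e⟩ := hM
    obtain ⟨x, hx⟩ := TensorProduct.mk_surjective A' M A hsurj (e.symm 1)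
    let φ : A' →ₗ[A'] M := LinearMap.toSpanSingleton A' M x
    have hb : Function.Bijective (φ.baseChange A) := by
      let ρ : A ⊗[A'] A' ≃ₗ[A] A := TensorProduct.AlgebraTensorModule.rid A' A A
      have hφ : φ.baseChange A = e.symm.toLinearMap ∘ₗ ρ.toLinearMap := by
        refine TensorProduct.AlgebraTensorModule.ext fun a r => ?_
        have h1 : e.symm (ρ (a ⊗ₜ r)) = (r • a) • ((1 : A) ⊗ₜ[A'] x) := by
          rw [show (1 : A) ⊗ₜ[A'] x = e.symm 1 from hx, ← map_smul, smul_eq_mul, mul_one]
          simp [ρ]
        simp only [LinearMap.baseChange_tmul, LinearMap.comp_apply, LinearEquiv.coe_coe]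
        rw [h1, TensorProduct.smul_tmul', smul_eq_mul, mul_one, TensorProduct.smul_tmul]
        rfl
      rw [hφ]
      exact e.symm.bijective.comp ρ.bijective
    have := bij_of_baseChange hsurj hnil φ hb
    rw [← CommRing.Pic.mk_eq_self (M := M), CommRing.Pic.mk_eq_one_iff]
    exact ⟨(LinearEquiv.ofBijective φ this).symm⟩
  · intro L
    have hid := Groth.Calg7.LiftProj.idem_lift_of_isNilpotent hsurj hnil
    obtain ⟨P, _, _, _, _, ⟨eP⟩⟩ := Groth.Calg7.LiftProj.exists_lift hid L
    obtain ⟨Q, _, _, _, _, ⟨eQ⟩⟩ := Groth.Calg7.LiftProj.exists_lift hid (Module.Dual A L)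
    let χ : A ⊗[A'] (P ⊗[A'] Q) ≃ₗ[A] A :=
      TensorProduct.AlgebraTensorModule.distribBaseChange A' A P Q ≪≫ₗ TensorProduct.congr eP eQ ≪≫ₗ
        TensorProduct.comm A L (Module.Dual A L) ≪≫ₗ Module.Invertible.linearEquiv A L
    obtain ⟨ψ, hψ⟩ := Module.projective_lifting_property (Algebra.linearMap A' A)
      ((χ.toLinearMap.restrictScalars A') ∘ₗ TensorProduct.mk A' A (P ⊗[A'] Q) 1) hsurj
    have hb : Function.Bijective (ψ.baseChange A) := by
      have hψ' : ψ.baseChange A = (TensorProduct.AlgebraTensorModule.rid A' A A).symm.toLinearMap ∘ₗ χ.toLinearMap := by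
        refine TensorProduct.AlgebraTensorModule.ext fun a z => ?_
        apply (TensorProduct.AlgebraTensorModule.rid A' A A).injective
        have h1 : algebraMap A' A (ψ z) = χ (1 ⊗ₜ z) := LinearMap.congr_fun hψ z
        simp only [LinearMap.baseChange_tmul, LinearMap.comp_apply, LinearEquiv.coe_coe,
          LinearEquiv.apply_symm_apply, TensorProduct.AlgebraTensorModule.rid_tmul]
        rw [Algebra.smul_def, h1, show a ⊗ₜ[A'] z = a • ((1 : A) ⊗ₜ[A'] z) by
          rw [TensorProduct.smul_tmul', smul_eq_mul, mul_one], map_smul, smul_eq_mul, mul_comm]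
      rw [hψ']
      exact (TensorProduct.AlgebraTensorModule.rid A' A A).symm.bijective.comp χ.bijective
    have hbij := bij_of_baseChange hsurj hnil ψ hb
    haveI : Module.Invertible A' P :=
      Module.Invertible.left (LinearEquiv.ofBijective ψ hbij)
    refine ⟨CommRing.Pic.mk A' P, ?_⟩
    rw [CommRing.Pic.mapAlgebra_apply, ← CommRing.Pic.mk_eq_self (M := L), CommRing.Pic.mk_eq_mk_iff]
    exact ⟨TensorProduct.AlgebraTensorModule.congr (LinearEquiv.refl A A) (CommRing.Pic.mk.linearEquiv A' P) ≪≫ₗ eP⟩

end Groth.Agent.S15353
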