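import Groth.Statements.S15360
import Mathlib

set_option autoImplicit false
universe u
open GalCoh

namespace Groth.Agent.S15360


open Matrix in
/-- unit criterion in `ℤ_p` -/
theorem isUnit_iff_toZMod {p : ℕ} [Fact p.Prime] (x : ℤ_[p]) : IsUnit x ↔ PadicInt.toZMod x ≠ 0 := by
  rw [ne_eq, ← RingHom.mem_ker, PadicInt.ker_toZMod]
  exact (IsLocalRing.notMem_maximalIdeal).symm

theorem exists_lift {p : ℕ} [Fact p.Prime] (u : GL (Fin 2) (ZMod p)) :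
    ∃ w : GL (Fin 2) ℤ_[p], Matrix.GeneralLinearGroup.map PadicInt.toZMod w = u := by
  have hs : Function.Surjective (PadicInt.toZMod (p := p)) :=
    ZMod.ringHom_surjective _
  choose l hl using hs
  let W : Matrix (Fin 2) (Fin 2) ℤ_[p] := fun i j => l ((u : Matrix (Fin 2) (Fin 2) (ZMod p)) i j)
  have hW : W.map PadicInt.toZMod = u := by ext i j; exact hl _
  have hdet : IsUnit W.det := by
    rw [isUnit_iff_toZMod, RingHom.map_det]
    show (W.map PadicInt.toZMod).det ≠ 0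
    rw [hW]
    exact (Matrix.GeneralLinearGroup.det u).ne_zero
  refine ⟨Matrix.GeneralLinearGroup.mk'' W hdet, Units.ext ?_⟩
  exact hW

variable {p : ℕ} [Fact p.Prime] {G : Type u} [Group G]

/-- `X` is, mod `p`, a leading term at level `n` of the image -/
def Lead (ϕ : G →* GL (Fin 2) ℤ_[p]) (n : ℕ) (X : Matrix (Fin 2) (Fin 2) ℤ_[p]) : Prop :=
  ∃ (g : G) (E : Matrix (Fin 2) (Fin 2) ℤ_[p]),
    (ϕ g : Matrix (Fin 2) (Fin 2) ℤ_[p]) = 1 + (p : ℤ_[p]) ^ n • X + (p : ℤ_[p]) ^ (n + 1) • E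

variable {ϕ : G →* GL (Fin 2) ℤ_[p]} {n : ℕ}

theorem Lead.zero : Lead ϕ n 0 := ⟨1, 0, by simp⟩

theorem Lead.add (hn : 1 ≤ n) {X Y} (hX : Lead ϕ n X) (hY : Lead ϕ n Y) : Lead ϕ n (X + Y) := by
  obtain ⟨g, E, hg⟩ := hX
  obtain ⟨h, F, hh⟩ := hY
  obtain ⟨m, rfl⟩ := Nat.exists_eq_add_of_le' hn
  refine ⟨g * h, E + F + (p : ℤ_[p]) ^ m • ((X + (p : ℤ_[p]) • E) * (Y + (p : ℤ_[p]) • F)), ?_⟩
  rw [map_mul, Units.val_mul, hg, hh]
  simp only [Matrix.mul_add, Matrix.add_mul, Matrix.mul_one, Matrix.one_mul, Matrix.smul_mul,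
    Matrix.mul_smul, smul_add, smul_smul, pow_succ]
  module

theorem Lead.congr {X} (hX : Lead ϕ n X) (Y : Matrix (Fin 2) (Fin 2) ℤ_[p]) :
    Lead ϕ n (X + (p : ℤ_[p]) • Y) := by
  obtain ⟨g, E, hg⟩ := hX
  refine ⟨g, E - Y, hg.trans ?_⟩
  simp only [smul_add, smul_sub, smul_smul, pow_succ]
  abel

theorem Lead.of_map_eq {X Y : Matrix (Fin 2) (Fin 2) ℤ_[p]} (hX : Lead ϕ n X)
    (h : X.map PadicInt.toZMod = Y.map PadicInt.toZMod) : Lead ϕ n Y := by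
  have hd : ∀ i j, (p : ℤ_[p]) ∣ Y i j - X i j := fun i j => by
    rw [← Ideal.mem_span_singleton, ← PadicInt.maximalIdeal_eq_span_p, ← PadicInt.ker_toZMod,
      RingHom.mem_ker, map_sub, sub_eq_zero]
    exact (congrFun (congrFun h i) j).symm
  choose Z hZ using hd
  have : Y = X + (p : ℤ_[p]) • Matrix.of Z := by
    ext i j
    show Y i j = X i j + (p : ℤ_[p]) * Z i j
    rw [← hZ]; ring
  rw [this]
  exact hX.congr _

theorem Lead.nsmul (hn : 1 ≤ n) {X} (hX : Lead ϕ n X) : ∀ m : ℕ, Lead ϕ n (m • X)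
  | 0 => by simpa using Lead.zero
  | m + 1 => by rw [succ_nsmul]; exact (Lead.nsmul hn hX m).add hn hX

theorem Lead.smul (hn : 1 ≤ n) {X} (hX : Lead ϕ n X) (c : ℤ_[p]) : Lead ϕ n (c • X) := by
  refine (hX.nsmul hn (PadicInt.toZMod c).val).of_map_eq ?_
  rw [← Nat.cast_smul_eq_nsmul ℤ_[p]]
  ext i j
  simp only [Matrix.map_apply, Matrix.smul_apply, smul_eq_mul, map_mul, map_natCast, ZMod.natCast_zmod_val]

theorem Lead.conj (hs : Function.Surjective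
    ((Matrix.GeneralLinearGroup.map (n := Fin 2) (PadicInt.toZMod (p := p))).comp ϕ))
    {X} (hX : Lead ϕ n X) (w : GL (Fin 2) ℤ_[p]) :
    Lead ϕ n ((w : Matrix (Fin 2) (Fin 2) ℤ_[p]) * X * ((w⁻¹ : GL (Fin 2) ℤ_[p]) : Matrix (Fin 2) (Fin 2) ℤ_[p])) := by
  obtain ⟨g₀, hg₀⟩ := hs (Matrix.GeneralLinearGroup.map PadicInt.toZMod w)
  obtain ⟨g, E, hg⟩ := hX
  rw [MonoidHom.comp_apply] at hg₀
  have h1 : Lead ϕ n ((ϕ g₀ : Matrix (Fin 2) (Fin 2) ℤ_[p]) * X *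
      (((ϕ g₀)⁻¹ : GL (Fin 2) ℤ_[p]) : Matrix (Fin 2) (Fin 2) ℤ_[p])) := by
    refine ⟨g₀ * g * g₀⁻¹, (ϕ g₀ : Matrix (Fin 2) (Fin 2) ℤ_[p]) * E *
      (((ϕ g₀)⁻¹ : GL (Fin 2) ℤ_[p]) : Matrix (Fin 2) (Fin 2) ℤ_[p]), ?_⟩
    rw [map_mul, map_mul, map_inv, Units.val_mul, Units.val_mul, hg]
    simp only [Matrix.mul_add, Matrix.add_mul, Matrix.mul_one, Matrix.smul_mul, Matrix.mul_smul,
      Units.mul_inv]
  refine h1.of_map_eq ?_
  have e1 := congrArg (fun z : GL (Fin 2) (ZMod p) => (z : Matrix (Fin 2) (Fin 2) (ZMod p))) hg₀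
  have e2 := congrArg (fun z : GL (Fin 2) (ZMod p) => ((z⁻¹ : GL (Fin 2) (ZMod p)) : Matrix (Fin 2) (Fin 2) (ZMod p))) hg₀
  rw [← map_inv (Matrix.GeneralLinearGroup.map PadicInt.toZMod), ← map_inv (Matrix.GeneralLinearGroup.map PadicInt.toZMod)] at e2
  rw [Matrix.map_mul, Matrix.map_mul, Matrix.map_mul, Matrix.map_mul]
  exact congrArg₂ (fun P Q => P * X.map PadicInt.toZMod * Q) e1 e2

theorem Lead.all (hn : 1 ≤ n) (hs : Function.Surjective
    ((Matrix.GeneralLinearGroup.map (n := Fin 2) (PadicInt.toZMod (p := p))).comp ϕ))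
    (h0 : ∃ (g : G) (a b c d : ℤ_[p]), ¬ ((p : ℤ_[p]) ∣ a) ∧
          ((ϕ g : GL (Fin 2) ℤ_[p]) : Matrix (Fin 2) (Fin 2) ℤ_[p]) =
            !![1 + (p : ℤ_[p]) ^ n * a, (p : ℤ_[p]) ^ (n + 1) * b;
               (p : ℤ_[p]) ^ (n + 1) * c, 1 + (p : ℤ_[p]) ^ (n + 1) * d])
    (X : Matrix (Fin 2) (Fin 2) ℤ_[p]) : Lead ϕ n X := by
  obtain ⟨g, a, b, c, d, ha, hg⟩ := h0
  have ha' : IsUnit a := by
    by_contra h
    rw [← mem_nonunits_iff, ← IsLocalRing.mem_maximalIdeal, PadicInt.maximalIdeal_eq_span_p,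
      Ideal.mem_span_singleton] at h
    exact ha h
  obtain ⟨ai, hai⟩ := ha'.exists_left_inv
  have hE : Lead ϕ n !![a, 0; 0, 0] := ⟨g, !![0, b; c, d], hg.trans (by
    ext i j; fin_cases i <;> fin_cases j <;> simp)⟩
  have h11 : ∀ t : ℤ_[p], Lead ϕ n !![t, 0; 0, 0] := fun t => by
    refine (hE.smul hn (t * ai)).of_map_eq (congrArg (fun M : Matrix (Fin 2) (Fin 2) ℤ_[p] => M.map PadicInt.toZMod) ?_)
    ext i j; fin_cases i <;> fin_cases j <;> simp [mul_assoc, hai]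
  let sw : GL (Fin 2) ℤ_[p] := ⟨!![0, 1; 1, 0], !![0, 1; 1, 0],
    by ext i j; fin_cases i <;> fin_cases j <;> simp [Matrix.mul_apply, Fin.sum_univ_two],
    by ext i j; fin_cases i <;> fin_cases j <;> simp [Matrix.mul_apply, Fin.sum_univ_two]⟩
  let tv : GL (Fin 2) ℤ_[p] := ⟨!![1, -1; 0, 1], !![1, 1; 0, 1],
    by ext i j; fin_cases i <;> fin_cases j <;> simp [Matrix.mul_apply, Fin.sum_univ_two],
    by ext i j; fin_cases i <;> fin_cases j <;> simp [Matrix.mul_apply, Fin.sum_univ_two]⟩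
  have h12 : ∀ t : ℤ_[p], Lead ϕ n !![0, t; 0, 0] := fun t => by
    have := ((h11 t).conj hs tv).add hn (h11 (-t))
    convert this using 1
    ext i j; fin_cases i <;> fin_cases j <;> simp [tv, Matrix.mul_apply, Fin.sum_univ_two]
  have h22 : ∀ t : ℤ_[p], Lead ϕ n !![0, 0; 0, t] := fun t => by
    convert (h11 t).conj hs sw using 1
    ext i j; fin_cases i <;> fin_cases j <;> simp [sw, Matrix.mul_apply, Fin.sum_univ_two]
  have h21 : ∀ t : ℤ_[p], Lead ϕ n !![0, 0; t, 0] := fun t => by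
    convert (h12 t).conj hs sw using 1
    ext i j; fin_cases i <;> fin_cases j <;> simp [sw, Matrix.mul_apply, Fin.sum_univ_two]
  convert (((h11 (X 0 0)).add hn (h12 (X 0 1))).add hn (h21 (X 1 0))).add hn (h22 (X 1 1)) using 1
  ext i j; fin_cases i <;> fin_cases j <;> simp


/-- Let 𝔊 be a profinite group and ϕ : 𝔊 → GL₂(ℤ_p) a continuous homomorphism. Then ϕ is surjective if
and only if (i) the composite of ϕ with reduction modulo p, 𝔊 → GL₂(𝔽_p), is surjective, and (ii)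
for every integer n ≥ 1 there is g ∈ 𝔊 such that ϕ(g) has the form [[1 + pⁿa, pⁿ⁺¹b], [pⁿ⁺¹c, 1 +
pⁿ⁺¹d]] with a, b, c, d ∈ ℤ_p and a not divisible by p (equivalently: the image of ϕ⁻¹(1 +
pⁿM₂(ℤ_p)) in M₂(𝔽_p) under g ↦ (ϕ(g) − 1)/pⁿ contains a matrix [[x, 0], [0, 0]] with x ≠ 0).
Continuity of ϕ is expressed through its matrix entries. -/
theorem result (p : ℕ) [Fact p.Prime]
    (𝔊 : Type u) [Group 𝔊] [TopologicalSpace 𝔊] [IsTopologicalGroup 𝔊] [CompactSpace 𝔊] [T2Space 𝔊]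
    [TotallyDisconnectedSpace 𝔊]
    (ϕ : 𝔊 →* GL (Fin 2) ℤ_[p])
    (hϕ : Continuous fun g => ((ϕ g : GL (Fin 2) ℤ_[p]) : Matrix (Fin 2) (Fin 2) ℤ_[p])) :
    Function.Surjective ϕ ↔
      (Function.Surjective ((Matrix.GeneralLinearGroup.map (n := Fin 2) (PadicInt.toZMod (p := p))).comp ϕ) ∧
        ∀ n : ℕ, 1 ≤ n → ∃ (g : 𝔊) (a b c d : ℤ_[p]), ¬ ((p : ℤ_[p]) ∣ a) ∧
          ((ϕ g : GL (Fin 2) ℤ_[p]) : Matrix (Fin 2) (Fin 2) ℤ_[p]) =
            !![1 + (p : ℤ_[p]) ^ n * a, (p : ℤ_[p]) ^ (n + 1) * b;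
               (p : ℤ_[p]) ^ (n + 1) * c, 1 + (p : ℤ_[p]) ^ (n + 1) * d]) := by
  constructor
  · intro hsurj
    constructor
    · intro u
      obtain ⟨w, rfl⟩ := exists_lift u
      obtain ⟨g, rfl⟩ := hsurj w
      exact ⟨g, rfl⟩
    · intro n hn
      obtain ⟨m, rfl⟩ := Nat.exists_eq_add_of_le' hn
      have hdet : IsUnit (!![1 + (p : ℤ_[p]) ^ (m + 1), 0; 0, 1] : Matrix (Fin 2) (Fin 2) ℤ_[p]).det := by
        rw [Matrix.det_fin_two_of, isUnit_iff_toZMod]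
        simp [map_add, map_pow]
      obtain ⟨g, hg⟩ := hsurj (Matrix.GeneralLinearGroup.mk'' _ hdet)
      refine ⟨g, 1, 0, 0, 0, fun h => ?_, ?_⟩
      · exact PadicInt.prime_p.not_unit (isUnit_of_dvd_one h)
      · rw [hg]
        show (!![1 + (p : ℤ_[p]) ^ (m + 1), 0; 0, 1] : Matrix (Fin 2) (Fin 2) ℤ_[p]) = _
        simp
  · rintro ⟨hs, hlev⟩ u
    have key : ∀ m : ℕ, ∃ (g : 𝔊) (Y : Matrix (Fin 2) (Fin 2) ℤ_[p]),
        (u : Matrix (Fin 2) (Fin 2) ℤ_[p]) = (ϕ g : Matrix (Fin 2) (Fin 2) ℤ_[p]) + (p : ℤ_[p]) ^ (m + 1) • Y := by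
      intro m
      induction m with
      | zero =>
        obtain ⟨g, hg⟩ := hs (Matrix.GeneralLinearGroup.map PadicInt.toZMod u)
        have hd : ∀ i j, (p : ℤ_[p]) ∣ (u : Matrix (Fin 2) (Fin 2) ℤ_[p]) i j - (ϕ g : Matrix (Fin 2) (Fin 2) ℤ_[p]) i j := fun i j => by
          rw [← Ideal.mem_span_singleton, ← PadicInt.maximalIdeal_eq_span_p, ← PadicInt.ker_toZMod,
            RingHom.mem_ker, map_sub, sub_eq_zero]
          exact (congrFun (congrFun (congrArg (fun z : GL (Fin 2) (ZMod p) => (z : Matrix (Fin 2) (Fin 2) (ZMod p))) hg) i) j).symm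
        choose Y hY using hd
        refine ⟨g, Y, ?_⟩
        ext i j
        simp only [zero_add, pow_one, Matrix.add_apply, Matrix.smul_apply, smul_eq_mul, ← hY]
        ring
      | succ m ih =>
        obtain ⟨h, Y, hY⟩ := ih
        obtain ⟨k, E, hk⟩ := Lead.all (n := m + 1) (by omega) hs (hlev (m + 1) (by omega))
          ((((ϕ h)⁻¹ : GL (Fin 2) ℤ_[p]) : Matrix (Fin 2) (Fin 2) ℤ_[p]) * Y)
        refine ⟨h * k, -((ϕ h : Matrix (Fin 2) (Fin 2) ℤ_[p]) * E), ?_⟩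
        rw [map_mul, Units.val_mul, hk, hY]
        simp only [Matrix.mul_add, Matrix.mul_one, Matrix.mul_smul, ← Matrix.mul_assoc, Units.mul_inv,
          Matrix.one_mul, smul_neg]
        abel
    choose g Y hY using key
    let f : 𝔊 → Matrix (Fin 2) (Fin 2) ℤ_[p] := fun g => (ϕ g : Matrix (Fin 2) (Fin 2) ℤ_[p])
    have hcl : IsClosed (Set.range f) := (isCompact_range hϕ).isClosed
    have hlim : Filter.Tendsto (fun m => f (g m)) Filter.atTop (nhds (u : Matrix (Fin 2) (Fin 2) ℤ_[p])) := by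
      refine tendsto_pi_nhds.mpr fun i => tendsto_pi_nhds.mpr fun j => ?_
      rw [tendsto_iff_norm_sub_tendsto_zero]
      have h1 : ‖(p : ℤ_[p])‖ < 1 := by
        rw [PadicInt.norm_p]; exact inv_lt_one_of_one_lt₀ (by exact_mod_cast (Fact.out : p.Prime).one_lt)
      refine squeeze_zero (fun m => norm_nonneg _) (fun m => ?_)
        ((tendsto_pow_atTop_nhds_zero_of_lt_one (norm_nonneg _) h1).comp (Filter.tendsto_add_atTop_nat 1))
      have e : f (g m) i j - (u : Matrix (Fin 2) (Fin 2) ℤ_[p]) i j = -((p : ℤ_[p]) ^ (m + 1) * Y m i j) := by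
        rw [hY m]; simp [f]
      rw [e, norm_neg, norm_mul, norm_pow]
      exact mul_le_of_le_one_right (by positivity) (PadicInt.norm_le_one _)
    obtain ⟨g', hg'⟩ := hcl.mem_of_tendsto hlim (Filter.Eventually.of_forall fun m => ⟨g m, rfl⟩)
    exact ⟨g', Units.ext hg'⟩

end Groth.Agent.S15360
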