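import Groth.Statements.S15361
import Mathlib

set_option autoImplicit false
open GalCoh

namespace Groth.Agent.S15361

section
open Matrix

variable {p : ℕ} [Fact p.Prime]

local notation "K" => ZMod p
local notation "M2" => Matrix (Fin 2) (Fin 2) (ZMod p)

theorem sq_eq_zero_of_isNilpotent (N : M2) (h : IsNilpotent N) : N * N = 0 := by
  have ht : N 0 0 + N 1 1 = 0 := by
    have := (Matrix.isNilpotent_trace_of_isNilpotent h).eq_zero
    rwa [Matrix.trace_fin_two] at this
  have hd : N 0 0 * N 1 1 - N 0 1 * N 1 0 = 0 := by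
    obtain ⟨m, hm⟩ := h
    have h1 : N.det ^ m = 0 := by
      rw [← Matrix.det_pow, hm]
      exact Matrix.det_zero
    rw [← Matrix.det_fin_two]
    exact eq_zero_of_pow_eq_zero h1
  ext i j
  fin_cases i <;> fin_cases j <;> simp [Matrix.mul_apply, Fin.sum_univ_two]
  · linear_combination (N 0 0) * ht - hd
  · linear_combination (N 0 1) * ht
  · linear_combination (N 1 0) * ht
  · linear_combination (N 1 1) * ht - hd

theorem one_add_pow_of_sq_zero (N : M2) (h : N * N = 0) (m : ℕ) : (1 + N) ^ m = 1 + m • N := by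
  induction m with
  | zero => simp
  | succ m ih =>
    rw [pow_succ, ih, succ_nsmul, add_mul, one_mul, mul_add, mul_one, smul_mul_assoc, h]
    simp [add_assoc, add_comm, add_left_comm]

/-- The matrices of a subgroup. -/
def InH (H : Subgroup (GL (Fin 2) K)) (M : M2) : Prop := ∃ g ∈ H, (g : M2) = M

theorem InH.mul {H : Subgroup (GL (Fin 2) K)} {M N : M2} (h1 : InH H M) (h2 : InH H N) :
    InH H (M * N) := by
  obtain ⟨g, hg, rfl⟩ := h1
  obtain ⟨g', hg', rfl⟩ := h2
  exact ⟨g * g', mul_mem hg hg', rfl⟩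

theorem InH.one {H : Subgroup (GL (Fin 2) K)} : InH H 1 := ⟨1, one_mem _, rfl⟩

theorem InH.pow {H : Subgroup (GL (Fin 2) K)} {M : M2} (h1 : InH H M) (m : ℕ) : InH H (M ^ m) := by
  obtain ⟨g, hg, rfl⟩ := h1
  exact ⟨g ^ m, pow_mem hg m, by simp⟩

theorem InH.list_prod {H : Subgroup (GL (Fin 2) K)} {l : List M2} (h : ∀ M ∈ l, InH H M) :
    InH H l.prod := by
  induction l with
  | nil => exact InH.one
  | cons a l ih =>
    rw [List.prod_cons]
    exact (h a (List.mem_cons_self ..)).mul (ih fun M hM => h M (List.mem_cons_of_mem _ hM))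

theorem fin2 : ∀ i j : Fin 2, i ≠ j →
    (∀ z : Fin 2, z = i ∨ z = j) ∧ (Finset.univ : Finset (Fin 2)) = {i, j} := by decide

theorem transvec_mem (H : Subgroup (GL (Fin 2) K)) (N : M2) (hN0 : N ≠ 0) (hN : N * N = 0)
    (hNH : InH H (1 + N))
    (htr : ∀ v t : Fin 2 → K, v ≠ 0 → t ≠ 0 → ∃ g ∈ H, (g : M2) *ᵥ v = t)
    (i j : Fin 2) (hij : i ≠ j) (c : K) : InH H (transvection i j c) := by
  obtain ⟨a, b, hab⟩ : ∃ a b, N a b ≠ 0 := by
    by_contra h
    push Not at h
    exact hN0 (Matrix.ext h)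
  set v : Fin 2 → K := N.col b with hv
  have hNv : N *ᵥ v = 0 := by
    ext x
    have := congrFun (congrFun hN x) b
    simpa [Matrix.mul_apply, Matrix.mulVec, dotProduct, hv] using this
  have hv0 : v ≠ 0 := fun h => hab (congrFun h a)
  -- move the fixed line to the `i`-th axis
  obtain ⟨g, hg, hgv⟩ := htr v (Pi.single i 1) hv0 (by simp)
  set N' : M2 := (g : M2) * N * ((g⁻¹ : GL (Fin 2) K) : M2) with hN'
  have hgg : ((g⁻¹ : GL (Fin 2) K) : M2) * (g : M2) = 1 := Units.inv_mul g
  have hgg' : (g : M2) * ((g⁻¹ : GL (Fin 2) K) : M2) = 1 := Units.mul_inv g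
  have hN'0 : N' ≠ 0 := by
    intro h
    apply hN0
    have := congrArg (fun X => ((g⁻¹ : GL (Fin 2) K) : M2) * X * (g : M2)) h
    simp only [hN', mul_zero, zero_mul] at this
    rwa [← Matrix.mul_assoc, ← Matrix.mul_assoc, hgg, Matrix.one_mul, Matrix.mul_assoc, hgg,
      Matrix.mul_one] at this
  have hN'sq : N' * N' = 0 := by
    rw [hN', show (g : M2) * N * ((g⁻¹ : GL (Fin 2) K) : M2) * ((g : M2) * N * ((g⁻¹ : GL (Fin 2) K) : M2))
      = (g : M2) * (N * ((((g⁻¹ : GL (Fin 2) K) : M2)) * (g : M2)) * N) * ((g⁻¹ : GL (Fin 2) K) : M2) by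
        simp only [Matrix.mul_assoc], hgg, Matrix.mul_one, hN]
    simp
  have hN'col : ∀ x, N' x i = 0 := by
    intro x
    have h1 : N' *ᵥ (Pi.single i 1) = 0 := by
      rw [← hgv, hN', Matrix.mulVec_mulVec, Matrix.mul_assoc, hgg, Matrix.mul_one, ← Matrix.mulVec_mulVec,
        hNv, Matrix.mulVec_zero]
    simpa using congrFun h1 x
  have hji : N' j j = 0 := by
    have h1 := congrFun (congrFun hN'sq j) j
    rw [Matrix.mul_apply, (fin2 i j hij).2, Finset.sum_pair hij, hN'col, zero_mul, zero_add] at h1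
    exact mul_self_eq_zero.mp h1
  have heq : N' = Matrix.single i j (N' i j) := by
    ext x y
    have hx := (fin2 i j hij).1
    rcases hx x with rfl | rfl <;> rcases hx y with rfl | rfl
    · simp [hN'col, hij.symm]
    · simp
    · simp [hN'col, hij]
    · simp [hji, hij]
  have hne : N' i j ≠ 0 := fun h => hN'0 (by rw [heq, h, Matrix.single_zero])
  have hmem : InH H (1 + N') := by
    have := InH.mul (InH.mul (⟨g, hg, rfl⟩ : InH H (g : M2)) hNH)
      (⟨g⁻¹, inv_mem hg, rfl⟩ : InH H ((g⁻¹ : GL (Fin 2) K) : M2))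
    rwa [Matrix.mul_add, Matrix.mul_one, Matrix.add_mul, hgg'] at this
  have := hmem.pow (c / N' i j).val
  rw [one_add_pow_of_sq_zero _ hN'sq] at this
  convert this using 1
  rw [← Nat.cast_smul_eq_nsmul (ZMod p), ZMod.natCast_zmod_val]
  generalize hq : N' i j = q at heq hne ⊢
  rw [transvection, heq, Matrix.smul_single, smul_eq_mul, div_mul_cancel₀ _ hne]

theorem diag_sl (H : Subgroup (GL (Fin 2) K)) (ht : ∀ (i j : Fin 2), i ≠ j → ∀ c : K, InH H (transvection i j c))
    (r : K) (hr : r ≠ 0) : InH H (diagonal ![r, r⁻¹]) := by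
  have h := ((((ht 0 1 (by decide) r).mul (ht 1 0 (by decide) (-r⁻¹))).mul (ht 0 1 (by decide) r)).mul
    (((ht 0 1 (by decide) (-1)).mul (ht 1 0 (by decide) 1)).mul (ht 0 1 (by decide) (-1))))
  convert h using 1
  ext x y
  fin_cases x <;> fin_cases y <;> simp [Matrix.mul_apply, Fin.sum_univ_two, transvection, hr]

theorem prod_mem_and_inv (H : Subgroup (GL (Fin 2) K))
    (ht : ∀ (i j : Fin 2), i ≠ j → ∀ c : K, InH H (transvection i j c))
    (L : List (TransvectionStruct (Fin 2) K)) :
    InH H (L.map TransvectionStruct.toMatrix).prod ∧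
      InH H ((L.reverse.map TransvectionStruct.inv).map TransvectionStruct.toMatrix).prod := by
  constructor <;>
  · refine InH.list_prod fun M hM => ?_
    obtain ⟨t, -, rfl⟩ := List.mem_map.mp hM
    exact ht t.i t.j t.hij t.c

theorem eq_top_of (H : Subgroup (GL (Fin 2) K))
    (ht : ∀ (i j : Fin 2), i ≠ j → ∀ c : K, InH H (transvection i j c))
    (hdet : ∀ u : K, u ≠ 0 → ∃ M, InH H M ∧ M.det = u) : H = ⊤ := by
  rw [eq_top_iff]
  intro g _
  obtain ⟨L, L', D, hM⟩ := Matrix.Pivot.exists_list_transvec_mul_diagonal_mul_list_transvec (g : M2)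
  have hD : InH H (diagonal D) := by
    have hd : (g : M2).det = D 0 * D 1 := by
      rw [hM]; simp [Fin.prod_univ_two]
    have hne : D 0 * D 1 ≠ 0 := hd ▸ (Matrix.isUnits_det_units g).ne_zero
    obtain ⟨M, hMH, hMd⟩ := hdet _ hne
    obtain ⟨P, P', E, hP⟩ := Matrix.Pivot.exists_list_transvec_mul_diagonal_mul_list_transvec M
    have hE : InH H (diagonal E) := by
      have h := (((prod_mem_and_inv H ht P).2).mul hMH).mul ((prod_mem_and_inv H ht P').2)
      convert h using 1
      rw [hP, List.map_map, List.map_map]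
      simp only [← Matrix.mul_assoc]
      rw [TransvectionStruct.reverse_inv_prod_mul_prod, Matrix.one_mul, Matrix.mul_assoc,
        TransvectionStruct.prod_mul_reverse_inv_prod, Matrix.mul_one]
    have hd' : E 0 * E 1 = D 0 * D 1 := by
      rw [← hMd, hP]; simp [Fin.prod_univ_two]
    have hE0 : E 0 ≠ 0 := fun h => hne (by rw [← hd', h, zero_mul])
    have hD0 : D 0 ≠ 0 := fun h => hne (by rw [h, zero_mul])
    convert (diag_sl H ht (D 0 / E 0) (div_ne_zero hD0 hE0)).mul hE using 1
    rw [Matrix.diagonal_mul_diagonal]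
    congr 1
    funext x
    rcases (fin2 0 1 (by decide)).1 x with rfl | rfl
    · simp [hE0]
    · simp
      field_simp
      linear_combination -hd'
  obtain ⟨g', hg', hgg'⟩ : InH H (g : M2) := by
    rw [hM]
    exact ((prod_mem_and_inv H ht L).1.mul hD).mul (prod_mem_and_inv H ht L').1
  rwa [← Units.ext hgg']

theorem det_surj (E : Subring M2) (hE : IsField E) (hcard : Nat.card E = p ^ 2) (u : K) (hu : u ≠ 0) :
    ∃ x ∈ E, x.det = u := by
  rcases eq_or_ne p 2 with rfl | hp2
  · refine ⟨1, one_mem _, ?_⟩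
    rw [Matrix.det_one]
    have : ∀ a : ZMod 2, a ≠ 0 → 1 = a := by
      clear hcard hE E hu u
      intro a ha
      fin_cases a
      · exact absurd rfl ha
      · rfl
    exact this u hu
  obtain ⟨y, hy, hys⟩ : ∃ y ∈ E, ∀ a : K, y ≠ a • (1 : M2) := by
    by_contra h
    push Not at h
    have h1 : Nat.card E ≤ Nat.card K := Nat.card_le_card_of_surjective
      (fun a : K => (⟨a • 1, by
        rw [← ZMod.natCast_zmod_val a, Nat.cast_smul_eq_nsmul]; exact nsmul_mem (one_mem E) _⟩ : E))
      (fun x => by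
        obtain ⟨a, ha⟩ := h x.1 x.2
        exact ⟨a, Subtype.ext ha.symm⟩)
    rw [hcard, Nat.card_zmod] at h1
    have h2 := (Fact.out : p.Prime).two_le
    nlinarith
  have h2 : (2 : K) ≠ 0 := by
    intro h
    have h' : ((2 : ℕ) : K) = 0 := by exact_mod_cast h
    exact hp2 ((Nat.prime_dvd_prime_iff_eq Fact.out Nat.prime_two).mp ((CharP.cast_eq_zero_iff (ZMod p) p 2).mp h'))
  set e : K := y.det - (y 0 0 + y 1 1) ^ 2 / 4 with he
  have he0 : e ≠ 0 := by
    intro h0
    set z : M2 := y - ((y 0 0 + y 1 1) / 2) • 1 with hz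
    have hzE : z ∈ E := sub_mem hy (by
      rw [← ZMod.natCast_zmod_val ((y 0 0 + y 1 1) / 2), Nat.cast_smul_eq_nsmul]
      exact nsmul_mem (one_mem E) _)
    have hzz : z * z = 0 := by
      have h4 : (4 : K) ≠ 0 := by rw [show (4 : K) = 2 * 2 by norm_num]; exact mul_ne_zero h2 h2
      rw [he, Matrix.det_fin_two] at h0
      field_simp at h0
      ext i j
      fin_cases i <;> fin_cases j <;> simp [hz, Matrix.mul_apply, Fin.sum_univ_two] <;> field_simp
      · linear_combination -h0
      · ring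
      · ring
      · linear_combination -h0
    letI := hE.toField
    have hz0 : (⟨z, hzE⟩ : E) = 0 := mul_self_eq_zero.mp (Subtype.ext hzz)
    exact hys _ (sub_eq_zero.mp (congrArg Subtype.val hz0))
  have hodd : Fintype.card K % 2 = 1 := by
    rw [ZMod.card]
    exact Nat.odd_iff.mp ((Fact.out : p.Prime).odd_of_ne_two hp2)
  obtain ⟨a, b, hab⟩ := FiniteField.exists_root_sum_quadratic
    (f := (Polynomial.X ^ 2 : Polynomial K)) (g := Polynomial.C e * Polynomial.X ^ 2 - Polynomial.C u)
    (Polynomial.degree_X_pow 2) (by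
      rw [Polynomial.degree_sub_eq_left_of_degree_lt] <;>
        rw [Polynomial.degree_C_mul_X_pow 2 he0]
      · rfl
      · exact Polynomial.degree_C_le.trans_lt (by decide)) hodd
  simp only [Polynomial.eval_pow, Polynomial.eval_X, Polynomial.eval_sub, Polynomial.eval_mul,
    Polynomial.eval_C] at hab
  refine ⟨(a - b * ((y 0 0 + y 1 1) / 2)) • 1 + b • y, add_mem ?_ ?_, ?_⟩
  · rw [← ZMod.natCast_zmod_val (a - b * ((y 0 0 + y 1 1) / 2)), Nat.cast_smul_eq_nsmul]
    exact nsmul_mem (one_mem E) _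
  · rw [← ZMod.natCast_zmod_val b, Nat.cast_smul_eq_nsmul]
    exact nsmul_mem hy _
  · have h4 : (4 : K) ≠ 0 := by rw [show (4 : K) = 2 * 2 by norm_num]; exact mul_ne_zero h2 h2
    rw [he, Matrix.det_fin_two] at hab
    rw [Matrix.det_fin_two]
    simp
    field_simp at hab ⊢
    linear_combination hab

end

/-- Let p be a prime and H a subgroup of GL₂(𝔽_p). Then H = GL₂(𝔽_p) if and only if (i) some non-split
Cartan subgroup lies in H, i.e. some subgroup C ≤ H such that C ∪ {0} is a subfield of the matrix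
algebra M₂(𝔽_p) with p² elements, and (ii) p divides the order of H. -/
theorem result (p : ℕ) [Fact p.Prime]
    (H : Subgroup (GL (Fin 2) (ZMod p))) :
    H = ⊤ ↔
      (∃ (C : Subgroup (GL (Fin 2) (ZMod p))) (E : Subring (Matrix (Fin 2) (Fin 2) (ZMod p))),
          C ≤ H ∧ IsField E ∧ Nat.card E = p ^ 2 ∧
            (E : Set (Matrix (Fin 2) (Fin 2) (ZMod p))) =
              insert 0 ((fun g : GL (Fin 2) (ZMod p) => (g : Matrix (Fin 2) (Fin 2) (ZMod p))) ''
                (C : Set (GL (Fin 2) (ZMod p))))) ∧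
        p ∣ Nat.card H := by
  constructor
  · rintro rfl
    have hfr : Module.finrank (ZMod p) (GaloisField p 2) = 2 := GaloisField.finrank p two_ne_zero
    let b : Module.Basis (Fin 2) (ZMod p) (GaloisField p 2) := Module.finBasisOfFinrankEq _ _ hfr
    let φ : GaloisField p 2 →+* Matrix (Fin 2) (Fin 2) (ZMod p) := (Algebra.leftMulMatrix b).toRingHom
    have hφ : Function.Injective φ := Algebra.leftMulMatrix_injective b
    let e : GaloisField p 2 ≃+* φ.range := RingEquiv.ofBijective φ.rangeRestrict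
      ⟨fun x y h => hφ (congrArg Subtype.val h), φ.rangeRestrict_surjective⟩
    refine ⟨⟨(Units.map φ.toMonoidHom).range, φ.range, le_top, ?_, ?_, ?_⟩, ?_⟩
    · exact e.symm.toMulEquiv.isField (Field.toIsField (GaloisField p 2))
    · rw [← Nat.card_congr e.toEquiv, GaloisField.card p 2 two_ne_zero]
    · ext M
      simp only [RingHom.coe_range, Set.mem_range, Set.mem_insert_iff, Set.mem_image, SetLike.mem_coe,
        MonoidHom.mem_range]
      constructor
      · rintro ⟨x, rfl⟩
        rcases eq_or_ne x 0 with rfl | hx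
        · exact Or.inl (map_zero φ)
        · exact Or.inr ⟨Units.map φ.toMonoidHom (Units.mk0 x hx), ⟨_, rfl⟩, rfl⟩
      · rintro (rfl | ⟨g, ⟨x, rfl⟩, rfl⟩)
        · exact ⟨0, map_zero φ⟩
        · exact ⟨x, rfl⟩
    · let N : Matrix (Fin 2) (Fin 2) (ZMod p) := Matrix.single 0 1 1
      let g : GL (Fin 2) (ZMod p) := Matrix.GeneralLinearGroup.mkOfDetNeZero (Matrix.transvection 0 1 1)
        (by simp)
      have hN : N * N = 0 := by
        ext i j
        fin_cases i <;> fin_cases j <;> simp [N, Matrix.mul_apply, Fin.sum_univ_two]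
      have hg : orderOf g = p := by
        apply orderOf_eq_prime
        · ext : 1
          rw [Units.val_pow_eq_pow_val]
          show (1 + N) ^ p = 1
          rw [one_add_pow_of_sq_zero N hN, ← Nat.cast_smul_eq_nsmul (ZMod p), ZMod.natCast_self,
            zero_smul, add_zero]
        · intro h
          have := congrArg (fun x : GL (Fin 2) (ZMod p) => (x : Matrix (Fin 2) (Fin 2) (ZMod p)) 0 1) h
          simp [g, Matrix.transvection] at this
      rw [Subgroup.card_top]
      exact (dvd_of_eq hg.symm).trans (orderOf_dvd_natCard g)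
  · rintro ⟨⟨C, E, hCH, hE, hcard, hset⟩, hp⟩
    have hEC : ∀ x ∈ E, x ≠ 0 → InH H x := by
      intro x hx hx0
      have := hset ▸ (show x ∈ (E : Set _) from hx)
      rcases this with h | ⟨g, hg, rfl⟩
      · exact absurd h hx0
      · exact ⟨g, hCH hg, rfl⟩
    have htr : ∀ v t : Fin 2 → ZMod p, v ≠ 0 → t ≠ 0 →
        ∃ g ∈ H, (g : Matrix (Fin 2) (Fin 2) (ZMod p)).mulVec v = t := by
      intro v t hv ht
      haveI : Finite E := Nat.finite_of_card_ne_zero (by rw [hcard]; exact pow_ne_zero _ (Fact.out : p.Prime).ne_zero)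
      have hinj : Function.Injective (fun x : E => (x : Matrix (Fin 2) (Fin 2) (ZMod p)).mulVec v) := by
        intro x y hxy
        by_contra hne
        obtain ⟨z, hz⟩ := hE.mul_inv_cancel (sub_ne_zero.mpr hne)
        rw [hE.mul_comm] at hz
        have hz' : ((z : Matrix (Fin 2) (Fin 2) (ZMod p)) * ((x : Matrix (Fin 2) (Fin 2) (ZMod p)) - y)) = 1 :=
          congrArg Subtype.val hz
        have := congrArg (fun M => Matrix.mulVec M v) hz'
        simp only [← Matrix.mulVec_mulVec, Matrix.sub_mulVec, Matrix.one_mulVec] at this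
        simp only at hxy
        rw [hxy, sub_self, Matrix.mulVec_zero] at this
        exact hv this.symm
      have hbij := (Function.Injective.bijective_of_nat_card_le hinj (by simp [hcard]))
      obtain ⟨x, hx⟩ := hbij.2 t
      have hx0 : (x : Matrix (Fin 2) (Fin 2) (ZMod p)) ≠ 0 := by
        intro h
        simp only at hx
        rw [h, Matrix.zero_mulVec] at hx
        exact ht hx.symm
      obtain ⟨g, hg, hgx⟩ := hEC _ x.2 hx0
      exact ⟨g, hg, hgx ▸ hx⟩
    obtain ⟨g, hg⟩ := exists_prime_orderOf_dvd_card' p hp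
    set N : Matrix (Fin 2) (Fin 2) (ZMod p) := ((g : GL (Fin 2) (ZMod p)) : Matrix (Fin 2) (Fin 2) (ZMod p)) - 1
      with hN
    have hnil : IsNilpotent N := by
      refine ⟨p, ?_⟩
      haveI : CharP (Matrix (Fin 2) (Fin 2) (ZMod p)) p := Matrix.charP p
      rw [hN, sub_pow_char_of_commute _ (Commute.one_right _), one_pow, ← Units.val_pow_eq_pow_val,
        ← SubmonoidClass.coe_pow, orderOf_dvd_iff_pow_eq_one.mp (dvd_of_eq hg)]
      simp
    have hN0 : N ≠ 0 := by
      intro h
      have h1 : g = 1 := Subtype.ext (Units.ext (sub_eq_zero.mp h))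
      rw [h1, orderOf_one] at hg
      exact (Fact.out : p.Prime).one_lt.ne hg
    have hNH : InH H (1 + N) := ⟨g, g.2, by rw [hN, add_sub_cancel]⟩
    have ht := transvec_mem H N hN0 (sq_eq_zero_of_isNilpotent N hnil) hNH htr
    refine eq_top_of H ht fun u hu => ?_
    obtain ⟨x, hx, hxd⟩ := det_surj E hE hcard u hu
    exact ⟨x, hEC x hx (fun h => hu (by rw [← hxd, h, Matrix.det_zero])), hxd⟩
end Groth.Agent.S15361
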