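import Groth.Statements.S15362
import Mathlib
import Groth.Agent.SGA7.QLinear

set_option autoImplicit false
universe u v w
open CAlg

namespace Groth.Agent.S15362

/-- For an algebraically closed field L of characteristic p > 0, a commutative L-algebra R integral over
L, and a finitely presented R-module M carrying an additive endomorphism φ with φ(r·m) = r^p·φ(m)
for r ∈ R, m ∈ M, the map m ↦ φ(m) − m is onto. (R is taken of exponential characteristic p so that
its Frobenius is a ring endomorphism; for a non-zero L-algebra this is automatic.) -/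
theorem result (p : ℕ) [Fact p.Prime]
    (L : Type u) [Field L] [IsAlgClosed L] [CharP L p]
    (R : Type v) [CommRing R] [Algebra L R] [Algebra.IsIntegral L R] [ExpChar R p]
    (M : Type w) [AddCommGroup M] [Module R M] [Module.FinitePresentation R M]
    (φ : M →ₛₗ[frobenius R p] M) :
    Function.Surjective fun m : M => φ m - m := by
  classical
  obtain ⟨n, π, hπ⟩ := Module.Finite.exists_fin' R M
  intro m
  obtain ⟨v, rfl⟩ := hπ m
  have hφπ : ∀ j, ∃ a : Fin n → R, π a = φ (π (Pi.single j 1)) := fun j => hπ _
  choose a ha using hφπ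
  let S : Set R := Set.range v ∪ Set.range fun ij : Fin n × Fin n => a ij.1 ij.2
  let R₀ := Algebra.adjoin L S
  haveI : Module.Finite L R₀ := by
    have h := fg_adjoin_of_finite (R := L) (s := S) ((Set.finite_range _).union (Set.finite_range _))
      fun x _ => Algebra.IsIntegral.isIntegral x
    exact Module.Finite.iff_fg.2 h
  let a' : Fin n → Fin n → R₀ := fun j i =>
    ⟨a j i, Algebra.subset_adjoin (Or.inr ⟨(j, i), rfl⟩)⟩
  let v' : Fin n → R₀ := fun i => -⟨v i, Algebra.subset_adjoin (Or.inl ⟨i, rfl⟩)⟩
  haveI : ExpChar R₀ p := R₀.val.toRingHom.expChar Subtype.coe_injective p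
  let Ψ : (Fin n → R₀) →+ (Fin n → R₀) :=
    { toFun := fun x i => ∑ j, x j ^ p * a' j i
      map_zero' := by funext i; simp [(Fact.out : p.Prime).ne_zero]
      map_add' := fun x y => by
        funext i
        simp only [Pi.add_apply, add_pow_expChar, add_mul, Finset.sum_add_distrib] }
  have hlin : Groth.SGA7.QLin.IsQLin (k := L) p Ψ := fun c x => by
    funext i
    show ∑ j, (c • x j) ^ p * a' j i = c ^ p • ∑ j, x j ^ p * a' j i
    rw [Finset.smul_sum]
    exact Finset.sum_congr rfl fun j _ => by rw [smul_pow, smul_mul_assoc]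
  obtain ⟨x, hx⟩ := Groth.SGA7.QLin.sub_surjective (Fact.out : p.Prime).one_lt
    (CharP.cast_eq_zero L p) hlin v'
  refine ⟨π fun i => (x i : R), ?_⟩
  show φ (π fun i => (x i : R)) - π (fun i => (x i : R)) = π v
  have h1 : φ (π fun i => (x i : R)) = π fun i => ((Ψ x) i : R) := by
    conv_lhs => rw [pi_eq_sum_univ' fun i => (x i : R)]
    rw [map_sum, map_sum]
    have h2 : (fun i => ((Ψ x) i : R)) = ∑ j, ((x j : R) ^ p) • a j := by
      funext i
      rw [Finset.sum_apply]
      show ((∑ j, x j ^ p * a' j i : R₀) : R) = _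
      push_cast
      simp [a']
    rw [h2, map_sum]
    refine Finset.sum_congr rfl fun j _ => ?_
    rw [LinearMap.map_smul, LinearMap.map_smul, LinearMap.map_smulₛₗ, frobenius_def, ha]
  rw [h1, ← map_sub]
  congr 1
  funext i
  have h2 := congrArg Subtype.val (congrFun hx i)
  change (x i : R) - (Ψ x i : R) = -v i at h2
  show (Ψ x i : R) - (x i : R) = v i
  rw [← neg_sub, h2, neg_neg]

end Groth.Agent.S15362
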