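import Groth.Statements.S15363
import Groth.Prelude.Def_SekSuwa2
import Mathlib.RingTheory.Flat.TorsionFree

set_option autoImplicit false
universe u
open CategoryTheory AlgebraicGeometry
open SekSuwa

namespace Groth.Agent.S15363

/-- Let R be an integral domain, p a prime and λ ∈ R a non-zero element with λ^p dividing (1 + λX)^p −
1, so that the congruence group scheme G_λ = Spec R[T]/(P_λ(T)) of level λ and its homomorphism θ_λ
: G_λ → μ_p, X ↦ 1 + λT, are defined. For every scheme G flat over Spec R, composition with θ_λ is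
injective on R-morphisms G → G_λ; in particular θ_λ induces an injective map from the homomorphisms
G → G_λ of a flat R-group scheme G to its homomorphisms G → μ_p. (The published statement is over
the ring of integers of an algebraic closure of a complete discretely valued field of mixed
characteristic, for finite flat commutative group schemes killed by p; the published argument, that
θ_λ is an isomorphism on the generic fibre and G is flat, gives the form stated here.) -/
theorem result (R : Type u) [CommRing R] [IsDomain R]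
    (p : ℕ) [Fact p.Prime] (lam : R) (h : SekSuwa.DivCond lam p)
    (G : Over (Spec (CommRingCat.of R))) [Flat G.hom]
    (f g : G ⟶ SekSuwa.GK R lam p h)
    (hfg : f ≫ SekSuwa.alphaN R lam p h = g ≫ SekSuwa.alphaN R lam p h) : f = g := by
  apply Over.OverMorphism.ext
  refine Scheme.hom_ext_of_forall _ _ fun x => ?_
  obtain ⟨U, hU, hxU, -⟩ := exists_isAffineOpen_mem_and_subset (X := G.left) (x := x) (U := ⊤) trivial
  refine ⟨U, hxU, ?_⟩
  rw [← cancel_epi hU.isoSpec.inv]
  obtain ⟨φ, hφ⟩ := Spec.map_surjective (hU.isoSpec.inv ≫ U.ι ≫ G.hom)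
  obtain ⟨a, ha⟩ := Spec.map_surjective (hU.isoSpec.inv ≫ U.ι ≫ f.left)
  obtain ⟨b, hb⟩ := Spec.map_surjective (hU.isoSpec.inv ≫ U.ι ≫ g.left)
  have haφ : CommRingCat.ofHom (algebraMap R (SekSuwa.AK R lam p h)) ≫ a = φ := Spec.map_injective (by
    rw [Spec.map_comp, ha, hφ, ← Over.w f, Category.assoc, Category.assoc]; rfl)
  have hbφ : CommRingCat.ofHom (algebraMap R (SekSuwa.AK R lam p h)) ≫ b = φ := Spec.map_injective (by
    rw [Spec.map_comp, hb, hφ, ← Over.w g, Category.assoc, Category.assoc]; rfl)
  have hab : CommRingCat.ofHom (SekSuwa.alphaNHom R lam p h : MonoidAlgebra R (Multiplicative (ZMod p)) →+* SekSuwa.AK R lam p h) ≫ a =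
      CommRingCat.ofHom (SekSuwa.alphaNHom R lam p h : MonoidAlgebra R (Multiplicative (ZMod p)) →+* SekSuwa.AK R lam p h) ≫ b := Spec.map_injective (by
    rw [Spec.map_comp, ha, Spec.map_comp, hb]
    have e := congrArg (fun m : G ⟶ Red.diag R (ZMod p) => hU.isoSpec.inv ≫ U.ι ≫ m.left) hfg
    rw [Category.assoc, Category.assoc, Category.assoc, Category.assoc]
    exact e)
  have hflat : φ.hom.Flat := Flat.SpecMap_iff.mp (by rw [hφ]; infer_instance)
  let : Algebra R Γ(G.left, U) := φ.hom.toAlgebra
  have : Module.Flat R Γ(G.left, U) := hflat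
  let A1 : SekSuwa.AK R lam p h →ₐ[R] Γ(G.left, U) :=
    { a.hom with commutes' := fun r => DFunLike.congr_fun (congrArg CommRingCat.Hom.hom haφ) r }
  let B1 : SekSuwa.AK R lam p h →ₐ[R] Γ(G.left, U) :=
    { b.hom with commutes' := fun r => DFunLike.congr_fun (congrArg CommRingCat.Hom.hom hbφ) r }
  have hu : A1 (1 + lam • SekSuwa.AK.t) = B1 (1 + lam • SekSuwa.AK.t) := by
    have e := DFunLike.congr_fun (congrArg CommRingCat.Hom.hom hab)
      (MonoidAlgebra.single (Multiplicative.ofAdd (1 : ZMod p)) 1)
    rw [← SekSuwa.alphaNHom_single_one]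
    exact e
  have ht : A1 SekSuwa.AK.t = B1 SekSuwa.AK.t := by
    simp only [map_add, map_one, map_smul, add_right_inj] at hu
    exact Module.Flat.isSMulRegular_of_nonZeroDivisors h.nzd hu
  have hinv : A1 SekSuwa.AK.inv = B1 SekSuwa.AK.inv := by
    have e1 : ((1 + lam • SekSuwa.AK.t) * SekSuwa.AK.inv : SekSuwa.AK R lam p h) = 1 := by
      have := congrArg (SekSuwa.AK.mkHom R lam p h) (SekSuwa.A.u_mul_inv (R := R) (lam := lam))
      rw [map_mul, map_one, SekSuwa.A.u, map_add, map_one, map_smul] at this
      exact this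
    have eA := congrArg A1 e1
    have eB := congrArg B1 e1
    rw [map_mul, map_one] at eA eB
    rw [← hu] at eB
    exact left_inv_eq_right_inv (by rw [mul_comm]; exact eA) eB
  have hAB := SekSuwa.AK.algHom_ext ht hinv
  have hab' : a = b := CommRingCat.hom_ext (RingHom.ext fun z => DFunLike.congr_fun hAB z)
  exact ha.symm.trans ((congrArg Spec.map hab').trans hb)

end Groth.Agent.S15363
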