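import Groth.Statements.S15364
import Groth.Agent.GrpschAbsch.RigidityGlobal
import Mathlib.Topology.Separation.Connected
import Groth.Agent.AlgGrp1.SmoothReduced


set_option autoImplicit false
universe u
open CategoryTheory CategoryTheory.Limits MonoidalCategory CartesianMonoidalCategory AlgebraicGeometry
open AbSch

namespace Groth.Agent.S15364

/-- For an abelian scheme f : A → T (a commutative T-group scheme, proper and smooth over T with
geometrically connected fibres) and a commutative group scheme H finite and locally free over T, the
adjunction map H → f_* f^* H of fppf sheaves on T is an isomorphism, i.e. for every T-scheme U the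
map H(U) → H(A ×_T U), s ↦ s ∘ pr, is bijective. This row states the case U = T, to which the
general case reduces by base change: composition with the structure morphism A → T is a bijection
from the sections of H over T onto the T-morphisms A → H. The group structure of H plays no role and
is not assumed. (The published statement has an arbitrary base T; the published argument rests on
the rigidity lemma in its form for Noetherian schemes, so T is taken locally Noetherian here.) -/
theorem result {T : Scheme.{u}} [IsLocallyNoetherian T]
    (A : Over T) [GrpObj A] [IsCommMonObj A] [IsProper A.hom] [Smooth A.hom] [GeometricallyConnected A.hom]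
    (H : Over T) [IsFinite H.hom] [Flat H.hom] [LocallyOfFinitePresentation H.hom] :
    Function.Bijective fun s : (𝟙_ (Over T) ⟶ H) => toUnit A ≫ s := by
  have : GeometricallyReduced A.hom := ⟨fun K _ y P p q sq ↦ by
    have : Smooth q := MorphismProperty.of_isPullback (P := @Smooth) sq inferInstance
    exact Groth.AlgGrp1.isReduced_of_smooth q⟩
  have : Surjective A.hom := inferInstance
  have : LocallyOfFinitePresentation A.hom := inferInstance
  have : EffectiveEpi A.hom := inferInstance
  have hepi : ∀ {a b : 𝟙_ (Over T) ⟶ H}, toUnit A ≫ a = toUnit A ≫ b → a = b := fun {a b} h ↦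
    Over.OverMorphism.ext ((cancel_epi A.hom).mp congr(($h).left))
  refine ⟨fun a b h ↦ hepi h, fun g ↦ ?_⟩
  have hs : ∀ t, t ∈ Groth.GrpschAbsch.Rigid.collapseSet A.hom g.left := fun t ↦ by
    have h1 : _root_.IsPreconnected (A.hom ⁻¹' {t}) := (A.hom.isConnected_preimage_singleton t).isPreconnected
    refine Set.Subsingleton.anti ?_ (Set.image_mono (s := A.hom ⁻¹' {t}) subset_rfl)
    have hsub : g.left '' (A.hom ⁻¹' {t}) ⊆ H.hom ⁻¹' {t} := by
      rintro _ ⟨x, hx, rfl⟩
      show H.hom (g.left x) = t
      rw [← Scheme.Hom.comp_apply, Over.w g]
      exact hx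
    have : DiscreteTopology ↥(g.left '' (A.hom ⁻¹' {t})) :=
      ((H.hom.isDiscrete_preimage_singleton t).mono hsub).to_subtype
    have : PreconnectedSpace ↥(g.left '' (A.hom ⁻¹' {t})) :=
      Subtype.preconnectedSpace (h1.image _ g.left.continuous.continuousOn)
    have := PreconnectedSpace.trivial_of_discrete (X := ↥(g.left '' (A.hom ⁻¹' {t})))
    exact Set.subsingleton_coe _ |>.mp this
  obtain ⟨σ, hσ⟩ := Groth.GrpschAbsch.Rigid.exists_desc_of_collapse A.hom g.left hs
    fun t ↦ Groth.GrpschAbsch.Rigid.constFibre_of_geometrically A.hom t
  have hσH : σ ≫ H.hom = 𝟙 T := by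
    rw [← cancel_epi A.hom, reassoc_of% hσ, Over.w g, Category.comp_id]
  exact ⟨Over.homMk σ hσH, Over.OverMorphism.ext hσ⟩

end Groth.Agent.S15364
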