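import Groth.Statements.S15365
import Mathlib

set_option autoImplicit false
universe u
open scoped BigOperators
open CAlg

namespace Groth.Agent.S15365

/-- Let A be a commutative ring of characteristic p > 0 and (h_{ij})_{1 ≤ i,j ≤ n} a square matrix over
A, the matrix of a commutative p-Lie algebra (L, φ) with L free with basis e_1, …, e_n and φ(e_j) =
Σ_i h_{ij} e_i. The associated finite group scheme Spec A[X_1, …, X_n]/(X_j^p − Σ_i h_{ij} X_i)_{1 ≤
j ≤ n} is étale over A if and only if the matrix (h_{ij}) is invertible, i.e. its determinant is a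
unit of A. Only the algebra structure enters this assertion. -/
theorem result (p : ℕ) [Fact p.Prime]
    (A : Type u) [CommRing A] [CharP A p] (n : ℕ) (h : Matrix (Fin n) (Fin n) A) :
    Algebra.Etale A (MvPolynomial (Fin n) A ⧸ Ideal.span (Set.range fun j : Fin n =>
        (MvPolynomial.X j : MvPolynomial (Fin n) A) ^ p -
          ∑ i : Fin n, MvPolynomial.C (h i j) * MvPolynomial.X i)) ↔
      IsUnit h.det := by
  classical
  have hpd : ∀ i j : Fin n, MvPolynomial.pderiv i ((MvPolynomial.X j : MvPolynomial (Fin n) A) ^ p -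
      ∑ l : Fin n, MvPolynomial.C (h l j) * MvPolynomial.X l) = - MvPolynomial.C (h i j) := by
    intro i j
    have hp0 : (p : MvPolynomial (Fin n) A) = 0 := by
      rw [← map_natCast (MvPolynomial.C (σ := Fin n) (R := A)), CharP.cast_eq_zero, map_zero]
    rw [map_sub, MvPolynomial.pderiv_pow, hp0, zero_mul, zero_mul, zero_sub, map_sum,
      Finset.sum_eq_single i (fun l _ hl => by
        rw [MvPolynomial.pderiv_C_mul, MvPolynomial.pderiv_X_of_ne hl, mul_zero]) (by simp),
      MvPolynomial.pderiv_C_mul, MvPolynomial.pderiv_X_self, mul_one]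
  constructor
  · intro het
    by_contra hu
    obtain ⟨m, hm, hdm⟩ := exists_max_ideal_of_mem_nonunits hu
    letI := Ideal.Quotient.field m
    let K := A ⧸ m
    obtain ⟨v, hv0, hv⟩ := Matrix.exists_vecMul_eq_zero_iff.2
      (show (h.map (Ideal.Quotient.mk m)).det = 0 by
        rw [← RingHom.mapMatrix_apply, ← RingHom.map_det]
        exact Ideal.Quotient.eq_zero_iff_mem.2 hdm)
    have hmk : ∀ (v : Fin n → K) (_ : Matrix.vecMul v (h.map (Ideal.Quotient.mk m)) = 0),
        ∀ x ∈ Ideal.span (Set.range fun j : Fin n => (MvPolynomial.X j : MvPolynomial (Fin n) A) ^ p -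
          ∑ i : Fin n, MvPolynomial.C (h i j) * MvPolynomial.X i),
        MvPolynomial.aeval (fun i => (TrivSqZeroExt.inr (v i) : TrivSqZeroExt K K)) x = 0 := by
      intro v hv x hx
      refine Submodule.span_induction ?_ (map_zero _) (fun a b _ _ ha hb => by rw [map_add, ha, hb, add_zero])
        (fun a b _ hb => by rw [smul_eq_mul, map_mul, hb, mul_zero]) hx
      rintro _ ⟨j, rfl⟩
      rw [map_sub, map_pow, MvPolynomial.aeval_X, map_sum]
      have h2 : (TrivSqZeroExt.inr (v j) : TrivSqZeroExt K K) ^ p = 0 :=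
        pow_eq_zero_of_le (Fact.out : p.Prime).two_le (by rw [sq, TrivSqZeroExt.inr_mul_inr])
      rw [h2, zero_sub, neg_eq_zero]
      simp only [map_mul, MvPolynomial.aeval_C, MvPolynomial.aeval_X,
        IsScalarTower.algebraMap_apply A K (TrivSqZeroExt K K), TrivSqZeroExt.algebraMap_eq_inl',
        TrivSqZeroExt.inl_mul_inr]
      rw [← TrivSqZeroExt.inr_sum]
      have := congrFun hv j
      simp only [Matrix.vecMul, dotProduct, Pi.zero_apply] at this
      simp only [smul_eq_mul]
      exact (congrArg TrivSqZeroExt.inr ((Finset.sum_congr rfl fun x _ => by rw [mul_comm]; rfl).trans this)).trans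
        (TrivSqZeroExt.inr_zero K)
    let f₁ := Ideal.Quotient.liftₐ (Ideal.span (Set.range fun j : Fin n => (MvPolynomial.X j : MvPolynomial (Fin n) A) ^ p -
          ∑ i : Fin n, MvPolynomial.C (h i j) * MvPolynomial.X i)) (MvPolynomial.aeval fun i => (TrivSqZeroExt.inr (v i) : TrivSqZeroExt K K)) (hmk v hv)
    let f₂ := Ideal.Quotient.liftₐ (Ideal.span (Set.range fun j : Fin n => (MvPolynomial.X j : MvPolynomial (Fin n) A) ^ p -
          ∑ i : Fin n, MvPolynomial.C (h i j) * MvPolynomial.X i)) (MvPolynomial.aeval fun i => (TrivSqZeroExt.inr ((0 : Fin n → K) i) : TrivSqZeroExt K K)) (hmk 0 (Matrix.zero_vecMul _))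
    let I : Ideal (TrivSqZeroExt K K) := RingHom.ker (TrivSqZeroExt.fstHom K K K).toRingHom
    have hI : I ^ 2 = ⊥ := by
      rw [pow_two, eq_bot_iff, Ideal.mul_le]
      intro a ha b hb
      have ha' : a.fst = 0 := ha
      have hb' : b.fst = 0 := hb
      rw [Ideal.mem_bot]
      ext <;> simp [ha', hb']
    have he : f₁ = f₂ := by
      refine Algebra.FormallyUnramified.comp_injective I hI (Ideal.Quotient.algHom_ext _ ?_)
      refine MvPolynomial.algHom_ext fun i => ?_
      refine Ideal.Quotient.eq.2 ?_
      show (f₁ (Ideal.Quotient.mk _ (MvPolynomial.X i)) - f₂ (Ideal.Quotient.mk _ (MvPolynomial.X i))).fst = 0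
      simp [f₁, f₂]
    apply hv0
    funext i
    have := congrArg TrivSqZeroExt.snd (DFunLike.congr_fun he (Ideal.Quotient.mk _ (MvPolynomial.X i)))
    simpa [f₁, f₂] using this
  · intro hu
    let P : Algebra.PreSubmersivePresentation A (MvPolynomial (Fin n) A ⧸ Ideal.span (Set.range fun j : Fin n =>
        (MvPolynomial.X j : MvPolynomial (Fin n) A) ^ p -
          ∑ i : Fin n, MvPolynomial.C (h i j) * MvPolynomial.X i)) (Fin n) (Fin n) :=
      Algebra.PreSubmersivePresentation.naive id Function.injective_id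
    have hJ : P.jacobiMatrix = (-h).map MvPolynomial.C := by
      ext1 i j
      rw [Algebra.PreSubmersivePresentation.jacobiMatrix_naive]
      exact (hpd i j).trans (by simp)
    let Q : Algebra.SubmersivePresentation A _ (Fin n) (Fin n) := ⟨P, by
      rw [Algebra.PreSubmersivePresentation.jacobian_eq_jacobiMatrix_det, hJ,
        ← RingHom.mapMatrix_apply, ← RingHom.map_det, Matrix.det_neg]
      exact (((isUnit_one.neg.pow _).mul hu).map MvPolynomial.C).map _⟩
    have := Q.isStandardSmoothOfRelativeDimension (n := 0) (by simp [Algebra.Presentation.dimension])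
    infer_instance

end Groth.Agent.S15365
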