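import Groth.Statements.S15366
import Groth.Agent.EGA43Topo.DVRInflate
import Mathlib.RingTheory.MvPowerSeries.NoZeroDivisors
import Mathlib.RingTheory.MvPowerSeries.Equiv
import Mathlib.RingTheory.DiscreteValuationRing.TFAE
import Mathlib.FieldTheory.IsAlgClosed.AlgebraicClosure
open IsLocalRing

set_option autoImplicit false
universe u
open CAlg

namespace Groth.Agent.S15366

/-- Let k be an algebraically closed field of characteristic p > 0, R = k[[t₁, t₂]], and O = R_{(t₁)}
the local ring of Spec R at the generic point x of the divisor t₁ = 0 (a discrete valuation ring,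
with uniformizer t₁ and residue field k((t₂))). Then O embeds, by an injective local k-algebra map
φ, into some complete discrete valuation ring A containing k whose residue field is algebraically
closed and in which φ(t₁) is still a uniformizer. The prime ideal (t₁) is passed as an ideal P equal
to it together with its primality. -/
theorem result
    (p : ℕ) [Fact p.Prime] (k : Type u) [Field k] [IsAlgClosed k] [CharP k p]
    (P : Ideal (MvPowerSeries (Fin 2) k))
    (hP : P = Ideal.span {(MvPowerSeries.X 0 : MvPowerSeries (Fin 2) k)}) [P.IsPrime] :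
    ∃ (A : Type u) (_ : CommRing A) (_ : IsDomain A) (_ : IsDiscreteValuationRing A) (_ : Algebra k A)
      (φ : Localization.AtPrime P →ₐ[k] A),
      IsAdicComplete (IsLocalRing.maximalIdeal A) A ∧ IsAlgClosed (IsLocalRing.ResidueField A) ∧
        Function.Injective φ ∧ IsLocalHom φ.toRingHom ∧
          Irreducible (φ (algebraMap (MvPowerSeries (Fin 2) k) (Localization.AtPrime P)
            (MvPowerSeries.X 0))) := by
  haveI : IsDomain (MvPowerSeries (Fin 2) k) := NoZeroDivisors.to_isDomain _
  let x : MvPowerSeries (Fin 2) k := MvPowerSeries.X 0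
  let O := Localization.AtPrime P
  let π : O := algebraMap _ O x
  have hx : x ≠ 0 := fun h => by
    have h1 := congrArg (MvPowerSeries.coeff (Finsupp.single (0 : Fin 2) 1)) h
    simp [x] at h1
  have hinj := IsLocalization.injective O P.primeCompl_le_nonZeroDivisors
  have hπ : π ≠ 0 := fun h => hx (hinj (h.trans (map_zero _).symm))
  have hm : maximalIdeal O = Ideal.span {π} := by
    refine Localization.AtPrime.map_eq_maximalIdeal.symm.trans ((congrArg (Ideal.map _) hP).trans ?_)
    rw [Ideal.map_span, Set.image_singleton]
  haveI : IsNoetherianRing O := IsLocalization.isNoetherianRing P.primeCompl O inferInstance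
  have hnf : ¬ IsField O := fun hf => by
    rw [IsLocalRing.isField_iff_maximalIdeal_eq, hm, Ideal.span_singleton_eq_bot] at hf
    exact hπ hf
  haveI : IsDiscreteValuationRing O := by
    rw [(IsDiscreteValuationRing.TFAE O hnf).out 0 4 rfl rfl]
    exact ⟨⟨π, hm⟩⟩
  have hirr : Irreducible π := (IsDiscreteValuationRing.irreducible_iff_uniformizer π).2 hm
  let K := AlgebraicClosure (ResidueField O)
  obtain ⟨E, _, _, _, ψ, hloc, hc, hinjψ, hmap, θ, -⟩ :=
    Groth.EGA43Topo.exists_complete_dvr O K (algebraMap (ResidueField O) K)
  letI : Algebra k E := (ψ.comp (algebraMap k O)).toAlgebra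
  haveI : IsAlgClosed (ResidueField E) := IsAlgClosed.of_ringEquiv K _ θ.symm
  refine ⟨E, inferInstance, inferInstance, inferInstance, inferInstance,
    { ψ with commutes' := fun _ => rfl }, hc, inferInstance, hinjψ, hloc, ?_⟩
  show Irreducible (ψ π)
  rw [IsDiscreteValuationRing.irreducible_iff_uniformizer, ← hmap, hm, Ideal.map_span, Set.image_singleton]

end Groth.Agent.S15366
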