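import Groth.Statements.S15367
import Mathlib.Algebra.Module.PID
import Mathlib.LinearAlgebra.Pi
-- import your own Groth.Agent.* helpers here

set_option autoImplicit false
universe u v
open TensorProduct
open CAlg

namespace Groth.Agent.S15367

lemma hom_quot {R : Type u} [CommRing R] [IsDomain R] (x : R) (hx : x ≠ 0) {e n : ℕ} (he : e ≤ n) :
    Nonempty (((R ⧸ Ideal.span {x ^ e}) →ₗ[R] (R ⧸ Ideal.span {x ^ n})) ≃ₗ[R] (R ⧸ Ideal.span {x ^ e})) := by
  obtain ⟨d, rfl⟩ := Nat.exists_eq_add_of_le he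
  let N := R ⧸ Ideal.span {x ^ (e + d)}
  have hkill : Ideal.span {x ^ e} ≤ LinearMap.ker (LinearMap.toSpanSingleton R N (Ideal.Quotient.mk _ (x ^ d))) := by
    rw [Ideal.span_le]
    simp only [Set.singleton_subset_iff, SetLike.mem_coe, LinearMap.mem_ker,
      LinearMap.toSpanSingleton_apply]
    exact Ideal.Quotient.eq_zero_iff_mem.mpr (Ideal.mem_span_singleton.mpr ⟨1, by simp only [smul_eq_mul]; ring⟩)
  let g : (R ⧸ Ideal.span {x ^ e}) →ₗ[R] N := Submodule.liftQ _ _ hkill
  let Φ : R →ₗ[R] ((R ⧸ Ideal.span {x ^ e}) →ₗ[R] N) := LinearMap.toSpanSingleton R _ g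
  have hg : ∀ r c : R, Φ r (Ideal.Quotient.mk _ c) = Ideal.Quotient.mk _ (r * (c * x ^ d)) := fun r c => rfl
  have hker : LinearMap.ker Φ = Ideal.span {x ^ e} := by
    ext r
    rw [LinearMap.mem_ker]
    constructor
    · intro h
      have h1 : Φ r (Ideal.Quotient.mk _ 1) = 0 := by rw [h]; rfl
      rw [hg, one_mul, Ideal.Quotient.eq_zero_iff_mem, Ideal.mem_span_singleton, pow_add,
        mul_dvd_mul_iff_right (pow_ne_zero d hx)] at h1
      exact Ideal.mem_span_singleton.mpr h1
    · intro h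
      obtain ⟨c, rfl⟩ := Ideal.mem_span_singleton.mp h
      refine LinearMap.ext fun y => ?_
      obtain ⟨y, rfl⟩ := Ideal.Quotient.mk_surjective y
      rw [hg]
      exact Ideal.Quotient.eq_zero_iff_mem.mpr (Ideal.mem_span_singleton.mpr ⟨c * y, by ring⟩)
  have hsurj : Function.Surjective Φ := by
    intro f
    obtain ⟨c, hc⟩ := Ideal.Quotient.mk_surjective (f (Ideal.Quotient.mk _ 1))
    have h0 : (x ^ e) • f (Ideal.Quotient.mk _ 1) = 0 := by
      rw [← map_smul]
      have : x ^ e • (Ideal.Quotient.mk (Ideal.span {x ^ e}) 1) = 0 :=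
        Ideal.Quotient.eq_zero_iff_mem.mpr (Ideal.mem_span_singleton.mpr ⟨1, by simp only [smul_eq_mul]⟩)
      rw [this, map_zero]
    rw [← hc] at h0
    have h1 : x ^ (e + d) ∣ x ^ e * c := Ideal.mem_span_singleton.mp (Ideal.Quotient.eq_zero_iff_mem.mp h0)
    rw [pow_add, mul_dvd_mul_iff_left (pow_ne_zero e hx)] at h1
    obtain ⟨r, rfl⟩ := h1
    refine ⟨r, LinearMap.ext fun y => ?_⟩
    obtain ⟨y, rfl⟩ := Ideal.Quotient.mk_surjective y
    have hy : f (Ideal.Quotient.mk _ y) = y • f (Ideal.Quotient.mk _ 1) := by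
      rw [← map_smul]
      exact congrArg f (by rw [← Ideal.Quotient.mk_eq_mk, ← Ideal.Quotient.mk_eq_mk, ← Submodule.Quotient.mk_smul, smul_eq_mul, mul_one])
    rw [hg, hy, ← hc]
    exact congrArg (Ideal.Quotient.mk _) (by simp only [smul_eq_mul]; ring)
  exact ⟨((Submodule.quotEquivOfEq _ _ hker.symm).trans (Φ.quotKerEquivOfSurjective hsurj)).symm⟩

/-- Let R be a discrete valuation ring with uniformizer π and residue field k, n ≥ 0, and M₀ a finitely
generated module over R/πⁿR, viewed as an R-module killed by πⁿ; put M₀* = Hom_R(M₀, R/πⁿR). Then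
dim_k(M₀*/πM₀*) = dim_k(M₀/πM₀). The published lemma is stated for a finitely presented module over
the quotient of the ring of integers of an algebraic closure of K by the elements of valuation ≥ t,
with its dual into that quotient ring, and the published proof reduces it by descent to exactly this
statement over the valuation ring of a finite extension of K; the row states that step. -/
theorem result
    (R : Type u) [CommRing R] [IsDomain R] [IsDiscreteValuationRing R] (ϖ : R) (hϖ : Irreducible ϖ) (n : ℕ)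
    (M : Type v) [AddCommGroup M] [Module R M] [Module.Finite R M] (hM : ∀ m : M, ϖ ^ n • m = 0) :
    Module.finrank (IsLocalRing.ResidueField R)
        (IsLocalRing.ResidueField R ⊗[R] (M →ₗ[R] (R ⧸ Ideal.span {ϖ ^ n}))) =
      Module.finrank (IsLocalRing.ResidueField R) (IsLocalRing.ResidueField R ⊗[R] M) := by
  have htor : Module.IsTorsion R M := fun m =>
    ⟨⟨ϖ ^ n, mem_nonZeroDivisors_of_ne_zero (pow_ne_zero n hϖ.ne_zero)⟩, hM m⟩
  obtain ⟨ι, _, q, hq, e, ⟨f⟩⟩ := Module.equiv_directSum_of_isTorsion htor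
  classical
  have hspan : ∀ i, Ideal.span {q i ^ e i} = Ideal.span {ϖ ^ e i} := fun i =>
    Ideal.span_singleton_eq_span_singleton.mpr
      ((IsDiscreteValuationRing.associated_of_irreducible _ (hq i) hϖ).pow_pow)
  let f' : M ≃ₗ[R] (∀ i, R ⧸ Ideal.span {ϖ ^ e i}) :=
    f.trans ((DirectSum.linearEquivFunOnFintype R ι _).trans
      (LinearEquiv.piCongrRight fun i => Submodule.quotEquivOfEq _ _ (hspan i)))
  have hle : ∀ i, e i ≤ n := by
    intro i
    have h1 := hM (f'.symm (Pi.single i (Ideal.Quotient.mk _ 1)))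
    rw [← map_smul, LinearEquiv.map_eq_zero_iff] at h1
    have h2 := congrFun h1 i
    rw [Pi.smul_apply, Pi.single_eq_same, Pi.zero_apply] at h2
    have h3 : ϖ ^ e i ∣ ϖ ^ n := by
      have := Ideal.mem_span_singleton.mp (Ideal.Quotient.eq_zero_iff_mem.mp
        (show Ideal.Quotient.mk (Ideal.span {ϖ ^ e i}) (ϖ ^ n * 1) = 0 from h2))
      rwa [mul_one] at this
    exact (pow_dvd_pow_iff hϖ.ne_zero hϖ.not_isUnit).mp h3
  let D : (M →ₗ[R] (R ⧸ Ideal.span {ϖ ^ n})) ≃ₗ[R] M :=
    (LinearEquiv.congrLeft _ R f').trans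
      ((LinearMap.lsum R (fun i => R ⧸ Ideal.span {ϖ ^ e i}) R).symm.trans
        ((LinearEquiv.piCongrRight fun i => (hom_quot ϖ hϖ.ne_zero (hle i)).some).trans f'.symm))
  exact (TensorProduct.AlgebraTensorModule.congr (LinearEquiv.refl (IsLocalRing.ResidueField R)
    (IsLocalRing.ResidueField R)) D).finrank_eq

end Groth.Agent.S15367
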