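import Groth.Statements.S15368
import Mathlib
-- import your own Groth.Agent.* helpers here

set_option autoImplicit false
universe u v
open TensorProduct
open CAlg

namespace Groth.Agent.S15368

/-- Let R be a discrete valuation ring with uniformizer π and residue field k, n ≥ 0, M₀ a finitely
generated R-module killed by πⁿ and N₀ a submodule of M₀. Then dim_k(N₀/πN₀) ≤ dim_k(M₀/πM₀). The
published lemma is stated for a finitely presented submodule N of a finitely presented module M over
the quotient of the ring of integers of an algebraic closure of K by the elements of valuation ≥ t,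
and the published proof reduces it by descent to exactly this statement over the valuation ring of a
finite extension of K (comparing π-torsion with π-cotorsion by additivity of length); the row states
that step. -/
theorem result
    (R : Type u) [CommRing R] [IsDomain R] [IsDiscreteValuationRing R] (ϖ : R) (hϖ : Irreducible ϖ) (n : ℕ)
    (M : Type v) [AddCommGroup M] [Module R M] [Module.Finite R M] (hM : ∀ m : M, ϖ ^ n • m = 0)
    (N : Submodule R M) :
    Module.finrank (IsLocalRing.ResidueField R) (IsLocalRing.ResidueField R ⊗[R] N) ≤
      Module.finrank (IsLocalRing.ResidueField R) (IsLocalRing.ResidueField R ⊗[R] M) := by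
  classical
  set κ := IsLocalRing.ResidueField R
  haveI : Module.Finite κ (κ ⊗[R] M) := Module.Finite.base_change R κ M
  set d := Module.finrank κ (κ ⊗[R] M)
  have b := Module.finBasis κ (κ ⊗[R] M)
  have hsur : Function.Surjective (TensorProduct.mk R κ M 1) :=
    TensorProduct.mk_surjective R M κ IsLocalRing.residue_surjective
  choose f hf using fun i => hsur (b i)
  have hspan := IsLocalRing.span_eq_top_of_tmul_eq_basis f b hf
  let π : (Fin d → R) →ₗ[R] M := Fintype.linearCombination R f
  have hπ : Function.Surjective π := by
    rw [← LinearMap.range_eq_top, ← hspan]; exact Fintype.range_linearCombination R f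
  obtain ⟨r, ⟨bN⟩⟩ := Submodule.nonempty_basis_of_pid (Pi.basisFun R (Fin d)) (N.comap π)
  let ρ : (N.comap π) →ₗ[R] N := π.restrict (fun x hx => hx)
  have hρ : Function.Surjective ρ := fun ⟨y, hy⟩ => by
    obtain ⟨x, rfl⟩ := hπ y; exact ⟨⟨x, hy⟩, rfl⟩
  have hr : r ≤ d := by
    have h2 := Module.finrank_eq_card_basis bN
    have h3 := Submodule.finrank_le (N.comap π)
    simp at h2 h3
    omega
  haveI : Module.Free R (N.comap π) := Module.Free.of_basis bN
  haveI : Module.Finite R (N.comap π) := Module.Finite.of_basis bN
  have hsurj : Function.Surjective (ρ.baseChange κ) := by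
    show Function.Surjective (ρ.lTensor κ)
    exact LinearMap.lTensor_surjective κ hρ
  calc Module.finrank κ (κ ⊗[R] N) ≤ Module.finrank κ (κ ⊗[R] (N.comap π)) :=
        LinearMap.finrank_le_finrank_of_surjective hsurj
    _ = r := by rw [Module.finrank_baseChange, Module.finrank_eq_card_basis bN, Fintype.card_fin]
    _ ≤ d := hr

end Groth.Agent.S15368
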