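import Groth.Statements.S1537
import Groth.Agent.VarietyBC.Galois

set_option autoImplicit false
universe u
open CategoryTheory CategoryTheory.Limits AlgebraicGeometry
open Variety

namespace Groth.Agent.S1537

/-- A connected k-scheme is geometrically connected as soon as it has a point whose residue field
contains no element integral over k other than the elements of k. -/
theorem result (k : Type u) [Field k] (X : Scheme.{u}) [X.Over (Spec (CommRingCat.of k))] [ConnectedSpace X]
    (x : X) (hx : ∀ a : X.residueField x, (Curv2.resMap k X x).IsIntegralElem a → a ∈ (Curv2.resMap k X x).range) :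
    GeometricallyConnected (X ↘ (Spec (CommRingCat.of k))) := by
  have hsc : Groth.VarietyBC.SepClosedAt k X x := fun a ha =>
    letI := Curv2.resAlgebra k X x; hx a ha.isIntegral
  have : ConnectedSpace (Curv2.bc k X (SeparableClosure k)) :=
    Groth.VarietyBC.connectedSpace_of_open_closed_fibre
      (Groth.VarietyBC.isOpenMap_bcFst _) Groth.VarietyBC.isClosedMap_bcFst
      (Groth.VarietyBC.surjective_bcFst _) x
      (Groth.VarietyBC.isIrreducible_preimage_of_sepClosedAt _ hsc).2.isPreconnected
  exact Groth.VarietyBC.geometricallyConnected_of_connectedSpace_bc (SeparableClosure k)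

end Groth.Agent.S1537
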