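import Groth.Statements.S15376
import Groth.Agent.SurfRR.Numerics
import Groth.Agent.Misc13.NumPairing
import Groth.Agent.Duality.SmoothDual
-- import your own Groth.Agent.* helpers here

set_option autoImplicit false
universe u
open CategoryTheory CategoryTheory.Limits AlgebraicGeometry
open Biell

namespace Groth.Agent.S15376

/-- Let k be an algebraically closed field and X a (quasi-)bielliptic surface over k, meaning here: X is
an integral k-scheme, proper and smooth of relative dimension 2 over k and carrying an ample
invertible sheaf, whose canonical sheaf ω (a second exterior power of Ω_{X/k}) is numerically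
trivial (degree 0 on every integral closed curve in X) and whose second ℓ-adic Betti number (the
rank of lim_ν H²(X_et, Z/ℓ^ν)) equals 2 for every prime ℓ invertible in k. Then the geometric genus
p_g(X) = dim_k H²(X, O_X) equals 1 if and only if ω ≅ O_X, i.e. ω has order 1 in Pic(X). (The
published statement is for bielliptic surfaces and has a third equivalent condition, non-reducedness
of the identity component of the Picard scheme, which is not stated here; the equivalence of the two
conditions stated rests only on the numerical triviality of ω on an integral smooth projective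
surface, so this row states it for quasi-bielliptic surfaces as well.) -/
theorem result (k : Type u) [Field k] [IsAlgClosed k] (X : Scheme.{u}) [X.Over (Spec (CommRingCat.of k))]
    [IsIntegral X] [IsProper (X ↘ Spec (CommRingCat.of k))] [SmoothOfRelativeDimension 2 (X ↘ Spec (CommRingCat.of k))]
    (hproj : ∃ H : X.Modules, CohB1.IsAmple H)
    (ω : X.Modules) (hω : Canon.IsTopDiff (X ↘ Spec (CommRingCat.of k)) 2 ω) (hnum : Pic13.IsNumEquivZero k X ω)
    (hb2 : ∀ ℓ : ℕ, ℓ.Prime → (ℓ : k) ≠ 0 → EtAdic.betti X ℓ 2 = 2) :
    Module.finrank k (Coh.HH X (Coh.structureModule X) 2) = 1 ↔ Nonempty (ω ≅ Coh.structureModule X) := by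
  obtain ⟨H, hH⟩ := hproj
  haveI : Smooth (X ↘ Spec (CommRingCat.of k)) := SmoothOfRelativeDimension.smooth 2 _
  have hdim : topologicalKrullDim X = 2 := by
    have h := Groth.Duality.SmoothDual.height_eq (X ↘ Spec (CommRingCat.of k)) 2 (genericPoint X)
      (fun y _ => Scheme.le_iff_specializes.2 (genericPoint_specializes y))
    have e := Groth.Variety2.Dim.dim_closure_singleton (genericPoint X)
    rw [genericPoint_closure, h, (Homeomorph.Set.univ X).isHomeomorph.topologicalKrullDim_eq] at e
    exact e
  haveI : IsNoetherian X := Groth.Inter.isNoetherian k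
  obtain ⟨hωi, hDD⟩ := Groth.SurfRR.dualDim_topForms' k hdim hω
  have hωH : Groth.Inter.pair k ω H = 0 :=
    Groth.Misc13.NumPairing.delta_cons_of_numEquivZero k hωi hnum (l := [H]) (by simp [hH.1])
      Groth.QCohMod.isCoh_unit (Groth.Inter.dim_support_le hdim.le _)
  have h := hDD _ _ (Groth.EulerDeg.isInvertible_structureModule X) (Groth.Inter.tensor_one _) 0 (by omega)
  rw [Groth.EulerDeg.finrank_congr (k := k) ((Groth.Inter.tensor_comm ω _).some ≪≫ (Groth.Inter.tensor_one ω).some) 0,
    Nat.sub_zero] at h
  rw [← h]
  refine ⟨fun h1 => ?_, fun ⟨e⟩ => ?_⟩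
  · haveI : Nontrivial (Coh.HH X ω 0) := Module.nontrivial_of_finrank_pos (R := k) (by omega)
    exact Groth.SurfRR.iso_structure_of_pair_eq_zero k hdim hωi inferInstance hH hωH
  · rw [Groth.EulerDeg.finrank_congr (k := k) e 0]
    refine le_antisymm (Groth.Inter.finrank_h0_structure_le k) ?_
    haveI := Groth.EulerDeg.finite_HH k X (Groth.QCohMod.isCoh_unit (X := X)) 0
    haveI : Nontrivial (Coh.HH X (Coh.structureModule X) 0) := Groth.SurfRR.nontrivial_h0_structure k
    exact Module.finrank_pos

end Groth.Agent.S15376
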