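import Groth.Statements.S15383
import Mathlib
import Groth.Agent.Reductive.Points

set_option autoImplicit false
universe u
open GmDual

namespace Groth.Agent.S15383

open CategoryTheory CategoryTheory.Limits AlgebraicGeometry Opposite TensorProduct

theorem free_of_unit {A B : Type u} [CommRing A] [CommRing B] [Algebra A B] (g : A) (hg : IsUnit (algebraMap A B g))
    (M : Type u) [AddCommGroup M] [Module A M]
    [Module.Free (Localization.Away g) (LocalizedModule.Away g M)] : Module.Free B (B ⊗[A] M) := by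
  let : Algebra (Localization.Away g) B := (IsLocalization.Away.lift (S := Localization.Away g) g hg).toAlgebra
  have : IsScalarTower A (Localization.Away g) B :=
    IsScalarTower.of_algebraMap_eq fun a => (IsLocalization.Away.lift_eq g hg a).symm
  let eL : Localization.Away g ⊗[A] M ≃ₗ[Localization.Away g] LocalizedModule.Away g M :=
    (IsLocalizedModule.isBaseChange (Submonoid.powers g) (Localization.Away g)
      (LocalizedModule.mkLinearMap (Submonoid.powers g) M)).equiv
  have : Module.Free (Localization.Away g) (Localization.Away g ⊗[A] M) := Module.Free.of_equiv eL.symm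
  exact Module.Free.of_equiv (AlgebraTensorModule.cancelBaseChange A (Localization.Away g) B B M)

theorem exists_away_free {A M : Type u} [CommRing A] [IsNoetherianRing A] [AddCommGroup M] [Module A M]
    [Module.Finite A M] [Module.Flat A M] (p : PrimeSpectrum A) :
    ∃ g, g ∉ p.asIdeal ∧ Module.Free (Localization.Away g) (LocalizedModule.Away g M) := by
  let Ap := Localization.AtPrime p.asIdeal
  let M' := LocalizedModule p.asIdeal.primeCompl M
  have : Module.Finite Ap M' := Module.Finite.of_isLocalizedModule p.asIdeal.primeCompl (LocalizedModule.mkLinearMap p.asIdeal.primeCompl M)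
  have : Module.Flat Ap M' := by
    have := IsLocalizedModule.isBaseChange p.asIdeal.primeCompl Ap (LocalizedModule.mkLinearMap p.asIdeal.primeCompl M)
    exact Module.Flat.isBaseChange A Ap M _ this
  have : Module.Free Ap M' := Module.free_of_flat_of_isLocalRing
  have : Module.FinitePresentation A M := Module.finitePresentation_of_finite A M
  obtain ⟨g, hg, hfree, -⟩ := Module.FinitePresentation.exists_free_localizedModule_powers p.asIdeal.primeCompl
    (LocalizedModule.mkLinearMap p.asIdeal.primeCompl M) Ap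
  exact ⟨g, hg, hfree⟩

/-- every point of `T` has an affine neighbourhood over which functions of the base change are finite free -/
theorem exists_test {X X' : Scheme.{u}} (f : X' ⟶ X) [IsFinite f] [Flat f] [IsLocallyNoetherian X] (T : Over X) (x : T.left) :
    ∃ W : T.left.Opens, x ∈ W ∧ IsAffine W.toScheme ∧
      (letI := (pullback.fst (W.ι ≫ T.hom) f).appTop.hom.toAlgebra
       Module.Finite Γ(W.toScheme, ⊤) Γ(pullback (W.ι ≫ T.hom) f, ⊤) ∧
        Module.Free Γ(W.toScheme, ⊤) Γ(pullback (W.ι ≫ T.hom) f, ⊤)) := by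
  obtain ⟨_, ⟨(U : X.Opens), hU, rfl⟩, hxU, -⟩ := X.isBasis_affineOpens.exists_subset_of_mem_open (Set.mem_univ (T.hom x)) isOpen_univ
  haveI : IsAffine U.toScheme := hU
  haveI : IsAffine (f ⁻¹ᵁ U).toScheme := hU.preimage f
  haveI : IsLocallyNoetherian U.toScheme := isLocallyNoetherian_of_isOpenImmersion U.ι
  haveI : IsNoetherianRing Γ(U.toScheme, ⊤) := IsLocallyNoetherian.component_noetherian ⟨⊤, isAffineOpen_top U.toScheme⟩
  let φ := f ∣_ U
  haveI : IsFinite φ := IsZariskiLocalAtTarget.restrict ‹_› U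
  haveI : Flat φ := IsZariskiLocalAtTarget.restrict ‹_› U
  letI : Algebra Γ(U.toScheme, ⊤) Γ((f ⁻¹ᵁ U).toScheme, ⊤) := φ.appTop.hom.toAlgebra
  haveI : Module.Finite Γ(U.toScheme, ⊤) Γ((f ⁻¹ᵁ U).toScheme, ⊤) := φ.finite_appTop
  haveI : Module.Flat Γ(U.toScheme, ⊤) Γ((f ⁻¹ᵁ U).toScheme, ⊤) := φ.flat_appTop
  let y : U.toScheme := ⟨T.hom x, hxU⟩
  obtain ⟨g, hg, hfree⟩ := exists_away_free (M := Γ((f ⁻¹ᵁ U).toScheme, ⊤)) (U.toScheme.toSpecΓ y)
  have hyg : y ∈ U.toScheme.basicOpen g := by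
    rw [← Scheme.toSpecΓ_preimage_basicOpen]
    exact hg
  obtain ⟨_, ⟨(W : T.left.Opens), hW, rfl⟩, hxW, hWU⟩ := T.left.isBasis_affineOpens.exists_subset_of_mem_open
    (show x ∈ T.hom ⁻¹ᵁ (U.ι ''ᵁ U.toScheme.basicOpen g) from ⟨y, hyg, rfl⟩)
    (T.hom ⁻¹ᵁ (U.ι ''ᵁ U.toScheme.basicOpen g)).isOpen
  haveI : IsAffine W.toScheme := hW
  have hr : Set.range (W.ι ≫ T.hom) ⊆ Set.range U.ι := by
    rintro _ ⟨w, rfl⟩
    obtain ⟨z, -, hz⟩ := hWU w.2
    exact ⟨z, hz⟩
  let b := IsOpenImmersion.lift U.ι (W.ι ≫ T.hom) hr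
  have hb : b ≫ U.ι = W.ι ≫ T.hom := IsOpenImmersion.lift_fac _ _ _
  have hbg : IsUnit (b.appTop g) := by
    have htop : b ⁻¹ᵁ U.toScheme.basicOpen g = ⊤ := by
      refine top_le_iff.1 fun w _ => ?_
      obtain ⟨z, hz, hzw⟩ := hWU w.2
      have : b w = z := U.ι.isOpenEmbedding.injective (by
        rw [← Scheme.Hom.comp_apply, hb]
        exact hzw.symm)
      show b w ∈ U.toScheme.basicOpen g
      rw [this]
      exact hz
    rw [Scheme.preimage_basicOpen] at htop
    refine W.toScheme.toRingedSpace.isUnit_of_isUnit_germ ⊤ _ fun w hw => ?_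
    exact (W.toScheme.mem_basicOpen _ w hw).1 (htop.ge hw)
  refine ⟨W, hxW, hW, ?_⟩
  have hsq0 := isPullback_morphismRestrict f U
  have hout : IsPullback (pullback.snd (W.ι ≫ T.hom) f) (pullback.fst (W.ι ≫ T.hom) f) f (b ≫ U.ι) := by
    rw [hb]
    exact (IsPullback.of_hasPullback (W.ι ≫ T.hom) f).flip
  let c := hsq0.flip.lift (pullback.snd (W.ι ≫ T.hom) f) (pullback.fst (W.ι ≫ T.hom) f ≫ b) (by rw [Category.assoc]; exact hout.w)
  have hleft : IsPullback (pullback.fst (W.ι ≫ T.hom) f) c b φ := by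
    refine IsPullback.flip ?_
    refine IsPullback.of_right (t := hsq0.flip) ?_ ?_
    · rw [show c ≫ (f ⁻¹ᵁ U).ι = pullback.snd (W.ι ≫ T.hom) f from hsq0.flip.lift_fst _ _ _]
      exact hout
    · exact hsq0.flip.lift_snd _ _ _
  have hpush := isPushout_appTop_of_isPullback hleft
  letI := (pullback.fst (W.ι ≫ T.hom) f).appTop.hom.toAlgebra
  letI : Algebra Γ(U.toScheme, ⊤) Γ(W.toScheme, ⊤) := b.appTop.hom.toAlgebra
  letI : Algebra Γ((f ⁻¹ᵁ U).toScheme, ⊤) Γ(pullback (W.ι ≫ T.hom) f, ⊤) := c.appTop.hom.toAlgebra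
  letI : Algebra Γ(U.toScheme, ⊤) Γ(pullback (W.ι ≫ T.hom) f, ⊤) := (b.appTop ≫ (pullback.fst (W.ι ≫ T.hom) f).appTop).hom.toAlgebra
  haveI : IsScalarTower Γ(U.toScheme, ⊤) Γ(W.toScheme, ⊤) Γ(pullback (W.ι ≫ T.hom) f, ⊤) := IsScalarTower.of_algebraMap_eq fun _ => rfl
  haveI : IsScalarTower Γ(U.toScheme, ⊤) Γ((f ⁻¹ᵁ U).toScheme, ⊤) Γ(pullback (W.ι ≫ T.hom) f, ⊤) :=
    IsScalarTower.of_algebraMap_eq' (congrArg CommRingCat.Hom.hom hpush.w)
  have hP : Algebra.IsPushout Γ(U.toScheme, ⊤) Γ(W.toScheme, ⊤) Γ((f ⁻¹ᵁ U).toScheme, ⊤) Γ(pullback (W.ι ≫ T.hom) f, ⊤) :=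
    CommRingCat.isPushout_iff_isPushout.1 hpush
  haveI := free_of_unit g hbg Γ((f ⁻¹ᵁ U).toScheme, ⊤)
  exact ⟨Module.Finite.equiv hP.out.equiv, Module.Free.of_equiv hP.out.equiv⟩


open CategoryTheory AlgebraicGeometry in
/-- Let f : X' ⟶ X be a finite flat morphism of Noetherian schemes (so finite locally free). A morphism
of abelian sheaves N : f_* 𝔾_{m,X'} ⟶ 𝔾_{m,X} on the big fppf site of X is called a norm map of f
when, on every affine test scheme T over X for which the functions of T ×_X X' form a finite free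
algebra over those of T, it sends an invertible function on T ×_X X' to the determinant of
multiplication by it. Two norm maps of f are equal: a norm map is determined by its affine-local
description by determinants. -/
theorem result (X X' : Scheme.{u}) (f : X' ⟶ X) [IsFinite f] [Flat f]
    [AlgebraicGeometry.IsNoetherian X]
    (N N' : CGrpSh3.pushGm Scheme.fppfPrecoverage f ⟶ CGrpSh2.Gm Scheme.fppfPrecoverage X)
    (hN : CGrpSh3.IsNormMap Scheme.fppfPrecoverage f N) (hN' : CGrpSh3.IsNormMap Scheme.fppfPrecoverage f N') :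
    N = N' := by
  refine Sheaf.hom_ext (NatTrans.ext (funext fun T => AddCommGrpCat.ext fun z => ?_))
  obtain ⟨T⟩ := T
  obtain ⟨t', rfl⟩ : ∃ t' : (Over.pullback f).obj T ⟶ Red.Gm X', z = ULift.up (Additive.ofMul t') := ⟨z.down.toMul, rfl⟩
  suffices h : CGrpSh3.normPt Scheme.fppfPrecoverage f N T t' = CGrpSh3.normPt Scheme.fppfPrecoverage f N' T t' from
    congrArg (fun p => ULift.up (Additive.ofMul p)) h
  refine Over.OverMorphism.ext (Scheme.hom_ext_of_forall _ _ fun x => ?_)
  obtain ⟨W, hxW, hWaff, hfin, hfree⟩ := exists_test f T x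
  refine ⟨W, hxW, ?_⟩
  let T' : Over X := Over.mk (W.ι ≫ T.hom)
  let j : T' ⟶ T := Over.homMk W.ι
  have hnat : ∀ M : CGrpSh3.pushGm Scheme.fppfPrecoverage f ⟶ CGrpSh2.Gm Scheme.fppfPrecoverage X,
      j ≫ CGrpSh3.normPt Scheme.fppfPrecoverage f M T t' =
        CGrpSh3.normPt Scheme.fppfPrecoverage f M T' ((Over.pullback f).map j ≫ t') := by
    intro M
    have h := ConcreteCategory.congr_hom (M.hom.naturality j.op) (ULift.up (Additive.ofMul t'))
    exact (congrArg (fun q => q.down.toMul) h).symm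
  haveI : IsAffine T'.left := hWaff
  let p := Limits.pullback.fst (W.ι ≫ T.hom) f
  letI : Algebra Γ(T'.left, ⊤) Γ(((Over.pullback f).obj T').left, ⊤) := p.appTop.hom.toAlgebra
  haveI : Module.Finite Γ(T'.left, ⊤) Γ(((Over.pullback f).obj T').left, ⊤) := hfin
  haveI : Module.Free Γ(T'.left, ⊤) Γ(((Over.pullback f).obj T').left, ⊤) := hfree
  have h1 := hN T' (fun a => rfl) ((Over.pullback f).map j ≫ t')
  have h2 := hN' T' (fun a => rfl) ((Over.pullback f).map j ≫ t')
  have key : j ≫ CGrpSh3.normPt Scheme.fppfPrecoverage f N T t' = j ≫ CGrpSh3.normPt Scheme.fppfPrecoverage f N' T t' := by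
    rw [hnat, hnat]
    exact Groth.Reductive.gmFn_injective (h1.trans h2.symm)
  exact congrArg CommaMorphism.left key

end Groth.Agent.S15383
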