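import Groth.Statements.S15384
import Groth.Agent.VarietyBC.NormBaseChange
import Groth.Agent.Reductive.Points

set_option autoImplicit false
universe u
open GmDual

namespace Groth.Agent.S15384

open CategoryTheory CategoryTheory.Limits AlgebraicGeometry Opposite
open scoped MonObj

variable {X X' : Scheme.{u}} (f : X' ⟶ X) [IsFinite f] [Flat f] [LocallyOfFinitePresentation f]

/-- The norm on the functions of `T ×_X X'`. -/
noncomputable def normFn (T : Over X) :
    Γ(((Over.pullback f).obj T).left, ⊤) →* Γ(T.left, ⊤) :=
  (Groth.RefRank.flfPreNorm (pullback.fst T.hom f)).norm ⊤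

/-- The norm on points of the multiplicative group. -/
noncomputable def normOnPts (T : Over X) (x : (Over.pullback f).obj T ⟶ Red.Gm X') : T ⟶ Red.Gm X :=
  Groth.Reductive.gmMk T (Units.map (normFn f T) (Groth.Reductive.isUnit_gmFn x).unit)

theorem gmFn_normOnPts (T : Over X) (x : (Over.pullback f).obj T ⟶ Red.Gm X') :
    Red.gmFn (normOnPts f T x) = normFn f T (Red.gmFn x) := by
  rw [normOnPts, Groth.Reductive.gmFn_gmMk, Units.coe_map, IsUnit.unit_spec]

theorem normFn_map {T T' : Over X} (j : T' ⟶ T) (s : Γ(((Over.pullback f).obj T).left, ⊤)) :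
    j.left.appTop (normFn f T s) = normFn f T' (((Over.pullback f).map j).left.appTop s) := by
  have h : IsPullback ((Over.pullback f).map j).left (pullback.fst T'.hom f) (pullback.fst T.hom f) j.left := by
    refine IsPullback.of_right (t := (IsPullback.of_hasPullback T.hom f).flip) ?_ ?_
    · have e1 : ((Over.pullback f).map j).left ≫ pullback.snd T.hom f = pullback.snd T'.hom f :=
        pullback.lift_snd _ _ _
      rw [e1, Over.w j]
      exact (IsPullback.of_hasPullback T'.hom f).flip
    · exact pullback.lift_fst _ _ _
  have := Groth.VarietyBC.NormBaseChange.flfNm_pullback (pullback.fst T.hom f) (pullback.fst T'.hom f) h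
    (U := ⊤) (V := ⊤) le_top le_top s
  simp [Scheme.Hom.appLE, Scheme.Hom.appTop] at this ⊢
  exact this

/-- Let f : X' ⟶ X be a finite flat morphism of Noetherian schemes (so finite locally free). There is a
morphism of abelian sheaves N : f_* 𝔾_{m,X'} ⟶ 𝔾_{m,X} on the big fppf site of X which is a norm map
of f: on every affine test scheme T over X for which the functions of T ×_X X' form a finite free
algebra over those of T (structure map the pullback of functions along the projection), N sends an
invertible function on T ×_X X' to the determinant of multiplication by it. -/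
theorem result (X X' : Scheme.{u}) (f : X' ⟶ X) [IsFinite f] [Flat f]
    [AlgebraicGeometry.IsNoetherian X] :
    ∃ N : CGrpSh3.pushGm Scheme.fppfPrecoverage f ⟶ CGrpSh2.Gm Scheme.fppfPrecoverage X,
      CGrpSh3.IsNormMap Scheme.fppfPrecoverage f N := by
  haveI : LocallyOfFinitePresentation f := inferInstance
  refine ⟨⟨⟨fun T => AddCommGrpCat.ofHom
      (X := ((CGrpSh3.pushGm Scheme.fppfPrecoverage f).obj.obj T : Type (u + 1)))
      (Y := ((CGrpSh2.Gm Scheme.fppfPrecoverage X).obj.obj T : Type (u + 1)))
      (AddMonoidHom.mk' (fun z => ULift.up (Additive.ofMul (normOnPts f T.unop z.down.toMul))) fun z w => ?_),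
      fun T T' j => ?_⟩⟩, ?_⟩
  · refine ULift.ext _ _ ?_
    change Additive.ofMul (normOnPts f T.unop (z.down.toMul * w.down.toMul)) =
      Additive.ofMul (normOnPts f T.unop z.down.toMul * normOnPts f T.unop w.down.toMul)
    congr 1
    apply Groth.Reductive.gmFn_injective
    rw [Groth.Reductive.gmFn_mul, gmFn_normOnPts, gmFn_normOnPts, gmFn_normOnPts, Groth.Reductive.gmFn_mul, map_mul]
  · ext z
    refine ULift.ext _ _ ?_
    change Additive.ofMul (normOnPts f T'.unop ((Over.pullback f).map j.unop ≫ z.down.toMul)) =
      Additive.ofMul (j.unop ≫ normOnPts f T.unop z.down.toMul)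
    congr 1
    apply Groth.Reductive.gmFn_injective
    rw [Groth.Reductive.gmFn_comp, gmFn_normOnPts, gmFn_normOnPts, Groth.Reductive.gmFn_comp, normFn_map]
  · intro T _ _ _ _ halg t'
    rw [show CGrpSh3.normPt Scheme.fppfPrecoverage f _ T t' = normOnPts f T t' from rfl, gmFn_normOnPts]
    let β := (Module.Free.chooseBasis Γ(T.left, ⊤) Γ(((Over.pullback f).obj T).left, ⊤)).reindex (Fintype.equivFin _)
    have halg' : ‹Algebra Γ(T.left, ⊤) Γ(((Over.pullback f).obj T).left, ⊤)› =
        Groth.Chow.secAlg (pullback.fst T.hom f) ⊤ := Algebra.algebra_ext _ _ halg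
    subst halg'
    exact Groth.VarietyBC.NormBaseChange.flfNm_of_affine (pullback.fst T.hom f) (isAffineOpen_top T.left)
      ⟨β⟩ _

end Groth.Agent.S15384
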