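import Groth.Statements.S15385
import Groth.Agent.StackCount.FrobPts
-- import your own Groth.Agent.* helpers here

set_option autoImplicit false
universe u
open StackCount

set_option backward.isDefEq.respectTransparency false
set_option backward.isDefEq.respectTransparency.types false

namespace Groth.Agent.S15385

open CategoryTheory AlgebraicGeometry in
/-- Let k be a finite field and G a finite etale group scheme over k (in particular affine over k, so
that every G-torsor is a scheme). For every finite field extension k' of k, the point count of the
classifying stack B(G) over k' — the sum, over the isomorphism classes of the groupoid of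
etale-locally trivial G-torsors over Spec k', of the inverse orders of their automorphism groups —
equals 1. The finiteness of that groupoid (finitely many classes, finite automorphism groups) is
carried as a hypothesis. -/
theorem result (k : Type u) [Field k] [Finite k]
    (G : Over (Spec (CommRingCat.of k))) [GrpObj G] [IsFinite G.hom] [Etale G.hom]
    (k' : Type u) [Field k'] [Algebra k k'] [Module.Finite k k']
    (h : StkCnt.IsEssFinite (StkCnt.pts (AlgSt.BG Scheme.etalePrecoverage G) k')) :
    StkCnt.ptCount (AlgSt.BG Scheme.etalePrecoverage G) k' h = 1 := by
  have : Finite k' := Module.finite_of_finite k
  have : IsGalois k' (AlgebraicClosure k') := ⟨⟩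
  have hsm : Smooth G.hom := inferInstance
  have := Groth.StackCount.finite_pts_of_isFinite (k := k) (kb := AlgebraicClosure k') (G := G)
  exact Groth.StackCount.ptCount_BG_eq_one (kb := AlgebraicClosure k')
    (fun A => Groth.StackCount.lft_etale hsm A) (fun A => Groth.StackCount.exists_kpt_etale _ A)
    (fun E hd hg => Groth.StackCount.singleton_mem_etale E hd hg) h

end Groth.Agent.S15385
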