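import Groth.Statements.S15391
import Mathlib.Tactic
import Mathlib.RingTheory.LocalProperties.Reduced
import Mathlib.RingTheory.Ideal.MinimalPrime.Noetherian
import Mathlib.RingTheory.LocalRing.ResidueField.Ideal
-- import your own Groth.Agent.* helpers here

set_option autoImplicit false
universe u
open TensorProduct
open TorFree

namespace Groth.Agent.S15391

/-- Let R be a reduced Noetherian commutative ring, M a finitely generated torsion-free R-module (no
non-zero element of M is annihilated by a non-zero-divisor of R), and t an element of M whose image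
1 ⊗ t in the fibre κ(p) ⊗_R M vanishes for every prime ideal p of R, κ(p) being the residue field at
p. Then t = 0. This is the affine form of the claim that a global section of a coherent torsion-free
module on a reduced Noetherian scheme which vanishes in every fibre is zero. -/
theorem result (R : Type u) [CommRing R] [IsReduced R] [IsNoetherianRing R]
    (M : Type u) [AddCommGroup M] [Module R M] [Module.Finite R M] [Module.IsTorsionFree R M]
    (t : M) (ht : ∀ p : PrimeSpectrum R, (1 : p.asIdeal.ResidueField) ⊗ₜ[R] t = (0 : p.asIdeal.ResidueField ⊗[R] M)) :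
    t = 0 := by
  let p0 := fun (p : Ideal R) (hp : p.IsPrime) => (⟨p, hp⟩ : PrimeSpectrum R)
  have hloc : ∀ (p : Ideal R) (hp : p ∈ minimalPrimes R), ∃ s : R, s ∉ p ∧ s • t = 0 := by
    intro p hp
    haveI : p.IsPrime := hp.1.1
    have hm : IsLocalRing.maximalIdeal (Localization.AtPrime p) = ⊥ := by
      rw [eq_bot_iff]
      intro x hx
      have hx' : x ∈ nilradical (Localization.AtPrime p) := by
        rw [nilradical_eq_sInf, Submodule.mem_sInf]
        intro q hq
        haveI : Ideal.IsPrime q := hq
        suffices q = IsLocalRing.maximalIdeal (Localization.AtPrime p) by rw [this]; exact hx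
        refine (IsLocalization.orderEmbedding p.primeCompl (Localization.AtPrime p)).injective ?_
        change Ideal.comap (algebraMap R (Localization.AtPrime p)) q =
          Ideal.comap (algebraMap R (Localization.AtPrime p)) (IsLocalRing.maximalIdeal (Localization.AtPrime p))
        rw [show Ideal.comap (algebraMap R (Localization.AtPrime p)) (IsLocalRing.maximalIdeal (Localization.AtPrime p)) = p from IsLocalization.AtPrime.comap_maximalIdeal (Localization.AtPrime p) p]
        have hle : Ideal.comap (algebraMap R (Localization.AtPrime p)) q ≤ p := by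
          have h1 := Ideal.comap_mono (f := algebraMap R (Localization.AtPrime p))
            (IsLocalRing.le_maximalIdeal (Ideal.IsPrime.ne_top hq))
          rwa [show Ideal.comap (algebraMap R (Localization.AtPrime p)) (IsLocalRing.maximalIdeal (Localization.AtPrime p)) = p from IsLocalization.AtPrime.comap_maximalIdeal (Localization.AtPrime p) p] at h1
        exact le_antisymm hle (hp.2 ⟨Ideal.IsPrime.comap _, bot_le⟩ hle)
      rwa [nilradical_eq_zero] at hx'
    let π : Localization.AtPrime p →ₐ[R] p.ResidueField :=
      IsScalarTower.toAlgHom R (Localization.AtPrime p) p.ResidueField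
    have hπ : Function.Injective π := by
      intro x y hxy
      have : IsLocalRing.residue (Localization.AtPrime p) (x - y) = 0 := by
        rw [map_sub, sub_eq_zero]; exact hxy
      rw [IsLocalRing.residue_eq_zero_iff, hm, Ideal.mem_bot, sub_eq_zero] at this
      exact this
    have hbij : Function.Bijective π := ⟨hπ, IsLocalRing.residue_surjective⟩
    let e := TensorProduct.congr (LinearEquiv.ofBijective π.toLinearMap hbij) (LinearEquiv.refl R M)
    have h1 : (1 : Localization.AtPrime p) ⊗ₜ[R] t = 0 := by
      apply e.injective
      rw [map_zero]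
      show π 1 ⊗ₜ[R] t = 0
      rw [map_one]
      exact ht ⟨p, inferInstance⟩
    obtain ⟨s, hs⟩ := (IsLocalizedModule.eq_zero_iff p.primeCompl
      (TensorProduct.mk R (Localization.AtPrime p) M 1)).mp h1
    exact ⟨s.1, s.2, hs⟩
  by_contra ht0
  set I := LinearMap.ker (LinearMap.toSpanSingleton R M t) with hI
  have hsub : ∀ s ∈ (I : Ideal R), ∃ p ∈ minimalPrimes R, s ∈ p := by
    intro s hs
    by_contra hno
    push Not at hno
    have hreg : IsRegular s := by
      refine Commute.isRegular_iff (fun x => mul_comm s x) |>.mpr ?_
      rw [isLeftRegular_iff_right_eq_zero_of_mul]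
      intro x hx
      have : x ∈ sInf (minimalPrimes R) := by
        rw [Submodule.mem_sInf]
        intro p hp
        exact ((Ideal.minimalPrimes_isPrime hp).mem_or_mem
          (show s * x ∈ p by rw [hx]; exact p.zero_mem)).resolve_left (hno p hp)
      rw [show sInf (minimalPrimes R) = (⊥ : Ideal R).radical from Ideal.sInf_minimalPrimes] at this
      change x ∈ nilradical R at this
      rw [nilradical_eq_zero] at this
      exact this
    exact ht0 (Module.IsTorsionFree.isSMulRegular hreg (by simpa [hI] using hs))
  have hfin : (minimalPrimes R).Finite := minimalPrimes.finite_of_isNoetherianRing R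
  have hle : ∃ p ∈ hfin.toFinset, I ≤ p := by
    rw [← Ideal.subset_union_prime ⊥ ⊥ (fun p hp _ _ =>
      Ideal.minimalPrimes_isPrime (hfin.mem_toFinset.mp hp))]
    intro s hs
    obtain ⟨p, hp, hsp⟩ := hsub s hs
    exact Set.mem_biUnion (hfin.mem_toFinset.mpr hp) hsp
  obtain ⟨p, hp, hle⟩ := hle
  obtain ⟨s, hs, hst⟩ := hloc p (hfin.mem_toFinset.mp hp)
  exact hs (hle (by simpa [hI] using hst))

end Groth.Agent.S15391
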