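import Groth.Statements.S5129
import Groth.Agent.Pi1Field.Basic
import Groth.Agent.Hensel1.Finite
import Groth.Agent.Hensel1.Local
import Mathlib

set_option autoImplicit false
universe u
open Pi1

set_option backward.isDefEq.respectTransparency false

namespace Groth.Agent.S5129

open AlgebraicGeometry CategoryTheory CategoryTheory.Limits

/-- In a finite algebra over a henselian local ring every point over the closed point has a clopen
neighbourhood containing no other one. -/
theorem exists_clopen_spec (R S : Type u) [CommRing R] [HenselianLocalRing R] [CommRing S] [Algebra R S]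
    [Module.Finite R S] (p : PrimeSpectrum S) (hp : p.asIdeal.comap (algebraMap R S) = IsLocalRing.maximalIdeal R) :
    ∃ D : Set (PrimeSpectrum S), IsClopen D ∧ p ∈ D ∧
      ∀ q ∈ D, q.asIdeal.comap (algebraMap R S) = IsLocalRing.maximalIdeal R → q = p := by
  classical
  haveI : Algebra.IsIntegral R S := Algebra.IsIntegral.of_finite R S
  obtain ⟨ι, _, e, he, hloc⟩ := Groth.Hensel1.exists_completeOrthogonalIdempotents_local R S
  have hmax : ∀ q : PrimeSpectrum S, q.asIdeal.comap (algebraMap R S) = IsLocalRing.maximalIdeal R →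
      q.asIdeal.IsMaximal := fun q hq =>
    Ideal.isMaximal_of_isIntegral_of_isMaximal_comap q.asIdeal (by rw [hq]; infer_instance)
  obtain ⟨i, hi⟩ : ∃ i, e i ∉ p.asIdeal := by
    by_contra! h
    exact p.isPrime.ne_top ((Ideal.eq_top_iff_one _).mpr (he.complete ▸ Ideal.sum_mem _ fun i _ => h i))
  have hone : ∀ q : PrimeSpectrum S, e i ∉ q.asIdeal → 1 - e i ∈ q.asIdeal := fun q hq =>
    (q.isPrime.mem_or_mem (x := e i) (y := 1 - e i) (by
      rw [mul_sub, mul_one, (he.idem i).eq, sub_self]; exact zero_mem _)).resolve_left hq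
  refine ⟨(PrimeSpectrum.basicOpen (e i) : Set (PrimeSpectrum S)),
    PrimeSpectrum.isClopen_iff.mpr ⟨e i, he.idem i, rfl⟩, hi, fun q hq hqm => ?_⟩
  haveI := hloc i
  have key : ∀ P : Ideal S, P.IsMaximal → 1 - e i ∈ P →
      P = (IsLocalRing.maximalIdeal (S ⧸ Ideal.span {1 - e i})).comap (Ideal.Quotient.mk _) := by
    intro P hP hiP
    have hle : Ideal.span {1 - e i} ≤ P := (Ideal.span_singleton_le_iff_mem _).mpr hiP
    have h1 : (P.map (Ideal.Quotient.mk (Ideal.span {1 - e i}))).IsMaximal :=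
      Ideal.IsMaximal.map_of_surjective_of_ker_le Ideal.Quotient.mk_surjective
        (by rwa [Ideal.mk_ker])
    rw [← IsLocalRing.eq_maximalIdeal h1, Ideal.comap_map_of_surjective' _
      Ideal.Quotient.mk_surjective, Ideal.mk_ker, sup_eq_left.mpr hle]
  exact PrimeSpectrum.ext ((key _ (hmax q hqm) (hone q hq)).trans (key _ (hmax p hp) (hone p hi)).symm)

/-- The same for a scheme finite over a henselian local ring. -/
theorem exists_clopen_scheme (R : Type u) [CommRing R] [HenselianLocalRing R] {Y : Scheme.{u}}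
    (a : Y ⟶ Spec (CommRingCat.of R)) [IsFinite a] (y : Y) (hy : a.base y = IsLocalRing.closedPoint R) :
    ∃ D : Set Y, IsClopen D ∧ y ∈ D ∧ ∀ z ∈ D, a.base z = IsLocalRing.closedPoint R → z = y := by
  haveI : IsAffine Y := isAffine_of_isAffineHom a
  obtain ⟨φ, hφ⟩ : ∃ φ, Spec.map φ = Y.isoSpec.inv ≫ a := ⟨Spec.preimage _, Spec.map_preimage _⟩
  haveI : IsFinite (Spec.map φ) := by rw [hφ]; infer_instance
  letI : Algebra R Γ(Y, ⊤) := φ.hom.toAlgebra
  haveI : Module.Finite R Γ(Y, ⊤) := (IsFinite.SpecMap_iff φ).mp ‹IsFinite (Spec.map φ)›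
  have hbase : ∀ z : Y, a.base z = PrimeSpectrum.comap φ.hom (Y.isoSpec.hom.base z) := fun z => by
    show a.base z = (Spec.map φ).base (Y.isoSpec.hom.base z)
    rw [hφ, ← Scheme.Hom.comp_apply, Iso.hom_inv_id_assoc]
  obtain ⟨D, hD, hyD, huniq⟩ := exists_clopen_spec R Γ(Y, ⊤) (Y.isoSpec.hom.base y) (by
    have := congrArg PrimeSpectrum.asIdeal ((hbase y).symm.trans hy)
    exact this)
  refine ⟨Y.isoSpec.hom.base ⁻¹' D, hD.preimage Y.isoSpec.hom.continuous, hyD, fun z hz hz0 => ?_⟩
  have h1 := huniq _ hz (congrArg PrimeSpectrum.asIdeal ((hbase z).symm.trans hz0))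
  exact Y.isoSpec.hom.isOpenEmbedding.injective h1

open AlgebraicGeometry CategoryTheory CategoryTheory.Limits in
/-- Surjectivity of π₁(X) → π₁(Spec A), in terms of covers. Let A be a complete Noetherian local ring
with residue field k, k̄ an algebraic closure of k, ξ : Spec k̄ ⟶ Spec A the resulting geometric
point, and X a proper A-scheme with X ×_A Spec k̄ connected. Then pulling back finite etale covers
along X ⟶ Spec A is fully faithful. -/
theorem result (A : Type u) [CommRing A]
    [IsNoetherianRing A] [IsLocalRing A] [IsAdicComplete (IsLocalRing.maximalIdeal A) A]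
    {X : Scheme.{u}} (f : X ⟶ Spec (CommRingCat.of A)) [IsProper f]
    (ξ : Spec (CommRingCat.of (AlgebraicClosure (IsLocalRing.ResidueField A))) ⟶ Spec (CommRingCat.of A))
    (hξ : ξ = Spec.map (CommRingCat.ofHom ((algebraMap (IsLocalRing.ResidueField A)
      (AlgebraicClosure (IsLocalRing.ResidueField A))).comp (IsLocalRing.residue A))))
    [ConnectedSpace ↥(pullback f ξ)] :
    (FEt.restrict f).Full ∧ (FEt.restrict f).Faithful := by
  haveI : HenselianLocalRing A := Groth.Hensel1.henselianLocalRing_of_henselianRing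
  let k := IsLocalRing.ResidueField A
  let cl : Spec (CommRingCat.of k) ⟶ Spec (CommRingCat.of A) :=
    Spec.map (CommRingCat.ofHom (IsLocalRing.residue A))
  have hξ' : ξ = Groth.Pi1Field.geomPt k ≫ cl := by
    rw [hξ, CommRingCat.ofHom_comp, Spec.map_comp]
  have hclpt : ∀ t, cl.base t = IsLocalRing.closedPoint A := fun t => by
    obtain rfl : t = IsLocalRing.closedPoint k := Subsingleton.elim _ _
    refine PrimeSpectrum.ext ?_
    show Ideal.comap (IsLocalRing.residue A) (IsLocalRing.maximalIdeal k) = IsLocalRing.maximalIdeal A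
    rw [IsLocalRing.maximalIdeal_eq_bot, ← RingHom.ker_eq_comap_bot, IsLocalRing.ker_residue]
  have hξpt : ∀ t, ξ.base t = IsLocalRing.closedPoint A := fun t => by
    rw [hξ', Scheme.Hom.comp_apply]; exact hclpt _
  -- points of covers over the closed point are geometric points
  have hpoint : ∀ (Y : Scheme.{u}) (a : Y ⟶ Spec (CommRingCat.of A)) [IsFinite a] (y : Y),
      a.base y = IsLocalRing.closedPoint A → ∃ s, s ≫ a = ξ ∧ ∀ t, s.base t = y := by
    intro Y a _ y hy
    obtain ⟨y₀, hy₀, -⟩ := Scheme.Pullback.exists_preimage_pullback (f := a) (g := cl) y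
      (IsLocalRing.closedPoint k) (hy.trans (hclpt _).symm)
    haveI : IsFinite (pullback.snd a cl) := MorphismProperty.pullback_snd _ _ inferInstance
    obtain ⟨s, hs, hsy⟩ := Groth.Pi1Field.exists_point_over (pullback.snd a cl) y₀
    refine ⟨s ≫ pullback.fst a cl, ?_, fun t => ?_⟩
    · rw [Category.assoc, pullback.condition, reassoc_of% hs, hξ']
    · rw [Scheme.Hom.comp_apply, hsy, hy₀]
  -- fibres over such points are connected
  have hpre : ∀ (Y : Scheme.{u}) (a : Y ⟶ Spec (CommRingCat.of A)) [IsFinite a] (y : Y),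
      a.base y = IsLocalRing.closedPoint A →
      _root_.IsConnected ((pullback.fst a f).base ⁻¹' {y}) := by
    intro Y a _ y hy
    obtain ⟨s, hs, hsy⟩ := hpoint Y a y hy
    let m : pullback f ξ ⟶ pullback a f :=
      pullback.lift (pullback.snd f ξ ≫ s) (pullback.fst f ξ)
        (by rw [Category.assoc, hs, pullback.condition])
    have hm : IsPullback m (pullback.snd f ξ) (pullback.fst a f) s := by
      refine IsPullback.of_right ?_ (pullback.lift_fst _ _ _) (IsPullback.of_hasPullback a f).flip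
      rw [pullback.lift_snd, hs]
      exact IsPullback.of_hasPullback f ξ
    have hrange : Set.range m.base = (pullback.fst a f).base ⁻¹' {y} := by
      ext w
      constructor
      · rintro ⟨x, rfl⟩
        show (pullback.fst a f).base (m.base x) = y
        rw [← Scheme.Hom.comp_apply, hm.w, Scheme.Hom.comp_apply, hsy]
      · intro hw
        obtain ⟨z, hz, -⟩ := Scheme.Pullback.exists_preimage_pullback (f := pullback.fst a f) (g := s)
          w (IsLocalRing.closedPoint _) (hw.trans (hsy _).symm)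
        exact ⟨hm.isoPullback.inv.base z, by
          rw [← Scheme.Hom.comp_apply, hm.isoPullback_inv_fst]; exact hz⟩
    rw [← hrange]
    exact isConnected_range m.continuous
  -- a nonempty closed subset of a finite cover meets the closed fibre
  have hmeet : ∀ (Y : Scheme.{u}) (a : Y ⟶ Spec (CommRingCat.of A)) [IsFinite a] (C : Set Y),
      IsClosed C → C.Nonempty → ∃ y ∈ C, a.base y = IsLocalRing.closedPoint A := by
    intro Y a _ C hC ⟨c, hc⟩
    exact (IsLocalRing.specializes_closedPoint (a.base c)).mem_closed (a.isClosedMap _ hC) ⟨c, hc, rfl⟩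
  have hinj : ∀ (T : FEt.Cat (Spec (CommRingCat.of A))) (C : Set ↥T.left), IsClopen C →
      Set.range (pullback.fst T.hom f).base ⊆ C → C = Set.univ := by
    intro T C hC hsub
    let a : T.left ⟶ Spec (CommRingCat.of A) := T.hom
    haveI : IsFinite a := T.prop.1
    by_contra hne
    obtain ⟨y, hyC, hy⟩ := hmeet _ a Cᶜ hC.compl.1 (Set.nonempty_compl.mpr hne)
    obtain ⟨w, hw⟩ := (hpre _ a y hy).nonempty
    exact hyC (hsub ⟨w, hw⟩)
  refine ⟨Groth.Pi1FEt.restrict_full_of_clopen f hinj fun T C₀ hC₀ => ?_,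
    Groth.Pi1Etale.restrict_faithful_of_clopen f hinj⟩
  let a : T.left ⟶ Spec (CommRingCat.of A) := T.hom
  haveI : IsFinite a := T.prop.1
  haveI : Finite {y : T.left // a.base y = IsLocalRing.closedPoint A} :=
    (a.finite_preimage_singleton (IsLocalRing.closedPoint A)).to_subtype
  choose D hD hyD huniq using fun y : {y : T.left // a.base y = IsLocalRing.closedPoint A} =>
    exists_clopen_scheme A a y.1 y.2
  haveI : IsProper (pullback.fst a f) := MorphismProperty.pullback_fst _ _ inferInstance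
  let q := pullback.fst a f
  -- the preimage of each piece lies inside or outside `C₀`
  have hdich : ∀ y, (∃ w ∈ C₀, q.base w ∈ D y) → q.base ⁻¹' {y.1} ⊆ C₀ := by
    rintro y ⟨w, hw, hwD⟩
    have hcl : IsClosed (q.base '' (C₀ ∩ q.base ⁻¹' D y)) :=
      q.isClosedMap _ (hC₀.1.inter ((hD y).1.preimage q.continuous))
    obtain ⟨z, ⟨v, ⟨hv, hvD⟩, hvz⟩, hz⟩ := hmeet _ a _ hcl ⟨_, w, ⟨hw, hwD⟩, rfl⟩
    have hvy : q.base v = y.1 := by
      rw [hvz]
      refine huniq y z ?_ hz
      rw [← hvz]; exact hvD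
    exact (hpre _ a y.1 y.2).isPreconnected.subset_isClopen hC₀ ⟨v, hvy, hv⟩
  refine ⟨⋃ y : {y // q.base ⁻¹' {Subtype.val y} ⊆ C₀}, D y.1,
    isClopen_iUnion_of_finite fun y => hD y.1, ?_⟩
  ext w
  constructor
  · intro hw
    obtain ⟨⟨y, hy⟩, hwD⟩ := Set.mem_iUnion.mp hw
    by_contra hw0
    have hcl : IsClosed (q.base '' (C₀ᶜ ∩ q.base ⁻¹' D y)) :=
      q.isClosedMap _ (hC₀.compl.1.inter ((hD y).1.preimage q.continuous))
    obtain ⟨z, ⟨v, ⟨hv, hvD⟩, hvz⟩, hz⟩ := hmeet _ a _ hcl ⟨_, w, ⟨hw0, hwD⟩, rfl⟩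
    refine hv (hy ?_)
    show q.base v = y.1
    rw [hvz]
    refine huniq y z ?_ hz
    rw [← hvz]; exact hvD
  · intro hw
    obtain ⟨z, hzw, hz⟩ := hmeet _ a (closure {q.base w}) isClosed_closure ⟨_, subset_closure rfl⟩
    have hwD : q.base w ∈ D ⟨z, hz⟩ :=
      (specializes_iff_mem_closure.mpr hzw).mem_open (hD _).2 (hyD ⟨z, hz⟩)
    exact Set.mem_iUnion.mpr ⟨⟨⟨z, hz⟩, hdich _ ⟨w, hw, hwD⟩⟩, hwD⟩

end Groth.Agent.S5129
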