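import Groth.Statements.S5130
import Groth.Agent.FormalAlg.GeomFibre

set_option autoImplicit false
universe u
open Pi1
set_option backward.isDefEq.respectTransparency false

namespace Groth.Agent.S5130

open AlgebraicGeometry CategoryTheory CategoryTheory.Limits in
/-- Exactness in the middle of e → π₁(X ⊗ k̄) → π₁(X) → π₁(Spec A) → e, in terms of covers. Let A be a
complete Noetherian local ring with residue field k, k̄ an algebraic closure of k, ξ : Spec k̄ ⟶
Spec A the resulting geometric point, X a proper A-scheme with X ×_A Spec k̄ connected, and X' a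
connected finite etale cover of X such that the induced cover of X ×_A Spec k̄ has a section. Then
X' is isomorphic over X to the pullback of some finite etale cover of Spec A. -/
theorem result (A : Type u) [CommRing A]
    [IsNoetherianRing A] [IsLocalRing A] [IsAdicComplete (IsLocalRing.maximalIdeal A) A]
    {X : Scheme.{u}} (f : X ⟶ Spec (CommRingCat.of A)) [IsProper f]
    (ξ : Spec (CommRingCat.of (AlgebraicClosure (IsLocalRing.ResidueField A))) ⟶ Spec (CommRingCat.of A))
    (hξ : ξ = Spec.map (CommRingCat.ofHom ((algebraMap (IsLocalRing.ResidueField A)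
      (AlgebraicClosure (IsLocalRing.ResidueField A))).comp (IsLocalRing.residue A))))
    [ConnectedSpace ↥(pullback f ξ)] (X' : FEt.Cat X) [ConnectedSpace X'.left]
    (σ : pullback f ξ ⟶ X'.left) (hσ : σ ≫ X'.hom = pullback.fst f ξ) :
    ∃ T : FEt.Cat (Spec (CommRingCat.of A)), Nonempty ((FEt.restrict f).obj T ≅ X') := by
  have h : ξ = Spec.map (CommRingCat.ofHom (algebraMap (IsLocalRing.ResidueField A)
      (AlgebraicClosure (IsLocalRing.ResidueField A)))) ≫ Groth.FormalAlg.residuePt A := by
    rw [hξ, Groth.FormalAlg.residuePt, ← Spec.map_comp]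
    rfl
  subst h
  exact Groth.FormalAlg.exists_from_base_of_section f X' σ hσ

end Groth.Agent.S5130
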