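import Groth.Statements.S15392
import Groth.Agent.GrpschAbsch.FibreFlat
import Groth.Agent.GrpschAbsch.AbVarEtale
import Groth.Agent.GrpschAbsch.NeutralSet
import Groth.Agent.GrpschAbsch.Cartier
import Groth.Agent.AlgGrp1.Points
import Groth.Agent.AlgGrp1.Basic
import Groth.Agent.CohBase.AffineBC
import Groth.Agent.Pi1FEt.Splitting
import Groth.Agent.KTheory.LocFree
import Groth.Agent.SteinComp.Basic

set_option autoImplicit false
universe u
open CategoryTheory CategoryTheory.Limits MonoidalCategory CartesianMonoidalCategory MonObj GrpObj AlgebraicGeometry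
open AbVar

namespace Groth.Agent.S15392

open Opposite

/-- A field-valued point with closed image factors through the rational point. -/
theorem factor_point {k : Type u} [Field k] [IsAlgClosed k] {X : Scheme.{u}}
    (h : X ⟶ Spec (CommRingCat.of k)) [LocallyOfFiniteType h] {Ω : Type u} [Field Ω]
    (r : Spec (CommRingCat.of Ω) ⟶ X) (hp : IsClosed {r default}) :
    r = (r ≫ h) ≫ pointOfClosedPoint h (r default) hp := by
  obtain ⟨⟨x, φ⟩, rfl⟩ := (Scheme.SpecToEquivOfField Ω X).symm.surjective r
  have hx : (Spec.map φ ≫ X.fromSpecResidueField x) default = x := by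
    rw [Scheme.Hom.comp_apply, Scheme.fromSpecResidueField_apply]
  change Spec.map φ ≫ X.fromSpecResidueField x = ((Spec.map φ ≫ X.fromSpecResidueField x) ≫ h) ≫ _
  have hxc : IsClosed {x} := hx ▸ hp
  have : pointOfClosedPoint h ((Spec.map φ ≫ X.fromSpecResidueField x) default) hp
      = pointOfClosedPoint h x hxc := by congr 1
  refine Eq.trans ?_ (congrArg (((Spec.map φ ≫ X.fromSpecResidueField x) ≫ h) ≫ ·) this).symm
  rw [Category.assoc _ _ h, ← SpecMap_residueFieldIsoBase_inv h x hxc, pointOfClosedPoint,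
    Category.assoc, ← Spec.map_comp_assoc (residueFieldIsoBase h x hxc).hom,
    Iso.hom_inv_id, Spec.map_id, Category.id_comp]

/-- Sections of the restriction unit over an open inside the range. -/
theorem bijective_unit {X Y : Scheme.{u}} (f : X ⟶ Y) [IsOpenImmersion f] (M : Y.Modules)
    (W : Y.Opens) (hW : W ≤ f.opensRange) :
    Function.Bijective (((Scheme.Modules.restrictAdjunction f).unit.app M).app W) := by
  rw [Scheme.Modules.restrictAdjunction_unit_app_app]
  have e : f ''ᵁ (f ⁻¹ᵁ W) = W := by
    rw [Scheme.Hom.image_preimage_eq_opensRange_inf]; exact inf_eq_right.2 hW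
  have : IsIso (M.presheaf.map (homOfLE (f.image_preimage_le W)).op) := by
    have : IsIso (homOfLE (f.image_preimage_le W)) := by
      rw [show homOfLE (f.image_preimage_le W) = eqToHom e from Subsingleton.elim _ _]
      infer_instance
    have h2 : IsIso (homOfLE (f.image_preimage_le W)).op := isIso_op _
    exact Functor.map_isIso M.presheaf _
  exact (ConcreteCategory.isIso_iff_bijective _).1 this

theorem subsingleton_sections {X : Scheme.{u}} (M : X.Modules) {W : X.Opens} (hW : W = ⊥) :
    Subsingleton Γ(M, W) := by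
  subst hW
  exact AddCommGrpCat.subsingleton_of_isZero
    (TopCat.Sheaf.isTerminalOfEmpty ⟨M.presheaf, M.isSheaf⟩).isZero

/-- A module on a finite disjoint union is the product of the pushforwards of its restrictions. -/
theorem nonempty_decomp {P : Scheme.{u}} {I₀ : Type u} [Finite I₀] {U : I₀ → Scheme.{u}}
    (s : ∀ a, U a ⟶ P) [∀ a, IsOpenImmersion (s a)]
    (hd : ∀ a b, a ≠ b → Disjoint (s a).opensRange (s b).opensRange)
    (hc : ∀ x, ∃ a, x ∈ (s a).opensRange) (M : P.Modules) :
    Nonempty (M ≅ ∏ᶜ fun a =>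
      (Scheme.Modules.pushforward (s a)).obj ((Scheme.Modules.restrictFunctor (s a)).obj M)) := by
  classical
  haveI := Fintype.ofFinite I₀
  let F := fun a => (Scheme.Modules.pushforward (s a)).obj ((Scheme.Modules.restrictFunctor (s a)).obj M)
  let ω : M ⟶ ⨁ F := biproduct.lift fun a => (Scheme.Modules.restrictAdjunction (s a)).unit.app M
  suffices IsIso ω from ⟨asIso ω ≪≫ biproduct.isoProduct _⟩
  refine Groth.CohBase.FlatBC.isIso_of_local_bijective _ fun x W hxW => ?_
  obtain ⟨b, hb⟩ := hc x
  refine ⟨W ⊓ (s b).opensRange, inf_le_left, ⟨hxW, hb⟩, ?_⟩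
  set V := W ⊓ (s b).opensRange with hV
  have hπ : Function.Bijective ((biproduct.π F b).app V) := by
    refine ⟨(injective_iff_map_eq_zero _).2 fun y hy => ?_, fun z => ⟨(biproduct.ι F b).app V z, ?_⟩⟩
    · have h0 : ∀ a, (biproduct.π F a).app V y = 0 := fun a => by
        rcases eq_or_ne a b with rfl | hab
        · exact hy
        · have : Subsingleton Γ(F a, V) := subsingleton_sections ((Scheme.Modules.restrictFunctor (s a)).obj M)
            (W := (s a) ⁻¹ᵁ V) (by
              refine eq_bot_iff.2 fun p hp => ?_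
              exact (hd a b hab).le_bot ⟨⟨p, rfl⟩, hp.2⟩)
          exact Subsingleton.elim _ _
      have h2 : ∀ φ : I₀ → (⨁ F ⟶ ⨁ F), (∑ a, φ a).app V y = ∑ a, (φ a).app V y := fun φ =>
        map_sum (AddMonoidHom.mk' (fun φ : ⨁ F ⟶ ⨁ F => φ.app V y) fun _ _ => rfl) φ Finset.univ
      have ht : ∑ a, biproduct.π F a ≫ biproduct.ι F a = 𝟙 (⨁ F) := by
        refine biproduct.hom_ext _ _ fun c => ?_
        simp [Preadditive.sum_comp, biproduct.ι_π, comp_dite]
      have h3 := congrArg (fun φ : ⨁ F ⟶ ⨁ F => φ.app V y) ht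
      refine Eq.trans h3.symm ((h2 _).trans ?_)
      refine Finset.sum_eq_zero fun a _ => ?_
      change (biproduct.ι F a).app V ((biproduct.π F a).app V y) = 0
      rw [h0, map_zero]
    · change ((biproduct.ι F b ≫ biproduct.π F b).app V) z = z
      rw [biproduct.ι_π_self]; rfl
  refine (hπ.of_comp_iff' _).1 ?_
  change Function.Bijective ((ω ≫ biproduct.π F b).app V)
  rw [biproduct.lift_π]
  exact bijective_unit (s b) M V inf_le_right

/-- Pushforward along `q` of a module on a space trivialised by sections of `q`. -/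
theorem nonempty_push {P A Z : Scheme.{u}} {I₀ : Type u} [Finite I₀] (q : P ⟶ A) (p : P ⟶ Z)
    (s : I₀ → (A ⟶ P)) [∀ a, IsOpenImmersion (s a)]
    (hd : ∀ a b, a ≠ b → Disjoint (s a).opensRange (s b).opensRange)
    (hc : ∀ x, ∃ a, x ∈ (s a).opensRange) (hs : ∀ a, s a ≫ q = 𝟙 A)
    (τ : I₀ → (A ⟶ Z)) (hτ : ∀ a, s a ≫ p = τ a) (E : Z.Modules) :
    Nonempty ((Scheme.Modules.pushforward q).obj ((Scheme.Modules.pullback p).obj E) ≅
      ∐ fun a => (Scheme.Modules.pullback (τ a)).obj E) := by
  classical
  haveI := Fintype.ofFinite I₀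
  obtain ⟨e⟩ := nonempty_decomp s hd hc ((Scheme.Modules.pullback p).obj E)
  refine ⟨(Scheme.Modules.pushforward q).mapIso e ≪≫ PreservesProduct.iso _ _ ≪≫
    Pi.mapIso (fun a => ?_) ≪≫ (biproduct.isoProduct _).symm ≪≫ biproduct.isoCoproduct _⟩
  exact (Scheme.Modules.pushforwardComp (s a) q).app _ ≪≫
    (Scheme.Modules.pushforwardCongr (hs a)).app _ ≪≫ (Scheme.Modules.pushforwardId A).app _ ≪≫
    (Scheme.Modules.restrictFunctorIsoPullback (s a)).app _ ≪≫
    (Scheme.Modules.pullbackComp (s a) p).app E ≪≫ (Scheme.Modules.pullbackCongr (hτ a)).app E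

/-- Let k be an algebraically closed field of characteristic zero, A and B abelian varieties over k
(proper smooth k-group schemes with geometrically connected fibres), π : A → B a homomorphism which
is an isogeny (finite and surjective), and E a finite locally free O_A-module. For a k-rational
point a of A write t_a : A → A for the translation by a (the product of the identity and the
constant map a in the group Hom(A, A)). Then π^*π_*E is isomorphic to the direct sum of the
translates t_a^*E over the k-rational points a of A with π(a) equal to the unit of B, that is over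
the k-points of the kernel of π (existence of an isomorphism). -/
theorem result (k : Type u) [Field k] [IsAlgClosed k] [CharZero k]
    (A B : Over (Spec (CommRingCat.of k))) [GrpObj A] [IsProper A.hom] [Smooth A.hom] [GeometricallyConnected A.hom]
    [GrpObj B] [IsProper B.hom] [Smooth B.hom] [GeometricallyConnected B.hom]
    (π : A ⟶ B) [IsMonHom π] [IsFinite π.left] [Surjective π.left]
    (E : A.left.Modules) (hE : FlatMod.IsFinLocFree E) :
    Nonempty ((Scheme.Modules.pullback π.left).obj ((Scheme.Modules.pushforward π.left).obj E) ≅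
      ∐ fun a : {a : 𝟙_ (Over (Spec (CommRingCat.of k))) ⟶ A // a ≫ π = 1} =>
        (Scheme.Modules.pullback (𝟙 A * (toUnit A ≫ a.1)).left).obj E) := by
  classical
  haveI : E.IsQuasicoherent := Groth.KTheory.LocFree.isQCoh hE
  haveI : GeometricallyReduced B.hom := Groth.AlgGrp1.geometricallyReduced_of_smooth_hom B
  haveI : Flat π.left := Groth.GrpschAbsch.FibreFlat.flat_of_surjective_field π
  haveI : LocallyOfFinitePresentation π.left := Groth.AlgGrp1.lfp_left π
  -- the kernel
  let N : Over (Spec (CommRingCat.of k)) := Over.mk (pullback.snd π.left η[B].left)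
  have hη : η[B].left ≫ B.hom = 𝟙 _ := Over.w η[B]
  have wi : pullback.fst π.left η[B].left ≫ A.hom = N.hom := by
    change _ = pullback.snd π.left η[B].left
    rw [← Over.w π, pullback.condition_assoc, hη]
    exact Category.comp_id _
  let i : N ⟶ A := Over.homMk (pullback.fst π.left η[B].left) wi
  have hiπ : i ≫ π = 1 := by
    apply Over.OverMorphism.ext
    change pullback.fst π.left η[B].left ≫ π.left = (toUnit N).left ≫ η[B].left
    rw [pullback.condition]; rfl
  have hN : ∀ {T : Over (Spec (CommRingCat.of k))} (g : T ⟶ A), g ≫ π = 1 →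
      ∃ n : T ⟶ N, n ≫ i = g := fun {T} g hg => by
    refine ⟨Over.homMk (pullback.lift g.left T.hom ((congr(($hg).left)).trans rfl)) ?_, ?_⟩
    · exact pullback.lift_snd _ _ _
    · apply Over.OverMorphism.ext
      exact pullback.lift_fst _ _ _
  haveI hηm : Mono η[B].left := mono_of_mono_fac hη
  haveI : Mono (pullback.fst π.left η[B].left) := inferInstance
  haveI : Mono i := ⟨fun a b h => Over.OverMorphism.ext
    ((cancel_mono (pullback.fst π.left η[B].left)).1 congr(($h).left))⟩
  have hkz : ∀ {T : Over (Spec (CommRingCat.of k))} (z : T ⟶ N), (z ≫ i) ≫ π = 1 := fun z => by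
    rw [Category.assoc, hiπ, MonObj.comp_one]
  obtain ⟨hg, hgi⟩ := Groth.GrpschAbsch.NeutralSet.exists_grpObj_of_mono A i
    (hN η[A] (by rw [MonObj.one_eq_one, MonObj.one_comp]))
    (hN ((fst N N ≫ i) * (snd N N ≫ i)) (by rw [MonObj.mul_comp, hkz, hkz, _root_.one_mul]))
    (hN i⁻¹ (by rw [GrpObj.inv_comp, hiπ, inv_one]))
  letI := hg
  haveI : IsFinite N.hom := inferInstanceAs (IsFinite (pullback.snd π.left η[B].left))
  haveI : Smooth N.hom := Groth.GrpschAbsch.smooth_of_charZero N
  haveI : Etale N.hom := Groth.SteinComp.etale_of_smooth_of_lqf N.hom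
  haveI : FormallyUnramified N.hom := inferInstance
  haveI : Etale π.left := Groth.GrpschAbsch.etale_of_flat_of_kernel π i hN
  haveI : IsLocallyArtinian N.left := IsLocallyArtinian.of_locallyQuasiFinite N.hom
  haveI : CompactSpace N.left := QuasiCompact.compactSpace_of_compactSpace N.hom
  haveI : Finite N.left := finite_of_compact_of_discrete
  have hclosed : ∀ p : N.left, IsClosed {p} := fun p => by
    have : DiscreteTopology N.left := inferInstance
    exact isClosed_discrete _
  -- kernel points
  let I₀ := {a : 𝟙_ (Over (Spec (CommRingCat.of k))) ⟶ A // a ≫ π = 1}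
  haveI : Finite I₀ := by
    choose n hn using fun a : I₀ => hN a.1 a.2
    refine Finite.of_injective (fun a => (n a).left (IsLocalRing.closedPoint k)) fun a b h => ?_
    have : (n a).left = (n b).left :=
      ext_of_apply_closedPoint_eq N.hom (Over.w (n a)) (Over.w (n b)) h
    exact Subtype.ext (by rw [← hn a, ← hn b, Over.OverMorphism.ext this])
  have hτ : ∀ a : I₀, (𝟙 A * (toUnit A ≫ a.1)).left ≫ π.left = π.left := fun a => by
    rw [← Over.comp_left, MonObj.mul_comp, Category.id_comp, Category.assoc, a.2, MonObj.comp_one,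
      _root_.mul_one]
  have hiso := Groth.Pi1FEt.isIso_sigmaDesc_lift π.left π.left
    (fun a : I₀ => (𝟙 A * (toUnit A ≫ a.1)).left) hτ (fun Ω _ _ t x hx => by
      let T : Over (Spec (CommRingCat.of k)) := Over.mk (t ≫ A.hom)
      let t' : T ⟶ A := Over.homMk t rfl
      let x' : T ⟶ A := Over.homMk x (by
        change x ≫ A.hom = t ≫ A.hom
        rw [← Over.w π, reassoc_of% hx])
      have hxt : x' ≫ π = t' ≫ π := Over.OverMorphism.ext hx
      have hcomp : ∀ a : I₀, t' ≫ (𝟙 A * (toUnit A ≫ a.1)) = t' * (toUnit T ≫ a.1) := fun a => by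
        rw [MonObj.comp_mul, Category.comp_id, ← Category.assoc, toUnit_unique (t' ≫ toUnit A) (toUnit T)]
      obtain ⟨n, hn⟩ := hN (t'⁻¹ * x') (by
        rw [MonObj.mul_comp, GrpObj.inv_comp, hxt, inv_mul_cancel])
      let p : N.left := n.left (default : Spec (CommRingCat.of Ω))
      let n₀ : 𝟙_ (Over (Spec (CommRingCat.of k))) ⟶ N :=
        Over.homMk (pointOfClosedPoint N.hom p (hclosed p)) (pointOfClosedPoint_comp _ _ _)
      have hn0 : n = toUnit T ≫ n₀ := by
        apply Over.OverMorphism.ext
        refine (factor_point (Ω := Ω) N.hom n.left (hclosed p)).trans ?_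
        rw [Over.w n]
        rfl
      refine ⟨⟨n₀ ≫ i, hkz n₀⟩, ?_, fun b hb => ?_⟩
      · change t'.left ≫ _ = x'.left
        rw [← Over.comp_left, hcomp]
        rw [← Category.assoc, ← hn0, hn, mul_inv_cancel_left]
      · have h1 : t' * (toUnit T ≫ b.1) = x' := by
          rw [← hcomp]; exact Over.OverMorphism.ext hb
        have h2 : toUnit T ≫ b.1 = toUnit T ≫ (n₀ ≫ i) := by
          rw [← Category.assoc, ← hn0, hn, ← h1, inv_mul_cancel_left]
        apply Subtype.ext
        apply Over.OverMorphism.ext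
        refine ext_of_apply_closedPoint_eq A.hom (Over.w b.1) (Over.w (n₀ ≫ i)) ?_
        have h3 := congrArg (fun φ : T ⟶ A => φ.left (default : Spec (CommRingCat.of Ω))) h2
        simp only [Over.comp_left, Scheme.Hom.comp_apply] at h3
        have e : (toUnit T).left (default : Spec (CommRingCat.of Ω)) = IsLocalRing.closedPoint k :=
          @Subsingleton.elim (Spec (CommRingCat.of k)) _ _ _
        rw [e] at h3
        exact h3)
  let s : I₀ → (A.left ⟶ pullback π.left π.left) := fun a =>
    pullback.lift (𝟙 A * (toUnit A ≫ a.1)).left (𝟙 A.left) ((hτ a).trans (Category.id_comp _).symm)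
  haveI : IsIso (Sigma.desc s) := hiso
  have hsι : ∀ a, Sigma.ι (fun _ : I₀ => A.left) a ≫ Sigma.desc s = s a := fun a => Sigma.ι_desc s a
  haveI : ∀ a, IsOpenImmersion (s a) := fun a => by rw [← hsι a]; infer_instance
  have hd : ∀ a b, a ≠ b → Disjoint (s a).opensRange (s b).opensRange := fun a b hab => by
    rw [disjoint_iff, eq_bot_iff]
    rintro x ⟨⟨y, hy⟩, ⟨z, hz⟩⟩
    rw [← hsι a, Scheme.Hom.comp_apply] at hy
    rw [← hsι b, Scheme.Hom.comp_apply] at hz
    have hinj : Function.Injective (Sigma.desc s) :=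
      (Scheme.Hom.isOpenEmbedding (Sigma.desc s)).injective
    exact (disjoint_opensRange_sigmaι (fun _ : I₀ => A.left) a b hab).le_bot
      ⟨⟨y, rfl⟩, z, hinj (hz.trans hy.symm)⟩
  have hc : ∀ x, ∃ a, x ∈ (s a).opensRange := fun x => by
    obtain ⟨w, rfl⟩ := (inferInstance : Surjective (Sigma.desc s)).surj x
    obtain ⟨a, y, rfl⟩ := (sigmaOpenCover fun _ : I₀ => A.left).exists_eq w
    exact ⟨a, y, by rw [← hsι a]; rfl⟩
  obtain ⟨e₁⟩ := Groth.CohBase.AffineBC.nonempty_affine_bc
    (IsPullback.of_hasPullback π.left π.left) E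
  obtain ⟨e₂⟩ := nonempty_push (pullback.snd π.left π.left) (pullback.fst π.left π.left) s hd hc
    (fun a => pullback.lift_snd _ _ _) (fun a : I₀ => (𝟙 A * (toUnit A ≫ a.1)).left)
    (fun a => pullback.lift_fst _ _ _) E
  exact ⟨e₁ ≪≫ e₂⟩

end Groth.Agent.S15392
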