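import Groth.Statements.S15402
import Groth.Agent.Misc13.NumTriv.AlgDivisible
-- import your own Groth.Agent.* helpers here

set_option autoImplicit false
universe u
open CategoryTheory CategoryTheory.Limits AlgebraicGeometry
open PicGrp

namespace Groth.Agent.S15402

/-- Let k be an algebraically closed field, X a proper k-scheme, ℓ a prime number which is nonzero in k,
and L an invertible O_X-module; assume the Picard group law on X. Call a class c of Pic(X)
ℓ-divisible when for every n ≥ 1 it is an ℓ^n-th power. (a) If some power c^m, m ≥ 1, of the class c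
of L is ℓ-divisible, then c lies in the subgroup of Pic(X) generated by the classes of invertible
modules τ-equivalent to zero (some positive tensor power algebraically equivalent to zero). (b)
Conversely, if moreover the structure map induces an isomorphism k ≅ H⁰(X, O_X) and c lies in that
subgroup, then some power c^m, m ≥ 1, is ℓ-divisible. (The published statement lists further
equivalent conditions through the ℓ-adic first Chern class, not stated here. The published statement
proves (a) for X proper over an arbitrary field; here k is taken algebraically closed in both parts,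
the setting of the τ-equivalence notion used.) -/
theorem result (k : Type u) [Field k] [IsAlgClosed k]
    (X : Scheme.{u}) [X.Over (Spec (CommRingCat.of k))] [IsProper (X ↘ Spec (CommRingCat.of k))]
    (ℓ : ℕ) (hℓ : ℓ.Prime) (hℓk : (ℓ : k) ≠ 0) (L : X.Modules) (hL : PicF.IsInvertible L) [PicGrp.Law X] :
    ((∃ m : ℕ, 0 < m ∧ ∀ n : ℕ, ∃ d : PicLoc.PicSet X, d ^ (ℓ ^ n) = PicGrp.cls L hL ^ m) →
        PicGrp.cls L hL ∈ PicGrp.subCl (Pic13.IsTauEquivZero k X)) ∧
      (IsIso (X ↘ Spec (CommRingCat.of k)).appTop →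
        PicGrp.cls L hL ∈ PicGrp.subCl (Pic13.IsTauEquivZero k X) →
          ∃ m : ℕ, 0 < m ∧ ∀ n : ℕ, ∃ d : PicLoc.PicSet X, d ^ (ℓ ^ n) = PicGrp.cls L hL ^ m) := by
  constructor
  · rintro ⟨m, hm, hdiv⟩
    refine PicGrp.cls_mem_subCl hL (Groth.Misc13.NumTriv.isTauEquivZero_of_nt_proper k
      ⟨hL, fun F hF hd => ?_⟩)
    by_contra hne
    have hbig : ∀ n : ℕ, ((ℓ : ℤ) ^ n) ∣ (m : ℤ) * Inter.delta k [L] F := fun n => by
      obtain ⟨d, hd'⟩ := hdiv n
      obtain ⟨D, hD, rfl⟩ := PicGrp.exists_eq_cls d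
      obtain ⟨e⟩ := (PicGrp.cl_eq_cl_iff _ _).1
        ((PicGrp.cls_pow_val hD (ℓ ^ n)).symm.trans ((congrArg Subtype.val hd').trans
          (PicGrp.cls_pow_val hL m)))
      refine ⟨Inter.delta k [D] F, ?_⟩
      have h1 := Inter.delta_pow_cons k hL (l := []) (by simp) hF (by simpa using hd) m
      have h2 := Inter.delta_pow_cons k hD (l := []) (by simp) hF (by simpa using hd) (ℓ ^ n)
      rw [← h1, Inter.delta_cons, Inter.delta_congr k [] (Inter.tensor_congr ⟨e.symm⟩ ⟨Iso.refl F⟩),
        ← Inter.delta_cons, h2]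
      push_cast
      rfl
    have hnz : (m : ℤ) * Inter.delta k [L] F ≠ 0 := mul_ne_zero (by exact_mod_cast hm.ne') hne
    obtain ⟨n, hn⟩ : ∃ n : ℕ, ((m : ℤ) * Inter.delta k [L] F).natAbs < ℓ ^ n :=
      ⟨_, Nat.lt_pow_self hℓ.one_lt⟩
    have := Int.natAbs_dvd_natAbs.2 (hbig n)
    rw [Int.natAbs_pow, Int.natAbs_natCast] at this
    exact absurd (Nat.le_of_dvd (Int.natAbs_pos.2 hnz) this) (not_le.2 hn)
  · intro _ hmem
    revert hmem
    generalize PicGrp.cls L hL = c
    intro hc
    induction hc using Subgroup.closure_induction with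
    | mem c hc =>
      obtain ⟨A, hA, ⟨m, hm, halg⟩, rfl⟩ := hc
      refine ⟨m, hm, fun n => ?_⟩
      obtain ⟨N, hN, -, ⟨e⟩⟩ := Groth.Misc13.NumTriv.exists_root_alg k (n := ℓ ^ n)
        (by rw [Nat.cast_pow]; exact pow_ne_zero _ hℓk) halg
      refine ⟨PicGrp.cls N hN, Subtype.ext ?_⟩
      rw [PicGrp.cls_pow_val, PicGrp.cls_pow_val]
      exact (PicGrp.cl_eq_cl_iff _ _).2 ⟨e⟩
    | one => exact ⟨1, one_pos, fun n => ⟨1, by simp⟩⟩
    | mul a b _ _ ha hb =>
      obtain ⟨m, hm, hma⟩ := ha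
      obtain ⟨m', hm', hmb⟩ := hb
      refine ⟨m * m', Nat.mul_pos hm hm', fun n => ?_⟩
      obtain ⟨d, hd⟩ := hma n
      obtain ⟨d', hd'⟩ := hmb n
      exact ⟨d ^ m' * d' ^ m, by rw [mul_pow, ← pow_mul, mul_comm m', pow_mul, hd, ← pow_mul, ← pow_mul d' m,
        mul_comm m (ℓ ^ n), pow_mul d' (ℓ ^ n), hd', ← pow_mul, mul_comm m' m, mul_pow]⟩
    | inv a _ ha =>
      obtain ⟨m, hm, hma⟩ := ha
      exact ⟨m, hm, fun n => ⟨(hma n).choose⁻¹, by rw [inv_pow, (hma n).choose_spec, inv_pow]⟩⟩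

end Groth.Agent.S15402

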