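import Groth.Statements.S15404
import Groth.Agent.PicAux.UnionGlue
import Groth.Agent.PicAux.PicLaw
import Groth.Agent.GrpschAbsch.H0General
-- import your own Groth.Agent.* helpers here

set_option autoImplicit false
universe u
open CategoryTheory CategoryTheory.Limits AlgebraicGeometry
open PicGrp

namespace Groth.Agent.S15404

/-- Let π : X ⟶ B be quasi-compact and separated and let X be the union of the closed subschemes Y =
V(I) and Z = V(J), I and J quasi-coherent ideals with I ∩ J = 0 (so that O_X → O_Y × O_Z is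
injective with cokernel O_W, W = Y ∩ Z = V(I + J)); assume that W is flat, proper and of finite
presentation over B, that W → B has a section, and that the geometric fibres of W → B are reduced
and connected. Assume the Picard group laws on B, X, Y, Z, W and that pullback of invertible classes
along π, along the inclusions of Y, Z in X and of W in Y, Z, and along the structure maps of Y, Z, W
is multiplicative. Then the square of groups formed by Pic(X)/π^*Pic(B), Pic(Y)/Pic(B),
Pic(Z)/Pic(B) and Pic(W)/Pic(B) under restriction is cartesian: (a) an invertible class on X whose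
restrictions to Y and to Z are pulled back from B is itself pulled back from B; (b) for invertible
classes y on Y and z on Z whose restrictions to W agree up to a class pulled back from B, there is a
class on X whose restrictions to Y and Z are y and z up to classes pulled back from B. (The
published statement asserts this for the functor T ↦ Pic(X ×_B T)/Pic(T) on all B-schemes T and
assumes only that π is quasi-compact and separated, W flat over B with a section and geometrically
reduced connected fibres; its proof uses that every global unit on W comes from B, through a lemma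
on flat proper morphisms, and without properness the assertion fails — over a field, two affine
planes glued along the hyperbola ts = 1 have non-trivial Picard group — so W is taken proper and of
finite presentation over B here (finite presentation being automatic over a locally Noetherian
base), and only the value at T = B is stated.) -/
theorem result {X B : Scheme.{u}} (π : X ⟶ B)
    [QuasiCompact π] [IsSeparated π] (I J : X.IdealSheafData) (hIJ : I ⊓ J = ⊥)
    [Flat ((I ⊔ J).subschemeι ≫ π)] [IsProper ((I ⊔ J).subschemeι ≫ π)]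
    [LocallyOfFinitePresentation ((I ⊔ J).subschemeι ≫ π)]
    (s : B ⟶ (I ⊔ J).subscheme) (hs : s ≫ (I ⊔ J).subschemeι ≫ π = 𝟙 B)
    (hfib : ∀ (K : Type u) [Field K] [IsAlgClosed K] (g : Spec (CommRingCat.of K) ⟶ B),
      IsReduced (pullback ((I ⊔ J).subschemeι ≫ π) g) ∧ ConnectedSpace ↥(pullback ((I ⊔ J).subschemeι ≫ π) g))
    [PicGrp.Law B] [PicGrp.Law X] [PicGrp.Law I.subscheme] [PicGrp.Law J.subscheme] [PicGrp.Law (I ⊔ J).subscheme]
    (hπ : PicGrp.PullMul π) (hY : PicGrp.PullMul I.subschemeι) (hZ : PicGrp.PullMul J.subschemeι)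
    (hπY : PicGrp.PullMul (I.subschemeι ≫ π)) (hπZ : PicGrp.PullMul (J.subschemeι ≫ π))
    (hπW : PicGrp.PullMul ((I ⊔ J).subschemeι ≫ π))
    (hWY : PicGrp.PullMul (Scheme.IdealSheafData.inclusion (le_sup_left : I ≤ I ⊔ J)))
    (hWZ : PicGrp.PullMul (Scheme.IdealSheafData.inclusion (le_sup_right : J ≤ I ⊔ J))) :
    (∀ c : PicLoc.PicSet X,
        (∃ b₁ : PicLoc.PicSet B, PicGrp.pullHom I.subschemeι hY c = PicGrp.pullHom (I.subschemeι ≫ π) hπY b₁) →
        (∃ b₂ : PicLoc.PicSet B, PicGrp.pullHom J.subschemeι hZ c = PicGrp.pullHom (J.subschemeι ≫ π) hπZ b₂) →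
          ∃ b : PicLoc.PicSet B, c = PicGrp.pullHom π hπ b) ∧
      (∀ (y : PicLoc.PicSet I.subscheme) (z : PicLoc.PicSet J.subscheme),
        (∃ b : PicLoc.PicSet B,
            PicGrp.pullHom (Scheme.IdealSheafData.inclusion (le_sup_left : I ≤ I ⊔ J)) hWY y =
              PicGrp.pullHom (Scheme.IdealSheafData.inclusion (le_sup_right : J ≤ I ⊔ J)) hWZ z *
                PicGrp.pullHom ((I ⊔ J).subschemeι ≫ π) hπW b) →
          ∃ (c : PicLoc.PicSet X) (b₁ b₂ : PicLoc.PicSet B),
            PicGrp.pullHom I.subschemeι hY c = y * PicGrp.pullHom (I.subschemeι ≫ π) hπY b₁ ∧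
              PicGrp.pullHom J.subschemeι hZ c = z * PicGrp.pullHom (J.subschemeι ≫ π) hπZ b₂) := by
  have hP : ∀ {P Q : Scheme.{u}} (g : P ⟶ Q), PicGrp.PullMul g := fun g c d hc hd =>
    Groth.PicAux.pullMul g ⟨c, hc⟩ ⟨d, hd⟩
  have hjY : Scheme.IdealSheafData.inclusion (le_sup_left : I ≤ I ⊔ J) ≫ I.subschemeι =
      (I ⊔ J).subschemeι := Scheme.IdealSheafData.inclusion_subschemeι _
  have hjZ : Scheme.IdealSheafData.inclusion (le_sup_right : J ≤ I ⊔ J) ≫ J.subschemeι =
      (I ⊔ J).subschemeι := Scheme.IdealSheafData.inclusion_subschemeι _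
  have hcomp : ∀ {P Q R : Scheme.{u}} [PicGrp.Law P] [PicGrp.Law Q] [PicGrp.Law R] (g : P ⟶ Q)
      (g' : Q ⟶ R) (k : P ⟶ R) (_ : g ≫ g' = k) (h₁ : PicGrp.PullMul g) (h₂ : PicGrp.PullMul g')
      (h₃ : PicGrp.PullMul k) (c : PicLoc.PicSet R),
      PicGrp.pullHom g h₁ (PicGrp.pullHom g' h₂ c) = PicGrp.pullHom k h₃ c := by
    intro P Q R _ _ _ g g' k hk h₁ h₂ h₃ c
    subst hk
    exact (PicGrp.pullHom_comp_apply g g' h₁ h₂ h₃ c).symm
  have hinj : Function.Injective (PicGrp.pullHom ((I ⊔ J).subschemeι ≫ π) hπW) :=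
    Function.LeftInverse.injective (g := PicGrp.pullHom s (hP s)) fun b => by
      rw [hcomp s _ (𝟙 B) hs (hP s) hπW (PicGrp.pullMul_id B), PicGrp.pullHom_id_apply]
  refine ⟨fun c => ?_, fun y z => ?_⟩
  · rintro ⟨b₁, hb₁⟩ ⟨b₂, hb₂⟩
    have h1 := congrArg (PicGrp.pullHom _ hWY) hb₁
    have h2 := congrArg (PicGrp.pullHom _ hWZ) hb₂
    rw [hcomp _ _ (I ⊔ J).subschemeι hjY hWY hY (hP _),
      hcomp _ _ ((I ⊔ J).subschemeι ≫ π) (by rw [← Category.assoc, hjY]) hWY hπY hπW] at h1
    rw [hcomp _ _ (I ⊔ J).subschemeι hjZ hWZ hZ (hP _),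
      hcomp _ _ ((I ⊔ J).subschemeι ≫ π) (by rw [← Category.assoc, hjZ]) hWZ hπZ hπW] at h2
    have hb : b₁ = b₂ := hinj (h1.symm.trans h2)
    subst hb
    refine ⟨b₁, ?_⟩
    rw [← mul_inv_eq_one]
    have hY' : PicGrp.pullHom I.subschemeι hY (c * (PicGrp.pullHom π hπ b₁)⁻¹) = 1 := by
      rw [map_mul, map_inv, hcomp _ _ (I.subschemeι ≫ π) rfl hY hπ hπY, hb₁, mul_inv_cancel]
    have hZ' : PicGrp.pullHom J.subschemeι hZ (c * (PicGrp.pullHom π hπ b₁)⁻¹) = 1 := by
      rw [map_mul, map_inv, hcomp _ _ (J.subschemeι ≫ π) rfl hZ hπ hπZ, hb₂, mul_inv_cancel]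
    generalize c * (PicGrp.pullHom π hπ b₁)⁻¹ = d at hY' hZ' ⊢
    obtain ⟨_, L, rfl, hL⟩ := d
    change PicGrp.cls L hL = 1
    rw [show (⟨PicF.cl L, L, rfl, hL⟩ : PicLoc.PicSet X) = PicGrp.cls L hL from rfl,
      PicGrp.pullHom_cls, PicGrp.cls_eq_one_iff] at hY' hZ'
    rw [PicGrp.cls_eq_one_iff]
    obtain ⟨hr, hc⟩ :=
      Groth.GrpschAbsch.H0General.geometrically_of_algClosed ((I ⊔ J).subschemeι ≫ π) hfib
    refine Groth.PicAux.UnionGlue.nonempty_iso_structure hIJ hL (fun u hu => ?_) hY' hZ'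
    have hq := Groth.GrpschAbsch.H0General.appTop_bijective ((I ⊔ J).subschemeι ≫ π)
    obtain ⟨v, rfl⟩ := hq.2 u
    have hv : IsUnit v := by
      obtain ⟨u', hu'⟩ := isUnit_iff_exists_inv.1 hu
      obtain ⟨v', rfl⟩ := hq.2 u'
      exact isUnit_iff_exists_inv.2 ⟨v', hq.1 (by rw [map_mul, hu', map_one])⟩
    refine ⟨(J.subschemeι ≫ π).appTop v, hv.map _, ?_⟩
    rw [← CommRingCat.comp_apply, ← Scheme.Hom.comp_appTop, ← Category.assoc, hjZ]
  · rintro ⟨b, hb⟩
    rw [show PicGrp.pullHom ((I ⊔ J).subschemeι ≫ π) hπW b =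
        PicGrp.pullHom _ hWZ (PicGrp.pullHom (J.subschemeι ≫ π) hπZ b) from
        (hcomp _ _ ((I ⊔ J).subschemeι ≫ π) (by rw [← Category.assoc, hjZ]) hWZ hπZ hπW b).symm,
      ← map_mul] at hb
    generalize hz' : z * PicGrp.pullHom (J.subschemeι ≫ π) hπZ b = z' at hb
    obtain ⟨_, M, rfl, hM⟩ := y
    obtain ⟨_, N, rfl, hN⟩ := z'
    rw [show (⟨PicF.cl M, M, rfl, hM⟩ : PicLoc.PicSet _) = PicGrp.cls M hM from rfl,
      show (⟨PicF.cl N, N, rfl, hN⟩ : PicLoc.PicSet _) = PicGrp.cls N hN from rfl,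
      PicGrp.pullHom_cls, PicGrp.pullHom_cls, PicGrp.cls_eq_cls_iff] at hb
    obtain ⟨L, hL, hLM, hLN⟩ := Groth.PicAux.UnionGlue.exists_module_glue hIJ hM hN hb.some
    refine ⟨PicGrp.cls L hL, 1, b, ?_, ?_⟩
    · rw [map_one, mul_one, PicGrp.pullHom_cls]
      exact (PicGrp.cls_eq_cls_iff _ hM).2 hLM
    · rw [hz', PicGrp.pullHom_cls]
      exact (PicGrp.cls_eq_cls_iff _ hN).2 hLN

end Groth.Agent.S15404
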