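import Groth.Statements.S15406
import Groth.Agent.ModelsGraphs.TransversalDivisor
import Groth.Agent.ModelsGraphs.CurveOfModel
import Groth.Agent.ModelsGraphs.InterTorsion
import Groth.Agent.ModelsGraphs.InterSurj

set_option autoImplicit false
set_option linter.unusedSimpArgs false
universe u
open CategoryTheory CategoryTheory.Limits AlgebraicGeometry
open Models

open scoped Groth.Abvar.PicCalc
namespace Groth.Agent.S15406

/-- Let R be a complete discrete valuation ring with algebraically closed residue field k and fraction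
field K, C a smooth proper curve over K with H⁰(C, O_C) = K and dim_K H¹(C, O_C) ≥ 2, and X → Spec R
a regular proper model of C, with g : C → X exhibiting C as the generic fibre. Let Γ₁, …, Γ_n
enumerate the irreducible components of the closed fibre, with multiplicities of greatest common
divisor 1, and for each i let L_i be an invertible O_X-module inverse to the ideal sheaf of Γ_i (so
that (L_i · Γ_j) is the intersection number Γ_i · Γ_j). Assume the Picard group laws on X and on C
and that pullback of invertible classes along g is multiplicative. Let G be the quotient of ℤⁿ by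
the subgroup spanned by the vectors ((L_i · Γ_j))_j, i = 1, …, n. Then: (a) an invertible O_X-module
of degree 0 on every Γ_j whose pullback to C is trivial is itself trivial; (b) there is a surjective
homomorphism ψ from Pic(C) (written additively) onto G which sends the class of g^*L, for every
invertible O_X-module L, to the class of the vector ((L · Γ_j))_j, and whose kernel consists exactly
of the classes g^*L with L invertible on X of degree 0 on every Γ_j. In other words 0 → Pic⁰(X) →
Pic(C) → G → 0 is exact, Pic⁰(X) denoting the classes of degree 0 on all components of the closed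
fibre. -/
theorem result
    (R : Type u) [CommRing R] [IsDomain R] [IsDiscreteValuationRing R]
    [IsAdicComplete (IsLocalRing.maximalIdeal R) R] (hk : IsAlgClosed (IsLocalRing.ResidueField R))
    (C : Scheme.{u}) (fC : C ⟶ Spec (CommRingCat.of (FractionRing R))) [IsProper fC] [Smooth fC]
    (hC0 : Models.hRank (FractionRing R) C fC (Coh.structureModule C) 0 = 1)
    (hg2 : 2 ≤ Models.curveGenus (FractionRing R) C fC)
    (X : Scheme.{u}) (p : X ⟶ Spec (CommRingCat.of R)) (hX : Models.IsRegularProperModel R X p C fC)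
    (g : C ⟶ X) (hg : IsPullback g fC p (Spec.map (CommRingCat.ofHom (algebraMap R (FractionRing R)))))
    {n : ℕ} (Γ : Fin n → ArSurf.VertComp R (Over.mk p)) (hΓ : Models.IsComponentList R (Over.mk p) Γ)
    (hgcd : Models.multGcd R (Over.mk p) Γ = 1)
    (LD : Fin n → X.Modules) (hLD : ∀ i, ClSub.IsInverseOf (LD i) (ClSub.idealMod (Γ i).ι.ker))
    [PicGrp.Law X] [PicGrp.Law C] (hgm : PicGrp.PullMul g) :
    (∀ (L : X.Modules) (hL : PicF.IsInvertible L), (∀ j, ArSurf.inter R (Over.mk p) L (Γ j) = 0) →
        PicGrp.pullHom g hgm (PicGrp.cls L hL) = 1 → PicGrp.cls L hL = 1) ∧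
      ∃ ψ : Additive (PicLoc.PicSet C) →+
          ((Fin n → ℤ) ⧸ LinearMap.range (Matrix.mulVecLin
            (Matrix.of fun j i => ArSurf.inter R (Over.mk p) (LD i) (Γ j)))),
        (∀ (L : X.Modules) (hL : PicF.IsInvertible L),
            ψ (Additive.ofMul (PicGrp.pullHom g hgm (PicGrp.cls L hL))) =
              Submodule.Quotient.mk (fun j => ArSurf.inter R (Over.mk p) L (Γ j))) ∧
          Function.Surjective ψ ∧
          (∀ c : PicLoc.PicSet C, ψ (Additive.ofMul c) = 0 →
            ∃ (L : X.Modules) (hL : PicF.IsInvertible L),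
              (∀ j, ArSurf.inter R (Over.mk p) L (Γ j) = 0) ∧ PicGrp.pullHom g hgm (PicGrp.cls L hL) = c) := by
  classical
  haveI := hk
  haveI : HenselianLocalRing R :=
    { is_henselian := fun q hq a₀ h₁ h₂ =>
        HenselianRing.is_henselian (I := IsLocalRing.maximalIdeal R) q hq a₀ h₁ (h₂.map _) }
  obtain rfl : (inferInstance : PicGrp.Law X) = Groth.Abvar.PicCalc.law X := Subsingleton.elim _ _
  obtain rfl : (inferInstance : PicGrp.Law C) = Groth.Abvar.PicCalc.law C := Subsingleton.elim _ _
  obtain ⟨hiso, -⟩ := Groth.ModelsGraphs.CurveOfModel.isIso_appTop fC hC0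
  obtain ⟨S, rfl, rfl⟩ := Groth.ModelsGraphs.InterLattice.exists_sit fC p hiso hX Γ hΓ LD hLD
  haveI := S.proper
  haveI := S.flat
  let pg := Groth.Abvar.PicCalc.pull g
  have hpg : ∀ c, PicGrp.pullHom g hgm c = pg c := fun c => rfl
  choose rep hrep hrepeq using fun c : PicLoc.PicSet X => PicGrp.exists_eq_cls c
  let vec : PicLoc.PicSet X → (Fin n → ℤ) := fun c j => ArSurf.inter R (Over.mk p) (rep c) (S.Γs j)
  have hvec : ∀ (L : X.Modules) (hL : PicF.IsInvertible L),
      vec (PicGrp.cls L hL) = fun j => ArSurf.inter R (Over.mk p) L (S.Γs j) := fun L hL => by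
    funext j
    have e := (Groth.Abvar.PicCalc.nonempty_iso_iff (hrep (PicGrp.cls L hL)) hL).2
      (hrepeq (PicGrp.cls L hL)).symm
    change ArSurf.inter R (Over.mk p) _ (S.Γs j) = _
    rw [Groth.ModelsGraphs.InterForm.δ_eq_inter, Groth.ModelsGraphs.InterForm.δ_eq_inter]
    exact Groth.ModelsGraphs.InterForm.δ_congr (S.Γs j) e.some
  let d : Additive (PicLoc.PicSet X) →+ (Fin n → ℤ) := AddMonoidHom.mk' (fun c => vec c.toMul) fun a b =>
    funext fun j => S.inter_mul (hrep a.toMul) (hrep b.toMul) (hrep (a.toMul * b.toMul))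
      ((hrepeq (a.toMul * b.toMul)).symm.trans (congrArg₂ (· * ·) (hrepeq a.toMul) (hrepeq b.toMul))) j
  have hd : ∀ (L : X.Modules) (hL : PicF.IsInvertible L),
      d (Additive.ofMul (PicGrp.cls L hL)) = fun j => ArSurf.inter R (Over.mk p) L (S.Γs j) := hvec
  let A : Matrix (Fin n) (Fin n) ℤ := Matrix.of fun j i => ArSurf.inter R (Over.mk p) (S.L i) (S.Γs j)
  have hA : ∀ v : Fin n → ℤ, A.mulVecLin v = fun i => ∑ j, ArSurf.inter R (Over.mk p) (S.L j) (S.Γs i) * v j :=
    fun v => funext fun i => rfl
  let φ : Additive (PicLoc.PicSet X) →+ ((Fin n → ℤ) ⧸ LinearMap.range A.mulVecLin) :=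
    (Submodule.mkQ (LinearMap.range A.mulVecLin)).toAddMonoidHom.comp d
  have hsurj : Function.Surjective pg := S.pull_surjective fC g hg
  have hker : pg.toAdditive.ker ≤ φ.ker := by
    intro a ha
    obtain ⟨M, hM, rfl⟩ : ∃ (M : X.Modules) (hM : PicF.IsInvertible M), a = Additive.ofMul (PicGrp.cls M hM) :=
      ⟨_, hrep a.toMul, congrArg Additive.ofMul (hrepeq a.toMul)⟩
    obtain ⟨z, hz⟩ := S.exists_eq_vtw fC g hg hM ha
    change Submodule.Quotient.mk (d (Additive.ofMul (PicGrp.cls M hM))) = 0
    rw [Submodule.Quotient.mk_eq_zero, hd]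
    exact ⟨z, (hA z).trans (funext fun i => (S.inter_eq_sum hM hz i).symm)⟩
  let ψ := AddMonoidHom.liftOfSurjective pg.toAdditive hsurj ⟨φ, hker⟩
  have hψ : ∀ (L : X.Modules) (hL : PicF.IsInvertible L),
      ψ (Additive.ofMul (pg (PicGrp.cls L hL))) =
        Submodule.Quotient.mk (fun j => ArSurf.inter R (Over.mk p) L (S.Γs j)) := fun L hL => by
    refine (AddMonoidHom.liftOfRightInverse_comp_apply pg.toAdditive _ _ ⟨φ, hker⟩
      (Additive.ofMul (PicGrp.cls L hL))).trans ?_
    change Submodule.Quotient.mk (d _) = _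
    rw [hd]
  refine ⟨fun L hL hdeg htriv => ?_, ψ, fun L hL => by rw [hpg]; exact hψ L hL, ?_, fun c hc => ?_⟩
  · rw [hpg] at htriv
    have h := Groth.ModelsGraphs.InterTorsion.pow_gcd_eq_one S fC g hg hL htriv hdeg
    rwa [hgcd, pow_one] at h
  · choose Mi hMi hMi' using fun i => Groth.ModelsGraphs.Transversal.exists_invertible
      (X := Over.mk p) S.reg S.glob S.list i
    intro y
    obtain ⟨v, rfl⟩ := Submodule.Quotient.mk_surjective _ y
    let c : Additive (PicLoc.PicSet X) := ∑ i, v i • Additive.ofMul (PicGrp.cls (Mi i) (hMi i))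
    obtain ⟨M, hM, hc⟩ := PicGrp.exists_eq_cls c.toMul
    refine ⟨Additive.ofMul (pg (PicGrp.cls M hM)), (hψ M hM).trans (congrArg _ ?_)⟩
    rw [← hd M hM, ← hc]
    change d c = v
    funext j
    simp only [c, map_sum, map_zsmul, hd, Finset.sum_apply, Pi.smul_apply, hMi', smul_eq_mul, mul_ite,
      mul_one, mul_zero]
    rw [Finset.sum_ite_eq Finset.univ j v, if_pos (Finset.mem_univ _)]
  · obtain ⟨a, rfl⟩ := hsurj c
    obtain ⟨L, hL, rfl⟩ := PicGrp.exists_eq_cls a
    rw [hψ, Submodule.Quotient.mk_eq_zero] at hc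
    obtain ⟨v, hv⟩ := hc
    obtain ⟨M', hM', hp, hdeg⟩ := (Groth.ModelsGraphs.InterTorsion.degree_zero_lift_iff S fC g hg hL).1
      ⟨v, fun i => congrFun (hv.symm.trans (hA v)) i⟩
    exact ⟨M', hM', hdeg, (hpg _).trans hp⟩

end Groth.Agent.S15406
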