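import Groth.Statements.S15410
import Groth.Agent.S15406
import Groth.Agent.S5797
import Groth.Agent.ModelsGraphs.PicKernel
import Groth.Agent.ModelsGraphs.PicDiv.Proper

set_option autoImplicit false
set_option linter.unusedSimpArgs false
universe u
open CategoryTheory CategoryTheory.Limits AlgebraicGeometry
open Models

open scoped Groth.Abvar.PicCalc
namespace Groth.Agent.S15410

/-- Let R be a complete discrete valuation ring with algebraically closed residue field k and fraction
field K, C a smooth proper curve over K with H⁰(C, O_C) = K and dim_K H¹(C, O_C) ≥ 2, X → Spec R a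
regular proper model of C with generic fibre g : C → X and closed fibre i : X_k = X ×_R Spec k → X,
Γ₁, …, Γ_n the irreducible components of the closed fibre with multiplicities of greatest common
divisor 1, L_i an invertible O_X-module inverse to the ideal sheaf of Γ_i, and q ≥ 1 an integer
which is nonzero in k. Assume the Picard group laws on X, C and X_k with pullback along g and along
i multiplicative, and let G be ℤⁿ modulo the subgroup spanned by the vectors ((L_i · Γ_j))_j. Then:
(a) every homomorphism ψ from Pic(C) (written additively) to G with ψ(g^*L) equal to the class of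
((L · Γ_j))_j for all invertible L on X maps the classes c with c^q = 1 onto the elements γ of G
with qγ = 0, and a class c with c^q = 1 and ψ(c) = 0 is g^*c' for some class c' on X with c'^q = 1;
(b) restriction along i is a bijection from the classes c' on X with c'^q = 1 onto the classes d on
X_k with d^q = 1. That is, 0 → Pic⁰(X_k)[q] → Pic(C)[q] → G[q] → 0 is exact, the q-torsion of Pic(X)
being identified with that of Pic⁰(X_k) by (b) and with that of Pic⁰(X) (q-torsion classes have
degree 0 on every component). -/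
theorem result
    (R : Type u) [CommRing R] [IsDomain R] [IsDiscreteValuationRing R]
    [IsAdicComplete (IsLocalRing.maximalIdeal R) R] (hk : IsAlgClosed (IsLocalRing.ResidueField R))
    (C : Scheme.{u}) (fC : C ⟶ Spec (CommRingCat.of (FractionRing R))) [IsProper fC] [Smooth fC]
    (hC0 : Models.hRank (FractionRing R) C fC (Coh.structureModule C) 0 = 1)
    (hg2 : 2 ≤ Models.curveGenus (FractionRing R) C fC)
    (X : Scheme.{u}) (p : X ⟶ Spec (CommRingCat.of R)) (hX : Models.IsRegularProperModel R X p C fC)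
    (g : C ⟶ X) (hg : IsPullback g fC p (Spec.map (CommRingCat.ofHom (algebraMap R (FractionRing R)))))
    {n : ℕ} (Γ : Fin n → ArSurf.VertComp R (Over.mk p)) (hΓ : Models.IsComponentList R (Over.mk p) Γ)
    (hgcd : Models.multGcd R (Over.mk p) Γ = 1)
    (LD : Fin n → X.Modules) (hLD : ∀ i, ClSub.IsInverseOf (LD i) (ClSub.idealMod (Γ i).ι.ker))
    (q : ℕ) (hq : 1 ≤ q) (hqk : (q : IsLocalRing.ResidueField R) ≠ 0)
    [PicGrp.Law X] [PicGrp.Law C]
    [PicGrp.Law (pullback p (Spec.map (CommRingCat.ofHom (algebraMap R (IsLocalRing.ResidueField R)))))]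
    (hgm : PicGrp.PullMul g)
    (hi : PicGrp.PullMul (pullback.fst p (Spec.map (CommRingCat.ofHom (algebraMap R (IsLocalRing.ResidueField R)))))) :
    (∀ ψ : Additive (PicLoc.PicSet C) →+
          ((Fin n → ℤ) ⧸ LinearMap.range (Matrix.mulVecLin
            (Matrix.of fun j i => ArSurf.inter R (Over.mk p) (LD i) (Γ j)))),
        (∀ (L : X.Modules) (hL : PicF.IsInvertible L),
            ψ (Additive.ofMul (PicGrp.pullHom g hgm (PicGrp.cls L hL))) =
              Submodule.Quotient.mk (fun j => ArSurf.inter R (Over.mk p) L (Γ j))) →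
          (∀ γ : (Fin n → ℤ) ⧸ LinearMap.range (Matrix.mulVecLin
              (Matrix.of fun j i => ArSurf.inter R (Over.mk p) (LD i) (Γ j))),
            q • γ = 0 → ∃ c : PicLoc.PicSet C, c ^ q = 1 ∧ ψ (Additive.ofMul c) = γ) ∧
          (∀ c : PicLoc.PicSet C, c ^ q = 1 → ψ (Additive.ofMul c) = 0 →
            ∃ c' : PicLoc.PicSet X, c' ^ q = 1 ∧ PicGrp.pullHom g hgm c' = c)) ∧
      (∀ d : PicLoc.PicSet (pullback p (Spec.map (CommRingCat.ofHom (algebraMap R (IsLocalRing.ResidueField R))))),
        d ^ q = 1 → ∃! c' : PicLoc.PicSet X, c' ^ q = 1 ∧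
          PicGrp.pullHom (pullback.fst p (Spec.map (CommRingCat.ofHom (algebraMap R (IsLocalRing.ResidueField R))))) hi c' = d) := by
  classical
  haveI := hk
  obtain rfl : (inferInstance : PicGrp.Law X) = Groth.Abvar.PicCalc.law X := Subsingleton.elim _ _
  obtain rfl : (inferInstance : PicGrp.Law C) = Groth.Abvar.PicCalc.law C := Subsingleton.elim _ _
  obtain rfl : (inferInstance : PicGrp.Law (pullback p (Spec.map (CommRingCat.ofHom
      (algebraMap R (IsLocalRing.ResidueField R)))))) = Groth.Abvar.PicCalc.law _ := Subsingleton.elim _ _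
  obtain ⟨hinj, ψ₀, hψ₀, hψsurj, hψker⟩ :=
    Groth.Agent.S15406.result R hk C fC hC0 hg2 X p hX g hg Γ hΓ hgcd LD hLD hgm
  haveI : HenselianLocalRing R :=
    { is_henselian := fun q hq a₀ h₁ h₂ =>
        HenselianRing.is_henselian (I := IsLocalRing.maximalIdeal R) q hq a₀ h₁ (h₂.map _) }
  obtain ⟨hiso, -⟩ := Groth.ModelsGraphs.CurveOfModel.isIso_appTop fC hC0
  obtain ⟨S, rfl, rfl⟩ := Groth.ModelsGraphs.InterLattice.exists_sit fC p hiso hX Γ hΓ LD hLD
  haveI : IsProper p := S.proper
  haveI : Flat p := S.flat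
  haveI : IsProper (Over.mk p).hom := S.proper
  haveI : IsLocallyNoetherian X := LocallyOfFiniteType.isLocallyNoetherian p
  haveI : CompactSpace X := QuasiCompact.compactSpace_of_compactSpace p
  haveI : IsLocallyNoetherian (Over.mk p).left := inferInstanceAs (IsLocallyNoetherian X)
  haveI : CompactSpace (Over.mk p).left := inferInstanceAs (CompactSpace X)
  letI : X.Over (Spec (CommRingCat.of R)) := ⟨p⟩
  haveI : IsProper (X ↘ Spec (CommRingCat.of R)) := inferInstanceAs (IsProper p)
  have hqu : IsUnit (q : R) := by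
    rw [← IsLocalRing.residue_ne_zero_iff_isUnit, map_natCast]
    exact hqk
  let Y := pullback p (Spec.map (CommRingCat.ofHom (algebraMap R (IsLocalRing.ResidueField R))))
  let i : Y ⟶ X := pullback.fst _ _
  let sY : Y ⟶ Spec (CommRingCat.of (IsLocalRing.ResidueField R)) := pullback.snd _ _
  haveI : IsProper sY := MorphismProperty.pullback_snd _ _ ‹IsProper p›
  haveI hicl : IsClosedImmersion i := Groth.ModelsGraphs.PicKernel.isClosedImmersion_fibι R X
  let ι : ULift.{u} (Fin n) → Scheme.{u} := fun j => (S.Γs j.down).curve.left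
  let γι : ∀ j, ι j ⟶ Y := fun j => pullback.lift (S.Γs j.down).ι (S.Γs j.down).curve.hom (S.Γs j.down).w
  have hγ : ∀ j, γι j ≫ i = (S.Γs j.down).ι := fun j => pullback.lift_fst _ _ _
  have hγ2 : ∀ j, γι j ≫ sY = (S.Γs j.down).curve.hom := fun j => pullback.lift_snd _ _ _
  haveI : ∀ j, IsClosedImmersion (γι j) := fun j => by
    haveI : IsClosedImmersion (γι j ≫ i) := (hγ j).symm ▸ (S.Γs j.down).isClosedImmersion
    exact IsClosedImmersion.of_comp (γι j) i
  haveI : ∀ j, IsIntegral (ι j) := fun j => (S.Γs j.down).isIntegral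
  have happ : ∀ j z, i (γι j z) = (S.Γs j.down).ι z := fun j z => congrArg (fun m : ι j ⟶ X => m z) (hγ j)
  have hcov : ∀ y : Y, ∃ j, y ∈ Set.range (γι j) := fun y => by
    have hy : i y ∈ Models.specialFibreSet R (Over.mk p) := by
      change p (i y) = IsLocalRing.closedPoint R
      rw [← Scheme.Hom.comp_apply, pullback.condition, Scheme.Hom.comp_apply]
      exact (congrArg _ (Subsingleton.elim _ (IsLocalRing.closedPoint (IsLocalRing.ResidueField R)))).trans
        (IsLocalRing.comap_closedPoint (IsLocalRing.residue R))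
    obtain ⟨j, hj⟩ := Groth.ModelsGraphs.Inter.exists_specializes S.list hy
    have hmem : i y ∈ Set.range (S.Γs j).ι :=
      hj.mem_closed (S.Γs j).ι.isClosedEmbedding.isClosed_range ⟨_, rfl⟩
    obtain ⟨z, hz⟩ := hmem
    exact ⟨⟨j⟩, z, i.isClosedEmbedding.injective ((happ ⟨j⟩ z).trans hz)⟩
  have hne : ∀ j l, Set.range (γι j) = Set.range (γι l) → j = l := fun j l h => by
    refine ULift.ext j l (S.list.1 ?_)
    have h' := congrArg (Set.image i) h
    rwa [← Set.range_comp, ← Set.range_comp, show (⇑i ∘ ⇑(γι j)) = ⇑(S.Γs j.down).ι from funext (happ j),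
      show (⇑i ∘ ⇑(γι l)) = ⇑(S.Γs l.down).ι from funext (happ l)] at h'
  have hdim : topologicalKrullDim Y ≤ ((1 : ℕ) : WithBot ℕ∞) := by
    rw [Groth.Agent.S5797.result Y (ULift.{u} (Fin n)) (fun j => Set.range (γι j))
      (fun j => (γι j).isClosedEmbedding.isClosed_range)
      (Set.eq_univ_of_forall fun y => Set.mem_iUnion.2 (hcov y))]
    refine iSup_le fun j => ?_
    have h1 := (γι j).isClosedEmbedding.isEmbedding.toHomeomorph.isHomeomorph.topologicalKrullDim_eq
    exact (h1.symm.trans (S.Γs j.down).dim_eq).le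
  -- classes and degrees
  choose rep hrep hrepeq using fun c : PicLoc.PicSet X => PicGrp.exists_eq_cls c
  let vec : PicLoc.PicSet X → (Fin n → ℤ) := fun c j => ArSurf.inter R (Over.mk p) (rep c) (S.Γs j)
  have hvec : ∀ (L : X.Modules) (hL : PicF.IsInvertible L),
      vec (PicGrp.cls L hL) = fun j => ArSurf.inter R (Over.mk p) L (S.Γs j) := fun L hL => by
    funext j
    have e := (Groth.Abvar.PicCalc.nonempty_iso_iff (hrep (PicGrp.cls L hL)) hL).2
      (hrepeq (PicGrp.cls L hL)).symm
    change ArSurf.inter R (Over.mk p) _ (S.Γs j) = _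
    rw [Groth.ModelsGraphs.InterForm.δ_eq_inter, Groth.ModelsGraphs.InterForm.δ_eq_inter]
    exact Groth.ModelsGraphs.InterForm.δ_congr (S.Γs j) e.some
  let dv : Additive (PicLoc.PicSet X) →+ (Fin n → ℤ) := AddMonoidHom.mk' (fun c => vec c.toMul) fun a b =>
    funext fun j => S.inter_mul (hrep a.toMul) (hrep b.toMul) (hrep (a.toMul * b.toMul))
      ((hrepeq (a.toMul * b.toMul)).symm.trans (congrArg₂ (· * ·) (hrepeq a.toMul) (hrepeq b.toMul))) j
  have hpow : ∀ (c : PicLoc.PicSet X) (m : ℕ), vec (c ^ m) = m • vec c := fun c m =>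
    (congrArg dv (ofMul_pow m c)).trans (map_nsmul dv m (Additive.ofMul c))
  have hsurj : Function.Surjective (Groth.Abvar.PicCalc.pull g) := S.pull_surjective fC g hg
  have hii : ∀ c, PicGrp.pullHom i hi c = Groth.Abvar.PicCalc.pull i c := fun c => rfl
  have hker : ∀ c : PicLoc.PicSet X, PicGrp.pullHom i hi c = 1 →
      ∃! d : PicLoc.PicSet X, PicGrp.pullHom i hi d = 1 ∧ d ^ q = c := fun c hc =>
    Groth.ModelsGraphs.PicKernel.existsUnique_root_fib R X hdim q hqu hc
  have hlift : Function.Surjective (PicGrp.pullHom i hi) :=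
    Groth.ModelsGraphs.PicKernel.surjective_fib R X hdim
  -- degree zero classes are powers
  have hroot : ∀ (L : X.Modules) (hL : PicF.IsInvertible L),
      (∀ j, ArSurf.inter R (Over.mk p) L (S.Γs j) = 0) → ∃ d : PicLoc.PicSet X, d ^ q = PicGrp.cls L hL := by
    intro L hL h0
    obtain ⟨d, hd⟩ := Groth.ModelsGraphs.PicDiv.exists_root_of_components (IsLocalRing.ResidueField R) Y sY
      hdim ι γι (fun j => (S.Γs j.down).dim_eq) hcov hne q hqk _ (PicLoc.isInvertible_pullback i hL) fun j => by
        have e : (Scheme.Modules.pullback (γι j)).obj ((Scheme.Modules.pullback i).obj L) ≅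
            (Scheme.Modules.pullback (S.Γs j.down).ι).obj L :=
          (Scheme.Modules.pullbackComp _ _).app L ≪≫ (Scheme.Modules.pullbackCongr (hγ j)).app L
        haveI : IsProper ((S.Γs j.down).curve.left ↘ Spec (CommRingCat.of (IsLocalRing.ResidueField R))) :=
          Groth.ModelsGraphs.InterPair.isProper_hom (X := Over.mk p) (S.Γs j.down)
        have hdj : topologicalKrullDim (S.Γs j.down).curve.left ≤ ((1 : ℕ) : WithBot ℕ∞) :=
          le_of_eq (S.Γs j.down).dim_eq
        have h := h0 j.down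
        rw [hγ2 j]
        change ArSurf.curveDeg (IsLocalRing.ResidueField R) (S.Γs j.down).curve.left _ = 0 at h
        change ArSurf.curveDeg (IsLocalRing.ResidueField R) (S.Γs j.down).curve.left _ = 0
        unfold ArSurf.curveDeg at h ⊢
        rw [Groth.Inter.eulerCharLE_eq _ hdj, Groth.Inter.eulerCharLE_eq _ hdj] at h ⊢
        rw [Groth.EulerDeg.euler_congr _ e]
        exact h
    obtain ⟨d₁, hd₁⟩ := hlift d
    obtain ⟨e, ⟨-, he⟩, -⟩ := hker (PicGrp.cls L hL / d₁ ^ q) (by
      rw [map_div, map_pow, hd₁, hd, hii, Groth.Abvar.PicCalc.pull_cls, div_self'])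
    exact ⟨d₁ * e, by rw [mul_pow, he, mul_div_cancel]⟩
  refine ⟨fun ψ hψ => ⟨fun γ hγ' => ?_, fun c hc hψc => ?_⟩, fun d hd => ?_⟩
  · have hψeq : ∀ c, ψ c = ψ₀ c := fun c => by
      obtain ⟨a, ha⟩ := hsurj c.toMul
      obtain ⟨L, hL, rfl⟩ := PicGrp.exists_eq_cls a
      obtain rfl : c = Additive.ofMul (PicGrp.pullHom g hgm (PicGrp.cls L hL)) :=
        congrArg Additive.ofMul ha.symm
      rw [hψ L hL, hψ₀ L hL]
    obtain ⟨c₀, hc₀⟩ := hψsurj γ
    obtain ⟨L, hL, hdeg, hLc⟩ := hψker ((Additive.toMul c₀ : PicLoc.PicSet C) ^ q) (by rw [ofMul_pow, map_nsmul]; exact (congrArg (q • ·) hc₀).trans hγ')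
    obtain ⟨d, hd⟩ := hroot L hL hdeg
    obtain ⟨M, hM, rfl⟩ := PicGrp.exists_eq_cls d
    refine ⟨(Additive.toMul c₀ : PicLoc.PicSet C) / PicGrp.pullHom g hgm (PicGrp.cls M hM), ?_, ?_⟩
    · rw [div_pow, ← map_pow (PicGrp.pullHom g hgm), hd, hLc, div_self']
    · have h0 : vec (PicGrp.cls M hM) = 0 := by
        have h := hpow (PicGrp.cls M hM) q
        rw [hd, hvec L hL] at h
        funext j
        have hj := congrFun h j
        simp only [Pi.smul_apply, hdeg j] at hj
        exact (smul_eq_zero.1 hj.symm).resolve_left (by omega)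
      rw [ofMul_div, map_sub, hψ M hM, ← hvec M hM, h0, Submodule.Quotient.mk_zero, sub_zero, hψeq]
      exact hc₀
  · have hψeq : ψ₀ (Additive.ofMul c) = 0 := by
      obtain ⟨a, ha⟩ := hsurj c
      obtain ⟨L, hL, rfl⟩ := PicGrp.exists_eq_cls a
      obtain rfl : c = PicGrp.pullHom g hgm (PicGrp.cls L hL) := ha.symm
      rw [hψ₀ L hL, ← hψ L hL]
      exact hψc
    obtain ⟨L, hL, hdeg, rfl⟩ := hψker c hψeq
    refine ⟨PicGrp.cls L hL, ?_, rfl⟩
    obtain ⟨N, hN, hNeq⟩ := PicGrp.exists_eq_cls (PicGrp.cls L hL ^ q)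
    rw [hNeq]
    refine hinj N hN (fun j => ?_) ?_
    · have h := congrFun ((congrArg vec hNeq.symm).trans (hpow _ q)) j
      rw [hvec N hN, Pi.smul_apply, hvec L hL] at h
      simpa [hdeg j] using h
    · rw [← hNeq, map_pow, hc]
  · obtain ⟨d₁, rfl⟩ := hlift d
    obtain ⟨e, ⟨he1, he⟩, -⟩ := hker (d₁ ^ q) (by rw [map_pow, hd])
    refine ⟨d₁ / e, ⟨by rw [div_pow, he, div_self'], by rw [map_div, he1, div_one]⟩, ?_⟩
    rintro c' ⟨hc1, hc2⟩
    have h1 := (hker 1 (map_one _)).unique
      (y₁ := c' / (d₁ / e)) (y₂ := 1)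
      ⟨by rw [map_div, hc2, map_div, he1, div_one, div_self'], by rw [div_pow, hc1, div_pow, he, div_self', div_one]⟩
      ⟨map_one _, one_pow _⟩
    exact div_eq_one.1 h1

end Groth.Agent.S15410
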