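import Groth.Statements.S15411
import Groth.Agent.Misc1.Unip.MultType
import Mathlib.LinearAlgebra.TensorProduct.Tower
import Mathlib.RingTheory.TensorProduct.Free

set_option autoImplicit false
universe u
open scoped TensorProduct
open Hopf

namespace Groth.Agent.S15411

open Groth.Misc1.Unip (incl incl_apply nat nat_tmul comul_incl counit_incl smul_incl)

section Glue

variable {K : Type u} [Field K] {ιv ιe : Type u} [Finite ιv]
  {Kv : ιv → Type u} [∀ i, CommRing (Kv i)] [∀ i, Algebra K (Kv i)]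
  {Ke : ιe → Type u} [∀ k, CommRing (Ke k)] [∀ k, Algebra K (Ke k)]
  {l r : ιe → ιv} {ρl : ∀ k, Kv (l k) →ₐ[K] Ke k} {ρr : ∀ k, Kv (r k) →ₐ[K] Ke k}
  (hlim : ∀ x : (∀ i, Kv i), (∀ k, ρl k (x (l k)) = ρr k (x (r k))) →
      ∃! a : K, ∀ i, algebraMap K (Kv i) a = x i)
  {M : Type u} [AddCommGroup M] [Module K M]

include hlim

theorem glue_injective {m : M} (h : ∀ i, (1 : Kv i) ⊗ₜ[K] m = 0) : m = 0 := by
  refine (Module.forall_dual_apply_eq_zero_iff K m).1 fun φ => ?_
  refine (hlim (fun _ => 0) fun k => by simp).unique (fun i => ?_) fun i => map_zero _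
  have h1 := congrArg ((TensorProduct.rid K (Kv i)).toLinearMap ∘ₗ φ.lTensor (Kv i)) (h i)
  simpa [Algebra.algebraMap_eq_smul_one] using h1

theorem glue_exists (x : ∀ i, Kv i ⊗[K] M)
    (h : ∀ k, (ρl k).toLinearMap.rTensor M (x (l k)) = (ρr k).toLinearMap.rTensor M (x (r k))) :
    ∃ m : M, ∀ i, (1 : Kv i) ⊗ₜ[K] m = x i := by
  classical
  cases nonempty_fintype ιv
  let b := Module.Free.chooseBasis K M
  let co := fun i => TensorProduct.equivFinsuppOfBasisRight (M := Kv i) b
  have hρ : ∀ (k : ιe) (i : ιv) (ρ : Kv i →ₐ[K] Ke k) (z : Kv i ⊗[K] M) (j : Module.Free.ChooseBasisIndex K M),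
      TensorProduct.equivFinsuppOfBasisRight (M := Ke k) b (ρ.toLinearMap.rTensor M z) j = ρ (co i z j) := by
    intro k i ρ z j
    induction z using TensorProduct.induction_on with
    | zero => simp
    | tmul p q => simp [co]
    | add p q hp hq => simp [map_add, hp, hq]
  have hc : ∀ j, ∃! c : K, ∀ i, algebraMap K (Kv i) c = co i (x i) j := fun j =>
    hlim _ fun k => by rw [← hρ, ← hρ, h k]
  choose c hc1 hc2 using hc
  let S := Finset.univ.biUnion fun i => (co i (x i)).support
  refine ⟨∑ j ∈ S, c j • b j, fun i => (co i).injective (Finsupp.ext fun j => ?_)⟩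
  rw [TensorProduct.tmul_sum, map_sum, Finsupp.finsetSum_apply]
  simp only [TensorProduct.tmul_smul, co, TensorProduct.equivFinsuppOfBasisRight_apply_tmul_apply,
    map_smul, Module.Basis.repr_self, Finsupp.smul_apply]
  rw [Finset.sum_eq_single j (fun j' _ hne => by simp [hne]) (fun hj => ?_)]
  · simp only [Finsupp.single_eq_same, one_smul]
    rw [← Algebra.algebraMap_eq_smul_one]
    exact hc1 j i
  · have h0 : c j = 0 := by
      refine (hlim (fun i => co i (x i) j) fun k => by rw [← hρ, ← hρ, h k]).unique (hc1 j) fun i' => ?_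
      rw [map_zero]
      by_contra hne
      exact hj (Finset.mem_biUnion.2 ⟨i', Finset.mem_univ _, Finsupp.mem_support_iff.2 (Ne.symm hne)⟩)
    simp [h0]

theorem exists_bialgHom {A B : Type u} [CommRing A] [CommRing B] [Bialgebra K A] [Bialgebra K B]
    (u : ∀ i, (Kv i ⊗[K] B) →ₐc[Kv i] (Kv i ⊗[K] A))
    (hu : ∀ (k : ιe) (b : B),
      (ρl k).toLinearMap.rTensor A (u (l k) ((1 : Kv (l k)) ⊗ₜ[K] b)) =
        (ρr k).toLinearMap.rTensor A (u (r k) ((1 : Kv (r k)) ⊗ₜ[K] b))) :
    ∃ v : B →ₐc[K] A, ∀ i b, u i ((1 : Kv i) ⊗ₜ[K] b) = (1 : Kv i) ⊗ₜ[K] v b := by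
  choose f hf using fun b => glue_exists hlim (fun i => u i ((1 : Kv i) ⊗ₜ[K] b)) fun k => hu k b
  have hinj : ∀ {a a' : A}, (∀ i, (1 : Kv i) ⊗ₜ[K] a = (1 : Kv i) ⊗ₜ[K] a') → a = a' := fun {a a'} h =>
    sub_eq_zero.1 (glue_injective hlim fun i => by rw [TensorProduct.tmul_sub, h i, sub_self])
  let F : B →ₐ[K] A :=
    { toFun := f
      map_one' := hinj fun i => by rw [hf, ← Algebra.TensorProduct.one_def, map_one, Algebra.TensorProduct.one_def]
      map_mul' := fun x y => hinj fun i => by
        rw [hf, show (1 : Kv i) ⊗ₜ[K] (f x * f y) = ((1 : Kv i) ⊗ₜ[K] f x) * ((1 : Kv i) ⊗ₜ[K] f y) by simp,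
          hf, hf, ← map_mul]
        simp
      map_zero' := hinj fun i => by rw [hf, TensorProduct.tmul_zero, map_zero, TensorProduct.tmul_zero]
      map_add' := fun x y => hinj fun i => by
        rw [TensorProduct.tmul_add, hf, hf, hf, ← map_add, TensorProduct.tmul_add]
      commutes' := fun c => hinj fun i => by
        have e : ∀ C : Type u, ∀ [CommRing C] [Algebra K C], (1 : Kv i) ⊗ₜ[K] algebraMap K C c =
            algebraMap K (Kv i) c • (1 : Kv i ⊗[K] C) := by
          intro C _ _
          rw [Algebra.TensorProduct.one_def, TensorProduct.smul_tmul', algebraMap_smul,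
            TensorProduct.smul_tmul, Algebra.algebraMap_eq_smul_one]
        rw [hf, e, map_smul, map_one, ← e] }
  have hF : ∀ i b, u i (incl (k := K) (Kv i) b) = incl (k := K) (Kv i) (F b) := fun i b => (hf b i).symm
  refine ⟨BialgHom.ofAlgHom F (AlgHom.ext fun b => ?_) (AlgHom.ext fun b => ?_), fun i b => (hf b i).symm⟩
  · change Coalgebra.counit (R := K) (F b) = Coalgebra.counit (R := K) b
    refine (hlim (fun i => algebraMap K (Kv i) (Coalgebra.counit (R := K) b)) fun k => by simp).unique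
      (fun i => ?_) fun i => rfl
    rw [← counit_incl, ← counit_incl, ← hF, CoalgHomClass.counit_comp_apply (u i)]
  · refine sub_eq_zero.1 (glue_injective hlim fun i => ?_)
    apply (TensorProduct.AlgebraTensorModule.distribBaseChange K (Kv i) A A).injective
    have e : ∀ z : A ⊗[K] A,
        TensorProduct.AlgebraTensorModule.distribBaseChange K (Kv i) A A ((1 : Kv i) ⊗ₜ z) = nat K (Kv i) A z := by
      intro z
      induction z using TensorProduct.induction_on with
      | zero => simp
      | tmul p q => simp [nat_tmul, incl_apply]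
      | add p q hp hq => simp only [TensorProduct.tmul_add, map_add, hp, hq]
    rw [map_zero, e, map_sub, sub_eq_zero]
    change nat K (Kv i) A (Algebra.TensorProduct.map F F (Coalgebra.comul (R := K) b)) =
      nat K (Kv i) A (Coalgebra.comul (R := K) (F b))
    rw [← comul_incl, ← hF, ← CoalgHomClass.map_comp_comul_apply (u i), comul_incl]
    generalize Coalgebra.comul (R := K) b = z
    induction z using TensorProduct.induction_on with
    | zero => simp
    | tmul p q => simp [nat_tmul, hF]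
    | add p q hp hq => simp only [map_add, hp, hq]

end Glue

/-- compatibility passes to the inverse isomorphisms -/
theorem symm_compat {K : Type u} [Field K] {A B : Type u} [CommRing A] [CommRing B] [Bialgebra K A]
    [Bialgebra K B] {S T E : Type u} [CommRing S] [Algebra K S] [CommRing T] [Algebra K T] [CommRing E] [Algebra K E]
    (σ : S →ₐ[K] E) (τ : T →ₐ[K] E) (u : (S ⊗[K] B) ≃ₐc[S] (S ⊗[K] A)) (u' : (T ⊗[K] B) ≃ₐc[T] (T ⊗[K] A))
    (h : ∀ b, σ.toLinearMap.rTensor A (u ((1 : S) ⊗ₜ[K] b)) = τ.toLinearMap.rTensor A (u' ((1 : T) ⊗ₜ[K] b)))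
    (a : A) : σ.toLinearMap.rTensor B (u.symm ((1 : S) ⊗ₜ[K] a)) =
      τ.toLinearMap.rTensor B (u'.symm ((1 : T) ⊗ₜ[K] a)) := by
  have hsemi : ∀ {R M : Type u} [CommRing R] [Algebra K R] [AddCommGroup M] [Module K M] (ρ : R →ₐ[K] E)
      (c : R) (z : R ⊗[K] M), ρ.toLinearMap.rTensor M (c • z) = ρ c • ρ.toLinearMap.rTensor M z := by
    intro R M _ _ _ _ ρ c z
    induction z using TensorProduct.induction_on with
    | zero => simp
    | tmul p q => simp [TensorProduct.smul_tmul']
    | add p q hp hq => simp only [smul_add, map_add, hp, hq]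
  let ext := fun {R C D : Type u} [CommRing R] [Algebra K R] [CommRing C] [CommRing D] [Bialgebra K C]
    [Bialgebra K D] (ρ : R →ₐ[K] E) (w : (R ⊗[K] C) ≃ₐc[R] (R ⊗[K] D)) =>
      LinearMap.liftBaseChange E (ρ.toLinearMap.rTensor D ∘ₗ
        ((w : R ⊗[K] C →ₗ[R] R ⊗[K] D).restrictScalars K ∘ₗ (TensorProduct.mk K R C 1)))
  have key : ∀ {R C D : Type u} [CommRing R] [Algebra K R] [CommRing C] [CommRing D] [Bialgebra K C]
      [Bialgebra K D] (ρ : R →ₐ[K] E) (w : (R ⊗[K] C) ≃ₐc[R] (R ⊗[K] D)) (z : R ⊗[K] C),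
      ext ρ w (ρ.toLinearMap.rTensor C z) = ρ.toLinearMap.rTensor D (w z) := by
    intro R C D _ _ _ _ _ _ ρ w z
    induction z using TensorProduct.induction_on with
    | zero => simp
    | add p q hp hq => simp only [map_add, hp, hq]
    | tmul p q =>
      rw [show p ⊗ₜ[K] q = p • ((1 : R) ⊗ₜ[K] q) by simp [TensorProduct.smul_tmul'], hsemi, map_smul,
        map_smul, hsemi]
      congr 1
      simp [ext]
  have inv : ∀ {R C D : Type u} [CommRing R] [Algebra K R] [CommRing C] [CommRing D] [Bialgebra K C]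
      [Bialgebra K D] (ρ : R →ₐ[K] E) (w : (R ⊗[K] C) ≃ₐc[R] (R ⊗[K] D)) (z : E ⊗[K] C),
      ext ρ w.symm (ext ρ w z) = z := by
    intro R C D _ _ _ _ _ _ ρ w z
    induction z using TensorProduct.induction_on with
    | zero => simp
    | add p q hp hq => simp only [map_add, hp, hq]
    | tmul p q =>
      rw [show p ⊗ₜ[K] q = p • ρ.toLinearMap.rTensor C ((1 : R) ⊗ₜ[K] q) by simp [TensorProduct.smul_tmul'],
        map_smul, map_smul, key, key, BialgEquiv.symm_apply_apply]
  have hU : ext σ u = ext τ u' := by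
    refine LinearMap.ext fun z => ?_
    induction z using TensorProduct.induction_on with
    | zero => simp
    | add p q hp hq => simp only [map_add, hp, hq]
    | tmul p q => simp [ext, h q]
  have e1 := key σ u.symm ((1 : S) ⊗ₜ[K] a)
  have e2 := key τ u'.symm ((1 : T) ⊗ₜ[K] a)
  simp only [LinearMap.rTensor_tmul, AlgHom.toLinearMap_apply, map_one] at e1 e2
  rw [← e1, ← e2, ← inv σ u (ext τ u'.symm ((1 : E) ⊗ₜ[K] a)), hU]
  congr 1
  exact (inv τ u'.symm _).symm

/-- Let K be a field and let finitely many commutative K-algebras be given in two layers, K_i for each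
vertex i and K_k for each edge k, with K-algebra maps from K_{l k} and from K_{r k} into K_k for
every edge k, such that K is the equalizer of the system: every family (x_i) whose two images in K_k
agree for every k comes from exactly one element of K. Let A and B be commutative K-bialgebras
(coordinate rings of affine group or monoid schemes over K) and let u_i : K_i ⊗ B ≅ K_i ⊗ A be
isomorphisms of K_i-bialgebras such that, for every edge k, the base changes of u_{l k} and u_{r k}
to K_k agree. Then there is exactly one isomorphism of K-bialgebras v : B ≅ A inducing every u_i,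
that is with u_i (1 ⊗ b) = 1 ⊗ v b. (The published statement is for the system obtained from a
finite inverse factorization system of fields by base change to a finite separable extension K, and
for linear algebraic groups; this row keeps from that setting only what the argument uses: K is a
field and is the equalizer of the finite system, and the group schemes are affine.) -/
theorem result
    (K : Type u) [Field K] (ιv ιe : Type u) [Finite ιv] [Finite ιe]
    (Kv : ιv → Type u) [∀ i, CommRing (Kv i)] [∀ i, Algebra K (Kv i)]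
    (Ke : ιe → Type u) [∀ k, CommRing (Ke k)] [∀ k, Algebra K (Ke k)]
    (l r : ιe → ιv) (ρl : ∀ k, Kv (l k) →ₐ[K] Ke k) (ρr : ∀ k, Kv (r k) →ₐ[K] Ke k)
    (hlim : ∀ x : (∀ i, Kv i), (∀ k, ρl k (x (l k)) = ρr k (x (r k))) →
      ∃! a : K, ∀ i, algebraMap K (Kv i) a = x i)
    (A B : Type u) [CommRing A] [CommRing B] [Bialgebra K A] [Bialgebra K B]
    (u : ∀ i, (Kv i ⊗[K] B) ≃ₐc[Kv i] (Kv i ⊗[K] A))
    (hu : ∀ (k : ιe) (b : B),
      Algebra.TensorProduct.map (ρl k) (AlgHom.id K A) (u (l k) (1 ⊗ₜ[K] b)) =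
        Algebra.TensorProduct.map (ρr k) (AlgHom.id K A) (u (r k) (1 ⊗ₜ[K] b))) :
    ∃! v : B ≃ₐc[K] A, ∀ (i : ιv) (b : B), u i (1 ⊗ₜ[K] b) = 1 ⊗ₜ[K] v b := by
  have hu' : ∀ (k : ιe) (b : B), (ρl k).toLinearMap.rTensor A (u (l k) ((1 : Kv (l k)) ⊗ₜ[K] b)) =
      (ρr k).toLinearMap.rTensor A (u (r k) ((1 : Kv (r k)) ⊗ₜ[K] b)) := fun k b => by
    have e : ∀ (i : ιv) (ρ : Kv i →ₐ[K] Ke k) (z : Kv i ⊗[K] A),
        Algebra.TensorProduct.map ρ (AlgHom.id K A) z = ρ.toLinearMap.rTensor A z := fun i ρ z => rfl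
    rw [← e, ← e]
    exact hu k b
  obtain ⟨v, hv⟩ := exists_bialgHom hlim (fun i => ((u i) : Kv i ⊗[K] B →ₐc[Kv i] Kv i ⊗[K] A)) hu'
  obtain ⟨w, hw⟩ := exists_bialgHom hlim (fun i => ((u i).symm : Kv i ⊗[K] A →ₐc[Kv i] Kv i ⊗[K] B))
    fun k a => symm_compat (ρl k) (ρr k) (u (l k)) (u (r k)) (hu' k) a
  replace hv : ∀ i b, u i ((1 : Kv i) ⊗ₜ[K] b) = (1 : Kv i) ⊗ₜ[K] v b := hv
  replace hw : ∀ i a, (u i).symm ((1 : Kv i) ⊗ₜ[K] a) = (1 : Kv i) ⊗ₜ[K] w a := hw
  have hbij : Function.Bijective v := by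
    refine Function.bijective_iff_has_inverse.2 ⟨w, fun b => ?_, fun a => ?_⟩
    · refine sub_eq_zero.1 (glue_injective hlim fun i => ?_)
      rw [TensorProduct.tmul_sub, ← hw, ← hv, BialgEquiv.symm_apply_apply, sub_self]
    · refine sub_eq_zero.1 (glue_injective hlim fun i => ?_)
      rw [TensorProduct.tmul_sub, ← hv, ← hw, BialgEquiv.apply_symm_apply, sub_self]
  refine ⟨BialgEquiv.ofBijective v hbij, fun i b => hv i b, fun v' hv' => BialgEquiv.ext fun b => ?_⟩
  refine sub_eq_zero.1 (glue_injective hlim fun i => ?_)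
  rw [TensorProduct.tmul_sub, ← hv', sub_eq_zero]
  exact hv i b

end Groth.Agent.S15411
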