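import Groth.Statements.S15412
import Mathlib.Tactic
-- import your own Groth.Agent.* helpers here

set_option autoImplicit false
universe w v u
open CategoryTheory Opposite
open Bitors

namespace Groth.Agent.S15412

/-- On a site, let G and H be sheaves of groups and P a sheaf of sets with a left G-action which is
simply transitive on every set of sections P(U). The right H-actions on P that are compatible with
restriction, commute with the G-action and are simply transitive on every P(U) (for P a G-torsor:
the structures of (G, H)-bitorsor on P) correspond exactly to the families of group isomorphisms φ_p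
: H(U) ≃ G(U), one for each section p of P over each U, compatible with restriction and with φ_{g·p}
= g φ_p g⁻¹ (the equivariant maps from P to the sheaf of isomorphisms from H to G); the
correspondence is the rule p · h = φ_p(h) · p, and the statement is that every right structure
arises by this rule from exactly one family and every family from exactly one right structure. (The
published statement takes P a left G-torsor; only the simple transitivity of the G-action on
sections enters, so local existence of sections is not assumed.) -/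
theorem result
    {C : Type u} [Category.{v} C] {J : GrothendieckTopology C}
    (G H : Sheaf J GrpCat.{w}) (P : NonAbH1.GSheaf G) (hP : P.IsPseudoTorsor) :
    (∀ ρ : Bitors.RightStr P H, ∃! φ : Bitors.IsomFamily P H,
        ∀ (U : Cᵒᵖ) (p : P.P.obj.obj U) (h : H.obj.obj U), ρ.rsmul p h = P.smul (φ.φ p h) p) ∧
    (∀ φ : Bitors.IsomFamily P H, ∃! ρ : Bitors.RightStr P H,
        ∀ (U : Cᵒᵖ) (p : P.P.obj.obj U) (h : H.obj.obj U), ρ.rsmul p h = P.smul (φ.φ p h) p) := by
  refine ⟨fun ρ => ?_, fun φ => ?_⟩
  · choose f hf hf' using fun (U : Cᵒᵖ) (p : P.P.obj.obj U) (h : H.obj.obj U) => hP U p (ρ.rsmul p h)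
    have hmul : ∀ (U : Cᵒᵖ) (p : P.P.obj.obj U) (h h' : H.obj.obj U),
        f U p (h * h') = f U p h * f U p h' := by
      intro U p h h'
      refine (hf' U p (h * h') _ ?_).symm
      show P.smul (f U p h * f U p h') p = _
      rw [P.mul_smul, hf, ← ρ.smul_rsmul, hf, ρ.rsmul_mul]
    have hbij : ∀ (U : Cᵒᵖ) (p : P.P.obj.obj U), Function.Bijective (f U p) := by
      refine fun U p => ⟨fun a b h => ?_, fun g => ?_⟩
      · refine (ρ.existsUnique_rsmul p (ρ.rsmul p a)).unique rfl ?_
        rw [← hf U p b, ← h, hf U p a]
      · obtain ⟨h, hh, -⟩ := ρ.existsUnique_rsmul p (P.smul g p)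
        exact ⟨h, (hf' U p h g hh.symm).symm⟩
    refine ⟨⟨fun {U} p => MulEquiv.mk' (Equiv.ofBijective _ (hbij U p)) (hmul U p), ?_, ?_⟩,
      fun U p h => (hf U p h).symm, ?_⟩
    · intro U V i p h
      refine hf' V _ _ _ ?_
      show P.smul (G.obj.map i (f U p h)) (P.P.obj.map i p) = _
      rw [← P.map_smul, hf, ρ.map_rsmul]
    · intro U g p h
      refine (hf' U (P.smul g p) h _ ?_).symm
      show P.smul (g * f U p h * g⁻¹) (P.smul g p) = _
      rw [← P.mul_smul, inv_mul_cancel_right, P.mul_smul, hf, ρ.smul_rsmul]
    · rintro ⟨φ, h1, h2⟩ hφ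
      congr 1
      funext U p
      exact MulEquiv.ext fun h => hf' U p h _ (hφ U p h).symm
  · refine ⟨⟨fun {U} p h => P.smul (φ.φ p h) p, ?_, ?_, ?_, ?_, ?_⟩, fun U p h => rfl, ?_⟩
    · intro U p; rw [map_one, P.one_smul]
    · intro U p h h'
      rw [← P.mul_smul, φ.φ_smul, inv_mul_cancel_right, map_mul]
    · intro U V i p h; rw [P.map_smul, φ.map_φ]
    · intro U g p h; rw [φ.φ_smul, ← P.mul_smul, ← P.mul_smul, inv_mul_cancel_right]
    · intro U p q
      obtain ⟨g, hg, hu⟩ := hP U p q
      refine ⟨(φ.φ p).symm g, by simpa using hg, fun h hh => ?_⟩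
      rw [MulEquiv.eq_symm_apply]; exact hu _ hh
    · rintro ⟨r, a, b, c, d, e⟩ hr
      congr 1
      funext U p h
      exact hr U p h

end Groth.Agent.S15412
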