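import Groth.Statements.S15415
import Groth.Agent.CSA.RedNorm
import Groth.Agent.CSA.SimpleModules
import Groth.Agent.CSA.Index
import Groth.Agent.GaloisBrauer.Descent

set_option autoImplicit false
universe u v w
open scoped TensorProduct
attribute [local instance] CSAGal.tensorAction GpH1.unitsAction
open GalCoh

namespace Groth.Agent.S15415

open MulOpposite

variable (k : Type u) (K : Type v) (A : Type w) [Field k] [Field K] [Algebra k K] [FiniteDimensional k K]
  [IsGalois k K] [Ring A] [Algebra k A]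

theorem smul_smul_distrib (σ : K ≃ₐ[k] K) (c : K) (x : K ⊗[k] A) : σ • (c • x) = σ c • σ • x := by
  induction x using TensorProduct.induction_on with
  | zero => simp
  | tmul d a =>
    rw [TensorProduct.smul_tmul' c d a, TensorProduct.smul_tmul', TensorProduct.smul_tmul',
      TensorProduct.smul_tmul']
    show (σ (c * d)) ⊗ₜ[k] a = (σ c * σ d) ⊗ₜ[k] a
    rw [map_mul]
  | add p q hp hq => simp only [smul_add, hp, hq]

theorem smul_one_tmul (σ : K ≃ₐ[k] K) (a : A) : σ • ((1 : K) ⊗ₜ[k] a) = 1 ⊗ₜ a := by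
  rw [TensorProduct.smul_tmul']
  show σ 1 ⊗ₜ[k] a = _
  rw [map_one]

variable [Algebra.IsCentral k A] [IsSimpleRing A] [FiniteDimensional k A]

/-- Hilbert 90 for the units of `K ⊗ A`. -/
theorem exists_coboundary (a : GpH1.OneCocycle (K ≃ₐ[k] K) (K ⊗[k] A)ˣ) :
    ∃ b : (K ⊗[k] A)ˣ, ∀ σ : K ≃ₐ[k] K, a σ = b⁻¹ * σ • b := by
  let T : (K ≃ₐ[k] K) → (K ⊗[k] A) →+ (K ⊗[k] A) := fun σ =>
    { toFun := fun x => (a σ : K ⊗[k] A) * σ • x
      map_zero' := by rw [smul_zero, mul_zero]
      map_add' := fun x y => by rw [smul_add, mul_add] }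
  have ha1 : a 1 = 1 := by
    have h := a.2 1 1
    rw [one_mul, one_smul] at h
    exact left_eq_mul.1 h
  have h1 : ∀ x, T 1 x = x := fun x => by
    show (a 1 : K ⊗[k] A) * (1 : K ≃ₐ[k] K) • x = x
    rw [ha1, one_smul, Units.val_one, one_mul]
  have hmul : ∀ σ τ x, T (σ * τ) x = T σ (T τ x) := fun σ τ x => by
    show (a (σ * τ) : K ⊗[k] A) * (σ * τ) • x = (a σ : K ⊗[k] A) * σ • ((a τ : K ⊗[k] A) * τ • x)
    rw [a.2 σ τ, Units.val_mul, smul_mul', mul_smul, mul_assoc]
    rfl
  have hsemi : ∀ σ (c : K) x, T σ (c • x) = σ c • T σ x := fun σ c x => by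
    show (a σ : K ⊗[k] A) * σ • (c • x) = σ c • ((a σ : K ⊗[k] A) * σ • x)
    rw [smul_smul_distrib, mul_smul_comm]
  letI : Module Aᵐᵒᵖ (K ⊗[k] A) :=
    { smul := fun r x => x * (1 : K) ⊗ₜ[k] r.unop
      one_smul := fun x => by
        show x * (1 : K) ⊗ₜ[k] (1 : A) = x
        rw [← Algebra.TensorProduct.one_def, mul_one]
      mul_smul := fun r s x => by
        show x * (1 : K) ⊗ₜ[k] (s.unop * r.unop) = x * (1 : K) ⊗ₜ[k] s.unop * (1 : K) ⊗ₜ[k] r.unop
        rw [mul_assoc, Algebra.TensorProduct.tmul_mul_tmul, one_mul]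
      smul_zero := fun r => zero_mul _
      smul_add := fun r x y => add_mul x y _
      add_smul := fun r s x => by
        show x * (1 : K) ⊗ₜ[k] (r.unop + s.unop) = _
        rw [TensorProduct.tmul_add, mul_add]
        rfl
      zero_smul := fun x => by
        show x * (1 : K) ⊗ₜ[k] (0 : A) = 0
        rw [TensorProduct.tmul_zero, mul_zero] }
  have : IsScalarTower k Aᵐᵒᵖ (K ⊗[k] A) := ⟨fun r s x => by
    show x * (1 : K) ⊗ₜ[k] (r • s.unop) = r • (x * (1 : K) ⊗ₜ[k] s.unop)
    rw [TensorProduct.tmul_smul, mul_smul_comm]⟩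
  let W : Submodule Aᵐᵒᵖ (K ⊗[k] A) :=
    { carrier := {x | ∀ σ, T σ x = x}
      zero_mem' := fun σ => map_zero _
      add_mem' := fun hv hw σ => by rw [map_add, hv σ, hw σ]
      smul_mem' := fun r v hv σ => by
        show (a σ : K ⊗[k] A) * σ • (v * (1 : K) ⊗ₜ[k] r.unop) = v * (1 : K) ⊗ₜ[k] r.unop
        rw [smul_mul', smul_one_tmul, ← mul_assoc]
        exact congrArg (· * _) (hv σ) }
  have hbij := Groth.GaloisBrauer.liftBaseChange_bijective T h1 hmul hsemi
    (W.restrictScalars k).subtype Subtype.val_injective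
    fun x => ⟨by rintro ⟨y, rfl⟩; exact y.2, fun h => ⟨⟨x, h⟩, rfl⟩⟩
  have hfd : FiniteDimensional k W :=
    Module.Finite.of_injective (W.restrictScalars k).subtype Subtype.val_injective
  have hrank : Module.finrank k W = Module.finrank k (ULift.{v} A) := by
    have h := (LinearEquiv.ofBijective ((W.restrictScalars k).subtype.liftBaseChange K) hbij).finrank_eq
    rw [Module.finrank_baseChange, Module.finrank_baseChange] at h
    exact h.trans ULift.moduleEquiv.symm.finrank_eq
  obtain ⟨e⟩ := Groth.CSA.nonempty_linearEquiv_of_finrank_eq k Aᵐᵒᵖ W (ULift.{v} A) hrank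
  let w : K ⊗[k] A := (e.symm ⟨1⟩ : W)
  have hw : ∀ x : W, (x : K ⊗[k] A) = w * (1 : K) ⊗ₜ[k] (e x).down := by
    intro x
    have h : x = op (e x).down • e.symm ⟨1⟩ := by
      apply e.injective
      rw [map_smul, e.apply_symm_apply]
      refine ULift.ext ?_ ?_ ?_
      show (e x).down = op (e x).down • (1 : A)
      rw [op_smul_eq_mul, one_mul]
    exact congrArg Subtype.val h
  have hsurj : Function.Surjective fun y : K ⊗[k] A => w * y := by
    have hr : LinearMap.range ((W.restrictScalars k).subtype.liftBaseChange K) ≤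
        LinearMap.range (LinearMap.mulLeft K w) := by
      rw [LinearMap.range_liftBaseChange, Submodule.span_le]
      rintro x ⟨y, rfl⟩
      exact ⟨_, (hw y).symm⟩
    intro y
    exact hr (by rw [LinearMap.range_eq_top.2 hbij.2]; trivial)
  have : IsArtinianRing (K ⊗[k] A) := IsArtinianRing.of_finite K _
  obtain ⟨v, hv⟩ := hsurj 1
  obtain ⟨wu, hwu⟩ := IsUnit.of_mul_eq_one (a := w) v hv
  refine ⟨wu⁻¹, fun σ => ?_⟩
  have hT : (a σ : K ⊗[k] A) * σ • w = w := (e.symm ⟨1⟩).2 σ
  have hu : a σ * σ • wu = wu := Units.ext (by rw [← hwu] at hT; exact hT)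
  rw [inv_inv, smul_inv']
  exact eq_mul_inv_of_mul_eq hu

theorem exists_of_fixed_unit (z : (K ⊗[k] A)ˣ) (hz : ∀ σ : K ≃ₐ[k] K, σ • z = z) :
    ∃ x : Aˣ, (z : K ⊗[k] A) = 1 ⊗ₜ (x : A) := by
  obtain ⟨x, hx⟩ := Groth.GaloisBrauer.exists_tmul_of_fixed (z : K ⊗[k] A) fun σ => congrArg Units.val (hz σ)
  have hu : IsUnit x := Groth.CSA.isUnit_of_isUnit_map k
    (Algebra.TensorProduct.includeRight (R := k) (A := K) (B := A)).toRingHom
    Groth.GaloisBrauer.one_tmul_injective (hx ▸ z.isUnit : IsUnit ((1 : K) ⊗ₜ[k] x))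
  exact ⟨hu.unit, hx⟩

/-- For a central simple algebra over a field, the first Galois cohomology set of its norm-one group is
identified with the nonzero scalars modulo the reduced norms of units, by the boundary map of the
sequence norm-one units → units → nonzero scalars. Finite-level form: let k be a field, K a finite
Galois extension of k whose Galois group acts on K ⊗_k A through the first factor, A a
finite-dimensional central simple k-algebra split by K, N the reduced norm of A over k and N_K the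
reduced norm of K ⊗_k A over K. Then (i) every 1-cocycle a with values in the units of K ⊗_k A of
reduced norm one is of the form a σ = b⁻¹ · σ(b) for a unit b whose reduced norm is an element c of
kˣ; and (ii) for units b, b' of K ⊗_k A with reduced norms c, c' in kˣ, the cocycles σ ↦ b⁻¹σ(b) and
σ ↦ b'⁻¹σ(b') are cohomologous through a unit of reduced norm one if and only if c' = N(x) · c for
some unit x of A. (Since K splits A the reduced norm N_K takes every value in kˣ, so (i) and (ii)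
say that c ↦ class of b⁻¹σ(b), N_K b = c, is a well-defined bijection from kˣ/N(Aˣ) onto the
cohomology set of the norm-one units. The published statement is for the absolute Galois group of a
field of characteristic different from 2, an assumption playing no role here; this row is the
finite-level form over a splitting field.) -/
theorem result
    (k : Type u) [Field k] (K : Type v) [Field K] [Algebra k K] [FiniteDimensional k K] [IsGalois k K]
    (A : Type w) [Ring A] [Algebra k A] [Algebra.IsCentral k A] [IsSimpleRing A] [FiniteDimensional k A]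
    (hA : Curves.Splits k A K)
    (N : A →* k) (hN : CSAGal.IsRedNorm k A N)
    (NK : (K ⊗[k] A) →* K) (hNK : CSAGal.IsRedNorm K (K ⊗[k] A) NK) :
    (∀ a : GpH1.OneCocycle (K ≃ₐ[k] K) (K ⊗[k] A)ˣ, (∀ σ, NK (a σ : K ⊗[k] A) = 1) →
        ∃ (c : kˣ) (b : (K ⊗[k] A)ˣ), NK (b : K ⊗[k] A) = algebraMap k K (c : k) ∧
          ∀ σ : K ≃ₐ[k] K, a σ = b⁻¹ * σ • b) ∧
    (∀ (c c' : kˣ) (b b' : (K ⊗[k] A)ˣ),
        NK (b : K ⊗[k] A) = algebraMap k K (c : k) → NK (b' : K ⊗[k] A) = algebraMap k K (c' : k) →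
        ((∃ s : (K ⊗[k] A)ˣ, NK (s : K ⊗[k] A) = 1 ∧
            ∀ σ : K ≃ₐ[k] K, b'⁻¹ * σ • b' = s⁻¹ * (b⁻¹ * σ • b) * σ • s) ↔
          ∃ x : Aˣ, (c' : k) = N (x : A) * (c : k))) := by
  obtain ⟨n, hn, ⟨φ⟩⟩ := hA
  have := Groth.CSA.isCentral_baseChange k A K
  have := Groth.CSA.isSimpleRing_baseChange k A K
  have hd' : Module.finrank K (K ⊗[k] A) = Fintype.card (Fin n) ^ 2 := by
    rw [φ.toLinearEquiv.finrank_eq, Module.finrank_matrix, Module.finrank_self, mul_one, sq]
  have hNK' : ∀ x, NK x = (φ x).det := fun x =>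
    Groth.CSA.redNorm_eq_det hNK φ.toAlgHom hd' x
  have hN' : ∀ x : A, algebraMap k K (N x) = NK (1 ⊗ₜ x) := fun x => by
    rw [hNK']
    exact Groth.CSA.redNorm_eq_det hN (Groth.CSA.splitRep k K φ)
      (by rw [← Module.finrank_baseChange (R := K), hd']) x
  have hequiv : ∀ (σ : K ≃ₐ[k] K) (x : K ⊗[k] A), NK (σ • x) = σ (NK x) := by
    intro σ x
    let f : K ⊗[k] A →ₐ[K] Matrix (Fin n) (Fin n) K :=
      { toFun := fun y => (φ (σ⁻¹ • y)).map σ
        map_one' := by
          rw [smul_one, map_one]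
          exact Matrix.map_one _ (map_zero σ) (map_one σ)
        map_mul' := fun y z => by
          rw [smul_mul', map_mul]
          exact Matrix.map_mul
        map_zero' := by
          rw [smul_zero, map_zero]
          exact Matrix.map_zero _ (map_zero σ)
        map_add' := fun y z => by
          rw [smul_add, map_add]
          exact Matrix.map_add _ (map_add σ) _ _
        commutes' := fun c => by
          rw [Algebra.algebraMap_eq_smul_one, smul_smul_distrib, smul_one, map_smul, map_one,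
            Algebra.algebraMap_eq_smul_one]
          ext i j
          simp [Matrix.one_apply, apply_ite σ] }
    have h := Groth.CSA.redNorm_eq_det hNK f hd' (σ • x)
    change _ = ((φ (σ⁻¹ • σ • x)).map σ).det at h
    rw [inv_smul_smul] at h
    rw [hNK' x]
    exact h.trans (AlgHom.map_det σ.toAlgHom (φ x)).symm
  have hne : ∀ b : (K ⊗[k] A)ˣ, NK (b : K ⊗[k] A) ≠ 0 := fun b => (b.isUnit.map NK).ne_zero
  refine ⟨fun a ha => ?_, fun c c' b b' hb hb' => ⟨?_, ?_⟩⟩
  · obtain ⟨b, hb⟩ := exists_coboundary k K A a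
    obtain ⟨c, hc⟩ := (IsGalois.mem_range_algebraMap_iff_fixed (F := k) (NK (b : K ⊗[k] A))).2 fun σ => by
      have h := ha σ
      rw [hb σ, Units.val_mul, map_mul] at h
      have h' : NK (b : K ⊗[k] A) * NK (↑b⁻¹ : K ⊗[k] A) = 1 := by rw [← map_mul, Units.mul_inv, map_one]
      rw [← hequiv]
      calc NK (σ • (b : K ⊗[k] A)) = NK (b : K ⊗[k] A) * NK (↑b⁻¹ : K ⊗[k] A) * NK (↑(σ • b) : K ⊗[k] A) := by
            rw [h', one_mul]; rfl
        _ = NK (b : K ⊗[k] A) := by rw [mul_assoc, h, mul_one]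
    have hc0 : c ≠ 0 := fun h0 => hne b (by rw [← hc, h0, map_zero])
    exact ⟨Units.mk0 c hc0, b, hc.symm, hb⟩
  · rintro ⟨s, hs, hrel⟩
    obtain ⟨x, hx⟩ := exists_of_fixed_unit k K A (b' * (b * s)⁻¹) fun σ => by
      have e : b'⁻¹ * σ • b' = (b * s)⁻¹ * σ • (b * s) := by
        rw [hrel σ, mul_inv_rev, smul_mul']
        simp only [mul_assoc]
      rw [smul_mul', smul_inv', mul_inv_eq_iff_eq_mul, mul_assoc]
      exact inv_mul_eq_iff_eq_mul.1 e
    refine ⟨x, (algebraMap k K).injective ?_⟩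
    rw [map_mul, hN', ← hb', ← hb, ← hx]
    rw [← map_mul, ← Units.val_mul]
    have : b' * (b * s)⁻¹ * b = b' * (b * s)⁻¹ * (b * s) * s⁻¹ := by group
    rw [show NK ((b' * (b * s)⁻¹ * b : (K ⊗[k] A)ˣ) : K ⊗[k] A) = NK ((b' * s⁻¹ : (K ⊗[k] A)ˣ) : K ⊗[k] A) from by
      rw [this, inv_mul_cancel_right], Units.val_mul, map_mul]
    have h1 : NK (↑s⁻¹ : K ⊗[k] A) = 1 := by
      rw [← mul_one (NK (↑s⁻¹ : K ⊗[k] A))]
      nth_rewrite 1 [← hs]
      rw [← map_mul, Units.inv_mul, map_one]
    rw [h1, mul_one]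
  · rintro ⟨x, hx⟩
    let ux : (K ⊗[k] A)ˣ :=
      Units.map (Algebra.TensorProduct.includeRight (R := k) (A := K) (B := A)).toMonoidHom x
    have hux : ∀ σ : K ≃ₐ[k] K, σ • ux = ux := fun σ => Units.ext (smul_one_tmul k K A σ (x : A))
    refine ⟨b⁻¹ * ux⁻¹ * b', ?_, fun σ => ?_⟩
    · have e : NK (ux : K ⊗[k] A) * NK (b : K ⊗[k] A) * NK (↑(b⁻¹ * ux⁻¹ * b') : K ⊗[k] A) =
          NK (b' : K ⊗[k] A) := by
        rw [← map_mul, ← map_mul, ← Units.val_mul, ← Units.val_mul]
        congr 2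
        group
      rw [hb, hb', hx, map_mul, hN'] at e
      exact (mul_eq_left₀ (mul_ne_zero (hne ux) ((map_ne_zero _).2 c.ne_zero))).1 e
    · rw [smul_mul', smul_mul', smul_inv', smul_inv', hux]
      group

end Groth.Agent.S15415
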