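import Groth.Statements.S15419
import Groth.Agent.GrMod.QuasiRegular
import Groth.Agent.GrMod.Polynomial
import Groth.Agent.Misc15.SegLC.Compare

set_option autoImplicit false
universe u
open GrLC

namespace Groth.Agent.S15419

/-- Let k be a field, S = k[x_0, …, x_r] graded by degree, 𝔪 = (x_0, …, x_r), M a finitely generated
ℤ-graded S-module and x a linear form (x ∈ S_1) that is quasi-regular on M: the submodule of
elements of M killed by x has finite length. Let N = M/xM, given as a graded module with a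
surjective degree-preserving S-linear map π : M → N whose kernel is xM; graded local cohomology of M
and of N is computed from *injective resolutions in the graded category. If M is weakly d-regular,
that is H^i_𝔪(M) vanishes in degree d − i + 1 for every i > 0, then N is weakly d-regular. -/
theorem result (k : Type u) [Field k] (r : ℕ)
    (M : Type u) [AddCommGroup M] [Module k M] [Module (MvPolynomial (Fin (r + 1)) k) M]
    [IsScalarTower k (MvPolynomial (Fin (r + 1)) k) M] [Module.Finite (MvPolynomial (Fin (r + 1)) k) M]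
    (ℳ : ℤ → Submodule k M) [DirectSum.Decomposition ℳ] [SetLike.GradedSMul (GrSyz.stdGr k (Fin (r + 1))) ℳ]
    (x : MvPolynomial (Fin (r + 1)) k) (hx : x ∈ GrSyz.stdGr k (Fin (r + 1)) 1)
    (hq : IsFiniteLength (MvPolynomial (Fin (r + 1)) k) ↥(Submodule.torsionBy (MvPolynomial (Fin (r + 1)) k) M x))
    (N : Type u) [AddCommGroup N] [Module k N] [Module (MvPolynomial (Fin (r + 1)) k) N]
    [IsScalarTower k (MvPolynomial (Fin (r + 1)) k) N] [Module.Finite (MvPolynomial (Fin (r + 1)) k) N]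
    (𝒩 : ℤ → Submodule k N) [DirectSum.Decomposition 𝒩] [SetLike.GradedSMul (GrSyz.stdGr k (Fin (r + 1))) 𝒩]
    (π : M →ₗ[MvPolynomial (Fin (r + 1)) k] N) (hπ : Function.Surjective π) (hπg : GrLC.IsGrHom ℳ 𝒩 π)
    (hker : LinearMap.ker π = LinearMap.range (x • (LinearMap.id : M →ₗ[MvPolynomial (Fin (r + 1)) k] M)))
    (E : GrLC.StarInjRes (GrSyz.stdGr k (Fin (r + 1))) ℳ) (E' : GrLC.StarInjRes (GrSyz.stdGr k (Fin (r + 1))) 𝒩) (d : ℤ)
    (hM : ∀ i : ℕ, 0 < i → E.Hcomp (GrSyz.irrel (GrSyz.stdGr k (Fin (r + 1)))) i (d - (i : ℤ) + 1) = ⊥) (i : ℕ) (hi : 0 < i) :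
    E'.Hcomp (GrSyz.irrel (GrSyz.stdGr k (Fin (r + 1)))) i (d - (i : ℤ) + 1) = ⊥ := by
  classical
  let S := MvPolynomial (Fin (r + 1)) k
  let 𝒜 := GrothGr.agr (GrSyz.stdGr k (Fin (r + 1)))
  let a := GrothGr.hagr (GrSyz.stdGr k (Fin (r + 1))) (GrSyz.irrel (GrSyz.stdGr k (Fin (r + 1))))
  let F := GrothGr.resAgr (GrSyz.stdGr k (Fin (r + 1))) E (Groth.Misc15.SegLC.clsM ℳ) fun _ _ h => h
  let F' := GrothGr.resAgr (GrSyz.stdGr k (Fin (r + 1))) E' (Groth.Misc15.SegLC.clsM 𝒩) fun _ _ h => h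
  have hE : ∀ (j : ℕ) (g : ℤ), E.Hcomp (GrSyz.irrel (GrSyz.stdGr k (Fin (r + 1)))) j g = ⊥ →
      F.Hgr a j g = ⊥ := fun j g h =>
    (AddSubgroup.eq_bot_iff_forall _).2 fun z hz => (Submodule.eq_bot_iff _).1 h z hz
  have hpos : ∀ n : ℤ, n < 0 → 𝒜 n = ⊥ := fun n hn =>
    GrothGr.agr_weighted_neg k (r + 1) (fun _ => (1 : ℤ)) (fun _ => zero_lt_one) hn
  let W : Submodule S M := LinearMap.ker (LinearMap.lsmul S M x)
  have hWeq : W = Submodule.torsionBy S M x := rfl
  have hhom : W.IsHomogeneous (Groth.Misc15.SegLC.clsM ℳ) := fun g z hz => by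
    show x • GrothGr.pr (Groth.Misc15.SegLC.clsM ℳ) g z = 0
    have h := GrothGr.pr_smul (Groth.Misc15.SegLC.clsM ℳ) 𝒜 (show x ∈ 𝒜 1 from hx) (g + 1) z
    rw [show x • z = 0 from hz, map_zero, add_sub_cancel_right] at h
    exact h.symm
  haveI : IsArtinian S W := (isFiniteLength_iff_isNoetherian_isArtinian.1 (hWeq ▸ hq)).2
  letI := (GrothGr.subPc_isInternal (Groth.Misc15.SegLC.clsM ℳ) hhom).chooseDecomposition
  haveI := GrothGr.subPc_gradedSMul 𝒜 (Groth.Misc15.SegLC.clsM ℳ) W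
  have hspan : a.toIdeal = Ideal.span (⋃ n ∈ Set.Ioi (0 : ℤ), (𝒜 n : Set S)) := by
    show Ideal.span _ = _
    congr 1
    ext p
    simp [GrothGr.mem_agr, 𝒜]
  have htor : gam a.toIdeal W = ⊤ := by
    rw [hspan]
    exact GrothGr.gam_eq_top_of_isArtinian hpos (GrothGr.subPc (Groth.Misc15.SegLC.clsM ℳ) W)
  have hk : LinearMap.ker π = LinearMap.range (LinearMap.lsmul S M x) := by
    rw [hker]
    rfl
  refine (Submodule.eq_bot_iff _).2 fun z hz => ?_
  refine (AddSubgroup.eq_bot_iff_forall _).1 (GrothGr.Hgr_quotient_eq_bot (𝒜 := 𝒜) a (x := x) (d := 1)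
    hx htor π (fun g m hm => hπg g m hm) hπ hk F F' i (d - (i : ℤ) + 1) (hE i _ (hM i hi)) ?_) z hz
  have h2 := hE (i + 1) _ (hM (i + 1) i.succ_pos)
  rwa [show d - (i : ℤ) + 1 - 1 = d - ((i + 1 : ℕ) : ℤ) + 1 by push_cast; ring]


end Groth.Agent.S15419
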