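import Groth.Statements.S15421
import Groth.Agent.GrSyz.Gamma

set_option autoImplicit false
universe u
open GrSyz

namespace Groth.Agent.S15421

/-- Let k be a field, S = k[x_0, …, x_r] graded by degree, 𝔪 = (x_0, …, x_r), M a finitely generated
ℤ-graded S-module, x ∈ S_1 a linear form quasi-regular on M (the elements of M killed by x form a
submodule of finite length) and N = M/xM, given as a graded module with a surjective
degree-preserving S-linear map π : M → N with kernel xM. Then reg M = max(end H^0_𝔪(M), reg N),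
where reg is the Castelnuovo–Mumford regularity in the sense of minimal graded free resolutions (as
an extended integer, −∞ for the zero module) and end H^0_𝔪(M) is the largest degree of a nonzero
piece of the graded local cohomology H^0_𝔪(M), computed from any *injective resolution of M in the
graded category. (The published statement takes x quasi-regular without repeating that it is a
linear form; a linear form is meant, as in the proposition it rests on.) -/
theorem result (k : Type u) [Field k] (r : ℕ)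
    (M : Type u) [AddCommGroup M] [Module k M] [Module (MvPolynomial (Fin (r + 1)) k) M]
    [IsScalarTower k (MvPolynomial (Fin (r + 1)) k) M] [Module.Finite (MvPolynomial (Fin (r + 1)) k) M]
    (ℳ : ℤ → Submodule k M) [DirectSum.Decomposition ℳ] [SetLike.GradedSMul (GrSyz.stdGr k (Fin (r + 1))) ℳ]
    (x : MvPolynomial (Fin (r + 1)) k) (hx : x ∈ GrSyz.stdGr k (Fin (r + 1)) 1)
    (hq : IsFiniteLength (MvPolynomial (Fin (r + 1)) k) ↥(Submodule.torsionBy (MvPolynomial (Fin (r + 1)) k) M x))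
    (N : Type u) [AddCommGroup N] [Module k N] [Module (MvPolynomial (Fin (r + 1)) k) N]
    [IsScalarTower k (MvPolynomial (Fin (r + 1)) k) N] [Module.Finite (MvPolynomial (Fin (r + 1)) k) N]
    (𝒩 : ℤ → Submodule k N) [DirectSum.Decomposition 𝒩] [SetLike.GradedSMul (GrSyz.stdGr k (Fin (r + 1))) 𝒩]
    (π : M →ₗ[MvPolynomial (Fin (r + 1)) k] N) (hπ : Function.Surjective π) (hπg : GrLC.IsGrHom ℳ 𝒩 π)
    (hker : LinearMap.ker π = LinearMap.range (x • (LinearMap.id : M →ₗ[MvPolynomial (Fin (r + 1)) k] M)))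
    (E : GrLC.StarInjRes (GrSyz.stdGr k (Fin (r + 1))) ℳ) :
    GrSyz.reg (GrSyz.stdGr k (Fin (r + 1))) ℳ (GrSyz.irrel (GrSyz.stdGr k (Fin (r + 1)))).toIdeal =
      GrLC.endDeg (E.Hgr (GrSyz.irrel (GrSyz.stdGr k (Fin (r + 1)))) 0) ⊔ GrSyz.reg (GrSyz.stdGr k (Fin (r + 1))) 𝒩 (GrSyz.irrel (GrSyz.stdGr k (Fin (r + 1)))).toIdeal := by
  conv_rhs => rw [← Groth.GrSyzLib.iInf_coe_eq (GrLC.endDeg _ ⊔ _)]
  rw [GrSyz.reg]
  refine iInf_congr fun s => iInf_congr_Prop ?_ fun _ => rfl
  rw [Groth.GrSyzLib.isRegLE_iff_quotient ℳ hx hq 𝒩 π hπ hπg hker E s, sup_le_iff,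
    Groth.GrSyzLib.endDeg_le_iff]
  refine and_congr (forall₂_congr fun g _ => ?_) ⟨fun h => ?_, fun h => ?_⟩
  · rw [← Groth.GrSyzLib.hcomp_eq_bot_iff]
    exact ⟨fun h => by rw [GrLC.StarInjRes.Hgr, h]; rfl, fun h => Submodule.toAddSubgroup_injective h⟩
  · exact iInf₂_le s h
  · obtain ⟨F, hF⟩ := Groth.GrSyzLib.exists_minimal (k := k) (σ := Fin (r + 1)) N 𝒩
    by_contra hn
    refine absurd h (not_le.2 ?_)
    refine lt_of_lt_of_le (b := (((s + 1 : ℤ) : WithTop ℤ) : WithBot (WithTop ℤ)))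
      (WithBot.coe_lt_coe.2 (WithTop.coe_lt_coe.2 (Int.lt_add_one_iff.2 le_rfl))) (le_iInf₂ fun t ht => ?_)
    refine WithBot.coe_le_coe.2 (WithTop.coe_le_coe.2 (not_lt.1 fun hts => hn ?_))
    obtain ⟨G, hG, hGs⟩ := ht
    exact ⟨G, hG, fun i b => le_trans (hGs i b) (by omega)⟩

end Groth.Agent.S15421
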