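import Groth.Statements.S15422
import Groth.Agent.GrSyz.FiniteLength

set_option autoImplicit false
universe u
open GrSyz

namespace Groth.Agent.S15422

/-- Let k be a field, S = k[x_0, …, x_r] graded by degree, 𝔪 = (x_0, …, x_r) and M a finitely generated
ℤ-graded S-module of finite length. Then the Castelnuovo–Mumford regularity of M, in the sense of
minimal graded free resolutions (an extended integer, −∞ for the zero module), equals the largest
degree d with M_d ≠ 0. -/
theorem result (k : Type u) [Field k] (r : ℕ)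
    (M : Type u) [AddCommGroup M] [Module k M] [Module (MvPolynomial (Fin (r + 1)) k) M]
    [IsScalarTower k (MvPolynomial (Fin (r + 1)) k) M] [Module.Finite (MvPolynomial (Fin (r + 1)) k) M]
    (ℳ : ℤ → Submodule k M) [DirectSum.Decomposition ℳ] [SetLike.GradedSMul (GrSyz.stdGr k (Fin (r + 1))) ℳ]
    (hM : IsFiniteLength (MvPolynomial (Fin (r + 1)) k) M) :
    GrSyz.reg (GrSyz.stdGr k (Fin (r + 1))) ℳ (GrSyz.irrel (GrSyz.stdGr k (Fin (r + 1)))).toIdeal = GrLC.endDeg (fun n => (ℳ n).toAddSubgroup) := by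
  have h : ∀ s : ℤ, GrSyz.IsRegLE (GrSyz.stdGr k (Fin (r + 1))) ℳ
      (GrSyz.irrel (GrSyz.stdGr k (Fin (r + 1)))).toIdeal s ↔
      GrLC.endDeg (fun n => (ℳ n).toAddSubgroup) ≤ ((s : WithTop ℤ) : WithBot (WithTop ℤ)) := by
    intro s
    rw [Groth.GrSyzLib.isRegLE_iff_of_finiteLength ℳ hM, GrLC.endDeg, iSup₂_le_iff]
    constructor
    · intro h n hn
      refine WithBot.coe_le_coe.2 (WithTop.coe_le_coe.2 (not_lt.1 fun hlt => hn ?_))
      rw [h n hlt, Submodule.bot_toAddSubgroup]
    · intro h n hn
      by_contra hne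
      have := h n fun h0 => hne (Submodule.toAddSubgroup_injective
        (h0.trans Submodule.bot_toAddSubgroup.symm))
      rw [WithBot.coe_le_coe, WithTop.coe_le_coe] at this
      omega
  simp only [GrSyz.reg, h]
  exact Groth.GrSyzLib.iInf_coe_eq _

end Groth.Agent.S15422
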