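import Groth.Statements.S15423
import Groth.Agent.GrSyz.Res

set_option autoImplicit false
universe u
open GrSyz

namespace Groth.Agent.S15423

theorem iInf_coe_eq (x : WithBot (WithTop ℤ)) :
    (⨅ (r : ℤ) (_ : x ≤ ((r : WithTop ℤ) : WithBot (WithTop ℤ))),
      ((r : WithTop ℤ) : WithBot (WithTop ℤ))) = x := by
  refine le_antisymm ?_ (le_iInf₂ fun _ h => h)
  induction x using WithBot.recBotCoe with
  | bot =>
    simp only [bot_le, iInf_pos]
    refine le_of_eq (iInf_eq_bot.2 fun b hb => ?_)
    induction b using WithBot.recBotCoe with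
    | bot => exact absurd hb (lt_irrefl _)
    | coe b =>
      induction b using WithTop.recTopCoe with
      | top => exact ⟨0, WithBot.coe_lt_coe.2 (WithTop.coe_lt_top _)⟩
      | coe n => exact ⟨n - 1, WithBot.coe_lt_coe.2 (WithTop.coe_lt_coe.2 (by omega))⟩
  | coe x =>
    induction x using WithTop.recTopCoe with
    | top => exact le_top
    | coe n => exact iInf₂_le (f := fun (r : ℤ) _ => ((r : WithTop ℤ) : WithBot (WithTop ℤ))) n le_rfl

/-- Let k be a field, S = k[x_0, …, x_r] graded by degree, 𝔪 = (x_0, …, x_r), M a finitely generated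
ℤ-graded S-module and F a minimal graded free resolution of M by finite-rank free modules with
homogeneous bases (all matrix entries in 𝔪). Then the Castelnuovo–Mumford regularity of M (an
extended integer) is the supremum over i ≥ 0 of t_i − i, where t_i is the largest degree of a basis
vector of F_i, that is the largest nonzero degree of Tor_i^S(M, k) (−∞ when F_i = 0). In particular
the value does not depend on the minimal resolution chosen. -/
theorem result (k : Type u) [Field k] (r : ℕ)
    (M : Type u) [AddCommGroup M] [Module k M] [Module (MvPolynomial (Fin (r + 1)) k) M]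
    [IsScalarTower k (MvPolynomial (Fin (r + 1)) k) M] [Module.Finite (MvPolynomial (Fin (r + 1)) k) M]
    (ℳ : ℤ → Submodule k M) [DirectSum.Decomposition ℳ] [SetLike.GradedSMul (GrSyz.stdGr k (Fin (r + 1))) ℳ]
    (F : GrSyz.FreeRes (GrSyz.stdGr k (Fin (r + 1))) ℳ) (hF : F.IsMinimal (GrSyz.irrel (GrSyz.stdGr k (Fin (r + 1)))).toIdeal) :
    GrSyz.reg (GrSyz.stdGr k (Fin (r + 1))) ℳ (GrSyz.irrel (GrSyz.stdGr k (Fin (r + 1)))).toIdeal =
      ⨆ i : ℕ, WithBot.map (fun t : ℤ => ((t - (i : ℤ) : ℤ) : WithTop ℤ)) (F.maxGenDeg i) := by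
  have h1 : ∀ s : ℤ, GrSyz.IsRegLE (GrSyz.stdGr k (Fin (r + 1))) ℳ
      (GrSyz.irrel (GrSyz.stdGr k (Fin (r + 1)))).toIdeal s ↔
      (⨆ i : ℕ, WithBot.map (fun t : ℤ => ((t - (i : ℤ) : ℤ) : WithTop ℤ)) (F.maxGenDeg i)) ≤
        ((s : WithTop ℤ) : WithBot (WithTop ℤ)) := by
    intro s
    have h2 : GrSyz.IsRegLE (GrSyz.stdGr k (Fin (r + 1))) ℳ
        (GrSyz.irrel (GrSyz.stdGr k (Fin (r + 1)))).toIdeal s ↔ F.IsGenLE s :=
      ⟨fun ⟨G, _, hG⟩ => Groth.GrSyzLib.isGenLE_of_isGenLE F hF G hG, fun h => ⟨F, hF, h⟩⟩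
    rw [h2, iSup_le_iff]
    refine forall_congr' fun i => ?_
    constructor
    · intro h
      have hm : F.maxGenDeg i ≤ ((s + i : ℤ) : WithBot ℤ) :=
        Finset.sup_le fun b _ => WithBot.coe_le_coe.2 (h b)
      cases hc : F.maxGenDeg i with
      | bot => simp
      | coe t =>
        rw [hc, WithBot.coe_le_coe] at hm
        simp only [WithBot.map_coe, WithBot.coe_le_coe, WithTop.coe_le_coe]
        omega
    · intro h b
      have hm : (F.deg i b : WithBot ℤ) ≤ F.maxGenDeg i :=
        Finset.le_sup (f := fun b => (F.deg i b : WithBot ℤ)) (Finset.mem_univ b)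
      cases hc : F.maxGenDeg i with
      | bot => rw [hc] at hm; simp at hm
      | coe t =>
        rw [hc, WithBot.coe_le_coe] at hm
        rw [hc] at h
        simp only [WithBot.map_coe, WithBot.coe_le_coe, WithTop.coe_le_coe] at h
        omega
  simp only [GrSyz.reg, h1]
  exact iInf_coe_eq _

end Groth.Agent.S15423
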