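import Groth.Statements.S15425
import Groth.Agent.GrSyz.RegularCut
import Groth.Agent.GrSyz.FiniteLength

set_option autoImplicit false
universe u
open GrSyz

namespace Groth.Agent.S15425

/-- Let k be a field, S = k[x_0, …, x_r] graded by degree, 𝔪 = (x_0, …, x_r), M a finitely generated
ℤ-graded S-module and y_1, …, y_t linear forms that form a weakly regular sequence on M (each y_j is
a non-zerodivisor on M/(y_1, …, y_{j−1})M) with N = M/(y_1, …, y_t)M of finite length; N is given as
a graded module with a surjective degree-preserving S-linear map π : M → N whose kernel is (y_1, …,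
y_t)M. Then the Castelnuovo–Mumford regularity of M in the sense of minimal graded free resolutions
equals the largest degree d with N_d ≠ 0 (−∞ when N = 0). (The published statement assumes M
Cohen–Macaulay and the regular sequence maximal; for a regular sequence of linear forms this is the
same as the quotient having finite length, the form used here.) -/
theorem result (k : Type u) [Field k] (r : ℕ)
    (M : Type u) [AddCommGroup M] [Module k M] [Module (MvPolynomial (Fin (r + 1)) k) M]
    [IsScalarTower k (MvPolynomial (Fin (r + 1)) k) M] [Module.Finite (MvPolynomial (Fin (r + 1)) k) M]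
    (ℳ : ℤ → Submodule k M) [DirectSum.Decomposition ℳ] [SetLike.GradedSMul (GrSyz.stdGr k (Fin (r + 1))) ℳ]
    (ys : List (MvPolynomial (Fin (r + 1)) k)) (hys : ∀ y ∈ ys, y ∈ GrSyz.stdGr k (Fin (r + 1)) 1)
    (hreg : RingTheory.Sequence.IsWeaklyRegular M ys)
    (N : Type u) [AddCommGroup N] [Module k N] [Module (MvPolynomial (Fin (r + 1)) k) N]
    [IsScalarTower k (MvPolynomial (Fin (r + 1)) k) N] [Module.Finite (MvPolynomial (Fin (r + 1)) k) N]
    (𝒩 : ℤ → Submodule k N) [DirectSum.Decomposition 𝒩] [SetLike.GradedSMul (GrSyz.stdGr k (Fin (r + 1))) 𝒩]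
    (π : M →ₗ[MvPolynomial (Fin (r + 1)) k] N) (hπ : Function.Surjective π) (hπg : GrLC.IsGrHom ℳ 𝒩 π)
    (hker : LinearMap.ker π = Ideal.ofList ys • (⊤ : Submodule (MvPolynomial (Fin (r + 1)) k) M))
    (hN : IsFiniteLength (MvPolynomial (Fin (r + 1)) k) N) :
    GrSyz.reg (GrSyz.stdGr k (Fin (r + 1))) ℳ (GrSyz.irrel (GrSyz.stdGr k (Fin (r + 1)))).toIdeal = GrLC.endDeg (fun n => (𝒩 n).toAddSubgroup) := by
  have hiff : ∀ s : ℤ,
      GrSyz.IsRegLE (GrSyz.stdGr k (Fin (r + 1))) ℳ
        (GrSyz.irrel (GrSyz.stdGr k (Fin (r + 1)))).toIdeal s ↔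
      GrLC.endDeg (fun n => (𝒩 n).toAddSubgroup) ≤ ((s : WithTop ℤ) : WithBot (WithTop ℤ)) := by
    intro s
    have h2 : GrLC.endDeg (fun n => (𝒩 n).toAddSubgroup) ≤ ((s : WithTop ℤ) : WithBot (WithTop ℤ)) ↔
        GrSyz.IsRegLE (GrSyz.stdGr k (Fin (r + 1))) 𝒩
          (GrSyz.irrel (GrSyz.stdGr k (Fin (r + 1)))).toIdeal s := by
      rw [Groth.GrSyzLib.isRegLE_iff_of_finiteLength 𝒩 hN, GrLC.endDeg, iSup₂_le_iff]
      constructor
      · intro h n hn
        by_contra hne
        have := h n fun h0 => hne (Submodule.toAddSubgroup_injective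
          (h0.trans Submodule.bot_toAddSubgroup.symm))
        rw [WithBot.coe_le_coe, WithTop.coe_le_coe] at this
        omega
      · intro h n hn
        refine WithBot.coe_le_coe.2 (WithTop.coe_le_coe.2 (not_lt.1 fun hlt => hn ?_))
        rw [h n hlt, Submodule.bot_toAddSubgroup]
    rw [h2]
    constructor
    · rintro ⟨F, -, hF⟩
      obtain ⟨G, hG⟩ := Groth.GrSyzLib.exists_res_quotient ys hys hreg π hπ hπg hker F hF
      exact Groth.GrSyzLib.isRegLE_of_isGenLE G hG
    · rintro ⟨G, -, hG⟩
      obtain ⟨F, hF⟩ :=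
        Groth.GrSyzLib.exists_res_lift ys hys M ℳ hreg N 𝒩 π hπ hπg hker s G hG
      exact Groth.GrSyzLib.isRegLE_of_isGenLE F hF
  simp only [GrSyz.reg, hiff]
  exact Groth.GrSyzLib.iInf_coe_eq _

end Groth.Agent.S15425
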