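import Groth.Statements.S15427
import Groth.Agent.GrSyz.Res

set_option autoImplicit false
universe u
open GrSyz

namespace Groth.Agent.S15427

theorem exists_rel_of_mem_span {R P : Type*} [CommRing R] [AddCommGroup P] [Module R P] {n : ℕ}
    (v : Fin n → P) (b : Fin n) (h : v b ∈ Submodule.span R (v '' {b' | b' ≠ b})) :
    ∃ c : Fin n → R, Fintype.linearCombination R v c = 0 ∧ c b = 1 := by
  have hle : Submodule.span R (v '' {b' | b' ≠ b}) ≤
      (LinearMap.ker (LinearMap.proj (R := R) (φ := fun _ : Fin n => R) b)).map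
        (Fintype.linearCombination R v) := by
    rw [Submodule.span_le]
    rintro _ ⟨b', hb', rfl⟩
    exact ⟨Pi.single b' 1, by simp [Pi.single_eq_of_ne (Ne.symm hb')],
      by simp [Fintype.linearCombination_apply_single]⟩
  obtain ⟨w, hw, hwb⟩ := hle h
  exact ⟨Pi.single b 1 - w, by simp [hwb, Fintype.linearCombination_apply_single],
    by simp [show w b = 0 from hw]⟩

theorem mem_span_of_rel {R P : Type*} [CommRing R] [AddCommGroup P] [Module R P] {n : ℕ}
    (v : Fin n → P) (b : Fin n) {c : Fin n → R} (hc : Fintype.linearCombination R v c = 0)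
    (hu : IsUnit (c b)) : v b ∈ Submodule.span R (v '' {b' | b' ≠ b}) := by
  rw [← Submodule.smul_mem_iff_of_isUnit _ hu]
  rw [Fintype.linearCombination_apply,
    ← Finset.add_sum_erase _ _ (Finset.mem_univ b), add_eq_zero_iff_eq_neg] at hc
  rw [hc]
  exact neg_mem (sum_mem fun b' hb' => Submodule.smul_mem _ _
    (Submodule.subset_span ⟨b', (Finset.mem_erase.1 hb').1, rfl⟩))

/-- Let k be a field, S = k[x_0, …, x_r] graded by degree, 𝔪 = (x_0, …, x_r), M a finitely generated
ℤ-graded S-module and F a graded free resolution of M by free modules of finite rank with chosen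
homogeneous bases, written as matrices d_i : F_{i+1} → F_i together with the images aug b ∈ M of the
basis of F_0. Then F is a minimal complex (every matrix entry lies in 𝔪) if and only if every map of
the resolution carries its basis to an irredundant (minimal) family of generators of its image: for
each b, aug b is not in the S-span of the remaining aug b', and for each i and each column of d_i,
that column is not in the S-span of the remaining columns. -/
theorem result (k : Type u) [Field k] (r : ℕ)
    (M : Type u) [AddCommGroup M] [Module k M] [Module (MvPolynomial (Fin (r + 1)) k) M]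
    [IsScalarTower k (MvPolynomial (Fin (r + 1)) k) M] [Module.Finite (MvPolynomial (Fin (r + 1)) k) M]
    (ℳ : ℤ → Submodule k M) [DirectSum.Decomposition ℳ] [SetLike.GradedSMul (GrSyz.stdGr k (Fin (r + 1))) ℳ]
    (F : GrSyz.FreeRes (GrSyz.stdGr k (Fin (r + 1))) ℳ) :
    F.IsMinimal (GrSyz.irrel (GrSyz.stdGr k (Fin (r + 1)))).toIdeal ↔
      ((∀ b : Fin (F.rk 0), F.aug b ∉ Submodule.span (MvPolynomial (Fin (r + 1)) k) (F.aug '' {b' | b' ≠ b})) ∧
        ∀ (i : ℕ) (b : Fin (F.rk (i + 1))),
          (fun a => F.d i a b) ∉ Submodule.span (MvPolynomial (Fin (r + 1)) k) ((fun b' a => F.d i a b') '' {b' | b' ≠ b})) := by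
  open Groth.GrSyzLib in
  have hlc : ∀ i, Fintype.linearCombination (MvPolynomial (Fin (r + 1)) k) (fun b a => F.d i a b) =
      (F.d i).mulVecLin := fun i => by
    refine LinearMap.pi_ext' fun b => LinearMap.ext_ring ?_
    simp only [LinearMap.comp_apply, LinearMap.single_apply, Matrix.mulVecLin_apply,
      Matrix.mulVec_single_one, Fintype.linearCombination_apply_single, one_smul]
    rfl
  have hunit : ∀ {g : ℤ} {p : MvPolynomial (Fin (r + 1)) k}, p ∈ GrSyz.stdGr k (Fin (r + 1)) g →
      p ∉ (GrSyz.irrel (GrSyz.stdGr k (Fin (r + 1)))).toIdeal → IsUnit p := by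
    intro g p hp hp'
    rw [Groth.GrSyzLib.mem_irrel_iff] at hp'
    have hg : g = 0 := by
      by_contra hg
      exact hp' (Groth.GrSyzLib.constantCoeff_eq_zero_of_ne hg hp)
    subst hg
    rw [Groth.GrSyzLib.eq_C_of_mem_zero hp]
    exact IsUnit.map _ (isUnit_iff_ne_zero.2 hp')
  have hcol : ∀ i (c : Fin (F.rk i) → MvPolynomial (Fin (r + 1)) k),
      c ∈ LinearMap.range (F.d i).mulVecLin → F.IsMinimal (GrSyz.irrel (GrSyz.stdGr k (Fin (r + 1)))).toIdeal →
      ∀ a, c a ∈ (GrSyz.irrel (GrSyz.stdGr k (Fin (r + 1)))).toIdeal := by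
    rintro i _ ⟨w, rfl⟩ hF a
    rw [Matrix.mulVecLin_apply, Matrix.mulVec, dotProduct]
    exact Ideal.sum_mem _ fun b _ => Ideal.mul_mem_right _ _ (hF i a b)
  constructor
  · intro hF
    refine ⟨fun b hb => ?_, fun i b hb => ?_⟩
    · obtain ⟨c, hc, hcb⟩ := exists_rel_of_mem_span F.aug b hb
      rw [← LinearMap.mem_ker, F.exact_zero] at hc
      exact Groth.GrSyzLib.one_notMem_irrel (hcb ▸ hcol 0 c hc hF b)
    · obtain ⟨c, hc, hcb⟩ := exists_rel_of_mem_span (fun b a => F.d i a b) b hb
      rw [hlc, ← LinearMap.mem_ker, F.exact_succ] at hc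
      exact Groth.GrSyzLib.one_notMem_irrel (hcb ▸ hcol (i + 1) c hc hF b)
  · rintro ⟨h0, hs⟩ i a b
    by_contra hab
    have hu := hunit (F.d_mem i a b) hab
    have hmem : (fun a => F.d i a b) ∈ LinearMap.range (F.d i).mulVecLin :=
      ⟨Pi.single b 1, by rw [Matrix.mulVecLin_apply, Matrix.mulVec_single_one]; rfl⟩
    cases i with
    | zero =>
      rw [← F.exact_zero, LinearMap.mem_ker] at hmem
      exact h0 a (mem_span_of_rel F.aug a hmem hu)
    | succ j =>
      rw [← F.exact_succ, LinearMap.mem_ker, ← hlc] at hmem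
      exact hs j a (mem_span_of_rel (fun b a => F.d j a b) a hmem hu)

end Groth.Agent.S15427
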