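import Groth.Statements.S15432
import Groth.Agent.GrSyz.Resolve
import Groth.Agent.GrSyz.Hilbert
import Groth.Agent.GrSyz.LeftKernel

set_option autoImplicit false
universe u
open GrSyz

namespace Groth.Agent.S15432

open MvPolynomial Groth.GrSyzLib in
/-- The Hilbert function of the coordinate ring of a finite set is at most its size. -/
theorem finrank_le_card {k : Type u} [Field k] (Z : Finset (Fin 3 → k))
    (I : Ideal (MvPolynomial (Fin 3) k))
    (hI : ∀ f : MvPolynomial (Fin 3) k, f ∈ I ↔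
      ∀ p ∈ Z, ∀ j : ℕ, MvPolynomial.eval p (MvPolynomial.homogeneousComponent j f) = 0)
    {M : Type u} [AddCommGroup M] [Module k M] [Module (MvPolynomial (Fin 3) k) M]
    [IsScalarTower k (MvPolynomial (Fin 3) k) M]
    (ℳ : ℤ → Submodule k M) [DirectSum.Decomposition ℳ]
    (π : MvPolynomial (Fin 3) k →ₗ[MvPolynomial (Fin 3) k] M) (hπ : Function.Surjective π)
    (hπg : GrLC.IsGrHom (GrSyz.stdGr k (Fin 3)) ℳ π) (hker : LinearMap.ker π = I) (d : ℤ) :
    Module.finrank k (ℳ d) ≤ Z.card := by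
  have := (finite_and_finrank_stdGr (k := k) 2 d).1
  let ev : GrSyz.stdGr k (Fin 3) d →ₗ[k] (↥Z → k) :=
    LinearMap.pi fun q => (MvPolynomial.aeval (q : Fin 3 → k)).toLinearMap ∘ₗ
      (GrSyz.stdGr k (Fin 3) d).subtype
  let πd : GrSyz.stdGr k (Fin 3) d →ₗ[k] ℳ d :=
    ((π.restrictScalars k).domRestrict (GrSyz.stdGr k (Fin 3) d)).codRestrict (ℳ d)
      fun f => hπg d f f.2
  have hsurj : Function.Surjective πd := fun y => by
    obtain ⟨x, hx, hxy⟩ := exists_preimage (GrSyz.stdGr k (Fin 3)) ℳ π hπg y.2 (hπ y.1)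
    exact ⟨⟨x, hx⟩, Subtype.ext hxy⟩
  have hle : LinearMap.ker ev ≤ LinearMap.ker πd := by
    rintro ⟨f, hf⟩ hfev
    refine Subtype.ext ?_
    show π f = 0
    rw [← LinearMap.mem_ker, hker, hI]
    intro p hp j
    rcases lt_or_ge d 0 with hd | hd
    · rw [eq_zero_of_neg hd hf, map_zero, map_zero]
    obtain ⟨m, rfl⟩ := Int.eq_ofNat_of_zero_le hd
    rw [stdGr_natCast] at hf
    rw [homogeneousComponent_of_mem hf]
    split_ifs
    · exact congrFun hfev ⟨p, hp⟩
    · exact map_zero _
  have e1 := LinearMap.finrank_range_add_finrank_ker πd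
  have e2 := LinearMap.finrank_range_add_finrank_ker ev
  rw [LinearMap.range_eq_top.2 hsurj, finrank_top] at e1
  have e3 := Submodule.finrank_mono hle
  have e4 := Submodule.finrank_le (LinearMap.range ev)
  rw [Module.finrank_fintype_fun_eq_card, Fintype.card_coe] at e4
  omega

/-- Let k be a field, Z a nonempty finite set of nonzero vectors of k^3, regarded as points of the
projective plane, I ⊆ S = k[x_0, x_1, x_2] the homogeneous vanishing ideal of Z (a polynomial lies
in I exactly when each of its homogeneous components vanishes at every vector of Z), M = S/I given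
as a ℤ-graded S-module with a surjective degree-preserving S-linear map π : S → M with kernel I, and
F a minimal graded free resolution of M of length at most 2 whose terms F_1 and F_2 have ranks t + 1
and t, with basis degrees a_1 ≥ … ≥ a_{t+1} for F_1 and b_1 ≥ … ≥ b_t for F_2 (non-increasing along
the chosen bases), so that the (i, j) entry of the matrix F_2 → F_1 has degree b_j − a_i. Put e_i =
b_i − a_i and f_i = b_i − a_{i+1}. Then e_i ≥ 1 and f_i ≥ 1 for every i, and Σ_i a_i = Σ_j b_j
(equivalently a_i = Σ_{j < i} e_j + Σ_{j ≥ i} f_j for every i). (The ordering of both bases is the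
standing assumption under which the published statement is made; this row carries it as the
hypotheses on the basis degrees. The further inequalities f_i ≥ e_i and f_i ≥ e_{i+1} follow at once
from the ordering and are not restated.) -/
theorem result (k : Type u) [Field k]
    (Z : Finset (Fin 3 → k)) (hZ : ∀ p ∈ Z, p ≠ 0) (hZne : Z.Nonempty) (I : Ideal (MvPolynomial (Fin 3) k))
    (hI : ∀ f : MvPolynomial (Fin 3) k, f ∈ I ↔
      ∀ p ∈ Z, ∀ j : ℕ, MvPolynomial.eval p (MvPolynomial.homogeneousComponent j f) = 0)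
    (M : Type u) [AddCommGroup M] [Module k M] [Module (MvPolynomial (Fin 3) k) M] [IsScalarTower k (MvPolynomial (Fin 3) k) M]
    (ℳ : ℤ → Submodule k M) [DirectSum.Decomposition ℳ] [SetLike.GradedSMul (GrSyz.stdGr k (Fin 3)) ℳ]
    (π : MvPolynomial (Fin 3) k →ₗ[MvPolynomial (Fin 3) k] M) (hπ : Function.Surjective π)
    (hπg : GrLC.IsGrHom (GrSyz.stdGr k (Fin 3)) ℳ π) (hker : LinearMap.ker π = I)
    (F : GrSyz.FreeRes (GrSyz.stdGr k (Fin 3)) ℳ) (hF : F.IsMinimal (GrSyz.irrel (GrSyz.stdGr k (Fin 3))).toIdeal) (hlen : F.HasLengthLE 2)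
    (t : ℕ) (h1 : F.rk 1 = t + 1) (h2 : F.rk 2 = t)
    (ha : ∀ i j : Fin (t + 1), i ≤ j → F.deg 1 (Fin.cast h1.symm j) ≤ F.deg 1 (Fin.cast h1.symm i))
    (hb : ∀ i j : Fin t, i ≤ j → F.deg 2 (Fin.cast h2.symm j) ≤ F.deg 2 (Fin.cast h2.symm i)) :
    (∀ i : Fin t, 1 ≤ F.deg 2 (Fin.cast h2.symm i) - F.deg 1 (Fin.cast h1.symm i.castSucc) ∧
        1 ≤ F.deg 2 (Fin.cast h2.symm i) - F.deg 1 (Fin.cast h1.symm i.succ)) ∧
      ∑ i : Fin (t + 1), F.deg 1 (Fin.cast h1.symm i) = ∑ j : Fin t, F.deg 2 (Fin.cast h2.symm j) := by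
  classical
  -- the first term is `S`
  have hconst : ∀ f ∈ I, f ∈ (GrSyz.irrel (GrSyz.stdGr k (Fin 3))).toIdeal := fun f hf => by
    obtain ⟨p, hp⟩ := hZne
    have h := (hI f).1 hf p hp 0
    rw [MvPolynomial.homogeneousComponent_zero, MvPolynomial.eval_C] at h
    rw [Groth.GrSyzLib.mem_irrel_iff]
    exact h
  have hlc : ∀ w : Fin 1 → MvPolynomial (Fin 3) k,
      Fintype.linearCombination (MvPolynomial (Fin 3) k) (fun _ => π 1) w = π (w 0) := fun w => by
    rw [Fintype.linearCombination_apply, Fin.sum_univ_one, ← map_smul, smul_eq_mul, mul_one]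
  obtain ⟨G, hG, -, hG0⟩ := Groth.GrSyzLib.exists_minimal_of_gens ℳ (fun _ : Fin 1 => π 1)
    (fun _ => 0) (fun _ => hπg 0 1 Groth.GrSyzLib.one_mem')
    (fun y => (hπ y).elim fun f hf => ⟨fun _ => f, (hlc _).trans hf⟩)
    (fun w hw a => by
      rw [LinearMap.mem_ker, hlc, ← LinearMap.mem_ker, hker] at hw
      rw [Subsingleton.elim a 0]
      exact hconst _ hw)
  have hb0 : ∀ j, F.betti 0 j = if j = 0 then 1 else 0 := fun j => by
    rw [Groth.GrSyzLib.betti_eq F hF G hG 0 j, hG0]
    rcases eq_or_ne j 0 with rfl | hj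
    · simp
    · rw [if_neg hj, Finset.card_eq_zero, Finset.filter_eq_empty_iff]
      exact fun _ _ h => hj h.symm
  have hdeg0 : ∀ z, F.deg 0 z = 0 := fun z => by
    by_contra h
    have h0 := hb0 (F.deg 0 z)
    rw [if_neg h, GrSyz.FreeRes.betti, Finset.card_eq_zero, Finset.filter_eq_empty_iff] at h0
    exact h0 (Finset.mem_univ z) rfl
  have hrk0 : F.rk 0 = 1 := by
    have h0 := hb0 0
    rw [if_pos rfl, GrSyz.FreeRes.betti, Finset.filter_true_of_mem fun z _ => hdeg0 z] at h0
    simpa using h0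
  constructor
  · -- the diagonal degrees
    intro i
    suffices h : 1 ≤ F.deg 2 (Fin.cast h2.symm i) - F.deg 1 (Fin.cast h1.symm i.castSucc) by
      refine ⟨h, ?_⟩
      have := ha i.castSucc i.succ (Fin.castSucc_lt_succ (i := i)).le
      omega
    by_contra hcon
    let z : Fin (F.rk 0) := Fin.cast hrk0.symm 0
    let A : Matrix (Fin (t + 1)) (Fin t) (MvPolynomial (Fin 3) k) :=
      (F.d 1).submatrix (finCongr h1.symm) (finCongr h2.symm)
    let g : Fin (t + 1) → MvPolynomial (Fin 3) k := fun p => F.d 0 z (Fin.cast h1.symm p)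
    have hA : Function.Injective A.mulVec := by
      have hk : LinearMap.ker (F.d 1).mulVecLin = ⊥ := by
        rw [F.exact_succ 1, LinearMap.range_eq_bot]
        have : IsEmpty (Fin (F.rk (1 + 1 + 1))) := by
          rw [hlen 3 (by norm_num)]; infer_instance
        exact Subsingleton.elim _ _
      intro v w hvw
      simp only [A, Matrix.submatrix_mulVec_equiv] at hvw
      have := LinearMap.ker_eq_bot.1 hk (funext fun a => by
        simpa using congrFun hvw ((finCongr h1.symm).symm a) :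
        (F.d 1).mulVecLin (v ∘ (finCongr h2.symm).symm) = (F.d 1).mulVecLin (w ∘ (finCongr h2.symm).symm))
      funext q
      simpa using congrFun this (finCongr h2.symm q)
    have hg : Matrix.vecMul g A = 0 := by
      funext q
      have h := congrFun (congrFun (Groth.GrSyzLib.d_mul_d F 0) z) (Fin.cast h2.symm q)
      rw [Matrix.mul_apply] at h
      rw [Matrix.vecMul, dotProduct, Pi.zero_apply]
      rw [Matrix.zero_apply] at h
      refine Eq.trans ?_ h
      exact Fintype.sum_equiv (finCongr h1.symm) _ _ fun p => rfl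
    obtain ⟨c, hc, hcne, hcsupp⟩ := Groth.GrSyzLib.exists_left_kernel_of_block A i.val i.isLt
      (fun p q hp hq => by
        by_contra hne
        have hpos : 0 < F.deg 2 (Fin.cast h2.symm q) - F.deg 1 (Fin.cast h1.symm p) :=
          Groth.GrSyzLib.pos_of_mem_irrel
          (F.d_mem 1 (Fin.cast h1.symm p) (Fin.cast h2.symm q)) (hF 1 _ _) hne
        have h3 := ha p i.castSucc hp
        have h4 := hb i q hq
        omega)
    obtain ⟨p, hp⟩ := Function.ne_iff.1 hcne
    have hgz : g i.succ = 0 := by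
      have h := Groth.GrSyzLib.left_kernel_proportional A hA hc hg p i.succ
      rw [hcsupp i.succ (by simp), zero_mul] at h
      exact (mul_eq_zero.1 h).resolve_left hp
    obtain ⟨z', hz'⟩ := Groth.GrSyzLib.exists_ne_zero_entry F hF 0 (Fin.cast h1.symm i.succ)
    refine hz' ?_
    have : Subsingleton (Fin (F.rk 0)) := by rw [hrk0]; infer_instance
    rw [Subsingleton.elim z' z]
    exact hgz
  · -- the sum of the degrees
    set sa := ∑ i : Fin (t + 1), F.deg 1 (Fin.cast h1.symm i) with hsa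
    set sb := ∑ j : Fin t, F.deg 2 (Fin.cast h2.symm j) with hsb
    obtain ⟨D, hD⟩ := Finite.exists_le
      (Sum.elim (fun _ : Unit => (0 : ℤ)) (Sum.elim (F.deg 1) (F.deg 2)))
    have hHF : ∀ d, D ≤ d → (Module.finrank k ↥(ℳ d) : ℤ) =
        ((2 + d.toNat).choose 2 : ℤ) -
          (∑ i : Fin (t + 1), ((2 + (d - F.deg 1 (Fin.cast h1.symm i)).toNat).choose 2 : ℤ)) +
          ∑ j : Fin t, ((2 + (d - F.deg 2 (Fin.cast h2.symm j)).toNat).choose 2 : ℤ) := by
      intro d hd
      rw [Groth.GrSyzLib.hilbert F d 2 hlen, Finset.sum_range_succ, Finset.sum_range_succ,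
        Finset.sum_range_one]
      have h0 : (0 : ℤ) ≤ D := hD (Sum.inl ())
      have e0 : (∑ b : Fin (F.rk 0), if F.deg 0 b ≤ d then
          (((2 + (d - F.deg 0 b).toNat).choose 2 : ℕ) : ℤ) else 0) = ((2 + d.toNat).choose 2 : ℤ) := by
        rw [Finset.sum_congr rfl fun b _ => by rw [hdeg0 b, if_pos (by omega), sub_zero],
          Finset.sum_const, Finset.card_univ, Fintype.card_fin, hrk0, one_smul]
      have e1 : (∑ b : Fin (F.rk 1), if F.deg 1 b ≤ d then
          (((2 + (d - F.deg 1 b).toNat).choose 2 : ℕ) : ℤ) else 0) =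
          ∑ i : Fin (t + 1), ((2 + (d - F.deg 1 (Fin.cast h1.symm i)).toNat).choose 2 : ℤ) :=
        (Fintype.sum_equiv (finCongr h1.symm) _ _ fun i => by
          have h' : F.deg 1 (finCongr h1.symm i) ≤ d := (hD (Sum.inr (Sum.inl _))).trans hd
          rw [if_pos h']; rfl).symm
      have e2 : (∑ b : Fin (F.rk 2), if F.deg 2 b ≤ d then
          (((2 + (d - F.deg 2 b).toNat).choose 2 : ℕ) : ℤ) else 0) =
          ∑ j : Fin t, ((2 + (d - F.deg 2 (Fin.cast h2.symm j)).toNat).choose 2 : ℤ) :=
        (Fintype.sum_equiv (finCongr h2.symm) _ _ fun i => by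
          have h' : F.deg 2 (finCongr h2.symm i) ≤ d := (hD (Sum.inr (Sum.inr _))).trans hd
          rw [if_pos h']; rfl).symm
      rw [e0, e1, e2]
      ring
    have hch : ∀ x : ℤ, 0 ≤ x → (((2 + (x + 1).toNat).choose 2 : ℕ) : ℤ) =
        ((2 + x.toNat).choose 2 : ℤ) + (2 + x) := by
      intro x hx
      obtain ⟨m, rfl⟩ := Int.eq_ofNat_of_zero_le hx
      rw [show ((m : ℤ) + 1).toNat = m + 1 by omega, Int.toNat_natCast, ← add_assoc,
        Nat.choose_succ_succ', Nat.choose_one_right]
      push_cast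
      ring
    have hstep : ∀ d, D ≤ d →
        (Module.finrank k ↥(ℳ (d + 1)) : ℤ) = Module.finrank k ↥(ℳ d) + (sa - sb) := by
      intro d hd
      rw [hHF d hd, hHF (d + 1) (by omega),
        hch d ((hD (Sum.inl ())).trans hd)]
      simp only [fun a : ℤ => show d + 1 - a = d - a + 1 by ring]
      have p1 : ∀ i : Fin (t + 1), F.deg 1 (Fin.cast h1.symm i) ≤ d := fun i =>
        (hD (Sum.inr (Sum.inl (Fin.cast h1.symm i)))).trans hd
      have p2 : ∀ i : Fin t, F.deg 2 (Fin.cast h2.symm i) ≤ d := fun i =>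
        (hD (Sum.inr (Sum.inr (Fin.cast h2.symm i)))).trans hd
      rw [Finset.sum_congr rfl fun i _ => hch _ (sub_nonneg.2 (p1 i)),
        Finset.sum_congr rfl fun i _ => hch _ (sub_nonneg.2 (p2 i))]
      simp only [Finset.sum_add_distrib, Finset.sum_sub_distrib, Finset.sum_const, Finset.card_univ,
        Fintype.card_fin, nsmul_eq_mul, ← hsa, ← hsb]
      push_cast
      ring
    have hiter : ∀ m : ℕ, (Module.finrank k ↥(ℳ (D + m)) : ℤ) =
        Module.finrank k ↥(ℳ D) + m * (sa - sb) := by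
      intro m
      induction m with
      | zero => rw [Nat.cast_zero, zero_mul, add_zero, add_zero]
      | succ m ih =>
        rw [Nat.cast_succ, ← add_assoc, hstep (D + m) (by omega), ih]
        ring
    have hbd := hiter (Z.card + 1)
    have b1 := finrank_le_card Z I hI ℳ π hπ hπg hker D
    have b2 := finrank_le_card Z I hI ℳ π hπ hπg hker (D + (Z.card + 1 : ℕ))
    push_cast at hbd b2
    rcases lt_trichotomy (sa - sb) 0 with h | h | h
    · nlinarith
    · omega
    · nlinarith

end Groth.Agent.S15432
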