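import Groth.Statements.S15433
import Groth.Agent.GrSyz.RegularCut
import Groth.Agent.GrSyz.FiniteLength
import Groth.Agent.S15425

set_option autoImplicit false
universe u
open GrSyz

namespace Groth.Agent.S15433

open MvPolynomial DirectSum Groth.GrSyzLib in
/-- A graded module of finite length has `k`-dimension at most its length. -/
theorem finrank_le_length {k : Type u} [Field k] {m : ℕ} : ∀ (n : ℕ) (N : Type u) [AddCommGroup N]
    [Module k N] [Module (MvPolynomial (Fin m) k) N] [IsScalarTower k (MvPolynomial (Fin m) k) N]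
    (𝒩 : ℤ → Submodule k N) [Decomposition 𝒩] [SetLike.GradedSMul (GrSyz.stdGr k (Fin m)) 𝒩],
    Module.length (MvPolynomial (Fin m) k) N ≤ n →
    Module.Finite k N ∧ Module.finrank k N ≤ n := by
  classical
  intro n
  induction n with
  | zero =>
    intro N _ _ _ _ 𝒩 _ _ hlen
    have : Subsingleton N := Module.length_eq_zero_iff.1 (le_antisymm hlen zero_le)
    exact ⟨inferInstance, by rw [Module.finrank_zero_of_subsingleton]⟩
  | succ n ih =>
    intro N _ _ _ _ 𝒩 _ _ hlen
    by_cases hall : ∀ d, 𝒩 d = ⊥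
    · have : Subsingleton N := subsingleton_of_forall_eq 0 fun y => eq_zero_of_pr 𝒩 fun g => by
        have := pr_mem 𝒩 g y
        rwa [hall g, Submodule.mem_bot] at this
      exact ⟨inferInstance, by rw [Module.finrank_zero_of_subsingleton]; omega⟩
    push Not at hall
    have hfl : IsFiniteLength (MvPolynomial (Fin m) k) N :=
      Module.length_ne_top_iff.1 (ne_top_of_le_ne_top (ENat.coe_ne_top _) hlen)
    obtain ⟨_, _⟩ := isFiniteLength_iff_isNoetherian_isArtinian.1 hfl
    obtain ⟨D, hD⟩ := exists_bound_of_isArtinian (k := k) (m := m) 𝒩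
    obtain ⟨e, he, hemax⟩ := Int.exists_greatest_of_bdd (P := fun d => 𝒩 d ≠ ⊥)
      ⟨D, fun d hd => not_lt.1 fun h => hd (hD d h)⟩ hall
    have hvan : ∀ d, e < d → 𝒩 d = ⊥ := fun d hd =>
      not_not.1 fun h => absurd (hemax d h) (not_le.2 hd)
    obtain ⟨x, hx, hxne⟩ := (Submodule.ne_bot_iff _).1 he
    let K : Submodule (MvPolynomial (Fin m) k) N := MvPolynomial (Fin m) k ∙ x
    have hK : IsHom 𝒩 K := fun g y hy => by
      obtain ⟨c, rfl⟩ := Submodule.mem_span_singleton.1 hy
      rw [pr_smul_right 𝒩 hx]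
      exact Submodule.smul_mem _ _ (Submodule.mem_span_singleton_self x)
    letI : Decomposition (quotP 𝒩 K) := (quotP_isInternal 𝒩 K hK).chooseDecomposition
    have hlt : Module.length (MvPolynomial (Fin m) k) (N ⧸ K) <
        Module.length (MvPolynomial (Fin m) k) N :=
      Submodule.length_quotient_lt K fun h => hxne (by
        simpa [K, Submodule.span_singleton_eq_bot] using h)
    obtain ⟨hfin, hle⟩ := ih (N ⧸ K) (quotP 𝒩 K) (by
      have := hlt.trans_le hlen
      rw [Nat.cast_succ] at this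
      exact Order.le_of_lt_add_one this)
    let f : N →ₗ[k] N ⧸ K := K.mkQ.restrictScalars k
    have hkerf : LinearMap.ker f ≤ k ∙ x := fun y hy => by
      obtain ⟨c, rfl⟩ := Submodule.mem_span_singleton.1 ((Submodule.Quotient.mk_eq_zero K).1 hy)
      have h2 : c - C (constantCoeff c) ∈ (GrSyz.irrel (GrSyz.stdGr k (Fin m))).toIdeal :=
        (mem_irrel_iff (p := c - C (constantCoeff c))).2 (by
          rw [RingHom.map_sub, constantCoeff_C, sub_self])
      have h1 := (smul_eq_zero_iff_of_top 𝒩 hvan hx hxne _).2 h2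
      rw [sub_smul, sub_eq_zero] at h1
      rw [h1, ← MvPolynomial.algebraMap_eq, algebraMap_smul]
      exact Submodule.smul_mem _ _ (Submodule.mem_span_singleton_self x)
    have : Module.Finite k (k ∙ x) := Module.Finite.iff_fg.2 (Submodule.fg_span_singleton x)
    have hfinker : Module.Finite k (LinearMap.ker f) := Submodule.finiteDimensional_of_le hkerf
    have : Module.Finite k (N ⧸ LinearMap.ker f) :=
      Module.Finite.equiv (f.quotKerEquivOfSurjective K.mkQ_surjective).symm
    have : Module.Finite k N := Module.Finite.of_submodule_quotient (LinearMap.ker f)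
    refine ⟨this, ?_⟩
    have h3 := LinearMap.finrank_range_add_finrank_ker f
    rw [show LinearMap.range f = ⊤ from LinearMap.range_eq_top.2 K.mkQ_surjective, finrank_top] at h3
    have h4 : Module.finrank k (LinearMap.ker f) ≤ 1 :=
      (Submodule.finrank_mono hkerf).trans_eq (finrank_span_singleton hxne)
    omega

open MvPolynomial Groth.GrSyzLib in
/-- Finitely many pieces of a grading. -/
theorem sum_finrank_le {k : Type u} [Field k] {N : Type u} [AddCommGroup N] [Module k N]
    [Module.Finite k N] (𝒩 : ℤ → Submodule k N) [DirectSum.Decomposition 𝒩] (s : Finset ℤ) :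
    ∑ d ∈ s, Module.finrank k (𝒩 d) ≤ Module.finrank k N := by
  classical
  let f : (∀ d : s, 𝒩 d) →ₗ[k] N := ∑ d : s, (𝒩 d).subtype ∘ₗ LinearMap.proj d
  have hf : Function.Injective f := by
    refine (injective_iff_map_eq_zero f).2 fun v hv => funext fun d => Subtype.ext ?_
    have h := congrArg (pr 𝒩 (d : ℤ)) hv
    simp only [f, LinearMap.sum_apply, LinearMap.comp_apply, LinearMap.proj_apply,
      Submodule.subtype_apply, map_sum, map_zero] at h
    rw [Finset.sum_eq_single d (fun e _ hne => pr_of_mem_ne 𝒩 (v e).2 fun h => hne (Subtype.ext h))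
      (fun h => absurd (Finset.mem_univ d) h), pr_of_mem 𝒩 (v d).2] at h
    exact h
  have := LinearMap.finrank_le_finrank_of_injective hf
  rwa [Module.finrank_pi_fintype, Finset.sum_coe_sort s fun d => Module.finrank k (𝒩 d)] at this

/-- Let k be a field, S = k[x_0, …, x_r] graded by degree, 𝔪 = (x_0, …, x_r), and M = S/I a graded
quotient of S, given with a surjective degree-preserving S-linear map π : S → M whose kernel I
contains no nonzero linear form. Let y_0, …, y_t be linear forms forming a weakly regular sequence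
on M (each a non-zerodivisor modulo the previous ones) and N = M/(y_0, …, y_t)M, given as a graded
module with a surjective degree-preserving S-linear map σ : M → N with kernel (y_0, …, y_t)M, and
suppose N has finite length ℓ. Then reg M + (r − t) ≤ ℓ, reg being the Castelnuovo–Mumford
regularity of M in the sense of minimal graded free resolutions. (The published statement is reg S_X
≤ deg X − codim X for an arithmetically Cohen–Macaulay subvariety X of P^r not contained in a
hyperplane; this row is the algebraic statement its proof establishes, with S_X any graded quotient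
of S by an ideal without linear forms, the maximal regular sequence of linear forms given, deg X
replaced by the length of S_X/(y_0, …, y_t)S_X and codim X by r − t, which agree with the degree and
the codimension in that situation.) -/
theorem result (k : Type u) [Field k] (r : ℕ)
    (M : Type u) [AddCommGroup M] [Module k M] [Module (MvPolynomial (Fin (r + 1)) k) M]
    [IsScalarTower k (MvPolynomial (Fin (r + 1)) k) M] [Module.Finite (MvPolynomial (Fin (r + 1)) k) M]
    (ℳ : ℤ → Submodule k M) [DirectSum.Decomposition ℳ] [SetLike.GradedSMul (GrSyz.stdGr k (Fin (r + 1))) ℳ]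
    (π : MvPolynomial (Fin (r + 1)) k →ₗ[MvPolynomial (Fin (r + 1)) k] M) (hπ : Function.Surjective π)
    (hπg : GrLC.IsGrHom (GrSyz.stdGr k (Fin (r + 1))) ℳ π)
    (hlin : ∀ x : MvPolynomial (Fin (r + 1)) k, x ∈ GrSyz.stdGr k (Fin (r + 1)) 1 → π x = 0 → x = 0)
    (ys : List (MvPolynomial (Fin (r + 1)) k)) (hys : ∀ y ∈ ys, y ∈ GrSyz.stdGr k (Fin (r + 1)) 1)
    (hreg : RingTheory.Sequence.IsWeaklyRegular M ys)
    (N : Type u) [AddCommGroup N] [Module k N] [Module (MvPolynomial (Fin (r + 1)) k) N]
    [IsScalarTower k (MvPolynomial (Fin (r + 1)) k) N]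
    (𝒩 : ℤ → Submodule k N) [DirectSum.Decomposition 𝒩] [SetLike.GradedSMul (GrSyz.stdGr k (Fin (r + 1))) 𝒩]
    (σ : M →ₗ[MvPolynomial (Fin (r + 1)) k] N) (hσ : Function.Surjective σ) (hσg : GrLC.IsGrHom ℳ 𝒩 σ)
    (hker : LinearMap.ker σ = Ideal.ofList ys • (⊤ : Submodule (MvPolynomial (Fin (r + 1)) k) M))
    (ℓ : ℕ) (hℓ : Module.length (MvPolynomial (Fin (r + 1)) k) N = (ℓ : ℕ∞)) :
    GrSyz.reg (GrSyz.stdGr k (Fin (r + 1))) ℳ (GrSyz.irrel (GrSyz.stdGr k (Fin (r + 1)))).toIdeal + ((((r : ℤ) + 1 - (ys.length : ℤ) : ℤ) : WithTop ℤ) : WithBot (WithTop ℤ)) ≤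
      (((ℓ : ℤ) : WithTop ℤ) : WithBot (WithTop ℤ)) := by
  classical
  open Groth.GrSyzLib in
  obtain ⟨hfinN, hdim⟩ := finrank_le_length ℓ N 𝒩 hℓ.le
  have : Module.Finite (MvPolynomial (Fin (r + 1)) k) N := Module.Finite.of_surjective σ hσ
  have hfl : IsFiniteLength (MvPolynomial (Fin (r + 1)) k) N :=
    Module.length_ne_top_iff.1 (by rw [hℓ]; exact ENat.coe_ne_top _)
  rw [Groth.Agent.S15425.result k r M ℳ ys hys hreg N 𝒩 σ hσ hσg hker hfl]
  let ρ := σ ∘ₗ π
  have hρ : Function.Surjective ρ := hσ.comp hπ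
  have hρg : ∀ g x, x ∈ GrSyz.stdGr k (Fin (r + 1)) g → ρ x ∈ 𝒩 g := fun g x hx =>
    hσg g _ (hπg g x hx)
  have hpre : ∀ g (y : N), y ∈ 𝒩 g → ∃ x ∈ GrSyz.stdGr k (Fin (r + 1)) g, ρ x = y := fun g y hy =>
    Groth.GrSyzLib.exists_preimage _ 𝒩 ρ hρg hy (hρ y)
  have hneg : ∀ g < 0, 𝒩 g = ⊥ := fun g hg => eq_bot_iff.2 fun y hy => by
    obtain ⟨x, hx, rfl⟩ := hpre g y hy
    rw [Groth.GrSyzLib.eq_zero_of_neg hg hx, map_zero]
    exact zero_mem _
  have hstep : ∀ g, 0 ≤ g → 𝒩 g = ⊥ → 𝒩 (g + 1) = ⊥ := fun g hg h0 => eq_bot_iff.2 fun y hy => by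
    obtain ⟨x, hx, rfl⟩ := hpre (g + 1) y hy
    rw [Submodule.mem_bot, x.as_sum, map_sum]
    refine Finset.sum_eq_zero fun e he => ?_
    have hdeg : (e.degree : ℤ) = g + 1 :=
      Groth.GrSyzLib.mem_stdGr_iff'.1 hx e (MvPolynomial.mem_support_iff.1 he)
    have hne : e ≠ 0 := fun h => by subst h; simp at hdeg; omega
    obtain ⟨i, hi⟩ := Finsupp.ne_iff.1 hne
    simp only [Finsupp.coe_zero, Pi.zero_apply] at hi
    have hle : Finsupp.single i 1 ≤ e := Finsupp.single_le_iff.2 (Nat.one_le_iff_ne_zero.2 hi)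
    obtain ⟨e', rfl⟩ := exists_add_of_le hle
    rw [← mul_one (MvPolynomial.coeff _ x), ← one_mul (MvPolynomial.coeff _ x), mul_one,
      ← MvPolynomial.monomial_mul, ← smul_eq_mul, map_smul]
    have hmem : MvPolynomial.monomial e' (MvPolynomial.coeff (Finsupp.single i 1 + e') x) ∈
        GrSyz.stdGr k (Fin (r + 1)) g := by
      rw [Groth.GrSyzLib.mem_stdGr_iff']
      intro m' hm'
      rw [MvPolynomial.coeff_monomial] at hm'
      split_ifs at hm' with h
      · subst h
        rw [map_add, Finsupp.degree_single, Nat.cast_add, Nat.cast_one] at hdeg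
        omega
      · exact absurd rfl hm'
    have h1 := hρg g _ hmem
    rw [h0, Submodule.mem_bot] at h1
    rw [h1, smul_zero]
  -- the linear forms
  have hN1 : r + 1 ≤ ys.length + Module.finrank k (𝒩 1) := by
    obtain ⟨hfin1, hS1⟩ := Groth.GrSyzLib.finite_and_finrank_stdGr (k := k) r 1
    have hS1' : Module.finrank k (GrSyz.stdGr k (Fin (r + 1)) 1) = r + 1 := by
      rw [if_pos (by norm_num)] at hS1
      simp [Nat.choose_succ_self_right] at hS1
      exact_mod_cast hS1
    let f : GrSyz.stdGr k (Fin (r + 1)) 1 →ₗ[k] 𝒩 1 :=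
      ((ρ.restrictScalars k).domRestrict _).codRestrict (𝒩 1) fun x => hρg 1 x x.2
    let V : Submodule k (MvPolynomial (Fin (r + 1)) k) := Submodule.span k {y | y ∈ ys}
    have hVfin : Module.Finite k V := Module.Finite.span_of_finite k ys.finite_toSet
    have hV : Module.finrank k V ≤ ys.length := by
      have := finrank_span_finset_le_card (R := k) ys.toFinset
      rw [List.coe_toFinset] at this
      exact this.trans ys.toFinset_card_le
    have hker1 : ∀ x : GrSyz.stdGr k (Fin (r + 1)) 1, f x = 0 → (x : MvPolynomial (Fin (r + 1)) k) ∈ V := by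
      rintro ⟨x, hx⟩ hfx
      have hx' : π x ∈ Submodule.map π (Ideal.ofList ys • ⊤) := by
        rw [Submodule.map_smul'', Submodule.map_top, LinearMap.range_eq_top.2 hπ, ← hker]
        exact congrArg Subtype.val hfx
      obtain ⟨z, hz, hzx⟩ := hx'
      -- the degree one part of `z` is a combination of the forms
      have hz1 : ∀ c : MvPolynomial (Fin (r + 1)) k,
          Groth.GrSyzLib.pr (GrSyz.stdGr k (Fin (r + 1))) 1 c = c →
          π c = π x → c = x := fun c hc hcx => by
        rw [← sub_eq_zero]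
        refine hlin _ (sub_mem ?_ hx) (by rw [map_sub, hcx, sub_self])
        rw [← hc]
        exact Groth.GrSyzLib.pr_mem _ 1 c
      have hzV : ∀ c : MvPolynomial (Fin (r + 1)) k,
          c ∈ Ideal.ofList ys • (⊤ : Submodule (MvPolynomial (Fin (r + 1)) k) (MvPolynomial (Fin (r + 1)) k)) →
          Groth.GrSyzLib.pr (GrSyz.stdGr k (Fin (r + 1))) 1 c ∈ V := by
        intro c hc
        rw [smul_eq_mul, Ideal.mul_top] at hc
        induction hc using Submodule.span_induction with
        | mem z hz =>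
          rw [Groth.GrSyzLib.pr_of_mem _ (hys z hz)]
          exact Submodule.subset_span hz
        | zero => rw [map_zero]; exact zero_mem _
        | add a b _ _ ha hb => rw [map_add]; exact add_mem ha hb
        | smul p z hzmem ih =>
          clear ih
          induction hzmem using Submodule.span_induction generalizing p with
          | mem z hz =>
            rw [Groth.GrSyzLib.pr_smul_right _ (hys z hz), sub_self,
              Groth.GrSyzLib.eq_C_of_mem_zero (Groth.GrSyzLib.pr_mem _ 0 p),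
              ← MvPolynomial.algebraMap_eq, algebraMap_smul]
            exact Submodule.smul_mem _ _ (Submodule.subset_span hz)
          | zero => rw [smul_zero, map_zero]; exact zero_mem _
          | add a b _ _ ha hb => rw [smul_add, map_add]; exact add_mem (ha _) (hb _)
          | smul q z _ ih => rw [smul_smul]; exact ih _
      have := hzV z hz
      rwa [hz1 _ (Groth.GrSyzLib.pr_of_mem _ (Groth.GrSyzLib.pr_mem _ 1 z)) ?_] at this
      rw [← Groth.GrSyzLib.pr_of_mem ℳ (hπg 1 x hx), ← hzx]
      exact Groth.GrSyzLib.map_pr _ ℳ π.toAddMonoidHom hπg 1 z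
    have e1 := LinearMap.finrank_range_add_finrank_ker f
    have e2 : Module.finrank k (LinearMap.ker f) ≤ Module.finrank k V :=
      LinearMap.finrank_le_finrank_of_injective
        (f := ((GrSyz.stdGr k (Fin (r + 1)) 1).subtype.domRestrict (LinearMap.ker f)).codRestrict V
          fun x => hker1 x x.2)
        fun a b h => Subtype.ext (Subtype.ext (congrArg (fun v : V => (v : MvPolynomial (Fin (r + 1)) k)) h))
    have : Module.Finite k ↥(𝒩 1) := inferInstance
    have e3 := Submodule.finrank_le (LinearMap.range f)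
    omega
  by_cases hall : ∀ g, 𝒩 g = ⊥
  · have hend : GrLC.endDeg (fun n => (𝒩 n).toAddSubgroup) = ⊥ := by
      refine le_bot_iff.1 (iSup₂_le fun n hn => absurd ?_ hn)
      show (𝒩 n).toAddSubgroup = ⊥
      rw [hall n, Submodule.bot_toAddSubgroup]
    rw [hend, WithBot.bot_add]
    exact bot_le
  push Not at hall
  obtain ⟨D, hD⟩ : ∃ D : ℤ, ∀ d, D < d → 𝒩 d = ⊥ := by
    obtain ⟨_, _⟩ := isFiniteLength_iff_isNoetherian_isArtinian.1 hfl
    exact Groth.GrSyzLib.exists_bound_of_isArtinian (k := k) (m := r + 1) 𝒩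
  obtain ⟨e, he, hemax⟩ := Int.exists_greatest_of_bdd (P := fun d => 𝒩 d ≠ ⊥)
    ⟨D, fun d hd => not_lt.1 fun h => hd (hD d h)⟩ hall
  have he0 : 0 ≤ e := not_lt.1 fun h => he (hneg e h)
  have hend : GrLC.endDeg (fun n => (𝒩 n).toAddSubgroup) ≤ ((e : WithTop ℤ) : WithBot (WithTop ℤ)) := by
    refine iSup₂_le fun n hn => WithBot.coe_le_coe.2 (WithTop.coe_le_coe.2 (hemax n fun h => hn ?_))
    show (𝒩 n).toAddSubgroup = ⊥
    rw [h, Submodule.bot_toAddSubgroup]
  refine (add_le_add_left hend _).trans ?_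
  rw [← WithBot.coe_add, ← WithTop.coe_add, WithBot.coe_le_coe, WithTop.coe_le_coe]
  obtain ⟨E, rfl⟩ := Int.eq_ofNat_of_zero_le he0
  have hne : ∀ j : ℕ, j ≤ E → 𝒩 (j : ℤ) ≠ ⊥ := fun j hj h => by
    refine he (Nat.le_induction (P := fun i _ => 𝒩 (i : ℤ) = ⊥) h (fun i _ ih => ?_) E hj)
    rw [Nat.cast_succ]
    exact hstep _ (Int.natCast_nonneg i) ih
  have hpos : ∀ j : ℕ, j ≤ E → 1 ≤ Module.finrank k (𝒩 (j : ℤ)) := fun j hj =>
    Nat.one_le_iff_ne_zero.2 fun h => hne j hj (Submodule.finrank_eq_zero.1 h)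
  have hsum := (sum_finrank_le 𝒩 ((Finset.range (E + 1)).map Nat.castEmbedding)).trans hdim
  rw [Finset.sum_map] at hsum
  replace hsum : ∑ j ∈ Finset.range (E + 1), Module.finrank k (𝒩 (j : ℤ)) ≤ ℓ := hsum
  rcases Nat.eq_zero_or_pos E with rfl | hE
  · have h1 : 𝒩 1 = ⊥ := not_not.1 fun h => absurd (hemax 1 h) (by norm_num)
    rw [h1, finrank_bot] at hN1
    have := hpos 0 le_rfl
    rw [Finset.sum_range_one] at hsum
    omega
  · obtain ⟨E', rfl⟩ := Nat.exists_eq_succ_of_ne_zero hE.ne'
    rw [Finset.sum_range_succ', Finset.sum_range_succ'] at hsum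
    have hlow : E' ≤ ∑ j ∈ Finset.range E', Module.finrank k (𝒩 ((j + 1 + 1 : ℕ) : ℤ)) := by
      calc E' = ∑ _j ∈ Finset.range E', 1 := by simp
        _ ≤ _ := Finset.sum_le_sum fun j hj => hpos _ (by have := Finset.mem_range.1 hj; omega)
    have := hpos 0 (by omega)
    have e1 : Module.finrank k (𝒩 ((0 + 1 : ℕ) : ℤ)) = Module.finrank k (𝒩 1) := rfl
    push_cast at *
    omega

end Groth.Agent.S15433
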