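import Groth.Statements.S15437
import Groth.Agent.GrSyz.Hilbert

set_option autoImplicit false
universe u
open GrSyz

namespace Groth.Agent.S15437

/-- Let k be a field, S = k[x_0, …, x_r] graded by degree and M a ℤ-graded S-module with a finite graded
free resolution F of length at most m by free modules of finite rank with homogeneous bases; write
β_{i,j} for the number of basis vectors of F_i of degree j (the graded Betti numbers when F is
minimal) and B_j = Σ_{i ≤ m} (−1)^i β_{i,j}. Then for every integer d, dim_k M_d = Σ_j B_j C(r + d −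
j, r), where a binomial with d < j counts as zero and only finitely many j contribute; and the B_j
are recovered from the Hilbert function by B_j = dim_k M_j − Σ_{n < j} B_n C(r + j − n, r). (Stated
for any finite graded free resolution; the published statement takes the minimal one.) -/
theorem result (k : Type u) [Field k] (r : ℕ)
    (M : Type u) [AddCommGroup M] [Module k M] [Module (MvPolynomial (Fin (r + 1)) k) M]
    [IsScalarTower k (MvPolynomial (Fin (r + 1)) k) M] [Module.Finite (MvPolynomial (Fin (r + 1)) k) M]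
    (ℳ : ℤ → Submodule k M) [DirectSum.Decomposition ℳ] [SetLike.GradedSMul (GrSyz.stdGr k (Fin (r + 1))) ℳ]
    (F : GrSyz.FreeRes (GrSyz.stdGr k (Fin (r + 1))) ℳ) (m : ℕ) (hF : F.HasLengthLE m) :
    (∀ d : ℤ, (Module.finrank k ↥(ℳ d) : ℤ) =
        ∑ᶠ j : ℤ, (∑ i ∈ Finset.range (m + 1), (-1 : ℤ) ^ i * (F.betti i j : ℤ)) *
          (if j ≤ d then ((Nat.choose (r + (d - j).toNat) r : ℕ) : ℤ) else 0)) ∧
      ∀ j : ℤ, (∑ i ∈ Finset.range (m + 1), (-1 : ℤ) ^ i * (F.betti i j : ℤ)) =
        (Module.finrank k ↥(ℳ j) : ℤ) -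
          ∑ᶠ n : ℤ, (if n < j then (∑ i ∈ Finset.range (m + 1), (-1 : ℤ) ^ i * (F.betti i n : ℤ)) * ((Nat.choose (r + (j - n).toNat) r : ℕ) : ℤ) else 0) := by
  classical
  have hmain : ∀ d : ℤ, ∀ T : Finset ℤ, Groth.GrSyzLib.degs F m ⊆ T →
      (Module.finrank k ↥(ℳ d) : ℤ) = ∑ j ∈ T, Groth.GrSyzLib.altBetti F m j *
        (if j ≤ d then ((Nat.choose (r + (d - j).toNat) r : ℕ) : ℤ) else 0) := fun d T hT => by
    rw [Groth.GrSyzLib.hilbert F d m hF, Groth.GrSyzLib.sum_deg_eq F m
      (fun j => if j ≤ d then ((Nat.choose (r + (d - j).toNat) r : ℕ) : ℤ) else 0),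
      Finset.sum_subset hT fun j _ hj => by rw [Groth.GrSyzLib.altBetti_eq_zero F hj, zero_mul]]
  refine ⟨fun d => ?_, fun j => ?_⟩
  · rw [hmain d _ subset_rfl, finsum_eq_finsetSum_of_support_subset]
    · rfl
    · intro j hj
      by_contra h
      refine hj ?_
      show Groth.GrSyzLib.altBetti F m j * _ = 0
      rw [Groth.GrSyzLib.altBetti_eq_zero F h, zero_mul]
  · rw [hmain j (insert j (Groth.GrSyzLib.degs F m)) (Finset.subset_insert _ _),
      ← Finset.add_sum_erase _ _ (Finset.mem_insert_self j _),
      finsum_eq_finsetSum_of_support_subset (s := (insert j (Groth.GrSyzLib.degs F m)).erase j)]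
    · have hsum : ∀ n ∈ (insert j (Groth.GrSyzLib.degs F m)).erase j,
          Groth.GrSyzLib.altBetti F m n *
            (if n ≤ j then ((Nat.choose (r + (j - n).toNat) r : ℕ) : ℤ) else 0) =
          if n < j then (∑ i ∈ Finset.range (m + 1), (-1 : ℤ) ^ i * (F.betti i n : ℤ)) *
            ((Nat.choose (r + (j - n).toNat) r : ℕ) : ℤ) else 0 := by
        intro n hn
        have hne := (Finset.mem_erase.1 hn).1
        by_cases h : n < j
        · rw [if_pos h.le, if_pos h]; rfl
        · rw [if_neg (by omega), if_neg h, mul_zero]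
      rw [if_pos le_rfl, sub_self, Int.toNat_zero, add_zero, Nat.choose_self, Nat.cast_one, mul_one,
        Finset.sum_congr rfl hsum, add_sub_cancel_right]
      rfl
    · intro n hn
      have hn' : n < j := by by_contra h; exact hn (if_neg h)
      refine Finset.mem_coe.2 (Finset.mem_erase.2 ⟨hn'.ne, Finset.mem_insert_of_mem ?_⟩)
      by_contra h
      refine hn ((if_pos hn').trans ?_)
      show Groth.GrSyzLib.altBetti F m n * _ = 0
      rw [Groth.GrSyzLib.altBetti_eq_zero F h, zero_mul]

end Groth.Agent.S15437
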