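import Groth.Statements.S15439
import Groth.Agent.AlgEqCycLib.Graph
import Mathlib.AlgebraicGeometry.AlgClosed.Basic

set_option autoImplicit false
universe u
open AlgEqCyc

namespace Groth.Agent.S15439

open AlgebraicGeometry CategoryTheory in
/-- A rational point has no proper specialization. -/
theorem closed_in_affine {k : Type u} [Field k] {X : Scheme.{u}} (p : X ⟶ Spec (CommRingCat.of k))
    (T : Spec (CommRingCat.of k) ⟶ X) (hT : T ≫ p = 𝟙 _) {U : X.Opens} (hU : IsAffineOpen U)
    {a b : X} (ha : a ∈ U) (hb : b ∈ U) (hbT : b = T (IsLocalRing.closedPoint k)) (h : b ⤳ a) :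
    a = b := by
  haveI : IsAffine (U : Scheme.{u}) := hU
  subst hbT
  have hrange : Set.range T ⊆ Set.range U.ι := by
    rintro _ ⟨y, rfl⟩
    rw [Scheme.Opens.range_ι, Subsingleton.elim y (IsLocalRing.closedPoint k)]
    exact hb
  let T' := IsOpenImmersion.lift U.ι T hrange
  have hT' : T' ≫ U.ι = T := IsOpenImmersion.lift_fac _ _ _
  haveI : IsClosedImmersion (T' ≫ (U.ι ≫ p)) := by
    rw [← Category.assoc, hT', hT]
    infer_instance
  haveI : IsClosedImmersion T' := IsClosedImmersion.of_comp T' (U.ι ≫ p)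
  have hs : T' (IsLocalRing.closedPoint k) ⤳ (⟨a, ha⟩ : (U : Scheme.{u})) := by
    rw [← U.ι.isEmbedding.toIsInducing.specializes_iff, ← Scheme.Hom.comp_apply, hT']
    exact h
  obtain ⟨y, hy⟩ := T'.isClosedEmbedding.isClosed_range.stableUnderSpecialization hs ⟨_, rfl⟩
  rw [Subsingleton.elim y (IsLocalRing.closedPoint k)] at hy
  exact ((congrArg U.ι hy).symm.trans ((Scheme.Hom.comp_apply _ _ _).symm.trans (by rw [hT'])))

open AlgebraicGeometry CategoryTheory CategoryTheory.Limits in
/-- Let k be an algebraically closed field, X a scheme over k and C₁, …, Cₙ finitely many closed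
subschemes of X, given as closed immersions ιᵢ : Cᵢ → X over k, such that each Cᵢ is smooth over k,
projective over k, integral and of dimension one and such that the union of the ιᵢ(Cᵢ) is a
connected subset of X. Then for any two k-rational points P and Q of X lying on this union, the
zero-cycles [P] and [Q] on X are algebraically equivalent: [P] − [Q] lies in the subgroup of cycles
on X generated by the elementary algebraically trivial ones. (The published statement speaks of a
connected curve whose irreducible components are smooth and integral and of two of its points,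
inside an ambient smooth projective scheme over an algebraically closed field of characteristic
zero; this row takes any finite family of such curves with connected union in any k-scheme X, k
algebraically closed, and k-rational points.) -/
theorem result (k : Type u) [Field k]
    [IsAlgClosed k] (X : Scheme.{u}) [DecidableEq ↥X] (p : X ⟶ Spec (CommRingCat.of k)) (n : ℕ)
    (C : Fin n → Scheme.{u}) (q : (i : Fin n) → (C i ⟶ Spec (CommRingCat.of k)))
    (ι : (i : Fin n) → (C i ⟶ X)) (hι : ∀ i, IsClosedImmersion (ι i)) (hq : ∀ i, ι i ≫ p = q i)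
    (hs : ∀ i, Smooth (q i)) (hpr : ∀ i, Neron.IsProjectiveOver k (Over.mk (q i)))
    (hint : ∀ i, IsIntegral (C i)) (hd : ∀ i, topologicalKrullDim ↥(C i) = 1)
    (hconn : _root_.IsConnected (⋃ i, Set.range ⇑(ι i)))
    (P Q : Spec (CommRingCat.of k) ⟶ X) (hP : P ≫ p = 𝟙 _) (hQ : Q ≫ p = 𝟙 _)
    (hPC : P (IsLocalRing.closedPoint k) ∈ ⋃ i, Set.range ⇑(ι i))
    (hQC : Q (IsLocalRing.closedPoint k) ∈ ⋃ i, Set.range ⇑(ι i)) :
    AlgEqCyc.IsAlgEquiv p (Function.locallyFinsuppWithin.single (P (IsLocalRing.closedPoint k)) (1 : ℤ))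
      (Function.locallyFinsuppWithin.single (Q (IsLocalRing.closedPoint k)) (1 : ℤ)) := by
  classical
  let pt := IsLocalRing.closedPoint k
  let R : ↥X → ↥X → Prop := fun a b =>
    Function.locallyFinsuppWithin.single a (1 : ℤ) - Function.locallyFinsuppWithin.single b (1 : ℤ)
      ∈ AlgEqCyc.algTriv p
  have rtrans : ∀ {a b c}, R a b → R b c → R a c := fun {a b c} h h' => by
    have := add_mem h h'
    rwa [sub_add_sub_cancel] at this
  haveI : ∀ i, IsProper (q i) := fun i =>
    Groth.ArSurfBasics.isProper_of_isProjectiveOver (hpr i)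
  haveI : ∀ i, JacobsonSpace ↥(C i) := fun i => LocallyOfFiniteType.jacobsonSpace (q i)
  -- two closed points of one curve are equivalent
  have hsame : ∀ i (z z' : ↥(C i)), IsClosed {z} → IsClosed {z'} → R (ι i z) (ι i z') := by
    intro i z z' hz hz'
    haveI := hι i
    have h := Groth.AlgEqCycLib.isElemAlgTriv_sub p (q i) (ι i) (hq i) (hs i) (hpr i) (hint i) (hd i)
      (pointOfClosedPoint (q i) z hz) (pointOfClosedPoint (q i) z' hz')
      (pointOfClosedPoint_comp (q i) z hz) (pointOfClosedPoint_comp (q i) z' hz')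
    rw [pointOfClosedPoint_apply (q i) z hz, pointOfClosedPoint_apply (q i) z' hz'] at h
    exact AddSubgroup.subset_closure h
  have hpre : ∀ i (z : ↥(C i)), IsClosed {ι i z} → IsClosed {z} := fun i z hc => by
    haveI := hι i
    have h := hc.preimage (ι i).continuous
    rwa [← Set.image_singleton, (ι i).isEmbedding.injective.preimage_image] at h
  have himg : ∀ i (z : ↥(C i)), IsClosed {z} → IsClosed {ι i z} := fun i z hc => by
    haveI := hι i
    simpa using (ι i).isClosedEmbedding.isClosedMap _ hc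
  have hrat : ∀ (T : Spec (CommRingCat.of k) ⟶ X), T ≫ p = 𝟙 _ →
      ∀ i (z : ↥(C i)), ι i z = T pt → IsClosed {z} := by
    intro T hT i z hz
    haveI := hι i
    let y := z
    have hsub : ∀ z' : ↥(C i), z ⤳ z' → IsClosed {z'} → z' = z := by
      intro z' hzz hz'
      by_contra hne
      obtain ⟨U, hU, hzU, hz'U⟩ : ∃ U : X.Opens, IsAffineOpen U ∧ ι i z' ∈ U ∧ ι i z ∈ U := by
        obtain ⟨U, hU, h', -⟩ := exists_isAffineOpen_mem_and_subset (U := (⊤ : X.Opens))
          (Set.mem_univ (ι i z'))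
        exact ⟨U, hU, h', (hzz.map (ι i).continuous).mem_open U.2 h'⟩
      exact hne ((Groth.Agent.S15439.closed_in_affine p T hT hU hzU hz'U hz
        (hzz.map (ι i).continuous)) |> fun e => (ι i).isEmbedding.injective e)
    obtain ⟨z', hz'mem, hz'cl⟩ := nonempty_inter_closedPoints (Z := closure ({z} : Set ↥(C i)))
      ⟨z, subset_closure rfl⟩ isClosed_closure.isLocallyClosed
    rw [← hsub z' (specializes_iff_mem_closure.2 hz'mem) hz'cl]
    exact hz'cl
  obtain ⟨i₀, z₀, hz₀⟩ := Set.mem_iUnion.1 hPC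
  obtain ⟨i₁, z₁, hz₁⟩ := Set.mem_iUnion.1 hQC
  have hc₀ := hrat P hP i₀ z₀ hz₀
  have hc₁ := hrat Q hQ i₁ z₁ hz₁
  let A : Set (Fin n) := {i | ∃ z : ↥(C i), IsClosed {z} ∧ R (P pt) (ι i z)}
  have hclosed : ∀ B : Set (Fin n), IsClosed (⋃ i ∈ B, Set.range ⇑(ι i)) := fun B =>
    B.toFinite.isClosed_biUnion fun i _ => (haveI := hι i; (ι i).isClosedEmbedding.isClosed_range)
  have hA₀ : i₀ ∈ A := ⟨z₀, hc₀, by
    rw [hz₀]
    show _ ∈ AlgEqCyc.algTriv p
    rw [sub_self]
    exact zero_mem _⟩
  have hA₁ : i₁ ∈ A := by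
    by_contra hA
    obtain ⟨x, -, hxA, hxB⟩ := isPreconnected_closed_iff.1 hconn.isPreconnected _ _ (hclosed A)
      (hclosed Aᶜ) (by
        intro x hx
        obtain ⟨i, hi⟩ := Set.mem_iUnion.1 hx
        by_cases h : i ∈ A
        · exact Or.inl (Set.mem_biUnion h hi)
        · exact Or.inr (Set.mem_biUnion h hi))
      ⟨P pt, hPC, Set.mem_biUnion hA₀ ⟨z₀, hz₀⟩⟩ ⟨Q pt, hQC, Set.mem_biUnion hA ⟨z₁, hz₁⟩⟩
    obtain ⟨i, ⟨w, hw, hRw⟩, z, hz⟩ := Set.mem_iUnion₂.1 hxA
    obtain ⟨j, hj, z', hz'⟩ := Set.mem_iUnion₂.1 hxB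
    obtain ⟨c, hcmem, hc⟩ := nonempty_inter_closedPoints (Z := ι i ⁻¹' Set.range ⇑(ι j))
      ⟨z, z', hz'.trans hz.symm⟩
      ((haveI := hι j; (ι j).isClosedEmbedding.isClosed_range).preimage (ι i).continuous).isLocallyClosed
    obtain ⟨c', hc'⟩ := hcmem
    exact hj ⟨c', hpre j c' (hc' ▸ himg i c hc), hc' ▸ rtrans hRw (hsame i w c hw hc)⟩
  obtain ⟨w, hw, hRw⟩ := hA₁
  have := rtrans hRw (hsame i₁ w z₁ hw hc₁)
  rw [hz₁] at this
  exact this

end Groth.Agent.S15439
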