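import Groth.Statements.S1544
import Groth.Agent.VarietyBC.Reduced

set_option backward.isDefEq.respectTransparency false

set_option autoImplicit false
universe u
open CategoryTheory CategoryTheory.Limits AlgebraicGeometry
attribute [local instance] Curv2.resAlgebra Curv2.stalkAlgebra
open Variety

namespace Groth.Agent.S1544

open Groth.VarietyBC


/-- For an integral scheme over k, geometric reducedness of the scheme is equivalent to geometric
reducedness over k of the function field (the local ring at the generic point), i.e. a separable
extension of k in the sense of commutative algebra. The source states this for varieties;
integrality is what the proof uses. -/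
theorem result (k : Type u) [Field k] (X : Scheme.{u}) [X.Over (Spec (CommRingCat.of k))] [IsIntegral X] :
    GeometricallyReduced (X ↘ (Spec (CommRingCat.of k))) ↔ Algebra.IsGeometricallyReduced k X.functionField := by
  rw [geometricallyReduced_iff_forall]
  refine ⟨fun h => (isGeomReducedAt_iff _).mp (h _), fun h x => ?_⟩
  rw [isGeomReducedAt_iff]
  letI := Curv2.stalkAlgebra k X x
  letI := Curv2.stalkAlgebra k X (genericPoint X)
  exact Algebra.IsGeometricallyReduced.of_injective (specializesHom (genericPoint_specializes x))
    (IsFractionRing.injective (X.presheaf.stalk x) X.functionField)

end Groth.Agent.S1544
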