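import Groth.Statements.S15459
import Groth.Agent.Misc10.Weil.Cycles
-- import your own Groth.Agent.* helpers here

set_option autoImplicit false
universe u v
open CategoryTheory AlgebraicGeometry
open WeilCoh

namespace Groth.Agent.S15459

open Groth.Misc10.Weil

/-- In the case r = 1, to which the general case reduces once the cycle class map is known to be a ring
homomorphism: for a Weil cohomology theory H^* (coefficients in K of characteristic zero, on
nonsingular connected projective varieties over an algebraically closed field k), such a variety X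
and a 0-cycle α on X, the intersection number (α) = deg(α) equals Tr_X(cl(α)). The dimension
function δ on X is the one induced from weight 0 on Spec k and deg is the degree of 0-cycles over k. -/
theorem result (k : Type u) [Field k] [IsAlgClosed k] (K : Type v) [Field K] [CharZero K]
    (T : WeilCoh.Theory k K) (X : WeilCoh.Var k) [QuasiCompact X.obj.hom]
    (δ : ↥X.obj.left → ℤ) (hδ : Cyc.DeltaCompat X.obj.hom δ (fun _ => 0))
    (α : AlgebraicCycle X.obj.left ℤ) (hα : α ∈ Cyc.Zk X.obj.left δ 0) :
    (ChowOps.deg X.obj.hom δ α : K) = T.tr X (T.clCyc X α) := by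
  have hs : ∀ x, x ∈ (finite_support X α).toFinset ↔ α x ≠ 0 := fun x => by simp
  rw [← mul_one (T.clCyc X α), tr_clCyc_mul T X α 1]
  have hdeg : ChowOps.deg X.obj.hom δ α = ∑ x ∈ (finite_support X α).toFinset, α x := by
    show (∑ᶠ x ∈ X.obj.hom ⁻¹' {(IsLocalRing.closedPoint k : Spec (CommRingCat.of k))},
      α x * ((AlgebraicCycle.mapCoeff X.obj.hom δ (fun _ => (0 : ℤ)) x : ℕ) : ℤ)) = _
    rw [
      show X.obj.hom ⁻¹' {(IsLocalRing.closedPoint k : Spec (CommRingCat.of k))} = Set.univ from
        Set.eq_univ_of_forall fun x => Set.mem_singleton_iff.2 (Subsingleton.elim _ _), finsum_mem_univ,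
      finsum_eq_finsetSum_of_support_subset _ (s := (finite_support X α).toFinset) (fun x hx => by
        simp only [Function.mem_support, ne_eq, mul_eq_zero, not_or] at hx
        exact (hs x).2 hx.1)]
    refine Finset.sum_congr rfl fun x hx => ?_
    have h0 : δ x = 0 := by
      by_contra h
      exact (hs x).1 hx (hα x h)
    rw [AlgebraicCycle.mapCoeff, if_pos h0, residueDegree_hom_eq_one X x (by
      rw [delta_eq_pdim X hδ] at h0; exact_mod_cast h0), Nat.cast_one, mul_one]
  rw [hdeg, Int.cast_sum]
  refine Finset.sum_congr rfl fun x hx => ?_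
  have h0 : δ x = 0 := by
    by_contra h
    exact (hs x).1 hx (hα x h)
  rw [delta_eq_pdim X hδ] at h0
  rw [mul_one, tr_cl_closed T X (isClosed_of_pdim_eq_zero X (by exact_mod_cast h0)), mul_one]

end Groth.Agent.S15459
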