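import Groth.Statements.S15441
import Groth.Agent.S15459
import Groth.Agent.WeilCoh.Basic
-- import your own Groth.Agent.* helpers here

set_option autoImplicit false
universe u v
open WeilCoh

open CategoryTheory AlgebraicGeometry
open WeilCoh
open Groth.Misc10.Weil

namespace Groth.Agent.S15441

open AlgebraicGeometry CategoryTheory in
/-- Let k be an algebraically closed field of characteristic zero, K a field of characteristic zero and
T a Weil cohomology theory over k with coefficients in K, defined on connected smooth projective
varieties over k; let X be such a variety, δ the weight function on X induced from weight 0 on the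
point Spec k, and α a zero-cycle on X for δ. Then α is homologically equivalent to zero for T, i.e.
its cycle class in the cohomology of X vanishes, if and only if the degree of α over k is zero. -/
theorem result (k : Type u) [Field k] [IsAlgClosed k]
    [CharZero k] (K : Type v) [Field K] [CharZero K] (T : WeilCoh.Theory k K) (X : WeilCoh.Var k)
    [QuasiCompact X.obj.hom] (δ : ↥X.obj.left → ℤ) (hδ : Cyc.DeltaCompat X.obj.hom δ (fun _ => 0))
    (α : AlgebraicCycle X.obj.left ℤ) (hα : α ∈ Cyc.Zk X.obj.left δ 0) :
    T.IsHomEquivZero X α ↔ ChowOps.deg X.obj.hom δ α = 0 := by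
  have hdeg := Groth.Agent.S15459.result k K T X δ hδ α hα
  have hmem : T.clCyc X α ∈ T.gr X (2 * (WeilCoh.dim X.obj.left : ℤ)) := by
    show (∑ᶠ ξ : X.obj.left, ((α ξ : ℤ) : K) • T.cl X ξ) ∈ _
    refine finsum_induction (· ∈ T.gr X (2 * (WeilCoh.dim X.obj.left : ℤ))) (zero_mem _) (fun x y => add_mem) fun x => ?_
    by_cases hx : α x = 0
    · rw [hx, Int.cast_zero, zero_smul]; exact zero_mem _
    · refine Submodule.smul_mem _ _ ?_
      have h0 : δ x = 0 := by_contra fun h => hx (hα x h)
      rw [delta_eq_pdim X hδ] at h0
      have hc : WeilCoh.codim X.obj.left x = WeilCoh.dim X.obj.left := by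
        rw [WeilCoh.codim, (by exact_mod_cast h0 : WeilCoh.pdim X.obj.left x = 0), Nat.sub_zero]
      simpa [hc] using T.cl_mem X x
  refine ⟨fun h => ?_, fun h => ?_⟩
  · have h' : T.clCyc X α = 0 := h
    rw [h', map_zero] at hdeg
    exact_mod_cast hdeg
  · show T.clCyc X α = 0
    refine Groth.WeilCoh.eq_of_tr_eq T X hmem (zero_mem _) ?_
    rw [← hdeg, h, map_zero, Int.cast_zero]

end Groth.Agent.S15441
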