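import Groth.Statements.S15446
import Groth.Agent.WeilCoh.Classes

set_option autoImplicit false
universe u v
open CategoryTheory AlgebraicGeometry
open WeilCoh

namespace Groth.Agent.S15446

/-- For a Weil cohomology theory H^* (coefficients in K of characteristic zero, on nonsingular connected
projective varieties over an algebraically closed field k), a morphism f : X → Y of such varieties,
α ∈ H^i(X) and γ ∈ H^j(Y), one has f_*(α ∪ f^*(γ)) = f_*(α) ∪ γ, where f_* is the push-forward
defined by Tr_Y(f_*(α) ∪ β) = Tr_X(α ∪ f^*(β)). -/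
theorem result (k : Type u) [Field k] [IsAlgClosed k] (K : Type v) [Field K] [CharZero K]
    (T : WeilCoh.Theory k K) (X Y : WeilCoh.Var k) (f : X ⟶ Y) (i j : ℤ)
    (a : ↥(T.gr X i)) (c : ↥(T.gr Y j)) :
    (T.push f (i + j) ⟨(a : T.H X) * T.pull f c, SetLike.mul_mem_graded a.2 (T.pull_mem f j c c.2)⟩ : T.H Y) =
      (T.push f i a : T.H Y) * c := by
  have hn := Submodule.coe_mem (T.push f i a)
  refine Groth.WeilCoh.eq_of_tr_mul T Y _ (2 * (WeilCoh.dim X.obj.left : ℤ) - (i + j)) ?_
    (Submodule.coe_mem _) ?_ fun b hb => ?_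
  · omega
  · convert SetLike.mul_mem_graded hn c.2 using 2
    omega
  · have hcb : (c : T.H Y) * b ∈ T.gr Y (2 * (WeilCoh.dim X.obj.left : ℤ) - i) := by
      convert SetLike.mul_mem_graded c.2 hb using 2
      omega
    rw [Groth.WeilCoh.tr_push T f (i + j) _ hb, mul_assoc (T.push f i a : T.H Y),
      Groth.WeilCoh.tr_push T f i a hcb, map_mul (T.pull f), ← mul_assoc]

end Groth.Agent.S15446
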