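import Groth.Statements.S15449
import Groth.Agent.WeilCoh.Classes

set_option autoImplicit false
universe u v
open CategoryTheory AlgebraicGeometry
open WeilCoh

namespace Groth.Agent.S15449

/-- For a Weil cohomology theory H^* (coefficients in K of characteristic zero, on nonsingular connected
projective varieties over an algebraically closed field k), such varieties X and Y with product X ×
Y and projections p, q, and α ∈ H^i(Y): p_*(q^*(α)) = Tr_Y(α) (as a multiple of 1 ∈ H^0(X)) if i = 2
dim Y, and p_*(q^*(α)) = 0 otherwise. The product is any object Q with morphisms p : Q → X, q : Q →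
Y forming a cartesian square over Spec k; both sides are read in the total cohomology ring of X. -/
theorem result (k : Type u) [Field k] [IsAlgClosed k] (K : Type v) [Field K] [CharZero K]
    (T : WeilCoh.Theory k K) (X Y Q : WeilCoh.Var k) (p : Q ⟶ X) (q : Q ⟶ Y)
    (hQ : WeilCoh.IsProd p q) (i : ℤ) (a : ↥(T.gr Y i)) :
    (i = 2 * (WeilCoh.dim Y.obj.left : ℤ) →
      (T.push p i ⟨T.pull q a, T.pull_mem q i a a.2⟩ : T.H X) = algebraMap K (T.H X) (T.tr Y a)) ∧
    (i ≠ 2 * (WeilCoh.dim Y.obj.left : ℤ) →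
      (T.push p i ⟨T.pull q a, T.pull_mem q i a a.2⟩ : T.H X) = 0) := by
  have hd := Groth.WeilCoh.dim_prod T p q hQ
  have hn := Submodule.coe_mem (T.push p i ⟨T.pull q a, T.pull_mem q i a a.2⟩)
  refine ⟨fun hi => ?_, fun hi => ?_⟩
  · refine Groth.WeilCoh.eq_of_tr_mul T X 0 (2 * (WeilCoh.dim X.obj.left : ℤ)) (zero_add _) ?_ ?_
      fun b hb => ?_
    · convert hn using 2
      omega
    · rw [Algebra.algebraMap_eq_smul_one]
      exact (T.gr X 0).smul_mem _ (Groth.WeilCoh.one_mem T X)
    · have hb' : b ∈ T.gr X (2 * (WeilCoh.dim Q.obj.left : ℤ) - i) := by convert hb using 2; omega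
      rw [Groth.WeilCoh.tr_push T p i _ hb']
      show T.tr Q (T.pull q a * T.pull p b) = _
      rw [Groth.WeilCoh.mul_comm_even T Q (i := i) ⟨WeilCoh.dim Y.obj.left, by omega⟩ (T.pull_mem q i a a.2) (T.pull_mem p _ b hb),
        T.tr_prod p q hQ b a hb (by rw [← hi]; exact a.2), ← Algebra.smul_def, map_smul, smul_eq_mul]
      exact mul_comm _ _
  · rcases lt_or_gt_of_ne hi with h | h
    · exact (Submodule.mem_bot K).1 ((SetLike.ext_iff.1 (T.vanish X _ (Or.inl (by omega))) _).1 hn)
    · have ha : (a : T.H Y) = 0 := by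
        exact (Submodule.mem_bot K).1 ((SetLike.ext_iff.1 (T.vanish Y i (Or.inr h)) _).1 a.2)
      rw [show (⟨T.pull q a, T.pull_mem q i a a.2⟩ : T.gr Q i) = 0 from Subtype.ext (by simp [ha]),
        map_zero]
      rfl

end Groth.Agent.S15449
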