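import Groth.Statements.S15458
import Groth.Agent.Misc10.Weil.Cycles
-- import your own Groth.Agent.* helpers here

set_option autoImplicit false
universe u v
open CategoryTheory AlgebraicGeometry
open WeilCoh

namespace Groth.Agent.S15458

open Groth.Misc10.Weil

/-- The cycle class map is compatible with push-forward: for a Weil cohomology theory H^* (coefficients
in K of characteristic zero, on nonsingular connected projective varieties over an algebraically
closed field k), a morphism f : X → Y of such varieties and a cycle α on X, f_*(cl(α)) = cl(f_*(α)).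
Stated through the identity characterising the cohomological push-forward: Tr_Y(cl(f_* α) ∪ β) =
Tr_X(cl(α) ∪ f^*(β)) for every β ∈ H^*(Y), where f_* α is the proper push-forward of cycles (the
coefficient of [V] goes to deg(V/f(V)) [f(V)], and to 0 when f(V) has smaller dimension) for the
dimension functions δ_X, δ_Y induced from weight 0 on Spec k. -/
theorem result (k : Type u) [Field k] [IsAlgClosed k] (K : Type v) [Field K] [CharZero K]
    (T : WeilCoh.Theory k K) (X Y : WeilCoh.Var k) (f : X ⟶ Y)
    [QuasiCompact (WeilCoh.sm f)]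
    (δX : ↥X.obj.left → ℤ) (hδX : Cyc.DeltaCompat X.obj.hom δX (fun _ => 0))
    (δY : ↥Y.obj.left → ℤ) (hδY : Cyc.DeltaCompat Y.obj.hom δY (fun _ => 0))
    (α : AlgebraicCycle X.obj.left ℤ) (b : T.H Y) :
    T.tr Y (T.clCyc Y (AlgebraicCycle.map (WeilCoh.sm f) δX δY α) * b) =
      T.tr X (T.clCyc X α * T.pull f b) := by
  classical
  set s := (finite_support X α).toFinset
  have hs : ∀ x, x ∈ s ↔ α x ≠ 0 := fun x => by simp [s]
  have hc : ∀ x, AlgebraicCycle.mapCoeff (WeilCoh.sm f) δX δY x = (WeilCoh.sm f).residueDegree x := by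
    intro x
    unfold AlgebraicCycle.mapCoeff
    split_ifs with h
    · rfl
    · by_contra h0
      refine h ?_
      rw [delta_eq_pdim X hδX, delta_eq_pdim Y hδY]
      exact_mod_cast (pdim_image_of_residueDegree f x (Ne.symm h0)).symm
  have hval : ∀ y, AlgebraicCycle.map (WeilCoh.sm f) δX δY α y =
      ∑ x ∈ s with WeilCoh.sm f x = y, α x * ((WeilCoh.sm f).residueDegree x : ℤ) := by
    intro y
    rw [AlgebraicCycle.map, Function.locallyFinsupp.map_apply,
      finsum_mem_eq_sum_of_inter_support_eq _ (t := s.filter fun x => WeilCoh.sm f x = y)]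
    · exact Finset.sum_congr rfl fun x _ => by rw [hc]
    · ext x
      simp only [Set.mem_inter_iff, Set.mem_preimage, Set.mem_singleton_iff, Function.mem_support, ne_eq,
        mul_eq_zero, not_or, Finset.coe_filter, Set.mem_setOf_eq, hs]
      tauto
  rw [tr_clCyc_mul T X, tr_clCyc_mul T Y]
  have hsub : (finite_support Y (AlgebraicCycle.map (WeilCoh.sm f) δX δY α)).toFinset ⊆ s.image (WeilCoh.sm f) := by
    intro y hy
    rw [Set.Finite.mem_toFinset, Function.mem_support, hval] at hy
    obtain ⟨x, hx, -⟩ := Finset.exists_ne_zero_of_sum_ne_zero hy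
    exact Finset.mem_image.2 ⟨x, (Finset.mem_filter.1 hx).1, (Finset.mem_filter.1 hx).2⟩
  rw [Finset.sum_subset hsub (fun y _ hy => by simp_all),
    ← Finset.sum_fiberwise_of_maps_to (g := WeilCoh.sm f) (t := s.image (WeilCoh.sm f))
      (fun x hx => Finset.mem_image_of_mem _ hx)]
  refine Finset.sum_congr rfl fun y _ => ?_
  rw [hval, Int.cast_sum, Finset.sum_mul]
  refine Finset.sum_congr rfl fun x hx => ?_
  rw [cl_push_all T f x b, (Finset.mem_filter.1 hx).2, Int.cast_mul, Int.cast_natCast, mul_assoc]

end Groth.Agent.S15458
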