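import Groth.Statements.S15465
import Mathlib.CategoryTheory.Abelian.Refinements


set_option autoImplicit false
universe v u
open HomAlg
open CategoryTheory CategoryTheory.Limits

namespace Groth.Agent.S15465

open CategoryTheory CategoryTheory.Limits in
/-- In an abelian category let 0 → A₂ → B₂ → C₂ → 0 (maps i₂, π₂), 0 → A₁ → A₂ → A₃ → 0 (maps i₁, p₁)
and 0 → C₁ → C₂ → C₃ → 0 (maps j, q) be short exact sequences, let α = i₁ ≫ i₂ : A₁ → B₂ and β = π₂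
≫ q : B₂ → C₃, and let K = ker β / im α be the homology object of the complex A₁ → B₂ → C₃. Let f :
A₃ → K be the map induced by i₂ (the unique map whose composite with p₁ is the homology class of the
cycle i₂) and g : K → C₁ the map induced by π₂ (the unique map whose composite with j is the map K →
C₂ induced by π₂). Then 0 → A₃ → K → C₁ → 0, with maps f and g, is a short exact sequence. (The
hypotheses w, h₂, h₃ are consequences of i₂ ≫ π₂ = 0, carried so that the maps can be named; the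
published statement assumes in addition that the category has enough injective objects, which plays
no role in this assertion.) -/
theorem result
    {C : Type u} [Category.{v} C] [Abelian C] {A₁ A₂ A₃ B₂ C₁ C₂ C₃ : C}
    (i₁ : A₁ ⟶ A₂) (p₁ : A₂ ⟶ A₃) (wA : i₁ ≫ p₁ = 0) (hA : (ShortComplex.mk i₁ p₁ wA).ShortExact)
    (i₂ : A₂ ⟶ B₂) (π₂ : B₂ ⟶ C₂) (wB : i₂ ≫ π₂ = 0) (hB : (ShortComplex.mk i₂ π₂ wB).ShortExact)
    (j : C₁ ⟶ C₂) (q : C₂ ⟶ C₃) (wC : j ≫ q = 0) (hC : (ShortComplex.mk j q wC).ShortExact)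
    (w : (i₁ ≫ i₂) ≫ (π₂ ≫ q) = 0) (h₂ : i₂ ≫ (π₂ ≫ q) = 0) (h₃ : (i₁ ≫ i₂) ≫ π₂ = 0)
    (f : A₃ ⟶ (CategoryTheory.ShortComplex.mk (i₁ ≫ i₂) (π₂ ≫ q) w).homology)
    (g : (CategoryTheory.ShortComplex.mk (i₁ ≫ i₂) (π₂ ≫ q) w).homology ⟶ C₁)
    (hf : p₁ ≫ f = (CategoryTheory.ShortComplex.mk (i₁ ≫ i₂) (π₂ ≫ q) w).liftCycles i₂ h₂ ≫ (CategoryTheory.ShortComplex.mk (i₁ ≫ i₂) (π₂ ≫ q) w).homologyπ)
    (hg : g ≫ j = (CategoryTheory.ShortComplex.mk (i₁ ≫ i₂) (π₂ ≫ q) w).homologyι ≫ (CategoryTheory.ShortComplex.mk (i₁ ≫ i₂) (π₂ ≫ q) w).descOpcycles π₂ h₃) :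
    ∃ wfg : f ≫ g = 0, (ShortComplex.mk f g wfg).ShortExact := by
  have := hA.mono_f
  have := hA.epi_g
  have := hB.mono_f
  have := hB.epi_g
  have := hC.mono_f
  dsimp at *
  let S := ShortComplex.mk (i₁ ≫ i₂) (π₂ ≫ q) w
  change p₁ ≫ f = S.liftCycles i₂ h₂ ≫ S.homologyπ at hf
  change g ≫ j = S.homologyι ≫ S.descOpcycles π₂ h₃ at hg
  have hι : S.homologyπ ≫ S.homologyι ≫ S.descOpcycles π₂ h₃ = S.iCycles ≫ π₂ := by
    rw [S.homology_π_ι_assoc, S.p_descOpcycles]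
  have wfg : f ≫ g = 0 := by
    rw [← cancel_epi p₁, comp_zero, ← cancel_mono j, zero_comp, Category.assoc, Category.assoc, hg, reassoc_of% hf]
    rw [hι, S.liftCycles_i_assoc, wB]
  refine ⟨wfg, { exact := ?_, mono_f := ?_, epi_g := ?_ }⟩
  · rw [ShortComplex.exact_iff_exact_up_to_refinements]
    intro T (y : T ⟶ S.homology) (hy : y ≫ g = 0)
    obtain ⟨T₁, π₁, _, z, hz⟩ := surjective_up_to_refinements_of_epi S.homologyπ y
    have h0 : (z ≫ S.iCycles) ≫ π₂ = 0 := by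
      rw [Category.assoc, ← hι, ← reassoc_of% hz, ← hg, reassoc_of% hy, zero_comp, comp_zero]
    obtain ⟨T₂, π₃, _, (a : T₂ ⟶ A₂), (ha : π₃ ≫ z ≫ S.iCycles = a ≫ i₂)⟩ := hB.exact.exact_up_to_refinements _ h0
    refine ⟨T₂, π₃ ≫ π₁, inferInstance, a ≫ p₁, ?_⟩
    have hza : π₃ ≫ z = a ≫ S.liftCycles i₂ h₂ := by
      rw [← cancel_mono S.iCycles, Category.assoc, Category.assoc, S.liftCycles_i]; exact ha
    change (π₃ ≫ π₁) ≫ y = (a ≫ p₁) ≫ f
    rw [Category.assoc, Category.assoc, hz, hf, reassoc_of% hza]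
  · refine Preadditive.mono_of_cancel_zero _ fun {T} (x : T ⟶ A₃) (hx : x ≫ f = 0) => ?_
    obtain ⟨T₁, π₁, _, a, ha⟩ := surjective_up_to_refinements_of_epi p₁ x
    have h0 : (a ≫ S.liftCycles i₂ h₂) ≫ S.homologyπ = 0 := by
      rw [Category.assoc, ← hf, ← reassoc_of% ha, hx, comp_zero]
    obtain ⟨T₂, π₃, _, (b : T₂ ⟶ A₁), hb⟩ := (S.comp_homologyπ_eq_zero_iff_up_to_refinements _).1 h0
    have hab : π₃ ≫ a = b ≫ i₁ := by
      rw [← cancel_mono i₂]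
      simpa [S] using hb =≫ S.iCycles
    rw [← cancel_epi (π₃ ≫ π₁), comp_zero, Category.assoc, ha, reassoc_of% hab, wA, comp_zero]
  · rw [epi_iff_surjective_up_to_refinements]
    intro T (c : T ⟶ C₁)
    obtain ⟨T₁, π₁, _, b, hb⟩ := surjective_up_to_refinements_of_epi π₂ (c ≫ j)
    have hq : b ≫ π₂ ≫ q = 0 := by rw [← reassoc_of% hb, wC, comp_zero, comp_zero]
    refine ⟨T₁, π₁, inferInstance, S.liftCycles b hq ≫ S.homologyπ, ?_⟩
    change π₁ ≫ c = (_ ≫ _) ≫ g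
    rw [← cancel_mono j, Category.assoc, hb, Category.assoc, Category.assoc, hg, hι, S.liftCycles_i_assoc]

end Groth.Agent.S15465
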