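import Groth.Statements.S15466
import Mathlib

set_option autoImplicit false
universe v u
open HomAlg

namespace Groth.Agent.S15466

open CategoryTheory CategoryTheory.Limits in
/-- In an abelian category let 0 → A₂ → B₂ → C₂ → 0 (maps i₂, π₂), 0 → A₁ → A₂ → A₃ → 0 (maps i₁, p₁)
and 0 → C₁ → C₂ → C₃ → 0 (maps j, q) be short exact sequences, α = i₁ ≫ i₂, β = π₂ ≫ q, K = ker β /
im α, and let f : A₃ → K and g : K → C₁ be the maps induced by i₂ and π₂ (pinned by their defining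
squares), so that 0 → A₃ → K → C₁ → 0 is short exact. Sending a section s of g to the subobject B₁
of B₂ obtained by pulling the image of s back along ker β → K and then including ker β into B₂ is a
bijection from the sections of g (equivalently, the splittings of that sequence) onto the subobjects
B₁ of B₂ that complete the data to a 3 × 3 diagram with exact rows and columns: there are maps A₁ →
B₁ → C₁ over i₁ ≫ i₂ and under π₂ forming a short exact sequence, and maps A₃ → B₂/B₁ → C₃ under i₂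
and over π₂ ≫ q forming a short exact sequence. (The hypotheses w, h₂, h₃ are consequences of i₂ ≫
π₂ = 0, carried so that the maps can be named; the published statement assumes in addition that the
category has enough injective objects, which plays no role here.) -/
theorem result
    {C : Type u} [Category.{v} C] [Abelian C] {A₁ A₂ A₃ B₂ C₁ C₂ C₃ : C}
    (i₁ : A₁ ⟶ A₂) (p₁ : A₂ ⟶ A₃) (wA : i₁ ≫ p₁ = 0) (hA : (ShortComplex.mk i₁ p₁ wA).ShortExact)
    (i₂ : A₂ ⟶ B₂) (π₂ : B₂ ⟶ C₂) (wB : i₂ ≫ π₂ = 0) (hB : (ShortComplex.mk i₂ π₂ wB).ShortExact)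
    (j : C₁ ⟶ C₂) (q : C₂ ⟶ C₃) (wC : j ≫ q = 0) (hC : (ShortComplex.mk j q wC).ShortExact)
    (w : (i₁ ≫ i₂) ≫ (π₂ ≫ q) = 0) (h₂ : i₂ ≫ (π₂ ≫ q) = 0) (h₃ : (i₁ ≫ i₂) ≫ π₂ = 0)
    (f : A₃ ⟶ (CategoryTheory.ShortComplex.mk (i₁ ≫ i₂) (π₂ ≫ q) w).homology)
    (g : (CategoryTheory.ShortComplex.mk (i₁ ≫ i₂) (π₂ ≫ q) w).homology ⟶ C₁)
    (hf : p₁ ≫ f = (CategoryTheory.ShortComplex.mk (i₁ ≫ i₂) (π₂ ≫ q) w).liftCycles i₂ h₂ ≫ (CategoryTheory.ShortComplex.mk (i₁ ≫ i₂) (π₂ ≫ q) w).homologyπ)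
    (hg : g ≫ j = (CategoryTheory.ShortComplex.mk (i₁ ≫ i₂) (π₂ ≫ q) w).homologyι ≫ (CategoryTheory.ShortComplex.mk (i₁ ≫ i₂) (π₂ ≫ q) w).descOpcycles π₂ h₃) :
    (∀ B₁ : Subobject B₂,
      (∃ (a : A₁ ⟶ (B₁ : C)) (c : (B₁ : C) ⟶ C₁) (wac : a ≫ c = 0)
         (a' : A₃ ⟶ cokernel B₁.arrow) (c' : cokernel B₁.arrow ⟶ C₃) (wac' : a' ≫ c' = 0),
         a ≫ B₁.arrow = i₁ ≫ i₂ ∧ c ≫ j = B₁.arrow ≫ π₂ ∧ (ShortComplex.mk a c wac).ShortExact ∧
         p₁ ≫ a' = i₂ ≫ cokernel.π B₁.arrow ∧ cokernel.π B₁.arrow ≫ c' = π₂ ≫ q ∧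
         (ShortComplex.mk a' c' wac').ShortExact) ↔
      ∃ s : C₁ ⟶ (CategoryTheory.ShortComplex.mk (i₁ ≫ i₂) (π₂ ≫ q) w).homology, s ≫ g = 𝟙 C₁ ∧
        (Subobject.map (CategoryTheory.ShortComplex.mk (i₁ ≫ i₂) (π₂ ≫ q) w).iCycles).obj ((Subobject.pullback (CategoryTheory.ShortComplex.mk (i₁ ≫ i₂) (π₂ ≫ q) w).homologyπ).obj (imageSubobject s)) = B₁) ∧
    (∀ s s' : C₁ ⟶ (CategoryTheory.ShortComplex.mk (i₁ ≫ i₂) (π₂ ≫ q) w).homology, s ≫ g = 𝟙 C₁ → s' ≫ g = 𝟙 C₁ →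
      (Subobject.map (CategoryTheory.ShortComplex.mk (i₁ ≫ i₂) (π₂ ≫ q) w).iCycles).obj ((Subobject.pullback (CategoryTheory.ShortComplex.mk (i₁ ≫ i₂) (π₂ ≫ q) w).homologyπ).obj (imageSubobject s)) = (Subobject.map (CategoryTheory.ShortComplex.mk (i₁ ≫ i₂) (π₂ ≫ q) w).iCycles).obj ((Subobject.pullback (CategoryTheory.ShortComplex.mk (i₁ ≫ i₂) (π₂ ≫ q) w).homologyπ).obj (imageSubobject s')) → s = s') := by
  have := hA.mono_f; have := hA.epi_g; have := hB.mono_f; have := hB.epi_g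
  have := hC.mono_f; have := hC.epi_g
  have hπg : (CategoryTheory.ShortComplex.mk (i₁ ≫ i₂) (π₂ ≫ q) w).homologyπ ≫ g ≫ j = (CategoryTheory.ShortComplex.mk (i₁ ≫ i₂) (π₂ ≫ q) w).iCycles ≫ π₂ := by
    rw [hg, ShortComplex.homology_π_ι_assoc, ShortComplex.p_descOpcycles]
  have hgj : ∀ {T : C} (x : T ⟶ (CategoryTheory.ShortComplex.mk (i₁ ≫ i₂) (π₂ ≫ q) w).cycles), x ≫ (CategoryTheory.ShortComplex.mk (i₁ ≫ i₂) (π₂ ≫ q) w).homologyπ ≫ g ≫ j = x ≫ (CategoryTheory.ShortComplex.mk (i₁ ≫ i₂) (π₂ ≫ q) w).iCycles ≫ π₂ := fun x => by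
    rw [hπg]
  have hα : (ShortComplex.mk (CategoryTheory.ShortComplex.mk (i₁ ≫ i₂) (π₂ ≫ q) w).toCycles (CategoryTheory.ShortComplex.mk (i₁ ≫ i₂) (π₂ ≫ q) w).homologyπ (CategoryTheory.ShortComplex.mk (i₁ ≫ i₂) (π₂ ≫ q) w).toCycles_comp_homologyπ).Exact :=
    ShortComplex.exact_of_g_is_cokernel _ (CategoryTheory.ShortComplex.mk (i₁ ≫ i₂) (π₂ ≫ q) w).homologyIsCokernel
  have hlc : i₁ ≫ (CategoryTheory.ShortComplex.mk (i₁ ≫ i₂) (π₂ ≫ q) w).liftCycles i₂ h₂ = (CategoryTheory.ShortComplex.mk (i₁ ≫ i₂) (π₂ ≫ q) w).toCycles := by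
    rw [← cancel_mono (CategoryTheory.ShortComplex.mk (i₁ ≫ i₂) (π₂ ≫ q) w).iCycles, Category.assoc, ShortComplex.liftCycles_i, ShortComplex.toCycles_i]
  -- the kernel of `g` is the image of `f`
  have hfg : ∀ {T : C} (x : T ⟶ (CategoryTheory.ShortComplex.mk (i₁ ≫ i₂) (π₂ ≫ q) w).homology), x ≫ g = 0 →
      ∃ (T' : C) (e : T' ⟶ T) (_ : Epi e) (v : T' ⟶ A₃), e ≫ x = v ≫ f := by
    intro T x hx
    obtain ⟨T₁, e₁, he₁, y, hy⟩ := surjective_up_to_refinements_of_epi (CategoryTheory.ShortComplex.mk (i₁ ≫ i₂) (π₂ ≫ q) w).homologyπ x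
    have h0 : (y ≫ (CategoryTheory.ShortComplex.mk (i₁ ≫ i₂) (π₂ ≫ q) w).iCycles) ≫ π₂ = 0 := by
      rw [Category.assoc, ← hgj, ← Category.assoc, ← hy, Category.assoc, ← Category.assoc x, hx, zero_comp,
        comp_zero]
    obtain ⟨T₂, e₂, he₂, v, hv⟩ := hB.exact.exact_up_to_refinements _ h0
    refine ⟨T₂, e₂ ≫ e₁, epi_comp _ _, v ≫ p₁, ?_⟩
    have hy' : e₂ ≫ y = v ≫ (CategoryTheory.ShortComplex.mk (i₁ ≫ i₂) (π₂ ≫ q) w).liftCycles i₂ h₂ := by
      rw [← cancel_mono (CategoryTheory.ShortComplex.mk (i₁ ≫ i₂) (π₂ ≫ q) w).iCycles, Category.assoc, Category.assoc, ShortComplex.liftCycles_i]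
      exact hv
    rw [Category.assoc, hy, ← Category.assoc, hy', Category.assoc, Category.assoc, hf]
  have key : ∀ (s : C₁ ⟶ (CategoryTheory.ShortComplex.mk (i₁ ≫ i₂) (π₂ ≫ q) w).homology) (hs : s ≫ g = 𝟙 C₁),
      haveI : Mono s := mono_of_mono_fac hs
      (Subobject.map (CategoryTheory.ShortComplex.mk (i₁ ≫ i₂) (π₂ ≫ q) w).iCycles).obj ((Subobject.pullback (CategoryTheory.ShortComplex.mk (i₁ ≫ i₂) (π₂ ≫ q) w).homologyπ).obj (imageSubobject s)) =
        Subobject.mk (pullback.fst (CategoryTheory.ShortComplex.mk (i₁ ≫ i₂) (π₂ ≫ q) w).homologyπ s ≫ (CategoryTheory.ShortComplex.mk (i₁ ≫ i₂) (π₂ ≫ q) w).iCycles) := by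
    intro s hs
    haveI : Mono s := mono_of_mono_fac hs
    rw [imageSubobject_mono, Subobject.pullback_obj_mk (IsPullback.of_hasPullback (CategoryTheory.ShortComplex.mk (i₁ ≫ i₂) (π₂ ≫ q) w).homologyπ s).flip,
      Subobject.map_mk]
  have hsnd : ∀ (s : C₁ ⟶ (CategoryTheory.ShortComplex.mk (i₁ ≫ i₂) (π₂ ≫ q) w).homology) (_ : s ≫ g = 𝟙 C₁),
      pullback.snd (CategoryTheory.ShortComplex.mk (i₁ ≫ i₂) (π₂ ≫ q) w).homologyπ s ≫ j = pullback.fst (CategoryTheory.ShortComplex.mk (i₁ ≫ i₂) (π₂ ≫ q) w).homologyπ s ≫ (CategoryTheory.ShortComplex.mk (i₁ ≫ i₂) (π₂ ≫ q) w).iCycles ≫ π₂ := fun s hs => by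
    rw [← hgj, ← Category.assoc, pullback.condition, Category.assoc, ← Category.assoc s, hs, Category.id_comp]
  refine ⟨fun B₁ => ⟨?_, ?_⟩, ?_⟩
  · rintro ⟨a, c, wac, -, -, -, ha, hc, hac, -, -, -⟩
    have := hac.epi_g
    let ℓ : (B₁ : C) ⟶ (CategoryTheory.ShortComplex.mk (i₁ ≫ i₂) (π₂ ≫ q) w).cycles := (CategoryTheory.ShortComplex.mk (i₁ ≫ i₂) (π₂ ≫ q) w).liftCycles B₁.arrow (by
      show B₁.arrow ≫ π₂ ≫ q = 0
      rw [← Category.assoc, ← hc, Category.assoc, wC, comp_zero])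
    have hℓ : a ≫ ℓ = (CategoryTheory.ShortComplex.mk (i₁ ≫ i₂) (π₂ ≫ q) w).toCycles := by
      rw [← cancel_mono (CategoryTheory.ShortComplex.mk (i₁ ≫ i₂) (π₂ ≫ q) w).iCycles, Category.assoc, ShortComplex.liftCycles_i, ShortComplex.toCycles_i, ha]
    have hℓ0 : a ≫ ℓ ≫ (CategoryTheory.ShortComplex.mk (i₁ ≫ i₂) (π₂ ≫ q) w).homologyπ = 0 := by
      rw [← Category.assoc, hℓ, ShortComplex.toCycles_comp_homologyπ]
    let s : C₁ ⟶ (CategoryTheory.ShortComplex.mk (i₁ ≫ i₂) (π₂ ≫ q) w).homology := hac.exact.desc (ℓ ≫ (CategoryTheory.ShortComplex.mk (i₁ ≫ i₂) (π₂ ≫ q) w).homologyπ) hℓ0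
    have hcs : c ≫ s = ℓ ≫ (CategoryTheory.ShortComplex.mk (i₁ ≫ i₂) (π₂ ≫ q) w).homologyπ := hac.exact.g_desc _ _
    have hs : s ≫ g = 𝟙 C₁ := by
      rw [← cancel_epi c, ← cancel_mono j, Category.assoc, Category.assoc, Category.comp_id, ← Category.assoc c s,
        hcs, Category.assoc, hgj, ShortComplex.liftCycles_i_assoc, hc]
    haveI : Mono s := mono_of_mono_fac hs
    refine ⟨s, hs, ?_⟩
    rw [key s hs]
    let θ : (B₁ : C) ⟶ pullback (CategoryTheory.ShortComplex.mk (i₁ ≫ i₂) (π₂ ≫ q) w).homologyπ s := pullback.lift ℓ c hcs.symm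
    let a' : A₁ ⟶ pullback (CategoryTheory.ShortComplex.mk (i₁ ≫ i₂) (π₂ ≫ q) w).homologyπ s := pullback.lift (CategoryTheory.ShortComplex.mk (i₁ ≫ i₂) (π₂ ≫ q) w).toCycles 0 (by simp)
    have hP : (ShortComplex.mk a' (pullback.snd (CategoryTheory.ShortComplex.mk (i₁ ≫ i₂) (π₂ ≫ q) w).homologyπ s) (by simp only [a']; exact pullback.lift_snd _ _ _)).ShortExact := by
      refine ShortComplex.ShortExact.mk' ?_ ?_ inferInstance
      · rw [ShortComplex.exact_iff_exact_up_to_refinements]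
        intro T x hx
        replace hx : x ≫ pullback.snd (CategoryTheory.ShortComplex.mk (i₁ ≫ i₂) (π₂ ≫ q) w).homologyπ s = 0 := hx
        obtain ⟨T', e, he, v, hv⟩ := hα.exact_up_to_refinements (x ≫ pullback.fst (CategoryTheory.ShortComplex.mk (i₁ ≫ i₂) (π₂ ≫ q) w).homologyπ s) (by
          show (x ≫ pullback.fst (CategoryTheory.ShortComplex.mk (i₁ ≫ i₂) (π₂ ≫ q) w).homologyπ s) ≫ (CategoryTheory.ShortComplex.mk (i₁ ≫ i₂) (π₂ ≫ q) w).homologyπ = 0
          rw [Category.assoc, pullback.condition, ← Category.assoc, hx, zero_comp])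
        refine ⟨T', e, he, v, pullback.hom_ext ?_ ?_⟩
        · rw [Category.assoc, Category.assoc]
          refine Eq.trans ?_ (congrArg (v ≫ ·) (pullback.lift_fst _ _ _)).symm
          exact hv
        · rw [Category.assoc, Category.assoc, hx, comp_zero]
          exact ((congrArg (v ≫ ·) (pullback.lift_snd _ _ _)).trans comp_zero).symm
      · have : Mono ((CategoryTheory.ShortComplex.mk (i₁ ≫ i₂) (π₂ ≫ q) w).toCycles ≫ (CategoryTheory.ShortComplex.mk (i₁ ≫ i₂) (π₂ ≫ q) w).iCycles) := by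
          rw [ShortComplex.toCycles_i]; exact mono_comp _ _
        have := mono_of_mono (CategoryTheory.ShortComplex.mk (i₁ ≫ i₂) (π₂ ≫ q) w).toCycles (CategoryTheory.ShortComplex.mk (i₁ ≫ i₂) (π₂ ≫ q) w).iCycles
        exact mono_of_mono_fac (pullback.lift_fst (C := C) _ _ _ : a' ≫ pullback.fst (CategoryTheory.ShortComplex.mk (i₁ ≫ i₂) (π₂ ≫ q) w).homologyπ s = (CategoryTheory.ShortComplex.mk (i₁ ≫ i₂) (π₂ ≫ q) w).toCycles)
    let φ : ShortComplex.mk a c wac ⟶ ShortComplex.mk a' (pullback.snd (CategoryTheory.ShortComplex.mk (i₁ ≫ i₂) (π₂ ≫ q) w).homologyπ s) (by simp only [a']; exact pullback.lift_snd _ _ _) :=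
      { τ₁ := 𝟙 _
        τ₂ := θ
        τ₃ := 𝟙 _
        comm₁₂ := by
          refine pullback.hom_ext ?_ ?_
          · rw [Category.assoc, Category.assoc]
            refine Eq.trans ?_ (congrArg (a ≫ ·) (pullback.lift_fst _ _ _)).symm
            exact ((congrArg (𝟙 _ ≫ ·) (pullback.lift_fst _ _ _)).trans (Category.id_comp _)).trans hℓ.symm
          · rw [Category.assoc, Category.assoc]
            refine Eq.trans ?_ (congrArg (a ≫ ·) (pullback.lift_snd _ _ _)).symm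
            exact ((congrArg (𝟙 _ ≫ ·) (pullback.lift_snd _ _ _)).trans (Category.id_comp _)).trans wac.symm
        comm₂₃ := (pullback.lift_snd _ _ _).trans (Category.comp_id _).symm }
    haveI : IsIso φ.τ₁ := inferInstanceAs (IsIso (𝟙 _))
    haveI : IsIso φ.τ₃ := inferInstanceAs (IsIso (𝟙 _))
    haveI : IsIso θ := ShortComplex.isIso₂_of_shortExact_of_isIso₁₃ φ hac hP
    refine (Subobject.mk_eq_mk_of_comm _ _ (asIso θ).symm ?_).trans B₁.mk_arrow
    show inv θ ≫ B₁.arrow = _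
    rw [IsIso.inv_comp_eq, ← Category.assoc, pullback.lift_fst, ShortComplex.liftCycles_i]
  · rintro ⟨s, hs, rfl⟩
    rw [key s hs]
    haveI : Mono s := mono_of_mono_fac hs
    obtain ⟨φ, hφ⟩ : ∃ φ : ((Subobject.mk (pullback.fst (CategoryTheory.ShortComplex.mk (i₁ ≫ i₂) (π₂ ≫ q) w).homologyπ s ≫ (CategoryTheory.ShortComplex.mk (i₁ ≫ i₂) (π₂ ≫ q) w).iCycles)) : C) ≅ pullback (CategoryTheory.ShortComplex.mk (i₁ ≫ i₂) (π₂ ≫ q) w).homologyπ s,
        φ.hom ≫ pullback.fst (CategoryTheory.ShortComplex.mk (i₁ ≫ i₂) (π₂ ≫ q) w).homologyπ s ≫ (CategoryTheory.ShortComplex.mk (i₁ ≫ i₂) (π₂ ≫ q) w).iCycles = (Subobject.mk (pullback.fst (CategoryTheory.ShortComplex.mk (i₁ ≫ i₂) (π₂ ≫ q) w).homologyπ s ≫ (CategoryTheory.ShortComplex.mk (i₁ ≫ i₂) (π₂ ≫ q) w).iCycles)).arrow :=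
      ⟨Subobject.underlyingIso _, Subobject.underlyingIso_hom_comp_eq_mk _⟩
    revert φ
    generalize Subobject.mk (pullback.fst (CategoryTheory.ShortComplex.mk (i₁ ≫ i₂) (π₂ ≫ q) w).homologyπ s ≫ (CategoryTheory.ShortComplex.mk (i₁ ≫ i₂) (π₂ ≫ q) w).iCycles) = B₁
    intro φ hφ
    have harr : B₁.arrow = φ.hom ≫ pullback.fst (CategoryTheory.ShortComplex.mk (i₁ ≫ i₂) (π₂ ≫ q) w).homologyπ s ≫ (CategoryTheory.ShortComplex.mk (i₁ ≫ i₂) (π₂ ≫ q) w).iCycles := hφ.symm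
    have hinv : φ.inv ≫ B₁.arrow = pullback.fst (CategoryTheory.ShortComplex.mk (i₁ ≫ i₂) (π₂ ≫ q) w).homologyπ s ≫ (CategoryTheory.ShortComplex.mk (i₁ ≫ i₂) (π₂ ≫ q) w).iCycles := by
      rw [← hφ, Iso.inv_hom_id_assoc]
    let a : A₁ ⟶ (B₁ : C) := pullback.lift (CategoryTheory.ShortComplex.mk (i₁ ≫ i₂) (π₂ ≫ q) w).toCycles 0 (by simp) ≫ φ.inv
    let c : (B₁ : C) ⟶ C₁ := φ.hom ≫ pullback.snd (CategoryTheory.ShortComplex.mk (i₁ ≫ i₂) (π₂ ≫ q) w).homologyπ s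
    have haa : a ≫ B₁.arrow = i₁ ≫ i₂ := by
      simp only [a, Category.assoc, hinv]
      rw [← Category.assoc]
      exact (congrArg (· ≫ (CategoryTheory.ShortComplex.mk (i₁ ≫ i₂) (π₂ ≫ q) w).iCycles) (pullback.lift_fst _ _ _)).trans (CategoryTheory.ShortComplex.mk (i₁ ≫ i₂) (π₂ ≫ q) w).toCycles_i
    have hcc : c ≫ j = B₁.arrow ≫ π₂ := by
      rw [← hφ]; simp only [c, Category.assoc, hsnd s hs]
    have hqB : B₁.arrow ≫ π₂ ≫ q = 0 := by
      rw [← Category.assoc, ← hcc, Category.assoc, wC, comp_zero]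
    have hi₁ : i₁ ≫ i₂ ≫ cokernel.π B₁.arrow = 0 := by
      exact (Category.assoc _ _ _).symm.trans ((congrArg (· ≫ cokernel.π B₁.arrow) haa).symm.trans
        (by rw [Category.assoc, cokernel.condition, comp_zero]))
    let a' : A₃ ⟶ cokernel B₁.arrow := hA.exact.desc (i₂ ≫ cokernel.π B₁.arrow) hi₁
    have ha' : p₁ ≫ a' = i₂ ≫ cokernel.π B₁.arrow := hA.exact.g_desc _ _
    let c' : cokernel B₁.arrow ⟶ C₃ := cokernel.desc _ (π₂ ≫ q) hqB
    have wac : a ≫ c = 0 := by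
      simp only [a, c, Category.assoc, Iso.inv_hom_id_assoc]
      exact pullback.lift_snd _ _ _
    have wac' : a' ≫ c' = 0 := by
      rw [← cancel_epi p₁, ← Category.assoc, ha', Category.assoc, cokernel.π_desc, reassoc_of% wB, zero_comp,
        comp_zero]
    refine ⟨a, c, wac, a', c', wac', haa, hcc, ?_, ha', cokernel.π_desc _ _ _, ?_⟩
    · have hec : Epi c := epi_comp _ _
      have : Mono (a ≫ B₁.arrow) := by rw [haa]; exact mono_comp _ _
      refine ShortComplex.ShortExact.mk' ?_ (mono_of_mono a B₁.arrow) hec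
      rw [ShortComplex.exact_iff_exact_up_to_refinements]
      intro T x hx
      replace hx : (x ≫ φ.hom) ≫ pullback.snd (CategoryTheory.ShortComplex.mk (i₁ ≫ i₂) (π₂ ≫ q) w).homologyπ s = 0 := by
        rw [Category.assoc]; exact hx
      obtain ⟨T', e, he, v, hv⟩ := hα.exact_up_to_refinements ((x ≫ φ.hom) ≫ pullback.fst (CategoryTheory.ShortComplex.mk (i₁ ≫ i₂) (π₂ ≫ q) w).homologyπ s) (by
        show ((x ≫ φ.hom) ≫ pullback.fst (CategoryTheory.ShortComplex.mk (i₁ ≫ i₂) (π₂ ≫ q) w).homologyπ s) ≫ (CategoryTheory.ShortComplex.mk (i₁ ≫ i₂) (π₂ ≫ q) w).homologyπ = 0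
        rw [Category.assoc, pullback.condition, ← Category.assoc, hx, zero_comp])
      refine ⟨T', e, he, v, ?_⟩
      show e ≫ x = v ≫ a
      rw [← cancel_mono φ.hom]
      simp only [a, Category.assoc, Iso.inv_hom_id, Category.comp_id]
      refine pullback.hom_ext ?_ ?_
      · rw [Category.assoc, Category.assoc, Category.assoc]
        refine Eq.trans ?_ (congrArg (v ≫ ·) (pullback.lift_fst _ _ _)).symm
        simpa [Category.assoc] using hv
      · rw [Category.assoc, Category.assoc, Category.assoc, ← Category.assoc x, hx, comp_zero]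
        exact ((congrArg (v ≫ ·) (pullback.lift_snd _ _ _)).trans comp_zero).symm
    · have : Epi c' := epi_of_epi_fac (cokernel.π_desc B₁.arrow (π₂ ≫ q) hqB)
      have hexB : (ShortComplex.mk B₁.arrow (cokernel.π B₁.arrow) (cokernel.condition _)).Exact :=
        ShortComplex.exact_cokernel _
      refine ShortComplex.ShortExact.mk' ?_ ?_ this
      · rw [ShortComplex.exact_iff_exact_up_to_refinements]
        intro T x hx
        replace hx : x ≫ c' = 0 := hx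
        obtain ⟨T₁, e₁, he₁, y, hy⟩ := surjective_up_to_refinements_of_epi (cokernel.π B₁.arrow) x
        have hy0 : y ≫ π₂ ≫ q = 0 := by
          calc y ≫ π₂ ≫ q = y ≫ cokernel.π B₁.arrow ≫ c' :=
                congrArg (y ≫ ·) (cokernel.π_desc B₁.arrow (π₂ ≫ q) hqB).symm
            _ = e₁ ≫ x ≫ c' := by rw [← Category.assoc, ← hy, Category.assoc]
            _ = 0 := by rw [hx, comp_zero]
        have : (y ≫ π₂) ≫ q = 0 := by rw [Category.assoc, hy0]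
        let u : T₁ ⟶ C₁ := hC.exact.lift (y ≫ π₂) this
        have hu : u ≫ j = y ≫ π₂ := hC.exact.lift_f _ _
        let y' : T₁ ⟶ (CategoryTheory.ShortComplex.mk (i₁ ≫ i₂) (π₂ ≫ q) w).cycles := (CategoryTheory.ShortComplex.mk (i₁ ≫ i₂) (π₂ ≫ q) w).liftCycles y hy0
        obtain ⟨T₂, e₂, he₂, v, hv⟩ := hfg (y' ≫ (CategoryTheory.ShortComplex.mk (i₁ ≫ i₂) (π₂ ≫ q) w).homologyπ - u ≫ s) (by
          rw [← cancel_mono j, zero_comp, Preadditive.sub_comp, Preadditive.sub_comp, Category.assoc,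
            Category.assoc, Category.assoc, Category.assoc, hgj, ShortComplex.liftCycles_i_assoc,
            ← Category.assoc s g j, hs, Category.id_comp, hu, sub_self])
        obtain ⟨T₃, e₃, he₃, v', hv'⟩ := surjective_up_to_refinements_of_epi p₁ v
        haveI : Epi (e₂ ≫ e₁) := epi_comp _ _
        refine ⟨T₃, e₃ ≫ e₂ ≫ e₁, epi_comp _ _, e₃ ≫ v, ?_⟩
        show (e₃ ≫ e₂ ≫ e₁) ≫ x = (e₃ ≫ v) ≫ a'
        have hmem : (e₃ ≫ e₂ ≫ y' - v' ≫ (CategoryTheory.ShortComplex.mk (i₁ ≫ i₂) (π₂ ≫ q) w).liftCycles i₂ h₂) ≫ (CategoryTheory.ShortComplex.mk (i₁ ≫ i₂) (π₂ ≫ q) w).homologyπ = (e₃ ≫ e₂ ≫ u) ≫ s := by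
          have := congrArg (e₃ ≫ ·) hv
          simp only [Preadditive.comp_sub] at this
          rw [Preadditive.sub_comp, Category.assoc v', ← hf, ← Category.assoc v' p₁, ← hv', Category.assoc e₃ v,
            ← this]
          simp [Category.assoc]
        have hz : (pullback.lift _ _ hmem ≫ φ.inv) ≫ B₁.arrow = e₃ ≫ e₂ ≫ y - v' ≫ i₂ := by
          rw [Category.assoc, hinv, pullback.lift_fst_assoc, Preadditive.sub_comp]
          simp [y', ShortComplex.liftCycles_i]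
        have h0 : (e₃ ≫ e₂ ≫ y - v' ≫ i₂) ≫ cokernel.π B₁.arrow = 0 := by
          rw [← hz, Category.assoc, cokernel.condition, comp_zero]
        rw [Preadditive.sub_comp, sub_eq_zero] at h0
        rw [hv', Category.assoc v', ha']
        simpa [hy] using h0
      · rw [Preadditive.mono_iff_cancel_zero]
        intro T x hx
        replace hx : x ≫ a' = 0 := hx
        obtain ⟨T₁, e₁, he₁, y, hy⟩ := surjective_up_to_refinements_of_epi p₁ x
        have hy0 : (y ≫ i₂) ≫ cokernel.π B₁.arrow = 0 := by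
          rw [Category.assoc, ← ha', ← Category.assoc, ← hy, Category.assoc, hx, comp_zero]
        obtain ⟨T₂, e₂, he₂, z, hz⟩ := hexB.exact_up_to_refinements _ hy0
        replace hz : e₂ ≫ y ≫ i₂ = (z ≫ φ.hom ≫ pullback.fst (CategoryTheory.ShortComplex.mk (i₁ ≫ i₂) (π₂ ≫ q) w).homologyπ s) ≫ (CategoryTheory.ShortComplex.mk (i₁ ≫ i₂) (π₂ ≫ q) w).iCycles := by
          simpa [harr] using hz
        set z' := z ≫ φ.hom
        have hz' : e₂ ≫ y ≫ i₂ = (z' ≫ pullback.fst (CategoryTheory.ShortComplex.mk (i₁ ≫ i₂) (π₂ ≫ q) w).homologyπ s) ≫ (CategoryTheory.ShortComplex.mk (i₁ ≫ i₂) (π₂ ≫ q) w).iCycles := by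
          simpa [z'] using hz
        have h1 : z' ≫ pullback.snd (CategoryTheory.ShortComplex.mk (i₁ ≫ i₂) (π₂ ≫ q) w).homologyπ s = 0 := by
          rw [← cancel_mono j, zero_comp, Category.assoc, hsnd s hs, ← Category.assoc, ← Category.assoc,
            ← hz']
          simp [wB]
        obtain ⟨T₃, e₃, he₃, v, hv⟩ := hα.exact_up_to_refinements (z' ≫ pullback.fst (CategoryTheory.ShortComplex.mk (i₁ ≫ i₂) (π₂ ≫ q) w).homologyπ s) (by
          show (z' ≫ pullback.fst (CategoryTheory.ShortComplex.mk (i₁ ≫ i₂) (π₂ ≫ q) w).homologyπ s) ≫ (CategoryTheory.ShortComplex.mk (i₁ ≫ i₂) (π₂ ≫ q) w).homologyπ = 0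
          rw [Category.assoc, pullback.condition, ← Category.assoc, h1, zero_comp])
        have h2 : e₃ ≫ e₂ ≫ y = v ≫ i₁ := by
          rw [← cancel_mono i₂, Category.assoc, Category.assoc, Category.assoc, hz', ← Category.assoc, hv,
            Category.assoc]
          show v ≫ (CategoryTheory.ShortComplex.mk (i₁ ≫ i₂) (π₂ ≫ q) w).toCycles ≫ (CategoryTheory.ShortComplex.mk (i₁ ≫ i₂) (π₂ ≫ q) w).iCycles = v ≫ i₁ ≫ i₂
          rw [ShortComplex.toCycles_i]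
        rw [← cancel_epi e₁, ← cancel_epi e₂, ← cancel_epi e₃, comp_zero, comp_zero, comp_zero, hy,
          ← Category.assoc e₂, ← Category.assoc e₃, h2, Category.assoc, wA, comp_zero]
  · intro s s' hs hs' heq
    rw [key s hs, key s' hs'] at heq
    haveI : Mono s := mono_of_mono_fac hs
    haveI : Mono s' := mono_of_mono_fac hs'
    let e := Subobject.isoOfMkEqMk _ _ heq
    have he : e.hom ≫ pullback.fst (CategoryTheory.ShortComplex.mk (i₁ ≫ i₂) (π₂ ≫ q) w).homologyπ s' = pullback.fst (CategoryTheory.ShortComplex.mk (i₁ ≫ i₂) (π₂ ≫ q) w).homologyπ s := by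
      rw [← cancel_mono (CategoryTheory.ShortComplex.mk (i₁ ≫ i₂) (π₂ ≫ q) w).iCycles, Category.assoc]
      exact Subobject.ofMkLEMk_comp _
    have hsn : e.hom ≫ pullback.snd (CategoryTheory.ShortComplex.mk (i₁ ≫ i₂) (π₂ ≫ q) w).homologyπ s' = pullback.snd (CategoryTheory.ShortComplex.mk (i₁ ≫ i₂) (π₂ ≫ q) w).homologyπ s := by
      rw [← cancel_mono j, Category.assoc, hsnd s' hs', hsnd s hs, ← Category.assoc, he]
    have hepi : Epi (pullback.snd (CategoryTheory.ShortComplex.mk (i₁ ≫ i₂) (π₂ ≫ q) w).homologyπ s) := inferInstance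
    rw [← cancel_epi (pullback.snd (CategoryTheory.ShortComplex.mk (i₁ ≫ i₂) (π₂ ≫ q) w).homologyπ s), ← pullback.condition, ← he, Category.assoc,
      pullback.condition, ← Category.assoc, hsn]

end Groth.Agent.S15466
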