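import Groth.Statements.S15470
import Groth.Agent.Misc10.IsoNat.SmoothDetect
import Groth.Agent.AlgStBasic.StTopology

set_option autoImplicit false
universe u
open CategoryTheory AlgebraicGeometry
open IsoNat

namespace Groth.Agent.S15470

/-- A property of morphisms of algebraic stacks read on one square of smooth scheme charts is detected
by the induced map of presheaves of isomorphism classes. Let f : 𝒳 → 𝒴 and f' : 𝒳' → 𝒴' be morphisms
of algebraic stacks over a quasi-separated scheme S, and suppose given isomorphisms of the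
presheaves of isomorphism classes of 𝒳 with 𝒳' and of 𝒴 with 𝒴' under which the maps induced by f
and f' correspond. If there are smooth scheme charts x : U → 𝒳 (surjective) and y : V → 𝒴 and h : U
→ V with x followed by f 2-isomorphic to h followed by y and h having P, then the same holds for f'.
For P smooth local on the source-and-target, containing the smooth surjections and stable under
composition and base change, this is the statement that f has P if and only if f' has P (flat,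
locally of finite type, locally of finite presentation, smooth); the transfer itself holds for every
P. Here an algebraic stack over a quasi-separated scheme S means a stack in groupoids for the fppf
topology with a smooth surjective atlas from a scheme, whose diagonal is representable by separated
quasi-compact morphisms of algebraic spaces and whose inertia is locally of finite presentation over
it. -/
theorem result
    (S : Scheme.{u}) [QuasiSeparatedSpace S]
    (𝒳 𝒴 : AlgSt.Cat S)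
    (h𝒳 : AlgSt.IsAlgStack Scheme.fppfPrecoverage 𝒳)
    (h𝒳d : AlgSt.RepByAlgSpWith (AlgSp.IsSeparatedMor ⊓ AlgSp.IsQuasiCompactMor)
      (FibCat.diag (FibCat.toSelf 𝒳)))
    (h𝒳i : AlgSt.RepByAlgSpWith (AlgSp.LocP @LocallyOfFinitePresentation)
      (FibCat.inertiaToBase (FibCat.toSelf 𝒳)))
    (h𝒴 : AlgSt.IsAlgStack Scheme.fppfPrecoverage 𝒴)
    (h𝒴d : AlgSt.RepByAlgSpWith (AlgSp.IsSeparatedMor ⊓ AlgSp.IsQuasiCompactMor)
      (FibCat.diag (FibCat.toSelf 𝒴)))
    (h𝒴i : AlgSt.RepByAlgSpWith (AlgSp.LocP @LocallyOfFinitePresentation)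
      (FibCat.inertiaToBase (FibCat.toSelf 𝒴)))
    (𝒳' 𝒴' : AlgSt.Cat S)
    (h𝒳' : AlgSt.IsAlgStack Scheme.fppfPrecoverage 𝒳')
    (h𝒳'd : AlgSt.RepByAlgSpWith (AlgSp.IsSeparatedMor ⊓ AlgSp.IsQuasiCompactMor)
      (FibCat.diag (FibCat.toSelf 𝒳')))
    (h𝒳'i : AlgSt.RepByAlgSpWith (AlgSp.LocP @LocallyOfFinitePresentation)
      (FibCat.inertiaToBase (FibCat.toSelf 𝒳')))
    (h𝒴' : AlgSt.IsAlgStack Scheme.fppfPrecoverage 𝒴')
    (h𝒴'd : AlgSt.RepByAlgSpWith (AlgSp.IsSeparatedMor ⊓ AlgSp.IsQuasiCompactMor)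
      (FibCat.diag (FibCat.toSelf 𝒴')))
    (h𝒴'i : AlgSt.RepByAlgSpWith (AlgSp.LocP @LocallyOfFinitePresentation)
      (FibCat.inertiaToBase (FibCat.toSelf 𝒴')))
    (f : 𝒳 ⥤ᵇ 𝒴) (f' : 𝒳' ⥤ᵇ 𝒴') (φ : IsoNat.FIsoSq f f')
    (P : MorphismProperty (AlgSp.Sp S))
    (hf : AlgSt.LocQ P f) :
    AlgSt.LocQ P f' := by
  obtain ⟨U, V, x, y, h, i, hx, hxs, hy, hP⟩ := hf
  obtain ⟨x', hx'⟩ := Groth.Misc10.IsoNat.exists_objCls h𝒳'.isStack.1 (φ.src.toEquiv U (IsoNat.objCls x))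
  obtain ⟨y', hy'⟩ := Groth.Misc10.IsoNat.exists_objCls h𝒴'.isStack.1 (φ.tgt.toEquiv V (IsoNat.objCls y))
  obtain ⟨e₀⟩ : Nonempty (Groth.Misc10.IsoNat.chartObj (BasedFunctor.comp x f) (𝟙 U) ≅
      Groth.Misc10.IsoNat.chartObj (BasedFunctor.comp (AlgSt.overMap h) y) (𝟙 U)) :=
    ⟨Groth.Misc10.IsoNat.fiberIso h𝒴.isStack.1 ⟨(Groth.StkBase.isoApp i _).hom,
      (Groth.StkBase.isVert_isoApp i _).isHomLift ((BasedFunctor.comp x f).w_obj _)⟩⟩
  have e₁ : IsoNat.mapCls f U (IsoNat.objCls x) =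
      IsoNat.cls (Groth.Misc10.IsoNat.chartObj y (𝟙 U ≫ h)) := Groth.Misc10.IsoNat.cls_eq_iff.2 ⟨e₀⟩
  obtain ⟨e₂⟩ : Nonempty (Groth.Misc10.IsoNat.chartObj (BasedFunctor.comp x' f') (𝟙 U) ≅
      Groth.Misc10.IsoNat.chartObj (BasedFunctor.comp (AlgSt.overMap h) y') (𝟙 U)) := by
    refine Groth.Misc10.IsoNat.cls_eq_iff.1 ?_
    show IsoNat.mapCls f' U (IsoNat.objCls x') = IsoNat.cls (Groth.Misc10.IsoNat.chartObj y' (𝟙 U ≫ h))
    rw [hx', ← φ.comm, e₁, Groth.Misc10.IsoNat.cls_chartObj_eq φ.tgt h𝒴.isStack.1 h𝒴'.isStack.1 hy'.symm]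
  obtain ⟨i'⟩ := (Groth.StkBase.nonempty_overIso_iff h𝒴'.isStack.1 (BasedFunctor.comp x' f')
    (BasedFunctor.comp (AlgSt.overMap h) y')).2 ⟨e₂.hom.1, Groth.StkBase.isVert_of_isHomLift e₂.hom.2⟩
  refine ⟨U, V, x', y', h, i', Groth.Misc10.IsoNat.repWith_smooth_chart φ.src h𝒳.isStack.1 h𝒳' h𝒳'i hx'.symm hx,
    ?_, Groth.Misc10.IsoNat.repWith_smooth_chart φ.tgt h𝒴.isStack.1 h𝒴' h𝒴'i hy'.symm hy, hP⟩
  have hU := Groth.StkBase.isFibGrpd_overCat U
  exact (Groth.AlgStBasic.isSurjective_iff_repWith hU h𝒳'.isStack.1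
      (Groth.Misc10.IsoNat.repByAlgSp1_chart h𝒳' x')).1
    (Groth.Misc10.IsoNat.isSurjective_of_fIsoSq
      (Groth.Misc10.IsoNat.chartSq φ.src h𝒳.isStack.1 h𝒳'.isStack.1 hx'.symm)
      ((Groth.AlgStBasic.isSurjective_iff_repWith hU h𝒳.isStack.1
        (Groth.AlgStBasic.repWith_repByAlgSp1 hxs)).2 hxs))

end Groth.Agent.S15470
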