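import Groth.Statements.S15483
import Groth.Agent.Misc10.IsoNat.ValDiag
import Groth.Agent.Misc10.IsoNat.AffineCharts
import Groth.Agent.AlgStBasic.SpaceProps
import Groth.Agent.AlgSpBasic.Unramified

set_option autoImplicit false
universe u
open CategoryTheory AlgebraicGeometry
open IsoNat

namespace Groth.Agent.S15483

/-- Properness of the inertia is detected by the presheaf of isomorphism classes. If 𝒳 and 𝒴 are
algebraic stacks over a quasi-separated scheme S with isomorphic presheaves of isomorphism classes,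
𝒴 is locally Noetherian (every scheme smooth over 𝒴 is locally Noetherian), and the inertia stack of
𝒳 is proper over 𝒳 (as a morphism representable by algebraic spaces), then the inertia stack of 𝒴 is
proper over 𝒴. Here an algebraic stack over a quasi-separated scheme S means a stack in groupoids
for the fppf topology with a smooth surjective atlas from a scheme, whose diagonal is representable
by separated quasi-compact morphisms of algebraic spaces and whose inertia is locally of finite
presentation over it. (The published statement compares within the wider class of quasi-algebraic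
stacks, which need not have an atlas, and has no Noetherian hypothesis; its argument reads
properness of the inertia from the presheaf evaluated on discrete valuation rings doubled along
their generic point, which decides properness over a locally Noetherian stack, so this row compares
algebraic stacks only and assumes 𝒴 locally Noetherian.) -/
theorem result
    (S : Scheme.{u}) [QuasiSeparatedSpace S]
    (𝒳 𝒴 : AlgSt.Cat S)
    (h𝒳 : AlgSt.IsAlgStack Scheme.fppfPrecoverage 𝒳)
    (h𝒳d : AlgSt.RepByAlgSpWith (AlgSp.IsSeparatedMor ⊓ AlgSp.IsQuasiCompactMor)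
      (FibCat.diag (FibCat.toSelf 𝒳)))
    (h𝒳i : AlgSt.RepByAlgSpWith (AlgSp.LocP @LocallyOfFinitePresentation)
      (FibCat.inertiaToBase (FibCat.toSelf 𝒳)))
    (h𝒴 : AlgSt.IsAlgStack Scheme.fppfPrecoverage 𝒴)
    (h𝒴d : AlgSt.RepByAlgSpWith (AlgSp.IsSeparatedMor ⊓ AlgSp.IsQuasiCompactMor)
      (FibCat.diag (FibCat.toSelf 𝒴)))
    (h𝒴i : AlgSt.RepByAlgSpWith (AlgSp.LocP @LocallyOfFinitePresentation)
      (FibCat.inertiaToBase (FibCat.toSelf 𝒴)))
    (hN : AlgSt.SmoothLocally (fun X => IsLocallyNoetherian X) 𝒴)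
    (φ : IsoNat.FIso 𝒳 𝒴)
    (hpr : AlgSt.RepByAlgSpWith AlgSp.IsProperMor (FibCat.inertiaToBase (FibCat.toSelf 𝒳))) :
    AlgSt.RepByAlgSpWith AlgSp.IsProperMor (FibCat.inertiaToBase (FibCat.toSelf 𝒴)) := by
  obtain ⟨E₀, hE₀, eE⟩ := Groth.StkGerb.exists_inertia_equiv (FibCat.toSelf 𝒴)
  have hX := Groth.StkBase.isPrestack_of_isStack h𝒳.isStack
  have hY := Groth.StkBase.isPrestack_of_isStack h𝒴.isStack
  have hc : Groth.Misc10.IsoNat.CritAut hY.1 :=
    (Groth.Misc10.IsoNat.critAut_iff φ hX.1 hY.1).2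
      (Groth.Misc10.IsoNat.critAut_of_proper_inertia h𝒳.isStack hpr)
  have hlft : AlgSt.RepByAlgSpWith (AlgSp.LocP @LocallyOfFiniteType)
      (FibCat.inertiaToBase (FibCat.toSelf 𝒴)) :=
    Groth.AlgStBasic.repWith_mono (fun _ _ _ _ _ h => Groth.AlgSpBasic.locP_mono
      (P := @LocallyOfFinitePresentation) (Q := @LocallyOfFiniteType)
      (fun _ _ g (_ : LocallyOfFinitePresentation g) => inferInstance) h) h𝒴i
  rw [← eE] at hlft ⊢
  have hsq : AlgSt.RepByAlgSpWith (AlgSp.IsSeparatedMor ⊓ AlgSp.IsQuasiCompactMor)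
      (BasedFunctor.comp E₀ (FibCat.fpFst _ _)) :=
    (Groth.AlgStBasic.repWith_precomp_equiv hE₀ _).2 (Groth.AlgStBasic.repWith_fpFst _ _ h𝒴d)
  refine Groth.Misc10.IsoNat.repWith_of_affine_charts h𝒴 Groth.AlgStBasic.stableBaseChange_proper
    Groth.AlgStBasic.isLocalOnBase_fppf_proper (Groth.AlgStBasic.repWith_repByAlgSp1 hsq)
    fun A _ v _ F e he => ?_
  have h₁ := Groth.AlgStBasic.prop_of_repWith_fp
    (Groth.AlgStBasic.stableBaseChange_inf Groth.AlgStBasic.stableBaseChange_sep
      Groth.AlgStBasic.stableBaseChange_qc) hsq v F e he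
  have h₂ := Groth.AlgStBasic.prop_of_repWith_fp Groth.AlgStBasic.stableBaseChange_locP hlft v F e he
  refine ⟨h₁.1, ⟨h₂, h₁.2⟩, Groth.Misc10.IsoNat.isUnivClosedMor_of_weakVal F.property h₂ h₁.2 ?_⟩
  let D := FibCat.diag (FibCat.toSelf 𝒴)
  let E := BasedFunctor.comp (BasedFunctor.comp e
    (Groth.StkBase.fpPre (BasedFunctor.id _) E₀ v (FibCat.fpFst D D))) (Groth.StkBase.fpPaste v D D)
  have hE : FibCat.IsEquivOver E :=
    Groth.StkBase.isEquivOver_comp (Groth.StkBase.isEquivOver_comp he
      (Groth.StkBase.isEquivOver_fpPre (Groth.StkBase.isEquivOver_id _) hE₀ _ _))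
      (Groth.StkBase.isEquivOver_fpPaste v D D)
  rw [← Groth.AlgStBasic.spMapOfOver_congr (Φ := BasedFunctor.comp E
    (FibCat.fpFst (BasedFunctor.comp v D) D))
    (Ψ := BasedFunctor.comp e (FibCat.fpFst v (BasedFunctor.comp E₀ (FibCat.fpFst D D))))
    (Iso.refl _)]
  exact Groth.Misc10.IsoNat.weakVal_of_extends (BasedFunctor.comp v D) E hY.1
    Groth.StkBase.isFibGrpd_selfOver
    (fun _ _ _ _ _ _ u v _ _ _ => Groth.Misc10.IsoNat.fiber_selfOver_subsingleton u v)
    hE fun x t w M =>
    (Groth.Misc10.IsoNat.critAut_iff_extends h𝒴.isStack).1 hc x _ _ (CategoryTheory.Iso.refl _) w _ _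

end Groth.Agent.S15483
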