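import Groth.Statements.S15488
import Mathlib.LinearAlgebra.Projection
import Mathlib.LinearAlgebra.Dimension.Constructions
import Mathlib.LinearAlgebra.InvariantBasisNumber
import Mathlib.LinearAlgebra.FreeModule.StrongRankCondition
import Mathlib.LinearAlgebra.StdBasis
import Mathlib.GroupTheory.Coset.Card
import Mathlib.GroupTheory.SpecificGroups.Cyclic.Basic
import Mathlib.GroupTheory.OrderOfElement
import Mathlib.Tactic.Group

set_option autoImplicit false
universe u
open IsoNat

namespace Groth.Agent.S15488

theorem eigen_aux (A : Type u) [CommRing A] [Nontrivial A] (G : Type u) [Group G] [Finite G]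
    (g : G) (l : A) (hl : l ^ orderOf g = 1) (N : Submodule A (G → A))
    (hN : ∀ v : G → A, v ∈ N ↔ ∀ h, v (g * h) = l * v h) :
    Module.Free A N ∧ Module.finrank A N * orderOf g = Nat.card G ∧
      ∃ E' : Submodule A (G → A), IsCompl N E' := by
  classical
  let Q := Quotient (QuotientGroup.rightRel (Subgroup.zpowers g))
  let π : G → Q := fun h => Quotient.mk _ h
  let r : Q → G := Quotient.out
  have hr : ∀ q, π (r q) = q := fun q => Quotient.out_eq q
  have hπg : ∀ h, π (g * h) = π h := fun h => by
    refine Quotient.sound ?_
    show (QuotientGroup.rightRel _).r _ _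
    rw [QuotientGroup.rightRel_apply]
    refine Subgroup.mem_zpowers_iff.2 ⟨-1, ?_⟩
    group
  have hex : ∀ h : G, ∃ n : ℕ, g ^ n = h * (r (π h))⁻¹ := fun h => by
    have h1 : (QuotientGroup.rightRel (Subgroup.zpowers g)).r (r (π h)) h :=
      Quotient.exact (s := QuotientGroup.rightRel (Subgroup.zpowers g)) (hr (π h))
    rw [QuotientGroup.rightRel_apply] at h1
    have h2 := (mem_powers_iff_mem_zpowers).2 h1
    obtain ⟨n, hn⟩ := h2
    exact ⟨n, hn⟩
  choose n hn using hex
  have hpow : ∀ a b : ℕ, g ^ a = g ^ b → l ^ a = l ^ b := fun a b hab => by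
    have h1 : a % orderOf g = b % orderOf g := pow_eq_pow_iff_modEq.1 hab
    rw [pow_eq_pow_mod a hl, pow_eq_pow_mod b hl, h1]
  have hiter : ∀ v ∈ N, ∀ (m : ℕ) (h : G), v (g ^ m * h) = l ^ m * v h := by
    intro v hv m
    induction m with
    | zero => intro h; simp
    | succ m ih =>
      intro h
      rw [pow_succ', mul_assoc, (hN v).1 hv, ih, pow_succ', mul_assoc]
  let ext : (Q → A) →ₗ[A] (G → A) :=
    { toFun := fun w h => l ^ n h * w (π h)
      map_add' := fun w w' => by funext h; simp [mul_add]
      map_smul' := fun c w => by funext h; simp; ring }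
  have hext : ∀ w, ext w ∈ N := fun w => by
    rw [hN]
    intro h
    show l ^ n (g * h) * w (π (g * h)) = l * (l ^ n h * w (π h))
    rw [hπg, ← mul_assoc, ← pow_succ']
    congr 1
    apply hpow
    rw [hn, pow_succ', hn, hπg, mul_assoc]
  let res : (G → A) →ₗ[A] (Q → A) := LinearMap.funLeft A A r
  have hre : ∀ w, res (ext w) = w := fun w => by
    funext q
    show l ^ n (r q) * w (π (r q)) = w q
    have : l ^ n (r q) = l ^ 0 := hpow _ _ (by rw [hn, hr]; simp)
    rw [this, hr]; simp
  have her : ∀ v ∈ N, ext (res v) = v := fun v hv => by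
    funext h
    show l ^ n h * v (r (π h)) = v h
    rw [← hiter v hv, hn]; simp
  let e : N ≃ₗ[A] (Q → A) :=
    LinearEquiv.ofLinear (res ∘ₗ N.subtype) (ext.codRestrict N hext)
      (LinearMap.ext fun w => hre w)
      (LinearMap.ext fun v => Subtype.ext (her v.1 v.2))
  have : Fintype Q := Fintype.ofFinite _
  refine ⟨Module.Free.of_equiv e.symm, ?_, ⟨_, LinearMap.isCompl_of_proj
    (f := (ext.codRestrict N hext) ∘ₗ res) (fun v => Subtype.ext (her v.1 v.2))⟩⟩
  rw [e.finrank_eq, Module.finrank_pi, ← Nat.card_eq_fintype_card,
    Nat.card_congr (QuotientGroup.quotientRightRelEquivQuotientLeftRel (Subgroup.zpowers g)),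
    ← Nat.card_zpowers g]
  exact (Subgroup.card_eq_card_quotient_mul_card_subgroup _).symm


/-- Let A be a nontrivial commutative ring, G a finite group, g an element of G of order ν and l an
element of A with l ^ ν = 1. In the free A-module of functions G → A (the regular representation, g
acting by translation v ↦ v(g·)), the submodule of v with v(g h) = l v(h) for all h is a direct
summand, free of rank |G| / ν (stated as: free, rank · ν = |G|, and a complementary submodule
exists). (The published statement is over an arbitrary ring and also covers Hom(A^N, −) of the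
regular representation, which follows; nontriviality of A is needed for the rank to be meaningful.) -/
theorem result
    (A : Type u) [CommRing A] [Nontrivial A] (G : Type u) [Group G] [Finite G]
    (g : G) (l : A) (hl : l ^ orderOf g = 1) :
    Module.Free A (LinearMap.ker (LinearMap.funLeft A A (fun h : G => g * h) - l • LinearMap.id)) ∧
      Module.finrank A (LinearMap.ker (LinearMap.funLeft A A (fun h : G => g * h) - l • LinearMap.id)) * orderOf g = Nat.card G ∧
      ∃ E' : Submodule A (G → A), IsCompl (LinearMap.ker (LinearMap.funLeft A A (fun h : G => g * h) - l • LinearMap.id)) E' := by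
  refine eigen_aux A G g l hl _ (fun v => ?_)
  simp only [LinearMap.mem_ker, LinearMap.sub_apply, LinearMap.smul_apply, LinearMap.id_apply,
    sub_eq_zero]
  exact ⟨fun h x => congrFun h x, fun h => funext h⟩

end Groth.Agent.S15488
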