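import Groth.Statements.S1549
import Groth.Agent.VarietyBC.GeomReducedGeneric

set_option autoImplicit false
universe u
open CategoryTheory CategoryTheory.Limits AlgebraicGeometry
open Variety

namespace Groth.Agent.S1549

/-- For a reduced scheme locally of finite type over k, being geometrically reduced is equivalent to
having a dense open subscheme that is smooth over k. -/
theorem result (k : Type u) [Field k] (X : Scheme.{u}) [X.Over (Spec (CommRingCat.of k))] [IsReduced X] [LocallyOfFiniteType (X ↘ (Spec (CommRingCat.of k)))] :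
    GeometricallyReduced (X ↘ (Spec (CommRingCat.of k))) ↔ ∃ U : X.Opens, Dense (U : Set X) ∧ Smooth (U.ι ≫ (X ↘ (Spec (CommRingCat.of k)))) := by
  haveI : LocallyOfFinitePresentation (X ↘ (Spec (CommRingCat.of k))) := by
    haveI := LocallyOfFiniteType.isLocallyNoetherian (X ↘ (Spec (CommRingCat.of k)))
    infer_instance
  constructor
  · intro h
    refine ⟨(X ↘ (Spec (CommRingCat.of k))).smoothLocus, Groth.VarietyBC.dense_smoothLocus, ?_⟩
    rw [← Scheme.Hom.smoothLocus_eq_top_iff, ← Scheme.Hom.preimage_smoothLocus_eq]
    exact Scheme.Opens.ι_preimage_self _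
  · rintro ⟨U, hU, hsm⟩
    refine Groth.VarietyBC.geometricallyReduced_of_dense_smooth U hU fun x hx => ?_
    have h := Scheme.Hom.smoothLocus_eq_top_iff.2 hsm
    rw [← Scheme.Hom.preimage_smoothLocus_eq] at h
    exact h.ge (show (⟨x, hx⟩ : U.toScheme) ∈ (⊤ : U.toScheme.Opens) from trivial)

end Groth.Agent.S1549
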