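import Groth.Statements.S15491
import Mathlib.CategoryTheory.Limits.Shapes.Pullback.Categorical.Basic

set_option autoImplicit false
universe v u
open CategoryTheory CategoryTheory.Functor
open IsoNat

namespace Groth.Agent.S15491

section Paste

open CategoryTheory.Limits CategoryTheory.Limits.CategoricalPullback

variable {B B' A' A'' B'' : Type u} [Category.{v} B] [Category.{v} B'] [Category.{v} A'] [Category.{v} A'']
  [Category.{v} B''] {t' : A' ⥤ B'} {l' : A' ⥤ A''} {r' : B' ⥤ B''} {t'' : A'' ⥤ B''}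
  (r : B ⥤ B') (e₂ : t' ⋙ r' ≅ l' ⋙ t'')

/-- `(b, a', φ) ↦ (b, l' a', r' φ ≫ e₂ a')`. -/
@[simps]
def paste : CategoricalPullback r t' ⥤ CategoricalPullback (r ⋙ r') t'' where
  obj P :=
    { fst := P.fst
      snd := l'.obj P.snd
      iso := r'.mapIso P.iso ≪≫ e₂.app P.snd }
  map {P Q} f :=
    { fst := f.fst
      snd := l'.map f.snd
      w := by
        have hn : r'.map (t'.map f.snd) ≫ e₂.hom.app Q.snd = e₂.hom.app P.snd ≫ t''.map (l'.map f.snd) :=
          e₂.hom.naturality f.snd
        simp only [Functor.comp_map, Iso.trans_hom, Functor.mapIso_hom, Iso.app_hom, Category.assoc]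
        rw [← hn, ← r'.map_comp_assoc, ← r'.map_comp_assoc, f.w] }
  map_id P := by apply CategoricalPullback.hom_ext <;> simp
  map_comp f g := by apply CategoricalPullback.hom_ext <;> simp

theorem paste_isEquivalence (h₂ : FibCat.IsTwoCart t' l' r' t'' e₂) : (paste r e₂).IsEquivalence := by
  have := h₂
  unfold FibCat.IsTwoCart at this
  let C₂ : A' ⥤ CategoricalPullback r' t'' :=
    (CategoricalPullback.CatCommSqOver.toFunctorToCategoricalPullback r' t'' A').obj ⟨t', l', e₂⟩
  have hC : C₂.IsEquivalence := this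
  have faith : (paste r e₂).Faithful := by
    refine ⟨fun {P Q} f g h => ?_⟩
    have h1 : ((paste r e₂).map f).fst = ((paste r e₂).map g).fst := by rw [h]
    have h2 : ((paste r e₂).map f).snd = ((paste r e₂).map g).snd := by rw [h]
    change f.fst = g.fst at h1
    change l'.map f.snd = l'.map g.snd at h2
    have h3 : t'.map f.snd = t'.map g.snd := by
      have a := f.w
      rw [h1] at a
      rw [← cancel_epi P.iso.hom, ← a, g.w]
    have h4 : C₂.map f.snd = C₂.map g.snd := by
      apply CategoricalPullback.hom_ext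
      · exact h3
      · exact h2
    exact CategoricalPullback.hom_ext h1 (C₂.map_injective h4)
  have full : (paste r e₂).Full := by
    refine ⟨fun {P Q} φ => ?_⟩
    let β : P.fst ⟶ Q.fst := φ.fst
    let γ : l'.obj P.snd ⟶ l'.obj Q.snd := φ.snd
    let δ : t'.obj P.snd ⟶ t'.obj Q.snd := P.iso.inv ≫ r.map β ≫ Q.iso.hom
    have hw : r'.map (r.map β) ≫ r'.map Q.iso.hom ≫ e₂.hom.app Q.snd =
        r'.map P.iso.hom ≫ e₂.hom.app P.snd ≫ t''.map γ := by
      have := φ.w
      change r'.map (r.map β) ≫ (r'.map Q.iso.hom ≫ e₂.hom.app Q.snd) =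
        (r'.map P.iso.hom ≫ e₂.hom.app P.snd) ≫ t''.map γ at this
      simpa using this
    let ψ : C₂.obj P.snd ⟶ C₂.obj Q.snd :=
      { fst := δ
        snd := γ
        w := by
          change r'.map δ ≫ e₂.hom.app Q.snd = e₂.hom.app P.snd ≫ t''.map γ
          have e1 : r'.map δ = r'.map P.iso.inv ≫ r'.map (r.map β) ≫ r'.map Q.iso.hom := by
            rw [← r'.map_comp, ← r'.map_comp]
          rw [e1, Category.assoc, Category.assoc, hw, ← r'.map_comp_assoc, Iso.inv_hom_id, r'.map_id,
            Category.id_comp] }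
    let α := C₂.preimage ψ
    have hα : C₂.map α = ψ := C₂.map_preimage ψ
    have ht : t'.map α = δ := congrArg CategoricalPullback.Hom.fst hα
    have hl : l'.map α = φ.snd := congrArg CategoricalPullback.Hom.snd hα
    refine ⟨⟨β, α, ?_⟩, ?_⟩
    · rw [ht]; simp [δ]
    · exact CategoricalPullback.hom_ext rfl hl
  have esurj : (paste r e₂).EssSurj := by
    refine ⟨fun R => ?_⟩
    let X : CategoricalPullback r' t'' := ⟨r.obj R.fst, R.snd, R.iso⟩
    let a' := C₂.objPreimage X
    let η : C₂.obj a' ≅ X := C₂.objObjPreimageIso X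
    let θ : t'.obj a' ≅ r.obj R.fst := (CategoricalPullback.π₁ r' t'').mapIso η
    let η₂ : l'.obj a' ≅ R.snd := (CategoricalPullback.π₂ r' t'').mapIso η
    have hw : r'.map θ.hom ≫ R.iso.hom = e₂.hom.app a' ≫ t''.map η₂.hom := η.hom.w
    refine ⟨⟨R.fst, a', θ.symm⟩, ⟨CategoricalPullback.mkIso (Iso.refl _) η₂ ?_⟩⟩
    change r'.map (r.map (𝟙 R.fst)) ≫ R.iso.hom = (r'.map θ.inv ≫ e₂.hom.app a') ≫ t''.map η₂.hom
    rw [Category.assoc, ← hw, ← r'.map_comp_assoc, Iso.inv_hom_id, r'.map_id, r.map_id, r'.map_id]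
  exact { faithful := faith, full := full, essSurj := esurj }

end Paste


/-- Pasting of 2-cartesian squares, stated in the 2-category of categories. Consider functors t : A → B,
t' : A' → B', t'' : A'' → B'' and l : A → A', r : B → B', l' : A' → A'', r' : B' → B'' with natural
isomorphisms e₁ : t ⋙ r ≅ l ⋙ t' and e₂ : t' ⋙ r' ≅ l' ⋙ t''. If the lower square (t', l', r', t'',
e₂) is 2-cartesian (its comparison functor to the 2-fibre product is an equivalence), then the upper
square (t, l, r, t', e₁) is 2-cartesian if and only if the outer rectangle (t, l ⋙ l', r ⋙ r', t'')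
with the pasted isomorphism is. (The published statement is for an arbitrary 2-category whose
2-morphisms are invertible; this row is the case of categories, functors and natural isomorphisms.) -/
theorem result
    {A B A' B' A'' B'' : Type u} [Category.{v} A] [Category.{v} B] [Category.{v} A'] [Category.{v} B']
    [Category.{v} A''] [Category.{v} B'']
    (t : A ⥤ B) (l : A ⥤ A') (r : B ⥤ B') (t' : A' ⥤ B') (l' : A' ⥤ A'') (r' : B' ⥤ B'') (t'' : A'' ⥤ B'')
    (e₁ : t ⋙ r ≅ l ⋙ t') (e₂ : t' ⋙ r' ≅ l' ⋙ t'')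
    (h₂ : FibCat.IsTwoCart t' l' r' t'' e₂) :
    FibCat.IsTwoCart t l r t' e₁ ↔
      FibCat.IsTwoCart t (l ⋙ l') (r ⋙ r') t''
        ((Functor.associator t r r').symm ≪≫ isoWhiskerRight e₁ r' ≪≫ Functor.associator l t' r' ≪≫
          isoWhiskerLeft l e₂ ≪≫ (Functor.associator l l' t'').symm) := by
  have hΦ := paste_isEquivalence r e₂ h₂
  unfold FibCat.IsTwoCart
  set C₁ := (Limits.CategoricalPullback.CatCommSqOver.toFunctorToCategoricalPullback r t' A).obj ⟨t, l, e₁⟩
  set C₃ := (Limits.CategoricalPullback.CatCommSqOver.toFunctorToCategoricalPullback (r ⋙ r') t'' A).obj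
    ⟨t, l ⋙ l', ((Functor.associator t r r').symm ≪≫ isoWhiskerRight e₁ r' ≪≫ Functor.associator l t' r' ≪≫
          isoWhiskerLeft l e₂ ≪≫ (Functor.associator l l' t'').symm)⟩
  have hiso : C₁ ⋙ paste r e₂ ≅ C₃ :=
    NatIso.ofComponents (fun a => Limits.CategoricalPullback.mkIso (Iso.refl (t.obj a))
      (Iso.refl (l'.obj (l.obj a))) (by
      change r'.map (r.map (𝟙 (t.obj a))) ≫ _ = (r'.map (e₁.hom.app a) ≫ e₂.hom.app (l.obj a)) ≫ t''.map (𝟙 (l'.obj (l.obj a)))
      simp [C₃])) (fun {a b} f => by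
      apply Limits.CategoricalPullback.hom_ext
      · change t.map f ≫ 𝟙 (t.obj b) = 𝟙 (t.obj a) ≫ t.map f
        simp
      · change l'.map (l.map f) ≫ 𝟙 (l'.obj (l.obj b)) = 𝟙 (l'.obj (l.obj a)) ≫ l'.map (l.map f)
        simp)
  constructor
  · intro h
    exact Functor.isEquivalence_of_iso hiso
  · intro h
    have : (C₁ ⋙ paste r e₂).IsEquivalence := Functor.isEquivalence_of_iso hiso.symm
    exact Functor.isEquivalence_of_comp_right C₁ (paste r e₂)

end Groth.Agent.S15491
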