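import Groth.Statements.S15493
import Groth.Agent.AlgStBasic.Faithful
import Groth.Agent.AlgSp2.DecentCover
import Groth.Agent.StkBase.FibProd
import Groth.Agent.Misc10.IsoNat.Cls

set_option autoImplicit false
universe u
open CategoryTheory AlgebraicGeometry
open IsoNat

namespace Groth.Agent.S15493

/-- The presheaf of isomorphism classes commutes with fibre products along an open immersion. Let f : 𝒳
→ 𝒴 be a morphism of algebraic stacks over a quasi-separated scheme S and i : 𝒴' → 𝒴 an open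
immersion of algebraic stacks (representable by open immersions of algebraic spaces). If two objects
of the 2-fibre product 𝒳 ×_𝒴 𝒴' over a scheme T have isomorphic images in 𝒳 over T and isomorphic
images in 𝒴' over T, then they are isomorphic over T. (Together with the evident surjectivity this
says that the natural map from the presheaf of isomorphism classes of 𝒳 ×_𝒴 𝒴' to the fibre product
of the presheaves of 𝒳 and 𝒴' over that of 𝒴 is an isomorphism; the published statement is for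
arbitrary stacks, this row takes them algebraic.) -/
theorem result
    (S : Scheme.{u}) [QuasiSeparatedSpace S]
    (𝒳 𝒴 𝒴' : AlgSt.Cat S)
    (h𝒳 : AlgSt.IsAlgStack Scheme.fppfPrecoverage 𝒳) (h𝒴 : AlgSt.IsAlgStack Scheme.fppfPrecoverage 𝒴)
    (h𝒴' : AlgSt.IsAlgStack Scheme.fppfPrecoverage 𝒴')
    (f : 𝒳 ⥤ᵇ 𝒴) (i : 𝒴' ⥤ᵇ 𝒴) (hi : AlgSt.IsOpenImm i)
    (T : Over S) (z₁ z₂ : (FibCat.fp f i).p.Fiber T)
    (h₁ : IsoNat.mapCls (FibCat.fpFst f i) T (IsoNat.cls z₁) = IsoNat.mapCls (FibCat.fpFst f i) T (IsoNat.cls z₂))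
    (h₂ : IsoNat.mapCls (FibCat.fpSnd f i) T (IsoNat.cls z₁) = IsoNat.mapCls (FibCat.fpSnd f i) T (IsoNat.cls z₂)) :
    IsoNat.cls z₁ = IsoNat.cls z₂ := by
  have hm : AlgSt.IsMono i := Groth.AlgStBasic.repWith_mono (fun _ _ φ _ _ h =>
    (Groth.AlgSpBasic.monomorphisms_repWith_mono
      (Groth.AlgSp2.repWith_monomorphisms_of_openImmersion h) : Mono φ)) hi
  obtain ⟨hFull, hFaith⟩ := Groth.AlgStBasic.fullyFaithful_of_isMono h𝒴'.1.1 h𝒴.1.1 i hm
  obtain ⟨a⟩ := Groth.Misc10.IsoNat.cls_eq_iff.1 h₁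
  let a' : z₁.1.obj.fst ≅ z₂.1.obj.fst := Functor.Fiber.fiberInclusion.mapIso a
  have hfi : 𝒳.p.IsHomLift (𝟙 T) a'.hom := a.hom.2
  have va : Groth.StkBase.IsVert 𝒳.p a'.hom := Groth.StkBase.isVert_of_isHomLift hfi
  let ψ : i.obj z₁.1.obj.snd ≅ i.obj z₂.1.obj.snd :=
    z₁.1.obj.iso.symm ≪≫ f.toFunctor.mapIso a' ≪≫ z₂.1.obj.iso
  let c : z₁.1.obj.snd ≅ z₂.1.obj.snd := i.toFunctor.preimageIso ψ
  have hw : f.map a'.hom ≫ z₂.1.obj.iso.hom = z₁.1.obj.iso.hom ≫ i.map c.hom := by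
    simp only [c, Functor.preimageIso_hom, Functor.map_preimage]
    simp [ψ]
  let K : z₁.1 ≅ z₂.1 := Groth.StkBase.fpObjIso a' c hw
  have hK : (FibCat.fp f i).p.IsHomLift (𝟙 T) K.hom :=
    (((Groth.StkBase.isVert_fp_iff K.hom).2 va).isHomLift z₁.2)
  exact Groth.Misc10.IsoNat.cls_eq_iff.2
    ⟨Groth.Misc10.IsoNat.fiberIso (Groth.StkBase.isFibGrpd_fp (F := f) (G := i) h𝒳.1.1 h𝒴'.1.1 h𝒴.1.1) ⟨K.hom, hK⟩⟩

end Groth.Agent.S15493
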