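import Groth.Statements.S15494
import Mathlib.Algebra.BigOperators.Intervals
import Mathlib.Algebra.Module.BigOperators
import Mathlib.Data.Nat.Cast.Basic
import Mathlib.Algebra.Ring.Hom.Defs
import Mathlib.Tactic.Ring
-- import your own Groth.Agent.* helpers here

set_option autoImplicit false
universe u v
open Dieud

namespace Groth.Agent.S15494

/-- Let W be a commutative ring with a ring endomorphism σ, p a natural number, M a W-module and F an
additive self-map of M with F (w • m) = σ w • F m. Let d ≥ 1, c ≥ 1, h = d + c, and let e_1, …, e_h,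
… be vectors of M on which F acts through a display matrix in normal form: F e_i = e_{i+1} for 1 ≤ i
< d; F e_d = Σ_{i=1}^{d} a_{i,d} e_i + e_{d+1}; F e_j = Σ_{i=1}^{d} p a_{i,j} e_i + p e_{j+1} for d
< j < h; F e_h = Σ_{i=1}^{d} p a_{i,h} e_i. Then F^h e_1 = Σ_{i=1}^{d} Σ_{j=d}^{h} p^{j-d}
σ^{h-j}(a_{i,j}) F^{h+i-j-1} e_1. (The published statement is for the Dieudonné module of a
p-divisible group of dimension d and height h over the Witt ring of a field of characteristic p,
with σ the Frobenius and e_1, …, e_h a basis; this row keeps only the relations which the printed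
computation uses, so W, σ, p and the vectors are arbitrary.) -/
theorem result
    (W : Type u) [CommRing W] (σ : W →+* W) (p : ℕ)
    (M : Type v) [AddCommGroup M] [Module W M]
    (F : M →+ M) (hF : ∀ (w : W) (m : M), F (w • m) = σ w • F m)
    (d c : ℕ) (hd : 0 < d) (hc : 0 < c)
    (a : ℕ → ℕ → W) (e : ℕ → M)
    (h1 : ∀ i : ℕ, 1 ≤ i → i < d → F (e i) = e (i + 1))
    (h2 : F (e d) = (∑ i ∈ Finset.Icc 1 d, a i d • e i) + e (d + 1))
    (h3 : ∀ j : ℕ, d < j → j < d + c →
      F (e j) = (∑ i ∈ Finset.Icc 1 d, ((p : W) * a i j) • e i) + (p : W) • e (j + 1))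
    (h4 : F (e (d + c)) = ∑ i ∈ Finset.Icc 1 d, ((p : W) * a i (d + c)) • e i) :
    (⇑F)^[d + c] (e 1) = ∑ i ∈ Finset.Icc 1 d, ∑ j ∈ Finset.Icc d (d + c),
      ((p : W) ^ (j - d) * (⇑σ)^[d + c - j] (a i j)) • (⇑F)^[d + c + i - j - 1] (e 1) := by
  classical
  have hlin : ∀ m, 1 ≤ m → m ≤ d → (⇑F)^[m - 1] (e 1) = e m := by
    intro m hm
    induction m, hm using Nat.le_induction with
    | base => intro _; rfl
    | succ m hm ih =>
      intro hmd
      rw [show m + 1 - 1 = (m - 1) + 1 by omega, Function.iterate_succ_apply', ih (by omega), h1 m hm (by omega)]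
  let S : ℕ → M := fun t => ∑ i ∈ Finset.Icc 1 d, ∑ j ∈ Finset.Icc d (d + t),
    ((p : W) ^ (j - d) * (⇑σ)^[d + t - j] (a i j)) • (⇑F)^[d + t + i - j - 1] (e 1)
  have hFS : ∀ t, F (S t) = ∑ i ∈ Finset.Icc 1 d, ∑ j ∈ Finset.Icc d (d + t),
      ((p : W) ^ (j - d) * (⇑σ)^[d + (t + 1) - j] (a i j)) • (⇑F)^[d + (t + 1) + i - j - 1] (e 1) := by
    intro t
    simp only [S, map_sum]
    refine Finset.sum_congr rfl fun i hi => Finset.sum_congr rfl fun j hj => ?_
    rw [Finset.mem_Icc] at hi hj
    rw [hF, map_mul, map_pow, map_natCast, show d + (t + 1) - j = (d + t - j) + 1 by omega,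
      Function.iterate_succ_apply', show d + (t + 1) + i - j - 1 = (d + t + i - j - 1) + 1 by omega,
      Function.iterate_succ_apply']
  have hnew : ∀ t, ∑ i ∈ Finset.Icc 1 d, ((p : W) ^ t * a i (d + t)) • e i =
      ∑ i ∈ Finset.Icc 1 d, ((p : W) ^ (d + t - d) * (⇑σ)^[d + t - (d + t)] (a i (d + t))) •
        (⇑F)^[d + t + i - (d + t) - 1] (e 1) := by
    intro t
    refine Finset.sum_congr rfl fun i hi => ?_
    rw [Finset.mem_Icc] at hi
    rw [Nat.add_sub_cancel_left, Nat.sub_self, Function.iterate_zero_apply, Nat.add_sub_cancel_left,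
      hlin i hi.1 hi.2]
  have hsucc : ∀ t, S (t + 1) = F (S t) + ∑ i ∈ Finset.Icc 1 d, ((p : W) ^ (t + 1) * a i (d + (t + 1))) • e i := by
    intro t
    rw [hFS, hnew, ← Finset.sum_add_distrib]
    refine Finset.sum_congr rfl fun i _ => ?_
    exact Finset.sum_Icc_succ_top (show d ≤ d + t + 1 by omega) _
  have main : ∀ t, t < c → (⇑F)^[d + t] (e 1) = S t + (p : W) ^ t • e (d + t + 1) := by
    intro t
    induction t with
    | zero =>
      intro _
      rw [add_zero, show d = (d - 1) + 1 by omega, Function.iterate_succ_apply', hlin d hd le_rfl,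
        show d - 1 + 1 = d by omega, h2, pow_zero, one_smul]
      congr 1
      simp only [S, add_zero, Finset.Icc_self, Finset.sum_singleton]
      have := hnew 0
      simp only [add_zero, pow_zero, one_mul] at this ⊢
      exact this
    | succ t ih =>
      intro ht
      rw [← add_assoc, Function.iterate_succ_apply', ih (by omega), map_add, hF, map_pow, map_natCast,
        h3 (d + t + 1) (by omega) (by omega), smul_add, ← add_assoc, smul_smul, ← pow_succ, hsucc,
        Finset.smul_sum]
      congr 2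
      refine Finset.sum_congr rfl fun i _ => ?_
      rw [smul_smul, ← mul_assoc, ← pow_succ]
      rfl
  obtain ⟨c', rfl⟩ := Nat.exists_eq_add_of_le hc
  have h := main c' (by omega)
  change (⇑F)^[d + (1 + c')] (e 1) = S (1 + c')
  rw [add_comm 1 c'] at h4 ⊢
  rw [← add_assoc, Function.iterate_succ_apply', h, map_add, hF, map_pow, map_natCast, hsucc]
  rw [← add_assoc] at h4
  rw [h4, Finset.smul_sum]
  congr 1
  refine Finset.sum_congr rfl fun i _ => ?_
  rw [smul_smul, ← mul_assoc, ← pow_succ]
  rfl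

end Groth.Agent.S15494
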