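import Groth.Statements.S15495
import Mathlib
-- import your own Groth.Agent.* helpers here

set_option autoImplicit false
universe u
open CAlg

namespace Groth.Agent.S15495

/-- In an Artinian local ring R whose maximal ideal m contains the prime number p, the multiplicative
group 1 + m is annihilated under some power of p: there is n with (1 + x)^(p^n) = 1 for every x in
m. (The published text makes this assertion inside a proof, for Artinian local algebras over the
Witt ring of a perfect field of characteristic p; only p ∈ m and the nilpotence of m are used.) -/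
theorem result
    (R : Type u) [CommRing R] [IsLocalRing R] [IsArtinianRing R]
    (p : ℕ) (hp : p.Prime) (hpm : (p : R) ∈ IsLocalRing.maximalIdeal R) :
    ∃ n : ℕ, ∀ x ∈ IsLocalRing.maximalIdeal R, (1 + x) ^ (p ^ n) = 1 := by
  set m := IsLocalRing.maximalIdeal R
  obtain ⟨N, hN⟩ : IsNilpotent m := by
    rw [show m = (⊥ : Ideal R).jacobson from (IsLocalRing.jacobson_eq_maximalIdeal _ bot_ne_top).symm]
    exact IsArtinianRing.isNilpotent_jacobson_bot
  refine ⟨N, fun x hx => ?_⟩
  have key : ∀ j, (1 + x) ^ (p ^ j) - 1 ∈ m ^ (j + 1) := by
    intro j
    induction j with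
    | zero => simpa using hx
    | succ j ih =>
      rw [pow_succ p j, pow_mul]
      generalize (1 + x) ^ (p ^ j) = z at ih
      rw [← geom_sum_mul, pow_succ' m (j + 1)]
      refine Ideal.mul_mem_mul ?_ ih
      have hz : Ideal.Quotient.mk m z = 1 := by
        have h1 : z - 1 ∈ m := Ideal.pow_le_self (by omega) ih
        rw [← map_one (Ideal.Quotient.mk m), Ideal.Quotient.eq]
        exact h1
      rw [← Ideal.Quotient.eq_zero_iff_mem, map_sum]
      simp only [map_pow, hz, one_pow, Finset.sum_const, Finset.card_range, nsmul_one]
      rw [← map_natCast (Ideal.Quotient.mk m), Ideal.Quotient.eq_zero_iff_mem]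
      exact hpm
  have := key N
  rw [pow_succ, hN, zero_mul] at this
  exact sub_eq_zero.1 (by simpa using this)

end Groth.Agent.S15495
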