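import Groth.Statements.S15496
import Mathlib
-- import your own Groth.Agent.* helpers here

set_option autoImplicit false
universe u
open CAlg

namespace Groth.Agent.S15496

/-- Let R be a local ring with maximal ideal m, p a prime number lying in m, and suppose the residue
field of R is perfect, i.e. every element is a p-th power; let n ≥ 0. Then every unit of R is the
product of a p^n-th power of a unit and an element of 1 + m, and an element of 1 + m which is a
p^n-th power of a unit is a p^n-th power of an element of 1 + m; so the inclusion of 1 + m in the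
unit group induces a bijection between (1 + m)/(1 + m)^(p^n) and Rˣ/(Rˣ)^(p^n). (The published text
derives this equality of quotients, inside a proof, from perfectness of the base field K for all
Artinian local algebras over its Witt ring, whose residue fields need not be perfect; this row
assumes the residue field of R perfect of characteristic p, which the equality needs, and does not
assume R Artinian.) -/
theorem result
    (R : Type u) [CommRing R] [IsLocalRing R] (p : ℕ) (hp : p.Prime)
    (hpm : (p : R) ∈ IsLocalRing.maximalIdeal R)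
    (hperf : ∀ a : IsLocalRing.ResidueField R, ∃ b : IsLocalRing.ResidueField R, b ^ p = a)
    (n : ℕ) :
    (∀ u : Rˣ, ∃ v : Rˣ, ∃ x ∈ IsLocalRing.maximalIdeal R, (u : R) = (v : R) ^ (p ^ n) * (1 + x)) ∧
    (∀ x ∈ IsLocalRing.maximalIdeal R, (∃ v : Rˣ, (v : R) ^ (p ^ n) = 1 + x) →
      ∃ y ∈ IsLocalRing.maximalIdeal R, (1 + y) ^ (p ^ n) = 1 + x) := by
  haveI : Fact p.Prime := ⟨hp⟩
  haveI : CharP (IsLocalRing.ResidueField R) p := by
    rw [CharP.charP_iff_prime_eq_zero hp, ← map_natCast (IsLocalRing.residue R)]
    exact IsLocalRing.residue_eq_zero_iff _ |>.2 hpm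
  constructor
  · intro u
    have hroot : ∀ (j : ℕ) (a : IsLocalRing.ResidueField R), ∃ b, b ^ (p ^ j) = a := by
      intro j
      induction j with
      | zero => exact fun a => ⟨a, by simp⟩
      | succ j ih =>
        intro a
        obtain ⟨b, rfl⟩ := hperf a
        obtain ⟨c, rfl⟩ := ih b
        exact ⟨c, by rw [pow_succ, pow_mul]⟩
    obtain ⟨w, hw⟩ := hroot n (IsLocalRing.residue R u)
    obtain ⟨v, rfl⟩ := IsLocalRing.residue_surjective w
    have hv : IsUnit v := by
      rw [← IsLocalRing.notMem_maximalIdeal, ← IsLocalRing.residue_eq_zero_iff]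
      intro h0
      rw [h0, zero_pow (pow_ne_zero _ hp.ne_zero)] at hw
      exact IsLocalRing.notMem_maximalIdeal.2 u.isUnit ((IsLocalRing.residue_eq_zero_iff _).1 hw.symm)
    refine ⟨hv.unit, (u : R) * ((hv.unit ^ (p ^ n))⁻¹ : Rˣ) - 1, ?_, ?_⟩
    · have hi : IsLocalRing.residue R ((hv.unit : R) ^ (p ^ n)) *
          IsLocalRing.residue R (((hv.unit ^ (p ^ n))⁻¹ : Rˣ) : R) = 1 := by
        rw [← map_mul, ← Units.val_pow_eq_pow_val, Units.mul_inv, map_one]
      rw [IsUnit.unit_spec, map_pow, hw] at hi
      rw [← IsLocalRing.residue_eq_zero_iff, map_sub, map_mul, map_one, hi, sub_self]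
    · rw [add_sub_cancel, mul_left_comm, ← Units.val_pow_eq_pow_val, Units.mul_inv, mul_one]
  · rintro x hx ⟨v, hv⟩
    refine ⟨(v : R) - 1, ?_, by rw [add_sub_cancel, hv]⟩
    rw [← IsLocalRing.residue_eq_zero_iff, map_sub, map_one]
    apply eq_zero_of_pow_eq_zero (n := p ^ n)
    rw [sub_pow_char_pow, one_pow, ← map_pow, hv, map_add, map_one, (IsLocalRing.residue_eq_zero_iff _).2 hx,
      add_zero, sub_self]

end Groth.Agent.S15496
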