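import Groth.Statements.S15498
import Mathlib.Tactic
-- import your own Groth.Agent.* helpers here

set_option autoImplicit false
open NewtonPoly

namespace Groth.Agent.S15498

/-- Let m, n ≥ 1 be coprime, h = m + n, δ the segment from (0,0) to (h,m) (the isoclinic Newton polygon
of slope m/h) and ρ the ordinary polygon with n slopes 0 followed with m slopes 1, so ρ(i) = max(0,
i − n). The integer points (i,j), 0 ≤ i ≤ h, on or above ρ and strictly below δ — that is max(0, i −
n) ≤ j and j·h < i·m — are (m−1)(n−1)/2 + (m+n−1) in number (which equals mn − r for r =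
(m−1)(n−1)/2). (The published text works under m ≥ n > 0 coprime; the inequality m ≥ n is not used
and not assumed.) -/
theorem result
    (m n : ℕ) (hm : 0 < m) (hn : 0 < n) (hmn : Nat.Coprime m n) :
    ((Finset.range (m + n + 1) ×ˢ Finset.range (m + 1)).filter
      (fun ij : ℕ × ℕ => ij.1 ≤ ij.2 + n ∧ ij.2 * (m + n) < ij.1 * m)).card
      = (m - 1) * (n - 1) / 2 + (m + n - 1) := by
  classical
  let T := (Finset.range (n + 1) ×ˢ Finset.range (m + 1)).filter (fun p : ℕ × ℕ => p.2 * n < p.1 * m)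
  let T' := (Finset.range (n + 1) ×ˢ Finset.range (m + 1)).filter (fun p : ℕ × ℕ => p.1 * m < p.2 * n)
  have hbij : ((Finset.range (m + n + 1) ×ˢ Finset.range (m + 1)).filter
      (fun ij : ℕ × ℕ => ij.1 ≤ ij.2 + n ∧ ij.2 * (m + n) < ij.1 * m)).card = T.card := by
    refine Finset.card_nbij' (fun ij => (ij.1 - ij.2, ij.2)) (fun p => (p.1 + p.2, p.2)) ?_ ?_ ?_ ?_
    · rintro ⟨i, j⟩ hij
      simp only [T, Finset.coe_filter, Finset.mem_product, Finset.mem_range, Set.mem_setOf_eq] at hij ⊢
      obtain ⟨⟨hi, hj⟩, h1, h2⟩ := hij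
      have hji : j ≤ i := by
        by_contra hlt
        push Not at hlt
        nlinarith
      obtain ⟨a, rfl⟩ := Nat.exists_eq_add_of_le hji
      rw [Nat.add_sub_cancel_left]
      exact ⟨⟨by omega, hj⟩, by nlinarith⟩
    · rintro ⟨a, j⟩ haj
      simp only [T, Finset.coe_filter, Finset.mem_product, Finset.mem_range, Set.mem_setOf_eq] at haj ⊢
      obtain ⟨⟨ha, hj⟩, h2⟩ := haj
      exact ⟨⟨by omega, hj⟩, by omega, by nlinarith⟩
    · rintro ⟨i, j⟩ hij
      simp only [Finset.coe_filter, Finset.mem_product, Finset.mem_range, Set.mem_setOf_eq] at hij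
      obtain ⟨⟨hi, hj⟩, h1, h2⟩ := hij
      have hji : j ≤ i := by
        by_contra hlt
        push Not at hlt
        nlinarith
      simp [Nat.sub_add_cancel hji]
    · rintro ⟨a, j⟩ _
      simp
  have hsym : T.card = T'.card := by
    refine Finset.card_nbij' (fun p => (n - p.1, m - p.2)) (fun p => (n - p.1, m - p.2)) ?_ ?_ ?_ ?_
    all_goals rintro ⟨a, j⟩ h
    all_goals simp only [T, T', Finset.coe_filter, Finset.mem_product, Finset.mem_range,
      Set.mem_setOf_eq] at h ⊢
    all_goals obtain ⟨⟨ha, hj⟩, h2⟩ := h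
    all_goals obtain ⟨a', rfl⟩ := Nat.exists_eq_add_of_le (Nat.lt_succ_iff.1 ha)
    all_goals obtain ⟨j', rfl⟩ := Nat.exists_eq_add_of_le (Nat.lt_succ_iff.1 hj)
    all_goals simp only [Nat.add_sub_cancel_left, Nat.add_sub_cancel]
    all_goals exact ⟨⟨by omega, by omega⟩, by nlinarith⟩
  have hdiag : (Finset.range (n + 1) ×ˢ Finset.range (m + 1)).filter
      (fun p : ℕ × ℕ => p.1 * m = p.2 * n) = {(0, 0), (n, m)} := by
    ext ⟨a, j⟩
    simp only [Finset.mem_filter, Finset.mem_product, Finset.mem_range, Finset.mem_insert,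
      Finset.mem_singleton, Prod.mk.injEq]
    constructor
    · rintro ⟨⟨ha, hj⟩, he⟩
      have hdvd : n ∣ a := (Nat.Coprime.dvd_of_dvd_mul_right hmn.symm ⟨j, by rw [he, mul_comm]⟩)
      rcases Nat.eq_zero_or_pos a with rfl | hapos
      · left
        refine ⟨rfl, ?_⟩
        rcases Nat.mul_eq_zero.1 (by simpa using he.symm) with h | h
        · exact h
        · omega
      · right
        have := Nat.le_of_dvd hapos hdvd
        obtain rfl : a = n := by omega
        exact ⟨rfl, Nat.eq_of_mul_eq_mul_right hn (by rw [← he, mul_comm])⟩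
    · rintro (⟨rfl, rfl⟩ | ⟨rfl, rfl⟩)
      · simp
      · exact ⟨⟨by omega, by omega⟩, mul_comm _ _⟩
  have htot : T.card + T'.card + 2 = (n + 1) * (m + 1) := by
    have h2 : ({(0, 0), (n, m)} : Finset (ℕ × ℕ)).card = 2 := by
      rw [Finset.card_pair (by simp [Prod.ext_iff]; omega)]
    rw [← h2, ← hdiag]
    simp only [T, T', Finset.card_filter]
    rw [← Finset.sum_add_distrib, ← Finset.sum_add_distrib,
      Finset.sum_congr rfl (g := fun _ => 1) (fun p _ => by split_ifs <;> omega)]
    simp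
  rw [hbij]
  obtain ⟨m', rfl⟩ := Nat.exists_eq_add_of_le hm
  obtain ⟨n', rfl⟩ := Nat.exists_eq_add_of_le hn
  simp only [Nat.succ_eq_add_one, zero_add, Nat.add_sub_cancel_left] at *
  ring_nf at htot ⊢
  omega

end Groth.Agent.S15498
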