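import Groth.Statements.S17853
import Groth.Agent.Calg8.Horrocks.Global
import Groth.Agent.Calg8.Horrocks.Splitting

set_option autoImplicit false
open Polynomial LaurentPolynomial TensorProduct
universe u
open CAlg

namespace Groth.Agent.S17853

open Groth.Calg8.Horrocks in
theorem extends_of_extended (A : Type u) [CommRing A] (M P : Type u) [AddCommGroup M] [Module A[X] M]
    [AddCommGroup P] [Module A P] (φ : M ≃ₗ[A[X]] (A[X] ⊗[A] P)) :
    ∃ e : (A[T;T⁻¹] ⊗[A[X]] M) →ₛₗ[(LaurentPolynomial.invert (R := A)).toRingEquiv.toRingHom]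
            (A[T;T⁻¹] ⊗[A[X]] M), Function.Bijective e := by
  have : IsScalarTower A A[X] A[T;T⁻¹] := IsScalarTower.of_algebraMap_eq fun a => (Polynomial.toLaurent_C a).symm
  let α : (A[T;T⁻¹] ⊗[A[X]] M) ≃ₗ[A[T;T⁻¹]] (A[T;T⁻¹] ⊗[A] P) :=
    (TensorProduct.AlgebraTensorModule.congr (LinearEquiv.refl A[T;T⁻¹] A[T;T⁻¹]) φ).trans
      (TensorProduct.AlgebraTensorModule.cancelBaseChange A A[X] A[T;T⁻¹] A[T;T⁻¹] P)
  let S : (A[T;T⁻¹] ⊗[A] P) ≃ₗ[A] (A[T;T⁻¹] ⊗[A] P) :=
    TensorProduct.congr (LaurentPolynomial.invert (R := A)).toLinearEquiv (LinearEquiv.refl A P)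
  have hS : ∀ (c : A[T;T⁻¹]) z, S (c • z) = LaurentPolynomial.invert c • S z := fun c z => by
    induction z using TensorProduct.induction_on with
    | zero => simp
    | add x y hx hy => rw [smul_add, map_add, hx, hy, map_add, smul_add]
    | tmul x p =>
      show S ((c * x) ⊗ₜ[A] p) = _
      simp [S, TensorProduct.smul_tmul']
  refine ⟨{ toFun := fun z => α.symm (S (α z)), map_add' := fun a b => by rw [map_add, map_add, map_add],
            map_smul' := fun c z => by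
              rw [map_smul α, hS, map_smul]
              rfl }, ?_⟩
  exact (α.symm.bijective.comp S.bijective).comp α.bijective

open Groth.Calg8.Horrocks in
theorem extended_of_extends (A : Type u) [CommRing A] (M : Type u) [AddCommGroup M] [Module A[X] M]
    [Module.Finite A[X] M] [Module.Projective A[X] M] (N : Type u) [AddCommGroup N] [Module A[X] N]
    [Module.Finite A[X] N] [Module.Projective A[X] N]
    (e : (A[T;T⁻¹] ⊗[A[X]] M) →ₛₗ[(LaurentPolynomial.invert (R := A)).toRingEquiv.toRingHom]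
            (A[T;T⁻¹] ⊗[A[X]] N)) (he : Function.Bijective e) :
    ∃ (P : Type u) (_ : AddCommGroup P) (_ : Module A P), Nonempty (M ≃ₗ[A[X]] (A[X] ⊗[A] P)) := by
  classical
  obtain ⟨n, ι, ρ, hρι⟩ := exists_split (R := A[X]) M
  obtain ⟨m, ι', ρ', hρι'⟩ := exists_split (R := A[X]) N
  set E := LinearMap.toMatrix' (ι ∘ₗ ρ) with hE
  set F := LinearMap.toMatrix' (ι' ∘ₗ ρ') with hF
  have hEE : E * E = E := by
    rw [hE, ← LinearMap.toMatrix'_comp, LinearMap.comp_assoc, ← LinearMap.comp_assoc ρ, ← LinearMap.comp_assoc, hρι]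
    rfl
  have hFF : F * F = F := by
    rw [hF, ← LinearMap.toMatrix'_comp, LinearMap.comp_assoc, ← LinearMap.comp_assoc ρ', ← LinearMap.comp_assoc, hρι']
    rfl
  let σ := LaurentPolynomial.invert (R := A)
  have hσ : ∀ x, σ (σ x) = x := LaurentPolynomial.involutive_invert
  obtain ⟨e', he'⟩ : ∃ e' : A[T;T⁻¹] ⊗[A[X]] N → A[T;T⁻¹] ⊗[A[X]] M,
      (∀ y, e (e' y) = y) ∧ ∀ x, e' (e x) = x :=
    ⟨_, (Equiv.ofBijective e he).apply_symm_apply, (Equiv.ofBijective e he).symm_apply_apply⟩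
  have he'smul : ∀ c y, e' (σ c • y) = c • e' y := fun c y => he.1 (by
    rw [he'.1, e.map_smulₛₗ, he'.1]; rfl)
  have he'add : ∀ y z, e' (y + z) = e' y + e' z := fun y z => he.1 (by rw [he'.1, map_add, he'.1, he'.1])
  let qMap : (Fin n → A[T;T⁻¹]) →ₗ[A[T;T⁻¹]] (Fin m → A[T;T⁻¹]) :=
    { toFun := fun x => σ ∘ bcIn A[T;T⁻¹] ι' (e (bcOut A[T;T⁻¹] ρ x))
      map_add' := fun x y => by
        funext l
        simp only [map_add, Pi.add_apply, Function.comp_apply]
      map_smul' := fun c x => by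
        funext l
        show σ (bcIn A[T;T⁻¹] ι' (e (bcOut A[T;T⁻¹] ρ (c • x))) l) = _
        rw [map_smul, e.map_smulₛₗ, map_smul, Pi.smul_apply, smul_eq_mul, map_mul]
        show σ (σ c) * _ = _
        rw [hσ]; rfl }
  let pMap : (Fin m → A[T;T⁻¹]) →ₗ[A[T;T⁻¹]] (Fin n → A[T;T⁻¹]) :=
    { toFun := fun x => bcIn A[T;T⁻¹] ι (e' (bcOut A[T;T⁻¹] ρ' (σ ∘ x)))
      map_add' := fun x y => by
        rw [show σ ∘ (x + y) = σ ∘ x + σ ∘ y from funext fun l => map_add σ _ _, map_add, he'add, map_add]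
      map_smul' := fun c x => by
        rw [show σ ∘ (c • x) = σ c • (σ ∘ x) from funext fun l => map_mul σ _ _, map_smul, he'smul, map_smul]
        rfl }
  have hEL : ∀ x, bcIn A[T;T⁻¹] ι (bcOut A[T;T⁻¹] ρ x) = (E.map toLaurent).mulVec x := fun x => by
    rw [← LinearMap.comp_apply, bcIn_comp_bcOut, Matrix.toLin'_apply]; rfl
  have hFL : ∀ x, bcIn A[T;T⁻¹] ι' (bcOut A[T;T⁻¹] ρ' x) = (F.map toLaurent).mulVec x := fun x => by
    rw [← LinearMap.comp_apply, bcIn_comp_bcOut, Matrix.toLin'_apply]; rfl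
  have hid : ∀ z, bcOut A[T;T⁻¹] ρ (bcIn A[T;T⁻¹] ι z) = z := fun z =>
    LinearMap.congr_fun (bcOut_comp_bcIn A[T;T⁻¹] ι ρ hρι) z
  have hid' : ∀ z, bcOut A[T;T⁻¹] ρ' (bcIn A[T;T⁻¹] ι' z) = z := fun z =>
    LinearMap.congr_fun (bcOut_comp_bcIn A[T;T⁻¹] ι' ρ' hρι') z
  obtain ⟨U, V, hUV, hVU⟩ := extended_of_gluing hEE hFF (P := LinearMap.toMatrix' pMap)
    (Q := LinearMap.toMatrix' qMap) (by
      rw [← LinearMap.toMatrix'_comp, ← LinearMap.toMatrix'_toLin' (E.map toLaurent)]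
      congr 1
      refine LinearMap.ext fun x => ?_
      rw [Matrix.toLin'_apply, ← hEL]
      show bcIn A[T;T⁻¹] ι (e' (bcOut A[T;T⁻¹] ρ' (σ ∘ (σ ∘ bcIn A[T;T⁻¹] ι' (e (bcOut A[T;T⁻¹] ρ x)))))) = _
      rw [← Function.comp_assoc, show (σ : A[T;T⁻¹] → A[T;T⁻¹]) ∘ σ = id from funext hσ, Function.id_comp,
        hid', he'.2]) (by
      rw [← LinearMap.toMatrix'_comp, ← LinearMap.toMatrix'_toLin' ((F.map toLaurent).map _)]
      congr 1
      refine LinearMap.ext fun x => ?_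
      rw [Matrix.toLin'_apply]
      show σ ∘ bcIn A[T;T⁻¹] ι' (e (bcOut A[T;T⁻¹] ρ (bcIn A[T;T⁻¹] ι (e' (bcOut A[T;T⁻¹] ρ' (σ ∘ x)))))) = _
      rw [hid, he'.1, hFL]
      funext l
      show σ ((F.map toLaurent).mulVec (σ ∘ x) l) = _
      simp only [Matrix.mulVec, dotProduct, map_sum, map_mul, Function.comp_apply, hσ, Matrix.map_apply]
      rfl)
  let e₀ : Matrix (Fin n) (Fin n) A := E.map (Polynomial.evalRingHom 0)
  have he₀ : e₀ * e₀ = e₀ := by rw [← Matrix.map_mul, hEE]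
  have hUV' : U * V = e₀.map (algebraMap A A[X]) := by rw [hUV, Matrix.map_map]; rfl
  let ι₀ := (fixedPts e₀).subtype
  let ρ₀ := fixedProj e₀ he₀
  have h0 : ρ₀ ∘ₗ ι₀ = LinearMap.id := fixedProj_comp_subtype e₀ he₀
  have hI0 : bcIn A[X] ι₀ ∘ₗ bcOut A[X] ρ₀ = Matrix.toLin' (U * V) := by
    rw [bcIn_comp_bcOut, hUV', show ι₀ ∘ₗ ρ₀ = Matrix.toLin' e₀ from rfl, LinearMap.toMatrix'_toLin']
  have hιρ : ι ∘ₗ ρ = Matrix.toLin' (V * U) := by rw [hVU, Matrix.toLin'_toMatrix']
  let Fm : A[X] ⊗[A] fixedPts e₀ →ₗ[A[X]] M := ρ ∘ₗ Matrix.toLin' V ∘ₗ bcIn A[X] ι₀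
  let Gm : M →ₗ[A[X]] A[X] ⊗[A] fixedPts e₀ := bcOut A[X] ρ₀ ∘ₗ Matrix.toLin' U ∘ₗ ι
  refine ⟨fixedPts e₀, inferInstance, inferInstance, ⟨LinearEquiv.ofLinearMap Gm Fm ?_ ?_⟩⟩
  · refine LinearMap.ext fun z => ?_
    have h1 := LinearMap.congr_fun hιρ (Matrix.toLin' V (bcIn A[X] ι₀ z))
    have h2 := LinearMap.congr_fun hI0 (bcIn A[X] ι₀ z)
    simp only [LinearMap.comp_apply] at h1 h2
    have h3 : bcOut A[X] ρ₀ (bcIn A[X] ι₀ z) = z := LinearMap.congr_fun (bcOut_comp_bcIn A[X] ι₀ ρ₀ h0) z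
    rw [h3] at h2
    simp only [Fm, Gm, LinearMap.comp_apply, LinearMap.id_apply, h1]
    simp only [Matrix.toLin'_apply, Matrix.mulVec_mulVec] at h2 ⊢
    rw [show U * (V * U * V) = U * V * (U * V) by simp only [Matrix.mul_assoc], ← Matrix.mulVec_mulVec,
      ← h2, ← h2, h3]
  · refine LinearMap.ext fun z => ?_
    have h3 : ρ (ι z) = z := LinearMap.congr_fun hρι z
    have h1 := LinearMap.congr_fun hιρ (ι z)
    have h2 := LinearMap.congr_fun hI0 (Matrix.toLin' U (ι z))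
    simp only [LinearMap.comp_apply, h3] at h1 h2
    simp only [Fm, Gm, LinearMap.comp_apply, LinearMap.id_apply, h2]
    simp only [Matrix.toLin'_apply, Matrix.mulVec_mulVec] at h1 ⊢
    rw [show V * (U * V * U) = V * U * (V * U) by simp only [Matrix.mul_assoc], ← Matrix.mulVec_mulVec,
      ← h1, ← h1, h3]

/-- For an arbitrary commutative ring A, a finitely generated projective A[t]-module M is extended from
A (isomorphic to A[t] ⊗_A P for an A-module P) if and only if it extends to a vector bundle on the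
projective line over A. The latter is stated by gluing: there are a finitely generated projective
module N over the polynomial ring of the chart at infinity and an isomorphism over the Laurent
polynomial ring between the localisation of M and the base change of N along s ↦ t⁻¹, written as a
bijective additive map A[t,t⁻¹] ⊗ M → A[t,t⁻¹] ⊗ N that is semilinear with respect to the A-algebra
involution t ↦ t⁻¹ of A[t,t⁻¹]. (The published statement adds: for A semilocal, M is then free on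
each connected component of the affine line.) -/
theorem result
    (A : Type u) [CommRing A] (M : Type u) [AddCommGroup M] [Module A[X] M]
    [Module.Finite A[X] M] [Module.Projective A[X] M] :
    (∃ (P : Type u) (_ : AddCommGroup P) (_ : Module A P), Nonempty (M ≃ₗ[A[X]] (A[X] ⊗[A] P))) ↔
      ∃ (N : Type u) (_ : AddCommGroup N) (_ : Module A[X] N),
        Module.Finite A[X] N ∧ Module.Projective A[X] N ∧
        ∃ e : (A[T;T⁻¹] ⊗[A[X]] M) →ₛₗ[(LaurentPolynomial.invert (R := A)).toRingEquiv.toRingHom]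
            (A[T;T⁻¹] ⊗[A[X]] N), Function.Bijective e := by
  constructor
  · rintro ⟨P, _, _, ⟨φ⟩⟩
    exact ⟨M, inferInstance, inferInstance, inferInstance, inferInstance, extends_of_extended A M P φ⟩
  · rintro ⟨N, _, _, _, _, e, he⟩
    exact extended_of_extends A M N e he

end Groth.Agent.S17853
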