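import Groth.Statements.S15499
import Groth.Agent.S17853

set_option autoImplicit false
set_option linter.style.haveILetI false
open Polynomial LaurentPolynomial
open scoped TensorProduct
universe u
open CAlg

namespace Groth.Agent.S15499

/-- Let S = Spec R be a smooth connected affine complex variety, so that R is a finitely generated
smooth ℂ-algebra and an integral domain, and let F be a locally free sheaf of finite rank on the
projective line over S, presented by its two standard charts: a finitely generated projective
R[X]-module P on the affine line over S, a finitely generated projective R[X]-module P' on the chart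
at infinity, and an identification of their base changes to R[X, X⁻¹] that is additive, bijective
and semilinear over the R-algebra involution X ↦ X⁻¹. Then S is covered by basic open sets D(g_1),
…, D(g_n) such that F restricted to the affine line over each D(g_i) is free: the localisation of P
at g_i is a free module over the localisation of R[X] at g_i. -/
theorem result
    (R : Type u) [CommRing R] [IsDomain R] [Algebra ℂ R] [Algebra.FiniteType ℂ R]
    [Algebra.Smooth ℂ R]
    (P : Type u) [AddCommGroup P] [Module R[X] P] [Module.Finite R[X] P]
    [Module.Projective R[X] P]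
    (P' : Type u) [AddCommGroup P'] [Module R[X] P'] [Module.Finite R[X] P']
    [Module.Projective R[X] P']
    (e : R[T;T⁻¹] ⊗[R[X]] P ≃+ R[T;T⁻¹] ⊗[R[X]] P')
    (he : ∀ (a : R[T;T⁻¹]) (m : R[T;T⁻¹] ⊗[R[X]] P),
      e (a • m) = LaurentPolynomial.invert a • e m) :
    ∃ (n : ℕ) (g : Fin n → R), Ideal.span (Set.range g) = ⊤ ∧
      ∀ i, Module.Free (Localization.Away (Polynomial.C (g i) : R[X]))
        (LocalizedModule (Submonoid.powers (Polynomial.C (g i) : R[X])) P) := by
  classical
  let e' : (R[T;T⁻¹] ⊗[R[X]] P) →ₛₗ[(LaurentPolynomial.invert (R := R)).toRingEquiv.toRingHom]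
      (R[T;T⁻¹] ⊗[R[X]] P') :=
    { toFun := e, map_add' := map_add e, map_smul' := fun a m => he a m }
  obtain ⟨Q, _, _, ⟨φ⟩⟩ := Groth.Agent.S17853.extended_of_extends R P P' e' e.bijective
  letI : Algebra R[X] R := (Polynomial.aeval (0 : R)).toRingHom.toAlgebra
  haveI : IsScalarTower R R[X] R := IsScalarTower.of_algebraMap_eq fun a => by
    show a = Polynomial.aeval (0 : R) (Polynomial.C a)
    simp
  let ψ : (R ⊗[R[X]] P) ≃ₗ[R] Q :=
    (TensorProduct.AlgebraTensorModule.congr (LinearEquiv.refl R R) φ).trans
      ((TensorProduct.AlgebraTensorModule.cancelBaseChange R R[X] R R Q).trans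
        (TensorProduct.lid R Q))
  haveI : Module.Finite R (R ⊗[R[X]] P) := Module.Finite.base_change R[X] R P
  haveI : Module.Projective R (R ⊗[R[X]] P) := inferInstance
  haveI : Module.Finite R Q := Module.Finite.equiv ψ
  haveI : Module.Projective R Q := Module.Projective.of_equiv ψ
  haveI : Module.FinitePresentation R Q := Module.finitePresentation_of_projective R Q
  let G : Set R := {r | Module.Free (Localization.Away r) (LocalizedModule.Away r Q)}
  have hG : Ideal.span G = ⊤ := by
    by_contra hne
    obtain ⟨m, hm, hle⟩ := Ideal.exists_le_maximal _ hne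
    haveI := hm.isPrime
    haveI : Module.Free (Localization.AtPrime m) (LocalizedModule m.primeCompl Q) :=
      Module.free_of_flat_of_isLocalRing
    obtain ⟨r, hr, hfree, -⟩ := Module.FinitePresentation.exists_free_localizedModule_powers
      m.primeCompl (LocalizedModule.mkLinearMap m.primeCompl Q) (Localization.AtPrime m)
    exact hr (hle (Ideal.subset_span hfree))
  obtain ⟨s, hsG, hs⟩ := (Ideal.span_eq_top_iff_finite G).1 hG
  refine ⟨s.card, fun i => (s.equivFin.symm i : R), ?_, fun i => ?_⟩
  · rw [← hs]
    congr 1
    ext x
    exact ⟨fun ⟨i, hi⟩ => hi ▸ (s.equivFin.symm i).2, fun hx => ⟨s.equivFin ⟨x, hx⟩, by simp⟩⟩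
  beta_reduce
  generalize hg : (s.equivFin.symm i : R) = g
  have hgG : g ∈ G := hg ▸ hsG (s.equivFin.symm i).2
  haveI : Module.Free (Localization.Away g) (LocalizedModule.Away g Q) := hgG
  let L := Localization.Away (Polynomial.C g : R[X])
  have hunit : IsUnit ((algebraMap R[X] L).comp Polynomial.C g) :=
    IsLocalization.Away.algebraMap_isUnit (Polynomial.C g)
  letI : Algebra (Localization.Away g) L := (IsLocalization.Away.lift g hunit).toAlgebra
  haveI : IsScalarTower R (Localization.Away g) L := IsScalarTower.of_algebraMap_eq fun a => by
    show algebraMap R L a = IsLocalization.Away.lift g hunit (algebraMap R (Localization.Away g) a)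
    rw [IsLocalization.Away.lift_eq]
    rfl
  have hQ : IsBaseChange (Localization.Away g)
      (LocalizedModule.mkLinearMap (Submonoid.powers g) Q) :=
    IsLocalizedModule.isBaseChange (Submonoid.powers g) _ _
  have hP : IsBaseChange L
      (LocalizedModule.mkLinearMap (Submonoid.powers (Polynomial.C g : R[X])) P) :=
    IsLocalizedModule.isBaseChange (Submonoid.powers (Polynomial.C g : R[X])) _ _
  let ee : (L ⊗[Localization.Away g] LocalizedModule.Away g Q) ≃ₗ[L]
      LocalizedModule (Submonoid.powers (Polynomial.C g : R[X])) P :=
    ((TensorProduct.AlgebraTensorModule.congr (LinearEquiv.refl L L) hQ.equiv.symm).trans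
      (TensorProduct.AlgebraTensorModule.cancelBaseChange R (Localization.Away g) L L Q)).trans
      (((TensorProduct.AlgebraTensorModule.congr (LinearEquiv.refl L L) φ).trans
        (TensorProduct.AlgebraTensorModule.cancelBaseChange R R[X] L L Q)).symm.trans hP.equiv)
  exact Module.Free.of_equiv ee

end Groth.Agent.S15499
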