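import Groth.Statements.S15500
import Groth.Agent.ZetaAn.ElemFibration
import Mathlib.AlgebraicGeometry.Morphisms.Affine

set_option autoImplicit false
set_option linter.style.haveILetI false
open CategoryTheory AlgebraicGeometry
open An

attribute [-instance] CategoryTheory.catToReflQuiver CategoryTheory.ReflQuiver.toQuiver

namespace Groth.Agent.S15500

/-- An elementary fibration f : X → S of smooth complex varieties is affine and surjective, elementary
fibration being taken in the following sense: f factors as an open immersion j : X → X̄ followed by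
f̄ : X̄ → S, where f̄ is smooth and is a closed subscheme of some projective space over S with
geometrically irreducible fibres of dimension one, the complement of j(X) is the image of a closed
immersion Y → X̄ with Y finite, etale and surjective over S, and j(X) is dense in every fibre of f̄
(for smooth complex varieties the last clause is automatic, and this is the usual notion: a smooth
projective family of irreducible curves minus a finite etale multisection). -/
theorem result (X S : Scheme.{0})
    [X.Over An.SC] [Smooth (X ↘ An.SC)] [IsSeparated (X ↘ An.SC)] [QuasiCompact (X ↘ An.SC)]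
    [S.Over An.SC] [Smooth (S ↘ An.SC)] [IsSeparated (S ↘ An.SC)] [QuasiCompact (S ↘ An.SC)]
    (f : X ⟶ S) [f.IsOver An.SC] (hf : An.IsElementaryFibration f) :
    IsAffineHom f ∧ Surjective f := by
  obtain ⟨Xb, Y, j, fb, i, rfl, hj, hi, hrange, hdense, hsm, hproj, hgeo, hfin, het, hsurj⟩ := hf
  have : IsProper fb := by
    obtain ⟨n, c, hc, rfl⟩ := hproj
    have := Groth.Variety2.isProper_projSpaceOver_toBase n S
    infer_instance
  have : IsLocallyNoetherian S := LocallyOfFiniteType.isLocallyNoetherian (S ↘ An.SC)
  have : Flat (i ≫ fb) := inferInstance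
  have : LocallyOfFinitePresentation (i ≫ fb) := inferInstance
  refine ⟨isAffineHom_of_forall_exists_isAffineOpen (j ≫ fb) fun s => ?_, ⟨fun s => ?_⟩⟩
  · obtain ⟨W, V, hsW, hW, hV, hVeq⟩ :=
      Groth.ZetaAn.ElemFib.exists_affine_nhd fb hgeo i hsurj s
    refine ⟨W, hsW, hW, ?_⟩
    have hle : j ⁻¹ᵁ V = (j ≫ fb) ⁻¹ᵁ W := by
      ext x
      show j.base x ∈ (V : Set Xb) ↔ fb.base (j.base x) ∈ W
      rw [hVeq, ← hrange]
      exact ⟨fun h => h.2, fun h => ⟨⟨x, rfl⟩, h⟩⟩
    rw [← hle]
    exact hV.preimage_of_isOpenImmersion j (by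
      intro v hv
      have hv' : v ∈ (V : Set Xb) := hv
      rw [hVeq, ← hrange] at hv'
      exact hv'.1)
  · have := Groth.ZetaAn.ElemFib.irreducibleSpace_fibre fb hgeo s
    obtain ⟨z⟩ : Nonempty (fb.fiber s) := inferInstance
    have hz : fb.fiberι s z ∈ fb.base ⁻¹' {s} := by
      rw [← Scheme.Hom.range_fiberι]; exact ⟨z, rfl⟩
    obtain ⟨_, ⟨w, rfl⟩, hw⟩ := closure_nonempty_iff.1 ⟨_, hdense s hz⟩
    exact ⟨w, hw⟩

end Groth.Agent.S15500
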