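import Groth.Statements.S15501
import Mathlib.AlgebraicGeometry.PullbackCarrier
import Mathlib.Topology.KrullDimension
import Mathlib.FieldTheory.IsAlgClosed.AlgebraicClosure

set_option autoImplicit false
set_option linter.style.haveILetI false
open CategoryTheory CategoryTheory.Limits AlgebraicGeometry
open An

namespace Groth.Agent.S15501

/-- Closed subschemes of projective space are stable under base change. -/
lemma proj_pullback {Xb S S' : Scheme.{0}} (fb : Xb ⟶ S) (u : S' ⟶ S)
    (hX : IsPullback (pullback.fst fb u) (pullback.snd fb u) fb u) (n : ℕ) (c : Xb ⟶ CohB1.ProjSpaceOver n S)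
    (hc : IsClosedImmersion c) (hcb : c ≫ CohB1.ProjSpaceOver.toBase n S = fb) :
    ∃ c' : pullback fb u ⟶ CohB1.ProjSpaceOver n S', IsClosedImmersion c' ∧
      c' ≫ CohB1.ProjSpaceOver.toBase n S' = pullback.snd fb u := by
  let c' : pullback fb u ⟶ CohB1.ProjSpaceOver n S' :=
    pullback.lift (pullback.fst fb u ≫ c ≫ pullback.fst _ _) (pullback.snd fb u) (specULiftZIsTerminal.hom_ext _ _)
  let qm : CohB1.ProjSpaceOver n S' ⟶ CohB1.ProjSpaceOver n S :=
    pullback.lift (pullback.fst _ _) (CohB1.ProjSpaceOver.toBase n S' ≫ u) (specULiftZIsTerminal.hom_ext _ _)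
  have hPS : IsPullback qm (CohB1.ProjSpaceOver.toBase n S') (CohB1.ProjSpaceOver.toBase n S) u := by
    refine IsPullback.of_right ?_ (pullback.lift_snd _ _ _) (IsPullback.of_hasPullback _ _)
    have e1 : qm ≫ pullback.fst _ _ = pullback.fst _ _ := pullback.lift_fst _ _ _
    have e2 : u ≫ specULiftZIsTerminal.from S = specULiftZIsTerminal.from S' :=
      specULiftZIsTerminal.hom_ext _ _
    rw [e1, e2]
    exact IsPullback.of_hasPullback _ _
  have hc'b : c' ≫ CohB1.ProjSpaceOver.toBase n S' = (pullback.snd fb u) := pullback.lift_snd _ _ _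
  have hcsq : pullback.fst fb u ≫ c = c' ≫ qm := by
    refine pullback.hom_ext ?_ ?_
    · have e1 : qm ≫ pullback.fst _ _ = pullback.fst _ _ := pullback.lift_fst _ _ _
      have e3 : c' ≫ pullback.fst _ _ = pullback.fst fb u ≫ c ≫ pullback.fst _ _ := pullback.lift_fst _ _ _
      exact (Category.assoc _ _ _).trans
        (((Category.assoc c' qm _).trans ((congrArg (c' ≫ ·) e1).trans e3)).symm)
    · have e1 : qm ≫ CohB1.ProjSpaceOver.toBase n S = CohB1.ProjSpaceOver.toBase n S' ≫ u :=
        pullback.lift_snd _ _ _
      show (pullback.fst fb u ≫ c) ≫ CohB1.ProjSpaceOver.toBase n S = (c' ≫ qm) ≫ CohB1.ProjSpaceOver.toBase n S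
      rw [Category.assoc, hcb, Category.assoc, e1, ← Category.assoc, hc'b]
      exact pullback.condition
  have hsq : IsPullback (pullback.fst fb u) c' c qm := IsPullback.of_bot (by rw [hc'b, hcb]; exact hX) hcsq hPS
  exact ⟨c', MorphismProperty.of_isPullback hsq hc, hc'b⟩

/-- The base change of an elementary fibration f : X → S of smooth complex varieties along any morphism
u : S' → S of smooth complex varieties is an elementary fibration X ×_S S' → S', elementary
fibration being taken in the following sense: f factors as an open immersion j : X → X̄ followed by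
f̄ : X̄ → S, where f̄ is smooth and is a closed subscheme of some projective space over S with
geometrically irreducible fibres of dimension one, the complement of j(X) is the image of a closed
immersion Y → X̄ with Y finite, etale and surjective over S, and j(X) is dense in every fibre of f̄
(for smooth complex varieties the last clause is automatic, and this is the usual notion: a smooth
projective family of irreducible curves minus a finite etale multisection). (The published statement
also treats rational and coordinatised elementary fibrations; this row states only the plain case.) -/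
theorem result (X S S' : Scheme.{0})
    [X.Over An.SC] [Smooth (X ↘ An.SC)] [IsSeparated (X ↘ An.SC)] [QuasiCompact (X ↘ An.SC)]
    [S.Over An.SC] [Smooth (S ↘ An.SC)] [IsSeparated (S ↘ An.SC)] [QuasiCompact (S ↘ An.SC)]
    [S'.Over An.SC] [Smooth (S' ↘ An.SC)] [IsSeparated (S' ↘ An.SC)] [QuasiCompact (S' ↘ An.SC)]
    (f : X ⟶ S) [f.IsOver An.SC] (u : S' ⟶ S) [u.IsOver An.SC]
    (hf : An.IsElementaryFibration f) :
    An.IsElementaryFibration (pullback.snd f u) := by
  obtain ⟨Xb, Y, j, fb, i, hjf, hj, hi, hrange, hdense, hfb, ⟨n, c, hc, hcb⟩, hgeo, hfin, het, hsurj⟩ := hf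
  subst hjf
  let p : pullback fb u ⟶ Xb := pullback.fst fb u
  let fb' : pullback fb u ⟶ S' := pullback.snd fb u
  have hX : IsPullback p fb' fb u := IsPullback.of_hasPullback fb u
  let j' : pullback (j ≫ fb) u ⟶ pullback fb u :=
    pullback.lift (pullback.fst _ _ ≫ j) (pullback.snd _ _) (by rw [Category.assoc]; exact pullback.condition)
  have hj'b : j' ≫ fb' = pullback.snd (j ≫ fb) u := pullback.lift_snd _ _ _
  have hjsq : IsPullback (pullback.fst (j ≫ fb) u) j' j p :=
    IsPullback.of_bot (by rw [hj'b]; exact IsPullback.of_hasPullback (j ≫ fb) u)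
      (pullback.lift_fst _ _ _).symm hX
  let i' : pullback i p ⟶ pullback fb u := pullback.snd i p
  have hY : IsPullback (pullback.fst i p) (i' ≫ fb') (i ≫ fb) u :=
    (IsPullback.of_hasPullback i p).paste_vert hX
  have hrj : Set.range j'.base = p.base ⁻¹' Set.range j.base := by
    rw [← hjsq.isoPullback_hom_snd, Scheme.Hom.comp_base, TopCat.coe_comp, Set.range_comp,
      (Scheme.homeoOfIso hjsq.isoPullback).surjective.range_eq |> fun h =>
        (show Set.range hjsq.isoPullback.hom.base = Set.univ from h), Set.image_univ]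
    exact Scheme.Pullback.range_snd j p
  have hri : Set.range i'.base = p.base ⁻¹' Set.range i.base := Scheme.Pullback.range_snd i p
  have hgeo' : ∀ (Ω : Type) [Field Ω] [IsAlgClosed Ω] (σ : Spec (CommRingCat.of Ω) ⟶ S'),
      IrreducibleSpace ↥(pullback fb' σ) ∧ topologicalKrullDim ↥(pullback fb' σ) = 1 := by
    intro Ω _ _ σ
    obtain ⟨h1, h2⟩ := hgeo Ω (σ ≫ u)
    let sq : IsPullback (pullback.fst fb' σ ≫ p) (pullback.snd fb' σ) fb (σ ≫ u) :=
      (IsPullback.of_hasPullback fb' σ).paste_horiz hX
    let e := Scheme.homeoOfIso sq.isoPullback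
    haveI := h1
    exact ⟨e.irreducibleSpace_iff.2 h1, by rw [IsHomeomorph.topologicalKrullDim_eq e e.isHomeomorph, h2]⟩
  refine ⟨pullback fb u, pullback i p, j', fb', i', hj'b, ?_, MorphismProperty.of_isPullback (IsPullback.of_hasPullback i p) hi,
    by rw [hrj, hri, hrange]; rfl, ?_, MorphismProperty.of_isPullback hX hfb, ⟨n, ?_⟩, hgeo',
    MorphismProperty.of_isPullback hY hfin, MorphismProperty.of_isPullback hY het, ?_⟩
  · exact MorphismProperty.of_isPullback hjsq hj
  · -- density: the fibres are irreducible and meet the open part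
    intro s'
    let Ω := AlgebraicClosure (S'.residueField s')
    let σ : Spec (CommRingCat.of Ω) ⟶ S' :=
      Spec.map (CommRingCat.ofHom (algebraMap (S'.residueField s') Ω)) ≫ S'.fromSpecResidueField s'
    have hσ : Set.range σ.base = {s'} := by
      have : ∀ a, σ.base a = s' := fun a => Scheme.fromSpecResidueField_apply (X := S') s' ((Spec.map (CommRingCat.ofHom (algebraMap (S'.residueField s') Ω))).base a)
      ext y
      exact ⟨fun ⟨a, ha⟩ => by rw [← ha]; exact this a, fun hy => ⟨IsLocalRing.closedPoint Ω, (this _).trans hy.symm⟩⟩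
    haveI := (hgeo' Ω σ).1
    have himg : Set.range (pullback.fst fb' σ).base = fb'.base ⁻¹' {s'} := by
      rw [← hσ]; exact Scheme.Pullback.range_fst fb' σ
    have hirr : IsPreirreducible (fb'.base ⁻¹' {s'}) := by
      rw [← himg, ← Set.image_univ]
      exact (PreirreducibleSpace.isPreirreducible_univ).image _ (pullback.fst fb' σ).continuous.continuousOn
    have hne : ((fb'.base ⁻¹' {s'}) ∩ Set.range j'.base).Nonempty := by
      have hs : (Set.range j.base ∩ fb.base ⁻¹' {u.base s'}).Nonempty := by
        rw [← closure_nonempty_iff]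
        obtain ⟨z⟩ := (hgeo Ω (σ ≫ u)).1.toNonempty
        refine ⟨(pullback.fst fb (σ ≫ u)).base z, hdense _ ?_⟩
        have h1 := congrArg (fun g : pullback fb (σ ≫ u) ⟶ S => g.base z) (pullback.condition (f := fb) (g := σ ≫ u))
        show fb.base ((pullback.fst fb (σ ≫ u)).base z) = u.base s'
        exact h1.trans (congrArg u.base (hσ ▸ (Set.mem_range_self (f := σ.base) ((pullback.snd fb (σ ≫ u)).base z)) : σ.base _ ∈ ({s'} : Set S')))
      obtain ⟨x, hxj, hx⟩ := hs
      obtain ⟨t, ht1, ht2⟩ := Scheme.Pullback.exists_preimage_pullback (f := fb) (g := u) x s' hx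
      refine ⟨t, ht2, ?_⟩
      rw [hrj, Set.mem_preimage]
      exact ht1 ▸ hxj
    rw [Set.inter_comm]
    haveI : IsOpenImmersion j' := MorphismProperty.of_isPullback hjsq hj
    exact subset_closure_inter_of_isPreirreducible_of_isOpen hirr j'.isOpenEmbedding.isOpen_range hne
  · exact (proj_pullback fb u hX n c hc hcb)
  · haveI : Surjective (i ≫ fb) := ⟨hsurj⟩
    haveI : Surjective (i' ≫ fb') := MorphismProperty.of_isPullback hY ‹Surjective (i ≫ fb)›
    exact (i' ≫ fb').surjective

end Groth.Agent.S15501
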