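import Groth.Statements.S15504
import Mathlib

set_option autoImplicit false
universe u v
open FrobAlg

namespace Groth.Agent.S15504

/-- Let k be an algebraically closed field of characteristic p, W = W(k) the ring of p-typical Witt
vectors, M a finitely generated torsion W-module and φ a p⁻¹-linear endomorphism of M (additive,
with φ(a·m) = σ⁻¹(a)·φ(m) for the Frobenius automorphism σ of W). Then M = M_s ⊕ M_n for two
φ-stable submodules, with φ bijective on M_s and nilpotent on M_n (one iterate of φ kills M_n). -/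
theorem result (p : ℕ) [Fact p.Prime]
    (k : Type u) [Field k] [CharP k p] [IsAlgClosed k]
    (M : Type v) [AddCommGroup M] [Module (WittVector p k) M] [Module.Finite (WittVector p k) M]
    (hM : Module.IsTorsion (WittVector p k) M)
    (φ : M →ₛₗ[((WittVector.frobeniusEquiv p k).symm : WittVector p k →+* WittVector p k)] M) :
    ∃ Ms Mn : Submodule (WittVector p k) M, IsCompl Ms Mn ∧
      Set.MapsTo φ Ms Ms ∧ Set.MapsTo φ Mn Mn ∧ Set.BijOn φ Ms Ms ∧
      ∃ r : ℕ, ∀ x ∈ Mn, (⇑φ)^[r] x = 0 := by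
  classical
  let W := WittVector p k
  obtain ⟨a, ha1, ha2⟩ := Set.nonempty_def.mp (Submodule.annihilator_top_inter_nonZeroDivisors hM)
  have : IsArtinianRing (W ⧸ Ideal.span {a}) := by
    have : Ring.KrullDimLE 0 (W ⧸ Ideal.span {a}) := Ring.krullDimLE_zero_iff.mpr fun P hP => by
      have h1 : (P.comap (Ideal.Quotient.mk (Ideal.span {a}))).IsPrime := inferInstance
      have h2 : P.comap (Ideal.Quotient.mk (Ideal.span {a})) ≠ ⊥ := fun h => by
        have ha : a ∈ P.comap (Ideal.Quotient.mk (Ideal.span {a})) := by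
          rw [Ideal.mem_comap, Ideal.Quotient.eq_zero_iff_mem.mpr (Ideal.mem_span_singleton_self a)]
          exact P.zero_mem
        rw [h, Submodule.mem_bot] at ha
        exact nonZeroDivisors.ne_zero ha2 ha
      have h3 := h1.isMaximal h2
      rw [← Ideal.map_comap_of_surjective _ Ideal.Quotient.mk_surjective P]
      exact (Ideal.map_eq_top_or_isMaximal_of_surjective _ Ideal.Quotient.mk_surjective h3).resolve_left (by
        rw [Ideal.map_comap_of_surjective _ Ideal.Quotient.mk_surjective P]; exact hP.ne_top)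
    exact isArtinianRing_iff_isNoetherianRing_krullDimLE_zero.mpr ⟨inferInstance, inferInstance⟩
  have htor : Module.IsTorsionBySet W M ((Ideal.span {a} : Ideal W) : Set W) := fun x ⟨b, hb⟩ => by
    obtain ⟨c, rfl⟩ := Ideal.mem_span_singleton'.mp hb
    show (c * a) • x = 0
    rw [mul_smul, Submodule.mem_annihilator.mp ha1 x Submodule.mem_top, smul_zero]
  letI : Module (W ⧸ Ideal.span {a}) M := htor.module
  have : IsScalarTower W (W ⧸ Ideal.span {a}) M := htor.isScalarTower
  have : Module.Finite (W ⧸ Ideal.span {a}) M := Module.Finite.of_restrictScalars_finite W _ M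
  have hart : IsArtinian W M :=
    isArtinian_of_surjective_algebraMap (R := W ⧸ Ideal.span {a}) (S := W) Ideal.Quotient.mk_surjective
  let σ := WittVector.frobeniusEquiv p k
  have hpush : ∀ (n : ℕ) (c : W) (x : M), c • (⇑φ)^[n] x = (⇑φ)^[n] ((⇑σ)^[n] c • x) := by
    intro n
    induction n with
    | zero => intro c x; rfl
    | succ n ih =>
      intro c x
      rw [Function.iterate_succ_apply', Function.iterate_succ_apply', Function.iterate_succ_apply, ← ih, map_smulₛₗ]
      congr 1
      exact (σ.symm_apply_apply c).symm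
  have hlin : ∀ (n : ℕ) (c : W) (x : M), (⇑φ)^[n] (c • x) = (⇑σ.symm)^[n] c • (⇑φ)^[n] x := by
    intro n
    induction n with
    | zero => intro c x; rfl
    | succ n ih =>
      intro c x
      rw [Function.iterate_succ_apply', ih, map_smulₛₗ, Function.iterate_succ_apply', Function.iterate_succ_apply']
      rfl
  let K : ℕ →o Submodule W M :=
    ⟨fun n => { carrier := {x | (⇑φ)^[n] x = 0}
                zero_mem' := iterate_map_zero φ n
                add_mem' := fun {x y} hx hy => by
                  show (⇑φ)^[n] (x + y) = 0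
                  rw [iterate_map_add, show (⇑φ)^[n] x = 0 from hx, show (⇑φ)^[n] y = 0 from hy, add_zero]
                smul_mem' := fun c x hx => by
                  show (⇑φ)^[n] (c • x) = 0
                  rw [hlin, show (⇑φ)^[n] x = 0 from hx, smul_zero] },
      monotone_nat_of_le_succ fun n x hx => by
        show (⇑φ)^[n + 1] x = 0
        rw [Function.iterate_succ_apply', show (⇑φ)^[n] x = 0 from hx, map_zero]⟩
  let R : ℕ →o (Submodule W M)ᵒᵈ :=
    ⟨fun n => OrderDual.toDual
      { carrier := Set.range (⇑φ)^[n]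
        zero_mem' := ⟨0, iterate_map_zero φ n⟩
        add_mem' := by
          rintro _ _ ⟨a, rfl⟩ ⟨b, rfl⟩
          exact ⟨a + b, iterate_map_add φ n a b⟩
        smul_mem' := by
          rintro c _ ⟨a, rfl⟩
          exact ⟨(⇑σ)^[n] c • a, (hpush n c a).symm⟩ },
      monotone_nat_of_le_succ fun n => by
        rintro _ ⟨a, rfl⟩
        exact ⟨φ a, (Function.iterate_succ_apply φ n a).symm⟩⟩
  obtain ⟨r₁, hr₁⟩ := monotone_stabilizes_iff_noetherian.mpr inferInstance K
  obtain ⟨r₂, hr₂⟩ := IsArtinian.monotone_stabilizes R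
  set r := r₁ + r₂
  have hK : ∀ x n, r ≤ n → (⇑φ)^[n] x = 0 → (⇑φ)^[r] x = 0 := fun x n hn hx => by
    have : x ∈ K n := hx
    rw [← hr₁ n (le_trans (Nat.le_add_right _ _) hn), hr₁ r (Nat.le_add_right _ _)] at this
    exact this
  have hR : ∀ x n, r ≤ n → ∃ z, (⇑φ)^[n] z = (⇑φ)^[r] x := fun x n hn => by
    have h1 : (⇑φ)^[r] x ∈ OrderDual.ofDual (R r) := ⟨x, rfl⟩
    rw [← hr₂ r (Nat.le_add_left _ _), hr₂ n (le_trans (Nat.le_add_left _ _) hn)] at h1
    exact h1
  refine ⟨OrderDual.ofDual (R r), K r, ⟨?_, ?_⟩, ?_, ?_, ⟨?_, ?_, ?_⟩, r, fun x hx => hx⟩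
  · rw [disjoint_iff, eq_bot_iff]
    rintro _ ⟨⟨x, rfl⟩, hx⟩
    rw [Submodule.mem_bot]
    exact hK x (r + r) (Nat.le_add_right _ _) (by rw [Function.iterate_add_apply]; exact hx)
  · rw [codisjoint_iff, eq_top_iff]
    intro x _
    obtain ⟨z, hz⟩ := hR x (r + r) (Nat.le_add_right _ _)
    rw [show x = (⇑φ)^[r] z + (x - (⇑φ)^[r] z) from (add_sub_cancel _ _).symm]
    refine Submodule.add_mem_sup ⟨z, rfl⟩ ?_
    show (⇑φ)^[r] (x - (⇑φ)^[r] z) = 0
    rw [iterate_map_sub, ← Function.iterate_add_apply, hz, sub_self]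
  · rintro _ ⟨x, rfl⟩
    exact ⟨φ x, by rw [← Function.iterate_succ_apply, Function.iterate_succ_apply']⟩
  · intro x hx
    show (⇑φ)^[r] (φ x) = 0
    rw [← Function.iterate_succ_apply, Function.iterate_succ_apply', show (⇑φ)^[r] x = 0 from hx, map_zero]
  · rintro _ ⟨x, rfl⟩
    exact ⟨φ x, by rw [← Function.iterate_succ_apply, Function.iterate_succ_apply']⟩
  · rintro _ ⟨x, rfl⟩ _ ⟨y, rfl⟩ hxy
    rw [← sub_eq_zero, ← map_sub, ← iterate_map_sub] at hxy
    have hxy' : (⇑φ)^[r + 1] (x - y) = 0 := (Function.iterate_succ_apply' φ r _).trans hxy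
    rw [← sub_eq_zero, ← iterate_map_sub]
    exact hK _ (r + 1) (Nat.le_succ _) hxy'
  · rintro _ ⟨x, rfl⟩
    obtain ⟨z, hz⟩ := hR x (r + 1) (Nat.le_succ _)
    exact ⟨(⇑φ)^[r] z, ⟨z, rfl⟩, (Function.iterate_succ_apply' φ r z).symm.trans hz⟩

end Groth.Agent.S15504
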