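import Groth.Statements.S15505
import Mathlib.FieldTheory.Finite.Basic

set_option autoImplicit false
universe u v w
open FrobAlg

namespace Groth.Agent.S15505

/-- Let k be an algebraically closed field of characteristic p, V a k-vector space, φ a p⁻¹-linear
endomorphism of V (additive, φ(a·v) = a^{1/p}·φ(v)) and b a finite basis of V consisting of vectors
fixed by φ. Then the vectors fixed by φ are exactly the combinations of the b_i with coefficients in
the prime field: v is fixed if and only if v = Σ c_i·b_i with all c_i in the image of ℤ/p. -/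
theorem result (p : ℕ) [Fact p.Prime]
    (k : Type u) [Field k] [CharP k p] [IsAlgClosed k]
    (V : Type v) [AddCommGroup V] [Module k V]
    (φ : V →ₛₗ[((frobeniusEquiv k p).symm : k →+* k)] V)
    {ι : Type w} [Fintype ι] (b : Module.Basis ι k V) (hb : ∀ i, φ (b i) = b i) (v : V) :
    φ v = v ↔ ∃ c : ι → ZMod p, v = ∑ i, (ZMod.castHom (dvd_refl p) k (c i)) • b i := by
  have hroot : ∀ c : k, (frobeniusEquiv k p).symm c = c ↔ ∃ z : ZMod p, c = ZMod.castHom (dvd_refl p) k z := by
    intro c
    rw [RingEquiv.symm_apply_eq, frobeniusEquiv_apply, frobenius_def, eq_comm,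
      ← Subfield.mem_bot_iff_pow_eq_self, ← ZMod.fieldRange_castHom_eq_bot p]
    exact ⟨fun ⟨z, hz⟩ => ⟨z, hz.symm⟩, fun ⟨z, hz⟩ => ⟨z, hz.symm⟩⟩
  have hφ : φ v = ∑ i, (frobeniusEquiv k p).symm (b.repr v i) • b i := by
    conv_lhs => rw [← b.sum_repr v]
    rw [map_sum]
    exact Finset.sum_congr rfl fun i _ => by rw [LinearMap.map_smulₛₗ, hb]; rfl
  constructor
  · intro h
    have : ∀ i, ∃ z : ZMod p, b.repr v i = ZMod.castHom (dvd_refl p) k z := fun i => by
      refine (hroot _).1 ?_
      have := congrArg (fun w => b.repr w i) (hφ.symm.trans h)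
      simp only [map_sum, map_smul, Module.Basis.repr_self, Finsupp.smul_single, smul_eq_mul, mul_one,
        Finsupp.finsetSum_apply] at this
      rw [Finset.sum_eq_single i (fun c _ hc => Finsupp.single_eq_of_ne (Ne.symm hc)) (by simp),
        Finsupp.single_eq_same] at this
      exact this
    choose c hc using this
    exact ⟨c, by simp_rw [← hc]; exact (b.sum_repr v).symm⟩
  · rintro ⟨c, rfl⟩
    rw [map_sum]
    refine Finset.sum_congr rfl fun i _ => ?_
    rw [LinearMap.map_smulₛₗ, hb]
    exact congrArg (· • b i) ((hroot _).2 ⟨c i, rfl⟩)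

end Groth.Agent.S15505
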