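import Groth.Statements.S15506
import Mathlib.AlgebraicGeometry.Morphisms.Etale
import Mathlib.AlgebraicGeometry.ResidueField
import Mathlib.RingTheory.Unramified.Finite
import Mathlib.RingTheory.Adjoin.Field
import Mathlib.FieldTheory.IsAlgClosed.Basic

set_option autoImplicit false
universe u
open CategoryTheory AlgebraicGeometry
open EtBase

namespace Groth.Agent.S15506

lemma spec_algebraMap_cancel {K Ω : Type u} [Field K] [Field Ω] [Algebra K Ω] {Z : Scheme.{u}}
    (g₁ g₂ : Spec (CommRingCat.of K) ⟶ Z)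
    (h : Spec.map (CommRingCat.ofHom (algebraMap K Ω)) ≫ g₁ =
      Spec.map (CommRingCat.ofHom (algebraMap K Ω)) ≫ g₂) : g₁ = g₂ := by
  obtain ⟨⟨x₁, φ₁⟩, rfl⟩ := (Scheme.SpecToEquivOfField K Z).symm.surjective g₁
  obtain ⟨⟨x₂, φ₂⟩, rfl⟩ := (Scheme.SpecToEquivOfField K Z).symm.surjective g₂
  have key : ∀ (x : Z) (φ : Z.residueField x ⟶ CommRingCat.of K),
      Spec.map (CommRingCat.ofHom (algebraMap K Ω)) ≫ (Scheme.SpecToEquivOfField K Z).symm ⟨x, φ⟩ =
        (Scheme.SpecToEquivOfField Ω Z).symm ⟨x, φ ≫ CommRingCat.ofHom (algebraMap K Ω)⟩ := by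
    intro x φ
    show Spec.map _ ≫ Spec.map φ ≫ _ = Spec.map (φ ≫ _) ≫ _
    rw [Spec.map_comp, Category.assoc]
  rw [key, key] at h
  have h' := (Scheme.SpecToEquivOfField Ω Z).symm.injective h
  obtain ⟨rfl, h''⟩ := Sigma.mk.inj_iff.1 h'
  congr 2
  refine CommRingCat.hom_ext (RingHom.ext fun a => (algebraMap K Ω).injective ?_)
  exact congrArg (fun ψ : Z.residueField x₁ ⟶ CommRingCat.of Ω => ψ a) (eq_of_heq h'')

lemma exists_factor_ring {k K Ω A : Type u} [Field k] [Field K] [Field Ω] [CommRing A] [Algebra k K]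
    [IsAlgClosed K] [Algebra K Ω] [Algebra k Ω] [IsScalarTower k K Ω] (θ : k →+* A) (hθ : θ.Etale)
    (φ : A →+* Ω) (hφ : φ.comp θ = algebraMap k Ω) :
    ∃ ψ : A →+* K, ψ.comp θ = algebraMap k K ∧ (algebraMap K Ω).comp ψ = φ := by
  let _ := θ.toAlgebra
  have : Algebra.Etale k A := hθ
  have : Module.Finite k A := Algebra.FormallyUnramified.finite_of_free k A
  let φ' : A →ₐ[k] Ω := { φ with commutes' := fun c => RingHom.congr_fun hφ c }
  have hm : ∀ a, φ a ∈ (algebraMap K Ω).range := fun a =>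
    ((Algebra.IsIntegral.isIntegral (R := k) a).map φ').mem_range_algebraMap_of_minpoly_splits
      (IsAlgClosed.splits _)
  let ρ : K →+* (algebraMap K Ω).range := (algebraMap K Ω).rangeRestrict
  have hi : Function.Injective ρ := fun a b h =>
    (algebraMap K Ω).injective (congrArg (fun z : (algebraMap K Ω).range => (z : Ω)) h)
  let e := RingEquiv.ofBijective ρ ⟨hi, RingHom.rangeRestrict_surjective _⟩
  let ψ : A →+* K := e.symm.toRingHom.comp (φ.codRestrict (algebraMap K Ω).range hm)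
  have hψ : (algebraMap K Ω).comp ψ = φ := RingHom.ext fun a =>
    congrArg Subtype.val (e.apply_symm_apply ⟨φ a, hm a⟩)
  refine ⟨ψ, RingHom.ext fun c => (algebraMap K Ω).injective ?_, hψ⟩
  rw [RingHom.comp_apply, ← RingHom.comp_apply, hψ, ← IsScalarTower.algebraMap_apply]
  exact RingHom.congr_fun hφ c

theorem result
    (k K Ω : Type u) [Field k] [Field K] [Field Ω] [Algebra k K] [IsAlgClosed K] [Algebra.IsAlgebraic k K]
    [Algebra K Ω] [Algebra k Ω] [IsScalarTower k K Ω]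
    (Z : Scheme.{u}) (f : Z ⟶ Spec (CommRingCat.of k)) [AlgebraicGeometry.Etale f] :
    (∀ g₁ g₂ : Spec (CommRingCat.of K) ⟶ Z,
        g₁ ≫ f = Spec.map (CommRingCat.ofHom (algebraMap k K)) →
        g₂ ≫ f = Spec.map (CommRingCat.ofHom (algebraMap k K)) →
        Spec.map (CommRingCat.ofHom (algebraMap K Ω)) ≫ g₁ = Spec.map (CommRingCat.ofHom (algebraMap K Ω)) ≫ g₂ →
        g₁ = g₂) ∧
    (∀ h : Spec (CommRingCat.of Ω) ⟶ Z, h ≫ f = Spec.map (CommRingCat.ofHom (algebraMap k Ω)) →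
        ∃ g : Spec (CommRingCat.of K) ⟶ Z, g ≫ f = Spec.map (CommRingCat.ofHom (algebraMap k K)) ∧
          Spec.map (CommRingCat.ofHom (algebraMap K Ω)) ≫ g = h) := by
  refine ⟨fun g₁ g₂ _ _ h => spec_algebraMap_cancel g₁ g₂ h, fun h hh => ?_⟩
  obtain ⟨_, ⟨U, hU, rfl⟩, hz, -⟩ := Z.isBasis_affineOpens.exists_subset_of_mem_open
    (Set.mem_univ (h.base default)) isOpen_univ
  have hr : Set.range h.base ⊆ Set.range (hU.fromSpec).base := by
    rw [IsAffineOpen.range_fromSpec]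
    rintro _ ⟨p, rfl⟩
    rwa [Subsingleton.elim p default]
  obtain ⟨φ, hφ⟩ := Spec.map_surjective (IsOpenImmersion.lift hU.fromSpec h hr)
  obtain ⟨θ, hθ⟩ := Spec.map_surjective (hU.fromSpec ≫ f)
  have hl : Spec.map φ ≫ hU.fromSpec = h := by rw [hφ, IsOpenImmersion.lift_fac]
  have hθe : θ.hom.Etale := by
    refine (HasRingHomProperty.Spec_iff (P := @AlgebraicGeometry.Etale)).1 ?_
    rw [hθ]
    infer_instance
  have hc : φ.hom.comp θ.hom = algebraMap k Ω := by
    have : θ ≫ φ = CommRingCat.ofHom (algebraMap k Ω) := by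
      apply Spec.map_injective
      rw [Spec.map_comp, hθ, ← Category.assoc, hl, hh]
    exact congrArg CommRingCat.Hom.hom this
  obtain ⟨ψ, hψ1, hψ2⟩ := exists_factor_ring (K := K) θ.hom hθe φ.hom hc
  refine ⟨Spec.map (CommRingCat.ofHom ψ) ≫ hU.fromSpec, ?_, ?_⟩
  · rw [Category.assoc, ← hθ, ← Spec.map_comp]
    exact congrArg Spec.map (CommRingCat.hom_ext hψ1)
  · rw [← Category.assoc, ← Spec.map_comp,
      show CommRingCat.ofHom ψ ≫ CommRingCat.ofHom (algebraMap K Ω) = φ from CommRingCat.hom_ext hψ2, hl]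

end Groth.Agent.S15506
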