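import Groth.Statements.S15509
import Groth.Agent.GrpschAbsch.GrpEtaleRel
import Groth.Agent.NeronArea.RegularExtension
import Groth.Agent.AlgSpBasic.EtaleFibres
import Groth.Agent.GrpschAbsch.FibreFlat

set_option autoImplicit false
set_option linter.style.haveILetI false
universe u
open CategoryTheory CategoryTheory.Limits MonoidalCategory CartesianMonoidalCategory MonObj AlgebraicGeometry
open AbSch

namespace Groth.Agent.S15509

/-- Let R be a regular local ring which is a domain and contains the rational numbers, with fraction
field K and residue field k, and let A be an abelian scheme over Spec R of relative dimension g (a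
commutative group scheme which is smooth and proper with geometrically connected fibres of dimension
g). Then for every integer m ≥ 1 the number of K-valued points of A over Spec R killed by m is at
most the number of k-valued points of A over Spec R killed by m: the m-torsion of the rational
points of the generic fibre is no larger than the m-torsion of the rational points of the closed
fibre. (The published statement is for an arbitrary Noetherian regular local ring R inside a paper
whose standing setting is schemes over the complex numbers; this row keeps from that setting only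
that R contains the rationals, which is what the printed argument uses to make the m-torsion
subgroup scheme étale over the base.) -/
theorem result
    (R : Type u) [CommRing R] [IsDomain R] [IsRegularLocalRing R] [Algebra ℚ R]
    (A : Over (Spec (CommRingCat.of R))) [GrpObj A] [IsCommMonObj A] (g : ℕ) (hA : AgPol.IsAbSch A g)
    (m : ℕ) (hm : 1 ≤ m) :
    Nat.card (AbDual.torsPts A m (Over.mk (Spec.map (CommRingCat.ofHom (algebraMap R (FractionRing R)))))) ≤
      Nat.card (AbDual.torsPts A m (Over.mk (Spec.map (CommRingCat.ofHom (IsLocalRing.residue R))))) := by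
  haveI := hA.smooth
  haveI := hA.proper
  haveI := hA.geomConnected
  let B : Scheme.{u} := Spec (CommRingCat.of R)
  let rK := Spec.map (CommRingCat.ofHom (algebraMap R (FractionRing R)))
  let rk := Spec.map (CommRingCat.ofHom (IsLocalRing.residue R))
  let K' : Over B := Over.mk rK
  let k' : Over B := Over.mk rk
  let R' : Over B := Over.mk (𝟙 B)
  let jK : K' ⟶ R' := Over.homMk rK (Category.comp_id _)
  let jk : k' ⟶ R' := Over.homMk rk (Category.comp_id _)
  let f : A ⟶ A := 𝟙 A ^ (m : ℤ)
  have hf : ∀ {T : Over B} (t : T ⟶ A), t ≫ f = t ^ m := fun t => by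
    show t ≫ (𝟙 A ^ (m : ℤ)) = _
    rw [GrpObj.comp_zpow, Category.comp_id, zpow_natCast]
  have hunit : IsUnit ((m : ℤ) : Γ(B, ⊤)) := by
    have h : IsUnit ((m : ℤ) : R) := by
      rw [Int.cast_natCast, ← map_natCast (algebraMap ℚ R)]
      exact (IsUnit.mk0 _ (Nat.cast_ne_zero.mpr (by omega))).map _
    simpa using h.map (Scheme.ΓSpecIso (CommRingCat.of R)).inv.hom
  haveI : GeometricallyReduced A.hom := Groth.GrpschAbsch.FibreFlat.geometricallyReduced_of_smooth A.hom
  haveI : Etale f.left := Groth.GrpschAbsch.etale_zpow_of_abelianScheme A (m : ℤ) hunit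
  haveI : IsDominant rK := by
    refine ⟨?_⟩
    show DenseRange (PrimeSpectrum.comap (algebraMap R (FractionRing R)))
    rw [PrimeSpectrum.denseRange_comap_iff_ker_le_nilRadical,
      (RingHom.injective_iff_ker_eq_bot _).mp (IsFractionRing.injective R (FractionRing R))]
    exact bot_le
  haveI : IsReduced B := inferInstanceAs (IsReduced (Spec (CommRingCat.of R)))
  have hext : ∀ a : K' ⟶ A, ∃ b : R' ⟶ A, jK ≫ b = a := fun a => by
    obtain ⟨y, hy, hy'⟩ := Groth.NeronArea.extends_of_isRegularLocalRing A _ R rfl (𝟙 B) (FractionRing R) a.left
      ((Over.w a).trans (Category.comp_id rK).symm)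
    exact ⟨Over.homMk y hy, Over.OverMorphism.ext hy'⟩
  choose b hb using hext
  have hinj : ∀ y y' : R' ⟶ A, jK ≫ y = jK ≫ y' → y = y' := fun y y' h => by
    haveI : IsReduced R'.left := inferInstanceAs (IsReduced B)
    refine Over.OverMorphism.ext (ext_of_isDominant_of_isSeparated A.hom ?_ rK (congrArg CommaMorphism.left h))
    rw [Over.w y, Over.w y']
  have htor : ∀ a ∈ AbDual.torsPts A m K', (b a) ^ m = 1 := fun a ha => hinj _ _ (by
    rw [MonObj.comp_pow, hb, MonObj.comp_one]
    exact ha)
  haveI : CompactSpace A.left := QuasiCompact.compactSpace_of_compactSpace A.hom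
  haveI : QuasiSeparatedSpace A.left := quasiSeparatedSpace_of_quasiSeparated A.hom
  haveI : Finite (AbDual.torsPts A m k') := by
    let S0 := {l : Spec (CommRingCat.of (IsLocalRing.ResidueField R)) ⟶ A.left | l ≫ f.left = (1 : k' ⟶ A).left}
    have hfin : S0.Finite := Groth.AlgSpBasic.finite_lifts_of_compactSpace f.left _
    haveI := hfin.to_subtype
    refine Finite.of_injective (fun a => (⟨a.1.left, ?_⟩ : S0)) fun a a' h => ?_
    · show a.1.left ≫ f.left = _
      rw [← Over.comp_left, hf]
      exact congrArg CommaMorphism.left a.2
    · exact Subtype.ext (Over.OverMorphism.ext (congrArg Subtype.val h))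
  refine Nat.card_le_card_of_injective
    (fun a : AbDual.torsPts A m K' => (⟨jk ≫ b a.1, ?_⟩ : AbDual.torsPts A m k')) fun a a' h => ?_
  · show (jk ≫ b a.1) ^ m = 1
    rw [← MonObj.comp_pow, htor _ a.2, MonObj.comp_one]
  refine Subtype.ext ?_
  rw [← hb a.1, ← hb a'.1]
  congr 1
  refine Over.OverMorphism.ext ?_
  have hbb : (b a.1).left ≫ f.left = (b a'.1).left ≫ f.left := by
    rw [← Over.comp_left, ← Over.comp_left, hf, hf, htor _ a.2, htor _ a'.2]
  let q : B ⟶ pullback f.left f.left := pullback.lift (b a.1).left (b a'.1).left hbb
  have hk : rk ≫ (b a.1).left = rk ≫ (b a'.1).left := congrArg (fun z => z.1.left) h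
  have hrange : Set.range q ⊆ Set.range (pullback.diagonal f.left) := by
    have hopen : IsOpen (q ⁻¹' Set.range (pullback.diagonal f.left)) :=
      (pullback.diagonal f.left).isOpenEmbedding.isOpen_range.preimage q.continuous
    have hc : IsLocalRing.closedPoint R ∈ q ⁻¹' Set.range (pullback.diagonal f.left) := by
      have hrk : rk (IsLocalRing.closedPoint (IsLocalRing.ResidueField R)) = IsLocalRing.closedPoint R :=
        IsLocalRing.comap_closedPoint (IsLocalRing.residue R)
      have e : rk ≫ q = (rk ≫ (b a.1).left) ≫ pullback.diagonal f.left := by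
        apply pullback.hom_ext
        · rw [Category.assoc, Category.assoc, pullback.diagonal_fst, Category.comp_id]
          exact congrArg (rk ≫ ·) (pullback.lift_fst _ _ _)
        · rw [Category.assoc, Category.assoc, pullback.diagonal_snd, Category.comp_id, hk]
          exact congrArg (rk ≫ ·) (pullback.lift_snd _ _ _)
      exact ⟨(rk ≫ (b a.1).left) (IsLocalRing.closedPoint (IsLocalRing.ResidueField R)),
        by rw [← hrk, ← Scheme.Hom.comp_apply, ← Scheme.Hom.comp_apply, e]⟩
    rintro _ ⟨x, rfl⟩
    exact (IsLocalRing.specializes_closedPoint x).mem_open hopen hc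
  have e := IsOpenImmersion.lift_fac (pullback.diagonal f.left) q hrange
  have h1 := congrArg (· ≫ pullback.fst f.left f.left) e
  have h2 := congrArg (· ≫ pullback.snd f.left f.left) e
  simp only [Category.assoc, pullback.diagonal_fst, pullback.diagonal_snd, q, pullback.lift_fst,
    pullback.lift_snd] at h1 h2
  exact h1.symm.trans h2

end Groth.Agent.S15509
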