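import Groth.Statements.S15510
import Groth.Agent.NeronArea.AbelianRationalMap
import Groth.Agent.AbVarMul.Consequences
import Mathlib.AlgebraicGeometry.FunctionField
import Mathlib.AlgebraicGeometry.SpreadingOut

set_option autoImplicit false
universe u
open CategoryTheory CategoryTheory.Limits MonoidalCategory CartesianMonoidalCategory MonObj AlgebraicGeometry
open AbVar

namespace Groth.Agent.S15510

theorem specMap_comp {A B C : Type u} [CommRing A] [CommRing B] [CommRing C] (f : A →+* B) (g : B →+* C) :
    Spec.map (CommRingCat.ofHom g) ≫ Spec.map (CommRingCat.ofHom f) =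
      Spec.map (CommRingCat.ofHom (g.comp f)) :=
  (Spec.map_comp _ _).symm

/-- Let F be a field and A a principally polarized abelian variety over F: a commutative group scheme
over Spec F, smooth and proper with geometrically connected fibres of dimension g, given together
with a commutative group scheme At, data φ presenting At as the dual of A for the fppf topology, and
a polarization lam : A ⟶ At which is an isomorphism. Let Q = F(t_1, …, t_n) be the field of rational
functions in n variables over F. Then base change from F to Q is a bijection from the F-rational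
points of A onto the Q-valued points of A over Spec F: every Q-point of A comes from exactly one
F-point. -/
theorem result
    (F : Type u) [Field F]
    (A At : Over (Spec (CommRingCat.of F))) [GrpObj A] [IsCommMonObj A] [GrpObj At] [IsCommMonObj At]
    (g : ℕ) (hA : AgPol.IsAbSch A g)
    (φ : AgPol.DualMap A At) (hdual : AbDual.IsDualAV Scheme.fppfPrecoverage A At φ)
    (lam : A ⟶ At) (hpol : AgPol.IsPolarization A At φ lam) (hiso : IsIso lam) (n : ℕ) :
    Function.Bijective (fun x : (Over.mk (𝟙 (Spec (CommRingCat.of F))) ⟶ A) =>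
      (Over.homMk (Spec.map (CommRingCat.ofHom (algebraMap F (FractionRing (MvPolynomial (Fin n) F)))))
          (Category.comp_id _) :
        Over.mk (Spec.map (CommRingCat.ofHom (algebraMap F (FractionRing (MvPolynomial (Fin n) F))))) ⟶
          Over.mk (𝟙 (Spec (CommRingCat.of F)))) ≫ x) := by
  have := hA.smooth
  have := hA.proper
  have := hA.geomConnected
  let R := MvPolynomial (Fin n) F
  let Q := FractionRing R
  let t : Over.mk (Spec.map (CommRingCat.ofHom (algebraMap F Q))) ⟶ Over.mk (𝟙 (Spec (CommRingCat.of F))) :=
    Over.homMk (Spec.map (CommRingCat.ofHom (algebraMap F Q))) (Category.comp_id _)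
  show Function.Bijective fun x => t ≫ x
  constructor
  · have h1 : Flat t.left := inferInstanceAs (Flat (Spec.map (CommRingCat.ofHom (algebraMap F Q))))
    have h2 : Surjective t.left := ⟨fun p => ⟨(Classical.arbitrary (PrimeSpectrum Q) :),
      Subsingleton.elim (α := PrimeSpectrum F) _ _⟩⟩
    have h3 : QuasiCompact t.left := inferInstanceAs (QuasiCompact (Spec.map _))
    have := Groth.AbVarMul.epi_of_flat_surjective t
    exact fun a b h => (cancel_epi t).1 h
  intro y
  let η₀ := genericPoint (Spec (CommRingCat.of R))
  let St : CommRingCat.{u} := (Spec (CommRingCat.of R)).presheaf.stalk η₀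
  letI : Algebra R St := (StructureSheaf.toStalk (CommRingCat.of R) η₀).hom.toAlgebra
  haveI : IsFractionRing R St := functionField_isFractionRing_of_affine (CommRingCat.of R)
  let e : Q ≃ₐ[R] St := IsLocalization.algEquiv (nonZeroDivisors R) _ _
  let φ : Spec St ⟶ A.left := Spec.map (CommRingCat.ofHom (e : Q →+* St)) ≫ y.left
  have hstk : (Spec (CommRingCat.of R)).fromSpecStalk η₀ = Spec.map (CommRingCat.ofHom (algebraMap R St)) :=
    (Spec.fromSpecStalk_eq' _ _).trans rfl
  have hh : φ ≫ A.hom = (Spec (CommRingCat.of R)).fromSpecStalk η₀ ≫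
      Spec.map (CommRingCat.ofHom (MvPolynomial.C : F →+* R)) := by
    rw [hstk]
    refine (Category.assoc _ _ _).trans ((congrArg (_ ≫ ·) (Over.w y)).trans ?_)
    refine (specMap_comp _ _).trans
      (.trans (congrArg (fun g => Spec.map (CommRingCat.ofHom g)) ?_) (specMap_comp _ _).symm)
    refine RingHom.ext fun a => ?_
    rw [RingHom.comp_apply, RingHom.comp_apply, IsScalarTower.algebraMap_apply F R Q, MvPolynomial.algebraMap_eq]
    exact e.commutes _
  obtain ⟨U, hU, f, hf, hfA⟩ := spread_out_of_isGermInjective' (X := Spec (CommRingCat.of R))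
    (sX := Spec.map (CommRingCat.ofHom (MvPolynomial.C : F →+* R))) (sY := A.hom) φ hh
  obtain ⟨p, hp, hpf⟩ := Groth.NeronArea.exists_constant A (n := n) (𝟙 _) U ⟨_, hU⟩ f 
    (hfA.trans (congrArg (U.ι ≫ ·) (Category.comp_id _).symm))
  refine ⟨Over.homMk p hp, ?_⟩
  ext1
  show Spec.map (CommRingCat.ofHom (algebraMap F Q)) ≫ p = y.left
  have hy : y.left = Spec.map (CommRingCat.ofHom (e.symm : St →+* Q)) ≫ φ := by
    refine (((Category.assoc _ _ _).symm.trans (congrArg (· ≫ y.left) ((specMap_comp _ _).trans ?_))).trans
      (Category.id_comp _)).symm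
    rw [show ((e.symm : St →+* Q).comp (e : Q →+* St)) = RingHom.id Q from RingHom.ext e.symm_apply_apply]
    exact Spec.map_id _
  rw [hy, hf, hpf]
  refine Eq.symm ((congrArg (_ ≫ ·) ((Scheme.Opens.fromSpecStalkOfMem_ι_assoc _ _ hU _).trans
    (congrArg (· ≫ _) hstk))).trans ?_)
  refine (congrArg (_ ≫ ·) (Category.assoc _ _ _).symm).trans ?_
  refine (congrArg (_ ≫ ·) (congrArg (· ≫ p) (specMap_comp _ _))).trans ?_
  refine (Category.assoc _ _ _).symm.trans (congrArg (· ≫ p) ((specMap_comp _ _).trans ?_))
  refine congrArg (fun g => Spec.map (CommRingCat.ofHom g)) (RingHom.ext fun a => ?_)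
  rw [RingHom.comp_apply, RingHom.comp_apply, IsScalarTower.algebraMap_apply F R Q, MvPolynomial.algebraMap_eq]
  exact e.symm.commutes _

end Groth.Agent.S15510
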