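import Groth.Statements.S15511
import Groth.Agent.Abvar.Dual.LamSymm
import Groth.Agent.Abvar.Dual.TransposePoincare

set_option autoImplicit false
universe u
open CategoryTheory CategoryTheory.Limits MonoidalCategory CartesianMonoidalCategory MonObj AlgebraicGeometry
open AbSch

namespace Groth.Agent.S15511

/-- Let S be a connected locally Noetherian scheme, A an abelian scheme over S (a commutative group
scheme which is smooth and proper with geometrically connected fibres of dimension g) given with a
commutative group scheme At and data φ presenting At as the dual of A for the fppf topology, L an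
invertible module on A, and lam : A ⟶ At the homomorphism attached to L through φ (the morphism
sending a point x to the class of the translate of L by x tensor the inverse of L). If for some
closed point s of S the base change of lam to the fibre over s is the trivial homomorphism (the
class of L restricted to the fibre A_s has vanishing attached homomorphism, i.e. is zero in the
Néron–Severi group), then lam itself is the trivial homomorphism, the structure morphism of A
followed by the unit section of At. (The published statement does not ask S to be connected; over a
base with two connected components, L trivial over one component and relatively ample over the other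
gives an attached homomorphism vanishing on a closed fibre without vanishing identically, and the
printed proof rests on the rigidity lemma, which needs a connected base. The base is also taken
locally Noetherian, the published setting being schemes locally of finite type over ℂ.) -/
theorem result
    (S : Scheme.{u}) [IsLocallyNoetherian S] [ConnectedSpace S]
    (A At : Over S) [GrpObj A] [IsCommMonObj A] [GrpObj At] [IsCommMonObj At]
    (g : ℕ) (hA : AgPol.IsAbSch A g)
    (φ : AgPol.DualMap A At) (hdual : AbDual.IsDualAV Scheme.fppfPrecoverage A At φ)
    (L : A.left.Modules) (hL : PicF.IsInvertible L) (lam : A ⟶ At) (hlam : AgPol.IsLambda A At φ L lam)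
    (s : S) (hs : IsClosed ({s} : Set S))
    (h : (Over.pullback (S.fromSpecResidueField s)).map lam = 1) :
    lam = 1 := by
  open Groth.Abvar.PicCalc Groth.Abvar.Dual Groth.Abvar.Seesaw in
  exact by
    have := hA.smooth
    have := hA.proper
    have := hA.geomConnected
    have := geometricallyIntegral_of_smooth A
    obtain ⟨N, hN, hNL, rfl⟩ := hlam
    let l := cls hL
    let D : PicLoc.PicSet (A ⊗ A).left := dfct l (fst A A) (snd A A)
    let d : PicLoc.PicSet A.left := opull (1 : A ⟶ A) l
    have hμ : μ[A] = fst A A * snd A A := by rw [Hom.mul_def, lift_fst_snd, Category.id_comp]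
    have hD : D = HMul.hMul (α := PicLoc.PicSet (A ⊗ A).left) (cls hN) (opull (snd A A) d) := by
      rw [(LamSymm.isLambdaSheaf_iff hL hN).1 hNL, LamSymm.lamCls, hμ, ← opull_comp, MonObj.comp_one]
      show opull (fst A A * snd A A) l * opull (1 : A ⊗ A ⟶ A) l / _ = _
      rw [div_eq_mul_inv, mul_right_comm]
    have hP : P0 A A D := Axis.p0_of_axis η[A] (dfct_univ_slices l).1
    have hphi : φ A (PicF.cl N) = φ A D.1 := by
      have e : (cls hN : PicLoc.PicSet (A ⊗ A).left) = D * opull (snd A A) d⁻¹ := by
        rw [hD, map_inv, mul_inv_cancel_right]
      exact (congrArg (fun c : PicLoc.PicSet (A ⊗ A).left => φ A c.1) e).trans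
        (TransposePoincare.phi_mul_base hdual hP d⁻¹)
    rw [hphi] at h ⊢
    obtain ⟨M, hM, eM⟩ := PicGrp.exists_eq_cls D
    have hX : Nonempty ((Scheme.Modules.pullback (lift (𝟙 A) (toUnit A ≫ η[A])).left).obj M ≅
        Coh.structureModule A.left) := by
      rw [nonempty_iso_structure_iff (PicLoc.isInvertible_pullback _ hM), ← pull_cls _ hM,
        show cls hM = D from eM.symm]
      exact (dfct_univ_slices l).1
    have hY : Nonempty ((Scheme.Modules.pullback (lift (toUnit A ≫ η[A]) (𝟙 A)).left).obj M ≅
        Coh.structureModule A.left) := by
      rw [nonempty_iso_structure_iff (PicLoc.isInvertible_pullback _ hM), ← pull_cls _ hM,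
        show cls hM = D from eM.symm]
      exact (dfct_univ_slices l).2
    have hfib : FibTriv (A ⊗ A).hom M s := by
      rw [fibTriv_iff _ hM, show cls hM = D from eM.symm]
      let r := S.fromSpecResidueField s
      let T : Over S := Over.mk (pullback.snd A.hom r ≫ r)
      let p : T ⟶ A := Over.homMk (pullback.fst A.hom r) pullback.condition
      have hp : p ≫ φ A D.1 = 1 := by
        apply Over.OverMorphism.ext
        have e := congrArg (fun f : Red.bc r A ⟶ Red.bc r At => f.left ≫ pullback.fst At.hom r) h
        refine Eq.trans ?_ (e.trans ?_)
        · exact (pullback.lift_fst _ _ _).symm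
        · show _ = (toUnit T ≫ η[At]).left
          rw [Over.comp_left, Over.toUnit_left]
          show (toUnit (Red.bc r A) ≫ η[Red.bc r At]).left ≫ _ = (pullback.snd A.hom r ≫ r) ≫ η[At].left
          rw [Over.comp_left, Over.toUnit_left, Category.assoc, Category.assoc]
          refine congrArg (pullback.snd A.hom r ≫ ·) ?_
          simp [Functor.obj.η_def]
          erw [pullback.lift_fst]
          refine Eq.trans ?_ (Category.assoc _ _ _)
          exact congrArg (· ≫ η[At].left)
            ((Category.comp_id _).symm.trans (pullback.condition (f := 𝟙 S) (g := r)))
      have hr : pull (PicF.secT A.hom η[A].left (Over.w η[A]) A) D = 1 :=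
        (congrArg (pull · D) LamSymm.secT_eq).trans (by rw [Hom.one_def]; exact (dfct_univ_slices l).2)
      have hc : pull (PicF.XTmap A.hom p) D = 1 := by
        refine EqOfPhi.eq_of_phi_eq hdual (P0.bc p hP) p0_one ?_ (map_one _) ?_
        · rw [← pull_comp, secT_XTmap, pull_comp, hr, map_one]
        · rw [phi_natural hdual p hP, hp, phi_one hdual]
      let F := pullback.fst (A ⊗ A).hom r
      let G : pullback (A ⊗ A).hom r ⟶ PicF.XT A.hom T :=
        pullback.lift (F ≫ (fst A A).left) (pullback.lift (F ≫ (snd A A).left) (pullback.snd _ _)
          (by rw [Category.assoc, Over.w (snd A A)]; exact pullback.condition)) (by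
          show _ = _ ≫ pullback.snd A.hom r ≫ r
          rw [pullback.lift_snd_assoc, Category.assoc, Over.w (fst A A)]
          exact pullback.condition)
      have hG : G ≫ PicF.XTmap A.hom p = F := by
        apply pullback.hom_ext
        · erw [Category.assoc, pullback.lift_fst, Category.comp_id, pullback.lift_fst]
          rfl
        · erw [Category.assoc, pullback.lift_snd, pullback.lift_snd_assoc, pullback.lift_fst]
          rfl
      exact (congrArg (pull · D) hG).symm.trans ((pull_comp _ _ _).trans ((congrArg (pull G) hc).trans (map_one _)))
    have huniv := (Groth.Abvar.Cube.isClopen_fibTriv η[A] η[A] hM hX hY).eq_univ ⟨s, hfib⟩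
    have hone : D = 1 := by
      have := Groth.Abvar.Cube.trivial_of_fibres η[A] η[A] hM hX hY fun y => (huniv.ge (Set.mem_univ y) : _)
      rw [nonempty_iso_structure_iff hM, show cls hM = D from eM.symm] at this
      exact this
    rw [hone]
    exact phi_one hdual

end Groth.Agent.S15511
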