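import Groth.Statements.S15512
import Groth.Agent.KoszulLCI.RegularTorDim

set_option autoImplicit false
universe u
open CategoryTheory
open CAlg

namespace Groth.Agent.S15512

open Groth.Ega4Algebra1

private lemma step {A : Type u} [CommRing A] [IsNoetherianRing A] :
    ∀ (k : ℕ) (M : Type u) [AddCommGroup M] [Module A M] [Module.Finite A M],
      PdLT A M (k + 2) → Subsingleton (Abelian.Ext (ModuleCat.of A M) (ModuleCat.of A A) (k + 1)) →
      PdLT A M (k + 1) := by
  intro k
  induction k with
  | zero =>
    intro M _ _ _ hpd hext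
    obtain ⟨r, f, hf⟩ := exists_surjective_fin A M
    have hK : Module.Projective A (LinearMap.ker f) := PdLT.one_iff.1 ((PdLT.ker_iff f hf 0).1 hpd)
    have hS := LinearMap.shortExact_shortComplexKer hf
    have hextend : ∀ φ : LinearMap.ker f →ₗ[A] A, ∃ ψ : (Fin r → A) →ₗ[A] A,
        ψ ∘ₗ (LinearMap.ker f).subtype = φ := by
      intro φ
      obtain ⟨x, hx⟩ := Abelian.Ext.contravariant_sequence_exact₁ hS (Y := ModuleCat.of A A)
        (Abelian.Ext.mk₀ (ModuleCat.ofHom φ)) (n₁ := 1) rfl (Subsingleton.elim (h := hext) _ _)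
      obtain ⟨ψ, rfl⟩ := (Abelian.Ext.mk₀_bijective _ _).2 x
      rw [Abelian.Ext.mk₀_comp_mk₀] at hx
      exact ⟨ψ.hom, congrArg ModuleCat.Hom.hom ((Abelian.Ext.mk₀_bijective _ _).1 hx)⟩
    obtain ⟨t, π, hπ⟩ := Module.Finite.exists_fin' A (LinearMap.ker f)
    obtain ⟨σ, hσ⟩ := Module.projective_lifting_property π LinearMap.id hπ
    choose ψ hψ using fun j : Fin t => hextend (LinearMap.proj j ∘ₗ σ)
    let ρ : (Fin r → A) →ₗ[A] LinearMap.ker f := π ∘ₗ LinearMap.pi ψ
    have hρ : ρ ∘ₗ (LinearMap.ker f).subtype = LinearMap.id := by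
      refine LinearMap.ext fun x => Eq.trans ?_ (LinearMap.congr_fun hσ x)
      exact congrArg π (funext fun j => LinearMap.congr_fun (hψ j) x)
    obtain ⟨τ, hτ⟩ : ∃ τ : M →ₗ[A] (Fin r → A), f ∘ₗ τ = LinearMap.id := by
      have hle : LinearMap.ker f ≤ LinearMap.ker (LinearMap.id - (LinearMap.ker f).subtype ∘ₗ ρ) := fun x hx => by
        have hx' : ρ x = ⟨x, hx⟩ := LinearMap.congr_fun hρ ⟨x, hx⟩
        simp [hx']
      refine ⟨(Submodule.liftQ _ _ hle) ∘ₗ (f.quotKerEquivOfSurjective hf).symm.toLinearMap, ?_⟩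
      refine LinearMap.ext fun m => ?_
      obtain ⟨x, rfl⟩ := hf m
      have : (f.quotKerEquivOfSurjective hf).symm (f x) = Submodule.Quotient.mk x :=
        (f.quotKerEquivOfSurjective hf).injective (by simp)
      simp [this]
    exact PdLT.one_iff.2 (Module.Projective.of_split τ f hτ)
  | succ k ih =>
    intro M _ _ _ hpd hext
    obtain ⟨r, f, hf⟩ := exists_surjective_fin A M
    have hS := LinearMap.shortExact_shortComplexKer hf
    refine (PdLT.ker_iff f hf k).2 (ih _ ((PdLT.ker_iff f hf (k + 1)).1 hpd) ?_)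
    refine subsingleton_of_forall_eq 0 fun x => ?_
    obtain ⟨y, hy⟩ := Abelian.Ext.contravariant_sequence_exact₁ hS (Y := ModuleCat.of A A) x
      (n₁ := k + 2) (by omega) (Subsingleton.elim (h := hext) _ _)
    haveI : Projective (ModuleCat.of A (Fin r → A)) :=
      (IsProjective.iff_projective _).1 inferInstance
    rw [← hy, Abelian.Ext.eq_zero_of_projective (P := ModuleCat.of A (Fin r → A)) y, Abelian.Ext.comp_zero]


/-- Let A be a Noetherian ring which is regular (its localization at every maximal ideal is a regular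
local ring) and of finite Krull dimension, M a finitely generated A-module and d a natural number.
If Ext^i_A(M, A) vanishes for every i > d, then the projective dimension of M is at most d. -/
theorem result (A : Type u) [CommRing A]
    [IsNoetherianRing A] (hreg : ∀ m : MaximalSpectrum A, IsRegularLocalRing (Localization.AtPrime m.asIdeal))
    (hdim : ringKrullDim A < ⊤) (M : Type u) [AddCommGroup M] [Module A M] [Module.Finite A M] (d : ℕ)
    (h : ∀ i : ℕ, d < i → Subsingleton (Abelian.Ext (ModuleCat.of A M) (ModuleCat.of A A) i)) :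
    HasProjectiveDimensionLT (ModuleCat.of A M) (d + 1) := by
  obtain ⟨D, hD⟩ : ∃ D : ℕ, ringKrullDim A ≤ D := by
    induction h' : ringKrullDim A with
    | bot => exact ⟨0, bot_le⟩
    | coe x =>
      induction x with
      | top => rw [h'] at hdim; exact absurd hdim (lt_irrefl _)
      | coe k => exact ⟨k, le_rfl⟩
  have hfin : PdLT A M (d + D + 1) := PdLT.mono (by omega) (KoszulLCI.pdLT_of_localization_maximal D M fun m hm => by
    haveI := hreg ⟨m, hm⟩
    refine PdLT.mono ?_ (pdLT_of_isRegularLocalRing (Localization.AtPrime m) _ rfl _)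
    have h1 := IsRegularLocalRing.spanFinrank_maximalIdeal (R := Localization.AtPrime m)
    have h2 : ringKrullDim (Localization.AtPrime m) ≤ ringKrullDim A := by
      rw [IsLocalization.AtPrime.ringKrullDim_eq_height m]
      exact Ideal.height_le_ringKrullDim_of_ne_top hm.ne_top
    have h3 := h1 ▸ h2.trans hD
    exact Nat.add_le_add_right (by exact_mod_cast h3) 1)
  suffices ∀ j : ℕ, PdLT A M (d + j + 1) → PdLT A M (d + 1) from this D hfin
  intro j
  induction j with
  | zero => exact id
  | succ j ih => exact fun hj => ih (step (d + j) M hj (h _ (by omega)))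

end Groth.Agent.S15512
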