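import Groth.Statements.S15513
import Groth.Agent.Duality.DepthVanish
import Groth.Agent.Duality.PnStalk

set_option autoImplicit false
universe u
open CategoryTheory CategoryTheory.Limits AlgebraicGeometry
open ProjDual

namespace Groth.Agent.S15513

/-- Let k be a field, P = P^N_k, ι : X → P a closed immersion, r a natural number with dim X + r ≤ N (X
has codimension at least r), and E a finite locally free O_P-module. Then for every i < r the Ext
sheaf Ext^i_{O_P}(ι_* O_X, E) — the i-th right derived functor of the internal Hom functor Hom(ι_*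
O_X, -) on O_P-modules (its existence and that of injective resolutions are the stated instance
hypotheses, both true), evaluated at E — is zero. (The published statement takes N ≥ 1 and r = N -
dim X; the case N = 0 and smaller r are trivially included.) -/
theorem result (k : Type u) [Field k] (N : ℕ)
    {X : Scheme.{u}} (ι : X ⟶ CohB1.ProjSpace N k) [IsClosedImmersion ι] (r : ℕ)
    (hr : topologicalKrullDim ↥X + (r : WithBot ℕ∞) ≤ (N : WithBot ℕ∞))
    (E : (CohB1.ProjSpace N k).Modules) (hE : FlatMod.IsFinLocFree E)
    [ModSite.HasSheafHom (O := (CohB1.ProjSpace N k).sheaf) ((Scheme.Modules.pushforward ι).obj (Coh.structureModule X))]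
    [HasInjectiveResolutions (ModSite.Mod (CohB1.ProjSpace N k).sheaf)] (i : ℕ) (hi : i < r) :
    IsZero ((ModSite.extSh (O := (CohB1.ProjSpace N k).sheaf)
      ((Scheme.Modules.pushforward ι).obj (Coh.structureModule X)) i).obj E) := by
  open Groth in
  have := PnCoh.isLocallyNoetherian_projSpace N k
  open Groth in
  have := Duality.Pn.irreducibleSpace_projSpace N k
  open Groth in
  have hP : ∀ Z : Set ↥(CohB1.ProjSpace N k), Z ∈ irreducibleComponents ↥(CohB1.ProjSpace N k) →
      topologicalKrullDim ↥Z = (N : WithBot ℕ∞) := fun Z hZ => by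
    rw [irreducibleComponents_eq_singleton, Set.mem_singleton_iff] at hZ
    subst hZ
    rw [(Homeomorph.Set.univ ↥(CohB1.ProjSpace N k)).isHomeomorph.topologicalKrullDim_eq,
      Variety2.PSpace.dim_projSpace]
  rcases isEmpty_or_nonempty ↥X with he | hne
  · haveI : IsLocallyNoetherian X := LocallyOfFiniteType.isLocallyNoetherian ι
    exact Groth.CohTwo.ExtShDepth.isZero_extSh_of_depth _ E
      (Groth.CohTwo.isCoh_push ι (Groth.KTheory.LocFree.isCoh (Groth.LocFree.isFinLocFree_unit X)))
      (Groth.KTheory.LocFree.isCoh hE) r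
      (fun x hx => (IsEmpty.false (Groth.CohTwo.support_push_subset ι _ hx).choose).elim) i hi
  obtain ⟨d, hd, hdr⟩ : ∃ d : ℕ, topologicalKrullDim ↥X ≤ (d : WithBot ℕ∞) ∧ d + r ≤ N := by
    obtain ⟨x⟩ := hne
    have : Nonempty (TopologicalSpace.IrreducibleCloseds ↥X) :=
      ⟨⟨closure {x}, isIrreducible_singleton.closure, isClosed_closure⟩⟩
    have h0 : (0 : WithBot ℕ∞) ≤ topologicalKrullDim ↥X := Order.krullDim_nonneg
    revert hr h0
    generalize topologicalKrullDim ↥X = a
    rcases a with _ | a
    · intro _ h0; exact absurd h0 (not_le.2 (WithBot.bot_lt_coe _))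
    · intro hr _
      have h' : a + (r : ℕ∞) ≤ (N : ℕ∞) := WithBot.coe_le_coe.1 hr
      induction a using ENat.recTopCoe with
      | top => simp at h'
      | coe a => exact ⟨a, le_rfl, by exact_mod_cast h'⟩
  exact Groth.Duality.DepthVanish.isZero_extSh_push (CohB1.ProjSpace.toSpec N k) ι
    (Groth.Duality.Pn.isRegularLocalRing_stalk N k) hP hd hdr hE i hi

end Groth.Agent.S15513
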