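import Groth.Statements.S1552
import Groth.Agent.VarietyBC.PicGlue
import Mathlib.AlgebraicGeometry.Morphisms.QuasiFinite

set_option autoImplicit false
universe u
open CategoryTheory CategoryTheory.Limits AlgebraicGeometry
open Variety

open TopologicalSpace Groth.PicAux Groth.VarietyBC

namespace Groth.Agent.S1552

/-- Let f : X → Y be finite, and V ⊆ Y an open over which f is an isomorphism, with Y minus V a discrete
space. Then every invertible O_X-module is isomorphic to the pullback of an invertible O_Y-module. -/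
theorem result {X Y : Scheme.{u}} (f : X ⟶ Y) [IsFinite f]
    (V : Y.Opens) (hV : IsIso (f ∣_ V)) (hdisc : DiscreteTopology ((V : Set Y)ᶜ : Set Y))
    (L : X.Modules) (hL : PicF.IsInvertible L) :
    ∃ N : Y.Modules, PicF.IsInvertible N ∧ Nonempty ((Scheme.Modules.pullback f).obj N ≅ L) := by
  classical
  have hiso : ∀ y : Y, ∃ B : Y.Opens, y ∈ B ∧ ∀ z ∈ B, z ∉ V → z = y := by
    intro y
    by_cases hy : y ∈ V
    · exact ⟨V, hy, fun z hz hz' => absurd hz hz'⟩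
    · obtain ⟨U, hU, hUeq⟩ := isOpen_induced_iff.1
        (isOpen_discrete ({⟨y, hy⟩} : Set ((V : Set Y)ᶜ : Set Y)))
      refine ⟨⟨U, hU⟩, Set.ext_iff.1 hUeq ⟨y, hy⟩ |>.2 rfl, fun z hz hzV => ?_⟩
      exact congrArg Subtype.val ((Set.ext_iff.1 hUeq ⟨z, hzV⟩).1 hz)
  have hgen : ∀ y : Y, ∃ (W : Y.Opens) (e : Γ(L, f ⁻¹ᵁ W)), y ∈ W ∧
      Gen L (f ⁻¹ᵁ W) e ∧ ∀ z ∈ W, z ∉ V → z = y := by
    intro y
    obtain ⟨B, hyB, hB⟩ := hiso y
    obtain ⟨A, hA, hyA, -⟩ := exists_isAffineOpen_mem_and_subset (x := y) (U := B) hyB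
    have hd : _root_.IsDiscrete (f ⁻¹' {y}) := f.isDiscrete_preimage_singleton y
    obtain ⟨O, e, hTO, -, he⟩ := PicGlue.exists_gen_finite hL (hA.preimage f) (f ⁻¹' {y})
      (f.finite_preimage_singleton y) (fun x hx => show f x ∈ A from (Set.mem_singleton_iff.1 hx).symm ▸ hyA)
      (fun s hs t ht hst => by
        haveI := hd.to_subtype
        have h1 : (⟨s, hs⟩ : f ⁻¹' {y}) ⤳ ⟨t, ht⟩ :=
          (Topology.IsInducing.subtypeVal.specializes_iff).1 hst
        exact congrArg Subtype.val h1.eq)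
    let W : Y.Opens := ⟨(f '' (O : Set X)ᶜ)ᶜ, (f.isClosedMap _ O.isOpen.isClosed_compl).isOpen_compl⟩
    have hyW : y ∈ W := fun ⟨x, hx, hxy⟩ => hx (hTO hxy)
    have hle : f ⁻¹ᵁ (W ⊓ B) ≤ O := fun x hx => not_not.1 fun hxO => hx.1 ⟨x, hxO, rfl⟩
    exact ⟨W ⊓ B, res L hle e, ⟨hyW, hyB⟩, he.res hle, fun z hz => hB z hz.2⟩
  choose W e hyW he hW using hgen
  have hWV : ∀ a b, a ≠ b → W a ⊓ W b ≤ V := fun a b hab z hz => not_not.1 fun hzV =>
    hab ((hW a z hz.1 hzV).symm.trans (hW b z hz.2 hzV))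
  obtain ⟨N, hN, hiso'⟩ := PicGlue.exists_glue_bijective W (fun _ : PUnit.{1} => f) (fun _ => L)
    (fun a _ => e a) (fun a _ => he a) (top_le_iff.1 fun y _ => Opens.mem_iSup.2 ⟨y, hyW y⟩)
    fun a b hab U hU => by
      have hb := PicGlue.bijective_app_of_isIso_restrict f V U (hU.trans (hWV a b hab))
      exact ⟨fun r r' h => hb.1 (congrFun h PUnit.unit),
        fun c => ⟨(hb.2 (c PUnit.unit)).choose, funext fun _ => (hb.2 (c PUnit.unit)).choose_spec⟩⟩
  exact ⟨N, hN, hiso' PUnit.unit⟩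

end Groth.Agent.S1552
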