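import Groth.Statements.S15524
import Groth.Agent.FunFld1.Zeta.RH

set_option autoImplicit false
set_option linter.style.haveILetI false
open Finset
open Zeta

namespace Groth.Agent.S15524

/-- Let q ≥ 1 and let α_1, …, α_{2g} be complex numbers permuted by α ↦ q/α, i.e. α_{σ(i)} α_i = q for a
permutation σ of the indices; these play the role of the inverse roots of the numerator of the zeta
function of a curve over a field with q elements, for which #X(F_{q^N}) = q^N + 1 − Σ_i α_i^N. If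
for some d ≥ 1 and real C one has |Σ_i α_i^{dN}| ≤ C q^{dN/2} for every N ≥ 1, then |α_i|^2 = q for
every i (the Riemann hypothesis for the curve). -/
theorem result {g : ℕ} (q : ℕ) (hq : 0 < q)
    (α : Fin (2 * g) → ℂ) (σ : Equiv.Perm (Fin (2 * g))) (hσ : ∀ i, α (σ i) * α i = q)
    (d : ℕ) (hd : 0 < d) (C : ℝ)
    (hC : ∀ N : ℕ, 1 ≤ N → ‖∑ i, α i ^ (d * N)‖ ≤ C * (q : ℝ) ^ ((d : ℝ) * N / 2))
    (i : Fin (2 * g)) : ‖α i‖ ^ 2 = q := by
  have hq0 : (0 : ℝ) < q := Nat.cast_pos.2 hq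
  set s : ℝ := (q : ℝ) ^ ((d : ℝ) / 2) with hs
  have hs0 : 0 < s := Real.rpow_pos_of_pos hq0 _
  have hle : ∀ j, ‖α j‖ ^ 2 ≤ q := by
    intro j
    have h1 : ‖α j ^ d / (s : ℂ)‖ ≤ 1 := by
      refine Groth.FunFld1.norm_le_one_of_bounded_powerSums (fun j => α j ^ d / (s : ℂ)) C 1 (fun N hN => ?_) j
      have e : ∑ j, (α j ^ d / (s : ℂ)) ^ N = (∑ j, α j ^ (d * N)) / (s : ℂ) ^ N := by
        rw [Finset.sum_div]
        exact Finset.sum_congr rfl fun j _ => by rw [div_pow, pow_mul]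
      rw [e, norm_div, norm_pow, Complex.norm_real, Real.norm_of_nonneg hs0.le, div_le_iff₀ (by positivity),
        hs, ← Real.rpow_natCast ((q : ℝ) ^ ((d : ℝ) / 2)) N, ← Real.rpow_mul hq0.le, div_mul_eq_mul_div]
      exact hC N hN
    rw [norm_div, norm_pow, Complex.norm_real, Real.norm_of_nonneg hs0.le, div_le_one hs0] at h1
    have h2 : (‖α j‖ ^ 2) ^ d ≤ (q : ℝ) ^ d := by
      rw [← pow_mul, mul_comm, pow_mul]
      calc (‖α j‖ ^ d) ^ 2 ≤ s ^ 2 := by gcongr
        _ = _ := by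
          rw [hs, ← Real.rpow_natCast ((q : ℝ) ^ ((d : ℝ) / 2)) 2, ← Real.rpow_mul hq0.le,
            ← Real.rpow_natCast]
          congr 1
          push_cast
          ring
    exact (pow_le_pow_iff_left₀ (sq_nonneg _) hq0.le hd.ne').1 h2
  have hmul : ‖α (σ i)‖ ^ 2 * ‖α i‖ ^ 2 = (q : ℝ) * q := by
    rw [← mul_pow, ← norm_mul, hσ, Complex.norm_natCast]
    ring
  refine le_antisymm (hle i) ?_
  by_contra hlt
  push Not at hlt
  nlinarith [hle (σ i), mul_le_mul_of_nonneg_right (hle (σ i)) (sq_nonneg ‖α i‖),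
    mul_lt_mul_of_pos_left hlt hq0]

end Groth.Agent.S15524
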