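import Groth.Statements.S15525
import Mathlib.LinearAlgebra.Matrix.Charpoly.Eigs
import Mathlib.LinearAlgebra.Matrix.Charpoly.Coeff
import Mathlib.Analysis.Complex.Polynomial.Basic

set_option autoImplicit false
set_option linter.style.haveILetI false
universe u
open Zeta

namespace Groth.Agent.S15525

/-- Let L be a field with a ring embedding ι into ℂ and M an r × r matrix over L all of whose
eigenvalues, the complex roots of its characteristic polynomial mapped along ι, have absolute value
1. Then every coefficient of the characteristic polynomial of the block-diagonal matrix with blocks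
M and the inverse transpose of M is mapped by ι into ℝ. This is the pointwise content of the
assertion that for a lisse sheaf F pure of weight 0 the sum of F and its dual is real, the Frobenius
of the dual acting by the inverse transpose. -/
theorem result (L : Type u) [Field L] (ι : L →+* ℂ)
    {r : ℕ} (M : Matrix (Fin r) (Fin r) L)
    (hM : ∀ z ∈ ((Matrix.charpoly M).map ι).roots, ‖z‖ = 1) (n : ℕ) :
    (ι ((Matrix.fromBlocks M 0 0 (M⁻¹).transpose).charpoly.coeff n)).im = 0 := by
  set A : Matrix (Fin r) (Fin r) ℂ := M.map ι with hA
  have hAp : A.charpoly = M.charpoly.map ι := Matrix.charpoly_map M ι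
  set s := A.charpoly.roots with hs
  have hsplit : A.charpoly.Splits := IsAlgClosed.splits _
  have hs1 : ∀ z ∈ s, ‖z‖ = 1 := fun z hz => hM z (by rwa [← hAp])
  have hs0 : ∀ z ∈ s, z ≠ 0 := fun z hz h0 => by simpa [h0] using hs1 z hz
  have hprod : A.charpoly = (s.map fun z => Polynomial.X - Polynomial.C z).prod :=
    hsplit.eq_prod_roots_of_monic A.charpoly_monic
  have hcard : s.card = r := by
    rw [hs, ← hsplit.natDegree_eq_card_roots, Matrix.charpoly_natDegree_eq_dim, Fintype.card_fin]
  have hdet : A.det = s.prod := Matrix.det_eq_prod_roots_charpoly A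
  have hrev : A.charpolyRev = (s.map fun z => 1 - Polynomial.C z * Polynomial.X).prod := by
    rw [← Matrix.reverse_charpoly, hprod]
    have : ∀ t : Multiset ℂ, ((t.map fun z => Polynomial.X - Polynomial.C z).prod).reverse =
        (t.map fun z => 1 - Polynomial.C z * Polynomial.X).prod := by
      intro t
      induction t using Multiset.induction with
      | empty => simp only [Multiset.map_zero, Multiset.prod_zero]; rw [← Polynomial.C_1, Polynomial.reverse_C]
      | cons z t ih =>
        rw [Multiset.map_cons, Multiset.prod_cons, Multiset.map_cons, Multiset.prod_cons,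
          Polynomial.reverse_mul_of_domain, ih]
        congr 1
        rw [Polynomial.reverse, Polynomial.natDegree_X_sub_C, Polynomial.reflect_sub, Polynomial.reflect_C]
        simp [Polynomial.reflect_one_X]
    exact this s
  have hconj : ∀ t : Multiset ℂ, (∀ z ∈ t, ‖z‖ = 1) →
      (-1) ^ t.card * Polynomial.C t.prod⁻¹ * (t.map fun z => 1 - Polynomial.C z * Polynomial.X).prod =
        ((t.map fun z => Polynomial.X - Polynomial.C z).prod).map (starRingEnd ℂ) := by
    intro t ht
    induction t using Multiset.induction with
    | empty => simp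
    | cons z t ih =>
      have hz : ‖z‖ = 1 := ht z (Multiset.mem_cons_self z t)
      have hz0 : z ≠ 0 := fun h0 => by simp [h0] at hz
      have hzi : z⁻¹ = starRingEnd ℂ z := by
        rw [Complex.inv_def, Complex.normSq_eq_norm_sq, hz]
        simp
      simp only [Multiset.map_cons, Multiset.prod_cons, Multiset.card_cons, Polynomial.map_mul,
        Polynomial.map_sub, Polynomial.map_X, Polynomial.map_C,
        ← ih fun w hw => ht w (Multiset.mem_cons_of_mem hw)]
      rw [mul_inv, map_mul, pow_succ, ← hzi]
      have hcz : Polynomial.C z⁻¹ * Polynomial.C z = 1 := by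
        rw [← map_mul, inv_mul_cancel₀ hz0, map_one]
      linear_combination ((-1 : Polynomial ℂ) ^ t.card * Polynomial.C t.prod⁻¹ *
        (t.map fun z => 1 - Polynomial.C z * Polynomial.X).prod * Polynomial.X) * hcz
  have hdu : IsUnit A.det := by
    rw [hdet, isUnit_iff_ne_zero]
    exact fun h0 => hs0 0 (Multiset.prod_eq_zero_iff.1 h0) rfl
  have hinv : A⁻¹.charpoly = A.charpoly.map (starRingEnd ℂ) := by
    rw [Matrix.charpoly_inv _ (A.isUnit_iff_isUnit_det.2 hdu), hrev, hdet, Ring.inverse_eq_inv', Fintype.card_fin, hprod]
    have h := hconj s hs1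
    rw [hcard] at h
    exact h
  have hMinv : (M⁻¹).map ι = A⁻¹ := by
    have hMd : IsUnit M.det := by
      rw [isUnit_iff_ne_zero]
      intro h0
      apply hdu.ne_zero
      rw [hA, show M.map ι = ι.mapMatrix M from rfl, ← RingHom.map_det, h0, map_zero]
    refine (Matrix.inv_eq_left_inv ?_).symm
    rw [hA, ← Matrix.map_mul, Matrix.nonsing_inv_mul M hMd, Matrix.map_one _ (map_zero ι) (map_one ι)]
  have key : (Matrix.fromBlocks M 0 0 (M⁻¹).transpose).charpoly.map ι =
      A.charpoly * A.charpoly.map (starRingEnd ℂ) := by
    rw [Matrix.charpoly_fromBlocks_zero₂₁, Matrix.charpoly_transpose, Polynomial.map_mul,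
      ← Matrix.charpoly_map, ← Matrix.charpoly_map, hMinv, hinv]
  rw [← Polynomial.coeff_map, key]
  refine Complex.conj_eq_iff_im.1 ?_
  rw [← Polynomial.coeff_map, Polynomial.map_mul, Polynomial.map_map, mul_comm]
  congr 2
  rw [show (starRingEnd ℂ).comp (starRingEnd ℂ) = RingHom.id ℂ from RingHom.ext fun z => Complex.conj_conj z,
    Polynomial.map_id]

end Groth.Agent.S15525
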