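import Groth.Statements.S15526
import Mathlib
-- import your own Groth.Agent.* helpers here

set_option autoImplicit false
universe u
open MvPolynomial
open CAlg

namespace Groth.Agent.S15526

/-- Let R be a commutative ring, P ∈ R[x] a monic polynomial of degree 2g + 1, and A = R[x, y, z]/(y^2 −
P(x), yz − 1). Then every element of A is a finite sum Σ_n Q_n(x) y^n over integers n, negative
powers of y meaning powers of z, with each Q_n ∈ R[x] of degree at most 2g: the R-submodule of A
spanned by the classes of x^i y^n and x^i z^n with i ≤ 2g and n ≥ 0 is all of A. (The published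
statement takes for R the ring of Witt vectors of a finite field and for P a lift of a separable
polynomial; the argument uses only that P is monic of degree 2g + 1.) -/
theorem result (R : Type u) [CommRing R] (g : ℕ)
    (P : Polynomial R) (hP : P.Monic) (hdeg : P.natDegree = 2 * g + 1) :
    Submodule.span R {a : MvPolynomial (Fin 3) R ⧸
        Ideal.span ({X 1 ^ 2 - Polynomial.aeval (X 0 : MvPolynomial (Fin 3) R) P, X 1 * X 2 - 1} :
          Set (MvPolynomial (Fin 3) R)) |
        ∃ i n : ℕ, i ≤ 2 * g ∧
          (a = Ideal.Quotient.mk _ (X 0 ^ i * X 1 ^ n) ∨ a = Ideal.Quotient.mk _ (X 0 ^ i * X 2 ^ n))} =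
      ⊤ := by
  classical
  set I := Ideal.span ({X 1 ^ 2 - Polynomial.aeval (X 0 : MvPolynomial (Fin 3) R) P, X 1 * X 2 - 1} :
          Set (MvPolynomial (Fin 3) R))
  set x : MvPolynomial (Fin 3) R ⧸ I := Ideal.Quotient.mk I (X 0)
  set y : MvPolynomial (Fin 3) R ⧸ I := Ideal.Quotient.mk I (X 1)
  set z : MvPolynomial (Fin 3) R ⧸ I := Ideal.Quotient.mk I (X 2)
  have hyz : y * z = 1 := by
    rw [← map_mul, ← map_one (Ideal.Quotient.mk I), Ideal.Quotient.eq]
    exact Ideal.subset_span (by simp)
  have hy2 : Polynomial.aeval x P = y ^ 2 := by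
    rw [← map_pow, show x = Ideal.Quotient.mkₐ R I (X 0) from rfl, Polynomial.aeval_algHom_apply]
    exact (Ideal.Quotient.eq.2 (Ideal.subset_span (by simp))).symm
  set S := Submodule.span R {a : MvPolynomial (Fin 3) R ⧸ I | ∃ i n : ℕ, i ≤ 2 * g ∧
          (a = Ideal.Quotient.mk _ (X 0 ^ i * X 1 ^ n) ∨ a = Ideal.Quotient.mk _ (X 0 ^ i * X 2 ^ n))}
  have key : ∀ i n, x ^ i * y ^ n ∈ S ∧ x ^ i * z ^ n ∈ S := by
    intro i
    induction i using Nat.strong_induction_on with
    | _ i ih =>
      intro n
      rcases le_or_gt i (2 * g) with hi | hi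
      · exact ⟨Submodule.subset_span ⟨i, n, hi, Or.inl (by simp [x, y])⟩,
          Submodule.subset_span ⟨i, n, hi, Or.inr (by simp [x, z])⟩⟩
      set d := 2 * g + 1
      have hPd : Polynomial.aeval x P = x ^ d + ∑ j ∈ Finset.range d, P.coeff j • x ^ j := by
        rw [Polynomial.aeval_eq_sum_range, hdeg, Finset.sum_range_succ, show P.coeff d = 1 from hdeg ▸ hP.coeff_natDegree,
          one_smul, add_comm]
      have red : ∀ w, (∀ j < i, x ^ j * w ∈ S) → x ^ (i - d) * (y ^ 2 * w) ∈ S → x ^ i * w ∈ S := by
        intro w hw h2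
        rw [show x ^ i = x ^ (i - d) * x ^ d by rw [← pow_add, Nat.sub_add_cancel (by omega)],
          eq_sub_of_add_eq hPd.symm, hy2, mul_sub, sub_mul, mul_assoc, Finset.mul_sum, Finset.sum_mul]
        refine sub_mem h2 (sum_mem fun j hj => ?_)
        have hj' := Finset.mem_range.1 hj
        rw [mul_smul_comm, smul_mul_assoc, ← pow_add]
        exact S.smul_mem _ (hw _ (by omega))
      refine ⟨red _ (fun j hj => (ih j hj n).1) ?_, red _ (fun j hj => (ih j hj n).2) ?_⟩
      · rw [← pow_add]; exact (ih _ (by omega) _).1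
      · match n with
        | 0 => rw [pow_zero, mul_one]; exact (ih _ (by omega) 2).1
        | 1 =>
          rw [show y ^ 2 * z ^ 1 = y * (y * z) by ring, hyz, mul_one]
          have := (ih (i - d) (by omega) 1).1
          rwa [pow_one] at this
        | n + 2 =>
          rw [show y ^ 2 * z ^ (n + 2) = (y * z) ^ 2 * z ^ n by ring, hyz, one_pow, one_mul]
          exact (ih _ (by omega) n).2
  have mono : ∀ a b c, x ^ a * y ^ b * z ^ c ∈ S := by
    intro a b c
    rcases le_total c b with h | h
    · obtain ⟨e, rfl⟩ := Nat.exists_eq_add_of_le h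
      rw [show x ^ a * y ^ (c + e) * z ^ c = x ^ a * y ^ e * (y * z) ^ c by ring, hyz, one_pow, mul_one]
      exact (key a e).1
    · obtain ⟨e, rfl⟩ := Nat.exists_eq_add_of_le h
      rw [show x ^ a * y ^ b * z ^ (b + e) = x ^ a * z ^ e * (y * z) ^ b by ring, hyz, one_pow, mul_one]
      exact (key a e).2
  refine top_le_iff.1 fun q _ => ?_
  obtain ⟨f, rfl⟩ := Ideal.Quotient.mk_surjective q
  induction f using MvPolynomial.induction_on' with
  | add f g hf hg => rw [map_add]; exact add_mem (hf trivial) (hg trivial)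
  | monomial m r =>
    rw [show Ideal.Quotient.mk I (monomial m r) = r • Ideal.Quotient.mk I (monomial m 1) by
      rw [← Ideal.Quotient.mkₐ_eq_mk R, ← map_smul, smul_monomial, smul_eq_mul, mul_one]]
    refine S.smul_mem _ ?_
    rw [monomial_eq, C_1, one_mul, Finsupp.prod_fintype _ _ (fun _ => pow_zero _), Fin.prod_univ_three]
    simp only [map_mul, map_pow]
    exact mono _ _ _

end Groth.Agent.S15526
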