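import Groth.Statements.S1553
import Groth.Agent.FibreDim.ComponentCor

set_option autoImplicit false
universe u
open CategoryTheory CategoryTheory.Limits AlgebraicGeometry
open Variety

namespace Groth.Agent.S1553

/-- Let f : X → Y be locally of finite type, x a point with image y such that the local ring of Y at y
is Noetherian, and d a natural number such that at the generic points η of the irreducible
components of X passing through x we have f(η) ≠ y and local fibre dimension d. Then the local
dimension at x of the fibre over y is at most d + dim O_{Y,y} - 1 (written additively). -/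
theorem result {X Y : Scheme.{u}} (f : X ⟶ Y) [LocallyOfFiniteType f]
    (x : X) [IsNoetherianRing (Y.presheaf.stalk (f.base x))] (d : ℕ)
    (hgen : ∀ Z ∈ irreducibleComponents (X : Type u), x ∈ Z → ∀ η : X, IsGenericPoint η Z →
      f.base η ≠ f.base x ∧ FlatMor.fibreDimAt f η = d) :
    FlatMor.fibreDimAt f x + 1 ≤ (d : WithBot ℕ∞) + ringKrullDim (Y.presheaf.stalk (f.base x)) := by
  obtain ⟨Z, η, t, t₀, B, hZ, hxZ, hη, ht, ht₀, hB, h⟩ :=
    Groth.FibreDim.exists_component_fibreDimAt_le_stalk f x
  obtain ⟨hne, hd⟩ := hgen Z hZ hxZ η hη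
  rw [hd] at ht₀
  have ht₀' : t₀ ≤ d := by exact_mod_cast ht₀
  rcases h with ⟨h1, -⟩ | ⟨-, h2⟩
  · exact absurd h1 hne
  · rw [ht, hB]
    norm_cast
    omega

end Groth.Agent.S1553
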