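import Groth.Statements.S15533
import Groth.Agent.SmoothConst.Separable

set_option autoImplicit false
universe u
open OmegaSh

namespace Groth.Agent.S15533

open CategoryTheory AlgebraicGeometry in
/-- For a field k and a smooth proper k-scheme X with structure morphism f, the derivation d : O_X →
Ω_{X/k} of f vanishes on global functions: d(s) = 0 in Γ(X, Ω_{X/k}) for every s ∈ Γ(X, O_X). -/
theorem result (k : Type u) [Field k] (X : Scheme.{u})
    (f : X ⟶ Spec (CommRingCat.of k)) [IsProper f] [Smooth f] (s : Γ(X, ⊤)) :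
    (OmegaSh.dOmega f).app ⊤ s = 0 := by
  obtain ⟨p, hp, hps⟩ := Groth.SmoothConst.exists_separable_eval_eq_zero f s
  set e := (Groth.SmoothConst.strHom f ⊤).hom
  let d : Γ(X, ⊤) →+ Γ(Omega.sheaf f, ⊤) := (OmegaSh.dOmega f).app ⊤
  have hmul : ∀ a b : Γ(X, ⊤), d (a * b) = a • d b + b • d a := fun a b => dSect_mul f ⊤ a b
  have hc : ∀ c : k, d (e c) = 0 := fun c => by
    have : e c = f.app ⊤ ((Scheme.ΓSpecIso (CommRingCat.of k)).inv c) := by
      simp [e, Groth.SmoothConst.strHom, Scheme.Hom.appLE]
      rfl
    rw [this]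
    exact dSect_app f ⊤ _
  have h1 : d 1 = 0 := by simpa using hc 1
  have hpow : ∀ n : ℕ, d (s ^ (n + 1)) = ((n + 1 : ℕ) * s ^ n : Γ(X, ⊤)) • d s := by
    intro n
    induction n with
    | zero => simp
    | succ n ih =>
      rw [pow_succ, hmul, ih, smul_smul, ← add_smul]
      congr 1
      push_cast
      ring
  have hpoly : ∀ q : Polynomial k,
      d (q.eval₂ e s) = (Polynomial.derivative q).eval₂ e s • d s := by
    intro q
    induction q using Polynomial.induction_on' with
    | add a b ha hb => simp [ha, hb, add_smul]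
    | monomial n c =>
      rw [Polynomial.eval₂_monomial, hmul, hc, smul_zero, add_zero,
        Polynomial.derivative_monomial, Polynomial.eval₂_monomial]
      rcases n with - | n
      · simp [h1]
      · rw [hpow, smul_smul, map_mul, map_natCast, Nat.add_sub_cancel]
        congr 1
        ring
  obtain ⟨a, b, hab⟩ := hp
  have h0 : d (p.eval₂ e s) = 0 := by rw [hps]; exact map_zero _
  rw [hpoly] at h0
  have h1 : b.eval₂ e s * (Polynomial.derivative p).eval₂ e s = 1 := by
    simpa [hps] using congrArg (Polynomial.eval₂ e s) hab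
  calc d s = (1 : Γ(X, ⊤)) • d s := (one_smul _ _).symm
    _ = 0 := by rw [← h1, mul_smul, h0, smul_zero]

end Groth.Agent.S15533
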