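import Groth.Statements.S15535
import Groth.Agent.HensPair.SteinEtale
import Groth.Agent.GrpschAbsch.FibreFlat
-- import your own Groth.Agent.* helpers here

set_option autoImplicit false
universe u
open OmegaSh

namespace Groth.Agent.S15535

open CategoryTheory AlgebraicGeometry in
theorem der_app_eq_zero {S X : Scheme.{u}} (f : X ⟶ S) {F : X.Modules} (D : OmegaSh.Der f F)
    (U : S.Opens) (hU : (f.app U).hom.FormallyUnramified) (b : Γ(X, f ⁻¹ᵁ U)) :
    D.app (f ⁻¹ᵁ U) b = 0 := by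
  letI : Algebra Γ(S, U) Γ(X, f ⁻¹ᵁ U) := (f.app U).hom.toAlgebra
  haveI : Algebra.FormallyUnramified Γ(S, U) Γ(X, f ⁻¹ᵁ U) := hU
  letI : Module Γ(S, U) Γ(F, f ⁻¹ᵁ U) := Module.compHom _ (f.app U).hom
  haveI : IsScalarTower Γ(S, U) Γ(X, f ⁻¹ᵁ U) Γ(F, f ⁻¹ᵁ U) :=
    IsScalarTower.of_algebraMap_smul fun _ _ => rfl
  have h0 : ∀ a : Γ(S, U), D.app (f ⁻¹ᵁ U) (f.app U a) = 0 := fun a => D.d_app (X := Opposite.op U) a
  let lin : Γ(X, f ⁻¹ᵁ U) →ₗ[Γ(S, U)] Γ(F, f ⁻¹ᵁ U) :=
    { toFun := fun x => D.app (f ⁻¹ᵁ U) x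
      map_add' := fun x y => map_add (D.app (f ⁻¹ᵁ U)) x y
      map_smul' := fun a x => by
        have hm : D.app (f ⁻¹ᵁ U) (f.app U a * x) =
            f.app U a • D.app (f ⁻¹ᵁ U) x + x • D.app (f ⁻¹ᵁ U) (f.app U a) :=
          D.d_mul (X := Opposite.op (f ⁻¹ᵁ U)) (f.app U a) x
        rw [h0 a, smul_zero, add_zero] at hm
        exact hm }
  let der : Derivation Γ(S, U) Γ(X, f ⁻¹ᵁ U) Γ(F, f ⁻¹ᵁ U) :=
    Derivation.mk' lin fun x y => D.d_mul (X := Opposite.op (f ⁻¹ᵁ U)) x y
  have : der b = 0 := by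
    rw [← der.liftKaehlerDifferential_comp_D, Subsingleton.elim (KaehlerDifferential.D _ _ b) 0, map_zero]
  exact this


open CategoryTheory AlgebraicGeometry in
/-- For a quasi-compact quasi-separated scheme S and a proper morphism f : X → S which is smooth of
relative dimension n with all fibres nonempty (f surjective), the map d : f_*O_X → f_*Ω_{X/S}
induced by the derivation of f is zero: d(s) = 0 for every section s of O_X over an open of the form
f⁻¹(V), V open in S. (The published lemma also asserts that f_*O_X is a finite étale O_S-algebra and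
that Rf_*O_X splits off f_*O_X locally on S with perfect complement of tor amplitude in [1, ∞);
those parts are not stated here.) -/
theorem result (S X : Scheme.{u}) (f : X ⟶ S)
    [CompactSpace ↥S] [QuasiSeparatedSpace ↥S] [IsProper f] (n : ℕ) [SmoothOfRelativeDimension n f]
    [Surjective f] (V : S.Opens) (s : Γ(X, f ⁻¹ᵁ V)) :
    (OmegaSh.dOmega f).app (f ⁻¹ᵁ V) s = 0 := by
  haveI : Smooth f := SmoothOfRelativeDimension.smooth n f
  haveI : GeometricallyReduced f := Groth.GrpschAbsch.FibreFlat.geometricallyReduced_of_smooth f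
  set D := OmegaSh.dOmega f with hD
  refine TopCat.Sheaf.eq_of_locally_eq' ⟨(Omega.sheaf f).presheaf, (Omega.sheaf f).isSheaf⟩
    (fun U : {U : S.Opens // IsAffineOpen U ∧ U ≤ V} => f ⁻¹ᵁ U.1) (f ⁻¹ᵁ V)
    (fun U => homOfLE (f.preimage_mono U.2.2)) ?_ _ _ (fun U => ?_)
  · intro x hx
    obtain ⟨_, ⟨(U : S.Opens), hU, rfl⟩, hxU, hUV⟩ :=
      S.isBasis_affineOpens.exists_subset_of_mem_open (show f x ∈ (V : Set S) from hx) V.isOpen
    exact TopologicalSpace.Opens.mem_iSup.2 ⟨⟨U, hU, hUV⟩, hxU⟩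
  · have het : (f.app U.1).hom.Etale := by
      haveI := Groth.HensPair.isProper_overAffine f U.2.1
      haveI : GeometricallyReduced (Groth.HensPair.overAffine f U.2.1) :=
        Groth.GrpschAbsch.FibreFlat.geometricallyReduced_of_smooth _
      obtain ⟨-, h2⟩ := Groth.HensPair.SteinEtale.finite_etale_toΓ_general (Groth.HensPair.overAffine f U.2.1)
      have h3 : f.app U.1 = (Scheme.ΓSpecIso (CommRingCat.of Γ(S, U.1))).inv ≫ (Groth.HensPair.overAffine f U.2.1).appTop ≫
          (f ⁻¹ᵁ U.1).topIso.hom := by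
        rw [← Category.assoc]
        show _ = CommRingCat.ofHom (Groth.HensPair.toΓ (Groth.HensPair.overAffine f U.2.1)) ≫ _
        rw [Groth.HensPair.toΓ_overAffine, Category.assoc, Iso.inv_hom_id, Category.comp_id]
      rw [h3, CommRingCat.hom_comp, CommRingCat.hom_comp]
      exact RingHom.Etale.respectsIso.2 _ (Scheme.ΓSpecIso (CommRingCat.of Γ(S, U.1))).symm.commRingCatIsoToRingEquiv
        (RingHom.Etale.respectsIso.1 _ (f ⁻¹ᵁ U.1).topIso.commRingCatIsoToRingEquiv h2)
    refine Eq.trans ?_ (map_zero _).symm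
    refine (D.d_map (homOfLE (f.preimage_mono U.2.2)).op s).symm.trans ?_
    exact der_app_eq_zero f D U.1 het.formallyUnramified _

end Groth.Agent.S15535
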