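import Groth.Statements.S15536
import Groth.Agent.DR.CxMap
import Mathlib.Algebra.Polynomial.Derivation

set_option autoImplicit false
universe u
open DeRham

namespace Groth.Agent.S15536

open exteriorPower Polynomial in
/-- For a commutative ℚ-algebra R, an R-algebra A, de Rham differentials d on ⋀^• Ω_{A/R} and d' on ⋀^•
Ω_{A[t]/R}, and the map of de Rham complexes ψ induced by the inclusion A → A[t] (pinned by its
values on the elements b₀ db₁ ∧ … ∧ db_p and commuting with d, d'), the map ψ is a
quasi-isomorphism: in every degree i, each d'-closed form on A[t] is the sum of ψ_i of a d-closed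
form on A and a d'-exact form, and a d-closed form on A whose image under ψ_i is d'-exact is d-exact
(in degree 0, exact means zero). -/
theorem result (R A : Type u) [CommRing R]
    [CommRing A] [Algebra R A] [Algebra ℚ R]
    (d : ∀ p : ℕ, ↥(⋀[A]^p (Ω[A⁄R])) →ₗ[R] ↥(⋀[A]^(p + 1) (Ω[A⁄R])))
    (hd : DeRham.IsDiff (KaehlerDifferential.D R A) d)
    (d' : ∀ p : ℕ, ↥(⋀[A[X]]^p (Ω[A[X]⁄R])) →ₗ[R] ↥(⋀[A[X]]^(p + 1) (Ω[A[X]⁄R])))
    (hd' : DeRham.IsDiff (KaehlerDifferential.D R A[X]) d')
    (ψ : ∀ p : ℕ, ↥(⋀[A]^p (Ω[A⁄R])) →+ ↥(⋀[A[X]]^p (Ω[A[X]⁄R])))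
    (hψ : DeRham.IsCxMap (KaehlerDifferential.D R A) (KaehlerDifferential.D R A[X]) (algebraMap A A[X]) ψ)
    (hcomm : ∀ (p : ℕ) (x : ↥(⋀[A]^p (Ω[A⁄R]))), ψ (p + 1) (d p x) = d' p (ψ p x)) (i : ℕ) :
    (∀ y ∈ DeRham.cocycles d' i, ∃ x ∈ DeRham.cocycles d i, y - ψ i x ∈ DeRham.coboundaries d' i) ∧
      (∀ x ∈ DeRham.cocycles d i, ψ i x ∈ DeRham.coboundaries d' i → x ∈ DeRham.coboundaries d i) := by
  classical
  let D := KaehlerDifferential.D R A
  let D' := KaehlerDifferential.D R A[X]
  let g : A →+* A[X] := algebraMap A A[X]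
  have hgA : Submodule.span A (Set.range D) = ⊤ := Groth.DR.kaehler_span R A
  have hgA' : Submodule.span A[X] (Set.range D') = ⊤ := Groth.DR.kaehler_span R A[X]
  obtain ⟨ρ, hρ⟩ := Groth.DR.exists_isCxMap_algHom
    ((Polynomial.aeval (0 : A)).restrictScalars R : A[X] →ₐ[R] A)
  have hρψ : ∀ p x, ρ p (ψ p x) = x := by
    intro p x
    refine Groth.DR.gen_induction D hgA (P := fun x => ρ p (ψ p x) = x) (by simp)
      (fun x y hx hy => by rw [map_add, map_add, hx, hy]) (fun b₀ b => ?_) x
    rw [hψ, hρ]; simp [D]
  have hρd : ∀ p y, ρ (p + 1) (d' p y) = d p (ρ p y) := fun p y =>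
    Groth.DR.comm_d hgA' hd'.1 hd.1 hρ p y
  -- injectivity
  refine ⟨?_, fun x _ hx => ?_⟩
  swap
  · cases i with
    | zero =>
      have h0 : ψ 0 x = 0 := hx
      show x = 0
      rw [← hρψ 0 x, h0, map_zero]
    | succ q =>
      obtain ⟨w, hw⟩ := hx
      exact ⟨ρ q w, by rw [← hρd, hw, hρψ]⟩
  -- surjectivity: it suffices that `y - ψ (ρ y)` is exact
  intro y hy
  have hy0 : d' i y = 0 := hy
  refine ⟨ρ i y, LinearMap.mem_ker.2 (by rw [← hρd, hy0, map_zero]), ?_⟩
  have hdivQ : ∀ N : ℕ, IsUnit ((N : R) + 1) := fun N => by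
    have := (isUnit_iff_ne_zero.2 (Nat.cast_add_one_ne_zero N : (N : ℚ) + 1 ≠ 0)).map
      (algebraMap ℚ R)
    simpa using this
  cases i with
  | zero =>
    obtain ⟨f, b, rfl⟩ : ∃ f b, gen D' 0 f b = y :=
      ⟨zeroEquiv A[X] _ y, Fin.elim0, (zeroEquiv A[X] _).injective (by simp [gen])⟩
    have hf : Polynomial.derivative f = 0 := by
      have h1 : D' f = 0 := by
        have := congrArg (oneEquiv A[X] _) hy0
        rwa [hd'.1, oneEquiv_ιMulti, Fin.cons_zero, map_zero] at this
      have := congrArg ((Polynomial.derivative' (R := A)).restrictScalars R).liftKaehlerDifferential h1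
      rwa [Derivation.liftKaehlerDifferential_comp_D, map_zero] at this
    have hf' : f = Polynomial.C (f.coeff 0) := by
      ext n
      cases n with
      | zero => simp
      | succ n =>
        have := congrArg (fun p => Polynomial.coeff p n) hf
        simp only [Polynomial.coeff_derivative, Polynomial.coeff_zero] at this
        rw [Polynomial.coeff_C_succ]
        have hu := (hdivQ n).map (algebraMap R A)
        rw [map_add, map_natCast, map_one] at hu
        exact hu.mul_left_eq_zero.1 this
    show gen D' 0 f b - ψ 0 (ρ 0 (gen D' 0 f b)) ∈ (⊥ : Submodule R _)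
    rw [hρ, hψ, Submodule.mem_bot, sub_eq_zero]
    congr 1
    · conv_lhs => rw [hf']
      simp [Polynomial.coeff_zero_eq_eval_zero]
    · exact funext fun i => i.elim0
  | succ q =>
    let W : ℕ → Set ↥(⋀[A[X]]^(q + 1) (Ω[A[X]⁄R])) := fun N =>
      {z | ∃ n ≤ N, ∃ x, z = (X : A[X]) ^ n • ψ (q + 1) x} ∪
        {z | ∃ n, n + 1 ≤ N ∧ ∃ x, z = (X : A[X]) ^ n • Groth.DR.wedgeL (D' X) q (ψ q x)}
    let V : ℕ → AddSubgroup ↥(⋀[A[X]]^(q + 1) (Ω[A[X]⁄R])) := fun N => AddSubgroup.closure (W N)
    have hV : Monotone V := fun a b h => AddSubgroup.closure_mono (by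
      rintro z (⟨n, hn, x, hx⟩ | ⟨n, hn, x, hx⟩)
      · exact Or.inl ⟨n, hn.trans h, x, hx⟩
      · exact Or.inr ⟨n, hn.trans h, x, hx⟩)
    -- the Lie derivative along `X d/dX`
    let E : Derivation R A[X] A[X] :=
      (X : A[X]) • (Polynomial.derivative' (R := A)).restrictScalars R
    let θ := E.liftKaehlerDifferential
    have hθ : ∀ f, θ (D' f) = X * Polynomial.derivative f := fun f => by
      rw [Derivation.liftKaehlerDifferential_comp_D]; rfl
    have hθX : ∀ (n : ℕ) (a : A), θ (D' ((X : A[X]) ^ n * g a)) = (n : A[X]) * (X ^ n * g a) := by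
      intro n a
      rw [hθ, Polynomial.derivative_mul, Polynomial.derivative_X_pow,
        show g a = Polynomial.C a from rfl, Polynomial.derivative_C]
      cases n with
      | zero => simp
      | succ n => simp [pow_succ]; ring
    let L := Groth.DR.lie d' θ q
    have hL1 : ∀ n x, L ((X : A[X]) ^ n • ψ (q + 1) x) = n • ((X : A[X]) ^ n • ψ (q + 1) x) := by
      intro n x
      refine Groth.DR.gen_induction D hgA
        (P := fun x => L ((X : A[X]) ^ n • ψ (q + 1) x) = n • ((X : A[X]) ^ n • ψ (q + 1) x))
        (by simp) (fun x y hx hy => by simp only [map_add, smul_add, hx, hy]) (fun b₀ b => ?_) x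
      rw [hψ, ← Groth.DR.gen_smul, show L _ = _ from
        Groth.DR.lie_gen hgA' hd'.1 θ _ _ (fun _ => 0) (fun i => by rw [hθ]; simp [g]),
        ← Nat.cast_smul_eq_nsmul A[X], ← Groth.DR.gen_smul]
      congr 1
      rw [hθX]; simp [g]
    have hL2 : ∀ n x, L ((X : A[X]) ^ n • Groth.DR.wedgeL (D' X) q (ψ q x)) =
        (n + 1) • ((X : A[X]) ^ n • Groth.DR.wedgeL (D' X) q (ψ q x)) := by
      intro n x
      refine Groth.DR.gen_induction D hgA
        (P := fun x => L ((X : A[X]) ^ n • Groth.DR.wedgeL (D' X) q (ψ q x)) =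
          (n + 1) • ((X : A[X]) ^ n • Groth.DR.wedgeL (D' X) q (ψ q x)))
        (by simp) (fun x y hx hy => by simp only [map_add, smul_add, hx, hy]) (fun b₀ b => ?_) x
      have h : Groth.DR.wedgeL (D' X) q (gen D' q (g b₀) (fun i => g (b i))) =
          gen D' (q + 1) (g b₀) (Fin.cons X (fun i => g (b i))) := by
        rw [Groth.DR.gen_succ, Fin.cons_zero, Fin.tail_cons, ← map_smul, ← Groth.DR.gen_smul,
          mul_one]
      rw [hψ, h, ← Groth.DR.gen_smul, show L _ = _ from
        Groth.DR.lie_gen hgA' hd'.1 θ _ _ (Fin.cons 1 0) (fun i => by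
          refine Fin.cases ?_ (fun j => ?_) i
          · rw [hθ]; simp
          · rw [hθ]; simp [g]),
        ← Nat.cast_smul_eq_nsmul A[X], ← Groth.DR.gen_smul]
      congr 1
      rw [hθX]
      simp [g, Fin.sum_univ_succ]
      ring
    have hρX : ∀ (n : ℕ) (z : ↥(⋀[A[X]]^(q + 1) (Ω[A[X]⁄R]))),
        ρ (q + 1) ((X : A[X]) ^ n • z) = (0 : A) ^ n • ρ (q + 1) z := fun n z => by
      rw [Groth.DR.cxMap_smul hgA' hρ]; simp
    have hρdX : ∀ z : ↥(⋀[A[X]]^q (Ω[A[X]⁄R])), ρ (q + 1) (Groth.DR.wedgeL (D' X) q z) = 0 :=
      fun z => by rw [Groth.DR.cxMap_wedgeL hgA' hρ]; simp [Groth.DR.wedgeL_zero]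
    have hρL : ∀ N, ∀ z ∈ V N, ρ (q + 1) (L z) = 0 := by
      intro N z hz
      induction hz using AddSubgroup.closure_induction with
      | mem z hz =>
        rcases hz with ⟨n, _, x, rfl⟩ | ⟨n, _, x, rfl⟩
        · rw [hL1, map_nsmul, hρX]
          cases n with
          | zero => simp
          | succ n => simp
        · rw [hL2, map_nsmul, hρX, hρdX, smul_zero, smul_zero]
      | zero => simp
      | add z w _ _ hz hw => rw [map_add, map_add, hz, hw, add_zero]
      | neg z _ hz => rw [map_neg, map_neg, hz, neg_zero]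
    -- the induction on the weight
    have main : ∀ N, ∀ z ∈ V N, d' (q + 1) z = 0 →
        z - ψ (q + 1) (ρ (q + 1) z) ∈ LinearMap.range (d' q) := by
      intro N
      induction N with
      | zero =>
        intro z hz hdz
        clear hdz
        suffices z - ψ (q + 1) (ρ (q + 1) z) = 0 by rw [this]; exact zero_mem _
        induction hz using AddSubgroup.closure_induction with
        | mem z hz =>
          rcases hz with ⟨n, hn, x, rfl⟩ | ⟨n, hn, _⟩
          · obtain rfl : n = 0 := by omega
            simp [hρψ]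
          · omega
        | zero => simp
        | add z w _ _ hz hw => rw [map_add, map_add, add_sub_add_comm, hz, hw, add_zero]
        | neg z _ hz => rw [map_neg, map_neg, ← neg_sub', hz, neg_zero]
      | succ N ih =>
        intro z hz hdz
        let z' := L z - (N + 1) • z
        have hz' : z' ∈ V N := by
          show L z - (N + 1) • z ∈ V N
          clear hdz z'
          induction hz using AddSubgroup.closure_induction with
          | mem z hz =>
            rcases hz with ⟨n, hn, x, rfl⟩ | ⟨n, hn, x, rfl⟩
            · rw [hL1]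
              rcases Nat.lt_or_eq_of_le hn with hn | rfl
              · have := AddSubgroup.subset_closure (k := W N) (Or.inl ⟨n, by omega, x, rfl⟩)
                exact sub_mem (nsmul_mem this _) (nsmul_mem this _)
              · rw [sub_self]; exact zero_mem _
            · rw [hL2]
              rcases Nat.lt_or_eq_of_le hn with hn | hn
              · have := AddSubgroup.subset_closure (k := W N) (Or.inr ⟨n, by omega, x, rfl⟩)
                exact sub_mem (nsmul_mem this _) (nsmul_mem this _)
              · rw [hn, sub_self]; exact zero_mem _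
          | zero => simp
          | add z w _ _ hz hw =>
            rw [map_add, smul_add, add_sub_add_comm]; exact add_mem hz hw
          | neg z _ hz => rw [map_neg, smul_neg, ← neg_sub']; exact neg_mem hz
        have hdz' : d' (q + 1) z' = 0 := by
          rw [map_sub, map_nsmul, hdz, smul_zero, sub_zero, Groth.DR.lie_comm hgA' hd'.1, hdz,
            map_zero]
        have h1 := ih z' hz' hdz'
        have h2 : L z ∈ LinearMap.range (d' q) :=
          ⟨Groth.DR.contr θ q z, by
            show _ = Groth.DR.lie d' θ q z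
            rw [Groth.DR.lie_apply, hdz, map_zero, add_zero]⟩
        have h3 := sub_mem h2 h1
        have h4 : L z - (z' - ψ (q + 1) (ρ (q + 1) z')) =
            ((N : R) + 1) • (z - ψ (q + 1) (ρ (q + 1) z)) := by
          rw [← Nat.cast_succ, Nat.cast_smul_eq_nsmul]
          simp only [z', map_sub, map_nsmul, hρL _ z hz, map_zero, smul_sub]
          abel
        rw [h4] at h3
        exact (Submodule.smul_mem_iff_of_isUnit _ (hdivQ N)).1 h3
    -- every form has finite weight
    suffices ∃ N, y ∈ V N by
      obtain ⟨N, hN⟩ := this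
      exact main N y hN hy0
    let U : (p : ℕ) → Submodule A[X] ↥(⋀[A[X]]^p (Ω[A[X]⁄R]))
      | 0 => Submodule.span A[X] (Set.range (ψ 0))
      | p + 1 => Submodule.span A[X]
          (Set.range (ψ (p + 1)) ∪ Set.range (fun x => Groth.DR.wedgeL (D' X) p (ψ p x)))
    have hUψ : ∀ p x, ψ p x ∈ U p := by
      intro p x
      cases p with
      | zero => exact Submodule.subset_span ⟨x, rfl⟩
      | succ p => exact Submodule.subset_span (Or.inl ⟨x, rfl⟩)
    have hD : ∀ f : A[X], D' f ∈
        Submodule.span A[X] (Set.range (fun a => D' (g a)) ∪ {D' X}) := by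
      intro f
      induction f using Polynomial.induction_on' with
      | add f f' hf hf' => rw [map_add]; exact add_mem hf hf'
      | monomial n a =>
        rw [← Polynomial.C_mul_X_pow_eq_monomial, Derivation.leibniz, Derivation.leibniz_pow]
        have hX : D' X ∈ Submodule.span A[X] (Set.range (fun a => D' (g a)) ∪ {D' X}) :=
          Submodule.subset_span (Set.mem_union_right _ rfl)
        have ha : D' (g a) ∈ Submodule.span A[X] (Set.range (fun a => D' (g a)) ∪ {D' X}) :=
          Submodule.subset_span (Set.mem_union_left _ ⟨a, rfl⟩)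
        exact add_mem (Submodule.smul_mem _ _ (nsmul_mem (Submodule.smul_mem _ _ hX) _))
          (Submodule.smul_mem _ _ ha)
    have hU : ∀ (p : ℕ) (z : ↥(⋀[A[X]]^p (Ω[A[X]⁄R]))), z ∈ U p := by
      intro p
      induction p with
      | zero =>
        intro z
        obtain ⟨f, rfl⟩ : ∃ f : A[X], f • ψ 0 (gen D 0 1 Fin.elim0) = z :=
          ⟨zeroEquiv A[X] _ z, (zeroEquiv A[X] _).injective (by rw [hψ]; simp [gen])⟩
        exact Submodule.smul_mem _ _ (hUψ _ _)
      | succ p ih =>
        intro z
        refine Groth.DR.gen_induction D' hgA' (P := fun z => z ∈ U (p + 1)) (zero_mem _)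
          (fun _ _ => add_mem) (fun b₀ b => ?_) z
        rw [Groth.DR.gen_succ]
        refine Submodule.smul_mem _ _ ?_
        generalize hu : D' (b 0) = u
        generalize gen D' p 1 (Fin.tail b) = w
        have hu' := hu ▸ hD (b 0)
        clear hu
        induction hu' using Submodule.span_induction with
        | zero => rw [Groth.DR.wedgeL_zero]; exact zero_mem _
        | add u v _ _ hu hv => rw [Groth.DR.wedgeL_add]; exact add_mem hu hv
        | smul c u _ hu => rw [Groth.DR.wedgeL_smul]; exact Submodule.smul_mem _ _ hu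
        | mem u hu =>
          have hw := ih w
          rcases hu with ⟨a, rfl⟩ | rfl
          · cases p with
            | zero =>
              induction hw using Submodule.span_induction with
              | zero => rw [map_zero]; exact zero_mem _
              | add x y _ _ hx hy => rw [map_add]; exact add_mem hx hy
              | smul c x _ hx => rw [map_smul]; exact Submodule.smul_mem _ _ hx
              | mem x hx =>
                obtain ⟨x, rfl⟩ := hx
                show Groth.DR.wedgeL (D' (g a)) _ _ ∈ _
                rw [← Groth.DR.cxMap_wedgeL hgA hψ]; exact hUψ _ _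
            | succ p =>
              induction hw using Submodule.span_induction with
              | zero => rw [map_zero]; exact zero_mem _
              | add x y _ _ hx hy => rw [map_add]; exact add_mem hx hy
              | smul c x _ hx => rw [map_smul]; exact Submodule.smul_mem _ _ hx
              | mem x hx =>
                rcases hx with ⟨x, rfl⟩ | ⟨x, rfl⟩
                · show Groth.DR.wedgeL (D' (g a)) _ _ ∈ _
                  rw [← Groth.DR.cxMap_wedgeL hgA hψ]; exact hUψ _ _
                · show Groth.DR.wedgeL (D' (g a)) _ (Groth.DR.wedgeL (D' X) _ _) ∈ _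
                  rw [Groth.DR.wedgeL_wedgeL, ← Groth.DR.cxMap_wedgeL hgA hψ]
                  exact neg_mem (Submodule.subset_span (Or.inr ⟨_, rfl⟩))
          · cases p with
            | zero =>
              induction hw using Submodule.span_induction with
              | zero => rw [map_zero]; exact zero_mem _
              | add x y _ _ hx hy => rw [map_add]; exact add_mem hx hy
              | smul c x _ hx => rw [map_smul]; exact Submodule.smul_mem _ _ hx
              | mem x hx =>
                obtain ⟨x, rfl⟩ := hx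
                exact Submodule.subset_span (Or.inr ⟨x, rfl⟩)
            | succ p =>
              induction hw using Submodule.span_induction with
              | zero => rw [map_zero]; exact zero_mem _
              | add x y _ _ hx hy => rw [map_add]; exact add_mem hx hy
              | smul c x _ hx => rw [map_smul]; exact Submodule.smul_mem _ _ hx
              | mem x hx =>
                rcases hx with ⟨x, rfl⟩ | ⟨x, rfl⟩
                · exact Submodule.subset_span (Or.inr ⟨x, rfl⟩)
                · show Groth.DR.wedgeL (D' X) _ (Groth.DR.wedgeL (D' X) _ _) ∈ _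
                  rw [Groth.DR.wedgeL_self]; exact zero_mem _
    suffices ∀ z ∈ U (q + 1), ∀ c : A[X], ∃ N, c • z ∈ V N by simpa using this y (hU _ y) 1
    intro z hz
    induction hz using Submodule.span_induction with
    | zero => exact fun c => ⟨0, by simp⟩
    | add u v _ _ hu hv =>
      intro c
      obtain ⟨N, hN⟩ := hu c
      obtain ⟨M, hM⟩ := hv c
      exact ⟨max N M, by
        rw [smul_add]
        exact add_mem (hV (le_max_left _ _) hN) (hV (le_max_right _ _) hM)⟩
    | smul a u _ hu => intro c; rw [smul_smul]; exact hu _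
    | mem u hu =>
      intro c
      induction c using Polynomial.induction_on' with
      | add c c' hc hc' =>
        obtain ⟨N, hN⟩ := hc
        obtain ⟨M, hM⟩ := hc'
        exact ⟨max N M, by
          rw [add_smul]
          exact add_mem (hV (le_max_left _ _) hN) (hV (le_max_right _ _) hM)⟩
      | monomial n a =>
        rw [← Polynomial.C_mul_X_pow_eq_monomial, mul_comm, mul_smul]
        rcases hu with ⟨x, rfl⟩ | ⟨x, rfl⟩
        · exact ⟨n, AddSubgroup.subset_closure (Or.inl ⟨n, le_rfl, a • x, by
            rw [Groth.DR.cxMap_smul hgA hψ]; rfl⟩)⟩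
        · exact ⟨n + 1, AddSubgroup.subset_closure (Or.inr ⟨n, le_rfl, a • x, by
            rw [Groth.DR.cxMap_smul hgA hψ, map_smul]; rfl⟩)⟩

end Groth.Agent.S15536
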