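import Groth.Statements.S1554
import Groth.Agent.FibreDim.ComponentCor

set_option autoImplicit false
universe u
open CategoryTheory CategoryTheory.Limits AlgebraicGeometry
open Variety

namespace Groth.Agent.S1554

/-- Let f : X → Y be locally of finite type, x a point with image y such that the local ring of Y at y
is Noetherian of dimension at most one, and d a natural number such that the local fibre dimension
is d at the generic points of the irreducible components of X passing through x. Then the local
dimension at x of the fibre over y equals d. -/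
theorem result {X Y : Scheme.{u}} (f : X ⟶ Y) [LocallyOfFiniteType f]
    (x : X) [IsNoetherianRing (Y.presheaf.stalk (f.base x))] (hdimY : ringKrullDim (Y.presheaf.stalk (f.base x)) ≤ 1) (d : ℕ)
    (hgen : ∀ Z ∈ irreducibleComponents (X : Type u), x ∈ Z → ∀ η : X, IsGenericPoint η Z → FlatMor.fibreDimAt f η = d) :
    FlatMor.fibreDimAt f x = d := by
  obtain ⟨Z, η, t, t₀, B, hZ, hxZ, hη, ht, ht₀, hB, h⟩ :=
    Groth.FibreDim.exists_component_fibreDimAt_le_stalk f x
  have hd := hgen Z hZ hxZ η hη
  rw [hd] at ht₀
  have ht₀' : t₀ ≤ d := by exact_mod_cast ht₀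
  rw [hB] at hdimY
  have hB1 : B ≤ 1 := by exact_mod_cast hdimY
  rw [ht]
  refine le_antisymm ?_ ?_
  · norm_cast
    omega
  · have hsp : η ⤳ x := hη.specializes hxZ
    have hle : FlatMor.fibreDimAt f η ≤ t :=
      hsp.mem_open (Groth.FibreDim.isOpen_fibreDimAt_le f t) ht.le
    rwa [hd] at hle

end Groth.Agent.S1554
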