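import Groth.Statements.S15544
import Groth.Agent.HensPair.SteinUnibranch
import Groth.Agent.HensPair.NormalUnibranch
import Groth.Agent.CohFin.ProjFinite
-- import your own Groth.Agent.* helpers here

set_option autoImplicit false
open CategoryTheory AlgebraicGeometry
universe u
open Coherent

namespace Groth.Agent.S15544

/-- Let X and Y be integral schemes, Y locally Noetherian with all local rings integrally closed, and f
: X ⟶ Y a proper birational morphism (the generic point of X maps to that of Y and the stalk map
there is an isomorphism). Then every fibre of f is connected and nonempty. (The published statement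
takes X and Y Noetherian; over a locally Noetherian Y this is the same assertion fibre by fibre.) -/
theorem result {X Y : Scheme.{u}} [IsIntegral X]
    [IsIntegral Y] [IsLocallyNoetherian Y] (hY : Pi1.IsNormalScheme Y) (f : X ⟶ Y) [IsProper f]
    (hgen : f.base (genericPoint X) = genericPoint Y) (hbir : IsIso (f.stalkMap (genericPoint X)))
    (y : Y) : ConnectedSpace ↥(f.fiber y) := by
  have hdom : f.base (genericPoint X) ⤳ genericPoint Y := Inseparable.specializes (hgen ▸ Inseparable.rfl)
  refine Groth.HensPair.connectedSpace_fiber_of_unibranch f Groth.CohFin.projFinite hdom ?_ y ?_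
  · intro x _
    refine ⟨0, ?_⟩
    rw [pow_zero, pow_one]
    have h1 : Function.Bijective (f.stalkMap (genericPoint X)).hom :=
      (ConcreteCategory.isIso_iff_bijective _).1 hbir
    have h2 : Function.Surjective (Y.presheaf.stalkSpecializes hdom).hom := fun z => by
      refine ⟨(Y.presheaf.stalkSpecializes (Inseparable.specializes (hgen ▸ Inseparable.rfl) :
        genericPoint Y ⤳ f.base (genericPoint X))).hom z, ?_⟩
      show ((Y.presheaf.stalkSpecializes _) ≫ (Y.presheaf.stalkSpecializes hdom)).hom z = z
      rw [TopCat.Presheaf.stalkSpecializes_comp, TopCat.Presheaf.stalkSpecializes_refl]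
      rfl
    obtain ⟨a, ha⟩ := h1.2 x
    obtain ⟨b, hb⟩ := h2 a
    exact ⟨b, (congrArg (f.stalkMap (genericPoint X)).hom hb).trans ha⟩
  · obtain ⟨h1, h2⟩ := hY y
    exact Groth.HensPair.isUnibranch_of_isIntegrallyClosed _

end Groth.Agent.S15544
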