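import Groth.Statements.S15545
import Groth.Agent.DescentBase.ClosureRange
import Groth.Agent.Limits.ProConsImage

set_option autoImplicit false
open CategoryTheory AlgebraicGeometry
universe u
open FDesc

namespace Groth.Agent.S15545

/-- Let f : X' ⟶ X be flat, quasi-compact and surjective, and Z a pro-constructible subset of X (locally
on X an intersection of locally constructible subsets) which is dense in X. Then the preimage of Z
under f is dense in X'. -/
theorem result {X' X : Scheme.{u}} (f : X' ⟶ X)
    [Flat f] [QuasiCompact f] [Surjective f] (Z : Set X) (hZ : ProCons.IsProConstructible Z)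
    (hd : Dense Z) : Dense (f.base ⁻¹' Z) := by
  intro x'
  obtain ⟨(U : X.Opens), hU, hxU, -⟩ := TopologicalSpace.Opens.isBasis_iff_nbhd.mp X.isBasis_affineOpens
    (TopologicalSpace.Opens.mem_top (f.base x'))
  obtain ⟨R, a, ha⟩ := Groth.Limits.pc_of_isProConstructible hZ U hU
  have hfac : Set.range a.base ⊆ Set.range U.ι.base := by
    rw [Scheme.Opens.range_ι, ha]; exact Set.inter_subset_right
  let a' := IsOpenImmersion.lift U.ι a hfac
  have hx : (⟨f.base x', hxU⟩ : U.toScheme) ∈ closure (Set.range a'.base) := by
    rw [U.ι.isOpenEmbedding.isEmbedding.closure_eq_preimage_closure_image, ← Set.range_comp,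
      ← TopCat.coe_comp, ← Scheme.Hom.comp_base, IsOpenImmersion.lift_fac, ha]
    exact Set.inter_comm Z _ ▸ hd.open_subset_closure_inter U.2 hxU
  haveI : IsAffine U.toScheme := hU
  obtain ⟨t, ht⟩ := Groth.DescentBase.exists_specializes_of_mem_closure_range a' hx
  have hta : U.ι.base (a'.base t) = a.base t := by
    rw [← Scheme.Hom.comp_apply, IsOpenImmersion.lift_fac]
  have ht' : a.base t ⤳ f.base x' := by
    rw [← hta]; exact ht.map U.ι.continuous
  obtain ⟨w, hw, hwf⟩ := AlgebraicGeometry.Flat.generalizingMap f ht'
  refine hw.mem_closed isClosed_closure (subset_closure ?_)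
  change f.base w ∈ Z
  rw [hwf]
  exact (ha.le ⟨t, rfl⟩).1

end Groth.Agent.S15545
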