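import Groth.Statements.S15546
import Mathlib
-- import your own Groth.Agent.* helpers here

set_option autoImplicit false
open scoped TensorProduct
universe u
open Unram

namespace Groth.Agent.S15546

/-- Let E be a finite extension of a field k which is not separable over k, and K an algebraic closure
of k. Then E ⊗_k K has a nonzero nilpotent element. -/
theorem result (k E K : Type u) [Field k] [Field E]
    [Algebra k E] [FiniteDimensional k E] [Field K] [Algebra k K] [IsAlgClosure k K]
    (h : ¬ Algebra.IsSeparable k E) : ∃ x : E ⊗[k] K, x ≠ 0 ∧ IsNilpotent x := by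
  open scoped TensorProduct in
  open Polynomial in
    classical
    rw [Algebra.isSeparable_def] at h
    push Not at h
    obtain ⟨a, ha⟩ := h
    haveI : IsAlgClosed K := IsAlgClosure.isAlgClosed k
    have hint : IsIntegral k a := Algebra.IsIntegral.isIntegral a
    set F := (minpoly k a).map (algebraMap k K) with hF
    have hF0 : F ≠ 0 := (Polynomial.map_ne_zero_iff (algebraMap k K).injective).mpr (minpoly.ne_zero hint)
    have hns : ¬ Squarefree F := by
      rw [← PerfectField.separable_iff_squarefree, Polynomial.separable_map]
      exact ha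
    obtain ⟨d, ⟨g, hg⟩, hd⟩ : ∃ d, d * d ∣ F ∧ ¬ IsUnit d := by
      simpa [Squarefree] using hns
    have hd0 : d ≠ 0 := by rintro rfl; simp at hg; exact hF0 hg
    have hg0 : g ≠ 0 := by rintro rfl; simp at hg; exact hF0 hg
    have hdpos : 0 < d.natDegree := by
      by_contra h0
      push Not at h0
      apply hd
      rw [Polynomial.isUnit_iff_degree_eq_zero, Polynomial.degree_eq_natDegree hd0]
      norm_cast
      omega
    have hFdeg : F.natDegree = (minpoly k a).natDegree := Polynomial.natDegree_map _
    have hdeg : (d * g).natDegree < (minpoly k a).natDegree := by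
      rw [← hFdeg, hg, mul_assoc, Polynomial.natDegree_mul hd0 (mul_ne_zero hd0 hg0)]
      omega
    let y : K ⊗[k] E := aeval ((1 : K) ⊗ₜ[k] a) (d * g)
    have hy : y ≠ 0 := by
      intro hy
      have hli := Module.Flat.linearIndependent_one_tmul (S := K) (linearIndependent_pow (K := k) a)
      rw [Fintype.linearIndependent_iff] at hli
      have h0 := hli (fun i => (d * g).coeff i) (by
        rw [← hy]
        show _ = aeval ((1 : K) ⊗ₜ[k] a) (d * g)
        rw [aeval_eq_sum_range' hdeg, ← Fin.sum_univ_eq_sum_range]
        refine Finset.sum_congr rfl fun i _ => ?_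
        rw [Algebra.TensorProduct.tmul_pow, one_pow])
      apply mul_ne_zero hd0 hg0
      ext i
      rcases lt_or_ge i (minpoly k a).natDegree with hi | hi
      · simpa using h0 ⟨i, hi⟩
      · simpa using coeff_eq_zero_of_natDegree_lt (hdeg.trans_le hi)
    have hy2 : y ^ 2 = 0 := by
      show aeval ((1 : K) ⊗ₜ[k] a) (d * g) ^ 2 = 0
      have hroot : aeval ((1 : K) ⊗ₜ[k] a) F = 0 := by
        rw [hF, aeval_map_algebraMap]
        have := aeval_algHom_apply (Algebra.TensorProduct.includeRight : E →ₐ[k] K ⊗[k] E) a (minpoly k a)
        simpa using this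
      rw [← map_pow, show (d * g) ^ 2 = F * g by rw [hg]; ring, map_mul, hroot, zero_mul]
    exact ⟨Algebra.TensorProduct.comm k K E y,
      fun hc => hy ((Algebra.TensorProduct.comm k K E).injective (hc.trans (map_zero _).symm)),
      2, by rw [← map_pow, hy2, map_zero]⟩

end Groth.Agent.S15546
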