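import Groth.Statements.S15547


set_option autoImplicit false
open CategoryTheory AlgebraicGeometry TopologicalSpace
universe u
open Coherent

namespace Groth.Agent.S15547

/-- The map from the stalk of the pushforward to the stalk at a point of the fibre. -/
noncomputable abbrev toFibre {Z X : Scheme.{u}} (g : Z ⟶ X) {x : X} (z : Z) (hz : g.base z = x) :
    (g.base _* Z.presheaf).stalk x ⟶ Z.presheaf.stalk z :=
  ((g.base _* Z.presheaf).stalkCongr (Inseparable.of_eq hz)).inv ≫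
    TopCat.Presheaf.stalkPushforward CommRingCat g.base Z.presheaf z

theorem toFibre_germ {Z X : Scheme.{u}} (g : Z ⟶ X) {x : X} (z : Z) (hz : g.base z = x)
    (U : X.Opens) (hx : x ∈ U) (hzU : z ∈ g ⁻¹ᵁ U) (s : Γ(Z, g ⁻¹ᵁ U)) :
    toFibre g z hz ((g.base _* Z.presheaf).germ U x hx s) = Z.presheaf.germ (g ⁻¹ᵁ U) z hzU s := by
  subst hz
  simp [toFibre]

/-- Primes of `S` over `p`. -/
theorem result_aux {Z X : Scheme.{u}} (g : Z ⟶ X) [IsFinite g] (x : X) :
    Set.BijOn (fun z : {z : Z // g.base z = x} =>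
        Ideal.comap (toFibre g z.1 z.2).hom (IsLocalRing.maximalIdeal (Z.presheaf.stalk z.1)))
      Set.univ {I : Ideal ((g.base _* Z.presheaf).stalk x) | I.IsMaximal} := by
  obtain ⟨W, hW, hx, -⟩ := exists_isAffineOpen_mem_and_subset (x := x) (U := ⊤) trivial
  have hV : IsAffineOpen (g ⁻¹ᵁ W) := hW.preimage g
  have mem : ∀ z : {z : Z // g.base z = x}, z.1 ∈ g ⁻¹ᵁ W := fun z => by
    change g.base z.1 ∈ W
    rw [z.2]; exact hx
  let ι : Γ(Z, g ⁻¹ᵁ W) →+* ((g.base _* Z.presheaf).stalk x) := ((g.base _* Z.presheaf).germ W x hx).hom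
  letI : Algebra Γ(Z, g ⁻¹ᵁ W) ((g.base _* Z.presheaf).stalk x) := ι.toAlgebra
  letI : Algebra Γ(X, W) Γ(Z, g ⁻¹ᵁ W) := (g.app W).hom.toAlgebra
  haveI : Module.Finite Γ(X, W) Γ(Z, g ⁻¹ᵁ W) := IsFinite.finite_app g W hW
  let p : Ideal Γ(X, W) := (hW.primeIdealOf ⟨x, hx⟩).asIdeal
  have hp : ∀ t : Γ(X, W), t ∉ p ↔ x ∈ X.basicOpen t := by
    intro t
    rw [Scheme.mem_basicOpen _ t x hx]
    letI := X.presheaf.algebra_section_stalk ⟨x, hx⟩
    haveI := hW.isLocalization_stalk ⟨x, hx⟩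
    exact (IsLocalization.AtPrime.isUnit_to_map_iff (X.presheaf.stalk x) p t).symm
  let M : Submonoid Γ(Z, g ⁻¹ᵁ W) := p.primeCompl.map (algebraMap Γ(X, W) Γ(Z, g ⁻¹ᵁ W))
  haveI hloc : IsLocalization M ((g.base _* Z.presheaf).stalk x) := by
    refine { map_units := ?_, surj := ?_, exists_of_eq := ?_ }
    · rintro ⟨_, t, ht, rfl⟩
      have h := ((Scheme.mem_basicOpen _ t x hx).1 ((hp t).1 ht)).map
        ((TopCat.Presheaf.stalkFunctor CommRingCat x).map g.c).hom
      have e := congr($(TopCat.Presheaf.stalkFunctor_map_germ W x hx g.c) t)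
      exact e ▸ h
    · intro c
      obtain ⟨U, hxU, s, rfl⟩ := TopCat.Presheaf.exists_germ_eq _ c
      obtain ⟨t, htU, hxt⟩ := hW.exists_basicOpen_le ⟨x, hxU⟩ hx
      have hb : g ⁻¹ᵁ X.basicOpen t = Z.basicOpen (g.app W t) := Scheme.preimage_basicOpen g t
      haveI := hV.isLocalization_basicOpen (g.app W t)
      let j : Γ(Z, Z.basicOpen (g.app W t)) →+* ((g.base _* Z.presheaf).stalk x) :=
        ((g.base _* Z.presheaf).germ (X.basicOpen t) x hxt).hom.comp (Z.presheaf.map (homOfLE hb.le).op).hom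
      obtain ⟨n, a, ha⟩ := IsLocalization.Away.surj (g.app W t)
        (Z.presheaf.map (homOfLE (hb ▸ g.preimage_mono htU)).op s)
      refine ⟨⟨a, ⟨(g.app W t) ^ n, t ^ n, fun h => (hp t).2 hxt ((hW.primeIdealOf ⟨x, hx⟩).isPrime.mem_of_pow_mem n h), map_pow _ _ _⟩⟩, ?_⟩
      have hj : ∀ (O : X.Opens) (hO : x ∈ O) (hle : X.basicOpen t ≤ O) (hle' : Z.basicOpen (g.app W t) ≤ g ⁻¹ᵁ O) (r : Γ(Z, g ⁻¹ᵁ O)),
          (g.base _* Z.presheaf).germ O x hO r = j (Z.presheaf.map (homOfLE hle').op r) := by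
        intro O hO hle hle' r
        refine Eq.trans ((g.base _* Z.presheaf).germ_res_apply (homOfLE hle) x hxt r).symm ?_
        refine congrArg ((g.base _* Z.presheaf).germ (X.basicOpen t) x hxt) ?_
        exact congr($(Z.presheaf.map_comp (homOfLE hle').op (homOfLE hb.le).op) r)
      have hι : ∀ r, (algebraMap Γ(Z, g ⁻¹ᵁ W) ((g.base _* Z.presheaf).stalk x)) r =
          j (algebraMap Γ(Z, g ⁻¹ᵁ W) Γ(Z, Z.basicOpen (g.app W t)) r) :=
        fun r => hj W hx (X.basicOpen_le t) (Z.basicOpen_le _) r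
      rw [hι, hι]
      refine Eq.trans ?_ ((map_mul j _ _).symm.trans (congrArg j ha))
      exact congrArg₂ (· * ·) (hj U hxU htU (hb ▸ g.preimage_mono htU) s) (congrArg j (map_pow _ _ _))
    · intro a b h
      obtain ⟨U, hxU, iU, iU', e⟩ := TopCat.Presheaf.germ_eq (g.base _* Z.presheaf) x hx hx a b h
      obtain ⟨t, htU, hxt⟩ := hW.exists_basicOpen_le ⟨x, hxU⟩ hx
      have hb : g ⁻¹ᵁ X.basicOpen t = Z.basicOpen (g.app W t) := Scheme.preimage_basicOpen g t
      haveI := hV.isLocalization_basicOpen (g.app W t)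
      obtain ⟨⟨_, n, rfl⟩, hc⟩ := IsLocalization.exists_of_eq (M := Submonoid.powers (g.app W t))
        (S := Γ(Z, Z.basicOpen (g.app W t))) (x := a) (y := b) (by
          have h' := congrArg (Z.presheaf.map (homOfLE (hb ▸ g.preimage_mono htU :
            Z.basicOpen (g.app W t) ≤ g ⁻¹ᵁ U)).op) e
          refine Eq.trans ?_ (h'.trans ?_)
          · exact congr($(Z.presheaf.map_comp ((Opens.map g.base).map iU).op (homOfLE (hb ▸ g.preimage_mono htU :
              Z.basicOpen (g.app W t) ≤ g ⁻¹ᵁ U)).op) a)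
          · exact (congr($(Z.presheaf.map_comp ((Opens.map g.base).map iU').op (homOfLE (hb ▸ g.preimage_mono htU :
              Z.basicOpen (g.app W t) ≤ g ⁻¹ᵁ U)).op) b)).symm)
      exact ⟨⟨(g.app W t) ^ n, t ^ n, fun h => (hp t).2 hxt ((hW.primeIdealOf ⟨x, hx⟩).isPrime.mem_of_pow_mem n h), map_pow _ _ _⟩, hc⟩
  have key : ∀ z : {z : Z // g.base z = x},
      Ideal.comap ι (Ideal.comap (toFibre g z.1 z.2).hom
        (IsLocalRing.maximalIdeal (Z.presheaf.stalk z.1))) =
      (hV.primeIdealOf ⟨z.1, mem z⟩).asIdeal := by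
    intro z
    rw [hV.primeIdealOf_eq_map_closedPoint]
    ext s
    simp only [Ideal.mem_comap]
    exact Iff.of_eq (congrArg (· ∈ IsLocalRing.maximalIdeal _) (toFibre_germ g z.1 z.2 W hx (mem z) s))
  have keyR : ∀ z : {z : Z // g.base z = x},
      Ideal.comap (algebraMap Γ(X, W) Γ(Z, g ⁻¹ᵁ W)) (hV.primeIdealOf ⟨z.1, mem z⟩).asIdeal = p := by
    intro z
    have h := congr($(hW.comap_primeIdealOf_appLE (f := g) W (g ⁻¹ᵁ W) hV le_rfl (mem z)).asIdeal)
    rw [Scheme.Hom.appLE_eq_app] at h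
    refine Eq.trans h ?_
    simp only [p]
    congr 3
    exact z.2
  have disj : ∀ Q : Ideal Γ(Z, g ⁻¹ᵁ W), Disjoint (M : Set Γ(Z, g ⁻¹ᵁ W)) Q ↔ Ideal.comap (algebraMap Γ(X, W) Γ(Z, g ⁻¹ᵁ W)) Q ≤ p := by
    intro Q
    rw [Set.disjoint_left]
    exact ⟨fun h t ht => by_contra fun htp => h ⟨t, htp, rfl⟩ ht,
      by rintro h _ ⟨t, ht, rfl⟩ hQ; exact ht (h hQ)⟩
  refine ⟨fun z _ => ?_, fun z _ z' _ h => ?_, fun I (hI : I.IsMaximal) => ?_⟩
  · set I := Ideal.comap (toFibre g z.1 z.2).hom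
      (IsLocalRing.maximalIdeal (Z.presheaf.stalk z.1)) with hIdef
    change I.IsMaximal
    haveI : I.IsPrime := Ideal.IsPrime.comap _
    obtain ⟨J, hJ, hIJ⟩ := Ideal.exists_le_maximal I this.ne_top
    suffices I = J by rwa [this]
    rw [← IsLocalization.map_under M ((g.base _* Z.presheaf).stalk x) I, ← IsLocalization.map_under M ((g.base _* Z.presheaf).stalk x) J]
    refine congrArg _ (le_antisymm (Ideal.comap_mono hIJ) (le_of_eq ?_))
    have hle : Ideal.comap ι I ≤ Ideal.comap ι J := Ideal.comap_mono hIJ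
    refine (hle.eq_of_not_lt fun hlt => ?_).symm
    haveI : (Ideal.comap ι I).IsPrime := Ideal.IsPrime.comap _
    have h2 := Ideal.IsIntegral.comap_lt_comap (R := Γ(X, W)) hlt
    have h3 : Ideal.comap (algebraMap Γ(X, W) Γ(Z, g ⁻¹ᵁ W)) (Ideal.comap ι J) ≤ p :=
      (disj _).1 ((IsLocalization.isPrime_iff_isPrime_disjoint M ((g.base _* Z.presheaf).stalk x) J).1 hJ.isPrime).2
    rw [key z, keyR z] at h2
    exact h2.not_ge h3
  · have h2 := congrArg (Ideal.comap ι) h
    simp only [key] at h2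
    have h3 := congrArg hV.fromSpec (PrimeSpectrum.ext h2)
    rw [hV.fromSpec_primeIdealOf, hV.fromSpec_primeIdealOf] at h3
    exact Subtype.ext h3
  · have hQ := (IsLocalization.isPrime_iff_isPrime_disjoint M ((g.base _* Z.presheaf).stalk x) I).1 hI.isPrime
    haveI : p.IsPrime := (hW.primeIdealOf ⟨x, hx⟩).isPrime
    obtain ⟨Q, hQI, hQp, hQo⟩ := Ideal.exists_ideal_over_prime_of_isIntegral p (Ideal.comap ι I)
      ((disj _).1 hQ.2)
    have hd : Disjoint (M : Set Γ(Z, g ⁻¹ᵁ W)) Q := (disj _).2 hQo.le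
    have hIQ : Ideal.map ι Q = I := by
      haveI := IsLocalization.isPrime_of_isPrime_disjoint M ((g.base _* Z.presheaf).stalk x) Q hQp hd
      refine (hI.eq_of_le this.ne_top ?_).symm
      exact (IsLocalization.map_under M ((g.base _* Z.presheaf).stalk x) I).ge.trans (Ideal.map_mono hQI)
    let q : PrimeSpectrum Γ(Z, g ⁻¹ᵁ W) := ⟨Q, hQp⟩
    have hz : g.base (hV.fromSpec q) = x := by
      have h1 := congr(($(IsAffineOpen.SpecMap_appLE_fromSpec g hW hV le_rfl)).base q)
      simp only [Scheme.Hom.comp_base, TopCat.comp_app] at h1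
      refine h1.symm.trans ?_
      rw [Scheme.Hom.appLE_eq_app]
      refine Eq.trans ?_ (hW.fromSpec_primeIdealOf ⟨x, hx⟩)
      exact congrArg hW.fromSpec (PrimeSpectrum.ext hQo)
    refine ⟨⟨hV.fromSpec q, hz⟩, Set.mem_univ _, ?_⟩
    dsimp only
    rw [← hIQ, ← IsLocalization.map_under M ((g.base _* Z.presheaf).stalk x) (Ideal.comap _ _)]
    refine congrArg (Ideal.map ι) ((key ⟨_, hz⟩).trans ?_)
    have h4 := hV.fromSpec_primeIdealOf ⟨hV.fromSpec q, mem ⟨_, hz⟩⟩
    exact congrArg PrimeSpectrum.asIdeal (hV.fromSpec.isOpenEmbedding.injective h4)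

/-- Let g : Z ⟶ X be a finite morphism of schemes (Z is the spectrum of the finite quasi-coherent
O_X-algebra C = g_*O_Z) and x a point of X. Then the points of Z over x correspond bijectively to
the maximal ideals of the stalk C_x = (g_*O_Z)_x: the map sending z with g(z) = x to the preimage of
the maximal ideal of O_{Z,z} under the canonical map (g_*O_Z)_x ⟶ O_{Z,z} is a bijection from the
fibre onto the set of maximal ideals. -/
theorem result {Z X : Scheme.{u}} (g : Z ⟶ X)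
    [IsFinite g] (x : X) :
    Set.BijOn (fun z : {z : Z // g.base z = x} =>
        Ideal.comap (((g.base _* Z.presheaf).stalkCongr (Inseparable.of_eq z.2)).inv ≫
            TopCat.Presheaf.stalkPushforward CommRingCat g.base Z.presheaf z.1).hom
          (IsLocalRing.maximalIdeal (Z.presheaf.stalk z.1)))
      Set.univ {I : Ideal ((g.base _* Z.presheaf).stalk x) | I.IsMaximal} := by
  exact result_aux g x

end Groth.Agent.S15547
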