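import Groth.Statements.S15548
import Mathlib
import Groth.Agent.Calg7.Derived.TorLinear
-- import your own Groth.Agent.* helpers here

set_option autoImplicit false
universe u
open CategoryTheory
open CAlg

namespace Groth.Agent.S15548

open CategoryTheory CategoryTheory.Limits MonoidalCategory Groth.Calg7.Tor
open scoped TensorProduct

lemma exists_tmul_one {R : Type u} [CommRing R] (I : Ideal R) {K : Type u} [AddCommGroup K] [Module R K]
    (z : K ⊗[R] (R ⧸ I)) : ∃ k : K, z = k ⊗ₜ[R] Ideal.Quotient.mk I 1 := by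
  induction z using TensorProduct.induction_on with
  | zero => exact ⟨0, by simp⟩
  | tmul k a =>
    obtain ⟨a, rfl⟩ := Submodule.Quotient.mk_surjective _ a
    refine ⟨a • k, ?_⟩
    rw [TensorProduct.smul_tmul]
    congr 1
    change _ = Submodule.Quotient.mk (a • (1 : R))
    rw [smul_eq_mul, mul_one]
  | add a b ha hb =>
    obtain ⟨k, rfl⟩ := ha
    obtain ⟨l, rfl⟩ := hb
    exact ⟨k + l, (TensorProduct.add_tmul k l _).symm⟩

lemma tmul_one_eq_zero_iff {R : Type u} [CommRing R] (I : Ideal R) {K : Type u} [AddCommGroup K]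
    [Module R K] (k : K) :
    k ⊗ₜ[R] (Ideal.Quotient.mk I 1) = 0 ↔ k ∈ I • (⊤ : Submodule R K) := by
  rw [← (TensorProduct.tensorQuotEquivQuotSMul K I).map_eq_zero_iff,
    ← Submodule.Quotient.mk_eq_zero (I • (⊤ : Submodule R K))]
  simp [TensorProduct.tensorQuotEquivQuotSMul]

theorem main {R : Type u} [CommRing R] {S : ShortComplex (ModuleCat.{u} R)} (hS : S.ShortExact)
    [Module.Flat R S.X₂] (J J' : Ideal R) (h : J' ≤ J)
    (hk : ∀ k : S.X₁, S.f.hom k ∈ J' • (⊤ : Submodule R S.X₂) → k ∈ J • (⊤ : Submodule R S.X₁)) :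
    mapR 1 S.X₃ (ModuleCat.ofHom (Submodule.factor h)) = 0 := by
  let N' : ModuleCat.{u} R := ModuleCat.of R (R ⧸ J')
  let N : ModuleCat.{u} R := ModuleCat.of R (R ⧸ J)
  let f : N' ⟶ N := ModuleCat.ofHom (Submodule.factor h)
  haveI : Mono (δL hS N 0) :=
    (exactL₃ hS N 0).mono_g ((isZero_of_flat_left N 0).eq_of_src _ _)
  rw [← cancel_mono (δL hS N 0), zero_comp]
  refine (δL_naturality hS f 0).trans ?_
  apply ModuleCat.hom_ext
  apply LinearMap.ext
  intro z
  obtain ⟨k, hz⟩ := exists_tmul_one J' (((zeroIso S.X₁).hom.app N').hom ((δL hS N' 0).hom z))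
  have h2 : δL hS N' 0 ≫ (zeroIso S.X₁).hom.app N' ≫ (S.f ▷ N') = 0 := by
    rw [← mapL_zeroIso, ← Category.assoc, δL_mapL_f, zero_comp]
  have h3 : (S.f ▷ N').hom (((zeroIso S.X₁).hom.app N').hom ((δL hS N' 0).hom z)) = 0 :=
    congrArg (fun φ => φ.hom z) h2
  rw [hz] at h3
  have h4 : k ∈ J • (⊤ : Submodule R S.X₁) := hk k ((tmul_one_eq_zero_iff J' _).1 h3)
  have h5 : ((zeroIso S.X₁).hom.app N).hom ((mapR 0 S.X₁ f).hom ((δL hS N' 0).hom z)) = 0 := by
    have e : ((zeroIso S.X₁).hom.app N).hom ((mapR 0 S.X₁ f).hom ((δL hS N' 0).hom z)) =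
        (f.hom.lTensor S.X₁) (((zeroIso S.X₁).hom.app N').hom ((δL hS N' 0).hom z)) :=
      congrArg (fun φ => φ.hom ((δL hS N' 0).hom z)) ((zeroIso S.X₁).hom.naturality f)
    rw [e, hz]
    exact (tmul_one_eq_zero_iff J k).2 h4
  have hinj : Function.Injective ((zeroIso S.X₁).hom.app N).hom :=
    ((zeroIso S.X₁).app N).toLinearEquiv.injective
  exact hinj (h5.trans (map_zero _).symm)

/-- Let R be a Noetherian commutative ring, I an ideal of R and M a finitely generated R-module. Then
for every natural number n there is m ≥ n such that the map Tor_1^R(M, R/I^m) → Tor_1^R(M, R/I^n)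
induced by the projection R/I^m → R/I^n is the zero map. Here Tor_1^R(M, -) is the first left
derived functor of M ⊗_R - (derived in the second variable). -/
theorem result (R : Type u) [CommRing R] [IsNoetherianRing R] (I : Ideal R)
    (M : Type u) [AddCommGroup M] [Module R M] [Module.Finite R M] (n : ℕ) :
    ∃ m : ℕ, n ≤ m ∧ ∀ h : I ^ m ≤ I ^ n,
      ((CategoryTheory.Tor (ModuleCat.{u} R) 1).obj (ModuleCat.of R M)).map
        (ModuleCat.ofHom (Submodule.factor h)) = 0 := by
  obtain ⟨r, π, hπ⟩ := Module.Finite.exists_fin' R M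
  let S : ShortComplex (ModuleCat.{u} R) :=
    ShortComplex.mk (ModuleCat.ofHom (X := ↥(LinearMap.ker π)) (Y := Fin r → R) (Submodule.subtype _))
      (ModuleCat.ofHom (X := Fin r → R) (Y := M) π) (by
        refine ModuleCat.hom_ext (LinearMap.ext fun a => a.2))
  have hS : S.ShortExact :=
    { exact := (ShortComplex.ShortExact.moduleCat_exact_iff_function_exact _).2
        (LinearMap.exact_subtype_ker_map π)
      mono_f := (ModuleCat.mono_iff_injective _).2 Subtype.val_injective
      epi_g := (ModuleCat.epi_iff_surjective _).2 hπ }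
  haveI : Module.Flat R S.X₂ := inferInstanceAs (Module.Flat R (Fin r → R))
  obtain ⟨c, hc⟩ := Ideal.exists_pow_inf_eq_pow_smul I (LinearMap.ker π)
  refine ⟨n + c, Nat.le_add_right n c, fun h => main hS (I ^ n) (I ^ (n + c)) h ?_⟩
  intro k hk
  have h1 : (k : Fin r → R) ∈ I ^ n • LinearMap.ker π := by
    have h0 : (k : Fin r → R) ∈ I ^ (n + c - c) • (I ^ c • ⊤ ⊓ LinearMap.ker π) := by
      rw [← hc (n + c) (Nat.le_add_left c n)]
      exact ⟨hk, k.2⟩
    rw [Nat.add_sub_cancel] at h0
    exact Submodule.smul_mono le_rfl inf_le_right h0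
  exact (Submodule.mem_smul_top_iff (I ^ n) _ k).2 h1

end Groth.Agent.S15548
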