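import Groth.Statements.S15549
import Mathlib.RingTheory.GradedAlgebra.Radical
import Mathlib.RingTheory.Noetherian.Basic

set_option autoImplicit false
universe u
open CategoryTheory AlgebraicGeometry
open LocCoh

namespace Groth.Agent.S15549

/-- Let R be a Noetherian commutative ring, positively graded by additive subgroups R_d, with irrelevant
ideal R_+ and X = Proj R, and let M be a graded R-module which is the direct sum of its pieces M_i,
i ≥ 0 (non-negatively graded here). For every i and every m ∈ M_i, the global section of M(i)~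
defined by m (the value m/1 at every point) is zero if and only if some power of R_+ annihilates m.
Equivalently, degree by degree, the kernel of the canonical map from M to the direct sum over all n
of Γ(X, M(n)~) is the R_+-power-torsion submodule H^0_{R_+}(M). -/
theorem result {R σ : Type u} [CommRing R] [IsNoetherianRing R] [SetLike σ R] [AddSubgroupClass σ R]
    (𝒜 : ℕ → σ) [GradedRing 𝒜] {M τ : Type u} [AddCommGroup M] [Module R M] [SetLike τ M] [AddSubgroupClass τ M]
    (ℳ : ℕ → τ) [SetLike.GradedSMul 𝒜 ℳ] [DirectSum.Decomposition ℳ]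
    (i : ℕ) (m : ℳ i) :
    GrMod.alpha 𝒜 ℳ i m = 0 ↔
      ∃ k : ℕ, ∀ r : R, r ∈ (HomogeneousIdeal.irrelevant 𝒜).toIdeal ^ k → r • (m : M) = 0 := by
  classical
  open DirectSum in
  have hdec : ∀ (c : R) (j : ℕ), (decompose ℳ (c • (m : M)) (j + i) : M) = (decompose 𝒜 c j : R) • (m : M) := by
    intro c j
    induction c using DirectSum.Decomposition.inductionOn 𝒜 with
    | zero => simp
    | homogeneous a =>
      rename_i k
      by_cases h : k = j
      · subst h
        rw [decompose_of_mem_same 𝒜 a.2,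
          decompose_of_mem_same ℳ (show (a : R) • (m : M) ∈ ℳ (k + i) from SetLike.GradedSMul.smul_mem a.2 m.2)]
      · rw [decompose_of_mem_ne 𝒜 a.2 h, zero_smul,
          decompose_of_mem_ne ℳ (show (a : R) • (m : M) ∈ ℳ (k + i) from SetLike.GradedSMul.smul_mem a.2 m.2)]
        exact fun hc => h (Nat.add_right_cancel hc)
    | add x y hx hy => simp [add_smul, hx, hy]
  let J : Ideal R := LinearMap.ker (LinearMap.toSpanSingleton R M (m : M))
  have hJhom : J.IsHomogeneous 𝒜 := by
    intro j c hc
    have hc' : c • (m : M) = 0 := hc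
    change (DirectSum.decompose 𝒜 c j : R) • (m : M) = 0
    rw [← hdec c j, hc']
    simp
  constructor
  · intro h
    have hpt : ∀ x : ProjectiveSpectrum 𝒜, ¬ (J ≤ x.asHomogeneousIdeal.toIdeal) := by
      intro x hle
      have h1 : LocalizedModule.mk (m : M) 1 = (0 : GrMod.LocMod 𝒜 (M := M) x) :=
        congrArg (fun t : Γ(GrMod.tilde 𝒜 ℳ (i : ℤ), (⊤ : (AlgebraicGeometry.Proj 𝒜).Opens)) =>
          GrMod.val t ⟨x, trivial⟩) h
      rw [← LocalizedModule.zero_mk (1 : x.asHomogeneousIdeal.toIdeal.primeCompl),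
        LocalizedModule.mk_eq] at h1
      obtain ⟨u, hu⟩ := h1
      refine u.2 (hle ?_)
      change (u : R) • (m : M) = 0
      simpa [Submonoid.smul_def] using hu
    have hrad : (HomogeneousIdeal.irrelevant 𝒜).toIdeal ≤ J.radical := by
      rw [hJhom.radical_eq]
      refine le_sInf fun Q ⟨hQh, hJQ, hQp⟩ => ?_
      by_contra hirr
      exact hpt ⟨⟨Q, hQh⟩, hQp, hirr⟩ hJQ
    obtain ⟨k, hk⟩ := Ideal.exists_pow_le_of_le_radical_of_fg hrad (IsNoetherian.noetherian _)
    exact ⟨k, fun r hr => hk hr⟩
  · rintro ⟨k, hk⟩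
    refine Subtype.ext (funext fun x => Subtype.ext ?_)
    obtain ⟨f, hf, hfx⟩ : ∃ f ∈ (HomogeneousIdeal.irrelevant 𝒜).toIdeal, f ∉ x.1.asHomogeneousIdeal.toIdeal :=
      SetLike.not_le_iff_exists.1 x.1.not_irrelevant_le
    change LocalizedModule.mk (m : M) 1 = (0 : GrMod.LocMod 𝒜 (M := M) x.1)
    rw [← LocalizedModule.zero_mk (1 : x.1.asHomogeneousIdeal.toIdeal.primeCompl), LocalizedModule.mk_eq]
    refine ⟨⟨f ^ k, fun hmem => hfx (x.1.isPrime.mem_of_pow_mem k hmem)⟩, ?_⟩
    simpa [Submonoid.smul_def] using hk _ (Ideal.pow_mem_pow hf k)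

end Groth.Agent.S15549
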