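import Groth.Statements.S15551
import Groth.Agent.Pi1Ample.SectionConnected
import Groth.Agent.Pi1Normal.Covers
import Groth.Agent.AlgSpBasic.DimIntegral
-- import your own Groth.Agent.* helpers here

set_option autoImplicit false
set_option linter.style.haveILetI false
set_option backward.isDefEq.respectTransparency false
universe u
open CategoryTheory CategoryTheory.Limits AlgebraicGeometry
open Pi1

namespace Groth.Agent.S15551

/-- Let k be an algebraically closed field and X an integral normal scheme (all local rings integrally
closed domains), proper over k and of dimension at least 2, with an ample invertible module L; let s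
be a nonzero global section of L, given as a monomorphism O_X → L, and D = Z(s) ⊆ X its zero scheme
(the support of an effective ample divisor). Then for every finite étale cover Y → X with Y
connected, the fibre product Y ×_X D is connected. This is the statement that the étale fundamental
group of D maps onto that of X. (The published statement takes X projective over k; this row takes X
proper over k with an ample invertible module, which is equivalent.) -/
theorem result (k : Type u) [Field k] [IsAlgClosed k]
    (X : Scheme.{u}) (f : X ⟶ Spec (CommRingCat.of k)) [IsProper f] [IsIntegral X] (hN : Pi1.IsNormalScheme X)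
    (hdim : (2 : WithBot ℕ∞) ≤ topologicalKrullDim X)
    (L : X.Modules) (hL : CohB1.IsAmple L) (s : Coh.structureModule X ⟶ L) (hs : Mono s)
    (Y : FEt.Cat X) [ConnectedSpace Y.left] :
    ConnectedSpace ↥(pullback Y.hom (PicF2.zeroScheme L s).subschemeι) := by
  haveI : IsFinite Y.hom := Y.prop.1
  haveI : Etale Y.hom := Y.prop.2
  let π : Y.left ⟶ X := Y.hom
  haveI : IsFinite π := Y.prop.1
  haveI : Etale π := Y.prop.2
  haveI : IsNoetherianRing (CommRingCat.of k) := inferInstanceAs (IsNoetherianRing k)
  haveI : IsLocallyNoetherian X := LocallyOfFiniteType.isLocallyNoetherian f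
  haveI : IsIntegral Y.left := Groth.Pi1Normal.isIntegral_of_connectedSpace hN π
  haveI : Surjective π := by
    refine ⟨Set.range_eq_univ.1 (IsClopen.eq_univ ⟨π.isClosedMap.isClosed_range, ?_⟩ (Set.range_nonempty _))⟩
    exact π.isOpenMap.isOpen_range
  have hdim' : (2 : WithBot ℕ∞) ≤ topologicalKrullDim Y.left :=
    hdim.trans (Groth.AlgSpBasic.topologicalKrullDim_le_of_etale_surjective π)
  obtain ⟨U, hU, hZ⟩ := Groth.Pi1Ample.exists_affine_compl f hL s
  have h := Groth.Pi1Ample.isConnected_preimage_of_finite f π hdim' hU
  rw [← hZ, ← Scheme.IdealSheafData.range_subschemeι] at h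
  let q := Limits.pullback.fst Y.hom (PicF2.zeroScheme L s).subschemeι
  haveI : IsClosedImmersion q := MorphismProperty.pullback_fst _ _ inferInstance
  rw [show π.base ⁻¹' Set.range (PicF2.zeroScheme L s).subschemeι.base = Set.range q.base from
    (Scheme.Pullback.range_fst Y.hom (PicF2.zeroScheme L s).subschemeι).symm, ← Set.image_univ] at h
  exact connectedSpace_iff_univ.2 ⟨Set.image_nonempty.1 h.1,
    q.isClosedEmbedding.isInducing.isPreconnected_image.1 h.2⟩

end Groth.Agent.S15551
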