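import Groth.Statements.S15552
import Groth.Agent.CategoryFibred.Contractible

set_option autoImplicit false
universe v₁ v₂ v₃ u₁ u₂ u₃
open CategoryTheory
open FibCat

namespace Groth.Agent.S15552
open Groth.CatFib
open scoped CategoryTheory.BasedFunctor

lemma lift_map {C : Type u₁} [Category.{v₁} C] {D : Type u₂} [Category.{v₂} D] {q : C ⥤ D} {F : Type u₃}
    [Category.{v₃} F] {p : F ⥤ D} (s : C ⥤ F) (hs : s ⋙ p = q) {c c' : C} (h : c ⟶ c') :
    p.IsHomLift (q.map h) (s.map h) := by
  subst hs
  exact (inferInstance : p.IsHomLift (p.map (s.map h)) (s.map h))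

/-- Let φ : C ⥤ D be a functor such that, for every object Y of D, the comma category (Y/φ) of arrows Y
⟶ φ X is non-empty and has trivial fundamental groupoid in the sense that for every groupoid G the
constant-functor functor G ⥤ ((Y/φ) ⥤ G) is an equivalence; let p : F ⥤ D be a category fibred in
groupoids over D. Then restriction along φ, from sections of F over D (functors D ⥤ F over D, with
natural transformations over identities) to sections of F over the diagram φ (functors C ⥤ F over
D), is an equivalence of categories. (The published statement allows any fibred category F with its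
cartesian sections; this row takes F fibred in groupoids, where every arrow is cartesian and every
section is a cartesian section. The test groupoids G are taken with objects and morphisms in a
universe level containing all the categories involved.) -/
theorem result
    {C : Type u₁} [Category.{v₁} C] {D : Type u₂} [Category.{v₂} D] {F : Type u₃} [Category.{v₃} F]
    (φ : C ⥤ D) (p : F ⥤ D) [FibCat.IsFibGrpd p]
    (hφ : ∀ Y : D, W4c2modmodulilect.HasContractibleNerve.{max u₁ u₂ u₃ v₁ v₂ v₃, max u₁ u₂ u₃ v₁ v₂ v₃} (StructuredArrow Y φ)) :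
    (Stk.restr (FibCat.toSelf (BasedCategory.ofFunctor φ)) (BasedCategory.ofFunctor p)).IsEquivalence := by
  have hp : FibCat.IsFibGrpd p := inferInstance
  let R := Stk.restr (FibCat.toSelf (BasedCategory.ofFunctor φ)) (BasedCategory.ofFunctor p)
  change R.IsEquivalence
  have hlift : ∀ (s : FibCat.selfOver D ⥤ᵇ BasedCategory.ofFunctor p) {Y Z : D} (b : Y ⟶ Z),
      p.IsHomLift b (s.toFunctor.map b) := fun s {Y Z} b => lift_map s.toFunctor s.w b
  have : R.Faithful := ⟨fun {s t} α β h => BasedNatTrans.homCategory.ext _ _
    (Contractible.ext_of_restrict hp hφ (s := s.toFunctor) (t := t.toFunctor) (hlift t) α.toNatTrans β.toNatTrans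
      (fun Y => α.isHomLift' Y) (fun Y => β.isHomLift' Y) (fun c => congrArg (fun g => g.toNatTrans.app c) h))⟩
  have : R.Full := by
    refine ⟨fun {s t} γ => ?_⟩
    obtain ⟨α, hα, hαγ⟩ := Contractible.exists_extend hp hφ (s := s.toFunctor) (t := t.toFunctor) (hlift s) (hlift t)
      γ.toNatTrans (fun c => γ.isHomLift' c)
    exact ⟨{ toNatTrans := α, isHomLift' := hα }, BasedNatTrans.homCategory.ext _ _ (NatTrans.ext (funext hαγ))⟩
  have : R.EssSurj := by
    refine ⟨fun G => ?_⟩
    obtain ⟨L, hL, θ, hθ⟩ := Contractible.exists_section hp hφ G.toFunctor (fun h => lift_map G.toFunctor G.w h)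
      (fun c => Functor.congr_obj G.w c)
    exact ⟨{ toFunctor := L, w := hL }, ⟨BasedNatIso.mkNatIso θ hθ⟩⟩
  exact { }

end Groth.Agent.S15552
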