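import Groth.Statements.S4228
import Groth.Agent.EtaleAlgebra.EtaleCriterion
import Groth.Agent.Variety2.DimAffine
import Mathlib
-- import your own Groth.Agent.* helpers here

set_option autoImplicit false
open CategoryTheory AlgebraicGeometry
universe u
open An

namespace Groth.Agent.S4228

section Helpers

open TensorProduct KaehlerDifferential

variable (k : Type u) [Field k] {A : Type u} [CommRing A] [Algebra k A] {n r : ℕ} (x : Fin n → A)

theorem nontrivial_away {R : Type u} [CommRing R] (t : R) (C : Type u) [CommRing C] [Algebra R C]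
    [IsLocalization.Away t C] (P : Ideal R) (hP : P.IsPrime) (ht : t ∉ P) : Nontrivial C := by
  refine ⟨1, 0, fun h => ?_⟩
  obtain ⟨⟨_, i, rfl⟩, hi⟩ := (IsLocalization.map_eq_zero_iff (Submonoid.powers t) C 1).mp (by rw [map_one, h])
  exact ht (hP.mem_of_pow_mem i (by simpa using (show t ^ i * 1 ∈ P by rw [show t ^ i * 1 = 0 from hi]; exact P.zero_mem)))

theorem span_D_eq_top (hx : Function.Surjective (MvPolynomial.aeval x : MvPolynomial (Fin n) k →ₐ[k] A)) :
    Submodule.span A (Set.range fun i => D k A (x i)) = ⊤ := by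
  rw [eq_top_iff, ← span_range_derivation, Submodule.span_le]
  rintro _ ⟨a, rfl⟩
  obtain ⟨P, rfl⟩ := hx a
  induction P using MvPolynomial.induction_on with
  | C c => simp [Derivation.map_algebraMap]
  | add P Q hP hQ => rw [map_add, map_add]; exact add_mem hP hQ
  | mul_X P i hP =>
    rw [map_mul, MvPolynomial.aeval_X, Derivation.leibniz]
    exact add_mem (Submodule.smul_mem _ _ (Submodule.subset_span ⟨i, rfl⟩)) (Submodule.smul_mem _ _ hP)

theorem ringKrullDim_le_of_components (hdim : ∀ P ∈ minimalPrimes A, ringKrullDim (A ⧸ P) = r) :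
    ringKrullDim A ≤ r := by
  refine iSup_le fun l => ?_
  obtain ⟨P, hP, hPle⟩ := Ideal.exists_minimalPrimes_le (I := (⊥ : Ideal A)) (J := l.head.asIdeal) bot_le
  rw [← hdim P hP, ringKrullDim_quotient]
  let l' : LTSeries (PrimeSpectrum.zeroLocus (P : Set A)) :=
    LTSeries.mk l.length (fun i => ⟨l i, fun a ha => (LTSeries.head_le l i) (hPle ha)⟩)
      (fun i j hij => LTSeries.strictMono l hij)
  exact le_iSup (fun l : LTSeries (PrimeSpectrum.zeroLocus (P : Set A)) => (l.length : WithBot ℕ∞)) l'

theorem height_maximal_eq [Algebra.FiniteType k A]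
    (hdim : ∀ P ∈ minimalPrimes A, ringKrullDim (A ⧸ P) = r) (N : Ideal A) [N.IsMaximal] :
    N.height = r := by
  refine le_antisymm ?_ ?_
  · have h := (Ideal.height_le_ringKrullDim_of_ne_top (I := N) (Ideal.IsMaximal.ne_top ‹_›)).trans
      (ringKrullDim_le_of_components hdim)
    exact_mod_cast h
  · obtain ⟨P, hP, hPle⟩ := Ideal.exists_minimalPrimes_le (I := (⊥ : Ideal A)) (J := N) bot_le
    have : P.IsPrime := hP.1.1
    have : Algebra.FiniteType k (A ⧸ P) := inferInstance
    obtain ⟨s, -, hs, hm⟩ := Groth.Variety2.Dim.exists_dim k (A ⧸ P)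
    have hsr : s = r := by
      have := hs.symm.trans (hdim P hP)
      exact_mod_cast this
    subst hsr
    have hN : (N.map (Ideal.Quotient.mk P)).IsMaximal :=
      Ideal.map_eq_top_or_isMaximal_of_surjective _ Ideal.Quotient.mk_surjective ‹_› |>.resolve_left (by
        intro h
        have := congrArg (Ideal.comap (Ideal.Quotient.mk P)) h
        rw [Ideal.comap_map_of_surjective' _ Ideal.Quotient.mk_surjective, Ideal.mk_ker, sup_eq_left.mpr hPle,
          Ideal.comap_top] at this
        exact Ideal.IsMaximal.ne_top ‹_› this)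
    have hc : PrimeSpectrum.comap (Ideal.Quotient.mk P) ⟨_, hN.isPrime⟩ =
        (⟨N, inferInstance⟩ : PrimeSpectrum A) := by
      ext1
      change (N.map _).comap _ = N
      rw [Ideal.comap_map_of_surjective' _ Ideal.Quotient.mk_surjective, Ideal.mk_ker, sup_eq_left.mpr hPle]
    have hmono : Monotone (PrimeSpectrum.comap (Ideal.Quotient.mk P)) := fun a b hab => Ideal.comap_mono hab
    have h := Order.height_le_height_apply_of_strictMono (PrimeSpectrum.comap (Ideal.Quotient.mk P))
      (hmono.strictMono_of_injective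
        (PrimeSpectrum.comap_injective_of_surjective _ Ideal.Quotient.mk_surjective)) ⟨_, hN.isPrime⟩
    rw [hc, ← PrimeSpectrum.height_eq_orderHeight, ← PrimeSpectrum.height_eq_orderHeight] at h
    exact (hm _ hN).ge.trans h

/-- A chart has the expected number of coordinates. -/
theorem card_eq [Algebra.FiniteType k A] (hdim : ∀ P ∈ minimalPrimes A, ringKrullDim (A ⧸ P) = r)
    (t : A) (C : Type u) [CommRing C] [Algebra k C] [Algebra A C] [IsScalarTower k A C]
    [IsLocalization.Away t C] [Nontrivial C] (s : ℕ)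
    [Algebra.IsStandardSmoothOfRelativeDimension s k C] : s = r := by
  obtain ⟨g, hg⟩ := Algebra.IsStandardSmoothOfRelativeDimension.exists_etale_mvPolynomial s k C
  let _ := g.toRingHom.toAlgebra
  have : IsScalarTower k (MvPolynomial (Fin s) k) C :=
    IsScalarTower.of_algebraMap_eq fun c => (g.commutes c).symm
  have : Algebra.Etale (MvPolynomial (Fin s) k) C := hg
  have : Algebra.FiniteType A C := IsLocalization.finiteType_of_monoid_fg (Submonoid.powers t) _
  have : Algebra.FiniteType k C := Algebra.FiniteType.trans (S := A) inferInstance ‹_›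
  have : IsJacobsonRing A := isJacobsonRing_of_finiteType (A := k) (B := A)
  obtain ⟨M, hM⟩ := Ideal.exists_maximal C
  have h := Groth.Agent.EtaleAlgebra.EtaleCriterion.ringKrullDim_atPrime_of_etale (k := k) (n := s) M
  rw [IsLocalization.AtPrime.ringKrullDim_eq_height M] at h
  obtain ⟨hmax, htM⟩ := (IsLocalization.isMaximal_iff_isMaximal_disjoint (S := C) t M).mp hM
  have := height_maximal_eq k hdim (M.comap (algebraMap A C))
  rw [← IsLocalization.height_comap (Submonoid.powers t) M, this] at h
  exact_mod_cast h.symm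

/-- A map from a polynomial ring in more variables than the dimension is not injective. -/
theorem not_injective_of_dim_le {R : Type u} [CommRing R] [Algebra k R] [Algebra.FiniteType k R]
    (hR : ringKrullDim R ≤ n) (φ : MvPolynomial (Fin (n + 1)) k →ₐ[k] R) : ¬ Function.Injective φ := by
  intro hinj
  obtain ⟨Q, hQ, hQc⟩ := Ideal.exists_minimalPrimes_comap_eq (I := (⊥ : Ideal R)) φ.toRingHom ⊥ (by
    have hb : Ideal.comap φ.toRingHom (⊥ : Ideal R) = ⊥ :=
      (RingHom.injective_iff_ker_eq_bot _).mp hinj
    rw [hb, Ideal.minimalPrimes_eq_subsingleton_self]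
    rfl)
  have : Q.IsPrime := hQ.1.1
  obtain ⟨s, hs, hs', -⟩ := Groth.Variety2.Dim.exists_dim k (R ⧸ Q)
  have hφ : Function.Injective ((Ideal.Quotient.mkₐ k Q).comp φ) := by
    rw [injective_iff_map_eq_zero]
    intro P hP
    have : P ∈ Ideal.comap φ.toRingHom Q :=
      Ideal.mem_comap.mpr (Ideal.Quotient.eq_zero_iff_mem.mp hP)
    rwa [hQc] at this
  have hi : Function.Injective (IsScalarTower.toAlgHom k (R ⧸ Q) (FractionRing (R ⧸ Q))) :=
    IsFractionRing.injective (R ⧸ Q) (FractionRing (R ⧸ Q))
  have h1 := (trdeg_le_of_injective _ hφ).trans (trdeg_le_of_injective _ hi)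
  rw [MvPolynomial.trdeg_of_isDomain, hs, Cardinal.mk_fin, Cardinal.lift_natCast, Nat.cast_le] at h1
  have h2 : (s : WithBot ℕ∞) ≤ n :=
    hs' ▸ (ringKrullDim_le_of_surjective _ Ideal.Quotient.mk_surjective).trans hR
  norm_cast at h2
  omega

/-- The linear map given by a family of coordinates. -/
noncomputable abbrev coordMap (S : Fin r → Fin n) : (Fin r →₀ A) →ₗ[A] Ω[A⁄k] :=
  Finsupp.linearCombination A fun j => D k A (x (S j))

theorem exists_chart [Algebra.FiniteType k A]
    (hx : Function.Surjective (MvPolynomial.aeval x : MvPolynomial (Fin n) k →ₐ[k] A))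
    (hdim : ∀ P ∈ minimalPrimes A, ringKrullDim (A ⧸ P) = r)
    (p : PrimeSpectrum A) (hp : p ∈ Algebra.smoothLocus k A) :
    ∃ t, t ∉ p.asIdeal ∧ ∃ S : Fin r → Fin n, Function.Injective S ∧ ∀ t', t ∣ t' →
      ∃ b : Module.Basis (Fin r) (Localization.Away t') Ω[Localization.Away t'⁄k],
        (∀ j, b j = D k _ (algebraMap A _ (x (S j)))) ∧ Algebra.Smooth k (Localization.Away t') := by
  classical
  have : Algebra.FinitePresentation k A := Algebra.FinitePresentation.of_finiteType.mp inferInstance
  have : IsNoetherianRing A := Algebra.FiniteType.isNoetherianRing k A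
  have : Algebra.IsSmoothAt k p.asIdeal := hp
  obtain ⟨f₀, hf₀, hsm⟩ := Algebra.IsSmoothAt.exists_notMem_smooth k p.asIdeal
  let Ap := Localization.AtPrime p.asIdeal
  let l₂ : Ω[A⁄k] →ₗ[A] Ω[Ap⁄k] := KaehlerDifferential.map k k A Ap
  have hsp : Submodule.span Ap (Set.range fun i : ULift.{u} (Fin n) => l₂ (D k A (x i.down))) = ⊤ := by
    have := span_eq_top_of_isLocalizedModule Ap p.asIdeal.primeCompl l₂ (span_D_eq_top k x hx)
    rw [← Set.range_comp] at this
    rw [← this]
    congr 1
    ext z
    constructor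
    · rintro ⟨i, rfl⟩; exact ⟨i.down, rfl⟩
    · rintro ⟨i, rfl⟩; exact ⟨⟨i⟩, rfl⟩
  obtain ⟨κ, a, b, hb⟩ := Module.exists_basis_of_span_of_flat _ hsp
  have : Finite κ := Module.Finite.finite_basis b
  have hainj : Function.Injective a := fun i j h => b.injective (by rw [hb, hb, h])
  obtain ⟨s, ⟨eκ⟩⟩ := Finite.exists_equiv_fin κ
  let S : Fin s → Fin n := fun j => (a (eκ.symm j)).down
  have hS : Function.Injective S :=
    (Equiv.ulift.injective.comp hainj).comp eκ.symm.injective
  let b' := b.reindex eκ
  have hb' : ∀ j, b' j = l₂ (D k A (x (S j))) := fun j => by rw [Module.Basis.reindex_apply, hb]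
  let e := coordMap k x S
  let l₁ : (Fin s →₀ A) →ₗ[A] (Fin s →₀ Ap) := Finsupp.mapRange.linearMap (Algebra.linearMap A Ap)
  let ep : (Fin s →₀ Ap) →ₗ[Ap] Ω[Ap⁄k] :=
    IsLocalizedModule.mapExtendScalars p.asIdeal.primeCompl l₁ l₂ Ap e
  have hep : ep = b'.repr.symm := by
    ext i
    trans IsLocalizedModule.map p.asIdeal.primeCompl l₁ l₂ e <| l₁ <| Finsupp.single i 1
    · simp [ep, -IsLocalizedModule.map_apply, l₁]
    · simp [e, coordMap, hb']
  have hepb : Function.Bijective ep := hep ▸ b'.repr.symm.bijective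
  obtain ⟨g, hg, hgb⟩ := exists_bijective_map_powers p.asIdeal.primeCompl l₁ l₂ e hepb
  have hchart : ∀ t', f₀ * g ∣ t' →
      ∃ b : Module.Basis (Fin s) (Localization.Away t') Ω[Localization.Away t'⁄k],
        (∀ j, b j = D k _ (algebraMap A _ (x (S j)))) ∧ Algebra.Smooth k (Localization.Away t') := by
    intro t' ht'
    have h := hgb t' ((dvd_mul_left g f₀).trans ht')
    let l₁ₜ : (Fin s →₀ A) →ₗ[A] (Fin s →₀ Localization.Away t') :=
      Finsupp.mapRange.linearMap (Algebra.linearMap A _)
    let l₂ₜ : Ω[A⁄k] →ₗ[A] Ω[Localization.Away t'⁄k] := KaehlerDifferential.map k k A (Localization.Away t')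
    rw [← IsLocalizedModule.map_bijective_iff_localizedModuleMap_bijective l₁ₜ l₂ₜ] at h
    let et : (Fin s →₀ Localization.Away t') →ₗ[Localization.Away t'] Ω[Localization.Away t'⁄k] :=
      IsLocalizedModule.mapExtendScalars (Submonoid.powers t') l₁ₜ l₂ₜ (Localization.Away t') e
    refine ⟨.ofRepr (LinearEquiv.ofBijective et h).symm, fun j => ?_, ?_⟩
    · trans IsLocalizedModule.map (Submonoid.powers t') l₁ₜ l₂ₜ e <| l₁ₜ <| Finsupp.single j 1
      · simp [et, -IsLocalizedModule.map_apply, l₁ₜ]
      · simp [e, coordMap, l₂ₜ]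
    · refine Algebra.basicOpen_subset_smoothLocus_iff_smooth.mp (Set.Subset.trans ?_
        (Algebra.basicOpen_subset_smoothLocus_iff_smooth.mpr hsm))
      intro q hq hmem
      exact hq (Ideal.mem_of_dvd _ ((dvd_mul_right f₀ g).trans ht') hmem)
  have ht : f₀ * g ∉ p.asIdeal := Ideal.IsPrime.mul_notMem p.2 hf₀ hg
  obtain ⟨bt, hbt, hsmt⟩ := hchart _ dvd_rfl
  have : Nontrivial (Localization.Away (f₀ * g)) := nontrivial_away (f₀ * g) _ p.asIdeal p.2 ht
  have := hsmt.1
  have : Algebra.IsStandardSmooth k (Localization.Away (f₀ * g)) :=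
    .of_basis_kaehlerDifferential bt (by rintro - ⟨j, rfl⟩; exact ⟨_, (hbt j).symm⟩)
  have : Algebra.IsStandardSmoothOfRelativeDimension s k (Localization.Away (f₀ * g)) := by
    rw [Algebra.IsStandardSmoothOfRelativeDimension.iff_of_isStandardSmooth, rank_eq_card_basis bt,
      Fintype.card_fin]
  obtain rfl := card_eq k hdim (f₀ * g) (Localization.Away (f₀ * g)) s
  exact ⟨_, ht, S, hS, hchart⟩

/-- The bad parameters of a chart lie in a hypersurface. -/
theorem exists_bad (C : Type u) [CommRing C] [Algebra k C] [Algebra.FiniteType k C]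
    (hC : ringKrullDim C ≤ r) (y : Fin n → C) (S : Fin r → Fin n) (hS : Function.Injective S)
    (b : Module.Basis (Fin r) C Ω[C⁄k]) (hb : ∀ j, b j = D k C (y (S j))) :
    ∃ g : MvPolynomial (Fin (n + 1)) k, g ≠ 0 ∧ ∀ a : Fin (n + 1) → k, MvPolynomial.eval a g ≠ 0 →
      ∀ P : Ideal C, P.IsPrime → algebraMap k C (a 0) + ∑ i, algebraMap k C (a i.succ) * y i ∈ P →
        ∃ j, b.repr (D k C (algebraMap k C (a 0) + ∑ i, algebraMap k C (a i.succ) * y i)) j ∉ P := by
  classical
  let c : Fin n → Fin r → C := fun i j => b.repr (D k C (y i)) j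
  let σ := {i : Fin n // ¬ i ∈ Set.range S}
  let R := MvPolynomial σ C
  have hrn : r ≤ n := by simpa using Fintype.card_le_of_injective S hS
  have hσ : Nat.card σ = n - r := by
    rw [Nat.card_eq_fintype_card, Fintype.card_subtype_compl, Fintype.card_fin]
    congr 1
    rw [← Nat.card_eq_fintype_card, Nat.card_range_of_injective hS, Nat.card_eq_fintype_card, Fintype.card_fin]
  let Y : Fin n → R := fun i =>
    if h : i ∈ Set.range S then -∑ l : σ, MvPolynomial.C (c l.1 h.choose) * MvPolynomial.X l
    else MvPolynomial.X ⟨i, h⟩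
  let φ : MvPolynomial (Fin (n + 1)) k →ₐ[k] R :=
    MvPolynomial.aeval (Fin.cons (-∑ i, MvPolynomial.C (y i) * Y i) Y)
  have : IsNoetherianRing C := Algebra.FiniteType.isNoetherianRing k C
  have : Algebra.FiniteType k R := Algebra.FiniteType.trans (S := C) inferInstance inferInstance
  have hR : ringKrullDim R ≤ n := by
    rw [MvPolynomial.ringKrullDim_of_isNoetherianRing, hσ]
    refine (add_le_add_left hC _).trans ?_
    norm_cast
    omega
  obtain ⟨g, hg, hg0⟩ : ∃ g, φ g = 0 ∧ g ≠ 0 := by
    by_contra hcon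
    push Not at hcon
    exact not_injective_of_dim_le k hR φ ((injective_iff_map_eq_zero _).mpr hcon)
  refine ⟨g, hg0, fun a ha P hP hh => ?_⟩
  by_contra hcon
  push Not at hcon
  let q := Ideal.Quotient.mk P
  let ψ : R →+* C ⧸ P := MvPolynomial.eval₂Hom q fun l => q (algebraMap k C (a l.1.succ))
  have hu : ∀ j, q (algebraMap k C (a (S j).succ)) =
      -∑ l : σ, q (c l.1 j) * q (algebraMap k C (a l.1.succ)) := by
    intro j
    have h1 : q (b.repr (D k C (algebraMap k C (a 0) + ∑ i, algebraMap k C (a i.succ) * y i)) j) = 0 :=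
      Ideal.Quotient.eq_zero_iff_mem.mpr (hcon j)
    have h2 : b.repr (D k C (algebraMap k C (a 0) + ∑ i, algebraMap k C (a i.succ) * y i)) j =
        ∑ i, algebraMap k C (a i.succ) * c i j := by
      rw [map_add, Derivation.map_algebraMap, zero_add, map_sum]
      simp only [c, Derivation.leibniz, Derivation.map_algebraMap, smul_zero, add_zero, map_sum, map_smul,
        Finsupp.finsetSum_apply, Finsupp.smul_apply, smul_eq_mul]
    have h3 : ∑ i, algebraMap k C (a i.succ) * c i j =
        (∑ j', algebraMap k C (a (S j').succ) * c (S j') j) + ∑ l : σ, algebraMap k C (a l.1.succ) * c l.1 j := by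
      rw [← Fintype.sum_subtype_add_sum_subtype (fun i => i ∈ Set.range S) fun i => algebraMap k C (a i.succ) * c i j]
      congr 1
      convert! (Fintype.sum_equiv (Equiv.ofInjective S hS) (fun j' => algebraMap k C (a (S j').succ) * c (S j') j)
        (fun i : {i // i ∈ Set.range S} => algebraMap k C (a i.1.succ) * c i.1 j) fun _ => rfl).symm using 2
      ext; simp
    have hδ : ∀ j', c (S j') j = if j' = j then 1 else 0 := fun j' => by
      show b.repr (D k C (y (S j'))) j = _
      rw [← hb, b.repr_self, Finsupp.single_apply]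
    rw [h2, h3] at h1
    simp only [hδ, mul_ite, mul_one, mul_zero, Finset.sum_ite_eq', Finset.mem_univ, if_true,
      map_add, add_eq_zero_iff_eq_neg] at h1
    rw [h1, map_sum]
    exact congrArg _ (Finset.sum_congr rfl fun l _ => by rw [map_mul, mul_comm])
  have hψC : ∀ z, ψ (MvPolynomial.C z) = q z := fun z => MvPolynomial.eval₂Hom_C _ _ z
  have hψX : ∀ l, ψ (MvPolynomial.X l) = q (algebraMap k C (a l.1.succ)) := fun l =>
    MvPolynomial.eval₂Hom_X' _ _ l
  have hY : ∀ i, ψ (Y i) = q (algebraMap k C (a i.succ)) := by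
    intro i
    simp only [Y]
    split_ifs with h
    · conv_rhs => rw [← h.choose_spec, hu]
      rw [map_neg, map_sum]
      exact congrArg _ (Finset.sum_congr rfl fun l _ => by rw [map_mul, hψC, hψX])
    · exact hψX _
  have hcomp : ψ.comp φ.toRingHom = (algebraMap k (C ⧸ P)).comp (MvPolynomial.eval a) := by
    refine MvPolynomial.ringHom_ext (fun c' => ?_) (Fin.cases ?_ fun i => ?_)
    · rw [RingHom.comp_apply, RingHom.comp_apply, MvPolynomial.eval_C,
        show φ.toRingHom (MvPolynomial.C c') = (MvPolynomial.C (algebraMap k C c') : R) from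
          MvPolynomial.aeval_C _ c', hψC]
      rfl
    · have h0 : q (algebraMap k C (a 0)) + ∑ i, q (algebraMap k C (a i.succ)) * q (y i) = 0 := by
        have := Ideal.Quotient.eq_zero_iff_mem.mpr hh
        simpa [q, map_sum] using this
      simp only [φ, RingHom.comp_apply, AlgHom.toRingHom_eq_coe, RingHom.coe_coe, MvPolynomial.aeval_X,
        Fin.cons_zero, map_neg, map_sum, map_mul, hY, MvPolynomial.eval_X]
      simp only [hψC]
      rw [neg_eq_iff_add_eq_zero, IsScalarTower.algebraMap_apply k C (C ⧸ P)]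
      refine Eq.trans ?_ h0
      rw [add_comm]
      exact congrArg _ (Finset.sum_congr rfl fun i _ => mul_comm _ _)
    · simp [φ, hY]
      rfl
  have := RingHom.congr_fun hcomp g
  rw [RingHom.comp_apply, RingHom.comp_apply, show φ.toRingHom g = 0 from hg, map_zero] at this
  exact ha ((map_eq_zero _).mp this.symm)

/-- Smoothness of a hyperplane section in coordinates. -/
theorem smooth_section (C : Type u) [CommRing C] [Algebra k C] [Algebra.Smooth k C] (y : Fin r → C)
    (b : Module.Basis (Fin r) C Ω[C⁄k]) (hb : ∀ j, b j = D k C (y j)) (h : C) (j : Fin r)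
    (hj : IsUnit (b.repr (D k C h) j)) [Nontrivial (C ⧸ Ideal.span {h})] :
    Algebra.IsStandardSmoothOfRelativeDimension (r - 1) k (C ⧸ Ideal.span {h}) := by
  classical
  let E := C ⧸ Ideal.span {h}
  have hsurj : Function.Surjective (algebraMap C E) := Ideal.Quotient.mk_surjective
  obtain ⟨u, hu⟩ := hj
  let ρ : Ω[C⁄k] →ₗ[C] C := (↑u⁻¹ : C) • b.coord j
  have hρ : ρ (D k C h) = 1 := by simp [ρ, ← hu]
  have hgker : h ∈ RingHom.ker (algebraMap C E) :=
    RingHom.mem_ker.2 (Ideal.Quotient.eq_zero_iff_mem.2 (Ideal.mem_span_singleton_self h))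
  let cls := (RingHom.ker (algebraMap C E)).toCotangent ⟨h, hgker⟩
  have hkill : ∀ w ∈ Ideal.span {h}, w • cls = 0 := by
    intro w hw
    obtain ⟨v, rfl⟩ := Ideal.mem_span_singleton'.1 hw
    rw [mul_smul, ← LinearMap.map_smul]
    have : (RingHom.ker (algebraMap C E)).toCotangent (h • ⟨h, hgker⟩) = 0 := by
      rw [Ideal.toCotangent_eq_zero, pow_two]
      exact Ideal.mul_mem_mul hgker hgker
    rw [this, smul_zero]
  let ls : E →ₗ[C] (RingHom.ker (algebraMap C E)).Cotangent :=
    Submodule.liftQ _ (LinearMap.toSpanSingleton C _ cls) fun w hw => hkill w hw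
  have hfs : Algebra.FormallySmooth k E := by
    rw [Algebra.FormallySmooth.iff_split_injection (R := k) (P := C) (A := E) hsurj]
    refine ⟨TensorProduct.lift (LinearMap.mk₂ C (fun (s : E) ω => ρ ω • ls s)
      (fun s s' ω => by rw [map_add, smul_add])
      (fun e s ω => by rw [map_smul, smul_comm])
      (fun s ω ω' => by rw [map_add, add_smul])
      (fun e s ω => by rw [map_smul, smul_eq_mul, mul_smul])), ?_⟩
    refine LinearMap.ext fun w => ?_
    obtain ⟨⟨w, hw⟩, rfl⟩ := Ideal.toCotangent_surjective _ w
    obtain ⟨v, hv⟩ := Ideal.mem_span_singleton'.1 (Ideal.Quotient.eq_zero_iff_mem.1 (RingHom.mem_ker.1 hw))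
    subst hv
    rw [LinearMap.comp_apply, kerCotangentToTensor_toCotangent, TensorProduct.lift.tmul, LinearMap.id_apply]
    change ρ (D k C (v * h)) • ls (Ideal.Quotient.mk _ 1) = _
    have hl1 : ls (Ideal.Quotient.mk _ 1) = cls := one_smul C cls
    have e1 : ρ (D k C (v * h)) • cls = v • cls := by
      rw [Derivation.leibniz, map_add, map_smul, map_smul, hρ, smul_eq_mul, smul_eq_mul, mul_one, add_smul,
        hkill _ (Ideal.mem_span_singleton'.2 ⟨_, mul_comm _ _⟩), add_zero]
    rw [hl1, e1, ← LinearMap.map_smul]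
    rfl
  have : Algebra.FinitePresentation k E := by
    have : Algebra.FinitePresentation k C := inferInstance
    exact Algebra.FinitePresentation.quotient ⟨{h}, by simp⟩
  have : Algebra.Smooth k E := ⟨hfs, inferInstance⟩
  -- the basis
  let v : {i : Fin r // i ≠ j} → Ω[E⁄k] := fun i => D k E (algebraMap C E (y i.1))
  let M := mapBaseChange k C E
  let bE := b.baseChange E
  have hbE : ∀ i, M (bE i) = D k E (algebraMap C E (y i)) := fun i => by
    simp [M, bE, hb]
  have hli : LinearIndependent E v := by
    rw [Fintype.linearIndependent_iff]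
    intro c hc i
    let z : E ⊗[C] Ω[C⁄k] := ∑ i, c i • bE i.1
    have hz : M z = 0 := by simpa [z, map_sum, hbE, v] using hc
    obtain ⟨w, hw⟩ := (exact_kerCotangentToTensor_mapBaseChange k C E hsurj z).mp hz
    obtain ⟨⟨w, hw'⟩, rfl⟩ := Ideal.toCotangent_surjective _ w
    obtain ⟨t, ht⟩ := Ideal.mem_span_singleton'.1 (Ideal.Quotient.eq_zero_iff_mem.1 (RingHom.mem_ker.1 hw'))
    subst ht
    rw [kerCotangentToTensor_toCotangent] at hw
    have hh0 : algebraMap C E h = 0 := RingHom.mem_ker.mp hgker
    have hw2 : ∀ l, bE.repr z l = algebraMap C E (t * b.repr (D k C h) l) := by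
      intro l
      rw [← hw]
      simp [bE, Derivation.leibniz, Algebra.smul_def, hh0]
    have hzl : ∀ l, bE.repr z l = if hl : l ≠ j then c ⟨l, hl⟩ else 0 := by
      intro l
      simp only [z, map_sum, map_smul, Module.Basis.repr_self, Finsupp.finsetSum_apply, Finsupp.smul_apply,
        smul_eq_mul, Finsupp.single_apply, mul_ite, mul_one, mul_zero]
      split_ifs with hl
      · rw [Fintype.sum_eq_single (⟨l, hl⟩ : {i // i ≠ j}) fun i hi =>
          if_neg fun h' => hi (Subtype.ext h'), if_pos rfl]
      · exact Finset.sum_eq_zero fun i _ => if_neg fun h' => i.2 (h'.trans (not_not.mp hl))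
    have ht0 : algebraMap C E t = 0 := by
      have := (hw2 j).symm.trans (hzl j)
      rw [dif_neg (by simp), map_mul, ← hu] at this
      exact ((u.isUnit.map (algebraMap C E)).mul_left_eq_zero).mp this
    have := (hzl i.1).symm.trans (hw2 i.1)
    rw [dif_pos i.2, map_mul, ht0, zero_mul] at this
    exact this
  have hsp : ⊤ ≤ Submodule.span E (Set.range v) := by
    have hall : ∀ i, D k E (algebraMap C E (y i)) ∈ Submodule.span E (Set.range v) := by
      have h0 : ∑ i, algebraMap C E (b.repr (D k C h) i) • D k E (algebraMap C E (y i)) = 0 := by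
        have h1 : KaehlerDifferential.map k k C E (D k C h) = 0 := by
          rw [map_D, RingHom.mem_ker.mp hgker, map_zero]
        rw [← b.sum_repr (D k C h), map_sum] at h1
        rw [← h1]
        exact Finset.sum_congr rfl fun i _ => by rw [map_smul, hb, map_D, algebraMap_smul]
      intro i
      by_cases hi : i = j
      · subst hi
        rw [← Finset.add_sum_erase _ _ (Finset.mem_univ i), add_eq_zero_iff_eq_neg] at h0
        have hui : algebraMap C E ↑u⁻¹ * algebraMap C E (b.repr (D k C h) i) = 1 := by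
          rw [← map_mul, ← hu, Units.inv_mul, map_one]
        rw [← one_smul E (D k E (algebraMap C E (y i))), ← hui, mul_smul, h0]
        exact Submodule.smul_mem _ _ (neg_mem (sum_mem fun l hl =>
          Submodule.smul_mem _ _ (Submodule.subset_span ⟨⟨l, Finset.ne_of_mem_erase hl⟩, rfl⟩)))
      · exact Submodule.subset_span ⟨⟨i, hi⟩, rfl⟩
    intro ω _
    obtain ⟨z, rfl⟩ := mapBaseChange_surjective k C E hsurj ω
    rw [← bE.sum_repr z, map_sum]
    exact sum_mem fun i _ => by
      rw [map_smul, hbE]; exact Submodule.smul_mem _ _ (hall i)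
  let bq := Module.Basis.mk hli hsp
  have : Algebra.IsStandardSmooth k E :=
    .of_basis_kaehlerDifferential bq (by rintro - ⟨i, rfl⟩; exact ⟨_, (Module.Basis.mk_apply hli hsp i).symm⟩)
  rw [Algebra.IsStandardSmoothOfRelativeDimension.iff_of_isStandardSmooth, rank_eq_card_basis bq]
  simp [Fintype.card_subtype_compl]

end Helpers

/-- In the affine hyperplane case to which the proof reduces (the published statement is for a
projective scheme V ⊆ P^n_k of pure dimension r and a general linear subspace of any dimension,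
parametrised by a dense open subset of the Grassmannian; part (ii), hypersurfaces of degree ≥ 2
through a point, is not stated here): let k be an infinite field (for a finite field the condition
below on coefficient vectors could hold at no rational point, so the dense-open formulation is
rendered only for infinite k) and A = k[x_1, …, x_n]/I a quotient of the polynomial ring (V = Spec A
⊆ A^n_k) such that every irreducible component of V has dimension r. Then there is a nonzero
polynomial g in the n + 1 coefficients such that for every a = (a_0, …, a_n) with g(a) ≠ 0 the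
hyperplane a_0 + Σ a_i x_i = 0 cuts V transversally at every point of the hyperplane section where V
is smooth over k: the section Spec (A/(a_0 + Σ a_i x_i)) is smooth over k of relative dimension r −
1 on a neighbourhood of each such point. -/
theorem result (k : Type u) [Field k] [Infinite k] (n r : ℕ) (A : Type u) [CommRing A]
    [Algebra k A] (x : Fin n → A)
    (hx : Function.Surjective (MvPolynomial.aeval x : MvPolynomial (Fin n) k →ₐ[k] A))
    (hdim : ∀ P ∈ minimalPrimes A, ringKrullDim (A ⧸ P) = r) :
    ∃ g : MvPolynomial (Fin (n + 1)) k, g ≠ 0 ∧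
      ∀ a : Fin (n + 1) → k, MvPolynomial.eval a g ≠ 0 →
        ∀ (q : Ideal (A ⧸ Ideal.span {algebraMap k A (a 0) + ∑ i : Fin n, algebraMap k A (a i.succ) * x i}))
          (_ : q.IsPrime),
          (∃ f : A, f ∉ q.comap (Ideal.Quotient.mk _) ∧
            Smooth (Spec.map (CommRingCat.ofHom (algebraMap k (Localization.Away f))))) →
          ∃ f : A ⧸ Ideal.span {algebraMap k A (a 0) + ∑ i : Fin n, algebraMap k A (a i.succ) * x i},
            f ∉ q ∧ SmoothOfRelativeDimension (r - 1)
              (Spec.map (CommRingCat.ofHom (algebraMap k (Localization.Away f)))) := by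
  classical
  have : Algebra.FiniteType k A := Algebra.FiniteType.of_surjective _ hx
  have : IsNoetherianRing A := Algebra.FiniteType.isNoetherianRing k A
  have : Algebra.FinitePresentation k A := Algebra.FinitePresentation.of_finiteType.mp inferInstance
  choose t ht S hS hchart using fun p : Algebra.smoothLocus k A => exists_chart k x hx hdim p.1 p.2
  have hg : ∀ p, ∃ g : MvPolynomial (Fin (n + 1)) k, g ≠ 0 ∧ ∀ a : Fin (n + 1) → k, MvPolynomial.eval a g ≠ 0 →
      ∀ P : Ideal (Localization.Away (t p)), P.IsPrime →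
        algebraMap k _ (a 0) + ∑ i, algebraMap k _ (a i.succ) * algebraMap A _ (x i) ∈ P →
        ∃ j, (hchart p _ dvd_rfl).choose.repr (KaehlerDifferential.D k _
          (algebraMap k _ (a 0) + ∑ i, algebraMap k _ (a i.succ) * algebraMap A _ (x i))) j ∉ P := by
    intro p
    have : Algebra.FiniteType A (Localization.Away (t p)) :=
      IsLocalization.finiteType_of_monoid_fg (Submonoid.powers (t p)) _
    have : Algebra.FiniteType k (Localization.Away (t p)) := Algebra.FiniteType.trans (S := A) inferInstance ‹_›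
    refine exists_bad k (Localization.Away (t p)) ?_ (fun i => algebraMap A _ (x i)) (S p) (hS p) _
      (hchart p _ dvd_rfl).choose_spec.1
    refine le_trans ?_ (ringKrullDim_le_of_components hdim)
    exact Order.krullDim_le_of_strictMono _ (Monotone.strictMono_of_injective
      (f := PrimeSpectrum.comap (algebraMap A (Localization.Away (t p)))) (fun _ _ hab => Ideal.comap_mono hab)
      (PrimeSpectrum.localization_comap_injective _ (Submonoid.powers (t p))))
  choose g hg0 hgood using hg
  obtain ⟨F, hF⟩ := (TopologicalSpace.NoetherianSpace.isCompact (Algebra.smoothLocus k A)).elim_finite_subcover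
    (fun p : Algebra.smoothLocus k A => (PrimeSpectrum.basicOpen (t p) : Set (PrimeSpectrum A)))
    (fun p => (PrimeSpectrum.basicOpen (t p)).2) (fun p hp => Set.mem_iUnion.mpr ⟨⟨p, hp⟩, ht ⟨p, hp⟩⟩)
  refine ⟨∏ p ∈ F, g p, Finset.prod_ne_zero_iff.mpr fun p _ => hg0 p, fun a ha q hq hsmq => ?_⟩
  let h := algebraMap k A (a 0) + ∑ i : Fin n, algebraMap k A (a i.succ) * x i
  obtain ⟨f, hf, hfsm⟩ := hsmq
  have hsm' : Algebra.Smooth k (Localization.Away f) :=
    RingHom.smooth_algebraMap.mp ((HasRingHomProperty.Spec_iff (P := @Smooth)).mp hfsm)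
  let pq : PrimeSpectrum A := ⟨q.comap (Ideal.Quotient.mk _), inferInstance⟩
  have hpq : pq ∈ Algebra.smoothLocus k A :=
    Algebra.basicOpen_subset_smoothLocus_iff_smooth.mpr hsm' hf
  obtain ⟨p, hpF, hpt⟩ := Set.mem_iUnion₂.mp (hF hpq)
  have hga : MvPolynomial.eval a (g p) ≠ 0 := fun h0 => ha (by
    rw [map_prod]; exact Finset.prod_eq_zero hpF h0)
  let C := Localization.Away (t p)
  let P : Ideal C := pq.asIdeal.map (algebraMap A C)
  have hd : Disjoint (Submonoid.powers (t p) : Set A) (pq.asIdeal : Set A) :=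
    (Ideal.disjoint_powers_iff_notMem_of_isPrime _).mpr hpt
  have hPprime : P.IsPrime := IsLocalization.isPrime_of_isPrime_disjoint _ C _ pq.2 hd
  have hhC : algebraMap A C h = algebraMap k C (a 0) + ∑ i, algebraMap k C (a i.succ) * algebraMap A C (x i) := by
    simp [h, map_sum, ← IsScalarTower.algebraMap_apply]
  have hhpq : h ∈ pq.asIdeal := by
    show Ideal.Quotient.mk _ h ∈ q
    rw [Ideal.Quotient.eq_zero_iff_mem.mpr (Ideal.mem_span_singleton_self h)]
    exact q.zero_mem
  obtain ⟨j, hj⟩ := hgood p a hga P hPprime (hhC ▸ Ideal.mem_map_of_mem _ hhpq)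
  rw [← hhC] at hj
  set b := (hchart p _ dvd_rfl).choose
  have hb := (hchart p _ dvd_rfl).choose_spec.1
  set u : C := b.repr (KaehlerDifferential.D k C (algebraMap A C h)) j
  obtain ⟨⟨v, s⟩, huv⟩ := IsLocalization.surj (Submonoid.powers (t p)) u
  have hv : v ∉ pq.asIdeal := by
    intro hv
    have : u * algebraMap A C s ∈ P := huv ▸ Ideal.mem_map_of_mem _ hv
    refine (hPprime.mem_or_mem this).elim hj fun hs => hPprime.ne_top ?_
    exact Ideal.eq_top_of_isUnit_mem _ hs (IsLocalization.map_units C s)
  let t' := t p * v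
  have ht' : t' ∉ pq.asIdeal := pq.2.mul_notMem hpt hv
  obtain ⟨b', hb', hsm''⟩ := hchart p t' (dvd_mul_right _ _)
  let C' := Localization.Away t'
  have hunit : ∀ z, z ∣ t' → IsUnit (algebraMap A C' z) := fun z hz =>
    isUnit_of_dvd_unit (map_dvd _ hz) (IsLocalization.Away.algebraMap_isUnit t')
  let ι : C →+* C' := IsLocalization.Away.lift (t p) (g := algebraMap A C') (hunit _ (dvd_mul_right _ _))
  let _ : Algebra C C' := ι.toAlgebra
  have hιA : ∀ z, ι (algebraMap A C z) = algebraMap A C' z := fun z => IsLocalization.Away.lift_eq _ _ z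
  have : IsScalarTower A C C' := IsScalarTower.of_algebraMap_eq fun z => (hιA z).symm
  have : IsScalarTower k C C' := IsScalarTower.of_algebraMap_eq fun z => by
    rw [IsScalarTower.algebraMap_apply k A C, IsScalarTower.algebraMap_apply k A C']
    exact (hιA _).symm
  have hrepr : b'.repr (KaehlerDifferential.D k C' (algebraMap A C' h)) j = ι u := by
    have e1 : KaehlerDifferential.D k C' (algebraMap A C' h) =
        ∑ i, ι (b.repr (KaehlerDifferential.D k C (algebraMap A C h)) i) • b' i := by
      rw [← hιA]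
      show KaehlerDifferential.D k C' (algebraMap C C' (algebraMap A C h)) = _
      rw [← KaehlerDifferential.map_D k k C C']
      conv_lhs => rw [← b.sum_repr (KaehlerDifferential.D k C (algebraMap A C h)), map_sum]
      refine Finset.sum_congr rfl fun i _ => ?_
      rw [map_smul, hb, KaehlerDifferential.map_D, hb', ← IsScalarTower.algebraMap_apply, ← algebraMap_smul C']
      rfl
    rw [e1, b'.repr_sum_self]
  have hu' : IsUnit (b'.repr (KaehlerDifferential.D k C' (algebraMap A C' h)) j) := by
    rw [hrepr]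
    refine isUnit_of_mul_isUnit_left (y := ι (algebraMap A C s)) ?_
    rw [← map_mul, huv, hιA]
    exact hunit v (dvd_mul_left _ _)
  let π := Ideal.Quotient.mk (Ideal.span {h})
  refine ⟨π t', fun hmem => ht' hmem, ?_⟩
  let E := C' ⧸ Ideal.span {algebraMap A C' h}
  have hIE : (Ideal.span {h}).map (algebraMap A C') = Ideal.span {algebraMap A C' h} := by
    rw [Ideal.map_span, Set.image_singleton]
  let g₁ : A ⧸ Ideal.span {h} →+* E :=
    Ideal.quotientMap _ (algebraMap A C') (Ideal.map_le_iff_le_comap.mp hIE.le)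
  let _ : Algebra (A ⧸ Ideal.span {h}) E := g₁.toAlgebra
  have hloc : IsLocalization.Away (π t') E := by
    have := IsLocalization.of_surjective (Submonoid.powers t') C' π Ideal.Quotient.mk_surjective
      (Ideal.Quotient.mk (Ideal.span {algebraMap A C' h})) Ideal.Quotient.mk_surjective
      (RingHom.ext fun z => rfl) (by rw [Ideal.mk_ker, Ideal.mk_ker, hIE])
    rwa [Submonoid.map_powers] at this
  have : IsScalarTower k (A ⧸ Ideal.span {h}) E := IsScalarTower.of_algebraMap_eq fun z => by
    show _ = g₁ (π (algebraMap k A z))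
    rw [Ideal.quotientMap_mk, ← IsScalarTower.algebraMap_apply k A C']
    rfl
  have : Nontrivial E := nontrivial_away (π t') E q hq fun hm => ht' hm
  have := smooth_section k C' (fun l => algebraMap A C' (x (S p l))) b' hb' (algebraMap A C' h) j hu'
  have : Algebra.IsStandardSmoothOfRelativeDimension (r - 1) k (Localization.Away (π t')) :=
    Algebra.IsStandardSmoothOfRelativeDimension.of_algEquiv _ ((IsLocalization.algEquiv (Submonoid.powers (π t')) E (Localization.Away (π t'))).restrictScalars k)
  refine (HasRingHomProperty.Spec_iff (P := @SmoothOfRelativeDimension (r - 1))).mpr ?_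
  exact RingHom.locally_of RingHom.isStandardSmoothOfRelativeDimension_respectsIso _
    ((RingHom.isStandardSmoothOfRelativeDimension_algebraMap _).mpr this)

end Groth.Agent.S4228
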