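import Groth.Statements.S15554
import Groth.Agent.RedSub2.EtSection.Charts
import Groth.Agent.S4228
import Groth.Agent.Hopf.OrbitRegular
import Groth.Agent.PnEuler.Chart
import Groth.Agent.PlaneCurve.HypIdeal
import Groth.Agent.Divisors.IdealComap
import Mathlib

set_option autoImplicit false
universe u
open CategoryTheory CategoryTheory.Limits AlgebraicGeometry
open SmVar

namespace Groth.Agent.S15554

open Groth.RedSub2.EtSection in
/-- The linear form as a function on a chart. -/
theorem dehom_eq {k : Type u} [Field k] {n : ℕ} (c : Fin (n + 1) → k) (hG) (j : Fin (n + 1)) :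
    (LefPen.dehom (d := 1) (⟨∑ i, MvPolynomial.C (c i) * MvPolynomial.X i, hG⟩ : LefPen.Form n k 1) j :
      Γ(CohB1.ProjSpace n k, Groth.PnEuler.dOp j)) =
      ∑ i, Groth.PnEuler.scal (Groth.PnEuler.dOp j) (c i) * Groth.PnEuler.tt j i := by
  classical
  suffices H : ∀ (x : ProjectiveSpectrum (CohB1.polyGrading n k)) (hx : x ∈ Groth.PnEuler.dOp (R := k) j),
      Groth.PnEuler.evalPt (Groth.PnEuler.dOp j) x hx
        (LefPen.dehom (d := 1) (⟨∑ i, MvPolynomial.C (c i) * MvPolynomial.X i, hG⟩ : LefPen.Form n k 1) j :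
          Γ(CohB1.ProjSpace n k, Groth.PnEuler.dOp j)) =
      Groth.PnEuler.evalPt (Groth.PnEuler.dOp j) x hx
        (∑ i, Groth.PnEuler.scal (Groth.PnEuler.dOp j) (c i) * Groth.PnEuler.tt j i) from
    Groth.Ega2Proj.fun_ext fun x hx => H x hx
  intro x hx
  have hu := IsLocalization.map_units (Twist.Loc (CohB1.polyGrading n k) x)
    (⟨MvPolynomial.X j, Groth.PnEuler.X_notMem hx⟩ : x.asHomogeneousIdeal.toIdeal.primeCompl)
  refine hu.mul_right_cancel ?_
  rw [map_sum, Finset.sum_mul]
  simp only [map_mul, mul_assoc, Groth.PnEuler.evalPt_scal, Groth.PnEuler.evalPt_tt,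
    Groth.PnEuler.lfrac_mul_algebraMap]
  refine (congrArg (· * algebraMap _ _ (MvPolynomial.X j : MvPolynomial (Fin (n + 1)) k))
    (Groth.PnEuler.evalPt_awayToSection j 1 (a := ∑ i, MvPolynomial.C (c i) * MvPolynomial.X i)
      (by rw [one_smul]; exact hG) x hx)).trans ?_
  have h1 := Groth.PnEuler.lfrac_mul_algebraMap x
    (∑ i, MvPolynomial.C (c i) * MvPolynomial.X i : MvPolynomial (Fin (n + 1)) k)
    (s := MvPolynomial.X j ^ 1) (fun h => hx (x.isPrime.mem_of_pow_mem 1 h))
  simp only [pow_one] at h1 ⊢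
  rw [h1, map_sum]
  simp [map_mul]

/-- Smoothness of a general hyperplane section of a smooth affine domain, or of nothing. -/
theorem chart_smooth (k : Type u) [Field k] [Infinite k] (n : ℕ) (A : Type u) [CommRing A] [Algebra k A]
    (hA : Subsingleton A ∨ IsDomain A) [Algebra.Smooth k A] (a : Fin (n + 1) → A) (j : Fin (n + 1)) (hj : a j = 1)
    (hgen : Function.Surjective (MvPolynomial.aeval a : MvPolynomial (Fin (n + 1)) k →ₐ[k] A)) :
    ∃ g : MvPolynomial (Fin (n + 1)) k, g ≠ 0 ∧ ∀ c : Fin (n + 1) → k, MvPolynomial.eval c g ≠ 0 →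
      Algebra.Smooth k (A ⧸ Ideal.span {∑ i, algebraMap k A (c i) * a i}) := by
  classical
  let x : Fin n → A := fun i => a (j.succAbove i)
  have hx : Function.Surjective (MvPolynomial.aeval x : MvPolynomial (Fin n) k →ₐ[k] A) := by
    intro y
    obtain ⟨p, rfl⟩ := hgen y
    refine ⟨MvPolynomial.aeval (Fin.insertNth j (1 : MvPolynomial (Fin n) k) MvPolynomial.X) p, ?_⟩
    rw [← AlgHom.comp_apply, MvPolynomial.comp_aeval]
    refine congrArg (fun f => MvPolynomial.aeval f p) (funext fun i => ?_)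
    rcases Fin.eq_self_or_eq_succAbove j i with rfl | ⟨i, rfl⟩
    · simp [hj]
    · simp [x]
  haveI : Algebra.FiniteType k A := Algebra.FiniteType.of_surjective _ hgen
  obtain ⟨r, hr⟩ : ∃ r : ℕ, ∀ P ∈ minimalPrimes A, ringKrullDim (A ⧸ P) = r := by
    rcases hA with h | h
    · exact ⟨0, fun P hP => absurd (Subsingleton.elim _ _) hP.1.1.ne_top⟩
    · obtain ⟨r, hr⟩ := Groth.ComodLib.exists_nat_ringKrullDim k A
      refine ⟨r, fun P hP => ?_⟩
      rw [show P = ⊥ from by simpa [IsDomain.minimalPrimes_eq_singleton_bot] using hP,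
        ringKrullDim_eq_of_ringEquiv (RingEquiv.quotientBot A), hr]
  obtain ⟨g, hg, hg'⟩ := Groth.Agent.S4228.result k n r A x hx hr
  let e : Fin (n + 1) → Fin (n + 1) := Fin.cons j j.succAbove
  have he : Function.Injective e := Fin.cons_injective_iff.2
    ⟨fun ⟨i, hi⟩ => j.succAbove_ne i hi, Fin.succAbove_right_injective⟩
  refine ⟨MvPolynomial.rename e g, (map_ne_zero_iff _ (MvPolynomial.rename_injective e he)).2 hg,
    fun c hc => ?_⟩
  have hc' : MvPolynomial.eval (c ∘ e) g ≠ 0 := by rwa [MvPolynomial.eval_rename] at hc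
  have heq : ∑ i, algebraMap k A (c i) * a i =
      algebraMap k A ((c ∘ e) 0) + ∑ i : Fin n, algebraMap k A ((c ∘ e) i.succ) * x i := by
    rw [Fin.sum_univ_succAbove _ j, hj, mul_one]
    simp [e, x]
  rw [heq]
  set I := Ideal.span {algebraMap k A ((c ∘ e) 0) + ∑ i : Fin n, algebraMap k A ((c ∘ e) i.succ) * x i}
  have : Algebra.FinitePresentation k (A ⧸ I) :=
    Algebra.FinitePresentation.quotient (Submodule.fg_span_singleton _)
  refine Algebra.smoothLocus_eq_univ_iff.1 (Set.eq_univ_of_forall fun q => ?_) |> fun h => ⟨h, inferInstance⟩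
  have hone : Algebra.Smooth k (Localization.Away (1 : A)) :=
    Algebra.Smooth.of_equiv ((IsLocalization.atUnit A (Localization.Away (1 : A)) 1 isUnit_one).restrictScalars k)
  obtain ⟨f, hf, hsm⟩ := hg' (c ∘ e) hc' q.asIdeal q.isPrime
    ⟨1, fun h => (q.isPrime.comap _).ne_top ((Ideal.eq_top_iff_one _).2 h),
      HasRingHomProperty.Spec_iff.2 (RingHom.smooth_algebraMap.2 hone)⟩
  have hsm' : Algebra.Smooth k (Localization.Away f) := by
    have := SmoothOfRelativeDimension.smooth (r - 1) (Spec.map (CommRingCat.ofHom (algebraMap k (Localization.Away f))))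
    rw [HasRingHomProperty.Spec_iff (P := @Smooth)] at this
    exact RingHom.smooth_algebraMap.1 this
  exact Algebra.basicOpen_subset_smoothLocus_iff_smooth.2 hsm' hf

/-- Let k be an infinite field and X ⊆ P^n_k a smooth projective variety, given as an integral scheme X
with a closed immersion ι into projective n-space over k through which X is smooth over k. Then X
has a smooth hyperplane section defined over k: there is a global section s of the twisting sheaf
O(1) on P^n_k whose zero scheme H, a hyperplane defined over k, does not contain X and for which the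
scheme-theoretic intersection X ∩ H = X ×_{P^n_k} H is smooth over k. (The published statement also
records that X ∩ H has dimension dim X − 1; that is automatic once X is integral and not contained
in H, so this row states smoothness together with X ⊄ H.) -/
theorem result (k : Type u) [Field k] [Infinite k] (n : ℕ)
    (X : Scheme.{u}) [IsIntegral X] (ι : X ⟶ CohB1.ProjSpace n k) [IsClosedImmersion ι]
    [Smooth (ι ≫ CohB1.ProjSpace.toSpec n k)] :
    ∃ s : Coh.structureModule (CohB1.ProjSpace n k) ⟶ Twist.twistProjSpace n k 1,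
      (∃ x : ↥X, ι.base x ∉ (PicF2.zeroScheme (Twist.twistProjSpace n k 1) s).support) ∧
      Smooth (pullback.fst ι (PicF2.zeroScheme (Twist.twistProjSpace n k 1) s).subschemeι ≫ ι ≫
        CohB1.ProjSpace.toSpec n k) := by
  classical
  let g0 : X ⟶ Spec (CommRingCat.of k) := ι ≫ CohB1.ProjSpace.toSpec n k
  haveI : Smooth g0 := inferInstanceAs (Smooth (ι ≫ CohB1.ProjSpace.toSpec n k))
  let W : Fin (n + 1) → (CohB1.ProjSpace n k).Opens := fun j => Groth.PnEuler.dOp j
  have hW : ∀ j, IsAffineOpen (W j) := fun j => Groth.PnEuler.isAffineOpen_dOp j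
  let V : Fin (n + 1) → X.Opens := fun j => ι ⁻¹ᵁ W j
  have hV : ∀ j, IsAffineOpen (V j) := fun j => (hW j).preimage ι
  have hVcov : ⨆ j, V j = ⊤ := by
    rw [← Scheme.Hom.preimage_iSup, show ⨆ j, W j = ⊤ from Groth.PnEuler.iSup_dOp]
    rfl
  let a : ∀ j, Fin (n + 1) → Γ(X, V j) := fun j i => ι.app (W j) (Groth.PnEuler.tt j i)
  letI : ∀ j, Algebra k Γ(X, V j) := fun j => (Groth.RedSub2.EtSection.sec g0 (V j)).toAlgebra
  have hsc : ∀ j (r : k), ι.app (W j) (Groth.PnEuler.scal (W j) r) = algebraMap k Γ(X, V j) r := by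
    intro j r
    show ((Scheme.ΓSpecIso (CommRingCat.of k)).inv ≫
        (CohB1.ProjSpace.toSpec n k).appLE ⊤ (W j) le_top ≫ ι.app (W j)) r =
      ((Scheme.ΓSpecIso (CommRingCat.of k)).inv ≫ g0.appLE ⊤ (V j) le_top) r
    congr 2
    rw [Scheme.Hom.app_eq_appLE, Scheme.Hom.appLE_comp_appLE]
  have hgen : ∀ j, Function.Surjective
      (MvPolynomial.aeval (a j) : MvPolynomial (Fin (n + 1)) k →ₐ[k] Γ(X, V j)) := by
    intro j y
    obtain ⟨z, rfl⟩ := ι.app_surjective (W j) (hW j) y
    obtain ⟨q, hq⟩ := Groth.PnEuler.exists_eval₂_eq j z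
    refine ⟨q, ?_⟩
    rw [← hq, MvPolynomial.aeval_def, MvPolynomial.eval₂_comp_left]
    exact congrArg (fun f => MvPolynomial.eval₂ f (a j) q) (RingHom.ext fun r => (hsc j r).symm)
  have haj : ∀ j, a j j = 1 := fun j =>
    (congrArg (ι.app (W j)) (Groth.PnEuler.tt_self j)).trans (map_one _)
  haveI : ∀ j, Algebra.Smooth k Γ(X, V j) := fun j => by
    have h1 := HasRingHomProperty.appLE @Smooth g0 inferInstance
      ⟨⊤, isAffineOpen_top _⟩ ⟨V j, hV j⟩ le_top
    exact RingHom.smooth_algebraMap.1 (RingHom.Smooth.respectsIso.2 _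
      (Scheme.ΓSpecIso (CommRingCat.of k)).symm.commRingCatIsoToRingEquiv h1)
  have hdom : ∀ j, Subsingleton Γ(X, V j) ∨ IsDomain Γ(X, V j) := by
    intro j
    by_cases h : Nonempty (V j)
    · exact Or.inr inferInstance
    · left
      rw [show V j = ⊥ from TopologicalSpace.Opens.ext (Set.eq_empty_iff_forall_notMem.2 fun x hx => h ⟨⟨x, hx⟩⟩)]
      infer_instance
  choose P hP hP' using fun j => chart_smooth k n Γ(X, V j) (hdom j) (a j) j (haj j) (hgen j)
  -- a linear form not vanishing on `X`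
  obtain ⟨x₀⟩ := (inferInstance : Nonempty X)
  obtain ⟨j₀, hj₀⟩ := TopologicalSpace.Opens.mem_iSup.1 (hVcov.ge (Set.mem_univ x₀) : x₀ ∈ ⨆ j, V j)
  haveI : Nonempty (V j₀) := ⟨⟨x₀, hj₀⟩⟩
  obtain ⟨μ, hμ⟩ := Module.Projective.exists_dual_ne_zero k (show (1 : Γ(X, V j₀)) ≠ 0 from one_ne_zero)
  let P₀ : MvPolynomial (Fin (n + 1)) k := ∑ i, MvPolynomial.C (μ (a j₀ i)) * MvPolynomial.X i
  have hP₀ : P₀ ≠ 0 := by
    intro h
    have h1 := congrArg (MvPolynomial.eval (Pi.single j₀ 1)) h
    simp [P₀, Pi.single_apply, haj] at h1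
    exact hμ h1
  obtain ⟨c, hc⟩ : ∃ c : Fin (n + 1) → k, MvPolynomial.eval c (P₀ * ∏ j, P j) ≠ 0 := by
    by_contra hall
    push Not at hall
    exact mul_ne_zero hP₀ (Finset.prod_ne_zero_iff.2 fun j _ => hP j)
      (MvPolynomial.funext fun c => by rw [hall c, map_zero])
  rw [map_mul, mul_ne_zero_iff, map_prod, Finset.prod_ne_zero_iff] at hc
  have hform : (∑ i, MvPolynomial.C (c i) * MvPolynomial.X i : MvPolynomial (Fin (n + 1)) k) ∈
      CohB1.polyGrading n k 1 := (MvPolynomial.mem_homogeneousSubmodule _ _).2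
        (MvPolynomial.IsHomogeneous.sum _ _ _ fun i _ => (MvPolynomial.isHomogeneous_X k i).C_mul _)
  let G : LefPen.Form n k 1 := ⟨_, hform⟩
  refine ⟨Groth.PlaneCurve.formHom G, ?_⟩
  let Z := PicF2.zeroScheme (Twist.twistProjSpace n k 1) (Groth.PlaneCurve.formHom G)
  have hinv : PicF.IsInvertible (Twist.twistProjSpace n k ((1 : ℕ) : ℤ)) :=
    Groth.PlaneCurve.isInvertible_twistProjSpace _
  have hZ : ∀ j, Z.ideal ⟨W j, hW j⟩ = Ideal.span {(LefPen.dehom G j : Γ(CohB1.ProjSpace n k, W j))} := fun j =>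
    Groth.Variety2.Zero.zeroScheme_ideal_eq_span hinv (Groth.PlaneCurve.formHom G) ⟨W j, hW j⟩
      (Groth.PlaneCurve.gen_frame (k := k) j 1) (c := LefPen.dehom G j)
      ((Groth.PlaneCurve.formHom_app_of_le G j le_rfl).trans
        (by rw [Groth.PicAux.resX_self, Groth.PicAux.res_self]; rfl))
  have hv : ∀ j, ι.app (W j) (LefPen.dehom G j : Γ(CohB1.ProjSpace n k, W j)) =
      ∑ i, algebraMap k Γ(X, V j) (c i) * a j i := by
    intro j
    refine (congrArg (ι.app (W j)) (dehom_eq c hform j)).trans ?_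
    refine (map_sum (ι.app (W j)).hom (fun i => Groth.PnEuler.scal (W j) (c i) * Groth.PnEuler.tt j i)
      Finset.univ).trans (Finset.sum_congr rfl fun i _ => ?_)
    exact (map_mul (ι.app (W j)).hom _ _).trans (congrArg (· * a j i) (hsc j (c i)))
  refine ⟨?_, ?_⟩
  · let v : Γ(X, V j₀) := ι.app (W j₀) (LefPen.dehom G j₀ : Γ(CohB1.ProjSpace n k, W j₀))
    have hv0 : v ≠ 0 := by
      intro h0
      have h1 := congrArg μ ((hv j₀).symm.trans h0)
      rw [map_zero, map_sum] at h1
      refine hc.1 ?_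
      rw [← h1]
      simp only [P₀, map_sum, map_mul, MvPolynomial.eval_C, MvPolynomial.eval_X, ← Algebra.smul_def,
        map_smul, smul_eq_mul]
      exact Finset.sum_congr rfl fun i _ => mul_comm _ _
    obtain ⟨x, hx⟩ : ∃ x, x ∈ X.basicOpen v := by
      by_contra hall
      push Not at hall
      exact hv0 ((basicOpen_eq_bot_iff v).1
        (TopologicalSpace.Opens.ext (Set.eq_empty_iff_forall_notMem.2 hall)))
    refine ⟨x, fun hmem => ?_⟩
    have hxW : ι.base x ∈ W j₀ := X.basicOpen_le v hx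
    have h1 := ((Scheme.IdealSheafData.mem_support_iff_of_mem (U := ⟨W j₀, hW j₀⟩) hxW).1 hmem)
    rw [Scheme.mem_zeroLocus_iff] at h1
    refine h1 (LefPen.dehom G j₀) ((hZ j₀).ge (Ideal.mem_span_singleton_self _)) ?_
    exact (Scheme.preimage_basicOpen ι _).ge hx
  · let I := Z.comap ι
    rw [← MorphismProperty.cancel_left_of_respectsIso @Smooth (Z.comapIso ι).hom,
      Scheme.IdealSheafData.comapIso_hom_fst_assoc]
    show Smooth (I.subschemeι ≫ g0)
    refine IsZariskiLocalAtSource.of_iSup_eq_top (P := @Smooth)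
      (fun j => (I.subschemeCover.f ⟨V j, hV j⟩).opensRange) ?_ fun j => ?_
    · simp only [Scheme.IdealSheafData.opensRange_subschemeCover_map]
      rw [← Scheme.Hom.preimage_iSup, hVcov]
      rfl
    · rw [← MorphismProperty.cancel_left_of_respectsIso @Smooth
        (I.subschemeCover.f ⟨V j, hV j⟩).isoOpensRange.hom, ← Category.assoc,
        Scheme.Hom.isoOpensRange_hom_ι, ← Category.assoc,
        Scheme.IdealSheafData.subschemeCover_map_subschemeι,
        Scheme.IdealSheafData.glueDataObjι_ι]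
      erw [Category.assoc, Groth.RedSub2.EtSection.fromSpec_comp_eq, ← Spec.map_comp]
      refine HasRingHomProperty.Spec_iff.2 ?_
      show RingHom.Smooth ((Ideal.Quotient.mk (I.ideal ⟨V j, hV j⟩)).comp
        (Groth.RedSub2.EtSection.sec g0 (V j)))
      have hI : I.ideal ⟨V j, hV j⟩ = Ideal.span {∑ i, algebraMap k Γ(X, V j) (c i) * a j i} := by
        refine (Groth.Divisors.ideal_comap_affine Z ι ⟨W j, hW j⟩ ⟨V j, hV j⟩ le_rfl).trans ?_
        refine (congrArg (Ideal.map (ι.appLE (W j) (V j) le_rfl).hom) (hZ j)).trans ?_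
        refine (Ideal.map_span _ _).trans (congrArg Ideal.span ?_)
        refine Set.image_singleton.trans (congrArg ({·} : Γ(X, V j) → Set Γ(X, V j)) ?_)
        rw [← hv j, Scheme.Hom.app_eq_appLE]
      rw [hI]
      exact RingHom.smooth_algebraMap.2 (hP' j c (hc.2 j (Finset.mem_univ j)))

end Groth.Agent.S15554
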