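import Groth.Statements.S15555
import Mathlib.AlgebraicGeometry.Morphisms.Smooth
import Mathlib.RingTheory.Smooth.Basic
import Mathlib.FieldTheory.Finite.Basic
import Mathlib.Algebra.CharP.Lemmas

set_option autoImplicit false
set_option linter.style.haveILetI false
universe u
open CategoryTheory AlgebraicGeometry
open Zeta

namespace Groth.Agent.S15555

lemma isNilpotent_ker_factor {k T : Type*} [CommRing k] [CommRing T] [Algebra k T] {I J : Ideal T} (h : I ≤ J) {m : ℕ} (hm : J ^ m ≤ I) :
    IsNilpotent (RingHom.ker (Ideal.Quotient.factorₐ k h : (T ⧸ I) →+* (T ⧸ J))) := by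
  refine ⟨m, ?_⟩
  rw [Ideal.Quotient.coe_factorₐ, Ideal.Quotient.factor_ker, ← Ideal.map_pow, Ideal.zero_eq_bot,
    Ideal.map_eq_bot_iff_le_ker, Ideal.mk_ker]
  exact hm

/-- Tangent vectors of a smooth open piece lift to truncated arcs of every order. -/
lemma exists_lift_arc {k : Type u} [Field k] {σ : Type} {T : Type u} [CommRing T] [Algebra k T] (x : T) (m : ℕ)
    (hm : 2 ≤ m) (S : Set (MvPolynomial σ k)) (w : σ) (v : σ → T)
    (hS : ∀ P ∈ S, x ^ 2 ∣ MvPolynomial.aeval v P) {a : k} (ha : a ≠ 0) (hw : x ∣ v w - algebraMap k T a)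
    (hsm : Smooth (Spec.map (CommRingCat.ofHom (algebraMap k
      (Localization.Away (Ideal.Quotient.mk (Ideal.span S) (MvPolynomial.X w))))))) :
    ∃ r : σ → T, ∀ P ∈ S, x ^ m ∣ MvPolynomial.aeval (fun i => v i + x ^ 2 * r i) P := by
  set J := Ideal.span {x ^ 2}
  set J₂ := Ideal.span {x ^ m}
  have hJ₂ : J₂ ≤ J := Ideal.span_singleton_le_span_singleton.2 (pow_dvd_pow _ hm)
  let red : (T ⧸ J₂) →ₐ[k] T ⧸ J := Ideal.Quotient.factorₐ k hJ₂
  have hred : Function.Surjective red := Ideal.Quotient.factor_surjective hJ₂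
  have hnil : IsNilpotent (RingHom.ker (red : (T ⧸ J₂) →+* T ⧸ J)) := by
    refine isNilpotent_ker_factor hJ₂ (m := m) ?_
    rw [Ideal.span_singleton_pow, Ideal.span_singleton_le_span_singleton, ← pow_mul]
    exact pow_dvd_pow _ (by omega)
  let g₀ : MvPolynomial σ k →ₐ[k] T ⧸ J := (Ideal.Quotient.mkₐ k J).comp (MvPolynomial.aeval v)
  have hker : Ideal.span S ≤ RingHom.ker g₀.toRingHom :=
    Ideal.span_le.2 fun P hP => Ideal.Quotient.eq_zero_iff_mem.2 (Ideal.mem_span_singleton.2 (hS P hP))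
  let g₁ : (MvPolynomial σ k ⧸ Ideal.span S) →ₐ[k] T ⧸ J :=
    Ideal.Quotient.liftₐ _ g₀ fun b hb => hker hb
  have hunit : IsUnit (g₁ (Ideal.Quotient.mk _ (MvPolynomial.X w))) := by
    show IsUnit (Ideal.Quotient.mk J (MvPolynomial.aeval v (MvPolynomial.X w)))
    obtain ⟨y, hy⟩ := hw
    rw [MvPolynomial.aeval_X, sub_eq_iff_eq_add.1 hy, map_add, map_mul]
    refine IsNilpotent.isUnit_add_right_of_commute ?_
      (((isUnit_iff_ne_zero.2 ha).map (algebraMap k T)).map _) (Commute.all _ _)
    exact ⟨2, by rw [mul_pow, ← map_pow, (Ideal.Quotient.eq_zero_iff_mem.2 (Ideal.mem_span_singleton_self _) : Ideal.Quotient.mk J (x ^ 2) = 0), zero_mul]⟩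
  set R := Localization.Away (Ideal.Quotient.mk (Ideal.span S) (MvPolynomial.X w))
  let g₂ : R →ₐ[k] T ⧸ J := IsLocalization.liftAlgHom (M := Submonoid.powers
    (Ideal.Quotient.mk (Ideal.span S) (MvPolynomial.X w))) (f := g₁) (by
      rintro ⟨_, e, rfl⟩
      rw [map_pow]
      exact hunit.pow e)
  haveI : Algebra.Smooth k R := by
    rw [HasRingHomProperty.Spec_iff (P := @Smooth)] at hsm
    exact (RingHom.smooth_algebraMap (R := k) (S := R)).1 hsm
  let G : R →ₐ[k] T ⧸ J₂ := Algebra.FormallySmooth.liftOfSurjective g₂ red hred hnil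
  let ρ : MvPolynomial σ k →ₐ[k] T ⧸ J₂ :=
    G.comp ((IsScalarTower.toAlgHom k _ R).comp (Ideal.Quotient.mkₐ k (Ideal.span S)))
  have hr : ∀ i, ∃ r : T, ρ (MvPolynomial.X i) = Ideal.Quotient.mk J₂ (v i + x ^ 2 * r) := by
    intro i
    obtain ⟨y, hy⟩ := Ideal.Quotient.mk_surjective (ρ (MvPolynomial.X i))
    have h0 : red (ρ (MvPolynomial.X i)) = Ideal.Quotient.mk J (MvPolynomial.aeval v (MvPolynomial.X i : MvPolynomial σ k)) := by
      refine (Algebra.FormallySmooth.liftOfSurjective_apply g₂ red hred hnil _).trans ?_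
      exact IsLocalization.lift_eq _ _
    rw [MvPolynomial.aeval_X, ← hy] at h0
    obtain ⟨r, hr⟩ := Ideal.mem_span_singleton.1 (Ideal.Quotient.eq.1 h0)
    exact ⟨r, by rw [← hy, sub_eq_iff_eq_add'.1 hr]⟩
  choose r hr using hr
  refine ⟨r, fun P hP => Ideal.mem_span_singleton.1 ((Ideal.Quotient.eq_zero_iff_mem (I := J₂)).1 ?_)⟩
  have h1 : ρ P = 0 := by
    have : Ideal.Quotient.mk (Ideal.span S) P = 0 := Ideal.Quotient.eq_zero_iff_mem.2 (Ideal.subset_span hP)
    simp [ρ, this]
  have h2 : ρ = (Ideal.Quotient.mkₐ k J₂).comp (MvPolynomial.aeval fun i => v i + x ^ 2 * r i) :=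
    MvPolynomial.algHom_ext fun i => by rw [hr, AlgHom.comp_apply, MvPolynomial.aeval_X]; rfl
  rw [h2] at h1
  exact h1

open Polynomial in
lemma form_add {k : Type u} [Field k] [Fintype k] {n : ℕ} {S : Type*} [CommRing S] [Algebra k S] [Nontrivial S]
    (c : Fin (n + 1) ⊕ Fin (n + 1) → k) (h : Fin (n + 1) ⊕ Fin (n + 1) → S) :
    (∑ i : Fin (n + 1), ((algebraMap k S (-c (.inr i)) + h (.inl i)) * (algebraMap k S (c (.inl i)) + h (.inr i)) ^ Fintype.card k -
      (algebraMap k S (c (.inl i)) + h (.inr i)) * (algebraMap k S (-c (.inr i)) + h (.inl i)) ^ Fintype.card k)) =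
    (∑ v, algebraMap k S (c v) * h v) - (∑ v, algebraMap k S (c v) * h v) ^ Fintype.card k +
      ∑ i : Fin (n + 1), (h (.inl i) * h (.inr i) ^ Fintype.card k - h (.inr i) * h (.inl i) ^ Fintype.card k) := by
  obtain ⟨p, hp⟩ := CharP.exists k
  obtain ⟨m, hp', hcard⟩ := FiniteField.card k p
  haveI := charP_of_injective_algebraMap (algebraMap k S).injective p
  haveI : Fact p.Prime := ⟨hp'⟩
  haveI : ExpChar S p := ExpChar.prime hp'
  have hadd : ∀ x y : S, (x + y) ^ Fintype.card k = x ^ Fintype.card k + y ^ Fintype.card k := fun x y => by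
    rw [hcard]; exact add_pow_expChar_pow ..
  have hsum : ∀ {ι : Type} (s : Finset ι) (x : ι → S),
      (∑ i ∈ s, x i) ^ Fintype.card k = ∑ i ∈ s, x i ^ Fintype.card k := fun s x => by
    rw [hcard]; exact sum_pow_char_pow (p := p) _ _ _
  have hc : ∀ a : k, algebraMap k S a ^ Fintype.card k = algebraMap k S a := fun a => by
    rw [← map_pow, FiniteField.pow_card]
  rw [hsum, Fintype.sum_sum_type, Fintype.sum_sum_type, ← Finset.sum_add_distrib, ← Finset.sum_add_distrib,
    ← Finset.sum_sub_distrib, ← Finset.sum_add_distrib]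
  refine Finset.sum_congr rfl fun i _ => ?_
  rw [hadd, hadd, hc, hc, mul_pow, mul_pow, hc, hc, map_neg]
  ring

set_option maxHeartbeats 1000000 in
/-- Let k be a finite field with q elements and n ≥ 1 a natural number; in the 2n + 2 variables X_0, …,
X_n, Y_0, …, Y_n (indexed by Fin (n+1) ⊕ Fin (n+1), the left summand carrying the X_i) let F = Σ_i
(X_i Y_i^q − Y_i X_i^q), a form of degree q + 1 defining the hypersurface Hyp ⊂ P^{2n+1}_k. Then no
hyperplane of P^{2n+1}_k defined over k meets Hyp transversally: for every linear form L = Σ_v c_v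
x_v with a nonzero coefficient vector c over k, the scheme-theoretic intersection Hyp ∩ (L = 0) ⊂
P^{2n+1}_k is not smooth over k. The intersection is presented through the standard open pieces of
its affine cone: with R = k[X, Y]/(F, L), the piece x_w ≠ 0 of the cone Spec R is (Hyp ∩ (L = 0) ∩
D₊(x_w)) × 𝔾_m, so Hyp ∩ (L = 0) is smooth over k exactly when every localisation R[1/x_w] is a
smooth k-algebra, and the row states that not all of them are. (The published example is stated for
every n ≥ 0; for n = 0 the hypersurface is the set of the q + 1 rational points of P^1_k, it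
contains every rational point H, and Hyp ∩ H = H is a reduced point, smooth over k; so this row
takes n ≥ 1, where no rational hyperplane is contained in Hyp and each one is tangent to Hyp at a
rational point, at which the intersection is singular.) -/
theorem result (k : Type u) [Field k] [Fintype k] (n : ℕ) (hn : 1 ≤ n)
    (F L : MvPolynomial (Fin (n + 1) ⊕ Fin (n + 1)) k)
    (hF : F = ∑ i : Fin (n + 1), (MvPolynomial.X (Sum.inl i) * MvPolynomial.X (Sum.inr i) ^ Fintype.card k -
      MvPolynomial.X (Sum.inr i) * MvPolynomial.X (Sum.inl i) ^ Fintype.card k))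
    (c : Fin (n + 1) ⊕ Fin (n + 1) → k) (hc : c ≠ 0)
    (hL : L = ∑ v, MvPolynomial.C (c v) * MvPolynomial.X v) :
    ¬ ∀ w : Fin (n + 1) ⊕ Fin (n + 1),
      Smooth (Spec.map (CommRingCat.ofHom (algebraMap k
        (Localization.Away (Ideal.Quotient.mk (Ideal.span {F, L}) (MvPolynomial.X w)))))) := by
  classical
  intro hsm
  set q := Fintype.card k with hq
  have hq1 : 1 < q := Fintype.one_lt_card
  -- the rational point and the non-isotropic pair in the hyperplane
  obtain ⟨v₀, hv₀⟩ := Function.ne_iff.1 hc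
  let pv : Fin (n + 1) ⊕ Fin (n + 1) → k := Sum.elim (fun i => -c (.inr i)) (fun i => c (.inl i))
  obtain ⟨w, hw⟩ : ∃ w, pv w ≠ 0 := by
    rcases v₀ with i | i
    · exact ⟨.inr i, hv₀⟩
    · exact ⟨.inl i, neg_ne_zero.2 hv₀⟩
  haveI : Nontrivial (Fin (n + 1)) := Fin.nontrivial_iff_two_le.2 (by omega)
  obtain ⟨j, hj⟩ := exists_ne (Sum.elim id id v₀)
  have hjx : v₀ ≠ .inl j := fun h => hj (by rw [h]; rfl)
  have hjy : v₀ ≠ .inr j := fun h => hj (by rw [h]; rfl)
  let e : Fin (n + 1) ⊕ Fin (n + 1) → k :=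
    Pi.single (.inl j) 1 - Pi.single v₀ (c (.inl j) / c v₀)
  let f : Fin (n + 1) ⊕ Fin (n + 1) → k :=
    Pi.single (.inr j) 1 - Pi.single v₀ (c (.inr j) / c v₀)
  have hpair : ∀ i, e (.inl i) * f (.inr i) - e (.inr i) * f (.inl i) = if i = j then 1 else 0 := by
    intro i
    rcases v₀ with i₀ | i₀ <;>
      by_cases h1 : i = j <;> by_cases h2 : i = i₀ <;>
      simp_all [e, f]
  have hce : ∑ v, c v * e v = 0 := by
    simp [e, mul_sub, Finset.sum_sub_distrib, Pi.single_apply, mul_div_cancel₀ _ hv₀]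
  have hcf : ∑ v, c v * f v = 0 := by
    simp [f, mul_sub, Finset.sum_sub_distrib, Pi.single_apply, mul_div_cancel₀ _ hv₀]
  let z₀ : Fin (n + 1) ⊕ Fin (n + 1) → Polynomial k := fun v =>
    Polynomial.X * Polynomial.C (e v) + Polynomial.C (f v)
  have hz₀ : ∑ i : Fin (n + 1), (z₀ (.inl i) * z₀ (.inr i) ^ q - z₀ (.inr i) * z₀ (.inl i) ^ q) ≠ 0 := by
    obtain ⟨p, hp⟩ := CharP.exists k
    obtain ⟨m, hp', hcard⟩ := FiniteField.card k p
    haveI : Fact p.Prime := ⟨hp'⟩
    haveI : ExpChar (Polynomial k) p := ExpChar.prime hp'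
    have hpow : ∀ v, z₀ v ^ q = Polynomial.X ^ q * Polynomial.C (e v) + Polynomial.C (f v) := by
      intro v
      have : (Polynomial.X * Polynomial.C (e v) + Polynomial.C (f v)) ^ q =
          (Polynomial.X * Polynomial.C (e v)) ^ q + Polynomial.C (f v) ^ q := by
        rw [hq, hcard]; exact add_pow_expChar_pow ..
      show (Polynomial.X * Polynomial.C (e v) + Polynomial.C (f v)) ^ q = _
      rw [this, mul_pow, ← map_pow, ← map_pow, FiniteField.pow_card, FiniteField.pow_card]
    have hterm : ∀ i : Fin (n + 1), z₀ (.inl i) * z₀ (.inr i) ^ q - z₀ (.inr i) * z₀ (.inl i) ^ q =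
        (Polynomial.X - Polynomial.X ^ q) * Polynomial.C (if i = j then (1 : k) else 0) := by
      intro i
      rw [hpow, hpow, ← hpair i]
      simp only [z₀, map_sub, map_mul]
      ring
    rw [Finset.sum_congr rfl fun i _ => hterm i, ← Finset.mul_sum, Finset.sum_eq_single j
      (fun i _ hi => by simp [hi]) (by simp), if_pos rfl, map_one, mul_one]
    intro h
    have := congrArg (Polynomial.coeff · 1) h
    simp [Polynomial.coeff_X_pow, hq1.ne] at this
  let hT : Fin (n + 1) ⊕ Fin (n + 1) → (Polynomial (Polynomial k)) := fun v =>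
    algebraMap k (Polynomial (Polynomial k)) (pv v) + Polynomial.X * Polynomial.C (z₀ v)
  haveI : Nontrivial (Polynomial (Polynomial k)) := inferInstance
  have hLval : ∀ {S : Type u} [CommRing S] [Algebra k S] (x : Fin (n + 1) ⊕ Fin (n + 1) → S),
      MvPolynomial.aeval x L = ∑ v, algebraMap k S (c v) * x v := fun x => by
    simp [hL, map_sum]
  have hFval : ∀ {S : Type u} [CommRing S] [Algebra k S] (x : Fin (n + 1) ⊕ Fin (n + 1) → S),
      MvPolynomial.aeval x F = ∑ i, (x (.inl i) * x (.inr i) ^ q - x (.inr i) * x (.inl i) ^ q) :=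
    fun x => by simp [hF, map_sum, q]
  have hsplit : ∀ z : Fin (n + 1) ⊕ Fin (n + 1) → (Polynomial (Polynomial k)),
      MvPolynomial.aeval (fun v => algebraMap k (Polynomial (Polynomial k)) (pv v) + Polynomial.X * z v) F =
      (∑ v, algebraMap k (Polynomial (Polynomial k)) (c v) * (Polynomial.X * z v)) -
        (∑ v, algebraMap k (Polynomial (Polynomial k)) (c v) * (Polynomial.X * z v)) ^ q +
      Polynomial.X ^ (q + 1) * ∑ i, (z (.inl i) * z (.inr i) ^ q - z (.inr i) * z (.inl i) ^ q) := by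
    intro z
    rw [hFval]
    refine (form_add c fun v => Polynomial.X * z v).trans ?_
    congr 1
    rw [Finset.mul_sum]
    exact Finset.sum_congr rfl fun i _ => by rw [mul_pow, mul_pow]; ring
  have hLP : ∀ z : Fin (n + 1) ⊕ Fin (n + 1) → (Polynomial (Polynomial k)),
      MvPolynomial.aeval (fun v => algebraMap k (Polynomial (Polynomial k)) (pv v) + Polynomial.X * z v) L =
      ∑ v, algebraMap k (Polynomial (Polynomial k)) (c v) * (Polynomial.X * z v) := by
    intro z
    rw [hLval]
    simp only [mul_add, Finset.sum_add_distrib, ← map_mul, ← map_sum]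
    have : ∑ v, c v * pv v = 0 := by
      simp [pv, Fintype.sum_sum_type, mul_comm]
    rw [this, map_zero, zero_add]
  have hL0 : ∑ v, algebraMap k (Polynomial (Polynomial k)) (c v) * (Polynomial.X * Polynomial.C (z₀ v)) = 0 := by
    have h1 : ∑ v, Polynomial.C (c v) * z₀ v = 0 := by
      simp only [z₀, mul_add, Finset.sum_add_distrib, mul_left_comm _ (Polynomial.X : Polynomial k),
        ← map_mul, ← Finset.mul_sum, ← map_sum, hce, hcf, map_zero, mul_zero, add_zero]
    have h2 : ∀ v, algebraMap k (Polynomial (Polynomial k)) (c v) * (Polynomial.X * Polynomial.C (z₀ v)) =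
        Polynomial.X * Polynomial.C (Polynomial.C (c v) * z₀ v) := fun v => by
      rw [map_mul, show algebraMap k (Polynomial (Polynomial k)) (c v) = Polynomial.C (Polynomial.C (c v)) from rfl]
      ring
    rw [Finset.sum_congr rfl fun v _ => h2 v, ← Finset.mul_sum, ← map_sum, h1, map_zero, mul_zero]
  obtain ⟨r, hr⟩ := exists_lift_arc (Polynomial.X : (Polynomial (Polynomial k))) (q + 2) (by omega) {F, L} w hT (by
    rintro _ (rfl | rfl)
    · rw [hsplit, hL0, zero_pow (by omega), sub_zero, zero_add, show q + 1 = 2 + (q - 1) by omega, pow_add,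
        mul_assoc]
      exact dvd_mul_right _ _
    · rw [hLP, hL0]
      exact dvd_zero _) hw (by simp [hT]) (hsm w)
  let z : Fin (n + 1) ⊕ Fin (n + 1) → (Polynomial (Polynomial k)) := fun v => Polynomial.C (z₀ v) + Polynomial.X * r v
  have hz : (fun v => hT v + Polynomial.X ^ 2 * r v) =
      fun v => algebraMap k (Polynomial (Polynomial k)) (pv v) + Polynomial.X * z v := by
    funext v
    simp only [hT, z]
    ring
  have hFm := hr F (Set.mem_insert _ _)
  have hLm := hr L (Set.mem_insert_of_mem _ rfl)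
  rw [hz, hsplit] at hFm
  rw [hz, hLP] at hLm
  rw [dvd_add_right ((dvd_sub hLm (dvd_pow hLm (by omega)))), show q + 2 = (q + 1) + 1 by omega,
    pow_succ, mul_dvd_mul_iff_left (pow_ne_zero _ Polynomial.X_ne_zero), Polynomial.X_dvd_iff] at hFm
  refine hz₀ ?_
  simpa [Polynomial.coeff_zero_eq_eval_zero, Polynomial.eval_finsetSum, z] using hFm

end Groth.Agent.S15555
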