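import Groth.Statements.S1556
import Groth.Agent.VarietyBC.SmoothChart
import Groth.Agent.VarietyBC.Dim
import Groth.Agent.Calg1.CompletionLocal

set_option autoImplicit false
universe u
open CategoryTheory CategoryTheory.Limits AlgebraicGeometry
attribute [local instance] Curv2.resAlgebra
open Variety

namespace Groth.Agent.S1556

/-- Let X be a curve over k (integral, separated, of finite type, of dimension one) and x a closed point
whose residue field is separable over k. Then the local ring at x is a discrete valuation ring if
and only if x lies in the smooth locus of X → Spec k. -/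
theorem result (k : Type u) [Field k] (X : Scheme.{u}) [X.Over (Spec (CommRingCat.of k))] [IsIntegral X]
    [IsSeparated (X ↘ (Spec (CommRingCat.of k)))] [LocallyOfFinitePresentation (X ↘ (Spec (CommRingCat.of k)))] [QuasiCompact (X ↘ (Spec (CommRingCat.of k)))]
    (hdim : topologicalKrullDim X = 1) (x : X) (hx : IsClosed ({x} : Set X))
    [Algebra.IsSeparable k (X.residueField x)] :
    IsDiscreteValuationRing (X.presheaf.stalk x) ↔ x ∈ (X ↘ (Spec (CommRingCat.of k))).smoothLocus := by
  haveI : LocallyOfFiniteType (X ↘ (Spec (CommRingCat.of k))) := inferInstance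
  haveI : IsLocallyNoetherian X := LocallyOfFiniteType.isLocallyNoetherian (X ↘ (Spec (CommRingCat.of k)))
  haveI : Algebra.FormallyEtale k (X.residueField x) := Algebra.FormallyEtale.of_isSeparable k _
  haveI : Algebra.FormallySmooth k (X.residueField x) := inferInstance
  rw [Groth.VarietyBC.mem_smoothLocus_iff_isRegularLocalRing x ‹_›]
  have hd : ringKrullDim (X.presheaf.stalk x) = 1 := by
    have h0 : Order.height x = 0 := Order.height_eq_zero.2 fun b (hb : b ≤ x) => by
      have hbx : b = x := hx.closure_eq.subset (specializes_iff_mem_closure.1 hb)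
      rw [hbx]
    have h1 := Variety2.Dim.ringKrullDim_stalk_add_height (X ↘ (Spec (CommRingCat.of k))) x
    rw [h0, hdim] at h1
    simpa using h1
  have h := Groth.Calg1.isDVR_iff_regular_dim_one (A := X.presheaf.stalk x)
  exact ⟨fun hd1 => (h.1 ⟨inferInstance, hd1⟩).1, fun hr => (h.2 ⟨hr, hd⟩).2⟩

end Groth.Agent.S1556
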