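import Groth.Statements.S15562
import Groth.Agent.Misc10.Kron

set_option autoImplicit false
universe u v w
open KronMod

namespace Groth.Agent.S15562

open Groth.Misc10 Groth.Misc10.Kron KronMod Module

/-- Over a field K, for V of dimension d₋₁ > 0 and W of dimension n·d₋₁, semistable Kronecker modules
with n arrows from V to W exist, and any two of them are isomorphic as Kronecker modules; in other
words the moduli space K(n; d₋₁, n·d₋₁) of semistable Kronecker modules is a single point. (The
published statement assumes K algebraically closed of characteristic zero and n ≥ 2; this row allows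
any field K and any number n of arrows.) -/
theorem result (K : Type u) [Field K] (V : Type v) (W : Type w)
    [AddCommGroup V] [Module K V] [FiniteDimensional K V]
    [AddCommGroup W] [Module K W] [FiniteDimensional K W]
    (n : ℕ) (hV : 0 < Module.finrank K V) (hW : Module.finrank K W = n * Module.finrank K V) :
    (∃ f : Fin n → (V →ₗ[K] W), KronMod.IsSemistable f) ∧
    ∀ f f' : Fin n → (V →ₗ[K] W), KronMod.IsSemistable f → KronMod.IsSemistable f' →
      KronMod.AreIso f f' := by
  classical
  have hd : finrank K (Fin n → V) = finrank K W := by rw [finrank_pi_const', hW]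
  let e : (Fin n → V) ≃ₗ[K] W := LinearEquiv.ofFinrankEq _ _ hd
  refine ⟨⟨fun j => (e : (Fin n → V) →ₗ[K] W) ∘ₗ LinearMap.single K (fun _ : Fin n => V) j, ?_⟩, fun f f' hf hf' => ?_⟩
  · rw [semistable_iff_sum _ hV hW]
    convert e.bijective
    funext v
    rw [sumMap_apply]
    simp only [LinearMap.coe_comp, Function.comp_apply, LinearEquiv.coe_coe, LinearMap.coe_single, ← map_sum,
      Finset.univ_sum_single]
  · rw [semistable_iff_sum _ hV hW] at hf hf'
    refine ⟨LinearEquiv.refl K V, (LinearEquiv.ofBijective _ hf).symm.trans (LinearEquiv.ofBijective _ hf'), fun j => ?_⟩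
    ext v
    simp only [LinearMap.coe_comp, Function.comp_apply, LinearEquiv.coe_coe, LinearEquiv.trans_apply, LinearEquiv.refl_apply]
    rw [show (LinearEquiv.ofBijective _ hf).symm (f j v) = Pi.single j v from
      (LinearEquiv.symm_apply_eq _).2 (sumMap_single f j v).symm]
    exact sumMap_single f' j v

end Groth.Agent.S15562
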