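import Groth.Statements.S15563
import Groth.Agent.Misc10.Kron

set_option autoImplicit false
universe u v w
open KronMod

namespace Groth.Agent.S15563

open Groth.Misc10 Groth.Misc10.Kron KronMod Module

/-- Let f be a Kronecker module with n arrows over a field K, from V of dimension d₋₁ > 0 to W of
dimension n·d₋₁. Then f is stable if and only if f is semistable and d₋₁ = 1: for d₋₁ = 1 every
semistable module is stable (so the stable locus of K(n; 1, n) is the one point), while for d₋₁ > 1
no module is stable. (The published statement assumes K algebraically closed of characteristic zero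
and n ≥ 2; this row allows any field K and any number n of arrows.) -/
theorem result (K : Type u) [Field K] (V : Type v) (W : Type w)
    [AddCommGroup V] [Module K V] [FiniteDimensional K V]
    [AddCommGroup W] [Module K W] [FiniteDimensional K W]
    (n : ℕ) (f : Fin n → (V →ₗ[K] W))
    (hV : 0 < Module.finrank K V) (hW : Module.finrank K W = n * Module.finrank K V) :
    KronMod.IsStable f ↔ (KronMod.IsSemistable f ∧ Module.finrank K V = 1) := by
  classical
  have hiff := semistable_iff_sum f hV hW
  constructor
  · intro hs
    refine ⟨isStable_semistable hs, ?_⟩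
    by_contra hne
    have : Nontrivial V := Module.nontrivial_of_finrank_pos hV
    obtain ⟨v, hv⟩ := exists_ne (0 : V)
    let V' : Submodule K V := K ∙ v
    let S : (Fin n → V') →ₗ[K] W := sumMap f ∘ₗ (LinearMap.pi fun j => V'.subtype ∘ₗ LinearMap.proj j)
    have hsub : IsSubrep f V' (LinearMap.range S) := by
      rintro j _ ⟨x, hx, rfl⟩
      refine ⟨Pi.single j ⟨x, hx⟩, ?_⟩
      show sumMap f _ = _
      rw [sumMap_apply, Finset.sum_eq_single j]
      · simp
      · intro b _ hb; simp [hb]
      · simp
    have h1 := hs.2 V' _ hsub
      (fun ⟨a, _⟩ => hv (Submodule.span_singleton_eq_bot.1 a))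
      (fun ⟨a, _⟩ => hne (by rw [← finrank_top K V, ← a, finrank_span_singleton hv]))
    have h2 : finrank K (LinearMap.range S) ≤ n := by
      refine (LinearMap.finrank_range_le S).trans ?_
      rw [finrank_pi_const', finrank_span_singleton hv, mul_one]
    rw [show finrank K V' = 1 from finrank_span_singleton hv, mul_one, hW, mul_comm n] at h1
    have := lt_of_lt_of_le h1 (Nat.mul_le_mul_left _ h2)
    omega
  · rintro ⟨hss, h1⟩
    refine ⟨by omega, fun V' W' h hb ht => ?_⟩
    have hSb := hiff.1 hss
    rcases Nat.lt_or_ge (finrank K V') 1 with h0 | h0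
    · have hV' : V' = ⊥ := Submodule.finrank_eq_zero.1 (by omega)
      have : 0 < finrank K W' := by
        rw [Nat.pos_iff_ne_zero, Ne, Submodule.finrank_eq_zero]; exact fun hW' => hb ⟨hV', hW'⟩
      rw [show finrank K V' = 0 by omega, h1]; omega
    · have hV' : V' = ⊤ := Submodule.eq_top_of_finrank_eq (by have := Submodule.finrank_le V'; omega)
      have h2 := finrank_le_of_sum_injective f hSb.1 h
      have hW' : W' = ⊤ := Submodule.eq_top_of_finrank_eq (by
        have := Submodule.finrank_le W'
        rw [hV', finrank_top, ← hW] at h2; omega)
      exact absurd ⟨hV', hW'⟩ ht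

end Groth.Agent.S15563
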