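import Groth.Statements.S15564
import Groth.Agent.Misc10.Kron

set_option autoImplicit false
universe u v w
open KronMod

namespace Groth.Agent.S15564

open Groth.Misc10 Groth.Misc10.Kron KronMod Module

/-- For a Kronecker module f with n arrows over a field K between one-dimensional spaces V and W,
semistability, stability and f ≠ 0 are equivalent: the semistable locus and the stable locus of
dimension vector (1, 1) are both the complement of the zero module. (The published statement assumes
K algebraically closed of characteristic zero and n ≥ 2; this row allows any field K and any n.) -/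
theorem result (K : Type u) [Field K] (V : Type v) (W : Type w)
    [AddCommGroup V] [Module K V] [FiniteDimensional K V]
    [AddCommGroup W] [Module K W] [FiniteDimensional K W]
    (n : ℕ) (f : Fin n → (V →ₗ[K] W))
    (hV : Module.finrank K V = 1) (hW : Module.finrank K W = 1) :
    (KronMod.IsSemistable f ↔ f ≠ 0) ∧ (KronMod.IsStable f ↔ f ≠ 0) := by
  have key : f ≠ 0 → KronMod.IsStable f := by
    intro hne
    refine ⟨by omega, fun V' W' h hb ht => ?_⟩
    rw [hV, hW, one_mul, one_mul]
    rcases Nat.lt_or_ge (finrank K V') 1 with h0 | h0
    · have hV' : V' = ⊥ := Submodule.finrank_eq_zero.1 (by omega)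
      have : 0 < finrank K W' := by
        rw [Nat.pos_iff_ne_zero, Ne, Submodule.finrank_eq_zero]; exact fun hW' => hb ⟨hV', hW'⟩
      omega
    · exfalso
      have hV' : V' = ⊤ := Submodule.eq_top_of_finrank_eq (by have := Submodule.finrank_le V'; omega)
      obtain ⟨j, hj⟩ := Function.ne_iff.1 hne
      have hW0 : W' ≠ ⊥ := by
        rintro rfl
        apply hj
        ext v
        have := h j ⟨v, hV' ▸ Submodule.mem_top, rfl⟩
        simpa using this
      have h0' : finrank K W' ≠ 0 := fun e => hW0 (Submodule.finrank_eq_zero.1 e)
      exact ht ⟨hV', Submodule.eq_top_of_finrank_eq (by have := Submodule.finrank_le W'; omega)⟩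
  have key2 : KronMod.IsSemistable f → f ≠ 0 := by
    rintro hf rfl
    have hs := sumMap_surjective (0 : Fin n → (V →ₗ[K] W)) (by omega) hf
    have : Nontrivial W := Module.nontrivial_of_finrank_pos (R := K) (by omega)
    obtain ⟨w, hw⟩ := exists_ne (0 : W)
    obtain ⟨v, rfl⟩ := hs w
    simp [sumMap_apply] at hw
  exact ⟨⟨key2, fun h => isStable_semistable (key h)⟩, ⟨fun h => key2 (isStable_semistable h), key⟩⟩

end Groth.Agent.S15564
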