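import Groth.Statements.S15565
import Groth.Agent.Misc10.Kron

set_option autoImplicit false
universe u v w
open KronMod

namespace Groth.Agent.S15565

open Groth.Misc10 Groth.Misc10.Kron KronMod Module

/-- Over an algebraically closed field K, a Kronecker module with two arrows between spaces V and W of
the same dimension k ≥ 2 is never stable: the stable locus of dimension vector (k, k) for the
Kronecker quiver with two arrows is empty. (The published statement also assumes characteristic
zero; this row does not.) -/
theorem result (K : Type u) [Field K] [IsAlgClosed K] (V : Type v) (W : Type w)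
    [AddCommGroup V] [Module K V] [FiniteDimensional K V]
    [AddCommGroup W] [Module K W] [FiniteDimensional K W]
    (f : Fin 2 → (V →ₗ[K] W)) (k : ℕ) (hk : 2 ≤ k)
    (hV : Module.finrank K V = k) (hW : Module.finrank K W = k) :
    ¬ KronMod.IsStable f := by
  classical
  intro hs
  have hsl : ∀ v : V, v ≠ 0 → ∀ W' : Submodule K W, finrank K W' ≤ 1 →
      KronMod.IsSubrep f (K ∙ v) W' → False := by
    intro v hv W' hW' hsub
    have := hs.2 _ W' hsub (fun ⟨a, _⟩ => hv (Submodule.span_singleton_eq_bot.1 a))
      (fun ⟨a, _⟩ => by
        have h1 := finrank_span_singleton (K := K) hv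
        rw [a, finrank_top] at h1; omega)
    rw [finrank_span_singleton hv, hV, hW] at this
    nlinarith
  by_cases hinj : Function.Injective (f 0)
  · have hb : Function.Bijective (f 0) :=
      ⟨hinj, (LinearMap.injective_iff_surjective_of_finrank_eq_finrank (hV.trans hW.symm)).1 hinj⟩
    have : Nontrivial V := Module.nontrivial_of_finrank_pos (R := K) (by omega)
    let e := LinearEquiv.ofBijective (f 0) hb
    obtain ⟨l, hl⟩ := Module.End.exists_eigenvalue ((e.symm : W →ₗ[K] V) ∘ₗ f 1)
    obtain ⟨v, hv⟩ := hl.exists_hasEigenvector
    refine hsl v hv.2 (K ∙ f 0 v) ?_ ?_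
    · rw [finrank_span_singleton (fun h => hv.2 (hinj (h.trans (map_zero _).symm)))]
    · intro j
      rw [Submodule.map_span, Set.image_singleton, Submodule.span_le, Set.singleton_subset_iff]
      fin_cases j
      · exact Submodule.mem_span_singleton_self _
      · have h1 : e.symm (f 1 v) = l • v := hv.apply_eq_smul
        refine Submodule.mem_span_singleton.2 ⟨l, ?_⟩
        show l • f 0 v = f 1 v
        rw [← map_smul, ← h1]
        exact e.apply_symm_apply _
  · obtain ⟨v, hv0, hv⟩ := (Submodule.ne_bot_iff _).1 (fun h => hinj (LinearMap.ker_eq_bot.1 h))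
    refine hsl v hv ((K ∙ v).map (f 1)) (finrank_map_span_singleton_le _ _) ?_
    intro j
    fin_cases j
    · show (K ∙ v).map (f 0) ≤ _
      rw [Submodule.map_span, Set.image_singleton, Submodule.span_le, Set.singleton_subset_iff,
        LinearMap.mem_ker.1 hv0]
      exact zero_mem _
    · exact le_rfl

end Groth.Agent.S15565
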