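import Groth.Statements.S15566
import Groth.Agent.Misc10.Kron

set_option autoImplicit false
universe u v w
open KronMod

namespace Groth.Agent.S15566

open Groth.Misc10 Groth.Misc10.Kron KronMod Module

/-- Case of dimension vector (2, 2). Over an algebraically closed field K, if a Kronecker module f with
n arrows between two-dimensional spaces V and W is semistable, then some linear combination Σ_j z_j
f_j of its arrows is a linear isomorphism V → W (equivalently, the determinant of the generic
combination is not identically zero): the semistable locus of dimension vector (2, 2) lies in the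
open set of modules whose generic combination is invertible. (The published statement, over an
algebraically closed field of characteristic zero, covers dimension vectors (1, 1) and (2, 2) for
every n ≥ 2 and (k, k) for two arrows; this row states the (2, 2) case, for any n and without the
characteristic assumption.) -/
theorem result (K : Type u) [Field K] [IsAlgClosed K] (V : Type v) (W : Type w)
    [AddCommGroup V] [Module K V] [FiniteDimensional K V]
    [AddCommGroup W] [Module K W] [FiniteDimensional K W]
    (n : ℕ) (f : Fin n → (V →ₗ[K] W))
    (hV : Module.finrank K V = 2) (hW : Module.finrank K W = 2)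
    (hf : KronMod.IsSemistable f) :
    ∃ z : Fin n → K, Function.Bijective ((∑ j, z j • f j : V →ₗ[K] W) : V → W) := by
  classical
  by_contra hno
  push Not at hno
  -- every member of the span is singular
  have hsing : ∀ (a b : Fin n) (u w : V), f a u = 0 → f b w = 0 →
      f a w = 0 ∨ f b u = 0 ∨ ∃ s t : K, (s ≠ 0 ∨ t ≠ 0) ∧ s • f b u + t • f a w = 0 := by
    intro a b u w hu hw
    by_contra hcon
    push Not at hcon
    obtain ⟨h1, h2, h3⟩ := hcon
    have hli : LinearIndependent K ![f b u, f a w] := by
      rw [LinearIndependent.pair_iff]
      intro s t hst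
      by_contra hne
      exact h3 s t (by tauto) hst
    refine hno (Pi.single a 1 + Pi.single b 1) ?_
    have hg : (∑ j, (Pi.single a 1 + Pi.single b 1 : Fin n → K) j • f j) = f a + f b := by
      simp [Pi.single_apply, add_smul, Finset.sum_add_distrib]
    rw [hg]
    have hs : Function.Surjective ((f a + f b : V →ₗ[K] W) : V → W) := by
      rw [← LinearMap.range_eq_top]
      refine Submodule.eq_top_of_finrank_eq (le_antisymm (Submodule.finrank_le _) ?_)
      have : Submodule.span K (Set.range ![f b u, f a w]) ≤ LinearMap.range (f a + f b) := by
        rw [Submodule.span_le]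
        rintro _ ⟨i, rfl⟩
        fin_cases i
        · exact ⟨u, by simp [hu]⟩
        · exact ⟨w, by simp [hw]⟩
      have := Submodule.finrank_mono this
      rw [finrank_span_eq_card hli, Fintype.card_fin] at this
      omega
    exact ⟨(LinearMap.injective_iff_surjective_of_finrank_eq_finrank (hV.trans hW.symm)).2 hs, hs⟩
  have hnb : ∀ a, ∃ v : V, v ≠ 0 ∧ f a v = 0 := by
    intro a
    by_contra hcon
    push Not at hcon
    have hinj : Function.Injective (f a) := by
      rw [← LinearMap.ker_eq_bot, LinearMap.ker_eq_bot']
      intro v hv
      by_contra h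
      exact hcon v h hv
    refine hno (Pi.single a 1) ?_
    have hg : (∑ j, (Pi.single a 1 : Fin n → K) j • f j) = f a := by simp [Pi.single_apply]
    rw [hg]
    exact ⟨hinj, (LinearMap.injective_iff_surjective_of_finrank_eq_finrank (hV.trans hW.symm)).1 hinj⟩
  have hrange : ∀ a, finrank K (LinearMap.range (f a)) ≤ 1 := by
    intro a
    obtain ⟨v, hv, hav⟩ := hnb a
    have := LinearMap.finrank_range_add_finrank_ker (f a)
    have h0 : 0 < finrank K (LinearMap.ker (f a)) := by
      rw [Nat.pos_iff_ne_zero, Ne, Submodule.finrank_eq_zero, ← Ne, Submodule.ne_bot_iff]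
      exact ⟨v, hav, hv⟩
    omega
  have hker : ∀ a, f a ≠ 0 → finrank K (LinearMap.ker (f a)) = 1 := by
    intro a ha
    have := LinearMap.finrank_range_add_finrank_ker (f a)
    have h0 : finrank K (LinearMap.range (f a)) ≠ 0 :=
      fun h => ha (LinearMap.range_eq_bot.1 (Submodule.finrank_eq_zero.1 h))
    have := hrange a
    omega
  -- two non-zero arrows share the kernel or the image
  have hpair : ∀ a b, f a ≠ 0 → f b ≠ 0 → LinearMap.ker (f a) = LinearMap.ker (f b) ∨
      LinearMap.range (f a) = LinearMap.range (f b) := by
    intro a b ha hb
    by_cases hk : LinearMap.ker (f a) = LinearMap.ker (f b)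
    · exact Or.inl hk
    right
    obtain ⟨u, hu, hbu⟩ := SetLike.not_le_iff_exists.1 (fun hle => hk (Submodule.eq_of_le_of_finrank_le hle (by rw [hker a ha, hker b hb])))
    obtain ⟨w, hw, haw⟩ := SetLike.not_le_iff_exists.1 (fun hle => hk (Submodule.eq_of_le_of_finrank_le hle (by rw [hker a ha, hker b hb])).symm)
    rcases hsing a b u w hu hw with h | h | ⟨s, t, hst, h⟩
    · exact absurd h haw
    · exact absurd h hbu
    · have hA : (K ∙ f a w) = LinearMap.range (f a) :=
        Submodule.eq_of_le_of_finrank_le ((Submodule.span_singleton_le_iff_mem _ _).2 ⟨w, rfl⟩)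
          (by rw [finrank_span_singleton (fun h => haw h)]; exact hrange a)
      have hB : (K ∙ f b u) = LinearMap.range (f b) :=
        Submodule.eq_of_le_of_finrank_le ((Submodule.span_singleton_le_iff_mem _ _).2 ⟨u, rfl⟩)
          (by rw [finrank_span_singleton (fun h => hbu h)]; exact hrange b)
      have ht : t ≠ 0 := by
        rintro rfl
        rw [zero_smul, add_zero, smul_eq_zero] at h
        rcases hst with h' | h'
        · exact hbu (h.resolve_left h')
        · exact h' rfl
      have hs : s ≠ 0 := by
        rintro rfl
        rw [zero_smul, zero_add, smul_eq_zero] at h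
        exact haw (h.resolve_left ht)
      rw [← hA, ← hB, ← Submodule.span_singleton_smul_eq (isUnit_iff_ne_zero.2 ht) (f a w),
        ← Submodule.span_singleton_smul_eq (isUnit_iff_ne_zero.2 hs) (f b u),
        show t • f a w = -(s • f b u) from eq_neg_of_add_eq_zero_right h, ← neg_one_smul K (s • f b u), Submodule.span_singleton_smul_eq (isUnit_iff_ne_zero.2 (neg_ne_zero.2 one_ne_zero))]
  by_cases hall : ∃ a, f a ≠ 0
  · obtain ⟨i, hi⟩ := hall
    by_cases hk : ∀ a, LinearMap.ker (f i) ≤ LinearMap.ker (f a)
    · refine contradiction_of_subrep hf hV hW (V' := LinearMap.ker (f i)) (W' := ⊥) ?_ ?_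
      · rintro a _ ⟨x, hx, rfl⟩; exact (hk a hx : f a x = 0)
      · rw [finrank_bot, hker i hi]; exact one_pos
    · push Not at hk
      obtain ⟨j, hj⟩ := hk
      have hj0 : f j ≠ 0 := fun h => hj (by rw [h, LinearMap.ker_zero]; exact le_top)
      have hkij : LinearMap.ker (f i) ≠ LinearMap.ker (f j) := fun h => hj h.le
      have hrij := (hpair i j hi hj0).resolve_left hkij
      refine contradiction_of_subrep hf hV hW (V' := ⊤) (W' := LinearMap.range (f i)) ?_ ?_
      · intro a
        rw [Submodule.map_top]
        by_cases ha : f a = 0
        · simp [ha]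
        rcases hpair a i ha hi with h | h
        · have := (hpair a j ha hj0).resolve_left (fun h' => hkij (h.symm.trans h'))
          rw [hrij, this]
        · exact h.le
      · rw [finrank_top, hV]; have := hrange i; omega
  · push Not at hall
    refine contradiction_of_subrep hf hV hW (V' := ⊤) (W' := ⊥) (fun a => by simp [hall a]) ?_
    rw [finrank_top, finrank_bot, hV]; omega

end Groth.Agent.S15566
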