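import Groth.Statements.S15567
import Groth.Agent.Misc10.Kron

set_option autoImplicit false
universe u v w
open KronMod

namespace Groth.Agent.S15567

open Groth.Misc10 Groth.Misc10.Kron KronMod Module

/-- Duality of Kronecker modules. Let f be a Kronecker module with n arrows over a field K, from V to W,
both finite-dimensional. The dual module has arrows the transposes f_j^∨ : W^∨ → V^∨, so its
dimension vector is (d₀, d₋₁). Then f is semistable if and only if its dual is, and f is stable if
and only if its dual is. This is the module-level content of the isomorphism K(n; d₋₁, d₀) ≅ K(n;
d₀, d₋₁) of moduli spaces, stated here without the moduli spaces. (The published statement assumes K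
algebraically closed of characteristic zero and n ≥ 2; this row allows any field K and any number n
of arrows.) -/
theorem result (K : Type u) [Field K] (V : Type v) (W : Type w)
    [AddCommGroup V] [Module K V] [FiniteDimensional K V]
    [AddCommGroup W] [Module K W] [FiniteDimensional K W]
    (n : ℕ) (f : Fin n → (V →ₗ[K] W)) :
    (KronMod.IsSemistable f ↔ KronMod.IsSemistable (fun j => (f j).dualMap)) ∧
    (KronMod.IsStable f ↔ KronMod.IsStable (fun j => (f j).dualMap)) := by
  constructor
  · unfold KronMod.IsSemistable
    rw [Subspace.dual_finrank_eq (V := V), Subspace.dual_finrank_eq (V := W), add_comm (finrank K W)]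
    refine and_congr Iff.rfl ?_
    rw [dual_iff f (fun x y => x ≤ y)]
    · simp only [Subspace.dual_finrank_eq]
    · intro a b a' b' ha hb
      rw [Nat.mul_sub, Nat.mul_sub, mul_comm b a]
      have := Nat.mul_le_mul_left a hb
      have := Nat.mul_le_mul_left b ha
      have := mul_comm a b
      omega
  · unfold KronMod.IsStable
    rw [Subspace.dual_finrank_eq (V := V), Subspace.dual_finrank_eq (V := W), add_comm (finrank K W)]
    refine and_congr Iff.rfl ?_
    rw [dual_iff f (fun x y => x < y)]
    · simp only [Subspace.dual_finrank_eq]
    · intro a b a' b' ha hb
      rw [Nat.mul_sub, Nat.mul_sub, mul_comm b a]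
      have := Nat.mul_le_mul_left a hb
      have := Nat.mul_le_mul_left b ha
      have := mul_comm a b
      omega

end Groth.Agent.S15567
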