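import Groth.Statements.S15568
import Mathlib.Topology.Order.IntermediateValue
import Mathlib.Algebra.BigOperators.Ring.Finset
import Mathlib.Analysis.Convex.Topology
import Mathlib.Data.Sign.Basic
import Mathlib.Algebra.Order.BigOperators.Group.Finset
-- import your own Groth.Agent.* helpers here

set_option autoImplicit false
universe u
open QuiverStab

namespace Groth.Agent.S15568

/-- Walls and chambers for stability weights of a quiver. Let I be the finite vertex set, d ∈ ℕ^I a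
dimension vector, and call two weights θ₁, θ₂ ∈ ℝ^I orthogonal to d numerically equivalent when, for
every d′ ≤ d in ℕ^I, the numbers θ₁·d′ and θ₂·d′ are both positive, both negative or both zero. The
walls are the hyperplanes W(d′) = {θ ⊥ d : θ·d′ = 0} of d^⊥ for d′ ≤ d such that d is not a multiple
of d′. Then θ₁ and θ₂ are numerically equivalent if and only if there is a set J₁ of such d′ for
which θ₁ and θ₂ lie in the same connected component of the locally closed subset of d^⊥ consisting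
of the weights lying on W(d₁) for every d₁ ∈ J₁ and off W(d₂) for every other wall W(d₂). (Only the
quiver's vertex set enters; multiples are taken with natural-number factors.) -/
theorem result
    (I : Type u) [Fintype I] (d : I → ℕ) (θ₁ θ₂ : I → ℝ)
    (h₁ : ∑ i, θ₁ i * (d i : ℝ) = 0) (h₂ : ∑ i, θ₂ i * (d i : ℝ) = 0) :
    (∀ d' : I → ℕ, d' ≤ d →
        SignType.sign (∑ i, θ₁ i * (d' i : ℝ)) = SignType.sign (∑ i, θ₂ i * (d' i : ℝ))) ↔
    ∃ J₁ : Set (I → ℕ), J₁ ⊆ {d' | d' ≤ d ∧ ¬ ∃ m : ℕ, d = m • d'} ∧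
      θ₂ ∈ connectedComponentIn
        {θ : I → ℝ | ∑ i, θ i * (d i : ℝ) = 0 ∧ (∀ d₁ ∈ J₁, ∑ i, θ i * (d₁ i : ℝ) = 0) ∧
          ∀ d₂ : I → ℕ, d₂ ≤ d → (¬ ∃ m : ℕ, d = m • d₂) → d₂ ∉ J₁ →
            ∑ i, θ i * (d₂ i : ℝ) ≠ 0} θ₁ := by
  classical
  let L : (I → ℕ) → (I → ℝ) → ℝ := fun d' θ => ∑ i, θ i * (d' i : ℝ)
  constructor
  · intro h
    refine ⟨{d' | d' ≤ d ∧ (¬ ∃ m : ℕ, d = m • d') ∧ L d' θ₁ = 0},
      fun d' hd' => ⟨hd'.1, hd'.2.1⟩, ?_⟩
    have hmem : θ₁ ∈ segment ℝ θ₁ θ₂ := left_mem_segment ℝ θ₁ θ₂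
    refine (convex_segment (𝕜 := ℝ) θ₁ θ₂).isPreconnected.subset_connectedComponentIn hmem ?_
      (right_mem_segment ℝ θ₁ θ₂)
    rintro θ ⟨a, b, ha, hb, hab, rfl⟩
    have hlin : ∀ d' : I → ℕ, L d' (a • θ₁ + b • θ₂) = a * L d' θ₁ + b * L d' θ₂ := fun d' => by
      simp only [L, Pi.add_apply, Pi.smul_apply, smul_eq_mul, add_mul, Finset.sum_add_distrib,
        Finset.mul_sum, mul_assoc]
    refine ⟨?_, fun d₁ hd₁ => ?_, fun d₂ hd₂ hm hnot => ?_⟩
    · change L d (a • θ₁ + b • θ₂) = 0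
      rw [hlin]
      simp only [L, h₁, h₂, mul_zero, add_zero]
    · change L d₁ (a • θ₁ + b • θ₂) = 0
      have h0 := h d₁ hd₁.1
      change SignType.sign (L d₁ θ₁) = SignType.sign (L d₁ θ₂) at h0
      rw [hd₁.2.2, sign_zero, eq_comm, sign_eq_zero_iff] at h0
      rw [hlin, hd₁.2.2, h0, mul_zero, mul_zero, add_zero]
    · change L d₂ (a • θ₁ + b • θ₂) ≠ 0
      have hne : L d₂ θ₁ ≠ 0 := fun h0 => hnot ⟨hd₂, hm, h0⟩
      have hs := h d₂ hd₂
      change SignType.sign (L d₂ θ₁) = SignType.sign (L d₂ θ₂) at hs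
      rw [hlin]
      rcases lt_or_gt_of_ne hne with hneg | hpos
      · rw [sign_neg hneg, eq_comm, sign_eq_neg_one_iff] at hs
        rcases eq_or_lt_of_le ha with rfl | ha'
        · rw [zero_add] at hab; rw [hab]; simp [hs.ne]
        · nlinarith [mul_neg_of_pos_of_neg ha' hneg, mul_nonpos_of_nonneg_of_nonpos hb hs.le]
      · rw [sign_pos hpos, eq_comm, sign_eq_one_iff] at hs
        rcases eq_or_lt_of_le ha with rfl | ha'
        · rw [zero_add] at hab; rw [hab]; simp [hs.ne']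
        · nlinarith [mul_pos ha' hpos, mul_nonneg hb hs.le]
  · rintro ⟨J₁, hJ, hmem⟩ d' hd'
    set S := {θ : I → ℝ | ∑ i, θ i * (d i : ℝ) = 0 ∧ (∀ d₁ ∈ J₁, ∑ i, θ i * (d₁ i : ℝ) = 0) ∧
          ∀ d₂ : I → ℕ, d₂ ≤ d → (¬ ∃ m : ℕ, d = m • d₂) → d₂ ∉ J₁ →
            ∑ i, θ i * (d₂ i : ℝ) ≠ 0}
    have h1S : θ₁ ∈ S := by
      by_contra hn
      rw [connectedComponentIn_eq_empty hn] at hmem
      exact hmem
    have hcomp : connectedComponentIn S θ₁ ⊆ S := connectedComponentIn_subset S θ₁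
    by_cases hm : ∃ m : ℕ, d = m • d'
    · obtain ⟨m, rfl⟩ := hm
      rcases Nat.eq_zero_or_pos m with rfl | hpos
      · have : d' = 0 := le_antisymm (by simpa using hd') (fun i => Nat.zero_le _)
        subst this
        simp
      · have hz : ∀ θ : I → ℝ, ∑ i, θ i * (((m • d') i : ℕ) : ℝ) = 0 → ∑ i, θ i * (d' i : ℝ) = 0 := by
          intro θ hθ
          simp only [Pi.smul_apply, smul_eq_mul, Nat.cast_mul] at hθ
          have : (m : ℝ) * ∑ i, θ i * (d' i : ℝ) = 0 := by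
            rw [Finset.mul_sum, ← hθ]
            exact Finset.sum_congr rfl fun i _ => by ring
          rcases mul_eq_zero.1 this with hm0 | hm0
          · exact absurd (Nat.cast_eq_zero.1 hm0) hpos.ne'
          · exact hm0
        rw [hz θ₁ h₁, hz θ₂ h₂]
    by_cases hJ' : d' ∈ J₁
    · rw [h1S.2.1 d' hJ', (hcomp hmem).2.1 d' hJ']
    · have hcont : Continuous fun θ : I → ℝ => L d' θ := by
        simp only [L]
        fun_prop
      have hnz : ∀ θ ∈ connectedComponentIn S θ₁, L d' θ ≠ 0 := fun θ hθ => (hcomp hθ).2.2 d' hd' hm hJ'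
      have h1c : θ₁ ∈ connectedComponentIn S θ₁ := mem_connectedComponentIn h1S
      have hpre := isPreconnected_connectedComponentIn (x := θ₁) (F := S)
      change SignType.sign (L d' θ₁) = SignType.sign (L d' θ₂)
      rcases lt_or_gt_of_ne (hnz _ h1c) with ha | ha <;>
        rcases lt_or_gt_of_ne (hnz _ hmem) with hb | hb
      · rw [sign_neg ha, sign_neg hb]
      · obtain ⟨θ, hθ, h0⟩ := hpre.intermediate_value₂ h1c hmem hcont.continuousOn continuousOn_const ha.le hb.le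
        exact absurd h0 (hnz θ hθ)
      · obtain ⟨θ, hθ, h0⟩ := hpre.intermediate_value₂ hmem h1c hcont.continuousOn continuousOn_const hb.le ha.le
        exact absurd h0 (hnz θ hθ)
      · rw [sign_pos ha, sign_pos hb]

end Groth.Agent.S15568
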