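import Groth.Statements.S15570
import Groth.Agent.Misc10.Kron

set_option autoImplicit false
universe u v w
open KronMod

namespace Groth.Agent.S15570

open Groth.Misc10 Groth.Misc10.Kron KronMod Module

/-- Let f be a Kronecker module with n arrows over a field K, from V of dimension n·d₀ to W of dimension
d₀ > 0. Then f is stable if and only if f is semistable and d₀ = 1: for d₀ = 1 every semistable
module is stable (the stable locus of K(n; n, 1) is the one point), while for d₀ > 1 no module is
stable. This is the case dual to dimension vector (d₋₁, n·d₋₁). (The published statement assumes K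
algebraically closed of characteristic zero and n ≥ 2; this row allows any field K and any number n
of arrows.) -/
theorem result (K : Type u) [Field K] (V : Type v) (W : Type w)
    [AddCommGroup V] [Module K V] [FiniteDimensional K V]
    [AddCommGroup W] [Module K W] [FiniteDimensional K W]
    (n : ℕ) (f : Fin n → (V →ₗ[K] W))
    (hW : 0 < Module.finrank K W) (hV : Module.finrank K V = n * Module.finrank K W) :
    KronMod.IsStable f ↔ (KronMod.IsSemistable f ∧ Module.finrank K W = 1) := by
  classical
  have hiff := semistable_iff_pi f hW hV
  constructor
  · intro hs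
    refine ⟨isStable_semistable hs, ?_⟩
    by_contra hne
    have hP := hiff.1 (isStable_semistable hs)
    have : Nontrivial W := Module.nontrivial_of_finrank_pos hW
    obtain ⟨w, hw⟩ := exists_ne (0 : W)
    let W' : Submodule K W := K ∙ w
    let e := LinearEquiv.ofBijective _ hP
    let ι : (Fin n → W') →ₗ[K] V :=
      (e.symm : (Fin n → W) →ₗ[K] V) ∘ₗ (LinearMap.pi fun j => W'.subtype ∘ₗ LinearMap.proj j)
    have hι : Function.Injective ι := by
      intro x y h
      have h' := e.symm.injective h
      funext j
      exact Subtype.ext (congrFun h' j)
    have hsub : IsSubrep f (LinearMap.range ι) W' := by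
      rintro j _ ⟨_, ⟨x, rfl⟩, rfl⟩
      have h := congrFun (e.apply_symm_apply (fun j => (x j : W))) j
      show f j (e.symm fun j => (x j : W)) ∈ W'
      rw [show f j (e.symm fun j => (x j : W)) = (x j : W) from h]
      exact (x j).2
    have h1 := hs.2 _ W' hsub
      (fun ⟨_, b⟩ => hw (Submodule.span_singleton_eq_bot.1 b))
      (fun ⟨_, b⟩ => hne (by rw [← finrank_top K W, ← b, finrank_span_singleton hw]))
    rw [LinearMap.finrank_range_of_inj hι, finrank_pi_const', finrank_span_singleton hw, hV, mul_one, mul_one,
      mul_comm (finrank K W)] at h1
    exact lt_irrefl _ h1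
  · rintro ⟨hss, h1⟩
    refine ⟨by omega, fun V' W' h hb ht => ?_⟩
    have hle := finrank_le_of_pi_injective f (hiff.1 hss).1 h
    rw [h1, one_mul]
    rcases Nat.lt_or_ge (finrank K W') 1 with h0 | h0
    · rw [show finrank K W' = 0 by omega, mul_zero] at hle
      exact absurd ⟨Submodule.finrank_eq_zero.1 (by omega : finrank K V' = 0),
        Submodule.finrank_eq_zero.1 (by omega : finrank K W' = 0)⟩ hb
    · have hW1 : finrank K W' = 1 := by have := Submodule.finrank_le W'; omega
      have hW' : W' = ⊤ := Submodule.eq_top_of_finrank_eq (by omega)
      rw [hW1, mul_one]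
      exact Submodule.finrank_lt fun hV' => ht ⟨hV', hW'⟩

end Groth.Agent.S15570
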