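import Groth.Statements.S15574
import Groth.Agent.Misc12.RI.Extra

set_option autoImplicit false
universe u v
open RInv
open scoped TensorProduct

namespace Groth.Agent.S15574

/-- Let `R` be a commutative ring with an involution `lam` whose fixed ring `S` is local, and suppose
`R` is a quadratic etale `S`-algebra. Then some `r` in `R` has `r - lam r` invertible. -/
theorem result (S : Type u) (R : Type v) [CommRing S] [CommRing R]
    [Algebra S R] (lam : R ≃+* R) (hlam : Function.Involutive lam) (hS : RInv.IsFixedRing S R lam)
    [IsLocalRing S] (hq : RInv.IsQuadEtale S R) : ∃ r : R, IsUnit (r - lam r) := by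
  have hσ : ∀ b, Groth.Misc12.RI.algInv lam hS (Groth.Misc12.RI.algInv lam hS b) = b := hlam
  have hf : RInv.IsFixedRing S R (Groth.Misc12.RI.algInv lam hS).toRingEquiv := hS
  exact Groth.Misc12.RI.quadEtale_local_iff _ hσ hf hq

end Groth.Agent.S15574
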