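import Groth.Statements.S15577
import Groth.Agent.Misc12.RI.Extra

set_option autoImplicit false
universe u v
open RInv
open scoped TensorProduct

namespace Groth.Agent.S15577

/-- Let `R` be a commutative ring with an involution `lam` whose fixed ring `S` is local. If `lam`
induces the identity on `R` modulo its Jacobson radical, then `R` is a local ring and is not a
quadratic etale `S`-algebra. -/
theorem result (S : Type u) (R : Type v) [CommRing S] [CommRing R]
    [Algebra S R] (lam : R ≃+* R) (hlam : Function.Involutive lam) (hS : RInv.IsFixedRing S R lam)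
    [IsLocalRing S] (h : ∀ r : R, lam r - r ∈ Ring.jacobson R) :
    IsLocalRing R ∧ ¬ RInv.IsQuadEtale S R := by
  have hσ : ∀ b, Groth.Misc12.RI.algInv lam hS (Groth.Misc12.RI.algInv lam hS b) = b := hlam
  have hf : RInv.IsFixedRing S R (Groth.Misc12.RI.algInv lam hS).toRingEquiv := hS
  refine ⟨Groth.Misc12.RI.isLocalRing_of_trivial _ hσ hf h, fun hq => ?_⟩
  obtain ⟨r, hr⟩ := Groth.Misc12.RI.quadEtale_local_iff _ hσ hf hq
  haveI := hf.1.nontrivial
  obtain ⟨M, hM⟩ := Ideal.exists_maximal R
  have h1 := h r
  rw [Ring.jacobson_eq_sInf_isMaximal, Ideal.mem_sInf] at h1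
  have h2 : r - lam r ∈ M := by
    rw [← neg_sub]
    exact M.neg_mem_iff.2 (h1 hM)
  exact hM.ne_top (M.eq_top_of_isUnit_mem h2 hr)

end Groth.Agent.S15577
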