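import Groth.Statements.S15578
import Groth.Agent.Misc12.RI.Extra

set_option autoImplicit false
universe u v
open RInv
open scoped TensorProduct

namespace Groth.Agent.S15578

/-- Let `R` be a commutative ring with an involution `lam` whose fixed ring `S` is strictly henselian
(henselian local with separably closed residue field). Then `R` is isomorphic to a product of
finitely many strictly henselian local rings (existence of a ring isomorphism with such a product). -/
theorem result (S : Type u) (R : Type v) [CommRing S] [CommRing R]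
    [Algebra S R] (lam : R ≃+* R) (hlam : Function.Involutive lam) (hS : RInv.IsFixedRing S R lam)
    [HenselianLocalRing S] [IsSepClosed (IsLocalRing.ResidueField S)] :
    ∃ (ι : Type) (_ : Fintype ι) (T : ι → Type v) (_ : ∀ i, CommRing (T i))
      (_ : ∀ i, HenselianLocalRing (T i)),
      (∀ i, IsSepClosed (IsLocalRing.ResidueField (T i))) ∧ Nonempty (R ≃+* (∀ i, T i)) := by
  have hσ : ∀ b, Groth.Misc12.RI.algInv lam hS (Groth.Misc12.RI.algInv lam hS b) = b := hlam
  have hf : RInv.IsFixedRing S R (Groth.Misc12.RI.algInv lam hS).toRingEquiv := hS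
  haveI : Groth.Misc12.AzI.SHLR S := { toHenselianLocalRing := inferInstance, sep := inferInstance }
  rcases Groth.Misc12.AzI.shlr_or_split (Groth.Misc12.RI.algInv lam hS) hσ hS.1 (fun b hb => (hS.2 b).1 hb) with h | ⟨e, π, -, hσe, hπe, hπ⟩
  · haveI := h
    exact ⟨Unit, inferInstance, fun _ => R, fun _ => inferInstance, fun _ => inferInstance, fun _ => h.sep,
      ⟨(RingEquiv.piUnique fun _ : Unit => R).symm⟩⟩
  · obtain ⟨ρ, hρt, hρf⟩ : ∃ ρ : Bool → (R →+* S), ρ true = π.toRingHom ∧
        ρ false = π.toRingHom.comp (Groth.Misc12.RI.algInv lam hS).toAlgHom.toRingHom :=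
      ⟨fun b => if b then π.toRingHom else π.toRingHom.comp (Groth.Misc12.RI.algInv lam hS).toAlgHom.toRingHom, rfl, rfl⟩
    have hsurj : ∀ b, Function.Surjective (ρ b) := fun b s => by
      refine ⟨algebraMap S R s, ?_⟩
      cases b
      · rw [hρf]; simp
      · rw [hρt]; simp
    have hsh : ∀ b, Groth.Misc12.AzI.SHLR (R ⧸ RingHom.ker (ρ b)) := fun b =>
      Groth.Misc12.AzI.shlr_of_ringEquiv (RingHom.quotientKerEquivOfSurjective (hsurj b)).symm
    refine ⟨Bool, inferInstance, fun b => R ⧸ RingHom.ker (ρ b), fun b => inferInstance,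
      fun b => (hsh b).toHenselianLocalRing, fun b => (hsh b).sep,
      ⟨RingEquiv.ofBijective (Pi.ringHom fun b => Ideal.Quotient.mk (RingHom.ker (ρ b))) ⟨?_, fun y => ?_⟩⟩⟩
    · refine (injective_iff_map_eq_zero _).2 fun x hx => ?_
      have h1 : π x = 0 := by
        have := RingHom.mem_ker.1 (Ideal.Quotient.eq_zero_iff_mem.1 (congrFun hx true))
        rwa [hρt] at this
      have h2 : π (Groth.Misc12.RI.algInv lam hS x) = 0 := by
        have := RingHom.mem_ker.1 (Ideal.Quotient.eq_zero_iff_mem.1 (congrFun hx false))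
        rwa [hρf] at this
      rw [← Groth.Misc12.AzI.glue_components (σ := Groth.Misc12.RI.algInv lam hS) e π hσe hπe hπ x hσ, h1, h2]
      simp [Groth.Misc12.AzI.glue]
    · choose z hz using fun b => Ideal.Quotient.mk_surjective (y b)
      refine ⟨Groth.Misc12.AzI.glue e (π (z true)) (π (Groth.Misc12.RI.algInv lam hS (z false))), funext fun b => ?_⟩
      rw [← hz b]
      refine Ideal.Quotient.eq.2 (RingHom.mem_ker.2 ?_)
      rw [map_sub, sub_eq_zero]
      cases b
      · rw [hρf]; exact Groth.Misc12.AzI.pi_sigma_glue (σ := Groth.Misc12.RI.algInv lam hS) e π hσe hπe hπ _ _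
      · rw [hρt]; exact Groth.Misc12.AzI.pi_glue (σ := Groth.Misc12.RI.algInv lam hS) e π hσe hπe hπ _ _

end Groth.Agent.S15578
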