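import Groth.Statements.S15583
import Mathlib

set_option autoImplicit false
universe u v
open RInv

namespace Groth.Agent.S15583

section Aux

open Matrix

variable {A : Type v} [CommRing A] (lam : A ≃+* A) (ε : A)

/-- The congruence `v* h v`. -/
def congrM {m : ℕ} (v h : Matrix (Fin m) (Fin m) A) : Matrix (Fin m) (Fin m) A :=
  (v.map lam).transpose * h * v

/-- Hermitian matrices. -/
def Herm {m : ℕ} (h : Matrix (Fin m) (Fin m) A) : Prop := ∀ i j, ε * lam (h j i) = h i j

/-- The quadratic form. -/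
def qf {m : ℕ} (h : Matrix (Fin m) (Fin m) A) (y : Fin m → A) : A :=
  (fun i => lam (y i)) ⬝ᵥ (h *ᵥ y)

variable {lam ε}

theorem congrM_congrM {m : ℕ} (v w h : Matrix (Fin m) (Fin m) A) :
    congrM lam w (congrM lam v h) = congrM lam (v * w) h := by
  have hm : (v * w).map lam = v.map lam * w.map lam := Matrix.map_mul (f := (lam : A →+* A))
  simp only [congrM, hm, transpose_mul, Matrix.mul_assoc]

theorem congrM_apply {m : ℕ} (v h : Matrix (Fin m) (Fin m) A) (i j : Fin m) :
    congrM lam v h i j = (fun k => lam (v k i)) ⬝ᵥ (h *ᵥ fun l => v l j) := by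
  rw [congrM, Matrix.mul_assoc, Matrix.mul_apply]
  rfl

theorem congrM_diag {m : ℕ} (v h : Matrix (Fin m) (Fin m) A) (i : Fin m) :
    congrM lam v h i i = qf lam h (fun k => v k i) := congrM_apply v h i i

theorem qf_congrM {m : ℕ} (v h : Matrix (Fin m) (Fin m) A) (y : Fin m → A) :
    qf lam (congrM lam v h) y = qf lam h (v *ᵥ y) := by
  have hl : (fun i => lam ((v *ᵥ y) i)) = v.map lam *ᵥ fun i => lam (y i) := by
    funext i; simp [mulVec, dotProduct, map_sum]
  rw [qf, qf, hl, congrM, ← mulVec_mulVec, ← mulVec_mulVec, dotProduct_mulVec, vecMul_transpose]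

theorem qf_eq_sum {m : ℕ} (h : Matrix (Fin m) (Fin m) A) (y : Fin m → A) :
    qf lam h y = ∑ i, ∑ j, lam (y i) * h i j * y j := by
  simp only [qf, dotProduct, mulVec, Finset.mul_sum, mul_assoc]

variable (hlam : Function.Involutive lam) (hεl : lam ε = ε)

include hlam hεl in
theorem Herm.congrM {m : ℕ} {v h : Matrix (Fin m) (Fin m) A} (hh : Herm lam ε h) :
    Herm lam ε (congrM lam v h) := by
  intro i j
  simp only [congrM_apply, dotProduct, mulVec, map_sum, map_mul, Finset.mul_sum]
  rw [Finset.sum_comm]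
  refine Finset.sum_congr rfl fun k _ => Finset.sum_congr rfl fun l _ => ?_
  rw [hlam, ← hh k l]
  ring

include hlam hεl in
theorem Herm.qf_eq {m : ℕ} {h : Matrix (Fin m) (Fin m) A} (hh : Herm lam ε h) (y : Fin m → A) :
    qf lam h y = ε * lam (qf lam h y) := by
  simp only [qf_eq_sum, map_sum, map_mul, Finset.mul_sum]
  rw [Finset.sum_comm]
  refine Finset.sum_congr rfl fun k _ => Finset.sum_congr rfl fun l _ => ?_
  rw [hlam, ← hh l k]
  ring

variable (hJ : ∀ z : A, z = ε * lam z → ¬ IsUnit z → z ∈ Ring.jacobson A)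

theorem isUnit_add_jacobson {z j : A} (hz : IsUnit z) (hj : j ∈ Ring.jacobson A) : IsUnit (z + j) := by
  obtain ⟨u, rfl⟩ := hz
  rw [← Ideal.jacobson_bot, Ideal.mem_jacobson_bot] at hj
  rw [show (u : A) + j = u * (j * (↑u⁻¹ : A) + 1) by
    rw [mul_add, mul_one, mul_left_comm, Units.mul_inv, mul_one, add_comm]]
  exact u.isUnit.mul (hj _)

theorem isUnit_of_jacobson {z w : A} (hz : IsUnit z) (hj : z ∈ Ring.jacobson A) : IsUnit w := by
  have h1 : (1 : A) ∈ Ring.jacobson A := by
    obtain ⟨u, rfl⟩ := hz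
    simpa using Ideal.mul_mem_left _ (↑u⁻¹ : A) hj
  rw [← Ideal.jacobson_bot, Ideal.mem_jacobson_bot] at h1
  simpa using h1 (w - 1)

include hlam hεl in
theorem Herm.sym_mem {m : ℕ} {h : Matrix (Fin m) (Fin m) A} (hh : Herm lam ε h)
    (hq : ∀ i j : Fin m, ∀ a : A, qf lam h (Pi.single i 1 + Pi.single j a) ∈ Ring.jacobson A)
    (hd : ∀ i, h i i ∈ Ring.jacobson A) (i j : Fin m) (a : A) :
    a * h i j + ε * lam (a * h i j) ∈ Ring.jacobson A := by
  have e : qf lam h (Pi.single i 1 + Pi.single j a) =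
      h i i + lam a * a * h j j + (a * h i j + ε * lam (a * h i j)) := by
    have hl : (fun k => lam ((Pi.single i 1 + Pi.single j a : Fin m → A) k)) = Pi.single i 1 + Pi.single j (lam a) := by
      funext k; simp [Pi.single_apply, apply_ite lam]
    rw [qf, hl, map_mul, mul_left_comm ε, hh j i]
    simp [mulVec_add, add_dotProduct, dotProduct_add, single_dotProduct, mulVec_single]
    ring
  have := sub_mem (hq i j a) (add_mem (hd i) (Ideal.mul_mem_left _ (lam a * a) (hd j)))
  rwa [e, add_sub_cancel_left] at this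

include hlam hεl in
theorem Herm.qf_mem {m : ℕ} {h : Matrix (Fin m) (Fin m) A} (hh : Herm lam ε h)
    (hs : ∀ i j : Fin m, ∀ a : A, a * h i j + ε * lam (a * h i j) ∈ Ring.jacobson A)
    (hd : ∀ i, h i i ∈ Ring.jacobson A) (y : Fin m → A) : qf lam h y ∈ Ring.jacobson A := by
  rw [← Ideal.Quotient.eq_zero_iff_mem, qf_eq_sum, map_sum]
  simp only [map_sum]
  rw [← Fintype.sum_prod_type']
  refine Finset.sum_involution (fun p _ => (p.2, p.1)) (fun p _ => ?_) (fun p _ hp hp' => hp ?_)
    (fun _ _ => Finset.mem_univ _) (fun _ _ => rfl)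
  · rw [← map_add, Ideal.Quotient.eq_zero_iff_mem]
    convert hs p.1 p.2 (lam (y p.1) * y p.2) using 1
    simp only [map_mul, hlam (y p.1)]
    rw [← hh p.2 p.1]
    ring
  · have hp'' : p.2 = p.1 := congrArg Prod.fst hp'
    rw [Ideal.Quotient.eq_zero_iff_mem, hp'']
    exact Ideal.mul_mem_right _ _ (Ideal.mul_mem_left _ _ (hd _))

include hlam hεl hJ in
theorem exists_unit_diag {m : ℕ} {h : Matrix (Fin (m + 1)) (Fin (m + 1)) A} (hh : Herm lam ε h)
    (y : Fin (m + 1) → A) (hy : IsUnit (qf lam h y)) :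
    ∃ v, IsUnit v ∧ IsUnit (congrM lam v h 0 0) := by
  classical
  by_contra hcon
  push Not at hcon
  have hcol : ∀ (v : Matrix (Fin (m + 1)) (Fin (m + 1)) A), IsUnit v → qf lam h (fun k => v k 0) ∈ Ring.jacobson A := by
    intro v hv
    exact hJ _ (hh.qf_eq hlam hεl _) (congrM_diag v h 0 ▸ hcon v hv)
  have hT : ∀ (i j : Fin (m + 1)) (a : A), i ≠ j →
      qf lam h (Pi.single i 1 + Pi.single j a) ∈ Ring.jacobson A := by
    intro i j a hij
    have hu : IsUnit (Matrix.transvection j i a) := by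
      rw [Matrix.isUnit_iff_isUnit_det, Matrix.det_transvection_of_ne j i hij.symm]; exact isUnit_one
    have hs : IsUnit ((Matrix.transvection j i a).submatrix id (Equiv.swap 0 i)) :=
      (Matrix.isUnit_submatrix_equiv (Equiv.refl _) (Equiv.swap 0 i)).2 hu
    convert hcol _ hs using 3 with k
    simp [Matrix.transvection, Matrix.one_apply, Matrix.single_apply, Pi.single_apply, eq_comm]
  have hd : ∀ i, h i i ∈ Ring.jacobson A := by
    intro i
    have hs : IsUnit ((1 : Matrix (Fin (m + 1)) (Fin (m + 1)) A).submatrix id (Equiv.swap 0 i)) :=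
      (Matrix.isUnit_submatrix_equiv (Equiv.refl _) (Equiv.swap 0 i)).2 isUnit_one
    have := hcol _ hs
    rwa [← congrM_diag, congrM_apply, show (fun k => ((1 : Matrix _ _ A).submatrix id (Equiv.swap 0 i)) k 0) = Pi.single i 1 by
      funext k; simp [Matrix.one_apply, Pi.single_apply],
      show (fun k => lam (((1 : Matrix _ _ A).submatrix id (Equiv.swap 0 i)) k 0)) = Pi.single i 1 by
      funext k; simp [Matrix.one_apply, Pi.single_apply, apply_ite lam],
      mulVec_single_one, single_dotProduct, one_mul] at this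
  have hall : ∀ (i j : Fin (m + 1)) (a : A), qf lam h (Pi.single i 1 + Pi.single j a) ∈ Ring.jacobson A := by
    intro i j a
    by_cases hij : i = j
    · subst hij
      have : qf lam h (Pi.single i 1 + Pi.single i a) = lam (1 + a) * h i i * (1 + a) := by
        rw [← Pi.single_add, qf, show (fun k => lam ((Pi.single i (1 + a) : Fin (m + 1) → A) k)) = Pi.single i (lam (1 + a)) by
          funext k; simp [Pi.single_apply, apply_ite lam]]
        simp [mulVec_single, single_dotProduct]
      rw [this]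
      exact Ideal.mul_mem_right _ _ (Ideal.mul_mem_left _ _ (hd i))
    · exact hT i j a hij
  exact hcon 1 isUnit_one (isUnit_of_jacobson hy (hh.qf_mem hlam hεl (hh.sym_mem hlam hεl hall hd) hd y))

include hlam hεl in
theorem exists_split {m : ℕ} {h : Matrix (Fin (m + 1)) (Fin (m + 1)) A} (hh : Herm lam ε h) (hu : IsUnit h)
    (hc : IsUnit (h 0 0)) :
    ∃ v, IsUnit v ∧ (fun k => v k 0) = Pi.single 0 1 ∧ congrM lam v h 0 0 = h 0 0 ∧
      (∀ j, congrM lam v h 0 (Fin.succ j) = 0) ∧ (∀ j, congrM lam v h (Fin.succ j) 0 = 0) ∧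
      Herm lam ε ((congrM lam v h).submatrix Fin.succ Fin.succ) ∧
      IsUnit ((congrM lam v h).submatrix Fin.succ Fin.succ) := by
  classical
  obtain ⟨c, hc⟩ := hc
  let N : Matrix (Fin (m + 1)) (Fin (m + 1)) A :=
    Matrix.of fun i j => if i = 0 ∧ j ≠ 0 then -(↑c⁻¹ * h 0 j) else 0
  have hN : N * N = 0 := by
    refine Matrix.ext fun i j => ?_
    rw [Matrix.mul_apply, Matrix.zero_apply]
    refine Finset.sum_eq_zero fun k _ => ?_
    by_cases hk : k = 0 <;> simp [N, hk]
  have hv : IsUnit (1 + N) :=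
    ⟨⟨1 + N, 1 - N, by noncomm_ring; simp [hN], by noncomm_ring; simp [hN]⟩, rfl⟩
  have hcol : (fun k => (1 + N) k 0) = Pi.single 0 1 := by
    funext k; simp [N, Matrix.one_apply, Pi.single_apply]
  have hcoll : (fun k => lam ((1 + N) k 0)) = Pi.single 0 1 := by
    funext k
    show lam ((fun k => (1 + N) k 0) k) = _
    rw [hcol]; simp [Pi.single_apply, apply_ite lam]
  have h00 : congrM lam (1 + N) h 0 0 = h 0 0 := by
    rw [congrM_apply, hcol, hcoll]; simp [mulVec_single, single_dotProduct]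
  have h0j : ∀ j, congrM lam (1 + N) h 0 (Fin.succ j) = 0 := by
    intro j
    rw [congrM_apply, hcoll, single_dotProduct, one_mul]
    simp only [mulVec, dotProduct, Matrix.add_apply, mul_add, Finset.sum_add_distrib]
    rw [Finset.sum_eq_single (Fin.succ j) (fun k _ hk => by simp [Matrix.one_apply_ne hk]) (by simp),
      Finset.sum_eq_single 0 (fun k _ hk => by simp [N, hk]) (by simp)]
    simp [N, Fin.succ_ne_zero, ← hc, ← mul_assoc]
  have hh' := hh.congrM (v := 1 + N) hlam hεl
  have hj0 : ∀ j, congrM lam (1 + N) h (Fin.succ j) 0 = 0 := fun j => by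
    rw [← hh' (Fin.succ j) 0, h0j, map_zero, mul_zero]
  refine ⟨1 + N, hv, hcol, h00, h0j, hj0, fun i j => hh' _ _, ?_⟩
  have hu' : IsUnit (congrM lam (1 + N) h) := by
    refine (IsUnit.mul (IsUnit.mul ?_ hu) hv)
    rw [Matrix.isUnit_transpose]
    exact hv.map (lam : A →+* A).mapMatrix
  rw [Matrix.isUnit_iff_isUnit_det] at hu' ⊢
  rw [Matrix.det_succ_row_zero, Fin.sum_univ_succ] at hu'
  simp only [h0j, mul_zero, zero_mul, Finset.sum_const_zero, add_zero, Fin.val_zero, pow_zero, one_mul, Fin.succAbove_zero] at hu'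
  exact (IsUnit.mul_iff.1 hu').2

theorem qf_split {m : ℕ} {h : Matrix (Fin (m + 1)) (Fin (m + 1)) A} (h0 : ∀ j, h 0 (Fin.succ j) = 0)
    (h1 : ∀ j, h (Fin.succ j) 0 = 0) (a : A) (y : Fin m → A) :
    qf lam h (Fin.cons a y) = lam a * h 0 0 * a + qf lam (h.submatrix Fin.succ Fin.succ) y := by
  simp [qf_eq_sum, Fin.sum_univ_succ, h0, h1]

include hlam hεl hJ in
theorem exists_diagonal : ∀ {m : ℕ} {h : Matrix (Fin m) (Fin m) A}, Herm lam ε h → IsUnit h →
    (0 < m → ∃ y, IsUnit (qf lam h y)) → ∃ v, IsUnit v ∧ ∃ d, congrM lam v h = Matrix.diagonal d := by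
  classical
  intro m
  induction m with
  | zero => exact fun _ _ _ => ⟨1, isUnit_one, fun _ => 0, Matrix.ext fun i => i.elim0⟩
  | succ m ih =>
    intro h hh hu hy
    obtain ⟨y, hy⟩ := hy (Nat.succ_pos m)
    have hmap : ∀ {v : Matrix (Fin (m + 1)) (Fin (m + 1)) A}, IsUnit v → ∀ {h}, IsUnit h → IsUnit (congrM lam v h) := by
      intro v hv h hu
      refine (IsUnit.mul (IsUnit.mul ?_ hu) hv)
      rw [Matrix.isUnit_transpose]
      exact hv.map (lam : A →+* A).mapMatrix
    -- it suffices to find a splitting whose complement is again non-degenerate in the strong sense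
    suffices key : ∃ v, IsUnit v ∧ (∀ j, congrM lam v h 0 (Fin.succ j) = 0) ∧ (∀ j, congrM lam v h (Fin.succ j) 0 = 0) ∧
        Herm lam ε ((congrM lam v h).submatrix Fin.succ Fin.succ) ∧
        IsUnit ((congrM lam v h).submatrix Fin.succ Fin.succ) ∧
        (0 < m → ∃ y, IsUnit (qf lam ((congrM lam v h).submatrix Fin.succ Fin.succ) y)) by
      obtain ⟨v, hv, h0, h1, hC, hCu, hCy⟩ := key
      obtain ⟨w, hw, d, hd⟩ := ih hC hCu hCy
      let W : Matrix (Fin (m + 1)) (Fin (m + 1)) A :=
        Matrix.of (Fin.cases (Fin.cases 1 fun _ => 0) fun i => Fin.cases 0 (w i))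
      have hW : IsUnit W := by
        rw [Matrix.isUnit_iff_isUnit_det] at hw ⊢
        rw [Matrix.det_succ_row_zero, Fin.sum_univ_succ]
        have : W.submatrix Fin.succ Fin.succ = w := by ext i j; simp [W]
        simpa [W, Fin.succAbove_zero, this] using hw
      refine ⟨v * W, hv.mul hW, Fin.cons (congrM lam v h 0 0) d, ?_⟩
      rw [← congrM_congrM]
      refine Matrix.ext fun i j => ?_
      rw [congrM_apply, dotProduct, Fin.sum_univ_succ]
      simp only [mulVec, dotProduct, Fin.sum_univ_succ]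
      cases i using Fin.cases with
      | zero => cases j using Fin.cases with
        | zero => simp [W]
        | succ j => simp [W, h0, (Fin.succ_ne_zero j).symm]
      | succ i => cases j using Fin.cases with
        | zero => simp [W, h1, Fin.succ_ne_zero]
        | succ j =>
          have := congrFun (congrFun hd i) j
          rw [congrM_apply] at this
          simp only [dotProduct, mulVec, Matrix.submatrix_apply] at this
          simp [W, this, Matrix.diagonal_apply]
    obtain ⟨v₀, hv₀, hc⟩ := exists_unit_diag hlam hεl hJ hh y hy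
    have hh₀ := hh.congrM (v := v₀) hlam hεl
    obtain ⟨v₁, hv₁, hcol₁, hc₁, h0, h1, hC, hCu⟩ := exists_split hlam hεl hh₀ (hmap hv₀ hu) hc
    rw [congrM_congrM] at hc₁ h0 h1 hC hCu
    set h' := congrM lam (v₀ * v₁) h with hh'
    set C := h'.submatrix Fin.succ Fin.succ with hCdef
    by_cases hCy : 0 < m → ∃ y, IsUnit (qf lam C y)
    · exact ⟨v₀ * v₁, hv₀.mul hv₁, h0, h1, hC, hCu, hCy⟩
    push Not at hCy
    obtain ⟨hm, hCy⟩ := hCy
    obtain ⟨l, rfl⟩ : ∃ l, m = l + 1 := ⟨m - 1, by omega⟩
    have hJC : ∀ y, qf lam C y ∈ Ring.jacobson A := fun y => hJ _ (hC.qf_eq hlam hεl y) (hCy y)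
    have hc' : IsUnit (h' 0 0) := hc₁ ▸ hc
    let T : Matrix (Fin (l + 2)) (Fin (l + 2)) A := Matrix.transvection (Fin.succ 0) 0 1
    have hT : IsUnit T := by
      rw [Matrix.isUnit_iff_isUnit_det, Matrix.det_transvection_of_ne _ _ (Fin.succ_ne_zero 0)]; exact isUnit_one
    have hTcol : (fun k => T k 0) = Fin.cons 1 (Pi.single 0 1) := by
      funext k
      cases k using Fin.cases with
      | zero => simp [T, Matrix.transvection, Matrix.one_apply, Matrix.single_apply]
      | succ k =>
        simp only [T, Matrix.transvection, Matrix.add_apply, Matrix.one_apply, Matrix.single_apply, Pi.single_apply, Fin.succ_ne_zero,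
          Fin.cons_succ, if_false, zero_add, Fin.succ_inj, and_true, eq_comm (a := (0 : Fin (l + 1)))]
    have hh'' : Herm lam ε h' := hh.congrM hlam hεl
    have hc'' : IsUnit (congrM lam T h' 0 0) := by
      rw [congrM_diag, hTcol, qf_split h0 h1, map_one, one_mul, mul_one]
      exact isUnit_add_jacobson hc' (hJC _)
    obtain ⟨v₂, hv₂, hcol₂, hc₂, k0, k1, hC₂, hC₂u⟩ :=
      exists_split hlam hεl (hh''.congrM (v := T) hlam hεl) (hmap hT (hmap (hv₀.mul hv₁) hu)) hc''
    rw [congrM_congrM] at hc₂ k0 k1 hC₂ hC₂u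
    set V := T * v₂ with hV
    have hVu : IsUnit V := hT.mul hv₂
    refine ⟨v₀ * v₁ * V, (hv₀.mul hv₁).mul hVu, ?_⟩
    rw [← congrM_congrM, ← hh']
    refine ⟨k0, k1, hC₂, hC₂u, fun _ => ?_⟩
    -- an anisotropic vector orthogonal to the first basis vector
    obtain ⟨c, hcu⟩ := hc'
    let w₂ : Fin (l + 1) → A := C⁻¹ *ᵥ Pi.single 0 1
    have hw₂ : C *ᵥ w₂ = Pi.single 0 1 := by
      rw [mulVec_mulVec, Matrix.mul_nonsing_inv C ((Matrix.isUnit_iff_isUnit_det C).1 hCu), one_mulVec]
    let a : A := -(↑c⁻¹ : A)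
    let wv : Fin (l + 2) → A := Fin.cons a w₂
    let Y := V⁻¹ *ᵥ wv
    have hVY : V *ᵥ Y = wv := by
      rw [mulVec_mulVec, Matrix.mul_nonsing_inv V ((Matrix.isUnit_iff_isUnit_det V).1 hVu), one_mulVec]
    have hVcol : (fun k => lam (V k 0)) = Fin.cons 1 (Pi.single 0 1) := by
      have : (fun k => V k 0) = fun k => T k 0 := by
        funext k
        rw [hV, Matrix.mul_apply]
        have := fun i => congrFun hcol₂ i
        simp only [this]
        simp [Pi.single_apply]
      funext k
      rw [congrFun this k, congrFun hTcol k]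
      cases k using Fin.cases <;> simp [Pi.single_apply, apply_ite lam]
    have hY0 : congrM lam V h' 0 0 * Y 0 = 0 := by
      have e1 : (congrM lam V h' *ᵥ Y) 0 = congrM lam V h' 0 0 * Y 0 := by
        simp [mulVec, dotProduct, Fin.sum_univ_succ, k0]
      have e2 : (congrM lam V h' *ᵥ Y) 0 = (fun k => lam (V k 0)) ⬝ᵥ (h' *ᵥ wv) := by
        rw [congrM, ← mulVec_mulVec, hVY, ← mulVec_mulVec]
        rfl
      have e3 : (h' *ᵥ wv) 0 = h' 0 0 * a := by simp [wv, mulVec, dotProduct, Fin.sum_univ_succ, h0]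
      have e4 : (h' *ᵥ wv) (Fin.succ 0) = 1 := by
        have := congrFun hw₂ 0
        simp only [mulVec, dotProduct, Pi.single_eq_same, hCdef, Matrix.submatrix_apply] at this
        simp only [wv, mulVec, dotProduct]
        rw [Fin.sum_univ_succ]
        simp only [Fin.cons_zero, Fin.cons_succ, h1, zero_mul, zero_add]
        exact this
      rw [← e1, e2, hVcol, dotProduct, Fin.sum_univ_succ]
      simp only [Fin.cons_zero, Fin.cons_succ, one_mul, Pi.single_apply, ite_mul, zero_mul, Finset.sum_ite_eq', Finset.mem_univ, if_true]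
      rw [e3, e4, ← hcu]
      simp [a]
    have hY0' : Y 0 = 0 := by
      rwa [hc₂, IsUnit.mul_right_eq_zero hc''] at hY0
    refine ⟨fun i => Y i.succ, ?_⟩
    have e5 : qf lam (congrM lam V h') Y = qf lam ((congrM lam V h').submatrix Fin.succ Fin.succ) (fun i => Y i.succ) := by
      conv_lhs => rw [← Fin.cons_self_tail Y, qf_split k0 k1, hY0', map_zero, zero_mul, zero_mul, zero_add]
      rfl
    rw [← e5, qf_congrM, hVY, qf_split h0 h1, ← hcu]
    exact isUnit_add_jacobson ((((c⁻¹).isUnit.neg).map lam).mul c.isUnit |>.mul (c⁻¹).isUnit.neg) (hJC _)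

/-- An alternating matrix of odd size has zero determinant. -/
theorem det_eq_zero_of_alternating {R : Type*} [CommRing R] {n : ℕ} (hn : Odd n) (M : Matrix (Fin n) (Fin n) R)
    (hs : ∀ i j, M j i = -M i j) (hd : ∀ i, M i i = 0) : M.det = 0 := by
  classical
  rw [Matrix.det_apply']
  refine Finset.sum_involution (fun σ _ => σ⁻¹) (fun σ _ => ?_) (fun σ _ hne heq => hne ?_)
    (fun _ _ => Finset.mem_univ _) (fun σ _ => inv_inv σ)
  · have h1 : ∏ i, M (σ⁻¹ i) i = - ∏ i, M (σ i) i := by
      rw [← Equiv.prod_comp σ (fun i => M (σ⁻¹ i) i)]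
      simp only [Equiv.Perm.inv_def, Equiv.symm_apply_apply]
      rw [Finset.prod_congr rfl fun i _ => hs (σ i) i, Finset.prod_neg, Finset.card_univ, Fintype.card_fin, hn.neg_one_pow,
        neg_one_mul]
    rw [Equiv.Perm.sign_inv, h1]
    ring
  · have hσ : σ ^ 2 ^ 1 = 1 := by
      rw [pow_one, sq]; exact mul_eq_one_iff_eq_inv.2 heq.symm
    have : Fact (Nat.Prime 2) := ⟨Nat.prime_two⟩
    obtain ⟨i, hi⟩ := Equiv.Perm.exists_fixed_point_of_prime
      (by rw [Fintype.card_fin]; exact hn.not_two_dvd_nat) hσ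
    rw [Finset.prod_eq_zero (Finset.mem_univ i) (by rw [hi, hd]), mul_zero]

end Aux

/-- Let `A` be a commutative ring with an involution `lam` whose fixed ring `B` is local, let `ε = ±1`,
and let `h` be an invertible `n × n` matrix over `A` that is `(ε, lam)`-hermitian: `h` equals `ε`
times the transpose of `lam` applied entrywise to `h`. If `lam` is not the identity modulo the
Jacobson radical of `A`, or `ε ≠ -1` modulo that radical, or `n` is odd, then `h` is congruent to a
diagonal matrix: there is an invertible `v` with `(lam v)ᵀ h v` diagonal. -/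
theorem result (B : Type u) (A : Type v) [CommRing B] [CommRing A]
    [Algebra B A] (lam : A ≃+* A) (hlam : Function.Involutive lam) (hB : RInv.IsFixedRing B A lam)
    [IsLocalRing B] (n : ℕ) (ε : A) (hε : ε = 1 ∨ ε = -1) (h : Matrix (Fin n) (Fin n) A)
    (hh : IsUnit h) (herm : ε • (h.map lam).transpose = h)
    (hcase : (∃ a : A, lam a - a ∉ Ring.jacobson A) ∨ ε + 1 ∉ Ring.jacobson A ∨ Odd n) :
    ∃ v : Matrix (Fin n) (Fin n) A, IsUnit v ∧
      ∃ d : Fin n → A, (v.map lam).transpose * h * v = Matrix.diagonal d := by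
  classical
  have hH : Herm lam ε h := fun i j => by
    have := congrFun (congrFun herm i) j
    simpa using this
  have hεl : lam ε = ε := by rcases hε with rfl | rfl <;> simp
  have hJ : ∀ z : A, z = ε * lam z → ¬ IsUnit z → z ∈ Ring.jacobson A := by
    intro z hz hzu
    obtain ⟨b, hb⟩ := (hB.2 (z * lam z)).1 (by rw [map_mul, hlam, mul_comm])
    have hbu : ¬ IsUnit b := fun hbu => hzu (IsUnit.mul_iff.1 (hb ▸ hbu.map (algebraMap B A))).1
    have hbJ : algebraMap B A b ∈ Ring.jacobson A := by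
      rw [← Ideal.jacobson_bot, Ideal.mem_jacobson_bot]
      intro y
      obtain ⟨s, hs⟩ := (hB.2 (y + lam y + algebraMap B A b * (y * lam y))).1 (by
        have hbf : lam (algebraMap B A b) = algebraMap B A b := (hB.2 _).2 ⟨b, rfl⟩
        simp only [map_add, map_mul, hlam y, hbf]; ring)
      have hu : IsUnit (1 + b * s) := by
        refine (IsLocalRing.isUnit_or_isUnit_of_isUnit_add (a := 1 + b * s) (b := -(b * s)) (by simp)).resolve_right ?_
        rw [IsUnit.neg_iff]
        exact fun h => hbu (IsUnit.mul_iff.1 h).1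
      refine isUnit_of_mul_isUnit_left (y := algebraMap B A b * lam y + 1) ?_
      rw [show (algebraMap B A b * y + 1) * (algebraMap B A b * lam y + 1) =
        1 + algebraMap B A b * (y + lam y + algebraMap B A b * (y * lam y)) by ring, ← hs, ← map_mul, ← map_one (algebraMap B A), ← map_add]
      exact hu.map _
    rw [← Ideal.jacobson_bot]
    refine Ideal.isRadical_jacobson _ ⟨2, ?_⟩
    rw [Ideal.jacobson_bot, sq]
    nth_rw 2 [hz]
    rw [mul_left_comm, ← hb]
    exact Ideal.mul_mem_left _ _ hbJ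
  refine exists_diagonal hlam hεl hJ hH hh fun hn => ?_
  by_contra! hall
  obtain ⟨m, rfl⟩ : ∃ m, n = m + 1 := ⟨n - 1, by omega⟩
  have hall' : ∀ y, qf lam h y ∈ Ring.jacobson A := fun y => hJ _ (hH.qf_eq hlam hεl y) (hall y)
  have hd : ∀ i, h i i ∈ Ring.jacobson A := fun i => by
    have := hall' (Pi.single i 1)
    rwa [qf, show (fun k => lam ((Pi.single i 1 : Fin (m + 1) → A) k)) = Pi.single i 1 by
      funext k; simp [Pi.single_apply, apply_ite lam], Matrix.mulVec_single_one, single_dotProduct, one_mul] at this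
  have hs := hH.sym_mem hlam hεl (fun i j a => hall' _) hd
  -- the additive set `{z | z + ε λ z ∈ J}` contains everything
  have hL : ∀ t : A, t + ε * lam t ∈ Ring.jacobson A := by
    intro t
    let w : Fin (m + 1) → A := h⁻¹.mulVec (Pi.single 0 1)
    have hw : ∑ j, h 0 j * w j = 1 := by
      have : h.mulVec w = Pi.single 0 1 := by
        rw [Matrix.mulVec_mulVec, Matrix.mul_nonsing_inv h ((Matrix.isUnit_iff_isUnit_det h).1 hh), Matrix.one_mulVec]
      simpa [Matrix.mulVec, dotProduct] using congrFun this 0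
    have e : t + ε * lam t = ∑ j, ((t * w j) * h 0 j + ε * lam ((t * w j) * h 0 j)) := by
      rw [Finset.sum_add_distrib, ← Finset.mul_sum, ← map_sum, ← Finset.sum_congr rfl fun j _ => (show t * (h 0 j * w j) = t * w j * h 0 j by ring),
        ← Finset.mul_sum, hw, mul_one]
    rw [e]
    exact Ideal.sum_mem _ fun j _ => hs 0 j _
  have h1 : ε + 1 ∈ Ring.jacobson A := by simpa [add_comm] using hL 1
  rcases hcase with ⟨a, ha⟩ | h' | hodd
  · refine ha ?_
    have := sub_mem (Ideal.mul_mem_right (lam a) _ h1) (hL a)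
    rwa [show (ε + 1) * lam a - (a + ε * lam a) = lam a - a by ring] at this
  · exact h' h1
  · have : Nontrivial A := hB.1.nontrivial
    obtain ⟨M, hM⟩ := Ideal.exists_maximal A
    have hJM : Ring.jacobson A ≤ M := by
      rw [← Ideal.jacobson_bot]; exact sInf_le ⟨bot_le, hM⟩
    have hdet := det_eq_zero_of_alternating hodd (h.map (Ideal.Quotient.mk M)) (fun i j => by
      have := hs i j 1
      rw [one_mul, hH j i] at this
      rw [Matrix.map_apply, Matrix.map_apply, ← map_neg, Ideal.Quotient.eq, sub_neg_eq_add, add_comm]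
      exact hJM this) (fun i => Ideal.Quotient.eq_zero_iff_mem.2 (hJM (hd i)))
    have hu := ((Matrix.isUnit_iff_isUnit_det h).1 hh).map (Ideal.Quotient.mk M)
    rw [RingHom.map_det, RingHom.mapMatrix_apply, hdet] at hu
    exact not_isUnit_zero hu

end Groth.Agent.S15583
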