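import Groth.Statements.S15585
import Groth.Agent.Misc12.RI.Extra

set_option autoImplicit false
universe u v
open RInv
open scoped TensorProduct

namespace Groth.Agent.S15585

/-- For a local ring `S` (maximal ideal `m`, residue field `k`) and a quadratic etale `S`-algebra `R`,
the ring `R/mR` is a field that is a separable extension of `k` of degree 2, or else it is
isomorphic as a `k`-algebra to `k × k`. -/
theorem result (S : Type u) (R : Type v) [CommRing S]
    [CommRing R] [Algebra S R] [IsLocalRing S] (hq : RInv.IsQuadEtale S R) :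
    (IsField (R ⧸ (IsLocalRing.maximalIdeal S).map (algebraMap S R)) ∧
      Module.finrank (S ⧸ IsLocalRing.maximalIdeal S)
        (R ⧸ (IsLocalRing.maximalIdeal S).map (algebraMap S R)) = 2 ∧
      Algebra.IsSeparable (S ⧸ IsLocalRing.maximalIdeal S)
        (R ⧸ (IsLocalRing.maximalIdeal S).map (algebraMap S R))) ∨
    Nonempty ((R ⧸ (IsLocalRing.maximalIdeal S).map (algebraMap S R)) ≃ₐ[S ⧸ IsLocalRing.maximalIdeal S]
      ((S ⧸ IsLocalRing.maximalIdeal S) × (S ⧸ IsLocalRing.maximalIdeal S))) := by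
  classical
  obtain ⟨hred, hunr, hrk⟩ := Groth.Misc12.RI.fibre_facts S R hq
  haveI := hred
  haveI := hunr
  haveI := hq.1
  set k := S ⧸ IsLocalRing.maximalIdeal S
  let F := IsLocalRing.ResidueField S
  set mR := (IsLocalRing.maximalIdeal S).map (algebraMap S R)
  let e0 : (R ⧸ mR) ≃ₐ[S] k ⊗[S] R :=
    ((Algebra.TensorProduct.quotIdealMapEquivTensorQuot R (IsLocalRing.maximalIdeal S)).restrictScalars S).trans
      (Algebra.TensorProduct.comm S R k)
  let e : (R ⧸ mR) ≃ₐ[k] k ⊗[S] R := AlgEquiv.ofRingEquiv (f := e0.toRingEquiv) fun c => by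
    obtain ⟨s, rfl⟩ := Ideal.Quotient.mk_surjective c
    exact e0.commutes s
  haveI : IsReduced (k ⊗[S] R) := hred
  haveI : IsReduced (R ⧸ mR) := isReduced_of_injective e.toRingEquiv.toRingHom e.injective
  letI : Field k := Ideal.Quotient.field _
  haveI : Algebra.FormallyUnramified k (k ⊗[S] R) := hunr
  haveI : Algebra.FormallyUnramified k (R ⧸ mR) := Algebra.FormallyUnramified.of_equiv e.symm
  have h2 : Module.finrank k (R ⧸ mR) = 2 := e.toLinearEquiv.finrank_eq.trans hrk
  haveI : Nontrivial (R ⧸ mR) := Module.nontrivial_of_finrank_eq_succ h2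
  haveI : Module.Finite k (R ⧸ mR) := Module.finite_of_finrank_eq_succ h2
  by_cases hf : IsField (R ⧸ mR)
  · left
    refine ⟨hf, h2, ?_⟩
    haveI := Ideal.Quotient.maximal_of_isField mR hf
    letI iA : Algebra k (R ⧸ mR) := Ideal.Quotient.algebraQuotientOfLEComap (Ideal.map_le_iff_le_comap.1 le_rfl)
    letI := Ideal.Quotient.field mR
    exact Algebra.FormallyUnramified.isSeparable k (R ⧸ mR)
  · right
    obtain ⟨x, hx0, hxu⟩ : ∃ x : R ⧸ mR, x ≠ 0 ∧ ¬ IsUnit x :=
      Ring.not_isField_iff_exists_ideal_bot_lt_and_lt_top.mp hf |>.elim fun I ⟨hI, hI'⟩ => by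
        obtain ⟨x, hxI, hx⟩ := Submodule.exists_mem_ne_zero_of_ne_bot hI.ne'
        exact ⟨x, hx, fun hu => hI'.ne (I.eq_top_of_isUnit_mem hxI hu)⟩
    let L : (Fin 2 → k) →ₗ[k] R ⧸ mR := Fintype.linearCombination k ![1, x]
    have hL : ∀ v, L v = algebraMap k (R ⧸ mR) (v 0) + algebraMap k (R ⧸ mR) (v 1) * x := fun v => by
      simp [L, Fintype.linearCombination_apply, Fin.sum_univ_two, Algebra.smul_def]
    have hLinj : Function.Injective L := (injective_iff_map_eq_zero L).2 fun v hv => by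
      rw [hL] at hv
      have h1 : v 1 = 0 := by
        by_contra h1
        by_cases h0 : v 0 = 0
        · rw [h0, map_zero, zero_add] at hv
          exact hx0 (((isUnit_iff_ne_zero.2 h1).map (algebraMap k (R ⧸ mR))).mul_right_eq_zero.1 hv)
        · refine hxu (isUnit_of_mul_isUnit_right (x := algebraMap k (R ⧸ mR) (v 1)) ?_)
          rw [show algebraMap k (R ⧸ mR) (v 1) * x = -algebraMap k (R ⧸ mR) (v 0) by linear_combination hv]
          exact ((isUnit_iff_ne_zero.2 h0).map _).neg
      rw [h1, map_zero, zero_mul, add_zero, map_eq_zero] at hv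
      funext i
      match i with
      | 0 => exact hv
      | 1 => exact h1
    obtain ⟨v, hv⟩ := (LinearMap.injective_iff_surjective_of_finrank_eq_finrank (by simp [h2])).1 hLinj (x * x)
    rw [hL] at hv
    have hv0 : v 0 = 0 := by
      by_contra h0
      refine hxu (isUnit_of_mul_isUnit_left (y := x - algebraMap k (R ⧸ mR) (v 1)) ?_)
      rw [show x * (x - algebraMap k (R ⧸ mR) (v 1)) = algebraMap k (R ⧸ mR) (v 0) by linear_combination -hv]
      exact (isUnit_iff_ne_zero.2 h0).map _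
    rw [hv0, map_zero, zero_add] at hv
    have hv1 : v 1 ≠ 0 := fun h1 => by
      rw [h1, map_zero, zero_mul] at hv
      exact hx0 (IsReduced.eq_zero _ ⟨2, by rw [sq, ← hv]⟩)
    set f := algebraMap k (R ⧸ mR) (v 1)⁻¹ * x
    have hff : f * f = f := by
      have h1 : algebraMap k (R ⧸ mR) (v 1)⁻¹ * algebraMap k (R ⧸ mR) (v 1) = 1 := by
        rw [← map_mul, inv_mul_cancel₀ hv1, map_one]
      linear_combination (-(algebraMap k (R ⧸ mR) (v 1)⁻¹ * algebraMap k (R ⧸ mR) (v 1)⁻¹)) * hv + f * h1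
    let φ : (k × k) →ₐ[k] R ⧸ mR := AlgHom.ofLinearMap
      (((LinearMap.toSpanSingleton k _ f).comp (LinearMap.fst k k k)) +
        ((LinearMap.toSpanSingleton k _ (1 - f)).comp (LinearMap.snd k k k)))
      (by simp)
      (fun a b => by
        simp only [LinearMap.add_apply, LinearMap.comp_apply, LinearMap.fst_apply, LinearMap.snd_apply,
          LinearMap.toSpanSingleton_apply, Prod.fst_mul, Prod.snd_mul, Algebra.smul_def, map_mul]
        linear_combination (algebraMap k (R ⧸ mR) a.1 * algebraMap k (R ⧸ mR) b.2 + algebraMap k (R ⧸ mR) a.2 * algebraMap k (R ⧸ mR) b.1 - algebraMap k (R ⧸ mR) a.1 * algebraMap k (R ⧸ mR) b.1 - algebraMap k (R ⧸ mR) a.2 * algebraMap k (R ⧸ mR) b.2) * hff)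
    have hφ : Function.Injective φ := (injective_iff_map_eq_zero φ).2 fun a ha => by
      change a.1 • f + a.2 • (1 - f) = 0 at ha
      simp only [Algebra.smul_def] at ha
      have h1 : algebraMap k (R ⧸ mR) a.1 * f = 0 := by linear_combination f * ha - (algebraMap k (R ⧸ mR) a.1 - algebraMap k (R ⧸ mR) a.2) * hff
      have h2' : algebraMap k (R ⧸ mR) a.2 * (1 - f) = 0 := by linear_combination (1 - f) * ha - (algebraMap k (R ⧸ mR) a.2 - algebraMap k (R ⧸ mR) a.1) * hff
      have hf0 : f ≠ 0 := fun h0 => hx0 (((isUnit_iff_ne_zero.2 (inv_ne_zero hv1)).map (algebraMap k (R ⧸ mR))).mul_right_eq_zero.1 h0)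
      have hf1 : (1 - f) ≠ 0 := fun h0 => hxu (isUnit_of_mul_isUnit_right (x := algebraMap k (R ⧸ mR) (v 1)⁻¹) (by
        rw [show algebraMap k (R ⧸ mR) (v 1)⁻¹ * x = 1 from (sub_eq_zero.1 h0).symm]; exact isUnit_one))
      refine Prod.ext ?_ ?_
      · by_contra h0
        exact hf0 (((isUnit_iff_ne_zero.2 h0).map (algebraMap k (R ⧸ mR))).mul_right_eq_zero.1 h1)
      · by_contra h0
        exact hf1 (((isUnit_iff_ne_zero.2 h0).map (algebraMap k (R ⧸ mR))).mul_right_eq_zero.1 h2')
    exact ⟨(AlgEquiv.ofBijective φ ⟨hφ, (LinearMap.injective_iff_surjective_of_finrank_eq_finrank (f := φ.toLinearMap) (by simp [h2])).1 hφ⟩).symm⟩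

end Groth.Agent.S15585
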