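import Groth.Statements.S15589
import Groth.Agent.Misc12.RI.Extra

set_option autoImplicit false
universe u v
open scoped TensorProduct
open RInv
open scoped TensorProduct

namespace Groth.Agent.S15589

/-- Let `R` be a commutative ring with an involution `lam` and fixed ring `S`, `W ⊆ Spec S` the branch
locus (primes `p` with `S_p ⊗_S R` not quadratic etale over `S_p`), `I` its vanishing ideal and `J =
rad(IR)`. Then `Spec(R/J) → Spec(S/I)` is a homeomorphism; if `2` is a unit of `S`, the ring map
`S/I → R/J` is moreover bijective, so the reduced preimage of the branch locus maps isomorphically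
onto it. Affine-local form of the statement for a good quotient of schemes by an involution (the
hypothesis `I ≤ J ∩ S` holds automatically and only serves to write down the map). -/
theorem result (S : Type u) (R : Type v) [CommRing S] [CommRing R]
    [Algebra S R] (lam : R ≃+* R) (hlam : Function.Involutive lam) (hS : RInv.IsFixedRing S R lam)
    (W : Set (PrimeSpectrum S))
    (hW : W = {p : PrimeSpectrum S | ¬ RInv.IsQuadEtale (Localization.AtPrime p.asIdeal) (Localization.AtPrime p.asIdeal ⊗[S] R)})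
    (J : Ideal R) (hJ : J = ((PrimeSpectrum.vanishingIdeal W).map (algebraMap S R)).radical)
    (hIJ : PrimeSpectrum.vanishingIdeal W ≤ J.comap (algebraMap S R)) :
    IsHomeomorph (PrimeSpectrum.comap (Ideal.quotientMap J (algebraMap S R) hIJ)) ∧
      (IsUnit (2 : S) → Function.Bijective (Ideal.quotientMap J (algebraMap S R) hIJ)) := by
  have hσ : ∀ b, Groth.Misc12.RI.algInv lam hS (Groth.Misc12.RI.algInv lam hS b) = b := hlam
  have hf : RInv.IsFixedRing S R (Groth.Misc12.RI.algInv lam hS).toRingEquiv := hS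
  subst hW hJ
  haveI := Groth.Misc12.AzI.isIntegral_fixed hσ hf
  set σ := Groth.Misc12.RI.algInv lam hS
  set W := {p : PrimeSpectrum S | ¬ RInv.IsQuadEtale (Localization.AtPrime p.asIdeal) (Localization.AtPrime p.asIdeal ⊗[S] R)}
  set I := PrimeSpectrum.vanishingIdeal W
  set J := (I.map (algebraMap S R)).radical
  set g := Ideal.quotientMap J (algebraMap S R) hIJ
  have hint : g.IsIntegral := fun z => by
    obtain ⟨x, rfl⟩ := Ideal.Quotient.mk_surjective z
    obtain ⟨P, hP, hP0⟩ := Algebra.IsIntegral.isIntegral (R := S) x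
    refine ⟨P.map (Ideal.Quotient.mk I), hP.map _, ?_⟩
    rw [Polynomial.eval₂_map, Ideal.quotientMap_comp_mk, ← Polynomial.hom_eval₂, hP0, map_zero]
  have hover : ∀ p : PrimeSpectrum S, I ≤ p.asIdeal → ∃ q : PrimeSpectrum R, J ≤ q.asIdeal ∧
      q.asIdeal.comap (algebraMap S R) = p.asIdeal ∧
      ∀ q' : PrimeSpectrum R, q'.asIdeal.comap (algebraMap S R) = p.asIdeal → q' = q := fun p hp => by
    obtain ⟨q, hq, hu, -⟩ := (Groth.Misc12.RI.branch_iff σ hσ hf p).1 (Groth.Misc12.RI.vanishing_subset σ hσ hf p hp)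
    exact ⟨q, (q.isPrime.radical_le_iff).2 (Ideal.map_le_iff_le_comap.2 (hq.symm ▸ hp)), hq, hu⟩
  have hcomp : g.comp (Ideal.Quotient.mk I) = (Ideal.Quotient.mk J).comp (algebraMap S R) := Ideal.quotientMap_comp_mk hIJ
  have hbij : Function.Bijective (PrimeSpectrum.comap g) := by
    refine ⟨fun a b hab => ?_, fun Q => ?_⟩
    · refine PrimeSpectrum.comap_injective_of_surjective (Ideal.Quotient.mk J) Ideal.Quotient.mk_surjective ?_
      have hab' : PrimeSpectrum.comap (algebraMap S R) (PrimeSpectrum.comap (Ideal.Quotient.mk J) a) =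
          PrimeSpectrum.comap (algebraMap S R) (PrimeSpectrum.comap (Ideal.Quotient.mk J) b) := by
        rw [← PrimeSpectrum.comap_comp_apply, ← PrimeSpectrum.comap_comp_apply, ← hcomp, PrimeSpectrum.comap_comp_apply,
          PrimeSpectrum.comap_comp_apply, hab]
      have hle : I ≤ (PrimeSpectrum.comap (algebraMap S R) (PrimeSpectrum.comap (Ideal.Quotient.mk J) b)).asIdeal := fun s hs => by
        change Ideal.Quotient.mk J (algebraMap S R s) ∈ b.asIdeal
        rw [Ideal.Quotient.eq_zero_iff_mem.2 (Ideal.le_radical (Ideal.mem_map_of_mem _ hs))]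
        exact zero_mem _
      obtain ⟨q, -, -, hu⟩ := hover _ hle
      rw [hu _ (congrArg PrimeSpectrum.asIdeal hab'), hu _ rfl]
    · have hle : I ≤ (PrimeSpectrum.comap (Ideal.Quotient.mk I) Q).asIdeal := fun s hs => by
        change Ideal.Quotient.mk I s ∈ Q.asIdeal
        rw [Ideal.Quotient.eq_zero_iff_mem.2 hs]
        exact zero_mem _
      obtain ⟨q, hJq, hq, -⟩ := hover _ hle
      have hqr : q ∈ Set.range (PrimeSpectrum.comap (Ideal.Quotient.mk J)) := by
        rw [range_comap_of_surjective _ _ Ideal.Quotient.mk_surjective, PrimeSpectrum.mem_zeroLocus, Ideal.mk_ker]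
        exact hJq
      obtain ⟨a, ha⟩ := hqr
      refine ⟨a, PrimeSpectrum.comap_injective_of_surjective (Ideal.Quotient.mk I) Ideal.Quotient.mk_surjective ?_⟩
      rw [← PrimeSpectrum.comap_comp_apply, hcomp, PrimeSpectrum.comap_comp_apply, ha]
      exact PrimeSpectrum.ext hq
  refine ⟨isHomeomorph_iff_continuous_isClosedMap_bijective.2
    ⟨PrimeSpectrum.continuous_comap g, PrimeSpectrum.isClosedMap_comap_of_isIntegral g hint, hbij⟩, fun h2 => ⟨?_, fun z => ?_⟩⟩
  · refine (injective_iff_map_eq_zero g).2 fun z hz => ?_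
    obtain ⟨s, rfl⟩ := Ideal.Quotient.mk_surjective z
    rw [Ideal.quotientMap_mk, Ideal.Quotient.eq_zero_iff_mem] at hz
    rw [Ideal.Quotient.eq_zero_iff_mem]
    refine (PrimeSpectrum.mem_vanishingIdeal _ _).2 fun p hp => ?_
    obtain ⟨q, hJq, hq, -⟩ := hover p ((PrimeSpectrum.subset_zeroLocus_iff_le_vanishingIdeal W I).2 le_rfl hp)
    rw [← hq]
    exact hJq hz
  · obtain ⟨r, rfl⟩ := Ideal.Quotient.mk_surjective z
    obtain ⟨c, hc⟩ := h2.exists_left_inv
    obtain ⟨⟨s, hs⟩, -⟩ := Groth.Misc12.AzI.exists_sum_mul hσ hf r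
    refine ⟨Ideal.Quotient.mk I (c * s), ?_⟩
    rw [Ideal.quotientMap_mk, Ideal.Quotient.eq, map_mul, hs]
    have hmem : σ r - r ∈ J := by
      rw [show J = (I.map (algebraMap S R)).radical from rfl, Ideal.radical_eq_sInf, Ideal.mem_sInf]
      rintro q ⟨hle, hq⟩
      exact Groth.Misc12.RI.branch_ramified σ hσ hf ⟨q, hq⟩ (Ideal.map_le_iff_le_comap.1 hle) r
    rw [show algebraMap S R c * (r + σ r) - r = algebraMap S R c * (σ r - r) by
      linear_combination r * ((map_mul (algebraMap S R) c 2).symm.trans (by rw [hc, map_one]) |> fun h : algebraMap S R c * algebraMap S R 2 = 1 => by rwa [map_ofNat] at h : algebraMap S R c * 2 = 1)]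
    exact J.mul_mem_left _ hmem

end Groth.Agent.S15589
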