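import Groth.Statements.S15590
import Mathlib

set_option autoImplicit false
universe u v
open CAlg

namespace Groth.Agent.S15590

/-- Let A → B be an injective homomorphism of commutative rings which makes B a finite flat A-module,
and suppose B is a Dedekind domain (Noetherian, integrally closed, of Krull dimension at most one; a
field is allowed). Then A is a Dedekind domain. -/
theorem result (A : Type u) (B : Type v)
    [CommRing A] [CommRing B] [Algebra A B] [IsDedekindDomain B]
    (hinj : Function.Injective (algebraMap A B)) [Module.Finite A B] [Module.Flat A B] :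
    IsDedekindDomain A := by
  have : FaithfulSMul A B := (faithfulSMul_iff_algebraMap_injective A B).2 hinj
  have : IsDomain A := hinj.isDomain (algebraMap A B)
  have : Algebra.IsIntegral A B := inferInstance
  have : Module.FaithfullyFlat A B := inferInstance
  have hN : IsNoetherianRing A := by
    rw [isNoetherianRing_iff, isNoetherian_iff']
    have : WellFoundedGT (Ideal B) := isNoetherian_iff'.mp (isNoetherianRing_iff.mp inferInstance)
    have hmono : StrictMono (fun I : Ideal A => I.map (algebraMap A B)) := fun I J h =>
      lt_of_le_of_ne (Ideal.map_mono h.le) fun e => h.ne (Ideal.map_injective_of_faithfullyFlat e)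
    exact hmono.wellFoundedGT
  refine (isDedekindDomain_iff A (FractionRing A)).2 ⟨inferInstance, hN, ⟨fun {p} hp hpp => ?_⟩, fun {x} hx => ?_⟩
  · obtain ⟨P, hP, ⟨hPp⟩⟩ := p.exists_isPrime_liesOver_of_faithfullyFlat (B := B)
    have hP0 : P ≠ ⊥ := fun e => hp (by
      rw [hPp, e, Ideal.under, Ideal.comap_bot_of_injective _ hinj])
    have hPm : P.IsMaximal := hP.isMaximal hP0
    rw [hPp]
    exact Ideal.isMaximal_comap_of_isIntegral_of_isMaximal P
  · obtain ⟨a, b, hb, rfl⟩ := IsFractionRing.div_surjective (A := A) x
    let ψ : FractionRing A →+* FractionRing B := IsFractionRing.map hinj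
    have hψ : ∀ c : A, ψ (algebraMap A (FractionRing A) c) = algebraMap B (FractionRing B) (algebraMap A B c) :=
      fun c => IsLocalization.map_eq _ c
    obtain ⟨q, hq, hq0⟩ := hx
    have hint : IsIntegral B (ψ (algebraMap A _ a / algebraMap A _ b)) := by
      refine ⟨q.map (algebraMap A B), hq.map _, ?_⟩
      rw [Polynomial.eval₂_map, ← show ψ.comp (algebraMap A (FractionRing A)) =
        (algebraMap B (FractionRing B)).comp (algebraMap A B) from RingHom.ext hψ,
        ← Polynomial.hom_eval₂, hq0, map_zero]
    obtain ⟨z, hz⟩ := IsIntegrallyClosed.isIntegral_iff.1 hint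
    have hbz : algebraMap A B a = algebraMap A B b * z := by
      apply IsFractionRing.injective B (FractionRing B)
      rw [map_mul, hz, map_div₀, hψ, hψ, mul_div_cancel₀]
      simpa using fun e => nonZeroDivisors.ne_zero hb e
    have ha : a ∈ ((Ideal.span {b}).map (algebraMap A B)).comap (algebraMap A B) := by
      rw [Ideal.mem_comap, Ideal.map_span, Set.image_singleton, Ideal.mem_span_singleton, hbz]
      exact dvd_mul_right _ _
    rw [Ideal.comap_map_eq_self_of_faithfullyFlat, Ideal.mem_span_singleton] at ha
    obtain ⟨y, rfl⟩ := ha
    refine ⟨y, ?_⟩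
    rw [map_mul, mul_div_cancel_left₀]
    simpa using nonZeroDivisors.ne_zero hb

end Groth.Agent.S15590
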