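import Groth.Statements.S15592
import Groth.Agent.AlgGrp1.Rigidity
import Groth.Agent.AlgGrp1.Act
import Groth.Agent.Reductive.Points
import Groth.Agent.Misc15.P1Stalk
import Mathlib

set_option autoImplicit false
universe u
open CategoryTheory MonoidalCategory CartesianMonoidalCategory MonObj GrpObj AlgebraicGeometry
open scoped Polynomial
open AlgGrp

namespace Groth.Agent.S15592

open Groth.AlgGrp1 (specAlg specAlgMap)

variable {k : Type u} [Field k]

/-- A morphism from a dense open of a curve-like scheme into a proper scheme extends. -/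
lemma exists_extension {W C X : Over (Spec (CommRingCat.of k))} (j : W ⟶ C) [IsOpenImmersion j.left]
    [IsIntegral C.left] [Nonempty W.left] [IsProper X.hom] (g : W ⟶ X)
    (hC : ∀ x : C.left, PreValuationRing (C.left.presheaf.stalk x)) :
    ∃ e : C ⟶ X, j ≫ e = g := by
  let D := j.left.opensRange
  have hDne : (D : Set C.left).Nonempty := Set.range_nonempty _
  have hD : Dense (D : Set C.left) := D.2.dense hDne
  let eD : W.left ≅ D.toScheme := j.left.isoOpensRange
  have heD : eD.hom ≫ D.ι = j.left := Scheme.Hom.isoOpensRange_hom_ι _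
  let f : C.left.PartialMap X.left := ⟨D, hD, eD.inv ≫ g.left⟩
  have hf : f.hom ≫ X.hom = D.ι ≫ C.hom := by
    show (eD.inv ≫ g.left) ≫ X.hom = _
    rw [← cancel_epi eD.hom, Category.assoc, Iso.hom_inv_id_assoc, Over.w g, reassoc_of% heD, Over.w j]
  have htop : f.toRationalMap.domain = ⊤ := top_unique fun x _ =>
    @Groth.Misc15.P1Stalk.mem_domain_of_preValuationRing _ _ _ _ C.hom X.hom _ f hf x (hC x)
  have : X.left.IsSeparated := ⟨by
    rw [← Limits.terminal.comp_from X.hom]; infer_instance⟩
  let e₀ : C.left ⟶ X.left := (C.left.topIso.inv ≫ (C.left.isoOfEq htop).inv) ≫ f.toRationalMap.toPartialMap.hom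
  have he₀ : D.ι ≫ e₀ = f.hom := by
    have h1 : D.ι ≫ C.left.topIso.inv ≫ (C.left.isoOfEq htop).inv =
        C.left.homOfLE f.le_domain_toRationalMap := by
      rw [← cancel_mono f.toRationalMap.domain.ι]
      simp
      rfl
    show D.ι ≫ (C.left.topIso.inv ≫ (C.left.isoOfEq htop).inv) ≫ _ = _
    rw [← Category.assoc, h1]
    exact f.toPartialMap_toRationalMap_restrict
  have he₁ : j.left ≫ e₀ = g.left := by
    rw [← heD, Category.assoc, he₀]
    exact Iso.hom_inv_id_assoc _ _
  have : IsDominant j.left := ⟨hD⟩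
  refine ⟨Over.homMk e₀ ?_, Over.OverMorphism.ext he₁⟩
  have : (Spec (CommRingCat.of k)).IsSeparated := inferInstance
  refine ext_of_isDominant j.left ?_
  rw [← Category.assoc, he₁, Over.w g, Over.w j]

variable (k) in
/-- The affine line. -/
noncomputable abbrev line : Over (Spec (CommRingCat.of k)) := specAlg k k[X]

variable (k) in
/-- The affine line without the origin. -/
noncomputable abbrev punct : Over (Spec (CommRingCat.of k)) := specAlg k (Localization.Away (Polynomial.X : k[X]))

lemma preValuationRing_line (x : (line k).left) : PreValuationRing ((line k).left.presheaf.stalk x) := by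
  let p : Ideal k[X] := PrimeSpectrum.asIdeal x
  have : IsPrincipalIdealRing (Localization.AtPrime p) :=
    ⟨fun J => by
      obtain ⟨a, ha⟩ := (IsPrincipalIdealRing.principal (J.under k[X])).principal
      rw [← IsLocalization.map_under p.primeCompl (Localization.AtPrime p) J]
      refine ⟨⟨algebraMap _ _ a, ?_⟩⟩
      show Ideal.map _ (J.under k[X]) = _
      rw [ha, ← Ideal.span, Ideal.map_span, Set.image_singleton]⟩
  have : ValuationRing (Localization.AtPrime p) := inferInstance
  let e : Localization.AtPrime p ≃+* (Spec (CommRingCat.of k[X])).presheaf.stalk x :=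
    (StructureSheaf.stalkIso k[X] x).toRingEquiv
  show PreValuationRing _
  exact Function.Surjective.preValuationRing (f := e.toRingHom.toMonoidWithZeroHom.toMulHom) e.surjective

lemma specAlgMap_comp {R R' R'' : Type u} [CommRing R] [Algebra k R] [CommRing R'] [Algebra k R']
    [CommRing R''] [Algebra k R''] (φ : R →ₐ[k] R') (ψ : R' →ₐ[k] R'') :
    specAlgMap ψ ≫ specAlgMap φ = specAlgMap (ψ.comp φ) := by
  ext : 1
  exact (Spec.map_comp _ _).symm

/-- The algebra structure of global functions. -/
noncomputable abbrev algΓ (T : Over (Spec (CommRingCat.of k))) : Algebra k Γ(T.left, ⊤) :=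
  ((Scheme.ΓSpecIso (CommRingCat.of k)).inv ≫ T.hom.appTop).hom.toAlgebra

/-- The morphism to the spectrum given by an algebra map to global functions. -/
noncomputable def ptOf {T : Over (Spec (CommRingCat.of k))} {R : Type u} [CommRing R] [Algebra k R]
    (ψ : R →+* Γ(T.left, ⊤))
    (hψ : ψ.comp (algebraMap k R) = ((Scheme.ΓSpecIso (CommRingCat.of k)).inv ≫ T.hom.appTop).hom) :
    T ⟶ specAlg k R :=
  Over.homMk (T.left.toSpecΓ ≫ Spec.map (CommRingCat.ofHom ψ)) (by
    show (_ ≫ Spec.map (CommRingCat.ofHom ψ)) ≫ Spec.map (CommRingCat.ofHom (algebraMap k R)) = T.hom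
    rw [Category.assoc, ← Spec.map_comp,
      show CommRingCat.ofHom (algebraMap k R) ≫ CommRingCat.ofHom ψ =
        (Scheme.ΓSpecIso (CommRingCat.of k)).inv ≫ T.hom.appTop from CommRingCat.hom_ext hψ,
      Spec.map_comp, ← Scheme.toSpecΓ_naturality_assoc]
    simp)

/-- The origin of the affine line. -/
noncomputable def origin : 𝟙_ (Over (Spec (CommRingCat.of k))) ⟶ line k :=
  Over.homMk (Spec.map (CommRingCat.ofHom (Polynomial.evalRingHom (0 : k)))) (by
    show Spec.map _ ≫ Spec.map _ = 𝟙 (Spec (CommRingCat.of k))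
    rw [← Spec.map_comp, ← Spec.map_id]
    congr 1
    ext c
    simp)

/-- The point of the affine line given by an element. -/
noncomputable abbrev pt {R : Type u} [CommRing R] [Algebra k R] (r : R) : specAlg k R ⟶ line k :=
  specAlgMap (Polynomial.aeval r)

lemma ptOf_comp_pt {T : Over (Spec (CommRingCat.of k))} {R : Type u} [CommRing R] [Algebra k R]
    (ψ : R →+* Γ(T.left, ⊤))
    (hψ : ψ.comp (algebraMap k R) = ((Scheme.ΓSpecIso (CommRingCat.of k)).inv ≫ T.hom.appTop).hom)
    (r : R) (hr : ψ r = 0) : ptOf ψ hψ ≫ pt r = toUnit T ≫ origin := by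
  ext : 1
  show (T.left.toSpecΓ ≫ Spec.map _) ≫ Spec.map _ = T.hom ≫ Spec.map _
  rw [Category.assoc, ← Spec.map_comp]
  have h : CommRingCat.ofHom (Polynomial.aeval r : k[X] →ₐ[k] R).toRingHom ≫ CommRingCat.ofHom ψ =
      CommRingCat.ofHom (Polynomial.evalRingHom (0 : k)) ≫
        ((Scheme.ΓSpecIso (CommRingCat.of k)).inv ≫ T.hom.appTop) := by
    refine CommRingCat.hom_ext (Polynomial.ringHom_ext (fun c => ?_) ?_)
    · show ψ (Polynomial.aeval r (Polynomial.C c)) = ((Scheme.ΓSpecIso (CommRingCat.of k)).inv ≫ T.hom.appTop).hom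
        (Polynomial.eval 0 (Polynomial.C c))
      rw [Polynomial.aeval_C, Polynomial.eval_C]
      exact RingHom.congr_fun hψ c
    · show ψ (Polynomial.aeval r Polynomial.X) = ((Scheme.ΓSpecIso (CommRingCat.of k)).inv ≫ T.hom.appTop).hom
        (Polynomial.eval 0 Polynomial.X)
      rw [Polynomial.aeval_X, Polynomial.eval_X, hr, map_zero]
  rw [h, Spec.map_comp, Spec.map_comp, Category.assoc, ← Scheme.toSpecΓ_naturality_assoc]
  simp

/-- The point of the punctured line given by a unit. -/
noncomputable abbrev upt {L : Type u} [CommRing L] [Algebra k L] (r : L) (hr : IsUnit r) :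
    specAlg k L ⟶ punct k :=
  specAlgMap (IsLocalization.liftAlgHom (M := Submonoid.powers (Polynomial.X : k[X]))
    (f := Polynomial.aeval r) fun y => by
      obtain ⟨n, hn⟩ := y.2
      rw [← hn]
      simpa using hr.pow n)

variable (k) in
noncomputable abbrev punctIncl : punct k ⟶ line k :=
  specAlgMap (IsScalarTower.toAlgHom k k[X] (Localization.Away (Polynomial.X : k[X])))

lemma upt_comp_incl {L : Type u} [CommRing L] [Algebra k L] (r : L) (hr : IsUnit r) :
    upt r hr ≫ punctIncl k = pt (k := k) r := by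
  rw [specAlgMap_comp]
  congr 1
  exact AlgHom.ext fun x => IsLocalization.lift_eq _ x

/-- A chart of a one-parameter group near infinity gives a fixed point. -/
lemma exists_fixed_of_chart {G X : Over (Spec (CommRingCat.of k))} [GrpObj G] [IsProper X.hom]
    (x₀ : 𝟙_ (Over (Spec (CommRingCat.of k))) ⟶ X) (a : AlgGrp.Action G X)
    (γ₀ : punct k ⟶ G) (R : Type u) [CommRing R] [IsDomain R] [Algebra k R]
    (g₀ : specAlg k R ⟶ G) (p p' : R) (hp : p ≠ 0) (hp' : p' ≠ 0)
    (hrel : ∀ (L : Type u) [CommRing L] [Algebra k L] (φ : R →ₐ[k] L)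
      (h : IsUnit (φ p)) (h' : IsUnit (φ p')),
        upt (φ p') h' ≫ γ₀ = (specAlgMap φ ≫ g₀) * (upt (φ p) h ≫ γ₀))
    (huniv : ∀ (T : Over (Spec (CommRingCat.of k))) (g : T ⟶ G), ∃ (ψ : R →+* Γ(T.left, ⊤))
      (hψ : ψ.comp (algebraMap k R) = ((Scheme.ΓSpecIso (CommRingCat.of k)).inv ≫ T.hom.appTop).hom),
        ptOf ψ hψ ≫ g₀ = g ∧ ψ p = 0 ∧ ψ p' = 0) :
    ∃ x : 𝟙_ (Over (Spec (CommRingCat.of k))) ⟶ X, a.IsFixedPt x := by
  have : IsIntegral (line k).left := inferInstanceAs (IsIntegral (Spec (CommRingCat.of k[X])))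
  have : IsDomain (Localization.Away (Polynomial.X : k[X])) :=
    IsLocalization.isDomain_localization (powers_le_nonZeroDivisors_of_noZeroDivisors Polynomial.X_ne_zero)
  have : Nonempty (punct k).left := inferInstanceAs (Nonempty (PrimeSpectrum (Localization.Away (Polynomial.X : k[X]))))
  have : IsOpenImmersion (punctIncl k).left :=
    IsOpenImmersion.of_isLocalization (R := k[X]) (S := Localization.Away (Polynomial.X : k[X])) Polynomial.X
  obtain ⟨e, he⟩ := exists_extension (punctIncl k) (γ₀ ≫ a.orbitMap x₀) preValuationRing_line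
  refine ⟨origin ≫ e, ?_⟩
  have key : lift g₀ (pt p ≫ e) ≫ a.act = pt p' ≫ e := by
    let L := Localization.Away (p * p')
    let φ : R →ₐ[k] L := IsScalarTower.toAlgHom k R L
    have hpp : IsUnit (φ (p * p')) := IsLocalization.Away.algebraMap_isUnit (S := L) (p * p')
    rw [map_mul, IsUnit.mul_iff] at hpp
    have : IsDomain L :=
      IsLocalization.isDomain_localization (powers_le_nonZeroDivisors_of_noZeroDivisors (mul_ne_zero hp hp'))
    let j : specAlg k L ⟶ specAlg k R := specAlgMap φ
    have : IsOpenImmersion j.left := IsOpenImmersion.of_isLocalization (R := R) (S := L) (p * p')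
    have : IsIntegral (specAlg k R).left := inferInstanceAs (IsIntegral (Spec (CommRingCat.of R)))
    have : Nonempty (specAlg k L).left := inferInstanceAs (Nonempty (PrimeSpectrum L))
    have : IsDominant j.left :=
      ⟨(j.left.opensRange).2.dense (Set.range_nonempty _)⟩
    have hj : ∀ r : R, j ≫ pt r = pt (k := k) (φ r) := fun r => by
      rw [specAlgMap_comp]
      congr 1
      exact Polynomial.algHom_ext (by simp)
    have hpe : ∀ (r : R) (hr : IsUnit (φ r)), j ≫ pt r ≫ e =
        lift (upt (φ r) hr ≫ γ₀) (toUnit _ ≫ x₀) ≫ a.act := fun r hr => by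
      rw [← Category.assoc, hj, ← upt_comp_incl (φ r) hr, Category.assoc, he, ← Category.assoc,
        Groth.AlgGrp1.comp_orbit]
    have hagree : j ≫ lift g₀ (pt p ≫ e) ≫ a.act = j ≫ pt p' ≫ e := by
      rw [comp_lift_assoc, hpe p hpp.1, hpe p' hpp.2, ← a.lift_mul_act, hrel L φ hpp.1 hpp.2]
    exact Over.OverMorphism.ext (ext_of_isDominant_of_isSeparated X.hom
      (by rw [Over.w (lift g₀ (pt p ≫ e) ≫ a.act), Over.w (pt p' ≫ e)]) j.left
      (congrArg Over.Hom.left hagree))
  intro T g
  obtain ⟨ψ, hψ, hg, h0, h0'⟩ := huniv T g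
  have := congrArg (ptOf ψ hψ ≫ ·) key
  simp only [comp_lift_assoc, hg] at this
  rwa [← Category.assoc, ← Category.assoc, ptOf_comp_pt ψ hψ p h0, ptOf_comp_pt ψ hψ p' h0',
    Category.assoc] at this

/-- The case of a one-dimensional group. Let k be a field, X a proper k-scheme having a k-rational
point, and G a k-group scheme isomorphic, as a k-group scheme, to the additive group or to the
multiplicative group over k. Then every action of G on X fixes some k-rational point of X: there is
a k-point x with g · x = x for all points g of G with values in any k-scheme. (This is the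
one-dimensional case of the fixed point property of k-split solvable groups acting on proper
k-schemes with a rational point, to which the general case reduces by induction along a composition
series.) -/
theorem result (k : Type u) [Field k]
    (G X : Over (Spec (CommRingCat.of k))) [GrpObj G]
    (hG : Nonempty (Grp.mk G ≅ Grp.mk (Red.Ga (Spec (CommRingCat.of k)))) ∨ Nonempty (Grp.mk G ≅ Grp.mk (Red.Gm (Spec (CommRingCat.of k)))))
    [IsProper X.hom] (x₀ : 𝟙_ (Over (Spec (CommRingCat.of k))) ⟶ X) (a : AlgGrp.Action G X) :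
    ∃ x : 𝟙_ (Over (Spec (CommRingCat.of k))) ⟶ X, a.IsFixedPt x := by
  let S := Spec (CommRingCat.of k)
  have hcoord : ∀ (L : Type u) [CommRing L] [Algebra k L] {Z : Type u} [CommRing Z] [Algebra k Z]
      (φ : Z →ₐ[k] L) (z : Z), (specAlgMap φ).left.appTop ((Scheme.ΓSpecIso (CommRingCat.of Z)).inv z) =
        (Scheme.ΓSpecIso (CommRingCat.of L)).inv (φ z) := fun L _ _ Z _ _ φ z =>
    congr($(Scheme.ΓSpecIso_inv_naturality (CommRingCat.ofHom φ.toRingHom)) z).symm
  have hu : ∀ (L : Type u) [CommRing L] [Algebra k L] (r : L) (hr : IsUnit r),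
      IsLocalization.liftAlgHom (M := Submonoid.powers (Polynomial.X : k[X]))
        (f := Polynomial.aeval r) (fun y => by
          obtain ⟨n, hn⟩ := y.2
          rw [← hn]
          simpa using hr.pow n)
        (algebraMap k[X] (Localization.Away (Polynomial.X : k[X])) Polynomial.X) = r := fun L _ _ r hr =>
    (IsLocalization.lift_eq _ _).trans (Polynomial.aeval_X r)
  let O := Localization.Away (Polynomial.X : k[X])
  let o : O := algebraMap k[X] O Polynomial.X
  have ho : IsUnit o := IsLocalization.Away.algebraMap_isUnit _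
  have : IsDomain (Polynomial k[X]) := inferInstance
  -- the ring of the chart
  have hψalg : ∀ {T : Over S} (c : Γ(T.left, ⊤)),
      (Polynomial.eval₂RingHom (Polynomial.eval₂RingHom
        ((Scheme.ΓSpecIso (CommRingCat.of k)).inv ≫ T.hom.appTop).hom 0) c).comp (algebraMap k (Polynomial k[X])) =
      ((Scheme.ΓSpecIso (CommRingCat.of k)).inv ≫ T.hom.appTop).hom := fun c => by
    ext x
    simp [IsScalarTower.algebraMap_apply k k[X] (Polynomial k[X]), Polynomial.algebraMap_eq]
  rcases hG with ⟨⟨E⟩⟩ | ⟨⟨E⟩⟩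
  · let f : G ⟶ Red.Ga S := E.hom.hom.hom
    let f' : Red.Ga S ⟶ G := E.inv.hom.hom
    have hfc : ∀ {T : Over S} (z : T ⟶ Red.Ga S), (z ≫ f') ≫ f = z := fun z =>
      (Category.assoc _ _ _).trans ((congrArg (z ≫ ·)
        (congrArg (fun e => e.hom.hom) E.inv_hom_id : f' ≫ f = 𝟙 (Red.Ga S))).trans (Category.comp_id z))
    have hfmul : ∀ {T : Over S} (u w : T ⟶ G), (u * w) ≫ f = (u ≫ f) * (w ≫ f) := fun u w =>
      @MonObj.mul_comp _ _ _ _ _ _ _ _ u w f E.hom.hom.isMonHom_hom
    have hff' : f' ≫ f = 𝟙 _ := congrArg (fun e => e.hom.hom) E.inv_hom_id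
    have hf'f : f ≫ f' = 𝟙 _ := congrArg (fun e => e.hom.hom) E.hom_inv_id
    have : IsMonHom f := E.hom.hom.isMonHom_hom
    have hinj : ∀ {T : Over S} {g g' : T ⟶ G}, Red.gaFn (g ≫ f) = Red.gaFn (g' ≫ f) → g = g' := fun h => by
      have h2 := congrArg (· ≫ f') (Groth.Reductive.gaFn_injective h)
      simpa [hf'f] using h2
    let ρ : Polynomial k[X] := 1 + Polynomial.X * Polynomial.C Polynomial.X
    have hρ : ρ ≠ 0 := fun h => by
      have := congrArg (fun q => Polynomial.coeff q 0) h
      simp [ρ] at this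
    let R := Localization.Away ρ
    have : IsDomain R := IsLocalization.isDomain_localization (powers_le_nonZeroDivisors_of_noZeroDivisors hρ)
    let p : R := algebraMap (Polynomial k[X]) R (Polynomial.C (Polynomial.X : k[X]))
    let t : R := algebraMap (Polynomial k[X]) R Polynomial.X
    obtain ⟨v, hv⟩ : ∃ v : R, (1 + t * p) * v = 1 := by
      have h := (IsLocalization.Away.algebraMap_isUnit (S := R) ρ).exists_right_inv
      obtain ⟨v, hv⟩ := h
      refine ⟨v, Eq.trans ?_ hv⟩
      congr 1
      simp only [ρ, t, p, map_add, map_one, map_mul]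
    have hp : p ≠ 0 := fun h => by
      have := IsLocalization.injective R (powers_le_nonZeroDivisors_of_noZeroDivisors hρ) (h.trans (map_zero _).symm)
      simp at this
    let γ₀ : punct k ⟶ G := Groth.Reductive.gaMk (punct k)
      ((Scheme.ΓSpecIso (CommRingCat.of O)).inv (↑ho.unit⁻¹ : O)) ≫ f'
    let g₀ : specAlg k R ⟶ G := Groth.Reductive.gaMk (specAlg k R) ((Scheme.ΓSpecIso (CommRingCat.of R)).inv t) ≫ f'
    refine exists_fixed_of_chart x₀ a γ₀ R g₀ p (p * v) hp
      (mul_ne_zero hp (fun h => by simp [h] at hv)) ?_ fun T g => ?_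
    · intro L _ _ φ h h'
      apply hinj
      rw [hfmul, Groth.Reductive.gaFn_mul]
      simp only [γ₀, g₀, ← Category.assoc, hfc, Groth.Reductive.gaFn_comp,
        Groth.Reductive.gaFn_gaMk, upt]
      erw [hcoord, hcoord, hcoord]
      rw [← map_add]
      congr 1
      have key : ∀ (r : L) (hr : IsUnit r) (w : L), r * w = 1 → ∀ (W : O →ₐ[k] L), W o = r → W ↑ho.unit⁻¹ = w := by
        intro r hr w hw W hW
        apply hr.mul_left_cancel
        rw [hw, ← hW, ← map_mul, IsUnit.mul_val_inv, map_one]
      rw [key (φ p) h ↑h.unit⁻¹ h.mul_val_inv _ (hu L _ h)]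
      refine key (φ (p * v)) h' _ ?_ _ (hu L _ h')
      have h1 : φ p * ↑h.unit⁻¹ = 1 := h.mul_val_inv
      have h2 := congrArg φ hv
      simp only [map_mul, map_add, map_one] at h2
      rw [map_mul]
      linear_combination h2 + φ v * h1
    · let c := Red.gaFn (g ≫ f)
      let ψ₀ : Polynomial k[X] →+* Γ(T.left, ⊤) := Polynomial.eval₂RingHom (Polynomial.eval₂RingHom
        ((Scheme.ΓSpecIso (CommRingCat.of k)).inv ≫ T.hom.appTop).hom 0) c
      have hψ₀ : IsUnit (ψ₀ ρ) := by simp [ρ, ψ₀]
      let ψ : R →+* Γ(T.left, ⊤) := IsLocalization.Away.lift ρ hψ₀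
      have hψe : ∀ x, ψ (algebraMap _ R x) = ψ₀ x := fun x => IsLocalization.Away.lift_eq ρ hψ₀ x
      refine ⟨ψ, ?_, ?_, ?_, ?_⟩
      · rw [IsScalarTower.algebraMap_eq k (Polynomial k[X]) R, ← RingHom.comp_assoc,
          IsLocalization.Away.lift_comp]
        exact hψalg c
      · apply hinj
        simp only [g₀, ← Category.assoc, hfc]
        rw [Groth.Reductive.gaFn_comp]
        simp only [
          Groth.Reductive.gaFn_gaMk, ptOf, Over.homMk_left, Scheme.Hom.comp_appTop, CommRingCat.comp_apply]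
        erw [← congr($(Scheme.ΓSpecIso_inv_naturality (CommRingCat.ofHom ψ)) t), CommRingCat.comp_apply,
          Scheme.toSpecΓ_appTop]
        erw [← CommRingCat.comp_apply, Category.assoc, Iso.inv_hom_id, Category.comp_id]
        show ψ t = c
        rw [hψe]
        simp [ψ₀]
      · rw [hψe]; simp [ψ₀]
      · rw [map_mul, hψe]; simp [ψ₀]
  · let f : G ⟶ Red.Gm S := E.hom.hom.hom
    let f' : Red.Gm S ⟶ G := E.inv.hom.hom
    have hfc : ∀ {T : Over S} (z : T ⟶ Red.Gm S), (z ≫ f') ≫ f = z := fun z =>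
      (Category.assoc _ _ _).trans ((congrArg (z ≫ ·)
        (congrArg (fun e => e.hom.hom) E.inv_hom_id : f' ≫ f = 𝟙 (Red.Gm S))).trans (Category.comp_id z))
    have hfmul : ∀ {T : Over S} (u w : T ⟶ G), (u * w) ≫ f = (u ≫ f) * (w ≫ f) := fun u w =>
      @MonObj.mul_comp _ _ _ _ _ _ _ _ u w f E.hom.hom.isMonHom_hom
    have hff' : f' ≫ f = 𝟙 _ := congrArg (fun e => e.hom.hom) E.inv_hom_id
    have hf'f : f ≫ f' = 𝟙 _ := congrArg (fun e => e.hom.hom) E.hom_inv_id
    have : IsMonHom f := E.hom.hom.isMonHom_hom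
    have hinj : ∀ {T : Over S} {g g' : T ⟶ G}, Red.gmFn (g ≫ f) = Red.gmFn (g' ≫ f) → g = g' := fun h => by
      have h2 := congrArg (· ≫ f') (Groth.Reductive.gmFn_injective h)
      simpa [hf'f] using h2
    let R := Localization.Away (Polynomial.X : Polynomial k[X])
    have : IsDomain R :=
      IsLocalization.isDomain_localization (powers_le_nonZeroDivisors_of_noZeroDivisors Polynomial.X_ne_zero)
    let p : R := algebraMap (Polynomial k[X]) R (Polynomial.C (Polynomial.X : k[X]))
    let t : R := algebraMap (Polynomial k[X]) R Polynomial.X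
    have ht : IsUnit t := IsLocalization.Away.algebraMap_isUnit _
    have hp : p ≠ 0 := fun h => by
      have := IsLocalization.injective R (powers_le_nonZeroDivisors_of_noZeroDivisors Polynomial.X_ne_zero)
        (h.trans (map_zero _).symm)
      simp at this
    let γ₀ : punct k ⟶ G := Groth.Reductive.gmMk (punct k)
      (ho.map (Scheme.ΓSpecIso (CommRingCat.of O)).inv.hom).unit ≫ f'
    let g₀ : specAlg k R ⟶ G := Groth.Reductive.gmMk (specAlg k R)
      (ht.map (Scheme.ΓSpecIso (CommRingCat.of R)).inv.hom).unit ≫ f'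
    refine exists_fixed_of_chart x₀ a γ₀ R g₀ p (t * p) hp (mul_ne_zero ht.ne_zero hp) ?_ fun T g => ?_
    · intro L _ _ φ h h'
      apply hinj
      rw [hfmul, Groth.Reductive.gmFn_mul]
      simp only [γ₀, g₀, ← Category.assoc, hfc, Groth.Reductive.gmFn_comp,
        Groth.Reductive.gmFn_gmMk, upt, IsUnit.unit_spec]
      erw [hcoord, hcoord, hcoord]
      refine Eq.trans ?_ (map_mul _ _ _)
      congr 1
      rw [hu L _ h, hu L _ h', map_mul]
    · let c := Red.gmFn (g ≫ f)
      let ψ₀ : Polynomial k[X] →+* Γ(T.left, ⊤) := Polynomial.eval₂RingHom (Polynomial.eval₂RingHom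
        ((Scheme.ΓSpecIso (CommRingCat.of k)).inv ≫ T.hom.appTop).hom 0) c
      have hψ₀ : IsUnit (ψ₀ Polynomial.X) := by simpa [ψ₀, c] using Groth.Reductive.isUnit_gmFn (g ≫ f)
      let ψ : R →+* Γ(T.left, ⊤) := IsLocalization.Away.lift (Polynomial.X : Polynomial k[X]) hψ₀
      have hψe : ∀ x, ψ (algebraMap _ R x) = ψ₀ x :=
        fun x => IsLocalization.Away.lift_eq (Polynomial.X : Polynomial k[X]) hψ₀ x
      refine ⟨ψ, ?_, ?_, ?_, ?_⟩
      · rw [IsScalarTower.algebraMap_eq k (Polynomial k[X]) R, ← RingHom.comp_assoc,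
          IsLocalization.Away.lift_comp]
        exact hψalg c
      · apply hinj
        simp only [g₀, ← Category.assoc, hfc]
        rw [Groth.Reductive.gmFn_comp]
        simp only [
          Groth.Reductive.gmFn_gmMk, IsUnit.unit_spec, ptOf, Over.homMk_left, Scheme.Hom.comp_appTop,
          CommRingCat.comp_apply]
        erw [← congr($(Scheme.ΓSpecIso_inv_naturality (CommRingCat.ofHom ψ)) t), CommRingCat.comp_apply,
          Scheme.toSpecΓ_appTop]
        erw [← CommRingCat.comp_apply, Category.assoc, Iso.inv_hom_id, Category.comp_id]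
        show ψ t = c
        rw [hψe]
        simp [ψ₀]
      · rw [hψe]; simp [ψ₀]
      · rw [map_mul, hψe, hψe]; simp [ψ₀]

end Groth.Agent.S15592
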