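import Groth.Statements.S15593
import Groth.Agent.AlgGrp1.Homogeneous
import Groth.Agent.AlgGrp1.Antiaffine
import Groth.Agent.AlgGrp1.SmoothReduced

set_option autoImplicit false
universe u
open CategoryTheory MonoidalCategory CartesianMonoidalCategory MonObj GrpObj AlgebraicGeometry
open AlgGrp

namespace Groth.Agent.S15593

/-- Let k be a field and f : G ⟶ G' a homomorphism of smooth k-group schemes of finite type. If f is
surjective (on underlying topological spaces) and has trivial kernel, that is, f is a monomorphism,
then f is an isomorphism. No flatness of f is assumed. -/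
theorem result (k : Type u) [Field k]
    (G G' : Over (Spec (CommRingCat.of k))) [GrpObj G] [GrpObj G']
    [Smooth G.hom] [QuasiCompact G.hom] [Smooth G'.hom] [QuasiCompact G'.hom]
    (f : G ⟶ G') [IsMonHom f] [Mono f] [Surjective f.left] : IsIso f := by
  haveI : IsReduced G'.left := Groth.AlgGrp1.isReduced_of_smooth G'.hom
  let K := AlgebraicClosure k
  let b : AlgGrp.Action G G' :=
    { act := (f ▷ G') ≫ μ[G']
      one_act := by
        rw [← comp_whiskerRight_assoc, IsMonHom.one_hom]
        exact MonObj.one_mul G'
      mul_act := by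
        have e : (f ▷ G') ≫ μ[G'] = (fst G G' ≫ f) * snd G G' := by
          rw [Hom.mul_def]; congr 1
        have eμ : μ[G] ≫ f = (fst G G ≫ f) * (snd G G ≫ f) := by
          rw [IsMonHom.mul_hom, Hom.mul_def]; congr 1
        rw [e]
        simp only [MonObj.comp_mul, whiskerRight_fst_assoc, whiskerRight_snd, eμ,
          whiskerLeft_fst_assoc, whiskerLeft_snd, associator_hom_fst_assoc,
          associator_hom_snd_fst_assoc, associator_hom_snd_snd]
        rw [_root_.mul_assoc] }
  have hf : (G ◁ f) ≫ b.act = (Groth.AlgGrp1.regularAction G).act ≫ f := by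
    show (G ◁ f) ≫ (f ▷ G') ≫ μ[G'] = μ[G] ≫ f
    rw [IsMonHom.mul_hom, tensorHom_def', Category.assoc]
  have htr : ∀ y y' : Groth.AlgGrp1.specAlg k K ⟶ G',
      ∃ g : Groth.AlgGrp1.specAlg k K ⟶ G, lift g y ≫ b.act = y' := by
    intro y y'
    let p := y' * y⁻¹
    let P : Over (Spec (CommRingCat.of K)) :=
      Over.mk (Limits.pullback.snd f.left p.left : _ ⟶ Spec (CommRingCat.of K))
    haveI : LocallyOfFiniteType f.left := by
      haveI : LocallyOfFiniteType (f.left ≫ G'.hom) := by rw [Over.w f]; infer_instance
      exact locallyOfFiniteType_of_comp f.left G'.hom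
    haveI : LocallyOfFiniteType P.hom := inferInstanceAs (LocallyOfFiniteType (Limits.pullback.snd _ _))
    haveI : Nonempty P.left := by
      haveI : Surjective (Limits.pullback.snd f.left p.left) := inferInstance
      obtain ⟨z, -⟩ := (Limits.pullback.snd f.left p.left).surjective (IsLocalRing.closedPoint K)
      exact ⟨z⟩
    obtain ⟨s⟩ := Groth.AlgGrp1.exists_point P
    let g₀ : Spec (CommRingCat.of K) ⟶ G.left := s.left ≫ Limits.pullback.fst f.left p.left
    have hg₀ : g₀ ≫ f.left = p.left := by
      show (s.left ≫ Limits.pullback.fst f.left p.left) ≫ f.left = p.left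
      rw [Category.assoc, Limits.pullback.condition, ← Category.assoc]
      exact (congrArg (· ≫ p.left) (Over.w s)).trans (Category.id_comp _)
    let g : Groth.AlgGrp1.specAlg k K ⟶ G := Over.homMk g₀ (by
      rw [← Over.w f, ← Category.assoc, hg₀]; exact Over.w p)
    have hg : g ≫ f = p := Over.OverMorphism.ext hg₀
    refine ⟨g, ?_⟩
    show lift g y ≫ (f ▷ G') ≫ μ[G'] = y'
    rw [lift_whiskerRight_assoc, hg, ← Hom.mul_def, inv_mul_cancel_right]
  haveI : Flat f.left := Groth.AlgGrp1.flat_of_equivariant (Groth.AlgGrp1.regularAction G) b f hf htr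
  exact Groth.AlgGrp1.isIso_of_mono_cover ⟨inferInstance, inferInstance, Groth.AlgGrp1.lfp_left f⟩

end Groth.Agent.S15593
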