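import Groth.Statements.S15595
import Mathlib
import Groth.Agent.Calg4.RegularFlat
import Groth.Agent.Calg4.RegularStalk

set_option autoImplicit false
universe u
open TensorProduct
attribute [local instance] RingHom.ker_isPrime
open CAlg

namespace Groth.Agent.S15595

/-- Let k ⊆ K be a field extension and A a Noetherian local k-algebra with residue field k, recorded by
a k-algebra map π : A → k whose kernel is the maximal ideal. Let π_K : K ⊗_k A → K be the induced
K-algebra map, m' its kernel, and A' the localization of K ⊗_k A at m'. Assume A' is Noetherian.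
Then A is a regular local ring if and only if A' is a regular local ring. -/
theorem result (k K A : Type u) [Field k] [Field K]
    [Algebra k K] [CommRing A] [Algebra k A] [IsLocalRing A] [IsNoetherianRing A]
    (π : A →ₐ[k] k) (hπ : RingHom.ker π = IsLocalRing.maximalIdeal A)
    [IsNoetherianRing (Localization.AtPrime (RingHom.ker
      ((Algebra.TensorProduct.rid k K K).toAlgHom.comp (Algebra.TensorProduct.map (AlgHom.id K K) π))))] :
    IsRegularLocalRing A ↔ IsRegularLocalRing (Localization.AtPrime (RingHom.ker
      ((Algebra.TensorProduct.rid k K K).toAlgHom.comp (Algebra.TensorProduct.map (AlgHom.id K K) π)))) := by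
  let ρ := (Algebra.TensorProduct.rid k K K).toAlgHom.comp (Algebra.TensorProduct.map (AlgHom.id K K) π)
  let B := K ⊗[k] A
  letI : Algebra A B := Algebra.TensorProduct.rightAlgebra
  let L := Localization.AtPrime (RingHom.ker ρ)
  have hπs : Function.Surjective π := fun c => ⟨algebraMap k A c, by simp⟩
  have hker : RingHom.ker ρ = (IsLocalRing.maximalIdeal A).map (algebraMap A B) := by
    have h1 : RingHom.ker ρ = RingHom.ker (Algebra.TensorProduct.map (AlgHom.id k K) π) := by
      ext x
      rw [RingHom.mem_ker, RingHom.mem_ker]
      show (Algebra.TensorProduct.rid k K K) _ = 0 ↔ _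
      rw [EmbeddingLike.map_eq_zero_iff]
      rfl
    rw [h1, ← hπ]
    exact Algebra.TensorProduct.lTensor_ker π hπs
  have hcomap : (RingHom.ker ρ).comap (algebraMap A B) = IsLocalRing.maximalIdeal A := by
    refine (IsLocalRing.maximalIdeal.isMaximal A |>.eq_of_le (Ideal.IsPrime.comap _).ne_top ?_).symm
    rw [hker]
    exact Ideal.le_comap_map
  haveI : Module.Flat A B :=
    Module.Flat.of_linearEquiv (LinearEquiv.symm
      { TensorProduct.comm k A K with
        map_smul' := fun a x => by
          induction x using TensorProduct.induction_on with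
          | zero => simp
          | add x y hx hy =>
            simp only [AddHom.toFun_eq_coe, LinearMap.coe_toAddHom, LinearEquiv.coe_coe, RingHom.id_apply,
              smul_add, map_add] at hx hy ⊢
            rw [hx, hy]
          | tmul b c =>
            show (TensorProduct.comm k A K) (a • (b ⊗ₜ[k] c)) = a • (TensorProduct.comm k A K) (b ⊗ₜ[k] c)
            rw [TensorProduct.smul_tmul', TensorProduct.comm_tmul, TensorProduct.comm_tmul, Algebra.smul_def a
              (c ⊗ₜ[k] b), Algebra.TensorProduct.right_algebraMap_apply, Algebra.TensorProduct.tmul_mul_tmul,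
              one_mul, smul_eq_mul] })
  haveI : Module.Flat A L := Module.Flat.trans A B L
  haveI : IsLocalHom (algebraMap A L) := ⟨fun a ha => by
    by_contra h
    have hm : algebraMap A B a ∈ RingHom.ker ρ := (hcomap.ge ((IsLocalRing.mem_maximalIdeal a).2 h) :)
    rw [IsScalarTower.algebraMap_apply A B L] at ha
    have hm' : algebraMap B L (algebraMap A B a) ∈ IsLocalRing.maximalIdeal L :=
      (IsLocalization.AtPrime.to_map_mem_maximal_iff L (RingHom.ker ρ) _).2 hm
    exact (IsLocalRing.mem_maximalIdeal _).1 hm' ha⟩
  have hmap : (IsLocalRing.maximalIdeal A).map (algebraMap A L) = IsLocalRing.maximalIdeal L := by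
    rw [IsScalarTower.algebraMap_eq A B L, ← Ideal.map_map, ← hker]
    exact Localization.AtPrime.map_eq_maximalIdeal
  constructor
  · intro h
    exact Groth.Calg4.isRegularLocalRing_of_flat_of_map_maximalIdeal A L hmap
  · intro h
    exact Groth.Calg4.isRegularLocalRing_of_flat_local A L

end Groth.Agent.S15595
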