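import Groth.Statements.S15596
import Groth.Agent.AlgGrp2.Basic

set_option autoImplicit false
universe u
open CategoryTheory MonoidalCategory CartesianMonoidalCategory MonObj GrpObj AlgebraicGeometry
open AlgGrp

namespace Groth.Agent.S15596

/-- Let k be an algebraically closed field, H a smooth k-group scheme of finite type, and U a dense open
subset of H. Then every k-rational point h of H is of the form u₂ · u₁⁻¹ for k-rational points u₁,
u₂ of H whose underlying points lie in U. -/
theorem result (k : Type u) [Field k] [IsAlgClosed k]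
    (H : Over (Spec (CommRingCat.of k))) [GrpObj H] [Smooth H.hom] [QuasiCompact H.hom]
    (U : H.left.Opens) (hU : Dense (U : Set ↥H.left)) (h : 𝟙_ (Over (Spec (CommRingCat.of k))) ⟶ H) :
    ∃ u₁ u₂ : 𝟙_ (Over (Spec (CommRingCat.of k))) ⟶ H,
      u₁.left.base (IsLocalRing.closedPoint k) ∈ U ∧ u₂.left.base (IsLocalRing.closedPoint k) ∈ U ∧
        h = u₂ * u₁⁻¹ := by
  have : LocallyOfFiniteType H.hom := inferInstance
  have := LocallyOfFiniteType.jacobsonSpace H.hom
  have hne : Nonempty H.left := ⟨h.left.base (IsLocalRing.closedPoint k)⟩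
  let r : H ≅ H := Groth.AlgGrp2.mulLeftIso h
  have hne' : ((U : Set ↥H.left) ∩ r.hom.left.base ⁻¹' (U : Set ↥H.left)).Nonempty := by
    obtain ⟨y, hy⟩ := hU.nonempty
    refine Set.inter_comm _ _ ▸ hU.inter_open_nonempty _ (U.2.preimage r.hom.left.continuous) ⟨r.inv.left.base y, ?_⟩
    show r.hom.left.base (r.inv.left.base y) ∈ U
    rw [← Scheme.Hom.comp_apply, ← Over.comp_left, r.inv_hom_id]
    simpa using hy
  obtain ⟨x, ⟨hx, hx'⟩, hxc⟩ := nonempty_inter_closedPoints hne'
    (U.2.inter (U.2.preimage r.hom.left.continuous)).isLocallyClosed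
  let u : 𝟙_ (Over (Spec (CommRingCat.of k))) ⟶ H :=
    Over.homMk _ ((pointEquivClosedPoint H.hom).symm ⟨x, hxc⟩).2
  have hu : u.left.base (IsLocalRing.closedPoint k) = x := by
    simp only [u, Over.homMk_left]
    exact pointOfClosedPoint_apply _ _ _ _
  have hr : u ≫ r.hom = h * u := by
    rw [Groth.AlgGrp2.comp_mulLeftIso_hom, toUnit_unique (toUnit _) (𝟙 _), Category.id_comp]
  refine ⟨u, h * u, by rw [hu]; exact hx, ?_, (mul_inv_cancel_right h u).symm⟩
  rw [← hr]
  show r.hom.left.base (u.left.base (IsLocalRing.closedPoint k)) ∈ U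
  rw [hu]
  exact hx'

end Groth.Agent.S15596
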