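import Groth.Statements.S15597
import Groth.Agent.Misc1.Unip.AllSSBorel
-- import your own Groth.Agent.* helpers here

set_option autoImplicit false
universe u v
open HopfRep
open scoped TensorProduct

namespace Groth.Agent.S15597

theorem isSemisimple_conj {k : Type u} [Field k] {V : Type v} {W : Type*} [AddCommGroup V] [Module k V]
    [AddCommGroup W] [Module k W] [Module.Finite k V] [Module.Finite k W] (q : V ≃ₗ[k] W)
    {f : Module.End k V} {g : Module.End k W} (hg : g = q.conjAlgEquiv k f) (hf : f.IsSemisimple) :
    g.IsSemisimple :=
  Module.End.isSemisimple_of_squarefree_aeval_eq_zero hf.minpoly_squarefree (by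
    rw [hg, Polynomial.aeval_algHom_apply, minpoly.aeval, map_zero])

/-- Let k be an algebraically closed field and G = Spec A a smooth connected affine k-group, that is, A
is a finitely generated commutative Hopf algebra over k which is reduced and has no idempotents
other than 0 and 1; commutativity of G is not assumed. If every k-point of G is semisimple, in the
sense that it acts semisimply in every finite-dimensional A-comodule, then G is a torus: A is
spanned over k by its group-like elements. (The published statement is over an arbitrary field, with
the hypothesis on the points over an algebraic closure; this row is the algebraically closed case.) -/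
theorem result (k : Type u) (A : Type v) [Field k]
    [IsAlgClosed k] [CommRing A] [HopfAlgebra k A] [Algebra.FiniteType k A] [IsReduced A]
    (hconn : ∀ e : A, IsIdempotentElem e → e = 0 ∨ e = 1)
    (hss : ∀ (g : A →ₐ[k] k) (V : Type v) [AddCommGroup V] [Module k V] [HopfRep.Comod k A V],
      Module.Finite k V → Module.End.IsSemisimple (HopfRep.Comod.act k A V g)) :
    HopfRep.IsDiagonalizable k A := by
  obtain ⟨S, _, _, hft, ⟨e⟩⟩ := Groth.Misc1.Unip.exists_small_model (k := k) (A := A)
  letI hH : HopfAlgebra k S := Groth.Misc1.Unip.hopfAlgebraOfEquiv e
  haveI : IsReduced S := isReduced_of_injective e.symm e.symm.injective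
  haveI : IsDomain S := Groth.HopfDim.isDomain_of_connected k S fun s hs =>
    (hconn (e.symm s) (hs.map e.symm)).imp (fun h => e.symm.injective (h.trans (map_zero _).symm))
      (fun h => e.symm.injective (h.trans (map_one _).symm))
  have hcomul : ∀ a, Coalgebra.comul (R := k) (e a) =
      TensorProduct.map e.toLinearMap e.toLinearMap (Coalgebra.comul (R := k) a) :=
    Groth.Misc1.Unip.bialgebraOfEquiv_comul e
  have hS : Groth.Misc1.Unip.AllSS k S := by
    intro g U hU hfin
    letI : HopfRep.Comod k A A := HopfRep.Comod.regular k A
    let U' : Submodule k A := U.map e.symm.toLinearMap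
    have hU' : HopfRep.IsSubcomod (k := k) (A := A) U' := by
      rintro _ ⟨s, hs, rfl⟩
      obtain ⟨z, hz⟩ := hU s hs
      let q : U →ₗ[k] U' := e.symm.toLinearMap.submoduleMap U
      refine ⟨TensorProduct.map q e.symm.toLinearMap z, ?_⟩
      change _ = Coalgebra.comul (R := k) (e.symm.toLinearMap s)
      obtain ⟨a, rfl⟩ := e.surjective s
      rw [show e.symm.toLinearMap (e a) = a from e.symm_apply_apply a]
      have h1 : TensorProduct.map e.symm.toLinearMap e.symm.toLinearMap
          (Coalgebra.comul (R := k) (e a)) = Coalgebra.comul (R := k) a := by
        rw [hcomul]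
        generalize Coalgebra.comul (R := k) a = w
        induction w using TensorProduct.induction_on with
        | zero => simp
        | tmul x y => simp
        | add x y hx hy => simp only [map_add, hx, hy]
      rw [← h1, show Coalgebra.comul (R := k) (e a) = U.subtype.rTensor S z from hz.symm]
      clear hz
      induction z using TensorProduct.induction_on with
      | zero => simp
      | tmul x y => rfl
      | add x y hx hy => simp only [map_add, hx, hy]
    let cU' := ComodSub.Comod.restr (k := k) (A := A) (V := A) inferInstance U' hU'
    let p : A →ₐ[k] k := g.ofConv.comp e.toAlgHom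
    have hfin' : Module.Finite k U' := inferInstance
    have h1 := @hss p U' _ _ cU' hfin'
    let q : U ≃ₗ[k] U' := e.symm.toLinearEquiv.submoduleMap U
    have hconj : Groth.Misc1.Unip.Jordan.T g hU =
        q.symm.conjAlgEquiv k (HopfRep.Comod.act k A U' p) := by
      refine LinearMap.ext fun x => q.injective (Subtype.ext ?_)
      rw [LinearEquiv.conjAlgEquiv_apply]
      simp only [LinearMap.comp_apply, LinearEquiv.coe_coe, LinearEquiv.apply_symm_apply, LinearEquiv.symm_symm]
      change e.symm (Groth.ComodLib.op g.ofConv.toLinearMap (x : S)) =
        U'.subtype (@Groth.ComodLib.op k _ A _ _ _ U' _ _ cU' p.toLinearMap (q x))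
      rw [@Groth.ComodLib.isComodHom_op k _ A _ _ _ U' _ _ cU' A _ _ _ U'.subtype
        (ComodSub.isComodHom_subtype _ U' hU')]
      change e.symm (Groth.ComodLib.op g.ofConv.toLinearMap (x : S)) =
        Groth.ComodLib.op p.toLinearMap (e.symm (x : S))
      obtain ⟨a, ha⟩ := e.surjective (x : S)
      rw [← ha, e.symm_apply_apply, Groth.ComodLib.op_apply, Groth.ComodLib.op_apply]
      change e.symm (Groth.ComodLib.slice _ (Coalgebra.comul (R := k) (e a))) =
        Groth.ComodLib.slice _ (Coalgebra.comul (R := k) a)
      rw [hcomul]
      generalize Coalgebra.comul (R := k) a = w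
      induction w using TensorProduct.induction_on with
      | zero => simp
      | tmul y z =>
        rw [TensorProduct.map_tmul, Groth.ComodLib.slice_tmul, Groth.ComodLib.slice_tmul, map_smul]
        simp [p]
      | add y z hy hz => simp only [map_add, hy, hz]
    exact isSemisimple_conj q.symm hconj h1
  have hdiag := Groth.Misc1.Unip.isDiagonalizable_of_commute hS (Groth.Misc1.Unip.points_commute hS)
  refine top_le_iff.1 fun a _ => ?_
  have hle : Submodule.span k {s : S | IsGroupLikeElem k s} ≤
      (Submodule.span k {b : A | IsGroupLikeElem k b}).comap e.symm.toLinearMap := by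
    refine Submodule.span_le.2 fun s hs => Submodule.subset_span ?_
    obtain ⟨b, rfl⟩ := e.surjective s
    rw [show e.symm.toLinearMap (e b) = b from e.symm_apply_apply b]
    refine ⟨?_, (TensorProduct.congr e.toLinearEquiv e.toLinearEquiv).injective ?_⟩
    · have := hs.counit_eq_one
      change Coalgebra.counit (R := k) (e.symm (e b)) = 1 at this
      rwa [e.symm_apply_apply] at this
    · change TensorProduct.map e.toLinearMap e.toLinearMap _ = TensorProduct.map e.toLinearMap e.toLinearMap _
      rw [← hcomul, hs.comul_eq_tmul_self, TensorProduct.map_tmul]
      rfl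
  have := hle (show e a ∈ _ from
    (show Submodule.span k {s : S | IsGroupLikeElem k s} = ⊤ from hdiag) ▸ Submodule.mem_top)
  rwa [Submodule.mem_comap, show e.symm.toLinearMap (e a) = a from e.symm_apply_apply a] at this

end Groth.Agent.S15597
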