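import Groth.Statements.S15598
import Groth.Agent.AlgGrp1.Homogeneous
import Groth.Agent.AlgGrp1.Antiaffine
import Groth.Agent.AlgGrp1.SmoothReduced
import Groth.Agent.Agf.Quot
import Mathlib.AlgebraicGeometry.AlgClosed.Basic
-- import your own Groth.Agent.* helpers here

set_option autoImplicit false
universe u
open CategoryTheory MonoidalCategory CartesianMonoidalCategory MonObj GrpObj AlgebraicGeometry
open AlgGrp

namespace Groth.Agent.S15598

/-- A surjection lifts geometric points. -/
lemma exists_lift_geomPt {k : Type u} [Field k] {K : Type u} [Field K] [Algebra k K] [IsAlgClosed K]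
    {A B : Over (Spec (CommRingCat.of k))} [LocallyOfFiniteType A.hom] (f : A ⟶ B) [Surjective f.left]
    (p : Groth.AlgGrp1.specAlg k K ⟶ B) : ∃ q : Groth.AlgGrp1.specAlg k K ⟶ A, q ≫ f = p := by
  let P : Over (Spec (CommRingCat.of K)) :=
    Over.mk (Limits.pullback.snd f.left p.left : _ ⟶ Spec (CommRingCat.of K))
  have : LocallyOfFiniteType f.left := by
    have : LocallyOfFiniteType (f.left ≫ B.hom) := by rw [Over.w f]; infer_instance
    exact locallyOfFiniteType_of_comp f.left B.hom
  have : LocallyOfFiniteType P.hom := inferInstanceAs (LocallyOfFiniteType (Limits.pullback.snd _ _))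
  have : Nonempty P.left := by
    have : Surjective (Limits.pullback.snd f.left p.left) := inferInstance
    obtain ⟨z, -⟩ := (Limits.pullback.snd f.left p.left).surjective (IsLocalRing.closedPoint K)
    exact ⟨z⟩
  obtain ⟨s⟩ := Groth.AlgGrp1.exists_point P
  let q₀ : Spec (CommRingCat.of K) ⟶ A.left := s.left ≫ Limits.pullback.fst f.left p.left
  have hq₀ : q₀ ≫ f.left = p.left := by
    show (s.left ≫ Limits.pullback.fst f.left p.left) ≫ f.left = p.left
    rw [Category.assoc, Limits.pullback.condition, ← Category.assoc]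
    exact (congrArg (· ≫ p.left) (Over.w s)).trans (Category.id_comp _)
  exact ⟨Over.homMk q₀ (by rw [← Over.w f, ← Category.assoc, hq₀]; exact Over.w p),
    Over.OverMorphism.ext hq₀⟩

/-- Let k be an algebraically closed field, G a k-group scheme of finite type, and X a smooth connected
k-scheme with an action of G. Suppose that for some k-point x₀ of X the orbit map g ↦ g · x₀ from G
to X is surjective, and that the stabilizer of x₀, a subgroup scheme H ⟶ G whose points are exactly
the points g of G with g · x₀ = x₀, is connected. Then G is connected. (Stated over an algebraically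
closed field, to which the general case reduces since a k-group scheme of finite type is connected
exactly when it is geometrically connected.) -/
theorem result (k : Type u) [Field k] [IsAlgClosed k]
    (G X : Over (Spec (CommRingCat.of k))) [GrpObj G] [LocallyOfFiniteType G.hom] [QuasiCompact G.hom]
    [Smooth X.hom] [ConnectedSpace ↥X.left] (a : AlgGrp.Action G X) (x₀ : 𝟙_ (Over (Spec (CommRingCat.of k))) ⟶ X)
    (hsurj : Surjective (a.orbitMap x₀).left)
    (H : Over (Spec (CommRingCat.of k))) [GrpObj H] (i : H ⟶ G) [IsMonHom i] [Mono i]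
    (hH : ∀ (T : Over (Spec (CommRingCat.of k))) (g : T ⟶ G), (∃ h : T ⟶ H, h ≫ i = g) ↔ g ≫ a.orbitMap x₀ = toUnit T ≫ x₀)
    [ConnectedSpace ↥H.left] : ConnectedSpace ↥G.left := by
  let O := a.orbitMap x₀
  have : LocallyOfFiniteType X.hom := inferInstance
  have : IsReduced X.left := Groth.AlgGrp1.isReduced_of_smooth X.hom
  have hs : Surjective O.left := hsurj
  have : CompactSpace G.left := QuasiCompact.compactSpace_of_compactSpace G.hom
  have : CompactSpace X.left := ⟨by
    rw [← Set.range_eq_univ.2 O.left.surjective]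
    exact isCompact_range O.left.continuous⟩
  have : QuasiCompact X.hom := (quasiCompact_iff_compactSpace X.hom).2 inferInstance
  let T := Groth.AlgGrp1.specAlg k k
  have hflat : Flat O.left :=
    Groth.AlgGrp1.flat_of_equivariant (K := k) (Groth.AlgGrp1.regularAction G) a O
      (Groth.AlgGrp1.orbitMap_equivariant a x₀) fun y y' => by
        obtain ⟨g, hg⟩ := exists_lift_geomPt O y
        obtain ⟨g', hg'⟩ := exists_lift_geomPt O y'
        refine ⟨g' * g⁻¹, ?_⟩
        rw [← hg, Groth.Agf.comp_orbitMap, ← Groth.Agf.lift_mul_act, inv_mul_cancel_right,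
          ← Groth.Agf.comp_orbitMap, hg']
  have := Groth.AlgGrp1.lfp_left O
  have hopen : IsOpenMap O.left.base := O.left.isOpenMap
  have := LocallyOfFiniteType.jacobsonSpace G.hom
  have := LocallyOfFiniteType.jacobsonSpace X.hom
  have : Nonempty G.left := ⟨η[G].left (IsLocalRing.closedPoint k)⟩
  have : PreconnectedSpace G.left := by
    rw [preconnectedSpace_iff_clopen]
    intro U hU
    by_contra hU'
    rw [not_or, ← Ne, ← Ne, ← Set.nonempty_iff_ne_empty, ← Set.nonempty_compl] at hU'
    obtain ⟨x, ⟨hx1, hx2⟩, hxc⟩ : ((O.left.base '' U ∩ O.left.base '' Uᶜ) ∩ closedPoints X.left).Nonempty := by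
      refine nonempty_inter_closedPoints ?_
        ((hopen _ hU.2).inter (hopen _ hU.compl.2)).isLocallyClosed
      have hcov : Set.univ ⊆ O.left.base '' U ∪ O.left.base '' Uᶜ := fun y _ => by
        obtain ⟨g, rfl⟩ := O.left.surjective y
        by_cases h : g ∈ U
        · exact Or.inl ⟨g, h, rfl⟩
        · exact Or.inr ⟨g, h, rfl⟩
      obtain ⟨y, -, hy⟩ := isPreconnected_univ _ _ (hopen _ hU.2) (hopen _ hU.compl.2) hcov
        ((hU'.1.image O.left.base).mono (by simp)) ((hU'.2.image O.left.base).mono (by simp))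
      exact ⟨y, hy⟩
    have hpt : ∀ V : Set G.left, IsClosed V → x ∈ O.left.base '' V →
        ∃ p : 𝟙_ (Over (Spec (CommRingCat.of k))) ⟶ G, p.left (IsLocalRing.closedPoint k) ∈ V ∧
          (p ≫ O).left (IsLocalRing.closedPoint k) = x := by
      intro V hV ⟨g₀, hg₀, hg₀x⟩
      obtain ⟨g, ⟨hgV, hgx⟩, hgc⟩ := nonempty_inter_closedPoints
        (Z := V ∩ O.left.base ⁻¹' {x}) ⟨g₀, hg₀, hg₀x⟩
        (hV.inter ((mem_closedPoints_iff.1 hxc).preimage O.left.continuous)).isLocallyClosed
      refine ⟨Over.homMk (pointOfClosedPoint G.hom g hgc) (pointOfClosedPoint_comp G.hom g hgc), ?_, ?_⟩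
      · show pointOfClosedPoint G.hom g hgc _ ∈ V
        rw [pointOfClosedPoint_apply]; exact hgV
      · show O.left (pointOfClosedPoint G.hom g hgc _) = x
        rw [pointOfClosedPoint_apply]; exact hgx
    obtain ⟨p₁, hp₁, hp₁x⟩ := hpt U hU.1 hx1
    obtain ⟨p₂, hp₂, hp₂x⟩ := hpt Uᶜ hU.compl.1 hx2
    have heq : p₁ ≫ O = p₂ ≫ O := by
      apply Over.OverMorphism.ext
      exact congrArg Subtype.val ((pointEquivClosedPoint X.hom).injective
        (a₁ := ⟨(p₁ ≫ O).left, Over.w _⟩) (a₂ := ⟨(p₂ ≫ O).left, Over.w _⟩)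
        (Subtype.ext (hp₁x.trans hp₂x.symm)))
    obtain ⟨h, hh⟩ := (hH _ (p₁⁻¹ * p₂)).2 (by
      rw [Groth.Agf.comp_orbitMap, Groth.Agf.lift_mul_act, ← Groth.Agf.comp_orbitMap, ← heq,
        Groth.Agf.comp_orbitMap, ← Groth.Agf.lift_mul_act, inv_mul_cancel, Groth.Agf.lift_one_act])
    let φ : H ⟶ G := (toUnit H ≫ p₁) * i
    have h1 : (1 : 𝟙_ (Over (Spec (CommRingCat.of k))) ⟶ H) ≫ φ = p₁ := by
      rw [MonObj.comp_mul, comp_toUnit_assoc, toUnit_unit, Category.id_comp, MonObj.one_comp, _root_.mul_one]
    have h2 : h ≫ φ = p₂ := by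
      rw [MonObj.comp_mul, hh, comp_toUnit_assoc, toUnit_unit, Category.id_comp, mul_inv_cancel_left]
    have hc : _root_.IsPreconnected (Set.range φ.left.base) := isPreconnected_range φ.left.continuous
    refine hp₂ (hc.subset_isClopen hU ⟨_, ?_, hp₁⟩ ?_)
    · exact ⟨_, (congr(($h1).left (IsLocalRing.closedPoint k)))⟩
    · exact ⟨_, (congr(($h2).left (IsLocalRing.closedPoint k)))⟩
  exact ⟨inferInstance⟩

end Groth.Agent.S15598
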