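import Groth.Statements.S5361
import Groth.Agent.GenSub.Dense
import Groth.Agent.Sga3.CommSpread.Adj
import Groth.Agent.GrpschAbsch.FibreFlat
import Groth.Agent.DescentBase.UnivOpenField

set_option autoImplicit false
universe u
open CategoryTheory CategoryTheory.Limits MonoidalCategory CartesianMonoidalCategory MonObj GrpObj AlgebraicGeometry
open SGA3
open Groth.Sga3.CommSpread Groth.GenSub

set_option backward.isDefEq.respectTransparency false

namespace Groth.Agent.S5361


theorem word_factor_bc {k : Type u} [Field k] {G X : Over (Spec (CommRingCat.of k))} [GrpObj G] (f : X ⟶ G)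
    {S : Scheme.{u}} (σ : S ⟶ Spec (CommRingCat.of k)) {Γ' : Over S} [GrpObj Γ'] (i' : Γ' ⟶ Red.bc σ G) [IsMonHom i']
    (hf' : ∃ f'' : Red.bc σ X ⟶ Γ', f'' ≫ i' = (Over.pullback σ).map f) :
    ∀ (l : List Bool) (W : Over S) (z : push σ W ⟶ word X l), ∃ c : W ⟶ Γ', c ≫ i' = adj σ (z ≫ wordMap f l)
  | [], W, z => ⟨1, by
      rw [← adjGrp_apply]
      simp [wordMap]⟩
  | β :: l, W, z => by
      obtain ⟨c₂, h₂⟩ := word_factor_bc f σ i' hf' l W (z ≫ snd X (word X l))
      obtain ⟨f'', hf''⟩ := hf'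
      let c₁ := adj σ (z ≫ fst X (word X l)) ≫ f''
      have h₁ : c₁ ≫ i' = adjGrp σ W G ((z ≫ fst X (word X l)) ≫ f) := by
        rw [adjGrp_apply, adj_comp σ _ f, Category.assoc, hf'']
      refine ⟨(if β then c₁ else c₁⁻¹) * c₂, ?_⟩
      show _ = adjGrp σ W G (z ≫ ((fst X (word X l) ≫ if β then f else f⁻¹) * (snd X (word X l) ≫ wordMap f l)))
      rw [MonObj.mul_comp, h₂, MonObj.comp_mul, map_mul, ← Category.assoc, ← Category.assoc, ← adjGrp_apply]
      congr 1
      cases β
      · simp only [Bool.false_eq_true, if_false, GrpObj.inv_comp, h₁, GrpObj.comp_inv, map_inv]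
      · simpa using h₁

/-- Let G be a group scheme over a field k, X a geometrically reduced k-scheme, f : X → G a k-morphism,
and i : Γ → G the smallest closed subgroup scheme of G through which f factors (the subgroup
generated by f). Then for every k-scheme S, the base change Γ_S → G_S is the smallest subgroup
scheme of G_S through which f_S factors: for every homomorphism i' : Γ' → G_S of S-group schemes
which is an immersion (not necessarily closed) such that f_S factors through i', Γ_S → G_S factors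
through i'. -/
theorem result (k : Type u) [Field k] (G X : Over (Spec (CommRingCat.of k))) [GrpObj G]
    [GeometricallyReduced X.hom] (f : X ⟶ G) (Γ : Over (Spec (CommRingCat.of k))) [GrpObj Γ] (i : Γ ⟶ G) [IsMonHom i] [IsClosedImmersion i.left]
    (hf : ∃ f' : X ⟶ Γ, f' ≫ i = f)
    (hmin : ∀ (Γ' : Over (Spec (CommRingCat.of k))) (_ : GrpObj Γ') (i' : Γ' ⟶ G), IsMonHom i' → IsClosedImmersion i'.left →
        (∃ f'' : X ⟶ Γ', f'' ≫ i' = f) → ∃ j : Γ ⟶ Γ', j ≫ i' = i)
    (S : Scheme.{u}) (σ : S ⟶ (Spec (CommRingCat.of k))) :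
    ∀ (Γ' : Over S) (_ : GrpObj Γ') (i' : Γ' ⟶ Red.bc σ G), IsMonHom i' → IsImmersion i'.left →
      (∃ f'' : Red.bc σ X ⟶ Γ', f'' ≫ i' = (Over.pullback σ).map f) →
      ∃ j : Red.bc σ Γ ⟶ Γ', j ≫ i' = (Over.pullback σ).map i := by
  intro Γ' _ i' _ _ hf'
  obtain ⟨Γ₀, _, i₀, d, hmon, hc, hgeo, hd, hdense, hf₀, -⟩ := exists_generated f
  obtain ⟨j₀, hj₀⟩ := hmin Γ₀ inferInstance i₀ inferInstance hc hf₀
  suffices h : ∃ j : Red.bc σ Γ₀ ⟶ Γ', j ≫ i' = (Over.pullback σ).map i₀ by
    obtain ⟨j, hj⟩ := h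
    exact ⟨(Over.pullback σ).map j₀ ≫ j, by rw [Category.assoc, hj, ← Functor.map_comp, hj₀]⟩
  haveI : IsReduced Γ₀.left := GeometricallyReduced.geometrically_isReduced (f := Γ₀.hom) (𝟙 _) (𝟙 _) Γ₀.hom
    (IsPullback.of_horiz_isIso ⟨by simp⟩)
  let I := ((Over.pullback σ).map i₀).left
  let P := pullback i'.left I
  let z : P ⟶ (Red.bc σ Γ₀).left := pullback.snd i'.left I
  -- all points are reached
  have hsurj : Function.Surjective z.base := by
    intro p
    let s := (Red.bc σ Γ₀).hom.base p
    let t := S.fromSpecResidueField s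
    let pr : (Red.bc t (Red.bc σ Γ₀)).left ⟶ Γ₀.left := pullback.fst (Red.bc σ Γ₀).hom t ≫ pullback.fst Γ₀.hom σ
    have sq : IsPullback pr (Red.bc t (Red.bc σ Γ₀)).hom Γ₀.hom (t ≫ σ) :=
      (IsPullback.of_hasPullback (Red.bc σ Γ₀).hom t).paste_horiz (IsPullback.of_hasPullback Γ₀.hom σ)
    haveI : UniversallyOpen (Spec.map (Spec.preimage (t ≫ σ))) := Groth.DescentBase.universallyOpen_of_field k _
    haveI : UniversallyOpen (t ≫ σ) := by rw [← Spec.map_preimage (t ≫ σ)]; infer_instance
    haveI : UniversallyOpen pr := MorphismProperty.of_isPullback sq.flip inferInstance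
    let K : Type u := S.residueField s
    let G' : Over (Spec (CommRingCat.of K)) := Red.bc t (Red.bc σ G)
    let H' : Over (Spec (CommRingCat.of K)) := Red.bc t Γ'
    letI : GrpObj G' := Red.grpObj_bc t (Red.bc σ G)
    letI : GrpObj H' := Red.grpObj_bc t Γ'
    let h' : H' ⟶ G' := (Over.pullback t).map i'
    haveI : IsMonHom h' := inferInstanceAs (IsMonHom ((Over.pullback t).map i'))
    haveI : IsImmersion h'.left :=
      MorphismProperty.of_isPullback (Groth.GrpschAbsch.FibreFlat.isPullback_map t i') ‹IsImmersion i'.left›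
    haveI : IsClosedImmersion h'.left := Groth.Agf.isClosedImmersion_of_subgroup h'
    let J := ((Over.pullback t).map ((Over.pullback σ).map i₀)).left
    have hsub : Set.range J.base ⊆ Set.range h'.left.base := by
      rintro _ ⟨q, rfl⟩
      refine closure_minimal (t := J.base ⁻¹' Set.range h'.left.base) ?_
        (h'.left.isClosedEmbedding.isClosed_range.preimage J.continuous) ((hdense.preimage pr.isOpenMap) q)
      intro q hq
      obtain ⟨l, w, hw⟩ := Set.mem_iUnion.1 (show pr.base q ∈ _ from hq)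
      have hw' : (d l).left.base w = (pullback.fst Γ₀.hom σ).base ((pullback.fst (Red.bc σ Γ₀).hom t).base q) :=
        hw.trans (Scheme.Hom.comp_apply _ _ _)
      obtain ⟨w₁, -, hw₁⟩ := Scheme.exists_preimage_of_isPullback
        (Groth.GrpschAbsch.FibreFlat.isPullback_map σ (d l)) w _ hw'
      obtain ⟨w₂, -, hw₂⟩ := Scheme.exists_preimage_of_isPullback
        (Groth.GrpschAbsch.FibreFlat.isPullback_map t ((Over.pullback σ).map (d l))) w₁ q hw₁
      obtain ⟨c, hc⟩ := word_factor_bc f σ i' hf' l (Red.bc σ (word X l)) ((adj σ).symm (𝟙 _))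
      rw [adj_comp, Equiv.apply_symm_apply, Category.id_comp, ← hd l, Functor.map_comp] at hc
      have e : ((Over.pullback t).map c).left ≫ h'.left =
          ((Over.pullback t).map ((Over.pullback σ).map (d l))).left ≫ J := by
        show ((Over.pullback t).map c).left ≫ ((Over.pullback t).map i').left = _
        rw [← Over.comp_left, ← Functor.map_comp, hc, Functor.map_comp]
        rfl
      refine ⟨((Over.pullback t).map c).left.base w₂, ?_⟩
      rw [← hw₂]
      exact (Scheme.Hom.comp_apply _ _ _).symm.trans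
        ((congrArg (fun m : (Red.bc t (Red.bc σ (word X l))).left ⟶ G'.left => m.base w₂) e).trans (Scheme.Hom.comp_apply _ _ _))
    obtain ⟨p', hp', -⟩ := Scheme.Pullback.exists_preimage_pullback (f := (Red.bc σ Γ₀).hom) (g := t) p
      (IsLocalRing.closedPoint _) (Scheme.fromSpecResidueField_apply _ _).symm
    obtain ⟨q, hq⟩ := hsub ⟨p', rfl⟩
    have hI : i'.left.base ((pullback.fst Γ'.hom t).base q) = I.base p := by
      rw [← hp']
      have a1 := (Scheme.Hom.comp_apply _ _ _).symm.trans ((congrArg (fun m : H'.left ⟶ (Red.bc σ G).left => m.base q)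
        (Groth.GrpschAbsch.FibreFlat.isPullback_map t i').w).trans (Scheme.Hom.comp_apply _ _ _))
      have a2 := (Scheme.Hom.comp_apply _ _ _).symm.trans ((congrArg (fun m : (Red.bc t (Red.bc σ Γ₀)).left ⟶ (Red.bc σ G).left => m.base p')
        (Groth.GrpschAbsch.FibreFlat.isPullback_map t ((Over.pullback σ).map i₀)).w).trans (Scheme.Hom.comp_apply _ _ _))
      exact a1.trans ((congrArg (pullback.fst (Red.bc σ G).hom t).base hq).trans a2.symm)
    obtain ⟨r, -, hr⟩ := Scheme.Pullback.exists_preimage_pullback (f := i'.left) (g := I) _ p hI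
    exact ⟨r, hr⟩
  haveI : IsImmersion z := MorphismProperty.pullback_snd _ _ ‹IsImmersion i'.left›
  haveI : IsClosedImmersion z := IsClosedImmersion.of_isPreimmersion z (by rw [hsurj.range_eq]; exact isClosed_univ)
  -- the ambient product
  let T : Over (Spec (CommRingCat.of k)) := Over.mk σ
  let e : push σ (Red.bc σ Γ₀) ⟶ T ⊗ Γ₀ :=
    lift (Over.homMk (pullback.snd Γ₀.hom σ) rfl) ((adj σ).symm (𝟙 _))
  have he : e.left = (pullbackSymmetry Γ₀.hom σ).hom := by
    apply pullback.hom_ext
    · refine Eq.trans ?_ (pullbackSymmetry_hom_comp_fst Γ₀.hom σ).symm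
      show e.left ≫ (fst T Γ₀).left = _
      rw [← Over.comp_left, lift_fst]; rfl
    · refine Eq.trans ?_ (pullbackSymmetry_hom_comp_snd Γ₀.hom σ).symm
      show e.left ≫ (snd T Γ₀).left = _
      rw [← Over.comp_left, lift_snd, adj_symm_left]
      exact Category.id_comp _
  let Zk : Over (Spec (CommRingCat.of k)) := Over.mk (z ≫ (push σ (Red.bc σ Γ₀)).hom)
  let zk : Zk ⟶ T ⊗ Γ₀ := (Over.homMk z rfl : Zk ⟶ push σ (Red.bc σ Γ₀)) ≫ e
  haveI : IsClosedImmersion zk.left := by
    show IsClosedImmersion (z ≫ e.left)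
    rw [he]; infer_instance
  obtain ⟨t, ht⟩ := exists_factor_dense (T := T) d hdense zk (𝟙 (T ⊗ Γ₀)) (by
    intro l
    let W : Over S := Over.mk (fst T (word X l)).left
    let p₂ : push σ W ⟶ word X l := Over.homMk (snd T (word X l)).left (by
      show (snd T (word X l)).left ≫ (word X l).hom = (fst T (word X l)).left ≫ σ
      rw [Over.w (snd T (word X l))]
      exact (Over.w (fst T (word X l))).symm)
    obtain ⟨c, hc⟩ := word_factor_bc f σ i' hf' l W p₂
    have hc' : c.left ≫ i'.left = (adj σ (p₂ ≫ d l)).left ≫ I := by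
      rw [← Over.comp_left, ← Over.comp_left, hc, ← adj_comp, Category.assoc, hd]
    refine ⟨Over.homMk (pullback.lift c.left (adj σ (p₂ ≫ d l)).left hc') ?_, ?_⟩
    · show pullback.lift c.left _ hc' ≫ z ≫ (Red.bc σ Γ₀).hom ≫ σ = (T ⊗ word X l).hom
      rw [pullback.lift_snd_assoc, ← Category.assoc, Over.w (adj σ (p₂ ≫ d l))]
      exact Over.w (fst T (word X l))
    · rw [Category.comp_id]
      refine Over.OverMorphism.ext ?_
      show pullback.lift c.left _ hc' ≫ z ≫ e.left = _
      rw [pullback.lift_snd_assoc]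
      apply pullback.hom_ext
      · rw [Category.assoc, he]
        erw [pullbackSymmetry_hom_comp_fst]
        show (adj σ (p₂ ≫ d l)).left ≫ (Red.bc σ Γ₀).hom = (T ◁ d l).left ≫ (fst T Γ₀).left
        rw [Over.w (adj σ (p₂ ≫ d l)), ← Over.comp_left, whiskerLeft_fst]
        rfl
      · rw [Category.assoc, he]
        erw [pullbackSymmetry_hom_comp_snd]
        rw [adj_left]
        show _ = (T ◁ d l).left ≫ (snd T Γ₀).left
        rw [← Over.comp_left, whiskerLeft_snd]
        rfl)
  have hz : (pullbackSymmetry Γ₀.hom σ).hom ≫ t.left ≫ z = 𝟙 _ := by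
    have h1 : t.left ≫ z ≫ (pullbackSymmetry Γ₀.hom σ).hom = 𝟙 _ := by
      rw [← he]
      exact congrArg CommaMorphism.left ht
    rw [← cancel_mono (pullbackSymmetry Γ₀.hom σ).hom, Category.assoc, Category.assoc, h1]
    simp
    exact Category.comp_id _
  let s : (Red.bc σ Γ₀).left ⟶ Γ'.left := (pullbackSymmetry Γ₀.hom σ).hom ≫ t.left ≫ pullback.fst i'.left I
  have hs : s ≫ i'.left = I := by
    simp only [s, Category.assoc]
    rw [pullback.condition, reassoc_of% hz]
  exact ⟨Over.homMk s (by rw [← Over.w i', ← Category.assoc, hs]; exact Over.w ((Over.pullback σ).map i₀)),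
    Over.OverMorphism.ext hs⟩

end Groth.Agent.S5361
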