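import Groth.Statements.S15600
import Groth.Agent.URad.Radical
import Groth.Agent.GenSub.Word
import Groth.Agent.GenSub.Dense
import Groth.Agent.GrpschAbsch.NeutralSet
import Groth.Agent.GrpschAbsch.GrpEtaleRel
import Groth.Agent.AlgGrp1.BorelField
import Groth.Agent.S5361
-- import your own Groth.Agent.* helpers here

set_option autoImplicit false
universe u
open CategoryTheory Limits MonoidalCategory CartesianMonoidalCategory MonObj GrpObj AlgebraicGeometry
open AGF

namespace Groth.Agent.S15600


section Helpers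

variable {k : Type u} [Field k] {G U : Over (Spec (CommRingCat.of k))} [GrpObj G]

/-- Conjugates of `v : U ⟶ G`. -/
noncomputable def conjHom (v : U ⟶ G) : G ⊗ U ⟶ G := fst G U * (snd G U ≫ v) * (fst G U)⁻¹

theorem comp_conjHom (v : U ⟶ G) {T : Over (Spec (CommRingCat.of k))} (z : T ⟶ G ⊗ U) :
    z ≫ conjHom v = (z ≫ fst G U) * ((z ≫ snd G U) ≫ v) * (z ≫ fst G U)⁻¹ := by
  simp [conjHom, MonObj.comp_mul, GrpObj.comp_inv]

theorem conj_cons (v : U ⟶ G) (b : Bool) {V W : Over (Spec (CommRingCat.of k))} (w : V ⟶ G) (g : W ⟶ G)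
    (z : W ⟶ (G ⊗ U) ⊗ V) (z' : W ⟶ V) (hz' : z' ≫ w = g * ((z ≫ snd _ _) ≫ w) * g⁻¹) :
    lift (lift (g * ((z ≫ fst (G ⊗ U) V) ≫ fst G U)) ((z ≫ fst (G ⊗ U) V) ≫ snd G U)) z' ≫
        ((fst _ _ ≫ if b then conjHom v else (conjHom v)⁻¹) * (snd _ _ ≫ w)) =
      g * (z ≫ ((fst _ _ ≫ if b then conjHom v else (conjHom v)⁻¹) * (snd _ _ ≫ w))) * g⁻¹ := by
  rw [MonObj.comp_mul, MonObj.comp_mul, lift_fst_assoc, lift_snd_assoc, hz', ← Category.assoc z (fst _ _),
    ← Category.assoc z (snd _ _)]
  cases b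
  · simp only [Bool.false_eq_true, if_false, GrpObj.comp_inv, comp_conjHom, lift_fst, lift_snd]
    group
  · simp only [if_true, comp_conjHom, lift_fst, lift_snd]
    group

/-- A conjugate of a word in conjugates is a word in conjugates. -/
theorem conj_word (v : U ⟶ G) : ∀ (l : List Bool) {W : Over (Spec (CommRingCat.of k))} (g : W ⟶ G)
    (z : W ⟶ Groth.GenSub.word (G ⊗ U) l), ∃ z' : W ⟶ Groth.GenSub.word (G ⊗ U) l,
      z' ≫ Groth.GenSub.wordMap (conjHom v) l = g * (z ≫ Groth.GenSub.wordMap (conjHom v) l) * g⁻¹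
  | [], W, g, z => ⟨z, by simp [Groth.GenSub.wordMap, MonObj.comp_one]⟩
  | b :: l, W, g, z => by
      obtain ⟨z', hz'⟩ := conj_word v l g (z ≫ snd (G ⊗ U) (Groth.GenSub.word (G ⊗ U) l))
      refine ⟨lift (lift (g * ((z ≫ fst (G ⊗ U) (Groth.GenSub.word (G ⊗ U) l)) ≫ fst G U))
        ((z ≫ fst (G ⊗ U) (Groth.GenSub.word (G ⊗ U) l)) ≫ snd G U)) z', ?_⟩
      exact conj_cons v b (Groth.GenSub.wordMap (conjHom v) l) g
        (show W ⟶ (G ⊗ U) ⊗ Groth.GenSub.word (G ⊗ U) l from z) z' hz'

/-- A morphism into an open subscheme. -/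
theorem exists_factor_open {S : Scheme.{u}} {A B T : Over S} (j : A ⟶ B) [IsOpenImmersion j.left] (g : T ⟶ B)
    (h : Set.range g.left ⊆ Set.range j.left) : ∃ z : T ⟶ A, z ≫ j = g :=
  ⟨Over.homMk (IsOpenImmersion.lift j.left g.left h) (by
      rw [← Over.w j, ← Category.assoc, IsOpenImmersion.lift_fac, Over.w g]),
    Over.OverMorphism.ext (IsOpenImmersion.lift_fac _ _ _)⟩

/-- A connected open subgroup is the connected component of the identity. -/
theorem range_of_connected_open {A : Over (Spec (CommRingCat.of k))} [GrpObj A] [LocallyOfFiniteType G.hom]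
    (j : A ⟶ G) [IsMonHom j] [IsOpenImmersion j.left] [ConnectedSpace A.left] :
    Set.range j.left = connectedComponent (η[G].left (IsLocalRing.closedPoint k)) := by
  rw [← Groth.GrpschAbsch.NeutralSet.component_of_openSubgroup G j,
    PreconnectedSpace.connectedComponent_eq_univ, Set.image_univ]

/-- A connected group mapped by a homomorphism lands in a connected open subgroup. -/
theorem exists_factor_neutral {A H : Over (Spec (CommRingCat.of k))} [GrpObj A] [GrpObj H] [LocallyOfFiniteType G.hom]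
    (j : A ⟶ G) [IsMonHom j] [IsOpenImmersion j.left] [ConnectedSpace A.left]
    (h : H ⟶ G) (t : 𝟙_ (Over (Spec (CommRingCat.of k))) ⟶ H) (ht : t ≫ h = η[G]) [ConnectedSpace H.left] :
    ∃ f : H ⟶ A, f ≫ j = h := by
  refine exists_factor_open j h ?_
  rw [range_of_connected_open j]
  exact (isPreconnected_range h.left.continuous).subset_connectedComponent
    ⟨t.left (IsLocalRing.closedPoint k), congr(($ht).left.base (IsLocalRing.closedPoint k))⟩

end Helpers

/-- Over an algebraically closed field the radical of the neutral component is normal in the whole group. -/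
theorem exists_normal_radical {k : Type u} [Field k] [IsAlgClosed k] {G G₀ : Over (Spec (CommRingCat.of k))}
    [GrpObj G] [GrpObj G₀] [IsAffine G₀.left] [Smooth G.hom] [QuasiCompact G.hom]
    (j : G₀ ⟶ G) [IsMonHom j] [IsOpenImmersion j.left] [IsClosedImmersion j.left] [ConnectedSpace G₀.left] :
    ∃ (R : Over (Spec (CommRingCat.of k))) (_ : GrpObj R) (r : R ⟶ G₀), IsMonHom r ∧ IsClosedImmersion r.left ∧
      Groth.URad.IsUnip R ∧ AlgGrp.IsNormalHom (r ≫ j) ∧
      ∀ (H : Over (Spec (CommRingCat.of k))) [GrpObj H] (u : H ⟶ G₀) [IsMonHom u],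
        IsClosedImmersion u.left → Smooth H.hom → ConnectedSpace H.left → AlgGrp.IsNormalHom u →
        Red.HasNoSubtorus k H → ∃ f : H ⟶ R, f ≫ r = u := by
  have : Mono j := Over.mono_of_mono_left j
  have : LocallyOfFiniteType G.hom := inferInstance
  have : LocallyOfFiniteType G₀.hom := by rw [← Over.w j]; infer_instance
  have : QuasiCompact G₀.hom := by rw [← Over.w j]; infer_instance
  obtain ⟨R, _, r, hrm, hrc, hRs, hRconn, hRn, hRu, hmax⟩ := Groth.URad.exists_largest G₀
  have : Mono r := Over.mono_of_mono_left r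
  have hrjc : IsClosedImmersion (r ≫ j).left := by rw [Over.comp_left]; infer_instance
  refine ⟨R, inferInstance, r, hrm, hrc, hRu, Groth.URad.isNormalHom_of_points (r ≫ j) fun g x => ?_, ?_⟩
  · -- conjugation by `g` on the neutral component
    let c : G₀ ⟶ G := (toUnit G₀ ≫ g) * j * (toUnit G₀ ≫ g)⁻¹
    have hc : ∀ {T : Over (Spec (CommRingCat.of k))} (a : T ⟶ G₀),
        a ≫ c = (toUnit T ≫ g) * (a ≫ j) * (toUnit T ≫ g)⁻¹ := fun a => by
      simp [c, MonObj.comp_mul, GrpObj.comp_inv]
    obtain ⟨c₀, hc₀⟩ := exists_factor_neutral j c η[G₀] (by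
      rw [hc, IsMonHom.one_hom j, show (η[G] : 𝟙_ _ ⟶ G) = 1 by
        rw [Hom.one_def, toUnit_unique (toUnit _) (𝟙 _), Category.id_comp]]
      simp)
    let c' : G₀ ⟶ G := (toUnit G₀ ≫ g⁻¹) * j * (toUnit G₀ ≫ g⁻¹)⁻¹
    have hc' : ∀ {T : Over (Spec (CommRingCat.of k))} (a : T ⟶ G₀),
        a ≫ c' = (toUnit T ≫ g⁻¹) * (a ≫ j) * (toUnit T ≫ g⁻¹)⁻¹ := fun a => by
      simp [c', MonObj.comp_mul, GrpObj.comp_inv]
    obtain ⟨d₀, hd₀⟩ := exists_factor_neutral j c' η[G₀] (by
      rw [hc', IsMonHom.one_hom j, show (η[G] : 𝟙_ _ ⟶ G) = 1 by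
        rw [Hom.one_def, toUnit_unique (toUnit _) (𝟙 _), Category.id_comp]]
      simp)
    have hdc : d₀ ≫ c₀ = 𝟙 G₀ := by
      rw [← cancel_mono j, Category.assoc, hc₀, hc, hd₀, ← Category.id_comp c', hc', GrpObj.comp_inv,
        Category.id_comp]
      group
    have hcd : c₀ ≫ d₀ = 𝟙 G₀ := by
      rw [← cancel_mono j, Category.assoc, hd₀, hc', hc₀, ← Category.id_comp c, hc, GrpObj.comp_inv,
        Category.id_comp]
      group
    have : IsIso c₀ := ⟨d₀, hcd, hdc⟩
    have : IsIso c₀.left := inferInstanceAs (IsIso ((Over.forget _).map c₀))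
    have : IsMonHom c₀ := Groth.AlgGrp1.isMonHom_of_points c₀ fun T a b => by
      rw [← cancel_mono j, MonObj.mul_comp _ _ j, Category.assoc, Category.assoc, Category.assoc, hc₀,
        hc, hc, hc, MonObj.mul_comp]
      group
    have hconj : AlgGrp.IsNormalHom (r ≫ c₀) := fun T a n => by
      obtain ⟨n', hn'⟩ := hRn T (a ≫ d₀) n
      refine ⟨n', ?_⟩
      rw [← Category.assoc n' r c₀, ← hn', MonObj.mul_comp, MonObj.mul_comp, GrpObj.inv_comp,
        Category.assoc a, hdc, Category.comp_id, Category.assoc]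
    obtain ⟨f, hf⟩ := hmax R (r ≫ c₀) (by rw [Over.comp_left]; infer_instance) hRs hRconn hconj hRu
    refine ⟨x ≫ f, ?_⟩
    rw [Category.assoc x f, reassoc_of% hf, hc₀, ← Category.assoc x r c, hc,
      toUnit_unique (toUnit (𝟙_ (Over (Spec (CommRingCat.of k))))) (𝟙 _), Category.id_comp, Category.assoc]
  · intro H _ u _ hu hs hconn hn hH
    have : IsAffine H.left := isAffine_of_isAffineHom u.left
    have : QuasiCompact H.hom := by rw [← Over.w u]; infer_instance
    exact hmax H u hu hs hconn hn (Groth.URad.isUnip_of_hasNoSubtorus H hH)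

/-- A scheme with connected base change to a field is connected. -/
theorem connectedSpace_of_bc {k K : Type u} [Field k] [Field K] (σ : Spec (CommRingCat.of K) ⟶ Spec (CommRingCat.of k))
    (U : Over (Spec (CommRingCat.of k))) (h : ConnectedSpace (Red.bc σ U).left) : ConnectedSpace U.left := by
  let p : (Red.bc σ U).left ⟶ U.left := pullback.fst U.hom σ
  have : Surjective σ :=
    ⟨fun _ => ⟨IsLocalRing.closedPoint _, Subsingleton.elim (α := ↥(Spec (CommRingCat.of k))) _ _⟩⟩
  have : Surjective p := MorphismProperty.pullback_fst _ _ ‹_›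
  exact p.surjective.connectedSpace p.continuous

/-- The geometric fibre of the subgroup generated by the conjugates of the radical. -/
theorem geom_generated {k K : Type u} [Field k] [Field K] [IsAlgClosed K]
    (σ : Spec (CommRingCat.of K) ⟶ Spec (CommRingCat.of k))
    {G G₀ U : Over (Spec (CommRingCat.of k))} [GrpObj G] [GrpObj G₀] [GrpObj U] [IsAffine G.left] [Smooth G.hom]
    (j : G₀ ⟶ G) [IsMonHom j] [IsOpenImmersion j.left] [IsClosedImmersion j.left] [ConnectedSpace G₀.left]
    [IsAffine G₀.left] [Smooth G₀.hom]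
    (u : U ⟶ G₀) [IsMonHom u] [IsClosedImmersion u.left] [Smooth U.hom] [GeometricallyReduced (G ⊗ U).hom]
    (hun : AlgGrp.IsNormalHom u)
    (hUcs : ConnectedSpace (Red.bc σ U).left) (hUn : Red.HasNoSubtorus K (Red.bc σ U))
    (Γ : Over (Spec (CommRingCat.of k))) [GrpObj Γ] (i : Γ ⟶ G) [IsMonHom i] [IsClosedImmersion i.left] [Mono i]
    [LocallyOfFiniteType Γ.hom] [ConnectedSpace Γ.left]
    (hf : ∃ f' : G ⊗ U ⟶ Γ, f' ≫ i = conjHom (u ≫ j))
    (hmin : ∀ (Γ' : Over (Spec (CommRingCat.of k))) (_ : GrpObj Γ') (i' : Γ' ⟶ G), IsMonHom i' → IsClosedImmersion i'.left →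
      (∃ f'' : G ⊗ U ⟶ Γ', f'' ≫ i' = conjHom (u ≫ j)) → ∃ m : Γ ⟶ Γ', m ≫ i' = i) :
    ConnectedSpace (Red.bc σ Γ).left ∧ Red.HasNoSubtorus K (Red.bc σ Γ) := by
  have : Mono ((Over.pullback σ).map i) := inferInstance
  have : IsClosedImmersion ((Over.pullback σ).map j).left := Groth.AlgGrp1.isClosedImmersion_bc σ j
  have : IsClosedImmersion ((Over.pullback σ).map u).left := Groth.AlgGrp1.isClosedImmersion_bc σ u
  have : IsOpenImmersion ((Over.pullback σ).map j).left :=
    MorphismProperty.of_isPullback (Groth.GrpschAbsch.FibreFlat.isPullback_map σ j) ‹IsOpenImmersion j.left›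
  have : Smooth (Red.bc σ G).hom := Groth.AlgGrp1.smooth_bc σ G
  have : IsAffine (Red.bc σ G).left := Groth.AlgGrp1.isAffine_bc σ G
  have : IsAffine (Red.bc σ G₀).left := Groth.AlgGrp1.isAffine_bc σ G₀
  have : LocallyOfFiniteType G₀.hom := inferInstance
  have : ConnectedSpace (Red.bc σ G₀).left := Groth.AlgGrp1.connectedSpace_bc σ G₀
  have : ConnectedSpace (Red.bc σ Γ).left := Groth.AlgGrp1.connectedSpace_bc σ Γ
  refine ⟨inferInstance, ?_⟩
  obtain ⟨R, _, r, _, _, hRu, hRn, hRmax⟩ := exists_normal_radical (k := K)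
    (G := Red.bc σ G) (G₀ := Red.bc σ G₀) ((Over.pullback σ).map j)
  obtain ⟨a, ha⟩ := hRmax _ ((Over.pullback σ).map u) inferInstance (Groth.AlgGrp1.smooth_bc σ U) hUcs
    (Groth.Sga3.CommSpread.isNormalHom_bc σ u hun) hUn
  have hrjc : IsClosedImmersion (r ≫ (Over.pullback σ).map j).left := by rw [Over.comp_left]; infer_instance
  have hfac : ∃ f'' : Red.bc σ (G ⊗ U) ⟶ R,
      f'' ≫ r ≫ (Over.pullback σ).map j = (Over.pullback σ).map (conjHom (u ≫ j)) := by
    obtain ⟨n', hn'⟩ := hRn (Red.bc σ (G ⊗ U)) ((Over.pullback σ).map (fst G U))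
      ((Over.pullback σ).map (snd G U) ≫ a)
    refine ⟨n', ?_⟩
    rw [← hn', Category.assoc, reassoc_of% ha, conjHom, Functor.map_mul, Functor.map_mul, Functor.map_inv']
    simp
  obtain ⟨m, hm⟩ := Groth.Agent.S5361.result k G (G ⊗ U) (conjHom (u ≫ j)) Γ i hf hmin _ σ R inferInstance
    (r ≫ (Over.pullback σ).map j) inferInstance inferInstance hfac
  have : Mono r := Over.mono_of_mono_left r
  have : Mono ((Over.pullback σ).map j) := Over.mono_of_mono_left _
  have : Mono (m ≫ r ≫ (Over.pullback σ).map j) := by rw [hm]; infer_instance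
  have : Mono m := mono_of_mono m (r ≫ (Over.pullback σ).map j)
  have : IsMonHom m := Groth.AlgGrp1.isMonHom_of_points m fun T x y => by
    rw [← cancel_mono (r ≫ (Over.pullback σ).map j), MonObj.mul_comp _ _ (r ≫ (Over.pullback σ).map j),
      Category.assoc, Category.assoc, Category.assoc, hm, MonObj.mul_comp]
  have : LocallyOfFiniteType (Red.bc σ G₀).hom := inferInstanceAs (LocallyOfFiniteType (pullback.snd G₀.hom σ))
  have : LocallyOfFiniteType R.hom := by rw [← Over.w r]; infer_instance
  intro T _ x _ _ hT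
  exact hRu.hasNoSubtorus T (x ≫ m) hT

/-- A normal subgroup as a subgroup of an intermediate subgroup is normal. -/
theorem isNormalHom_of_le {k : Type u} [Field k] {G U H : Over (Spec (CommRingCat.of k))} [GrpObj G] [GrpObj U] [GrpObj H]
    (f : U ⟶ H) (i : H ⟶ G) [IsMonHom i] [Mono i] (h : AlgGrp.IsNormalHom (f ≫ i)) : AlgGrp.IsNormalHom f := by
  intro T g n
  obtain ⟨n', hn'⟩ := h T (g ≫ i) n
  refine ⟨n', (cancel_mono i).1 ?_⟩
  rw [MonObj.mul_comp, MonObj.mul_comp, GrpObj.inv_comp, Category.assoc, hn', Category.assoc]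

/-- Let k be a field, G a smooth affine k-group scheme and G⁰ ⟶ G its identity component, that is, an
open subgroup scheme whose underlying space is connected. If U ⟶ G⁰ is the k-unipotent radical of G⁰
(the largest normal closed subgroup scheme of G⁰, smooth and quasi-compact over k, with connected
geometric fibre containing no non-trivial subtorus), then the composite U ⟶ G⁰ ⟶ G is the
k-unipotent radical of G. -/
theorem result (k : Type u) [Field k]
    (G G₀ U : Over (Spec (CommRingCat.of k))) [GrpObj G] [GrpObj G₀] [GrpObj U] [IsAffine G.left] [Smooth G.hom]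
    (j : G₀ ⟶ G) [IsMonHom j] [IsOpenImmersion j.left] [ConnectedSpace ↥G₀.left]
    (u : U ⟶ G₀) (hu : Par.IsUnipotentRadical u) : Par.IsUnipotentRadical (u ≫ j) := by
  obtain ⟨hum, huc, hun, hus, huq, hgeo, humax⟩ := hu
  have : Mono j := Over.mono_of_mono_left j
  have : LocallyOfFiniteType G.hom := inferInstance
  have hjc : IsClosedImmersion j.left := Groth.Agf.isClosedImmersion_of_subgroup j
  have : IsAffine G₀.left := isAffine_of_isAffineHom j.left
  have : Smooth G₀.hom := by rw [← Over.w j]; infer_instance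
  have : Mono u := Over.mono_of_mono_left u
  let v : U ⟶ G := u ≫ j
  have hUc : ConnectedSpace U.left := connectedSpace_of_bc _ U (hgeo (IsLocalRing.closedPoint k)).1
  have : LocallyOfFiniteType U.hom := inferInstance
  have := Groth.AlgGrp1.geometricallyReduced_of_smooth_hom G
  have := Groth.AlgGrp1.geometricallyReduced_of_smooth_hom U
  have := Groth.GenSub.geometricallyReduced_tensor G U
  -- the subgroup generated by the conjugates
  obtain ⟨Γ, _, i, d, him, hic, hΓr, hd, hdense, ⟨f', hf'⟩, hmin⟩ := Groth.GenSub.exists_generated (conjHom v)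
  have : Mono i := Over.mono_of_mono_left i
  have : LocallyOfFiniteType Γ.hom := by rw [← Over.w i]; infer_instance
  have : Smooth Γ.hom := Groth.GrpschAbsch.smooth_of_geometricallyReduced Γ
  have : QuasiCompact Γ.hom := by rw [← Over.w i]; infer_instance
  -- it is connected
  have hΓc : ConnectedSpace Γ.left := by
    obtain ⟨Γ₁, _, q, _, _, hr, hc⟩ := Groth.GrpschAbsch.NeutralSet.exists_neutral_openSubgroup Γ
    have : Mono q := Over.mono_of_mono_left q
    have : IsClosedImmersion q.left := Groth.Agf.isClosedImmersion_of_subgroup q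
    have : GeometricallyConnected U.hom :=
      Groth.AlgGrp1.geometricallyConnected_of_point U.hom η[U].left (Over.w η[U])
    let π : (G ⊗ U).left ⟶ G.left := pullback.fst G.hom U.hom
    have hrange : Set.range f'.left ⊆ Set.range q.left := by
      rintro _ ⟨p, rfl⟩
      rw [hr]
      let e : G ⟶ G ⊗ U := lift (𝟙 G) 1
      have he : e.left ≫ π = 𝟙 _ := by
        show e.left ≫ (fst G U).left = _
        rw [← Over.comp_left, lift_fst]; rfl
      refine ((π.isConnected_preimage_singleton (π p)).isPreconnected.image f'.left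
        f'.left.continuous.continuousOn).subset_connectedComponent ?_ ⟨p, rfl, rfl⟩
      refine ⟨e.left (π p), ?_, ?_⟩
      · show π (e.left (π p)) = π p
        rw [← Scheme.Hom.comp_apply, he]
        rfl
      · have h1 : e ≫ f' = toUnit G ≫ η[Γ] := by
          rw [← cancel_mono i, Category.assoc, hf', Category.assoc, IsMonHom.one_hom i, comp_conjHom,
            lift_fst, lift_snd, MonObj.one_comp]
          rw [← Hom.one_def]
          group
        rw [← Scheme.Hom.comp_apply, ← Over.comp_left, h1, Over.comp_left, Scheme.Hom.comp_apply]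
        exact congrArg _ (Subsingleton.elim (α := ↥(Spec (CommRingCat.of k))) _ _)
    obtain ⟨f₁, hf₁⟩ := exists_factor_open q f' hrange
    obtain ⟨a, ha⟩ := hmin Γ₁ inferInstance (q ≫ i) inferInstance (by rw [Over.comp_left]; infer_instance)
      ⟨f₁, by rw [← Category.assoc, hf₁, hf']⟩
    have haq : a ≫ q = 𝟙 Γ := by rw [← cancel_mono i, Category.assoc, ha, Category.id_comp]
    refine (show Function.Surjective q.left from fun x => ⟨a.left x, ?_⟩).connectedSpace q.left.continuous
    rw [← Scheme.Hom.comp_apply, ← Over.comp_left, haq]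
    rfl
  -- it is normal
  have hΓn : AlgGrp.IsNormalHom i := by
    have : IsReduced Γ.left := Groth.AlgGrp1.isReduced_of_smooth Γ.hom
    obtain ⟨t, ht⟩ := Groth.GenSub.exists_factor_dense (T := G) d hdense i
      (fst G Γ * (snd G Γ ≫ i) * (fst G Γ)⁻¹) fun l => by
        obtain ⟨z, hz⟩ := conj_word v l (fst G (Groth.GenSub.word (G ⊗ U) l)) (snd G _)
        refine ⟨z ≫ d l, ?_⟩
        rw [Category.assoc, hd, hz]
        simp [MonObj.comp_mul, GrpObj.comp_inv, whiskerLeft_fst, whiskerLeft_snd_assoc, hd]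
    intro T g n
    refine ⟨lift g n ≫ t, ?_⟩
    rw [Category.assoc, ht]
    simp [MonObj.comp_mul, GrpObj.comp_inv]
  -- it lies in the neutral component
  obtain ⟨b, hb⟩ := exists_factor_neutral j i η[Γ] (IsMonHom.one_hom i)
  have : IsMonHom b := Groth.AlgGrp1.isMonHom_of_points b fun T x y => by
    rw [← cancel_mono j, MonObj.mul_comp _ _ j, Category.assoc, Category.assoc, Category.assoc, hb,
      MonObj.mul_comp]
  have hbc : IsClosedImmersion b.left := by
    have : IsClosedImmersion (b.left ≫ j.left) := by rw [← Over.comp_left, hb]; exact hic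
    exact IsClosedImmersion.of_comp b.left j.left
  obtain ⟨w, hw⟩ := humax Γ b hbc (isNormalHom_of_le b j (hb.symm ▸ hΓn)) inferInstance inferInstance
    fun s => geom_generated _ j u hun (hgeo s).1 (hgeo s).2 Γ i ⟨f', hf'⟩ hmin
  have hvn : AlgGrp.IsNormalHom v := fun T g n => by
    refine ⟨lift g n ≫ f' ≫ w, ?_⟩
    rw [show (lift g n ≫ f' ≫ w) ≫ v = lift g n ≫ f' ≫ (w ≫ u) ≫ j by simp [v], hw, hb, hf', comp_conjHom,
      lift_fst, lift_snd]
  refine ⟨inferInstance, by rw [Over.comp_left]; infer_instance, hvn, hus, huq, hgeo,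
    fun U' _ u' _ hc' hn' hs' hq' hg' => ?_⟩
  have : ConnectedSpace U'.left := connectedSpace_of_bc _ U' (hg' (IsLocalRing.closedPoint k)).1
  obtain ⟨c, hc⟩ := exists_factor_neutral j u' η[U'] (IsMonHom.one_hom u')
  have : IsMonHom c := Groth.AlgGrp1.isMonHom_of_points c fun T x y => by
    rw [← cancel_mono j, MonObj.mul_comp _ _ j, Category.assoc, Category.assoc, Category.assoc, hc,
      MonObj.mul_comp]
  have hcc : IsClosedImmersion c.left := by
    have : IsClosedImmersion (c.left ≫ j.left) := by rw [← Over.comp_left, hc]; exact hc'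
    exact IsClosedImmersion.of_comp c.left j.left
  obtain ⟨e, he⟩ := humax U' c hcc (isNormalHom_of_le c j (hc.symm ▸ hn')) hs' hq' hg'
  exact ⟨e, by rw [← Category.assoc, he, hc]⟩

end Groth.Agent.S15600
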