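import Groth.Statements.S15601
import Groth.Agent.Misc1.Unip.LieKolchin

set_option autoImplicit false
universe u v
open HopfRep

namespace Groth.Agent.S15601

/-- Let k be an algebraically closed field and G = Spec A a smooth connected affine k-group: A is a
finitely generated commutative Hopf algebra over k which is reduced and has no idempotents other
than 0 and 1. Suppose G is solvable, i.e. the group G(k) of k-algebra maps A → k under convolution
is solvable. Then the derived group of G is unipotent: every element of the commutator subgroup of
G(k) acts in every finite-dimensional A-comodule by an operator u with u − 1 nilpotent. (Stated over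
an algebraically closed field, where the derived group is determined by the commutators of k-points;
the case of a general field reduces to this one.) -/
theorem result (k : Type u) [Field k] [IsAlgClosed k]
    (A : Type v) [CommRing A] [HopfAlgebra k A] [Algebra.FiniteType k A] [IsReduced A]
    (hconn : ∀ e : A, IsIdempotentElem e → e = 0 ∨ e = 1)
    [Group.IsSolvable (WithConv (A →ₐ[k] k))]
    (g : WithConv (A →ₐ[k] k)) (hg : g ∈ commutator (WithConv (A →ₐ[k] k)))
    (V : Type v) [AddCommGroup V] [Module k V] [HopfRep.Comod k A V] [Module.Finite k V] :
    IsNilpotent (HopfRep.Comod.act k A V g.ofConv - 1) := by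
  haveI := Groth.Misc1.Unip.isDomain_of_connected' (k := k) hconn
  have hT : HopfRep.IsTrigonalizable k A := Groth.Misc1.Unip.isTrigonalizable_of_solvable
  obtain ⟨m, hm⟩ := Groth.Misc1.Unip.exists_charSeries_eq_top hT V
  have hgK : g ∈ (Groth.Misc1.Unip.charEval k A).ker := Abelianization.commutator_subset_ker _ hg
  refine ⟨m, LinearMap.ext fun x => ?_⟩
  rw [LinearMap.zero_apply]
  change ((Groth.Misc1.Unip.pointAct k A V g - 1 : Module.End k V) ^ m) x = 0
  have key : ∀ (j : ℕ) (y : V), y ∈ Groth.Misc1.Unip.charSeries k A V j →
      ((Groth.Misc1.Unip.pointAct k A V g - 1 : Module.End k V) ^ j) y = 0 := by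
    intro j
    induction j with
    | zero =>
      intro y hy
      rw [(Submodule.mem_bot k).1 hy, map_zero]
    | succ j ih =>
      intro y hy
      rw [pow_succ, Module.End.mul_apply]
      refine ih _ ?_
      rw [LinearMap.sub_apply, Module.End.one_apply]
      exact Groth.Misc1.Unip.lower_of_mem_ker hgK j hy
  exact key m x (hm ▸ Submodule.mem_top)

end Groth.Agent.S15601
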