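import Groth.Statements.S15604
import Groth.Agent.Agf.ImageSubgroup
import Groth.Agent.Agf.GeomRed
import Groth.Agent.AlgGrp1.Sub
import Groth.Agent.AlgGrp1.SmoothReduced
import Mathlib.AlgebraicGeometry.Group.Smooth

set_option autoImplicit false
universe u
open CategoryTheory MonoidalCategory CartesianMonoidalCategory MonObj GrpObj AlgebraicGeometry
open AlgGrp

namespace Groth.Agent.S15604

/-- Let k be a field and f : G ⟶ G' a homomorphism of k-group schemes of finite type, with G smooth over
k. The image of f is closed (not asserted here); with its reduced induced structure it is smooth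
over k: every reduced closed subscheme H of G' whose underlying set is the set-theoretic image of f
is smooth over k. -/
theorem result (k : Type u) [Field k]
    (G G' : Over (Spec (CommRingCat.of k))) [GrpObj G] [GrpObj G'] [Smooth G.hom] [QuasiCompact G.hom]
    [LocallyOfFiniteType G'.hom] [QuasiCompact G'.hom] (f : G ⟶ G') [IsMonHom f]
    (H : Scheme.{u}) (i : H ⟶ G'.left) [IsClosedImmersion i] [IsReduced H]
    (hH : Set.range i.base = Set.range f.left.base) : Smooth (i ≫ G'.hom) := by
  let K : Over (Spec (CommRingCat.of k)) := Over.mk (i ≫ G'.hom)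
  let j : K ⟶ G' := Over.homMk i rfl
  have : IsClosedImmersion j.left := ‹IsClosedImmersion i›
  have : IsReduced G.left := Groth.AlgGrp1.isReduced_of_smooth G.hom
  have : IsReduced K.left := ‹IsReduced H›
  obtain ⟨g, hg⟩ := Groth.AlgGrp1.exists_factor_of_range_subset j f hH.ge
  have : IsSeparated G'.hom := Groth.AlgGrp1.isSeparated_grpObj G'
  have : QuasiCompact (f.left ≫ G'.hom) := by rw [Over.w f]; infer_instance
  have : QuasiCompact f.left := QuasiCompact.of_comp f.left G'.hom
  have : QuasiCompact (g.left ≫ j.left) := by rw [← Over.comp_left, hg]; infer_instance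
  have : QuasiCompact g.left := QuasiCompact.of_comp g.left j.left
  have : Surjective g.left := ⟨fun h => by
    obtain ⟨x, hx⟩ := hH.le ⟨h, rfl⟩
    refine ⟨x, j.left.isClosedEmbedding.injective ?_⟩
    rw [← Scheme.Hom.comp_apply, ← Over.comp_left, hg]
    exact hx⟩
  have : IsSchemeTheoreticallyDominant g.left := .of_isDominant _
  obtain ⟨inst, hj, hg'⟩ := Groth.Agf.exists_grpObj_image f j g hg
  have : GeometricallyReduced (g.left ≫ K.hom) := by
    rw [Over.w g]; exact Groth.AlgGrp1.geometricallyReduced_of_smooth G.hom
  have : GeometricallyReduced K.hom := Groth.Agf.geometricallyReduced_of_dominant g.left K.hom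
  have : LocallyOfFiniteType K.hom := inferInstanceAs (LocallyOfFiniteType (i ≫ G'.hom))
  let : GrpObj (Over.mk K.hom) := inst
  exact smooth_of_grpObj K.hom

end Groth.Agent.S15604
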