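import Groth.Statements.S15606
import Groth.Agent.BddFin.LineQuotGa
import Groth.Agent.Agf.SubobjGrp
import Groth.Agent.Agf.ClosedSubgroup
import Groth.Agent.AlgGrp1.AffineHull
import Groth.Agent.AlgGrp1.SmoothReduced
import Groth.Agent.GrpschLoci.Kernel

set_option autoImplicit false
universe u
open CategoryTheory MonoidalCategory CartesianMonoidalCategory MonObj GrpObj AlgebraicGeometry
open AlgGrp

namespace Groth.Agent.S15606

/-- Additive case. Let k be a field, H an affine smooth connected k-group scheme, and f a homomorphism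
from the additive group over k to H which is finite and surjective (an isogeny onto H). Then H is
isomorphic, as a k-group scheme, to the additive group. In particular every quotient of the additive
group by a finite k-subgroup scheme is isomorphic to the additive group over k itself, for any field
k. -/
theorem result (k : Type u) [Field k]
    (H : Over (Spec (CommRingCat.of k))) [GrpObj H] [IsAffine H.left] [Smooth H.hom] [ConnectedSpace ↥H.left]
    (f : Red.Ga (Spec (CommRingCat.of k)) ⟶ H) [IsMonHom f] [IsFinite f.left] [Surjective f.left] :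
    Nonempty (Grp.mk H ≅ Grp.mk (Red.Ga (Spec (CommRingCat.of k)))) := by
  haveI hfm : IsMonHom f := inferInstance
  haveI : LocallyOfFiniteType (Red.Ga (Spec (CommRingCat.of k))).hom := by rw [← Over.w f]; infer_instance
  haveI : QuasiCompact (Red.Ga (Spec (CommRingCat.of k))).hom := by rw [← Over.w f]; infer_instance
  haveI : IsReduced H.left := Groth.AlgGrp1.isReduced_of_smooth H.hom
  haveI : IsDominant f.left := inferInstance
  haveI : IsSchemeTheoreticallyDominant f.left := IsSchemeTheoreticallyDominant.of_isDominant f.left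
  have hfc : Groth.AlgGrp1.IsCover f := by
    obtain ⟨h1, h2⟩ := Groth.AlgGrp1.AffineHull.flat_surjective_of_dominant f
    exact ⟨h1, h2, Groth.AlgGrp1.lfp_left f⟩
  -- the kernel
  haveI : IsSeparated H.hom := inferInstance
  obtain ⟨N, c, hc, hN⟩ := Groth.Agf.exists_preimage f η[H]
  have hN' : ∀ (T : Over (Spec (CommRingCat.of k))) (g : T ⟶ Red.Ga (Spec (CommRingCat.of k))),
      (∃ z : T ⟶ N, z ≫ c = g) ↔ g ≫ f = 1 := fun T g => by
    rw [hN T g]
    exact ⟨fun ⟨x', hx'⟩ => by rw [hx', toUnit_unique x' (toUnit T), Hom.one_def],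
      fun h => ⟨toUnit T, by rw [h, Hom.one_def]⟩⟩
  haveI : Mono c := Over.mono_of_mono_left c
  obtain ⟨_, _⟩ := Groth.Agf.exists_grpObj_of_subgroup c (fun T g => g ≫ f = 1) hN'
    (fun T => by rw [MonObj.one_comp])
    (fun T a b ha hb => by rw [MonObj.mul_comp, ha, hb, _root_.mul_one])
    (fun T a ha => by rw [GrpObj.inv_comp, ha, inv_one])
  have hker : AlgGrp.IsKernel c f := Groth.AlgGrp1.IsKernel.mk' inferInstance hN'
  haveI : IsFinite N.hom :=
    MorphismProperty.of_isPullback (P := @IsFinite) (Groth.GrpschLoci.isPullback_kernel f c hker) ‹_›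
  obtain ⟨φ, hφm, hφk, hφf, hφs⟩ := Groth.BddFin.LineQuot.quot_ga c
  haveI : IsMonHom φ := hφm
  have hφc : Groth.AlgGrp1.IsCover φ := ⟨hφf, hφs, Groth.AlgGrp1.lfp_left φ⟩
  have hsame : ∀ {T : Over (Spec (CommRingCat.of k))} (a b : T ⟶ Red.Ga (Spec (CommRingCat.of k))),
      a ≫ f = b ≫ f ↔ a ≫ φ = b ≫ φ := by
    intro T a b
    have h1 : a ≫ f = b ≫ f ↔ (a / b) ≫ f = 1 := by
      rw [div_eq_mul_inv, MonObj.mul_comp, GrpObj.inv_comp, mul_inv_eq_one]
    have h2 : a ≫ φ = b ≫ φ ↔ (a / b) ≫ φ = 1 := by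
      rw [div_eq_mul_inv, @MonObj.mul_comp _ _ _ _ _ _ _ _ a b⁻¹ φ hφm, @GrpObj.inv_comp _ _ _ _ _ _ _ _ b φ hφm,
        mul_inv_eq_one]
    rw [h1, h2, ← hN', Groth.AlgGrp1.IsKernel.exists_iff hφk]
  obtain ⟨g, hg⟩ := hfc.exists_desc φ fun T a b h => (hsame a b).1 h
  obtain ⟨g', hg'⟩ := hφc.exists_desc f fun T a b h => (hsame a b).2 h
  let e : H ≅ Red.Ga (Spec (CommRingCat.of k)) := ⟨g, g', hfc.cancel (by rw [← Category.assoc, hg, hg', Category.comp_id]),
    hφc.cancel (by rw [← Category.assoc, hg', hg, Category.comp_id])⟩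
  haveI : IsMonHom e.hom := by
    refine Groth.AlgGrp1.isMonHom_of_points _ fun {T} a b => ?_
    obtain ⟨T', t, x, y, ht, hx, hy⟩ := hfc.exists_lift₂ a b
    apply ht.cancel
    show t ≫ (a * b) ≫ g = t ≫ ((a ≫ g) * (b ≫ g))
    rw [← Category.assoc, MonObj.comp_mul, ← hx, ← hy, ← MonObj.mul_comp x y f, Category.assoc, hg,
      @MonObj.mul_comp _ _ _ _ _ _ _ _ x y φ hφm, MonObj.comp_mul, ← Category.assoc t a g, ← Category.assoc t b g, ← hx, ← hy,
      Category.assoc, Category.assoc, hg]
  exact ⟨Grp.mkIso' e⟩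

end Groth.Agent.S15606
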