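import Groth.Statements.S15607
import Groth.Agent.BddFin.LineQuotGm
import Groth.Agent.Agf.SubobjGrp
import Groth.Agent.Agf.ClosedSubgroup
import Groth.Agent.AlgGrp1.AffineHull
import Groth.Agent.AlgGrp1.SmoothReduced
import Groth.Agent.AlgGrp1.Geom
import Groth.Agent.Hopf.GenExt.Cochar
import Mathlib.AlgebraicGeometry.Group.Abelian
import Groth.Agent.GrpschAbsch.Deligne
import Groth.Agent.GrpschLoci.Kernel
import Groth.Agent.AbVarMul.KernelComp

set_option autoImplicit false
universe u
open CategoryTheory MonoidalCategory CartesianMonoidalCategory MonObj GrpObj AlgebraicGeometry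
open AlgGrp

namespace Groth.Agent.S15607

open Groth.AlgGrp2.LineLaws Groth.BddFin.LineQuot
open CategoryTheory.Limits

variable {k : Type u} [Field k]

/-- A homomorphism kills commutators of points with commuting images. -/
theorem commutator_comp {G G' T : Over (Spec (CommRingCat.of k))} [GrpObj G] [GrpObj G'] (f : G ⟶ G')
    [IsMonHom f] (a b : T ⟶ G) (h : (a ≫ f) * (b ≫ f) = (b ≫ f) * (a ≫ f)) :
    (a * b * a⁻¹ * b⁻¹) ≫ f = 1 := by
  rw [MonObj.mul_comp, MonObj.mul_comp, MonObj.mul_comp, GrpObj.inv_comp, GrpObj.inv_comp, h,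
    mul_inv_cancel_right, mul_inv_cancel]

/-- A positive power map of the multiplicative group is finite and surjective. -/
theorem isFinite_surjective_pow_gm (n : ℕ) (hn : 0 < n) :
    IsFinite ((𝟙 (Red.Gm (Spec (CommRingCat.of k)))) ^ n).left ∧
      Surjective ((𝟙 (Red.Gm (Spec (CommRingCat.of k)))) ^ n).left := by
  haveI : IsAffine (Red.Gm (Spec (CommRingCat.of k))).left := by
    haveI : IsAffine (Red.diag (ULift.{u} ℤ) ℤ).left := isAffine_Spec _
    exact inferInstanceAs (IsAffine (pullback _ _))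
  obtain ⟨A₀, _, _, ⟨w₀⟩⟩ := exists_tst (Red.Gm (Spec (CommRingCat.of k)))
  let a : tst k (LaurentPolynomial k) ⟶ Red.Gm (Spec (CommRingCat.of k)) := gmPt (unitT k)
  let b : Red.Gm (Spec (CommRingCat.of k)) ⟶ tst k (LaurentPolynomial k) :=
    w₀.inv ≫ tstMap (evalU (isUnit_gm w₀.hom).unit)
  have hval : (((unitT k) : (LaurentPolynomial k)ˣ) : LaurentPolynomial k) = LaurentPolynomial.T 1 := rfl
  have hpt : ∀ {R : Type u} [CommRing R] [Algebra k R] (r : Rˣ),
      gm (tstMap (evalU (K := k) r) ≫ a) = r := by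
    intro R _ _ r
    rw [gm_comp, gm_gmPt, hval, evalU_T, zpow_one]
  have hba : b ≫ a = 𝟙 _ := by
    rw [← cancel_epi w₀.hom, Category.comp_id]
    simp only [b, Category.assoc, Iso.hom_inv_id_assoc]
    exact gm_injective (hpt _)
  have hab : a ≫ b = 𝟙 _ := by
    obtain ⟨ψ, hψ⟩ := exists_tstMap (a ≫ b)
    have : tstMap ψ ≫ a = a := by rw [hψ, Category.assoc, hba, Category.comp_id]
    have hX : ψ (LaurentPolynomial.T 1) = LaurentPolynomial.T 1 := by
      have := congrArg gm this
      rwa [gm_comp, gm_gmPt] at this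
    rw [← hψ, show ψ = AlgHom.id k _ from lp_algHom_ext hX, tstMap_id]
  let φ := evalU (K := k) ((unitT k) ^ n)
  have key : a ≫ (𝟙 _) ^ n = tstMap φ ≫ a := by
    rw [MonObj.comp_pow, Category.comp_id]
    exact gm_injective (by rw [gm_pow, hpt, Units.val_pow_eq_pow_val, gm_gmPt])
  have hφi : φ.toRingHom.IsIntegral := integral_T n hn
  have hft : φ.toRingHom.FiniteType := by
    refine RingHom.FiniteType.of_comp_finiteType (f := algebraMap k (LaurentPolynomial k)) ?_
    rw [show φ.toRingHom.comp (algebraMap k _) = algebraMap k _ from φ.comp_algebraMap]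
    exact RingHom.finiteType_algebraMap.mpr inferInstance
  haveI : IsFinite (tstMap φ).left := (IsFinite.SpecMap_iff _).2 (hφi.to_finite hft)
  haveI : Surjective (tstMap φ).left := by
    refine ⟨?_⟩
    letI := φ.toRingHom.toAlgebra
    haveI : Algebra.IsIntegral (LaurentPolynomial k) (LaurentPolynomial k) := ⟨hφi⟩
    haveI : @FaithfulSMul (LaurentPolynomial k) (LaurentPolynomial k) φ.toRingHom.toAlgebra.toSMul :=
      (@faithfulSMul_iff_algebraMap_injective (LaurentPolynomial k) (LaurentPolynomial k) _ _ φ.toRingHom.toAlgebra).mpr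
        (evalU_pow_injective n hn)
    exact Algebra.IsIntegral.comap_surjective (LaurentPolynomial k) (LaurentPolynomial k)
  haveI ha' : IsIso a.left := inferInstanceAs (IsIso ((Over.forget _).mapIso (Iso.mk a b hab hba)).hom)
  haveI hb' : IsIso b.left := inferInstanceAs (IsIso ((Over.forget _).mapIso (Iso.mk b a hba hab)).hom)
  have e : (𝟙 (Red.Gm (Spec (CommRingCat.of k)))) ^ n = b ≫ tstMap φ ≫ a := by
    rw [← key, ← Category.assoc, hba, Category.id_comp]
  rw [e]
  show IsFinite (b.left ≫ (tstMap φ).left ≫ a.left) ∧ Surjective (b.left ≫ (tstMap φ).left ≫ a.left)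
  clear_value a b
  exact ⟨inferInstance, inferInstance⟩

/-- Multiplicative case. Let k be a field, H a smooth connected k-group scheme, and f a homomorphism
from H to the multiplicative group over k which is finite and surjective (an isogeny). Then H is
isomorphic, as a k-group scheme, to the multiplicative group: a smooth connected k-group isogenous
to the multiplicative group over k is the split one-dimensional torus. -/
theorem result (k : Type u) [Field k]
    (H : Over (Spec (CommRingCat.of k))) [GrpObj H] [Smooth H.hom] [ConnectedSpace ↥H.left]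
    (f : H ⟶ Red.Gm (Spec (CommRingCat.of k))) [IsMonHom f] [IsFinite f.left] [Surjective f.left] :
    Nonempty (Grp.mk H ≅ Grp.mk (Red.Gm (Spec (CommRingCat.of k)))) := by
  let A := Red.Gm (Spec (CommRingCat.of k))
  have hA : IsAffine (Red.Gm (Spec (CommRingCat.of k))).left := by
    haveI : IsAffine (Red.diag (ULift.{u} ℤ) ℤ).left := isAffine_Spec _
    exact inferInstanceAs (IsAffine (pullback _ _))
  haveI hfm : @IsMonHom _ _ _ H (Red.Gm (Spec (CommRingCat.of k))) GrpObj.toMonObj GrpObj.toMonObj f :=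
    ‹IsMonHom f›
  haveI : IsAffine H.left := isAffine_of_isAffineHom f.left
  haveI : LocallyOfFiniteType (Red.Gm (Spec (CommRingCat.of k))).hom :=
    MorphismProperty.pullback_snd (P := @LocallyOfFiniteType) _ _ (by
      refine (HasRingHomProperty.Spec_iff (P := @LocallyOfFiniteType)).mpr ?_
      exact RingHom.finiteType_algebraMap.mpr inferInstance)
  haveI : QuasiCompact H.hom := inferInstance
  haveI : IsReduced H.left := Groth.AlgGrp1.isReduced_of_smooth H.hom
  haveI : IrreducibleSpace H.left := Groth.AlgGrp1.irreducibleSpace_of_connected H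
  -- the kernel
  haveI := hA
  haveI : IsClosedImmersion η[Red.Gm (Spec (CommRingCat.of k))].left := by
    have h : η[Red.Gm (Spec (CommRingCat.of k))].left ≫ (Red.Gm (Spec (CommRingCat.of k))).hom = 𝟙 _ :=
      Over.w η[Red.Gm (Spec (CommRingCat.of k))]
    haveI : IsClosedImmersion (η[Red.Gm (Spec (CommRingCat.of k))].left ≫ (Red.Gm (Spec (CommRingCat.of k))).hom) := by
      rw [h]; infer_instance
    exact IsClosedImmersion.of_comp _ (Red.Gm (Spec (CommRingCat.of k))).hom
  obtain ⟨N, c, hc, hN⟩ := Groth.Agf.exists_preimage f η[Red.Gm (Spec (CommRingCat.of k))]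
  have hN' : ∀ (T : Over (Spec (CommRingCat.of k))) (g : T ⟶ H),
      (∃ z : T ⟶ N, z ≫ c = g) ↔ g ≫ f = 1 := fun T g => by
    rw [hN T g]
    exact ⟨fun ⟨x', hx'⟩ => by rw [hx', toUnit_unique x' (toUnit T), Hom.one_def],
      fun h => ⟨toUnit T, by rw [h, Hom.one_def]⟩⟩
  haveI : Mono c := Over.mono_of_mono_left c
  obtain ⟨_, _⟩ := Groth.Agf.exists_grpObj_of_subgroup c (fun T g => g ≫ f = 1) hN'
    (fun T => by rw [MonObj.one_comp f])
    (fun T a b ha hb => by rw [MonObj.mul_comp a b f, ha, hb, _root_.mul_one])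
    (fun T a ha => by rw [GrpObj.inv_comp a f, ha, inv_one])
  have hker : AlgGrp.IsKernel c f := Groth.AlgGrp1.IsKernel.mk' inferInstance hN'
  haveI : IsFinite N.hom :=
    MorphismProperty.of_isPullback (P := @IsFinite) (Groth.GrpschLoci.isPullback_kernel f c hker) ‹_›
  -- commutativity
  have hcomm : ∀ {T : Over (Spec (CommRingCat.of k))} (x y : T ⟶ H), x * y = y * x := by
    haveI : GeometricallyConnected H.hom :=
      Groth.AlgGrp1.geometricallyConnected_of_point H.hom η[H].left (Over.w η[H])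
    haveI : UniversallyOpen H.hom := inferInstance
    haveI : ConnectedSpace (H ⊗ H).left := inferInstanceAs (ConnectedSpace ↥(pullback H.hom H.hom))
    haveI : Smooth (H ⊗ H).hom := inferInstanceAs (Smooth (pullback.fst H.hom H.hom ≫ H.hom))
    haveI : IsReduced (H ⊗ H).left := Groth.AlgGrp1.isReduced_of_smooth (H ⊗ H).hom
    let κ : H ⊗ H ⟶ H := fst H H * snd H H * (fst H H)⁻¹ * (snd H H)⁻¹
    obtain ⟨z, hz⟩ := (hN' _ κ).2 (commutator_comp f (fst H H) (snd H H) (mul_comm _ _))
    haveI : DiscreteTopology N.left := by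
      have h := N.hom.isDiscrete_preimage_singleton default
      rw [show N.hom ⁻¹' {default} = Set.univ from Set.eq_univ_of_forall fun z =>
        Subsingleton.elim (N.hom z) default] at h
      exact isDiscrete_univ_iff.mp h
    have hsub : (Set.range z.left).Subsingleton := by
      have h := (PreconnectedSpace.isPreconnected_univ (α := (H ⊗ H).left)).image z.left z.left.continuous.continuousOn
      rw [Set.image_univ] at h
      exact h.subsingleton
    have hκ : Set.range κ.left ⊆ Set.range η[H].left := by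
      rintro _ ⟨x, rfl⟩
      have hκ1 : lift η[H] η[H] ≫ κ = η[H] := by
        simp only [κ, MonObj.comp_mul, GrpObj.comp_inv, lift_fst, lift_snd]
        simp [MonObj.one_eq_one]
      let o : 𝟙_ (Over (Spec (CommRingCat.of k))) ⟶ H ⊗ H := lift η[H] η[H]
      refine ⟨IsLocalRing.closedPoint k, ?_⟩
      rw [← hz, ← hκ1, ← hz]
      show c.left (z.left (o.left _)) = c.left (z.left x)
      exact congrArg _ (hsub ⟨_, rfl⟩ ⟨_, rfl⟩)
    haveI : IsClosedImmersion η[H].left := inferInstance
    obtain ⟨w, hw⟩ := Groth.AlgGrp1.exists_factor_of_range_subset η[H] κ hκ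
    have hκe : κ = 1 := by rw [← hw, Hom.one_def, toUnit_unique w (toUnit _)]
    intro T x y
    have h := congrArg (fun m => lift x y ≫ m) hκe
    simp only [κ, MonObj.comp_mul, GrpObj.comp_inv, lift_fst, lift_snd, MonObj.comp_one] at h
    rwa [mul_inv_eq_one, mul_inv_eq_iff_eq_mul] at h
  haveI : IsCommMonObj H := ⟨by
      rw [MonObj.mul_eq_mul, MonObj.comp_mul, braiding_hom_fst, braiding_hom_snd]
      exact hcomm _ _⟩
  haveI : IsCommMonObj N := Groth.AbVarMul.isCommMonObj_of_mono c
  -- the kernel is killed by its order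
  haveI : LocallyOfFinitePresentation N.hom := inferInstance
  obtain ⟨n, hn⟩ : ∃ n, ∀ s, N.hom.finrank s = n :=
    ⟨N.hom.finrank default, fun s => by rw [Subsingleton.elim s default]⟩
  haveI : Surjective N.hom := ⟨fun s => ⟨η[N].left s, by
    rw [← Scheme.Hom.comp_apply, Over.w η[N]]; rfl⟩⟩
  have hn0 : 0 < n := hn default ▸ (N.hom.one_le_finrank_iff_surjective.mpr ‹_› default)
  have hNn := Groth.GrpschAbsch.pow_rank_eq_one N n hn
  let P : H ⟶ H := (𝟙 H) ^ n
  haveI hPm : IsMonHom P := Groth.AlgGrp1.isMonHom_of_points P fun {_} a b => by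
    simp only [P, MonObj.comp_pow, Category.comp_id]
    exact Commute.mul_pow (hcomm a b) n
  haveI : @IsMonHom _ _ _ (Red.Gm (Spec (CommRingCat.of k))) (Red.Gm (Spec (CommRingCat.of k)))
      GrpObj.toMonObj GrpObj.toMonObj ((𝟙 (Red.Gm (Spec (CommRingCat.of k)))) ^ n) :=
    Groth.AlgGrp1.isMonHom_of_points _ fun {_} a b => by
      rw [MonObj.comp_pow, MonObj.comp_pow, MonObj.comp_pow, Category.comp_id, Category.comp_id,
        Category.comp_id]
      exact mul_pow a b n
  have hPf : P ≫ f = f ≫ (𝟙 (Red.Gm (Spec (CommRingCat.of k)))) ^ n := by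
    simp only [P, MonObj.comp_pow, Category.comp_id]
    rw [MonObj.pow_comp _ _ f, Category.id_comp]
  have hkill : ∀ (T : Over (Spec (CommRingCat.of k))) (x : T ⟶ H), x ≫ f = 1 → x ≫ P = 1 := by
    intro T x hx
    obtain ⟨z, rfl⟩ := (hN' T x).2 hx
    simp only [P, MonObj.comp_pow, Category.comp_id]
    rw [← MonObj.pow_comp, show z ^ n = 1 by
      rw [← Category.comp_id z, ← MonObj.comp_pow, hNn, MonObj.comp_one], MonObj.one_comp]
  -- the power maps are finite and surjective
  obtain ⟨hpf, hps⟩ := isFinite_surjective_pow_gm (k := k) n hn0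
  haveI : IsFinite P.left := by
    haveI : IsFinite (P.left ≫ f.left) := by rw [← Over.comp_left, hPf, Over.comp_left]; infer_instance
    exact IsFinite.of_comp P.left f.left
  haveI : Surjective P.left := by
    have hsurj : Surjective (P.left ≫ f.left) := by
      rw [← Over.comp_left, hPf, Over.comp_left]; infer_instance
    obtain ⟨x, hx⟩ := hsurj.surj (f.left (genericPoint H.left))
    have hsp : genericPoint H.left ⤳ P.left x := genericPoint_specializes _
    have heq : P.left x = genericPoint H.left := by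
      have := f.left.isDiscrete_preimage_singleton (f.left (genericPoint H.left))
      have h1 := this.eq_of_specializes hsp rfl (by simpa using hx)
      exact h1.symm
    refine ⟨fun y => ?_⟩
    have hcl : y ∈ Set.range P.left :=
      (P.left.isClosedMap.isClosed_range.stableUnderSpecialization (genericPoint_specializes y))
        ⟨x, heq⟩
    exact hcl
  have hfc : Groth.AlgGrp1.IsCover f := by
    haveI : IsReduced (Red.Gm (Spec (CommRingCat.of k))).left := by
      haveI : Smooth (Red.Gm (Spec (CommRingCat.of k))).hom := Groth.GenExt.smooth_Gm _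
      exact Groth.AlgGrp1.isReduced_of_smooth (Red.Gm (Spec (CommRingCat.of k))).hom
    haveI : IsSchemeTheoreticallyDominant f.left := IsSchemeTheoreticallyDominant.of_isDominant f.left
    obtain ⟨h1, h2⟩ := Groth.AlgGrp1.AffineHull.flat_surjective_of_dominant f
    exact ⟨h1, h2, Groth.AlgGrp1.lfp_left f⟩
  -- the dual isogeny
  obtain ⟨g, hg⟩ := hfc.exists_desc P fun T a b h => by
    have h' := hkill T (a / b) (by
      rw [div_eq_mul_inv, MonObj.mul_comp _ _ f, GrpObj.inv_comp _ f, h, mul_inv_cancel])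
    rwa [div_eq_mul_inv, MonObj.mul_comp, GrpObj.inv_comp, mul_inv_eq_one] at h'
  haveI : @IsMonHom _ _ _ (Red.Gm (Spec (CommRingCat.of k))) H GrpObj.toMonObj GrpObj.toMonObj g := by
    refine Groth.AlgGrp1.isMonHom_of_points _ fun {T} a b => ?_
    obtain ⟨T', t, x, y, ht, hx, hy⟩ := hfc.exists_lift₂ a b
    apply ht.cancel
    rw [← Category.assoc, MonObj.comp_mul, ← hx, ← hy, ← MonObj.mul_comp x y f, Category.assoc, hg,
      MonObj.mul_comp, MonObj.comp_mul, ← Category.assoc t a g, ← Category.assoc t b g, ← hx, ← hy,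
      Category.assoc, Category.assoc, hg]
  have hgf : g ≫ f = (𝟙 (Red.Gm (Spec (CommRingCat.of k)))) ^ n := hfc.cancel (by
    rw [← Category.assoc, hg, hPf])
  haveI : IsFinite g.left := by
    haveI : IsFinite (g.left ≫ f.left) := by rw [← Over.comp_left, hgf]; infer_instance
    exact IsFinite.of_comp g.left f.left
  haveI : Surjective g.left := ⟨fun y => by
    obtain ⟨x, hx⟩ := P.left.surjective y
    exact ⟨f.left x, by rw [← Scheme.Hom.comp_apply, ← Over.comp_left, hg, hx]⟩⟩
  haveI : IsSchemeTheoreticallyDominant g.left := IsSchemeTheoreticallyDominant.of_isDominant g.left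
  have hgc : Groth.AlgGrp1.IsCover g := by
    obtain ⟨h1, h2⟩ := Groth.AlgGrp1.AffineHull.flat_surjective_of_dominant g
    exact ⟨h1, h2, Groth.AlgGrp1.lfp_left g⟩
  obtain ⟨M, c', hc', hM⟩ := Groth.Agf.exists_preimage g η[H]
  have hM' : ∀ (T : Over (Spec (CommRingCat.of k))) (x : T ⟶ Red.Gm (Spec (CommRingCat.of k))),
      (∃ z : T ⟶ M, z ≫ c' = x) ↔ x ≫ g = 1 := fun T x => by
    rw [hM T x]
    exact ⟨fun ⟨x', hx'⟩ => by rw [hx', toUnit_unique x' (toUnit T), Hom.one_def],
      fun h => ⟨toUnit T, by rw [h, Hom.one_def]⟩⟩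
  haveI : Mono c' := Over.mono_of_mono_left c'
  obtain ⟨_, _⟩ := Groth.Agf.exists_grpObj_of_subgroup c' (fun T x => x ≫ g = 1) hM'
    (fun T => by rw [MonObj.one_comp])
    (fun T a b ha hb => by rw [MonObj.mul_comp, ha, hb, _root_.mul_one])
    (fun T a ha => by rw [GrpObj.inv_comp, ha, inv_one])
  have hker' : AlgGrp.IsKernel c' g := Groth.AlgGrp1.IsKernel.mk' inferInstance hM'
  haveI : IsFinite M.hom :=
    MorphismProperty.of_isPullback (P := @IsFinite) (Groth.GrpschLoci.isPullback_kernel g c' hker') ‹_›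
  obtain ⟨φ, hφm, hφk, hφf, hφs⟩ := Groth.BddFin.LineQuot.quot_gm c'
  have hφc : Groth.AlgGrp1.IsCover φ := ⟨hφf, hφs, Groth.AlgGrp1.lfp_left φ⟩
  have hsame : ∀ {T : Over (Spec (CommRingCat.of k))} (a b : T ⟶ Red.Gm (Spec (CommRingCat.of k))),
      a ≫ g = b ≫ g ↔ a ≫ φ = b ≫ φ := by
    intro T a b
    have h1 : a ≫ g = b ≫ g ↔ (a / b) ≫ g = 1 := by
      rw [div_eq_mul_inv, MonObj.mul_comp, GrpObj.inv_comp, mul_inv_eq_one]
    have h2 : a ≫ φ = b ≫ φ ↔ (a / b) ≫ φ = 1 := by
      rw [div_eq_mul_inv, @MonObj.mul_comp _ _ _ _ _ _ _ _ a b⁻¹ φ hφm,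
        @GrpObj.inv_comp _ _ _ _ _ _ _ _ b φ hφm, mul_inv_eq_one]
    rw [h1, h2, ← hM', Groth.AlgGrp1.IsKernel.exists_iff hφk]
  obtain ⟨j, hj⟩ := hgc.exists_desc φ fun T a b h => (hsame a b).1 h
  obtain ⟨j', hj'⟩ := hφc.exists_desc g fun T a b h => (hsame a b).2 h
  let e : H ≅ Red.Gm (Spec (CommRingCat.of k)) := ⟨j, j',
    hgc.cancel (by rw [← Category.assoc, hj, hj', Category.comp_id]),
    hφc.cancel (by rw [← Category.assoc, hj', hj, Category.comp_id])⟩
  haveI : @IsMonHom _ _ _ H (Red.Gm (Spec (CommRingCat.of k))) GrpObj.toMonObj GrpObj.toMonObj e.hom := by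
    refine Groth.AlgGrp1.isMonHom_of_points _ fun {T} a b => ?_
    obtain ⟨T', t, x, y, ht, hx, hy⟩ := hgc.exists_lift₂ a b
    apply ht.cancel
    show t ≫ (a * b) ≫ j = t ≫ ((a ≫ j) * (b ≫ j))
    rw [← Category.assoc, MonObj.comp_mul, ← hx, ← hy, ← MonObj.mul_comp x y g, Category.assoc, hj,
      @MonObj.mul_comp _ _ _ _ _ _ _ _ x y φ hφm, MonObj.comp_mul, ← Category.assoc t a j,
      ← Category.assoc t b j, ← hx, ← hy, Category.assoc, Category.assoc, hj]
  exact ⟨Grp.mkIso' e⟩

end Groth.Agent.S15607
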