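import Groth.Statements.S15608
import Groth.Agent.Agf.GeomRed
import Groth.Agent.Agf.SubobjGrp
import Groth.Agent.AlgGrp1.Sub
import Groth.Agent.AlgGrp1.Points
import Groth.Agent.AlgGrp1.Basic
import Groth.Agent.GitQuot.GrpdField
import Groth.Agent.Agf.ClosedSubgroup
import Mathlib.AlgebraicGeometry.Group.Smooth

set_option autoImplicit false
universe u
open CategoryTheory MonoidalCategory CartesianMonoidalCategory MonObj GrpObj AlgebraicGeometry
open AlgGrp

namespace Groth.Agent.S15608

theorem isReduced_vanishing {X : Scheme.{u}} (C : TopologicalSpace.Closeds X) :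
    IsReduced (Scheme.IdealSheafData.vanishingIdeal C).subscheme := by
  let I := Scheme.IdealSheafData.vanishingIdeal C
  have : ∀ U, IsReduced (I.subschemeCover.openCover.X U) := fun U => by
    have : _root_.IsReduced (Γ(X, U.1) ⧸ I.ideal U) :=
      (Ideal.isRadical_iff_quotient_reduced _).1 (PrimeSpectrum.isRadical_vanishingIdeal _)
    exact inferInstanceAs (IsReduced (Spec (CommRingCat.of (Γ(X, U.1) ⧸ I.ideal U))))
  exact IsReduced.of_openCover (X := I.subscheme) I.subschemeCover.openCover

theorem eq_of_rational {k : Type u} [Field k] {G : Over (Spec (CommRingCat.of k))} [GrpObj G]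
    (s t : 𝟙_ (Over (Spec (CommRingCat.of k))) ⟶ G) (z : (G ⊗ G).left)
    (hs : s.left (IsLocalRing.closedPoint k) = (fst G G).left z)
    (ht : t.left (IsLocalRing.closedPoint k) = (snd G G).left z) :
    (lift s t).left (IsLocalRing.closedPoint k) = z := by
  have : IsSeparated G.hom := Groth.AlgGrp1.isSeparated_grpObj G
  have hci : ∀ r : 𝟙_ (Over (Spec (CommRingCat.of k))) ⟶ G, IsClosedImmersion r.left := fun r => by
    have : IsClosedImmersion (r.left ≫ G.hom) := by rw [Over.w r]; exact inferInstanceAs (IsClosedImmersion (𝟙 _))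
    exact IsClosedImmersion.of_comp r.left G.hom
  have := hci s
  have := hci t
  obtain ⟨a, ha⟩ := Groth.Agf.exists_factor_of_fieldPt s (Groth.Agf.resPt z ≫ fst G G) (by
    rw [Over.comp_left, Scheme.Hom.comp_base, TopCat.coe_comp, Set.range_comp, Groth.Agf.range_resPt,
      Set.image_singleton, Set.singleton_subset_iff]
    exact ⟨_, hs⟩)
  obtain ⟨b, hb⟩ := Groth.Agf.exists_factor_of_fieldPt t (Groth.Agf.resPt z ≫ snd G G) (by
    rw [Over.comp_left, Scheme.Hom.comp_base, TopCat.coe_comp, Set.range_comp, Groth.Agf.range_resPt,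
      Set.image_singleton, Set.singleton_subset_iff]
    exact ⟨_, ht⟩)
  have h : Groth.Agf.resPt z = a ≫ lift s t := by
    apply CartesianMonoidalCategory.hom_ext
    · rw [Category.assoc, lift_fst, ha]
    · rw [Category.assoc, lift_snd, ← hb, toUnit_unique a b]
  obtain ⟨u⟩ := (inferInstance : Nonempty (Groth.Agf.resObj z).left)
  have h2 : (Groth.Agf.resPt z).left u = z := (Groth.Agf.range_resPt z).le ⟨u, rfl⟩
  rw [← h2, h, Over.comp_left, Scheme.Hom.comp_apply]
  exact congrArg _ (Subsingleton.elim (α := Spec (CommRingCat.of k)) _ _)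

/-- Let k be a field, G a smooth k-group scheme of finite type and Σ a subgroup of the abstract group
G(k) of k-rational points. Then the Zariski closure of Σ in G, with its reduced structure, is a
smooth closed k-subgroup: there are a smooth k-group scheme H and a homomorphism H ⟶ G which is a
closed immersion whose image is the closure of the set of points of G underlying the elements of Σ.
(The published statement also asserts that forming this closure commutes with extension of the
ground field; that clause is not stated here, its affine form being stated separately.) -/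
theorem result (k : Type u) [Field k]
    (G : Over (Spec (CommRingCat.of k))) [GrpObj G] [Smooth G.hom] [QuasiCompact G.hom]
    (S : Subgroup (𝟙_ (Over (Spec (CommRingCat.of k))) ⟶ G)) :
    ∃ (H : Over (Spec (CommRingCat.of k))) (_ : GrpObj H) (i : H ⟶ G), IsMonHom i ∧ IsClosedImmersion i.left ∧ Smooth H.hom ∧
      Set.range i.left.base =
        closure ((fun s : (𝟙_ (Over (Spec (CommRingCat.of k))) ⟶ G) => s.left.base (IsLocalRing.closedPoint k)) '' (S : Set _)) := by
  let A : Set G.left := (fun s : (𝟙_ (Over (Spec (CommRingCat.of k))) ⟶ G) => s.left.base (IsLocalRing.closedPoint k)) '' (S : Set _)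
  let C : TopologicalSpace.Closeds G.left := ⟨closure A, isClosed_closure⟩
  let I := Scheme.IdealSheafData.vanishingIdeal C
  let K : Over (Spec (CommRingCat.of k)) := Over.mk (I.subschemeι ≫ G.hom)
  let i : K ⟶ G := Over.homMk I.subschemeι rfl
  have : IsClosedImmersion i.left := inferInstanceAs (IsClosedImmersion I.subschemeι)
  have hrange : Set.range i.left = closure A := by
    show Set.range I.subschemeι = _
    rw [Scheme.IdealSheafData.range_subschemeι]
    rfl
  have : IsReduced K.left := isReduced_vanishing C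
  have hpt : ∀ (s : 𝟙_ (Over (Spec (CommRingCat.of k))) ⟶ G), s ∈ S → ∃ s' : 𝟙_ (Over (Spec (CommRingCat.of k))) ⟶ K, s' ≫ i = s := by
    intro s hs
    have : IsReduced (𝟙_ (Over (Spec (CommRingCat.of k)))).left := inferInstanceAs (IsReduced (Spec (CommRingCat.of k)))
    refine Groth.AlgGrp1.exists_factor_of_range_subset i s ?_
    rintro _ ⟨t, rfl⟩
    rw [hrange, Subsingleton.elim (α := Spec (CommRingCat.of k)) t (IsLocalRing.closedPoint k)]
    exact subset_closure ⟨s, hs, rfl⟩
  have hdense : Dense {p : K.left | ∃ s : 𝟙_ (Over (Spec (CommRingCat.of k))) ⟶ K, p ∈ Set.range s.left} := by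
    intro p
    rw [i.left.isClosedEmbedding.isInducing.closure_eq_preimage_closure_image, Set.mem_preimage]
    refine closure_mono ?_ (hrange.le ⟨p, rfl⟩)
    rintro _ ⟨s, hs, rfl⟩
    obtain ⟨s', rfl⟩ := hpt s hs
    exact ⟨_, ⟨s', _, rfl⟩, rfl⟩
  have : GeometricallyReduced K.hom := Groth.Agf.geometricallyReduced_of_dense_points K hdense
  have : LocallyOfFiniteType K.hom := inferInstanceAs (LocallyOfFiniteType (I.subschemeι ≫ G.hom))
  have : Mono i.left := inferInstance
  have : Mono i := Over.mono_of_mono_left i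
  have hμ : ∃ m : K ⊗ K ⟶ K, m ≫ i = (fst K K ≫ i) * (snd K K ≫ i) := by
    have : IsReduced (K ⊗ K).left := Groth.AlgGrp1.isReduced_tensorObj K K
    refine Groth.AlgGrp1.exists_factor_of_range_subset i _ ?_
    rintro _ ⟨p, rfl⟩
    rw [hrange, Hom.mul_def, Over.comp_left, Scheme.Hom.comp_apply]
    set q := (lift (fst K K ≫ i) (snd K K ≫ i)).left p with hq
    have h1 : (fst G G).left q ∈ closure A := by
      rw [hq, ← Scheme.Hom.comp_apply, ← Over.comp_left, lift_fst, ← hrange, Over.comp_left, Scheme.Hom.comp_apply]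
      exact ⟨_, rfl⟩
    have h2 : (snd G G).left q ∈ closure A := by
      rw [hq, ← Scheme.Hom.comp_apply, ← Over.comp_left, lift_snd, ← hrange, Over.comp_left, Scheme.Hom.comp_apply]
      exact ⟨_, rfl⟩
    have hmem : q ∈ closure (⇑(fst G G).left ⁻¹' A ∩ ⇑(snd G G).left ⁻¹' A) :=
      Groth.GrpdBasic.mem_closure_pullback k (Iso.refl _) G.hom G.hom A A h1 h2
    refine map_mem_closure μ[G].left.continuous hmem ?_
    rintro z ⟨⟨s, hs, hzs⟩, ⟨t, ht, hzt⟩⟩
    refine ⟨s * t, S.mul_mem hs ht, ?_⟩
    have hz : (lift s t).left (IsLocalRing.closedPoint k) = z := by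
      refine eq_of_rational s t z hzs hzt
    show (s * t).left (IsLocalRing.closedPoint k) = _
    rw [Hom.mul_def, Over.comp_left]
    exact (Scheme.Hom.comp_apply ..).trans (congrArg μ[G].left hz)
  have hι : ∃ v : K ⟶ K, v ≫ i = i ≫ ι[G] := by
    refine Groth.AlgGrp1.exists_factor_of_range_subset i _ ?_
    rintro _ ⟨p, rfl⟩
    rw [hrange, Over.comp_left, Scheme.Hom.comp_apply]
    refine map_mem_closure ι[G].left.continuous (hrange.le ⟨p, rfl⟩) ?_
    rintro _ ⟨s, hs, rfl⟩
    exact ⟨s⁻¹, S.inv_mem hs, by rw [Hom.inv_def]; rfl⟩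
  obtain ⟨m, hm⟩ := hμ
  obtain ⟨v, hv⟩ := hι
  obtain ⟨o, ho⟩ := hpt 1 S.one_mem
  obtain ⟨inst, hi⟩ := Groth.Agf.exists_grpObj_of_subgroup i (fun T x => ∃ z : T ⟶ K, z ≫ i = x) (fun _ _ => Iff.rfl)
    (fun T => ⟨toUnit T ≫ o, by rw [Category.assoc, ho, MonObj.comp_one]⟩)
    (fun T a b ⟨x, hx⟩ ⟨y, hy⟩ => ⟨lift x y ≫ m, by
      rw [Category.assoc, hm, MonObj.comp_mul, lift_fst_assoc, lift_snd_assoc, hx, hy]⟩)
    (fun T a ⟨x, hx⟩ => ⟨x ≫ v, by rw [Category.assoc, hv, ← hx, Hom.inv_def, Category.assoc]⟩)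
  let : GrpObj (Over.mk K.hom) := inst
  exact ⟨K, inst, i, hi, inferInstance, smooth_of_grpObj K.hom, hrange⟩

end Groth.Agent.S15608
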