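import Groth.Statements.S15609
import Groth.Agent.GrpschAbsch.Cartier
import Groth.Agent.AlgGrp1.Basic
import Mathlib.LinearAlgebra.Dual.Lemmas
import Mathlib.RingTheory.Filtration
-- import your own Groth.Agent.* helpers here

set_option autoImplicit false
universe u
open CategoryTheory MonoidalCategory CartesianMonoidalCategory MonObj GrpObj AlgebraicGeometry
open AlgGrp

namespace Groth.Agent.S15609


open Groth.GrpschAbsch IsLocalRing in
/-- A one-point scheme with a rational point admitting no nontrivial tangent vector there is
reduced. -/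
lemma isReduced_of_tangent {k : Type u} [Field k] (P : Over (Spec (CommRingCat.of k)))
    [LocallyOfFiniteType P.hom] (e : 𝟙_ (Over (Spec (CommRingCat.of k))) ⟶ P) [Surjective e.left]
    (h : ∀ g : specOver k (DualNumber k) ⟶ P,
      (∀ x : 𝟙_ (Over (Spec (CommRingCat.of k))) ⟶ specOver k (DualNumber k), x ≫ g = e) →
        g = toUnit _ ≫ e) : IsReduced P.left := by
  have : IsLocallyNoetherian P.left := LocallyOfFiniteType.isLocallyNoetherian P.hom
  have : ∀ x, _root_.IsReduced (P.left.presheaf.stalk x) := by
    intro x
    obtain ⟨t, rfl⟩ := e.left.surjective x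
    obtain ⟨ε₀, hε₀⟩ := exists_factor_stalk (R := CommRingCat.of k) e.left (x := e.left t)
      (congrArg e.left.base (Subsingleton.elim (α := PrimeSpectrum k) _ _))
    let A : Type u := P.left.presheaf.stalk (e.left t)
    let ι₀ : CommRingCat.of k ⟶ P.left.presheaf.stalk (e.left t) :=
      Spec.preimage (P.left.fromSpecStalk (e.left t) ≫ P.hom)
    let : Algebra k A := ι₀.hom.toAlgebra
    have hι : Spec.map (CommRingCat.ofHom (algebraMap k A)) =
        P.left.fromSpecStalk (e.left t) ≫ P.hom := Spec.map_preimage _
    have hιε : ι₀ ≫ ε₀ = 𝟙 _ := by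
      apply Spec.map_injective
      rw [Spec.map_comp, Spec.map_id, Spec.map_preimage, ← Category.assoc, hε₀]
      exact Over.w e
    let ε : A →ₐ[k] k := { ε₀.hom with commutes' := fun c ↦ congr($hιε c) }
    have hker : RingHom.ker ε.toRingHom = maximalIdeal A :=
      IsLocalRing.eq_maximalIdeal
        (RingHom.ker_isMaximal_of_surjective _ fun c ↦ ⟨algebraMap k A c, ε.commutes c⟩)
    have hsq : maximalIdeal A ≤ maximalIdeal A ^ 2 := by
      intro a ha
      by_contra ha2
      obtain ⟨ℓ, hℓa, hℓ⟩ := Submodule.exists_dual_map_eq_bot_of_notMem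
        (p := (maximalIdeal A ^ 2).restrictScalars k) (x := a) (show a ∉ (maximalIdeal A ^ 2).restrictScalars k from ha2) inferInstance
      have hℓ2 : ∀ z ∈ maximalIdeal A ^ 2, ℓ z = 0 := fun z hz =>
        (Submodule.mem_bot k).1 (hℓ ▸ Submodule.mem_map_of_mem hz)
      have hmem : ∀ x : A, x - algebraMap k A (ε x) ∈ maximalIdeal A := fun x => by
        rw [← hker, RingHom.mem_ker]
        show ε (x - algebraMap k A (ε x)) = 0
        rw [map_sub, ε.commutes, Algebra.algebraMap_self_apply, sub_self]
      let τ : A →ₐ[k] DualNumber k :=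
        { toFun := fun x ↦ (ε x, ℓ (x - algebraMap k A (ε x)))
          map_one' := TrivSqZeroExt.ext (map_one ε) (by
            show ℓ (1 - algebraMap k A (ε 1)) = 0
            simp)
          map_zero' := TrivSqZeroExt.ext (map_zero ε) (by
            show ℓ (0 - algebraMap k A (ε 0)) = 0
            simp)
          map_add' := fun x y ↦ TrivSqZeroExt.ext (map_add ε x y) (by
            show ℓ (x + y - algebraMap k A (ε (x + y))) =
              ℓ (x - algebraMap k A (ε x)) + ℓ (y - algebraMap k A (ε y))
            rw [← map_add]
            congr 1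
            simp only [map_add]
            ring)
          map_mul' := fun x y ↦ TrivSqZeroExt.ext (map_mul ε x y) (by
            show ℓ (x * y - algebraMap k A (ε (x * y))) =
              ε x • ℓ (y - algebraMap k A (ε y)) + MulOpposite.op (ε y) • ℓ (x - algebraMap k A (ε x))
            have : x * y - algebraMap k A (ε (x * y)) =
                (x - algebraMap k A (ε x)) * (y - algebraMap k A (ε y)) +
                  (ε x • (y - algebraMap k A (ε y)) + ε y • (x - algebraMap k A (ε x))) := by
              rw [Algebra.smul_def, Algebra.smul_def, map_mul, map_mul]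
              ring
            rw [this, map_add, map_add, map_smul, map_smul,
              hℓ2 _ (sq (maximalIdeal A) ▸ Ideal.mul_mem_mul (hmem x) (hmem y)), zero_add,
              op_smul_eq_smul])
          commutes' := fun c ↦ TrivSqZeroExt.ext (ε.commutes c) (by
            show ℓ (algebraMap k A c - algebraMap k A (ε (algebraMap k A c))) = 0
            rw [ε.commutes, Algebra.algebraMap_self_apply, sub_self, map_zero]) }
      let inl : A →ₐ[k] DualNumber k := (Algebra.ofId k (DualNumber k)).comp ε
      let j : specOver k A ⟶ P := Over.homMk (P.left.fromSpecStalk (e.left t)) hι.symm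
      have hej : ∀ x : 𝟙_ (Over (Spec (CommRingCat.of k))) ⟶ specOver k (DualNumber k),
          x ≫ specOverMap τ ≫ j = e := fun x => by
        apply Over.OverMorphism.ext
        show x.left ≫ Spec.map (CommRingCat.ofHom τ.toRingHom) ≫ P.left.fromSpecStalk (e.left t) = e.left
        refine ((Category.assoc _ _ _).symm.trans (congrArg (· ≫ P.left.fromSpecStalk (e.left t)) ?_)).trans hε₀
        have hφ : Spec.map (CommRingCat.ofHom (algebraMap k (DualNumber k)) ≫
            Spec.preimage x.left) = 𝟙 _ := by
          rw [Spec.map_comp, Spec.map_preimage]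
          exact Over.w x
        rw [← Spec.map_id] at hφ
        have hφ' := Spec.map_injective hφ
        rw [← Spec.map_preimage x.left, ← Spec.map_comp]
        refine congrArg Spec.map (CommRingCat.hom_ext (RingHom.ext fun r => ?_))
        show (Spec.preimage x.left).hom (τ r) = ε r
        have hc : ∀ c : k, (Spec.preimage x.left).hom (algebraMap k (DualNumber k) c) = c :=
          fun c => congr($hφ' c)
        have hτ : τ r = algebraMap k (DualNumber k) (ε r) + TrivSqZeroExt.inr (τ r).snd :=
          (TrivSqZeroExt.inl_fst_add_inr_snd_eq (τ r)).symm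
        have hnil : IsNilpotent ((Spec.preimage x.left).hom
            (TrivSqZeroExt.inr (τ r).snd : DualNumber k)) :=
          IsNilpotent.map ⟨2, by rw [sq, TrivSqZeroExt.inr_mul_inr]⟩ _
        rw [hτ, map_add, hc, hnil.eq_zero, add_zero]
      have h1 := congrArg Over.Hom.left (h (specOverMap τ ≫ j) hej)
      have h2 : (toUnit (specOver k (DualNumber k)) ≫ e).left = (specOverMap inl ≫ j).left := by
        show Spec.map (CommRingCat.ofHom (algebraMap k (DualNumber k))) ≫ e.left =
          Spec.map (CommRingCat.ofHom inl.toRingHom) ≫ P.left.fromSpecStalk (e.left t)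
        refine (congrArg (Spec.map (CommRingCat.ofHom (algebraMap k (DualNumber k))) ≫ ·) hε₀).symm.trans ?_
        rw [← Spec.map_comp_assoc]
        rfl
      rw [h2] at h1
      have h3 : Spec.map (CommRingCat.ofHom τ.toRingHom) = Spec.map (CommRingCat.ofHom inl.toRingHom) := by
        rw [← cancel_mono (P.left.fromSpecStalk (e.left t))]
        exact h1
      have h4 := congr(TrivSqZeroExt.snd ($(Spec.map_injective h3) a))
      have hεa : ε a = 0 := by
        have : a ∈ RingHom.ker ε.toRingHom := by rw [hker]; exact ha
        exact this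
      have h5 : ℓ (a - algebraMap k A (ε a)) = 0 := h4
      rw [hεa, map_zero, sub_zero] at h5
      exact hℓa h5
    have hm : maximalIdeal A = ⊥ := Submodule.eq_bot_of_le_smul_of_le_jacobson_bot (maximalIdeal A) _
      (IsNoetherian.noetherian _) (by rw [smul_eq_mul, ← sq]; exact hsq)
      (IsLocalRing.maximalIdeal_le_jacobson _)
    let : Field A := (IsLocalRing.isField_iff_maximalIdeal_eq.2 hm).toField
    exact isReduced_of_noZeroDivisors
  exact isReduced_of_isReduced_stalk P.left

/-- The implication (ii) ⇒ (i). Let k be a field and f : G ⟶ G' a homomorphism of k-group schemes of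
finite type. Suppose that f is injective on K-points for every algebraically closed field K over k,
and that f is injective on tangent spaces at the identity: every point of G with values in the dual
numbers k[ε] which restricts to the identity at ε = 0 and is sent by f to the identity point of G'
is itself the identity point. Then f has trivial kernel: it is a monomorphism. (The published
statement assumes G smooth; this implication does not use it.) -/
theorem result (k : Type u) [Field k]
    (G G' : Over (Spec (CommRingCat.of k))) [GrpObj G] [GrpObj G'] [LocallyOfFiniteType G.hom] [QuasiCompact G.hom]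
    [LocallyOfFiniteType G'.hom] [QuasiCompact G'.hom] (f : G ⟶ G') [IsMonHom f]
    (hgeom : ∀ (K : Type u) [Field K] [IsAlgClosed K] [Algebra k K],
      Function.Injective (fun g : (Over.mk (Spec.map (CommRingCat.ofHom (algebraMap k K)))) ⟶ G => g ≫ f))
    (htan : ∀ g : (Over.mk (Spec.map (CommRingCat.ofHom (algebraMap k (DualNumber k))))) ⟶ G,
      (∀ x : 𝟙_ (Over (Spec (CommRingCat.of k))) ⟶ (Over.mk (Spec.map (CommRingCat.ofHom (algebraMap k (DualNumber k))))), x ≫ g = η[G]) →
        g ≫ f = toUnit _ ≫ η[G'] → g = toUnit _ ≫ η[G]) :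
    Mono f := by
  have := Groth.AlgGrp1.isSeparated_grpObj G'
  have hη' : IsClosedImmersion η[G'].left :=
    have : IsClosedImmersion (η[G'].left ≫ G'.hom) := by
      rw [Over.w η[G']]; exact (inferInstance : IsClosedImmersion (𝟙 (Spec (CommRingCat.of k))))
    IsClosedImmersion.of_comp η[G'].left G'.hom
  let c₀ := Limits.pullback.fst f.left η[G'].left
  let P : Over (Spec (CommRingCat.of k)) := Over.mk (c₀ ≫ G.hom)
  let c : P ⟶ G := Over.homMk c₀ rfl
  have : LocallyOfFiniteType P.hom := inferInstanceAs (LocallyOfFiniteType (c₀ ≫ G.hom))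
  have : Mono c := (Over.forget _).mono_of_mono_map (inferInstanceAs (Mono c₀))
  have hc : c ≫ f = toUnit P ≫ η[G'] := by
    apply Over.OverMorphism.ext
    show c₀ ≫ f.left = (c₀ ≫ G.hom) ≫ η[G'].left
    have h1 : Limits.pullback.snd f.left η[G'].left = c₀ ≫ G.hom := by
      have := congrArg (· ≫ G'.hom) (Limits.pullback.condition (f := f.left) (g := η[G'].left))
      simp only [Category.assoc, Over.w f] at this
      exact (this.trans ((congrArg (Limits.pullback.snd f.left η[G'].left ≫ ·) (Over.w η[G'])).trans
        (Category.comp_id _))).symm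
    rw [Limits.pullback.condition, h1]
  have hlift : ∀ {T : Over (Spec (CommRingCat.of k))} (g : T ⟶ G), g ≫ f = toUnit T ≫ η[G'] →
      ∃ z : T ⟶ P, z ≫ c = g := fun {T} g hg => by
    refine ⟨Over.homMk (Limits.pullback.lift g.left (toUnit T).left (congrArg Over.Hom.left hg)) ?_,
      Over.OverMorphism.ext (Limits.pullback.lift_fst _ _ _)⟩
    show _ ≫ c₀ ≫ G.hom = T.hom
    rw [Limits.pullback.lift_fst_assoc, Over.w g]
  obtain ⟨e, he⟩ := hlift η[G] (by rw [IsMonHom.one_hom, toUnit_unit, Category.id_comp])
  have : Surjective e.left := ⟨fun x => by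
    let K := AlgebraicClosure (P.left.residueField x)
    let p : Spec (CommRingCat.of K) ⟶ P.left :=
      Spec.map (CommRingCat.ofHom (algebraMap (P.left.residueField x) K)) ≫ P.left.fromSpecResidueField x
    let : Algebra k K := (Spec.preimage (p ≫ P.hom)).hom.toAlgebra
    have hK : Spec.map (CommRingCat.ofHom (algebraMap k K)) = p ≫ P.hom := Spec.map_preimage _
    let g : Over.mk (Spec.map (CommRingCat.ofHom (algebraMap k K))) ⟶ P := Over.homMk p hK.symm
    have hg : g = toUnit _ ≫ e := by
      rw [← cancel_mono c, Category.assoc, he]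
      refine hgeom K ?_
      show (g ≫ c) ≫ f = (toUnit _ ≫ η[G]) ≫ f
      simp only [Category.assoc, hc, IsMonHom.one_hom, comp_toUnit_assoc]
    let z : Spec (CommRingCat.of K) := IsLocalRing.closedPoint K
    refine ⟨(toUnit (Over.mk (Spec.map (CommRingCat.ofHom (algebraMap k K))))).left z, ?_⟩
    rw [← Scheme.Hom.comp_apply, ← Over.comp_left, ← hg]
    exact P.left.fromSpecResidueField_apply x _⟩
  have : IsReduced P.left := isReduced_of_tangent P e fun g hg => by
    rw [← cancel_mono c, Category.assoc, he]
    exact htan (g ≫ c) (fun x => by rw [← Category.assoc, hg, he])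
      (by rw [Category.assoc, hc, comp_toUnit_assoc])
  have : IsClosedImmersion e.left :=
    have := Groth.AlgGrp1.isSeparated_grpObj G
    have : IsSeparated P.hom := inferInstanceAs (IsSeparated (c₀ ≫ G.hom))
    have : IsClosedImmersion (e.left ≫ P.hom) := by
      rw [Over.w e]; exact (inferInstance : IsClosedImmersion (𝟙 (Spec (CommRingCat.of k))))
    IsClosedImmersion.of_comp e.left P.hom
  have := isIso_of_isClosedImmersion_of_surjective e.left
  have : IsIso ((Over.forget (Spec (CommRingCat.of k))).map e) := inferInstanceAs (IsIso e.left)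
  have : IsIso e := isIso_of_reflects_iso e (Over.forget _)
  refine ⟨fun {T} g₁ g₂ hg => ?_⟩
  obtain ⟨z, hz⟩ := hlift (g₁ * g₂⁻¹) (by
    rw [MonObj.mul_comp, GrpObj.inv_comp, hg, mul_inv_cancel]; rfl)
  rw [← mul_inv_eq_one, ← hz, ← Category.comp_id z, ← IsIso.inv_hom_id e, Category.assoc,
    Category.assoc, he]
  exact (Category.assoc _ _ _).symm.trans
    ((congrArg (· ≫ η[G]) (toUnit_unique _ _)).trans rfl)

end Groth.Agent.S15609
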