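import Groth.Statements.S15622
import Groth.Agent.SchemeMorphisms.SchFinSplit
-- import your own Groth.Agent.* helpers here

set_option autoImplicit false
universe u
open SchFin SchFin.FEt

namespace Groth.Agent.S15622

open Groth.SchFinAux SchFin

open SchFin CategoryTheory CategoryTheory.Limits in
/-- For a schematic finite space, the category of étale covers (quasi-coherent algebras whose value at
every point is finite and étale over the ring of that point) has a terminal object and has binary
products. (In the published statement: finite direct products, the terminal object being the zero
algebra.) -/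
theorem result (X : RSpace.{u}) (hX : X.IsSchematic) :
    HasTerminal (FEt X) ∧ HasBinaryProducts (FEt X) := by
  have hT : Limits.IsTerminal (⟨zeroAlg, zeroAlg_etCover⟩ : FEt X) :=
    Limits.IsTerminal.ofUniqueHom
      (fun A => CategoryTheory.ObjectProperty.homMk
        ⟨fun p => { toFun := fun _ => PUnit.unit, map_one' := rfl, map_mul' := fun _ _ => rfl,
                    map_zero' := rfl, map_add' := fun _ _ => rfl, commutes' := fun _ => rfl },
          fun _ _ => rfl⟩)
      (fun A m => feHom_ext fun _ _ => rfl)
  have : ∀ A B : FEt X, Limits.HasLimit (Limits.pair A B) := fun A B =>
    Limits.HasLimit.mk ⟨_, prodIsLimit A B⟩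
  exact ⟨hT.hasTerminal, Limits.hasBinaryProducts_of_hasLimit_pair _⟩

end Groth.Agent.S15622
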