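import Groth.Statements.S1563
import Groth.Agent.S7606
import Groth.Agent.Calg4.RegularHom
import Groth.Agent.VarietyBC.BC
import Groth.Agent.S9406

set_option autoImplicit false
universe u
open CategoryTheory CategoryTheory.Limits AlgebraicGeometry
open Variety

namespace Groth.Agent.S1563

open TensorProduct

/-- Geometric regularity descends along flat local homomorphisms. -/
theorem descend {k A B : Type u} [Field k] [CommRing A] [CommRing B] [IsLocalRing A] [IsLocalRing B]
    [Algebra k A] [Algebra k B] (φ : A →+* B) [IsLocalHom φ]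
    (hc : ∀ c, φ (algebraMap k A c) = algebraMap k B c) (hflat : φ.Flat)
    (h : CAlg.IsGeometricallyRegular k B) : CAlg.IsGeometricallyRegular k A := by
  intro L _ _ hfin
  algebraize [φ]
  have : IsLocalHom (algebraMap A B) := ‹IsLocalHom φ›
  have : IsScalarTower k A B := IsScalarTower.of_algebraMap_eq fun c => (hc c).symm
  have := Module.FaithfullyFlat.of_flat_of_isLocalHom (A := A) (B := B)
  have := h L hfin
  have : IsRegularRing ((A ⊗[k] L) ⊗[A] B) :=
    IsRegularRing.of_ringEquiv (Groth.Calg4.fibreTower k A B L).symm
  have : IsRegularRing (A ⊗[k] L) := Groth.Agent.S9406.result (A ⊗[k] L) ((A ⊗[k] L) ⊗[A] B)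
  exact IsRegularRing.of_ringEquiv (Algebra.TensorProduct.comm k A L).toRingEquiv

/-- Geometric regularity descends along a morphism f of locally Noetherian k-schemes which is flat at
the point x (the map of local rings at x is flat): if X has it at x then Y has it at f(x). -/
theorem result (k : Type u) [Field k] (X Y : Scheme.{u}) [X.Over (Spec (CommRingCat.of k))] [Y.Over (Spec (CommRingCat.of k))]
    [IsLocallyNoetherian X] [IsLocallyNoetherian Y] (f : X ⟶ Y) (hf : f ≫ (Y ↘ (Spec (CommRingCat.of k))) = X ↘ (Spec (CommRingCat.of k)))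
    (x : X) (hflat : (f.stalkMap x).hom.Flat) (hx : Curv2.IsGeomRegularAt k X x) :
    Curv2.IsGeomRegularAt k Y (f.base x) := by
  rw [((Groth.Agent.S7606.result k X x).1.trans (Groth.Agent.S7606.result k X x).2)] at hx
  rw [((Groth.Agent.S7606.result k Y (f.base x)).1.trans (Groth.Agent.S7606.result k Y (f.base x)).2)]
  let φ := (f.stalkMap x).hom
  have hcomp : φ.comp (Curv2.stalkMap k Y (f.base x)) = Curv2.stalkMap k X x := by
    have h1 : CommRingCat.ofHom (Curv2.stalkMap k Y (f.base x)) ≫ f.stalkMap x =
        CommRingCat.ofHom (Curv2.stalkMap k X x) := by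
      apply Spec.map_injective
      rw [Spec.map_comp, ← Groth.VarietyBC.fromSpecStalk_str (k := k) x,
        ← Groth.VarietyBC.fromSpecStalk_str (k := k) (f.base x), ← Category.assoc,
        Scheme.SpecMap_stalkMap_fromSpecStalk, Category.assoc, hf]
    exact congrArg CommRingCat.Hom.hom h1
  letI := Curv2.stalkAlgebra k X x
  letI := Curv2.stalkAlgebra k Y (f.base x)
  exact descend φ (fun c => RingHom.congr_fun hcomp c) hflat hx

end Groth.Agent.S1563
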