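import Groth.Statements.S15645
import Groth.Agent.Curves1.Node.Family
import Groth.Agent.PlaneCurve.StrictSS.Models

set_option autoImplicit false
universe u
open StrictSS

namespace Groth.Agent.S15645

open CategoryTheory CategoryTheory.Limits AlgebraicGeometry in
/-- A strictly semistable multipointed curve (C, D) over a scheme S is semistable. Here (C, D) is a
multipointed S-curve (C flat, finitely presented and of pure relative dimension one over S; D a
closed subscheme of C, flat, finitely presented and of relative dimension zero over S) every point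
of which has an open neighbourhood U, over an affine open Spec A of S, with an etale morphism of
pairs from (U, D ∩ U) to the line model (Spec A[T], zero section) or, when no marked point lies in
U, an etale morphism from U to a node model Spec A[u, v]/(uv - a); the conclusion is that C → S is
an at-worst-nodal family of curves, D → S is etale and D misses the non-smooth locus of C → S. (The
published remark concerns curves over the spectrum of a valuation ring; the notion and the
implication are local on the base, and this row states the implication over an arbitrary base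
scheme.) -/
theorem result
    {C D S : Scheme.{u}} (φ : C ⟶ S) (i : D ⟶ C) (h : StrictSS.IsStrictlySemistable φ i) :
    SSMod.IsSemistable φ i := by
  classical
  obtain ⟨hMP, hch⟩ := h
  let line (A : CommRingCat.{u}) : SmoothOfRelativeDimension 1 (StrictSS.lineToBase A) :=
    Groth.PlaneCurve.StrictSS.smoothOfRelativeDimension_line A
  have hlineNodal : ∀ A : CommRingCat.{u}, Curv2.IsNodalFamily (StrictSS.lineToBase A) := fun A => by
    have := line A
    have : Smooth (StrictSS.lineToBase A) := SmoothOfRelativeDimension.smooth 1 _
    rw [Groth.Curves1.Node.isNodalFamily_iff_nodalSet]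
    exact fun y => Or.inl (Groth.PlaneCurve.StrictSS.line_isSmoothOneAt A y)
  have hnodal : ∀ x : C, ∃ U : C.Opens, x ∈ U ∧ Curv2.IsNodalFamily (U.ι ≫ φ) ∧
      Etale ((i ⁻¹ᵁ U).ι ≫ i ≫ φ) ∧ (x ∈ Set.range i.base → Smooth (U.ι ≫ φ)) := by
    intro x
    rcases hch x with ⟨A, j, _, U, hxU, q, hq, f, fD, hf, hfq, hfD, hcomm⟩ |
      ⟨A, j, _, U, hxU, q, hq, a, f, hf, hfq, hdis⟩
    · refine ⟨U, hxU, ?_, ?_, fun _ => ?_⟩
      · rw [hq, ← hfq]
        exact Groth.Curves1.Node.isNodalFamily_comp_etale_base j _
          (Groth.Curves1.Node.isNodalFamily_comp_etale _ (hlineNodal A) f)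
      · have h0 : fD ≫ StrictSS.lineZero A ≫ StrictSS.lineToBase A = fD := by
          rw [← Spec.map_comp, show CommRingCat.ofHom (Polynomial.C : A →+* Polynomial A) ≫
            CommRingCat.ofHom (Polynomial.evalRingHom (0 : A)) = 𝟙 _ from
              CommRingCat.hom_ext (RingHom.ext fun r => by simp), Spec.map_id]
          exact Category.comp_id _
        rw [← morphismRestrict_ι_assoc, hq, ← hfq, Category.assoc, ← Category.assoc (i ∣_ U), ← hcomm,
          Category.assoc, ← Category.assoc (StrictSS.lineZero A), ← Category.assoc fD, h0]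
        infer_instance
      · have := line A
        have : Smooth (StrictSS.lineToBase A) := SmoothOfRelativeDimension.smooth 1 _
        rw [hq, ← hfq]
        infer_instance
    · refine ⟨U, hxU, ?_, ?_, fun hx => (Set.disjoint_left.1 hdis hx hxU).elim⟩
      · rw [hq, ← hfq]
        exact Groth.Curves1.Node.isNodalFamily_comp_etale_base j _
          (Groth.Curves1.Node.isNodalFamily_comp_etale _
            (Groth.PlaneCurve.StrictSS.isNodalFamily_node A a) f)
      · have : IsEmpty ((i ⁻¹ᵁ U : D.Opens) : Scheme.{u}) :=
          ⟨fun z => Set.disjoint_left.1 hdis ⟨_, rfl⟩ z.2⟩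
        infer_instance
  choose U hxU hU hUD hUs using hnodal
  have hnod : Curv2.IsNodalFamily φ :=
    Groth.Curves1.Node.isNodalFamily_of_etale_cover φ (fun x => (U x : Scheme.{u})) (fun x => (U x).ι)
      (fun x => ⟨x, ⟨x, hxU x⟩, rfl⟩) hU
  refine ⟨hMP, hnod, ?_, ?_⟩
  · refine IsZariskiLocalAtSource.of_iSup_eq_top (P := @Etale) (fun x => i ⁻¹ᵁ U x) ?_ hUD
    refine eq_top_iff.2 fun d _ => TopologicalSpace.Opens.mem_iSup.2 ⟨i d, hxU (i d)⟩
  · refine Set.disjoint_left.2 fun x hx hns => hns ?_
    have := hUs x hx
    have : LocallyOfFinitePresentation φ := hnod.2.1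
    have h1 : (⟨x, hxU x⟩ : U x) ∈ ((U x).ι ≫ φ).smoothLocus := by
      rw [Scheme.Hom.smoothLocus_eq_top]; trivial
    rw [← Scheme.Hom.preimage_smoothLocus_eq] at h1
    exact Scheme.Hom.mem_smoothLocus.1 h1

end Groth.Agent.S15645
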