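import Groth.Statements.S15649
import Groth.Agent.PlaneCurve.StrictSS.Components
-- import your own Groth.Agent.* helpers here

set_option autoImplicit false
universe u
open StrictSS

namespace Groth.Agent.S15649

open CategoryTheory CategoryTheory.Limits AlgebraicGeometry in
/-- Let k be a separably closed field and (C, D) a strictly semistable multipointed curve over Spec k
with C and D reduced. Then the irreducible components of C are smooth: for every irreducible
component Z of C there is a reduced closed subscheme of C with underlying set Z which is smooth over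
k. (The published remark asserts that, for semistable curves over such a field, strict semistability
is equivalent to smoothness of the irreducible components; this row is the implication from strict
semistability.) -/
theorem result
    (k : Type u) [Field k] [IsSepClosed k]
    {C D : Scheme.{u}} (φ : C ⟶ Spec (CommRingCat.of k)) (i : D ⟶ C) [IsReduced C] [IsReduced D]
    (h : StrictSS.IsStrictlySemistable φ i)
    (Z : Set C) (hZ : Z ∈ irreducibleComponents (C : Type u)) :
    ∃ (W : Scheme.{u}) (e : W ⟶ C), IsClosedImmersion e ∧ IsReduced W ∧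
      Set.range e.base = Z ∧ Smooth (e ≫ φ) := by
  obtain ⟨⟨hflat, hlfp, hqc, -⟩, hch⟩ := h
  let I := Scheme.IdealSheafData.vanishingIdeal (⟨Z, isClosed_of_mem_irreducibleComponents Z hZ⟩ : TopologicalSpace.Closeds C)
  haveI := Groth.PropsBasic2.isReduced_vanishingIdeal_subscheme (⟨Z, isClosed_of_mem_irreducibleComponents Z hZ⟩ : TopologicalSpace.Closeds C)
  have hr : Set.range I.subschemeι.base = Z := by
    show Set.range I.subschemeι = Z
    rw [Scheme.IdealSheafData.range_subschemeι, Scheme.IdealSheafData.coe_support_vanishingIdeal]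
    rfl
  refine ⟨I.subscheme, I.subschemeι, inferInstance, inferInstance, hr, ?_⟩
  refine Groth.PlaneCurve.StrictSS.smooth_of_closed_smooth φ Z hZ I.subschemeι hr fun x hx => ?_
  rcases hch x with ⟨A, j, hj, U, hxU, q, hq, f, fD, hf, hfq, -, -⟩ | ⟨A, j, hj, U, hxU, q, hq, a, f, hf, hfq, -⟩
  · refine ⟨U, U, 𝟙 _, hxU, inferInstance, ?_, fun η _ => ⟨η, rfl⟩⟩
    haveI := Groth.PlaneCurve.StrictSS.smoothOfRelativeDimension_line (A := A)
    haveI : Smooth (StrictSS.lineToBase A) := SmoothOfRelativeDimension.smooth 1 _
    rw [Category.id_comp, hq, ← hfq]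
    infer_instance
  · haveI : IsIso j := by
      refine (isIso_iff_isOpenImmersion_and_epi_base j).2 ⟨hj, (TopCat.epi_iff_surjective _).2 fun s => ?_⟩
      exact ⟨q.base ⟨x, hxU⟩, Subsingleton.elim (α := PrimeSpectrum k) _ _⟩
    have hfld : IsField A := by
      have e := (Scheme.Spec.preimageIso (asIso j)).unop.commRingCatIsoToRingEquiv
      exact e.symm.toMulEquiv.isField (Field.toIsField k)
    by_cases ha : a = 0
    · subst ha
      let η' := hZ.1.genericPoint
      have hη' := hZ.1.isGenericPoint_genericPoint (isClosed_of_mem_irreducibleComponents Z hZ)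
      have hηU : η' ∈ U := (hη'.mem_open_set_iff U.2).2 ⟨x, hx, hxU⟩
      obtain ⟨i₀, hi₀⟩ := Groth.PlaneCurve.StrictSS.axes_cover A (f.base ⟨η', hηU⟩)
      let ax := Spec.map (CommRingCat.ofHom (Groth.PlaneCurve.StrictSS.axisHom A i₀).toRingHom)
      haveI : IsClosedImmersion ax :=
        IsClosedImmersion.spec_of_surjective _ (Groth.PlaneCurve.StrictSS.axisHom_surjective A i₀)
      refine ⟨U, pullback f ax, pullback.fst f ax, hxU, inferInstance, ?_, fun η hη => ?_⟩
      · haveI := Groth.PlaneCurve.StrictSS.smoothOfRelativeDimension_line (A := A)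
        haveI : Smooth (StrictSS.lineToBase A) := SmoothOfRelativeDimension.smooth 1 _
        rw [hq, ← hfq, Category.assoc, pullback.condition_assoc, ← Category.assoc ax,
          Groth.PlaneCurve.StrictSS.axisHom_toBase]
        infer_instance
      · obtain ⟨y, hy⟩ := hi₀
        have hη0 : η = ⟨η', hηU⟩ := U.ι.isOpenEmbedding.injective (IsGenericPoint.eq hη hη')
        obtain ⟨z, hz, -⟩ := Scheme.Pullback.exists_preimage_pullback (f := f) (g := ax) η y (by rw [hη0]; exact hy.symm)
        exact ⟨z, hz⟩
    · refine ⟨U, U, 𝟙 _, hxU, inferInstance, ?_, fun η _ => ⟨η, rfl⟩⟩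
      haveI := Groth.PlaneCurve.StrictSS.smooth_node_of_isUnit A
        (show IsUnit a by obtain ⟨b, hb⟩ := hfld.mul_inv_cancel ha; exact IsUnit.of_mul_eq_one b hb)
      rw [Category.id_comp, hq, ← hfq]
      infer_instance

end Groth.Agent.S15649
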