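import Groth.Statements.S1565
import Groth.Agent.CurveBridge.CanonicalPoint

set_option autoImplicit false
universe u
open CategoryTheory CategoryTheory.Limits AlgebraicGeometry
attribute [local instance] Curv2.resAlgebra
open Curves Groth.CurveBridge

namespace Groth.Agent.S1565

/-- Let X be a smooth proper curve over a field k whose global functions are k, of genus g ≥ 2. Then X
has a closed point whose residue field is a separable extension of k of degree at most 2g - 2. -/
theorem result (k : Type u) [Field k] (X : Scheme.{u}) [X.Over (Spec (CommRingCat.of k))]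
    (hX : Curve.IsSmoothProperCurve k X (X ↘ (Spec (CommRingCat.of k)))) (h0 : Module.finrank k (Coh.HH X (Coh.structureModule X) 0) = 1) (hg : 2 ≤ Curv2.genus k X) :
    ∃ x : X, IsClosed ({x} : Set X) ∧ Algebra.IsSeparable k (X.residueField x) ∧
      Module.finrank k (X.residueField x) ≤ 2 * Curv2.genus k X - 2 ∧ FiniteDimensional k (X.residueField x) := by
  obtain ⟨hp, hs, hi, hdim⟩ := hX
  haveI := hp
  haveI := hs
  haveI := hi
  have h : IsRegCurve X := isRegCurve_of_smooth k X hdim
  obtain ⟨P, hPs, hPd⟩ := exists_separable_place k X hdim h0 hg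
  obtain ⟨x, rfl⟩ := placeAt_surjective (k := k) h P
  haveI := hPs
  have hfr := finrank_residueField (k := k) h x
  exact ⟨x.1, x.2, isSeparable_residueField (k := k) h x, hfr ▸ hPd,
    Module.finite_of_finrank_pos (hfr ▸ (isFF k X hdim).deg_pos _)⟩

end Groth.Agent.S1565
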