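import Groth.Statements.S15651
import Groth.Agent.AbvarAlb.Poincare
import Groth.Agent.AbVarMul.HomLattice
import Mathlib.RingTheory.Artinian.Module
-- import your own Groth.Agent.* helpers here

set_option autoImplicit false
universe u
open CategoryTheory MonoidalCategory CartesianMonoidalCategory MonObj GrpObj AlgebraicGeometry
open AbVar

namespace Groth.Agent.S15651

open scoped TensorProduct

/-- Every element of `ℚ ⊗ M` is a pure tensor. -/
theorem exists_tmul {M : Type*} [AddCommGroup M] (x : ℚ ⊗[ℤ] M) : ∃ (r : ℚ) (m : M), x = r ⊗ₜ[ℤ] m := by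
  induction x using TensorProduct.induction_on with
  | zero => exact ⟨0, 0, (TensorProduct.zero_tmul _ _).symm⟩
  | tmul r m => exact ⟨r, m, rfl⟩
  | add x y hx hy =>
    obtain ⟨r, m, rfl⟩ := hx
    obtain ⟨s, n, rfl⟩ := hy
    refine ⟨((r.den : ℚ) * s.den)⁻¹, (r.num * s.den) • m + (s.num * r.den) • n, ?_⟩
    rw [TensorProduct.tmul_add, ← TensorProduct.smul_tmul, ← TensorProduct.smul_tmul, zsmul_eq_mul,
      zsmul_eq_mul]
    have hr : (r.den : ℚ) ≠ 0 := by exact_mod_cast r.den_ne_zero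
    have hs : (s.den : ℚ) ≠ 0 := by exact_mod_cast s.den_ne_zero
    congr 2 <;> (push_cast; field_simp; simp [Rat.mul_den_eq_num])

/-- A finite-dimensional von Neumann regular algebra is semisimple. -/
theorem isSemisimpleRing_of_regular {R : Type*} [Ring R] [IsArtinianRing R]
    (h : ∀ x : R, ∃ y, x * y * x = x) : IsSemisimpleRing R := by
  refine IsArtinianRing.isSemisimpleRing_iff_jacobson.2 (eq_bot_iff.2 fun x hx => ?_)
  obtain ⟨y, hy⟩ := h x
  have hmem : -(y * x) ∈ Ring.jacobson R := neg_mem (Ideal.mul_mem_left _ y hx)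
  rw [Ring.jacobson_eq_sInf_isMaximal] at hmem
  have hu : ∃ z, z * (1 - y * x) = 1 := by
    by_contra hc
    have hne : Ideal.span {1 - y * x} ≠ ⊤ := fun ht => by
      obtain ⟨z, hz⟩ := Ideal.mem_span_singleton'.1 (ht ▸ Submodule.mem_top (x := (1 : R)))
      exact hc ⟨z, hz⟩
    obtain ⟨m, hm, hle⟩ := Ideal.exists_le_maximal _ hne
    have h1 : -(y * x) ∈ m := (Submodule.mem_sInf.1 hmem) m hm
    have h2 : 1 - y * x ∈ m := hle (Ideal.mem_span_singleton_self _)
    exact hm.ne_top (m.eq_top_iff_one.2 (by simpa using m.sub_mem h2 h1))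
  obtain ⟨z, hz⟩ := hu
  have hee : (1 - y * x) * (y * x) = 0 := by
    have : y * x * (y * x) = y * x := by
      rw [_root_.mul_assoc, ← _root_.mul_assoc x y x, hy]
    rw [sub_mul, _root_.one_mul, this, sub_self]
  have he : y * x = 0 := by
    rw [← _root_.one_mul (y * x), ← hz, _root_.mul_assoc, hee, mul_zero]
  rw [Submodule.mem_bot, ← hy, _root_.mul_assoc, he, mul_zero]


/-- Let A be an abelian variety over a field k (a proper, geometrically integral commutative group
scheme over k). Then the rational endomorphism algebra End⁰(A) = ℚ ⊗_ℤ End_k(A), where End_k(A) is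
the ring of endomorphisms of A defined over k (sum pointwise in the group law, product by
composition), is a semisimple ring. -/
theorem result (k : Type u) [Field k]
    (A : Over (Spec (CommRingCat.of k)))
    [GrpObj A] [IsCommMonObj A] [IsProper A.hom] [GeometricallyIntegral A.hom] :
    IsSemisimpleRing (EndAV.End0 A) := by
  obtain ⟨g, hg⟩ := Groth.FibreDim.exists_dim_eq_nat A
  have : Module.Finite ℤ (EndAV.End A) := (Groth.AbVarMul.free_finite_hom (A := A) (B := A) hg hg).2.1
  have : Module.Finite ℚ (EndAV.End0 A) := inferInstance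
  have : IsArtinianRing (EndAV.End0 A) := IsArtinianRing.of_finite ℚ _
  refine isSemisimpleRing_of_regular fun x => ?_
  obtain ⟨r, φ, rfl⟩ := exists_tmul x
  obtain ⟨I, _, inc, p, _, _, _, _, hpinc, _, _⟩ := Groth.AbvarAlb.exists_image_of_proper φ.toHom
  obtain ⟨m, σ, hm, _, hσ⟩ := Groth.AbvarAlb.Poincare.exists_section p
  obtain ⟨n, ρ, hn, _, hρ⟩ := Groth.AbvarAlb.Poincare.exists_retraction inc
  have := GrpschAbsch.isCommMonObj_of_isProper I
  let ψ : EndAV.End A := EndAV.End.of (ρ ≫ σ)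
  have hφ : φ * ψ * φ = (m * n) • φ := by
    refine EndAV.End.ext ?_
    rw [EndAV.End.toHom_mul, EndAV.End.toHom_mul, EndAV.End.toHom_nsmul, EndAV.End.toHom_of]
    rw [show φ.toHom = p ≫ inc from hpinc.symm]
    have : IsMonHom (𝟙 I ^ m : I ⟶ I) := by rw [← zpow_natCast]; infer_instance
    have : IsMonHom (𝟙 I ^ n : I ⟶ I) := by rw [← zpow_natCast]; infer_instance
    have e1 : inc ≫ ρ ≫ σ ≫ p = (𝟙 I : I ⟶ I) ^ (m * n) := by
      rw [← Category.assoc, hρ, hσ, MonObj.pow_comp, Category.id_comp, ← pow_mul]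
    calc (p ≫ inc) ≫ (ρ ≫ σ) ≫ p ≫ inc = p ≫ (inc ≫ ρ ≫ σ ≫ p) ≫ inc := by simp only [Category.assoc]
      _ = (p ≫ inc) ^ (m * n) := by
        rw [e1, MonObj.pow_comp, Category.id_comp, MonObj.comp_pow]
  by_cases hr : r = 0
  · exact ⟨0, by simp [hr]⟩
  refine ⟨((r * ((m * n : ℕ) : ℚ))⁻¹) ⊗ₜ[ℤ] ψ, ?_⟩
  rw [Algebra.TensorProduct.tmul_mul_tmul, Algebra.TensorProduct.tmul_mul_tmul, hφ,
    ← natCast_zsmul φ (m * n), ← TensorProduct.smul_tmul, zsmul_eq_mul]
  have hmn : ((m * n : ℕ) : ℚ) ≠ 0 := by exact_mod_cast Nat.mul_ne_zero hm hn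
  congr 1
  push_cast at hmn ⊢
  field_simp

end Groth.Agent.S15651
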