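import Groth.Statements.S15654
import Groth.Agent.AbVarMul.FrobWeil
import Groth.Agent.AbVarMul.DegCharpolyBC

set_option autoImplicit false
universe u
open CategoryTheory MonoidalCategory CartesianMonoidalCategory MonObj GrpObj AlgebraicGeometry
open AbVar

namespace Groth.Agent.S15654

/-- First assertion: let A be an abelian variety over a finite field k with q elements (a proper,
geometrically integral commutative group scheme over k) and π_A its q-Frobenius endomorphism (the
identity on points and the q-th power map on sections; a homomorphism). Then the ℚ-subalgebra ℚ[π_A]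
of End⁰(A) = ℚ ⊗_ℤ End_k(A) (End_k(A) the ring of endomorphisms defined over k) generated by the
image 1 ⊗ π_A of the Frobenius endomorphism is a semisimple ring. -/
theorem result (k : Type u) [Field k] [Finite k]
    (A : Over (Spec (CommRingCat.of k)))
    [GrpObj A] [IsCommMonObj A] [IsProper A.hom] [GeometricallyIntegral A.hom]
    (πA : A ⟶ A) [IsMonHom πA] (hπAb : πA.left.base = 𝟙 _)
    (hπAle : ∀ U : A.left.Opens, U ≤ πA.left ⁻¹ᵁ U)
    (hπAapp : ∀ (U : A.left.Opens) (s : Γ(A.left, U)), (πA.left.appLE U U (hπAle U)).hom s = s ^ Nat.card k) :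
    IsSemisimpleRing (EndAV.QAdj (EndAV.End.of πA)) := by
  set x := EndAV.toEnd0 (EndAV.End.of πA)
  set m := minpoly ℚ x
  have hsq : Squarefree m := (Groth.AbVarMul.frob_minpoly hπAle hπAapp).1
  have : IsReduced (AdjoinRoot m) :=
    (Ideal.isRadical_iff_quotient_reduced _).1 (isRadical_iff_span_singleton.1 hsq.isRadical)
  have : Module.Finite ℚ (AdjoinRoot m) := (AdjoinRoot.powerBasis hsq.ne_zero).finite
  have : IsArtinianRing (AdjoinRoot m) := IsArtinianRing.of_finite ℚ _
  have hmem : x ∈ Algebra.adjoin ℚ ({x} : Set (EndAV.End0 A)) :=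
    Algebra.subset_adjoin (Set.mem_singleton x)
  let f : Polynomial ℚ →ₐ[ℚ] EndAV.QAdj (EndAV.End.of πA) := Polynomial.aeval ⟨x, hmem⟩
  have hf : ∀ r : Polynomial ℚ, ((f r : EndAV.QAdj (EndAV.End.of πA)) : EndAV.End0 A) =
      Polynomial.aeval x r := fun r =>
    Polynomial.aeval_subalgebra_coe r (Algebra.adjoin ℚ ({x} : Set (EndAV.End0 A))) ⟨x, hmem⟩
  let F : AdjoinRoot m →+* EndAV.QAdj (EndAV.End.of πA) :=
    Ideal.Quotient.lift _ f.toRingHom fun r hr => by
      obtain ⟨s, rfl⟩ := Ideal.mem_span_singleton'.1 hr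
      refine Subtype.ext ?_
      rw [AlgHom.toRingHom_eq_coe, RingHom.coe_coe, hf, map_mul, minpoly.aeval, mul_zero]
      rfl
  have : IsSemisimpleRing (AdjoinRoot m) := IsArtinianRing.isSemisimpleRing_of_isReduced _
  refine F.isSemisimpleRing_of_surjective fun y => ?_
  obtain ⟨y, hy⟩ := y
  have hy' : y ∈ Algebra.adjoin ℚ ({x} : Set (EndAV.End0 A)) := hy
  rw [Algebra.adjoin_singleton_eq_range_aeval] at hy'
  obtain ⟨r, rfl⟩ := hy'
  exact ⟨AdjoinRoot.mk m r, Subtype.ext (hf r)⟩

end Groth.Agent.S15654
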