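import Groth.Statements.S15655
import Groth.Agent.AbVarMul.SimpleIsogeny

set_option autoImplicit false
universe u
open CategoryTheory MonoidalCategory CartesianMonoidalCategory MonObj GrpObj AlgebraicGeometry
open AbVar

namespace Groth.Agent.S15655

/-- Proof step: let A be a simple abelian variety over a field k — a proper, geometrically integral
commutative group scheme over k whose only abelian subvarieties over k (geometrically integral
closed subgroup schemes) are the trivial subgroup and A itself. Then every non-zero element of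
End⁰(A) = ℚ ⊗_ℤ End_k(A) (End_k(A) the ring of endomorphisms defined over k) is invertible: End⁰(A)
is a division algebra. (The published proposition is the semisimplicity of End⁰(A) for every abelian
variety; this row states the step of its proof for simple A.) -/
theorem result (k : Type u) [Field k]
    (A : Over (Spec (CommRingCat.of k)))
    [GrpObj A] [IsCommMonObj A] [IsProper A.hom] [GeometricallyIntegral A.hom]
    (hsimple : ∀ (B : Over (Spec (CommRingCat.of k))) [GrpObj B] [GeometricallyIntegral B.hom] (i : B ⟶ A) [IsMonHom i]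
      [IsClosedImmersion i.left], Subsingleton B.left ∨ IsIso i) :
    ∀ x : EndAV.End0 A, x ≠ 0 → IsUnit x := by
  intro x hx
  obtain ⟨d, hd, φ, rfl⟩ : ∃ (d : ℤ) (_ : d ≠ 0) (φ : EndAV.End A), x = ((d : ℚ)⁻¹) ⊗ₜ[ℤ] φ := by
    clear hx
    induction x using TensorProduct.induction_on with
    | zero => exact ⟨1, one_ne_zero, 0, by simp⟩
    | tmul q φ =>
      refine ⟨q.den, by exact_mod_cast q.den_ne_zero, q.num • φ, ?_⟩
      rw [TensorProduct.tmul_smul, TensorProduct.smul_tmul', zsmul_eq_mul]
      congr 1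
      rw [Int.cast_natCast, ← div_eq_mul_inv, Rat.num_div_den]
    | add a b ha hb =>
      obtain ⟨d, hd, φ, rfl⟩ := ha
      obtain ⟨e, he, ψ, rfl⟩ := hb
      refine ⟨d * e, mul_ne_zero hd he, e • φ + d • ψ, ?_⟩
      rw [TensorProduct.tmul_add, TensorProduct.tmul_smul, TensorProduct.tmul_smul,
        TensorProduct.smul_tmul', TensorProduct.smul_tmul', zsmul_eq_mul, zsmul_eq_mul]
      have hdQ : (d : ℚ) ≠ 0 := by exact_mod_cast hd
      have heQ : (e : ℚ) ≠ 0 := by exact_mod_cast he
      congr 2
      · push_cast; field_simp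
      · push_cast; field_simp
  have hφ : φ.toHom ≠ 1 := fun h => hx (by
    rw [show φ = 0 from EndAV.End.ext h, TensorProduct.tmul_zero])
  obtain ⟨n, ψ, hn, _, h1, h2⟩ := Groth.AbVarMul.exists_quasi_inverse_of_simple hsimple φ.toHom hφ
  have e1 : φ * EndAV.End.of ψ = (n : EndAV.End A) := EndAV.End.ext (by
    rw [EndAV.End.toHom_natCast]
    exact h2)
  have e2 : EndAV.End.of ψ * φ = (n : EndAV.End A) := EndAV.End.ext (by
    rw [EndAV.End.toHom_natCast]
    exact h1)
  have hnQ : (n : ℚ) ≠ 0 := by exact_mod_cast hn.ne'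
  have hdQ : (d : ℚ) ≠ 0 := by exact_mod_cast hd
  have hone : ∀ q : ℚ, q ⊗ₜ[ℤ] (n : EndAV.End A) = (q * n) ⊗ₜ[ℤ] (1 : EndAV.End A) := fun q => by
    rw [show (n : EndAV.End A) = (n : ℤ) • (1 : EndAV.End A) by simp, TensorProduct.tmul_smul,
      TensorProduct.smul_tmul', zsmul_eq_mul, mul_comm]
    simp
  refine ⟨⟨((d : ℚ)⁻¹) ⊗ₜ[ℤ] φ, ((d : ℚ) / n) ⊗ₜ[ℤ] EndAV.End.of ψ, ?_, ?_⟩, rfl⟩
  · rw [Algebra.TensorProduct.tmul_mul_tmul, e1, hone, Algebra.TensorProduct.one_def]
    congr 1
    field_simp
  · rw [Algebra.TensorProduct.tmul_mul_tmul, e2, hone, Algebra.TensorProduct.one_def]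
    congr 1
    field_simp


end Groth.Agent.S15655
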