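import Groth.Statements.S15686
import Groth.Agent.StackCount.Classify
import Groth.Agent.StackCount.Cover
import Groth.Agent.StackCount.TwistPts
-- import your own Groth.Agent.* helpers here

set_option autoImplicit false
universe u
open CategoryTheory AlgebraicGeometry MonObj
open StackCount

set_option backward.isDefEq.respectTransparency false
set_option backward.isDefEq.respectTransparency.types false

open Groth.StackCount

namespace Groth.Agent.S15686

/-- Let k be a finite field with algebraic closure k̄, G a smooth affine algebraic group over k acting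
on a variety X over k (reduced and of finite type), and [X/G] the quotient stack whose objects over
a k-scheme T are G-torsors P → T (schemes, locally trivial for the étale topology) with a
G-equivariant morphism P → X. Suppose the Galois cohomology set H¹(k, G) (continuous cocycles of
Gal(k̄/k) with values in G(k̄), up to equivalence) is finite, and choose for every class c a
continuous cocycle z_c in it, a twist X_c of X by z_c through the action (a k-scheme whose base
change to k̄ is identified with that of X so that the Galois action becomes x ↦ z_c(σ) · σx), and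
the inner form G_c of G determined by z_c. If the groupoid of k-points of [X/G] is essentially
finite, then its point count (the sum over isomorphism classes of the inverse orders of the
automorphism groups) equals the sum over the classes c of #X_c(k) / #G_c(k). (The published
statement is for the k′-points over any finite extension k′ of k and for any smooth algebraic group
G; this row is the case k′ = k, to which the general case reduces by base change, and takes G affine
so that every torsor is a scheme.) -/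
theorem result (k : Type u) [Field k] [Finite k]
    (kb : Type u) [Field kb] [Algebra k kb] [IsAlgClosure k kb]
    (G : Over (Spec (CommRingCat.of k))) [GrpObj G] [Smooth G.hom] [IsAffineHom G.hom]
    (X : Over (Spec (CommRingCat.of k))) [LocallyOfFiniteType X.hom] [QuasiCompact X.hom]
    [IsReduced X.left] (aX : AlgGrp.Action G X)
    [Fintype (GpH1.H1lc (kb ≃ₐ[k] kb) (SGA7.Pts kb G))]
    (z : GpH1.H1lc (kb ≃ₐ[k] kb) (SGA7.Pts kb G) → GpH1.OneCocycleLC (kb ≃ₐ[k] kb) (SGA7.Pts kb G))
    (hz : ∀ c, (z c).cl = c)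
    (Xz : GpH1.H1lc (kb ≃ₐ[k] kb) (SGA7.Pts kb G) → Over (Spec (CommRingCat.of k)))
    (hXz : ∀ c, GalTw.IsActTwist kb aX (z c).1 (Xz c))
    (Gin : GpH1.H1lc (kb ≃ₐ[k] kb) (SGA7.Pts kb G) → Over (Spec (CommRingCat.of k)))
    [∀ c, GrpObj (Gin c)]
    (hGin : ∀ c, GalTw.IsInnTwist kb G (z c).1 (Gin c))
    (h : StkCnt.IsEssFinite (StkCnt.pts (AlgSt.QuotSt Scheme.etalePrecoverage G aX) k)) :
    StkCnt.ptCount (AlgSt.QuotSt Scheme.etalePrecoverage G aX) k h =
      ∑ c : GpH1.H1lc (kb ≃ₐ[k] kb) (SGA7.Pts kb G),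
        (Nat.card (SGA7.Pts k (Xz c)) : ℚ) / (Nat.card (SGA7.Pts k (Gin c)) : ℚ) := by
  classical
  have : IsAlgClosed kb := IsAlgClosure.isAlgClosed k
  have : Algebra.IsAlgebraic k kb := IsAlgClosure.isAlgebraic
  have : IsGalois k kb := ⟨⟩
  let a : GpH1.H1lc (kb ≃ₐ[k] kb) (SGA7.Pts kb G) → (kb ≃ₐ[k] kb) → SGA7.Pts kb G := fun c σ => ((z c).1 σ)⁻¹
  have hco : ∀ c σ τ, a c (σ * τ) = (gs k σ ≫ a c τ) * a c σ := fun c σ τ => by
    show ((z c).1 (σ * τ))⁻¹ = (σ • ((z c).1 τ)⁻¹) * ((z c).1 σ)⁻¹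
    rw [(z c).1.2 σ τ, _root_.mul_inv_rev, smul_inv']
  have hcl : ∀ c, IsLocallyConstant (a c) := fun c => (z c).2.comp fun g => g⁻¹
  rw [ptCount_eq (kb := kb) (fun A => lft_etale inferInstance A) (fun A => exists_kpt_etale kb A)
    (fun E hd hg => singleton_mem_etale E hd hg) a hcl hco ?_ ?_ h]
  · refine Finset.sum_congr rfl fun c _ => ?_
    obtain ⟨φX, hφX⟩ := hXz c
    obtain ⟨φG, -, hφG⟩ := hGin c
    have := lft_of_bcK φX
    have := lft_of_bcK φG
    obtain ⟨ΦX, hΦX⟩ := exists_ptsEquiv φX _ hφX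
    obtain ⟨ΦG, hΦG⟩ := exists_ptsEquiv φG _ hφG
    simp only [undPt_actK] at hΦX
    simp only [undPt_innK] at hΦG
    rw [card_pts_eq_fixed (kb := kb), card_pts_eq_fixed (kb := kb)]
    congr 1
    · refine congrArg Nat.cast (Nat.card_congr (ΦX.subtypeEquiv fun y => forall_congr' fun σ => ?_).symm)
      rw [← ΦX.apply_eq_iff_eq, hΦX, gs_eq_smul]
      constructor
      · intro e
        conv_lhs => rw [← e]
        rw [← Groth.AlgGrp2.lift_mul_act, inv_mul_cancel, Groth.AlgGrp2.lift_one_act]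
      · intro e
        rw [← e, ← Groth.AlgGrp2.lift_mul_act, mul_inv_cancel, Groth.AlgGrp2.lift_one_act]
    · refine congrArg Nat.cast (Nat.card_congr (ΦG.subtypeEquiv fun y => forall_congr' fun σ => ?_).symm)
      rw [← ΦG.apply_eq_iff_eq, hΦG, gs_eq_smul]
      generalize σ • ΦG y = w
      show (z c).1 σ * w * ((z c).1 σ)⁻¹ = ΦG y ↔ w * ((z c).1 σ)⁻¹ = ((z c).1 σ)⁻¹ * ΦG y
      rw [eq_inv_mul_iff_mul_eq, _root_.mul_assoc]
  · intro b hlc hb
    let z' : GpH1.OneCocycleLC (kb ≃ₐ[k] kb) (SGA7.Pts kb G) :=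
      ⟨⟨fun σ => (b σ)⁻¹, fun σ τ => by
        show (b (σ * τ))⁻¹ = (b σ)⁻¹ * σ • (b τ)⁻¹
        rw [hb, _root_.mul_inv_rev, smul_inv']
        rfl⟩, hlc.comp fun g => g⁻¹⟩
    obtain ⟨g, hg⟩ := (GpH1.OneCocycleLC.cl_eq_cl_iff _ _).1 (hz z'.cl).symm
    refine ⟨z'.cl, g⁻¹, fun σ => ?_⟩
    have e : (b σ)⁻¹ = g⁻¹ * (z z'.cl).1 σ * σ • g := hg σ
    rw [← _root_.inv_inv (b σ), e]
    show (σ • g⁻¹) * ((z z'.cl).1 σ)⁻¹ = _
    simp only [_root_.mul_inv_rev, _root_.inv_inv, smul_inv', _root_.mul_assoc, _root_.mul_inv_cancel, _root_.mul_one]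
  · intro c c' g hg
    rw [← hz c, ← hz c']
    refine (GpH1.OneCocycleLC.cl_eq_cl_iff _ _).2 ⟨g⁻¹, fun σ => ?_⟩
    have e : (σ • g) * ((z c').1 σ)⁻¹ = ((z c).1 σ)⁻¹ * g := hg σ
    have key : ∀ p q r t : SGA7.Pts kb G, p * q⁻¹ = r⁻¹ * t → r = t * q * p⁻¹ := fun p q r t hp => by
      rw [eq_inv_mul_iff_mul_eq] at hp
      rw [← hp]
      group
    rw [_root_.inv_inv, smul_inv']
    exact key _ _ _ _ e

end Groth.Agent.S15686
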