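import Groth.Statements.S15687
import Groth.Statements.S15687
import Groth.Agent.StackCount.Common
-- import your own Groth.Agent.* helpers here

set_option autoImplicit false
set_option backward.isDefEq.respectTransparency false
set_option backward.isDefEq.respectTransparency.types false
universe u
open CategoryTheory AlgebraicGeometry MonObj
open GalTw

open Groth.StackCount

namespace Groth.Agent.S15687

/-- Let k be a finite field with algebraic closure k̄, and let A, B, C be smooth algebraic groups over k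
with homomorphisms i : A → B and π : B → C forming a short exact sequence 1 → A → B → C → 1 (π ∘ i
trivial, B a pseudo-torsor over C under A acting through i, and π acquiring sections fppf-locally on
C), with A connected. Then the map H¹(k, B) → H¹(k, C) induced by π on the continuous Galois
cohomology sets (continuous cocycles of Gal(k̄/k) with values in the k̄-points, up to equivalence)
is bijective. -/
theorem result (k : Type u) [Field k] [Finite k]
    (kb : Type u) [Field kb] [Algebra k kb] [IsAlgClosure k kb]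
    (A B C : Over (Spec (CommRingCat.of k))) [GrpObj A] [GrpObj B] [GrpObj C]
    [Smooth A.hom] [Smooth B.hom] [Smooth C.hom]
    [QuasiCompact A.hom] [QuasiCompact B.hom] [QuasiCompact C.hom]
    (i : A ⟶ B) (π : B ⟶ C) [IsMonHom i] [IsMonHom π]
    (hex : NonAbH1.IsExactSeq Scheme.fppfPrecoverage i π) [ConnectedSpace A.left] :
    Function.Bijective
      (GalTw.H1lcMap (GalTw.ptsMap (K := kb) π) (GalTw.ptsMap_smul (K := kb) π)) := by
  classical
  have : IsAlgClosed kb := IsAlgClosure.isAlgClosed k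
  have : Algebra.IsAlgebraic k kb := IsAlgClosure.isAlgebraic
  have : IsGalois k kb := ⟨⟩
  have := mono_of_isExactSeq hex
  let π₀ := frobAut k kb
  let f : SGA7.Pts kb B →* SGA7.Pts kb C := GalTw.ptsMap (K := kb) π
  have hf : ∀ (σ : kb ≃ₐ[k] kb) (x : SGA7.Pts kb B), f (σ • x) = σ • f x := GalTw.ptsMap_smul (K := kb) π
  constructor
  · rintro ⟨z⟩ ⟨z'⟩ h
    obtain ⟨g₀, hg₀⟩ := (cl_eq_iff (GalTw.lcMap f hf z) (GalTw.lcMap f hf z')).1 h
    obtain ⟨g, hg⟩ := exists_lift_pt hex g₀
    refine (cl_eq_iff z z').2 ?_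
    let w := g * z.1 π₀ * (π₀ • g)⁻¹
    have hw : f w = f (z'.1 π₀) := by
      show f (g * z.1 π₀ * (π₀ • g)⁻¹) = _
      rw [map_mul, map_mul, map_inv, hf, show f g = g₀ from hg]
      exact hg₀.symm
    obtain ⟨a, ha⟩ := exists_factor_of_isExactSeq hex (z'.1 π₀ * w⁻¹) (by
      show f _ = 1
      rw [map_mul, map_inv, hw, mul_inv_cancel])
    obtain ⟨x, hx⟩ := exists_lang_normal i (isNormalHom_of_isExactSeq hex) w a
    refine ⟨(x ≫ i) * g, ?_⟩
    rw [ha] at hx
    show z'.1 π₀ = (x ≫ i) * g * z.1 π₀ * (π₀ • ((x ≫ i) * g))⁻¹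
    rw [← mul_inv_eq_iff_eq_mul] at hx
    have key : ∀ p q u v : SGA7.Pts kb B, v * (w * q * w⁻¹)⁻¹ = p * w⁻¹ → w = g * u * (π₀ • g)⁻¹ →
        p = v * g * u * (q * π₀ • g)⁻¹ := fun p q u v h1 h2 => by
      calc p = p * w⁻¹ * w := by group
        _ = v * (w * q * w⁻¹)⁻¹ * w := by rw [h1]
        _ = v * w * q⁻¹ := by group
        _ = _ := by rw [h2]; group
    rw [smul_mul']
    refine key _ _ _ _ ?_ rfl
    rw [← hx]
    group
    rfl
  · rintro ⟨c⟩
    obtain ⟨b, hb⟩ := exists_lift_pt hex (c.1 π₀)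
    obtain ⟨z, hz⟩ := exists_cocycle_pts b
    refine ⟨z.cl, congrArg GpH1.OneCocycleLC.cl (cocycle_ext ?_)⟩
    show f (z.1 π₀) = c.1 π₀
    rw [hz]
    exact hb

end Groth.Agent.S15687
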