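import Groth.Statements.S15688
import Groth.Statements.S15688
import Groth.Agent.StackCount.Common
-- import your own Groth.Agent.* helpers here

set_option autoImplicit false
set_option backward.isDefEq.respectTransparency false
set_option backward.isDefEq.respectTransparency.types false
universe u
open CategoryTheory AlgebraicGeometry MonoidalCategory CartesianMonoidalCategory MonObj
open StackCount

open Groth.StackCount MonoidalCategory CartesianMonoidalCategory

namespace Groth.Agent.S15688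

/-- Let k be a finite field with algebraic closure k̄, and let A, B, C be smooth algebraic groups over k
with homomorphisms i : A → B and π : B → C forming a short exact sequence 1 → A → B → C → 1 (π ∘ i
trivial, B a pseudo-torsor over C under A acting through i, and π acquiring sections fppf-locally on
C), with A connected; let c be the action of B on A by conjugation, i.e. an action with i(b · a) = b
i(a) b⁻¹. Let z be a continuous cocycle of Gal(k̄/k) with values in B(k̄), A_z a twist of A by z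
through the action c, B_z an inner form of B by z, and C_z an inner form of C by the image of z
under π. Then the numbers of k-points satisfy #B_z(k) = #A_z(k) · #C_z(k). -/
theorem result (k : Type u) [Field k] [Finite k]
    (kb : Type u) [Field kb] [Algebra k kb] [IsAlgClosure k kb]
    (A B C : Over (Spec (CommRingCat.of k))) [GrpObj A] [GrpObj B] [GrpObj C]
    [Smooth A.hom] [Smooth B.hom] [Smooth C.hom]
    [QuasiCompact A.hom] [QuasiCompact B.hom] [QuasiCompact C.hom]
    (i : A ⟶ B) (π : B ⟶ C) [IsMonHom i] [IsMonHom π]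
    (hex : NonAbH1.IsExactSeq Scheme.fppfPrecoverage i π) [ConnectedSpace A.left]
    (c : AlgGrp.Action B A) (hc : c.act ≫ i = fst B A * (snd B A ≫ i) * (fst B A)⁻¹)
    (z : GpH1.OneCocycleLC (kb ≃ₐ[k] kb) (SGA7.Pts kb B))
    (Az : Over (Spec (CommRingCat.of k))) (hAz : GalTw.IsActTwist kb c z.1 Az)
    (Bz : Over (Spec (CommRingCat.of k))) [GrpObj Bz] (hBz : GalTw.IsInnTwist kb B z.1 Bz)
    (Cz : Over (Spec (CommRingCat.of k))) [GrpObj Cz]
    (hCz : GalTw.IsInnTwist kb C
      (GalTw.lcMap (GalTw.ptsMap (K := kb) π) (GalTw.ptsMap_smul (K := kb) π) z).1 Cz) :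
    Nat.card (SGA7.Pts k Bz) = Nat.card (SGA7.Pts k Az) * Nat.card (SGA7.Pts k Cz) := by
  classical
  have : IsAlgClosed kb := IsAlgClosure.isAlgClosed k
  have : Algebra.IsAlgebraic k kb := IsAlgClosure.isAlgebraic
  have : IsGalois k kb := ⟨⟩
  have := mono_of_isExactSeq hex
  let π₀ := frobAut k kb
  let f : SGA7.Pts kb B →* SGA7.Pts kb C := GalTw.ptsMap (K := kb) π
  have hf : ∀ (σ : kb ≃ₐ[k] kb) (x : SGA7.Pts kb B), f (σ • x) = σ • f x := GalTw.ptsMap_smul (K := kb) π
  obtain ⟨φA, hφA⟩ := hAz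
  obtain ⟨φB, -, hφB⟩ := hBz
  obtain ⟨φC, -, hφC⟩ := hCz
  have := lft_of_bcK φA
  have := lft_of_bcK φB
  have := lft_of_bcK φC
  obtain ⟨ΦA, hΦA⟩ := exists_ptsEquiv φA _ hφA
  obtain ⟨ΦB, hΦB⟩ := exists_ptsEquiv φB _ hφB
  obtain ⟨ΦC, hΦC⟩ := exists_ptsEquiv φC _ hφC
  simp only [undPt_actK] at hΦA
  simp only [undPt_innK] at hΦB hΦC
  rw [card_pts_eq_fixed (kb := kb), card_pts_eq_fixed (kb := kb), card_pts_eq_fixed (kb := kb)]
  -- the twisted Frobenius on the three groups
  let τ : SGA7.Pts kb B →* SGA7.Pts kb B :=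
    MonoidHom.mk' (fun y => z.1 π₀ * π₀ • y * (z.1 π₀)⁻¹) fun x y => by rw [smul_mul']; group
  let τC : SGA7.Pts kb C →* SGA7.Pts kb C :=
    MonoidHom.mk' (fun y => f (z.1 π₀) * π₀ • y * (f (z.1 π₀))⁻¹) fun x y => by rw [smul_mul']; group
  have hτ : ∀ y, f (τ y) = τC (f y) := fun y => by
    show f (z.1 π₀ * π₀ • y * (z.1 π₀)⁻¹) = _
    rw [map_mul, map_mul, map_inv, hf]
    rfl
  let HB := τ.eqLocus (MonoidHom.id _)
  let HC := τC.eqLocus (MonoidHom.id _)
  let g : HB →* HC := (f.comp HB.subtype).codRestrict HC fun y => by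
    show τC (f y.1) = f y.1
    rw [← hτ]
    exact congrArg f y.2
  have hci : ∀ (σ : kb ≃ₐ[k] kb) (a : SGA7.Pts kb A),
      (lift (z.1 σ) (σ • a) ≫ c.act) ≫ i = z.1 σ * σ • (a ≫ i) * (z.1 σ)⁻¹ := fun σ a => by
    rw [Category.assoc, hc, MonObj.comp_mul, MonObj.comp_mul, GrpObj.comp_inv]
    simp only [lift_fst, lift_snd_assoc]
    rw [show (σ • a) ≫ i = σ • (a ≫ i) from Category.assoc _ _ _]
  have eB : {y : SGA7.Pts kb Bz // ∀ σ : kb ≃ₐ[k] kb, σ • y = y} ≃ HB :=
    ΦB.subtypeEquiv fun y => by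
      rw [forall_congr' fun σ => (ΦB.apply_eq_iff_eq (x := σ • y) (y := y)).symm]
      simp only [hΦB]
      exact innFixed_iff z (ΦB y)
  have eC : {y : SGA7.Pts kb Cz // ∀ σ : kb ≃ₐ[k] kb, σ • y = y} ≃ HC :=
    ΦC.subtypeEquiv fun y => by
      rw [forall_congr' fun σ => (ΦC.apply_eq_iff_eq (x := σ • y) (y := y)).symm]
      simp only [hΦC]
      exact innFixed_iff (GalTw.lcMap (GalTw.ptsMap (K := kb) π) (GalTw.ptsMap_smul (K := kb) π) z) (ΦC y)
  have hmem : ∀ a : SGA7.Pts kb A, (∀ σ : kb ≃ₐ[k] kb, lift (z.1 σ) (σ • a) ≫ c.act = a) ↔ (a ≫ i) ∈ HB :=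
    fun a => by
      rw [forall_congr' fun σ => (cancel_mono i).symm]
      simp only [hci]
      exact innFixed_iff z (a ≫ i)
  have eA : {y : SGA7.Pts kb Az // ∀ σ : kb ≃ₐ[k] kb, σ • y = y} ≃ g.ker :=
    (ΦA.subtypeEquiv (q := fun a => a ≫ i ∈ HB) fun y => by
      rw [forall_congr' fun σ => (ΦA.apply_eq_iff_eq (x := σ • y) (y := y)).symm]
      simp only [hΦA]
      exact hmem (ΦA y)).trans
    (Equiv.ofBijective (fun a => ⟨⟨a.1 ≫ i, a.2⟩, Subtype.ext (comp_eq_one_of_isExactSeq hex a.1)⟩)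
      ⟨fun a a' h => Subtype.ext ((cancel_mono i).1 (congrArg (fun y => y.1.1) h)), fun y => by
        obtain ⟨a, ha⟩ := exists_factor_of_isExactSeq hex y.1.1 (congrArg Subtype.val y.2)
        exact ⟨⟨a, show a ≫ i ∈ HB by rw [ha]; exact y.1.2⟩, Subtype.ext (Subtype.ext ha)⟩⟩)
  have hg : Function.Surjective g := fun y => by
    obtain ⟨b, hb⟩ := exists_lift_pt hex y.1
    obtain ⟨a, ha⟩ := exists_factor_of_isExactSeq hex (b⁻¹ * τ b) (by
      show f _ = 1
      rw [map_mul, map_inv, hτ, show f b = y.1 from hb, inv_mul_eq_one]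
      exact y.2.symm)
    obtain ⟨x, hx⟩ := exists_lang_normal i (isNormalHom_of_isExactSeq hex) (z.1 π₀) a
    rw [ha] at hx
    refine ⟨⟨b * (x ≫ i), ?_⟩, Subtype.ext ?_⟩
    · show τ (b * (x ≫ i)) = b * (x ≫ i)
      rw [map_mul]
      calc τ b * τ (x ≫ i) = b * (b⁻¹ * τ b) * τ (x ≫ i) := by group
        _ = b * ((x ≫ i) * (τ (x ≫ i))⁻¹) * τ (x ≫ i) := by rw [← hx]; rfl
        _ = _ := by group
    · show f (b * (x ≫ i)) = y.1
      rw [map_mul, show f (x ≫ i) = 1 from comp_eq_one_of_isExactSeq hex x, _root_.mul_one]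
      exact hb
  rw [Nat.card_congr eA, Nat.card_congr eB, Nat.card_congr eC,
    Subgroup.card_eq_card_quotient_mul_card_subgroup g.ker,
    Nat.card_congr (QuotientGroup.quotientKerEquivOfSurjective g hg).toEquiv, Nat.mul_comm]

end Groth.Agent.S15688
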