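import Groth.Statements.S15692
import Groth.Agent.StackCount.Semi

set_option autoImplicit false
set_option backward.isDefEq.respectTransparency false
set_option backward.isDefEq.respectTransparency.types false
universe u
open CategoryTheory AlgebraicGeometry MonoidalCategory CartesianMonoidalCategory MonObj
open StackCount
open Groth.StackCount

namespace Groth.Agent.S15692

/-- Let k be a finite field with q elements and algebraic closure k̄, and G a smooth affine algebraic
group over k which is a semidirect product of closed subgroups H and U: the inclusions H → G and U →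
G are homomorphisms, U is normal in G, and multiplication H × U → G, (h, u) ↦ h u, is an isomorphism
of k-schemes. Assume U is smooth, connected and unipotent (its base change to k̄ contains no
non-trivial subtorus), of dimension d. Let G act on a variety X over k (reduced, of finite type) and
let H act on X through its inclusion. If the groupoids of k-points of the quotient stacks [X/G] and
[X/H] (G- resp. H-torsors over Spec k as schemes, locally trivial for the étale topology, with an
equivariant map to X) are essentially finite, then their point counts (sums over isomorphism classes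
of the inverse orders of the automorphism groups) satisfy #[X/G](k) · q^d = #[X/H](k). (The
published statement is for the k′-points over any finite extension k′ of k; this row is the case k′
= k, to which the general case reduces by base change, and takes the groups affine so that torsors
are schemes.) -/
theorem result (k : Type u) [Field k] [Finite k]
    (kb : Type u) [Field kb] [Algebra k kb] [IsAlgClosure k kb]
    (G H U : Over (Spec (CommRingCat.of k))) [GrpObj G] [GrpObj H] [GrpObj U]
    [Smooth G.hom] [IsAffineHom G.hom] [Smooth H.hom] [IsAffineHom H.hom]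
    [Smooth U.hom] [IsAffineHom U.hom] [ConnectedSpace U.left]
    (iH : H ⟶ G) (iU : U ⟶ G) [IsMonHom iH] [IsMonHom iU] [Mono iH] [Mono iU]
    (hUn : AlgGrp.IsNormalHom iU) (hsd : IsIso ((fst H U ≫ iH) * (snd H U ≫ iU)))
    (hUu : Red.HasNoSubtorus kb (GalTw.bcK kb U))
    (d : ℕ) (hd : topologicalKrullDim ↥U.left = (d : WithBot ℕ∞))
    (X : Over (Spec (CommRingCat.of k))) [LocallyOfFiniteType X.hom] [QuasiCompact X.hom]
    [IsReduced X.left] (aG : AlgGrp.Action G X) (aH : AlgGrp.Action H X)
    (haH : aH.act = (iH ▷ X) ≫ aG.act)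
    (hG : StkCnt.IsEssFinite (StkCnt.pts (AlgSt.QuotSt Scheme.etalePrecoverage G aG) k))
    (hH : StkCnt.IsEssFinite (StkCnt.pts (AlgSt.QuotSt Scheme.etalePrecoverage H aH) k)) :
    StkCnt.ptCount (AlgSt.QuotSt Scheme.etalePrecoverage G aG) k hG * (Nat.card k : ℚ) ^ d =
      StkCnt.ptCount (AlgSt.QuotSt Scheme.etalePrecoverage H aH) k hH := by
  have : IsAlgClosed kb := IsAlgClosure.isAlgClosed k
  have : Algebra.IsAlgebraic k kb := IsAlgClosure.isAlgebraic
  have : IsGalois k kb := ⟨⟩
  let m : H ⊗ U ⟶ G := (fst H U ≫ iH) * (snd H U ≫ iU)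
  have : IsIso m := hsd
  let hp : SGA7.Pts kb G → SGA7.Pts kb H := fun a => a ≫ inv m ≫ fst H U
  let up : SGA7.Pts kb G → SGA7.Pts kb U := fun a => a ≫ inv m ≫ snd H U
  have hm : ∀ (x : SGA7.Pts kb H) (u : SGA7.Pts kb U), lift x u ≫ m = (x ≫ iH) * (u ≫ iU) := fun x u => by
    show lift x u ≫ ((fst H U ≫ iH) * (snd H U ≫ iU)) = _
    rw [MonObj.comp_mul, lift_fst_assoc, lift_snd_assoc]
  have hdec : ∀ a, (hp a ≫ iH) * (up a ≫ iU) = a := fun a => by
    rw [← hm]
    have e : lift (hp a) (up a) = a ≫ inv m := CartesianMonoidalCategory.hom_ext _ _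
      (by rw [lift_fst]; exact (Category.assoc _ _ _).symm) (by rw [lift_snd]; exact (Category.assoc _ _ _).symm)
    rw [e, Category.assoc, IsIso.inv_hom_id, Category.comp_id]
  have hp_eq : ∀ x u, hp ((x ≫ iH) * (u ≫ iU)) = x := fun x u => by
    show ((x ≫ iH) * (u ≫ iU)) ≫ inv m ≫ fst H U = x
    rw [← hm, Category.assoc, IsIso.hom_inv_id_assoc, lift_fst]
  let ψ : SGA7.Pts kb G →* SGA7.Pts kb H := MonoidHom.mk' hp fun a b => by
    obtain ⟨n', hn'⟩ := hUn _ (hp b ≫ iH)⁻¹ (up a)
    rw [_root_.inv_inv] at hn'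
    calc hp (a * b) = hp (((hp a * hp b) ≫ iH) * ((n' * up b) ≫ iU)) := by
          congr 1
          conv_lhs => rw [← hdec a, ← hdec b]
          rw [MonObj.mul_comp _ _ iH, MonObj.mul_comp _ _ iU, ← hn']
          group
      _ = hp a * hp b := hp_eq _ _
  let jH : SGA7.Pts kb H →* SGA7.Pts kb G := MonoidHom.mk' (· ≫ iH) fun x y => MonObj.mul_comp x y iH
  have hψj : ∀ x, ψ (jH x) = x := fun x => by
    show hp (x ≫ iH) = x
    conv_rhs => rw [← hp_eq x 1]
    rw [MonObj.one_comp, _root_.mul_one]
  have hψu : ∀ u : SGA7.Pts kb U, ψ (u ≫ iU) = 1 := fun u => by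
    show hp (u ≫ iU) = 1
    conv_rhs => rw [← hp_eq 1 u]
    rw [MonObj.one_comp, _root_.one_mul]
  have hM := hasMass_pairs (kb := kb) aG hG
  have hM' := hasMass_pairs (kb := kb) aH hH
  have key := Mass.mass_semidirect (fΓ := frobHom kb G) (fΔ := frobHom kb H) ψ jH hψj
    (fun a => by
      show hp (frobHom kb G a) = _
      rw [frobHom_apply, frobHom_apply]
      exact (Category.assoc _ _ _))
    (fun x => by
      show gs k (frobAut k kb) ≫ (x ≫ iH) = (gs k (frobAut k kb) ≫ x) ≫ iH
      rw [Category.assoc])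
    (fun a => by
      obtain ⟨x, hx⟩ := exists_lang_normal iU hUn (hp a ≫ iH)⁻¹ (up a)⁻¹
      refine ⟨(x ≫ iU)⁻¹, by rw [map_inv, hψu, inv_one], ?_⟩
      show frobHom kb G (x ≫ iU)⁻¹ * a * ((x ≫ iU)⁻¹)⁻¹ = hp a ≫ iH
      rw [GrpObj.inv_comp, _root_.inv_inv, _root_.mul_inv_rev, _root_.mul_inv_rev, _root_.inv_inv] at hx
      have hu : up a ≫ iU = ((x ≫ iU) * ((hp a ≫ iH)⁻¹ * ((frobAut k kb • (x ≫ iU))⁻¹ * (hp a ≫ iH))))⁻¹ := by
        rw [hx, _root_.inv_inv]
      conv_lhs => rw [← hdec a, hu]
      rw [map_inv, frobHom_apply]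
      group)
    (N := Nat.card k ^ d)
    (fun x => by
      rw [← card_twisted_fix iU hUn hUu d hd (x ≫ iH)⁻¹]
      refine Nat.card_congr
        { toFun := fun v => ⟨up v.1, ?_⟩
          invFun := fun u => ⟨u.1 ≫ iU, hψu u.1, ?_⟩
          left_inv := fun v => Subtype.ext ?_
          right_inv := fun u => Subtype.ext ?_ }
      · have hv : up v.1 ≫ iU = v.1 := by
          conv_rhs => rw [← hdec v.1]
          rw [show hp v.1 = 1 from v.2.1, MonObj.one_comp, _root_.one_mul]
        have h2 : frobHom kb G v.1 * (x ≫ iH) * v.1⁻¹ = x ≫ iH := v.2.2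
        rw [hv, _root_.inv_inv, ← frobHom_apply, _root_.mul_assoc, mul_inv_eq_iff_eq_mul.1 h2, inv_mul_cancel_left]
      · obtain ⟨u, h3⟩ := u
        rw [_root_.inv_inv, ← frobHom_apply, _root_.mul_assoc, inv_mul_eq_iff_eq_mul] at h3
        show frobHom kb G (u ≫ iU) * (x ≫ iH) * (u ≫ iU)⁻¹ = x ≫ iH
        rw [h3, mul_inv_cancel_right]
      · show up v.1 ≫ iU = v.1
        conv_rhs => rw [← hdec v.1]
        rw [show hp v.1 = 1 from v.2.1, MonObj.one_comp, _root_.one_mul]
      · show up (u.1 ≫ iU) = u.1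
        rw [← cancel_mono iU]
        conv_rhs => rw [← hdec (u.1 ≫ iU)]
        rw [show hp (u.1 ≫ iU) = 1 from hψu u.1, MonObj.one_comp, _root_.one_mul])
    (pow_ne_zero _ Nat.card_pos.ne')
    (Pairs.fstHom aG) (Pairs.fstHom aH)
    (fun x => by
      have hact : ∀ y : SGA7.Pts kb X, lift (x ≫ iH) y ≫ aG.act = lift x y ≫ aH.act := fun y => by
        rw [haH, lift_whiskerRight_assoc]
      refine Nat.card_congr
        { toFun := fun p => ⟨⟨(x, p.1.1.2), ?_⟩, rfl⟩
          invFun := fun p => ⟨⟨(jH x, p.1.1.2), ?_⟩, rfl⟩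
          left_inv := fun p => Subtype.ext (Pairs.ext aG p.2.symm rfl)
          right_inv := fun p => Subtype.ext (Pairs.ext aH p.2.symm rfl) }
      · rw [← hact]
        have h2 := p.1.2
        rw [show p.1.1.1 = _ from p.2] at h2
        exact h2
      · have h2 := p.1.2
        rw [show p.1.1.1 = _ from p.2] at h2
        exact (hact _).trans h2)
    finite_stabilizer_twConj finite_stabilizer_twConj hM hM'
  rwa [Nat.cast_pow] at key

end Groth.Agent.S15692
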