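import Groth.Statements.S15694
import Groth.Agent.StackCount.Product

set_option autoImplicit false
set_option backward.isDefEq.respectTransparency false
set_option backward.isDefEq.respectTransparency.types false
universe u
open CategoryTheory AlgebraicGeometry MonoidalCategory CartesianMonoidalCategory MonObj
open StackCount
open Groth.StackCount

namespace Groth.Agent.S15694

/-- Let k be a finite field with q elements and algebraic closure k̄, and G a smooth affine algebraic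
group over k of the form (F × H) ⋉ U: F, H, U are closed subgroups (monomorphic homomorphisms into
G), F and H commute elementwise, U is normal, and multiplication (f, h, u) ↦ f h u is an isomorphism
of k-schemes F × H × U → G. Assume F has unipotent identity component (its base change to k̄
contains no non-trivial subtorus) and dimension d_F, H is connected, and U is smooth, connected,
unipotent (no non-trivial subtorus over k̄) of dimension d_U. Let X = E × V with E finite and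
reduced over k and V isomorphic over k to affine n-space, and let G act on X so that the restriction
of the action to F is the product of an action of F on E and an action of F on V, the latter
factoring through a homomorphism from F to a smooth connected algebraic group acting on V. Choose
k̄-points e_j of E, indexed by a finite set J, one in each Galois-stable F(k̄)-orbit of E(k̄) and in
pairwise distinct orbits. If the groupoid of k-points of the quotient stack [X/G] (étale G-torsors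
as schemes with an equivariant map to X) is essentially finite, then its point count satisfies
#[X/G](k) · #H(k) · q^(d_U + d_F) = #J · q^n. (The published statement is for k′-points over any
finite extension k′ and reads #[X/G](k′) = #J · (#k′)^(dim V − dim U − dim F) / #H(k′); this row is
the case k′ = k with denominators cleared, and takes the groups affine so that torsors are schemes.) -/
theorem result (k : Type u) [Field k] [Finite k]
    (kb : Type u) [Field kb] [Algebra k kb] [IsAlgClosure k kb]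
    (G F H U : Over (Spec (CommRingCat.of k))) [GrpObj G] [GrpObj F] [GrpObj H] [GrpObj U]
    [Smooth G.hom] [IsAffineHom G.hom] [Smooth F.hom] [IsAffineHom F.hom]
    [Smooth H.hom] [IsAffineHom H.hom] [ConnectedSpace H.left]
    [Smooth U.hom] [IsAffineHom U.hom] [ConnectedSpace U.left]
    (iF : F ⟶ G) (iH : H ⟶ G) (iU : U ⟶ G) [IsMonHom iF] [IsMonHom iH] [IsMonHom iU]
    [Mono iF] [Mono iH] [Mono iU]
    (hFH : (fst F H ≫ iF) * (snd F H ≫ iH) = (snd F H ≫ iH) * (fst F H ≫ iF))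
    (hUn : AlgGrp.IsNormalHom iU)
    (hsd : IsIso ((fst (F ⊗ H) U ≫ fst F H ≫ iF) * (fst (F ⊗ H) U ≫ snd F H ≫ iH) * (snd (F ⊗ H) U ≫ iU)))
    (hFu : Red.HasNoSubtorus kb (GalTw.bcK kb F)) (hUu : Red.HasNoSubtorus kb (GalTw.bcK kb U))
    (dF dU : ℕ) (hdF : topologicalKrullDim ↥F.left = (dF : WithBot ℕ∞))
    (hdU : topologicalKrullDim ↥U.left = (dU : WithBot ℕ∞))
    (E V : Over (Spec (CommRingCat.of k))) [IsFinite E.hom] [IsReduced E.left]
    (n : ℕ) (eV : V.left ≅ 𝔸(ULift.{u} (Fin n); Spec (CommRingCat.of k)))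
    (heV : eV.hom ≫ (𝔸(ULift.{u} (Fin n); Spec (CommRingCat.of k)) ↘ Spec (CommRingCat.of k)) = V.hom)
    (aX : AlgGrp.Action G (E ⊗ V)) (aE : AlgGrp.Action F E) (aV : AlgGrp.Action F V)
    (haF : (iF ▷ (E ⊗ V)) ≫ aX.act =
      lift (lift (fst F (E ⊗ V)) (snd F (E ⊗ V) ≫ fst E V) ≫ aE.act)
        (lift (fst F (E ⊗ V)) (snd F (E ⊗ V) ≫ snd E V) ≫ aV.act))
    (Fc : Over (Spec (CommRingCat.of k))) [GrpObj Fc] [Smooth Fc.hom] [QuasiCompact Fc.hom]
    [ConnectedSpace Fc.left] (ρ : F ⟶ Fc) [IsMonHom ρ] (aVc : AlgGrp.Action Fc V)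
    (haV : aV.act = (ρ ▷ V) ≫ aVc.act)
    (J : Type) [Fintype J] (e : J → SGA7.Pts kb E)
    (hdis : ∀ j j' : J, (∃ g : SGA7.Pts kb F, lift g (e j) ≫ aE.act = e j') → j = j')
    (hfix : ∀ (j : J) (σ : kb ≃ₐ[k] kb), ∃ g : SGA7.Pts kb F, lift g (σ • e j) ≫ aE.act = e j)
    (hall : ∀ y : SGA7.Pts kb E,
      (∀ σ : kb ≃ₐ[k] kb, ∃ g : SGA7.Pts kb F, lift g (σ • y) ≫ aE.act = y) →
        ∃ (j : J) (g : SGA7.Pts kb F), lift g (e j) ≫ aE.act = y)
    (h : StkCnt.IsEssFinite (StkCnt.pts (AlgSt.QuotSt Scheme.etalePrecoverage G aX) k)) :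
    StkCnt.ptCount (AlgSt.QuotSt Scheme.etalePrecoverage G aX) k h *
        (Nat.card (SGA7.Pts k H) : ℚ) * (Nat.card k : ℚ) ^ (dU + dF) =
      (Fintype.card J : ℚ) * (Nat.card k : ℚ) ^ n := by
  classical
  have : IsAlgClosed kb := IsAlgClosure.isAlgClosed k
  have : Algebra.IsAlgebraic k kb := IsAlgClosure.isAlgebraic
  have : IsGalois k kb := ⟨⟩
  have : IsFinite E.hom := ‹_›
  have hVlft : LocallyOfFiniteType V.hom := by rw [← heV]; infer_instance
  have : QuasiCompact V.hom := by rw [← heV]; infer_instance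
  have : QuasiCompact F.hom := inferInstance
  have : LocallyOfFiniteType (E ⊗ V).hom :=
    inferInstanceAs (LocallyOfFiniteType (Limits.pullback.fst E.hom V.hom ≫ E.hom))
  have : QuasiCompact (E ⊗ V).hom :=
    inferInstanceAs (QuasiCompact (Limits.pullback.fst E.hom V.hom ≫ E.hom))
  let Γ := SGA7.Pts kb G
  -- the coordinates
  let m : (F ⊗ H) ⊗ U ⟶ G :=
    (fst (F ⊗ H) U ≫ fst F H ≫ iF) * (fst (F ⊗ H) U ≫ snd F H ≫ iH) * (snd (F ⊗ H) U ≫ iU)
  have : IsIso m := hsd
  let φ : SGA7.Pts kb F → SGA7.Pts kb H → SGA7.Pts kb U → Γ := fun f x u => (f ≫ iF) * (x ≫ iH) * (u ≫ iU)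
  have hm : ∀ f x u, lift (lift f x) u ≫ m = φ f x u := fun f x u => by
    show lift (lift f x) u ≫ ((fst (F ⊗ H) U ≫ fst F H ≫ iF) * (fst (F ⊗ H) U ≫ snd F H ≫ iH) *
      (snd (F ⊗ H) U ≫ iU)) = _
    rw [MonObj.comp_mul, MonObj.comp_mul, lift_fst_assoc, lift_fst_assoc, lift_snd_assoc, lift_fst_assoc,
      lift_snd_assoc]
  let fp : Γ → SGA7.Pts kb F := fun a => a ≫ inv m ≫ fst (F ⊗ H) U ≫ fst F H
  let hp : Γ → SGA7.Pts kb H := fun a => a ≫ inv m ≫ fst (F ⊗ H) U ≫ snd F H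
  let up : Γ → SGA7.Pts kb U := fun a => a ≫ inv m ≫ snd (F ⊗ H) U
  have hdec : ∀ a, φ (fp a) (hp a) (up a) = a := fun a => by
    rw [← hm]
    have e : lift (lift (fp a) (hp a)) (up a) = a ≫ inv m := by
      refine CartesianMonoidalCategory.hom_ext _ _ (CartesianMonoidalCategory.hom_ext _ _ ?_ ?_) ?_ <;>
        simp [fp, hp, up, Category.assoc]
    rw [e, Category.assoc, IsIso.inv_hom_id, Category.comp_id]
  have hfp : ∀ f x u, fp (φ f x u) = f := fun f x u => by
    show φ f x u ≫ inv m ≫ fst (F ⊗ H) U ≫ fst F H = f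
    rw [← hm, Category.assoc, IsIso.hom_inv_id_assoc, lift_fst_assoc, lift_fst]
  have hhp : ∀ f x u, hp (φ f x u) = x := fun f x u => by
    show φ f x u ≫ inv m ≫ fst (F ⊗ H) U ≫ snd F H = x
    rw [← hm, Category.assoc, IsIso.hom_inv_id_assoc, lift_fst_assoc, lift_snd]
  have hup : ∀ f x u, up (φ f x u) = u := fun f x u => by
    show φ f x u ≫ inv m ≫ snd (F ⊗ H) U = u
    rw [← hm, Category.assoc, IsIso.hom_inv_id_assoc, lift_snd]
  have hcomm : ∀ (f : SGA7.Pts kb F) (x : SGA7.Pts kb H), (f ≫ iF) * (x ≫ iH) = (x ≫ iH) * (f ≫ iF) :=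
    fun f x => by
    have := congrArg (lift f x ≫ ·) hFH
    simpa [MonObj.comp_mul, lift_fst_assoc, lift_snd_assoc] using this
  let ψ : Γ →* SGA7.Pts kb F := MonoidHom.mk' fp fun a b => by
    obtain ⟨n', hn'⟩ := hUn _ ((fp b ≫ iF) * (hp b ≫ iH))⁻¹ (up a)
    rw [_root_.inv_inv] at hn'
    calc fp (a * b) = fp (φ (fp a * fp b) (hp a * hp b) (n' * up b)) := by
          congr 1
          conv_lhs => rw [← hdec a, ← hdec b]
          simp only [φ]
          rw [MonObj.mul_comp _ _ iF, MonObj.mul_comp _ _ iH, MonObj.mul_comp _ _ iU, ← hn',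
            show (fp a ≫ iF) * (fp b ≫ iF) * ((hp a ≫ iH) * (hp b ≫ iH)) =
              (fp a ≫ iF) * ((fp b ≫ iF) * (hp a ≫ iH)) * (hp b ≫ iH) by group, hcomm (fp b) (hp a)]
          group
      _ = fp a * fp b := hfp _ _ _
  let jF : SGA7.Pts kb F →* Γ := MonoidHom.mk' (· ≫ iF) fun x y => MonObj.mul_comp x y iF
  have hφF : ∀ f, f ≫ iF = φ f 1 1 := fun f => by
    simp only [φ]
    rw [MonObj.one_comp, MonObj.one_comp, _root_.mul_one, _root_.mul_one]
  have hφH : ∀ x, x ≫ iH = φ 1 x 1 := fun x => by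
    simp only [φ]
    rw [MonObj.one_comp, MonObj.one_comp, _root_.one_mul, _root_.mul_one]
  have hφU : ∀ u, u ≫ iU = φ 1 1 u := fun u => by
    simp only [φ]
    rw [MonObj.one_comp, MonObj.one_comp, _root_.one_mul, _root_.one_mul]
  have hψj : ∀ f, ψ (jF f) = f := fun f => by show fp (f ≫ iF) = f; rw [hφF, hfp]
  have hψH : ∀ x, ψ (x ≫ iH) = 1 := fun x => by show fp (x ≫ iH) = 1; rw [hφH, hfp]
  have hψU : ∀ u, ψ (u ≫ iU) = 1 := fun u => by show fp (u ≫ iU) = 1; rw [hφU, hfp]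
  have hker : ∀ v, ψ v = 1 → v = (hp v ≫ iH) * (up v ≫ iU) := fun v hv => by
    conv_lhs => rw [← hdec v]
    simp only [φ]
    rw [show fp v = 1 from hv, MonObj.one_comp, _root_.one_mul]
  have hFi : ∀ {A : Over (Spec (CommRingCat.of k))} [GrpObj A] (x : SGA7.Pts kb A) (i : A ⟶ G),
      frobHom kb G (x ≫ i) = (frobAut k kb • x) ≫ i := fun x i => by
    show gs k (frobAut k kb) ≫ (x ≫ i) = (gs k (frobAut k kb) ≫ x) ≫ i
    rw [Category.assoc]
  -- the kernel fixed by the twisted Frobenius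
  have hN : ∀ f : SGA7.Pts kb F,
      Nat.card {v : Γ // ψ v = 1 ∧ frobHom kb G v * jF f * v⁻¹ = jF f} =
        Nat.card (SGA7.Pts k H) * Nat.card k ^ dU := fun f => by
    rw [card_pts_eq_frob_fixed (kb := kb) H, ← card_twisted_fix iU hUn hUu dU hdU (f ≫ iF)⁻¹, ← Nat.card_prod]
    have hsplit : ∀ v : Γ, ψ v = 1 → frobHom kb G v * jF f * v⁻¹ = jF f →
        frobAut k kb • hp v = hp v ∧
          (f ≫ iF)⁻¹ * frobAut k kb • (up v ≫ iU) * (f ≫ iF)⁻¹⁻¹ = up v ≫ iU := fun v hv hv' => by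
      rw [hker v hv, map_mul, hFi, hFi, _root_.mul_inv_rev] at hv'
      obtain ⟨w, hw⟩ := hUn _ (f ≫ iF)⁻¹ (frobAut k kb • up v)
      rw [_root_.inv_inv] at hw
      have hw' : ((frobAut k kb • up v) ≫ iU) * (f ≫ iF) = (f ≫ iF) * (w ≫ iU) := by
        rw [← hw]; group
      have hv'' : ((frobAut k kb • hp v) ≫ iH) * (((frobAut k kb • up v) ≫ iU) * (f ≫ iF)) *
          (up v ≫ iU)⁻¹ * (hp v ≫ iH)⁻¹ = f ≫ iF := by
        refine Eq.trans ?_ hv'
        show _ = _ * (f ≫ iF) * _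
        group
      rw [hw', ← _root_.mul_assoc, ← hcomm f] at hv''
      have h2 : (w * (up v)⁻¹) ≫ iU = ((frobAut k kb • hp v)⁻¹ * hp v) ≫ iH := by
        rw [MonObj.mul_comp w _ iU, MonObj.mul_comp _ _ iH, GrpObj.inv_comp, GrpObj.inv_comp]
        have h3 := hv''
        rw [mul_inv_eq_iff_eq_mul, show (f ≫ iF) * ((frobAut k kb • hp v) ≫ iH) * (w ≫ iU) * (up v ≫ iU)⁻¹ =
          (f ≫ iF) * (((frobAut k kb • hp v) ≫ iH) * ((w ≫ iU) * (up v ≫ iU)⁻¹)) by group] at h3
        rw [← mul_left_cancel h3]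
        group
      have h4 := congrArg hp h2
      rw [hφU, hφH, hhp, hhp] at h4
      have h5 := congrArg up h2
      rw [hφU, hφH, hup, hup] at h5
      have hwu : w = up v := mul_inv_eq_one.1 h5
      refine ⟨eq_of_inv_mul_eq_one h4.symm, ?_⟩
      rw [_root_.inv_inv, ← frobHom_apply, hFi]
      exact hw.trans (by rw [hwu])
    refine Nat.card_congr
      { toFun := fun v => (⟨hp v.1, (hsplit v.1 v.2.1 v.2.2).1⟩, ⟨up v.1, (hsplit v.1 v.2.1 v.2.2).2⟩)
        invFun := fun z => ⟨(z.1.1 ≫ iH) * (z.2.1 ≫ iU), by rw [map_mul, hψH, hψU, _root_.mul_one], ?_⟩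
        left_inv := fun v => Subtype.ext (hker v.1 v.2.1).symm
        right_inv := fun z => ?_ }
    · obtain ⟨⟨x, hx⟩, ⟨u, hu⟩⟩ := z
      show frobHom kb G ((x ≫ iH) * (u ≫ iU)) * (f ≫ iF) * ((x ≫ iH) * (u ≫ iU))⁻¹ = f ≫ iF
      rw [map_mul, hFi, hx, frobHom_apply]
      rw [_root_.inv_inv] at hu
      calc (x ≫ iH) * frobAut k kb • (u ≫ iU) * (f ≫ iF) * ((x ≫ iH) * (u ≫ iU))⁻¹
          = (x ≫ iH) * (f ≫ iF) * ((f ≫ iF)⁻¹ * frobAut k kb • (u ≫ iU) * (f ≫ iF)) * (u ≫ iU)⁻¹ *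
              (x ≫ iH)⁻¹ := by group
        _ = (f ≫ iF) := by rw [hu, ← hcomm]; group
    · obtain ⟨⟨x, hx⟩, ⟨u, hu⟩⟩ := z
      have e : (x ≫ iH) * (u ≫ iU) = φ 1 x u := by simp only [φ]; rw [MonObj.one_comp, _root_.one_mul]
      exact Prod.ext (Subtype.ext (by show hp ((x ≫ iH) * (u ≫ iU)) = x; rw [e, hhp]))
        (Subtype.ext (by show up ((x ≫ iH) * (u ≫ iU)) = u; rw [e, hup]))
  -- pairs on the finite part
  let S : J → Subgroup (SGA7.Pts kb F) := fun j =>
    { carrier := {g | lift g (e j) ≫ aE.act = e j}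
      one_mem' := Groth.AlgGrp2.lift_one_act aE (e j)
      mul_mem' := fun {a b} ha hb => by
        show lift (a * b) (e j) ≫ aE.act = e j
        rw [Groth.AlgGrp2.lift_mul_act, hb, ha]
      inv_mem' := fun {a} ha => lift_inv_act aE ha }
  have := finite_geomPts_of_isFinite kb E
  have hME : Mass.HasMass (SGA7.Pts kb F) (Pairs kb aE) (∑ _j : J, ((Nat.card k : ℚ) ^ dF)⁻¹) := by
    refine hasMass_pairs_of_orbits aE e hdis hfix hall S (fun j g => Iff.rfl) _ fun j c τ hτ => ?_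
    have : Finite (SGA7.Pts kb F ⧸ S j) := Finite.of_injective (fun q => lift q.out (e j) ≫ aE.act) fun a b hab => by
      rw [← QuotientGroup.out_eq' a, ← QuotientGroup.out_eq' b, QuotientGroup.eq]
      show lift (a.out⁻¹ * b.out) (e j) ≫ aE.act = e j
      have hab' : lift a.out (e j) ≫ aE.act = lift b.out (e j) ≫ aE.act := hab
      rw [Groth.AlgGrp2.lift_mul_act, ← hab', ← Groth.AlgGrp2.lift_mul_act, inv_mul_cancel,
        Groth.AlgGrp2.lift_one_act]
    have : (S j).FiniteIndex := Subgroup.finiteIndex_of_finite_quotient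
    obtain ⟨Z, s, hs, hZ⟩ := exists_stab_subscheme aE (e j)
    exact exists_mass_finiteIndex hFu dF hdF (S j) s hZ c τ hτ
  have hqn : Nat.card k ^ n ≠ 0 := pow_ne_zero _ Nat.card_pos.ne'
  have hM' := hasMass_pairs2 aE aV hME (Nat.card k ^ n) hqn fun a => by
    rw [← card_pts_affineSpace V n eV heV, ← card_twisted_pts aVc (a ≫ ρ)]
    refine Nat.card_congr (Equiv.subtypeEquivRight fun v => ?_)
    rw [haV, lift_whiskerRight_assoc]
  have hM := hasMass_pairs (kb := kb) aX h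
  have := Groth.StackCount.finite_pts k H
  have key := Mass.mass_semidirect (fΓ := frobHom kb G) (fΔ := frobHom kb F) ψ jF hψj
    (fun a => by
      show fp (frobHom kb G a) = _
      rw [frobHom_apply, frobHom_apply]
      exact (Category.assoc _ _ _))
    (fun f => hFi f iF)
    (fun a => by
      obtain ⟨x, hx⟩ := exists_lang_normal iU hUn ((fp a ≫ iF) * (hp a ≫ iH))⁻¹ (up a)⁻¹
      obtain ⟨y, hy⟩ := exists_lang_normal (𝟙 H)
        (fun _ g z => ⟨g * z * g⁻¹, by rw [Category.comp_id, Category.comp_id]⟩) 1 (hp a)⁻¹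
      simp only [Category.comp_id, _root_.one_mul, inv_one, _root_.mul_one] at hy
      have hy' : hp a = frobAut k kb • y * y⁻¹ := by
        rw [← _root_.inv_inv (hp a), ← hy, _root_.mul_inv_rev, _root_.inv_inv]
      refine ⟨(y⁻¹ ≫ iH) * (x ≫ iU)⁻¹, by rw [map_mul, map_inv, hψH, hψU, inv_one, _root_.mul_one], ?_⟩
      show frobHom kb G ((y⁻¹ ≫ iH) * (x ≫ iU)⁻¹) * a * ((y⁻¹ ≫ iH) * (x ≫ iU)⁻¹)⁻¹ = fp a ≫ iF
      have hu : up a ≫ iU = ((x ≫ iU) * (((fp a ≫ iF) * (hp a ≫ iH))⁻¹ * frobAut k kb • (x ≫ iU) *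
          ((fp a ≫ iF) * (hp a ≫ iH))⁻¹⁻¹)⁻¹)⁻¹ := by
        rw [hx, GrpObj.inv_comp, _root_.inv_inv]
      have h1 : frobHom kb G (x ≫ iU)⁻¹ * a * (x ≫ iU) = (fp a ≫ iF) * (hp a ≫ iH) := by
        conv_lhs => rw [← hdec a]
        simp only [φ]
        rw [hu, map_inv, frobHom_apply]
        group
      rw [map_mul, _root_.mul_inv_rev, _root_.inv_inv,
        show frobHom kb G (y⁻¹ ≫ iH) * frobHom kb G (x ≫ iU)⁻¹ * a * ((x ≫ iU) * (y⁻¹ ≫ iH)⁻¹) =
          frobHom kb G (y⁻¹ ≫ iH) * (frobHom kb G (x ≫ iU)⁻¹ * a * (x ≫ iU)) * (y⁻¹ ≫ iH)⁻¹ by group, h1,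
        hFi, smul_inv', hy', MonObj.mul_comp _ _ iH, GrpObj.inv_comp, GrpObj.inv_comp, _root_.inv_inv,
        ← _root_.mul_assoc, show ((frobAut k kb • y) ≫ iH)⁻¹ * (fp a ≫ iF) =
          (fp a ≫ iF) * ((frobAut k kb • y) ≫ iH)⁻¹ by rw [← GrpObj.inv_comp, hcomm]]
      group)
    (N := Nat.card (SGA7.Pts k H) * Nat.card k ^ dU) hN
    (mul_ne_zero Nat.card_pos.ne' (pow_ne_zero _ Nat.card_pos.ne'))
    (Pairs.fstHom aX) (Pairs2.fstHom aE aV)
    (fun f => by
      have hact : ∀ x : SGA7.Pts kb (E ⊗ V), lift (f ≫ iF) x ≫ aX.act =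
          lift (lift f (x ≫ fst E V) ≫ aE.act) (lift f (x ≫ snd E V) ≫ aV.act) := fun x => by
        rw [← lift_whiskerRight_assoc f x iF, haF]
        simp [comp_lift, comp_lift_assoc]
      refine Nat.card_congr
        { toFun := fun p => ⟨⟨(⟨(f, p.1.1.2 ≫ fst E V), ?_⟩, p.1.1.2 ≫ snd E V), ?_⟩, rfl⟩
          invFun := fun p => ⟨⟨(jF f, lift p.1.1.1.1.2 p.1.1.2), ?_⟩, rfl⟩
          left_inv := fun p => Subtype.ext (Pairs.ext aX p.2.symm
            (CartesianMonoidalCategory.hom_ext _ _ (by simp) (by simp)))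
          right_inv := fun p => Subtype.ext (Pairs2.ext aE aV (Pairs.ext aE p.2.symm (by simp)) (by simp)) }
      · have h2 : lift (jF f) p.1.1.2 ≫ aX.act = frobAut k kb • p.1.1.2 := by
          have h3 := p.1.2; rw [show p.1.1.1 = _ from p.2] at h3; exact h3
        have h4 := congrArg (· ≫ fst E V) ((hact _).symm.trans h2)
        simp only [lift_fst] at h4
        exact h4.trans (Category.assoc _ _ _)
      · have h2 : lift (jF f) p.1.1.2 ≫ aX.act = frobAut k kb • p.1.1.2 := by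
          have h3 := p.1.2; rw [show p.1.1.1 = _ from p.2] at h3; exact h3
        have h4 := congrArg (· ≫ snd E V) ((hact _).symm.trans h2)
        simp only [lift_snd] at h4
        exact h4.trans (Category.assoc _ _ _)
      · have h2 := p.1.1.1.2
        have h3 := p.1.2
        rw [show p.1.1.1.1.1 = _ from p.2] at h2 h3
        refine (hact _).trans ?_
        rw [lift_fst, lift_snd]
        exact (congrArg₂ lift h2 h3).trans (comp_lift _ _ _).symm)
    finite_stabilizer_twConj finite_stabilizer_twConj hM hM'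
  rw [Finset.sum_const, Finset.card_univ, nsmul_eq_mul, Nat.cast_mul, Nat.cast_pow, Nat.cast_pow] at key
  have hq : (Nat.card k : ℚ) ^ dF ≠ 0 := pow_ne_zero _ (Nat.cast_ne_zero.2 Nat.card_pos.ne')
  rw [pow_add, ← _root_.mul_assoc, _root_.mul_assoc _ (Nat.card (SGA7.Pts k H) : ℚ), key]
  field_simp

end Groth.Agent.S15694
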