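import Groth.Statements.S15697
import Groth.Agent.Misc10.InvFld.Linear


set_option autoImplicit false
universe u
open InvFld

namespace Groth.Agent.S15697

/-- Let k be a characteristic-zero field and suppose a finite group acts k-linearly on
finite-dimensional k-vector spaces V and W, faithfully on V. Then k(V ⊕ W)^G is purely
transcendental over k(V)^G, of transcendence degree dim W. Stated with V = k^n, W = k^m inside L =
k(x_1, ..., x_n, y_1, ..., y_m): G is a finite group of k-algebra automorphisms of L sending each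
x_i into the k-span of the x's and each y_j into the k-span of the y's, such that an element of G
fixing every x_i is trivial; F is the intersection of k(x_1, ..., x_n) with the fixed field of G;
then there are y'_1, ..., y'_m in L, algebraically independent over F, with F(y'_1, ..., y'_m) equal
to the fixed field of G. -/
theorem result (k : Type u) [Field k] [CharZero k] (n m : ℕ)
    (G : Subgroup (InvFld.Fld (Fin n ⊕ Fin m) k ≃ₐ[k] InvFld.Fld (Fin n ⊕ Fin m) k)) [Finite G]
    (hx : ∀ σ ∈ G, ∀ i : Fin n, σ (InvFld.X (Sum.inl i)) ∈ Submodule.span k (Set.range fun j : Fin n => (InvFld.X (Sum.inl j) : InvFld.Fld (Fin n ⊕ Fin m) k)))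
    (hy : ∀ σ ∈ G, ∀ i : Fin m, σ (InvFld.X (Sum.inr i)) ∈ Submodule.span k (Set.range fun j : Fin m => (InvFld.X (Sum.inr j) : InvFld.Fld (Fin n ⊕ Fin m) k)))
    (hfaith : ∀ σ ∈ G, (∀ i : Fin n, σ (InvFld.X (Sum.inl i)) = InvFld.X (Sum.inl i)) → σ = 1) :
    ∃ t : Fin m → InvFld.Fld (Fin n ⊕ Fin m) k,
      AlgebraicIndependent (↥(IntermediateField.adjoin k (Set.range fun j : Fin n => (InvFld.X (Sum.inl j) : InvFld.Fld (Fin n ⊕ Fin m) k)) ⊓ IntermediateField.fixedField G)) t ∧
      IntermediateField.restrictScalars k (IntermediateField.adjoin (↥(IntermediateField.adjoin k (Set.range fun j : Fin n => (InvFld.X (Sum.inl j) : InvFld.Fld (Fin n ⊕ Fin m) k)) ⊓ IntermediateField.fixedField G)) (Set.range t)) =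
        IntermediateField.fixedField G := by
  classical
  let L := InvFld.Fld (Fin n ⊕ Fin m) k
  let x : Fin n → L := fun i => InvFld.X (Sum.inl i)
  let y : Fin m → L := fun j => InvFld.X (Sum.inr j)
  let M : IntermediateField k L := IntermediateField.adjoin k (Set.range x)
  let F : IntermediateField k L := M ⊓ IntermediateField.fixedField G
  have hstab : ∀ g : G, ∀ a ∈ M, (g : L ≃ₐ[k] L) a ∈ M := fun g => by
    have h : M ≤ M.comap ((g : L ≃ₐ[k] L) : L →ₐ[k] L) := by
      rw [IntermediateField.adjoin_le_iff]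
      rintro _ ⟨i, rfl⟩
      exact (Submodule.span_le (p := M.toSubalgebra.toSubmodule)).2
        (fun a ha => IntermediateField.subset_adjoin k _ ha) (hx g g.2 i)
    exact fun a ha => h ha
  let μ₀ : G → (M →ₐ[k] M) := fun g =>
    ((((g : L ≃ₐ[k] L) : L →ₐ[k] L)).comp M.val).codRestrict M.toSubalgebra fun a => hstab g a a.2
  let μ : G →* (M ≃ₐ[k] M) :=
    { toFun := fun g => AlgEquiv.ofAlgHom (μ₀ g) (μ₀ g⁻¹)
        (AlgHom.ext fun a => Subtype.ext (AlgEquiv.apply_symm_apply (g : L ≃ₐ[k] L) a.1))
        (AlgHom.ext fun a => Subtype.ext (AlgEquiv.symm_apply_apply (g : L ≃ₐ[k] L) a.1))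
      map_one' := AlgEquiv.ext fun a => Subtype.ext rfl
      map_mul' := fun g h => AlgEquiv.ext fun a => Subtype.ext rfl }
  have hμ : Function.Injective μ := by
    rw [injective_iff_map_eq_one]
    intro g hg
    refine Subtype.ext (hfaith g g.2 fun i => ?_)
    exact congrArg Subtype.val (DFunLike.congr_fun hg
      (⟨x i, IntermediateField.subset_adjoin k (Set.range x) ⟨i, rfl⟩⟩ : M))
  let _ : Algebra F M := (IntermediateField.inclusion (inf_le_left : F ≤ M)).toAlgebra
  have : IsScalarTower F M L := IsScalarTower.of_algebraMap_eq fun _ => rfl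
  have hall : AlgebraicIndependent k (Sum.elim y x) := by
    have := (Groth.Misc10.InvFld.algebraicIndependent_X k (α := Fin n ⊕ Fin m)).comp
      (Equiv.sumComm (Fin m) (Fin n)) (Equiv.injective _)
    convert this using 1
    funext i; rcases i with i | i <;> rfl
  have hgen : IntermediateField.adjoin k (Set.range x ∪ Set.range y) = ⊤ := by
    rw [← Groth.Misc10.InvFld.adjoin_X_eq_top]
    congr 1
    ext a
    constructor
    · rintro (⟨i, rfl⟩ | ⟨j, rfl⟩) <;> exact ⟨_, rfl⟩
    · rintro ⟨i | j, rfl⟩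
      exacts [Or.inl ⟨i, rfl⟩, Or.inr ⟨j, rfl⟩]
  obtain ⟨hyi, hyg⟩ := Groth.Misc10.InvFld.indep_gen_of_split (M := M) hall hgen (by
    exact IntermediateField.fieldRange_val M)
  obtain ⟨φ, hφ⟩ := Groth.Misc10.InvFld.exists_frame G.subtype μ (F := F) (fun _ _ => rfl) hμ
    (fun a => ⟨fun ⟨b, hb⟩ g => by
      subst hb
      exact Subtype.ext ((IntermediateField.mem_fixedField_iff G b.1).1 b.2.2 g g.2),
      fun h => ⟨⟨a.1, a.2, (IntermediateField.mem_fixedField_iff G a.1).2 fun f hf =>
        congrArg Subtype.val (h ⟨f, hf⟩)⟩, rfl⟩⟩)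
    y hyi hyg (fun g j => Submodule.span_subset_span k M _ (hy g g.2 j))
  refine ⟨fun j => φ (InvFld.X j), ?_, ?_⟩
  · exact (Groth.Misc10.InvFld.algebraicIndependent_X (↥F)).map' (f := φ) φ.injective
  · apply SetLike.ext
    intro a
    rw [IntermediateField.mem_restrictScalars, IntermediateField.mem_fixedField_iff]
    have h : IntermediateField.adjoin F (Set.range fun j => φ (InvFld.X j)) = φ.fieldRange := by
      rw [AlgHom.fieldRange_eq_map, ← Groth.Misc10.InvFld.adjoin_X_eq_top, IntermediateField.adjoin_map,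
        ← Set.range_comp]
      rfl
    exact (SetLike.ext_iff.1 h a).trans ((hφ a).trans ⟨fun h f hf => h ⟨f, hf⟩, fun h g => h g g.2⟩)

end Groth.Agent.S15697
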