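import Groth.Statements.S15698
import Groth.Agent.Misc10.InvFld.Perm


set_option autoImplicit false
universe u
open InvFld

namespace Groth.Agent.S15698

theorem transfer {k A B ι κ : Type*} [Field k] [Field A] [Field B] [Algebra k A] [Algebra k B]
    (r : ι ≃ κ) (e : A ≃ₐ[k] B) (u : ι → A) (hu : AlgebraicIndependent k u)
    (hg : IntermediateField.adjoin k (Set.range u) = ⊤) :
    ∃ t : κ → B, AlgebraicIndependent k t ∧ IntermediateField.adjoin k (Set.range t) = ⊤ := by
  refine ⟨e ∘ u ∘ r.symm, (hu.comp _ r.symm.injective).map' (f := e.toAlgHom) e.injective, ?_⟩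
  rw [← Function.comp_assoc, r.symm.surjective.range_comp, Set.range_comp]
  have h := IntermediateField.adjoin_map k (Set.range u) e.toAlgHom
  rw [hg, ← AlgHom.fieldRange_eq_map, AlgHom.fieldRange_eq_top.2 e.surjective] at h
  exact h.symm

/-- Let k be a characteristic-zero field; for each faithful finite-dimensional linear representation V
of the symmetric group S_n over k, the field of invariants k(V)^{S_n} is stably pure over k. Stated
with V = k^m: G is a finite group of k-algebra automorphisms of k(x_1, ..., x_m), each sending every
variable to a k-linear combination of the variables, isomorphic as an abstract group to the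
symmetric group on n letters; then for some r the rational function field in r variables over the
fixed field of G is generated over k by finitely many algebraically independent elements. -/
theorem result (k : Type u) [Field k] [CharZero k] (n m : ℕ)
    (G : Subgroup (InvFld.Fld (Fin m) k ≃ₐ[k] InvFld.Fld (Fin m) k)) [Finite G] (e : G ≃* Equiv.Perm (Fin n))
    (hG : ∀ σ ∈ G, ∀ i : Fin m, σ (InvFld.X i) ∈ Submodule.span k (Set.range fun j : Fin m => (InvFld.X j : InvFld.Fld (Fin m) k))) :
    ∃ (r N : ℕ) (t : Fin N → InvFld.Fld (Fin r) (IntermediateField.fixedField G)),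
      AlgebraicIndependent k t ∧ IntermediateField.adjoin k (Set.range t) = ⊤ := by
  obtain ⟨p, hlin, hinj, hp⟩ := Groth.Misc10.InvFld.exists_permHom k n
  let F' : IntermediateField k (InvFld.Fld (Fin n) k) := IntermediateField.fixedField p.range
  have hF' : ∀ a, a ∈ F' ↔ ∀ σ, p σ a = a := fun a => by
    simp [F', IntermediateField.mem_fixedField_iff]
  obtain ⟨φ⟩ := Groth.Misc10.InvFld.exists_stable_equiv (f := G.subtype.comp e.symm.toMonoidHom)
    (fun σ i => hG (e.symm σ) (e.symm σ).2 i) (Subtype.val_injective.comp e.symm.injective)
    (f' := p) hlin hinj (IntermediateField.fixedField G) (fun a => by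
      rw [IntermediateField.mem_fixedField_iff]
      exact ⟨fun h σ => h (e.symm σ) (e.symm σ).2, fun h f hf => by simpa using h (e ⟨f, hf⟩)⟩)
    F' hF'
  obtain ⟨t, hti, htg⟩ := Groth.Misc10.InvFld.exists_indep_gen_fixed k n p hp F' hF'
  let u : Fin m ⊕ Fin n → InvFld.Fld (Fin m) F' :=
    Sum.elim InvFld.X (algebraMap F' (InvFld.Fld (Fin m) F') ∘ t)
  have hui : AlgebraicIndependent k u :=
    AlgebraicIndependent.sumElim_comp hti (Groth.Misc10.InvFld.algebraicIndependent_X (↥F'))
  have hug : IntermediateField.adjoin k (Set.range u) = ⊤ := by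
    refine eq_top_iff.2 fun a _ => ?_
    let A := IntermediateField.adjoin k (Set.range u)
    have hc : ∀ c : F', algebraMap F' (InvFld.Fld (Fin m) F') c ∈ A := by
      have h : IntermediateField.adjoin k (Set.range t) ≤
          A.comap (IsScalarTower.toAlgHom k F' (InvFld.Fld (Fin m) F')) := by
        rw [IntermediateField.adjoin_le_iff]
        rintro _ ⟨i, rfl⟩
        exact IntermediateField.subset_adjoin k _ ⟨Sum.inr i, rfl⟩
      rw [htg] at h
      exact fun c => h IntermediateField.mem_top
    have key : ∀ q : MvPolynomial (Fin m) F', algebraMap _ (InvFld.Fld (Fin m) F') q ∈ A := fun q => by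
      induction q using MvPolynomial.induction_on with
      | C a => rw [← MvPolynomial.algebraMap_eq, ← IsScalarTower.algebraMap_apply]; exact hc a
      | add p q hp hq => rw [map_add]; exact add_mem hp hq
      | mul_X p i hp =>
        rw [map_mul]
        exact mul_mem hp (IntermediateField.subset_adjoin k _ ⟨Sum.inl i, rfl⟩)
    obtain ⟨q, q', -, rfl⟩ := IsFractionRing.div_surjective (MvPolynomial (Fin m) F') a
    exact div_mem (key q) (key q')
  exact ⟨n, m + n, transfer finSumFinEquiv φ.symm u hui hug⟩

end Groth.Agent.S15698
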