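import Groth.Statements.S15699
import Mathlib.AlgebraicGeometry.Birational.Birational
import Mathlib.Algebra.MvPolynomial.Supported
import Mathlib.Algebra.MvPolynomial.Funext

namespace Groth.Agent.S15699.Aux

open AlgebraicGeometry CategoryTheory

/-- A polynomial ring with a finite type nonzero localisation has finitely many variables. -/
theorem finite_of_finiteType_away {k : Type*} [Field k] {σ : Type*} (p : MvPolynomial σ k)
    (hp : p ≠ 0) [Algebra.FiniteType k (Localization.Away p)] : Finite σ := by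
  classical
  obtain ⟨s, hs⟩ := Algebra.FiniteType.out (R := k) (A := Localization.Away p)
  choose z hz using fun x : Localization.Away p => IsLocalization.surj (Submonoid.powers p) x
  let t : Finset σ := p.vars ∪ s.biUnion fun x => (z x).1.vars
  let φ := IsScalarTower.toAlgHom k (MvPolynomial σ k) (Localization.Away p)
  have hpow : ∀ c ∈ Submonoid.powers p, c ∈ MvPolynomial.supported k (t : Set σ) := by
    rintro c ⟨m, rfl⟩
    refine pow_mem (MvPolynomial.mem_supported.mpr ?_) m
    exact Finset.coe_subset.mpr Finset.subset_union_left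
  have hinj : Function.Injective φ := IsLocalization.injective (Localization.Away p)
    (powers_le_nonZeroDivisors_of_noZeroDivisors hp)
  have key : ∀ y : Localization.Away p, ∃ a ∈ MvPolynomial.supported k (t : Set σ),
      ∃ c ∈ Submonoid.powers p, y * φ c = φ a := by
    intro y
    have hy : y ∈ Algebra.adjoin k (s : Set (Localization.Away p)) := hs ▸ Algebra.mem_top
    induction hy using Algebra.adjoin_induction with
    | mem x hx =>
      refine ⟨(z x).1, MvPolynomial.mem_supported.mpr (Finset.coe_subset.mpr ?_),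
        (z x).2, (z x).2.2, hz x⟩
      exact (Finset.subset_biUnion_of_mem (fun x => (z x).1.vars) hx).trans
        Finset.subset_union_right
    | algebraMap r =>
      exact ⟨algebraMap k _ r, Subalgebra.algebraMap_mem _ r, 1, one_mem _, by
        rw [map_one, mul_one, AlgHom.commutes]⟩
    | add x y _ _ hx hy =>
      obtain ⟨a, ha, c, hc, h⟩ := hx
      obtain ⟨a', ha', c', hc', h'⟩ := hy
      refine ⟨a * c' + a' * c, add_mem (mul_mem ha (hpow _ hc')) (mul_mem ha' (hpow _ hc)),
        c * c', mul_mem hc hc', ?_⟩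
      simp only [map_add, map_mul, ← h, ← h']
      ring
    | mul x y _ _ hx hy =>
      obtain ⟨a, ha, c, hc, h⟩ := hx
      obtain ⟨a', ha', c', hc', h'⟩ := hy
      refine ⟨a * a', mul_mem ha ha', c * c', mul_mem hc hc', ?_⟩
      simp only [map_mul, ← h, ← h']
      ring
  have hall : ∀ i : σ, i ∈ t := by
    intro i
    by_contra hi
    obtain ⟨a, ha, c, hc, h⟩ := key (φ (MvPolynomial.X i))
    rw [← map_mul] at h
    have h0 := hinj h
    let e : MvPolynomial σ k →ₐ[k] MvPolynomial σ k :=
      MvPolynomial.aeval fun j => if j = i then 0 else MvPolynomial.X j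
    have he : ∀ q ∈ MvPolynomial.supported k (t : Set σ), e q = q := by
      intro q hq
      have hle : MvPolynomial.supported k (t : Set σ) ≤ AlgHom.equalizer e (AlgHom.id k _) := by
        rw [MvPolynomial.supported_eq_adjoin_X]
        refine Algebra.adjoin_le ?_
        rintro _ ⟨j, hj, rfl⟩
        show e (MvPolynomial.X j) = MvPolynomial.X j
        have hji : j ≠ i := fun h => hi (h ▸ hj)
        simp [e, hji]
      exact hle hq
    have hc0 : c ≠ 0 := by
      obtain ⟨m, rfl⟩ := hc
      exact pow_ne_zero m hp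
    have h1 := congrArg e h0
    rw [map_mul, he a ha, show e (MvPolynomial.X i) = 0 by simp [e], zero_mul] at h1
    rw [← h1] at h0
    exact mul_ne_zero (MvPolynomial.X_ne_zero i) hc0 h0
  exact Finite.of_injective (fun i => (⟨i, hall i⟩ : {j // j ∈ t}))
    fun i j h => congrArg Subtype.val h

end Groth.Agent.S15699.Aux

set_option autoImplicit false
universe u
open CategoryTheory CategoryTheory.Limits AlgebraicGeometry
open RatVar

namespace Groth.Agent.S15699

/-- A direct factor of a k-rational variety is retract rational over k. Here k is an infinite field, X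
and Y are integral schemes of finite type over k whose fibre product over k is integral and rational
over k (birational over k, through dense open subschemes, to an affine space over k); the conclusion
is that some non-empty open subscheme U of X admits k-morphisms U → Y' → U with composite the
identity, Y' an open subscheme of an affine space Spec k[x_1, ..., x_n]. (The published statement
allows any field k; the argument picks a k-rational point of the given open set, so k is taken
infinite here.) -/
theorem result (k : Type u) [Field k] [Infinite k]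
    (X Y : Scheme.{u}) (f : X ⟶ Spec (CommRingCat.of k)) (g : Y ⟶ Spec (CommRingCat.of k))
    [IsIntegral X] [LocallyOfFiniteType f] [QuasiCompact f]
    [IsIntegral Y] [LocallyOfFiniteType g] [QuasiCompact g] [IsIntegral (pullback f g)]
    [Scheme.IsRationalOver (pullback.fst f g ≫ f)] :
    ∃ (U : X.Opens) (n : ℕ) (Y' : (Spec (CommRingCat.of (MvPolynomial (Fin n) k))).Opens)
        (a : (U : Scheme.{u}) ⟶ (Y' : Scheme.{u})) (b : (Y' : Scheme.{u}) ⟶ (U : Scheme.{u})),
        (U : Set X).Nonempty ∧ a ≫ b = 𝟙 (U : Scheme.{u}) ∧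
        a ≫ Y'.ι ≫ Spec.map (CommRingCat.ofHom (algebraMap k (MvPolynomial (Fin n) k))) = U.ι ≫ f ∧
        b ≫ U.ι ≫ f = Y'.ι ≫ Spec.map (CommRingCat.ofHom (algebraMap k (MvPolynomial (Fin n) k))) := by
  classical
  have hk : Nonempty (pullback f g : Scheme.{u}) := inferInstance
  let sP := pullback.fst f g ≫ f
  have hP : sP = pullback.snd f g ≫ g := pullback.condition
  obtain ⟨σ, hσ⟩ := Scheme.IsRationalOver.exists_birationalOver_affineSpace sP
  let φ := hσ.partialIso
  have hφ : φ.iso.hom ≫ φ.target.ι ≫ (𝔸(σ; Spec (CommRingCat.of k)) ↘ Spec (CommRingCat.of k)) =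
      φ.source.ι ≫ sP := hσ.partialIso_isOver
  obtain ⟨w, hw⟩ := φ.dense_source.nonempty
  let e := AffineSpace.SpecIso σ (CommRingCat.of k)
  let c : CommRingCat.of k ⟶ CommRingCat.of (MvPolynomial σ k) := CommRingCat.ofHom MvPolynomial.C
  let j₀ : φ.source.toScheme ⟶ Spec (CommRingCat.of (MvPolynomial σ k)) :=
    φ.iso.hom ≫ φ.target.ι ≫ e.hom
  have he : e.hom ≫ Spec.map c = 𝔸(σ; Spec (CommRingCat.of k)) ↘ Spec (CommRingCat.of k) := by
    rw [← Iso.eq_inv_comp]
    exact (AffineSpace.SpecIso_inv_over (n := σ) (CommRingCat.of k)).symm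
  have hj₀ : j₀ ≫ Spec.map c = φ.source.ι ≫ sP := by
    rw [← hφ]
    simp only [j₀, Category.assoc, he]
  -- the number of variables is finite
  obtain ⟨_, ⟨_, ⟨p, rfl⟩, rfl⟩, hwp, hpr⟩ :=
    PrimeSpectrum.isBasis_basic_opens.exists_subset_of_mem_open
      (show j₀ ⟨w, hw⟩ ∈ (j₀.opensRange : Set _) from ⟨_, rfl⟩) j₀.opensRange.isOpen
  have hp0 : p ≠ 0 := by
    rintro rfl
    exact hwp (Ideal.zero_mem _)
  let d : Spec (CommRingCat.of (Localization.Away p)) ⟶ Spec (CommRingCat.of (MvPolynomial σ k)) :=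
    Spec.map (CommRingCat.ofHom (algebraMap (MvPolynomial σ k) (Localization.Away p)))
  have : IsOpenImmersion d := IsOpenImmersion.of_isLocalization p
  have hd : Set.range d ⊆ Set.range j₀ := by
    intro x hx
    refine hpr ?_
    rw [← PrimeSpectrum.localization_away_comap_range (Localization.Away p) p]
    exact hx
  let d' := IsOpenImmersion.lift j₀ d hd
  have : IsOpenImmersion d' := by
    have : IsOpenImmersion (d' ≫ j₀) := by
      rw [IsOpenImmersion.lift_fac]
      infer_instance
    exact IsOpenImmersion.of_comp d' j₀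
  have hd' : d ≫ Spec.map c = d' ≫ φ.source.ι ≫ sP := by
    rw [← hj₀, IsOpenImmersion.lift_fac_assoc]
  have : LocallyOfFiniteType (Spec.map (c ≫ CommRingCat.ofHom
      (algebraMap (MvPolynomial σ k) (Localization.Away p)))) := by
    rw [Spec.map_comp]
    change LocallyOfFiniteType (d ≫ Spec.map c)
    rw [hd']
    infer_instance
  have : Algebra.FiniteType k (Localization.Away p) := by
    have h := (HasRingHomProperty.Spec_iff (P := @LocallyOfFiniteType)).mp ‹_›
    exact RingHom.finiteType_algebraMap.mp h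
  have : Finite σ := Aux.finite_of_finiteType_away p hp0
  obtain ⟨n, ⟨ε⟩⟩ := Finite.exists_equiv_fin σ
  let E := MvPolynomial.renameEquiv k ε
  let N := Spec (CommRingCat.of (MvPolynomial (Fin n) k))
  let E' : Spec (CommRingCat.of (MvPolynomial σ k)) ≅ N :=
    Scheme.Spec.mapIso E.toRingEquiv.toCommRingCatIso.symm.op
  let st : N ⟶ Spec (CommRingCat.of k) :=
    Spec.map (CommRingCat.ofHom (algebraMap k (MvPolynomial (Fin n) k)))
  have hE' : E'.inv ≫ Spec.map c = st := by
    simp only [E', Functor.mapIso_inv, Iso.op_inv, Iso.symm_inv, Scheme.Spec_map,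
      Quiver.Hom.unop_op, st, c, N]
    rw [← Spec.map_comp]
    congr 1
    exact CommRingCat.hom_ext (RingHom.ext fun r => E.commutes r)
  let j : φ.source.toScheme ⟶ N := j₀ ≫ E'.hom
  have hj : j ≫ st = φ.source.ι ≫ sP := by
    rw [← hj₀, ← hE']
    simp [j]
  -- a rational point
  obtain ⟨_, ⟨_, ⟨q, rfl⟩, rfl⟩, hwq, hqr⟩ :=
    PrimeSpectrum.isBasis_basic_opens.exists_subset_of_mem_open
      (show j ⟨w, hw⟩ ∈ (j.opensRange : Set _) from ⟨_, rfl⟩) j.opensRange.isOpen
  have hq0 : q ≠ 0 := by
    rintro rfl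
    exact hwq (Ideal.zero_mem _)
  obtain ⟨α, hα⟩ : ∃ α : Fin n → k, MvPolynomial.eval α q ≠ 0 := by
    by_contra! h
    exact hq0 (MvPolynomial.funext fun α => by simpa using h α)
  let pt : Spec (CommRingCat.of k) ⟶ N := Spec.map (CommRingCat.ofHom (MvPolynomial.eval α))
  have hptst : pt ≫ st = 𝟙 _ := by
    rw [← Spec.map_comp, ← Spec.map_id]
    congr 1
    ext r
    simp
  have hpt : Set.range pt ⊆ Set.range j := by
    rintro _ ⟨x, rfl⟩
    refine hqr ?_
    show MvPolynomial.eval α q ∉ x.asIdeal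
    exact fun h => x.isPrime.ne_top (Ideal.eq_top_of_isUnit_mem _ h (IsUnit.mk0 _ hα))
  let w₀ : Spec (CommRingCat.of k) ⟶ φ.source.toScheme := IsOpenImmersion.lift j pt hpt
  have hw₀ : w₀ ≫ φ.source.ι ≫ sP = 𝟙 _ := by
    rw [← hj, IsOpenImmersion.lift_fac_assoc, hptst]
  let y₀ := w₀ ≫ φ.source.ι ≫ pullback.snd f g
  have hy₀ : y₀ ≫ g = 𝟙 _ := by
    simp only [y₀, Category.assoc, ← hP, hw₀]
  let s : X ⟶ pullback f g :=
    pullback.lift (𝟙 X) (f ≫ y₀) (by rw [Category.id_comp, Category.assoc, hy₀, Category.comp_id])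
  have hs : s ≫ pullback.fst f g = 𝟙 X := pullback.lift_fst _ _ _
  have hs₂ : s ≫ pullback.snd f g = f ≫ y₀ := pullback.lift_snd _ _ _
  let U : X.Opens := s ⁻¹ᵁ φ.source
  have hU : (U : Set X).Nonempty := by
    let x₀ := w₀ ≫ φ.source.ι ≫ pullback.fst f g
    have hx₀ : x₀ ≫ f = 𝟙 _ := by simpa [x₀, sP] using hw₀
    have hfac : x₀ ≫ s = w₀ ≫ φ.source.ι := by
      apply pullback.hom_ext
      · rw [Category.assoc, hs, Category.comp_id, Category.assoc]
      · rw [Category.assoc, hs₂, reassoc_of% hx₀, Category.assoc]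
    let pt₀ : Spec (CommRingCat.of k) := IsLocalRing.closedPoint k
    refine ⟨x₀ pt₀, ?_⟩
    show (x₀ ≫ s) pt₀ ∈ φ.source
    rw [hfac]
    exact (w₀ pt₀).2
  let V : φ.source.toScheme.Opens := (φ.source.ι ≫ pullback.fst f g) ⁻¹ᵁ U
  let jV : V.toScheme ⟶ N := V.ι ≫ j
  let Y' : N.Opens := jV.opensRange
  let bV : V.toScheme ⟶ U.toScheme := (φ.source.ι ≫ pullback.fst f g) ∣_ U
  have hrange : Set.range (U.ι ≫ s) ⊆ Set.range φ.source.ι := by
    rintro _ ⟨x, rfl⟩
    rw [Scheme.Opens.range_ι]
    exact x.2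
  let aW : U.toScheme ⟶ φ.source.toScheme := IsOpenImmersion.lift φ.source.ι (U.ι ≫ s) hrange
  have haW : aW ≫ φ.source.ι ≫ pullback.fst f g = U.ι := by
    rw [IsOpenImmersion.lift_fac_assoc, Category.assoc, hs, Category.comp_id]
  have hrange' : Set.range aW ⊆ Set.range V.ι := by
    rintro _ ⟨x, rfl⟩
    rw [Scheme.Opens.range_ι]
    show (aW ≫ φ.source.ι ≫ pullback.fst f g) x ∈ U
    rw [haW]
    exact x.2
  let aV : U.toScheme ⟶ V.toScheme := IsOpenImmersion.lift V.ι aW hrange'
  have hbV : bV ≫ U.ι = V.ι ≫ φ.source.ι ≫ pullback.fst f g := morphismRestrict_ι _ _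
  have hjVst : jV ≫ st = V.ι ≫ φ.source.ι ≫ pullback.fst f g ≫ f := by
    simp only [jV, Category.assoc, hj, sP]
  refine ⟨U, n, Y', aV ≫ jV.isoOpensRange.hom, jV.isoOpensRange.inv ≫ bV, hU, ?_, ?_, ?_⟩
  · rw [← cancel_mono U.ι]
    simp only [Category.assoc, Iso.hom_inv_id_assoc]
    rw [hbV, IsOpenImmersion.lift_fac_assoc, haW, Category.id_comp]
  · have h1 : jV.isoOpensRange.hom ≫ Y'.ι = jV := Scheme.Hom.isoOpensRange_hom_ι jV
    rw [Category.assoc, reassoc_of% h1, hjVst, IsOpenImmersion.lift_fac_assoc, reassoc_of% haW]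
  · rw [Category.assoc, reassoc_of% hbV, ← hjVst, ← Category.assoc jV.isoOpensRange.inv,
      Scheme.Hom.isoOpensRange_inv_comp jV]

end Groth.Agent.S15699
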