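import Groth.Statements.S15701
-- import your own Groth.Agent.* helpers here

set_option autoImplicit false
universe u
open CategoryTheory AlgebraicGeometry
open RatVar

namespace Groth.Agent.S15701

/-- A faithful action of a finite group on a geometrically integral variety is almost free. Here k is a
field of characteristic zero, X is an integral separated scheme of finite type over k, and the
finite group G acts on X by k-automorphisms through an injective homomorphism to Aut X; the
conclusion is a non-empty G-stable open subscheme U of X such that for every field K and every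
morphism Spec K → X whose image lies in U, an element of G fixing that K-point is the identity. (X
is taken separated: for the affine line with a doubled origin and the involution exchanging the two
origins the action is faithful while every point off the origins is fixed, so no such U exists;
integrality replaces geometric integrality, which is all the codimension argument uses.) -/
theorem result (k : Type u) [Field k] [CharZero k]
    (X : Scheme.{u}) (f : X ⟶ Spec (CommRingCat.of k)) [IsIntegral X] [LocallyOfFiniteType f]
    [QuasiCompact f] [IsSeparated f]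
    (G : Type u) [Group G] [Finite G] (ρ : G →* Aut X)
    (hρ : ∀ g : G, (ρ g).hom ≫ f = f) (hfaith : Function.Injective ρ) :
    ∃ U : X.Opens, (U : Set X).Nonempty ∧ (∀ g : G, (ρ g).hom ⁻¹ᵁ U = U) ∧
      ∀ (K : Type u) [Field K] (x : Spec (CommRingCat.of K) ⟶ X),
        Set.range x.base ⊆ (U : Set X) → ∀ g : G, x ≫ (ρ g).hom = x → g = 1 := by
  classical
  have key : ∀ g : G, g ≠ 1 → ∃ C : Set X, IsClosed C ∧ C ≠ Set.univ ∧ ∀ (K : Type u) [Field K]
      (x : Spec (CommRingCat.of K) ⟶ X), x ≫ (ρ g).hom = x → Set.range x.base ⊆ C := fun g hg => by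
    let d := Limits.pullback.diagonal f
    let Γg : X ⟶ Limits.pullback f f := Limits.pullback.lift (ρ g).hom (𝟙 X) (by rw [hρ, Category.id_comp])
    haveI : IsClosedImmersion d := IsSeparated.isClosedImmersion_diagonal
    let e := Limits.pullback.snd d Γg
    refine ⟨Set.range e.base, e.isClosedEmbedding.isClosed_range, fun h => hg (hfaith ?_), fun K _ x hx => ?_⟩
    · haveI : Surjective e := ⟨Set.range_eq_univ.mp h⟩
      haveI : IsIso e := isIso_of_isClosedImmersion_of_surjective e
      have hΓ : Γg = inv e ≫ Limits.pullback.fst d Γg ≫ d := by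
        rw [Limits.pullback.condition, IsIso.inv_hom_id_assoc]
      apply Aut.ext
      rw [map_one]
      show (ρ g).hom = 𝟙 X
      calc (ρ g).hom = Γg ≫ Limits.pullback.fst f f := (Limits.pullback.lift_fst _ _ _).symm
        _ = Γg ≫ Limits.pullback.snd f f := by
            rw [hΓ]; simp only [Category.assoc, d, Limits.pullback.diagonal_fst, Limits.pullback.diagonal_snd]
        _ = 𝟙 X := Limits.pullback.lift_snd _ _ _
    · let l := Limits.pullback.lift (f := d) (g := Γg) x x (by
        apply Limits.pullback.hom_ext <;> simp only [d, Γg, Category.assoc, Limits.pullback.diagonal_fst, Limits.pullback.diagonal_snd, Limits.pullback.lift_fst, Limits.pullback.lift_snd, Category.comp_id]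
        exact hx.symm)
      rintro _ ⟨p, rfl⟩
      refine ⟨l.base p, ?_⟩
      rw [← Scheme.Hom.comp_apply, Limits.pullback.lift_snd]
  choose C hC hne hCx using key
  let Cs : Set X := ⋃ g : {g : G // g ≠ 1}, C g.1 g.2
  let V : X.Opens := ⟨Csᶜ, (isClosed_iUnion_of_finite fun g : {g : G // g ≠ 1} => hC g.1 g.2).isOpen_compl⟩
  have hVne : (V : Set X).Nonempty := by
    refine ⟨genericPoint X, fun h => ?_⟩
    obtain ⟨g, hg⟩ := Set.mem_iUnion.mp h
    exact hne g.1 g.2 (Set.eq_univ_of_univ_subset ((show closure {genericPoint X} = Set.univ from genericPoint_spec X) ▸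
      (hC g.1 g.2).closure_subset_iff.mpr (Set.singleton_subset_iff.mpr hg)))
  let U : X.Opens := ⟨⋂ a : G, (ρ a).hom.base ⁻¹' (V : Set X),
    isOpen_iInter_of_finite fun a => V.isOpen.preimage (ρ a).hom.continuous⟩
  have hsub : (U : Set X) ⊆ V := fun p hp => by
    have := Set.mem_iInter.mp hp 1
    rwa [Set.mem_preimage, map_one] at this
  refine ⟨U, ?_, fun g => ?_, fun K _ x hx g hxg => ?_⟩
  · refine ⟨genericPoint X, Set.mem_iInter.mpr fun a => ?_⟩
    refine (genericPoint_spec X).mem_open_set_iff ((V.isOpen.preimage (ρ a).hom.continuous)) |>.mpr ?_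
    obtain ⟨v, hv⟩ := hVne
    refine ⟨(ρ a).inv.base v, trivial, ?_⟩
    rw [Set.mem_preimage, ← Scheme.Hom.comp_apply, (ρ a).inv_hom_id]
    exact hv
  · refine TopologicalSpace.Opens.ext (Set.ext fun p => ?_)
    show (ρ g).hom.base p ∈ (U : Set X) ↔ p ∈ (U : Set X)
    simp only [U, TopologicalSpace.Opens.coe_mk, Set.mem_iInter, Set.mem_preimage]
    have hcomp : ∀ a, (ρ a).hom.base ((ρ g).hom.base p) = (ρ (a * g)).hom.base p := fun a => by
      rw [map_mul, ← Scheme.Hom.comp_apply]; rfl
    refine ⟨fun h a => ?_, fun h a => ?_⟩
    · have := h (a * g⁻¹)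
      rwa [hcomp, inv_mul_cancel_right] at this
    · rw [hcomp]; exact h _
  · by_contra hg
    let p : Spec (CommRingCat.of K) := IsLocalRing.closedPoint K
    exact hsub (hx ⟨p, rfl⟩) (Set.mem_iUnion.mpr ⟨⟨g, hg⟩, hCx g hg K x hxg ⟨p, rfl⟩⟩)

end Groth.Agent.S15701
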