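import Groth.Statements.S15702
import Mathlib
import Groth.Agent.Calg7.SemiInv
import Groth.Agent.PropsBasic.HopfUnits
-- import your own Groth.Agent.* helpers here

set_option autoImplicit false
universe u
open GLin

namespace Groth.Agent.S15702

open scoped TensorProduct

open Groth.Calg7.SemiInv in
private theorem fixed_of_reduced {k : Type u} [Field k] [IsAlgClosed k]
    {A : Type u} [CommRing A] [HopfAlgebra k A] [Algebra.FiniteType k A] [IsDomain A]
    (hchar : ∀ a : A, IsGroupLikeElem k a → a = 1)
    {B : Type u} [CommRing B] [Algebra k B] [Algebra.FiniteType k B] [IsDomain B]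
    [UniqueFactorizationMonoid B] [HopfRep.Comod k A B] [GLin.IsCoactAlg k A B]
    {f g : B} (hf : f ≠ 0) (hfg : IsRelPrime f g)
    (hinv : ∀ φ : A →ₐ[k] k,
      HopfRep.Comod.act k A B φ f * g = f * HopfRep.Comod.act k A B φ g) :
    (∀ φ : A →ₐ[k] k, HopfRep.Comod.act k A B φ f = f) ∧
      ∀ φ : A →ₐ[k] k, HopfRep.Comod.act k A B φ g = g := by
  obtain ⟨u, hu1, hu2⟩ := exists_multiplier hf hfg hinv
  obtain ⟨b, a, hba⟩ := Groth.AlgGrp2.unit_tensor_eq_tmul k B A u
  let ε := Bialgebra.counitAlgHom k A
  have hb : ε (a : A) • (b : B) = 1 := by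
    have := evPt_counit (k := k) (A := A) f
    rw [hu1, map_mul, hba, evPt_tmul, evPt_tmul, map_one, one_smul] at this
    exact mul_left_cancel₀ hf (this.trans (mul_one f).symm)
  have hε : ε (a : A) ≠ 0 := fun h0 => by simp [h0] at hb
  set a' : A := (ε (a : A))⁻¹ • (a : A) with ha'
  have hu' : (u : B ⊗[k] A) = (1 : B) ⊗ₜ[k] a' := by
    rw [hba, ha', ← TensorProduct.smul_tmul]
    congr 1
    rw [← hb, smul_smul, inv_mul_cancel₀ hε, one_smul]
  have hgl : IsGroupLikeElem k a' := by
    have h1 : Bialgebra.counitAlgHom k A a' = 1 := by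
      rw [ha', map_smul, smul_eq_mul, inv_mul_cancel₀ hε]
    refine ⟨h1, ?_⟩
    refine Groth.HopfDim.comul_eq_of_isUnit k A (fun e he => ?_) a' ?_ h1
    · rcases mul_eq_zero.1 (show e * (e - 1) = 0 by rw [mul_sub, he.eq, mul_one, sub_self]) with h | h
      · exact Or.inl h
      · exact Or.inr (sub_eq_zero.1 h)
    · rw [ha', Algebra.smul_def]
      exact ((IsUnit.mk0 _ (inv_ne_zero hε)).map _).mul a.isUnit
  rw [hchar a' hgl, ← Algebra.TensorProduct.one_def] at hu'
  rw [hu', mul_one] at hu1 hu2
  constructor <;> intro φ <;> rw [← evPt_eq_act]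
  · rw [hu1, evPt_tmul, map_one, one_smul]
  · rw [hu2, evPt_tmul, map_one, one_smul]


/-- Let k be algebraically closed of characteristic zero, let G be a connected linear algebraic group
over k without non-trivial characters acting on an integral affine k-variety Spec B of finite type
with B a unique factorisation domain; then the field of G-invariant rational functions is the
fraction field of the ring of invariants B^G. In coordinate-ring form: A is a commutative Hopf
algebra of finite type over k, a domain, whose only group-like element is 1; B is a k-algebra of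
finite type, a domain and a unique factorisation monoid, with a coaction of A that is an algebra
map; k-points φ : A →ₐ[k] k act on B through the coaction. If f, g ∈ B, g ≠ 0, satisfy (φ·f) g = f
(φ·g) for all φ, then f g' = f' g for some f', g' ∈ B fixed by all φ with g' ≠ 0. (The published
lemma allows G disconnected with character-free identity component; this row is the connected case
treated first in its proof.) -/
theorem result (k : Type u) [Field k] [IsAlgClosed k] [CharZero k]
    (A : Type u) [CommRing A] [HopfAlgebra k A] [Algebra.FiniteType k A] [IsDomain A]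
    (hchar : ∀ a : A, IsGroupLikeElem k a → a = 1)
    (B : Type u) [CommRing B] [Algebra k B] [Algebra.FiniteType k B] [IsDomain B] [UniqueFactorizationMonoid B]
    [HopfRep.Comod k A B] [GLin.IsCoactAlg k A B]
    (f g : B) (hg : g ≠ 0)
    (hinv : ∀ φ : A →ₐ[k] k, HopfRep.Comod.act k A B φ f * g = f * HopfRep.Comod.act k A B φ g) :
    ∃ f' g' : B, (∀ φ : A →ₐ[k] k, HopfRep.Comod.act k A B φ f' = f') ∧
      (∀ φ : A →ₐ[k] k, HopfRep.Comod.act k A B φ g' = g') ∧ g' ≠ 0 ∧ f * g' = f' * g := by
  obtain ⟨f', g', c, hrel, hf', hg'⟩ :=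
    UniqueFactorizationMonoid.exists_reduced_factors' f g hg
  rcases eq_or_ne f 0 with rfl | hf
  · refine ⟨0, 1, fun φ => map_zero _, fun φ => ?_, one_ne_zero, by simp⟩
    rw [← Groth.Calg7.SemiInv.evPt_eq_act,
      GLin.IsCoactAlg.coact_one (k := k), map_one]
  have hmul : ∀ (φ : A →ₐ[k] k) (x y : B), HopfRep.Comod.act k A B φ (x * y) =
      HopfRep.Comod.act k A B φ x * HopfRep.Comod.act k A B φ y := fun φ x y => by
    simp only [← Groth.Calg7.SemiInv.evPt_eq_act, GLin.IsCoactAlg.coact_mul, map_mul]
  subst hf' hg'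
  have hf0 : f' ≠ 0 := right_ne_zero_of_mul hf
  have hg0 : g' ≠ 0 := right_ne_zero_of_mul hg
  have hinv' : ∀ φ : A →ₐ[k] k,
      HopfRep.Comod.act k A B φ f' * g' = f' * HopfRep.Comod.act k A B φ g' := by
    intro φ
    have h := hinv φ
    rw [hmul, hmul] at h
    have hc : HopfRep.Comod.act k A B φ c ≠ 0 := by
      intro h0
      have hone : Groth.GitQuot.pointMul (Groth.GitQuot.pointInv φ) φ =
          Bialgebra.counitAlgHom k A := by
        ext a
        simp only [Groth.GitQuot.pointMul, Groth.GitQuot.pointInv, AlgHom.comp_apply,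
          Bialgebra.comulAlgHom_apply, Bialgebra.counitAlgHom_apply]
        let ℛ := Coalgebra.Repr.arbitrary k a
        rw [← ℛ.eq, map_sum]
        have := congrArg φ (HopfAlgebra.sum_antipode_mul_eq_smul ℛ)
        simpa [map_sum] using this
      have h1 := Groth.GitQuot.act_act (k := k) (A := A) (R := B) (Groth.GitQuot.pointInv φ) φ c
      rw [h0, map_zero, hone, ← Groth.Calg7.SemiInv.evPt_eq_act,
        Groth.Calg7.SemiInv.evPt_counit] at h1
      exact left_ne_zero_of_mul hf h1.symm
    refine mul_left_cancel₀ (mul_ne_zero hc (left_ne_zero_of_mul hf)) ?_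
    linear_combination h
  obtain ⟨h1, h2⟩ := fixed_of_reduced hchar hf0 hrel hinv'
  exact ⟨f', g', h1, h2, hg0, by ring⟩

end Groth.Agent.S15702
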