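import Groth.Statements.S15703
import Groth.Agent.Agf2.WeylReflect
import Groth.Agent.AbVarMul.KernelComp
-- import your own Groth.Agent.* helpers here

set_option autoImplicit false
universe u
open CategoryTheory MonoidalCategory CartesianMonoidalCategory MonObj GrpObj AlgebraicGeometry
open Red

namespace Groth.Agent.S15703


open CategoryTheory MonoidalCategory CartesianMonoidalCategory MonObj GrpObj AlgebraicGeometry
open Groth.Agf Groth.RedX Groth.AlgGrp1 Groth.Agf2

/-- A root of a character with values in an algebraically closed field. -/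
theorem exists_root_char {K : Type u} [Field K] [IsAlgClosed K] {r : ℕ} (χ : Multiplicative (Fin r → ℤ) →* Kˣ)
    {N : ℤ} (hN : N ≠ 0) : ∃ χ' : Multiplicative (Fin r → ℤ) →* Kˣ, χ' ^ N = χ := by
  have hroot : ∀ u : Kˣ, ∃ v : Kˣ, v ^ N = u := fun u => by
    obtain ⟨v, hv⟩ : ∃ v : Kˣ, v ^ N.natAbs = u := by
      obtain ⟨z, hz⟩ := IsAlgClosed.exists_pow_nat_eq (u : K) (Int.natAbs_pos.2 hN)
      have hz0 : z ≠ 0 := fun h => u.ne_zero (by rw [← hz, h, zero_pow (Int.natAbs_ne_zero.2 hN)])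
      exact ⟨Units.mk0 z hz0, Units.ext (by simpa using hz)⟩
    rcases Int.natAbs_eq N with h | h
    · exact ⟨v, by rw [h, zpow_natCast, hv]⟩
    · exact ⟨v⁻¹, by rw [h, inv_zpow, zpow_neg, _root_.inv_inv, zpow_natCast, hv]⟩
  choose rt hrt using fun i : Fin r => hroot (χ (Multiplicative.ofAdd (Pi.single i (1 : ℤ))))
  let f : (Fin r → ℤ) →ₗ[ℤ] Additive Kˣ := (Pi.basisFun ℤ (Fin r)).constr ℤ fun i => Additive.ofMul (rt i)
  refine ⟨AddMonoidHom.toMultiplicativeLeft f.toAddMonoidHom, ?_⟩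
  have h : ∀ x : Fin r → ℤ, N • f x = Additive.ofMul (χ (Multiplicative.ofAdd x)) := by
    have he : N • f = (MonoidHom.toAdditiveRight χ).toIntLinearMap :=
      (Pi.basisFun ℤ (Fin r)).ext fun i => by
        show N • f _ = Additive.ofMul (χ _)
        simp only [f, Module.Basis.constr_basis]
        rw [show (Pi.basisFun ℤ (Fin r)) i = Pi.single i 1 from Pi.basisFun_apply ℤ (Fin r) i, ← hrt]
        rfl
    exact fun x => DFunLike.congr_fun he x
  exact MonoidHom.ext fun m => Additive.ofMul.injective (h m.toAdd)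

/-- Everything on the torus. -/
theorem exists_commutator {K : Type u} [Field K] [IsAlgClosed K] [CharZero K] {r : ℕ}
    {G : Over (Spec (CommRingCat.of K))} [GrpObj G] (hG : Red.IsSemisimpleOver K G)
    (j : Red.DS (Spec (CommRingCat.of K)) (Fin r → ℤ) ⟶ G) (hT : AGF.IsMaxTorus j)
    (c : 𝟙_ (Over (Spec (CommRingCat.of K))) ⟶ G) (hc : c ∈ Subgroup.center (𝟙_ (Over (Spec (CommRingCat.of K))) ⟶ G)) :
    ∃ a b : 𝟙_ (Over (Spec (CommRingCat.of K))) ⟶ G, IsOfFinOrder a ∧ IsOfFinOrder b ∧ c = a * b * a⁻¹ * b⁻¹ := by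
  classical
  have := hG.1.1; have := hG.1.2.1; have := hG.1.2.2.1
  have := hT.1; have := hT.2.1
  obtain ⟨φ, ⟨n, hn, hφ⟩, hfree⟩ := WeylReflect.exists_fixedPointFree (j := j) hG hT
  -- the points of the torus
  have : IsIso (toUnit (VecGrp.pt K K)) := by
    have h1 : IsIso ((Over.forget (Spec (CommRingCat.of K))).map (toUnit (VecGrp.pt K K))) := by
      have h2 : (toUnit (VecGrp.pt K K)).left = (VecGrp.pt K K).hom := by simpa using Over.w (toUnit (VecGrp.pt K K))
      show IsIso (toUnit (VecGrp.pt K K)).left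
      rw [h2]
      show IsIso (Spec.map (CommRingCat.ofHom (algebraMap K K)))
      rw [Algebra.algebraMap_self]
      exact inferInstanceAs (IsIso (Spec.map (𝟙 (CommRingCat.of K))))
    exact isIso_of_reflects_iso _ (Over.forget _)
  let κ := inv (toUnit (VecGrp.pt K K))
  let E : (Multiplicative (Fin r → ℤ) →* Kˣ) →* (𝟙_ (Over (Spec (CommRingCat.of K))) ⟶ G) :=
    MonoidHom.mk' (fun χ => κ ≫ tpt χ ≫ j) fun a b => by
      rw [tpt_mul, MonObj.mul_comp, MonObj.comp_mul]
  have hEinj : Function.Injective E := fun a b h => tpt_injective ((cancel_mono j).1 ((cancel_epi κ).1 h))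
  have hEsurj : ∀ t : 𝟙_ (Over (Spec (CommRingCat.of K))) ⟶ Red.DS (Spec (CommRingCat.of K)) (Fin r → ℤ),
      ∃ χ, E χ = t ≫ j := fun t => by
    obtain ⟨χ, hχ⟩ := exists_tpt (toUnit (VecGrp.pt K K) ≫ t)
    refine ⟨χ, ?_⟩
    show κ ≫ tpt χ ≫ j = t ≫ j
    rw [hχ, Category.assoc, IsIso.inv_hom_id_assoc]
  have hEconj : ∀ χ, n * E χ * n⁻¹ = E (χ.comp (AddMonoidHom.toMultiplicative φ.toAddMonoidHom)) := fun χ => by
    show _ = κ ≫ tpt (χ.comp (AddMonoidHom.toMultiplicative φ.toAddMonoidHom)) ≫ j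
    rw [← hφ, ← Category.assoc, comp_conjBy, toUnit_unique (toUnit _) (𝟙 _), Category.id_comp, Category.assoc]
    rfl
  -- linear algebra
  let L : (Fin r → ℤ) →ₗ[ℤ] (Fin r → ℤ) := φ.toAddMonoidHom.toIntLinearMap - LinearMap.id
  let A := LinearMap.toMatrix' L
  have hN : A.det ≠ 0 := fun h0 => by
    obtain ⟨v, hv0, hv⟩ := Matrix.exists_mulVec_eq_zero_iff.2 h0
    refine hv0 (hfree v (sub_eq_zero.1 ?_))
    rw [LinearMap.toMatrix'_mulVec] at hv
    exact hv
  let ψ := Matrix.toLin' A.adjugate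
  have hA : Matrix.toLin' A = L := Matrix.toLin'_toMatrix' L
  have hLψ : ∀ x, L (ψ x) = A.det • x := fun x => by
    rw [← hA, ← LinearMap.comp_apply, ← Matrix.toLin'_mul, Matrix.mul_adjugate, map_smul, Matrix.toLin'_one]
    rfl
  have hψL : ∀ x, ψ (L x) = A.det • x := fun x => by
    rw [← hA, ← LinearMap.comp_apply, ← Matrix.toLin'_mul, Matrix.adjugate_mul, map_smul, Matrix.toLin'_one]
    rfl
  have hfinfix : ∀ χ : Multiplicative (Fin r → ℤ) →* Kˣ,
      χ.comp (AddMonoidHom.toMultiplicative φ.toAddMonoidHom) = χ → χ ^ A.det = 1 := fun χ h => by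
    refine MonoidHom.ext fun m => ?_
    show χ m ^ A.det = 1
    rw [← map_zpow]
    have h1 : m ^ A.det = Multiplicative.ofAdd (φ (ψ m.toAdd)) / Multiplicative.ofAdd (ψ m.toAdd) := by
      rw [← ofAdd_sub]
      exact congrArg Multiplicative.ofAdd (hLψ m.toAdd).symm
    rw [h1, map_div, div_eq_one]
    exact DFunLike.congr_fun h (Multiplicative.ofAdd (ψ m.toAdd))
  -- centre in the torus
  have hcT : AGF.conjBy c j = j := by
    have := (isAffine_smooth_connected_of_isTorus hT.2.2.1).1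
    have := (isAffine_smooth_connected_of_isTorus hT.2.2.1).2.1
    have := geometricallyReduced_of_smooth_hom (Red.DS (Spec (CommRingCat.of K)) (Fin r → ℤ))
    have := Groth.AlgGrp1.isReduced_left (Red.DS (Spec (CommRingCat.of K)) (Fin r → ℤ))
    have := Groth.AlgGrp1.isSeparated_grpObj G
    refine Groth.AbVarMul.eq_of_points fun z => ?_
    rw [comp_conjBy, toUnit_unique (toUnit _) (𝟙 _), Category.id_comp, ← Subgroup.mem_center_iff.1 hc (z ≫ j),
      mul_inv_cancel_right]
  obtain ⟨sc, hsc⟩ := WeylBasic.mem_of_conjBy_eq hG.1 hT c hcT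
  obtain ⟨χc, hχc⟩ := hEsurj sc
  rw [hsc] at hχc
  have hχcfix : χc.comp (AddMonoidHom.toMultiplicative φ.toAddMonoidHom) = χc := hEinj (by
    rw [← hEconj, hχc, Subgroup.mem_center_iff.1 hc n, mul_inv_cancel_right])
  obtain ⟨χ', hχ'⟩ := exists_root_char χc hN
  let χ := χ'.comp (AddMonoidHom.toMultiplicative ψ.toAddMonoidHom)
  refine ⟨n, E χ, ?_, ?_, ?_⟩
  · obtain ⟨o, ho, hno⟩ := exists_pow_commute j hT.2.2.1 n hn
    obtain ⟨s, hs⟩ := WeylBasic.mem_of_conjBy_eq hG.1 hT (n ^ o) hno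
    obtain ⟨χ₀, hχ₀⟩ := hEsurj s
    rw [hs] at hχ₀
    have h0 : χ₀.comp (AddMonoidHom.toMultiplicative φ.toAddMonoidHom) = χ₀ := hEinj (by
      rw [← hEconj, hχ₀]; group)
    have h1 : IsOfFinOrder (n ^ o) := hχ₀ ▸ E.isOfFinOrder ((isOfFinOrder_iff_zpow_eq_one (x := χ₀)).2 ⟨_, hN, hfinfix χ₀ h0⟩)
    exact h1.of_pow (by omega)
  · refine E.isOfFinOrder ((isOfFinOrder_iff_zpow_eq_one (x := χ)).2 ⟨A.det * A.det, mul_ne_zero hN hN, ?_⟩)
    refine MonoidHom.ext fun m => ?_
    show χ' _ ^ (A.det * A.det) = 1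
    have h1 : χ' ^ (A.det * A.det) = 1 :=
      (zpow_mul χ' A.det A.det).trans ((congrArg (· ^ A.det) hχ').trans (hfinfix χc hχcfix))
    exact DFunLike.congr_fun h1 _
  · rw [hEconj, ← map_inv, ← map_mul, ← hχc]
    congr 1
    refine MonoidHom.ext fun m => ?_
    show χc m = χ' (Multiplicative.ofAdd (ψ (φ m.toAdd))) * (χ' (Multiplicative.ofAdd (ψ m.toAdd)))⁻¹
    rw [← div_eq_mul_inv, ← map_div, ← ofAdd_sub, ← map_sub]
    rw [show φ m.toAdd - m.toAdd = L m.toAdd from rfl, hψL]
    exact ((map_zpow χ' m A.det).trans (DFunLike.congr_fun hχ' m)).symm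

/-- Every central element of a connected semisimple group over an algebraically closed field of
characteristic zero is the commutator of two elements of finite order. Here K is an algebraically
closed field of characteristic zero, G is a semisimple K-group scheme in the sense used for
reductive groups over an algebraically closed field (affine, smooth, connected, trivial unipotent
radical, no non-trivial normal subtorus), and the assertion concerns the group G(K) of K-rational
points: a central element c of G(K) equals a b a⁻¹ b⁻¹ for some a, b ∈ G(K) of finite order. (The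
published statement is over the complex numbers; this row takes any algebraically closed field of
characteristic zero.) -/
theorem result (K : Type u) [Field K] [IsAlgClosed K] [CharZero K]
    (G : Over (Spec (CommRingCat.of K))) [GrpObj G] (hG : Red.IsSemisimpleOver K G)
    (c : 𝟙_ (Over (Spec (CommRingCat.of K))) ⟶ G) (hc : c ∈ Subgroup.center (𝟙_ (Over (Spec (CommRingCat.of K))) ⟶ G)) :
    ∃ a b : 𝟙_ (Over (Spec (CommRingCat.of K))) ⟶ G, IsOfFinOrder a ∧ IsOfFinOrder b ∧ c = a * b * a⁻¹ * b⁻¹ := by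
  have := hG.1.1; have := hG.1.2.1; have := hG.1.2.2.1
  obtain ⟨B, _, i, _, X, a, o, hB, -, -⟩ := exists_borel_proper (G := G)
  obtain ⟨T, _, t, hT⟩ := exists_maxTorus_of_borel hB
  obtain ⟨r, hr⟩ := Groth.Reductive.RedRank.exists_splitRank hT.2.2.1
  obtain ⟨e, he, he'⟩ := Groth.Cochar.exists_iso_of_split (show Red.IsSplitTorusWith (Fin r → ℤ) T from hr)
  have := he; have := he'; have := hT.1; have := hT.2.1
  refine exists_commutator hG (e.inv ≫ t ≫ i) ⟨inferInstance, mono_comp _ _, Groth.RedX.isTorus_DS _ _,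
    fun T' _ q _ _ f hT' hf => ?_⟩ c hc
  have := hT.2.2.2 T' q (e.hom ≫ f) hT' (by rw [Category.assoc, hf, Iso.hom_inv_id_assoc])
  exact IsIso.of_isIso_comp_left e.hom f

end Groth.Agent.S15703
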