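import Groth.Statements.S15705
import Mathlib
import Groth.Agent.Calg7.SemiInv
import Groth.Agent.Calg7.CharFG
import Groth.Agent.Misc1.Unip.FG
-- import your own Groth.Agent.* helpers here

set_option autoImplicit false
universe u
open GLin

namespace Groth.Agent.S15705

open scoped TensorProduct
open Groth.Calg7.SemiInv

/-- `x` is semi-invariant of weight `a`. -/
private def Weight (k : Type u) [Field k] (A : Type u) [CommRing A] [HopfAlgebra k A] {B : Type u}
    [CommRing B] [Algebra k B] [HopfRep.Comod k A B] (x : B) (a : A) : Prop :=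
  ∀ φ : A →ₐ[k] k, HopfRep.Comod.act k A B φ x = φ a • x

variable {k : Type u} [Field k] [IsAlgClosed k]
variable {A : Type u} [CommRing A] [HopfAlgebra k A] [Algebra.FiniteType k A] [IsReduced A]
variable {B : Type u} [CommRing B] [Algebra k B] [HopfRep.Comod k A B] [GLin.IsCoactAlg k A B]

omit [IsAlgClosed k] [Algebra.FiniteType k A] [IsReduced A] in
private theorem act_mul' (φ : A →ₐ[k] k) (x y : B) : HopfRep.Comod.act k A B φ (x * y) =
    HopfRep.Comod.act k A B φ x * HopfRep.Comod.act k A B φ y := by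
  simp only [← evPt_eq_act, GLin.IsCoactAlg.coact_mul, map_mul]

omit [IsAlgClosed k] [Algebra.FiniteType k A] [IsReduced A] in
private theorem act_one' (φ : A →ₐ[k] k) : HopfRep.Comod.act k A B φ (1 : B) = 1 := by
  rw [← evPt_eq_act, GLin.IsCoactAlg.coact_one (k := k), map_one]

omit [IsAlgClosed k] [Algebra.FiniteType k A] [IsReduced A] in
private theorem weight_one : Weight k A (1 : B) (1 : A) := fun φ => by
  rw [act_one', map_one, one_smul]

omit [IsAlgClosed k] [Algebra.FiniteType k A] [IsReduced A] in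
private theorem weight_mul {x y : B} {a b : A} (hx : Weight k A x a) (hy : Weight k A y b) :
    Weight k A (x * y) (a * b) := fun φ => by
  rw [act_mul', hx φ, hy φ, map_mul, smul_mul_smul_comm]

omit [IsAlgClosed k] [Algebra.FiniteType k A] [IsReduced A] in
private theorem weight_prod {ι : Type*} (s : Finset ι) (x : ι → B) (a : ι → A)
    (h : ∀ i ∈ s, Weight k A (x i) (a i)) : Weight k A (∏ i ∈ s, x i) (∏ i ∈ s, a i) := by
  classical
  induction s using Finset.induction_on with
  | empty => simpa using weight_one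
  | insert i s hi ih =>
    rw [Finset.prod_insert hi, Finset.prod_insert hi]
    exact weight_mul (h i (Finset.mem_insert_self i s))
      (ih fun j hj => h j (Finset.mem_insert_of_mem hj))

private theorem weight_groupLike [IsDomain B] {x : B} (hx : x ≠ 0) {a : A}
    (h : Weight k A x a) : IsGroupLikeElem k a := by
  have hc : ∀ s t : k, s • x = t • x → s = t := fun s t hst =>
    smul_left_injective k hx hst
  have hmulpt : ∀ g h' : A →ₐ[k] k, Groth.GitQuot.pointMul g h' a = g a * h' a := by
    intro g h'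
    refine hc _ _ ?_
    rw [← h, ← Groth.GitQuot.act_act, h h', map_smul, h g, smul_smul, mul_comm]
  constructor
  · refine hc _ _ ?_
    rw [one_smul]
    show (Bialgebra.counitAlgHom k A) a • x = x
    rw [← h, ← evPt_eq_act, evPt_counit]
  · rw [← sub_eq_zero]
    refine eq_zero_of_evPt (B := A) _ fun ψ => ?_
    refine (Groth.GitQuot.isNilpotent_of_forall_point (k := k) _ fun φ => ?_).eq_zero
    rw [map_sub, map_sub, evPt_tmul, map_smul, sub_eq_zero, smul_eq_mul, mul_comm, ← hmulpt]
    simp only [Groth.GitQuot.pointMul, AlgHom.comp_apply, Bialgebra.comulAlgHom_apply]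
    induction Coalgebra.comul (R := k) a using TensorProduct.induction_on with
    | zero => simp
    | add p q hp hq => simp [hp, hq]
    | tmul p q => simp [evPt_tmul, mul_comm]


/-- Let k be algebraically closed of characteristic zero, G a linear algebraic group and X a factorial
affine G-variety with k[X]* = k*; then there is a G-invariant affine open U of X such that the field
of G-invariant rational functions is the fraction field of k[U]^G. In coordinate-ring form: A is a
commutative Hopf algebra of finite type over k coacting by an algebra map on B, a finitely generated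
k-algebra which is a domain and a unique factorisation monoid all of whose units are scalars;
k-points φ : A →ₐ[k] k of G act on B through the coaction. Conclusion: there is h ≠ 0 in B with D(h)
stable under every φ (φ·h divides a power of h) such that whenever a, b ∈ B, b ≠ 0, satisfy (φ·a) b
= a (φ·b) for all φ (the fraction a/b is invariant), there are c, d ∈ B and exponents r, t with d ≠
0, with c/h^r and d/h^t invariant in B[1/h] — that is (φ·c) h^r = c (φ·h)^r and (φ·d) h^t = d
(φ·h)^t for all φ — and a d h^r = b c h^t (so a/b = (c/h^r)/(d/h^t)). -/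
theorem result (k : Type u) [Field k] [IsAlgClosed k] [CharZero k]
    (A : Type u) [CommRing A] [HopfAlgebra k A] [Algebra.FiniteType k A]
    (B : Type u) [CommRing B] [Algebra k B] [Algebra.FiniteType k B] [IsDomain B] [UniqueFactorizationMonoid B]
    (hunits : ∀ u : Bˣ, ∃ c : k, algebraMap k B c = u)
    [HopfRep.Comod k A B] [GLin.IsCoactAlg k A B] :
    ∃ h : B, h ≠ 0 ∧ (∀ φ : A →ₐ[k] k, ∃ (N : ℕ) (u : B), HopfRep.Comod.act k A B φ h * u = h ^ N) ∧
      ∀ a b : B, b ≠ 0 → (∀ φ : A →ₐ[k] k, HopfRep.Comod.act k A B φ a * b = a * HopfRep.Comod.act k A B φ b) →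
        ∃ (c d : B) (r t : ℕ), d ≠ 0 ∧
          (∀ φ : A →ₐ[k] k, HopfRep.Comod.act k A B φ c * h ^ r = c * (HopfRep.Comod.act k A B φ h) ^ r) ∧
          (∀ φ : A →ₐ[k] k, HopfRep.Comod.act k A B φ d * h ^ t = d * (HopfRep.Comod.act k A B φ h) ^ t) ∧
          a * d * h ^ r = b * c * h ^ t := by
  classical
  haveI : IsReduced A := Groth.Misc1.Unip.isReduced_charZero k A
  haveI := Groth.Calg7.CharFG.groupLike_fg k A
  haveI : Group.FG (GroupLike k A) := ‹_›
  haveI : Module.Finite ℤ (Additive (GroupLike k A)) :=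
    Module.Finite.iff_addGroup_fg.2 inferInstance
  let T : Set (GroupLike k A) := {g | ∃ x : B, x ≠ 0 ∧ Weight k A x g.val}
  obtain ⟨s, hsT, hspan⟩ := Submodule.fg_span_iff_fg_span_finset_subset
    (Additive.toMul ⁻¹' T : Set (Additive (GroupLike k A))) |>.1
    (IsNoetherian.noetherian (R := ℤ) _)
  have hs : ∀ g ∈ s, ∃ x : B, x ≠ 0 ∧ Weight k A x (Additive.toMul g).val := fun g hg => hsT hg
  choose! xs hx0 hxw using hs
  let h : B := ∏ g ∈ s, xs g
  let H : A := ∏ g ∈ s, (Additive.toMul g).val
  have hh : h ≠ 0 := Finset.prod_ne_zero_iff.2 hx0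
  have hH : Weight k A h H := weight_prod s xs _ hxw
  have hHgl : IsGroupLikeElem k H := weight_groupLike hh hH
  have key : ∀ g ∈ Submodule.span ℤ (s : Set (Additive (GroupLike k A))),
      (∃ (r : ℕ) (y : B), y ≠ 0 ∧ Weight k A y ((Additive.toMul g).val * H ^ r)) ∧
      ∃ (r : ℕ) (y : B), y ≠ 0 ∧ Weight k A y ((Additive.toMul (-g)).val * H ^ r) := by
    intro g hg
    induction hg using Submodule.span_induction with
    | mem g hg =>
      refine ⟨⟨0, xs g, hx0 g hg, by simpa using hxw g hg⟩,
        1, ∏ j ∈ s.erase g, xs j, Finset.prod_ne_zero_iff.2 fun j hj =>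
          hx0 j (Finset.mem_of_mem_erase hj), ?_⟩
      have hcancel : (Additive.toMul (-g)).val * H ^ 1 =
          ∏ j ∈ s.erase g, (Additive.toMul j).val := by
        rw [pow_one]
        show _ * ∏ j ∈ s, _ = _
        rw [← Finset.mul_prod_erase s _ hg, ← mul_assoc, ← GroupLike.val_mul, toMul_neg,
          inv_mul_cancel, GroupLike.val_one, one_mul]
      rw [hcancel]
      exact weight_prod _ _ _ fun j hj => hxw j (Finset.mem_of_mem_erase hj)
    | zero =>
      exact ⟨⟨0, 1, one_ne_zero, by simpa using weight_one⟩,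
        0, 1, one_ne_zero, by simpa using weight_one⟩
    | add g g' _ _ hg hg' =>
      obtain ⟨⟨r, y, hy, hw⟩, r₁, y₁, hy₁, hw₁⟩ := hg
      obtain ⟨⟨r', y', hy', hw'⟩, r₁', y₁', hy₁', hw₁'⟩ := hg'
      refine ⟨⟨r + r', y * y', mul_ne_zero hy hy', ?_⟩,
        r₁ + r₁', y₁ * y₁', mul_ne_zero hy₁ hy₁', ?_⟩
      · convert weight_mul hw hw' using 1
        rw [toMul_add, GroupLike.val_mul, pow_add]
        ring
      · convert weight_mul hw₁ hw₁' using 1
        rw [neg_add, toMul_add, GroupLike.val_mul, pow_add]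
        ring
    | smul n g _ hg =>
      obtain ⟨⟨r, y, hy, hw⟩, r₁, y₁, hy₁, hw₁⟩ := hg
      have hpow : ∀ (m : ℕ) (g : Additive (GroupLike k A)) (r : ℕ) (y : B), y ≠ 0 →
          Weight k A y ((Additive.toMul g).val * H ^ r) →
          ∃ (r : ℕ) (y : B), y ≠ 0 ∧ Weight k A y ((Additive.toMul (m • g)).val * H ^ r) := by
        intro m g r y hy hw
        refine ⟨r * m, y ^ m, pow_ne_zero _ hy, ?_⟩
        have := weight_prod (k := k) (Finset.range m) (fun _ => y)
          (fun _ => (Additive.toMul g).val * H ^ r) (fun _ _ => hw)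
        rw [Finset.prod_const, Finset.prod_const, Finset.card_range, mul_pow, ← pow_mul] at this
        rwa [toMul_nsmul, GroupLike.val_pow]
      rcases Int.eq_nat_or_neg n with ⟨m, rfl | rfl⟩
      · rw [natCast_zsmul]
        exact ⟨hpow m g r y hy hw, by rw [← smul_neg]; exact hpow m (-g) r₁ y₁ hy₁ hw₁⟩
      · rw [neg_smul, natCast_zsmul, neg_neg]
        exact ⟨by rw [← smul_neg]; exact hpow m (-g) r₁ y₁ hy₁ hw₁, hpow m g r y hy hw⟩
  refine ⟨h, hh, fun φ => ?_, fun a b hb hab => ?_⟩
  · have hne : φ H ≠ 0 := (hHgl.isUnit.map φ).ne_zero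
    refine ⟨1, algebraMap k B (φ H)⁻¹, ?_⟩
    rw [hH φ, pow_one, Algebra.smul_def, mul_comm, ← mul_assoc, ← map_mul, inv_mul_cancel₀ hne,
      map_one, one_mul]
  obtain ⟨f, g, e, hrel, ha', hb'⟩ := UniqueFactorizationMonoid.exists_reduced_factors' a b hb
  subst ha' hb'
  rcases eq_or_ne (e * f) 0 with he | he
  · exact ⟨0, 1, 0, 0, one_ne_zero, fun φ => by simp, fun φ => by simp [act_one'], by simp [he]⟩
  have hf : f ≠ 0 := right_ne_zero_of_mul he
  have hg : g ≠ 0 := right_ne_zero_of_mul hb
  have he0 : e ≠ 0 := left_ne_zero_of_mul he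
  have hinv : ∀ φ : A →ₐ[k] k,
      HopfRep.Comod.act k A B φ f * g = f * HopfRep.Comod.act k A B φ g := by
    intro φ
    have h' := hab φ
    rw [act_mul', act_mul'] at h'
    have hc : HopfRep.Comod.act k A B φ e ≠ 0 := by
      intro h0
      have hone : Groth.GitQuot.pointMul (Groth.GitQuot.pointInv φ) φ =
          Bialgebra.counitAlgHom k A := by
        ext a
        simp only [Groth.GitQuot.pointMul, Groth.GitQuot.pointInv, AlgHom.comp_apply,
          Bialgebra.comulAlgHom_apply, Bialgebra.counitAlgHom_apply]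
        let ℛ := Coalgebra.Repr.arbitrary k a
        rw [← ℛ.eq, map_sum]
        have := congrArg φ (HopfAlgebra.sum_antipode_mul_eq_smul ℛ)
        simpa [map_sum] using this
      have h1 := Groth.GitQuot.act_act (k := k) (A := A) (R := B) (Groth.GitQuot.pointInv φ) φ e
      rw [h0, map_zero, hone, ← evPt_eq_act, evPt_counit] at h1
      exact he0 h1.symm
    refine mul_left_cancel₀ (mul_ne_zero hc he0) ?_
    linear_combination h'
  obtain ⟨u, hu1, hu2⟩ := exists_multiplier hf hrel hinv
  obtain ⟨l, hl⟩ : ∃ l : B →ₗ[k] k, l 1 = 1 := by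
    obtain ⟨l, hl⟩ : ∃ l : Module.Dual k B, l 1 ≠ 0 := by
      by_contra hne
      push Not at hne
      exact one_ne_zero ((Module.forall_dual_apply_eq_zero_iff k (1 : B)).1 hne)
    exact ⟨(l 1)⁻¹ • l, by simp [hl]⟩
  let χ : A := TensorProduct.lid k A (l.rTensor A (u : B ⊗[k] A))
  have hlχ : ∀ (φ : A →ₐ[k] k) (z : B ⊗[k] A),
      φ (TensorProduct.lid k A (l.rTensor A z)) = l (evPt φ z) := by
    intro φ z
    induction z using TensorProduct.induction_on with
    | zero => simp
    | add x y hx hy => simp [hx, hy]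
    | tmul x a => simp [evPt_tmul, mul_comm]
  have hscal : ∀ φ : A →ₐ[k] k, evPt φ (u : B ⊗[k] A) = algebraMap k B (φ χ) := by
    intro φ
    obtain ⟨c, hc⟩ := hunits (Units.map (evPt (B := B) φ).toMonoidHom u)
    have hc' : algebraMap k B c = evPt φ (u : B ⊗[k] A) := hc
    rw [hlχ, ← hc', Algebra.algebraMap_eq_smul_one, map_smul, hl, smul_eq_mul, mul_one,
      Algebra.algebraMap_eq_smul_one]
  have hwf : Weight k A f χ := fun φ => by
    rw [← evPt_eq_act, hu1, map_mul, evPt_tmul, map_one, one_smul, hscal, Algebra.smul_def,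
      mul_comm]
  have hwg : Weight k A g χ := fun φ => by
    rw [← evPt_eq_act, hu2, map_mul, evPt_tmul, map_one, one_smul, hscal, Algebra.smul_def,
      mul_comm]
  let G : GroupLike k A := ⟨χ, weight_groupLike hf hwf⟩
  have hG : Additive.ofMul G ∈ Submodule.span ℤ (s : Set (Additive (GroupLike k A))) :=
    hspan ▸ Submodule.subset_span ⟨f, hf, hwf⟩
  obtain ⟨r, y, hy, hwy⟩ := (key _ hG).2
  have hGi : χ * (Additive.toMul (-Additive.ofMul G)).val = 1 := by
    rw [show χ = G.val from rfl, ← GroupLike.val_mul, toMul_neg, toMul_ofMul, mul_inv_cancel,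
      GroupLike.val_one]
  have hwc : ∀ z : B, Weight k A z χ → ∀ φ : A →ₐ[k] k,
      HopfRep.Comod.act k A B φ (z * y) * h ^ r = z * y * HopfRep.Comod.act k A B φ h ^ r := by
    intro z hz φ
    rw [weight_mul hz hwy φ, hH φ, smul_pow, ← mul_assoc χ, hGi, one_mul, map_pow]
    simp only [Algebra.smul_def]
    ring
  exact ⟨f * y, g * y, r, r, mul_ne_zero hg hy, hwc f hwf, hwc g hwg, by ring⟩

end Groth.Agent.S15705
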