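import Groth.Statements.S15706
import Mathlib
-- import your own Groth.Agent.* helpers here

set_option autoImplicit false
universe u
open CAlg

namespace Groth.Agent.S15706

/-- Let A be a Noetherian ring with Serre's property (S_1), stated here in the equivalent form that
every associated prime of A is a minimal prime of A. Let I be an ideal of A and b an element of A/I
which is regular (a non-zero-divisor) in A/I. Then b is the image of a regular element of A. -/
theorem result (A : Type u) [CommRing A]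
    [IsNoetherianRing A] (hS1 : ∀ p ∈ associatedPrimes A A, p ∈ minimalPrimes A) (I : Ideal A)
    (b : A ⧸ I) (hb : b ∈ nonZeroDivisors (A ⧸ I)) :
    ∃ a : A, a ∈ nonZeroDivisors A ∧ Ideal.Quotient.mk I a = b := by
  classical
  have hfin : {p | p ∈ minimalPrimes A}.Finite := minimalPrimes.finite_of_isNoetherianRing A
  obtain ⟨c, rfl⟩ := Ideal.Quotient.mk_surjective b
  have hnI : ∀ p ∈ minimalPrimes A, c ∈ p → ¬ I ≤ p := by
    intro p hp hc hI
    haveI := Ideal.minimalPrimes_isPrime hp
    have hmem : p.map (Ideal.Quotient.mk I) ∈ minimalPrimes (A ⧸ I) := by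
      have hpr : (p.map (Ideal.Quotient.mk I)).IsPrime :=
        Ideal.map_isPrime_of_surjective Ideal.Quotient.mk_surjective (by simpa using hI)
      refine ⟨⟨hpr, bot_le⟩, fun q hq hle => ?_⟩
      haveI := hq.1
      have h2 : q.comap (Ideal.Quotient.mk I) ≤ p := by
        refine (Ideal.comap_mono hle).trans ?_
        rw [Ideal.comap_map_of_surjective _ Ideal.Quotient.mk_surjective, ← RingHom.ker_eq_comap_bot,
          Ideal.mk_ker, sup_eq_left.2 hI]
      have h3 : p ≤ q.comap (Ideal.Quotient.mk I) := hp.2 ⟨inferInstance, bot_le⟩ h2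
      exact Ideal.map_le_iff_le_comap.2 h3
    exact Set.disjoint_left.1 (Ideal.disjoint_nonZeroDivisors_of_mem_minimalPrimes hmem)
      (Ideal.mem_map_of_mem _ hc) hb
  set F := hfin.toFinset with hF
  let J : Ideal A := I ⊓ (F.filter fun p => c ∉ p).inf id
  obtain ⟨x, hxJ, hx⟩ : ∃ x ∈ J, ∀ p ∈ F.filter (fun p => c ∈ p), x ∉ p := by
    by_contra hcon
    push Not at hcon
    rcases (F.filter fun p => c ∈ p).eq_empty_or_nonempty with he | ⟨p₀, hp₀⟩
    · obtain ⟨p, hp, -⟩ := hcon 0 (zero_mem _)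
      rw [he] at hp; exact Finset.notMem_empty _ hp
    have hsub : (J : Set A) ⊆ ⋃ p ∈ ((F.filter fun p => c ∈ p : Finset (Ideal A)) : Set (Ideal A)), (p : Set A) := by
      intro x hx
      obtain ⟨p, hp, hxp⟩ := hcon x hx
      simp only [Set.mem_iUnion, SetLike.mem_coe]
      exact ⟨p, Finset.mem_coe.2 hp, hxp⟩
    obtain ⟨p, hp, hle⟩ := (Ideal.subset_union_prime (f := fun p : Ideal A => p) p₀ p₀
      (fun p hp _ _ => Ideal.minimalPrimes_isPrime (hfin.mem_toFinset.1 (Finset.mem_filter.1 hp).1))).1 hsub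
    obtain ⟨hpF, hcp⟩ := Finset.mem_filter.1 hp
    have hpm := hfin.mem_toFinset.1 hpF
    haveI := Ideal.minimalPrimes_isPrime hpm
    rcases ((by infer_instance : p.IsPrime).inf_le).1 hle with h | h
    · exact hnI p hpm hcp h
    · obtain ⟨q, hq, hqp⟩ := ((by infer_instance : p.IsPrime).inf_le').1 h
      obtain ⟨hqF, hcq⟩ := Finset.mem_filter.1 hq
      have hqm := hfin.mem_toFinset.1 hqF
      exact hcq (hpm.2 ⟨Ideal.minimalPrimes_isPrime hqm, bot_le⟩ hqp hcp)
  obtain ⟨hxI, hx2⟩ := hxJ
  refine ⟨c + x, ?_, ?_⟩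
  · by_contra hnz
    have : c + x ∈ ⋃ p ∈ associatedPrimes A A, (p : Set A) := by
      rw [biUnion_associatedPrimes_eq_compl_nonZeroDivisors]; exact hnz
    simp only [Set.mem_iUnion, SetLike.mem_coe] at this
    obtain ⟨p, hp, hcx⟩ := this
    have hpF : p ∈ F := hfin.mem_toFinset.2 (hS1 p hp)
    by_cases hcp : c ∈ p
    · exact hx p (Finset.mem_filter.2 ⟨hpF, hcp⟩) ((Ideal.add_mem_iff_right p hcp).1 hcx)
    · have hxp : x ∈ p := Finset.inf_le (f := id) (Finset.mem_filter.2 ⟨hpF, hcp⟩) hx2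
      exact hcp ((Ideal.add_mem_iff_left p hxp).1 hcx)
  · rw [map_add, Ideal.Quotient.eq_zero_iff_mem.2 hxI, add_zero]

end Groth.Agent.S15706
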