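import Groth.Statements.S15708
import Mathlib
-- import your own Groth.Agent.* helpers here

set_option autoImplicit false
universe u v
open CAlg

namespace Groth.Agent.S15708

/-- Let A be a Noetherian commutative ring graded by the natural numbers, J a homogeneous ideal, and
p_1, ..., p_r finitely many prime ideals such that no p_i contains the irrelevant ideal A_+ and no
p_i contains J. Then there is a homogeneous element z of positive degree with z in J and z in no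
p_i. -/
theorem result {R : Type u} {A : Type v} [CommRing R] [CommRing A]
    [Algebra R A] [IsNoetherianRing A] (𝒜 : ℕ → Submodule R A) [GradedRing 𝒜]
    (J : Ideal A) (hJ : J.IsHomogeneous 𝒜) (P : Finset (Ideal A))
    (hP : ∀ p ∈ P, p.IsPrime ∧ ¬ (HomogeneousIdeal.irrelevant 𝒜).toIdeal ≤ p ∧ ¬ J ≤ p) :
    ∃ (z : A) (n : ℕ), 0 < n ∧ z ∈ 𝒜 n ∧ z ∈ J ∧ ∀ p ∈ P, z ∉ p := by
  classical
  -- replace the primes by their homogeneous cores, and keep the maximal ones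
  let C := P.image fun p => (Ideal.homogeneousCore 𝒜 p).toIdeal
  have hC : ∀ c ∈ C, c.IsPrime ∧ c.IsHomogeneous 𝒜 ∧ ¬ (HomogeneousIdeal.irrelevant 𝒜).toIdeal ≤ c ∧ ¬ J ≤ c := by
    intro c hc
    obtain ⟨p, hp, rfl⟩ := Finset.mem_image.1 hc
    obtain ⟨h1, h2, h3⟩ := hP p hp
    exact ⟨h1.homogeneousCore, (Ideal.homogeneousCore 𝒜 p).isHomogeneous,
      fun h => h2 (h.trans (Ideal.toIdeal_homogeneousCore_le 𝒜 p)),
      fun h => h3 (h.trans (Ideal.toIdeal_homogeneousCore_le 𝒜 p))⟩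
  let Q := C.filter fun p => ∀ q ∈ C, p ≤ q → q ≤ p
  have hQ : ∀ p ∈ C, ∃ q ∈ Q, p ≤ q := by
    intro p hp
    obtain ⟨q, hmax⟩ := (C.filter fun q => p ≤ q).exists_maximal ⟨p, Finset.mem_filter.2 ⟨hp, le_rfl⟩⟩
    obtain ⟨hqP, hpq⟩ := Finset.mem_filter.1 hmax.prop
    exact ⟨q, Finset.mem_filter.2 ⟨hqP, fun r hr hqr =>
      hmax.le_of_ge (Finset.mem_filter.2 ⟨hr, hpq.trans hqr⟩) hqr⟩, hpq⟩
  suffices ∃ (z : A) (n : ℕ), 0 < n ∧ z ∈ 𝒜 n ∧ z ∈ J ∧ ∀ p ∈ Q, z ∉ p by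
    obtain ⟨z, n, h1, h2, h3, h4⟩ := this
    refine ⟨z, n, h1, h2, h3, fun p hp hz => ?_⟩
    obtain ⟨q, hq, hpq⟩ := hQ _ (Finset.mem_image_of_mem _ hp)
    exact h4 q hq (hpq (Ideal.mem_homogeneousCore_of_homogeneous_of_mem ⟨n, h2⟩ hz))
  have hom : ∀ (K : Ideal A) (p : Ideal A), K.IsHomogeneous 𝒜 → ¬ K ≤ p → ∃ a n, a ∈ 𝒜 n ∧ a ∈ K ∧ a ∉ p := by
    intro K p hK hKp
    obtain ⟨a, ha, hap⟩ := SetLike.not_le_iff_exists.1 hKp
    by_contra hcon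
    push Not at hcon
    apply hap
    rw [← DirectSum.sum_support_decompose 𝒜 a]
    exact Ideal.sum_mem _ fun i _ => hcon _ i (SetLike.coe_mem _) (hK i ha)
  have irr : ∀ p ∈ C, ∃ a n, 0 < n ∧ a ∈ 𝒜 n ∧ a ∉ p := by
    intro p hp
    obtain ⟨a, n, h1, h2, h3⟩ := hom _ p (HomogeneousIdeal.irrelevant 𝒜).isHomogeneous (hC p hp).2.2.1
    rcases Nat.eq_zero_or_pos n with rfl | hn
    · exfalso
      apply h3
      have h4 : GradedRing.proj 𝒜 0 a = 0 := (HomogeneousIdeal.mem_irrelevant_iff 𝒜 a).1 h2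
      rw [GradedRing.proj_apply, DirectSum.decompose_of_mem_same 𝒜 h1] at h4
      rw [h4]; exact zero_mem p
    · exact ⟨a, n, hn, h1, h3⟩
  have each : ∀ p : Q, ∃ a n, 0 < n ∧ a ∈ 𝒜 n ∧ a ∈ J ∧ a ∉ (p : Ideal A) ∧ ∀ q : Q, q ≠ p → a ∈ (q : Ideal A) := by
    rintro ⟨p, hp⟩
    obtain ⟨hpC, hpmax⟩ := Finset.mem_filter.1 hp
    have hsep : ∀ q ∈ Q.erase p, ∃ b m, b ∈ 𝒜 m ∧ b ∈ q ∧ b ∉ p := by
      intro q hq
      obtain ⟨hne, hqQ⟩ := Finset.mem_erase.1 hq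
      obtain ⟨hqC, hqmax⟩ := Finset.mem_filter.1 hqQ
      exact hom q p (hC q hqC).2.1 (fun h => hne (le_antisymm h (hqmax p hpC h)))
    choose b m hb1 hb2 hb3 using hsep
    obtain ⟨c, nc, hc1, hc2, hc3⟩ := irr p hpC
    obtain ⟨d, nd, hd1, hd2, hd3⟩ := hom J p hJ (hC p hpC).2.2.2
    haveI := (hC p hpC).1
    let B := ∏ q ∈ (Q.erase p).attach, b q.1 q.2
    refine ⟨c * d * B, nc + nd + ∑ q ∈ (Q.erase p).attach, m q.1 q.2, by omega, ?_, ?_, ?_, ?_⟩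
    · refine SetLike.mul_mem_graded (SetLike.mul_mem_graded hc2 hd1) ?_
      exact SetLike.prod_mem_graded _ _ _ fun q _ => hb1 q.1 q.2
    · exact J.mul_mem_right _ (J.mul_mem_left _ hd2)
    · intro h
      rcases (hC p hpC).1.mem_or_mem h with h | h
      · exact ((hC p hpC).1.mem_or_mem h).elim hc3 hd3
      · obtain ⟨q, -, hq⟩ := (Ideal.IsPrime.prod_mem_iff).1 h
        exact hb3 q.1 q.2 hq
    · rintro ⟨q, hq⟩ hne
      refine Ideal.mul_mem_left _ _ ?_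
      have hq' : q ∈ Q.erase p := Finset.mem_erase.2 ⟨fun h => hne (Subtype.ext h), hq⟩
      exact Ideal.prod_mem (I := q) (Finset.mem_attach _ ⟨q, hq'⟩) (hb2 q hq')
  choose a n hn ha haJ hap haq using each
  rcases Q.eq_empty_or_nonempty with he | ⟨q₀, hq₀⟩
  · exact ⟨0, 1, one_pos, zero_mem _, zero_mem _, by simp [he]⟩
  let N := ∏ p : Q, n p
  have hN : 0 < N := Finset.prod_pos fun p _ => hn p
  have hdvd : ∀ p, n p ∣ N := fun p => Finset.dvd_prod_of_mem _ (Finset.mem_univ p)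
  have he : ∀ p, 0 < N / n p := fun p => Nat.div_pos (Nat.le_of_dvd hN (hdvd p)) (hn p)
  refine ⟨∑ p : Q, a p ^ (N / n p), N, hN, sum_mem fun p _ => ?_, J.sum_mem fun p _ => ?_, fun p hp h => ?_⟩
  · have := SetLike.pow_mem_graded (N / n p) (ha p)
    rwa [smul_eq_mul, Nat.div_mul_cancel (hdvd p)] at this
  · exact Ideal.pow_mem_of_mem J (haJ p) _ (he p)
  · haveI := (hC p (Finset.mem_filter.1 hp).1).1
    rw [← Finset.add_sum_erase _ _ (Finset.mem_univ (⟨p, hp⟩ : Q))] at h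
    have h2 : (∑ q ∈ Finset.univ.erase (⟨p, hp⟩ : Q), a q ^ (N / n q)) ∈ p := Ideal.sum_mem _ fun q hq =>
      Ideal.pow_mem_of_mem _ (haq q ⟨p, hp⟩ (Finset.mem_erase.1 hq).1.symm) _ (he q)
    exact hap ⟨p, hp⟩ ((Ideal.IsPrime.mem_of_pow_mem (by infer_instance) _ ((Ideal.add_mem_iff_left p h2).1 h)))

end Groth.Agent.S15708
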