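import Groth.Statements.S15712
import Groth.Agent.S5091
import Groth.Agent.QfCodim.Scheme
import Groth.Agent.Reductive2.BiratHom
-- import your own Groth.Agent.* helpers here

set_option autoImplicit false
universe u
open CategoryTheory AlgebraicGeometry TopologicalSpace
open RatSing

namespace Groth.Agent.S15712

/-- Let X be a locally Noetherian scheme with Serre's property (S_1), i.e. every local ring O_{X,x} has
depth at least min(1, dim O_{X,x}) (for instance X Cohen–Macaulay), and let U ⊆ X be open. Then
scheme-theoretic density of U in X is equivalent to U being dense as a subset. (The published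
statement assumes every scheme excellent, in particular locally Noetherian.) -/
theorem result (X : Scheme.{u}) [IsLocallyNoetherian X]
    (hS1 : ∀ x : X, min (1 : WithBot ℕ∞) (ringKrullDim (X.presheaf.stalk x)) ≤
      ((LocCoh.depth (X.presheaf.stalk x) (X.presheaf.stalk x) : ℕ∞) : WithBot ℕ∞))
    (U : X.Opens) : CInt.IsSchematicallyDense U ↔ Dense (U : Set X) := by
  refine ⟨Groth.Reductive2.Birat.dense_of_isSchematicallyDense, fun hd => ?_⟩
  rw [Groth.Agent.S5091.result]
  intro x hx
  have h0 : Order.coheight x ≠ 0 := fun h => hx (Groth.QfCodim.mem_of_dense_of_coheight_eq_zero U.isOpen hd h)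
  have h := hS1 x
  rw [ringKrullDim_stalk_eq_coheight] at h
  have h1 : (1 : ℕ∞) ≤ Order.coheight x := Order.one_le_iff_pos.mpr (pos_iff_ne_zero.mpr h0)
  have h1' : (1 : WithBot ℕ∞) ≤ ((Order.coheight x : ℕ∞) : WithBot ℕ∞) := by exact_mod_cast h1
  rw [min_eq_left h1'] at h
  exact_mod_cast h

end Groth.Agent.S15712
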