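import Groth.Statements.S3833
-- import your own Groth.Agent.* helpers here

set_option autoImplicit false
universe u
open CategoryTheory CategoryTheory.Limits AlgebraicGeometry TopologicalSpace
open Rat20

namespace Groth.Agent.S3833

/-- Stated for a global section, the case of a section over an open subset U being the same statement
for the open subscheme U: let X be a scheme and s a global section of O_X which is regular in the
sense that its germ at every point x is a non-zero-divisor of the local ring O_{X,x} (on an affine
scheme this is the same as being a non-zero-divisor of Γ(X, O_X), but not in general). Then the open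
subset X_s where s is invertible is schematically dense in X. -/
theorem result (X : Scheme.{u}) (s : Γ(X, ⊤))
    (hs : ∀ x : ↥X, (X.presheaf.germ ⊤ x trivial s) ∈ nonZeroDivisors ↑(X.presheaf.stalk x)) :
    CInt.IsSchematicallyDense (X.basicOpen s) := by
  intro V
  refine (injective_iff_map_eq_zero (X.presheaf.map (homOfLE (inf_le_left : V ⊓ X.basicOpen s ≤ V)).op).hom).2
    fun t ht => ?_
  apply TopCat.Presheaf.section_ext X.sheaf
  intro x hx
  erw [map_zero]
  obtain ⟨_, ⟨W, hW, rfl⟩, hxW, hWV⟩ :=
    X.isBasis_affineOpens.exists_subset_of_mem_open hx V.isOpen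
  replace hW : IsAffineOpen W := hW
  replace hWV : W ≤ V := hWV
  set sW : Γ(X, W) := X.presheaf.map (homOfLE le_top).op s with hsW
  have hb : X.basicOpen sW ≤ V ⊓ X.basicOpen s := by
    rw [hsW, Scheme.basicOpen_res]
    exact le_inf (inf_le_left.trans hWV) inf_le_right
  have := hW.isLocalization_basicOpen sW
  have h0 : algebraMap Γ(X, W) Γ(X, X.basicOpen sW) (X.presheaf.map (homOfLE hWV).op t) = 0 := by
    have h1 := congrArg (X.presheaf.map (homOfLE hb).op).hom ht
    rw [map_zero] at h1
    erw [← CommRingCat.comp_apply, ← Functor.map_comp] at h1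
    change (X.presheaf.map (homOfLE (X.basicOpen_le sW)).op).hom _ = 0
    erw [← CommRingCat.comp_apply, ← Functor.map_comp]
    exact h1
  obtain ⟨⟨_, n, rfl⟩, hn⟩ := (IsLocalization.map_eq_zero_iff (Submonoid.powers sW) _ _).1 h0
  have h2 := congrArg (X.presheaf.germ W x hxW).hom hn
  dsimp only at h2
  rw [map_mul, map_pow, map_zero, hsW, TopCat.Presheaf.germ_res_apply,
    TopCat.Presheaf.germ_res_apply] at h2
  exact ((pow_mem (hs x) n).2 _ (by rw [mul_comm]; exact h2))

end Groth.Agent.S3833
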