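import Groth.Statements.S3834
import Groth.Agent.S3833
import Mathlib.RingTheory.Ideal.AssociatedPrime.Finiteness
-- import your own Groth.Agent.* helpers here

set_option autoImplicit false
universe u
open CategoryTheory CategoryTheory.Limits AlgebraicGeometry TopologicalSpace
open Rat20

namespace Groth.Agent.S3834

theorem irredComponents_finite_of_homeo {α β : Type u} [TopologicalSpace α] [TopologicalSpace β]
    (e : α ≃ₜ β) (h : (irreducibleComponents α).Finite) : (irreducibleComponents β).Finite := by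
  refine (h.image (fun Z => e '' Z)).subset fun Z hZ => ⟨e ⁻¹' Z, ?_, e.image_preimage Z⟩
  refine ⟨⟨?_, ?_⟩, fun W hW hZW => ?_⟩
  · obtain ⟨z, hz⟩ := hZ.1.nonempty
    exact ⟨e.symm z, by simpa using hz⟩
  · rw [← e.image_symm]
    exact hZ.1.isPreirreducible.image _ e.symm.continuous.continuousOn
  · intro w hw
    have := hZ.2 (hW.image e e.continuous.continuousOn) (by
      rw [← e.image_preimage Z]; exact Set.image_mono hZW)
    exact this ⟨w, hw, rfl⟩

/-- A finite family of primes covering the zero divisors, each with a witness killed by it. -/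
theorem exists_covering (A : Type u) [CommRing A]
    (h : IsNoetherianRing A ∨ (_root_.IsReduced A ∧ (minimalPrimes A).Finite)) :
    ∃ P : Set (Ideal A), P.Finite ∧ (∀ p ∈ P, p.IsPrime) ∧
      (∀ x : A, x ∉ nonZeroDivisors A → ∃ p ∈ P, x ∈ p) ∧ ∀ p ∈ P, ∃ a : A, a ≠ 0 ∧ ∀ f ∈ p, f * a = 0 := by
  have hzd : ∀ x : A, x ∉ nonZeroDivisors A → ∃ y, y ≠ 0 ∧ x * y = 0 := fun x hx => by
    by_contra! hc
    exact hx (mem_nonZeroDivisors_iff_right.2 fun y hy => by
      by_contra hy0; exact hc y hy0 (mul_comm x y ▸ hy))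
  rcases h with h | ⟨hred, hfin⟩
  · refine ⟨associatedPrimes A A, associatedPrimes.finite A A, fun p hp => IsAssociatedPrime.isPrime hp,
      fun x hx => ?_, fun p hp => ?_⟩
    · obtain ⟨y, hy0, hy⟩ := hzd x hx
      have hx' : x ∈ ⋃ p ∈ associatedPrimes A A, (p : Set A) := by
        rw [biUnion_associatedPrimes_eq_zero_divisors]; exact ⟨y, hy0, hy⟩
      simpa using hx'
    · obtain ⟨hp', a, ha⟩ := isAssociatedPrime_iff.1 hp
      refine ⟨a, fun h0 => hp'.ne_top ?_, fun f hf => ?_⟩
      · rw [ha, h0]; exact (Submodule.colon_eq_top_iff_subset _).2 (by simp)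
      · rw [ha, Submodule.mem_colon_singleton, Submodule.mem_bot] at hf
        simpa using hf
  · classical
    refine ⟨minimalPrimes A, hfin, fun p hp => hp.1.1, fun x hx => ?_, fun p hp => ?_⟩
    · obtain ⟨y, hy0, hy⟩ := hzd x hx
      by_contra! hc
      refine hy0 (IsReduced.eq_zero y ?_)
      rw [← mem_nilradical, nilradical, Ideal.mem_radical_iff]
      have : y ∈ sInf (minimalPrimes A) := Submodule.mem_sInf.2 fun p hp =>
        (hp.1.1.mem_or_mem (show x * y ∈ p by rw [hy]; exact zero_mem p)).resolve_left (hc p hp)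
      rw [minimalPrimes, Ideal.sInf_minimalPrimes, Ideal.mem_radical_iff] at this
      exact this
    · have hpp : p.IsPrime := hp.1.1
      have : ∀ q ∈ hfin.toFinset.erase p, ∃ y ∈ q, y ∉ p := fun q hq => by
        rw [Finset.mem_erase, hfin.mem_toFinset] at hq
        by_contra! hc
        exact hq.1 (le_antisymm hc (hp.2 ⟨hq.2.1.1, bot_le⟩ hc))
      choose y hyq hyp using this
      let a := ∏ q ∈ (hfin.toFinset.erase p).attach, y q.1 q.2
      have hap : a ∉ p := fun ha => by
        obtain ⟨q, -, hq⟩ := hpp.prod_mem_iff.1 ha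
        exact hyp _ q.2 hq
      refine ⟨a, fun h0 => hap (h0 ▸ zero_mem p), fun f hf => IsReduced.eq_zero _ ?_⟩
      have : f * a ∈ sInf (minimalPrimes A) := Submodule.mem_sInf.2 fun q hq => by
        by_cases hqp : q = p
        · exact hqp ▸ Ideal.mul_mem_right a p hf
        · exact Ideal.mul_mem_left q f (Ideal.prod_mem q (Finset.mem_attach _ ⟨q, by simp [hqp, hq]⟩) (hyq q _))
      rw [minimalPrimes, Ideal.sInf_minimalPrimes, Ideal.mem_radical_iff] at this
      exact this

/-- Let X = Spec A be an affine scheme, with A Noetherian, or A reduced with finitely many minimal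
primes. Then an open subset U of X is schematically dense if and only if it contains an open subset
of the form X_t with t a regular element of A = Γ(X, O_X). -/
theorem result (X : Scheme.{u}) [IsAffine X]
    (hX : IsNoetherian X ∨ (IsReduced X ∧ (irreducibleComponents ↥X).Finite)) (U : X.Opens) :
    CInt.IsSchematicallyDense U ↔ ∃ t : Γ(X, ⊤), t ∈ nonZeroDivisors Γ(X, ⊤) ∧ X.basicOpen t ≤ U := by
  have hW := isAffineOpen_top X
  constructor
  · intro hU
    have h' : IsNoetherianRing Γ(X, ⊤) ∨ (_root_.IsReduced Γ(X, ⊤) ∧ (minimalPrimes Γ(X, ⊤)).Finite) := by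
      rcases hX with hX | ⟨hred, hfin⟩
      · exact Or.inl (IsLocallyNoetherian.component_noetherian (⟨⊤, hW⟩ : X.affineOpens))
      · refine Or.inr ⟨inferInstance, ?_⟩
        rw [← PrimeSpectrum.vanishingIdeal_irreducibleComponents]
        exact ((irredComponents_finite_of_homeo X.isoSpec.schemeIsoToHomeo hfin).image _)
    obtain ⟨P, hP, hPprime, hcov, hwit⟩ := exists_covering Γ(X, ⊤) h'
    let I : Ideal Γ(X, ⊤) :=
      { carrier := {f | X.basicOpen f ≤ U}
        add_mem' := fun {a b} ha hb => by
          intro x hx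
          rw [Scheme.mem_basicOpen X _ x (show x ∈ (⊤ : X.Opens) from trivial), map_add] at hx
          rcases IsLocalRing.isUnit_or_isUnit_of_isUnit_add hx with h | h
          · exact ha ((Scheme.mem_basicOpen X _ x (show x ∈ (⊤ : X.Opens) from trivial)).2 h)
          · exact hb ((Scheme.mem_basicOpen X _ x (show x ∈ (⊤ : X.Opens) from trivial)).2 h)
        zero_mem' := by simp [Scheme.basicOpen_zero]
        smul_mem' := fun c a ha => by
          simp only [smul_eq_mul, Set.mem_ofPred_eq, Scheme.basicOpen_mul]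
          exact inf_le_right.trans ha }
    by_contra! hc
    have hsub : (I : Set Γ(X, ⊤)) ⊆ ⋃ p ∈ P, (p : Set Γ(X, ⊤)) := fun f hf => by
      obtain ⟨p, hp, hfp⟩ := hcov f fun hf' => hc f hf' hf
      exact Set.mem_biUnion hp hfp
    obtain ⟨p, hp, hle⟩ := (Ideal.subset_union_prime_finite hP ⊥ ⊥ (fun p hp _ _ => hPprime p hp)).1 hsub
    obtain ⟨a, ha0, ha⟩ := hwit p hp
    refine ha0 (hU ⊤ ?_)
    rw [map_zero]
    apply TopCat.Presheaf.section_ext X.sheaf
    intro x hx
    erw [map_zero, TopCat.Presheaf.germ_res_apply]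
    obtain ⟨f, hfU, hxf⟩ := hW.exists_basicOpen_le ⟨x, hx.2⟩ trivial
    have := congrArg (X.presheaf.germ ⊤ x trivial).hom (ha f (hle hfU))
    rw [map_mul, map_zero] at this
    exact ((Scheme.mem_basicOpen X _ x (show x ∈ (⊤ : X.Opens) from trivial)).1 hxf).mul_right_eq_zero.1 this
  · rintro ⟨t, ht, htU⟩ V a b hab
    refine Groth.Agent.S3833.result X t (fun x => ?_) V ?_
    · let _ : Algebra Γ(X, ⊤) (X.presheaf.stalk x) :=
        TopCat.Presheaf.algebra_section_stalk X.presheaf (⟨x, trivial⟩ : (⊤ : X.Opens))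
      have := hW.isLocalization_stalk ⟨x, trivial⟩
      exact IsLocalization.map_nonZeroDivisors_le (hW.primeIdealOf ⟨x, trivial⟩).asIdeal.primeCompl
        (X.presheaf.stalk x) ⟨t, ht, rfl⟩
    · have := congrArg (X.presheaf.map (homOfLE (inf_le_inf_left V htU)).op).hom hab
      erw [← CommRingCat.comp_apply, ← Functor.map_comp, ← CommRingCat.comp_apply, ← Functor.map_comp] at this
      exact this

end Groth.Agent.S3834
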