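import Groth.Statements.S15715
import Groth.Agent.S3834
import Groth.Agent.QCohMod.Sections
import Groth.Agent.Reductive2.BiratHom
-- import your own Groth.Agent.* helpers here

set_option autoImplicit false
universe u
open CategoryTheory AlgebraicGeometry TopologicalSpace
open RatSing

namespace Groth.Agent.S15715

/-- Let X be a locally Noetherian scheme, φ : F → G a homomorphism of O_X-modules with F quasi-coherent
and torsion-free (over every affine open V, no nonzero section of F is killed by a regular element
of O_X(V)), and U a scheme-theoretically dense open subset of X such that the restriction of φ to U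
is injective. Then φ is injective. (The published statement allows an arbitrary O_X-module F; for
the skyscraper sheaf on the affine line over a field, placed at a closed point with value the local
ring at that point, which is torsion-free in this sense, the zero map to the zero module is
injective over the dense open complement of the point but not injective. This row takes F
quasi-coherent.) -/
theorem result (X : Scheme.{u})
    [IsLocallyNoetherian X] (F G : X.Modules) (hF : Coh.IsQCoh F)
    (htf : ∀ V : X.affineOpens, Submodule.torsion Γ(X, V.1) (F.val.obj (Opposite.op V.1)) = ⊥)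
    (φ : F ⟶ G) (U : X.Opens) (hU : CInt.IsSchematicallyDense U)
    (hφU : ∀ V : X.Opens, V ≤ U → Function.Injective ⇑(ConcreteCategory.hom (φ.val.app (Opposite.op V)))) (V : X.Opens) :
    Function.Injective ⇑(ConcreteCategory.hom (φ.val.app (Opposite.op V))) := by
  haveI : F.IsQuasicoherent := hF
  intro a b hab
  rw [← sub_eq_zero]
  generalize hs : a - b = s
  replace hab : φ.app V s = 0 := by
    rw [← hs]
    exact (map_sub (φ.app V).hom a b).trans (sub_eq_zero.mpr hab)
  refine TopCat.Sheaf.eq_of_locally_eq' ⟨F.presheaf, F.isSheaf⟩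
    (fun W : {W : X.affineOpens // W.1 ≤ V} => W.1.1) V (fun W => homOfLE W.2) (fun p hp => ?_) s 0 fun W => ?_
  · obtain ⟨_, ⟨W, hW, rfl⟩, hpW, hWV⟩ := X.isBasis_affineOpens.exists_subset_of_mem_open hp V.2
    exact TopologicalSpace.Opens.mem_iSup.mpr ⟨⟨⟨W, hW⟩, hWV⟩, hpW⟩
  obtain ⟨⟨W, hW⟩, hWV⟩ := W
  show Groth.QCohMod.res F hWV s = Groth.QCohMod.res F hWV 0
  rw [map_zero]
  haveI : IsAffine W.toScheme := hW
  haveI : IsNoetherian W.toScheme := ⟨⟩
  obtain ⟨t, ht, htU⟩ := (Groth.Agent.S3834.result W.toScheme (Or.inl inferInstance) (W.ι ⁻¹ᵁ U)).mp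
    (Groth.Reductive2.Birat.isSchematicallyDense_preimage W.ι hU)
  let g : Γ(X, W) := W.topIso.hom t
  have hg : g ∈ nonZeroDivisors Γ(X, W) := by
    rw [mem_nonZeroDivisors_iff_right] at ht ⊢
    intro y hy
    have := ht (W.topIso.inv y) (by
      have := congrArg W.topIso.inv.hom hy
      rwa [map_mul, map_zero, Iso.hom_inv_id_apply] at this)
    have := congrArg W.topIso.hom.hom this
    rwa [map_zero, Iso.inv_hom_id_apply] at this
  have hDU : X.basicOpen g ≤ U := by
    intro p hp
    have e : W.ι ''ᵁ W.toScheme.basicOpen t = X.basicOpen g := by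
      rw [Scheme.image_basicOpen, Scheme.Opens.ι_appIso]
      simp only [g, Scheme.Opens.topIso_hom, Iso.refl_inv]
      exact (Scheme.basicOpen_res_eq _ _ _).symm
    rw [← e] at hp
    obtain ⟨q, hq, rfl⟩ := hp
    exact htU hq
  have h0 : Groth.QCohMod.res F (X.basicOpen_le g) (Groth.QCohMod.res F hWV s) = 0 := by
    apply hφU (X.basicOpen g) hDU
    show φ.app _ _ = φ.app _ 0
    rw [map_zero, Groth.QCohMod.res_res, ← Groth.QCohMod.res_app, hab, map_zero]
  obtain ⟨n, hn⟩ := Groth.QCohMod.exists_pow_smul_eq_zero F hW g _ h0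
  exact (Submodule.eq_bot_iff _).mp (htf ⟨W, hW⟩) _
    ((Submodule.mem_torsion_iff _).mpr ⟨⟨g ^ n, pow_mem hg n⟩, hn⟩)

end Groth.Agent.S15715
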