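import Groth.Statements.S15717
import Mathlib
import Groth.Agent.S5758
import Groth.Agent.S5757
import Groth.Agent.Ega4Algebra1.CatenaryDim
-- import your own Groth.Agent.* helpers here

set_option autoImplicit false
universe u
open CAlg

namespace Groth.Agent.S15717

/-- Let R be a Cohen–Macaulay local ring and I an ideal of R with R/I equidimensional (all minimal
primes p over I have the same dim R/p). Then there is a regular sequence r_1, ..., r_n in I such
that the closed subscheme V(r_1, ..., r_n) of Spec R, a local complete intersection, contains V(I),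
has the same dimension as V(I), and has the irreducible components of V(I) among its irreducible
components: dim R/(r_1, ..., r_n) = dim R/I and every minimal prime over I is a minimal prime over
(r_1, ..., r_n). The sequence is asked to be weakly regular (each r_i a non-zero-divisor modulo the
previous ones), which for I proper is the same as regular and which also covers I = R with the
sequence (1). -/
theorem result (R : Type u) [CommRing R]
    [LocCoh.IsCohenMacaulayLocalRing R] (I : Ideal R)
    (hI : ∀ p ∈ I.minimalPrimes, ringKrullDim (R ⧸ p) = ringKrullDim (R ⧸ I)) :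
    ∃ rs : List R, RingTheory.Sequence.IsWeaklyRegular R rs ∧ Ideal.ofList rs ≤ I ∧
      ringKrullDim (R ⧸ Ideal.ofList rs) = ringKrullDim (R ⧸ I) ∧
      I.minimalPrimes ⊆ (Ideal.ofList rs).minimalPrimes := by
  classical
  rcases eq_or_ne I ⊤ with rfl | hItop
  · refine ⟨[1], ?_, le_top, ?_, ?_⟩
    · rw [RingTheory.Sequence.isWeaklyRegular_singleton_iff]; exact IsSMulRegular.one R
    · rw [Ideal.ofList_singleton, Ideal.span_singleton_one]
    · rw [Ideal.minimalPrimes_top]; exact Set.empty_subset _
  have hIm : I ≤ IsLocalRing.maximalIdeal R := IsLocalRing.le_maximalIdeal hItop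
  have hCM : LocCoh.IsCohenMacaulayModule R R := LocCoh.IsCohenMacaulayLocalRing.supportDim_eq_depth
  have hdimq : ∀ J : Ideal R, Module.supportDim R (R ⧸ (J • (⊤ : Submodule R R))) = ringKrullDim (R ⧸ J) := by
    intro J
    rw [Module.supportDim_eq_of_equiv (Submodule.quotEquivOfEq (J • ⊤ : Submodule R R) J (by simp)),
      Module.supportDim_quotient_eq_ringKrullDim]
  have hlen : ∀ rs : List R, RingTheory.Sequence.IsWeaklyRegular R rs → (∀ x ∈ rs, x ∈ I) →
      ringKrullDim (R ⧸ Ideal.ofList rs) + rs.length = ringKrullDim R := by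
    intro rs h1 h2
    have := ((Groth.Agent.S5758.result R R hCM rs fun x hx => hIm (h2 x hx)).1).1 h1
    rwa [hdimq, Module.supportDim_self_eq_ringKrullDim] at this
  obtain ⟨d, hd⟩ : ∃ d : ℕ, ringKrullDim R = d := by
    refine ⟨(ringKrullDim R).unbot ringKrullDim_ne_bot |>.toNat, ?_⟩
    conv_lhs => rw [← WithBot.coe_unbot (ringKrullDim R) ringKrullDim_ne_bot]
    rw [show ((((ringKrullDim R).unbot ringKrullDim_ne_bot).toNat : ℕ) : WithBot ℕ∞) =
      (((((ringKrullDim R).unbot ringKrullDim_ne_bot).toNat : ℕ) : ℕ∞) : WithBot ℕ∞) from rfl,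
      ENat.coe_toNat]
    intro h
    refine ringKrullDim_ne_top (R := R) ?_
    conv_lhs => rw [← WithBot.coe_unbot (ringKrullDim R) ringKrullDim_ne_bot, h]
    rfl
  have step : ∀ (k : ℕ) (rs : List R), d - rs.length ≤ k → RingTheory.Sequence.IsWeaklyRegular R rs →
      (∀ x ∈ rs, x ∈ I) → ∃ rs' : List R, RingTheory.Sequence.IsWeaklyRegular R rs' ∧ (∀ x ∈ rs', x ∈ I) ∧
        ∃ q ∈ associatedPrimes R (R ⧸ (Ideal.ofList rs' • (⊤ : Submodule R R))), I ≤ q := by
    intro k
    induction k with
    | zero | succ k ih =>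
      intro rs hk h1 h2
      by_cases hq : ∃ q ∈ associatedPrimes R (R ⧸ (Ideal.ofList rs • (⊤ : Submodule R R))), I ≤ q
      · exact ⟨rs, h1, h2, hq⟩
      push Not at hq
      obtain ⟨x, hxI, hx⟩ : ∃ x ∈ I, IsSMulRegular (R ⧸ (Ideal.ofList rs • (⊤ : Submodule R R))) x := by
        by_contra hcon
        push Not at hcon
        have hfin := associatedPrimes.finite R (R ⧸ (Ideal.ofList rs • (⊤ : Submodule R R)))
        have hsub : (I : Set R) ⊆ ⋃ p ∈ associatedPrimes R (R ⧸ (Ideal.ofList rs • (⊤ : Submodule R R))), (p : Set R) := by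
          intro x hx
          rw [biUnion_associatedPrimes_eq_compl_regular]
          exact hcon x hx
        obtain ⟨p, hp, hIp⟩ := (Ideal.subset_union_prime_finite hfin 0 0
          (f := fun p : Ideal R => p) (fun p hp _ _ => IsAssociatedPrime.isPrime hp)).1 hsub
        exact hq p hp hIp
      have h1' : RingTheory.Sequence.IsWeaklyRegular R (rs ++ [x]) := by
        rw [RingTheory.Sequence.isWeaklyRegular_append_iff]
        exact ⟨h1, (RingTheory.Sequence.isWeaklyRegular_singleton_iff _ _).2 hx⟩
      have h2' : ∀ y ∈ rs ++ [x], y ∈ I := by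
        intro y hy
        rcases List.mem_append.1 hy with hy | hy
        · exact h2 y hy
        · rw [List.mem_singleton.1 hy]; exact hxI
      have hnt : ringKrullDim (R ⧸ Ideal.ofList (rs ++ [x])) ≠ ⊥ := by
        haveI : Nontrivial (R ⧸ Ideal.ofList (rs ++ [x])) := Ideal.Quotient.nontrivial_iff.2
          fun h => (IsLocalRing.maximalIdeal.isMaximal R).ne_top (top_le_iff.1 (h ▸
            Ideal.span_le.2 fun y hy => hIm (h2' y hy)))
        exact fun h => by simpa [h] using ringKrullDim_nonneg_of_nontrivial (R := R ⧸ Ideal.ofList (rs ++ [x]))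
      have hl := hlen _ h1' h2'
      obtain ⟨v, hv⟩ := WithBot.ne_bot_iff_exists.1 hnt
      rw [← hv, hd] at hl
      have hlt : rs.length + 1 ≤ d := by
        have h3 : v + ((rs ++ [x]).length : ℕ∞) = (d : ℕ∞) := WithBot.coe_injective hl
        have h4 : ((rs ++ [x]).length : ℕ∞) ≤ (d : ℕ∞) := h3 ▸ le_add_self
        rw [List.length_append, List.length_singleton] at h4
        exact_mod_cast h4
      first
      | omega
      | exact ih _ (by rw [List.length_append, List.length_singleton]; omega) h1' h2'
  obtain ⟨rs, h1, h2, q, hq, hIq⟩ := step d [] (by simp) (RingTheory.Sequence.IsWeaklyRegular.nil R R) (by simp)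
  have hle : Ideal.ofList rs ≤ I := Ideal.span_le.2 fun x hx => h2 x hx
  have hCM' := (Groth.Agent.S5758.result R R hCM rs fun x hx => hIm (h2 x hx)).2 h1
  have hdq := Groth.Agent.S5757.result R (R ⧸ (Ideal.ofList rs • (⊤ : Submodule R R))) hCM' q hq
  rw [hdimq] at hdq
  have heq : ringKrullDim (R ⧸ Ideal.ofList rs) = ringKrullDim (R ⧸ I) := le_antisymm
    (hdq ▸ ringKrullDim_le_of_surjective _ (Ideal.Quotient.factor_surjective hIq))
    (ringKrullDim_le_of_surjective _ (Ideal.Quotient.factor_surjective hle))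
  refine ⟨rs, h1, hle, heq, fun p hp => ?_⟩
  haveI := hp.1.1
  obtain ⟨q', hq', hq'p⟩ := Ideal.exists_minimalPrimes_le (hle.trans hp.1.2)
  haveI := hq'.1.1
  rcases eq_or_lt_of_le hq'p with h | h
  · exact h ▸ hq'
  exfalso
  have hc : Order.coheight (⟨p, inferInstance⟩ : PrimeSpectrum R) + 1 ≤
      Order.coheight (⟨q', inferInstance⟩ : PrimeSpectrum R) := Order.coheight_add_one_le h
  have h3 : ringKrullDim (R ⧸ q') ≤ ringKrullDim (R ⧸ p) :=
    (ringKrullDim_le_of_surjective _ (Ideal.Quotient.factor_surjective hq'.1.2)).trans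
      (heq.le.trans (hI p hp).ge)
  rw [show ringKrullDim (R ⧸ q') = _ from
      Groth.Ega4Algebra1.ringKrullDim_quotient_eq_coheight R ⟨q', inferInstance⟩,
    show ringKrullDim (R ⧸ p) = _ from
      Groth.Ega4Algebra1.ringKrullDim_quotient_eq_coheight R ⟨p, inferInstance⟩] at h3
  have hne := Groth.Ega4Algebra1.coheight_ne_top R (⟨p, inferInstance⟩ : PrimeSpectrum R)
  exact absurd (hc.trans (WithBot.coe_le_coe.1 h3)) (not_le.2 (ENat.lt_add_one_iff hne |>.2 le_rfl))

end Groth.Agent.S15717
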