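import Groth.Statements.S15723
import Mathlib
import Groth.Agent.Calg7.GradedHeight
-- import your own Groth.Agent.* helpers here

set_option autoImplicit false
universe u v
open CAlg

namespace Groth.Agent.S15723

section Helpers

open DirectSum Calg7.GradedHeight

variable {R : Type u} {A : Type v} [CommRing R] [CommRing A] [Algebra R A]
  (𝒜 : ℕ → Submodule R A) [GradedRing 𝒜]

/-- The `ℕ`-grading as a `ℤ`-grading. -/
private def ZG (i : ℤ) : AddSubgroup A := if 0 ≤ i then (𝒜 i.toNat).toAddSubgroup else ⊥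

omit [GradedRing 𝒜] in
private theorem mem_ZG {n : ℕ} {x : A} (hx : x ∈ 𝒜 n) : x ∈ ZG 𝒜 (n : ℤ) := by
  rw [ZG, if_pos (Int.natCast_nonneg n), Int.toNat_natCast]
  exact hx

omit [GradedRing 𝒜] in
private theorem of_mem_ZG {i : ℤ} {x : A} (hx : x ∈ ZG 𝒜 i) :
    x = 0 ∨ ∃ n : ℕ, i = n ∧ x ∈ 𝒜 n := by
  by_cases h : 0 ≤ i
  · rw [ZG, if_pos h] at hx
    exact Or.inr ⟨i.toNat, (Int.toNat_of_nonneg h).symm, hx⟩
  · rw [ZG, if_neg h, AddSubgroup.mem_bot] at hx
    exact Or.inl hx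

private theorem ZG_gradedMonoid : SetLike.GradedMonoid (ZG 𝒜) where
  one_mem := mem_ZG 𝒜 (n := 0) SetLike.GradedOne.one_mem
  mul_mem i j a b ha hb := by
    rcases of_mem_ZG 𝒜 ha with rfl | ⟨n, rfl, ha'⟩
    · rw [zero_mul]; exact zero_mem _
    rcases of_mem_ZG 𝒜 hb with rfl | ⟨m, rfl, hb'⟩
    · rw [mul_zero]; exact zero_mem _
    rw [← Nat.cast_add]
    exact mem_ZG 𝒜 (SetLike.GradedMul.mul_mem ha' hb')

private noncomputable def zdec : A →+ ⨁ i, ZG 𝒜 i :=
  (DirectSum.toAddMonoid fun n : ℕ =>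
    (DirectSum.of (fun i => ZG 𝒜 i) (n : ℤ)).comp
      ((((𝒜 n).subtype.toAddMonoidHom).codRestrict (ZG 𝒜 (n : ℤ)) fun x => mem_ZG 𝒜 x.2))).comp
    (DirectSum.decomposeAddEquiv 𝒜).toAddMonoidHom

private theorem zdec_of_mem {n : ℕ} {x : A} (hx : x ∈ 𝒜 n) :
    zdec 𝒜 x = DirectSum.of (fun i => ZG 𝒜 i) (n : ℤ) ⟨x, mem_ZG 𝒜 hx⟩ := by
  rw [zdec, AddMonoidHom.comp_apply]
  erw [DirectSum.decompose_of_mem 𝒜 hx, DirectSum.toAddMonoid_of]
  rfl

@[instance_reducible] private noncomputable def zgraded : GradedRing (ZG 𝒜) :=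
  { ZG_gradedMonoid 𝒜 with
    decompose' := zdec 𝒜
    left_inv := fun x => by
      classical
      induction x using DirectSum.Decomposition.inductionOn 𝒜 with
      | zero => simp
      | homogeneous z => rw [zdec_of_mem 𝒜 z.2]; simp
      | add a b ha hb => rw [map_add, map_add, ha, hb]
    right_inv := fun y => by
      classical
      induction y using DirectSum.induction_on with
      | zero => simp
      | of i z =>
        rw [DirectSum.coeAddMonoidHom_of]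
        rcases of_mem_ZG 𝒜 z.2 with h | ⟨n, rfl, h⟩
        · rw [h, map_zero, show z = 0 from Subtype.ext h, map_zero]
        · exact zdec_of_mem 𝒜 h
      | add a b ha hb => rw [map_add, map_add, ha, hb] }

/-- Homogeneous elements detect containment. -/
private theorem exists_hom_notMem {J q : Ideal A} (hJ : J.IsHomogeneous 𝒜) (h : ¬ J ≤ q) :
    ∃ n, ∃ x ∈ 𝒜 n, x ∈ J ∧ x ∉ q := by
  classical
  by_contra hc
  push Not at hc
  refine h fun x hx => ?_
  rw [← DirectSum.sum_support_decompose 𝒜 x]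
  exact Ideal.sum_mem _ fun i _ => hc i _ (SetLike.coe_mem _) (hJ i hx)

private theorem exists_pos_notMem {q : Ideal A} (h : ¬ (HomogeneousIdeal.irrelevant 𝒜).toIdeal ≤ q) :
    ∃ n, 0 < n ∧ ∃ x ∈ 𝒜 n, x ∉ q := by
  classical
  by_contra hc
  push Not at hc
  refine h fun x hx => ?_
  rw [← DirectSum.sum_support_decompose 𝒜 x]
  refine Ideal.sum_mem _ fun i _ => ?_
  rcases Nat.eq_zero_or_pos i with rfl | hi
  · have h0 : GradedRing.proj 𝒜 0 x = 0 := (HomogeneousIdeal.mem_irrelevant_iff 𝒜 x).1 hx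
    rw [GradedRing.proj_apply] at h0
    rw [h0]; exact zero_mem _
  · exact hc i hi _ (SetLike.coe_mem _)

/-- Homogeneous prime avoidance. -/
private theorem avoid {J : Ideal A} (hJ : J.IsHomogeneous 𝒜) (P : Finset (Ideal A))
    (hP : ∀ q ∈ P, q.IsPrime ∧ ¬ J ≤ q ∧ ¬ (HomogeneousIdeal.irrelevant 𝒜).toIdeal ≤ q) :
    ∃ n, 0 < n ∧ ∃ z ∈ 𝒜 n, z ∈ J ∧ ∀ q ∈ P, z ∉ q := by
  classical
  induction P using Finset.strongInduction with
  | _ P ih =>
    rcases P.eq_empty_or_nonempty with rfl | ⟨q, hq⟩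
    · exact ⟨1, one_pos, 0, zero_mem _, zero_mem _, by simp⟩
    by_cases hred : ∃ q' ∈ P, q' ≠ q ∧ ∀ i, ∀ a ∈ 𝒜 i, a ∈ q' → a ∈ q
    · obtain ⟨q', hq', hne, hsub⟩ := hred
      obtain ⟨n, hn, z, hz, hzJ, hav⟩ := ih (P.erase q') (Finset.erase_ssubset hq')
        fun r hr => hP r (Finset.mem_of_mem_erase hr)
      refine ⟨n, hn, z, hz, hzJ, fun r hr hzr => ?_⟩
      rcases eq_or_ne r q' with rfl | hrne
      · exact hav q (Finset.mem_erase.2 ⟨hne.symm, hq⟩) (hsub n z hz hzr)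
      · exact hav r (Finset.mem_erase.2 ⟨hrne, hr⟩) hzr
    push Not at hred
    choose! d a ha haq' haq using hred
    obtain ⟨n, hn, z, hz, hzJ, hav⟩ := ih (P.erase q) (Finset.erase_ssubset hq)
      fun r hr => hP r (Finset.mem_of_mem_erase hr)
    by_cases hzq : z ∈ q
    swap
    · refine ⟨n, hn, z, hz, hzJ, fun r hr => ?_⟩
      rcases eq_or_ne r q with rfl | hrne
      · exact hzq
      · exact hav r (Finset.mem_erase.2 ⟨hrne, hr⟩)
    obtain ⟨hqp, hJq, hIq⟩ := hP q hq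
    obtain ⟨i, g, hg, hgJ, hgq⟩ := exists_hom_notMem 𝒜 hJ hJq
    obtain ⟨k, hk, e, he, heq⟩ := exists_pos_notMem 𝒜 hIq
    set m := i + k + ∑ r ∈ P.erase q, d r
    set w := g * e * ∏ r ∈ P.erase q, a r
    have hw : w ∈ 𝒜 m := SetLike.GradedMul.mul_mem (SetLike.GradedMul.mul_mem hg he)
      (SetLike.prod_mem_graded 𝒜 d a fun r hr =>
        ha r (Finset.mem_of_mem_erase hr) (Finset.ne_of_mem_erase hr))
    have hwq : w ∉ q := fun h => by
      rcases hqp.mem_or_mem h with h | h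
      · exact (hqp.mem_or_mem h).elim hgq heq
      · obtain ⟨r, hr, hra⟩ := hqp.prod_mem_iff.1 h
        exact haq r (Finset.mem_of_mem_erase hr) (Finset.ne_of_mem_erase hr) hra
    have hwr : ∀ r ∈ P.erase q, w ∈ r := fun r hr => Ideal.mem_of_dvd _
      ((Finset.dvd_prod_of_mem a hr).trans (dvd_mul_left _ _))
      (haq' r (Finset.mem_of_mem_erase hr) (Finset.ne_of_mem_erase hr))
    have hm : 0 < m := by omega
    refine ⟨m * n, Nat.mul_pos hm hn, z ^ m + w ^ n, add_mem ?_ ?_,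
      add_mem (Ideal.pow_mem_of_mem J hzJ m hm)
        (Ideal.pow_mem_of_mem J (Ideal.mul_mem_right _ _ (Ideal.mul_mem_right _ _ hgJ)) n hn), fun r hr h => ?_⟩
    · rw [← smul_eq_mul]; exact SetLike.pow_mem_graded m hz
    · rw [mul_comm, ← smul_eq_mul]; exact SetLike.pow_mem_graded n hw
    rcases eq_or_ne r q with rfl | hrne
    · exact hwq (hqp.mem_of_pow_mem n ((add_mem_cancel_left (Ideal.pow_mem_of_mem _ hzq m hm)).1 h))
    · have hr' := Finset.mem_erase.2 ⟨hrne, hr⟩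
      exact hav r hr' ((hP r hr).1.mem_of_pow_mem m
        ((add_mem_cancel_right (Ideal.pow_mem_of_mem _ (hwr r hr') n hn)).1 h))

private theorem minimalPrimes_homogeneous {I p : Ideal A} (hI : I.IsHomogeneous 𝒜)
    (hp : p ∈ I.minimalPrimes) : p.IsHomogeneous 𝒜 := by
  have hpp := hp.isPrime
  have h1 : I ≤ (p.homogeneousCore 𝒜).toIdeal := by
    rw [← hI.toIdeal_homogeneousCore_eq_self]
    exact Ideal.homogeneousCore_mono 𝒜 hp.le
  have h2 := le_antisymm (hp.2 ⟨hpp.homogeneousCore, h1⟩ (Ideal.toIdeal_homogeneousCore_le 𝒜 p))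
    (Ideal.toIdeal_homogeneousCore_le 𝒜 p)
  rw [h2]
  exact (p.homogeneousCore 𝒜).isHomogeneous

/-- Below a homogeneous prime, homogeneous primes compute the height. -/
private theorem exists_hom_between [IsNoetherianRing A] {P Q : Ideal A} [P.IsPrime] [Q.IsPrime]
    (hP : P.IsHomogeneous 𝒜) (h : Q < P) :
    ∃ R' : Ideal A, R'.IsPrime ∧ R'.IsHomogeneous 𝒜 ∧ R' < P ∧ Q.height ≤ R'.height := by
  classical
  letI := zgraded 𝒜
  set C := (Q.homogeneousCore (ZG 𝒜)).toIdeal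
  haveI : C.IsPrime := Ideal.IsPrime.homogeneousCore ‹Q.IsPrime›
  have hCQ : C ≤ Q := Ideal.toIdeal_homogeneousCore_le _ Q
  have hQC : Q.height ≤ C.height + 1 := height_le_core_add_one (ZG 𝒜) Q
  have hsub : ∀ i, ∀ x ∈ 𝒜 i, x ∈ Q → x ∈ C := fun i x hx hxQ =>
    Ideal.mem_homogeneousCore_of_homogeneous_of_mem ⟨_, mem_ZG 𝒜 hx⟩ hxQ
  have hC : C.IsHomogeneous 𝒜 := by
    intro i x hx
    have hle : C ≤ (Q.homogeneousCore 𝒜).toIdeal := by
      refine Ideal.span_le.2 ?_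
      rintro _ ⟨⟨y, j, hy⟩, hyQ, rfl⟩
      show y ∈ (Q.homogeneousCore 𝒜).toIdeal
      rcases of_mem_ZG 𝒜 hy with h0 | ⟨n, -, hy'⟩
      · rw [h0]; exact zero_mem _
      · exact Ideal.mem_homogeneousCore_of_homogeneous_of_mem ⟨n, hy'⟩ hyQ
    exact hsub i _ (SetLike.coe_mem _)
      (Ideal.toIdeal_homogeneousCore_le 𝒜 Q ((Q.homogeneousCore 𝒜).isHomogeneous i (hle hx)))
  rcases eq_or_lt_of_le hCQ with he | hlt
  · exact ⟨Q, inferInstance, he ▸ hC, h, le_rfl⟩
  obtain ⟨i, a, ha, haP, haC⟩ := exists_hom_notMem 𝒜 hP (not_le_of_gt (hlt.trans h))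
  obtain ⟨R', hR', hR'P⟩ := Ideal.exists_minimalPrimes_le
    (sup_le (hCQ.trans h.le) ((Ideal.span_singleton_le_iff_mem _).2 haP) : C ⊔ Ideal.span {a} ≤ P)
  haveI := hR'.isPrime
  have hhom := minimalPrimes_homogeneous 𝒜
    (hC.sup (Ideal.homogeneous_span 𝒜 {a} (by rintro x rfl; exact ⟨i, ha⟩))) hR'
  have hCR : C < R' := lt_of_le_of_ne (le_sup_left.trans hR'.le) fun e =>
    haC (e ▸ hR'.le (Ideal.mem_sup_right (Ideal.mem_span_singleton_self a)))
  refine ⟨R', inferInstance, hhom, lt_of_le_of_ne hR'P fun e => ?_,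
    hQC.trans (Ideal.height_add_one_le_of_lt_of_isPrime hCR)⟩
  haveI := isPrime_map (Q := C) (p := Q) hCQ
  haveI := isPrime_map (Q := C) (p := P) (hCQ.trans h.le)
  haveI := isPrime_map (Q := C) (p := C) le_rfl
  have h1 := Ideal.height_add_one_le_of_lt_of_isPrime (map_lt_map le_rfl hlt)
  have h2 := Ideal.height_add_one_le_of_lt_of_isPrime (map_lt_map hCQ h)
  have h3 := Ideal.map_height_le_one_of_mem_minimalPrimes hR'
  rw [e] at h3
  have h4 : (2 : ℕ∞) ≤ 1 :=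
    calc (2 : ℕ∞) = 0 + 1 + 1 := by norm_num
      _ ≤ (C.map (Ideal.Quotient.mk C)).height + 1 + 1 := by gcongr; exact zero_le
      _ ≤ (Q.map (Ideal.Quotient.mk C)).height + 1 := by gcongr
      _ ≤ _ := h2
      _ ≤ 1 := h3
  exact absurd h4 (by norm_num)

variable {f : A} {d : ℕ}

private theorem le_of_locIdeal_le {I Q : Ideal A} [Q.IsPrime] (hI : I.IsHomogeneous 𝒜) (hf : f ∈ 𝒜 d)
    (hd : 0 < d) (hfQ : f ∉ Q)
    (h : W4c2ratsingkovacs.locIdeal 𝒜 I f ≤ W4c2ratsingkovacs.locIdeal 𝒜 Q f) : I ≤ Q := by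
  classical
  intro x hx
  rw [← DirectSum.sum_support_decompose 𝒜 x]
  refine Ideal.sum_mem _ fun i _ => ?_
  set a : A := (DirectSum.decompose 𝒜 x i : A)
  have haI : a ∈ I := hI i hx
  have had : a ^ d ∈ 𝒜 (i • d) := by
    rw [smul_eq_mul, mul_comm, ← smul_eq_mul]
    exact SetLike.pow_mem_graded d (SetLike.coe_mem _)
  have h1 : HomogeneousLocalization.Away.mk 𝒜 hf i (a ^ d) had ∈ W4c2ratsingkovacs.locIdeal 𝒜 I f := by
    rw [W4c2ratsingkovacs.locIdeal, Ideal.mem_comap, HomogeneousLocalization.algebraMap_apply,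
      HomogeneousLocalization.Away.val_mk, Localization.mk_eq_mk',
      IsLocalization.mk'_mem_map_algebraMap_iff (Submonoid.powers f)]
    exact ⟨1, one_mem _, by rw [one_mul]; exact Ideal.pow_mem_of_mem I haI d hd⟩
  have h2 := h h1
  rw [W4c2ratsingkovacs.locIdeal, Ideal.mem_comap, HomogeneousLocalization.algebraMap_apply,
    HomogeneousLocalization.Away.val_mk, Localization.mk_eq_mk',
    IsLocalization.mk'_mem_map_algebraMap_iff (Submonoid.powers f)] at h2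
  obtain ⟨_, ⟨N, rfl⟩, hN⟩ := h2
  exact (‹Q.IsPrime›.mem_or_mem hN).elim (fun h => absurd (‹Q.IsPrime›.mem_of_pow_mem N h) hfQ)
    (fun h => ‹Q.IsPrime›.mem_of_pow_mem d h)

private theorem exists_eq_locIdeal (hf : f ∈ 𝒜 d) (hd : 0 < d)
    (p : Ideal (HomogeneousLocalization.Away 𝒜 f)) [hp : p.IsPrime] :
    ∃ Q : Ideal A, Q.IsPrime ∧ Q.IsHomogeneous 𝒜 ∧ f ∉ Q ∧ W4c2ratsingkovacs.locIdeal 𝒜 Q f = p := by
  obtain ⟨x, hx⟩ := AlgebraicGeometry.ProjIsoSpecTopComponent.toSpec_surjective 𝒜 hf hd ⟨p, hp⟩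
  exact ⟨x.1.asHomogeneousIdeal.toIdeal, x.1.isPrime, x.1.asHomogeneousIdeal.isHomogeneous, x.2,
    congrArg PrimeSpectrum.asIdeal hx⟩

private theorem isPrime_locIdeal {Q : Ideal A} [Q.IsPrime] (hfQ : f ∉ Q) :
    (W4c2ratsingkovacs.locIdeal 𝒜 Q f).IsPrime := by
  have : (Q.map (algebraMap A (Localization.Away f))).IsPrime :=
    IsLocalization.isPrime_of_isPrime_disjoint (Submonoid.powers f) _ Q ‹_›
      (Set.disjoint_left.2 (by rintro _ ⟨N, rfl⟩ h; exact hfQ (‹Q.IsPrime›.mem_of_pow_mem N h)))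
  exact Ideal.comap_isPrime _ _

private theorem height_locIdeal [IsNoetherianRing A] (hf : f ∈ 𝒜 d) (hd : 0 < d) :
    ∀ (n : ℕ) (Q : Ideal A), Q.IsPrime → Q.IsHomogeneous 𝒜 → f ∉ Q →
      ((W4c2ratsingkovacs.locIdeal 𝒜 Q f).height ≤ n ↔ Q.height ≤ n) := by
  intro n
  induction n using Nat.strong_induction_on with
  | _ n ih =>
    intro Q hQ hQh hfQ
    haveI := hQ
    haveI := isPrime_locIdeal 𝒜 (f := f) hfQ
    rw [Ideal.height_le_iff, Ideal.height_le_iff]
    constructor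
    · intro H q hq hqQ
      haveI := hq
      obtain ⟨R', hR', hR'h, hR'Q, hle⟩ := exists_hom_between 𝒜 hQh hqQ
      haveI := hR'
      refine lt_of_le_of_lt hle ?_
      have hfR : f ∉ R' := fun h => hfQ (hR'Q.le h)
      have h1 := H _ (isPrime_locIdeal 𝒜 hfR) (lt_of_le_of_ne
        (Ideal.comap_mono (Ideal.map_mono hR'Q.le)) fun e => hR'Q.not_ge (le_of_locIdeal_le 𝒜 hQh hf hd hfR e.ge))
      rcases Nat.eq_zero_or_pos n with rfl | hn
      · simp at h1
      obtain ⟨m, rfl⟩ : ∃ m, n = m + 1 := ⟨n - 1, by omega⟩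
      rw [Nat.cast_succ, ENat.lt_add_one_iff (ENat.natCast_ne_top m)] at h1 ⊢
      exact (ih m (Nat.lt_succ_self m) R' hR' hR'h hfR).1 h1
    · intro H p hp hpQ
      haveI := hp
      obtain ⟨R', hR', hR'h, hfR, rfl⟩ := exists_eq_locIdeal 𝒜 hf hd p
      haveI := hR'
      have hle : R' ≤ Q := le_of_locIdeal_le 𝒜 hR'h hf hd hfQ hpQ.le
      have h1 := H R' hR' (lt_of_le_of_ne hle fun e => hpQ.ne (e ▸ rfl))
      rcases Nat.eq_zero_or_pos n with rfl | hn
      · simp at h1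
      obtain ⟨m, rfl⟩ : ∃ m, n = m + 1 := ⟨n - 1, by omega⟩
      rw [Nat.cast_succ, ENat.lt_add_one_iff (ENat.natCast_ne_top m)] at h1 ⊢
      exact (ih m (Nat.lt_succ_self m) R' hR' hR'h hfR).2 h1

private theorem height_locIdeal_eq [IsNoetherianRing A] (hf : f ∈ 𝒜 d) (hd : 0 < d) (Q : Ideal A)
    [hQ : Q.IsPrime] (hQh : Q.IsHomogeneous 𝒜) (hfQ : f ∉ Q) :
    (W4c2ratsingkovacs.locIdeal 𝒜 Q f).height = Q.height := by
  obtain ⟨m, hm⟩ := ENat.ne_top_iff_exists.1 (Ideal.height_ne_top_of_isPrime (I := Q))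
  refine le_antisymm ?_ ?_
  · rw [← hm]; exact (height_locIdeal 𝒜 hf hd m Q hQ hQh hfQ).2 hm.ge
  · cases hc : (W4c2ratsingkovacs.locIdeal 𝒜 Q f).height with
    | top => exact le_top
    | coe k => exact (height_locIdeal 𝒜 hf hd k Q hQ hQh hfQ).1 hc.le

private theorem geomHeight_le [IsNoetherianRing A] (hf : f ∈ 𝒜 d) (hd : 0 < d) {I Q : Ideal A}
    [Q.IsPrime] (hQh : Q.IsHomogeneous 𝒜) (hfQ : f ∉ Q) (hIQ : I ≤ Q) :
    W4c2ratsingkovacs.geomHeight 𝒜 I f ≤ Q.height := by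
  rw [← height_locIdeal_eq 𝒜 hf hd Q hQh hfQ]
  exact Ideal.height_mono (Ideal.comap_mono (Ideal.map_mono hIQ))

private theorem le_geomHeight [IsNoetherianRing A] (hf : f ∈ 𝒜 d) (hd : 0 < d) {I : Ideal A}
    (hI : I.IsHomogeneous 𝒜) (j : ℕ∞)
    (H : ∀ Q : Ideal A, Q.IsPrime → Q.IsHomogeneous 𝒜 → I ≤ Q → f ∉ Q → j ≤ Q.height) :
    j ≤ W4c2ratsingkovacs.geomHeight 𝒜 I f := by
  rw [W4c2ratsingkovacs.geomHeight, Ideal.height_eq_inf_minimalPrimes]
  refine le_iInf₂ fun p hp => ?_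
  haveI := hp.isPrime
  obtain ⟨Q, hQ, hQh, hfQ, rfl⟩ := exists_eq_locIdeal 𝒜 hf hd p
  haveI := hQ
  rw [height_locIdeal_eq 𝒜 hf hd Q hQh hfQ]
  exact H Q hQ hQh (le_of_locIdeal_le 𝒜 hI hf hd hfQ hp.le) hfQ

private theorem ofList_homogeneous (zs : List A) (h : ∀ z ∈ zs, ∃ n : ℕ, 0 < n ∧ z ∈ 𝒜 n) :
    (Ideal.ofList zs).IsHomogeneous 𝒜 :=
  Ideal.homogeneous_span 𝒜 _ fun x hx => let ⟨n, _, hn⟩ := h x hx; ⟨n, hn⟩

end Helpers


/-- Let A be a Noetherian commutative ring graded by the natural numbers, J a homogeneous ideal of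
uniform geometric height h (the height of the homogeneous localization J_(f) in the degree-zero ring
A_(f) is h for every homogeneous f of positive degree outside the radical of J), and q_1, ..., q_t
finitely many prime ideals none of which contains J or the irrelevant ideal A_+. Then there are
homogeneous elements z_1, ..., z_h of positive degree, lying in J and in no q_i, such that for every
homogeneous f of positive degree outside the radical of J and every 1 ≤ j ≤ h the ideal (z_1, ...,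
z_j) has geometric height j with respect to f. (The published statement lets f range over all
homogeneous elements outside the radical of J, degree 0 included; then it fails: in A = k[t][x] with
t of degree 0 and x of degree 1, the ideal J = (t) has geometric height 1 with respect to every
homogeneous f outside its radical, f = 1 included, while (z)_(1) = 0 has height 0 for every
homogeneous z of positive degree. This row takes f of positive degree, in the hypothesis and in the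
conclusion.) -/
theorem result {R : Type u} {A : Type v} [CommRing R] [CommRing A]
    [Algebra R A] [IsNoetherianRing A] (𝒜 : ℕ → Submodule R A) [GradedRing 𝒜]
    (J : Ideal A) (hJ : J.IsHomogeneous 𝒜) (h : ℕ) (hJh : W4c2ratsingkovacs.HasUniformGeomHeight 𝒜 J h)
    (P : Finset (Ideal A)) (hP : ∀ q ∈ P, q.IsPrime ∧ ¬ J ≤ q ∧ ¬ (HomogeneousIdeal.irrelevant 𝒜).toIdeal ≤ q) :
    ∃ zs : List A, zs.length = h ∧
      (∀ z ∈ zs, (∃ n : ℕ, 0 < n ∧ z ∈ 𝒜 n) ∧ z ∈ J ∧ ∀ q ∈ P, z ∉ q) ∧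
      ∀ (f : A) (n : ℕ), 0 < n → f ∈ 𝒜 n → f ∉ J.radical →
        ∀ j : ℕ, 1 ≤ j → j ≤ h → W4c2ratsingkovacs.geomHeight 𝒜 (Ideal.ofList (zs.take j)) f = j := by
  classical
  suffices H : ∀ j ≤ h, ∃ zs : List A, zs.length = j ∧
      (∀ z ∈ zs, (∃ n : ℕ, 0 < n ∧ z ∈ 𝒜 n) ∧ z ∈ J ∧ ∀ q ∈ P, z ∉ q) ∧
      ∀ (f : A) (n : ℕ), 0 < n → f ∈ 𝒜 n → f ∉ J.radical → ∀ i ≤ j, ∀ Q : Ideal A, Q.IsPrime →
        Q.IsHomogeneous 𝒜 → Ideal.ofList (zs.take i) ≤ Q → f ∉ Q → (i : ℕ∞) ≤ Q.height by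
    obtain ⟨zs, hlen, hzs, hht⟩ := H h le_rfl
    refine ⟨zs, hlen, hzs, fun f n hn hf hfJ j hj hjh => ?_⟩
    have hhom := ofList_homogeneous 𝒜 (zs.take j) fun z hz => (hzs z (List.mem_of_mem_take hz)).1
    refine le_antisymm ?_ (le_geomHeight 𝒜 hf hn hhom _ (hht f n hn hf hfJ j hjh))
    obtain ⟨Q₀, hQ₀, hfQ₀⟩ : ∃ Q : Ideal A, (Q.IsPrime ∧ J ≤ Q) ∧ f ∉ Q := by
      by_contra hc
      push Not at hc
      exact hfJ (by rw [Ideal.radical_eq_sInf, Ideal.mem_sInf]; exact fun {Q} hQ => hc Q ⟨hQ.2, hQ.1⟩)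
    haveI := hQ₀.1
    obtain ⟨Q, hQ, hQQ₀⟩ := Ideal.exists_minimalPrimes_le (show Ideal.ofList (zs.take j) ≤ Q₀ from
      Ideal.span_le.2 fun z hz => hQ₀.2 (hzs z (List.mem_of_mem_take hz)).2.1)
    haveI := hQ.isPrime
    refine (geomHeight_le 𝒜 hf hn (minimalPrimes_homogeneous 𝒜 hhom hQ) (fun h => hfQ₀ (hQQ₀ h)) hQ.le).trans ?_
    have hset : Ideal.ofList (zs.take j) = Ideal.span ((zs.take j).toFinset : Set A) := by
      rw [Ideal.ofList, List.coe_toFinset]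
    rw [hset] at hQ
    refine (Ideal.height_le_card_of_mem_minimalPrimes_span_finset hQ).trans ?_
    exact_mod_cast (List.toFinset_card_le _).trans (by rw [List.length_take]; omega)
  intro j
  induction j with
  | zero =>
    intro _
    exact ⟨[], rfl, by simp, fun f n _ _ _ i hi Q _ _ _ _ => by
      rw [Nat.le_zero.1 hi]; exact zero_le⟩
  | succ j ih =>
    intro hj
    obtain ⟨zs, hlen, hzs, hht⟩ := ih (by omega)
    have hhom := ofList_homogeneous 𝒜 zs fun z hz => (hzs z hz).1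
    have hfin := Ideal.finite_minimalPrimes_of_isNoetherianRing A (Ideal.ofList zs)
    obtain ⟨n, hn, z, hz, hzJ, hav⟩ := avoid 𝒜 hJ
      (P ∪ hfin.toFinset.filter (fun q => ¬ J ≤ q ∧ ¬ (HomogeneousIdeal.irrelevant 𝒜).toIdeal ≤ q))
      fun q hq => by
        rcases Finset.mem_union.1 hq with h1 | h1
        · exact hP q h1
        · obtain ⟨h2, h3⟩ := Finset.mem_filter.1 h1
          exact ⟨(hfin.mem_toFinset.1 h2).isPrime, h3⟩
    refine ⟨zs ++ [z], by simp [hlen], ?_, ?_⟩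
    · intro w hw
      rcases List.mem_append.1 hw with hw | hw
      · exact hzs w hw
      · rw [List.mem_singleton.1 hw]
        exact ⟨⟨n, hn, hz⟩, hzJ, fun q hq => hav q (Finset.mem_union_left _ hq)⟩
    intro f m hm hf hfJ i hi Q hQp hQh hQ hfQ
    rcases Nat.lt_or_ge i (j + 1) with hij | hij
    · rw [List.take_append_of_le_length (by omega)] at hQ
      exact hht f m hm hf hfJ i (by omega) Q hQp hQh hQ hfQ
    obtain rfl : i = j + 1 := by omega
    rw [List.take_of_length_le (by simp [hlen]), Ideal.ofList_append, Ideal.ofList_singleton,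
      sup_le_iff, Ideal.span_singleton_le_iff_mem] at hQ
    haveI := hQp
    obtain ⟨Q', hQ', hle⟩ := Ideal.exists_minimalPrimes_le hQ.1
    haveI := hQ'.isPrime
    have hQ'h := minimalPrimes_homogeneous 𝒜 hhom hQ'
    have hfQ' : f ∉ Q' := fun h => hfQ (hle h)
    by_cases hJQ : J ≤ Q'
    · have h1 : (h : ℕ∞) ≤ Q'.height := by
        rw [← hJh f m hm hf hfJ]
        exact geomHeight_le 𝒜 hf hm hQ'h hfQ' hJQ
      refine le_trans ?_ (h1.trans (Ideal.height_mono hle))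
      exact_mod_cast hj
    · have hIQ : ¬ (HomogeneousIdeal.irrelevant 𝒜).toIdeal ≤ Q' := fun h => hfQ' (h (by
        show f ∈ HomogeneousIdeal.irrelevant 𝒜
        rw [HomogeneousIdeal.mem_irrelevant_iff, GradedRing.proj_apply,
          DirectSum.decompose_of_mem_ne 𝒜 hf hm.ne']))
      have hzQ' : z ∉ Q' := hav Q' (Finset.mem_union_right _
        (Finset.mem_filter.2 ⟨hfin.mem_toFinset.2 hQ', hJQ, hIQ⟩))
      have hlt : Q' < Q := lt_of_le_of_ne hle fun e => hzQ' (e ▸ hQ.2)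
      have h1 : (j : ℕ∞) ≤ Q'.height := hht f m hm hf hfJ j le_rfl Q' inferInstance hQ'h
        (by rw [List.take_of_length_le hlen.le]; exact hQ'.le) hfQ'
      calc ((j + 1 : ℕ) : ℕ∞) = (j : ℕ∞) + 1 := Nat.cast_succ j
        _ ≤ Q'.height + 1 := by gcongr
        _ ≤ Q.height := Ideal.height_add_one_le_of_lt_of_isPrime hlt

end Groth.Agent.S15723
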