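import Groth.Statements.S15724
import Groth.Agent.Misc10.Gen

set_option autoImplicit false
universe u
open W4c2invhilbsl2

namespace Groth.Agent.S15724

open Groth.Misc10 W4c2invhilbsl2 MvPolynomial

/-- Grade the polynomial ring k[X₀,…,X₄] over a field k by ℤ × ℤ/m, giving X₀ weight (1,0), X₁ and X₂
weight (−p,−1), and X₃ and X₄ weight (q,1), where 0 < p < q are coprime integers and m ≥ 1, and let
P be the principal ideal generated by the weight-zero element X₀^(q−p) − X₁X₄ + X₂X₃ (the equation
of an affine hypersurface). Then every polynomial homogeneous of the weight of X₁ is congruent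
modulo P to some a·X₁ + b·X₂ with a and b homogeneous of weight zero, and every polynomial
homogeneous of the weight of X₃ is congruent modulo P to some a·X₃ + b·X₄ with a and b homogeneous
of weight zero. Equivalently, in the coordinate ring of the hypersurface the weight pieces of the
weights of X₁ and of X₃ are generated over the weight-zero subring (the ring of invariants of the
diagonal action of a one-dimensional torus times the group of m-th roots of unity with these
weights) by X₁, X₂ and by X₃, X₄ respectively. (For the weight of X₁ the congruence is already an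
equality in the polynomial ring; for the weight of X₃ the hypersurface equation is needed, e.g.
X₀^(q+p)X₁ has that weight when m divides 2.) -/
theorem result (k : Type u) [Field k] (p q m : ℕ) (hp : 0 < p) (hpq : p < q) (hcop : Nat.Coprime p q) (hm : 0 < m) (f : MvPolynomial (Fin 5) k) :
    (f ∈ MvPolynomial.weightedHomogeneousSubmodule k (W4c2invhilbsl2.wt5 p q m) (W4c2invhilbsl2.wt5 p q m 1) →
      ∃ a b : MvPolynomial (Fin 5) k, a ∈ MvPolynomial.weightedHomogeneousSubmodule k (W4c2invhilbsl2.wt5 p q m) 0 ∧ b ∈ MvPolynomial.weightedHomogeneousSubmodule k (W4c2invhilbsl2.wt5 p q m) 0 ∧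
        f - (a * MvPolynomial.X (1 : Fin 5) + b * MvPolynomial.X (2 : Fin 5)) ∈ Ideal.span {MvPolynomial.X (0 : Fin 5) ^ (q - p) - MvPolynomial.X 1 * MvPolynomial.X 4 + MvPolynomial.X 2 * MvPolynomial.X 3}) ∧
    (f ∈ MvPolynomial.weightedHomogeneousSubmodule k (W4c2invhilbsl2.wt5 p q m) (W4c2invhilbsl2.wt5 p q m 3) →
      ∃ a b : MvPolynomial (Fin 5) k, a ∈ MvPolynomial.weightedHomogeneousSubmodule k (W4c2invhilbsl2.wt5 p q m) 0 ∧ b ∈ MvPolynomial.weightedHomogeneousSubmodule k (W4c2invhilbsl2.wt5 p q m) 0 ∧
        f - (a * MvPolynomial.X (3 : Fin 5) + b * MvPolynomial.X (4 : Fin 5)) ∈ Ideal.span {MvPolynomial.X (0 : Fin 5) ^ (q - p) - MvPolynomial.X 1 * MvPolynomial.X 4 + MvPolynomial.X 2 * MvPolynomial.X 3}) := by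
  classical
  set W := weightedHomogeneousSubmodule k (wt5 p q m) 0
  constructor
  · intro hf
    have h : f ∈ W.map (LinearMap.mulRight k (X 1)) ⊔ W.map (LinearMap.mulRight k (X 2)) := by
      refine mem_of_monomials (fun d hd => ?_) hf
      have he : wt5 p q m 1 = Finsupp.weight (wt5 p q m) (Finsupp.single (1 : Fin 5) 1) := by simp [Finsupp.weight_single]
      have he2 : wt5 p q m 1 = Finsupp.weight (wt5 p q m) (Finsupp.single (2 : Fin 5) 1) := by simp [wt5, Finsupp.weight_single]
      rcases Nat.eq_zero_or_pos (d 1) with h1 | h1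
      · refine Submodule.mem_sup_right (monomial_mem_map_mulRight (e := Finsupp.single 2 1) rfl ?_ (hd.trans he2))
        rw [Finsupp.single_le_iff]
        by_contra h2
        rw [weight_wt5, h1, show d 2 = 0 by omega] at hd
        have := congrArg Prod.fst hd
        simp [W3, wt5] at this
        have : (0 : ℤ) ≤ (q : ℤ) * ((d 3 : ℤ) + d 4) := by positivity
        linarith [show (0 : ℤ) ≤ ((d 0 : ℕ) : ℤ) by positivity, show (0 : ℤ) < (p : ℤ) by exact_mod_cast hp]
      · exact Submodule.mem_sup_left (monomial_mem_map_mulRight (e := Finsupp.single 1 1) rfl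
          (Finsupp.single_le_iff.2 h1) (hd.trans he))
    obtain ⟨_, ⟨a, ha, rfl⟩, _, ⟨b, hb, rfl⟩, hab⟩ := Submodule.mem_sup.1 h
    refine ⟨a, b, ha, hb, ?_⟩
    simp only [LinearMap.mulRight_apply] at hab
    simp [hab]
  · intro hf
    set P := (Ideal.span {hyp k p q}).restrictScalars k
    have h : f ∈ W.map (LinearMap.mulRight k (X 3)) ⊔ W.map (LinearMap.mulRight k (X 4)) ⊔ P := by
      refine mem_of_monomials (fun d hd => ?_) hf
      have he3 : wt5 p q m 3 = Finsupp.weight (wt5 p q m) (Finsupp.single (3 : Fin 5) 1) := by simp [Finsupp.weight_single]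
      have he4 : wt5 p q m 3 = Finsupp.weight (wt5 p q m) (Finsupp.single (4 : Fin 5) 1) := by simp [wt5, Finsupp.weight_single]
      rcases Nat.eq_zero_or_pos (d 3) with h3 | h3
      · rcases Nat.eq_zero_or_pos (d 4) with h4 | h4
        · have hwd := hd
          rw [weight_wt5, h3, h4] at hwd
          have hn := congrArg Prod.fst hwd
          simp [W3, wt5] at hn
          have hD : q - p ≤ d 0 := by
            have : (0 : ℤ) ≤ (p : ℤ) * ((d 1 : ℤ) + d 2) := by positivity
            omega
          set e := Finsupp.single (0 : Fin 5) (q - p)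
          obtain ⟨d', rfl⟩ := exists_add_of_le (show e ≤ d from Finsupp.single_le_iff.2 hD)
          rw [add_comm]
          have key := monomial_sub_mem_hyp (k := k) (p := p) (q := q) d'
          rw [← sub_add_cancel (monomial (d' + e) (1 : k))
            (monomial (d' + Finsupp.single 1 1 + Finsupp.single 4 1) 1 -
              monomial (d' + Finsupp.single 2 1 + Finsupp.single 3 1) 1)]
          refine add_mem (Submodule.mem_sup_right key) (Submodule.mem_sup_left (sub_mem ?_ ?_))
          · refine Submodule.mem_sup_right (monomial_mem_map_mulRight (e := Finsupp.single 4 1) rfl (le_add_self) ?_)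
            rw [← he4, ← hd]
            simp only [map_add, e, Finsupp.weight_single]; simp [wt5, Prod.ext_iff, nsmul_eq_mul, Nat.cast_sub hpq.le]
            ring
          · refine Submodule.mem_sup_left (monomial_mem_map_mulRight (e := Finsupp.single 3 1) rfl (le_add_self) ?_)
            rw [← he3, ← hd]
            simp only [map_add, e, Finsupp.weight_single]; simp [wt5, Prod.ext_iff, nsmul_eq_mul, Nat.cast_sub hpq.le]
            ring
        · exact Submodule.mem_sup_left (Submodule.mem_sup_right
            (monomial_mem_map_mulRight (e := Finsupp.single 4 1) rfl (Finsupp.single_le_iff.2 h4) (hd.trans he4)))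
      · exact Submodule.mem_sup_left (Submodule.mem_sup_left
          (monomial_mem_map_mulRight (e := Finsupp.single 3 1) rfl (Finsupp.single_le_iff.2 h3) (hd.trans he3)))
    obtain ⟨_, hy, z, hz, hyz⟩ := Submodule.mem_sup.1 h
    obtain ⟨_, ⟨a, ha, rfl⟩, _, ⟨b, hb, rfl⟩, rfl⟩ := Submodule.mem_sup.1 hy
    refine ⟨a, b, ha, hb, ?_⟩
    simp only [LinearMap.mulRight_apply] at hyz
    rw [← hyz, add_sub_cancel_left]
    exact hz

end Groth.Agent.S15724
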