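import Groth.Statements.S15725
import Groth.Agent.Misc10.Gen

set_option autoImplicit false
universe u
open W4c2invhilbsl2

namespace Groth.Agent.S15725

open Groth.Misc10 W4c2invhilbsl2 MvPolynomial

/-- Grade the polynomial ring k[X₀,X₁,X₂] over a field k by ℤ × ℤ/m, giving X₀ weight (1,0), X₁ weight
(−p,−1) and X₂ weight (q,1), where 0 < p < q are coprime integers and m ≥ 1 (this three-variable
ring stands for the subring k[X₀,X₁,Xⱼ], j = 3 or 4, of the five-variable ring with the same
weights). Then every polynomial homogeneous of weight (q−p, 0) can be written a·X₀^(q−p) + b·X₁X₂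
with a and b homogeneous of weight zero; in other words the weight-(q−p, 0) piece is generated by
X₀^(q−p) and X₁X₂ as a module over the weight-zero subring. -/
theorem result (k : Type u) [Field k] (p q m : ℕ) (hp : 0 < p) (hpq : p < q) (hcop : Nat.Coprime p q) (hm : 0 < m) (f : MvPolynomial (Fin 3) k)
    (hf : f ∈ MvPolynomial.weightedHomogeneousSubmodule k (W4c2invhilbsl2.wt3 p q m) ((q : ℤ) - (p : ℤ), (0 : ZMod m))) :
    ∃ a b : MvPolynomial (Fin 3) k, a ∈ MvPolynomial.weightedHomogeneousSubmodule k (W4c2invhilbsl2.wt3 p q m) 0 ∧ b ∈ MvPolynomial.weightedHomogeneousSubmodule k (W4c2invhilbsl2.wt3 p q m) 0 ∧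
      f = a * MvPolynomial.X (0 : Fin 3) ^ (q - p) + b * (MvPolynomial.X (1 : Fin 3) * MvPolynomial.X (2 : Fin 3)) := by
  classical
  set W := weightedHomogeneousSubmodule k (wt3 p q m) 0
  have h : f ∈ W.map (LinearMap.mulRight k (X 0 ^ (q - p))) ⊔ W.map (LinearMap.mulRight k (X 1 * X 2)) := by
    refine mem_of_monomials (fun d hd => ?_) hf
    have hwd := hd
    rw [weight_wt3] at hwd
    have hn : ((d 0 : ℕ) : ℤ) - p * (d 1 : ℕ) + q * (d 2 : ℕ) = (q : ℤ) - p := congrArg Prod.fst hwd
    by_cases h12 : 1 ≤ d 1 ∧ 1 ≤ d 2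
    · refine Submodule.mem_sup_right
        (monomial_mem_map_mulRight (e := Finsupp.single 1 1 + Finsupp.single 2 1) (by simp [X, monomial_mul]) ?_ ?_)
      · intro j; fin_cases j <;> simp [h12.1, h12.2]
      · rw [hd, map_add, Finsupp.weight_single, Finsupp.weight_single]
        simp [wt3, Prod.ext_iff]
        ring
    · have hD : q - p ≤ d 0 := by
        rcases Nat.eq_zero_or_pos (d 2) with h2 | h2
        · rw [h2] at hn
          have : (0 : ℤ) ≤ (p : ℤ) * (d 1 : ℕ) := by positivity
          push_cast at hn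
          omega
        · rw [show d 1 = 0 by omega] at hn
          have : (q : ℤ) * 1 ≤ (q : ℤ) * (d 2 : ℕ) := mul_le_mul_of_nonneg_left (by omega) (by omega)
          push_cast at hn
          omega
      refine Submodule.mem_sup_left
        (monomial_mem_map_mulRight (e := Finsupp.single 0 (q - p)) (X_pow_eq_monomial ..) (Finsupp.single_le_iff.2 hD) ?_)
      rw [hd, Finsupp.weight_single]
      simp [wt3, Prod.ext_iff, nsmul_eq_mul, Nat.cast_sub hpq.le]
  obtain ⟨_, ⟨a, ha, rfl⟩, _, ⟨b, hb, rfl⟩, hab⟩ := Submodule.mem_sup.1 h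
  exact ⟨a, b, ha, hb, hab.symm⟩

end Groth.Agent.S15725
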