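import Groth.Statements.S15726
import Groth.Agent.Misc10.Gen

set_option autoImplicit false
universe u
open W4c2invhilbsl2

namespace Groth.Agent.S15726

open Groth.Misc10 W4c2invhilbsl2 MvPolynomial

/-- Grade the polynomial ring k[X₀,…,X₄] over a field k by ℤ × ℤ/m, giving X₀ weight (1,0), X₁ and X₂
weight (−p,−1), and X₃ and X₄ weight (q,1), where 0 < p < q are coprime integers and m ≥ 1. Then
modulo the principal ideal generated by the weight-zero element X₀^(q−p) − X₁X₄ + X₂X₃ (the equation
of an affine hypersurface), every polynomial homogeneous of weight (q−p, 0) is congruent to a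
combination a₁₃X₁X₃ + a₁₄X₁X₄ + a₂₃X₂X₃ + a₂₄X₂X₄ whose four coefficients are homogeneous of weight
zero. Equivalently, in the coordinate ring of the hypersurface the weight-(q−p, 0) piece is
generated over the weight-zero subring (the invariant ring of the diagonal action with these
weights) by the span of the four products XₐX_b with a ∈ {1,2} and b ∈ {3,4}. (The published
statement is over the complex numbers; this row takes any field.) -/
theorem result (k : Type u) [Field k] (p q m : ℕ) (hp : 0 < p) (hpq : p < q) (hcop : Nat.Coprime p q) (hm : 0 < m) (f : MvPolynomial (Fin 5) k)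
    (hf : f ∈ MvPolynomial.weightedHomogeneousSubmodule k (W4c2invhilbsl2.wt5 p q m) ((q : ℤ) - (p : ℤ), (0 : ZMod m))) :
    ∃ a₁₃ a₁₄ a₂₃ a₂₄ : MvPolynomial (Fin 5) k,
      a₁₃ ∈ MvPolynomial.weightedHomogeneousSubmodule k (W4c2invhilbsl2.wt5 p q m) 0 ∧ a₁₄ ∈ MvPolynomial.weightedHomogeneousSubmodule k (W4c2invhilbsl2.wt5 p q m) 0 ∧ a₂₃ ∈ MvPolynomial.weightedHomogeneousSubmodule k (W4c2invhilbsl2.wt5 p q m) 0 ∧ a₂₄ ∈ MvPolynomial.weightedHomogeneousSubmodule k (W4c2invhilbsl2.wt5 p q m) 0 ∧
      f - (a₁₃ * (MvPolynomial.X (1 : Fin 5) * MvPolynomial.X 3) + a₁₄ * (MvPolynomial.X (1 : Fin 5) * MvPolynomial.X 4) +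
          a₂₃ * (MvPolynomial.X (2 : Fin 5) * MvPolynomial.X 3) + a₂₄ * (MvPolynomial.X (2 : Fin 5) * MvPolynomial.X 4)) ∈
        Ideal.span {MvPolynomial.X (0 : Fin 5) ^ (q - p) - MvPolynomial.X 1 * MvPolynomial.X 4 + MvPolynomial.X 2 * MvPolynomial.X 3} := by
  classical
  set W := weightedHomogeneousSubmodule k (wt5 p q m) 0
  set P := (Ideal.span {hyp k p q}).restrictScalars k
  let G : Submodule k (MvPolynomial (Fin 5) k) :=
    W.map (LinearMap.mulRight k (X 1 * X 3)) ⊔ W.map (LinearMap.mulRight k (X 1 * X 4)) ⊔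
      W.map (LinearMap.mulRight k (X 2 * X 3)) ⊔ W.map (LinearMap.mulRight k (X 2 * X 4)) ⊔ P
  have hgood : ∀ d : Fin 5 →₀ ℕ, Finsupp.weight (wt5 p q m) d = ((q : ℤ) - p, (0 : ZMod m)) →
      (1 ≤ d 1 ∨ 1 ≤ d 2) → (1 ≤ d 3 ∨ 1 ≤ d 4) → monomial d (1 : k) ∈ G := by
    intro d hd ha hb
    have mk : ∀ i j : Fin 5, i ≠ j → 1 ≤ d i → 1 ≤ d j → wt5 p q m i + wt5 p q m j = ((q : ℤ) - p, (0 : ZMod m)) →
        monomial d (1 : k) ∈ W.map (LinearMap.mulRight k (X i * X j)) := by
      intro i j hij hi hj hw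
      refine monomial_mem_map_mulRight (e := Finsupp.single i 1 + Finsupp.single j 1) (by simp [X, monomial_mul]) ?_ ?_
      · intro l
        simp only [Finsupp.add_apply, Finsupp.single_apply]
        by_cases h1 : i = l
        · subst h1; rw [if_pos rfl, if_neg (Ne.symm hij)]; omega
        · by_cases h2 : j = l
          · subst h2; rw [if_neg h1, if_pos rfl]; omega
          · simp [h1, h2]
      · rw [hd, map_add, ← hw, Finsupp.weight_single, Finsupp.weight_single, one_smul, one_smul]
    rcases ha with ha | ha <;> rcases hb with hb | hb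
    · exact Submodule.mem_sup_left (Submodule.mem_sup_left (Submodule.mem_sup_left (Submodule.mem_sup_left
        (mk 1 3 (by decide) ha hb (by simp [wt5]; ring)))))
    · exact Submodule.mem_sup_left (Submodule.mem_sup_left (Submodule.mem_sup_left (Submodule.mem_sup_right
        (mk 1 4 (by decide) ha hb (by simp [wt5]; ring)))))
    · exact Submodule.mem_sup_left (Submodule.mem_sup_left (Submodule.mem_sup_right
        (mk 2 3 (by decide) ha hb (by simp [wt5]; ring))))
    · exact Submodule.mem_sup_left (Submodule.mem_sup_right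
        (mk 2 4 (by decide) ha hb (by simp [wt5]; ring)))
  have h : f ∈ G := by
    refine mem_of_monomials (fun d hd => ?_) hf
    by_cases hg : (1 ≤ d 1 ∨ 1 ≤ d 2) ∧ (1 ≤ d 3 ∨ 1 ≤ d 4)
    · exact hgood d hd hg.1 hg.2
    · have hn := congrArg Prod.fst ((weight_wt5 p q m d).symm.trans hd)
      simp only [W3] at hn
      have hD : q - p ≤ d 0 := by
        rcases Nat.eq_zero_or_pos (d 3 + d 4) with h | h
        · rw [show d 3 = 0 by omega, show d 4 = 0 by omega] at hn
          have : (0 : ℤ) ≤ (p : ℤ) * ((d 1 : ℤ) + d 2) := by positivity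
          push_cast at hn
          omega
        · rw [show d 1 = 0 by omega, show d 2 = 0 by omega] at hn
          have : (q : ℤ) * 1 ≤ (q : ℤ) * ((d 3 : ℤ) + d 4) := mul_le_mul_of_nonneg_left (by omega) (by omega)
          push_cast at hn
          omega
      set e := Finsupp.single (0 : Fin 5) (q - p)
      obtain ⟨d', rfl⟩ := exists_add_of_le (show e ≤ d from Finsupp.single_le_iff.2 hD)
      rw [add_comm]
      rw [← sub_add_cancel (monomial (d' + e) (1 : k))
        (monomial (d' + Finsupp.single 1 1 + Finsupp.single 4 1) 1 -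
          monomial (d' + Finsupp.single 2 1 + Finsupp.single 3 1) 1)]
      refine add_mem (Submodule.mem_sup_right (monomial_sub_mem_hyp d')) (sub_mem ?_ ?_)
      · refine hgood _ ?_ (Or.inl (by simp)) (Or.inr (by simp))
        rw [← hd]
        simp only [map_add, e, Finsupp.weight_single]; simp [wt5, Prod.ext_iff, nsmul_eq_mul, Nat.cast_sub hpq.le]
        ring
      · refine hgood _ ?_ (Or.inr (by simp)) (Or.inl (by simp))
        rw [← hd]
        simp only [map_add, e, Finsupp.weight_single]; simp [wt5, Prod.ext_iff, nsmul_eq_mul, Nat.cast_sub hpq.le]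
        ring
  obtain ⟨_, h1, z, hz, hyz⟩ := Submodule.mem_sup.1 h
  obtain ⟨_, h2, _, ⟨a24, k24, rfl⟩, rfl⟩ := Submodule.mem_sup.1 h1
  obtain ⟨_, h3, _, ⟨a23, k23, rfl⟩, rfl⟩ := Submodule.mem_sup.1 h2
  obtain ⟨_, ⟨a13, k13, rfl⟩, _, ⟨a14, k14, rfl⟩, rfl⟩ := Submodule.mem_sup.1 h3
  refine ⟨a13, a14, a23, a24, k13, k14, k23, k24, ?_⟩
  simp only [LinearMap.mulRight_apply] at hyz
  rw [← hyz, add_sub_cancel_left]
  exact hz

end Groth.Agent.S15726
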