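import Groth.Statements.S15727
import Groth.Agent.Misc10.Gen

set_option autoImplicit false
universe u
open W4c2invhilbsl2

namespace Groth.Agent.S15727

open Groth.Misc10 W4c2invhilbsl2 MvPolynomial

/-- Let k be an algebraically closed field, 0 < p < q coprime integers and m ≥ 1, and grade k[X₀,…,X₄]
by ℤ × ℤ/m, giving X₀ weight (1,0), X₁ and X₂ weight (−p,−1), and X₃ and X₄ weight (q,1). For s ∈ k
let I_s be the ideal (X₀^(q−p) − X₁X₄, X₂, X₃, s − X₀^(mp)X₁^m), whose generators are homogeneous
(the last one of weight zero). Then for every weight ν the image in k[X₀,…,X₄]/I_s of the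
homogeneous polynomials of weight ν is a k-vector space of dimension at most 1. (The published
statement asserts that this dimension equals 1 for every ν and every s, namely that the quotient has
the Hilbert function of the regular representation of the grading group; this row states the upper
bound, the half obtained from the monomial analysis of the weight pieces, while the lower bound
there is drawn from the moduli interpretation of these ideals. The published statement is over the
complex numbers; this row takes any algebraically closed field, which is what the reduction to s =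
0, 1 by rescaling the variables uses.) -/
theorem result (k : Type u) [Field k] [IsAlgClosed k] (p q m : ℕ) (hp : 0 < p) (hpq : p < q) (hcop : Nat.Coprime p q) (hm : 0 < m) (s : k) (ν : ℤ × ZMod m) :
    Module.rank k (W4c2invhilbsl2.piece k (W4c2invhilbsl2.wt5 p q m) (W4c2invhilbsl2.idealI k p q m s) ν) ≤ 1 := by
  classical
  set mk := Ideal.Quotient.mk (idealI k p q m s) with hmk
  have gen : ∀ g ∈ ({X 0 ^ (q - p) - X 1 * X 4, X 2, X 3, C s - X 0 ^ (m * p) * X 1 ^ m} :
      Set (MvPolynomial (Fin 5) k)), mk g = 0 :=
    fun g hg => Ideal.Quotient.eq_zero_iff_mem.2 (Ideal.subset_span hg)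
  have h1 : mk (X 0) ^ (q - p) = mk (X 1) * mk (X 4) := by
    have := gen _ (Set.mem_insert _ _)
    rwa [map_sub, map_pow, map_mul, sub_eq_zero] at this
  have h2 : mk (X 2) = 0 := gen _ (by simp)
  have h3 : mk (X 3) = 0 := gen _ (by simp)
  have h4 : mk (X 0) ^ (m * p) * mk (X 1) ^ m = mk (C s) := by
    have := gen (C s - X 0 ^ (m * p) * X 1 ^ m) (by simp)
    rw [map_sub, map_mul, map_pow, map_pow, sub_eq_zero] at this
    exact this.symm
  have hmon : ∀ d : Fin 5 →₀ ℕ, mk (monomial d 1) =
      mk (X 0) ^ d 0 * mk (X 1) ^ d 1 * mk (X 2) ^ d 2 * mk (X 3) ^ d 3 * mk (X 4) ^ d 4 := by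
    intro d; simp [monomial_five, map_mul, map_pow]
  refine rank_piece_le_one' k (fun d => d 2 = 0 ∧ d 3 = 0) ?_ (fun d => d 0 + (q - p) * d 4) ?_
  · intro d _ hd
    rw [← hmk, hmon]
    rcases not_and_or.1 hd with h | h
    · rw [h2, zero_pow h]; ring
    · rw [h3, zero_pow h]; ring
  · rintro d e hd he ⟨hd2, hd3⟩ ⟨he2, he3⟩ hle
    have hw := hd.trans he.symm
    rw [weight_wt5, weight_wt5, W3_eq_iff, hd2, hd3, he2, he3] at hw
    simp only [Nat.cast_zero, add_zero, zero_add] at hw
    obtain ⟨j, hj⟩ := exists_shift_I hp hw.1.symm hw.2 hle hpq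
    refine ⟨s ^ j, ?_⟩
    rw [← hmk, ← Ideal.Quotient.mkₐ_eq_mk k, ← map_smul, Ideal.Quotient.mkₐ_eq_mk, smul_eq_C_mul, map_mul,
      map_pow, map_pow, hmon, hmon, hd2, hd3, he2, he3, ← h4]
    have := rel_shift m hpq (mk (X 0)) (mk (X 1)) (mk (X 4)) h1 hw.1.symm hj
    linear_combination this

end Groth.Agent.S15727
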