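import Groth.Statements.S15728
import Groth.Agent.Misc10.Gen

set_option autoImplicit false
universe u
open W4c2invhilbsl2

namespace Groth.Agent.S15728

open Groth.Misc10 W4c2invhilbsl2 MvPolynomial

/-- Let k be an algebraically closed field, 0 < p < q coprime integers and m ≥ 1; put g = gcd(m, q−p)
and a = m/g, and grade k[X₀,…,X₄] by ℤ × ℤ/m, giving X₀ weight (1,0), X₁ and X₂ weight (−p,−1), and
X₃ and X₄ weight (q,1). For s ∈ k let J_s be the ideal (X₀^g, X₂, X₄, s − X₁^(aq)X₃^(ap)), whose
generators are homogeneous (the last one of weight zero). Then for every weight ν the image in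
k[X₀,…,X₄]/J_s of the homogeneous polynomials of weight ν is a k-vector space of dimension at most
1. (The published statement asserts that this dimension equals 1 for every ν and every s; this row
states the upper bound, the half obtained from the monomial analysis of the weight pieces, while the
lower bound there is drawn from the moduli interpretation of these ideals. The published statement
is over the complex numbers; this row takes any algebraically closed field, which is what the
reduction to s = 0, 1 by rescaling the variables uses.) -/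
theorem result (k : Type u) [Field k] [IsAlgClosed k] (p q m : ℕ) (hp : 0 < p) (hpq : p < q) (hcop : Nat.Coprime p q) (hm : 0 < m) (s : k) (ν : ℤ × ZMod m) :
    Module.rank k (W4c2invhilbsl2.piece k (W4c2invhilbsl2.wt5 p q m) (W4c2invhilbsl2.idealJ k p q m s) ν) ≤ 1 := by
  classical
  set mk := Ideal.Quotient.mk (idealJ k p q m s) with hmk
  set g := Nat.gcd m (q - p) with hg
  have gen : ∀ f ∈ ({X 0 ^ g, X 2, X 4, C s - X 1 ^ (m / g * q) * X 3 ^ (m / g * p)} :
      Set (MvPolynomial (Fin 5) k)), mk f = 0 :=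
    fun f hf => Ideal.Quotient.eq_zero_iff_mem.2 (Ideal.subset_span hf)
  have h0 : mk (X 0) ^ g = 0 := by rw [← map_pow]; exact gen _ (Set.mem_insert _ _)
  have h2 : mk (X 2) = 0 := gen _ (by simp)
  have h4 : mk (X 4) = 0 := gen _ (by simp)
  have hs : mk (X 1) ^ (m / g * q) * mk (X 3) ^ (m / g * p) = mk (C s) := by
    have := gen (C s - X 1 ^ (m / g * q) * X 3 ^ (m / g * p)) (by simp)
    rw [map_sub, map_mul, map_pow, map_pow, sub_eq_zero] at this
    exact this.symm
  have hmon : ∀ d : Fin 5 →₀ ℕ, mk (monomial d 1) =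
      mk (X 0) ^ d 0 * mk (X 1) ^ d 1 * mk (X 2) ^ d 2 * mk (X 3) ^ d 3 * mk (X 4) ^ d 4 := by
    intro d; simp [monomial_five, map_mul, map_pow]
  refine rank_piece_le_one' k (fun d => d 2 = 0 ∧ d 4 = 0 ∧ d 0 < g) ?_ (fun d => d 1) ?_
  · intro d _ hd
    rw [← hmk, hmon]
    by_cases ha : d 2 = 0
    · by_cases hb : d 4 = 0
      · obtain ⟨r, hr⟩ := Nat.exists_eq_add_of_le (show g ≤ d 0 from not_lt.1 fun h => hd ⟨ha, hb, h⟩)
        rw [hr, pow_add, h0]; ring
      · rw [h4, zero_pow hb]; ring
    · rw [h2, zero_pow ha]; ring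
  · rintro d e hd he ⟨hd2, hd4, hd0⟩ ⟨he2, he4, he0⟩ hle
    have hw := hd.trans he.symm
    rw [weight_wt5, weight_wt5, W3_eq_iff, hd2, hd4, he2, he4] at hw
    simp only [Nat.cast_zero, add_zero, zero_add] at hw
    obtain ⟨h00, w, hw1, hw2⟩ := small_shift hpq hcop hm hw.1.symm hw.2 hd0 he0
    have hQ : 0 < ((m / g * q : ℕ) : ℤ) := by
      have : 0 < m / g := Nat.div_pos (Nat.le_of_dvd hm (Nat.gcd_dvd_left _ _)) (Nat.gcd_pos_of_pos_left _ hm)
      have : 0 < q := by omega
      positivity
    have hw0 : 0 ≤ w := by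
      by_contra h
      have : w * ((m / g * q : ℕ) : ℤ) < 0 := mul_neg_of_neg_of_pos (by omega) hQ
      rw [← hg] at hw1
      omega
    obtain ⟨j, rfl⟩ := Int.eq_ofNat_of_zero_le hw0
    refine ⟨s ^ j, ?_⟩
    rw [← hmk, ← Ideal.Quotient.mkₐ_eq_mk k, ← map_smul, Ideal.Quotient.mkₐ_eq_mk, smul_eq_C_mul, map_mul,
      map_pow, map_pow, hmon, hmon, hd2, hd4, he2, he4, ← hs, h00]
    have e1 : d 1 = e 1 + j * (m / g * q) := by exact_mod_cast hw1
    have e3 : d 3 = e 3 + j * (m / g * p) := by exact_mod_cast hw2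
    rw [e1, e3]
    ring

end Groth.Agent.S15728
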