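import Groth.Statements.S15729
import Groth.Agent.Misc10.Gen

set_option autoImplicit false
universe u
open W4c2invhilbsl2

namespace Groth.Agent.S15729

open Groth.Misc10 W4c2invhilbsl2 MvPolynomial

/-- Let 0 < p < q be coprime integers and m ≥ 1 such that q − p does not divide m; put g = gcd(m, q−p),
b = (q−p)/g, α = ⌊mp/(q−p)⌋, β = the remainder of mp modulo q−p and t = (q−p−β)/g, so that 1 ≤ t <
b, and let b/t = c₁ − 1/(c₂ − 1/(⋯ − 1/c_r)) be the negative-regular (Hirzebruch–Jung) continued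
fraction expansion with every cᵢ ≥ 2; set P₀ = 0, P₁ = 1, Q₀ = −1, Q₁ = 0, Pᵢ = cᵢ₋₁Pᵢ₋₁ − Pᵢ₋₂, Qᵢ
= cᵢ₋₁Qᵢ₋₁ − Qᵢ₋₂ for 2 ≤ i ≤ r+1, and eᵢ = (α+1+m)Pᵢ − Qᵢ, lᵢ = (α+1)Pᵢ − Qᵢ, nᵢ = q·lᵢ − p·eᵢ,
which are non-negative integers for 0 ≤ i ≤ r+1. Grade the polynomial ring k[X₀,X₁,X₂] over a field
k by ℤ × ℤ/m with weights (1,0), (−p,−1), (q,1) (it stands for k[X₀,X₁,Xⱼ], j = 3 or 4, inside the
five-variable ring). Then for every 1 ≤ i ≤ r, every polynomial homogeneous of weight (nᵢ, 0) can be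
written a·X₀^(nᵢ) + b·X₁^(eᵢ)X₂^(lᵢ) with a and b homogeneous of weight zero; that is, the
weight-(nᵢ,0) piece is generated over the weight-zero subring by X₀^(nᵢ) and X₁^(eᵢ)X₂^(lᵢ). -/
theorem result (k : Type u) [Field k] (p q m : ℕ) (hp : 0 < p) (hpq : p < q) (hcop : Nat.Coprime p q) (hm : 0 < m) (hnt : ¬ (q - p ∣ m)) (c : List ℤ) (hc : W4c2invhilbsl2.IsHJDigits p q m c) (i : ℕ) (hi : 1 ≤ i) (hir : i ≤ c.length)
    (f : MvPolynomial (Fin 3) k) (hf : f ∈ MvPolynomial.weightedHomogeneousSubmodule k (W4c2invhilbsl2.wt3 p q m) (W4c2invhilbsl2.nN p q m c i, (0 : ZMod m))) :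
    ∃ a b : MvPolynomial (Fin 3) k, a ∈ MvPolynomial.weightedHomogeneousSubmodule k (W4c2invhilbsl2.wt3 p q m) 0 ∧ b ∈ MvPolynomial.weightedHomogeneousSubmodule k (W4c2invhilbsl2.wt3 p q m) 0 ∧
      f = a * MvPolynomial.X (0 : Fin 3) ^ (W4c2invhilbsl2.nN p q m c i).toNat +
        b * (MvPolynomial.X (1 : Fin 3) ^ (W4c2invhilbsl2.eE p q m c i).toNat * MvPolynomial.X (2 : Fin 3) ^ (W4c2invhilbsl2.lL p q m c i).toNat) := by
  classical
  have H : HJData p q m c := ⟨hp, hpq, hcop, hm, hnt, hc⟩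
  obtain ⟨i, rfl⟩ : ∃ i', i = i' + 1 := ⟨i - 1, by omega⟩
  set W := weightedHomogeneousSubmodule k (wt3 p q m) 0
  set n := nN p q m c (i + 1) with hn
  set e := eE p q m c (i + 1) with he
  set l := lL p q m c (i + 1) with hl
  have hnpos : 0 < n := H.n_pos hir
  have hepos : 1 ≤ e := H.e_pos hir
  have hlpos : 1 ≤ l := H.l_pos hir
  have h : f ∈ W.map (LinearMap.mulRight k (X 0 ^ n.toNat)) ⊔
      W.map (LinearMap.mulRight k (X 1 ^ e.toNat * X 2 ^ l.toNat)) := by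
    refine mem_of_monomials (fun d hd => ?_) hf
    have hwd := hd
    rw [weight_wt3, show (0 : ZMod m) = ((0 : ℤ) : ZMod m) by simp, W3_eq_mk, add_zero] at hwd
    by_cases hlt : n ≤ ((d 0 : ℕ) : ℤ)
    · refine Submodule.mem_sup_left (monomial_mem_map_mulRight (e := Finsupp.single 0 n.toNat)
        (X_pow_eq_monomial ..) (Finsupp.single_le_iff.2 (by omega)) ?_)
      rw [hd, Finsupp.weight_single]; simp [wt3, nsmul_eq_mul, Prod.ext_iff, Int.toNat_of_nonneg hnpos.le, max_eq_left hnpos.le]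
    · obtain ⟨g1, g2⟩ := H.dominates hir (by omega) (by omega) (by omega) hwd.1 hwd.2 (not_le.1 hlt)
      refine Submodule.mem_sup_right
        (monomial_mem_map_mulRight (e := tri 0 e.toNat l.toNat) (by simp [monomial_three]) ?_ ?_)
      · intro j; fin_cases j <;> simp <;> omega
      · rw [hd, weight_wt3, show (0 : ZMod m) = ((0 : ℤ) : ZMod m) by simp, eq_comm, W3_eq_mk]
        simp only [tri_zero, tri_one, tri_two, Int.toNat_of_nonneg (show 0 ≤ e by omega),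
          Int.toNat_of_nonneg (show 0 ≤ l by omega)]
        exact ⟨by rw [hn, he, hl, HJData.n_def]; push_cast; ring,
          by rw [add_zero, H.e_sub_l]; exact dvd_mul_right _ _⟩
  obtain ⟨_, ⟨a, ha, rfl⟩, _, ⟨b, hb, rfl⟩, hab⟩ := Submodule.mem_sup.1 h
  exact ⟨a, b, ha, hb, hab.symm⟩

end Groth.Agent.S15729
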