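import Groth.Statements.S15732
import Groth.Agent.Misc10.Gen

set_option autoImplicit false
universe u
open W4c2invhilbsl2

namespace Groth.Agent.S15732

open Groth.Misc10 W4c2invhilbsl2 MvPolynomial

/-- Let 0 < p < q be coprime integers and m ≥ 1 such that q − p does not divide m; put g = gcd(m, q−p),
b = (q−p)/g, α = ⌊mp/(q−p)⌋, β = the remainder of mp modulo q−p and t = (q−p−β)/g, so that 1 ≤ t <
b, and let b/t = c₁ − 1/(c₂ − 1/(⋯ − 1/c_r)) be the negative-regular (Hirzebruch–Jung) continued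
fraction expansion with every cᵢ ≥ 2; set P₀ = 0, P₁ = 1, Q₀ = −1, Q₁ = 0, Pᵢ = cᵢ₋₁Pᵢ₋₁ − Pᵢ₋₂, Qᵢ
= cᵢ₋₁Qᵢ₋₁ − Qᵢ₋₂ for 2 ≤ i ≤ r+1, and eᵢ = (α+1+m)Pᵢ − Qᵢ, lᵢ = (α+1)Pᵢ − Qᵢ, nᵢ = q·lᵢ − p·eᵢ,
which are non-negative integers for 0 ≤ i ≤ r+1. Grade the polynomial ring k[X₀,…,X₄] over a field k
by ℤ × ℤ/m, giving X₀ weight (1,0), X₁ and X₂ weight (−p,−1), and X₃ and X₄ weight (q,1). Then for
every 1 ≤ i ≤ r, modulo the principal ideal generated by the weight-zero element X₀^(q−p) − X₁X₄ +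
X₂X₃, every polynomial homogeneous of weight (nᵢ, 0) is congruent to a combination a₀·X₀^(nᵢ) + Σ
a_{e,l}·X₁^(eᵢ−e)X₂^e X₃^(lᵢ−l)X₄^l (sum over 0 ≤ e ≤ eᵢ, 0 ≤ l ≤ lᵢ) whose coefficients a₀, a_{e,l}
are homogeneous of weight zero. Equivalently, in the coordinate ring of the hypersurface the
weight-(nᵢ,0) piece is generated over the weight-zero subring (the invariant ring) by X₀^(nᵢ)
together with the products of a degree-eᵢ monomial in X₁, X₂ and a degree-lᵢ monomial in X₃, X₄.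
(The published statement is over the complex numbers; this row takes any field.) -/
theorem result (k : Type u) [Field k] (p q m : ℕ) (hp : 0 < p) (hpq : p < q) (hcop : Nat.Coprime p q) (hm : 0 < m) (hnt : ¬ (q - p ∣ m)) (c : List ℤ) (hc : W4c2invhilbsl2.IsHJDigits p q m c) (i : ℕ) (hi : 1 ≤ i) (hir : i ≤ c.length)
    (f : MvPolynomial (Fin 5) k) (hf : f ∈ MvPolynomial.weightedHomogeneousSubmodule k (W4c2invhilbsl2.wt5 p q m) (W4c2invhilbsl2.nN p q m c i, (0 : ZMod m))) :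
    ∃ (a₀ : MvPolynomial (Fin 5) k) (a : ℕ → ℕ → MvPolynomial (Fin 5) k),
      a₀ ∈ MvPolynomial.weightedHomogeneousSubmodule k (W4c2invhilbsl2.wt5 p q m) 0 ∧ (∀ e l : ℕ, a e l ∈ MvPolynomial.weightedHomogeneousSubmodule k (W4c2invhilbsl2.wt5 p q m) 0) ∧
      f - (a₀ * MvPolynomial.X (0 : Fin 5) ^ (W4c2invhilbsl2.nN p q m c i).toNat +
          ∑ e ∈ Finset.range ((W4c2invhilbsl2.eE p q m c i).toNat + 1), ∑ l ∈ Finset.range ((W4c2invhilbsl2.lL p q m c i).toNat + 1),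
            a e l * (MvPolynomial.X (1 : Fin 5) ^ ((W4c2invhilbsl2.eE p q m c i).toNat - e) * MvPolynomial.X (2 : Fin 5) ^ e *
              MvPolynomial.X (3 : Fin 5) ^ ((W4c2invhilbsl2.lL p q m c i).toNat - l) * MvPolynomial.X (4 : Fin 5) ^ l)) ∈
        Ideal.span {MvPolynomial.X (0 : Fin 5) ^ (q - p) - MvPolynomial.X 1 * MvPolynomial.X 4 + MvPolynomial.X 2 * MvPolynomial.X 3} := by
  classical
  have H : HJData p q m c := ⟨hp, hpq, hcop, hm, hnt, hc⟩
  obtain ⟨i, rfl⟩ : ∃ i', i = i' + 1 := ⟨i - 1, by omega⟩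
  set W := weightedHomogeneousSubmodule k (wt5 p q m) 0 with hW
  set n := nN p q m c (i + 1) with hn
  set e := eE p q m c (i + 1) with he
  set l := lL p q m c (i + 1) with hl
  have hnpos : 0 < n := H.n_pos hir
  have hepos : 1 ≤ e := H.e_pos hir
  have hlpos : 1 ≤ l := H.l_pos hir
  let g : ℕ → ℕ → MvPolynomial (Fin 5) k := fun u v =>
    X 1 ^ (e.toNat - u) * X 2 ^ u * X 3 ^ (l.toNat - v) * X 4 ^ v
  let Good : Submodule k (MvPolynomial (Fin 5) k) :=
    { carrier := {F | ∃ (a₀ : MvPolynomial (Fin 5) k) (a : ℕ → ℕ → MvPolynomial (Fin 5) k),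
        a₀ ∈ W ∧ (∀ u v, a u v ∈ W) ∧ F = a₀ * X 0 ^ n.toNat +
          ∑ u ∈ Finset.range (e.toNat + 1), ∑ v ∈ Finset.range (l.toNat + 1), a u v * g u v}
      add_mem' := by
        rintro F G ⟨a₀, a, ha₀, ha, rfl⟩ ⟨b₀, b, hb₀, hb, rfl⟩
        refine ⟨a₀ + b₀, a + b, add_mem ha₀ hb₀, fun u v => add_mem (ha u v) (hb u v), ?_⟩
        simp only [Pi.add_apply, add_mul, Finset.sum_add_distrib]
        ring
      zero_mem' := ⟨0, 0, zero_mem _, fun _ _ => zero_mem _, by simp⟩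
      smul_mem' := by
        rintro r F ⟨a₀, a, ha₀, ha, rfl⟩
        refine ⟨r • a₀, r • a, Submodule.smul_mem _ r ha₀, fun u v => Submodule.smul_mem _ r (ha u v), ?_⟩
        simp only [Pi.smul_apply, smul_add, Finset.smul_sum, smul_mul_assoc] }
  have h : f ∈ Good := by
    refine mem_of_monomials (fun d hd => ?_) hf
    have hwd := hd
    rw [weight_wt5, show (0 : ZMod m) = ((0 : ℤ) : ZMod m) by simp, W3_eq_mk, add_zero] at hwd
    by_cases hlt : n ≤ ((d 0 : ℕ) : ℤ)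
    · obtain ⟨a₀, ha₀, hd'⟩ := monomial_mem_map_mulRight (k := k) (w := wt5 p q m) (d := d)
        (e := Finsupp.single 0 n.toNat) (g := X 0 ^ n.toNat) (X_pow_eq_monomial ..)
        (Finsupp.single_le_iff.2 (by omega))
        (by rw [hd, Finsupp.weight_single]; simp [wt5, nsmul_eq_mul, Prod.ext_iff, Int.toNat_of_nonneg hnpos.le, max_eq_left hnpos.le])
      exact ⟨a₀, 0, ha₀, fun _ _ => zero_mem _, by simpa using hd'.symm⟩
    · obtain ⟨g1, g2⟩ := H.dominates hir (d1 := ((d 1 : ℕ) : ℤ) + (d 2 : ℕ)) (d2 := ((d 3 : ℕ) : ℤ) + (d 4 : ℕ))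
        (Int.natCast_nonneg _) (by omega) (by omega) hwd.1 hwd.2 (not_le.1 hlt)
      set u₀ := e.toNat - d 1
      set v₀ := l.toNat - d 3
      let ee : Fin 5 →₀ ℕ := Finsupp.equivFunOnFinite.symm ![0, e.toNat - u₀, u₀, l.toNat - v₀, v₀]
      obtain ⟨a, ha, hd'⟩ := monomial_mem_map_mulRight (k := k) (w := wt5 p q m) (d := d) (e := ee)
        (g := g u₀ v₀) (by simp [monomial_five, ee, g])
        (by intro j; fin_cases j <;> simp [ee, u₀, v₀] <;> omega)
        (by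
          rw [hd, weight_wt5, show (0 : ZMod m) = ((0 : ℤ) : ZMod m) by simp, eq_comm, W3_eq_mk]
          have e12 : ((ee 1 : ℕ) : ℤ) + ((ee 2 : ℕ) : ℤ) = e := by simp [ee]; omega
          have e34 : ((ee 3 : ℕ) : ℤ) + ((ee 4 : ℕ) : ℤ) = l := by simp [ee]; omega
          rw [e12, e34, show ee 0 = 0 by simp [ee]]
          exact ⟨by rw [hn, he, hl, HJData.n_def]; push_cast; ring,
            by rw [add_zero, H.e_sub_l]; exact dvd_mul_right _ _⟩)
      refine ⟨0, fun u v => if u = u₀ ∧ v = v₀ then a else 0, zero_mem _, fun u v => ?_, ?_⟩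
      · dsimp only
        split_ifs
        · exact ha
        · exact zero_mem _
      · simp only [ite_mul, zero_mul, zero_add, ite_and]
        rw [Finset.sum_eq_single u₀ (by intro b _ hb; simp [hb]) (by simp; omega), ]
        rw [Finset.sum_eq_single v₀ (by intro b _ hb; simp [hb]) (by simp; omega)]
        simpa using hd'.symm
  obtain ⟨a₀, a, ha₀, ha, rfl⟩ := h
  exact ⟨a₀, a, ha₀, ha, by rw [sub_self]; exact zero_mem _⟩

end Groth.Agent.S15732
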