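import Groth.Statements.S15738
import Groth.Agent.Misc10.Gen

set_option autoImplicit false
universe u
open W4c2invhilbsl2

namespace Groth.Agent.S15738

open Groth.Misc10 W4c2invhilbsl2 MvPolynomial

/-- Let k be a field and m ≥ 1; for a monomial X₀^d₀X₁^d₁X₂^d₂ of the polynomial ring in X₀, X₁, X₂ (X₂
standing for Xⱼ, j = 3 or 4, of the five-variable ring) put n = d₀ − p·d₁ + q·d₂ (its weight for the
torus diag(t, t^(−p), t^q)), c = d₁ − d₂ and ω = p·d₁ − q·d₂, so that d₀ = n + ω; here 0 < p < q are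
coprime integers. Take two monomials X₀^d₀X₁^d₁X₂^d₂ and X₀^e₀X₁^e₁X₂^e₂ with the same n and with
values c, c' of c congruent modulo m (so both lie in the same ℤ × ℤ/m-weight piece for the weights
(1,0), (−p,−1), (q,1)). Then: (i) if c = c', the difference of the two monomials lies in the
principal ideal (X₀^(q−p) − X₁X₂); (ii) if c' < c, the monomial X₀^d₀X₁^d₁X₂^d₂ lies in the ideal
(X₀^(q−p) − X₁X₂, X₀^(mp)X₁^m); (iii) in all cases the difference lies in the ideal (X₀^(q−p) −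
X₁X₂, 1 − X₀^(mp)X₁^m). -/
theorem result (k : Type u) [Field k] (p q m : ℕ) (hp : 0 < p) (hpq : p < q) (hcop : Nat.Coprime p q) (hm : 0 < m)
    (d0 d1 d2 e0 e1 e2 : ℕ) (hn : (e0 : ℤ) - (p : ℤ) * e1 + (q : ℤ) * e2 = (d0 : ℤ) - (p : ℤ) * d1 + (q : ℤ) * d2)
    (hc : (m : ℤ) ∣ ((d1 : ℤ) - d2) - ((e1 : ℤ) - e2)) :
    ((d1 : ℤ) - d2 = (e1 : ℤ) - e2 →
      (MvPolynomial.X (0 : Fin 3) ^ d0 * MvPolynomial.X (1 : Fin 3) ^ d1 * MvPolynomial.X (2 : Fin 3) ^ d2 - MvPolynomial.X (0 : Fin 3) ^ e0 * MvPolynomial.X (1 : Fin 3) ^ e1 * MvPolynomial.X (2 : Fin 3) ^ e2 : MvPolynomial (Fin 3) k) ∈ Ideal.span {MvPolynomial.X (0 : Fin 3) ^ (q - p) - MvPolynomial.X (1 : Fin 3) * MvPolynomial.X (2 : Fin 3)}) ∧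
    ((e1 : ℤ) - e2 < (d1 : ℤ) - d2 →
      (MvPolynomial.X (0 : Fin 3) ^ d0 * MvPolynomial.X (1 : Fin 3) ^ d1 * MvPolynomial.X (2 : Fin 3) ^ d2 : MvPolynomial (Fin 3) k) ∈ Ideal.span {MvPolynomial.X (0 : Fin 3) ^ (q - p) - MvPolynomial.X (1 : Fin 3) * MvPolynomial.X (2 : Fin 3), MvPolynomial.X (0 : Fin 3) ^ (m * p) * MvPolynomial.X (1 : Fin 3) ^ m}) ∧
    ((MvPolynomial.X (0 : Fin 3) ^ d0 * MvPolynomial.X (1 : Fin 3) ^ d1 * MvPolynomial.X (2 : Fin 3) ^ d2 - MvPolynomial.X (0 : Fin 3) ^ e0 * MvPolynomial.X (1 : Fin 3) ^ e1 * MvPolynomial.X (2 : Fin 3) ^ e2 : MvPolynomial (Fin 3) k) ∈ Ideal.span {MvPolynomial.X (0 : Fin 3) ^ (q - p) - MvPolynomial.X (1 : Fin 3) * MvPolynomial.X (2 : Fin 3), 1 - MvPolynomial.X (0 : Fin 3) ^ (m * p) * MvPolynomial.X (1 : Fin 3) ^ m}) := by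
  set x : MvPolynomial (Fin 3) k := X 0
  set y : MvPolynomial (Fin 3) k := X 1
  set z : MvPolynomial (Fin 3) k := X 2
  set t := x ^ (m * p) * y ^ m with ht
  have main : ∀ I : Ideal (MvPolynomial (Fin 3) k), x ^ (q - p) - y * z ∈ I →
      Ideal.Quotient.mk I x ^ (q - p) = Ideal.Quotient.mk I y * Ideal.Quotient.mk I z := by
    intro I h; rw [← map_pow, ← map_mul, Ideal.Quotient.eq]; exact h
  refine ⟨fun h => ?_, fun h => ?_, ?_⟩
  · rw [← Ideal.Quotient.eq]; simp only [map_mul, map_pow]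
    exact rel_same hpq _ _ _ (main _ (Ideal.subset_span (Set.mem_singleton _))) hn h
  · rw [← Ideal.Quotient.eq_zero_iff_mem]; simp only [map_mul, map_pow]
    set I := Ideal.span ({x ^ (q - p) - y * z, t} : Set (MvPolynomial (Fin 3) k))
    obtain ⟨j, hj⟩ : ∃ j : ℕ, (d1 : ℤ) - d2 = (e1 : ℤ) - e2 + m * j := by
      obtain ⟨j, hj⟩ := hc
      have hm' : (0 : ℤ) < m := by exact_mod_cast hm
      have hj0 : 0 ≤ j := by
        by_contra hj'
        have := mul_neg_of_pos_of_neg hm' (not_le.1 hj')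
        omega
      exact ⟨j.toNat, by rw [Int.toNat_of_nonneg hj0]; omega⟩
    rw [rel_shift m hpq _ _ _ (main I (Ideal.subset_span (Set.mem_insert _ _))) hn hj]
    have hj' : j ≠ 0 := by rintro rfl; simp at hj; omega
    have ht0 : Ideal.Quotient.mk I x ^ (m * p) * Ideal.Quotient.mk I y ^ m = 0 := by
      rw [← map_pow, ← map_pow, ← map_mul]
      exact Ideal.Quotient.eq_zero_iff_mem.2 (Ideal.subset_span (Set.mem_insert_of_mem _ rfl))
    rw [ht0, zero_pow hj', zero_mul]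
  · rw [← Ideal.Quotient.eq]; simp only [map_mul, map_pow]
    set I := Ideal.span ({x ^ (q - p) - y * z, 1 - t} : Set (MvPolynomial (Fin 3) k))
    have hxyz := main I (Ideal.subset_span (Set.mem_insert _ _))
    have ht1 : Ideal.Quotient.mk I x ^ (m * p) * Ideal.Quotient.mk I y ^ m = 1 := by
      rw [← map_pow, ← map_pow, ← map_mul, ← map_one (Ideal.Quotient.mk I), eq_comm, Ideal.Quotient.eq]
      exact Ideal.subset_span (Set.mem_insert_of_mem _ rfl)
    rcases le_total (e0 + (q - p) * e2) (d0 + (q - p) * d2) with h | h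
    · obtain ⟨j, hj⟩ := exists_shift_I hp hn hc h hpq
      rw [rel_shift m hpq _ _ _ hxyz hn hj, ht1, one_pow, one_mul]
    · obtain ⟨j, hj⟩ := exists_shift_I hp hn.symm ((dvd_sub_comm).1 hc) h hpq
      rw [rel_shift m hpq (e0 := d0) (e1 := d1) (e2 := d2) (d0 := e0) (d1 := e1) (d2 := e2) _ _ _ hxyz hn.symm hj,
        ht1, one_pow, one_mul]

end Groth.Agent.S15738
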