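import Groth.Statements.S15739
import Groth.Agent.Misc10.Gen

set_option autoImplicit false
universe u
open W4c2invhilbsl2

namespace Groth.Agent.S15739

open Groth.Misc10 W4c2invhilbsl2 MvPolynomial

/-- Let k be a field and m ≥ 1, put g = gcd(m, q−p), a = m/g and b = (q−p)/g; for a monomial
X₀^d₀X₁^d₁X₂^d₂ of the polynomial ring in X₀, X₁, X₂ (X₂ standing for Xⱼ, j = 3 or 4, of the
five-variable ring) put n = d₀ − p·d₁ + q·d₂ (its weight for the torus diag(t, t^(−p), t^q)), c = d₁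
− d₂ and ω = p·d₁ − q·d₂, so that d₀ = n + ω; here 0 < p < q are coprime integers. Take two
monomials X₀^d₀X₁^d₁X₂^d₂ and X₀^e₀X₁^e₁X₂^e₂ with the same n, where 0 ≤ n < q − p, whose values c
and c' of c are both divisible by m, and with d₀ < g and e₀ < g (so each has the least ω for its
pair (n, c), as g ≤ q − p). Then: (i) d₀ = e₀, i.e. the two values of ω agree, and m·b divides c −
c'; (ii) if c < c', then X₀^e₀X₁^e₁X₂^e₂ is a multiple of X₀^d₀X₁^d₁X₂^d₂ · X₁^(aq)X₂^(ap); (iii)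
the difference of the two monomials lies in the principal ideal (1 − X₁^(aq)X₂^(ap)). -/
theorem result (k : Type u) [Field k] (p q m : ℕ) (hp : 0 < p) (hpq : p < q) (hcop : Nat.Coprime p q) (hm : 0 < m)
    (d0 d1 d2 e0 e1 e2 : ℕ) (hn : (e0 : ℤ) - (p : ℤ) * e1 + (q : ℤ) * e2 = (d0 : ℤ) - (p : ℤ) * d1 + (q : ℤ) * d2)
    (hn0 : 0 ≤ (d0 : ℤ) - (p : ℤ) * d1 + (q : ℤ) * d2) (hnq : (d0 : ℤ) - (p : ℤ) * d1 + (q : ℤ) * d2 < (q : ℤ) - p)
    (hcd : (m : ℤ) ∣ (d1 : ℤ) - d2) (hce : (m : ℤ) ∣ (e1 : ℤ) - e2)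
    (hd0 : d0 < Nat.gcd m (q - p)) (he0 : e0 < Nat.gcd m (q - p)) :
    (d0 = e0 ∧ ((m : ℤ) * ((q - p) / Nat.gcd m (q - p) : ℕ)) ∣ ((d1 : ℤ) - d2) - ((e1 : ℤ) - e2)) ∧
    ((d1 : ℤ) - d2 < (e1 : ℤ) - e2 →
      (MvPolynomial.X (0 : Fin 3) ^ d0 * MvPolynomial.X (1 : Fin 3) ^ d1 * MvPolynomial.X (2 : Fin 3) ^ d2 * (MvPolynomial.X (1 : Fin 3) ^ (m / Nat.gcd m (q - p) * q) * MvPolynomial.X (2 : Fin 3) ^ (m / Nat.gcd m (q - p) * p)) : MvPolynomial (Fin 3) k) ∣ MvPolynomial.X (0 : Fin 3) ^ e0 * MvPolynomial.X (1 : Fin 3) ^ e1 * MvPolynomial.X (2 : Fin 3) ^ e2) ∧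
    ((MvPolynomial.X (0 : Fin 3) ^ e0 * MvPolynomial.X (1 : Fin 3) ^ e1 * MvPolynomial.X (2 : Fin 3) ^ e2 - MvPolynomial.X (0 : Fin 3) ^ d0 * MvPolynomial.X (1 : Fin 3) ^ d1 * MvPolynomial.X (2 : Fin 3) ^ d2 : MvPolynomial (Fin 3) k) ∈
      Ideal.span {(1 : MvPolynomial (Fin 3) k) - MvPolynomial.X (1 : Fin 3) ^ (m / Nat.gcd m (q - p) * q) * MvPolynomial.X (2 : Fin 3) ^ (m / Nat.gcd m (q - p) * p)}) := by
  set g := Nat.gcd m (q - p) with hg
  obtain ⟨h0, w, h1, h2⟩ := small_shift hpq hcop hm hn (dvd_sub hcd hce) hd0 he0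
  have hD : (g : ℤ) * ((q - p) / g : ℕ) = (q : ℤ) - p := by
    rw [← Nat.cast_mul, Nat.mul_div_cancel' (Nat.gcd_dvd_right _ _), Nat.cast_sub hpq.le]
  have hmg : (g : ℤ) * (m / g : ℕ) = (m : ℤ) := by
    rw [← Nat.cast_mul, Nat.mul_div_cancel' (Nat.gcd_dvd_left _ _)]
  rw [← hg] at h1 h2
  refine ⟨⟨h0, w, ?_⟩, fun h => ?_, ?_⟩
  · simp only [Nat.cast_mul] at h1 h2 ⊢
    linear_combination h1 - h2 + w * ((m / g : ℕ) : ℤ) * (-hD) + w * (((q - p) / g : ℕ) : ℤ) * hmg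
  · have hw : w < 0 := by
      by_contra hw
      simp only [Nat.cast_mul] at h1 h2
      have : 0 ≤ w * ((m / g : ℕ) : ℤ) * ((q : ℤ) - p) :=
        mul_nonneg (mul_nonneg (not_lt.1 hw) (Int.natCast_nonneg _)) (by omega)
      linarith
    obtain ⟨j, hj⟩ : ∃ j : ℕ, w = -((j : ℤ) + 1) := ⟨(-w - 1).toNat, by omega⟩
    subst hj
    have e1' : e1 = d1 + (j + 1) * (m / g * q) := by
      have : (e1 : ℤ) = d1 + ((j : ℤ) + 1) * ((m / g * q : ℕ) : ℤ) := by linarith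
      exact_mod_cast this
    have e2' : e2 = d2 + (j + 1) * (m / g * p) := by
      have : (e2 : ℤ) = d2 + ((j : ℤ) + 1) * ((m / g * p : ℕ) : ℤ) := by linarith
      exact_mod_cast this
    refine ⟨X 1 ^ (j * (m / g * q)) * X 2 ^ (j * (m / g * p)), ?_⟩
    rw [e1', e2', h0]; ring
  · rw [← Ideal.Quotient.eq]
    set I := Ideal.span ({(1 : MvPolynomial (Fin 3) k) - X (1 : Fin 3) ^ (m / g * q) * X (2 : Fin 3) ^ (m / g * p)} :
      Set (MvPolynomial (Fin 3) k))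
    simp only [map_mul, map_pow, h0]
    set y := Ideal.Quotient.mk I (X (1 : Fin 3)) with hy
    set z := Ideal.Quotient.mk I (X (2 : Fin 3)) with hz
    have ht : y ^ (m / g * q) * z ^ (m / g * p) = 1 := by
      rw [hy, hz, ← map_pow, ← map_pow, ← map_mul, ← map_one (Ideal.Quotient.mk I), eq_comm, Ideal.Quotient.eq]
      exact Ideal.subset_span rfl
    have key : ∀ (j a b a' b' : ℕ), a = a' + j * (m / g * q) → b = b' + j * (m / g * p) →
        y ^ a * z ^ b = y ^ a' * z ^ b' := by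
      intro j a b a' b' ha hb
      calc y ^ a * z ^ b = y ^ a' * z ^ b' * (y ^ (m / g * q) * z ^ (m / g * p)) ^ j := by rw [ha, hb]; ring
        _ = _ := by rw [ht, one_pow, mul_one]
    rcases le_total 0 w with hw | hw
    · obtain ⟨j, rfl⟩ := Int.eq_ofNat_of_zero_le hw
      have k0 := key j d1 d2 e1 e2 (by exact_mod_cast h1) (by exact_mod_cast h2)
      rw [mul_assoc, mul_assoc, k0]
    · obtain ⟨j, hj⟩ := Int.exists_eq_neg_ofNat hw
      subst hj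
      have k0 := key j e1 e2 d1 d2
        (by have : (e1 : ℤ) = d1 + (j : ℤ) * ((m / g * q : ℕ) : ℤ) := by linarith
            exact_mod_cast this)
        (by have : (e2 : ℤ) = d2 + (j : ℤ) * ((m / g * p : ℕ) : ℤ) := by linarith
            exact_mod_cast this)
      rw [mul_assoc, mul_assoc, k0]

end Groth.Agent.S15739
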