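import Groth.Statements.S1574
import Groth.Agent.RefRank.AffineCompl

set_option autoImplicit false
universe u
open CategoryTheory CategoryTheory.Limits AlgebraicGeometry
open Divisors

namespace Groth.Agent.S1574

/-- For a Noetherian local ring A, the punctured spectrum (Spec A minus the closed point, as an open
subscheme) is affine if and only if dim A ≤ 1. -/
theorem result (A : Type u) [CommRing A] [IsLocalRing A] [IsNoetherianRing A] :
    IsAffine (FEt.puncturedSpec A : Scheme.{u}) ↔ ringKrullDim A ≤ 1 := by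
  have hm := IsLocalRing.maximalIdeal_height_eq_ringKrullDim (R := A)
  constructor
  · intro h
    rw [← hm]
    refine WithBot.coe_le_coe.2 (Groth.RefRank.AffineCompl.height_le_one_of_generic (FEt.puncturedSpec A) h
      (IsLocalRing.closedPoint A) (fun hh => hh rfl) fun q _ hq => not_not.1 hq)
  · intro h
    rw [← hm] at h
    classical
    have h1 : (IsLocalRing.maximalIdeal A).height ≤ 1 := WithBot.coe_le_coe.1 h
    have key : ∀ q : PrimeSpectrum A, q ≠ IsLocalRing.closedPoint A → q.asIdeal ∈ minimalPrimes A := by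
      intro q hq
      have hlt : q.asIdeal < IsLocalRing.maximalIdeal A :=
        lt_of_le_of_ne (IsLocalRing.le_maximalIdeal q.2.ne_top) fun e => hq (PrimeSpectrum.ext e)
      rw [← Ideal.height_eq_zero_iff]
      exact ENat.lt_one_iff_eq_zero.1 (lt_of_lt_of_le (Ideal.height_strict_mono_of_isPrime_of_isPrime hlt) h1)
    obtain ⟨f, hfm, hf⟩ : ∃ f ∈ IsLocalRing.maximalIdeal A, ∀ q : PrimeSpectrum A, q ≠ IsLocalRing.closedPoint A → f ∉ q.asIdeal := by
      have hfin : ((minimalPrimes A) \ {IsLocalRing.maximalIdeal A}).Finite :=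
        (minimalPrimes.finite_of_isNoetherianRing A).sdiff
      have : ¬ ((IsLocalRing.maximalIdeal A : Ideal A) : Set A) ⊆ ⋃ q ∈ (↑hfin.toFinset : Set (Ideal A)), (q : Set A) := by
        intro hsub
        obtain ⟨q, hq, hle⟩ := (Ideal.subset_union_prime (f := id) ⊥ ⊥ fun q hq _ _ => ((hfin.mem_toFinset.1 hq).1).1.1).1 hsub
        have hq' := hfin.mem_toFinset.1 hq
        exact hq'.2 ((IsLocalRing.le_maximalIdeal hq'.1.1.1.ne_top).antisymm hle)
      obtain ⟨f, hfm, hf⟩ := Set.not_subset.1 this
      refine ⟨f, hfm, fun q hq hfq => hf (Set.mem_biUnion (x := q.asIdeal) ?_ hfq)⟩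
      exact hfin.mem_toFinset.2 ⟨key q hq, fun e => hq (PrimeSpectrum.ext e)⟩
    have e : FEt.puncturedSpec A = PrimeSpectrum.basicOpen f := by
      ext q
      exact ⟨fun hq => hf q hq, fun hq e => hq (by subst e; exact hfm)⟩
    rw [e]
    exact IsAffineOpen.Spec_basicOpen (R := CommRingCat.of A) f

end Groth.Agent.S1574
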