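import Groth.Statements.S15740
import Mathlib.Tactic

set_option autoImplicit false
open W4c2invhilbsl2

namespace Groth.Agent.S15740

/-- For a monomial X₀^d₀X₁^d₁X₂^d₂ of the polynomial ring in X₀, X₁, X₂ (X₂ standing for Xⱼ, j = 3 or 4,
of the five-variable ring) put n = d₀ − p·d₁ + q·d₂ (its weight for the torus diag(t, t^(−p), t^q)),
c = d₁ − d₂ and ω = p·d₁ − q·d₂, so that d₀ = n + ω; here 0 < p < q are coprime integers. Suppose n
≥ 0, c > 0 and d₀ < q − p (the last condition says that ω is the least value of ω for the pair (n,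
c)). Then ω ≥ 0 if and only if the remainder of p·c on division by q − p, plus n, is less than q −
p. -/
theorem result (p q : ℕ) (hp : 0 < p) (hpq : p < q) (hcop : Nat.Coprime p q) (d0 d1 d2 : ℕ)
    (hn : 0 ≤ (d0 : ℤ) - (p : ℤ) * d1 + (q : ℤ) * d2) (hc : (d2 : ℤ) < d1) (hd0 : d0 < q - p) :
    0 ≤ (p : ℤ) * d1 - (q : ℤ) * d2 ↔
      Int.emod ((p : ℤ) * ((d1 : ℤ) - d2)) ((q : ℤ) - p) + ((d0 : ℤ) - (p : ℤ) * d1 + (q : ℤ) * d2) < (q : ℤ) - p := by
  change _ ↔ ((p : ℤ) * ((d1 : ℤ) - d2)) % ((q : ℤ) - p) + _ < _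
  set D : ℤ := (q : ℤ) - p with hD
  have hDpos : 0 < D := by omega
  have hω : (p : ℤ) * d1 - (q : ℤ) * d2 = (p : ℤ) * ((d1 : ℤ) - d2) - D * d2 := by rw [hD]; ring
  have hmod := Int.emod_add_mul_ediv ((p : ℤ) * ((d1 : ℤ) - d2)) D
  set r := ((p : ℤ) * ((d1 : ℤ) - d2)) % D with hr
  set k := ((p : ℤ) * ((d1 : ℤ) - d2)) / D with hk
  have hr0 : 0 ≤ r := Int.emod_nonneg _ hDpos.ne'
  have hr1 : r < D := Int.emod_lt_of_pos _ hDpos
  have hd : (d0 : ℤ) < D := by omega
  constructor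
  · intro h
    have : k - d2 = 0 := by
      rcases lt_trichotomy (k - d2) 0 with h' | h' | h'
      · nlinarith
      · exact h'
      · nlinarith
    nlinarith
  · intro h
    by_contra h'
    have : k - d2 ≤ -1 := by
      by_contra h''
      nlinarith
    nlinarith

end Groth.Agent.S15740
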