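import Groth.Statements.S15741
import Groth.Agent.OmegaSheaf.Chart

set_option autoImplicit false
universe u
open CategoryTheory AlgebraicGeometry
open Mor

namespace Groth.Agent.S15741

/-- For a quasi-separated morphism of schemes `f : X ⟶ Y` and affine opens `U ⊆ X`, `V ⊆ Y` with `U ≤
f⁻¹ V`, the canonical `Γ(X, U)`-linear map from the module of Kähler differentials of the ring `Γ(X,
U)` over `Γ(Y, V)` to the sections over `U` of the sheaf of relative differentials of `f` — the map
sending `d b` to `d_{X/Y} b` — is an isomorphism. (Quasi-separatedness of `f` is the standing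
hypothesis under which the sheaf of relative differentials is named in this library; the published
statement is for an arbitrary morphism of schemes.) -/
theorem result (X Y : Scheme.{u}) (f : X ⟶ Y) [QuasiSeparated f]
    (U : X.affineOpens) (V : Y.affineOpens) (h : U.1 ≤ f ⁻¹ᵁ V.1) :
    IsIso (OmAff.toSect f V.1 U.1 h) := by
  letI := Groth.OmegaSheaf.chartAlg f h
  let e := (Groth.OmegaSheaf.chartEquiv f h V.2 U.2).toModuleIso
  have he : e.hom = OmAff.toSect f V.1 U.1 h :=
    OmAff.toSect_unique f V.1 U.1 h e.hom fun b => Groth.OmegaSheaf.chartEquiv_D f h V.2 U.2 b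
  rw [← he]
  infer_instance

end Groth.Agent.S15741
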