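import Groth.Statements.S15742
import Groth.Agent.OmegaSheaf.Affine

set_option autoImplicit false
universe u
open CategoryTheory AlgebraicGeometry
open Mor

namespace Groth.Agent.S15742

/-- For a commutative ring `A` and a commutative `A`-algebra `B`, the canonical map from the module of
Kähler differentials `Ω[B⁄A]` to the global sections of the sheaf of relative differentials of `Spec
B ⟶ Spec A`, semilinear along the identification of `B` with the ring of global functions on `Spec
B` and sending `D b` to `d_{X/Y}` of the global function `b`, is bijective. -/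
theorem result (A B : Type u) [CommRing A] [CommRing B] [Algebra A B] :
    Function.Bijective (OmAff.toSpec A B) := by
  obtain ⟨g, hg⟩ := Groth.OmegaSheaf.exists_gammaEquiv A B
  have hadd : ∀ x y, OmAff.toSpec A B (x + y) = OmAff.toSpec A B x + OmAff.toSpec A B y := fun x y => map_add _ x y
  suffices h : (OmAff.toSpec A B : _ → _) = g by rw [h]; exact g.bijective
  funext x
  have hx : x ∈ Submodule.span B (Set.range (KaehlerDifferential.D A B)) := by
    rw [KaehlerDifferential.span_range_derivation]; trivial
  induction hx using Submodule.span_induction with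
  | mem y hy => obtain ⟨b, rfl⟩ := hy; rw [OmAff.toSpec_D, hg]; rfl
  | zero => exact (map_zero _).trans (map_zero g).symm
  | add a b _ _ ha hb => rw [hadd, ha, hb]; exact (map_add g a b).symm
  | smul c a _ ha =>
    refine ((OmAff.toSpec A B).map_smulₛₗ c a).trans ?_
    rw [ha]
    refine Eq.trans ?_ (map_smul g c a).symm
    change _ = ((Spec (CommRingCat.of B)).presheaf.map (⊤ : (Spec (CommRingCat.of B)).Opens).leTop.op
      ((Scheme.ΓSpecIso (CommRingCat.of B)).inv c)
      ) • (show Γ(Omega.sheaf (Spec.map (CommRingCat.ofHom (algebraMap A B))), ⊤) from g a)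
    rw [Subsingleton.elim (⊤ : (Spec (CommRingCat.of B)).Opens).leTop (𝟙 _), op_id,
      CategoryTheory.Functor.map_id]
    rfl

end Groth.Agent.S15742
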