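import Groth.Statements.S15745
import Groth.Agent.PicAux.GenLocusAffine
import Groth.Agent.PicAux.PicLaw

set_option autoImplicit false
universe u
open QCohSup

namespace Groth.Agent.S15745

open AlgebraicGeometry in
open CategoryTheory in
/-- Let `X` be a scheme, `L` and `L'` invertible `O_X`-modules, `f` a global section of `L` and `g` a
global section of `L'`. Then the open `X_{f ⊗ g}` where `f ⊗ g` generates `L ⊗ L'` is the
intersection of the open `X_f` where `f` generates `L` and the open `X_g` where `g` generates `L'`.
(The published statement is for a locally ringed space; this row is its case of a scheme.) -/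
theorem result
    (X : Scheme.{u}) (L L' : X.Modules) (hL : PicF.IsInvertible L) (hL' : PicF.IsInvertible L')
    (f : Coh.structureModule X ⟶ L) (g : Coh.structureModule X ⟶ L') :
    CohB1.genLocus (CohB1.tensorMod L L') (SecTwist.tmulHom f g) =
      CohB1.genLocus L f ⊓ CohB1.genLocus L' g := by
  open Groth.PicAux in
  obtain ⟨U, a, b, hU, -, ha, hb⟩ := exists_gen_cover₂ hL hL'
  refine opens_ext_cover hU fun i => ?_
  obtain ⟨c, hc⟩ := (ha i).exists_coeff le_rfl (res L le_top (gsec f))
  obtain ⟨d, hd⟩ := (hb i).exists_coeff le_rfl (res L' le_top (gsec g))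
  rw [res_self] at hc hd
  have h : res _ le_top (gsec (SecTwist.tmulHom f g)) = (c * d) • tmulSec (a i) (b i) := by
    have h0 : gsec (SecTwist.tmulHom f g) = tmulSec (gsec f) (gsec g) :=
      SecTwist.val_tmulHom f g ⊤
    rw [h0, res_tmulSec, hc, hd, tmulSec_smul_left, tmulSec_smul_right, mul_smul]
  rw [genLocus_inf_eq_basicOpen ((ha i).tensor (hb i)) h, Scheme.basicOpen_mul,
    ← genLocus_inf_eq_basicOpen (ha i) hc, ← genLocus_inf_eq_basicOpen (hb i) hd]
  ac_rfl

end Groth.Agent.S15745
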