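import Groth.Statements.S15749
import Mathlib
import Groth.Agent.Calg7.LaurentRed
-- import your own Groth.Agent.* helpers here

set_option autoImplicit false
universe u
open CAlg

namespace Groth.Agent.S15749

/-- For an arbitrary commutative ring R, every idempotent of the ring of formal Laurent series R((t)) is
the constant series attached to a unique idempotent of R. Equivalently, the structure map R → R((t))
induces a bijection on idempotents, so that the spectrum of R((t)) is connected if and only if the
spectrum of R is. No reducedness is assumed. -/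
theorem result (R : Type u) [CommRing R]
    (e : LaurentSeries R) (he : IsIdempotentElem e) :
    ∃! r : R, IsIdempotentElem r ∧ HahnSeries.C r = e := by
  classical
  have hsq : e * (e - 1) = 0 := by rw [mul_sub, mul_one, he.eq, sub_self]
  have hnil : ∀ i : ℤ, i ≠ 0 → IsNilpotent (e.coeff i) := fun i hi =>
    Groth.Calg7.Laurent.mem_nilradical_of_forall fun p hp => by
      haveI := hp
      have h : Groth.Calg7.Laurent.AllIn p (e * (e - 1)) := fun j => by rw [hsq]; simp
      rcases Groth.Calg7.Laurent.allIn_or h with h | h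
      · exact h i
      · have := h i
        rwa [HahnSeries.coeff_sub, HahnSeries.coeff_one, if_neg hi, sub_zero] at this
  have hnil0 : IsNilpotent (e.coeff 0 * e.coeff 0 - e.coeff 0) :=
    Groth.Calg7.Laurent.mem_nilradical_of_forall fun p hp => by
      haveI := hp
      have h : Groth.Calg7.Laurent.AllIn p (e * (e - 1)) := fun j => by rw [hsq]; simp
      rcases Groth.Calg7.Laurent.allIn_or h with h | h
      · exact sub_mem (p.mul_mem_left _ (h 0)) (h 0)
      · have := h 0
        rw [HahnSeries.coeff_sub, HahnSeries.coeff_one, if_pos rfl] at this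
        rw [show e.coeff 0 * e.coeff 0 - e.coeff 0 = e.coeff 0 * (e.coeff 0 - 1) by ring]
        exact p.mul_mem_left _ this
  have hker : ∀ x ∈ RingHom.ker (Ideal.Quotient.mk (nilradical R)), IsNilpotent x := fun x hx => by
    rw [Ideal.mk_ker] at hx; exact mem_nilradical.1 hx
  obtain ⟨r, ⟨hr, hre⟩, -⟩ := existsUnique_isIdempotentElem_eq_of_ker_isNilpotent
    (Ideal.Quotient.mk (nilradical R)) hker (Ideal.Quotient.mk (nilradical R) (e.coeff 0))
    ⟨_, rfl⟩ (by
      show _ * _ = _
      rw [← map_mul, Ideal.Quotient.eq]; exact mem_nilradical.2 hnil0)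
  set d := e - HahnSeries.C r
  have hd : ∀ i, IsNilpotent (d.coeff i) := by
    intro i
    rw [HahnSeries.coeff_sub, HahnSeries.C_apply, HahnSeries.coeff_single]
    split
    · next h =>
      subst h
      rw [← neg_sub, isNilpotent_neg_iff]
      exact mem_nilradical.1 (Ideal.Quotient.eq.1 hre)
    · next h => rw [sub_zero]; exact hnil i h
  have hCr : IsIdempotentElem (HahnSeries.C r : LaurentSeries R) := hr.map _
  have hcube : d * d * d = d := by
    have h1 := he.eq; have h2 := hCr.eq
    linear_combination (e - 3 * HahnSeries.C r + 1) * h1 + (3 * e - HahnSeries.C r - 1) * h2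
  -- finitely many coefficients in nonpositive degrees
  obtain ⟨B, hB⟩ : ∃ B : ℤ, ∀ i < B, d.coeff i = 0 := by
    rcases eq_or_ne d 0 with h | h
    · exact ⟨0, fun i _ => by simp [h]⟩
    · exact ⟨d.order, fun i hi => HahnSeries.coeff_eq_zero_of_lt_order hi⟩
  set N : Ideal R := Ideal.span (((Finset.Icc B 0).image fun i => d.coeff i : Finset R) : Set R)
  have hN : IsNilpotent N := by
    rw [Ideal.FG.isNilpotent_iff_le_nilradical ⟨_, rfl⟩, Ideal.span_le]
    intro x hx
    obtain ⟨i, -, rfl⟩ := Finset.mem_image.1 (Finset.mem_coe.1 hx)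
    exact mem_nilradical.2 (hd i)
  have hlow : ∀ i ≤ 0, d.coeff i ∈ N := fun i hi => by
    rcases lt_or_ge i B with h | h
    · rw [hB i h]; exact zero_mem _
    · exact Ideal.subset_span (Finset.mem_coe.2 (Finset.mem_image.2 ⟨i, Finset.mem_Icc.2 ⟨h, hi⟩, rfl⟩))
  have hall : Groth.Calg7.Laurent.AllIn N d := by
    intro i
    by_cases hi : i ≤ 0
    · exact hlow i hi
    have hind : ∀ j : ℕ, ∀ i : ℤ, i ≤ j → d.coeff i ∈ N := by
      intro j
      induction j with
      | zero => exact fun i hi => hlow i (by simpa using hi)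
      | succ j ih =>
        intro i hi
        rcases lt_or_eq_of_le hi with h | h
        · exact ih i (by push_cast at h; omega)
        rw [← hcube, HahnSeries.coeff_mul]
        refine Ideal.sum_mem _ fun ab hab => ?_
        obtain ⟨-, -, hs⟩ := Finset.mem_addAntidiagonal.1 hab
        by_cases hb : ab.2 ≤ (j : ℤ)
        · exact N.mul_mem_left _ (ih _ hb)
        refine N.mul_mem_right _ ?_
        rw [HahnSeries.coeff_mul]
        refine Ideal.sum_mem _ fun cd hcd => ?_
        obtain ⟨-, -, hs'⟩ := Finset.mem_addAntidiagonal.1 hcd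
        push_cast at h
        by_cases hc : cd.1 ≤ (j : ℤ)
        · exact N.mul_mem_right _ (ih _ hc)
        · exact N.mul_mem_left _ (ih _ (by omega))
    exact hind i.toNat i (by omega)
  obtain ⟨k, hk⟩ := hN
  have hpow : ∀ j, Groth.Calg7.Laurent.AllIn (N ^ (j + 1)) d := by
    intro j
    induction j with
    | zero => rw [pow_one]; exact hall
    | succ j ih =>
      intro i
      rw [← hcube]
      exact Ideal.mul_le_left (I := N ^ (j+1+1)) (Ideal.mul_mono_right (le_refl N) <| by
        rw [pow_succ]; exact Groth.Calg7.Laurent.allIn_mul (Groth.Calg7.Laurent.allIn_mul ih hall) hall i)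
  have hd0 : d = 0 := by
    ext i
    have := Ideal.pow_le_pow_right (Nat.le_succ k) (hpow k i)
    rw [hk] at this
    simpa using this
  refine ⟨r, ⟨hr, (sub_eq_zero.1 hd0).symm⟩, ?_⟩
  rintro r' ⟨-, hr'⟩
  exact HahnSeries.C_injective (hr'.trans (sub_eq_zero.1 hd0))

end Groth.Agent.S15749
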