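import Groth.Statements.S15750
import Mathlib
import Groth.Agent.Calg7.LaurentRed
-- import your own Groth.Agent.* helpers here

set_option autoImplicit false
universe u
open CAlg

namespace Groth.Agent.S15750

/-- Let R be a nonzero reduced commutative ring with no idempotents other than 0 and 1. Then every unit
of the Laurent series ring R((t)) is t^n · u for a unique integer n and a unique unit u of the power
series ring R[[t]]. (The published statement is for an arbitrary torus T over a reduced ring R, with
n replaced by a locally constant integer-valued function on Spec R, i.e. a point of the cocharacter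
lattice; this row is the case where T is the multiplicative group and Spec R is connected, to which
the published proof reduces.) -/
theorem result (R : Type u) [CommRing R]
    [IsReduced R] [Nontrivial R] (hconn : ∀ e : R, IsIdempotentElem e → e = 0 ∨ e = 1)
    (f : (LaurentSeries R)ˣ) :
    ∃! p : ℤ × (PowerSeries R)ˣ,
      (f : LaurentSeries R) = HahnSeries.single p.1 (1 : R) * HahnSeries.ofPowerSeries ℤ R (p.2 : PowerSeries R) := by
  classical
  open Groth.Calg7.Laurent in
  set g : LaurentSeries R := ((f⁻¹ : (LaurentSeries R)ˣ) : LaurentSeries R)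
  have hfg : (f : LaurentSeries R) * g = 1 := f.mul_inv
  let a : ℤ → R := fun i => (f : LaurentSeries R).coeff i * g.coeff (-i)
  have hprime : ∀ p : Ideal R, p.IsPrime → ∃ n : ℤ, (∀ i < n, (f : LaurentSeries R).coeff i ∈ p) ∧
      a n - 1 ∈ p ∧ ∀ i, i ≠ n → a i ∈ p := by
    intro p hp
    have hfn : ¬ Groth.Calg7.Laurent.AllIn p (f : LaurentSeries R) := fun h => hp.ne_top
      ((Ideal.eq_top_iff_one _).2 (by
        have := Groth.Calg7.Laurent.allIn_mul h (J := ⊤) (y := g) (fun _ => Submodule.mem_top) 0
        rw [hfg, HahnSeries.coeff_one, if_pos rfl, Ideal.mul_top] at this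
        exact this))
    have hgn : ¬ Groth.Calg7.Laurent.AllIn p g := fun h => hp.ne_top
      ((Ideal.eq_top_iff_one _).2 (by
        have := Groth.Calg7.Laurent.allIn_mul (I := ⊤) (x := (f : LaurentSeries R)) (fun _ => Submodule.mem_top) h 0
        rw [hfg, HahnSeries.coeff_one, if_pos rfl, Ideal.top_mul] at this
        exact this))
    obtain ⟨n, hn, hn'⟩ := Groth.Calg7.Laurent.exists_first hfn
    obtain ⟨m, hm, hm'⟩ := Groth.Calg7.Laurent.exists_first hgn
    have h2 := Groth.Calg7.Laurent.coeff_mul_first hn' hm'
    rw [hfg, HahnSeries.coeff_one] at h2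
    have hm0 : m = -n := by
      by_contra hne
      rw [if_neg (by omega), zero_sub, neg_mem_iff] at h2
      exact (hp.mem_or_mem h2).elim hn hm
    subst hm0
    rw [if_pos (by omega)] at h2
    refine ⟨n, hn', by rw [← neg_sub]; exact neg_mem h2, fun i hi => ?_⟩
    rcases lt_or_gt_of_ne hi with h | h
    · exact p.mul_mem_right _ (hn' i h)
    · exact p.mul_mem_left _ (hm' (-i) (by omega))
  have hidem : ∀ i, a i = 0 ∨ a i = 1 := fun i => hconn _ <| by
    have : IsNilpotent (a i * a i - a i) := Groth.Calg7.Laurent.mem_nilradical_of_forall fun p hp => by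
      obtain ⟨n, -, h1, h2⟩ := hprime p hp
      rcases eq_or_ne i n with rfl | hne
      · rw [show a i * a i - a i = a i * (a i - 1) by ring]; exact p.mul_mem_left _ h1
      · exact sub_mem (p.mul_mem_left _ (h2 i hne)) (h2 i hne)
    exact sub_eq_zero.1 this.eq_zero
  obtain ⟨P, hP⟩ : ∃ P : Ideal R, P.IsPrime := ⟨_, (Ideal.exists_maximal R).choose_spec.isPrime⟩
  obtain ⟨n, -, hn1, -⟩ := hprime P hP
  have han : a n = 1 := (hidem n).resolve_left fun h => hP.ne_top ((Ideal.eq_top_iff_one _).2 (by
    rw [h, zero_sub, neg_mem_iff] at hn1; exact hn1))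
  have hlow : ∀ i < n, (f : LaurentSeries R).coeff i = 0 := fun i hi => by
    refine (Groth.Calg7.Laurent.mem_nilradical_of_forall fun p hp => ?_).eq_zero
    obtain ⟨n', h0, -, h2⟩ := hprime p hp
    rcases eq_or_ne n n' with rfl | hne
    · exact h0 i hi
    · exact absurd ((Ideal.eq_top_iff_one _).2 (han ▸ h2 n hne)) hp.ne_top
  let u : PowerSeries R := PowerSeries.mk fun j => (f : LaurentSeries R).coeff (n + j)
  have hu : IsUnit u := by
    rw [PowerSeries.isUnit_iff_constantCoeff, PowerSeries.constantCoeff_mk]
    simp only [CharP.cast_eq_zero, add_zero]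
    exact IsUnit.of_mul_eq_one _ han
  have hof : ∀ (w : PowerSeries R) (i : ℤ), (HahnSeries.ofPowerSeries ℤ R w).coeff i =
      if 0 ≤ i then PowerSeries.coeff i.toNat w else 0 := by
    intro w i
    split
    · next h =>
      conv_lhs => rw [← Int.toNat_of_nonneg h]
      exact HahnSeries.ofPowerSeries_apply_coeff w _
    · next h =>
      rw [HahnSeries.ofPowerSeries_apply, HahnSeries.embDomain_notin_range]
      rintro ⟨j, hj⟩
      exact h (hj ▸ Int.natCast_nonneg j)
  have hcoef : ∀ (j : ℤ) (w : PowerSeries R) (i : ℤ),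
      (HahnSeries.single j (1 : R) * HahnSeries.ofPowerSeries ℤ R w).coeff i =
        if j ≤ i then PowerSeries.coeff (i - j).toNat w else 0 := by
    intro j w i
    have h1 := HahnSeries.coeff_single_mul_add (r := (1 : R)) (x := HahnSeries.ofPowerSeries ℤ R w) (a := i - j) (b := j)
    rw [sub_add_cancel, one_mul] at h1
    rw [h1, hof]
    exact if_congr (by omega) rfl rfl
  refine ⟨(n, hu.unit), ?_, ?_⟩
  · ext i
    show _ = (HahnSeries.single n (1 : R) * HahnSeries.ofPowerSeries ℤ R (hu.unit : PowerSeries R)).coeff i
    rw [IsUnit.unit_spec, hcoef]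
    split
    · next h => rw [PowerSeries.coeff_mk, Int.toNat_of_nonneg (by omega), add_sub_cancel]
    · next h => exact hlow i (by omega)
  · rintro ⟨j, w⟩ hw
    have hc : ∀ i, (f : LaurentSeries R).coeff i = if j ≤ i then PowerSeries.coeff (i - j).toNat (w : PowerSeries R) else 0 :=
      fun i => by rw [← hcoef]; exact congrArg (fun z : LaurentSeries R => z.coeff i) hw
    have hfn : IsUnit ((f : LaurentSeries R).coeff n) := IsUnit.of_mul_eq_one _ han
    have hfj : IsUnit ((f : LaurentSeries R).coeff j) := by
      rw [hc, if_pos le_rfl, sub_self, Int.toNat_zero, PowerSeries.coeff_zero_eq_constantCoeff_apply]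
      exact (PowerSeries.isUnit_iff_constantCoeff.1 w.isUnit)
    have hjn : j = n := by
      rcases lt_trichotomy j n with h | h | h
      · exact absurd (hlow j h) hfj.ne_zero
      · exact h
      · rw [hc, if_neg (by omega)] at hfn; exact absurd hfn not_isUnit_zero
    subst hjn
    refine Prod.ext rfl (Units.ext (PowerSeries.ext fun i => ?_))
    rw [IsUnit.unit_spec, PowerSeries.coeff_mk, hc, if_pos (by omega), add_sub_cancel_left, Int.toNat_natCast]

end Groth.Agent.S15750
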