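import Groth.Statements.S15754
import Groth.Agent.S17853
import Groth.Agent.PropsBasic.LaurentLattice

set_option autoImplicit false
set_option linter.style.haveILetI false
universe u
open TensorProduct
open CAlg
open scoped Polynomial LaurentPolynomial

namespace Groth.Agent.S15754

/-- For an arbitrary commutative ring R, non-isomorphic finitely generated projective R-modules cannot
become isomorphic over the Laurent series ring R((t)): for an R-algebra L that is R-isomorphic to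
R((t)), if L ⊗_R M ≅ L ⊗_R N as L-modules then M ≅ N. (L is R((t)) up to an R-algebra isomorphism;
it is kept abstract only so that the L-module structure on L ⊗_R M elaborates.) -/
theorem result (R : Type u) [CommRing R]
    (L : Type u) [CommRing L] [Algebra R L] (eL : L ≃ₐ[R] LaurentSeries R)
    (M N : Type u) [AddCommGroup M] [Module R M] [Module.Finite R M] [Module.Projective R M]
    [AddCommGroup N] [Module R N] [Module.Finite R N] [Module.Projective R N]
    (e : L ⊗[R] M ≃ₗ[L] L ⊗[R] N) :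
    Nonempty (M ≃ₗ[R] N) := by
  classical
  open Groth.Calg8.Horrocks Groth.PropsBasic in
  obtain ⟨q, ιM, ρM, hM⟩ := exists_split (R := R) M
  obtain ⟨p, ιN, ρN, hN⟩ := Groth.Calg8.Horrocks.exists_split (R := R) N
  obtain ⟨a, A', hA⟩ := Groth.PropsBasic.exists_matrix_shift
    ((LinearMap.toMatrix' (Groth.Calg8.Horrocks.bcIn L ιN ∘ₗ e.toLinearMap ∘ₗ
      Groth.Calg8.Horrocks.bcOut L ρM)).map eL)
  obtain ⟨b, B', hB⟩ := Groth.PropsBasic.exists_matrix_shift
    ((LinearMap.toMatrix' (Groth.Calg8.Horrocks.bcIn L ιM ∘ₗ e.symm.toLinearMap ∘ₗ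
      Groth.Calg8.Horrocks.bcOut L ρN)).map eL)
  have h1 := Groth.PropsBasic.laurent_shift_rel eL ιM ρM hM ιN ρN e a b A' B' hA hB
  have h2 := Groth.PropsBasic.laurent_shift_rel eL ιN ρN hN ιM ρM e.symm b a B' A' hB hA
  rw [add_comm b a] at h2
  obtain ⟨Z, hZ⟩ := Groth.PropsBasic.exists_trunc_relation (a + b) A' B' _ _ h1
  obtain ⟨Z', hZ'⟩ := Groth.PropsBasic.exists_trunc_relation (a + b) B' A' _ _ h2
  have hgh := Groth.PropsBasic.bc_comp_eq ιM ρM ιN ρN hN (a + b) _ _ Z hZ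
  have hhg := Groth.PropsBasic.bc_comp_eq ιN ρN ιM ρM hM (a + b) _ _ Z' hZ'
  obtain ⟨P, hPf, hPp, hP0, hP1⟩ := Groth.PropsBasic.exists_lattice
    (F := R[X] ⊗[R] M) (G := R[X] ⊗[R] N) (Polynomial.X : R[X]) Polynomial.monic_X.mem_nonZeroDivisors
    (a + b) _ _ _ _ hgh hhg
  haveI : IsScalarTower R R[X] R[T;T⁻¹] :=
    IsScalarTower.of_algebraMap_eq fun r => (Polynomial.toLaurent_C r).symm
  have hT : IsUnit (algebraMap R[X] R[T;T⁻¹] Polynomial.X) := by
    show IsUnit (Polynomial.toLaurent (Polynomial.X : R[X]))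
    rw [Polynomial.toLaurent_X]
    exact LaurentPolynomial.isUnit_T 1
  obtain ⟨ee⟩ := hP1 R[T;T⁻¹] hT
  obtain ⟨e0, he0⟩ := Groth.Agent.S17853.extends_of_extended R (R[X] ⊗[R] N) N (LinearEquiv.refl _ _)
  obtain ⟨Q, _, _, ⟨φ⟩⟩ := Groth.Agent.S17853.extended_of_extends R P (R[X] ⊗[R] N)
    (e0.comp ee.toLinearMap) (he0.comp ee.bijective)
  have key : ∀ c : R, ∀ [Algebra R[X] R], algebraMap R[X] R = (Polynomial.aeval c).toRingHom →
      (Nonempty ((R ⊗[R[X]] P) ≃ₗ[R] Q)) ∧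
      ∀ (E : Type u) [AddCommGroup E] [Module R E],
        Nonempty ((R ⊗[R[X]] (R[X] ⊗[R] E)) ≃ₗ[R] E) := by
    intro c _ hc
    haveI : IsScalarTower R R[X] R := IsScalarTower.of_algebraMap_eq fun r => by
      rw [hc]
      show r = Polynomial.aeval c (Polynomial.C r)
      simp
    exact ⟨⟨(TensorProduct.AlgebraTensorModule.congr (LinearEquiv.refl R R) φ).trans
        ((TensorProduct.AlgebraTensorModule.cancelBaseChange R R[X] R R Q).trans
          (TensorProduct.lid R Q))⟩,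
      fun E _ _ => ⟨(TensorProduct.AlgebraTensorModule.cancelBaseChange R R[X] R R E).trans
        (TensorProduct.lid R E)⟩⟩
  have hMQ : Nonempty (M ≃ₗ[R] Q) := by
    letI : Algebra R[X] R := (Polynomial.aeval (0 : R)).toRingHom.toAlgebra
    obtain ⟨⟨e1⟩, h⟩ := key 0 rfl
    obtain ⟨e2⟩ := h M
    obtain ⟨e3⟩ := hP0 R (Polynomial.aeval_X (0 : R))
    exact ⟨e2.symm.trans (e3.trans e1)⟩
  have hNQ : Nonempty (N ≃ₗ[R] Q) := by
    letI : Algebra R[X] R := (Polynomial.aeval (1 : R)).toRingHom.toAlgebra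
    obtain ⟨⟨e1⟩, h⟩ := key 1 rfl
    obtain ⟨e2⟩ := h N
    obtain ⟨e3⟩ := hP1 R (by
      show IsUnit (Polynomial.aeval (1 : R) (Polynomial.X : R[X]))
      rw [Polynomial.aeval_X]
      exact isUnit_one)
    exact ⟨e2.symm.trans (e3.symm.trans e1)⟩
  obtain ⟨f1⟩ := hMQ
  obtain ⟨f2⟩ := hNQ
  exact ⟨f1.trans f2.symm⟩

end Groth.Agent.S15754
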