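import Groth.Statements.S15755
import Groth.Agent.Misc12.ArtinApx.Injective
import Groth.Agent.S0595

set_option autoImplicit false
universe u
open CategoryTheory CategoryTheory.Limits
open CAlg

namespace Groth.Agent.S15755

/-- Let (A, I) be a Henselian pair with A Noetherian whose map to the I-adic completion Â is a regular
ring homomorphism, and let F be a set-valued functor on commutative A-algebras preserving filtered
colimits. Then F(A) → F(Â) is injective, and an element of F(A/I) is in the image of F(A) if and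
only if it is in the image of F(Â) under the canonical A-algebra map Â → A/I. -/
theorem result (A : Type u) [CommRing A]
    [IsNoetherianRing A] (I : Ideal A) [HenselianRing A I]
    (hreg : CAlg.IsRegularHom A (AdicCompletion I A))
    (F : CommAlgCat.{u} A ⥤ Type u) [PreservesFilteredColimitsOfSize.{u, u} F] :
    Function.Injective (F.map (CommAlgCat.ofHom (Algebra.ofId A (AdicCompletion I A)))) ∧
    ∀ xbar : F.obj (CommAlgCat.of A (A ⧸ I)),
      (∃ x : F.obj (CommAlgCat.of A A), F.map (CommAlgCat.ofHom (Ideal.Quotient.mkₐ A I)) x = xbar) ↔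
      (∃ y : F.obj (CommAlgCat.of A (AdicCompletion I A)),
        F.map (CommAlgCat.ofHom (AdicCompletion.evalOneₐ I)) y = xbar) := by
  open Groth.Agent.Misc12.ArtinApx in
  (have hP : Popescu.{u} := fun R _ _ Λ _ _ _ => Groth.Agent.S0595.result R Λ
   let e : CommAlgCat.{u} A ≌ Under (CommRingCat.of A) := commAlgCatEquivUnder (CommRingCat.of A)
   let F' : Under (CommRingCat.of A) ⥤ Type u := e.inverse ⋙ F
   have hF : ∀ (J : Type u) [SmallCategory J] [IsFiltered J], PreservesColimitsOfShape J F' := by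
     intro J _ _
     exact comp_preservesColimitsOfShape e.inverse F
   have hiso : ∀ (B : Type u) [CommRing B] [Algebra A B],
       ∃ i : e.inverse.obj (Under.mk (CommRingCat.ofHom (algebraMap A B))) ≅ CommAlgCat.of A B,
         ∀ b, i.hom.hom b = b := fun B _ _ =>
     ⟨(e.unitIso.app (CommAlgCat.of A B)).symm, fun _ => rfl⟩
   have hiso0 : ∃ i : e.inverse.obj (Under.mk (𝟙 (CommRingCat.of A))) ≅ CommAlgCat.of A A,
       ∀ b, i.hom.hom b = b :=
     ⟨(e.unitIso.app (CommAlgCat.of A A)).symm, fun _ => rfl⟩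
   obtain ⟨iA, hiA⟩ := hiso0
   obtain ⟨iC, hiC⟩ := hiso (AdicCompletion I A)
   have hu : iA.hom ≫ CommAlgCat.ofHom (Algebra.ofId A (AdicCompletion I A)) =
       e.inverse.map (unitHom (A := A) (AdicCompletion I A)) ≫ iC.hom := by
     refine CommAlgCat.hom_ext (AlgHom.ext fun b => ?_)
     exact (congrArg (Algebra.ofId A (AdicCompletion I A)) (hiA b)).trans (hiC _).symm
   have hu' : CommAlgCat.ofHom (Algebra.ofId A (AdicCompletion I A)) =
       iA.inv ≫ e.inverse.map (unitHom (A := A) (AdicCompletion I A)) ≫ iC.hom := by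
     rw [← hu, iA.inv_hom_id_assoc]
   refine ⟨fun x y hxy => ?_, fun xbar => ⟨?_, ?_⟩⟩
   · rw [hu'] at hxy
     simp only [F.map_comp, types_comp_apply] at hxy
     have hinjC : Function.Injective (F.map iC.hom) :=
       ((F.mapIso iC).toEquiv).injective
     have hinjA : Function.Injective (F.map iA.inv) :=
       ((F.mapIso iA).symm.toEquiv).injective
     exact hinjA (injective_completion hP I hreg F' hF (hinjC hxy))
   · rintro ⟨x, rfl⟩
     refine ⟨F.map (CommAlgCat.ofHom (Algebra.ofId A (AdicCompletion I A))) x, ?_⟩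
     rw [← types_comp_apply (F.map _) (F.map _), ← F.map_comp]
     refine congrArg (fun m => F.map m x) (CommAlgCat.hom_ext (AlgHom.ext fun a => ?_))
     exact (AdicCompletion.evalOneₐ I).commutes a
   · rintro ⟨y, rfl⟩
     obtain ⟨iQ, hiQ⟩ := hiso (A ⧸ I ^ 1)
     let ρ : Under.mk (𝟙 (CommRingCat.of A)) ⟶ Under.mk (CommRingCat.ofHom (algebraMap A (A ⧸ I ^ 1))) :=
       unitHom (A := A) (A ⧸ I ^ 1)
     obtain ⟨η, hη⟩ := approx_henselian (A := A) hP I hreg F' hF 1 le_rfl
       (underHom (AdicCompletion.evalₐ I 1)) ρ (F.map iC.inv y)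
     have hle : I ^ 1 ≤ I := by rw [pow_one]
     obtain ⟨q, hq⟩ : ∃ q : CommAlgCat.of A (A ⧸ I ^ 1) ⟶ CommAlgCat.of A (A ⧸ I),
         q = CommAlgCat.ofHom (Ideal.Quotient.factorₐ A hle) := ⟨_, rfl⟩
     refine ⟨F.map iA.hom η, ?_⟩
     have h1 : iA.hom ≫ CommAlgCat.ofHom (Ideal.Quotient.mkₐ A I) =
         e.inverse.map ρ ≫ iQ.hom ≫ q := by
       subst hq
       refine CommAlgCat.hom_ext (AlgHom.ext fun b => ?_)
       exact (congrArg (Ideal.Quotient.mkₐ A I) (hiA b)).trans
         (congrArg (Ideal.Quotient.factorₐ A hle) (hiQ (ρ.right.hom b))).symm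
     have h2 : iC.hom ≫ CommAlgCat.ofHom (AdicCompletion.evalOneₐ I) =
         e.inverse.map (underHom (AdicCompletion.evalₐ I 1)) ≫ iQ.hom ≫ q := by
       subst hq
       refine CommAlgCat.hom_ext (AlgHom.ext fun b => ?_)
       exact (congrArg (AdicCompletion.evalOneₐ I) (hiC b)).trans
         (congrArg (Ideal.Quotient.factorₐ A hle) (hiQ (AdicCompletion.evalₐ I 1 b))).symm
     have hy' := congrArg (F.map (iQ.hom ≫ q)) hη
     simp only [F', Functor.comp_map] at hy'
     simp only [← types_comp_apply (F.map _) (F.map _), ← F.map_comp] at hy' ⊢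
     rw [h1, hy', Category.assoc, ← h2, iC.inv_hom_id_assoc])

end Groth.Agent.S15755
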