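import Groth.Statements.S15756
import Mathlib
import Groth.Agent.Calg7.Elkik
-- import your own Groth.Agent.* helpers here

set_option autoImplicit false
universe u
open CAlg

namespace Groth.Agent.S15756

/-- Case of the whole affine base U = Spec A, the unit ideal I = A and an affine scheme X: let A be a
ring with an element t such that (A, tA) is a Henselian pair and the t-power torsion of A is
bounded, let Â be the t-adic completion, and let B be an A-algebra of finite type with B[1/t] smooth
over A[1/t]. Then every A-algebra homomorphism B → Â is congruent modulo t^n, for any prescribed n,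
to an A-algebra homomorphism B → A. (The published statement allows any quasi-compact open U of Spec
A containing Spec A[1/t], any bounded Zariski Gabber–Ramero triple (A, t, I) that is Henselian (or,
instead, satisfies a lifting condition for Zariski pairs over A[1/t]), and U-schemes locally of
finite type that are ind-quasi-affine or subprojective and smooth over A[1/t], and it asserts
density of X(U) in X(U_Â) for the (t, I)-adic topology; this row is the case U = Spec A, I = A, X =
Spec B affine, under the Henselian alternative.) -/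
theorem result (A : Type u) [CommRing A] (t : A)
    [HenselianRing A (Ideal.span {t})]
    (hbd : ∃ N : ℕ, ∀ a : A, (∃ m : ℕ, t ^ m * a = 0) → t ^ N * a = 0)
    (B : Type u) [CommRing B] [Algebra A B] [Algebra.FiniteType A B]
    (hsm : Algebra.Smooth (Localization.Away t)
      (Localization (Algebra.algebraMapSubmonoid B (Submonoid.powers t))))
    (n : ℕ) (σ : B →ₐ[A] AdicCompletion (Ideal.span {t}) A) :
    ∃ τ : B →ₐ[A] A,
      (Ideal.Quotient.mkₐ A (Ideal.span {t} ^ n)).comp τ =
        (AdicCompletion.evalₐ (Ideal.span {t}) n).comp σ := by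
  classical
  obtain ⟨r, π, hπ⟩ := Algebra.FiniteType.iff_quotient_mvPolynomial''.1 (inferInstance : Algebra.FiniteType A B)
  obtain ⟨d⟩ := Groth.Calg7.Elkik.exists_data t π hπ hsm
  obtain ⟨N, hN⟩ := hbd
  set p := n + N + d.c + 1 with hp
  set M := 2 * p + d.c + 1 with hM
  choose a ha using fun j => Ideal.Quotient.mk_surjective (AdicCompletion.evalₐ (Ideal.span {t}) M (σ (π (MvPolynomial.X j))))
  have hcong : ∀ g, Ideal.Quotient.mk ((Ideal.span {t}) ^ M) (MvPolynomial.eval a g) = AdicCompletion.evalₐ (Ideal.span {t}) M (σ (π g)) :=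
    fun g => DFunLike.congr_fun (MvPolynomial.algHom_ext
      (f := (Ideal.Quotient.mkₐ A ((Ideal.span {t}) ^ M)).comp (MvPolynomial.aeval a))
      (g := ((AdicCompletion.evalₐ (Ideal.span {t}) M).comp σ).comp π) fun j => by
        show Ideal.Quotient.mk ((Ideal.span {t}) ^ M) (MvPolynomial.aeval a (MvPolynomial.X j)) = _
        rw [MvPolynomial.aeval_X, ha]; rfl) g
  have haI : ∀ g ∈ RingHom.ker π.toRingHom, MvPolynomial.eval a g ∈ Ideal.span {t ^ (2 * p + d.c + 1)} := by
    intro g hg
    rw [← Ideal.span_singleton_pow, ← Ideal.Quotient.eq_zero_iff_mem, ← hM, hcong,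
      show π g = 0 from hg, map_zero, map_zero]
  obtain ⟨b, hb0, hba⟩ := Groth.Calg7.Elkik.exists_root t N hN d p (by omega) (by omega) a haI
  let τ : B →ₐ[A] A := AlgHom.liftOfSurjective π hπ (MvPolynomial.aeval b) fun g hg => hb0 g hg
  refine ⟨τ, AlgHom.ext fun x => ?_⟩
  obtain ⟨g, rfl⟩ := hπ x
  refine DFunLike.congr_fun (MvPolynomial.algHom_ext
    (f := ((Ideal.Quotient.mkₐ A ((Ideal.span {t}) ^ n)).comp τ).comp π)
    (g := ((AdicCompletion.evalₐ (Ideal.span {t}) n).comp σ).comp π) fun j => ?_) g
  show Ideal.Quotient.mk ((Ideal.span {t}) ^ n) (τ (π (MvPolynomial.X j))) = AdicCompletion.evalₐ (Ideal.span {t}) n (σ (π (MvPolynomial.X j)))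
  rw [show τ (π (MvPolynomial.X j)) = _ from AlgHom.liftOfSurjective_apply _ _ _ _ _, MvPolynomial.aeval_X]
  obtain ⟨x, hx⟩ := AdicCompletion.mk_surjective (Ideal.span {t}) A (σ (π (MvPolynomial.X j)))
  have haj := ha j
  rw [← hx] at haj ⊢
  rw [AdicCompletion.evalₐ_mk, Ideal.Quotient.eq] at haj ⊢
  have h1 : b j - a j ∈ (Ideal.span {t}) ^ n := by
    rw [Ideal.span_singleton_pow]
    exact Ideal.span_singleton_le_span_singleton.2 (pow_dvd_pow t (by omega)) (hba j)
  have h2 : a j - x M ∈ (Ideal.span {t}) ^ n := Ideal.pow_le_pow_right (by omega) haj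
  have h3 : x n - x M ∈ (Ideal.span {t}) ^ n := by
    have := x.2 (show n ≤ M by omega)
    rw [SModEq.sub_mem, smul_eq_mul, Ideal.mul_top] at this
    exact this
  have := sub_mem (add_mem h1 h2) h3
  rwa [sub_add_sub_cancel, sub_sub_sub_cancel_right] at this

end Groth.Agent.S15756
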