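import Groth.Statements.S15758
import Groth.Agent.Misc12.ElkikFEt.Torsor
import Groth.Agent.Misc12.ElkikFEt.Settings

set_option autoImplicit false
universe u
open CategoryTheory MonoidalCategory CartesianMonoidalCategory MonObj GrpObj AlgebraicGeometry Polynomial
open NonAbH1

namespace Groth.Agent.S15758

/-- The Laurent-series instance, kernel form, for an affine smooth group: let R be a ring, B = R{t} a
henselization of R[t] along (t), ψ : B → R[[t]] the canonical R[t]-algebra map, and χ : B[1/t] →
R((t)) the induced map. For an affine smooth B[1/t]-group scheme G, an fppf G-torsor over Spec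
B[1/t] which acquires a section over Spec R((t)) has a section. (The published statement is a
bijection H¹(R{t}[1/t], G) ≅ H¹(R((t)), G) for quasi-affine smooth G and an injection for smooth
quasi-separated G; this row is the triviality of the kernel for affine smooth G.) -/
theorem result (R : Type u) [CommRing R]
    (B : Type u) [CommRing B] [Algebra R[X] B] (hB : Hens2.IsPairHenselization R[X] (Ideal.span {(X : R[X])}) B)
    (ψ : B →ₐ[R[X]] PowerSeries R)
    (χ : Localization.Away (algebraMap R[X] B X) →+* LaurentSeries R)
    (hχ : χ.comp (algebraMap B (Localization.Away (algebraMap R[X] B X))) =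
      (HahnSeries.ofPowerSeries ℤ R).comp ψ.toRingHom)
    (G : Over (Spec (CommRingCat.of (Localization.Away (algebraMap R[X] B X))))) [GrpObj G]
    [IsAffine G.left] [Smooth G.hom]
    (P : Over (Spec (CommRingCat.of (Localization.Away (algebraMap R[X] B X))))) (a : AlgGrp.Action G P)
    (hP : NonAbH1.IsTorsorFor Scheme.fppfPrecoverage a)
    (hsec : NonAbH1.HasSectionOver P (Spec.map (CommRingCat.ofHom χ))) :
    NonAbH1.HasSectionOver P (𝟙 (Spec (CommRingCat.of (Localization.Away (algebraMap R[X] B X))))) := by
  have := Groth.Misc12.ElkikFEt.henselianRing_laurent hB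
  have hψ : ψ.toRingHom (algebraMap R[X] B X) = (PowerSeries.X : PowerSeries R) :=
    Groth.Misc12.ElkikFEt.psi_X ψ
  have hloc : IsLocalization.Away (ψ.toRingHom (algebraMap R[X] B X)) (LaurentSeries R) := by
    rw [hψ]; exact LaurentSeries.of_powerSeries_localization
  exact Groth.Misc12.ElkikFEt.hasSectionOver ψ.toRingHom (algebraMap R[X] B X)
    (Groth.Misc12.ElkikFEt.isoModPowers_laurent hB ψ) (N₀ := 0) (Groth.Misc12.ElkikFEt.bounded_laurent hB) χ
    (fun b => RingHom.congr_fun hχ b) G P a hP hsec

end Groth.Agent.S15758
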