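import Groth.Statements.S15759
import Mathlib
import Groth.Agent.Calg7.DenseApprox
-- import your own Groth.Agent.* helpers here

set_option autoImplicit false
universe u
open Polynomial TensorProduct
open CAlg

namespace Groth.Agent.S15759

/-- Let R be a ring, L = R(t) the localisation of R[t] at the monoid generated by t and the polynomials
with constant term 1 (that is, (R[t]_{1+tR[t]})[1/t]), and L' an L-algebra identified with R((t))
compatibly with R[t] → R((t)). Then (b) finitely generated projective L-modules that become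
isomorphic over L' are isomorphic, and (c) every stably free L'-module is the base change of a
stably free L-module. -/
theorem result (R : Type u) [CommRing R]
    (L : Type u) [CommRing L] [Algebra R[X] L]
    [IsLocalization (Submonoid.closure ({f : R[X] | f.coeff 0 = 1} ∪ {X})) L]
    (L' : Type u) [CommRing L'] [Algebra L L'] (e : L' ≃+* LaurentSeries R)
    (he : ∀ p : R[X], e (algebraMap L L' (algebraMap R[X] L p)) =
      HahnSeries.ofPowerSeries ℤ R (Polynomial.coeToPowerSeries.ringHom p)) :
    (∀ (M N : Type u) [AddCommGroup M] [Module L M] [Module.Finite L M] [Module.Projective L M]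
        [AddCommGroup N] [Module L N] [Module.Finite L N] [Module.Projective L N],
        Nonempty (L' ⊗[L] M ≃ₗ[L'] L' ⊗[L] N) → Nonempty (M ≃ₗ[L] N)) ∧
    (∀ (M' : Type u) [AddCommGroup M'] [Module L' M'] [Module.Finite L' M'],
        (∃ n m : ℕ, Nonempty ((M' × (Fin n → L')) ≃ₗ[L'] (Fin m → L'))) →
        ∃ (M : Type u) (_ : AddCommGroup M) (_ : Module L M), Module.Finite L M ∧
          (∃ n m : ℕ, Nonempty ((M × (Fin n → L)) ≃ₗ[L] (Fin m → L))) ∧
          Nonempty (L' ⊗[L] M ≃ₗ[L'] M')) := by
  classical
  let ι := e.symm.toRingHom.comp (HahnSeries.ofPowerSeries ℤ R)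
  have hιp : ∀ p : R[X], algebraMap L L' (algebraMap R[X] L p) = ι (Polynomial.coeToPowerSeries.ringHom p) :=
    fun p => e.injective (by
      rw [he]; exact (e.apply_symm_apply _).symm)
  have hιinj : Function.Injective ι := e.symm.injective.comp HahnSeries.ofPowerSeries_injective
  have hX : IsUnit (algebraMap R[X] L X) :=
    IsLocalization.map_units (M := Submonoid.closure ({f : R[X] | f.coeff 0 = 1} ∪ {X})) L
      ⟨X, Submonoid.subset_closure (Or.inr rfl)⟩
  have hTN : ∀ N : ℕ, algebraMap L L' ((hX.unit : L) ^ N) = ι (PowerSeries.X ^ N) := fun N => by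
    rw [IsUnit.unit_spec, ← map_pow, hιp, map_pow]; simp
  have hT1 : algebraMap L L' (hX.unit : L) = ι PowerSeries.X := by simpa using hTN 1
  have hmem : ∀ m ∈ Submonoid.closure ({f : R[X] | f.coeff 0 = 1} ∪ {X}), ∃ (k : ℕ) (g : R[X]),
      g.coeff 0 = 1 ∧ m = X ^ k * g := by
    intro m hm
    induction hm using Submonoid.closure_induction with
    | mem m hm =>
      rcases hm with hm | hm
      · exact ⟨0, m, hm, by simp⟩
      · exact ⟨1, 1, by simp, by rw [Set.mem_singleton_iff.1 hm]; simp⟩
    | one => exact ⟨0, 1, by simp, by simp⟩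
    | mul a b _ _ ha hb =>
      obtain ⟨k, g, hg, rfl⟩ := ha
      obtain ⟨l, f, hf, rfl⟩ := hb
      exact ⟨k + l, g * f, by simp [Polynomial.mul_coeff_zero, hg, hf], by ring⟩
  let Λ : Groth.Calg7.DenseApprox.Lattice L L' :=
    { S := ι.range
      T := hX.unit
      T_mem := ⟨PowerSeries.X, hT1.symm⟩
      bounded := fun x => by
        obtain ⟨⟨a, ⟨_, k, rfl⟩⟩, hk⟩ := IsLocalization.surj (Submonoid.powers (PowerSeries.X : PowerSeries R)) (e x)
        refine ⟨k, a, e.injective ?_⟩
        rw [hTN, map_mul]
        show e (e.symm _) = e (e.symm _) * e x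
        rw [e.apply_symm_apply, e.apply_symm_apply, mul_comm]
        exact hk.symm
      dense := fun x hx N => by
        obtain ⟨f, rfl⟩ := hx
        obtain ⟨w, hw⟩ : (PowerSeries.X : PowerSeries R) ^ N ∣ f - (PowerSeries.trunc N f : PowerSeries R) := by
          rw [PowerSeries.X_pow_dvd_iff]
          intro i hi
          rw [map_sub, Polynomial.coeff_coe, PowerSeries.coeff_trunc, if_pos hi, sub_self]
        refine ⟨algebraMap R[X] L (PowerSeries.trunc N f), ι (-w), ⟨_, rfl⟩, ?_⟩
        rw [hιp, hTN, ← map_sub, ← map_mul]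
        congr 1
        simp only [Polynomial.coeToPowerSeries.ringHom_apply]
        linear_combination -hw
      unit := fun z ⟨s, hs, hz⟩ => by
        obtain ⟨w, rfl⟩ := hs
        obtain ⟨⟨f, ⟨m, hm⟩⟩, hzm⟩ := IsLocalization.surj (Submonoid.closure ({f : R[X] | f.coeff 0 = 1} ∪ {X})) z
        obtain ⟨k, g, hg, rfl⟩ := hmem m hm
        simp only at hzm
        have hser : (f : PowerSeries R) = PowerSeries.X ^ k * ((g : PowerSeries R) * (1 + PowerSeries.X * w)) := by
          refine hιinj ?_
          have := congrArg (algebraMap L L') hzm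
          rw [map_mul, hιp, hιp] at this
          simp only [Polynomial.coeToPowerSeries.ringHom_apply, Polynomial.coe_mul, Polynomial.coe_pow, Polynomial.coe_X, map_mul] at this
          rw [← this, map_mul, map_mul, map_add, map_one, map_mul, ← hT1]
          linear_combination (ι (PowerSeries.X ^ k) * ι (g : PowerSeries R)) * hz
        obtain ⟨f', rfl⟩ : (X : R[X]) ^ k ∣ f := by
          rw [Polynomial.X_pow_dvd_iff]
          intro i hi
          have := PowerSeries.X_pow_dvd_iff.1 ⟨_, hser⟩ i hi
          simpa using this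
        have hf' : f'.coeff 0 = 1 := by
          have := congrArg (PowerSeries.coeff k) hser
          rw [Polynomial.coeff_coe, Polynomial.coeff_X_pow_mul', if_pos le_rfl, PowerSeries.coeff_X_pow_mul',
            if_pos le_rfl, Nat.sub_self, PowerSeries.coeff_zero_eq_constantCoeff] at this
          rw [this]; simp [hg]
        have hu : ∀ q : R[X], q.coeff 0 = 1 → IsUnit (algebraMap R[X] L q) := fun q hq =>
          IsLocalization.map_units (M := Submonoid.closure ({f : R[X] | f.coeff 0 = 1} ∪ {X})) L
            ⟨q, Submonoid.subset_closure (Or.inl hq)⟩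
        refine isUnit_of_mul_isUnit_left (y := algebraMap R[X] L (X ^ k * g)) ?_
        rw [hzm, map_mul, map_pow]
        exact (hX.pow k).mul (hu _ hf')
      unit' := fun z ⟨s, hs, hz⟩ => by
        obtain ⟨w, rfl⟩ := hs
        rw [hT1, ← map_mul, sub_eq_iff_eq_add, ← map_one ι, ← map_add] at hz
        rw [hz]
        exact (PowerSeries.isUnit_iff_constantCoeff.2 (by simp)).map ι }
  refine ⟨fun M N _ _ _ _ _ _ _ _ ⟨E⟩ => Groth.Calg7.DenseApprox.nonempty_equiv Λ E, ?_⟩
  intro M' _ _ _ ⟨n, m, ⟨e'⟩⟩
  obtain ⟨M, i1, i2, hfin, he', hb⟩ := Groth.Calg7.DenseApprox.exists_stablyFree Λ M' e'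
  exact ⟨M, i1, i2, hfin, ⟨n, m, he'⟩, hb⟩

end Groth.Agent.S15759
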