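import Groth.Statements.S15763
import Groth.Agent.Misc12.ElkikFEt.Main
import Groth.Agent.Misc12.ElkikFEt.Settings
import Groth.Agent.Pi1FEt.Colimits

set_option autoImplicit false
universe u
open CategoryTheory AlgebraicGeometry Polynomial
open FEt

namespace Groth.Agent.S15763

/-- The instance R{t}[1/t] → R((t)): for any ring R, base change along the canonical map from the
Henselian Laurent series ring R{t}[1/t] (R{t} a henselization of R[t] along (t), ψ its map to
R[[t]], χ the induced map to R((t))) to R((t)) is an equivalence between finite étale schemes over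
Spec R{t}[1/t] and over Spec R((t)). (The published statement is for any topological ring with a
Henselian open nonunital subring whose induced topology has a neighbourhood base of zero consisting
of ideals, and its completion; this row is the case R{t}[1/t] → R((t)), which the published
statement singles out.) -/
theorem result (R : Type u) [CommRing R]
    (B : Type u) [CommRing B] [Algebra R[X] B] (hB : Hens2.IsPairHenselization R[X] (Ideal.span {(X : R[X])}) B)
    (ψ : B →ₐ[R[X]] PowerSeries R)
    (χ : Localization.Away (algebraMap R[X] B X) →+* LaurentSeries R)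
    (hχ : χ.comp (algebraMap B (Localization.Away (algebraMap R[X] B X))) =
      (HahnSeries.ofPowerSeries ℤ R).comp ψ.toRingHom) :
    (FEt.restrict (Spec.map (CommRingCat.ofHom χ))).IsEquivalence := by
  have := Groth.Misc12.ElkikFEt.henselianRing_laurent hB
  have := Groth.Misc12.ElkikFEt.henselianRing_powerSeries (R := R) ψ
  let t := algebraMap R[X] B X
  have hψ : ψ.toRingHom t = (PowerSeries.X : PowerSeries R) := Groth.Misc12.ElkikFEt.psi_X ψ
  have hloc : IsLocalization.Away (ψ.toRingHom t) (LaurentSeries R) := by
    rw [hψ]; exact LaurentSeries.of_powerSeries_localization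
  let e : Localization.Away (ψ.toRingHom t) ≃+* LaurentSeries R :=
    (IsLocalization.algEquiv (Submonoid.powers (ψ.toRingHom t)) (Localization.Away (ψ.toRingHom t))
      (LaurentSeries R)).toRingEquiv
  have h1 := Groth.Misc12.ElkikFEt.restrict_isEquivalence ψ.toRingHom t
    (Groth.Misc12.ElkikFEt.isoModPowers_laurent hB ψ) (N₀ := 0)
    (Groth.Misc12.ElkikFEt.bounded_laurent hB) (N₁ := 0)
    (fun f hf => by rw [hψ] at hf ⊢; exact Groth.Misc12.ElkikFEt.bounded_powerSeries f hf)
  have hχ' : χ = e.toRingHom.comp (Localization.awayMap ψ.toRingHom t) := by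
    refine IsLocalization.ringHom_ext (Submonoid.powers t) (hχ.trans (RingHom.ext fun b => ?_))
    show HahnSeries.ofPowerSeries ℤ R (ψ.toRingHom b) =
      e (Localization.awayMap ψ.toRingHom t (algebraMap B (Localization.Away t) b))
    simp only [Localization.awayMap, IsLocalization.Away.map, IsLocalization.map_eq]
    exact ((IsLocalization.algEquiv (Submonoid.powers (ψ.toRingHom t)) (Localization.Away (ψ.toRingHom t))
      (LaurentSeries R)).commutes (ψ.toRingHom b)).symm
  subst hχ'
  rw [CommRingCat.ofHom_comp, Spec.map_comp]
  have : IsIso (Spec.map (CommRingCat.ofHom e.toRingHom)) :=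
    inferInstanceAs (IsIso (Spec.map e.toCommRingCatIso.hom))
  exact Functor.isEquivalence_of_iso (Groth.Pi1FEt.restrictCompIso _ _).symm

end Groth.Agent.S15763
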