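import Groth.Statements.S15765
import Mathlib.AlgebraicGeometry.QuasiAffine

set_option autoImplicit false
universe u
open CategoryTheory AlgebraicGeometry
open CAlg

namespace Groth.Agent.S15765

/-- Let B be a topological ring in which the units form an open subset, B₀ → B a ring map with dense
image and X a quasi-affine scheme over B₀. Then the image of any B-point Spec B → X over B₀ is
contained in an affine open of X. (The published statement allows X ind-quasi-affine, i.e. with all
quasi-compact opens quasi-affine; since a B-point lands in a quasi-compact open, this row's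
quasi-affine case carries the content.) -/
theorem result (B : Type u) [CommRing B] [TopologicalSpace B]
    [IsTopologicalRing B] (hB : IsOpen {b : B | IsUnit b})
    (B₀ : Type u) [CommRing B₀] (φ : B₀ →+* B) (hφ : DenseRange φ)
    (X : Scheme.{u}) [X.IsQuasiAffine] (p : X ⟶ Spec (CommRingCat.of B₀))
    (f : Spec (CommRingCat.of B) ⟶ X) (hf : f ≫ p = Spec.map (CommRingCat.ofHom φ)) :
    ∃ U : X.Opens, IsAffineOpen U ∧ Set.range f.base ⊆ (U : Set X) := by
  classical
  let A := Γ(X, ⊤)
  let ψ : A ⟶ CommRingCat.of B := Spec.preimage (f ≫ X.toSpecΓ)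
  let χ : CommRingCat.of B₀ ⟶ A := (Scheme.ΓSpecIso _).inv ≫ p.appTop
  have hid : (Spec (CommRingCat.of B₀)).toSpecΓ ≫ Spec.map (Scheme.ΓSpecIso (CommRingCat.of B₀)).inv = 𝟙 _ := by
    rw [← SpecMap_ΓSpecIso_hom, ← Spec.map_comp, Iso.inv_hom_id, Spec.map_id]
  have hχ : χ ≫ ψ = CommRingCat.ofHom φ := Spec.map_injective (by
    rw [Spec.map_comp, Spec.map_preimage, Category.assoc, Spec.map_comp, ← Category.assoc X.toSpecΓ,
      ← Scheme.toSpecΓ_naturality, Category.assoc, hid, Category.comp_id]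
    exact hf)
  have hψ : ∀ a : A, f ⁻¹ᵁ X.basicOpen a = PrimeSpectrum.basicOpen (ψ a) := fun a => by
    rw [← Scheme.toSpecΓ_preimage_basicOpen, ← Scheme.Hom.comp_preimage, ← Spec.map_preimage (f ≫ X.toSpecΓ)]
    rfl
  let s : Set A := {a | IsAffineOpen (X.basicOpen a)}
  have hspan : Ideal.span (ψ '' s) = ⊤ := by
    rw [← PrimeSpectrum.iSup_basicOpen_eq_top_iff']
    refine eq_top_iff.mpr fun x _ => ?_
    obtain ⟨_, ⟨_, ⟨a, ha, rfl⟩, rfl⟩, hxa, -⟩ :=
      (Scheme.IsQuasiAffine.isBasis_basicOpen X).exists_subset_of_mem_open (Set.mem_univ (f x)) isOpen_univ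
    refine TopologicalSpace.Opens.mem_iSup.mpr ⟨ψ a, TopologicalSpace.Opens.mem_iSup.mpr ⟨⟨a, ha, rfl⟩, ?_⟩⟩
    rw [← hψ a]
    exact hxa
  obtain ⟨t, hts, b, hb⟩ := (Submodule.mem_span_image_iff_exists_fun (R := B)).1
    ((Ideal.eq_top_iff_one _).1 hspan)
  have hcont : Continuous fun c : (↥t → B) => ∑ i, c i * ψ i.1 :=
    continuous_finsetSum _ fun i _ => (continuous_apply i).mul continuous_const
  have hd : DenseRange fun c : (↥t → B₀) => fun i => φ (c i) := DenseRange.piMap fun _ => hφ
  obtain ⟨c, hc⟩ := hd.exists_mem_open (hB.preimage hcont) ⟨b, by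
    show IsUnit (∑ i, b i * ψ i.1)
    simp only [smul_eq_mul] at hb
    rw [hb]
    exact isUnit_one⟩
  let a : A := ∑ i : ↥t, χ (c i) * i.1
  have hu : IsUnit (ψ a) := by
    have e : ψ a = ∑ i : ↥t, φ (c i) * ψ i.1 := by
      simp only [a, map_sum, map_mul]
      exact Finset.sum_congr rfl fun i _ => congrArg (fun k => k (c i) * ψ i.1) hχ
    rw [e]
    exact hc
  refine ⟨X.basicOpen a, ?_, ?_⟩
  · let W := X.basicOpen a
    let r : A ⟶ Γ(W.toScheme, ⊤) := W.ι.appTop
    have hra : IsUnit (r a) := by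
      have h : W.toScheme.basicOpen (r a) = ⊤ := by
        rw [← Scheme.preimage_basicOpen_top]
        exact W.ι_preimage_self
      have := W.toScheme.toRingedSpace.isUnit_of_isUnit_germ ⊤ (r a) (fun x _ => by
        have hx : x ∈ W.toScheme.basicOpen (r a) := by rw [h]; trivial
        exact (Scheme.mem_basicOpen' _ (r a) ⟨x, trivial⟩).1 (by exact hx))
      exact this
    refine isAffine_of_isAffineOpen_basicOpen (X := W.toScheme) (r '' (t : Set A)) ?_ ?_
    · refine Ideal.eq_top_of_isUnit_mem _ ?_ hra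
      simp only [a, map_sum, map_mul]
      exact Submodule.sum_mem _ fun i _ => Ideal.mul_mem_left _ _ (Ideal.subset_span ⟨i.1, i.2, rfl⟩)
    · rintro _ ⟨c', hc', rfl⟩
      rw [← Scheme.preimage_basicOpen_top, ← W.ι.isAffineOpen_iff_of_isOpenImmersion,
        Scheme.Hom.image_preimage_eq_opensRange_inf, Scheme.Opens.opensRange_ι, inf_comm,
        ← Scheme.basicOpen_res X a (homOfLE (le_top : X.basicOpen c' ≤ ⊤)).op]
      exact (hts hc').basicOpen _
  · rintro _ ⟨x, rfl⟩
    show x ∈ f ⁻¹ᵁ X.basicOpen a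
    rw [hψ a]
    exact fun hx => x.2.ne_top (Ideal.eq_top_of_isUnit_mem _ hx hu)

end Groth.Agent.S15765
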