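import Groth.Statements.S15766
import Groth.Agent.Misc12.LaurentSplit.Points

set_option autoImplicit false
universe u
open CategoryTheory CategoryTheory.Limits AlgebraicGeometry
open FEt

namespace Groth.Agent.S15766

/-- Let R be a strictly Henselian local ring with residue field k, let d > 0 be invertible in R, and let
X → Spec R((t)) be finite étale and split (a trivial finite cover) after base change along the
substitution t ↦ t^d. Then every k((t))-point of X over R((t)) comes from a unique R((t))-section of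
X; here ρ : R((t)) → k((t)) is the coefficientwise residue map, pinned on power series. (The
published statement is for a finite étale group scheme G of order invertible in R that becomes
constant over a finite étale cover of R((t)) tamely ramified relative to R, in the form H⁰(R((t)),
G) ≅ H⁰(k((t)), G); the covers t ↦ t^d with d invertible in R are cofinal among such tame covers,
and the group structure plays no role in the H⁰ statement, so this row states it for any finite
étale X split by such a cover.) -/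
theorem result (R : Type u) [CommRing R]
    [HenselianLocalRing R] [IsSepClosed (IsLocalRing.ResidueField R)]
    (d : ℕ) (hd : 0 < d) (hdu : IsUnit (d : R))
    (hinj : Function.Injective (AddMonoidHom.mulLeft (d : ℤ)))
    (hmono : ∀ g g' : ℤ, AddMonoidHom.mulLeft (d : ℤ) g ≤ AddMonoidHom.mulLeft (d : ℤ) g' ↔ g ≤ g')
    (ρ : LaurentSeries R →+* LaurentSeries (IsLocalRing.ResidueField R))
    (hρ : ρ.comp (HahnSeries.ofPowerSeries ℤ R) =
      (HahnSeries.ofPowerSeries ℤ (IsLocalRing.ResidueField R)).comp (PowerSeries.map (IsLocalRing.residue R)))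
    (X : Scheme.{u}) (p : X ⟶ Spec (CommRingCat.of (LaurentSeries R))) [IsFinite p] [Etale p]
    (hsplit : ∃ (n : ℕ) (e : pullback p (Spec.map (CommRingCat.ofHom
        (HahnSeries.embDomainRingHom (R := R) (AddMonoidHom.mulLeft (d : ℤ)) hinj hmono))) ≅
        (∐ fun _ : Fin n => Spec (CommRingCat.of (LaurentSeries R)))),
      e.hom ≫ Sigma.desc (fun _ : Fin n => 𝟙 (Spec (CommRingCat.of (LaurentSeries R)))) =
        pullback.snd p (Spec.map (CommRingCat.ofHom
          (HahnSeries.embDomainRingHom (R := R) (AddMonoidHom.mulLeft (d : ℤ)) hinj hmono)))) :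
    (∀ s₁ s₂ : Spec (CommRingCat.of (LaurentSeries R)) ⟶ X,
        s₁ ≫ p = 𝟙 _ → s₂ ≫ p = 𝟙 _ →
        Spec.map (CommRingCat.ofHom ρ) ≫ s₁ = Spec.map (CommRingCat.ofHom ρ) ≫ s₂ → s₁ = s₂) ∧
    (∀ s' : Spec (CommRingCat.of (LaurentSeries (IsLocalRing.ResidueField R))) ⟶ X,
        s' ≫ p = Spec.map (CommRingCat.ofHom ρ) →
        ∃ s : Spec (CommRingCat.of (LaurentSeries R)) ⟶ X, s ≫ p = 𝟙 _ ∧ Spec.map (CommRingCat.ofHom ρ) ≫ s = s') := by
  classical
  have : IsAffine X := isAffine_of_isAffineHom p
  -- notation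
  let emb := Groth.Misc12.LaurentSplit.emb (R := R) hinj hmono
  let embk := Groth.Misc12.LaurentSplit.emb (R := IsLocalRing.ResidueField R) hinj hmono
  let bS := Spec.map (CommRingCat.ofHom emb)
  let bk := Spec.map (CommRingCat.ofHom embk)
  let ρS := Spec.map (CommRingCat.ofHom ρ)
  have hbρ : bk ≫ ρS = ρS ≫ bS := by
    show Spec.map _ ≫ Spec.map _ = Spec.map _ ≫ Spec.map _
    rw [← Spec.map_comp, ← Spec.map_comp, ← CommRingCat.ofHom_comp, ← CommRingCat.ofHom_comp]
    exact congrArg (fun t => Spec.map (CommRingCat.ofHom t))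
      (RingHom.ext fun x => (Groth.Misc12.LaurentSplit.rho_emb hinj hmono ρ hρ x).symm)
  have hcancel : ∀ {Q : Type u} [CommRing Q] (f : Q →+* Q) (_ : Function.Injective f)
      (a b : Spec (CommRingCat.of Q) ⟶ X),
      Spec.map (CommRingCat.ofHom f) ≫ a = Spec.map (CommRingCat.ofHom f) ≫ b → a = b := by
    intro Q _ f hf a b hab
    obtain ⟨α, hα⟩ := Spec.map_surjective (a ≫ X.isoSpec.hom)
    obtain ⟨β, hβ⟩ := Spec.map_surjective (b ≫ X.isoSpec.hom)
    have h : α ≫ CommRingCat.ofHom f = β ≫ CommRingCat.ofHom f := Spec.map_injective (by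
      rw [Spec.map_comp, Spec.map_comp, hα, hβ, ← Category.assoc, ← Category.assoc, hab])
    have hαβ : α = β := CommRingCat.hom_ext (RingHom.ext fun x =>
      hf (RingHom.congr_fun (congrArg CommRingCat.Hom.hom h) x))
    rw [← cancel_mono X.isoSpec.hom, ← hα, ← hβ, hαβ]
  obtain ⟨n, e, he⟩ := hsplit
  let f : Fin n → (Spec (CommRingCat.of (LaurentSeries R)) ⟶ X) := fun i =>
    (Sigma.ι (fun _ : Fin n => Spec (CommRingCat.of (LaurentSeries R))) i ≫ e.inv) ≫ pullback.fst p bS
  have hf : ∀ i, f i ≫ p = bS := fun i => by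
    simp only [f, Category.assoc, pullback.condition]
    exact (congrArg (Sigma.ι _ i ≫ ·) (Category.assoc _ _ _).symm).trans
      ((Category.assoc _ _ _).symm.trans (by
        rw [← Category.assoc, Groth.Misc12.LaurentSplit.section_hom _ e he i, Category.id_comp]))
  have hexists : ∀ {Z : Scheme.{u}} [ConnectedSpace Z] (v : Z ⟶ Spec (CommRingCat.of (LaurentSeries R))) (g : Z ⟶ X),
      g ≫ p = v ≫ bS → ∃ i, g = v ≫ f i := by
    intro Z _ v g hg
    obtain ⟨i, hi⟩ := Groth.Misc12.LaurentSplit.exists_section_eq (pullback.snd p bS) e he v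
      (pullback.lift g v hg) (pullback.lift_snd _ _ _)
    refine ⟨i, ?_⟩
    rw [← pullback.lift_fst g v hg, hi]
    simp only [f, Category.assoc]
  have huniq : ∀ {Z : Scheme.{u}} [Nonempty Z] (v : Z ⟶ Spec (CommRingCat.of (LaurentSeries R))) (i k : Fin n),
      v ≫ f i = v ≫ f k → i = k := by
    intro Z _ v i k h
    refine Groth.Misc12.LaurentSplit.index_unique v v i k ?_
    rw [← cancel_mono e.inv, Category.assoc, Category.assoc]
    apply pullback.hom_ext
    · simpa only [f, Category.assoc] using h
    · simp only [Category.assoc]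
      rw [← Category.assoc (Sigma.ι _ i), ← Category.assoc (Sigma.ι _ k),
        Groth.Misc12.LaurentSplit.section_hom _ e he i, Groth.Misc12.LaurentSplit.section_hom _ e he k]
  haveI hS : ConnectedSpace (Spec (CommRingCat.of (LaurentSeries R))) :=
    Groth.Misc12.LaurentSplit.connectedSpace_spec _ fun z hz =>
      Groth.Misc12.LaurentSplit.idempotent_eq z hz
  haveI hSk : ConnectedSpace (Spec (CommRingCat.of (LaurentSeries (IsLocalRing.ResidueField R)))) :=
    Groth.Misc12.LaurentSplit.connectedSpace_spec _ fun z hz =>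
      Groth.Misc12.LaurentSplit.idempotent_eq z hz
  constructor
  · intro s₁ s₂ h₁ h₂ h
    obtain ⟨i₁, hi₁⟩ := hexists (𝟙 _) (bS ≫ s₁) (by rw [Category.assoc, h₁, Category.comp_id, Category.id_comp])
    obtain ⟨i₂, hi₂⟩ := hexists (𝟙 _) (bS ≫ s₂) (by rw [Category.assoc, h₂, Category.comp_id, Category.id_comp])
    rw [Category.id_comp] at hi₁ hi₂
    have : i₁ = i₂ := huniq ρS i₁ i₂ (by
      rw [← hi₁, ← hi₂, ← Category.assoc, ← Category.assoc, ← hbρ, Category.assoc, Category.assoc]
      exact congrArg (bk ≫ ·) h)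
    exact hcancel emb (Groth.Misc12.LaurentSplit.emb_injective hinj hmono) s₁ s₂
      (hi₁.trans ((congrArg f this).trans hi₂.symm))
  · intro s' hs'
    obtain ⟨i, hi⟩ := hexists ρS (bk ≫ s') (by rw [Category.assoc, hs']; exact hbρ)
    obtain ⟨ζ, hζd, hζ⟩ := Groth.Misc12.LaurentSplit.exists_root (R := R) hd hdu
    let ζk := Units.map (IsLocalRing.residue R).toMonoidHom ζ
    let τ := Spec.map (CommRingCat.ofHom (Groth.Misc12.LaurentSplit.twist ζ))
    let τk := Spec.map (CommRingCat.ofHom (Groth.Misc12.LaurentSplit.twist ζk))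
    have hτb : τ ≫ bS = bS := by
      show Spec.map _ ≫ Spec.map _ = Spec.map _
      rw [← Spec.map_comp, ← CommRingCat.ofHom_comp]
      exact congrArg (fun t => Spec.map (CommRingCat.ofHom t))
        (RingHom.ext fun x => Groth.Misc12.LaurentSplit.twist_emb hinj hmono ζ hζd x)
    have hτbk : τk ≫ bk = bk := by
      show Spec.map _ ≫ Spec.map _ = Spec.map _
      rw [← Spec.map_comp, ← CommRingCat.ofHom_comp]
      exact congrArg (fun t => Spec.map (CommRingCat.ofHom t))
        (RingHom.ext fun x => Groth.Misc12.LaurentSplit.twist_emb hinj hmono ζk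
          (by rw [← map_pow, hζd, map_one]) x)
    have hτρ : τk ≫ ρS = ρS ≫ τ := by
      show Spec.map _ ≫ Spec.map _ = Spec.map _ ≫ Spec.map _
      rw [← Spec.map_comp, ← Spec.map_comp, ← CommRingCat.ofHom_comp, ← CommRingCat.ofHom_comp]
      exact congrArg (fun t => Spec.map (CommRingCat.ofHom t))
        (RingHom.ext fun x => (Groth.Misc12.LaurentSplit.rho_twist ρ hρ ζ x).symm)
    obtain ⟨k, hk⟩ := hexists (𝟙 _) (τ ≫ f i) (by rw [Category.assoc, hf, Category.id_comp]; exact hτb)
    rw [Category.id_comp] at hk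
    have hki : k = i := huniq ρS k i (by
      rw [← hk, ← Category.assoc, ← hτρ, Category.assoc, ← hi, ← Category.assoc, hτbk])
    subst hki
    obtain ⟨g, hg⟩ := Spec.map_surjective (f k ≫ X.isoSpec.hom)
    have hinv : ∀ x, Groth.Misc12.LaurentSplit.twist ζ (g.hom x) = g.hom x := fun x => by
      have h : g ≫ CommRingCat.ofHom (Groth.Misc12.LaurentSplit.twist ζ) = g := Spec.map_injective (by
        rw [Spec.map_comp, hg, ← Category.assoc, hk])
      exact RingHom.congr_fun (congrArg CommRingCat.Hom.hom h) x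
    have hrange : ∀ x, g.hom x ∈ emb.range := fun x =>
      Groth.Misc12.LaurentSplit.mem_range_emb hinj hmono hd _ fun m hm => by
        have h := congrArg (fun z : LaurentSeries R => z.coeff m) (hinv x)
        simp only [Groth.Misc12.LaurentSplit.coeff_twist] at h
        exact (hζ m hm).mul_right_eq_zero.1 (by rw [sub_mul, one_mul, h, sub_self])
    let eq₀ : LaurentSeries R ≃+* emb.range := RingEquiv.ofBijective emb.rangeRestrict
      ⟨fun a b hab => Groth.Misc12.LaurentSplit.emb_injective hinj hmono (congrArg Subtype.val hab),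
        emb.rangeRestrict_surjective⟩
    let g₀ : Γ(X, ⊤) →+* LaurentSeries R := eq₀.symm.toRingHom.comp (g.hom.codRestrict emb.range hrange)
    have hg₀ : ∀ x, emb (g₀ x) = g.hom x := fun x =>
      congrArg Subtype.val (eq₀.apply_symm_apply ⟨g.hom x, hrange x⟩)
    let s := Spec.map (CommRingCat.ofHom g₀) ≫ X.isoSpec.inv
    have hs : bS ≫ s = f k := by
      rw [← cancel_mono X.isoSpec.hom, ← hg]
      simp only [s, Category.assoc, Iso.inv_hom_id, Category.comp_id]
      rw [← Spec.map_comp]
      exact congrArg Spec.map (CommRingCat.hom_ext (RingHom.ext hg₀))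
    refine ⟨s, ?_, ?_⟩
    · obtain ⟨φ, hφ⟩ := Spec.map_surjective (s ≫ p)
      rw [← hφ, ← Spec.map_id]
      congr 1
      have h1 : φ ≫ CommRingCat.ofHom emb = CommRingCat.ofHom emb := Spec.map_injective (by
        rw [Spec.map_comp, hφ, ← Category.assoc]
        exact (congrArg (· ≫ p) hs).trans (hf k))
      exact CommRingCat.hom_ext (RingHom.ext fun x =>
        Groth.Misc12.LaurentSplit.emb_injective hinj hmono
          (RingHom.congr_fun (congrArg CommRingCat.Hom.hom h1) x))
    · refine hcancel embk (Groth.Misc12.LaurentSplit.emb_injective hinj hmono) _ _ ?_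
      show bk ≫ ρS ≫ s = bk ≫ s'
      rw [← Category.assoc, hbρ, Category.assoc, hs, hi]

end Groth.Agent.S15766
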