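import Groth.Statements.S15769
-- (no helpers)

set_option autoImplicit false
universe u
open CategoryTheory AlgebraicGeometry
open CAlg

namespace Groth.Agent.S15769

/-- Case of a quasi-affine X over U = Spec A: let φ : A → A' and t ∈ A be such that A/t^m → A'/t^m is
bijective for every m and φ restricts to a bijection between the t-power-torsion submodules; let X
be a quasi-affine scheme over Spec A. Then sections of X over Spec A correspond bijectively to pairs
of an A'-point and an A[1/t]-point of X over A that agree over A'[1/t]. (The published statement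
allows a flat A-scheme U as base and X either ind-quasi-affine or subprojective over U; this row is
U = Spec A with X quasi-affine.) -/
theorem result (A A' : Type u) [CommRing A] [CommRing A']
    (φ : A →+* A') (t : A)
    (hq : ∀ m : ℕ, Function.Bijective (Ideal.quotientMap (Ideal.map φ (Ideal.span {t} ^ m)) φ Ideal.le_comap_map))
    (htor : ∀ a' : A', (∃ m : ℕ, φ t ^ m * a' = 0) → ∃! a : A, (∃ m : ℕ, t ^ m * a = 0) ∧ φ a = a')
    (X : Scheme.{u}) [X.IsQuasiAffine] (p : X ⟶ Spec (CommRingCat.of A)) :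
    (∀ s₁ s₂ : Spec (CommRingCat.of A) ⟶ X, s₁ ≫ p = 𝟙 _ → s₂ ≫ p = 𝟙 _ →
        Spec.map (CommRingCat.ofHom φ) ≫ s₁ = Spec.map (CommRingCat.ofHom φ) ≫ s₂ →
        Spec.map (CommRingCat.ofHom (algebraMap A (Localization.Away t))) ≫ s₁ =
          Spec.map (CommRingCat.ofHom (algebraMap A (Localization.Away t))) ≫ s₂ →
        s₁ = s₂) ∧
    (∀ (x' : Spec (CommRingCat.of A') ⟶ X) (xt : Spec (CommRingCat.of (Localization.Away t)) ⟶ X),
        x' ≫ p = Spec.map (CommRingCat.ofHom φ) →
        xt ≫ p = Spec.map (CommRingCat.ofHom (algebraMap A (Localization.Away t))) →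
        Spec.map (CommRingCat.ofHom (algebraMap A' (Localization.Away (φ t)))) ≫ x' =
          Spec.map (CommRingCat.ofHom (Localization.awayMap φ t)) ≫ xt →
        ∃ s : Spec (CommRingCat.of A) ⟶ X, s ≫ p = 𝟙 _ ∧
          Spec.map (CommRingCat.ofHom φ) ≫ s = x' ∧
          Spec.map (CommRingCat.ofHom (algebraMap A (Localization.Away t))) ≫ s = xt) := by
  classical
  let L := Localization.Away t
  let L' := Localization.Away (φ t)
  let κ := Localization.awayMap φ t
  have hκ : ∀ a : A, κ (algebraMap A L a) = algebraMap A' L' (φ a) := fun a => by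
    simp [κ, L, L', IsLocalization.Away.map, IsLocalization.map_eq]
  have hinj : ∀ (m : ℕ) (a : A), φ a ∈ Ideal.span {φ t ^ m} → a ∈ Ideal.span {t ^ m} := by
    intro m a ha
    have h0 := (hq m).1 (a₁ := Ideal.Quotient.mk _ a) (a₂ := 0) (by
      rw [Ideal.quotientMap_mk, map_zero, Ideal.Quotient.eq_zero_iff_mem, Ideal.map_pow, Ideal.map_span,
        Set.image_singleton, Ideal.span_singleton_pow]
      exact ha)
    rw [Ideal.Quotient.eq_zero_iff_mem] at h0
    rw [← Ideal.span_singleton_pow]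
    exact h0
  have hsurj : ∀ (m : ℕ) (x : A'), ∃ a : A, x - φ a ∈ Ideal.span {φ t ^ m} := by
    intro m x
    obtain ⟨y, hy⟩ := (hq m).2 (Ideal.Quotient.mk _ x)
    obtain ⟨a, rfl⟩ := Ideal.Quotient.mk_surjective y
    refine ⟨a, ?_⟩
    rw [Ideal.quotientMap_mk, eq_comm, Ideal.Quotient.eq, Ideal.map_pow, Ideal.map_span,
      Set.image_singleton, Ideal.span_singleton_pow] at hy
    exact hy
  -- the ring glues
  have huniqA : ∀ a b : A, φ a = φ b → algebraMap A L a = algebraMap A L b → a = b := by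
    intro a b h1 h2
    obtain ⟨⟨_, m, rfl⟩, hm⟩ := (IsLocalization.eq_iff_exists (Submonoid.powers t) L).1 h2
    obtain ⟨c, -, huniq⟩ := htor 0 ⟨0, by simp⟩
    exact sub_eq_zero.1 ((huniq (a - b) ⟨⟨m, by rw [mul_sub]; exact sub_eq_zero.2 hm⟩,
      by rw [map_sub, h1, sub_self]⟩).trans (huniq 0 ⟨⟨0, by simp⟩, map_zero φ⟩).symm)
  have hglue : ∀ (x : A') (y : L), algebraMap A' L' x = κ y → ∃ a : A, φ a = x ∧ algebraMap A L a = y := by
    intro x y hxy
    obtain ⟨m, a, ha⟩ := IsLocalization.Away.surj t y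
    have h1 : algebraMap A' L' (φ t ^ m * x) = algebraMap A' L' (φ a) := by
      rw [← hκ a, ← ha, map_mul κ, map_pow κ, hκ, map_mul, map_pow, ← hxy, mul_comm]
    obtain ⟨⟨_, j, rfl⟩, hj⟩ := (IsLocalization.eq_iff_exists (Submonoid.powers (φ t)) L').1 h1
    simp only at hj
    obtain ⟨c, hc⟩ := Ideal.mem_span_singleton.1 (hinj (j + m) (t ^ j * a) (Ideal.mem_span_singleton.2
      ⟨x, by rw [map_mul, map_pow, ← hj, pow_add]; ring⟩))
    have hd : φ t ^ (j + m) * (x - φ c) = 0 := by
      have := congrArg φ hc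
      simp only [map_mul, map_pow] at this
      rw [mul_sub, ← this, ← hj, pow_add]; ring
    obtain ⟨e, ⟨⟨k, hk⟩, he⟩, -⟩ := htor (x - φ c) ⟨j + m, hd⟩
    refine ⟨c + e, by rw [map_add, he, add_sub_cancel], ?_⟩
    have hue : algebraMap A L e = 0 := by
      refine ((IsLocalization.Away.algebraMap_isUnit (S := L) t).pow k).mul_right_eq_zero.1 ?_
      rw [← map_pow, ← map_mul, hk, map_zero]
    refine ((IsLocalization.Away.algebraMap_isUnit (S := L) t).pow (j + m)).mul_left_cancel ?_
    rw [map_add, hue, add_zero, ← map_pow, ← map_mul, ← hc, map_mul, map_pow, map_pow, pow_add,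
      mul_assoc, mul_comm (algebraMap A L t ^ m) y, ha]
  -- the scheme
  let φS := Spec.map (CommRingCat.ofHom φ)
  let tS := Spec.map (CommRingCat.ofHom (algebraMap A L))
  have hext : ∀ u₁ u₂ : Spec (CommRingCat.of A) ⟶ Spec Γ(X, ⊤), φS ≫ u₁ = φS ≫ u₂ →
      tS ≫ u₁ = tS ≫ u₂ → u₁ = u₂ := by
    intro u₁ u₂ h1 h2
    obtain ⟨g₁, rfl⟩ := Spec.map_surjective u₁
    obtain ⟨g₂, rfl⟩ := Spec.map_surjective u₂
    rw [← Spec.map_comp, ← Spec.map_comp] at h1 h2
    exact congrArg Spec.map (CommRingCat.hom_ext (RingHom.ext fun r => huniqA _ _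
      (RingHom.congr_fun (congrArg CommRingCat.Hom.hom (Spec.map_injective h1)) r)
      (RingHom.congr_fun (congrArg CommRingCat.Hom.hom (Spec.map_injective h2)) r)))
  have hext' : ∀ v : Spec (CommRingCat.of A) ⟶ Spec (CommRingCat.of A), φS ≫ v = φS → tS ≫ v = tS → v = 𝟙 _ := by
    intro v h1 h2
    obtain ⟨g, rfl⟩ := Spec.map_surjective v
    rw [← Spec.map_comp] at h1 h2
    rw [← Spec.map_id]
    exact congrArg Spec.map (CommRingCat.hom_ext (RingHom.ext fun r => huniqA _ _
      (RingHom.congr_fun (congrArg CommRingCat.Hom.hom (Spec.map_injective h1)) r)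
      (RingHom.congr_fun (congrArg CommRingCat.Hom.hom (Spec.map_injective h2)) r)))
  have hmonoX : Mono X.toSpecΓ := inferInstance
  refine ⟨fun s₁ s₂ _ _ h1 h2 => (cancel_mono X.toSpecΓ).1 (hext _ _
    (by rw [← Category.assoc, ← Category.assoc, h1]) (by rw [← Category.assoc, ← Category.assoc, h2])),
    fun x' xt hx' hxt hcomp => ?_⟩
  obtain ⟨g', hg'⟩ := Spec.map_surjective (x' ≫ X.toSpecΓ)
  obtain ⟨gt, hgt⟩ := Spec.map_surjective (xt ≫ X.toSpecΓ)
  have hagree : ∀ r, algebraMap A' L' (g'.hom r) = κ (gt.hom r) := by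
    intro r
    have h : g' ≫ CommRingCat.ofHom (algebraMap A' L') = gt ≫ CommRingCat.ofHom κ := Spec.map_injective (by
      rw [Spec.map_comp, Spec.map_comp, hg', hgt, ← Category.assoc, ← Category.assoc, hcomp])
    exact RingHom.congr_fun (congrArg CommRingCat.Hom.hom h) r
  choose g hg₁ hg₂ using fun r => hglue (g'.hom r) (gt.hom r) (hagree r)
  let gH : Γ(X, ⊤) →+* A :=
    { toFun := g
      map_one' := huniqA _ _ (by rw [hg₁, map_one, map_one]) (by rw [hg₂, map_one, map_one])
      map_mul' := fun a b => huniqA _ _ (by rw [hg₁, map_mul, map_mul, hg₁, hg₁]) (by rw [hg₂, map_mul, map_mul, hg₂, hg₂])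
      map_zero' := huniqA _ _ (by rw [hg₁, map_zero, map_zero]) (by rw [hg₂, map_zero, map_zero])
      map_add' := fun a b => huniqA _ _ (by rw [hg₁, map_add, map_add, hg₁, hg₁]) (by rw [hg₂, map_add, map_add, hg₂, hg₂]) }
  let u := Spec.map (CommRingCat.ofHom gH)
  have hu1 : φS ≫ u = x' ≫ X.toSpecΓ := by
    rw [← hg', ← Spec.map_comp]
    exact congrArg Spec.map (CommRingCat.hom_ext (RingHom.ext hg₁))
  have hu2 : tS ≫ u = xt ≫ X.toSpecΓ := by
    rw [← hgt, ← Spec.map_comp]
    exact congrArg Spec.map (CommRingCat.hom_ext (RingHom.ext hg₂))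
  have hcover : ∀ q : Spec (CommRingCat.of A), q ∈ Set.range φS ∨ q ∈ Set.range tS := by
    intro q
    by_cases htq : t ∈ q.asIdeal
    · left
      have hle : (q.asIdeal.map φ).comap φ = q.asIdeal := by
        refine le_antisymm (fun a ha => ?_) Ideal.le_comap_map
        have key : ∀ z ∈ q.asIdeal.map φ, ∃ b ∈ q.asIdeal, z - φ b ∈ Ideal.span {φ t} := by
          intro z hz
          induction hz using Submodule.span_induction with
          | mem z hz => obtain ⟨b, hb, rfl⟩ := hz; exact ⟨b, hb, by simp⟩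
          | zero => exact ⟨0, zero_mem _, by simp⟩
          | add a b _ _ ha hb =>
            obtain ⟨a', ha', ha⟩ := ha; obtain ⟨b', hb', hb⟩ := hb
            exact ⟨a' + b', add_mem ha' hb', by rw [map_add, add_sub_add_comm]; exact add_mem ha hb⟩
          | smul c a _ ha =>
            obtain ⟨a', ha', ha⟩ := ha
            obtain ⟨c', hc'⟩ := hsurj 1 c
            rw [pow_one] at hc'
            refine ⟨c' * a', Ideal.mul_mem_left _ _ ha', ?_⟩
            rw [smul_eq_mul, map_mul, show c * a - φ c' * φ a' = c * (a - φ a') + (c - φ c') * φ a' by ring]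
            exact add_mem (Ideal.mul_mem_left _ _ ha) (Ideal.mul_mem_right _ _ hc')
        obtain ⟨b, hb, hab⟩ := key _ ha
        rw [← map_sub] at hab
        have := hinj 1 (a - b) (by rwa [pow_one])
        rw [pow_one, Ideal.mem_span_singleton] at this
        obtain ⟨c, hc⟩ := this
        rw [show a = t * c + b by rw [← hc]; ring]
        exact add_mem (Ideal.mul_mem_right _ _ htq) hb
      obtain ⟨Q, hQp, hQ⟩ := (Ideal.comap_map_eq_self_iff_of_isPrime q.asIdeal).1 hle
      exact ⟨⟨Q, hQp⟩, PrimeSpectrum.ext hQ⟩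
    · right
      show q ∈ Set.range (PrimeSpectrum.comap (algebraMap A L))
      rw [PrimeSpectrum.localization_away_comap_range L t]
      exact htq
  have hrange : Set.range u ⊆ Set.range X.toSpecΓ := by
    rintro _ ⟨q, rfl⟩
    rcases hcover q with ⟨w, rfl⟩ | ⟨w, rfl⟩
    · exact ⟨x' w, by rw [← Scheme.Hom.comp_apply, ← hu1]; rfl⟩
    · exact ⟨xt w, by rw [← Scheme.Hom.comp_apply, ← hu2]; rfl⟩
  have : IsOpenImmersion X.toSpecΓ := inferInstance
  let s := IsOpenImmersion.lift X.toSpecΓ u hrange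
  have hs : s ≫ X.toSpecΓ = u := IsOpenImmersion.lift_fac _ _ _
  have hs1 : φS ≫ s = x' := (cancel_mono X.toSpecΓ).1 (by rw [Category.assoc, hs, hu1])
  have hs2 : tS ≫ s = xt := (cancel_mono X.toSpecΓ).1 (by rw [Category.assoc, hs, hu2])
  exact ⟨s, hext' _ (by rw [← Category.assoc, hs1, hx']) (by rw [← Category.assoc, hs2, hxt]), hs1, hs2⟩

end Groth.Agent.S15769
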