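import Groth.Statements.S15770
import Mathlib
-- import your own Groth.Agent.* helpers here

set_option autoImplicit false
universe u
open CAlg

namespace Groth.Agent.S15770

/-- Let B be a topological ring with Bˣ ⊂ B open and M, M' finitely generated projective B-modules, and
endow Hom_B(M, M') with the module topology (the canonical topology of a finite module). Then the
set of surjective B-linear maps M → M' is open. -/
theorem result (B : Type u) [CommRing B] [TopologicalSpace B]
    [IsTopologicalRing B] (hB : IsOpen {b : B | IsUnit b})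
    (M M' : Type u) [AddCommGroup M] [Module B M] [Module.Finite B M] [Module.Projective B M]
    [AddCommGroup M'] [Module B M'] [Module.Finite B M'] [Module.Projective B M']
    [TopologicalSpace (M →ₗ[B] M')] [IsModuleTopology B (M →ₗ[B] M')] :
    IsOpen {f : M →ₗ[B] M' | Function.Surjective f} := by
  classical
  obtain ⟨n, i, π, -, -, hπi⟩ : ∃ (n : ℕ) (i : M' →ₗ[B] (Fin n → B)) (π : (Fin n → B) →ₗ[B] M'),
      Function.Surjective π ∧ Function.Injective i ∧ π ∘ₗ i = LinearMap.id := by
    obtain ⟨n, π, hπ⟩ := Module.Finite.exists_fin' B M'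
    obtain ⟨i, hi⟩ := Module.projective_lifting_property π LinearMap.id hπ
    exact ⟨n, i, π, hπ, Function.LeftInverse.injective (LinearMap.congr_fun hi), hi⟩
  rw [isOpen_iff_forall_mem_open]
  intro f₀ hf₀
  obtain ⟨g₀, hg₀⟩ := Module.projective_lifting_property f₀ LinearMap.id hf₀
  let Φ : (M →ₗ[B] M') →ₗ[B] Matrix (Fin n) (Fin n) B :=
    LinearMap.toMatrix'.toLinearMap ∘ₗ
      { toFun := fun f => i ∘ₗ (f ∘ₗ g₀) ∘ₗ π
        map_add' := fun f g => by ext; simp
        map_smul' := fun c f => by ext; simp }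
  let C : Matrix (Fin n) (Fin n) B := LinearMap.toMatrix' (LinearMap.id - i ∘ₗ π)
  haveI : ContinuousSMul B (Matrix (Fin n) (Fin n) B) := inferInstance
  have hΦ : Continuous Φ := IsModuleTopology.continuous_of_linearMap Φ
  have hcont : Continuous fun f : M →ₗ[B] M' => (Φ f + C).det := (hΦ.add continuous_const).matrix_det
  refine ⟨{f | IsUnit (Φ f + C).det}, ?_, hB.preimage hcont, ?_⟩
  · intro f hf
    have hu : IsUnit (Φ f + C) := (Matrix.isUnit_iff_isUnit_det _).2 hf
    obtain ⟨u, hu⟩ := hu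
    intro y
    let T : (Fin n → B) →ₗ[B] (Fin n → B) := i ∘ₗ (f ∘ₗ g₀) ∘ₗ π + (LinearMap.id - i ∘ₗ π)
    have hT : LinearMap.toMatrix' T = Φ f + C := map_add _ _ _
    have hTs : T ∘ₗ Matrix.toLin' ((u⁻¹ : (Matrix (Fin n) (Fin n) B)ˣ) : Matrix (Fin n) (Fin n) B) = LinearMap.id := by
      rw [show T = Matrix.toLin' (u : Matrix (Fin n) (Fin n) B) by rw [hu, ← hT, Matrix.toLin'_toMatrix'],
        ← Matrix.toLin'_mul, Units.mul_inv, Matrix.toLin'_one]
    set z := Matrix.toLin' ((u⁻¹ : (Matrix (Fin n) (Fin n) B)ˣ) : Matrix (Fin n) (Fin n) B) (i y)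
    refine ⟨g₀ (π z), ?_⟩
    have h1 := congrArg π (LinearMap.congr_fun hTs (i y))
    have hp : ∀ x, π (i x) = x := LinearMap.congr_fun hπi
    simp only [T, LinearMap.comp_apply, LinearMap.add_apply, LinearMap.sub_apply, LinearMap.id_apply,
      map_add, map_sub, hp, sub_self, add_zero] at h1
    exact h1
  · show IsUnit (Φ f₀ + C).det
    have : i ∘ₗ (f₀ ∘ₗ g₀) ∘ₗ π + (LinearMap.id - i ∘ₗ π) = LinearMap.id := by
      rw [hg₀, LinearMap.id_comp]; abel
    have h2 := congrArg LinearMap.toMatrix' this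
    rw [map_add, LinearMap.toMatrix'_id] at h2
    show IsUnit (LinearMap.toMatrix' (i ∘ₗ (f₀ ∘ₗ g₀) ∘ₗ π) + C).det
    rw [h2, Matrix.det_one]; exact isUnit_one

end Groth.Agent.S15770
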