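import Groth.Statements.S15771
import Mathlib
-- import your own Groth.Agent.* helpers here

set_option autoImplicit false
universe u
open TensorProduct
open CAlg

namespace Groth.Agent.S15771

/-- For a ring map B₀ → B with dense image into a topological ring B, a finitely generated B₀-module M₀
and any topological B-module structure on M = B ⊗_{B₀} M₀, the natural map M₀ → M has dense image. -/
theorem result (B₀ B : Type u) [CommRing B₀] [CommRing B] [Algebra B₀ B]
    [TopologicalSpace B] [IsTopologicalRing B] (hφ : DenseRange (algebraMap B₀ B))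
    (M₀ : Type u) [AddCommGroup M₀] [Module B₀ M₀] [Module.Finite B₀ M₀]
    [TopologicalSpace (B ⊗[B₀] M₀)] [IsTopologicalAddGroup (B ⊗[B₀] M₀)] [ContinuousSMul B (B ⊗[B₀] M₀)] :
    DenseRange (fun m : M₀ => (1 : B) ⊗ₜ[B₀] m) := by
  let j : M₀ →+ B ⊗[B₀] M₀ := (TensorProduct.mk B₀ B M₀ 1).toAddMonoidHom
  let S : AddSubgroup (B ⊗[B₀] M₀) := j.range.topologicalClosure
  intro z
  show z ∈ closure (Set.range j)
  suffices z ∈ S by
    rwa [← SetLike.mem_coe, AddSubgroup.topologicalClosure_coe, AddMonoidHom.coe_range] at this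
  induction z using TensorProduct.induction_on with
  | zero => exact zero_mem _
  | add x y hx hy => exact add_mem hx hy
  | tmul b m =>
    have hc : Continuous fun b : B => b • ((1 : B) ⊗ₜ[B₀] m) := by fun_prop
    have h : (fun b : B => b • ((1 : B) ⊗ₜ[B₀] m)) b ∈ S := by
      rw [← SetLike.mem_coe, AddSubgroup.topologicalClosure_coe, AddMonoidHom.coe_range]
      refine closure_mono ?_ (image_closure_subset_closure_image hc ⟨b, hφ b, rfl⟩)
      rintro _ ⟨_, ⟨b₀, rfl⟩, rfl⟩
      exact ⟨b₀ • m, by simp [j, TensorProduct.tmul_smul]⟩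
    simpa [TensorProduct.smul_tmul'] using h

end Groth.Agent.S15771
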