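import Groth.Statements.S15773
import Mathlib
import Groth.Agent.Calg7.HensPoly
import Groth.Agent.Calg7.MonicLoc
-- import your own Groth.Agent.* helpers here

set_option autoImplicit false
universe u
open Polynomial
open CAlg

namespace Groth.Agent.S15773

/-- For a Henselian local ring (R, m), a henselization B of R[t] along (t), L = B[1/t] and the R-algebra
map ψ : R[s] → L sending s to t⁻¹, extension and contraction along ψ are mutually inverse bijections
between the ideals of R[s] comaximal with mR[s] and the ideals of L comaximal with mL, and R[s]/I →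
L/IL is bijective for every such I. (The published statement is phrased with closed subschemes of
Spec R[t⁻¹] and of Spec L not meeting the residue fibre, matched by base change and schematic image,
and treats the localisation (R[t]_{1+tR[t]})[1/t] alongside R{t}[1/t]; this row states it with
ideals and includes the bijection of the corresponding quotient rings.) -/
theorem result (R : Type u) [CommRing R]
    [HenselianLocalRing R] (B : Type u) [CommRing B] [Algebra R B] [Algebra R[X] B] [IsScalarTower R R[X] B]
    (hB : Hens2.IsPairHenselization R[X] (Ideal.span {(X : R[X])}) B)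
    (ψ : R[X] →ₐ[R] Localization.Away (algebraMap R[X] B X))
    (hψ : ψ X * algebraMap B (Localization.Away (algebraMap R[X] B X)) (algebraMap R[X] B X) = 1) :
    (∀ I : Ideal R[X], I ⊔ (IsLocalRing.maximalIdeal R).map (algebraMap R R[X]) = ⊤ →
        (I.map ψ.toRingHom).comap ψ.toRingHom = I ∧
        I.map ψ.toRingHom ⊔ (IsLocalRing.maximalIdeal R).map
          (algebraMap R (Localization.Away (algebraMap R[X] B X))) = ⊤ ∧
        Function.Bijective (Ideal.quotientMap (I.map ψ.toRingHom) ψ.toRingHom Ideal.le_comap_map)) ∧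
    (∀ J : Ideal (Localization.Away (algebraMap R[X] B X)),
        J ⊔ (IsLocalRing.maximalIdeal R).map (algebraMap R (Localization.Away (algebraMap R[X] B X))) = ⊤ →
        (J.comap ψ.toRingHom).map ψ.toRingHom = J ∧
        J.comap ψ.toRingHom ⊔ (IsLocalRing.maximalIdeal R).map (algebraMap R R[X]) = ⊤) := by
  classical
  haveI := Groth.Calg7.HensPoly.isLocalRing hB
  haveI : Module.Flat R[X] B := Groth.HensPair.flat_of_isPairHenselization hB
  let t := algebraMap R[X] B X
  have htdef : t = algebraMap R[X] B X := rfl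
  let L := Localization.Away (algebraMap R[X] B X)
  let T : L := algebraMap B L t
  have hT : T = algebraMap B L t := rfl
  let x : L := ψ X
  have hx : x = ψ X := rfl
  have hxT : x * T = 1 := hψ
  let ι : R[X] →ₐ[R] L := (IsScalarTower.toAlgHom R B L).comp (IsScalarTower.toAlgHom R R[X] B)
  have hι : ∀ p : R[X], ι p = algebraMap B L (algebraMap R[X] B p) := fun p => rfl
  haveI : Invertible x := ⟨T, by rw [mul_comm]; exact hxT, hxT⟩
  have hinv : ⅟x = T := invOf_eq_right_inv hxT
  have hev : ∀ p : R[X], Polynomial.eval₂ (algebraMap R L) T p = ι p := fun p => by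
    rw [← Polynomial.aeval_def]
    exact DFunLike.congr_fun (Polynomial.algHom_ext (f := Polynomial.aeval T) (g := ι) (by simp [hT, hι, htdef])) p
  have hψe : ∀ a : R[X], ψ a = Polynomial.eval₂ (algebraMap R L) x a := fun a => by
    rw [← Polynomial.aeval_def, hx, Polynomial.aeval_algHom_apply, Polynomial.aeval_X_left_apply]
  have key : ∀ (N : ℕ) (a : R[X]), a.natDegree ≤ N → ψ a = ι (a.reflect N) * x ^ N := by
    intro N a ha
    rw [hψe, ← Polynomial.eval₂_reflect_mul_pow (algebraMap R L) x N a ha, hinv, hev]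
  have hres : ∀ q : R[X], q ∈ (IsLocalRing.maximalIdeal R).map (algebraMap R R[X]) ↔
      q.map (IsLocalRing.residue R) = 0 := fun q => by
    rw [show algebraMap R R[X] = Polynomial.C from rfl, Ideal.mem_map_C_iff, Polynomial.ext_iff]
    simp [IsLocalRing.residue_eq_zero_iff]
  have hext : ∀ I : Ideal R[X], I ⊔ (IsLocalRing.maximalIdeal R).map (algebraMap R R[X]) = ⊤ →
      (∀ a, ψ a ∈ I.map ψ.toRingHom → a ∈ I) ∧ ∀ z : L, ∃ a, z - ψ a ∈ I.map ψ.toRingHom := by
    intro I hI
    obtain ⟨g, hg, m, hm, hgm⟩ := Submodule.mem_sup.1 (hI ▸ Submodule.mem_top : (1 : R[X]) ∈ _)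
    have hg1 : g.map (IsLocalRing.residue R) = 1 := by
      have := congrArg (Polynomial.map (IsLocalRing.residue R)) hgm
      rwa [Polynomial.map_add, (hres m).1 hm, add_zero, Polynomial.map_one] at this
    set d := g.natDegree
    have hc0 : IsUnit (g.coeff 0) := by
      rw [← IsLocalRing.residue_ne_zero_iff_isUnit, ← Polynomial.coeff_map, hg1]; simp
    obtain ⟨c, hc⟩ := hc0
    set G := Polynomial.C (↑c⁻¹ : R) * g.reflect d with hG
    have hGd : G.natDegree ≤ d := (Polynomial.natDegree_C_mul_le _ _).trans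
      ((Polynomial.natDegree_reflect_le (N := d) (p := g)).trans (max_le le_rfl le_rfl))
    have hGm : G.Monic := Polynomial.monic_of_natDegree_le_of_coeff_eq_one d hGd (by
      rw [hG, Polynomial.coeff_C_mul, Polynomial.coeff_reflect, Polynomial.revAt_le le_rfl, Nat.sub_self,
        ← hc, Units.inv_mul])
    have hdist : Groth.Calg7.HensPoly.IsDist G := ⟨hGm, fun i hi => by
      have hid : i < d := lt_of_lt_of_le hi hGd
      rw [hG, Polynomial.coeff_C_mul, Polynomial.coeff_reflect, Polynomial.revAt_le hid.le]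
      refine Ideal.mul_mem_left _ _ ((IsLocalRing.residue_eq_zero_iff _).1 ?_)
      rw [← Polynomial.coeff_map, hg1, Polynomial.coeff_one, if_neg (by omega)]⟩
    have h1I : (1 : R[X]) ∈ I ⊔ Ideal.span {X} :=
      (Groth.Calg7.MonicLoc.sup_span_monic hI Polynomial.monic_X) ▸ Submodule.mem_top
    obtain ⟨i, hi, y, hy, hiy⟩ := Submodule.mem_sup.1 h1I
    obtain ⟨u, rfl⟩ := Ideal.mem_span_singleton.1 hy
    set J := I.map ψ.toRingHom with hJ
    have hJmem : ∀ a ∈ I, ψ a ∈ J := fun a ha => Ideal.mem_map_of_mem ψ.toRingHom ha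
    set π := Ideal.Quotient.mk J with hπ
    let π' : R[X] →+* L ⧸ J := π.comp ψ.toRingHom
    have hTu : π T = π (ψ u) := by
      rw [hπ, Ideal.Quotient.eq]
      have e : T - ψ u = T * ψ i := by
        have := congrArg ψ hiy
        rw [map_add, map_mul, map_one, ← hx] at this
        linear_combination (-T) * this + ψ u * hxT
      rw [e]; exact Ideal.mul_mem_left _ _ (hJmem i hi)
    refine ⟨?_, ?_⟩
    · -- injectivity through an inverse
      let σ := Ideal.Quotient.mk I
      have hsu : σ X * σ u = 1 := by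
        have := congrArg σ hiy
        rwa [map_add, map_mul, map_one, Ideal.Quotient.eq_zero_iff_mem.2 hi, zero_add] at this
      haveI : Invertible (σ X) := ⟨σ u, by rw [mul_comm]; exact hsu, hsu⟩
      have hinv' : ⅟(σ X) = σ u := invOf_eq_right_inv hsu
      have hroot : (g.reflect d).eval₂ (algebraMap R (R[X] ⧸ I)) (σ u) = 0 := by
        have e := Polynomial.eval₂_reflect_mul_pow (algebraMap R (R[X] ⧸ I)) (σ X) d g le_rfl
        have e' : g.eval₂ (algebraMap R (R[X] ⧸ I)) (σ X) = σ g := by
          rw [← Polynomial.aeval_def, show σ X = Ideal.Quotient.mkₐ R I X from rfl,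
            Polynomial.aeval_algHom_apply, Polynomial.aeval_X_left_apply]
          rfl
        rw [hinv', e', Ideal.Quotient.eq_zero_iff_mem.2 hg] at e
        exact ((IsUnit.of_mul_eq_one _ hsu).pow d).mul_left_eq_zero.1 e
      let θ : AdjoinRoot G →+* R[X] ⧸ I := AdjoinRoot.lift (algebraMap R (R[X] ⧸ I)) (σ u)
        (by rw [hG, Polynomial.eval₂_mul, hroot, mul_zero])
      obtain ⟨φ, hφ, -⟩ := hB.2 (AdjoinRoot G) _ (AdjoinRoot.mk G)
        (Groth.Calg7.HensPoly.henselianRing_adjoinRoot hdist)
        (by rw [Ideal.map_span, Set.image_singleton, AdjoinRoot.mk_X])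
      have hθt : (θ.comp φ) t = σ u := by
        rw [RingHom.comp_apply, show φ t = AdjoinRoot.mk G X from RingHom.congr_fun hφ X,
          AdjoinRoot.mk_X]
        exact AdjoinRoot.lift_root _
      let Φ : L →+* R[X] ⧸ I := IsLocalization.Away.lift (S := L) t (g := θ.comp φ)
        (by rw [hθt]; exact IsUnit.of_mul_eq_one _ ((mul_comm _ _).trans hsu))
      have hΦ : Φ.comp ψ.toRingHom = σ := by
        refine Polynomial.ringHom_ext (fun r => ?_) ?_
        · show Φ (ψ (Polynomial.C r)) = σ (Polynomial.C r)
          rw [show Polynomial.C r = algebraMap R R[X] r from rfl, ψ.commutes,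
            IsScalarTower.algebraMap_apply R B L, IsLocalization.Away.lift_eq,
            IsScalarTower.algebraMap_apply R R[X] B, RingHom.comp_apply,
            show φ (algebraMap R[X] B (algebraMap R R[X] r)) = AdjoinRoot.mk G (Polynomial.C r) from
              RingHom.congr_fun hφ (Polynomial.C r), AdjoinRoot.mk_C]
          exact AdjoinRoot.lift_of _
        · show Φ (ψ X) = σ X
          have h2 : Φ (ψ X) * σ u = 1 := by
            rw [← hθt, ← IsLocalization.Away.lift_eq (S := L) t (g := θ.comp φ)
              (by rw [hθt]; exact IsUnit.of_mul_eq_one _ ((mul_comm _ _).trans hsu)) t, ← map_mul]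
            exact (congrArg Φ hxT).trans (map_one Φ)
          exact left_inv_eq_right_inv h2 ((mul_comm _ _).trans hsu)
      intro a ha
      have h3 := Ideal.mem_map_of_mem Φ ha
      rw [hJ, Ideal.map_map, hΦ, Ideal.map_quotient_self, Ideal.mem_bot] at h3
      rw [← Ideal.Quotient.eq_zero_iff_mem]
      exact (RingHom.congr_fun hΦ a).symm.trans h3
    · intro z
      suffices h : π z ∈ π'.range by
        obtain ⟨a, ha⟩ := h
        exact ⟨a, Ideal.Quotient.eq.1 ha.symm⟩
      have hTmem : π T ∈ π'.range := ⟨u, hTu.symm⟩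
      have hxmem : π x ∈ π'.range := ⟨X, rfl⟩
      have hιmem : ∀ q : R[X], π (ι q) ∈ π'.range := by
        intro q
        rw [← hev, Polynomial.eval₂_eq_sum_range, map_sum]
        refine Subring.sum_mem _ fun k _ => ?_
        rw [map_mul, map_pow]
        exact Subring.mul_mem _ ⟨Polynomial.C (q.coeff k), congrArg π (ψ.commutes _)⟩ (Subring.pow_mem _ hTmem _)
      obtain ⟨⟨b, ⟨_, n, rfl⟩⟩, hb⟩ := IsLocalization.surj (Submonoid.powers t) z
      simp only [map_pow, ← hT] at hb
      obtain ⟨q, hq⟩ := (Groth.Calg7.HensPoly.quotient_dist hB hdist).1 b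
      obtain ⟨w, hw⟩ := Ideal.mem_span_singleton.1 hq
      have hGJ : ι G ∈ J := by
        have e : ι (g.reflect d) = ψ g * T ^ d := by
          rw [key d g le_rfl, mul_assoc, ← mul_pow, hxT, one_pow, mul_one]
        rw [hG, map_mul, e]
        exact Ideal.mul_mem_left _ _ (Ideal.mul_mem_right _ _ (hJmem g hg))
      have hbq : π (algebraMap B L b) = π (ι q) := by
        refine (Ideal.Quotient.eq.2 ?_).symm
        rw [hι, ← map_sub, hw, map_mul, ← hι]
        exact Ideal.mul_mem_right _ _ hGJ
      have hz : z = algebraMap B L b * x ^ n := by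
        rw [← hb, mul_assoc, ← mul_pow, mul_comm T, hxT, one_pow, mul_one]
      rw [hz, map_mul, map_pow, hbq]
      exact Subring.mul_mem _ (hιmem q) (Subring.pow_mem _ hxmem _)
  have hcomp : ψ.toRingHom.comp (algebraMap R R[X]) = algebraMap R L := RingHom.ext fun r => ψ.commutes r
  refine ⟨fun I hI => ?_, fun J hJ => ?_⟩
  · obtain ⟨hin, hsur⟩ := hext I hI
    have hcm : (I.map ψ.toRingHom).comap ψ.toRingHom = I := le_antisymm (fun a ha => hin a ha) Ideal.le_comap_map
    refine ⟨hcm, ?_, Ideal.quotientMap_injective' (le_of_eq hcm), fun y => ?_⟩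
    · rw [← hcomp, ← Ideal.map_map, ← Ideal.map_sup, hI, Ideal.map_top]
    · obtain ⟨z, rfl⟩ := Ideal.Quotient.mk_surjective y
      obtain ⟨a, ha⟩ := hsur z
      exact ⟨Ideal.Quotient.mk I a, by rw [Ideal.quotientMap_mk, Ideal.Quotient.eq, ← neg_mem_iff, neg_sub]; exact ha⟩
  · set M := (IsLocalRing.maximalIdeal R).map (algebraMap R B) with hM
    have hMX : M = ((IsLocalRing.maximalIdeal R).map (algebraMap R R[X])).map (algebraMap R[X] B) := by
      rw [hM, Ideal.map_map, ← IsScalarTower.algebraMap_eq]
    have htM : ∀ y : B, t * y ∈ M → y ∈ M := by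
      intro y hy
      rw [hMX] at hy ⊢
      refine Groth.Calg7.HensPoly.isSMulRegular_quotient _ ?_ hy
      rw [isSMulRegular_iff_right_eq_zero_of_smul]
      intro z hz
      obtain ⟨p, rfl⟩ := Ideal.Quotient.mk_surjective z
      rw [← Ideal.Quotient.mk_eq_mk, ← Submodule.Quotient.mk_smul, Submodule.Quotient.mk_eq_zero,
        smul_eq_mul, hres, Polynomial.map_mul, Polynomial.map_X] at hz
      rw [Ideal.Quotient.eq_zero_iff_mem, hres]
      exact (mul_eq_zero.1 hz).resolve_left Polynomial.X_ne_zero
    have htM' : ∀ (k : ℕ) (y : B), t ^ k * y ∈ M → y ∈ M := by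
      intro k
      induction k with
      | zero => intro y hy; simpa using hy
      | succ k ih => intro y hy; exact htM y (ih _ (by rwa [pow_succ, mul_assoc] at hy))
    have h1 : (1 : L) ∈ J ⊔ (IsLocalRing.maximalIdeal R).map (algebraMap R L) := hJ ▸ Submodule.mem_top
    obtain ⟨z, hz, w, hw, hzw⟩ := Submodule.mem_sup.1 h1
    obtain ⟨⟨b, ⟨_, n, rfl⟩⟩, hb⟩ := IsLocalization.surj (Submonoid.powers t) z
    simp only at hb
    have hbJ : algebraMap B L b ∈ J := by rw [← hb]; exact Ideal.mul_mem_right _ _ hz
    have hbt : b - t ^ n ∈ M := by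
      have h2 : algebraMap B L (b - t ^ n) ∈ M.map (algebraMap B L) := by
        rw [hM, Ideal.map_map, ← IsScalarTower.algebraMap_eq, map_sub, ← hb,
          show z * algebraMap B L (t ^ n) - algebraMap B L (t ^ n) = -(w * algebraMap B L (t ^ n)) by
            linear_combination (algebraMap B L (t ^ n)) * hzw]
        exact neg_mem (Ideal.mul_mem_right _ _ hw)
      obtain ⟨_, ⟨k, rfl⟩, hk⟩ := (IsLocalization.algebraMap_mem_map_algebraMap_iff (Submonoid.powers t) L M _).1 h2
      exact htM' k _ hk
    have hbM : b ∉ M := fun h => by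
      have h3 : t ^ n * 1 ∈ M := by rw [mul_one]; simpa using sub_mem h hbt
      obtain ⟨ε, hε0, -⟩ := Groth.Calg7.HensPoly.exists_constCoeff hB
      have h4 := Ideal.mem_map_of_mem ε (htM' n 1 h3)
      rw [map_one, hMX, Ideal.map_map, Ideal.map_map] at h4
      have h5 : (ε.comp (algebraMap R[X] B)).comp (algebraMap R R[X]) = RingHom.id R :=
        RingHom.ext fun r => by simp [hε0]
      rw [h5, Ideal.map_id] at h4
      exact (IsLocalRing.maximalIdeal.isMaximal R).ne_top ((Ideal.eq_top_iff_one _).2 h4)
    obtain ⟨P, v, hP, hPv⟩ := Groth.Calg7.HensPoly.exists_dist hB b hbM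
    have hPJ : ι P ∈ J := by
      rw [hι]
      have h6 := Ideal.mul_mem_right (algebraMap B L ↑v⁻¹) J hbJ
      rwa [← map_mul, hPv, Units.mul_inv_cancel_right] at h6
    have hg1 : (P.reflect P.natDegree).map (IsLocalRing.residue R) = 1 := by
      ext k
      rw [Polynomial.coeff_map, Polynomial.coeff_reflect, Polynomial.coeff_one]
      rcases eq_or_ne k 0 with rfl | hk
      · rw [if_pos rfl, Polynomial.revAt_le (Nat.zero_le _), Nat.sub_zero, hP.1.coeff_natDegree, map_one]
      · rw [if_neg hk, IsLocalRing.residue_eq_zero_iff]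
        rcases le_or_gt k P.natDegree with hkd | hkd
        · rw [Polynomial.revAt_le hkd]; exact hP.2 _ (by omega)
        · rw [show Polynomial.revAt P.natDegree k = k from Polynomial.revAt_eq_self_of_lt hkd,
            Polynomial.coeff_eq_zero_of_natDegree_lt hkd]
          exact zero_mem _
    have hgJ : P.reflect P.natDegree ∈ J.comap ψ.toRingHom := by
      show ψ (P.reflect P.natDegree) ∈ J
      rw [key P.natDegree _ ((Polynomial.natDegree_reflect_le (N := P.natDegree) (p := P)).trans
        (max_le le_rfl le_rfl)), Polynomial.reflect_reflect]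
      exact Ideal.mul_mem_right _ _ hPJ
    have htop : J.comap ψ.toRingHom ⊔ (IsLocalRing.maximalIdeal R).map (algebraMap R R[X]) = ⊤ := by
      rw [Ideal.eq_top_iff_one]
      refine Submodule.mem_sup.2 ⟨_, hgJ, 1 - P.reflect P.natDegree, ?_, by ring⟩
      rw [hres, Polynomial.map_sub, hg1, Polynomial.map_one, sub_self]
    refine ⟨le_antisymm Ideal.map_comap_le fun y hy => ?_, htop⟩
    obtain ⟨a, ha⟩ := (hext _ htop).2 y
    have haJ : a ∈ J.comap ψ.toRingHom := by
      show ψ a ∈ J
      have := sub_mem hy (Ideal.map_comap_le ha)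
      rwa [sub_sub_cancel] at this
    have := add_mem ha (Ideal.mem_map_of_mem ψ.toRingHom haJ)
    simpa using this

end Groth.Agent.S15773
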