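import Groth.Statements.S15774
import Mathlib
import Groth.Agent.Calg7.IdemAway
-- import your own Groth.Agent.* helpers here

set_option autoImplicit false
universe u
open CAlg

namespace Groth.Agent.S15774

/-- The instance A[1/t] → Â[1/t]: if (A, tA) is a Henselian pair and the t-power torsion of A is
bounded, then every idempotent of Â[1/t] (Â the t-adic completion) comes from a unique idempotent of
A[1/t]. -/
theorem result (A : Type u) [CommRing A] (t : A) [HenselianRing A (Ideal.span {t})]
    (hbd : ∃ N : ℕ, ∀ a : A, (∃ m : ℕ, t ^ m * a = 0) → t ^ N * a = 0)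
    (e : Localization.Away (algebraMap A (AdicCompletion (Ideal.span {t}) A) t)) (he : IsIdempotentElem e) :
    ∃! e₀ : Localization.Away t, IsIdempotentElem e₀ ∧ Localization.awayMap (algebraMap A (AdicCompletion (Ideal.span {t}) A)) t e₀ = e := by
  classical
  have hfg : (Ideal.span {t}).FG := Submodule.fg_span_singleton t
  haveI : IsAdicComplete (Ideal.span {t}) (AdicCompletion (Ideal.span {t}) A) :=
    AdicCompletion.isAdicComplete hfg
  haveI hc : IsAdicComplete ((Ideal.span {t}).map (algebraMap A (AdicCompletion (Ideal.span {t}) A))) (AdicCompletion (Ideal.span {t}) A) :=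
    (IsAdicComplete.map_algebraMap_iff _ _).2 inferInstance
  have hmap : ∀ (N : ℕ), ((Ideal.span {t}) ^ N • ⊤ : Submodule A (AdicCompletion (Ideal.span {t}) A)) =
      (Ideal.span {(algebraMap A (AdicCompletion (Ideal.span {t}) A)) t ^ N} : Ideal _).restrictScalars A := by
    intro N
    rw [Ideal.smul_top_eq_map, Ideal.map_pow, Ideal.map_span, Set.image_singleton,
      Ideal.span_singleton_pow]
  refine Groth.Calg7.IdemAway.existsUnique_idem (algebraMap A (AdicCompletion (Ideal.span {t}) A)) t ⟨fun N a ha => ?_, fun N x => ?_⟩ ?_ e he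
  · have h1 : (algebraMap A (AdicCompletion (Ideal.span {t}) A)) a ∈ ((Ideal.span {t}) ^ N • ⊤ : Submodule A (AdicCompletion (Ideal.span {t}) A)) := by
      rw [hmap]; exact ha
    rw [AdicCompletion.pow_smul_top_eq_ker_eval hfg, LinearMap.mem_ker] at h1
    have h2 : a ∈ ((Ideal.span {t}) ^ N • ⊤ : Submodule A A) := by
      rw [← Submodule.Quotient.mk_eq_zero]
      rw [AdicCompletion.algebraMap_apply, Algebra.algebraMap_self, RingHom.id_apply, AdicCompletion.eval_of] at h1
      exact h1
    rw [smul_eq_mul, Ideal.mul_top, Ideal.span_singleton_pow] at h2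
    exact h2
  · obtain ⟨a, ha⟩ := Submodule.Quotient.mk_surjective _ (AdicCompletion.eval (Ideal.span {t}) A N x)
    refine ⟨a, ?_⟩
    have h1 : x - (algebraMap A (AdicCompletion (Ideal.span {t}) A)) a ∈ ((Ideal.span {t}) ^ N • ⊤ : Submodule A (AdicCompletion (Ideal.span {t}) A)) := by
      rw [AdicCompletion.pow_smul_top_eq_ker_eval hfg, LinearMap.mem_ker, map_sub, sub_eq_zero, ← ha]
      rw [AdicCompletion.algebraMap_apply, Algebra.algebraMap_self, RingHom.id_apply, AdicCompletion.eval_of]
      rfl
    rw [hmap] at h1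
    exact h1
  · exact IsAdicComplete.le_jacobson_bot _ (Ideal.mem_map_of_mem _ (Ideal.mem_span_singleton_self t))

end Groth.Agent.S15774
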