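import Groth.Statements.S15778
import Mathlib
import Groth.Agent.Calg7.DenseAway
-- import your own Groth.Agent.* helpers here

set_option autoImplicit false
universe u
open TensorProduct
open CAlg

namespace Groth.Agent.S15778

/-- The instance A[1/t] → Â[1/t] for modules: let t lie in the Jacobson radical of A (a Zariski pair (A,
tA)) with bounded t-power torsion, Â the t-adic completion, and give Â[1/t] the A[1/t]-algebra
structure of the canonical map. Then finitely generated projective A[1/t]-modules isomorphic over
Â[1/t] are isomorphic, and every stably free Â[1/t]-module is extended from a stably free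
A[1/t]-module. (The published statement also asserts injectivity on H¹ for inner forms of GL_n; this
row omits that clause.) -/
theorem result (A : Type u) [CommRing A]
    (t : A) (ht : t ∈ (⊥ : Ideal A).jacobson)
    (hbd : ∃ N : ℕ, ∀ a : A, (∃ m : ℕ, t ^ m * a = 0) → t ^ N * a = 0)
    [Algebra (Localization.Away t) (Localization.Away (algebraMap A (AdicCompletion (Ideal.span {t}) A) t))]
    (halg : algebraMap (Localization.Away t) (Localization.Away (algebraMap A (AdicCompletion (Ideal.span {t}) A) t)) = Localization.awayMap (algebraMap A (AdicCompletion (Ideal.span {t}) A)) t) :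
    (∀ (M N : Type u) [AddCommGroup M] [Module (Localization.Away t) M] [Module.Finite (Localization.Away t) M] [Module.Projective (Localization.Away t) M]
        [AddCommGroup N] [Module (Localization.Away t) N] [Module.Finite (Localization.Away t) N] [Module.Projective (Localization.Away t) N],
        Nonempty ((Localization.Away (algebraMap A (AdicCompletion (Ideal.span {t}) A) t)) ⊗[Localization.Away t] M ≃ₗ[Localization.Away (algebraMap A (AdicCompletion (Ideal.span {t}) A) t)] (Localization.Away (algebraMap A (AdicCompletion (Ideal.span {t}) A) t)) ⊗[Localization.Away t] N) → Nonempty (M ≃ₗ[Localization.Away t] N)) ∧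
    (∀ (M' : Type u) [AddCommGroup M'] [Module (Localization.Away (algebraMap A (AdicCompletion (Ideal.span {t}) A) t)) M'] [Module.Finite (Localization.Away (algebraMap A (AdicCompletion (Ideal.span {t}) A) t)) M'],
        (∃ n m : ℕ, Nonempty ((M' × (Fin n → Localization.Away (algebraMap A (AdicCompletion (Ideal.span {t}) A) t))) ≃ₗ[Localization.Away (algebraMap A (AdicCompletion (Ideal.span {t}) A) t)] (Fin m → Localization.Away (algebraMap A (AdicCompletion (Ideal.span {t}) A) t)))) →
        ∃ (M : Type u) (_ : AddCommGroup M) (_ : Module (Localization.Away t) M), Module.Finite (Localization.Away t) M ∧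
          (∃ n m : ℕ, Nonempty ((M × (Fin n → Localization.Away t)) ≃ₗ[Localization.Away t] (Fin m → Localization.Away t))) ∧
          Nonempty ((Localization.Away (algebraMap A (AdicCompletion (Ideal.span {t}) A) t)) ⊗[Localization.Away t] M ≃ₗ[Localization.Away (algebraMap A (AdicCompletion (Ideal.span {t}) A) t)] M')) := by
  classical
  have hfg : (Ideal.span {t}).FG := Submodule.fg_span_singleton t
  haveI : IsAdicComplete (Ideal.span {t}) (AdicCompletion (Ideal.span {t}) A) :=
    AdicCompletion.isAdicComplete hfg
  haveI hc : IsAdicComplete ((Ideal.span {t}).map (algebraMap A (AdicCompletion (Ideal.span {t}) A)))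
      (AdicCompletion (Ideal.span {t}) A) :=
    (IsAdicComplete.map_algebraMap_iff _ _).2 inferInstance
  have hmap : ∀ (N : ℕ), ((Ideal.span {t}) ^ N • ⊤ : Submodule A (AdicCompletion (Ideal.span {t}) A)) =
      (Ideal.span {algebraMap A (AdicCompletion (Ideal.span {t}) A) t ^ N} : Ideal _).restrictScalars A := by
    intro N
    rw [Ideal.smul_top_eq_map, Ideal.map_pow, Ideal.map_span, Set.image_singleton,
      Ideal.span_singleton_pow]
  have hiso : Groth.Calg7.IdemAway.IsoModPowers (algebraMap A (AdicCompletion (Ideal.span {t}) A)) t := by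
    refine ⟨fun N a ha => ?_, fun N x => ?_⟩
    · have h1 : algebraMap A (AdicCompletion (Ideal.span {t}) A) a ∈
          ((Ideal.span {t}) ^ N • ⊤ : Submodule A (AdicCompletion (Ideal.span {t}) A)) := by
        rw [hmap]; exact ha
      rw [AdicCompletion.pow_smul_top_eq_ker_eval hfg, LinearMap.mem_ker] at h1
      have h2 : a ∈ ((Ideal.span {t}) ^ N • ⊤ : Submodule A A) := by
        rw [← Submodule.Quotient.mk_eq_zero]
        rw [AdicCompletion.algebraMap_apply, Algebra.algebraMap_self, RingHom.id_apply, AdicCompletion.eval_of] at h1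
        exact h1
      rw [smul_eq_mul, Ideal.mul_top, Ideal.span_singleton_pow] at h2
      exact h2
    · obtain ⟨a, ha⟩ := Submodule.Quotient.mk_surjective _ (AdicCompletion.eval (Ideal.span {t}) A N x)
      refine ⟨a, ?_⟩
      have h1 : x - algebraMap A (AdicCompletion (Ideal.span {t}) A) a ∈
          ((Ideal.span {t}) ^ N • ⊤ : Submodule A (AdicCompletion (Ideal.span {t}) A)) := by
        rw [AdicCompletion.pow_smul_top_eq_ker_eval hfg, LinearMap.mem_ker, map_sub, sub_eq_zero, ← ha]
        rw [AdicCompletion.algebraMap_apply, Algebra.algebraMap_self, RingHom.id_apply, AdicCompletion.eval_of]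
        rfl
      rw [hmap] at h1
      exact h1
  have ht' : algebraMap A (AdicCompletion (Ideal.span {t}) A) t ∈ (⊥ : Ideal (AdicCompletion (Ideal.span {t}) A)).jacobson :=
    IsAdicComplete.le_jacobson_bot _ (Ideal.mem_map_of_mem _ (Ideal.mem_span_singleton_self t))
  let Λ := Groth.Calg7.DenseAway.lattice (algebraMap A (AdicCompletion (Ideal.span {t}) A)) t hiso ht ht' halg
  refine ⟨fun M N _ _ _ _ _ _ _ _ ⟨E⟩ => Groth.Calg7.DenseApprox.nonempty_equiv Λ E, ?_⟩
  intro M' _ _ _ ⟨n, m, ⟨e⟩⟩
  obtain ⟨M, i1, i2, hfin, he, hb⟩ := Groth.Calg7.DenseApprox.exists_stablyFree Λ M' e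
  exact ⟨M, i1, i2, hfin, ⟨n, m, he⟩, hb⟩

end Groth.Agent.S15778
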