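import Groth.Statements.S15779
import Mathlib
import Groth.Agent.Calg7.MonicLoc
-- import your own Groth.Agent.* helpers here

set_option autoImplicit false
universe u
open Polynomial
open CAlg

namespace Groth.Agent.S15779

/-- For a Henselian local ring (R, m), L the localisation of R[t] at the monoid generated by t and the
polynomials with constant term 1, and ψ : R[s] → L the R-algebra map with s ↦ t⁻¹, extension and
contraction along ψ are mutually inverse bijections between the ideals of R[s] comaximal with mR[s]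
and the ideals of L comaximal with mL, and R[s]/I → L/IL is bijective for every such I. -/
theorem result (R : Type u) [CommRing R]
    [HenselianLocalRing R] (L : Type u) [CommRing L] [Algebra R[X] L]
    [IsLocalization (Submonoid.closure ({f : R[X] | f.coeff 0 = 1} ∪ {X})) L]
    [Algebra R L] [IsScalarTower R R[X] L]
    (ψ : R[X] →ₐ[R] L) (hψ : ψ X * algebraMap R[X] L X = 1) :
    (∀ I : Ideal R[X], I ⊔ (IsLocalRing.maximalIdeal R).map (algebraMap R R[X]) = ⊤ →
        (I.map ψ.toRingHom).comap ψ.toRingHom = I ∧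
        I.map ψ.toRingHom ⊔ (IsLocalRing.maximalIdeal R).map (algebraMap R L) = ⊤ ∧
        Function.Bijective (Ideal.quotientMap (I.map ψ.toRingHom) ψ.toRingHom Ideal.le_comap_map)) ∧
    (∀ J : Ideal L, J ⊔ (IsLocalRing.maximalIdeal R).map (algebraMap R L) = ⊤ →
        (J.comap ψ.toRingHom).map ψ.toRingHom = J ∧
        J.comap ψ.toRingHom ⊔ (IsLocalRing.maximalIdeal R).map (algebraMap R R[X]) = ⊤) := by
  classical
  set M := Submonoid.closure ({f : R[X] | f.coeff 0 = 1} ∪ {X}) with hM
  set T := algebraMap R[X] L X with hT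
  set x := ψ X with hx
  have hxT : x * T = 1 := hψ
  have hev : ∀ p : R[X], Polynomial.eval₂ (algebraMap R L) T p = algebraMap R[X] L p := fun p => by
    rw [← Polynomial.aeval_def]
    exact DFunLike.congr_fun (Polynomial.algHom_ext (f := Polynomial.aeval T)
      (g := IsScalarTower.toAlgHom R R[X] L) (by simp [hT])) p
  haveI : Invertible x := ⟨T, by rw [mul_comm]; exact hxT, hxT⟩
  have hinv : ⅟x = T := invOf_eq_right_inv hxT
  have hψe : ∀ a : R[X], ψ a = Polynomial.eval₂ (algebraMap R L) x a := fun a => by
    rw [← Polynomial.aeval_def, hx, Polynomial.aeval_algHom_apply, Polynomial.aeval_X_left_apply]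
  have key : ∀ (N : ℕ) (a : R[X]), a.natDegree ≤ N →
      ψ a = algebraMap R[X] L (a.reflect N) * x ^ N := by
    intro N a ha
    rw [hψe, ← Polynomial.eval₂_reflect_mul_pow (algebraMap R L) x N a ha, hinv, hev]
  have hTpow : ∀ N : ℕ, T ^ N * x ^ N = 1 := fun N => by rw [← mul_pow, mul_comm, hxT, one_pow]
  have key' : ∀ (N : ℕ) (f : R[X]), f.natDegree ≤ N →
      algebraMap R[X] L f = ψ (f.reflect N) * T ^ N := by
    intro N f hf
    have h := key N (f.reflect N) ((Polynomial.natDegree_reflect_le (N := N) (p := f)).trans (max_le le_rfl hf))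
    rw [Polynomial.reflect_reflect] at h
    rw [h, mul_assoc, mul_comm (x ^ N), hTpow, mul_one]
  have hmem : ∀ m ∈ M, ∃ (k : ℕ) (g : R[X]), g.coeff 0 = 1 ∧ m = X ^ k * g := by
    intro m hm
    induction hm using Submonoid.closure_induction with
    | mem m hm =>
      rcases hm with hm | hm
      · exact ⟨0, m, hm, by simp⟩
      · exact ⟨1, 1, by simp, by rw [Set.mem_singleton_iff.1 hm]; simp⟩
    | one => exact ⟨0, 1, by simp, by simp⟩
    | mul a b _ _ ha hb =>
      obtain ⟨k, g, hg, rfl⟩ := ha
      obtain ⟨l, f, hf, rfl⟩ := hb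
      exact ⟨k + l, g * f, by simp [Polynomial.mul_coeff_zero, hg, hf], by ring⟩
  have hmon : ∀ (g : R[X]) (N : ℕ), g.coeff 0 = 1 → g.natDegree ≤ N → (g.reflect N).Monic := by
    intro g N hg hN
    refine Polynomial.monic_of_natDegree_le_of_coeff_eq_one N
      ((Polynomial.natDegree_reflect_le (N := N) (p := g)).trans (max_le le_rfl hN)) ?_
    rw [Polynomial.coeff_reflect, Polynomial.revAt_le le_rfl, Nat.sub_self, hg]
  have hloc : Groth.Calg7.MonicLoc.IsMonicLoc ψ.toRingHom := by
    refine ⟨fun b hb => ?_, fun z => ?_, fun a ha => ?_⟩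
    · show IsUnit (ψ b)
      rw [key b.natDegree b le_rfl]
      refine IsUnit.mul (IsLocalization.map_units (M := M) L ⟨_, Submonoid.subset_closure (Or.inl ?_)⟩)
        ((IsUnit.of_mul_eq_one _ hxT).pow _)
      show (b.reflect b.natDegree).coeff 0 = 1
      rw [Polynomial.coeff_reflect, Polynomial.revAt_le (Nat.zero_le _), Nat.sub_zero, hb.coeff_natDegree]
    · obtain ⟨⟨f, ⟨m, hm⟩⟩, hz⟩ := IsLocalization.surj M z
      obtain ⟨k, g, hg, rfl⟩ := hmem m hm
      simp only [map_mul, map_pow] at hz
      rw [key' f.natDegree f le_rfl, key' g.natDegree g le_rfl, ← hT] at hz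
      refine ⟨f.reflect f.natDegree * X ^ (k + g.natDegree), g.reflect g.natDegree * X ^ f.natDegree,
        (hmon g _ hg le_rfl).mul (Polynomial.monic_X_pow _), ?_⟩
      show z * ψ _ = ψ _
      rw [map_mul, map_mul, map_pow, map_pow, ← hx]
      calc z * (ψ (g.reflect g.natDegree) * x ^ f.natDegree)
          = z * (T ^ k * (ψ (g.reflect g.natDegree) * T ^ g.natDegree)) *
              (x ^ k * x ^ g.natDegree * x ^ f.natDegree) := by
            linear_combination (-(z * ψ (g.reflect g.natDegree) * x ^ f.natDegree)) *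
                (T ^ g.natDegree * x ^ g.natDegree * hTpow k + hTpow g.natDegree)
        _ = ψ (f.reflect f.natDegree) * x ^ (k + g.natDegree) := by
            rw [hz, pow_add]
            linear_combination (ψ (f.reflect f.natDegree) * x ^ k * x ^ g.natDegree) * hTpow f.natDegree
    · change ψ a = 0 at ha
      rw [key a.natDegree a le_rfl] at ha
      have h0 : algebraMap R[X] L (a.reflect a.natDegree) = algebraMap R[X] L 0 := by
        rw [map_zero]
        exact ((IsUnit.of_mul_eq_one _ hxT).pow _).mul_left_eq_zero.1 ha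
      obtain ⟨⟨m, hm⟩, hm0⟩ := (IsLocalization.eq_iff_exists M L).1 h0
      obtain ⟨k, g, hg, rfl⟩ := hmem m hm
      simp only [mul_zero, mul_assoc] at hm0
      rw [(Polynomial.monic_X_pow k).mul_right_eq_zero_iff] at hm0
      refine ⟨g.reflect g.natDegree, hmon g _ hg le_rfl, ?_⟩
      have h1 := Polynomial.reflect_mul g (a.reflect a.natDegree) (F := g.natDegree) (G := a.natDegree)
        le_rfl ((Polynomial.natDegree_reflect_le (N := a.natDegree) (p := a)).trans (max_le le_rfl le_rfl))
      rw [hm0, Polynomial.reflect_zero, Polynomial.reflect_reflect] at h1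
      exact h1.symm
  have hcomp : ψ.toRingHom.comp (algebraMap R R[X]) = algebraMap R L := RingHom.ext fun r => ψ.commutes r
  refine ⟨fun I hI => ?_, fun J hJ => ⟨hloc.map_comap J, hloc.contract J (by rw [hcomp]; exact hJ)⟩⟩
  have := hloc.extend I hI
  rwa [hcomp] at this

end Groth.Agent.S15779
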