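import Groth.Statements.S1578
import Groth.Agent.Divisors.AssocMore

set_option autoImplicit false
universe u
open CategoryTheory CategoryTheory.Limits AlgebraicGeometry
open Divisors

namespace Groth.Agent.S1578

/-- Let M be a module over a ring A, F the associated quasi-coherent module on Spec A, and p a prime of
A. If p is an associated prime of M then p is an associated point of F; the converse holds when p is
finitely generated. -/
theorem result (A : CommRingCat.{u}) (M : ModuleCat.{u} A)
    (p : Spec A) :
    (p.asIdeal ∈ associatedPrimes A M → Curv2.IsAssPoint (tilde M) p) ∧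
    (p.asIdeal.FG → Curv2.IsAssPoint (tilde M) p → p.asIdeal ∈ associatedPrimes A M) := by
  rw [Groth.Divisors.isAssPoint_iff_weak, ← Groth.Divisors.isWeakAssPoint_tilde_iff A M p]
  refine ⟨fun h => ?_, fun hfg h => ?_⟩
  · obtain ⟨hp, m, hm⟩ := h
    refine ⟨m, ?_⟩
    rw [← Ideal.radical_minimalPrimes, ← Submodule.bot_colon', ← hm, Ideal.minimalPrimes_eq_subsingleton_self]
    exact Set.mem_singleton _
  · obtain ⟨hp, m, hm⟩ := Groth.Calg5.mem_ass_of_fg_of_mem_weakAss hfg h
    refine ⟨hp, m, ?_⟩
    rw [Submodule.bot_colon', ← hm]
    exact hp.radical.symm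

end Groth.Agent.S1578
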