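import Groth.Statements.S15782
import Groth.Agent.NeronArea.WeilComponents

set_option autoImplicit false
universe u
open CategoryTheory MonoidalCategory CartesianMonoidalCategory MonObj GrpObj AlgebraicGeometry
open Neron

namespace Groth.Agent.S15782

open Groth.NeronArea.WeilReduction in
/-- Let R ⊆ R' be discrete valuation rings with R complete, R' a finite R-algebra and the residue field
k of R algebraically closed; let k' be the residue field of R' and f the morphism Spec R' → Spec R.
Let N' be a smooth separated R'-group scheme and (W, q) a Weil restriction of N' along f, endowed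
with a group structure for which q is a homomorphism. Say that a group scheme G over a discrete
valuation ring has split reduction when for every rational point x of its special fibre there is a
rational point y of the special fibre lying in the connected component of x (x·y⁻¹ lies in the
identity component) whose order equals the order of the component of x in the component group: for
every n, y^n = 1 if and only if x^n lies in the identity component (for a commutative group scheme
with finitely generated component group over an algebraically closed residue field this says that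
the extension of the component group by the identity component splits). If W has split reduction
then N' has split reduction. (The published statement: if the Weil restriction to K of a
semi-abelian variety G over a finite separable extension L of K has split reduction then so does G,
reduction being taken on Néron lft-models; this row states the implication for any smooth separated
group scheme N' over R' and a Weil restriction W of it.) -/
theorem result
    (R : Type u) [CommRing R] [IsDomain R] [IsDiscreteValuationRing R]
    [IsAdicComplete (IsLocalRing.maximalIdeal R) R] [IsAlgClosed (IsLocalRing.ResidueField R)]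
    (R' : Type u) [CommRing R'] [IsDomain R'] [IsDiscreteValuationRing R'] [Algebra R R']
    [Module.Finite R R'] [FaithfulSMul R R']
    (N' : Over (Spec (CommRingCat.of R'))) [GrpObj N'] [Smooth N'.hom] [IsSeparated N'.hom]
    (W : Over (Spec (CommRingCat.of R))) [GrpObj W]
    (q : Red.bc (Spec.map (CommRingCat.ofHom (algebraMap R R'))) W ⟶ N') [IsMonHom q]
    (hW : WeilRes.IsWeilRes (Spec.map (CommRingCat.ofHom (algebraMap R R'))) N' W q)
    (hsplit : ∀ x : (Over.mk (Spec.map (CommRingCat.ofHom (IsLocalRing.residue R)))) ⟶ W, ∃ y : (Over.mk (Spec.map (CommRingCat.ofHom (IsLocalRing.residue R)))) ⟶ W,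
      (x * y⁻¹).left.base (IsLocalRing.closedPoint (IsLocalRing.ResidueField R)) ∈ SGA3x.neutralSet W ∧
        ∀ n : ℕ, y ^ n = 1 ↔ (x ^ n).left.base (IsLocalRing.closedPoint (IsLocalRing.ResidueField R)) ∈ SGA3x.neutralSet W)
    (x' : (Over.mk (Spec.map (CommRingCat.ofHom (IsLocalRing.residue R')))) ⟶ N') :
    ∃ y' : (Over.mk (Spec.map (CommRingCat.ofHom (IsLocalRing.residue R')))) ⟶ N',
      (x' * y'⁻¹).left.base (IsLocalRing.closedPoint (IsLocalRing.ResidueField R')) ∈ SGA3x.neutralSet N' ∧
        ∀ n : ℕ, y' ^ n = 1 ↔ (x' ^ n).left.base (IsLocalRing.closedPoint (IsLocalRing.ResidueField R')) ∈ SGA3x.neutralSet N' := by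
  obtain ⟨hS, hac⟩ := small_of_dvr (R := R) (R' := R')
  haveI := hac
  obtain ⟨ε, -⟩ := exists_eps R R'
  obtain ⟨w, rfl⟩ := exists_lift_point hS hW x'
  obtain ⟨y, hy, hord⟩ := hsplit (ε.inv ≫ w)
  have hw : ε.hom ≫ ε.inv ≫ w = w := Iso.hom_inv_id_assoc _ _
  have hdiv : img (w * (ε.hom ≫ y)⁻¹).left ∈ SGA3x.neutralSet W := by
    rw [← hw, ← GrpObj.comp_inv, ← MonObj.comp_mul, img_eps]
    exact hy
  refine ⟨red q (Tκ R') (ε.hom ≫ y), neutral_div_red hW _ _ hdiv, fun n => ?_⟩
  have hn : img (w ^ n).left ∈ SGA3x.neutralSet W ↔ y ^ n = 1 := by
    rw [hord n, ← hw, ← MonObj.comp_pow, img_eps, hw]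
  have hn' : img (red q (Tκ R') w ^ n).left ∈ SGA3x.neutralSet N' ↔ y ^ n = 1 := by
    rw [← red_pow, ← neutral_red_iff hS hW, hn]
  refine ⟨fun h => ?_, fun h => ?_⟩
  · refine hn'.2 (hn.1 ?_)
    rw [neutral_pow_iff hS hdiv n, neutral_red_iff hS hW,
      show red q (Tκ R') ((ε.hom ≫ y) ^ n) = 1 from (red_pow q (Tκ R') (ε.hom ≫ y) n).trans h,
      ← red_one q, ← neutral_red_iff hS hW, mem_neutral_iff hS]
    exact mem_connectedComponentIn (img_mem_fib hS _)
  · exact (red_pow q (Tκ R') (ε.hom ≫ y) n).symm.trans
      (by rw [← MonObj.comp_pow, hn'.1 h, MonObj.comp_one, red_one]; rfl)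

end Groth.Agent.S15782
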