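import Groth.Statements.S15783
import Groth.Agent.NeronArea.WeilComponents

set_option autoImplicit false
universe u
open CategoryTheory MonoidalCategory CartesianMonoidalCategory MonObj GrpObj AlgebraicGeometry
open Neron

namespace Groth.Agent.S15783

open Groth.NeronArea.WeilReduction in
/-- Let R ⊆ R' be discrete valuation rings with R complete, R' a finite R-algebra and the residue field
k of R algebraically closed of characteristic p > 0; let k' be the residue field of R' and f the
morphism Spec R' → Spec R. Let N' be a smooth separated R'-group scheme and (W, q) a Weil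
restriction of N' along f, endowed with a group structure for which q is a homomorphism. Say that a
group scheme G over a discrete valuation ring has totally not split reduction when no element of
order p of the component group of its special fibre lifts to a rational point of order p: for every
rational point x of the special fibre with x^p in the identity component and x outside it, no
rational point y in the connected component of x (x·y⁻¹ in the identity component) satisfies y^p =
1. If N' has totally not split reduction then W has totally not split reduction. (The published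
statement: if a semi-abelian variety G over a finite separable extension L of K has totally not
split reduction then so does its Weil restriction to K, reduction being taken on Néron lft-models;
this row states the implication for any smooth separated group scheme N' over R' and a Weil
restriction W of it.) -/
theorem result
    (R : Type u) [CommRing R] [IsDomain R] [IsDiscreteValuationRing R]
    [IsAdicComplete (IsLocalRing.maximalIdeal R) R] [IsAlgClosed (IsLocalRing.ResidueField R)]
    (R' : Type u) [CommRing R'] [IsDomain R'] [IsDiscreteValuationRing R'] [Algebra R R']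
    [Module.Finite R R'] [FaithfulSMul R R']
    (N' : Over (Spec (CommRingCat.of R'))) [GrpObj N'] [Smooth N'.hom] [IsSeparated N'.hom]
    (p : ℕ) [Fact p.Prime] [CharP (IsLocalRing.ResidueField R) p]
    (W : Over (Spec (CommRingCat.of R))) [GrpObj W]
    (q : Red.bc (Spec.map (CommRingCat.ofHom (algebraMap R R'))) W ⟶ N') [IsMonHom q]
    (hW : WeilRes.IsWeilRes (Spec.map (CommRingCat.ofHom (algebraMap R R'))) N' W q)
    (htns : ∀ x' : (Over.mk (Spec.map (CommRingCat.ofHom (IsLocalRing.residue R')))) ⟶ N', (x' ^ p).left.base (IsLocalRing.closedPoint (IsLocalRing.ResidueField R')) ∈ SGA3x.neutralSet N' →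
      x'.left.base (IsLocalRing.closedPoint (IsLocalRing.ResidueField R')) ∉ SGA3x.neutralSet N' →
        ∀ y' : (Over.mk (Spec.map (CommRingCat.ofHom (IsLocalRing.residue R')))) ⟶ N', (x' * y'⁻¹).left.base (IsLocalRing.closedPoint (IsLocalRing.ResidueField R')) ∈ SGA3x.neutralSet N' → y' ^ p ≠ 1)
    (x : (Over.mk (Spec.map (CommRingCat.ofHom (IsLocalRing.residue R)))) ⟶ W) (hxp : (x ^ p).left.base (IsLocalRing.closedPoint (IsLocalRing.ResidueField R)) ∈ SGA3x.neutralSet W)
    (hx : x.left.base (IsLocalRing.closedPoint (IsLocalRing.ResidueField R)) ∉ SGA3x.neutralSet W)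
    (y : (Over.mk (Spec.map (CommRingCat.ofHom (IsLocalRing.residue R)))) ⟶ W) (hy : (x * y⁻¹).left.base (IsLocalRing.closedPoint (IsLocalRing.ResidueField R)) ∈ SGA3x.neutralSet W) :
    y ^ p ≠ 1 := by
  obtain ⟨hS, hac⟩ := small_of_dvr (R := R) (R' := R')
  haveI := hac
  obtain ⟨ε, -⟩ := exists_eps R R'
  intro hy1
  refine htns (red q (Tκ R') (ε.hom ≫ x)) ?_ ?_ (red q (Tκ R') (ε.hom ≫ y)) ?_ ?_
  · show img (red q (Tκ R') (ε.hom ≫ x) ^ p).left ∈ _
    rw [← red_pow, ← neutral_red_iff hS hW, ← MonObj.comp_pow, img_eps]
    exact hxp
  · show img (red q (Tκ R') (ε.hom ≫ x)).left ∉ _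
    rw [← neutral_red_iff hS hW, img_eps]
    exact hx
  · refine neutral_div_red hW _ _ ?_
    rw [← GrpObj.comp_inv, ← MonObj.comp_mul, img_eps]
    exact hy
  · exact (red_pow q (Tκ R') (ε.hom ≫ y) p).symm.trans
      (by rw [← MonObj.comp_pow, hy1, MonObj.comp_one, red_one]; rfl)

end Groth.Agent.S15783
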