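import Groth.Statements.S15784
import Mathlib.Tactic


set_option autoImplicit false
universe u
open Neron

namespace Groth.Agent.S15784

/-- Let O be a discrete valuation ring with fraction field L and uniformizer ϖ', let ϖ be an element of
the maximal ideal of O, let q = u·ϖ'^n with u a unit of O and n ≥ 1, and let m ≥ 1 be a divisor of
n. Then the following are equivalent: (i) there is a nonzero element z = w·ϖ'^a of L, with w a unit
of O and a an integer congruent to n/m modulo n, and an integer j such that z^m·q^j lies in 1 + ϖO;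
(ii) ϖ'^n/q is an m-th power in the group of units of O/ϖO, that is, u·(y^m + ϖ·r) = 1 for some y, r
∈ O. (The published statement phrases (i) geometrically, as the existence of a point of order m in
the special fibre of the Néron model of the Weil restriction of the Tate curve with parameter q from
L down to a subfield over which L is totally ramified with ϖ a uniformizer of the subfield, whose
image in the component group also has order m; this row states the equivalence between (i) and (ii)
that the printed argument establishes.) -/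
theorem result
    (O : Type u) [CommRing O] [IsDomain O] [IsDiscreteValuationRing O]
    (L : Type u) [Field L] [Algebra O L] [IsFractionRing O L]
    (ϖ' : O) (hϖ' : Irreducible ϖ') (ϖ : O) (hϖ : ϖ ∈ IsLocalRing.maximalIdeal O)
    (n : ℕ) (hn : 1 ≤ n) (u : Oˣ) (q : O) (hq : q = u * ϖ' ^ n)
    (m : ℕ) (hm : 1 ≤ m) (hmn : m ∣ n) :
    (∃ (w : Oˣ) (a j t : ℤ) (r : O), a = (n / m : ℕ) + t * n ∧
        (algebraMap O L w * algebraMap O L ϖ' ^ a) ^ m * algebraMap O L q ^ j = algebraMap O L (1 + ϖ * r)) ↔
      ∃ y r : O, (u : O) * (y ^ m + ϖ * r) = 1 := by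
  have hmL : algebraMap O L ϖ' ≠ 0 :=
    (map_ne_zero_iff _ (IsFractionRing.injective O L)).2 hϖ'.ne_zero
  obtain ⟨k, hk⟩ := hmn
  have hkm : n / m = k := by rw [hk]; exact Nat.mul_div_cancel_left k (by omega)
  let φ : Oˣ →* Lˣ := Units.map (algebraMap O L).toMonoidHom
  have hφ : ∀ x : Oˣ, ((φ x : Lˣ) : L) = algebraMap O L x := fun _ => rfl
  have hcalc : ∀ (w : Oˣ) (a j : ℤ),
      (algebraMap O L w * algebraMap O L ϖ' ^ a) ^ m * algebraMap O L q ^ j =
        algebraMap O L ((w ^ m * u ^ j : Oˣ) : O) * algebraMap O L ϖ' ^ (a * m + n * j) := by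
    intro w a j
    rw [← hφ (w ^ m * u ^ j), map_mul φ, map_pow φ, map_zpow φ, Units.val_mul, Units.val_pow_eq_pow_val,
      Units.val_zpow_eq_zpow_val, hφ, hφ, hq, map_mul, map_pow, mul_zpow, mul_pow, zpow_add₀ hmL,
      zpow_mul, zpow_mul, zpow_natCast, zpow_natCast]
    ring
  constructor
  · rintro ⟨w, a, j, t, r, ha, hj⟩
    have h1 : IsUnit (1 + ϖ * r) := by
      have h := IsLocalRing.isUnit_one_sub_self_of_mem_nonunits (-(ϖ * r))
        ((IsLocalRing.mem_maximalIdeal _).1 (neg_mem (Ideal.mul_mem_right r _ hϖ)))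
      simpa using h
    obtain ⟨v, hv⟩ := h1
    rw [hcalc, ← hv] at hj
    have hzero : ∀ (N : ℕ) (x y : Oˣ), algebraMap O L x * algebraMap O L ϖ' ^ N = algebraMap O L y → N = 0 := by
      intro N x y h
      rw [← map_pow, ← map_mul] at h
      have := IsFractionRing.injective O L h
      by_contra hN
      exact hϖ'.not_isUnit ((isUnit_pow_iff hN).1 (isUnit_of_mul_isUnit_right (this ▸ y.isUnit)))
    obtain ⟨N, hN | hN⟩ := Int.eq_nat_or_neg (a * m + n * j)
    all_goals rw [hN] at hj
    on_goal 1 => have hN0 : N = 0 := hzero N _ _ (by rwa [zpow_natCast] at hj)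
    on_goal 2 => have hN0 : N = 0 := hzero N _ _ (by
      rw [zpow_neg, zpow_natCast, ← div_eq_mul_inv, div_eq_iff (pow_ne_zero _ hmL)] at hj
      exact hj.symm)
    all_goals
      subst hN0
      simp only [Nat.cast_zero, neg_zero] at hN
      have hj' : j = -1 + (-(t * m)) := by
        have : (n : ℤ) * (1 + t * m + j) = 0 := by
          rw [← hN, ha, hkm, hk]; push_cast; ring
        rcases mul_eq_zero.1 this with h | h <;> omega
      simp only [Nat.cast_zero, neg_zero, zpow_zero, mul_one] at hj
      have he : w ^ m * u ^ j = v := Units.ext (IsFractionRing.injective O L hj)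
      refine ⟨((w⁻¹ * u ^ t : Oˣ) : O), r * ((w⁻¹ * u ^ t : Oˣ) : O) ^ m, ?_⟩
      have : u * ((w⁻¹ * u ^ t) ^ m * v) = 1 := by
        rw [← he, hj', mul_pow, ← zpow_natCast (u ^ t) m, ← zpow_mul, zpow_add, zpow_neg, zpow_neg, zpow_one]
        rw [inv_pow]
        simp [mul_comm, mul_left_comm, mul_assoc]
      have h2 := congrArg Units.val this
      simp only [Units.val_mul, Units.val_pow_eq_pow_val, Units.val_one, hv] at h2
      simp only [Units.val_mul]
      rw [← h2]; ring
  · rintro ⟨y, r, hy⟩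
    have hyu : IsUnit (y ^ m) := by
      have h := IsLocalRing.isUnit_one_sub_self_of_mem_nonunits _
        ((IsLocalRing.mem_maximalIdeal _).1 (Ideal.mul_mem_left _ (u : O) (Ideal.mul_mem_right r _ hϖ)))
      rw [show 1 - (u : O) * (ϖ * r) = u * y ^ m by linear_combination (-1 : O) * hy] at h
      exact isUnit_of_mul_isUnit_right h
    obtain ⟨Y, rfl⟩ := (isUnit_pow_iff (by omega : m ≠ 0)).1 hyu
    refine ⟨Y⁻¹, k, -1, 0, r * ((Y ^ m)⁻¹ : Oˣ), by simp [hkm], ?_⟩
    rw [hcalc]
    have : (k : ℤ) * m + n * -1 = 0 := by rw [hk]; push_cast; ring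
    rw [this, zpow_zero, mul_one]
    congr 1
    have h3 : ((Y⁻¹ ^ m * u ^ (-1 : ℤ) : Oˣ) : O) = ((Y ^ m)⁻¹ * u⁻¹ : Oˣ) := by simp [inv_pow]
    rw [h3, Units.val_mul]
    have hu : ((u⁻¹ : Oˣ) : O) = (Y : O) ^ m + ϖ * r := by
      rw [← one_mul ((Y : O) ^ m + ϖ * r), ← u.inv_mul, mul_assoc, hy, mul_one]
    rw [hu, mul_add, ← Units.val_pow_eq_pow_val Y m, Units.inv_mul]
    ring

end Groth.Agent.S15784
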