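import Groth.Statements.S15791
import Mathlib

set_option autoImplicit false
universe u v
open WildQuot

namespace Groth.Agent.S15791

/-- Let `A` be a regular local ring of Krull dimension `n` with maximal ideal `m`, let a finite group
`G` of order `g` act on `A` by ring automorphisms, and let `u_1, …, u_n` be an admissible regular
system of parameters: for every choice `σ_1, …, σ_n ∈ G`, the elements `σ_1 u_1, …, σ_n u_n`
generate `m`. With `x_i = ∏_{σ ∈ G} σ u_i` the norms, the length of `A / (x_1, …, x_n)` is at most
`g ^ n`. (The published statement is for a complete regular local ring containing a `G`-fixed field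
of representatives and asserts that the length equals `g ^ n`; this row states the upper bound for
any regular local ring.) -/
theorem result
    (A : Type u) [CommRing A] [IsRegularLocalRing A]
    (G : Type v) [Group G] [Fintype G] [MulSemiringAction G A]
    (n : ℕ) (hn : ringKrullDim A = n) (u : Fin n → A)
    (hu : ∀ τ : Fin n → G,
      Ideal.span (Set.range fun i => τ i • u i) = IsLocalRing.maximalIdeal A) :
    Module.length A (A ⧸ Ideal.span (Set.range fun i => ∏ σ : G, σ • u i)) ≤
      (Fintype.card G ^ n : ℕ) := by
  classical
  -- length bound for one product of elements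
  have hmul : ∀ (J : Ideal A) (x y : A),
      Module.length A (A ⧸ (J ⊔ Ideal.span {x * y})) ≤
        Module.length A (A ⧸ (J ⊔ Ideal.span {x})) + Module.length A (A ⧸ (J ⊔ Ideal.span {y})) := by
    intro J x y
    let P : Submodule A A := J ⊔ Ideal.span {x * y}
    let Q : Submodule A A := J ⊔ Ideal.span {x}
    have hPQ : P ≤ Q := sup_le le_sup_left
      ((Ideal.span_singleton_le_span_singleton.2 (dvd_mul_right x y)).trans le_sup_right)
    let π : (A ⧸ P) →ₗ[A] (A ⧸ Q) := Submodule.mapQ P Q LinearMap.id hPQ
    have hπ : Function.Surjective π := fun z => by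
      obtain ⟨a, rfl⟩ := Submodule.Quotient.mk_surjective Q z
      exact ⟨Submodule.Quotient.mk a, rfl⟩
    have hle : J ⊔ Ideal.span {y} ≤ LinearMap.ker (P.mkQ ∘ₗ LinearMap.mulLeft A x) := by
      rw [LinearMap.ker_comp, Submodule.ker_mkQ]
      refine sup_le (fun z hz => ?_) ?_
      · exact (le_sup_left : J ≤ P) (J.mul_mem_left x hz)
      · rw [Ideal.span_le, Set.singleton_subset_iff]
        exact (le_sup_right : Ideal.span {x * y} ≤ P) (Ideal.mem_span_singleton_self (x * y))
    let μ : (A ⧸ (J ⊔ Ideal.span {y} : Submodule A A)) →ₗ[A] (A ⧸ P) := Submodule.liftQ _ _ hle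
    have hrange : LinearMap.range μ = LinearMap.ker π := by
      rw [Submodule.range_liftQ]
      ext z
      obtain ⟨a, rfl⟩ := Submodule.Quotient.mk_surjective P z
      rw [LinearMap.mem_ker]
      change _ ↔ Submodule.Quotient.mk (p := Q) a = 0
      rw [Submodule.Quotient.mk_eq_zero]
      constructor
      · rintro ⟨b, hb⟩
        have h1 : x * b - a ∈ P := (Submodule.Quotient.eq P).1 hb
        have h2 : x * b ∈ Q := (le_sup_right : Ideal.span {x} ≤ Q) (Ideal.mul_mem_right b _ (Ideal.mem_span_singleton_self x))
        simpa using Q.sub_mem h2 (hPQ h1)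
      · intro ha
        obtain ⟨j, hj, c, hc, rfl⟩ := Submodule.mem_sup.1 ha
        obtain ⟨b, rfl⟩ := Ideal.mem_span_singleton'.1 hc
        refine ⟨b, ?_⟩
        change Submodule.Quotient.mk (p := P) (x * b) = Submodule.Quotient.mk (j + b * x)
        rw [Submodule.Quotient.eq]
        have : x * b - (j + b * x) = -j := by ring
        rw [this]
        exact P.neg_mem ((le_sup_left : J ≤ P) hj)
    rw [Module.length_eq_add_of_exact (LinearMap.ker π).subtype π (Submodule.subtype_injective _) hπ
      (LinearMap.exact_iff.2 (Submodule.range_subtype _).symm), add_comm]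
    refine add_le_add le_rfl ?_
    rw [← hrange]
    exact Module.length_le_of_surjective μ.rangeRestrict μ.surjective_rangeRestrict
  have hprod : ∀ (J : Ideal A) (f : G → A) (s : Finset G) (B : ℕ∞),
      (∀ σ ∈ s, Module.length A (A ⧸ (J ⊔ Ideal.span {f σ})) ≤ B) →
      Module.length A (A ⧸ (J ⊔ Ideal.span {∏ σ ∈ s, f σ})) ≤ (s.card : ℕ∞) * B := by
    intro J f s B
    induction s using Finset.induction with
    | empty =>
      intro _
      rw [Finset.prod_empty, Ideal.span_singleton_one, sup_top_eq]
      simp
    | @insert σ s hσ ih =>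
      intro h
      rw [Finset.prod_insert hσ, Finset.card_insert_of_notMem hσ]
      refine (hmul J _ _).trans ?_
      push_cast
      rw [add_mul, one_mul, add_comm]
      exact add_le_add (ih fun τ hτ => h τ (Finset.mem_insert_of_mem hτ)) (h σ (Finset.mem_insert_self _ _))
  let x : Fin n → A := fun i => ∏ σ : G, σ • u i
  -- mixed ideals
  have key : ∀ (m : ℕ) (hm : m ≤ n) (τ : Fin n → G),
      Module.length A (A ⧸ Ideal.span (Set.range fun i : Fin n => if i.1 < m then x i else τ i • u i)) ≤
        (Fintype.card G ^ m : ℕ) := by
    intro m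
    induction m with
    | zero =>
      intro _ τ
      rw [show (fun i : Fin n => if i.1 < 0 then x i else τ i • u i) = fun i => τ i • u i from
        funext fun i => if_neg (Nat.not_lt_zero _), hu τ, pow_zero, Nat.cast_one]
      have : IsSimpleModule A (A ⧸ IsLocalRing.maximalIdeal A) :=
        isSimpleModule_iff_isCoatom.2 (IsLocalRing.maximalIdeal.isMaximal A).1
      exact (Module.length_eq_one A _).le
    | succ m ih =>
      intro hm τ
      let e : Fin n := ⟨m, hm⟩
      let J : Ideal A := Ideal.span ((fun i : Fin n => if i.1 < m then x i else τ i • u i) '' {e}ᶜ)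
      have split : ∀ (f : Fin n → A), (∀ i, i ≠ e → f i = if i.1 < m then x i else τ i • u i) →
          Ideal.span (Set.range f) = J ⊔ Ideal.span {f e} := fun f hf => by
        have hJ : J = Ideal.span (f '' {e}ᶜ) := congrArg Ideal.span (Set.image_congr fun i hi => (hf i hi).symm)
        rw [hJ, ← Ideal.span_union, ← Set.image_univ, ← Set.compl_union_self ({e} : Set (Fin n)),
          Set.image_union, Set.image_singleton]
      have hne : ∀ i : Fin n, i ≠ e → (i.1 < m + 1 ↔ i.1 < m) := fun i hi => by
        have : i.1 ≠ m := fun h => hi (Fin.ext h)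
        omega
      rw [split _ (fun i hi => by simp only [hne i hi]), if_pos (Nat.lt_succ_self m)]
      refine (hprod J (fun σ => σ • u e) Finset.univ (Fintype.card G ^ m : ℕ) fun σ _ => ?_).trans ?_
      · have h := ih (by omega) (Function.update τ e σ)
        rw [split _ (fun i hi => by rw [Function.update_of_ne hi]), if_neg (lt_irrefl m),
          Function.update_self] at h
        exact h
      · rw [Finset.card_univ, ← Nat.cast_mul, pow_succ, mul_comm]
  have := key n le_rfl (fun _ => 1)
  rw [show (fun i : Fin n => if i.1 < n then x i else (1 : G) • u i) = x from funext fun i => if_pos i.is_lt] at this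
  exact this

end Groth.Agent.S15791
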