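import Groth.Statements.S15795
import Mathlib
-- import your own Groth.Agent.* helpers here

set_option autoImplicit false
universe u v
open WildQuot

namespace Groth.Agent.S15795

/-- Let `A` be a regular local ring of Krull dimension `n` with maximal ideal `m`, let a finite group
`G` act on `A` by ring automorphisms inducing the identity on the residue field, and let `u_1, …,
u_n` generate `m`. Suppose that for every `σ ∈ G` and every `i`, `σ u_i ∈ (u_1, …, u_i) + m ^ 2`,
i.e. the induced linear maps of `m / m ^ 2` are upper triangular in the basis given by the `u_i`.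
Then the system `u` is admissible: for every choice `σ_1, …, σ_n ∈ G` the elements `σ_1 u_1, …, σ_n
u_n` generate `m`. (The published statement is for a complete regular local ring containing a
`G`-fixed field of representatives; this row drops completeness and asks only that `G` act trivially
on the residue field.) -/
theorem result
    (A : Type u) [CommRing A] [IsRegularLocalRing A]
    (G : Type v) [Group G] [Finite G] [MulSemiringAction G A]
    (hres : ∀ (σ : G) (a : A), σ • a - a ∈ IsLocalRing.maximalIdeal A)
    (n : ℕ) (hn : ringKrullDim A = n) (u : Fin n → A)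
    (hu : Ideal.span (Set.range u) = IsLocalRing.maximalIdeal A)
    (htri : ∀ (σ : G) (i : Fin n),
      σ • u i ∈ Ideal.span (u '' {j | j ≤ i}) ⊔ IsLocalRing.maximalIdeal A ^ 2) :
    ∀ τ : Fin n → G,
      Ideal.span (Set.range fun i => τ i • u i) = IsLocalRing.maximalIdeal A := by
  intro τ
  let m := IsLocalRing.maximalIdeal A
  have hm : ∀ (σ : G) (a : A), a ∈ m → σ • a ∈ m := fun σ a ha => by
    have := add_mem (hres σ a) ha
    rwa [sub_add_cancel] at this
  have hm2 : ∀ (σ : G) (a : A), a ∈ m ^ 2 → σ • a ∈ m ^ 2 := fun σ a ha => by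
    rw [pow_two] at ha ⊢
    refine Submodule.mul_induction_on ha (fun x hx y hy => ?_) fun x y hx hy => ?_
    · rw [smul_mul']; exact Ideal.mul_mem_mul (hm σ x hx) (hm σ y hy)
    · rw [smul_add]; exact add_mem hx hy
  let I := Ideal.span (Set.range fun i => τ i • u i)
  have hum : ∀ i, u i ∈ m := fun i => by rw [show m = Ideal.span (Set.range u) from hu.symm]; exact Ideal.subset_span ⟨i, rfl⟩
  have hI : I ≤ m := Ideal.span_le.2 (by rintro _ ⟨i, rfl⟩; exact hm _ _ (hum i))
  refine le_antisymm hI (Submodule.le_of_le_smul_of_le_jacobson_bot (IsNoetherian.noetherian m)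
    (IsLocalRing.maximalIdeal_le_jacobson _) ?_)
  rw [smul_eq_mul, ← pow_two]
  have key : ∀ (j : ℕ) (i : Fin n), (i : ℕ) < j → u i ∈ I ⊔ m ^ 2 := by
    intro j
    induction j with
    | zero => intro i hi; exact absurd hi (Nat.not_lt_zero _)
    | succ j ih =>
      intro i hi
      obtain ⟨y, hy, z, hz, hyz⟩ := Submodule.mem_sup.1 (htri (τ i)⁻¹ i)
      have h1 : u i = τ i • y + τ i • z := by rw [← smul_add, hyz, smul_inv_smul]
      rw [h1]
      refine add_mem ?_ (Ideal.mem_sup_right (hm2 _ _ hz))
      clear hyz h1
      induction hy using Submodule.span_induction with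
      | mem x hx =>
        obtain ⟨l, hl, rfl⟩ := hx
        by_cases hli : l = i
        · subst hli; exact Ideal.mem_sup_left (Ideal.subset_span ⟨l, rfl⟩)
        · have hlt : l < i := lt_of_le_of_ne hl hli
          refine (sup_le (Ideal.span_le.2 ?_) le_sup_right : _ ≤ I ⊔ m ^ 2) (htri (τ i) l)
          rintro _ ⟨q, hq, rfl⟩
          exact ih q (lt_of_le_of_lt (Fin.le_def.1 hq) (lt_of_lt_of_le (Fin.lt_def.1 hlt) (Nat.lt_succ_iff.1 hi)))
      | zero => rw [smul_zero]; exact zero_mem _
      | add a b _ _ ha hb => rw [smul_add]; exact add_mem ha hb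
      | smul c a _ ha => rw [smul_eq_mul, smul_mul']; exact Ideal.mul_mem_left _ _ ha
  have hmle : Ideal.span (Set.range u) ≤ I ⊔ m ^ 2 :=
    Ideal.span_le.2 (by rintro _ ⟨i, rfl⟩; exact key n i i.2)
  rwa [hu] at hmle

end Groth.Agent.S15795
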