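import Groth.Statements.S15792
import Groth.Agent.S15795
import Mathlib
-- import your own Groth.Agent.* helpers here

set_option autoImplicit false
universe u v
open WildQuot

namespace Groth.Agent.S15792

/-- Let `A` be a regular local ring of Krull dimension `n` and prime characteristic `p`, and let a
finite `p`-group `G` act on `A` by ring automorphisms inducing the identity on the residue field.
Then there is an admissible regular system of parameters: `u_1, …, u_n ∈ A` such that for every
choice `σ_1, …, σ_n ∈ G` the elements `σ_1 u_1, …, σ_n u_n` generate the maximal ideal. (The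
published statement is for a complete regular local ring containing a field of representatives fixed
by `G`; this row drops completeness and asks only that `G` act trivially on the residue field.) -/
theorem result
    (p : ℕ) [Fact p.Prime] (A : Type u) [CommRing A] [IsRegularLocalRing A] [CharP A p]
    (G : Type v) [Group G] [Finite G] [MulSemiringAction G A] (hG : IsPGroup p G)
    (hres : ∀ (σ : G) (a : A), σ • a - a ∈ IsLocalRing.maximalIdeal A)
    (n : ℕ) (hn : ringKrullDim A = n) :
    ∃ u : Fin n → A, ∀ τ : Fin n → G,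
      Ideal.span (Set.range fun i => τ i • u i) = IsLocalRing.maximalIdeal A := by
  classical
  let m := IsLocalRing.maximalIdeal A
  have hm : ∀ (σ : G) (a : A), a ∈ m → σ • a ∈ m := fun σ a ha => by
    have := add_mem (hres σ a) ha
    rwa [sub_add_cancel] at this
  have hm2 : ∀ (σ : G) (a : A), a ∈ m ^ 2 → σ • a ∈ m ^ 2 := fun σ a ha => by
    rw [pow_two] at ha ⊢
    refine Submodule.mul_induction_on ha (fun x hx y hy => ?_) fun x y hx hy => ?_
    · rw [smul_mul']; exact Ideal.mul_mem_mul (hm σ x hx) (hm σ y hy)
    · rw [smul_add]; exact add_mem hx hy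
  let J : (j : ℕ) → (Fin j → A) → Ideal A := fun j v => Ideal.span (Set.range v) ⊔ m ^ 2
  -- a fixed vector modulo a proper stable ideal
  have step : ∀ K : Ideal A, (∀ (σ : G) (a : A), a ∈ K → σ • a ∈ K) → K < m → m ^ 2 ≤ K →
      ∃ v ∈ m, v ∉ K ∧ ∀ σ : G, σ • v - v ∈ K := by
    intro K hK hlt h2
    obtain ⟨w, hw, hwK⟩ := SetLike.exists_of_lt hlt
    let act : MulAction G (A ⧸ K) :=
      { smul := fun σ q => Quotient.liftOn' q (fun a => Ideal.Quotient.mk K (σ • a)) (fun a b hab => by
          rw [Submodule.quotientRel_def] at hab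
          rw [Ideal.Quotient.eq, ← smul_sub]
          exact hK σ _ hab)
        one_smul := fun q => by
          obtain ⟨a, rfl⟩ := Ideal.Quotient.mk_surjective q
          exact congrArg (Ideal.Quotient.mk K) (one_smul G a)
        mul_smul := fun σ τ q => by
          obtain ⟨a, rfl⟩ := Ideal.Quotient.mk_surjective q
          exact congrArg (Ideal.Quotient.mk K) (mul_smul σ τ a) }
    have hsm : ∀ (σ : G) (a : A), σ • Ideal.Quotient.mk K a = Ideal.Quotient.mk K (σ • a) := fun σ a => rfl
    let q : G → A ⧸ K := fun τ => Ideal.Quotient.mk K (τ • w)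
    have hp0 : ∀ x : A ⧸ K, p • x = 0 := fun x => by
      obtain ⟨a, rfl⟩ := Ideal.Quotient.mk_surjective x
      rw [← map_nsmul, nsmul_eq_mul, CharP.cast_eq_zero, zero_mul, map_zero]
    let M : AddSubgroup (A ⧸ K) := AddSubgroup.closure (Set.range q)
    have hMstab : ∀ (σ : G) (x : A ⧸ K), x ∈ M → σ • x ∈ M := by
      intro σ x hx
      induction hx using AddSubgroup.closure_induction with
      | mem y hy => obtain ⟨τ, rfl⟩ := hy; exact AddSubgroup.subset_closure ⟨σ * τ, by simp [q, hsm, mul_smul]⟩
      | zero => rw [← map_zero (Ideal.Quotient.mk K), hsm, smul_zero, map_zero]; exact zero_mem _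
      | add y z _ _ hy hz =>
        obtain ⟨y, rfl⟩ := Ideal.Quotient.mk_surjective y
        obtain ⟨z, rfl⟩ := Ideal.Quotient.mk_surjective z
        rw [← map_add, hsm, smul_add, map_add]
        exact add_mem hy hz
      | neg y _ hy =>
        obtain ⟨y, rfl⟩ := Ideal.Quotient.mk_surjective y
        rw [← map_neg, hsm, smul_neg, map_neg]
        exact neg_mem hy
    let actM : MulAction G M :=
      { smul := fun σ x => ⟨σ • x.1, hMstab σ _ x.2⟩
        one_smul := fun x => Subtype.ext (one_smul G x.1)
        mul_smul := fun σ τ x => Subtype.ext (mul_smul σ τ x.1) }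
    have hfg : AddGroup.FG M := by
      rw [AddGroup.fg_iff_addSubgroup_fg]
      exact ⟨(Set.finite_range q).toFinset, by simp [M]⟩
    have hMfin : Finite M := by
      refine AddCommGroup.finite_of_fg_torsion _ fun x => ?_
      rw [isOfFinAddOrder_iff_nsmul_eq_zero]
      exact ⟨p, (Fact.out : p.Prime).pos, Subtype.ext (hp0 x.1)⟩
    have hq : q 1 ≠ 0 := fun h => hwK (by simpa [q, Ideal.Quotient.eq_zero_iff_mem] using h)
    have hpM : p ∣ Nat.card M := by
      have h1 : addOrderOf (⟨q 1, AddSubgroup.subset_closure ⟨1, rfl⟩⟩ : M) = p :=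
        addOrderOf_eq_prime (Subtype.ext (hp0 (q 1))) fun h => hq (congrArg Subtype.val h)
      rw [← h1]
      exact addOrderOf_dvd_natCard _
    have h0 : (0 : M) ∈ MulAction.fixedPoints G M := fun σ => Subtype.ext (by
      change σ • (0 : A ⧸ K) = 0
      rw [← map_zero (Ideal.Quotient.mk K), hsm, smul_zero])
    obtain ⟨b, hb, hb0⟩ := hG.exists_fixed_point_of_prime_dvd_card_of_fixed_point M hpM h0
    have hle : M ≤ ((m.map (Ideal.Quotient.mk K)).toAddSubgroup) := by
      rw [AddSubgroup.closure_le]
      rintro _ ⟨τ, rfl⟩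
      exact Ideal.mem_map_of_mem _ (hm τ w hw)
    obtain ⟨v, hv, hvb⟩ := (Ideal.mem_map_iff_of_surjective _ Ideal.Quotient.mk_surjective).1 (hle b.2)
    refine ⟨v, hv, fun hvK => hb0 ?_, fun σ => ?_⟩
    · exact Subtype.ext (by rw [← hvb, Ideal.Quotient.eq_zero_iff_mem.2 hvK]; rfl)
    · rw [← Ideal.Quotient.eq, ← hsm, hvb]
      exact congrArg Subtype.val (hb σ)
  have hfin : Module.finrank (IsLocalRing.ResidueField A) (IsLocalRing.CotangentSpace A) = n := by
    have h := (IsRegularLocalRing.iff_finrank_cotangentSpace (R := A)).1 inferInstance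
    rw [hn] at h
    exact_mod_cast h
  have hW : ∀ (j : ℕ) (v : Fin j → A) (hv : ∀ i, v i ∈ m) (a : A) (ha : a ∈ m),
      (m.toCotangent ⟨a, ha⟩ : IsLocalRing.CotangentSpace A) ∈ Submodule.span (IsLocalRing.ResidueField A)
        (Set.range fun i => (m.toCotangent ⟨v i, hv i⟩ : IsLocalRing.CotangentSpace A)) → a ∈ J j v := by
    intro j v hv a ha hmem
    have hmem' : (m.toCotangent ⟨a, ha⟩ : IsLocalRing.CotangentSpace A) ∈
        Submodule.span A (Set.range fun i => (m.toCotangent ⟨v i, hv i⟩ : IsLocalRing.CotangentSpace A)) := by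
      rw [← Submodule.restrictScalars_span A (IsLocalRing.ResidueField A) IsLocalRing.residue_surjective]
      exact hmem
    rw [Set.range_comp' (fun x => (m.toCotangent x : IsLocalRing.CotangentSpace A)) (fun i => (⟨v i, hv i⟩ : m)),
      ← Submodule.map_span] at hmem'
    obtain ⟨y, hy, hya⟩ := hmem'
    have h2 : (y : A) - a ∈ m ^ 2 := (Ideal.toCotangent_eq _).1 hya
    clear hya
    have hyK : (y : A) ∈ Ideal.span (Set.range v) := by
      clear h2
      induction hy using Submodule.span_induction with
      | mem x hx => obtain ⟨i, rfl⟩ := hx; exact Ideal.subset_span ⟨i, rfl⟩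
      | zero => exact zero_mem _
      | add a b _ _ ha hb => exact add_mem ha hb
      | smul c a _ ha => exact Ideal.mul_mem_left _ _ ha
    have := sub_mem (Ideal.mem_sup_left (T := m ^ 2) hyK) (Ideal.mem_sup_right (S := Ideal.span (Set.range v)) h2)
    rwa [sub_sub_cancel] at this
  have key : ∀ j, j ≤ n → ∃ (v : Fin j → A) (hv : ∀ i, v i ∈ m),
      LinearIndependent (IsLocalRing.ResidueField A)
        (fun i => (m.toCotangent ⟨v i, hv i⟩ : IsLocalRing.CotangentSpace A)) ∧
      ∀ (σ : G) (i : Fin j), σ • v i ∈ Ideal.span (v '' {l | l ≤ i}) ⊔ m ^ 2 := by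
    intro j
    induction j with
    | zero => exact fun _ => ⟨Fin.elim0, fun i => i.elim0, linearIndependent_empty_type, fun _ i => i.elim0⟩
    | succ j ih =>
      intro hj
      obtain ⟨v, hv, hli, htri⟩ := ih (by omega)
      let K := J j v
      have hKm : K ≤ m := sup_le (Ideal.span_le.2 (by rintro _ ⟨i, rfl⟩; exact hv i)) (Ideal.pow_le_self two_ne_zero)
      have hKst : ∀ (σ : G) (a : A), a ∈ K → σ • a ∈ K := by
        intro σ a ha
        obtain ⟨y, hy, z, hz, rfl⟩ := Submodule.mem_sup.1 ha
        rw [smul_add]
        refine add_mem ?_ (Ideal.mem_sup_right (hm2 σ z hz))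
        clear ha
        induction hy using Submodule.span_induction with
        | mem x hx =>
          obtain ⟨i, rfl⟩ := hx
          exact (sup_le_sup_right (Ideal.span_mono (Set.image_subset_range _ _)) (m ^ 2) :
            Ideal.span (v '' {l | l ≤ i}) ⊔ m ^ 2 ≤ K) (htri σ i)
        | zero => rw [smul_zero]; exact zero_mem _
        | add a b _ _ ha hb => rw [smul_add]; exact add_mem ha hb
        | smul c a _ ha => rw [smul_eq_mul, smul_mul']; exact Ideal.mul_mem_left _ _ ha
      let W := Submodule.span (IsLocalRing.ResidueField A)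
        (Set.range fun i => (m.toCotangent ⟨v i, hv i⟩ : IsLocalRing.CotangentSpace A))
      have hlt : K < m := by
        refine lt_of_le_of_ne hKm fun he => ?_
        have htop : W = ⊤ := by
          rw [eq_top_iff]
          intro x _
          obtain ⟨⟨a, ha⟩, rfl⟩ := Ideal.toCotangent_surjective m x
          have haK : a ∈ K := he ▸ ha
          obtain ⟨y, hy, z, hz, hyz⟩ := Submodule.mem_sup.1 haK
          have hym : y ∈ m := (Ideal.span_le.2 (by rintro _ ⟨i, rfl⟩; exact hv i) : Ideal.span (Set.range v) ≤ m) hy
          have hxy : m.toCotangent ⟨a, ha⟩ = m.toCotangent ⟨y, hym⟩ := by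
            rw [Ideal.toCotangent_eq]; simpa [← hyz] using hz
          rw [hxy]
          have hy' : (⟨y, hym⟩ : m) ∈ Submodule.span A (Set.range fun i => (⟨v i, hv i⟩ : m)) := by
            rw [← Submodule.apply_mem_span_image_iff_mem_span (f := m.subtype) Subtype.val_injective, ← Set.range_comp]
            exact hy
          have := Submodule.mem_map_of_mem (f := m.toCotangent) hy'
          rw [Submodule.map_span, ← Set.range_comp] at this
          exact Submodule.span_le_restrictScalars A (IsLocalRing.ResidueField A) _ this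
        have h := finrank_range_le_card (R := IsLocalRing.ResidueField A)
          (fun i => (m.toCotangent ⟨v i, hv i⟩ : IsLocalRing.CotangentSpace A))
        change Module.finrank _ W ≤ _ at h
        rw [(LinearEquiv.ofTop W htop).finrank_eq, Fintype.card_fin] at h
        rw [hfin] at h
        omega
      obtain ⟨w, hw, hwK, hwfix⟩ := step K hKst hlt le_sup_right
      refine ⟨Fin.snoc v w, fun i => ?_, ?_, ?_⟩
      · induction i using Fin.lastCases with
        | last => simpa using hw
        | cast i => simpa using hv i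
      · have heq : (fun i => (m.toCotangent ⟨Fin.snoc (α := fun _ => A) v w i, by
            induction i using Fin.lastCases with
            | last => simpa using hw
            | cast i => simpa using hv i⟩ : IsLocalRing.CotangentSpace A)) =
            Fin.snoc (α := fun _ => IsLocalRing.CotangentSpace A) (fun i => m.toCotangent ⟨v i, hv i⟩) (m.toCotangent ⟨w, hw⟩) := by
          funext i
          induction i using Fin.lastCases with
          | last => simp
          | cast i => simp
        rw [heq]
        exact linearIndependent_finSnoc.2 ⟨hli, fun h => hwK (hW j v hv w hw h)⟩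
      · intro σ i
        have himg : v '' Set.univ ⊆ Fin.snoc (α := fun _ => A) v w '' Set.univ := by
          rintro _ ⟨l, -, rfl⟩; exact ⟨l.castSucc, trivial, by simp⟩
        induction i using Fin.lastCases with
        | last =>
          rw [Fin.snoc_last]
          have h1 : σ • w - w ∈ Ideal.span (Set.range v) ⊔ m ^ 2 := hwfix σ
          have h2 : Ideal.span (Set.range v) ≤ Ideal.span (Fin.snoc (α := fun _ => A) v w '' {l | l ≤ Fin.last j}) :=
            Ideal.span_mono (by rintro _ ⟨l, rfl⟩; exact ⟨l.castSucc, Fin.le_last _, by simp⟩)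
          have h3 := add_mem (sup_le_sup_right h2 (m ^ 2) h1)
            (Ideal.mem_sup_left (T := m ^ 2) (Ideal.subset_span (s := Fin.snoc (α := fun _ => A) v w '' {l | l ≤ Fin.last j})
              ⟨Fin.last j, Set.mem_ofPred.2 le_rfl, Fin.snoc_last _ _⟩))
          rwa [sub_add_cancel] at h3
        | cast i =>
          rw [Fin.snoc_castSucc]
          refine (sup_le_sup_right (Ideal.span_mono ?_) (m ^ 2) :
            Ideal.span (v '' {l | l ≤ i}) ⊔ m ^ 2 ≤ Ideal.span (Fin.snoc (α := fun _ => A) v w '' {l | l ≤ i.castSucc}) ⊔ m ^ 2) (htri σ i)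
          rintro _ ⟨l, hl, rfl⟩
          exact ⟨l.castSucc, Fin.castSucc_le_castSucc_iff.2 hl, by simp⟩
  obtain ⟨v, hv, hli, htri⟩ := key n le_rfl
  refine ⟨v, Groth.Agent.S15795.result A G hres n hn v ?_ htri⟩
  refine le_antisymm (Ideal.span_le.2 (by rintro _ ⟨i, rfl⟩; exact hv i))
    (Submodule.le_of_le_smul_of_le_jacobson_bot (IsNoetherian.noetherian m) (IsLocalRing.maximalIdeal_le_jacobson _) ?_)
  intro a ha
  have htop := hli.span_eq_top_of_card_eq_finrank' (by rw [Fintype.card_fin, hfin])
  rw [smul_eq_mul, ← pow_two]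
  exact hW n v hv a ha (htop ▸ Submodule.mem_top)

end Groth.Agent.S15792
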