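import Groth.Statements.S15793
import Groth.Agent.VarietyBC.CotangentInjective
-- import your own Groth.Agent.* helpers here

set_option autoImplicit false
universe u v w
open WildQuot

namespace Groth.Agent.S15793

/-- Let `A` be a complete regular local ring of Krull dimension at least `2` and prime characteristic
`p`, with maximal ideal `m`; let `k` be a field with a ring map `k → A` whose composite with `A →
A/m` is onto (a field of representatives); let `G` be a group of order `p` acting on `A` by ring
automorphisms that fix the image of `k`, ramified precisely at the origin: for every prime `P ≠ m`,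
the inertia subgroup of `P` (the elements of `G` fixing every element of `A` modulo `P`) is trivial.
Then no element of `m` outside `m ^ 2` is fixed by every element of `G`; in particular the action is
not linear in any regular system of parameters. -/
theorem result
    (p : ℕ) [Fact p.Prime] (A : Type u) [CommRing A] [IsRegularLocalRing A] [CharP A p]
    [IsAdicComplete (IsLocalRing.maximalIdeal A) A] (hdim : 2 ≤ ringKrullDim A)
    (k : Type v) [Field k] [Algebra k A]
    (hk : Function.Surjective (IsLocalRing.residue A ∘ algebraMap k A))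
    (G : Type w) [Group G] [Finite G] [MulSemiringAction G A] (hcard : Nat.card G = p)
    (hGk : ∀ (σ : G) (c : k), σ • algebraMap k A c = algebraMap k A c)
    (hram : ∀ P : Ideal A, P.IsPrime → P ≠ IsLocalRing.maximalIdeal A → P.inertia G = ⊥)
    (v : A) (hv : v ∈ IsLocalRing.maximalIdeal A) (hv2 : v ∉ IsLocalRing.maximalIdeal A ^ 2) :
    ∃ σ : G, σ • v ≠ v := by
  classical
  by_contra hc
  push Not at hc
  let 𝔪 := IsLocalRing.maximalIdeal A
  -- extend `v` to a basis of the cotangent space
  let d := Module.finrank (IsLocalRing.ResidueField A) (IsLocalRing.CotangentSpace A)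
  have hd : (d : WithBot ℕ∞) = ringKrullDim A := (IsRegularLocalRing.iff_finrank_cotangentSpace A).mp ‹_›
  let v' : IsLocalRing.CotangentSpace A := 𝔪.toCotangent ⟨v, hv⟩
  have hv' : v' ≠ 0 := fun e => hv2 ((Ideal.toCotangent_eq_zero _ _).mp e)
  have hli : LinearIndepOn (IsLocalRing.ResidueField A) id {v'} :=
    LinearIndepOn.singleton hv'
  let B := Module.Basis.extend hli
  haveI := FiniteDimensional.fintypeBasisIndex B
  choose g hg using fun j => 𝔪.toCotangent_surjective (B j)
  let x : _ → 𝔪 := fun j => if (B j) = v' then ⟨v, hv⟩ else g j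
  have hx : ∀ j, 𝔪.toCotangent (x j) = B j := fun j => by
    by_cases h : B j = v'
    · simp only [x, if_pos h]; exact h.symm
    · simp only [x, if_neg h]; exact hg j
  have hspan : Ideal.span (Set.range fun j => (x j : A)) = 𝔪 :=
    Groth.VarietyBC.CotInj.span_eq_maximalIdeal x (by rw [funext hx]; exact B.span_eq)
  obtain ⟨j₀, hj₀⟩ : ∃ j, B j = v' :=
    ⟨⟨v', Module.Basis.subset_extend hli rfl⟩, Module.Basis.extend_apply_self hli _⟩
  -- a nontrivial element
  have hnt : Nontrivial G := by
    rw [← Finite.one_lt_card_iff_nontrivial, hcard]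
    exact (Fact.out : p.Prime).one_lt
  obtain ⟨σ, hσ⟩ := exists_ne (1 : G)
  let s : Finset A := (Finset.univ.erase j₀).image fun j => σ • (x j : A) - (x j : A)
  let I : Ideal A := Ideal.span s
  have hmem : ∀ j, σ • (x j : A) - (x j : A) ∈ I := fun j => by
    by_cases h : j = j₀
    · subst h
      simp only [x, if_pos hj₀]
      rw [hc σ, sub_self]
      exact zero_mem _
    · exact Ideal.subset_span (Finset.mem_image.mpr ⟨j, Finset.mem_erase.mpr ⟨h, Finset.mem_univ _⟩, rfl⟩)
  have hI : I ≤ 𝔪 := Ideal.span_le.mpr fun a ha => by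
    obtain ⟨j, -, rfl⟩ := Finset.mem_image.mp ha
    refine sub_mem ?_ (x j).2
    exact (IsLocalRing.mem_maximalIdeal _).mpr fun hu =>
      (IsLocalRing.mem_maximalIdeal _).mp (x j).2
        (isUnit_map_iff (MulSemiringAction.toRingEquiv G A σ) _ |>.mp hu)
  -- modulo `I` the automorphism is trivial on every element
  have hdense : ∀ (N : ℕ) (a : A), ∃ b ∈ Algebra.adjoin k (Set.range fun j => (x j : A)), a - b ∈ 𝔪 ^ N := by
    intro N
    induction N with
    | zero => exact fun a => ⟨0, zero_mem _, by simp⟩
    | succ N ih =>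
      intro a
      obtain ⟨b, hb, hab⟩ := ih a
      rw [← hspan] at hab
      obtain ⟨P, hP, hPe⟩ := Groth.EGA41Two.exists_homogeneous
        (fun i => (x ((Fintype.equivFin _).symm i) : A))
        (show a - b ∈ Ideal.span (Set.range fun i => (x ((Fintype.equivFin _).symm i) : A)) ^ N by
          rwa [show Set.range (fun i => (x ((Fintype.equivFin _).symm i) : A)) =
            Set.range fun j => (x j : A) from (Fintype.equivFin _).symm.surjective.range_comp
              (fun j => (x j : A))])
      choose c hc' using fun e => hk (IsLocalRing.residue A (P.coeff e))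
      have hsum : a - b = ∑ e ∈ P.support, P.coeff e * e.prod (fun i n =>
          (x ((Fintype.equivFin _).symm i) : A) ^ n) := by
        rw [← hPe, MvPolynomial.eval_eq]
        rfl
      refine ⟨b + ∑ e ∈ P.support, algebraMap k A (c e) * e.prod (fun i n =>
        (x ((Fintype.equivFin _).symm i) : A) ^ n), add_mem hb (sum_mem fun e _ => mul_mem
          (Subalgebra.algebraMap_mem _ _) ?_), ?_⟩
      · exact prod_mem fun i _ => pow_mem (Algebra.subset_adjoin
          (show (x ((Fintype.equivFin _).symm i) : A) ∈ Set.range fun j => (x j : A) from ⟨_, rfl⟩)) _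
      · rw [← sub_sub, hsum, ← Finset.sum_sub_distrib, pow_succ']
        refine Ideal.sum_mem _ fun e he => ?_
        rw [← sub_mul]
        refine Ideal.mul_mem_mul ?_ ?_
        · exact (Ideal.Quotient.mk_eq_mk_iff_sub_mem _ _).mp (hc' e).symm
        · have hdeg : e.degree = N := by
            by_contra hne
            exact MvPolynomial.mem_support_iff.mp he (hP.coeff_eq_zero hne)
          rw [← hdeg, show e.degree = ∑ i ∈ e.support, e i from rfl, ← Finset.prod_pow_eq_pow_sum]
          exact Ideal.prod_mem_prod fun i _ => Ideal.pow_mem_pow (x _).2 _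
  have hall : ∀ a : A, σ • a - a ∈ I := by
    have hpoly : ∀ b ∈ Algebra.adjoin k (Set.range fun j => (x j : A)), σ • b - b ∈ I := by
      intro b hb
      induction hb using Algebra.adjoin_induction with
      | mem y hy => obtain ⟨j, rfl⟩ := hy; exact hmem j
      | algebraMap r => rw [hGk, sub_self]; exact zero_mem _
      | add y z _ _ hy hz =>
        rw [smul_add, show σ • y + σ • z - (y + z) = (σ • y - y) + (σ • z - z) by ring]
        exact add_mem hy hz
      | mul y z _ _ hy hz =>
        rw [smul_mul', show σ • y * σ • z - y * z = σ • y * (σ • z - z) + (σ • y - y) * z by ring]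
        exact add_mem (I.mul_mem_left _ hz) (I.mul_mem_right _ hy)
    intro a
    haveI : Nontrivial (A ⧸ I) := Ideal.Quotient.nontrivial_iff.mpr
      (ne_top_of_le_ne_top (IsLocalRing.maximalIdeal.isMaximal A).ne_top hI)
    haveI : IsLocalRing (A ⧸ I) := .of_surjective' _ Ideal.Quotient.mk_surjective
    have hK : ∀ N, Ideal.Quotient.mk I (σ • a - a) ∈ IsLocalRing.maximalIdeal (A ⧸ I) ^ N := by
      intro N
      obtain ⟨b, hb, hab⟩ := hdense N a
      rw [show σ • a - a = (σ • b - b) + (σ • (a - b) - (a - b)) by rw [smul_sub]; ring, map_add,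
        Ideal.Quotient.eq_zero_iff_mem.mpr (hpoly b hb), zero_add]
      have hmap : 𝔪.map (Ideal.Quotient.mk I) ≤ IsLocalRing.maximalIdeal (A ⧸ I) :=
        ((IsLocalRing.local_hom_TFAE (Ideal.Quotient.mk I)).out 0 2).mp
          (IsLocalHom.of_surjective _ Ideal.Quotient.mk_surjective)
      refine Ideal.pow_right_mono hmap N ?_
      rw [← Ideal.map_pow]
      refine Ideal.mem_map_of_mem _ (sub_mem ?_ hab)
      have h1 : 𝔪.map (MulSemiringAction.toRingHom G A σ) ≤ 𝔪 :=
        Ideal.map_le_iff_le_comap.mpr fun y hy => (IsLocalRing.mem_maximalIdeal _).mpr fun hu =>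
          (IsLocalRing.mem_maximalIdeal _).mp hy
            (isUnit_map_iff (MulSemiringAction.toRingEquiv G A σ) _ |>.mp hu)
      have h2 := Ideal.mem_map_of_mem (MulSemiringAction.toRingHom G A σ) hab
      rw [Ideal.map_pow] at h2
      exact Ideal.pow_right_mono h1 N h2
    have h0 : Ideal.Quotient.mk I (σ • a - a) ∈ ⨅ N : ℕ, IsLocalRing.maximalIdeal (A ⧸ I) ^ N :=
      Ideal.mem_iInf.mpr hK
    rw [Ideal.iInf_pow_eq_bot_of_isLocalRing _ (IsLocalRing.maximalIdeal.isMaximal _).ne_top] at h0
    exact Ideal.Quotient.eq_zero_iff_mem.mp h0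
  -- a minimal prime over `I` is not maximal
  obtain ⟨P, hP, hP𝔪⟩ := Ideal.exists_minimalPrimes_le hI
  have hPp : P.IsPrime := hP.1.1
  have hne : P ≠ 𝔪 := by
    intro e
    have h1 := Ideal.height_le_card_of_mem_minimalPrimes_span_finset (s := s) (p := P) hP
    have h2 : s.card + 1 ≤ d := by
      refine le_trans (Nat.add_le_add_right Finset.card_image_le 1) ?_
      rw [Finset.card_erase_of_mem (Finset.mem_univ _), Finset.card_univ]
      have hcd : Fintype.card (LinearIndepOn.extend hli (Set.subset_univ _)) = d :=
        (Module.finrank_eq_card_basis B).symm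
      have : 0 < Fintype.card (LinearIndepOn.extend hli (Set.subset_univ _)) := Fintype.card_pos_iff.mpr ⟨j₀⟩
      omega
    rw [e] at h1
    have h3 : (d : WithBot ℕ∞) ≤ ((s.card : ℕ∞) : WithBot ℕ∞) := by
      rw [hd, ← IsLocalRing.maximalIdeal_height_eq_ringKrullDim]
      exact WithBot.coe_le_coe.mpr h1
    have h4 : d ≤ s.card := by exact_mod_cast h3
    omega
  have hin : σ ∈ P.inertia G := fun a => hP.1.2 (hall a)
  rw [hram P hPp hne] at hin
  exact hσ hin

end Groth.Agent.S15793
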