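import Groth.Statements.S15796
import Mathlib
-- import your own Groth.Agent.* helpers here

set_option autoImplicit false
universe u v
open WildQuot

namespace Groth.Agent.S15796

/-- Let `A` be a Noetherian local ring of Krull dimension `n` whose maximal ideal `m` is generated by
`u_1, …, u_n`, and let a finite group `G` act on `A` by ring automorphisms. If some `σ ∈ G` maps
some `u_i` into the ideal generated by the `u_j` with `j ≠ i`, then the system `u` is not weakly
admissible: for some choice `σ_1, …, σ_n ∈ G` the radical of `(σ_1 u_1, …, σ_n u_n)` does not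
contain `m`. (The published statement is for a linear action on `k[[u_1, …, u_n]]` whose matrix has
a zero diagonal entry; this row assumes instead that some `σ u_i` lies in the ideal generated by the
other `u_j`.) -/
theorem result
    (A : Type u) [CommRing A] [IsLocalRing A] [IsNoetherianRing A]
    (G : Type v) [Group G] [Finite G] [MulSemiringAction G A]
    (n : ℕ) (hn : ringKrullDim A = n) (u : Fin n → A)
    (hu : Ideal.span (Set.range u) = IsLocalRing.maximalIdeal A)
    (σ : G) (i : Fin n) (hσ : σ • u i ∈ Ideal.span (u '' {j | j ≠ i})) :
    ∃ τ : Fin n → G,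
      ¬ IsLocalRing.maximalIdeal A ≤ (Ideal.span (Set.range fun j => τ j • u j)).radical := by
  classical
  refine ⟨Function.update (fun _ => 1) i σ, fun hrad => ?_⟩
  let m := IsLocalRing.maximalIdeal A
  let J := Ideal.span (u '' {j | j ≠ i})
  have hle : Ideal.span (Set.range fun j => Function.update (fun _ => (1 : G)) i σ j • u j) ≤ J := by
    refine Ideal.span_le.2 ?_
    rintro _ ⟨j, rfl⟩
    by_cases h : j = i
    · subst h; simpa using hσ
    · simp only [Function.update_of_ne h, one_smul]
      exact Ideal.subset_span ⟨j, h, rfl⟩
  have hJm : J ≤ m := Ideal.span_le.2 (by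
    rintro _ ⟨j, -, rfl⟩
    rw [show m = Ideal.span (Set.range u) from hu.symm]
    exact Ideal.subset_span ⟨j, rfl⟩)
  have hmin : m ∈ J.minimalPrimes :=
    ⟨⟨inferInstance, hJm⟩, fun P hP _ => (hrad.trans (Ideal.radical_mono hle)).trans (hP.1.radical_le_iff.2 hP.2)⟩
  have hJ : J = Ideal.span (((Finset.univ.erase i).image u : Finset A) : Set A) := by
    simp only [J]
    congr 1
    ext; simp
  rw [hJ] at hmin
  have h1 := Ideal.height_le_card_of_mem_minimalPrimes_span_finset hmin
  have h2 : ((Finset.univ.erase i).image u).card ≤ n - 1 :=
    Finset.card_image_le.trans (by rw [Finset.card_erase_of_mem (Finset.mem_univ i), Finset.card_univ, Fintype.card_fin])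
  have h3 : m.height = (n : ℕ∞) := by
    have := IsLocalRing.maximalIdeal_height_eq_ringKrullDim (R := A)
    rw [hn] at this
    exact_mod_cast this
  rw [h3] at h1
  have h4 : n ≤ n - 1 := (by exact_mod_cast h1 : n ≤ _).trans h2
  have := i.2
  omega

end Groth.Agent.S15796
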