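import Groth.Statements.S15797
import Mathlib
import Groth.Agent.Calg6.CMSop

set_option autoImplicit false
universe u v
open WildQuot

namespace Groth.Agent.S15797

/-- Let `A` be a regular local ring of Krull dimension `n` with maximal ideal `m` generated by `u_1, …,
u_n`, let a finite group `G` of order `g` act on `A` by ring automorphisms, and suppose `u` is
weakly admissible: for every choice `σ_1, …, σ_n ∈ G` the radical of `(σ_1 u_1, …, σ_n u_n)`
contains `m`. With `x_i = ∏_{σ ∈ G} σ u_i` the norms, the length of `A / (x_1, …, x_n)` is at least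
`g ^ n` (so the finite flat map from `k[[x_1, …, x_n]]` has degree at least `g ^ n`). (The published
statement is for a complete regular local ring containing a `G`-fixed field of representatives; this
row does not assume those.) -/
theorem result
    (A : Type u) [CommRing A] [IsRegularLocalRing A]
    (G : Type v) [Group G] [Fintype G] [MulSemiringAction G A]
    (n : ℕ) (hn : ringKrullDim A = n) (u : Fin n → A)
    (hu : Ideal.span (Set.range u) = IsLocalRing.maximalIdeal A)
    (hwa : ∀ τ : Fin n → G,
      IsLocalRing.maximalIdeal A ≤ (Ideal.span (Set.range fun i => τ i • u i)).radical) :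
    ((Fintype.card G ^ n : ℕ) : ℕ∞) ≤
      Module.length A (A ⧸ Ideal.span (Set.range fun i => ∏ σ : G, σ • u i)) := by
  classical
  have hmul : ∀ (J : Ideal A) (x y : A), (∀ b, x * b ∈ J → b ∈ J) →
      Module.length A (A ⧸ (J ⊔ Ideal.span {x})) + Module.length A (A ⧸ (J ⊔ Ideal.span {y})) ≤
        Module.length A (A ⧸ (J ⊔ Ideal.span {x * y})) := by
    intro J x y hx
    let P : Submodule A A := J ⊔ Ideal.span {x * y}
    let Q : Submodule A A := J ⊔ Ideal.span {x}
    have hPQ : P ≤ Q := sup_le le_sup_left
      ((Ideal.span_singleton_le_span_singleton.2 (dvd_mul_right x y)).trans le_sup_right)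
    let π : (A ⧸ P) →ₗ[A] (A ⧸ Q) := Submodule.mapQ P Q LinearMap.id hPQ
    have hπ : Function.Surjective π := fun z => by
      obtain ⟨a, rfl⟩ := Submodule.Quotient.mk_surjective Q z
      exact ⟨Submodule.Quotient.mk a, rfl⟩
    have hle : J ⊔ Ideal.span {y} ≤ LinearMap.ker (P.mkQ ∘ₗ LinearMap.mulLeft A x) := by
      rw [LinearMap.ker_comp, Submodule.ker_mkQ]
      refine sup_le (fun z hz => ?_) ?_
      · exact (le_sup_left : J ≤ P) (J.mul_mem_left x hz)
      · rw [Ideal.span_le, Set.singleton_subset_iff]
        exact (le_sup_right : Ideal.span {x * y} ≤ P) (Ideal.mem_span_singleton_self (x * y))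
    let μ : (A ⧸ (J ⊔ Ideal.span {y} : Submodule A A)) →ₗ[A] (A ⧸ P) := Submodule.liftQ _ _ hle
    have hmem : ∀ z, μ z ∈ LinearMap.ker π := fun z => by
      obtain ⟨b, rfl⟩ := Submodule.Quotient.mk_surjective _ z
      rw [LinearMap.mem_ker]
      change Submodule.Quotient.mk (p := Q) (x * b) = 0
      rw [Submodule.Quotient.mk_eq_zero]
      exact (le_sup_right : Ideal.span {x} ≤ Q) (Ideal.mul_mem_right b _ (Ideal.mem_span_singleton_self x))
    have hμ : Function.Injective (μ.codRestrict (LinearMap.ker π) hmem) := by
      rw [← LinearMap.ker_eq_bot, LinearMap.ker_codRestrict, eq_bot_iff]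
      intro z hz
      obtain ⟨b, rfl⟩ := Submodule.Quotient.mk_surjective _ z
      rw [Submodule.mem_bot, Submodule.Quotient.mk_eq_zero]
      have h1 : x * b ∈ P := (Submodule.Quotient.mk_eq_zero P).1 (LinearMap.mem_ker.1 hz)
      obtain ⟨j, hj, c, hc, hjc⟩ := Submodule.mem_sup.1 h1
      obtain ⟨d, rfl⟩ := Ideal.mem_span_singleton'.1 hc
      have h2 : b - d * y ∈ J := hx _ (by
        have : x * (b - d * y) = j := by rw [mul_sub, ← hjc]; ring
        rw [this]; exact hj)
      exact Submodule.mem_sup.2 ⟨_, h2, d * y, Ideal.mem_span_singleton'.2 ⟨d, rfl⟩, sub_add_cancel _ _⟩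
    rw [Module.length_eq_add_of_exact (LinearMap.ker π).subtype π (Submodule.subtype_injective _) hπ
      (LinearMap.exact_iff.2 (Submodule.range_subtype _).symm), add_comm]
    exact add_le_add (Module.length_le_of_injective _ hμ) le_rfl
  have hreg : ∀ (f : Fin n → A), (∀ i, f i ∈ IsLocalRing.maximalIdeal A) →
      IsLocalRing.maximalIdeal A ≤ (Ideal.span (Set.range f)).radical →
      ∀ (e : Fin n) (b : A), f e * b ∈ Ideal.span (f '' {e}ᶜ) → b ∈ Ideal.span (f '' {e}ᶜ) := by
    intro f hfm hrad e b hb
    let l : List A := (((Finset.univ : Finset (Fin n)).erase e).toList).map f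
    have hl : Ideal.ofList l = Ideal.span (f '' {e}ᶜ) := by
      refine congrArg Ideal.span (Set.ext fun a => ?_)
      simp [l]
    have hlen : l.length + 1 = n := by
      have : 0 < n := e.pos
      simp [l]
      omega
    have hall : Ideal.ofList (l ++ [f e]) = Ideal.span (Set.range f) := by
      rw [Ideal.ofList_append, hl, Ideal.ofList_singleton, ← Ideal.span_union, ← Set.image_singleton,
        ← Set.image_union, Set.compl_union_self, Set.image_univ]
    have h0 : Module.supportDim A (A ⧸ Ideal.ofList (l ++ [f e]) • (⊤ : Submodule A A)) ≤ 0 := by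
      have : ∀ q : Module.support A (A ⧸ Ideal.ofList (l ++ [f e]) • (⊤ : Submodule A A)),
          q.1.asIdeal = IsLocalRing.maximalIdeal A := fun q => by
        refine ((IsLocalRing.le_maximalIdeal q.1.2.ne_top)).antisymm ?_
        have hq := Module.annihilator_le_of_mem_support q.2
        have hI : Ideal.span (Set.range f) ≤ q.1.asIdeal := fun a ha => hq (by
          rw [Submodule.annihilator_quotient, Submodule.mem_colon]
          intro z _
          rw [hall]
          exact Submodule.smul_mem_smul ha Submodule.mem_top)
        exact hrad.trans (q.1.2.radical_le_iff.2 hI)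
      have : Subsingleton (Module.support A (A ⧸ Ideal.ofList (l ++ [f e]) • (⊤ : Submodule A A))) :=
        ⟨fun a b => Subtype.ext (PrimeSpectrum.ext ((this a).trans (this b).symm))⟩
      exact Order.krullDim_nonpos_of_subsingleton
    have hw := Groth.Calg6.isWeaklyRegular_of_supportDim_add_length_le (l ++ [f e]) A
      (Groth.Calg6.isCohenMacaulayModule_of_isRegularLocalRing A) (fun a ha => by
        rcases List.mem_append.1 ha with h | h
        · obtain ⟨i, _, rfl⟩ := List.mem_map.1 h
          exact hfm i
        · rw [List.mem_singleton.1 h]; exact hfm e) (by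
        rw [Module.supportDim_self_eq_ringKrullDim, hn, List.length_append, List.length_singleton, hlen]
        exact le_of_le_of_eq (add_le_add_left h0 _) (zero_add _))
    rw [RingTheory.Sequence.isWeaklyRegular_append_iff, RingTheory.Sequence.isWeaklyRegular_cons_iff] at hw
    have h1 : Submodule.Quotient.mk (p := Ideal.ofList l • (⊤ : Submodule A A)) b = 0 := by
      apply hw.2.1
      change f e • Submodule.Quotient.mk (p := Ideal.ofList l • (⊤ : Submodule A A)) b = f e • (0 : A ⧸ (Ideal.ofList l • (⊤ : Submodule A A)))
      rw [smul_zero, ← Submodule.Quotient.mk_smul, Submodule.Quotient.mk_eq_zero, smul_eq_mul, Ideal.mul_top, hl]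
      exact hb
    rwa [Submodule.Quotient.mk_eq_zero, smul_eq_mul, Ideal.mul_top, hl] at h1
  let x : Fin n → A := fun i => ∏ σ : G, σ • u i
  have hum : ∀ (σ : G) (i : Fin n), σ • u i ∈ IsLocalRing.maximalIdeal A := fun σ i => by
    rw [IsLocalRing.mem_maximalIdeal]
    intro h
    have h' := h.map (MulSemiringAction.toRingHom G A σ⁻¹)
    simp at h'
    exact (IsLocalRing.mem_maximalIdeal _).1 (hu ▸ Ideal.subset_span (Set.mem_range_self i)) h'
  have hsop : ∀ f : Fin n → A, (∀ i, ∀ P : Ideal A, P.IsPrime → f i ∈ P → ∃ σ : G, σ • u i ∈ P) →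
      IsLocalRing.maximalIdeal A ≤ (Ideal.span (Set.range f)).radical := by
    intro f hf
    rw [Ideal.radical_eq_sInf]
    refine le_sInf fun P hP => ?_
    choose τ hτ using fun i => hf i P hP.2 (hP.1 (Ideal.subset_span (Set.mem_range_self i)))
    exact (hwa τ).trans (hP.2.radical_le_iff.2 (Ideal.span_le.2 (Set.range_subset_iff.2 hτ)))
  have key : ∀ (m : ℕ) (hm : m ≤ n) (τ : Fin n → G),
      ((Fintype.card G ^ m : ℕ) : ℕ∞) ≤
        Module.length A (A ⧸ Ideal.span (Set.range fun i : Fin n => if i.1 < m then x i else τ i • u i)) := by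
    intro m
    induction m with
    | zero =>
      intro _ τ
      have : Nontrivial (A ⧸ Ideal.span (Set.range fun i : Fin n => if i.1 < 0 then x i else τ i • u i)) :=
        Ideal.Quotient.nontrivial_iff.2 (ne_top_of_le_ne_top (IsLocalRing.maximalIdeal.isMaximal A).ne_top
          (Ideal.span_le.2 (Set.range_subset_iff.2 fun i => by simp [hum])))
      rw [pow_zero, Nat.cast_one, Order.one_le_iff_pos, pos_iff_ne_zero, ne_eq, Module.length_eq_zero_iff]
      exact not_subsingleton _
    | succ m ih =>
      intro hm τ
      let e : Fin n := ⟨m, hm⟩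
      let g : Fin n → A := fun i => if i.1 < m then x i else τ i • u i
      let J : Ideal A := Ideal.span (g '' {e}ᶜ)
      have split : ∀ (f : Fin n → A), (∀ i, i ≠ e → f i = g i) →
          Ideal.span (Set.range f) = J ⊔ Ideal.span {f e} := fun f hf => by
        have hJ : J = Ideal.span (f '' {e}ᶜ) := congrArg Ideal.span (Set.image_congr fun i hi => (hf i hi).symm)
        rw [hJ, ← Ideal.span_union, ← Set.image_univ, ← Set.compl_union_self ({e} : Set (Fin n)),
          Set.image_union, Set.image_singleton]
      have hne : ∀ i : Fin n, i ≠ e → (i.1 < m + 1 ↔ i.1 < m) := fun i hi => by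
        have : i.1 ≠ m := fun h => hi (Fin.ext h)
        omega
      have hr : ∀ (σ : G) (b : A), σ • u e * b ∈ J → b ∈ J := fun σ b hb => by
        have h1 := hreg (Function.update g e (σ • u e)) (fun i => ?_) (hsop _ fun i P hP hi => ?_) e b
        · rw [Function.update_self, show Function.update g e (σ • u e) '' {e}ᶜ = g '' {e}ᶜ from
            Set.image_congr fun i hi => Function.update_of_ne hi _ _] at h1
          exact h1 hb
        · rcases eq_or_ne i e with rfl | hi
          · rw [Function.update_self]; exact hum σ _
          · rw [Function.update_of_ne hi]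
            by_cases him : i.1 < m
            · simp only [g, if_pos him, x]
              rw [← Finset.mul_prod_erase _ _ (Finset.mem_univ (1 : G))]
              exact Ideal.mul_mem_right _ _ (hum 1 i)
            · simp only [g, if_neg him]; exact hum _ _
        · rcases eq_or_ne i e with rfl | hie
          · rw [Function.update_self] at hi; exact ⟨σ, hi⟩
          · rw [Function.update_of_ne hie] at hi
            by_cases him : i.1 < m
            · simp only [g, if_pos him, x] at hi
              obtain ⟨σ', _, hσ'⟩ := hP.prod_mem_iff.1 hi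
              exact ⟨σ', hσ'⟩
            · simp only [g, if_neg him] at hi; exact ⟨_, hi⟩
      have hprod : ∀ s : Finset G, (s.card : ℕ∞) * ((Fintype.card G ^ m : ℕ) : ℕ∞) ≤
          Module.length A (A ⧸ (J ⊔ Ideal.span {∏ σ ∈ s, σ • u e})) := by
        intro s
        induction s using Finset.induction with
        | empty => simp
        | @insert σ s hσ ihs =>
          rw [Finset.prod_insert hσ, Finset.card_insert_of_notMem hσ]
          refine le_trans ?_ (hmul J _ _ (hr σ))
          push_cast
          rw [add_mul, one_mul, add_comm]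
          refine add_le_add ?_ (by exact_mod_cast ihs)
          have h := ih (by omega) (Function.update τ e σ)
          rw [split _ (fun i hi => by simp only [g, Function.update_of_ne hi]), if_neg (lt_irrefl m),
            Function.update_self] at h
          exact_mod_cast h
      rw [split _ (fun i hi => by simp only [g, hne i hi]), if_pos (Nat.lt_succ_self m)]
      refine le_trans (le_of_eq ?_) (hprod Finset.univ)
      rw [Finset.card_univ, ← Nat.cast_mul, pow_succ, mul_comm]
  have := key n le_rfl (fun _ => 1)
  rw [show (fun i : Fin n => if i.1 < n then x i else (1 : G) • u i) = x from funext fun i => if_pos i.is_lt] at this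
  exact this

end Groth.Agent.S15797
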