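import Groth.Statements.S15799
import Mathlib
import Groth.Agent.Calg7.ParamPS
import Groth.Agent.Agf.WildFinite
import Groth.Agent.S15790
-- import your own Groth.Agent.* helpers here

set_option autoImplicit false
universe u v w
open WildQuot

namespace Groth.Agent.S15799

section Helpers

open MvPowerSeries IsLocalRing Groth.SGA7.PS

private theorem split {σ : Type} {k : Type v} [Field k] (p : ℕ) [hp : Fact p.Prime] [CharP k p]
    (i j : σ) (hij : i ≠ j) (L : ℕ) (Y Z₁ Z₂ : MvPowerSeries σ k)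
    (h : Y ^ p - Y * (X i ^ L * X j ^ L) ^ (p - 1) = Z₁ * (X j ^ L) ^ p - Z₂ * (X i ^ L) ^ p) :
    ∃ Y₁ Y₂, Y = Y₁ * X j ^ L - Y₂ * X i ^ L := by
  classical
  haveI : ExpChar k p := ExpChar.prime hp.out
  have hp2 := hp.out.two_le
  have key : ∀ s, ∀ m : σ →₀ ℕ, m i + m j = s → m i < L → m j < L → coeff m Y = 0 := by
    intro s
    induction s using Nat.strong_induction_on with
    | _ s ih =>
      intro m hs hi hj
      have h1 : coeff (p • m) (Y ^ p) = (coeff m Y) ^ p := by
        rw [← MvPowerSeries.map_frobenius_expand p hp.out.ne_zero, MvPowerSeries.coeff_map,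
          MvPowerSeries.coeff_expand_smul]
        rfl
      have hr : ∀ (Z : MvPowerSeries σ k) (l : σ), m l < L → coeff (p • m) (Z * (X l ^ L) ^ p) = 0 := by
        intro Z l hl
        refine (X_pow_dvd_iff.1 (show X l ^ (L * p) ∣ Z * (X l ^ L) ^ p from
          ⟨Z, by rw [← pow_mul]; ring⟩)) _ ?_
        simp only [Finsupp.smul_apply, smul_eq_mul]
        rw [mul_comm L]
        exact Nat.mul_lt_mul_of_pos_left hl hp.out.pos
      have h2 : coeff (p • m) (Y * (X i ^ L * X j ^ L) ^ (p - 1)) = 0 := by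
        set e : σ →₀ ℕ := Finsupp.single i (L * (p - 1)) + Finsupp.single j (L * (p - 1))
        have he : (X i ^ L * X j ^ L : MvPowerSeries σ k) ^ (p - 1) = monomial e 1 := by
          rw [mul_pow, ← pow_mul, ← pow_mul, X_pow_eq, X_pow_eq, monomial_mul_monomial, one_mul]
        rw [he, MvPowerSeries.coeff_mul_monomial]
        split_ifs with hle
        · rw [mul_one]
          obtain ⟨q, rfl⟩ : ∃ q, p = q + 1 := ⟨p - 1, by omega⟩
          have hei : e i = L * q := by simp [e, Finsupp.single_apply, hij.symm]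
          have hej : e j = L * q := by simp [e, Finsupp.single_apply, hij]
          have li : L * q ≤ (q + 1) * m i := by
            have := hle i; rw [hei] at this; simpa using this
          have lj : L * q ≤ (q + 1) * m j := by
            have := hle j; rw [hej] at this; simpa using this
          have di : ((q + 1) • m - e) i = (q + 1) * m i - L * q := by simp [Finsupp.tsub_apply, hei]
          have dj : ((q + 1) • m - e) j = (q + 1) * m j - L * q := by simp [Finsupp.tsub_apply, hej]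
          have ai : m i * q + q ≤ L * q := by nlinarith
          have aj : m j * q + q ≤ L * q := by nlinarith
          have ei : (q + 1) * m i = m i * q + m i := by ring
          have ej : (q + 1) * m j = m j * q + m j := by ring
          refine ih _ ?_ ((q + 1) • m - e) rfl ?_ ?_
          · rw [di, dj]; omega
          · rw [di]; omega
          · rw [dj]; omega
        · rfl
      have h3 := congrArg (coeff (p • m)) h
      rw [map_sub, map_sub, h1, h2, hr Z₁ j hj, hr Z₂ i hi, sub_zero, sub_zero] at h3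
      exact eq_zero_of_pow_eq_zero h3
  let U : MvPowerSeries σ k := fun m => if m i < L then coeff m Y else 0
  have hU : ∀ m, coeff m U = if m i < L then coeff m Y else 0 := fun m => rfl
  obtain ⟨Y₁, hY₁⟩ : X j ^ L ∣ U := X_pow_dvd_iff.2 fun m hm => by
    rw [hU]
    split_ifs with h
    · exact key _ m rfl h hm
    · rfl
  obtain ⟨W, hW⟩ : X i ^ L ∣ Y - U := X_pow_dvd_iff.2 fun m hm => by
    rw [map_sub, hU, if_pos hm, sub_self]
  exact ⟨Y₁, -W, by linear_combination hW + hY₁⟩

variable {A : Type u} [CommRing A] {k : Type v} [Field k] [Algebra k A] {n : ℕ}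

private theorem smul_range [IsLocalRing A] [IsNoetherianRing A] {G : Type w} [Group G] [MulSemiringAction G A]
    [SMulCommClass G k A] (φ : MvPowerSeries (Fin n) k →ₐ[k] A)
    (hm : ∀ i, φ (MvPowerSeries.X i) ∈ maximalIdeal A)
    (hfix : ∀ i (g : G), g • φ (MvPowerSeries.X i) = φ (MvPowerSeries.X i))
    (g : G) (f : MvPowerSeries (Fin n) k) : g • φ f = φ f := by
  have hpoly : ∀ q : MvPolynomial (Fin n) k, g • φ (q : MvPowerSeries (Fin n) k) = φ q := by
    intro q
    induction q using MvPolynomial.induction_on with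
    | C a =>
      rw [MvPolynomial.coe_C, show (MvPowerSeries.C a : MvPowerSeries (Fin n) k)
        = algebraMap k (MvPowerSeries (Fin n) k) a from rfl, φ.commutes, Algebra.algebraMap_eq_smul_one,
        smul_comm, smul_one]
    | add a b ha hb => rw [MvPolynomial.coe_add, map_add, smul_add, ha, hb]
    | mul_X a i ha => rw [MvPolynomial.coe_mul, MvPolynomial.coe_X, map_mul, smul_mul', ha, hfix]
  refine sub_eq_zero.1 (IsHausdorff.haus' (I := maximalIdeal A) _ fun N => ?_)
  rw [SModEq.zero, smul_eq_mul, Ideal.mul_top]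
  have h1 : f - (truncTotal N f : MvPowerSeries (Fin n) k) ∈ varIdeal (Fin n) k ^ N := by
    refine mem_varIdeal_pow N _ fun d hd => ?_
    rw [map_sub, MvPolynomial.coeff_coe, coeff_truncTotal _ hd, sub_self]
  have hle : (varIdeal (Fin n) k).map φ.toRingHom ≤ maximalIdeal A := by
    rw [varIdeal, Ideal.map_span, Ideal.span_le]
    rintro _ ⟨_, ⟨i, rfl⟩, rfl⟩
    exact hm i
  have h2 : φ f - φ (truncTotal N f : MvPowerSeries (Fin n) k) ∈ maximalIdeal A ^ N := by
    rw [← map_sub]
    have := Ideal.mem_map_of_mem φ.toRingHom h1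
    rw [Ideal.map_pow] at this
    exact Ideal.pow_right_mono hle N this
  have hg : (maximalIdeal A).map (MulSemiringAction.toRingHom G A g) ≤ maximalIdeal A :=
    Groth.Agf.WildFinite.map_maximalIdeal_le g
  have h3 : g • (φ f - φ (truncTotal N f : MvPowerSeries (Fin n) k)) ∈ maximalIdeal A ^ N := by
    have := Ideal.mem_map_of_mem (MulSemiringAction.toRingHom G A g) h2
    rw [Ideal.map_pow] at this
    exact Ideal.pow_right_mono hg N this
  rw [smul_sub, hpoly] at h3
  simpa using sub_mem h3 h2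

private theorem pow_mem_trace [IsDomain A] [IsLocalRing A] [IsNoetherianRing A]
    [IsAdicComplete (maximalIdeal A) A] {G : Type w} [Group G] [Fintype G] [MulSemiringAction G A]
    (hk : Function.Surjective (residue A ∘ algebraMap k A))
    (hGk : ∀ (g : G) (c : k), g • algebraMap k A c = algebraMap k A c)
    (hram : ∀ P : Ideal A, P.IsPrime → P ≠ maximalIdeal A → P.inertia G = ⊥)
    (x : A) (hxm : x ∈ maximalIdeal A) (hx : ∀ g : G, g • x = x) :
    ∃ (N : ℕ) (a : A), ∑ g : G, g • a = x ^ N := by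
  classical
  have htr : ∀ (a : A) (g : G), g • ∑ τ : G, τ • a = ∑ τ : G, τ • a := fun a g => by
    rw [Finset.smul_sum]
    exact Fintype.sum_equiv (Equiv.mulLeft g) _ _ fun τ => by rw [Equiv.coe_mulLeft, mul_smul]
  obtain ⟨hfin, -⟩ := Groth.Agf.WildFinite.finite_noetherian (A := A) (G := G) k hk hGk
  haveI := hfin
  let B := FixedPoints.subring A G
  haveI : Algebra.IsIntegral B A := Algebra.IsIntegral.of_finite B A
  let T : Ideal B :=
    { carrier := {b : B | ∃ a : A, ∑ g : G, g • a = (b : A)}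
      add_mem' := by
        rintro b c ⟨a, ha⟩ ⟨a', ha'⟩
        exact ⟨a + a', by simp only [smul_add, Finset.sum_add_distrib, ha, ha']; rfl⟩
      zero_mem' := ⟨0, by simp⟩
      smul_mem' := by
        rintro c b ⟨a, ha⟩
        refine ⟨(c : A) * a, ?_⟩
        simp only [smul_mul', c.2 _, ← Finset.mul_sum, ha]
        rfl }
  suffices h : (⟨x, hx⟩ : B) ∈ T.radical by
    obtain ⟨N, a, ha⟩ := h
    exact ⟨N, a, ha.trans (SubmonoidClass.coe_pow _ _)⟩
  rw [Ideal.radical_eq_sInf, Ideal.mem_sInf]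
  rintro q ⟨hTq, hq⟩
  haveI := hq
  obtain ⟨P, -, hP, hPq⟩ := Ideal.exists_ideal_over_prime_of_isIntegral q (⊥ : Ideal A) (by
    intro b hb
    have hb0 : (b : A) = 0 := hb
    rw [show b = 0 from Subtype.ext hb0]
    exact zero_mem q)
  haveI := hP
  rw [← hPq]
  show x ∈ P
  by_contra hxP
  have hPm : P ≠ maximalIdeal A := fun e => hxP (e ▸ hxm)
  have hin := hram P hP hPm
  have hinj : Function.Injective (fun g : G =>
      ((algebraMap (A ⧸ P) (FractionRing (A ⧸ P))).comp
        ((Ideal.Quotient.mk P).comp (MulSemiringAction.toRingHom G A g))).toMonoidHom) := by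
    intro g g' h
    have h' : ∀ a, Ideal.Quotient.mk P (g • a) = Ideal.Quotient.mk P (g' • a) := fun a =>
      IsFractionRing.injective (A ⧸ P) (FractionRing (A ⧸ P)) (DFunLike.congr_fun h a)
    have : g * g'⁻¹ ∈ P.inertia G := fun b => by
      have h2 := Ideal.Quotient.eq.1 (h' (g'⁻¹ • b))
      rwa [smul_inv_smul, ← mul_smul] at h2
    rw [hin, Subgroup.mem_bot] at this
    exact (mul_inv_eq_one.1 this)
  have hli := (linearIndependent_monoidHom A (FractionRing (A ⧸ P))).comp _ hinj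
  refine one_ne_zero (Fintype.linearIndependent_iff.1 hli (fun _ => 1) ?_ (1 : G))
  funext a
  have hta : (∑ g : G, g • a) ∈ P := by
    have h1 : (⟨∑ g : G, g • a, htr a⟩ : B) ∈ q := hTq ⟨a, rfl⟩
    rw [← hPq] at h1
    exact h1
  rw [Finset.sum_apply, Pi.zero_apply]
  calc ∑ g : G, ((1 : FractionRing (A ⧸ P)) • _) = ∑ g : G,
        algebraMap (A ⧸ P) (FractionRing (A ⧸ P)) (Ideal.Quotient.mk P (g • a)) :=
        Finset.sum_congr rfl fun g _ => one_smul _ _
    _ = 0 := by rw [← map_sum, ← map_sum, Ideal.Quotient.eq_zero_iff_mem.2 hta, map_zero]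

end Helpers


set_option maxHeartbeats 1600000 in
/-- Let `A` be a complete regular local ring of Krull dimension `n ≥ 2` and prime characteristic `p`,
`k` a field with `k → A` mapping onto the residue field, and `G` a group of order `p` acting on `A`
by `k`-algebra automorphisms, ramified precisely at the origin (for every non-maximal prime `P`, the
inertia subgroup of `P` (the elements of `G` fixing every element modulo `P`) is trivial). Let `u_1,
…, u_n` be an admissible regular system of parameters (for every choice `σ_1, …, σ_n ∈ G`, the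
elements `σ_i u_i` generate the maximal ideal) and let `φ : k[[X_1, …, X_n]] → A` be the `k`-algebra
map with `φ X_i = x_i = ∏_{σ} σ u_i`, whose image is the norm subring `R`. Then `Frac(A^G)` is not
purely inseparable over `Frac(R)`; equivalently (as `A` is integral over the integrally closed `R`),
some `G`-invariant `y ∈ A` has no iterated `p`-th power `y ^ (p ^ e)` in `R`. -/
theorem result
    (p : ℕ) [Fact p.Prime] (A : Type u) [CommRing A] [IsRegularLocalRing A] [CharP A p]
    [IsAdicComplete (IsLocalRing.maximalIdeal A) A] (n : ℕ) (hn : ringKrullDim A = n) (h2 : 2 ≤ n)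
    (k : Type v) [Field k] [Algebra k A]
    (hk : Function.Surjective (IsLocalRing.residue A ∘ algebraMap k A))
    (G : Type w) [Group G] [Fintype G] [MulSemiringAction G A] (hcard : Fintype.card G = p)
    [SMulCommClass G k A]
    (hram : ∀ P : Ideal A, P.IsPrime → P ≠ IsLocalRing.maximalIdeal A → P.inertia G = ⊥)
    (u : Fin n → A)
    (hu : ∀ τ : Fin n → G,
      Ideal.span (Set.range fun i => τ i • u i) = IsLocalRing.maximalIdeal A)
    (φ : MvPowerSeries (Fin n) k →ₐ[k] A) (hφ : ∀ i, φ (MvPowerSeries.X i) = ∏ σ : G, σ • u i) :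
    ∃ y : A, (∀ σ : G, σ • y = y) ∧ ∀ e : ℕ, y ^ p ^ e ∉ Set.range φ := by
  classical
  haveI := Groth.Ega4Algebra1.isDomain_of_isRegularLocalRing A
  by_contra hcon
  push Not at hcon
  haveI : ExpChar A p := ExpChar.prime (Fact.out : p.Prime)
  haveI : CharP k p := (RingHom.charP_iff _ (algebraMap k A).injective p).2 inferInstance
  have hGk : ∀ (g : G) (c : k), g • algebraMap k A c = algebraMap k A c := fun g c => by
    rw [Algebra.algebraMap_eq_smul_one, smul_comm, smul_one]
  set x : Fin n → A := fun i => ∏ g : G, g • u i with hxdef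
  have hu1 : Ideal.span (Set.range u) = IsLocalRing.maximalIdeal A := by
    simpa using hu (fun _ => 1)
  have hxm : ∀ i, x i ∈ IsLocalRing.maximalIdeal A := fun i =>
    Ideal.mem_of_dvd _ (Finset.dvd_prod_of_mem _ (Finset.mem_univ (1 : G)))
      (by rw [one_smul, ← hu1]; exact Ideal.subset_span ⟨i, rfl⟩)
  have hxfix : ∀ i (g : G), g • x i = x i := fun i g => by
    rw [hxdef, Finset.smul_prod']
    exact Fintype.prod_equiv (Equiv.mulLeft g) _ _ fun τ => by rw [Equiv.coe_mulLeft, mul_smul]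
  have hxrad : (Ideal.span (Set.range x)).radical = IsLocalRing.maximalIdeal A := by
    refine le_antisymm ?_ ((Groth.Agent.S15790.result A G n u hu1).2
      fun τ => (hu τ).ge.trans Ideal.le_radical)
    rw [(IsLocalRing.maximalIdeal.isMaximal A).isPrime.radical_le_iff, Ideal.span_le]
    rintro _ ⟨i, rfl⟩
    exact hxm i
  obtain ⟨d, b, -, hb⟩ := Calg7.ParamPS.exists_basis A hn k hk x hxrad φ hφ
  have hφinj : Function.Injective φ := by
    have hd : 0 < d := by
      by_contra hd
      obtain ⟨r, hr⟩ := hb.surjective 1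
      haveI : IsEmpty (Fin d) := ⟨fun i => hd (lt_of_le_of_lt (Nat.zero_le _) i.2)⟩
      simp at hr
    intro r r' hrr
    refine congrFun (hb.injective (show (fun r : Fin d → MvPowerSeries (Fin n) k => ∑ i, φ (r i) * b i)
      (fun _ => r) = (fun r : Fin d → MvPowerSeries (Fin n) k => ∑ i, φ (r i) * b i) (fun _ => r') from ?_))
      ⟨0, hd⟩
    simp only [hrr]
  have hGfix := fun g f => smul_range (G := G) φ (fun i => by rw [hφ]; exact hxm i)
    (fun i g => by rw [hφ]; exact hxfix i g) g f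
  let i₀ : Fin n := ⟨0, by omega⟩
  let i₁ : Fin n := ⟨1, by omega⟩
  have hne : i₀ ≠ i₁ := by simp [i₀, i₁]
  -- a character
  haveI : NeZero p := ⟨(Fact.out : p.Prime).ne_zero⟩
  let eG : Multiplicative (ZMod p) ≃* G :=
    (mulEquivOfPrimeCardEq (p := p) (by simp) (by rw [Nat.card_eq_fintype_card, hcard]))
  let χ : G → A := fun g => ZMod.castHom (dvd_refl p) A (eG.symm g).toAdd
  have hχmul : ∀ g h, χ (g * h) = χ g + χ h := fun g h => by simp [χ]
  have hχp : ∀ g, χ g ^ p = χ g := fun g => by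
    show ZMod.castHom (dvd_refl p) A _ ^ p = _
    rw [← map_pow, ZMod.pow_card]
  have hχq : ∀ e g, χ g ^ p ^ e = χ g := fun e g => by
    induction e with
    | zero => simp
    | succ e ih => rw [pow_succ, pow_mul, ih, hχp]
  let g₀ : G := eG (Multiplicative.ofAdd 1)
  have hg₀ : χ g₀ = 1 := by simp [χ, g₀]
  obtain ⟨N₀, a₀, ha₀⟩ := pow_mem_trace (k := k) hk hGk hram (x i₀) (hxm i₀) (hxfix i₀)
  obtain ⟨N₁, a₁, ha₁⟩ := pow_mem_trace (k := k) hk hGk hram (x i₁) (hxm i₁) (hxfix i₁)
  set M := max N₀ N₁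
  set P₀ := x i₀ ^ M
  set P₁ := x i₁ ^ M
  have hP₀ : ∀ g : G, g • P₀ = P₀ := fun g => by rw [smul_pow', hxfix]
  have hP₁ : ∀ g : G, g • P₁ = P₁ := fun g => by rw [smul_pow', hxfix]
  have hα : ∀ (i : Fin n) (N : ℕ) (a : A), N ≤ M → ∑ g : G, g • a = x i ^ N →
      ∃ α : A, ∀ g : G, g • α = α + χ g * x i ^ M := by
    intro i N a hNM ha
    refine ⟨-∑ τ : G, χ τ * (τ • (a * x i ^ (M - N))), fun g => ?_⟩
    have hcast : ∀ (τ : G), g • χ τ = χ τ := fun τ => by
      show MulSemiringAction.toRingHom G A g (χ τ) = χ τ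
      exact RingHom.congr_fun (Subsingleton.elim
        ((MulSemiringAction.toRingHom G A g).comp (ZMod.castHom (dvd_refl p) A)) (ZMod.castHom (dvd_refl p) A)) _
    have htr : ∑ τ : G, τ • (a * x i ^ (M - N)) = x i ^ M := by
      simp only [smul_mul', smul_pow', hxfix, ← Finset.sum_mul, ha, ← pow_add]
      rw [Nat.add_sub_cancel' hNM]
    rw [smul_neg, Finset.smul_sum]
    have h1 : ∑ τ : G, g • (χ τ * (τ • (a * x i ^ (M - N)))) =
        ∑ τ : G, (χ τ - χ g) * (τ • (a * x i ^ (M - N))) := by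
      refine Fintype.sum_equiv (Equiv.mulLeft g) _ _ fun τ => ?_
      rw [Equiv.coe_mulLeft, smul_mul', hcast, hχmul, mul_smul]
      ring
    rw [h1]
    simp only [sub_mul, Finset.sum_sub_distrib, ← Finset.mul_sum, htr]
    ring
  obtain ⟨α₀, hα₀⟩ := hα i₀ N₀ a₀ (le_max_left _ _) ha₀
  obtain ⟨α₁, hα₁⟩ := hα i₁ N₁ a₁ (le_max_right _ _) ha₁
  set y := α₀ * P₁ - α₁ * P₀
  set z₀ := α₀ ^ p - α₀ * P₀ ^ (p - 1)
  set z₁ := α₁ ^ p - α₁ * P₁ ^ (p - 1)
  have hppow : ∀ P : A, P ^ p = P * P ^ (p - 1) := fun P => by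
    rw [← pow_succ', Nat.sub_add_cancel (Fact.out : p.Prime).one_le]
  have hy : ∀ g : G, g • y = y := fun g => by
    simp only [y, smul_sub, smul_mul', hα₀, hα₁, hP₀, hP₁]
    simp only [P₀, P₁]
    ring
  have hz : ∀ (α P : A) (g : G), g • α = α + χ g * P → g • P = P →
      g • (α ^ p - α * P ^ (p - 1)) = α ^ p - α * P ^ (p - 1) := fun α P g h hP => by
    rw [smul_sub, smul_mul', smul_pow', smul_pow', h, hP, add_pow_char, mul_pow, hχp, hppow P]
    ring
  obtain ⟨e₀, hey⟩ := hcon y hy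
  obtain ⟨e₁, hez₀⟩ := hcon z₀ fun g => hz α₀ P₀ g (hα₀ g) (hP₀ g)
  obtain ⟨e₂, hez₁⟩ := hcon z₁ fun g => hz α₁ P₁ g (hα₁ g) (hP₁ g)
  set E := max e₀ (max e₁ e₂)
  have hup : ∀ (w : A) (e : ℕ), e ≤ E → w ^ p ^ e ∈ Set.range φ → ∃ W, φ W = w ^ p ^ E := by
    rintro w e he ⟨W, hW⟩
    obtain ⟨c, hc⟩ := Nat.exists_eq_add_of_le he
    exact ⟨W ^ p ^ c, by rw [map_pow, hW, ← pow_mul, ← pow_add, ← hc]⟩
  obtain ⟨Y, hY⟩ := hup y e₀ (le_max_left _ _) hey
  obtain ⟨Z₀, hZ₀⟩ := hup z₀ e₁ ((le_max_left _ _).trans (le_max_right _ _)) hez₀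
  obtain ⟨Z₁, hZ₁⟩ := hup z₁ e₂ ((le_max_right _ _).trans (le_max_right _ _)) hez₁
  set q := p ^ E
  set L := M * q
  have hX₀ : φ (MvPowerSeries.X i₀ ^ L) = P₀ ^ q := by rw [map_pow, hφ, ← pow_mul]
  have hX₁ : φ (MvPowerSeries.X i₁ ^ L) = P₁ ^ q := by rw [map_pow, hφ, ← pow_mul]
  haveI : ExpChar k p := ExpChar.prime (Fact.out : p.Prime)
  have hrel : y ^ p - y * (P₀ * P₁) ^ (p - 1) = z₀ * P₁ ^ p - z₁ * P₀ ^ p := by
    simp only [y, z₀, z₁, sub_pow_char, mul_pow, hppow P₀, hppow P₁]
    ring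
  obtain ⟨Y₁, Y₂, hsplit⟩ := split p i₀ i₁ hne L Y Z₀ Z₁ (hφinj (by
    have hq := congrArg (fun a => a ^ q) hrel
    simp only [q, sub_pow_char_pow] at hq
    simp only [map_sub, map_mul, map_pow φ _ p, map_pow φ _ (p - 1), hX₀, hX₁, hY, hZ₀, hZ₁]
    convert hq using 1 <;> simp only [mul_pow, ← pow_mul] <;> ring))
  have hgood : ∀ w : A, P₀ ^ q ∣ P₁ ^ q * w → P₀ ^ q ∣ w := by
    rintro w ⟨c, hc⟩
    obtain ⟨r, rfl⟩ := hb.surjective w
    obtain ⟨s, rfl⟩ := hb.surjective c
    have h1 : (fun i => MvPowerSeries.X i₁ ^ L * r i) = fun i => MvPowerSeries.X i₀ ^ L * s i := by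
      refine hb.injective ?_
      simp only [map_mul, hX₀, hX₁, mul_assoc, ← Finset.mul_sum]
      exact hc
    have h2 : ∀ i, MvPowerSeries.X i₀ ^ L ∣ r i := fun i => MvPowerSeries.X_pow_dvd_iff.2 fun m hm => by
      have h3 := congrArg (MvPowerSeries.coeff (m + Finsupp.single i₁ L)) (congrFun h1 i)
      rw [MvPowerSeries.X_pow_eq, MvPowerSeries.coeff_monomial_mul, if_pos le_add_self, one_mul,
        add_tsub_cancel_right] at h3
      rw [h3]
      refine MvPowerSeries.X_pow_dvd_iff.1 (dvd_mul_right (MvPowerSeries.X i₀ ^ L) (s i)) _ ?_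
      simpa [hne.symm] using hm
    exact Finset.dvd_sum fun i _ => Dvd.dvd.mul_right (hX₀ ▸ map_dvd φ (h2 i)) _
  have hyq : φ Y = α₀ ^ q * P₁ ^ q - α₁ ^ q * P₀ ^ q := by
    rw [hY, ← mul_pow, ← mul_pow, ← sub_pow_char_pow]
  rw [hsplit, map_sub, map_mul, map_mul, hX₀, hX₁] at hyq
  obtain ⟨θ, hθ⟩ : P₀ ^ q ∣ α₀ ^ q - φ Y₁ :=
    hgood _ ⟨α₁ ^ q - φ Y₂, by linear_combination (-1 : A) * hyq⟩
  have hg : g₀ • θ = θ + 1 := by
    have hP0 : P₀ ^ q ≠ 0 := pow_ne_zero _ (pow_ne_zero _ fun h0 => by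
      have := congrArg (MvPowerSeries.coeff (Finsupp.single i₀ 1)) (hφinj (((hφ i₀).trans h0).trans (map_zero φ).symm))
      simp [MvPowerSeries.coeff_X] at this)
    refine mul_left_cancel₀ hP0 ?_
    have h1 := congrArg (g₀ • ·) hθ
    simp only [smul_sub, smul_mul', smul_pow', hα₀, hGfix, hP₀, hg₀, one_mul] at h1
    rw [← h1, add_pow_char_pow, mul_add, mul_one, ← hθ]
    ring
  obtain ⟨c, hc⟩ := hk (IsLocalRing.residue A θ)
  have h1 : θ - algebraMap k A c ∈ IsLocalRing.maximalIdeal A := by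
    rw [← IsLocalRing.residue_eq_zero_iff, map_sub]
    exact sub_eq_zero.2 hc.symm
  have h2 := sub_mem (Groth.Agf.WildFinite.smul_mem_maximalIdeal h1 g₀) h1
  rw [smul_sub, hGk, sub_sub_sub_cancel_right, hg, add_sub_cancel_left] at h2
  exact (IsLocalRing.maximalIdeal.isMaximal A).ne_top ((Ideal.eq_top_iff_one _).2 h2)

end Groth.Agent.S15799
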