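import Groth.Statements.S15803
import Groth.Agent.Purity.GaloisCover
-- import your own Groth.Agent.* helpers here

set_option autoImplicit false
universe u v w
open WildQuot

namespace Groth.Agent.S15803

/-- Let `R` be a regular local ring and `A` a normal local domain, finite over `R` (with `R → A`
injective) and with the same residue field; let a finite group `H` act faithfully on `A` by
`R`-algebra automorphisms with ring of invariants exactly `R` (so `Frac(A)/Frac(R)` is Galois with
group `H`); let `p` be a prime and suppose that every nontrivial inertia subgroup of a height-one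
prime of `A` has order `p` and is normal in `H`. Then `H` is commutative and every element satisfies
`h ^ p = 1`: `H` is an elementary abelian `p`-group (of order the degree of `Frac(A)` over
`Frac(R)`). (The published statement is for `A` a complete regular local ring with an action
ramified precisely at the origin, `R = k[[x_1, …, x_n]]` a norm subring and `H` the Galois group of
`Frac(A)/Frac(R)`, when that extension is Galois; this row assumes only the hypotheses listed
above.) -/
theorem result
    (p : ℕ) [Fact p.Prime] (R : Type u) [CommRing R] [IsRegularLocalRing R]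
    (A : Type v) [CommRing A] [IsDomain A] [IsIntegrallyClosed A] [IsLocalRing A]
    [Algebra R A] [Module.Finite R A] (hinj : Function.Injective (algebraMap R A))
    (hres : Function.Surjective (IsLocalRing.residue A ∘ algebraMap R A))
    (H : Type w) [Group H] [Finite H] [MulSemiringAction H A] [SMulCommClass H R A] [FaithfulSMul H A]
    (hfix : ∀ a : A, (∀ h : H, h • a = a) → a ∈ Set.range (algebraMap R A))
    (hMR2 : ∀ P : Ideal A, P.IsPrime → P.height = 1 → P.inertia H ≠ ⊥ →
      Nat.card (P.inertia H) = p ∧ (P.inertia H).Normal) :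
    (∀ g h : H, g * h = h * g) ∧ ∀ h : H, h ^ p = 1 := by
  obtain ⟨h1, h2, h3⟩ := Groth.Purity.regular_fixedPoints R A hinj hres H hfix
  have htop := Groth.Purity.iSup_inertia_eq_top A H h3
  have hp : p.Prime := Fact.out
  have key : ∀ P Q : {P : Ideal A // P.IsPrime ∧ P.height = 1}, ∀ g ∈ P.1.inertia H, ∀ h ∈ Q.1.inertia H, g * h = h * g := by
    intro P Q g hg h hh
    rcases eq_or_ne (P.1.inertia H) ⊥ with hP | hP
    · rw [hP, Subgroup.mem_bot] at hg; simp [hg]
    rcases eq_or_ne (Q.1.inertia H) ⊥ with hQ | hQ
    · rw [hQ, Subgroup.mem_bot] at hh; simp [hh]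
    obtain ⟨cP, nP⟩ := hMR2 P.1 P.2.1 P.2.2 hP
    obtain ⟨cQ, nQ⟩ := hMR2 Q.1 Q.2.1 Q.2.2 hQ
    rcases eq_or_ne (P.1.inertia H) (Q.1.inertia H) with hPQ | hPQ
    · haveI : IsCyclic (Q.1.inertia H) := isCyclic_of_prime_card cQ
      let _ := IsCyclic.commGroup (α := Q.1.inertia H)
      exact congr_arg Subtype.val (mul_comm (⟨g, hPQ ▸ hg⟩ : Q.1.inertia H) ⟨h, hh⟩)
    · refine Subgroup.commute_of_normal_of_disjoint _ _ nP nQ ?_ g h hg hh
      rw [disjoint_iff]
      by_contra hne
      haveI : Fact (Nat.card (P.1.inertia H)).Prime := ⟨cP.symm ▸ hp⟩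
      rcases ((P.1.inertia H ⊓ Q.1.inertia H).subgroupOf (P.1.inertia H)).eq_bot_or_eq_top_of_prime_card with h0 | h0
      · rw [Subgroup.subgroupOf_eq_bot, disjoint_iff] at h0
        exact hne (le_bot_iff.mp (h0 ▸ le_inf le_rfl inf_le_left))
      · rw [Subgroup.subgroupOf_eq_top] at h0
        exact hPQ (Subgroup.eq_of_le_of_card_ge (h0.trans inf_le_right) (by rw [cP, cQ]))
  have hc : ∀ g h : H, g * h = h * g := by
    intro g h
    have hg : g ∈ (⊤ : Subgroup H) := Subgroup.mem_top g
    rw [← htop] at hg
    induction hg using Subgroup.iSup_induction' with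
    | hp P x hx =>
      have hh : h ∈ (⊤ : Subgroup H) := Subgroup.mem_top h
      rw [← htop] at hh
      induction hh using Subgroup.iSup_induction' with
      | hp Q y hy => exact key P Q x hx y hy
      | h1 => simp
      | hmul a b _ _ ha hb => exact (Commute.mul_right ha hb)
    | h1 => simp
    | hmul a b _ _ ha hb => exact (Commute.mul_left ha hb)
  refine ⟨hc, fun h => ?_⟩
  have hh : h ∈ (⊤ : Subgroup H) := Subgroup.mem_top h
  rw [← htop] at hh
  induction hh using Subgroup.iSup_induction' with
  | hp Q y hy =>
    rcases eq_or_ne (Q.1.inertia H) ⊥ with hQ | hQ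
    · rw [hQ, Subgroup.mem_bot] at hy; simp [hy]
    obtain ⟨cQ, -⟩ := hMR2 Q.1 Q.2.1 Q.2.2 hQ
    have := pow_card_eq_one' (x := (⟨y, hy⟩ : Q.1.inertia H))
    rw [cQ] at this
    exact congr_arg Subtype.val this
  | h1 => simp
  | hmul a b _ _ ha hb => rw [Commute.mul_pow (hc a b), ha, hb, one_mul]

end Groth.Agent.S15803
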