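import Groth.Statements.S15805
import Groth.Agent.FrobForm.MonicVars
import Groth.Agent.GitQuot.ASFamilyAut
import Mathlib
-- import your own Groth.Agent.* helpers here

set_option autoImplicit false
universe u v
open WildQuot

namespace Groth.Agent.S15805

open MvPolynomial in
/-- Let `k` be a field of characteristic `p > 0`, `R = k[[x_1, …, x_n]]`, `a_1, …, a_n ∈ R` with zero
constant term and not all zero, and `A = R[u_1, …, u_n] / (u_i ^ p - a_i ^ (p-1) u_i - x_i : i =
1..n)`. Let `G` be a group of order `p` acting on `A` by `R`-algebra automorphisms, generated by an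
element `g` acting by `u_i ↦ u_i + a_i`. Then the skew group ring `A∗G` (free `A`-module on `G` with
`(a g)(b h) = a g(b) gh`) is a symmetric `R`-algebra: there is an `R`-linear form `φ : A∗G → R` with
`φ(xy) = φ(yx)` for all `x, y`, such that `y ↦ (x ↦ φ(x y))` is injective and reaches every
`R`-linear form on `A∗G` (so `Hom_R(A∗G, R) ≅ A∗G` as bimodules). -/
theorem result
    (p : ℕ) [Fact p.Prime] (k : Type u) [Field k] [CharP k p] (n : ℕ)
    (a : Fin n → MvPowerSeries (Fin n) k)
    (ham : ∀ i, MvPowerSeries.constantCoeff (a i) = 0) (hne : ∃ i, a i ≠ 0) :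
    let R := MvPowerSeries (Fin n) k
    let I : Ideal (MvPolynomial (Fin n) R) :=
      Ideal.span (Set.range fun i : Fin n =>
        X i ^ p - C (a i ^ (p - 1)) * X i - C (MvPowerSeries.X i))
    let A := MvPolynomial (Fin n) R ⧸ I
    ∀ (G : Type v) [Group G] [Finite G] [MulSemiringAction G A] [SMulCommClass G R A]
      (g : G), Nat.card G = p → (∀ h : G, h ∈ Subgroup.zpowers g) →
      (∀ i, g • (Ideal.Quotient.mk I (X i)) = Ideal.Quotient.mk I (X i) + algebraMap R A (a i)) →
      ∃ φ : SkewMonoidAlgebra A G →ₗ[R] R,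
        (∀ x y : SkewMonoidAlgebra A G, φ (x * y) = φ (y * x)) ∧
        Function.Injective (fun y : SkewMonoidAlgebra A G => fun x : SkewMonoidAlgebra A G => φ (x * y)) ∧
        ∀ ψ : SkewMonoidAlgebra A G →ₗ[R] R, ∃ y : SkewMonoidAlgebra A G, ∀ x, ψ x = φ (x * y) := by
  intro R I A G _ _ _ _ g hcard hgen hg
  classical
  haveI : Fintype G := Fintype.ofFinite G
  have hp := Groth.ASFamily.hp2 p
  have hI : I = Groth.EGA41Two.MonicVars.finIdeal (Groth.ASFamily.asPoly p (Groth.ASFamily.cc p a)) :=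
    Groth.ASFamily.ideal_eq p a
  obtain ⟨τ0, hinj0, hsurj0, hinv0⟩ := Groth.FrobForm.exists_form (Groth.ASFamily.asPoly p (Groth.ASFamily.cc p a))
    (Groth.ASFamily.monic_asPoly p _ hp) (fun i => by rw [Groth.ASFamily.natDegree_asPoly p _ hp]; omega)
  let e := Ideal.quotientEquivAlgOfEq R hI
  let τ : A →ₗ[R] R := τ0.comp e.toLinearMap
  have hinj : ∀ z : A, (∀ x, τ (x * z) = 0) → z = 0 := fun z hz => e.injective ((hinj0 (e z) fun x => by
    have h := hz (e.symm x)
    change τ0 (e (e.symm x * z)) = 0 at h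
    rwa [map_mul, e.apply_symm_apply] at h).trans (map_zero e).symm)
  have hsurj : ∀ w : A →ₗ[R] R, ∃ z, ∀ x, w x = τ (x * z) := by
    intro w
    obtain ⟨z, hz⟩ := hsurj0 (w.comp e.symm.toLinearMap)
    refine ⟨e.symm z, fun x => ?_⟩
    have h := hz (e x)
    change w (e.symm (e x)) = _ at h
    rw [e.symm_apply_apply] at h
    change w x = τ0 (e (x * e.symm z))
    rw [map_mul, e.apply_symm_apply, h]
  let F : G → (A →ₐ[R] A) := fun h => MulSemiringAction.toAlgHom R A h
  have hτg : ∀ z, τ (g • z) = τ z := by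
    intro z
    have h := hinv0 (e.toAlgHom.comp ((F g).comp e.symm.toAlgHom)) (fun i => ⟨a i, by
      have h0 : e.symm (Ideal.Quotient.mk _ (X i)) = Ideal.Quotient.mk I (X i) := rfl
      change e (g • e.symm (Ideal.Quotient.mk _ (X i))) = _
      rw [h0, hg i, map_add, AlgEquiv.commutes]
      rfl⟩) (e z)
    change τ0 (e (g • e.symm (e z))) = τ0 (e z) at h
    rw [e.symm_apply_apply] at h
    exact h
  have hτ : ∀ (h : G) z, τ (h • z) = τ z := by
    intro h
    let H : Subgroup G :=
      { carrier := {h | ∀ z, τ (h • z) = τ z}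
        one_mem' := fun z => by rw [one_smul]
        mul_mem' := fun {u v} hu hv z => by rw [mul_smul, hu, hv]
        inv_mem' := fun {u} hu z => by rw [← hu (u⁻¹ • z), smul_inv_smul] }
    exact (Subgroup.zpowers_le.mpr (show g ∈ H from hτg)) (hgen h)
  let φ : SkewMonoidAlgebra A G →ₗ[R] R :=
    { toFun := fun x => τ (x.coeff 1)
      map_add' := fun x y => by rw [SkewMonoidAlgebra.coeff_add, Finsupp.add_apply, map_add]
      map_smul' := fun r x => by
        rw [SkewMonoidAlgebra.coeff_smul, Finsupp.smul_apply, map_smul]; rfl }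
  have hφ : ∀ x y, φ (x * y) = ∑ h : G, τ (x.coeff h * h • y.coeff h⁻¹) := by
    intro x y
    change τ ((x * y).coeff 1) = _
    rw [SkewMonoidAlgebra.coeff_mul_antidiagonal_of_finset x y 1
      (Finset.univ.map ⟨fun h => (h, h⁻¹), fun u v huv => congrArg Prod.fst huv⟩) (by
        intro q
        simp only [Finset.mem_map, Finset.mem_univ, true_and, Function.Embedding.coeFn_mk]
        constructor
        · rintro ⟨h, rfl⟩; exact mul_inv_cancel h
        · intro hq; exact ⟨q.1, Prod.ext rfl (inv_eq_of_mul_eq_one_right hq)⟩), Finset.sum_map, map_sum]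
    rfl
  have hcomm : ∀ x y, φ (x * y) = φ (y * x) := by
    intro x y
    rw [hφ, hφ, ← Equiv.sum_comp (Equiv.inv G) (fun h => τ (y.coeff h * h • x.coeff h⁻¹))]
    refine Finset.sum_congr rfl fun h _ => ?_
    rw [Equiv.inv_apply, inv_inv, ← hτ h (y.coeff h⁻¹ * h⁻¹ • x.coeff h), smul_mul', smul_inv_smul]
    exact congrArg τ (show x.coeff h * h • y.coeff h⁻¹ = h • y.coeff h⁻¹ * x.coeff h by ring)
  have hsingle : ∀ (h : G) (c : A) (y : SkewMonoidAlgebra A G),
      φ (SkewMonoidAlgebra.single h c * y) = τ (c * h • y.coeff h⁻¹) := by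
    intro h c y
    rw [hφ, Finset.sum_eq_single h]
    · simp [SkewMonoidAlgebra.coeff_single]
    · intro u _ hu
      simp [SkewMonoidAlgebra.coeff_single, Finsupp.single_eq_of_ne hu]
    · simp
  refine ⟨φ, hcomm, fun y₁ y₂ h => ?_, fun ψ => ?_⟩
  · refine SkewMonoidAlgebra.ext fun u => ?_
    refine smul_left_cancel u⁻¹ (sub_eq_zero.mp (hinj _ fun c => ?_))
    have h1 := congrFun h (SkewMonoidAlgebra.single u⁻¹ c)
    simp only [hsingle, inv_inv] at h1
    rw [mul_sub, map_sub, sub_eq_zero]
    exact h1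
  · let sgl : G → (A →ₗ[R] SkewMonoidAlgebra A G) := fun h =>
      (SkewMonoidAlgebra.coeffLinearEquiv (S := R)).symm.toLinearMap.comp (Finsupp.lsingle h)
    choose z hz using fun h => hsurj (ψ.comp (sgl h))
    let y : SkewMonoidAlgebra A G := (SkewMonoidAlgebra.coeffLinearEquiv (S := R)).symm
      (Finsupp.equivFunOnFinite.symm fun u => u • z u⁻¹)
    refine ⟨y, fun x => ?_⟩
    have hy : ∀ h : G, h • y.coeff h⁻¹ = z h := fun h => by
      change h • (h⁻¹ • z h⁻¹⁻¹) = z h
      rw [inv_inv, smul_inv_smul]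
    have hx : x = ∑ h : G, sgl h (x.coeff h) := by
      apply (SkewMonoidAlgebra.coeffLinearEquiv (S := R)).injective
      simp only [map_sum, sgl, LinearMap.comp_apply, LinearEquiv.coe_coe, LinearEquiv.apply_symm_apply,
        Finsupp.lsingle_apply]
      exact (Finsupp.univ_sum_single _).symm
    rw [hφ]
    conv_lhs => rw [hx, map_sum]
    refine Finset.sum_congr rfl fun h _ => ?_
    rw [hy]
    exact hz h _

end Groth.Agent.S15805
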