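import Groth.Statements.S15807
import Groth.Agent.GitQuot.ASFamilyMinor
-- import your own Groth.Agent.* helpers here

set_option autoImplicit false
universe u
open WildQuot

namespace Groth.Agent.S15807

open MvPolynomial in
/-- Let `k` be a field of characteristic `p > 0`, `n ≥ 3`, `R = k[[x_1, …, x_n]]`, `a_1, …, a_n ∈ R`
with zero constant term and pairwise coprime, `μ ∈ R` nonzero and coprime to each `a_i`, and `A =
R[u_1, …, u_n] / (u_i ^ p - (μ a_i) ^ (p-1) u_i - x_i : i = 1..n)`. Fix an index `i₀`. Then the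
`R`-algebra map `R[Z_j : j ≠ i₀] → A` sending `Z_j` to the minor element `z_j = a_{i₀} u_j - a_j
u_{i₀}` has kernel generated by the polynomials `Z_j ^ p - (μ a_{i₀} a_j) ^ (p-1) Z_j - (a_{i₀} ^ p
x_j - a_j ^ p x_{i₀})`; i.e. the complete intersection `R[Z_j] /` (these relations) maps
isomorphically onto the subring of `A` generated over `R` by the minor elements through `u_{i₀}`.
(The published statement uses the first index for `i₀` and allows `n ≥ 2`; this row allows any index
`i₀` and takes `n ≥ 3`.) -/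
theorem result
    (p : ℕ) [Fact p.Prime] (k : Type u) [Field k] [CharP k p] (n : ℕ) (hn : 3 ≤ n)
    (a : Fin n → MvPowerSeries (Fin n) k) (μ : MvPowerSeries (Fin n) k)
    (ham : ∀ i, MvPowerSeries.constantCoeff (a i) = 0) (hcop : ∀ i j, i ≠ j → IsRelPrime (a i) (a j))
    (hμ : μ ≠ 0) (hμa : ∀ i, IsRelPrime μ (a i)) (i₀ : Fin n) :
    let R := MvPowerSeries (Fin n) k
    let I : Ideal (MvPolynomial (Fin n) R) :=
      Ideal.span (Set.range fun i : Fin n =>
        X i ^ p - C ((μ * a i) ^ (p - 1)) * X i - C (MvPowerSeries.X i))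
    let A := MvPolynomial (Fin n) R ⧸ I
    let u : Fin n → A := fun i => Ideal.Quotient.mk I (X i)
    let z : {j : Fin n // j ≠ i₀} → A := fun j =>
      algebraMap R A (a i₀) * u j.1 - algebraMap R A (a j.1) * u i₀
    let r : {j : Fin n // j ≠ i₀} → MvPolynomial {j : Fin n // j ≠ i₀} R := fun j =>
      X j ^ p - C ((μ * a i₀ * a j.1) ^ (p - 1)) * X j
        - C (a i₀ ^ p * MvPowerSeries.X j.1 - a j.1 ^ p * MvPowerSeries.X i₀)
    RingHom.ker (MvPolynomial.aeval z : MvPolynomial {j : Fin n // j ≠ i₀} R →ₐ[R] A) =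
      Ideal.span (Set.range r) := by
  intro R I A u z r
  have hI : I = Groth.EGA41Two.MonicVars.finIdeal
      (Groth.ASFamily.asPoly p (Groth.ASFamily.cc p fun i => μ * a i)) :=
    Groth.ASFamily.ideal_eq p (fun i => μ * a i)
  clear_value I
  subst hI
  have ha := Groth.ASFamily.ne_zero_of_cop a (by omega) ham hcop
  let e := Fintype.equivFin {j : Fin n // j ≠ i₀}
  let f := fun j => Groth.ASFamily.minorPoly p a μ i₀ (e.symm j).1
  have hinj := Groth.ASFamily.injective_aeval_minor p a μ i₀ hμ ha ham (fun j => (e.symm j).1)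
    (Subtype.val_injective.comp e.symm.injective) (fun j => (e.symm j).2)
  let φ := MvPolynomial.renameEquiv R e
  let H := Groth.EGA41Two.MonicVars.homMk f (fun j => z (e.symm j)) (fun j =>
    Groth.ASFamily.aeval_minor p a μ i₀ (e.symm j).1)
  have hz : ∀ q, MvPolynomial.aeval z q = H (Ideal.Quotient.mk _ (φ q)) := by
    refine DFunLike.congr_fun (show (MvPolynomial.aeval z : MvPolynomial {j : Fin n // j ≠ i₀} R →ₐ[R] A) =
      (H.comp (Ideal.Quotient.mkₐ R _)).comp φ.toAlgHom from MvPolynomial.algHom_ext fun j => ?_)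
    show MvPolynomial.aeval z (X j) = H (Ideal.Quotient.mk _ (φ (X j)))
    rw [MvPolynomial.renameEquiv_apply, rename_X, aeval_X]
    exact ((Groth.EGA41Two.MonicVars.homMk_X _ _ _ (e j)).trans (by rw [e.symm_apply_apply])).symm
  have hr : ∀ j, φ (r j) = Polynomial.aeval (X (e j) : MvPolynomial (Fin _) R) (f (e j)) := by
    intro j
    simp only [φ, r, f, Groth.ASFamily.minorPoly, e.symm_apply_apply, MvPolynomial.renameEquiv_apply, map_sub,
      map_mul, map_pow, rename_X, rename_C, Polynomial.aeval_X, Polynomial.aeval_C]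
    rfl
  have hmap : (Ideal.span (Set.range r)).map φ.toRingEquiv.toRingHom = Groth.EGA41Two.MonicVars.finIdeal f := by
    rw [Ideal.map_span, ← Set.range_comp, Groth.EGA41Two.MonicVars.finIdeal,
      ← e.surjective.range_comp (fun i => Polynomial.aeval (X i : MvPolynomial (Fin _) R) (f i))]
    exact congr_arg _ (congr_arg _ (funext hr))
  ext q
  rw [RingHom.mem_ker]
  constructor
  · intro h
    rw [hz] at h
    have h2 : Ideal.Quotient.mk (Groth.EGA41Two.MonicVars.finIdeal f) (φ q) = 0 :=
      hinj (h.trans (map_zero _).symm)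
    rw [← hmap] at h2
    obtain ⟨x, hx, hxq⟩ := (Ideal.mem_map_iff_of_surjective φ.toRingEquiv.toRingHom φ.surjective).mp
      (Ideal.Quotient.eq_zero_iff_mem.mp h2)
    exact φ.injective hxq ▸ hx
  · intro h
    rw [hz]
    have h3 : φ q ∈ Groth.EGA41Two.MonicVars.finIdeal f := hmap ▸ Ideal.mem_map_of_mem φ.toRingEquiv.toRingHom h
    rw [Ideal.Quotient.eq_zero_iff_mem.mpr h3, map_zero]

end Groth.Agent.S15807
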