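import Groth.Statements.S15808
import Groth.Agent.GitQuot.ASFamilyMinor
import Groth.Agent.Ega4Algebra1.RegularNormal
import Mathlib
-- import your own Groth.Agent.* helpers here

set_option autoImplicit false
universe u
open WildQuot

namespace Groth.Agent.S15808

section Helpers

theorem isIntegrallyClosed_away_of_fixed {B A : Type u} [CommRing B] [IsDomain B] [CommRing A] [IsDomain A]
    [IsIntegrallyClosed A] (Φ : B →+* A) (hΦ : Function.Injective Φ) (σ : A →+* A)
    (hσ : ∀ b, σ (Φ b) = Φ b) (c : B) (hc : c ≠ 0)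
    (hfix : ∀ t, σ t = t → ∃ N : ℕ, ∃ b, Φ b = Φ c ^ N * t) :
    IsIntegrallyClosed (Localization.Away c) := by
  classical
  set K := FractionRing B
  letI : Algebra (Localization.Away c) K :=
    (IsLocalization.Away.lift c (g := algebraMap B K) (isUnit_iff_ne_zero.mpr fun h =>
      hc (IsFractionRing.injective B K (h.trans (map_zero _).symm)))).toAlgebra
  haveI : IsScalarTower B (Localization.Away c) K := IsScalarTower.of_algebraMap_eq fun b =>
    (IsLocalization.Away.lift_eq c _ b).symm
  haveI : IsFractionRing (Localization.Away c) K :=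
    IsFractionRing.isFractionRing_of_isDomain_of_isLocalization (Submonoid.powers c) (Localization.Away c) K
  rw [isIntegrallyClosed_iff K]
  intro x hx
  obtain ⟨⟨m, hm⟩, hint⟩ := IsIntegral.exists_multiple_integral_of_isLocalization
    (Submonoid.powers c) x hx
  obtain ⟨l, rfl⟩ := hm
  replace hint : IsIntegral B (algebraMap B K c ^ l * x) := by
    rwa [Submonoid.smul_def, Algebra.smul_def, map_pow] at hint
  let J : K →+* FractionRing A := IsFractionRing.map (K := K) hΦ
  have hJ : ∀ b, J (algebraMap B K b) = algebraMap A (FractionRing A) (Φ b) := fun b =>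
    IsLocalization.map_eq _ b
  have hint' : IsIntegral A (J (algebraMap B K c ^ l * x)) := by
    obtain ⟨P, hP, hPx⟩ := hint
    refine ⟨P.map Φ, hP.map _, ?_⟩
    rw [Polynomial.eval₂_map]
    have h := congrArg J hPx
    rw [map_zero, Polynomial.hom_eval₂, show J.comp (algebraMap B K) = (algebraMap A (FractionRing A)).comp Φ
      from RingHom.ext hJ] at h
    exact h
  obtain ⟨t, ht⟩ := IsIntegrallyClosed.isIntegral_iff.mp hint'
  obtain ⟨b₁, b₂, hb₂, hq⟩ := IsFractionRing.div_surjective (A := B) (algebraMap B K c ^ l * x)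
  have hb₂0 : b₂ ≠ 0 := nonZeroDivisors.ne_zero hb₂
  have hK0 : algebraMap B K b₂ ≠ 0 := fun h => hb₂0 (IsFractionRing.injective B K (h.trans (map_zero _).symm))
  rw [div_eq_iff hK0] at hq
  have hmul : t * Φ b₂ = Φ b₁ := by
    apply IsFractionRing.injective A (FractionRing A)
    rw [map_mul, ht, ← hJ, ← hJ, ← map_mul, ← hq]
  have hΦ2 : Φ b₂ ≠ 0 := fun h => hb₂0 (hΦ (h.trans (map_zero Φ).symm))
  have hσt : σ t = t := mul_right_cancel₀ hΦ2 (by
    conv_lhs => rw [← hσ b₂, ← map_mul, hmul, hσ]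
    rw [hmul])
  obtain ⟨N, b, hb⟩ := hfix t hσt
  have hy : algebraMap B K b = algebraMap B K c ^ (N + l) * x := by
    apply J.injective
    rw [hJ, hb, map_mul, ht, map_pow, ← hJ, ← map_pow, ← map_mul, pow_add, mul_assoc]
  refine ⟨algebraMap B (Localization.Away c) b * IsLocalization.Away.invSelf c ^ (N + l), ?_⟩
  have hu : algebraMap (Localization.Away c) K (IsLocalization.Away.invSelf c) * algebraMap B K c = 1 := by
    rw [IsScalarTower.algebraMap_apply B (Localization.Away c) K, ← map_mul, mul_comm,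
      IsLocalization.Away.mul_invSelf, map_one]
  rw [map_mul, map_pow, ← IsScalarTower.algebraMap_apply, hy, mul_comm _ x, mul_assoc, ← mul_pow,
    mul_comm (algebraMap B K c), hu, one_pow, mul_one]

end Helpers

open MvPolynomial in
/-- Let `k` be a field of characteristic `p > 0`, `n ≥ 2`, `R = k[[x_1, …, x_n]]`, `a_1, …, a_n ∈ R`
with zero constant term and pairwise coprime, `μ ∈ R` nonzero and coprime to each `a_i`; fix an
index `i₀` and let `B = R[Z_j : j ≠ i₀] / (Z_j ^ p - (μ a_{i₀} a_j) ^ (p-1) Z_j - (a_{i₀} ^ p x_j -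
a_j ^ p x_{i₀}) : j ≠ i₀)`, the complete-intersection ring of the minor elements through `u_{i₀}`.
Then `B` is a free `R`-module of rank `p ^ (n-1)`, `B` is an integral domain, and the localisation
`B[1/(μ a_{i₀})]` is integrally closed. (The published statement uses the first index for `i₀`; this
row allows any index.) -/
theorem result
    (p : ℕ) [Fact p.Prime] (k : Type u) [Field k] [CharP k p] (n : ℕ) (hn : 2 ≤ n)
    (a : Fin n → MvPowerSeries (Fin n) k) (μ : MvPowerSeries (Fin n) k)
    (ham : ∀ i, MvPowerSeries.constantCoeff (a i) = 0) (hcop : ∀ i j, i ≠ j → IsRelPrime (a i) (a j))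
    (hμ : μ ≠ 0) (hμa : ∀ i, IsRelPrime μ (a i)) (i₀ : Fin n) :
    let R := MvPowerSeries (Fin n) k
    let r : {j : Fin n // j ≠ i₀} → MvPolynomial {j : Fin n // j ≠ i₀} R := fun j =>
      X j ^ p - C ((μ * a i₀ * a j.1) ^ (p - 1)) * X j
        - C (a i₀ ^ p * MvPowerSeries.X j.1 - a j.1 ^ p * MvPowerSeries.X i₀)
    let B := MvPolynomial {j : Fin n // j ≠ i₀} R ⧸ Ideal.span (Set.range r)
    Module.Free R B ∧ Module.finrank R B = p ^ (n - 1) ∧ IsDomain B ∧
      IsIntegrallyClosed (Localization.Away (algebraMap R B (μ * a i₀))) := by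
  intro R r B
  classical
  have ha := Groth.ASFamily.ne_zero_of_cop a hn ham hcop
  let cA := Groth.ASFamily.cc p fun i => μ * a i
  let e := Fintype.equivFin {j : Fin n // j ≠ i₀}
  let f := fun j => Groth.ASFamily.minorPoly p a μ i₀ (e.symm j).1
  have hinj := Groth.ASFamily.injective_aeval_minor p a μ i₀ hμ ha ham (fun j => (e.symm j).1)
    (Subtype.val_injective.comp e.symm.injective) (fun j => (e.symm j).2)
  let φ := MvPolynomial.renameEquiv R e
  let z : {j : Fin n // j ≠ i₀} → Groth.ASFamily.Alg p cA := fun j => Groth.ASFamily.minor p a μ i₀ j.1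
  let H := Groth.EGA41Two.MonicVars.homMk f (fun j => z (e.symm j)) (fun j =>
    Groth.ASFamily.aeval_minor p a μ i₀ (e.symm j).1)
  have hr : ∀ j, φ (r j) = Polynomial.aeval (X (e j) : MvPolynomial (Fin _) R) (f (e j)) := by
    intro j
    simp only [φ, r, f, Groth.ASFamily.minorPoly, e.symm_apply_apply, MvPolynomial.renameEquiv_apply, map_sub,
      map_mul, map_pow, rename_X, rename_C, Polynomial.aeval_X, Polynomial.aeval_C]
    rfl
  have hmap : Groth.EGA41Two.MonicVars.finIdeal f = (Ideal.span (Set.range r)).map (φ : _ →+* _) := by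
    rw [Ideal.map_span, ← Set.range_comp, Groth.EGA41Two.MonicVars.finIdeal,
      ← e.surjective.range_comp (fun i => Polynomial.aeval (X i : MvPolynomial (Fin _) R) (f i))]
    exact congr_arg _ (congr_arg _ (funext hr).symm)
  let E : B ≃ₐ[R] (MvPolynomial (Fin _) R ⧸ Groth.EGA41Two.MonicVars.finIdeal f) :=
    Ideal.quotientEquivAlg _ _ φ hmap
  let Φ : B →ₐ[R] Groth.ASFamily.Alg p cA := H.comp E.toAlgHom
  have hΦ : Function.Injective Φ := hinj.comp E.injective
  have hcm := Groth.ASFamily.cc_mul_mem p a μ ham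
  haveI hA : IsDomain (Groth.ASFamily.Alg p cA) := Groth.ASFamily.isDomain p _ (Groth.ASFamily.hp2 p) hcm
  haveI := Groth.ASFamily.isRegularLocalRing p _ (Groth.ASFamily.hp2 p) hcm
  haveI : IsIntegrallyClosed (Groth.ASFamily.Alg p cA) :=
    Groth.Ega4Algebra1.isIntegrallyClosed_of_isRegularLocalRing _
  haveI hB : IsDomain B := hΦ.isDomain Φ.toRingHom
  obtain ⟨hfree, hrank⟩ := Groth.EGA41Two.MonicVars.free_finrank f
    (fun j => (Groth.ASFamily.monic_minorPoly p a μ i₀ _).1)
  refine ⟨Module.Free.of_equiv E.symm.toLinearEquiv, ?_, hB, ?_⟩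
  · rw [E.toLinearEquiv.finrank_eq, hrank, Finset.prod_congr rfl
      (fun j _ => (Groth.ASFamily.monic_minorPoly p a μ i₀ (e.symm j).1).2), Finset.prod_const,
      Finset.card_univ, Fintype.card_fin, Fintype.card_subtype_compl, Fintype.card_subtype_eq,
      Fintype.card_fin]
  have hc : algebraMap R B (μ * a i₀) ≠ 0 := by
    intro h
    have h2 := congrArg Φ h
    rw [AlgHom.commutes, map_zero] at h2
    exact mul_ne_zero hμ (ha i₀)
      ((map_eq_zero_iff _ (Groth.ASFamily.injective_algebraMap p cA (Groth.ASFamily.hp2 p))).mp h2)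
  let σ := Groth.ASFamily.shift p (fun i => μ * a i) (fun _ => 1)
  have hσu : ∀ i, σ (Groth.ASFamily.u p cA i) = Groth.ASFamily.u p cA i + algebraMap _ _ (μ * a i) := by
    intro i
    refine (Groth.ASFamily.shift_u p (fun i => μ * a i) _ i).trans ?_
    simp [Groth.ASFamily.nu, cA]
  have hΦX : ∀ j, Φ (Ideal.Quotient.mk _ (X j)) = z j := by
    intro j
    change H (Ideal.Quotient.mk _ (φ (X j))) = z j
    rw [show φ (X j) = X (e j) from rename_X _ _]
    refine (Groth.EGA41Two.MonicVars.homMk_X _ _ _ _).trans ?_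
    rw [e.symm_apply_apply]
  have hσΦ : ∀ b, σ (Φ b) = Φ b := by
    refine AlgHom.congr_fun (φ₁ := σ.comp Φ) (Ideal.Quotient.algHom_ext R (MvPolynomial.algHom_ext fun j => ?_))
    change σ (Φ (Ideal.Quotient.mk _ (X j))) = Φ (Ideal.Quotient.mk _ (X j))
    rw [hΦX]
    simp only [z, Groth.ASFamily.minor, map_sub, map_mul, AlgHom.commutes]
    erw [hσu, hσu]
    simp only [map_mul]
    ring
  refine isIntegrallyClosed_away_of_fixed Φ.toRingHom hΦ σ.toRingHom hσΦ _ hc fun t ht => ?_
  obtain ⟨N, hN⟩ := Groth.ASFamily.exists_pow_mul_mem_adjoin_minor p a μ i₀ hμ ha ham σ hσu t ht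
  have hle : Algebra.adjoin R (Set.range z) ≤ Φ.range := Algebra.adjoin_le (by
    rintro _ ⟨j, rfl⟩
    exact ⟨_, hΦX j⟩)
  obtain ⟨b, hb⟩ := hle hN
  refine ⟨N, b, hb.trans ?_⟩
  change _ = Φ (algebraMap R B (μ * a i₀)) ^ N * t
  rw [AlgHom.commutes]

end Groth.Agent.S15808
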