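import Groth.Statements.S1581
import Groth.Agent.DescentBase.Descends

set_option autoImplicit false
universe u
open CategoryTheory CategoryTheory.Limits AlgebraicGeometry
open Variety

namespace Groth.Agent.S1581

/-- Let X be a scheme over a field k and K a field extension of k. If X_K is proper over K then X is
proper over k. -/
theorem result (k : Type u) [Field k] (X : Scheme.{u}) [X.Over (Spec (CommRingCat.of k))] (K : Type u) [Field K] [Algebra k K]
    [IsProper (Curv2.bcSnd k X K)] : IsProper (X ↘ (Spec (CommRingCat.of k))) := by
  set g : Spec (CommRingCat.of K) ⟶ Spec (CommRingCat.of k) := Spec.map (CommRingCat.ofHom (algebraMap k K))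
  have : Surjective g := ⟨fun x => ⟨Classical.arbitrary _, Subsingleton.elim _ _⟩⟩
  have : Flat g := by rw [Flat.SpecMap_iff]; exact RingHom.flat_algebraMap_iff.mpr inferInstance
  exact MorphismProperty.of_isPullback_of_descendsAlong (P := (@IsProper : MorphismProperty Scheme.{u}))
    (Q := Groth.DescentBase.SFQ)
    (IsPullback.of_hasPullback (X ↘ (Spec (CommRingCat.of k))) g).flip
    (Groth.DescentBase.sfq g) (inferInstance : IsProper (Curv2.bcSnd k X K))

end Groth.Agent.S1581
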