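import Groth.Statements.S15810
import Groth.Agent.GitQuot.ASFamilyOrth
-- import your own Groth.Agent.* helpers here

set_option autoImplicit false
universe u
open WildQuot

namespace Groth.Agent.S15810

open MvPolynomial in
/-- Let `k` be a field of characteristic `p > 0`, `n ≥ 2`, `R = k[[x_1, …, x_n]]`, `a_1, …, a_n ∈ R`
with zero constant term and pairwise coprime, `μ ∈ R` nonzero and coprime to each `a_i`, `A = R[u_1,
…, u_n] / (u_i ^ p - (μ a_i) ^ (p-1) u_i - x_i : i = 1..n)`, and `σ_1, …, σ_n` the `R`-algebra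
automorphisms of `A` with `σ_i u_j = u_j + δ_{ij} μ a_i` (they generate an elementary abelian group
`H` of order `p ^ n`). For a nonzero vector `s ∈ (ℤ/p)^n` let `H_s = {ν : Σ ν_i s_i = 0}`, `α =
∏_{s_i ≠ 0} a_i`, `α_i = ∏_{j ≠ i, s_j ≠ 0} a_j`, `z_s = Σ_{s_i ≠ 0} s_i α_i u_i` and `f_s(T) = T ^
p - (μ α) ^ (p-1) T - Σ_{s_i ≠ 0} s_i α_i ^ p x_i`. Then an element of `A` is fixed by `∏_i σ_i ^
{ν_i}` for every `ν ∈ H_s` if and only if it is a polynomial over `R` in `z_s`, and the kernel of
`R[T] → A`, `T ↦ z_s`, is generated by `f_s`: the ring of invariants of `H_s` is `R[T]/(f_s)`, in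
particular free of rank `p` over `R`. -/
theorem result
    (p : ℕ) [Fact p.Prime] (k : Type u) [Field k] [CharP k p] (n : ℕ) (hn : 2 ≤ n)
    (a : Fin n → MvPowerSeries (Fin n) k) (μ : MvPowerSeries (Fin n) k)
    (ham : ∀ i, MvPowerSeries.constantCoeff (a i) = 0) (hcop : ∀ i j, i ≠ j → IsRelPrime (a i) (a j))
    (hμ : μ ≠ 0) (hμa : ∀ i, IsRelPrime μ (a i))
    (s : Fin n → ZMod p) (hs : s ≠ 0) :
    let R := MvPowerSeries (Fin n) k
    let I : Ideal (MvPolynomial (Fin n) R) :=
      Ideal.span (Set.range fun i : Fin n =>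
        X i ^ p - C ((μ * a i) ^ (p - 1)) * X i - C (MvPowerSeries.X i))
    let A := MvPolynomial (Fin n) R ⧸ I
    let u : Fin n → A := fun i => Ideal.Quotient.mk I (X i)
    let c : Fin n → R := fun i => algebraMap k R (ZMod.castHom (dvd_refl p) k (s i))
    let α : R := ∏ i ∈ Finset.univ.filter (fun i => s i ≠ 0), a i
    let αi : Fin n → R := fun i => ∏ j ∈ (Finset.univ.filter (fun j => s j ≠ 0)).erase i, a j
    let z : A := ∑ i ∈ Finset.univ.filter (fun i => s i ≠ 0), algebraMap R A (c i * αi i) * u i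
    let f : Polynomial R := Polynomial.X ^ p - Polynomial.C ((μ * α) ^ (p - 1)) * Polynomial.X
      - Polynomial.C (∑ i ∈ Finset.univ.filter (fun i => s i ≠ 0), c i * αi i ^ p * MvPowerSeries.X i)
    ∀ σ : Fin n → (A ≃ₐ[R] A),
      (∀ i j, σ i (u j) = u j + (if i = j then algebraMap R A (μ * a i) else 0)) →
      (∀ t : A, (∀ ν : Fin n → ZMod p, ∑ i, ν i * s i = 0 →
          (List.ofFn (fun i : Fin n => σ i ^ (ν i).val)).prod t = t) ↔
        t ∈ (Polynomial.aeval z : Polynomial R →ₐ[R] A).range) ∧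
      RingHom.ker (Polynomial.aeval z : Polynomial R →ₐ[R] A) = Ideal.span {f} := by
  intro R I A u c α αi z f σ hσ
  have hI : I = Groth.EGA41Two.MonicVars.finIdeal
      (Groth.ASFamily.asPoly p (Groth.ASFamily.cc p fun i => μ * a i)) :=
    Groth.ASFamily.ideal_eq p (fun i => μ * a i)
  clear_value I
  subst hI
  have ha := Groth.ASFamily.ne_zero_of_cop a hn ham hcop
  have hσ' : ∀ i, σ i = Groth.ASFamily.aut p (fun i => μ * a i) (Multiplicative.ofAdd (Pi.single i 1)) := fun i =>
    AlgEquiv.coe_algHom_injective (Groth.ASFamily.algHom_ext p fun j => by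
      show σ i (u j) = Groth.ASFamily.aut p _ _ (Groth.ASFamily.u p _ j)
      rw [hσ, Groth.ASFamily.aut_u]
      rcases eq_or_ne i j with rfl | hij
      · simp [Groth.ASFamily.nu, u, R, A]
      · simp [Groth.ASFamily.nu, u, R, A, hij, hij.symm])
  have hprod : ∀ ν : Fin n → ZMod p, (List.ofFn (fun i : Fin n => σ i ^ (ν i).val)).prod =
      Groth.ASFamily.aut p (fun i => μ * a i) (Multiplicative.ofAdd ν) := by
    intro ν
    have h1 : (fun i : Fin n => σ i ^ (ν i).val) = Groth.ASFamily.aut p (fun i => μ * a i) ∘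
        fun i => (Multiplicative.ofAdd (Pi.single i (1 : ZMod p) : Fin n → ZMod p)) ^ (ν i).val := by
      funext i
      rw [Function.comp_apply, map_pow, hσ']
    rw [h1, ← List.map_ofFn, ← map_list_prod, List.prod_ofFn]
    refine congr_arg _ (Multiplicative.toAdd.injective ?_)
    rw [toAdd_prod]
    funext j
    rw [Finset.sum_apply, Finset.sum_eq_single j]
    · simp
    · intro l _ hl
      simp [Ne.symm hl]
    · simp
  refine ⟨fun t => ⟨fun h => ?_, fun h ν hν => ?_⟩, ?_⟩
  · exact Groth.ASFamily.mem_range_of_fixed_orth p a μ s hμ ha ham hcop hs t fun ν hν => by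
      rw [← hprod]; exact h ν hν
  · rw [hprod]
    exact Groth.ASFamily.aut_eq_self_of_mem_range p a μ s ν hν t h
  · exact Groth.ASFamily.ker_aeval_zed p a μ s hμ ha ham hs

end Groth.Agent.S15810
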