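import Groth.Statements.S15811
import Mathlib.Algebra.CharP.Algebra
import Mathlib.FieldTheory.Finite.Basic
import Mathlib.Tactic
-- import your own Groth.Agent.* helpers here

set_option autoImplicit false
universe u
open WildQuot

namespace Groth.Agent.S15811

/-- Let `R` be an integrally closed domain of prime characteristic `p` with fraction field `K`, and `α ∈
R`. Then `α ≠ 0` and the polynomial `T ^ p - α T` splits into linear factors over `K` — which says
that the finite flat group scheme `Spec R[T]/(T ^ p - α T)` of order `p` has constant generic fibre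
(its `p` roots are then distinct) — if and only if `α = a ^ (p-1)` for some nonzero `a ∈ R`. (The
published statement is that the generic fibre of the finite flat group scheme of order `p` with
parameters `α, β` satisfying `α β = 0`, whose underlying scheme is `Spec R[T]/(T ^ p - α T)`, is
constant if and only if `β = 0` and `α` is the `(p-1)`-th power of a nonzero element of `R`; this
row states the polynomial condition, in which `α ≠ 0` already forces `β = 0` over a domain.) -/
theorem result
    (p : ℕ) [Fact p.Prime] (R : Type u) [CommRing R] [IsDomain R] [IsIntegrallyClosed R]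
    [CharP R p] (α : R) :
    (α ≠ 0 ∧ (Polynomial.map (algebraMap R (FractionRing R))
        (Polynomial.X ^ p - Polynomial.C α * Polynomial.X)).Splits) ↔
      ∃ a : R, a ≠ 0 ∧ α = a ^ (p - 1) := by
  classical
  have hp := (Fact.out : p.Prime)
  have hp1 : p - 1 + 1 = p := Nat.succ_pred_eq_of_pos hp.pos
  let K := FractionRing R
  have : CharP K p := charP_of_injective_algebraMap (IsFractionRing.injective R K) p
  constructor
  · rintro ⟨hα, hs⟩
    let g : Polynomial K := Polynomial.X ^ (p - 1) - Polynomial.C (algebraMap R K α)
    have hgdeg : g.natDegree = p - 1 := Polynomial.natDegree_X_pow_sub_C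
    have he : Polynomial.map (algebraMap R K) (Polynomial.X ^ p - Polynomial.C α * Polynomial.X) =
        g * Polynomial.X := by
      simp only [g, Polynomial.map_sub, Polynomial.map_pow, Polynomial.map_mul, Polynomial.map_X,
        Polynomial.map_C, sub_mul, ← pow_succ, hp1]
    have hne : g ≠ 0 := Polynomial.ne_zero_of_natDegree_gt (n := 0) (by rw [hgdeg]; have := hp.two_le; omega)
    have hgs : g.Splits := Polynomial.Splits.of_dvd hs (by rw [he]; exact mul_ne_zero hne Polynomial.X_ne_zero)
      ⟨_, he⟩
    obtain ⟨r, hr⟩ := hgs.exists_eval_eq_zero (by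
      rw [Polynomial.degree_eq_natDegree hne, hgdeg]
      have := hp.two_le
      exact_mod_cast (by omega : p - 1 ≠ 0))
    simp only [g, Polynomial.eval_sub, Polynomial.eval_pow, Polynomial.eval_X, Polynomial.eval_C, sub_eq_zero] at hr
    have hint : IsIntegral R r := IsIntegral.of_pow (n := p - 1) (by have := hp.two_le; omega)
      (by rw [hr]; exact isIntegral_algebraMap)
    obtain ⟨a, rfl⟩ := IsIntegrallyClosed.isIntegral_iff.mp hint
    rw [← map_pow] at hr
    have ha : α = a ^ (p - 1) := (IsFractionRing.injective R K hr).symm
    refine ⟨a, ?_, ha⟩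
    rintro rfl
    exact hα (by rw [ha, zero_pow (by have := hp.two_le; omega)])
  · rintro ⟨a, ha, rfl⟩
    refine ⟨pow_ne_zero _ ha, ?_⟩
    let q := Polynomial.map (algebraMap R K) (Polynomial.X ^ p - Polynomial.C (a ^ (p - 1)) * Polynomial.X)
    have hq : q = Polynomial.X ^ p - Polynomial.C (algebraMap R K a ^ (p - 1)) * Polynomial.X := by
      simp [q]
    have hdeg : q.natDegree = p := by
      rw [hq, Polynomial.natDegree_sub_eq_left_of_natDegree_lt] <;> simp only [Polynomial.natDegree_X_pow]
      refine lt_of_le_of_lt (Polynomial.natDegree_C_mul_le _ _) ?_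
      rw [Polynomial.natDegree_X]
      exact hp.one_lt
    have hq0 : q ≠ 0 := Polynomial.ne_zero_of_natDegree_gt (n := 0) (hdeg.symm ▸ hp.pos)
    rw [Polynomial.splits_iff_card_roots]
    change q.roots.card = q.natDegree
    refine le_antisymm (Polynomial.card_roots' q) ?_
    rw [hdeg]
    let φ : ZMod p → K := fun c => (ZMod.castHom (dvd_refl p) K c) * algebraMap R K a
    have hφ : Function.Injective φ := fun c d h =>
      (ZMod.castHom (dvd_refl p) K).injective
        (mul_right_cancel₀ ((map_ne_zero_iff _ (IsFractionRing.injective R K)).mpr ha) h)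
    have hsub : Finset.univ.image φ ⊆ q.roots.toFinset := by
      intro c hc
      obtain ⟨c, -, rfl⟩ := Finset.mem_image.mp hc
      rw [Multiset.mem_toFinset, Polynomial.mem_roots hq0, Polynomial.IsRoot.def, hq]
      simp only [Polynomial.eval_sub, Polynomial.eval_pow, Polynomial.eval_X, Polynomial.eval_mul,
        Polynomial.eval_C, φ, mul_pow, ← map_pow, ZMod.pow_card]
      rw [show a ^ p = a ^ (p - 1) * a by rw [← pow_succ, hp1], map_mul]
      ring
    calc p = (Finset.univ.image φ).card := by rw [Finset.card_image_of_injective _ hφ, Finset.card_univ, ZMod.card]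
      _ ≤ q.roots.toFinset.card := Finset.card_le_card hsub
      _ ≤ q.roots.card := Multiset.toFinset_card_le _

end Groth.Agent.S15811
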