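import Groth.Statements.S15812
import Groth.Agent.Agf.AbelianGenerate
import Groth.Agent.PicAux.RegularUFD

set_option autoImplicit false
universe u v w
open WildQuot
open Groth.Agf.AbelianGen
open scoped TensorProduct Pointwise

namespace Groth.Agent.S15812

/-- Let `R` be a regular local ring and `A` a normal local domain, finite over `R` (with `R → A`
injective) and with the same residue field; let a finite group `H` act faithfully on `A` by
`R`-algebra automorphisms with ring of invariants exactly `R` (so `Frac(A)/Frac(R)` is Galois with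
group `H`); assume `H` is commutative of order `p ^ n` (`p` prime) and let `G_1, …, G_n ≤ H` be
subgroups of order `p` generating `H`, each the inertia subgroup of some height-one prime of `A`,
such that every nontrivial inertia subgroup of a height-one prime of `A` is one of the `G_i`. Put
`G_i^⊥ =` the subgroup generated by the `G_j` with `j ≠ i`, and assume each invariant ring
`A^{G_i^⊥}` is a free `R`-module (the published statement asks them to be Cohen–Macaulay, which for
a finite algebra over the regular local ring `R` is the same). Then the subalgebras `A^{G_1^⊥}, …,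
A^{G_n^⊥}` generate `A` over `R`. (The published conclusion is that the product map `A^{G_1^⊥} ⊗_R ⋯
⊗_R A^{G_n^⊥} → A` is an isomorphism; as each factor is then free of rank `p` and `A` has rank `p ^
n` over `R`, that is equivalent to the generation statement given here. The published statement is
for `A` a complete regular local ring with an action ramified precisely at the origin, `R = k[[x_1,
…, x_n]]` a norm subring and `H` the Galois group of `Frac(A)/Frac(R)`, when that extension is
Galois; this row assumes only the hypotheses listed above.) -/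
theorem result
    (p : ℕ) [Fact p.Prime] (R : Type u) [CommRing R] [IsRegularLocalRing R]
    (A : Type v) [CommRing A] [IsDomain A] [IsIntegrallyClosed A] [IsLocalRing A]
    [Algebra R A] [Module.Finite R A] (hinj : Function.Injective (algebraMap R A))
    (hres : Function.Surjective (IsLocalRing.residue A ∘ algebraMap R A))
    (H : Type w) [Group H] [Finite H] [MulSemiringAction H A] [SMulCommClass H R A] [FaithfulSMul H A]
    (hfix : ∀ a : A, (∀ h : H, h • a = a) → a ∈ Set.range (algebraMap R A))
    (hcomm : ∀ g h : H, g * h = h * g)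
    (n : ℕ) (hcard : Nat.card H = p ^ n) (Gi : Fin n → Subgroup H)
    (hGi : ∀ i, Nat.card (Gi i) = p) (hsup : (⨆ i, Gi i) = ⊤)
    (hinert : ∀ i, ∃ P : Ideal A, P.IsPrime ∧ P.height = 1 ∧ P.inertia H = Gi i)
    (hMR3 : ∀ P : Ideal A, P.IsPrime → P.height = 1 → P.inertia H ≠ ⊥ → ∃ i, P.inertia H = Gi i)
    (hMR4 : ∀ i, Module.Free R
      (FixedPoints.subalgebra R A ↥(⨆ j ∈ (Finset.univ.erase i : Finset (Fin n)), Gi j : Subgroup H))) :
    (⨆ i, FixedPoints.subalgebra R A ↥(⨆ j ∈ (Finset.univ.erase i : Finset (Fin n)), Gi j : Subgroup H)) = ⊤ := by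
  classical
  haveI : IsDomain R := hinj.isDomain _
  haveI := Groth.PicAux.ufd_of_isRegularLocalRing R
  haveI : IsNoetherianRing A := IsNoetherianRing.of_finite R A
  haveI : Algebra.IsIntegral R A := Algebra.IsIntegral.of_finite R A
  haveI : Algebra.IsInvariant R A H := ⟨hfix⟩
  have hp1 := (Fact.out : p.Prime).one_lt
  have hnormal : ∀ M : Subgroup H, M.Normal := fun M =>
    ⟨fun m hm g => by rw [hcomm g m, mul_assoc, mul_inv_cancel, mul_one]; exact hm⟩
  let K : Fin n → Subgroup H := fun i => ⨆ j ∈ (Finset.univ.erase i : Finset (Fin n)), Gi j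
  let B : Fin n → Subalgebra R A := fun i => Fix R A (K i)
  change (⨆ i, B i) = ⊤
  have hGK : ∀ {i j : Fin n}, j ≠ i → Gi j ≤ K i := fun {i j} h =>
    le_iSup₂ (f := fun j (_ : j ∈ (Finset.univ.erase i : Finset (Fin n))) => Gi j) j (by simp [h])
  have hKsup : ∀ j, K j ⊔ Gi j = ⊤ := fun j => eq_top_iff.2 (hsup ▸ iSup_le fun i => by
    by_cases h : i = j
    · subst h; exact le_sup_right
    · exact (hGK h).trans le_sup_left)
  have hcardS : ∀ S : Finset (Fin n), Nat.card ↥(S.sup Gi) ≤ p ^ S.card := by
    intro S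
    induction S using Finset.induction with
    | empty => simp
    | insert j S hj ih =>
      have := hnormal (S.sup Gi)
      rw [Finset.sup_insert, Finset.card_insert_of_notMem hj, pow_succ']
      refine le_trans ?_ (Nat.mul_le_mul (hGi j).le ih)
      calc Nat.card ↥(Gi j ⊔ S.sup Gi) = Nat.card ↥((Gi j : Set H) * ((S.sup Gi : Subgroup H) : Set H)) :=
            Nat.card_congr (Equiv.setCongr (Subgroup.mul_normal (Gi j) (S.sup Gi)))
        _ ≤ _ := Set.natCard_mul_le
  have hKne : ∀ j, K j ≠ ⊤ := fun j h => by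
    have h1 := hcardS (Finset.univ.erase j)
    rw [Finset.card_erase_of_mem (Finset.mem_univ j), Finset.card_univ, Fintype.card_fin,
      Finset.sup_eq_iSup, show (⨆ i ∈ (Finset.univ.erase j : Finset (Fin n)), Gi i) = ⊤ from h,
      Subgroup.card_top, hcard] at h1
    have := (Nat.pow_le_pow_iff_right hp1).1 h1
    have := j.isLt
    omega
  have hdisj : ∀ j, ∀ g ∈ Gi j, g ∈ K j → g = 1 := by
    intro j g hg hgK
    by_contra hg1
    have hd := Subgroup.card_dvd_of_le (inf_le_left : Gi j ⊓ K j ≤ Gi j)
    rw [hGi j, Nat.dvd_prime Fact.out] at hd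
    rcases hd with hd | hd
    · rw [Subgroup.card_eq_one] at hd
      exact hg1 (Subgroup.mem_bot.1 (hd ▸ Subgroup.mem_inf.2 ⟨hg, hgK⟩))
    · have : Gi j ⊓ K j = Gi j := Subgroup.eq_of_le_of_card_ge inf_le_left (by rw [hd, hGi])
      exact hKne j (eq_top_iff.2 ((hKsup j).ge.trans (sup_le le_rfl (inf_eq_left.1 this))))
  have hGne : ∀ j, Gi j ≠ ⊥ := fun j h => by
    have := hGi j
    rw [h, Subgroup.card_bot] at this
    omega
  have hGinj : Function.Injective Gi := fun i j h => by
    by_contra hij
    refine hGne j (eq_bot_iff.2 fun g hg => Subgroup.mem_bot.2 (hdisj j g hg ?_))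
    exact hGK hij (h ▸ hg)
  -- coordinates of `B j` above primes where `G j` is not inertia
  have hcoord : ∀ (P : Ideal R) [P.IsPrime] (j : Fin n),
      (∀ q : Ideal A, q.IsPrime → q.under R = P → q.inertia H = ⊥ ∨ ∃ i, i ≠ j ∧ q.inertia H = Gi i) →
      ∃ s ∉ P, ∃ e : B j ⊗[R] B j, ev (B j) (1 : H) e = algebraMap R A s ∧
        ∀ g ∈ Gi j, g ≠ 1 → ev (B j) g e = 0 := by
    intro P _ j hP
    haveI : Fintype H := Fintype.ofFinite H
    obtain ⟨s, hs, e, he1, he⟩ := exists_coord hcomm (K j) P hinj
      (Finset.univ.filter fun g => g ∈ Gi j ∧ g ≠ 1) fun g hg q hq hqP k hk hgk => by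
        simp only [Finset.mem_filter, Finset.mem_univ, true_and] at hg
        refine hg.2 (hdisj j g hg.1 ?_)
        have hle : q.inertia H ≤ K j := by
          rcases hP q hq hqP with h | ⟨i, hi, h⟩ <;> rw [h]
          · exact bot_le
          · exact hGK hi
        have := mul_mem (hle hgk) hk
        rwa [inv_mul_cancel_right] at this
    exact ⟨s, hs, e, he1, fun g hg hg1 => he g (Finset.mem_filter.2 ⟨Finset.mem_univ _, hg, hg1⟩)⟩
  have hcoord0 : ∀ j, ∃ s : R, s ≠ 0 ∧ ∃ e : B j ⊗[R] B j, ev (B j) (1 : H) e = algebraMap R A s ∧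
      ∀ g ∈ Gi j, g ≠ 1 → ev (B j) g e = 0 := by
    intro j
    obtain ⟨s, hs, h⟩ := hcoord ⊥ j fun q hq hq0 => by
      left
      have : q = ⊥ := Ideal.eq_bot_of_comap_eq_bot hq0
      subst this
      refine eq_bot_iff.2 fun g hg => Subgroup.mem_bot.2 (FaithfulSMul.eq_of_smul_eq_smul (α := A) fun a => ?_)
      rw [one_smul]
      exact sub_eq_zero.1 (Ideal.mem_bot.1 (hg a))
    exact ⟨s, fun h0 => hs (by simp [h0]), h⟩
  have hanti : ∀ {M M' : Subgroup H}, M ≤ M' → Fix R A M' ≤ Fix R A M := fun h a ha =>
    mem_fix.2 fun g hg => mem_fix.1 ha g (h hg)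
  -- the product of the `B i` is free
  have hfree : ∀ S : Finset (Fin n), Module.Free R ↥(S.sup B) := by
    intro S
    induction S using Finset.induction with
    | empty =>
      rw [Finset.sup_empty]
      exact Module.Free.of_equiv (Algebra.botEquivOfInjective hinj).symm.toLinearEquiv
    | insert j S hj ih =>
      haveI : Module.Free R (Fix R A (K j)) := hMR4 j
      obtain ⟨s, hs, e, he1, he⟩ := hcoord0 j
      have hT : S.sup B ≤ Fix R A (Gi j) := Finset.sup_le fun i hi => hanti (hGK fun h => hj (h ▸ hi))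
      have hpi := productMap_injective hcomm hinj hfix (K j) (Gi j) (hKsup j) hs he1 he (S.sup B) hT
      have hr : (Algebra.TensorProduct.productMap (Fix R A (K j)).val (S.sup B).val).range = (insert j S).sup B := by
        rw [Algebra.TensorProduct.productMap_range, Subalgebra.range_val, Subalgebra.range_val, Finset.sup_insert]
      rw [← hr]
      exact Module.Free.of_equiv (AlgEquiv.ofInjective _ hpi).toLinearEquiv
  -- generation away from a set of codimension two
  have hloc : ∀ (P : Ideal R) [P.IsPrime],
      (∀ q : Ideal A, q.IsPrime → q.under R = P → q.inertia H = ⊥ ∨ ∃ i, q.inertia H = Gi i) →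
      ∀ a : A, ∃ s ∉ P, s • a ∈ (Finset.univ.sup B : Subalgebra R A) := by
    intro P _ hP
    let bad : Fin n → Prop := fun i => ∃ q : Ideal A, q.IsPrime ∧ q.under R = P ∧ q.inertia H = Gi i
    have hbad : ∀ {i i'}, bad i → bad i' → i = i' := by
      rintro i i' ⟨q, hq, hqP, hi⟩ ⟨q', hq', hqP', hi'⟩
      obtain ⟨h, rfl⟩ := Algebra.IsInvariant.exists_smul_of_under_eq R A H q q' (hqP.trans hqP'.symm)
      refine hGinj ?_
      rw [← hi, ← hi']
      refine SetLike.ext fun σ => ⟨fun hσ a => ?_, fun hσ a => ?_⟩
      · have := Ideal.smul_mem_pointwise_smul h _ q (hσ (h⁻¹ • a))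
        rwa [smul_sub, smul_smul h σ, hcomm h σ, ← smul_smul σ h, smul_inv_smul] at this
      · have := hσ (h • a)
        rw [smul_smul σ h, hcomm σ h, ← smul_smul h σ, ← smul_sub] at this
        exact Ideal.smul_mem_pointwise_smul_iff.1 this
    suffices ∀ S : Finset (Fin n), (∀ j ∈ S, ¬ bad j) →
        ∀ a : A, ∃ s ∉ P, s • a ∈ S.sup B ⊔ Fix R A (S.sup Gi) by
      intro a
      obtain ⟨s, hs, h⟩ := this (Finset.univ.filter fun i => ¬ bad i) (by simp) a
      refine ⟨s, hs, (sup_le (Finset.sup_mono (Finset.filter_subset _ _)) ?_ :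
        _ ≤ (Finset.univ.sup B : Subalgebra R A)) h⟩
      by_cases hex : ∃ i, bad i
      · obtain ⟨i₀, hi₀⟩ := hex
        refine le_trans (hanti ?_) (Finset.le_sup (f := B) (Finset.mem_univ i₀))
        refine iSup₂_le fun j hj => Finset.le_sup (f := Gi) ?_
        simp only [Finset.mem_filter, Finset.mem_univ, true_and]
        exact fun hb => (Finset.mem_erase.1 hj).1 (hbad hb hi₀)
      · push Not at hex
        rw [Finset.filter_true_of_mem (fun i _ => hex i)]
        intro x hx
        have hx' : ∀ g : H, g • x = x := fun g => mem_fix.1 hx g (by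
          rw [Finset.sup_univ_eq_iSup, hsup]; exact Subgroup.mem_top g)
        obtain ⟨r, rfl⟩ := hfix x hx'
        exact Subalgebra.algebraMap_mem _ r
    intro S hS
    induction S using Finset.induction with
    | empty =>
      exact fun a => ⟨1, P.one_notMem, Algebra.mem_sup_right (mem_fix.2 fun g hg => by
        rw [Finset.sup_empty, Subgroup.mem_bot] at hg
        rw [hg, one_smul, one_smul])⟩
    | insert j S hj ih =>
      set T' := (insert j S).sup B ⊔ Fix R A ((insert j S).sup Gi) with hT'
      let W : Subalgebra R A :=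
        { carrier := {x | ∃ s ∉ P, s • x ∈ T'}
          mul_mem' := fun {x y} ⟨s, hs, hx⟩ ⟨t, ht, hy⟩ => ⟨s * t,
            fun h => (Ideal.IsPrime.mem_or_mem ‹_› h).elim hs ht, by
              rw [← smul_mul_smul_comm]; exact mul_mem hx hy⟩
          add_mem' := fun {x y} ⟨s, hs, hx⟩ ⟨t, ht, hy⟩ => ⟨s * t,
            fun h => (Ideal.IsPrime.mem_or_mem ‹_› h).elim hs ht, by
              rw [smul_add, mul_comm s t, mul_smul, mul_comm t s, mul_smul]
              exact add_mem (T'.smul_mem hx t) (T'.smul_mem hy s)⟩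
          algebraMap_mem' := fun r => ⟨1, P.one_notMem, by rw [one_smul]; exact T'.algebraMap_mem r⟩ }
      obtain ⟨s₁, hs₁, e, he1, he⟩ := hcoord P j fun q hq hqP => (hP q hq hqP).imp_right
        fun ⟨i, hi⟩ => ⟨i, fun hij => hS j (Finset.mem_insert_self _ _) ⟨q, hq, hqP, hij ▸ hi⟩, hi⟩
      have hW : S.sup B ⊔ Fix R A (S.sup Gi) ≤ W := by
        refine sup_le (fun x hx => ⟨1, P.one_notMem, ?_⟩) fun x hx => ⟨s₁, hs₁, ?_⟩
        · rw [one_smul]
          exact Algebra.mem_sup_left (SetLike.le_def.1 (Finset.sup_mono (f := B) (Finset.subset_insert j S)) hx)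
        · refine smul_mem_of_coord (K j) (Gi j) he1 he x T' ?_ fun v hv => ?_
          · exact le_trans (Finset.le_sup (f := B) (Finset.mem_insert_self j S)) le_sup_left
          · refine Algebra.mem_sup_right (mem_fix.2 ?_)
            have : (insert j S).sup Gi ≤ MulAction.stabilizer H (tr R (Gi j) (v * x)) := by
              rw [Finset.sup_insert]
              refine sup_le (fun m hm => smul_tr _ m hm _) fun g hg => ?_
              refine smul_tr_of_fixed hcomm _ g _ ?_
              rw [smul_mul', mem_fix.1 hx g hg, mem_fix.1 hv g ?_]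
              exact (Finset.sup_le fun i hi => hGK fun h : i = j => hj (h ▸ hi) : S.sup Gi ≤ K j) hg
            exact fun g hg => this hg
      intro a
      obtain ⟨s, hs, hsa⟩ := ih (fun i hi => hS i (Finset.mem_insert_of_mem hi)) a
      obtain ⟨t, ht, hta⟩ := hW hsa
      exact ⟨t * s, fun h => (Ideal.IsPrime.mem_or_mem ‹_› h).elim ht hs, by rwa [mul_smul]⟩
  -- conclusion
  rw [← Finset.sup_univ_eq_iSup, eq_top_iff]
  intro a _
  set T : Subalgebra R A := Finset.univ.sup B
  haveI : Module.Free R T := hfree _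
  let b := Module.Free.chooseBasis R T
  obtain ⟨d, hd, hda⟩ := hloc ⊥ (fun q hq hq0 => by
    left
    have : q = ⊥ := Ideal.eq_bot_of_comap_eq_bot hq0
    subst this
    refine eq_bot_iff.2 fun g hg => Subgroup.mem_bot.2 (FaithfulSMul.eq_of_smul_eq_smul (α := A) fun a => ?_)
    rw [one_smul]
    exact sub_eq_zero.1 (Ideal.mem_bot.1 (hg a))) a
  rw [Ideal.mem_bot] at hd
  suffices ∀ d : R, d ≠ 0 → ∀ a : A, d • a ∈ T → a ∈ T from this d hd a hda
  intro d
  induction d using UniqueFactorizationMonoid.induction_on_prime with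
  | h₁ => exact fun h => absurd rfl h
  | h₂ u hu =>
    intro _ a ha
    obtain ⟨v, rfl⟩ := hu
    have := T.smul_mem ha (↑v⁻¹ : R)
    rwa [smul_smul, Units.inv_mul, one_smul] at this
  | h₃ d π hd0 hπ ih =>
    intro _ a ha
    refine ih hd0 a ?_
    rw [mul_smul] at ha
    generalize d • a = y at ha ⊢
    let P : Ideal R := Ideal.span {π}
    haveI : P.IsPrime := (Ideal.span_singleton_prime hπ.ne_zero).2 hπ
    obtain ⟨s, hs, hsy⟩ := hloc P (fun q hq hqP => by
      haveI := hq
      by_cases hne : q.inertia H = ⊥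
      · exact Or.inl hne
      refine Or.inr (hMR3 q hq ?_ hne)
      have hπq : algebraMap R A π ∈ q := by
        rw [← Ideal.mem_comap, ← Ideal.under_def, hqP]; exact Ideal.mem_span_singleton_self π
      have hmin : q ∈ (Ideal.span {algebraMap R A π}).minimalPrimes := by
        refine ⟨⟨hq, (Ideal.span_singleton_le_iff_mem _).2 hπq⟩, fun q' hq' hle => ?_⟩
        haveI := hq'.1
        refine (Algebra.QuasiFinite.eq_of_le_of_under_eq (R := R) q' q hle
          (le_antisymm (Ideal.comap_mono hle) ?_)).ge
        rw [hqP]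
        exact (Ideal.span_singleton_le_iff_mem _).2 (hq'.2 (Ideal.mem_span_singleton_self _))
      refine le_antisymm (Ideal.height_le_one_of_isPrincipal_of_mem_minimalPrimes _ q hmin) ?_
      refine Order.one_le_iff_pos.2 (pos_iff_ne_zero.2 fun h => ?_)
      rw [Ideal.height_eq_zero_iff_eq_bot] at h
      rw [h, Ideal.mem_bot, map_eq_zero_iff _ hinj] at hπq
      exact hπ.ne_zero hπq) y
    let t : T := ⟨π • y, ha⟩
    let t' : T := ⟨s • y, hsy⟩
    have ht : π • t' = s • t := Subtype.ext (smul_comm π s y)
    have hdvd : ∀ i, π ∣ b.repr t i := fun i => by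
      have := DFunLike.congr_fun (congrArg b.repr ht) i
      simp only [map_smul, Finsupp.smul_apply, smul_eq_mul] at this
      exact (hπ.dvd_or_dvd ⟨_, this.symm⟩).resolve_left fun h => hs (Ideal.mem_span_singleton.2 h)
    choose c hc using hdvd
    let z : T := ∑ i ∈ (b.repr t).support, c i • b i
    have hz : π • z = t := by
      conv_rhs => rw [← b.linearCombination_repr t]
      rw [Finsupp.linearCombination_apply, Finsupp.sum, Finset.smul_sum]
      exact Finset.sum_congr rfl fun i _ => by rw [smul_smul, ← hc i]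
    have : π • (z : A) = π • y := congrArg Subtype.val hz
    rw [Algebra.smul_def, Algebra.smul_def] at this
    rw [← mul_left_cancel₀ ((map_ne_zero_iff _ hinj).2 hπ.ne_zero) this]
    exact z.2

end Groth.Agent.S15812
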