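import Groth.Statements.S15813
import Mathlib
-- import your own Groth.Agent.* helpers here

set_option autoImplicit false
universe u
open WildQuot

namespace Groth.Agent.S15813

/-- Let `k` be a field of characteristic `p > 0`, `A = k[[u]]`, and `σ` a `k`-algebra automorphism of
`A` of order exactly `p`, with ramification break `m`: `σ u - u` has order `m + 1`. Let `x = ∏_{i <
p} σ^i u` be the norm of `u`, let `f ∈ A` be `σ`-invariant with nonzero constant term (a unit of the
invariant ring `k[[x]]`), let `μ > 0` be prime to `p`, and let `z ∈ Frac(A)` satisfy the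
Artin–Schreier equation `z ^ p - z = f / x ^ μ`. Then `μ = m`. (The published statement also records
that `Frac(A) = Frac(A^σ)(z)`; that follows from the equation since `p` does not divide `μ`, so it
is not repeated as a hypothesis.) -/
theorem result
    (p : ℕ) [Fact p.Prime] (k : Type u) [Field k] [CharP k p]
    (σ : PowerSeries k ≃ₐ[k] PowerSeries k) (hσp : σ ^ p = 1) (hσ1 : σ ≠ 1)
    (m : ℕ) (hm : (σ PowerSeries.X - PowerSeries.X).order = ((m + 1 : ℕ) : ℕ∞))
    (f : PowerSeries k) (hfσ : σ f = f) (hf0 : PowerSeries.constantCoeff f ≠ 0)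
    (μ : ℕ) (hμ : 0 < μ) (hpμ : ¬ p ∣ μ)
    (z : FractionRing (PowerSeries k))
    (hz : z ^ p - z = algebraMap (PowerSeries k) (FractionRing (PowerSeries k)) f /
      algebraMap (PowerSeries k) (FractionRing (PowerSeries k))
        (∏ i ∈ Finset.range p, (σ ^ i) PowerSeries.X) ^ μ) :
    μ = m := by
  classical
  have hp := (Fact.out : p.Prime)
  haveI : CharP (PowerSeries k) p := charP_of_injective_algebraMap (algebraMap k (PowerSeries k)).injective p
  let u : PowerSeries k := PowerSeries.X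
  have hu0 : u ≠ 0 := PowerSeries.X_ne_zero
  have hcoeff : ∀ (i : ℕ) (g : PowerSeries k), (u ∣ g ↔ u ∣ (σ ^ i) g) := by
    intro i g
    have hmax : ∀ a : PowerSeries k, u ∣ a ↔ ¬ IsUnit a := fun a => by
      rw [PowerSeries.X_dvd_iff, PowerSeries.isUnit_iff_constantCoeff, isUnit_iff_ne_zero, not_not]
    rw [hmax, hmax, MulEquiv.isUnit_map]
  have hσu : ∀ i : ℕ, ∃ w, IsUnit w ∧ (σ ^ i) u = u * w := by
    intro i
    have h1 : u ∣ (σ ^ i) u := (hcoeff i u).1 dvd_rfl
    obtain ⟨w, hw⟩ := h1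
    obtain ⟨v, hv⟩ : u ∣ (σ ^ i).symm u := by
      rw [hcoeff i, AlgEquiv.apply_symm_apply]
    have h2 : u * 1 = u * (w * (σ ^ i) v) := by
      rw [← mul_assoc, ← hw, ← map_mul, ← hv, AlgEquiv.apply_symm_apply, mul_one]
    exact ⟨w, IsUnit.of_mul_eq_one _ (mul_left_cancel₀ hu0 h2).symm, hw⟩
  -- the norm
  obtain ⟨x, hx⟩ : ∃ x, x = ∏ i ∈ Finset.range p, (σ ^ i) u := ⟨_, rfl⟩
  obtain ⟨W, hW, hxW⟩ : ∃ W, IsUnit W ∧ x = u ^ p * W := by
    choose w hw hw' using hσu
    refine ⟨∏ i ∈ Finset.range p, w i, IsUnit.prod_iff.2 fun i _ => hw i, ?_⟩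
    rw [hx, Finset.prod_congr rfl fun i _ => hw' i, Finset.prod_mul_distrib, Finset.prod_const, Finset.card_range]
  have hx0 : x ≠ 0 := by rw [hxW]; exact mul_ne_zero (pow_ne_zero _ hu0) hW.ne_zero
  have hσx : σ x = x := by
    rw [hx, map_prod]
    have e : ∀ i : ℕ, σ ((σ ^ i) u) = (σ ^ (i + 1)) u := fun i => by rw [pow_succ']; rfl
    simp only [e]
    obtain ⟨q, hq⟩ : ∃ q, p = q + 1 := ⟨p - 1, by have := hp.pos; omega⟩
    have hσq : σ ^ (q + 1) = 1 := by rw [← hq]; exact hσp
    rw [hq, Finset.prod_range_succ, Finset.prod_range_succ' (fun i => (σ ^ i) u), hσq, pow_zero]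
  obtain ⟨ν, hν⟩ : ∃ ν, p = ν + 1 := ⟨p - 1, by have := hp.pos; omega⟩
  obtain ⟨Wi, hWi⟩ := (hW.pow μ).exists_right_inv
  let K := FractionRing (PowerSeries k)
  let ι := algebraMap (PowerSeries k) K
  have hι : Function.Injective ι := IsFractionRing.injective _ _
  -- integrality of z * u ^ μ
  have hzeq : (z * ι u ^ μ) ^ p - z * ι u ^ μ * ι u ^ (μ * ν) = ι (f * Wi) := by
    have h1 : (z * ι u ^ μ) ^ p - z * ι u ^ μ * ι u ^ (μ * ν) = (z ^ p - z) * ι u ^ (p * μ) := by
      rw [mul_pow, ← pow_mul, mul_assoc, ← pow_add, show μ + μ * ν = μ * p by rw [hν]; ring, mul_comm p μ]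
      ring
    have h2 : ι x ^ μ ≠ 0 := pow_ne_zero _ ((map_ne_zero_iff ι hι).2 hx0)
    rw [h1, hz, ← hx, div_mul_eq_mul_div, div_eq_iff h2, ← map_pow, ← map_pow, ← map_mul, ← map_mul]
    congr 1
    rw [hxW, mul_pow, ← pow_mul, mul_comm f Wi, mul_comm p μ]
    linear_combination -(f * u ^ (μ * p)) * hWi
  have hint : IsIntegral (PowerSeries k) (z * ι u ^ μ) := by
    refine ⟨Polynomial.X ^ p - (Polynomial.C (u ^ (μ * ν)) * Polynomial.X + Polynomial.C (f * Wi)), ?_, ?_⟩
    · refine Polynomial.monic_X_pow_sub ?_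
      refine (Polynomial.degree_linear_le).trans_lt ?_
      exact_mod_cast hp.one_lt
    · simp only [Polynomial.eval₂_sub, Polynomial.eval₂_add, Polynomial.eval₂_mul, Polynomial.eval₂_C,
        Polynomial.eval₂_X, Polynomial.eval₂_pow, map_pow]
      change (z * ι u ^ μ) ^ p - (ι u ^ (μ * ν) * (z * ι u ^ μ) + ι (f * Wi)) = 0
      linear_combination hzeq
  obtain ⟨g, hg⟩ := IsIntegrallyClosed.isIntegral_iff.1 hint
  have hgeq : g ^ p - g * u ^ (μ * ν) = f * Wi := hι (by
    rw [map_sub, map_mul, map_pow, map_pow, show ι g = z * ι u ^ μ from hg, hzeq])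
  have hν0 : ν ≠ 0 := by have := hp.one_lt; omega
  have hg0 : PowerSeries.constantCoeff g ≠ 0 := by
    intro h0
    have := congrArg PowerSeries.constantCoeff hgeq
    simp only [map_sub, map_mul, map_pow, h0, zero_pow hp.ne_zero, zero_mul, sub_zero] at this
    refine mul_ne_zero hf0 ?_ this.symm
    intro hz0
    have h1 := congrArg PowerSeries.constantCoeff hWi
    rw [map_mul, hz0, mul_zero, map_one] at h1
    exact zero_ne_one h1
  -- the jump
  obtain ⟨a, haU, hua⟩ := hσu 1
  rw [pow_one] at hua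
  have hdiv : u ^ (m + 1) ∣ σ u - u := PowerSeries.X_pow_dvd_iff.2 fun i hi =>
    PowerSeries.coeff_of_lt_order i (by rw [hm]; exact_mod_cast hi)
  obtain ⟨e, he⟩ := hdiv
  have he0 : PowerSeries.constantCoeff e ≠ 0 := by
    intro h0
    obtain ⟨e', rfl⟩ := PowerSeries.X_dvd_iff.2 h0
    have h1 := congrArg PowerSeries.order he
    rw [hm, ← mul_assoc, ← pow_succ, PowerSeries.order_mul, PowerSeries.order_X_pow] at h1
    have : ((m + 1 + 1 : ℕ) : ℕ∞) ≤ ((m + 1 : ℕ) : ℕ∞) := h1 ▸ le_self_add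
    norm_cast at this
    omega
  have ha : a = 1 + u ^ m * e := mul_left_cancel₀ hu0 (by rw [← hua]; linear_combination he)
  have hm0 : m ≠ 0 := by
    rintro rfl
    rw [pow_zero, one_mul] at ha
    have key : ∀ i : ℕ, ∃ v, (σ ^ i) u = u * v ∧ PowerSeries.constantCoeff v = PowerSeries.constantCoeff a ^ i := by
      intro i
      induction i with
      | zero => exact ⟨1, by simp, by simp⟩
      | succ i ih =>
        obtain ⟨v, hv, hv'⟩ := ih
        refine ⟨a * σ v, ?_, ?_⟩
        · rw [pow_succ', AlgEquiv.mul_apply, hv, map_mul, hua, mul_assoc]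
        · obtain ⟨b, hb⟩ : u ∣ σ (v - PowerSeries.C (PowerSeries.constantCoeff v)) := by
            have := (hcoeff 1 (v - PowerSeries.C (PowerSeries.constantCoeff v))).1 (PowerSeries.X_dvd_iff.2 (by simp))
            rwa [pow_one] at this
          have hC : σ (PowerSeries.C (PowerSeries.constantCoeff v)) = PowerSeries.C (PowerSeries.constantCoeff v) :=
            σ.commutes _
          rw [map_sub, hC, sub_eq_iff_eq_add] at hb
          have : PowerSeries.constantCoeff (σ v) = PowerSeries.constantCoeff v := by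
            rw [hb, map_add, map_mul, PowerSeries.constantCoeff_X, zero_mul, zero_add, PowerSeries.constantCoeff_C]
          rw [map_mul, this, hv', pow_succ']
    obtain ⟨v, hv, hv'⟩ := key p
    rw [hσp, AlgEquiv.one_apply] at hv
    have hv1 : v = 1 := (mul_left_cancel₀ hu0 (by rw [← hv, mul_one])).symm
    rw [hv1, map_one, ha, map_add, map_one, add_pow_char, one_pow, left_eq_add] at hv'
    exact he0 (pow_eq_zero_iff hp.ne_zero |>.1 hv')
  -- σ is the identity modulo u ^ (m + 1)
  have hid : ∀ y : PowerSeries k, u ^ (m + 1) ∣ σ y - y := by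
    intro y
    let n := m + 1
    have hp' : ∀ q : Polynomial k, u ^ n ∣ σ (q : PowerSeries k) - q := by
      intro q
      induction q using Polynomial.induction_on' with
      | add q r hq hr =>
        rw [Polynomial.coe_add, map_add, show σ (q : PowerSeries k) + σ r - (q + r) = (σ q - q) + (σ r - r) by ring]
        exact dvd_add hq hr
      | monomial i c =>
        rw [← Polynomial.C_mul_X_pow_eq_monomial, Polynomial.coe_mul, Polynomial.coe_pow, Polynomial.coe_C,
          Polynomial.coe_X, map_mul, map_pow, show σ (PowerSeries.C c) = PowerSeries.C c from σ.commutes c, ← mul_sub]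
        exact Dvd.dvd.mul_left (((Dvd.intro e he.symm) : u ^ n ∣ σ u - u).trans (sub_dvd_pow_sub_pow _ _ i)) _
    have hdec : u ^ n ∣ y - (PowerSeries.trunc n y : PowerSeries k) := PowerSeries.X_pow_dvd_iff.2 fun i hi => by
      simp [Polynomial.coeff_coe, PowerSeries.coeff_trunc, hi]
    obtain ⟨r, hr⟩ := hdec
    have hyr : y = (PowerSeries.trunc n y : PowerSeries k) + u ^ n * r := by linear_combination hr
    rw [hyr, map_add, map_mul, map_pow,
      show σ (PowerSeries.trunc n y : PowerSeries k) + σ u ^ n * σ r -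
        ((PowerSeries.trunc n y : PowerSeries k) + u ^ n * r) =
        (σ (PowerSeries.trunc n y : PowerSeries k) - PowerSeries.trunc n y) + σ u ^ n * σ r - u ^ n * r by ring, hua]
    exact dvd_sub (dvd_add (hp' _) (Dvd.dvd.mul_right (by rw [mul_pow]; exact dvd_mul_right _ _) _)) (dvd_mul_right _ _)
  obtain ⟨c, hc⟩ := hid g
  obtain ⟨S, hS, hS0⟩ : ∃ S, a ^ μ = 1 + u ^ m * S ∧ PowerSeries.constantCoeff S ≠ 0 := by
    refine ⟨e * ∑ i ∈ Finset.range μ, a ^ i, ?_, ?_⟩
    · have h := geom_sum_mul a μ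
      rw [show a - 1 = u ^ m * e by rw [ha]; ring] at h
      linear_combination -h
    · have ha1 : PowerSeries.constantCoeff a = 1 := by
        rw [ha, map_add, map_one, map_mul, map_pow, PowerSeries.constantCoeff_X, zero_pow hm0, zero_mul, add_zero]
      simp only [map_mul, map_sum, map_pow, ha1, one_pow, Finset.sum_const, Finset.card_range, nsmul_eq_mul, mul_one]
      exact mul_ne_zero he0 (fun h => hpμ ((CharP.cast_eq_zero_iff k p μ).1 h))
  let d := σ g * u ^ μ - g * σ u ^ μ
  have hd : d = u ^ (μ + m) * (u * c - g * S) := by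
    simp only [d]
    rw [hua, mul_pow, hS, eq_add_of_sub_eq hc]
    ring
  have hunit : IsUnit (u * c - g * S) := by
    rw [PowerSeries.isUnit_iff_constantCoeff, isUnit_iff_ne_zero, map_sub, map_mul, map_mul, PowerSeries.constantCoeff_X,
      zero_mul, zero_sub, neg_ne_zero]
    exact mul_ne_zero hg0 hS0
  have E1 : g ^ p * x ^ μ - g * u ^ (μ * ν) * x ^ μ = f * u ^ (p * μ) := by
    rw [← sub_mul, hgeq, hxW, mul_pow, ← pow_mul]
    linear_combination (f * u ^ (p * μ)) * hWi
  have E2 : σ g ^ p * x ^ μ - σ g * σ u ^ (μ * ν) * x ^ μ = f * σ u ^ (p * μ) := by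
    have := congrArg σ E1
    simpa only [map_sub, map_mul, map_pow, hσx, hfσ] using this
  have hdp : d ^ p = d * (u * σ u) ^ (μ * ν) := by
    refine mul_right_cancel₀ (pow_ne_zero μ hx0) ?_
    simp only [d]
    rw [sub_pow_char, mul_pow, mul_pow, ← pow_mul, ← pow_mul, mul_pow]
    have e1 : u ^ (μ * p) = u ^ μ * u ^ (μ * ν) := by rw [← pow_add]; congr 1; rw [hν]; ring
    have e2 : σ u ^ (μ * p) = σ u ^ μ * σ u ^ (μ * ν) := by rw [← pow_add]; congr 1; rw [hν]; ring
    have e3 : u ^ (μ * p) = u ^ (p * μ) := by rw [mul_comm]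
    have e4 : σ u ^ (μ * p) = σ u ^ (p * μ) := by rw [mul_comm]
    linear_combination (u ^ (μ * p)) * E2 - (σ u ^ (μ * p)) * E1
      + f * σ u ^ (μ * p) * (0 : PowerSeries k) + (σ g * σ u ^ (μ * ν) * x ^ μ) * e1 - (g * u ^ (μ * ν) * x ^ μ) * e2
      - (f * u ^ (μ * p)) * e4 + (f * σ u ^ (μ * p)) * e3
  rw [hd, hua] at hdp
  have horder := congrArg PowerSeries.order hdp
  simp only [mul_pow, PowerSeries.order_mul, PowerSeries.order_pow, u, PowerSeries.order_X,
    PowerSeries.order_zero_of_unit hunit, PowerSeries.order_zero_of_unit haU, smul_zero, add_zero, nsmul_eq_mul,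
    mul_one, mul_zero] at horder
  norm_cast at horder
  rw [hν] at horder
  have hν1 : 0 < ν := Nat.pos_of_ne_zero hν0
  nlinarith

end Groth.Agent.S15813
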