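import Groth.Statements.S15814
import Groth.Agent.Calg1.MiracleFlatness
import Groth.Agent.Calg4.RegularAscent
import Groth.Agent.EGA41Two.DimIntegral
import Groth.Agent.Ega4Algebra1.RegularLocal
import Mathlib

set_option autoImplicit false
universe u v w
open WildQuot

open scoped TensorProduct

namespace Groth.Agent.S15814

open IsLocalRing TensorProduct in
/-- A regular local ring finite over a regular local subring is flat over it. -/
theorem flat_of_regular (R : Type u) (A : Type v) [CommRing R] [IsRegularLocalRing R] [CommRing A]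
    [IsRegularLocalRing A] [Algebra R A] [Module.Finite R A]
    (hinj : Function.Injective (algebraMap R A)) : Module.Flat R A := by
  let g : ULift.{v} R →+* ULift.{u} A :=
    ULift.ringEquiv.symm.toRingHom.comp ((algebraMap R A).comp ULift.ringEquiv.toRingHom)
  have hg : algebraMap R A = (ULift.ringEquiv (R := A)).toRingHom.comp
      (g.comp (ULift.ringEquiv (R := R)).symm.toRingHom) := RingHom.ext fun _ => rfl
  have : IsRegularLocalRing (ULift.{v} R) := IsRegularLocalRing.of_ringEquiv ULift.ringEquiv.symm
  have : IsRegularLocalRing (ULift.{u} A) := IsRegularLocalRing.of_ringEquiv ULift.ringEquiv.symm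
  have hfin : g.Finite := ((RingHom.Finite.of_surjective _ ULift.ringEquiv.symm.surjective).comp
    ((RingHom.finite_algebraMap.2 ‹_›).comp (RingHom.Finite.of_surjective _ ULift.ringEquiv.surjective)))
  algebraize [g]
  have hginj : Function.Injective g :=
    ULift.ringEquiv.symm.injective.comp (hinj.comp ULift.ringEquiv.injective)
  have : IsLocalHom (algebraMap (ULift.{v} R) (ULift.{u} A)) :=
    RingHom.IsIntegral.isLocalHom hfin.to_isIntegral hginj
  have := Groth.Calg4.isCohenMacaulayLocalRing_of_isRegularLocalRing (ULift.{u} A)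
  have hdim : ringKrullDim (ULift.{u} A) = ringKrullDim (ULift.{v} R) :=
    (Groth.EGA41Two.ringKrullDim_eq_of_isIntegral_of_injective (R := ULift.{v} R) (S := ULift.{u} A) hginj).symm
  have h0 : ringKrullDim (ULift.{u} A ⧸ (maximalIdeal (ULift.{v} R)).map
      (algebraMap (ULift.{v} R) (ULift.{u} A))) = 0 := by
    let I := (maximalIdeal (ULift.{v} R)).map (algebraMap (ULift.{v} R) (ULift.{u} A))
    have hle : I ≤ maximalIdeal (ULift.{u} A) :=
      Ideal.map_le_iff_le_comap.2 fun x hx => map_nonunit (algebraMap (ULift.{v} R) (ULift.{u} A)) x hx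
    have : Nontrivial (ULift.{u} A ⧸ I) := Ideal.Quotient.nontrivial_iff.mpr
      (ne_top_of_le_ne_top (maximalIdeal.isMaximal _).ne_top hle)
    have hfin2 : ((Ideal.Quotient.mk I).comp g).Finite :=
      (RingHom.Finite.of_surjective _ Ideal.Quotient.mk_surjective).comp hfin
    let ψ : ResidueField (ULift.{v} R) →+* ULift.{u} A ⧸ I :=
      Ideal.Quotient.lift _ ((Ideal.Quotient.mk I).comp g) fun x hx =>
        Ideal.Quotient.eq_zero_iff_mem.2 (Ideal.mem_map_of_mem _ hx)
    algebraize [ψ]
    have : Module.Finite (ResidueField (ULift.{v} R)) (ULift.{u} A ⧸ I) :=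
      RingHom.Finite.of_comp_finite (f := residue (ULift.{v} R)) (g := ψ) hfin2
    have : IsArtinianRing (ULift.{u} A ⧸ I) := IsArtinianRing.of_finite (ResidueField (ULift.{v} R)) _
    exact ringKrullDimZero_iff_ringKrullDim_eq_zero.1 inferInstance
  have hflat : g.Flat := Groth.Calg1.flat_of_isRegularLocalRing_of_isCohenMacaulay (ULift.{v} R) (ULift.{u} A)
    (by rw [h0, add_zero, hdim])
  rw [← RingHom.flat_algebraMap_iff, hg]
  exact ((RingHom.Flat.of_bijective ULift.ringEquiv.symm.bijective).comp hflat).comp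
    (RingHom.Flat.of_bijective ULift.ringEquiv.bijective)

open IsLocalRing in
/-- A free finite algebra over a local ring has a retraction sending `1` to `1`. -/
theorem exists_retraction (R : Type u) (A : Type v) [CommRing R] [IsLocalRing R] [CommRing A]
    [IsLocalRing A] [Algebra R A] [IsLocalHom (algebraMap R A)] [Module.Free R A] :
    ∃ ρ : A →ₗ[R] R, ρ 1 = 1 := by
  let b := Module.Free.chooseBasis R A
  obtain ⟨j, hj⟩ : ∃ j, IsUnit (b.repr 1 j) := by
    by_contra! hall
    have h1 : (1 : A) ∈ maximalIdeal A := by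
      rw [← b.linearCombination_repr 1, Finsupp.linearCombination_apply]
      refine Ideal.sum_mem _ fun j _ => ?_
      change b.repr 1 j • b j ∈ _
      rw [Algebra.smul_def]
      refine Ideal.mul_mem_right _ _ ?_
      exact fun h => hall j (IsUnit.of_map (algebraMap R A) _ h)
    exact (maximalIdeal.isMaximal A).ne_top ((Ideal.eq_top_iff_one _).2 h1)
  exact ⟨(↑hj.unit⁻¹ : R) • b.coord j, by simp⟩

open TensorProduct in
/-- Over a coproduct decomposition `A = B ⊗ C` with `A` free, `B` is free and `A` is flat over `B`. -/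
theorem flat_of_tensor {R : Type u} {A : Type v} {B : Type v} {C : Type (max u v)} [CommRing R]
    [CommRing A] [Algebra R A] [CommRing B] [Algebra R B] [CommRing C] [Algebra R C] [Module.Flat R A]
    (ρ : A →ₗ[R] R) (hρ : ρ 1 = 1) (j : B →ₐ[R] A) (c : C →ₐ[R] A) (Ψ : B ⊗[R] C ≃ₐ[R] A)
    (hj : ∀ b, Ψ (b ⊗ₜ 1) = j b) :
    Module.Flat R B ∧ j.toRingHom.Flat := by
  let rC : C →ₗ[R] R := ρ ∘ₗ c.toLinearMap
  let rB : B →ₗ[R] R := ρ ∘ₗ j.toLinearMap
  have : Module.Flat R (B ⊗[R] C) := Module.Flat.of_linearEquiv Ψ.toLinearEquiv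
  have hB : Module.Flat R B := Module.Flat.of_retract
    ((TensorProduct.mk R B C).flip 1) ((TensorProduct.rid R B).toLinearMap ∘ₗ rC.lTensor B)
    (LinearMap.ext fun b => by simp [rC, hρ])
  have hC : Module.Flat R C := Module.Flat.of_retract
    (TensorProduct.mk R B C 1) ((TensorProduct.lid R C).toLinearMap ∘ₗ rB.rTensor C)
    (LinearMap.ext fun x => by simp [rB, hρ])
  refine ⟨hB, ?_⟩
  rw [show j.toRingHom = Ψ.toRingEquiv.toRingHom.comp (algebraMap B (B ⊗[R] C)) from
    RingHom.ext fun b => (hj b).symm]
  exact (RingHom.flat_algebraMap_iff.2 inferInstance).comp (RingHom.Flat.of_bijective Ψ.bijective)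

/-- Let `R` be a regular local ring and `A` a regular local ring, finite over `R` (with `R → A`
injective) and with the same residue field; let a finite commutative group `H` of order `p ^ n` (`p`
prime) act faithfully on `A` by `R`-algebra automorphisms with ring of invariants exactly `R`, and
let `G_1, …, G_n ≤ H` be subgroups of order `p` generating `H`, each the inertia subgroup of some
height-one prime of `A`. Put `G_i^⊥ =` the subgroup generated by the `G_j` with `j ≠ i` and `B_i =
A^{G_i^⊥}`. Suppose `A` is the coproduct of the `R`-algebras `B_1, …, B_n`: every family of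
`R`-algebra maps `B_i → C` into a commutative `R`-algebra `C` is the restriction of a unique
`R`-algebra map `A → C` (that is, the product map `B_1 ⊗_R ⋯ ⊗_R B_n → A` is an isomorphism). Then
every `B_i` is a free `R`-module and a regular local ring. (The published statement is for `A`
complete regular with an action ramified precisely at the origin, `R` a norm subring and `H` the
Galois group of `Frac(A)/Frac(R)`, when that extension is Galois, and adds that the branch-locus
equations `a_1, …, a_n` of the `B_i` over `R` form a system of parameters of `R`; that last clause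
is not included, and the test algebras `C` are taken in one universe large enough to contain the
tensor product.) -/
theorem result
    (p : ℕ) [Fact p.Prime] (R : Type u) [CommRing R] [IsRegularLocalRing R]
    (A : Type v) [CommRing A] [IsRegularLocalRing A]
    [Algebra R A] [Module.Finite R A] (hinj : Function.Injective (algebraMap R A))
    (hres : Function.Surjective (IsLocalRing.residue A ∘ algebraMap R A))
    (H : Type w) [Group H] [Finite H] [MulSemiringAction H A] [SMulCommClass H R A] [FaithfulSMul H A]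
    (hfix : ∀ a : A, (∀ h : H, h • a = a) → a ∈ Set.range (algebraMap R A))
    (hcomm : ∀ g h : H, g * h = h * g)
    (n : ℕ) (hcard : Nat.card H = p ^ n) (Gi : Fin n → Subgroup H)
    (hGi : ∀ i, Nat.card (Gi i) = p) (hsup : (⨆ i, Gi i) = ⊤)
    (hinert : ∀ i, ∃ P : Ideal A, P.IsPrime ∧ P.height = 1 ∧ P.inertia H = Gi i)
    (hcoprod : ∀ (C : Type (max u v)) [CommRing C] [Algebra R C]
      (φ : ∀ i : Fin n,
        FixedPoints.subalgebra R A ↥(⨆ j ∈ (Finset.univ.erase i : Finset (Fin n)), Gi j : Subgroup H) →ₐ[R] C),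
      ∃! ψ : A →ₐ[R] C, ∀ i
        (x : FixedPoints.subalgebra R A ↥(⨆ j ∈ (Finset.univ.erase i : Finset (Fin n)), Gi j : Subgroup H)),
        ψ x = φ i x) :
    ∀ i, Module.Free R
        (FixedPoints.subalgebra R A ↥(⨆ j ∈ (Finset.univ.erase i : Finset (Fin n)), Gi j : Subgroup H)) ∧
      IsRegularLocalRing
        (FixedPoints.subalgebra R A ↥(⨆ j ∈ (Finset.univ.erase i : Finset (Fin n)), Gi j : Subgroup H)) := by
  classical
  intro i
  let K : Fin n → Subgroup H := fun i => ⨆ j ∈ (Finset.univ.erase i : Finset (Fin n)), Gi j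
  let B : Fin n → Subalgebra R A := fun i => FixedPoints.subalgebra R A ↥(K i)
  change Module.Free R (B i) ∧ IsRegularLocalRing (B i)
  let ι' := {j : Fin n // j ≠ i}
  let C := PiTensorProduct R (fun j : ι' => B j.1)
  let c : C →ₐ[R] A := PiTensorProduct.liftAlgHom
    ((MultilinearMap.mkPiAlgebra R ι' A).compLinearMap fun j => (B j.1).val.toLinearMap)
    (by simp) (fun x y => by simp [Finset.prod_mul_distrib])
  have hc : ∀ (j : ι') (x : B j.1), c (PiTensorProduct.singleAlgHom j x) = (x : A) := by
    intro j x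
    have : c (PiTensorProduct.singleAlgHom j x) = ∏ l : ι', ((Pi.mulSingle j x : ∀ l : ι', B l.1) l : A) := by
      simp [c, PiTensorProduct.singleAlgHom, PiTensorProduct.liftAlgHom]
      exact PiTensorProduct.lift.tprod _
    rw [this, Finset.prod_eq_single j (fun l _ hl => by rw [Pi.mulSingle_eq_of_ne hl]; rfl)
      (fun h => absurd (Finset.mem_univ j) h), Pi.mulSingle_eq_same]
  let Ψ : B i ⊗[R] C →ₐ[R] A := Algebra.TensorProduct.lift (B i).val c fun _ _ => Commute.all _ _
  let φ : ∀ j : Fin n, B j →ₐ[R] B i ⊗[R] C := fun j =>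
    if h : j = i then (Algebra.TensorProduct.includeLeft : B i →ₐ[R] B i ⊗[R] C).comp
      (Subalgebra.equivOfEq _ _ (congrArg B h)).toAlgHom
    else (Algebra.TensorProduct.includeRight : C →ₐ[R] B i ⊗[R] C).comp
      (PiTensorProduct.singleAlgHom (A := fun l : ι' => B l.1) (⟨j, h⟩ : ι'))
  obtain ⟨Φ, hΦ, -⟩ := hcoprod (B i ⊗[R] C) φ
  have hΨφ : ∀ (j : Fin n) (x : B j), Ψ (φ j x) = (x : A) := by
    intro j x
    by_cases h : j = i
    · subst h; simp [φ, Ψ]
    · simp [φ, Ψ, h, hc]
  have h1 : Ψ.comp Φ = AlgHom.id R A := by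
    have hu := hcoprod (ULift.{u} A) fun j => ULift.algEquiv.symm.toAlgHom.comp (B j).val
    have h := hu.unique (y₁ := ULift.algEquiv.symm.toAlgHom.comp (Ψ.comp Φ))
      (y₂ := ULift.algEquiv.symm.toAlgHom)
      (fun j x => by simp [hΦ, hΨφ]) (fun j x => by rfl)
    exact AlgHom.ext fun a => ULift.algEquiv.symm.injective (AlgHom.congr_fun h a)
  have h2 : Φ.comp Ψ = AlgHom.id R (B i ⊗[R] C) := by
    refine Algebra.TensorProduct.ext ?_ (PiTensorProduct.algHom_ext fun j => ?_)
    · exact AlgHom.ext fun x => by simp [Ψ, hΦ, φ]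
    · refine AlgHom.ext fun x => ?_
      change Φ (Ψ ((1 : B i) ⊗ₜ PiTensorProduct.singleAlgHom (A := fun l : ι' => B l.1) j x)) =
        (1 : B i) ⊗ₜ PiTensorProduct.singleAlgHom (A := fun l : ι' => B l.1) j x
      simp only [Ψ, Algebra.TensorProduct.lift_tmul, map_one, one_mul, hc]
      rw [hΦ]
      simp [φ, j.2]
      rfl
  let e : B i ⊗[R] C ≃ₐ[R] A := AlgEquiv.ofAlgHom Ψ Φ h1 h2
  have := flat_of_regular R A hinj
  have : IsLocalHom (algebraMap R A) :=
    RingHom.IsIntegral.isLocalHom (RingHom.finite_algebraMap.2 ‹_›).to_isIntegral hinj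
  have : Module.Free R A := Module.free_of_flat_of_isLocalRing
  obtain ⟨ρ, hρ⟩ := exists_retraction R A
  obtain ⟨hflat, hflatB⟩ := flat_of_tensor ρ hρ (B i).val c e (fun b => by simp [e, Ψ])
  have : IsNoetherianRing R := inferInstance
  have : Module.Finite R (B i) := Module.Finite.of_injective (B i).val.toLinearMap Subtype.val_injective
  refine ⟨Module.free_of_flat_of_isLocalRing, ?_⟩
  have hunit : ∀ x : B i, IsUnit (x : A) → IsUnit x := by
    intro x hx
    obtain ⟨y, hy⟩ := hx.exists_right_inv
    refine IsUnit.of_mul_eq_one ⟨y, fun g => ?_⟩ (Subtype.ext hy)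
    apply hx.mul_left_cancel
    rw [hy]
    conv_lhs => rw [show (x : A) = g • (x : A) from (x.2 g).symm, ← smul_mul', hy, smul_one]
  have : IsLocalRing (B i) := IsLocalRing.of_isUnit_or_isUnit_one_sub_self fun x =>
    (IsLocalRing.isUnit_or_isUnit_one_sub_self (x : A)).imp (hunit x) (fun h => hunit (1 - x) (by simpa using h))
  have : IsNoetherianRing (B i) := isNoetherian_of_tower R inferInstance
  have : Module.Flat (B i) A := RingHom.flat_algebraMap_iff.1 hflatB
  have : IsLocalHom (algebraMap (B i) A) := ⟨fun x hx => hunit x hx⟩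
  exact Groth.Ega4Algebra1.isRegularLocalRing_of_flat (B i) A

end Groth.Agent.S15814
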