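import Groth.Statements.S15816
import Groth.Agent.KoszulReg.Scaled
import Groth.Agent.KoszulReg.Weakly

set_option autoImplicit false
universe u
open CategoryTheory
open scoped TensorProduct
open Koszul

namespace Groth.Agent.S15816

/-- Let A be a commutative ring, f = (f_1, …, f_n) a sequence in A that is regular in the weak sense
(f_1 is a non-zero-divisor of A and each f_i is a non-zero-divisor modulo (f_1, …, f_{i-1})), with
Koszul complex K(f) and differentials ∂^q, and let x be a non-zero-divisor of A. Then for every
integer q < 0 the q-th cohomology module of the Koszul complex of (x f_1, …, x f_n) is isomorphic as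
an A-module to Ker(∂^q) ⊗_A A/(x) (existence of an A-linear isomorphism; mapping-cone model of the
Koszul complex). -/
theorem result (A : Type u) [CommRing A] (l : List A)
    (hl : RingTheory.Sequence.IsWeaklyRegular A l) (x : A) (hx : x ∈ nonZeroDivisors A) (q : ℤ) (hq : q < 0) :
    Nonempty ((Koszul.koszul A (l.map (fun f => x * f))).homology q ≅
      ModuleCat.of A (↥(LinearMap.ker ((Koszul.koszul A l).d q (q + 1)).hom) ⊗[A] (A ⧸ Ideal.span {x}))) := by
  obtain ⟨e⟩ := Groth.KoszulReg.nonempty_homology_koszul_scaled hx l q
  let K := Koszul.koszul A l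
  let N := LinearMap.ker (K.d q (q + 1)).hom
  have hex : (K.sc' (q - 1) q (q + 1)).Exact :=
    (HomologicalComplex.exactAt_iff' K _ _ _ (by simp) (by simp)).1
      ((HomologicalComplex.exactAt_iff_isZero_homology _ _).2
        (Groth.KoszulReg.isKoszulRegularSeq_of_isWeaklyRegular hl q (by omega)))
  have hr : LinearMap.range (K.d (q - 1) q).hom = N := hex.moduleCat_range_eq_ker
  have hc : Submodule.comap N.subtype
      (Ideal.span {x} • LinearMap.range (K.d (q - 1) q).hom) = Ideal.span {x} • ⊤ := by
    rw [hr]
    have h0 : Ideal.span {x} • N = Submodule.map N.subtype (Ideal.span {x} • ⊤) := by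
      rw [Submodule.map_smul'', Submodule.map_subtype_top]
    rw [h0]
    exact Submodule.comap_map_eq_of_injective (Submodule.subtype_injective N) _
  exact ⟨e ≪≫ (Submodule.quotEquivOfEq _ _ hc ≪≫ₗ
    (TensorProduct.tensorQuotEquivQuotSMul N (Ideal.span {x})).symm).toModuleIso⟩

end Groth.Agent.S15816
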