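import Groth.Statements.S15818
import Mathlib.CategoryTheory.Limits.Types.Pullbacks
import Mathlib.Algebra.Category.ModuleCat.Limits
-- import your own Groth.Agent.* helpers here

set_option autoImplicit false
universe u
open CategoryTheory
open Koszul

namespace Groth.Agent.S15818

theorem isPullback_factor {A : Type u} [CommRing A] {Z : Type u} [AddCommGroup Z] [Module A Z]
    (P Q R S : Submodule A Z) (h₁ : P ≤ Q) (h₂ : P ≤ R) (h₃ : Q ≤ S) (h₄ : R ≤ S)
    (hinf : Q ⊓ R ≤ P) (hsup : S ≤ Q ⊔ R) :
    IsPullback (ModuleCat.ofHom (Submodule.factor h₁)) (ModuleCat.ofHom (Submodule.factor h₂))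
      (ModuleCat.ofHom (Submodule.factor h₃)) (ModuleCat.ofHom (Submodule.factor h₄)) := by
  have hw : ModuleCat.ofHom (Submodule.factor h₁) ≫ ModuleCat.ofHom (Submodule.factor h₃) =
      ModuleCat.ofHom (Submodule.factor h₂) ≫ ModuleCat.ofHom (Submodule.factor h₄) := by
    refine ModuleCat.hom_ext (LinearMap.ext fun z => ?_)
    obtain ⟨z, rfl⟩ := Submodule.Quotient.mk_surjective _ z
    rfl
  refine IsPullback.of_map (forget (ModuleCat.{u} A)) hw ?_
  rw [Limits.Types.isPullback_iff]
  refine ⟨by rw [← Functor.map_comp, hw, Functor.map_comp], ?_, ?_⟩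
  · intro x y
    obtain ⟨x, rfl⟩ := Submodule.Quotient.mk_surjective _ x
    obtain ⟨y, rfl⟩ := Submodule.Quotient.mk_surjective _ y
    intro h
    exact (Submodule.Quotient.eq P).mpr (hinf ⟨(Submodule.Quotient.eq Q).mp h.1, (Submodule.Quotient.eq R).mp h.2⟩)
  · intro x y
    obtain ⟨a, rfl⟩ := Submodule.Quotient.mk_surjective _ x
    obtain ⟨b, rfl⟩ := Submodule.Quotient.mk_surjective _ y
    intro h
    obtain ⟨q, hq, r, hr, hqr⟩ := Submodule.mem_sup.mp (hsup ((Submodule.Quotient.eq S).mp h))
    refine ⟨Submodule.Quotient.mk (a - q), (Submodule.Quotient.eq Q).mpr (by simpa using hq),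
      (Submodule.Quotient.eq R).mpr ?_⟩
    have : a - q - b = r := by
      have hqr' : q + r = a - b := hqr
      rw [sub_right_comm, ← hqr', add_sub_cancel_left]
    exact this ▸ hr

/-- Let A be a commutative ring, f = (f_1, …, f_n) a finite sequence in A with Koszul complex K = K(f)
(mapping-cone model) and differentials ∂, q an integer, Z = Ker(∂^q) and B = Im(∂^{q-1}), so B ⊆ Z
inside K^q (this inclusion is carried as the hypothesis hBZ). Let x be a non-zero-divisor of A which
moreover acts injectively on the cohomology module Z/B (for Noetherian A this says that x lies in no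
associated prime of Z/B, which is how the published statement phrases it; the published argument
uses exactly the injectivity). Then the commuting square of quotient projections with corners Z/xB
(top left; it is isomorphic to the q-th cohomology of the Koszul complex of (x f_1, …, x f_n)), Z/xZ
= Z ⊗ A/(x) (top right), Z/B (bottom left) and Z/(B + xZ) = (Z/B) ⊗ A/(x) (bottom right) is
cartesian in the category of A-modules. All four corners are written as quotients of Z by the
preimages of the submodules xB, xZ, B, B + xZ of K^q. -/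
theorem result (A : Type u) [CommRing A] (l : List A) (q : ℤ)
    (K : CochainComplex (ModuleCat.{u} A) ℤ) (hK : K = Koszul.koszul A l)
    (hBZ : LinearMap.range (K.d (q - 1) q).hom ≤ LinearMap.ker (K.d q (q + 1)).hom)
    (x : A) (hx : x ∈ nonZeroDivisors A)
    (hxH : IsSMulRegular (↥(LinearMap.ker (K.d q (q + 1)).hom) ⧸ Submodule.comap (LinearMap.ker (K.d q (q + 1)).hom).subtype (LinearMap.range (K.d (q - 1) q).hom)) x) :
    IsPullback
      (ModuleCat.ofHom (Submodule.factor (Submodule.comap_mono (Submodule.smul_mono le_rfl hBZ) :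
        Submodule.comap (LinearMap.ker (K.d q (q + 1)).hom).subtype (Ideal.span {x} • LinearMap.range (K.d (q - 1) q).hom) ≤
          Submodule.comap (LinearMap.ker (K.d q (q + 1)).hom).subtype (Ideal.span {x} • LinearMap.ker (K.d q (q + 1)).hom))))
      (ModuleCat.ofHom (Submodule.factor (Submodule.comap_mono (Submodule.smul_le_right) :
        Submodule.comap (LinearMap.ker (K.d q (q + 1)).hom).subtype (Ideal.span {x} • LinearMap.range (K.d (q - 1) q).hom) ≤
          Submodule.comap (LinearMap.ker (K.d q (q + 1)).hom).subtype (LinearMap.range (K.d (q - 1) q).hom))))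
      (ModuleCat.ofHom (Submodule.factor (Submodule.comap_mono le_sup_right :
        Submodule.comap (LinearMap.ker (K.d q (q + 1)).hom).subtype (Ideal.span {x} • LinearMap.ker (K.d q (q + 1)).hom) ≤
          Submodule.comap (LinearMap.ker (K.d q (q + 1)).hom).subtype (LinearMap.range (K.d (q - 1) q).hom ⊔ Ideal.span {x} • LinearMap.ker (K.d q (q + 1)).hom))))
      (ModuleCat.ofHom (Submodule.factor (Submodule.comap_mono le_sup_left :
        Submodule.comap (LinearMap.ker (K.d q (q + 1)).hom).subtype (LinearMap.range (K.d (q - 1) q).hom) ≤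
          Submodule.comap (LinearMap.ker (K.d q (q + 1)).hom).subtype (LinearMap.range (K.d (q - 1) q).hom ⊔ Ideal.span {x} • LinearMap.ker (K.d q (q + 1)).hom)))) := by
  set Z := LinearMap.ker (K.d q (q + 1)).hom
  set B := LinearMap.range (K.d (q - 1) q).hom
  refine isPullback_factor _ _ _ _ _ _ _ _ ?_ ?_
  · intro z hz
    obtain ⟨hzQ, hzR⟩ := hz
    simp only [SetLike.mem_coe, Submodule.mem_comap] at hzQ hzR ⊢
    rw [Submodule.ideal_span_singleton_smul, Submodule.mem_smul_pointwise_iff_exists] at hzQ ⊢
    obtain ⟨w, hw, hwz⟩ := hzQ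
    refine ⟨w, ?_, hwz⟩
    have h0 : x • (Submodule.Quotient.mk ⟨w, hw⟩ : ↥Z ⧸ Submodule.comap Z.subtype B) = 0 := by
      rw [← Submodule.Quotient.mk_smul, Submodule.Quotient.mk_eq_zero, Submodule.mem_comap]
      change x • w ∈ B
      rw [← hwz] at hzR
      exact hzR
    have := hxH (h0.trans (smul_zero x).symm)
    rwa [Submodule.Quotient.mk_eq_zero, Submodule.mem_comap] at this
  · intro z hz
    rw [Submodule.mem_comap, Submodule.mem_sup] at hz
    obtain ⟨b, hb, c, hc, hbc⟩ := hz
    have hcZ : c ∈ Z := Submodule.smul_le_right hc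
    refine Submodule.mem_sup.mpr ⟨⟨c, hcZ⟩, hc, ⟨b, hBZ hb⟩, hb, Subtype.ext ?_⟩
    exact (add_comm c b).trans hbc

end Groth.Agent.S15818
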