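import Groth.Statements.S15819
import Groth.Agent.TorSelf.Main
import Groth.Agent.DerivedCoh.KFlat.LTensorMod
import Groth.Agent.Misc7.ClosedImm.SpectralSeq
import Groth.Agent.PicAux.Powers
import Groth.Agent.Misc6.DevissageSupp

set_option autoImplicit false
universe u
open CategoryTheory AlgebraicGeometry
attribute [local instance] HasDerivedCategory.standard
open RegImm

namespace Groth.Agent.S15819

/-- Let X be a scheme and i : Y → X a closed immersion which is regular, i.e. around every point of Y
there is an affine open of X on which the ideal of Y is generated by a regular sequence, and let C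
be the conormal sheaf of Y in X. Then for every q ≥ 0 and every q-th exterior power L of C (the
affine-local characterisation of exterior powers), the Tor sheaf Tor_q^{O_X}(i_*O_Y, i_*O_Y), namely
the cohomology sheaf in degree -q of i_*O_Y ⊗^L i_*O_Y (the total left derived functor of − ⊗ i_*O_Y
on D(O_X) being assumed to exist), is isomorphic to i_*L (existence of an isomorphism of
O_X-modules). (The published statement is for a local complete intersection closed subscheme of a
smooth variety, whose ideal is then locally generated by a regular sequence; this row assumes that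
property of the ideal directly and lets X be any scheme, which is what the gluing argument uses.) -/
theorem result {X Y : Scheme.{u}} (i : Y ⟶ X)
    [IsClosedImmersion i] (hi : RegImm.IsRegularImmersion RegImm.Kind.regular i)
    [DCoh.HasLTensorMod ((Scheme.Modules.pushforward i).obj (Coh.structureModule Y))]
    (q : ℕ) (L : Y.Modules) (hL : ExtPow.IsExtPow q (Omega.conormal i) L) :
    Nonempty (DCoh.HD ((DCoh.LTensorMod ((Scheme.Modules.pushforward i).obj (Coh.structureModule Y))).obj (DCoh.inD X ((Scheme.Modules.pushforward i).obj (Coh.structureModule Y)))) (-(q : ℤ)) ≅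
      (Scheme.Modules.pushforward i).obj L) := by
  obtain ⟨K, α, hzero, hflat, hepi, hqiso⟩ :=
    Groth.TorSelf.exists_flatCx ((Scheme.Modules.pushforward i).obj (Coh.structureModule Y))
  haveI := hepi
  haveI := hqiso
  haveI := Groth.Misc6.DevissageSupp.preservesFiniteLimits_push i
  haveI := Groth.Misc6.DevissageSupp.preservesFiniteColimits_push i
  let F := (Scheme.Modules.pushforward i).obj (Coh.structureModule Y)
  let n : ℤ := -(q : ℤ)
  have hC := Groth.TorSelf.isFinLocFree_conormal_regImm i hi
  haveI := Groth.KTheory.LocFree.isQCoh hC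
  obtain ⟨ε⟩ := Groth.LocFree.nonempty_iso_extPow hL
  obtain ⟨h⟩ := Groth.TorSelf.nonempty_homology_pull hzero hflat α
    (Groth.TorSelf.stalkRegular_of_regImm i hi) hC q
  have : IsIso (DerivedCategory.Q.map α) := (DerivedCategory.isIso_Q_map_iff_quasiIso _ α).2 inferInstance
  let e₁ : DCoh.inD X F ≅ DCoh.toD X K :=
    (DerivedCategory.singleFunctorIsoCompQ X.Modules 0).app F ≪≫ (asIso (DerivedCategory.Q.map α)).symm
  let π : DCoh.tensorRightMod F ≅ Scheme.Modules.pullback i ⋙ Scheme.Modules.pushforward i :=
    (show DCoh.tensorRightMod F ≅ (Scheme.Modules.pullback i ⋙ Groth.CohTwo.LocFreeExt.tR (Coh.structureModule Y)) ⋙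
        Scheme.Modules.pushforward i from Groth.Misc7.ClosedImm.tensorPushIso i (Coh.structureModule Y)) ≪≫
      Functor.isoWhiskerRight (Functor.isoWhiskerLeft _
        (show Groth.CohTwo.LocFreeExt.tR (Coh.structureModule Y) ≅ 𝟭 _ from Groth.PicAux.twistUnitIso) ≪≫
          Functor.rightUnitor _) _
  let e₂ : (Groth.DerivedCoh.KFlat.tmCx F).obj K ≅
      ((Scheme.Modules.pushforward i).mapHomologicalComplex (ComplexShape.up ℤ)).obj
        ((Groth.DerivedCoh.KFlat.pullCx i).obj K) :=
    (NatIso.mapHomologicalComplex π (ComplexShape.up ℤ)).app K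
  exact ⟨(DerivedCategory.homologyFunctor X.Modules n).mapIso ((DCoh.LTensorMod F).mapIso e₁ ≪≫
      Groth.DerivedCoh.KFlat.ltmQIso F K (Groth.TorSelf.isKFlat_of_flatCx hzero hflat)) ≪≫
    Groth.DerivedCoh.KFlat.hdIso _ n ≪≫
    (HomologicalComplex.homologyFunctor X.Modules (ComplexShape.up ℤ) n).mapIso e₂ ≪≫
    (((Groth.DerivedCoh.KFlat.pullCx i).obj K).sc n).mapHomologyIso (Scheme.Modules.pushforward i) ≪≫
    (Scheme.Modules.pushforward i).mapIso (h ≪≫ ε)⟩

end Groth.Agent.S15819
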