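import Groth.Statements.S15822
import Groth.Agent.KoszulLCI.Seq
import Mathlib.CategoryTheory.Monoidal.Linear
import Mathlib.LinearAlgebra.Pi
-- import your own Groth.Agent.* helpers here

set_option autoImplicit false
universe u
open CategoryTheory
open Koszul

namespace Groth.Agent.S15822

open CochainComplex CochainComplex.HomComplex Groth.KoszulCone Groth.KoszulReg in
theorem cone_split {A : Type u} [CommRing A] {L : CochainComplex (ModuleCat.{u} A) ℤ} (y : A)
    (z : Cochain L L (-1)) (hz : δ (-1) 0 z = y • Cochain.ofHom (𝟙 L)) (n m : ℤ) (h : n + 1 = m) :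
    Nonempty ((mappingCone (y • 𝟙 L)).homology n ≃ₗ[A] L.homology m × L.homology n) := by
  let φ : L ⟶ L := y • 𝟙 L
  let r : mappingCone φ ⟶ L := mappingCone.desc φ z (𝟙 L) (by
    rw [hz, Category.comp_id, ofHom_smul_id])
  have hr : mappingCone.inr φ ≫ r = 𝟙 L := mappingCone.inr_desc _ _ _ _
  obtain ⟨hom⟩ := (homotopy_iff (K := L) y).2 ⟨z, hz⟩
  have h0 : ∀ (k : ℤ) (x : L.homology k), HomologicalComplex.homologyMap φ k x = 0 := fun k x => by
    rw [hom.homologyMap_eq k, HomologicalComplex.homologyMap_zero]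
    rfl
  obtain ⟨d, h1, h2⟩ := cone_exact_delta φ n m h
  have hri : ∀ x : L.homology n, HomologicalComplex.homologyMap r n
      (HomologicalComplex.homologyMap (mappingCone.inr φ) n x) = x := fun x => by
    rw [← ConcreteCategory.comp_apply, ← HomologicalComplex.homologyMap_comp, hr,
      HomologicalComplex.homologyMap_id]
    rfl
  refine ⟨LinearEquiv.ofBijective (d.prod (HomologicalComplex.homologyMap r n).hom) ⟨?_, ?_⟩⟩
  · rw [injective_iff_map_eq_zero]
    intro x hx
    simp only [LinearMap.prod_apply, Function.prod_apply, Prod.mk_eq_zero] at hx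
    obtain ⟨w, rfl⟩ := (h1 x).mp hx.1
    have := hri w
    rw [show HomologicalComplex.homologyMap r n _ = 0 from hx.2] at this
    rw [← this, map_zero]
  · rintro ⟨a, b⟩
    obtain ⟨x, rfl⟩ := (h2 a).mp (h0 m a)
    refine ⟨x + HomologicalComplex.homologyMap (mappingCone.inr φ) n
      (b - HomologicalComplex.homologyMap r n x), Prod.ext ?_ ?_⟩
    · change d (x + _) = d x
      rw [map_add, h1.apply_apply_eq_zero, add_zero]
    · change HomologicalComplex.homologyMap r n (x + _) = b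
      rw [map_add, hri, add_sub_cancel]

/-- Index type of the summands. -/
def Idx : ℕ → Type
  | 0 => PUnit
  | n + 1 => Idx n ⊕ Idx n

/-- Degree of a summand. -/
def wt : ∀ n, Idx n → ℕ
  | 0, _ => 0
  | n + 1, .inl i => wt n i + 1
  | n + 1, .inr i => wt n i

instance finIdx : ∀ n, Finite (Idx n)
  | 0 => inferInstanceAs (Finite PUnit)
  | n + 1 => have := finIdx n; inferInstanceAs (Finite (Idx n ⊕ Idx n))

instance uniqueIdx0 : Unique (Idx 0) := inferInstanceAs (Unique PUnit)

theorem wt_lt : ∀ n (i : Idx n), wt n i < n + 1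
  | 0, _ => Nat.zero_lt_one
  | n + 1, .inl i => Nat.succ_lt_succ (wt_lt n i)
  | n + 1, .inr i => Nat.lt_succ_of_lt (wt_lt n i)

theorem card_fibre : ∀ n k : ℕ, Nat.card {i : Idx n // wt n i = k} = n.choose k
  | 0, 0 => Nat.card_eq_one_iff_exists.mpr ⟨⟨PUnit.unit, rfl⟩, fun ⟨⟨⟩, _⟩ => rfl⟩
  | 0, k + 1 => by
    have : IsEmpty {i : Idx 0 // wt 0 i = k + 1} := ⟨fun i => Nat.succ_ne_zero k i.2.symm⟩
    rw [Nat.card_of_isEmpty, Nat.choose_zero_succ]
  | n + 1, k => by
    have e : {i : Idx (n + 1) // wt (n + 1) i = k} ≃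
        {i : Idx n // wt n i + 1 = k} ⊕ {i : Idx n // wt n i = k} :=
      Equiv.subtypeSum
    rw [Nat.card_congr e, Nat.card_sum, card_fibre n k]
    cases k with
    | zero =>
      have : IsEmpty {i : Idx n // wt n i + 1 = 0} := ⟨fun i => Nat.succ_ne_zero _ i.2⟩
      rw [Nat.card_of_isEmpty, zero_add, Nat.choose_zero_right, Nat.choose_zero_right]
    | succ k =>
      rw [Nat.card_congr (Equiv.subtypeEquivRight fun i => Nat.succ_inj (a := wt n i) (b := k)),
        card_fibre n k, Nat.choose_succ_succ]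

open CochainComplex CochainComplex.HomComplex Groth.KoszulCone Groth.KoszulReg in
theorem kz_null {A : Type u} [CommRing A] (K : CochainComplex (ModuleCat.{u} A) ℤ) (y : A)
    (hy : ∃ z : Cochain K K (-1), δ (-1) 0 z = y • Cochain.ofHom (𝟙 K)) : ∀ ys : List A,
    ∃ z : Cochain (kz K ys) (kz K ys) (-1), δ (-1) 0 z = y • Cochain.ofHom (𝟙 (kz K ys))
  | [] => hy
  | f :: ys => by
    obtain ⟨z, hz⟩ := kz_null K y hy ys
    exact ⟨_, δ_cone_of y f z hz⟩

open CochainComplex CochainComplex.HomComplex Groth.KoszulReg in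
theorem kz_homology {A : Type u} [CommRing A] (K : CochainComplex (ModuleCat.{u} A) ℤ) :
    ∀ ys : List A,
      (∀ y ∈ ys, ∃ z : Cochain K K (-1), δ (-1) 0 z = y • Cochain.ofHom (𝟙 K)) → ∀ m : ℤ,
      Nonempty ((kz K ys).homology m ≃ₗ[A] ((i : Idx ys.length) → K.homology (m + wt ys.length i)))
  | [], _, m => by
    refine ⟨?_ ≪≫ₗ (LinearEquiv.piUnique A fun i : Idx 0 => K.homology (m + wt 0 i)).symm⟩
    exact (eqToIso (congrArg (fun k => K.homology k) (show m = m + ((0 : ℕ) : ℤ) by simp))).toLinearEquiv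
  | f :: ys, h, m => by
    obtain ⟨z, hz⟩ := kz_null K f (h f List.mem_cons_self) ys
    obtain ⟨e⟩ := cone_split f z hz m (m + 1) rfl
    obtain ⟨e₁⟩ := kz_homology K ys (fun y hy => h y (List.mem_cons_of_mem _ hy)) (m + 1)
    obtain ⟨e₀⟩ := kz_homology K ys (fun y hy => h y (List.mem_cons_of_mem _ hy)) m
    refine ⟨e ≪≫ₗ (e₁.prodCongr e₀) ≪≫ₗ ?_⟩
    refine (LinearEquiv.prodCongr (LinearEquiv.piCongrRight fun i => ?_) (LinearEquiv.refl A _)) ≪≫ₗ
      (LinearEquiv.sumPiEquivProdPi A (Idx ys.length) (Idx ys.length)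
        (fun i => K.homology (m + (wt (ys.length + 1) i : ℕ)))).symm
    exact (eqToIso (congrArg (fun k => K.homology k) (show m + 1 + (wt ys.length i : ℤ) =
      m + ((wt (ys.length + 1) (.inl i) : ℕ) : ℤ) by
        simp only [wt, Nat.cast_add, Nat.cast_one]; omega))).toLinearEquiv

theorem regroup_aux {A : Type u} [CommRing A] {I : Type} {n : ℕ} {c : Fin (n + 1) → ℕ}
    (G : ℕ → ModuleCat.{u} A) (f : I → Fin (n + 1)) (e : ∀ k, {i // f i = k} ≃ Fin (c k)) :
    Nonempty (((i : I) → G (f i).1) ≃ₗ[A] ((j : Fin (n + 1)) → Fin (c j) → G j.1)) := by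
  let E : I ≃ (k : Fin (n + 1)) × Fin (c k) :=
    (Equiv.sigmaFiberEquiv f).symm.trans (Equiv.sigmaCongrRight e)
  have hE : ∀ i, (E i).1 = f i := fun i => rfl
  let e₁ : ((i : I) → G (f i).1) ≃ₗ[A] ((i : I) → G (E i).1.1) :=
    LinearEquiv.piCongrRight fun i =>
      (eqToIso (congrArg (fun k : Fin (n + 1) => G k.1) (hE i).symm)).toLinearEquiv
  let e₂ : ((i : I) → G (E i).1.1) ≃ₗ[A] ((s : (k : Fin (n + 1)) × Fin (c k)) → G s.1.1) :=
    LinearEquiv.piCongrLeft A (fun s => G s.1.1) E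
  exact ⟨(e₁ ≪≫ₗ e₂) ≪≫ₗ LinearEquiv.piCurry A (fun (k : Fin (n + 1)) (_ : Fin (c k)) => G k.1)⟩

theorem regroup {A : Type u} [CommRing A] (n : ℕ) (G : ℕ → ModuleCat.{u} A) :
    Nonempty (((i : Idx n) → G (wt n i)) ≃ₗ[A]
      ((j : Fin (n + 1)) → Fin (n.choose j) → G j)) := by
  have hc : ∀ k : Fin (n + 1),
      Nat.card {i : Idx n // (⟨wt n i, wt_lt n i⟩ : Fin (n + 1)) = k} = n.choose k := fun k => by
    rw [← card_fibre n k]
    exact Nat.card_congr (Equiv.subtypeEquivRight fun i => Fin.ext_iff)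
  have hf : ∀ k : Fin (n + 1),
      Nonempty ({i : Idx n // (⟨wt n i, wt_lt n i⟩ : Fin (n + 1)) = k} ≃ Fin (n.choose k)) :=
    fun k => ⟨(Finite.equivFin _).trans (finCongr (hc k))⟩
  exact regroup_aux (c := fun k : Fin (n + 1) => n.choose k.1) G
    (fun i : Idx n => (⟨wt n i, wt_lt n i⟩ : Fin (n + 1))) (fun k => (hf k).some)

open Groth.KoszulReg in
theorem functor_kz {A : Type u} [CommRing A] (F : ModuleCat.{u} A ⥤ ModuleCat.{u} A) [F.Additive]
    (hF : ∀ (a : A) {X Y : ModuleCat.{u} A} (φ : X ⟶ Y), F.map (a • φ) = a • F.map φ)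
    (K : CochainComplex (ModuleCat.{u} A) ℤ) : ∀ ys : List A,
    Nonempty ((F.mapHomologicalComplex (ComplexShape.up ℤ)).obj (kz K ys) ≅
      kz ((F.mapHomologicalComplex (ComplexShape.up ℤ)).obj K) ys) := by
  intro ys
  have e := kzFunctorIso F K (ys.map fun y => (y, y)) (fun q hq => by
    obtain ⟨y, -, rfl⟩ := List.mem_map.mp hq
    intro X Y φ
    exact hF y φ)
  have h1 : (ys.map fun y => (y, y)).map Prod.fst = ys := by
    rw [List.map_map]; exact List.map_id ys
  have h2 : (ys.map fun y => (y, y)).map Prod.snd = ys := by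
    rw [List.map_map]; exact List.map_id ys
  rw [h1, h2] at e
  exact ⟨e⟩

theorem tensorRight_map_smul {A : Type u} [CommRing A] (M : ModuleCat.{u} A) (a : A)
    {X Y : ModuleCat.{u} A} (φ : X ⟶ Y) :
    (MonoidalCategory.tensorRight M).map (a • φ) = a • (MonoidalCategory.tensorRight M).map φ := by
  ext : 1
  refine TensorProduct.ext (LinearMap.ext fun x => LinearMap.ext fun y => ?_)
  exact (TensorProduct.smul_tmul' a (φ x) y).symm

theorem map_smul_id {A : Type u} [CommRing A] (F : ModuleCat.{u} A ⥤ ModuleCat.{u} A) [F.Additive]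
    (hF : ∀ (a : A) {X Y : ModuleCat.{u} A} (φ : X ⟶ Y), F.map (a • φ) = a • F.map φ)
    (K : CochainComplex (ModuleCat.{u} A) ℤ) (y : A) (h : Homotopy (y • 𝟙 K) 0) :
    Nonempty (Homotopy (y • 𝟙 ((F.mapHomologicalComplex (ComplexShape.up ℤ)).obj K)) 0) := by
  refine ⟨((Homotopy.ofEq ?_).trans (F.mapHomotopy h)).trans
    (Homotopy.ofEq (Functor.map_zero _ _ _))⟩
  ext1 p
  simp only [Functor.mapHomologicalComplex_map_f, HomologicalComplex.smul_f_apply,
    HomologicalComplex.id_f, hF, CategoryTheory.Functor.map_id]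
  rfl

/-- Let A be a commutative ring, M an A-module, x = (x_1, …, x_s) a sequence in A and y_1, …, y_r
elements of the ideal (x_1, …, x_s). Then for every integer m, the m-th cohomology module of the
complex K(x_1, …, x_s, y_1, …, y_r) ⊗_A M (Koszul complex of the concatenated sequence in the
iterated mapping-cone model, tensored termwise with M) is isomorphic as an A-module to the direct
sum over j = 0, …, r of (r choose j) copies of the (m + j)-th cohomology module of K(x_1, …, x_s)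
⊗_A M (existence of an A-linear isomorphism). In the published indexing: H^{-q}(K(x, y) ⊗ M) ≅
⊕_{i+j=q} H^{-i}(K(x) ⊗ M) ⊗ ∧^j A^r. -/
theorem result (A : Type u) [CommRing A] (M : ModuleCat.{u} A)
    (xs ys : List A) (hy : ∀ y ∈ ys, y ∈ Ideal.span {a | a ∈ xs}) (m : ℤ) :
    Nonempty ((DRing.tensorCx (Koszul.koszul A (xs ++ ys)) M).homology m ≅
      ModuleCat.of A ((j : Fin (ys.length + 1)) → Fin (ys.length.choose j) →
        (DRing.tensorCx (Koszul.koszul A xs) M).homology (m + j))) := by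
  obtain ⟨ep⟩ := Groth.KoszulLCI.nonempty_iso_of_perm (A := A)
    (List.perm_append_comm (l₁ := xs) (l₂ := ys))
  rw [Groth.KoszulReg.koszul_append xs ys] at ep
  let F : ModuleCat.{u} A ⥤ ModuleCat.{u} A := MonoidalCategory.tensorRight M
  let Fc := F.mapHomologicalComplex (ComplexShape.up ℤ)
  let K : CochainComplex (ModuleCat.{u} A) ℤ := DRing.tensorCx (Koszul.koszul A xs) M
  obtain ⟨e2⟩ := functor_kz (MonoidalCategory.tensorRight M)
    (fun a {X Y} φ => tensorRight_map_smul M a φ) (Koszul.koszul A xs) ys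
  have hnull : ∀ y ∈ ys, ∃ z : CochainComplex.HomComplex.Cochain K K (-1),
      CochainComplex.HomComplex.δ (-1) 0 z = y • CochainComplex.HomComplex.Cochain.ofHom (𝟙 K) := by
    intro y hy'
    obtain ⟨h⟩ : Nonempty (Homotopy (y • 𝟙 (Koszul.koszul A xs)) 0) := by
      rw [Groth.KoszulLCI.koszul_eq_koszulCx]
      exact Groth.KoszulCone.nonempty_homotopy xs _ y (hy y hy')
    exact (Groth.KoszulCone.homotopy_iff (K := K) y).1
      (map_smul_id (MonoidalCategory.tensorRight M)
        (fun a {X Y} φ => tensorRight_map_smul M a φ) (Koszul.koszul A xs) y h)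
  obtain ⟨e3⟩ := kz_homology K ys hnull m
  obtain ⟨e4⟩ := regroup (A := A) ys.length (fun k => K.homology (m + (k : ℕ)))
  exact ⟨(HomologicalComplex.homologyFunctor _ _ m).mapIso (Fc.mapIso ep ≪≫ e2) ≪≫
    (e3.trans e4).toModuleIso⟩

end Groth.Agent.S15822
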