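import Groth.Statements.S15824
import Groth.Agent.KoszulLCI.FlatQuasi
import Groth.Agent.Ega4Algebra2.CMUnmixed

set_option autoImplicit false
universe u
open CategoryTheory AlgebraicGeometry
open RegImm

namespace Groth.Agent.S15824

open RingTheory.Sequence in
theorem dim_zero_of_associated {R C : Type u} [CommRing R] [IsLocalRing R] [IsNoetherianRing R] [CommRing C]
    [IsLocalRing C] [IsNoetherianRing C] (hR : LocCoh.IsCohenMacaulayModule R R) (π : R →+* C)
    (hπ : Function.Surjective π) (l : List R) (hker : RingHom.ker π = Ideal.ofList l)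
    (hreg : IsWeaklyRegular R l) (hz : IsAssociatedPrime (IsLocalRing.maximalIdeal C) C) :
    ringKrullDim C = 0 := by
  have hne : Ideal.ofList l ≠ ⊤ := hker ▸ RingHom.ker_ne_top π
  have hm : ∀ x ∈ l, x ∈ IsLocalRing.maximalIdeal R := fun x hx =>
    IsLocalRing.le_maximalIdeal hne (Ideal.subset_span hx)
  have hCM : LocCoh.IsCohenMacaulayModule R (R ⧸ Ideal.ofList l) :=
    (Groth.Ega4b.isCM_congr (Submodule.quotEquivOfEq _ _ (by rw [smul_eq_mul, Ideal.mul_top]))).mp
      (Groth.Ega4b.isCM_quotient_ofList l R hR hm hreg)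
  obtain ⟨-, x, hx⟩ := isAssociatedPrime_iff.mp hz
  obtain ⟨r, rfl⟩ := hπ x
  have := hπ.isLocalHom
  have hass : IsLocalRing.maximalIdeal R ∈ associatedPrimes R (R ⧸ Ideal.ofList l) := by
    refine isAssociatedPrime_iff.mpr ⟨inferInstance, Submodule.Quotient.mk r, ?_⟩
    ext a
    rw [Submodule.mem_colon_singleton, Submodule.mem_bot, ← Submodule.Quotient.mk_smul,
      Submodule.Quotient.mk_eq_zero, ← hker, RingHom.mem_ker, smul_eq_mul, map_mul]
    refine Iff.trans ?_ ((Iff.of_eq (congrArg (π a ∈ ·) hx)).trans
      (by rw [Submodule.mem_colon_singleton, Submodule.mem_bot, smul_eq_mul]))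
    rw [← Ideal.mem_comap, IsLocalRing.maximalIdeal_comap]
  have hmin := Groth.LocCohBase.mem_minimalPrimes_of_CM hCM hass
  rw [Ideal.annihilator_quotient] at hmin
  rw [← ringKrullDimZero_iff_ringKrullDim_eq_zero, Ring.krullDimLE_zero_iff]
  intro P hP
  have hle : IsLocalRing.maximalIdeal R ≤ P.comap π := hmin.2 ⟨inferInstance, fun a ha => Ideal.mem_comap.mpr
    (by rw [← hker, RingHom.mem_ker] at ha; rw [ha]; exact P.zero_mem)⟩
    (IsLocalRing.le_maximalIdeal (Ideal.comap_ne_top _ hP.ne_top))
  have : P = IsLocalRing.maximalIdeal C := by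
    refine le_antisymm (IsLocalRing.le_maximalIdeal hP.ne_top) fun c hc => ?_
    obtain ⟨b, rfl⟩ := hπ c
    exact hle ((IsLocalRing.mem_maximalIdeal b).mpr fun hu => (IsLocalRing.mem_maximalIdeal _).mp hc (hu.map π))
  exact this ▸ IsLocalRing.maximalIdeal.isMaximal C

/-- Let X be a locally Noetherian scheme all of whose local rings are Cohen–Macaulay, and i : Z → X a
closed immersion which is regular (around every point, on some affine open of X the ideal of Z is
generated by a regular sequence). Then Z has no embedded points (each associated point of Z is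
generic in an irreducible component): for every point z of Z, if the maximal ideal of O_{Z,z} is an
associated prime of O_{Z,z} (as a module over itself), then O_{Z,z} has Krull dimension 0. (The
published statement takes X Noetherian and Z a local complete intersection subscheme; the assertion
is local on X and uses only that the ideal of Z is locally generated by a regular sequence.) -/
theorem result {X Z : Scheme.{u}}
    [IsLocallyNoetherian X] (hCM : ∀ x : X, LocCoh.IsCohenMacaulayLocalRing (X.presheaf.stalk x))
    (i : Z ⟶ X) [IsClosedImmersion i] (hi : RegImm.IsRegularImmersion RegImm.Kind.regular i) (z : Z)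
    (hz : IsAssociatedPrime (IsLocalRing.maximalIdeal (Z.presheaf.stalk z)) (Z.presheaf.stalk z)) :
    ringKrullDim (Z.presheaf.stalk z) = 0 := by
  obtain ⟨U, hzU, hci, rs, hrs, hker⟩ := hi.2 z
  have := hCM (i z)
  have : IsLocallyNoetherian Z := LocallyOfFiniteType.isLocallyNoetherian i
  let θ := (X.presheaf.germ U.1 (i z) hzU).hom
  have hk : RingHom.ker (i.stalkMap z).hom = Ideal.ofList (rs.map θ) := by
    rw [← Ideal.map_ofList, ← hker]
    exact Groth.KoszulLCI.ker_stalkMap_eq_map_of_restrict i U z hzU
  have hreg : RingTheory.Sequence.IsWeaklyRegular (X.presheaf.stalk (i z)) (rs.map θ) := by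
    let _ := TopCat.Presheaf.algebra_section_stalk X.presheaf (⟨i z, hzU⟩ : U.1)
    have : IsLocalization.AtPrime (X.presheaf.stalk (i z)) (U.2.primeIdealOf ⟨i z, hzU⟩).asIdeal :=
      U.2.isLocalization_stalk ⟨i z, hzU⟩
    have : Module.Flat Γ(X, U.1) (X.presheaf.stalk (i z)) :=
      IsLocalization.flat (X.presheaf.stalk (i z)) (U.2.primeIdealOf ⟨i z, hzU⟩).asIdeal.primeCompl
    exact hrs.toIsWeaklyRegular.of_flat (S := X.presheaf.stalk (i z))
  exact dim_zero_of_associated LocCoh.IsCohenMacaulayLocalRing.supportDim_eq_depth (i.stalkMap z).hom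
    (i.stalkMap_surjective z) (rs.map θ) hk hreg hz

end Groth.Agent.S15824
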