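import Groth.Statements.S15825
import Mathlib
import Groth.Agent.CMTorIndep.Scheme
import Groth.Agent.Calg4.CMDecomp

set_option autoImplicit false
universe u
open CategoryTheory CategoryTheory.Limits AlgebraicGeometry
open RegImm

namespace Groth.Agent.S15825

/-- Let X be a locally Noetherian scheme all of whose local rings are Cohen–Macaulay, and let iY : Y → X
and iZ : Z → X be closed immersions which are regular of constant codimension a and b respectively
(around every point, on some affine open of X the ideal is generated by a regular sequence of length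
a, resp. b). Let W = Y ×_X Z be the scheme-theoretic intersection, with closed immersion w = pr_1 ≫
iY : W → X, and suppose W has the expected codimension: at every point of W the local ring of X has
Krull dimension at least a + b. Then w is a regular immersion of codimension a + b (so W is again a
local complete intersection in X), and the fibre square formed by W, Y, Z, X is Tor-independent: for
every affine open U of X and every i > 0 the module Tor_i over Γ(X, U) of Γ(Y, iY⁻¹U) and Γ(Z,
iZ⁻¹U) (module structures through iY and iZ; Tor computed by resolving the second argument) is zero.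
(The published statement is phrased with local complete intersections in a Cohen–Macaulay scheme and
the global codimension of Y ∩ Z; regular sequences of the stated lengths and the pointwise dimension
bound express the same hypotheses, and the vanishing of these Tor modules on affine opens is
equivalent to the vanishing of the stalkwise Tor groups at the points of W.) -/
theorem result {X Y Z : Scheme.{u}}
    [IsLocallyNoetherian X] (hCM : ∀ x : X, LocCoh.IsCohenMacaulayLocalRing (X.presheaf.stalk x))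
    (iY : Y ⟶ X) (iZ : Z ⟶ X) [IsClosedImmersion iY] [IsClosedImmersion iZ] (a b : ℕ)
    (hY : RegImm.IsRegularImmersionOfCodim RegImm.Kind.regular a iY)
    (hZ : RegImm.IsRegularImmersionOfCodim RegImm.Kind.regular b iZ)
    (hcodim : ∀ w : ↥(pullback iY iZ), ((a + b : ℕ) : WithBot ℕ∞) ≤
      ringKrullDim (X.presheaf.stalk ((pullback.fst iY iZ ≫ iY).base w))) :
    RegImm.IsRegularImmersionOfCodim RegImm.Kind.regular (a + b) (pullback.fst iY iZ ≫ iY) ∧
      ∀ (U : X.Opens), IsAffineOpen U → ∀ (i : ℕ), 0 < i →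
        Subsingleton (@DRing.Tor Γ(X, U) _ i Γ(Y, iY ⁻¹ᵁ U) Γ(Z, iZ ⁻¹ᵁ U) _ (iY.app U).hom.toModule _ (iZ.app U).hom.toModule) := by
  let w := pullback.fst iY iZ ≫ iY
  have hw : IsClosedImmersion w := inferInstance
  -- the ideal of the intersection
  have hker : w.ker = iY.ker ⊔ iZ.ker := by
    apply le_antisymm
    · let K := iY.ker ⊔ iZ.ker
      let ly := IsClosedImmersion.lift iY K.subschemeι (by rw [K.ker_subschemeι]; exact le_sup_left)
      let lz := IsClosedImmersion.lift iZ K.subschemeι (by rw [K.ker_subschemeι]; exact le_sup_right)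
      have hfac : pullback.lift ly lz (by simp [ly, lz]) ≫ w = K.subschemeι := by
        change pullback.lift ly lz _ ≫ pullback.fst iY iZ ≫ iY = _
        rw [pullback.lift_fst_assoc]
        exact IsClosedImmersion.lift_fac _ _ _
      calc w.ker ≤ (pullback.lift ly lz (by simp [ly, lz]) ≫ w).ker := Scheme.Hom.le_ker_comp _ _
        _ = K := by rw [hfac, K.ker_subschemeι]
    · refine sup_le (Scheme.Hom.le_ker_comp _ _) ?_
      have : w = pullback.snd iY iZ ≫ iZ := pullback.condition
      rw [this]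
      exact Scheme.Hom.le_ker_comp _ _
  have hkerU : ∀ U : X.affineOpens, RingHom.ker (w.app U.1).hom =
      RingHom.ker (iY.app U.1).hom ⊔ RingHom.ker (iZ.app U.1).hom := fun U => by
    rw [← Scheme.Hom.ker_apply w U, ← Scheme.Hom.ker_apply iY U, ← Scheme.Hom.ker_apply iZ U, hker]
    rfl
  have key : ∀ U : X.affineOpens,
      (∀ (p : Ideal Γ(X, U.1)) [p.IsPrime], LocCoh.IsCohenMacaulayLocalRing (Localization.AtPrime p)) ∧
      IsNoetherianRing Γ(X, U.1) ∧
      (∀ (p : Ideal Γ(X, U.1)) [p.IsPrime], RingHom.ker (iY.app U.1).hom ≤ p →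
        Groth.CMTorIndep.LRegLen a (RingHom.ker (iY.app U.1).hom) p) ∧
      (∀ (p : Ideal Γ(X, U.1)) [p.IsPrime], RingHom.ker (iZ.app U.1).hom ≤ p →
        Groth.CMTorIndep.LRegLen b (RingHom.ker (iZ.app U.1).hom) p) ∧
      (∀ q : Ideal Γ(X, U.1), q.IsPrime →
        RingHom.ker (iY.app U.1).hom ⊔ RingHom.ker (iZ.app U.1).hom ≤ q →
        ((a + b : ℕ) : ℕ∞) ≤ q.height) := by
    intro U
    have : IsNoetherianRing Γ(X, U.1) := IsLocallyNoetherian.component_noetherian U
    -- the point of a prime
    have hpt : ∀ (p : Ideal Γ(X, U.1)) (hp : p.IsPrime), ∃ (hx : U.2.fromSpec.base ⟨p, hp⟩ ∈ U.1),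
        (U.2.primeIdealOf ⟨U.2.fromSpec.base ⟨p, hp⟩, hx⟩).asIdeal = p := fun p hp => by
      have hx : U.2.fromSpec.base ⟨p, hp⟩ ∈ U.1 := by
        have : U.2.fromSpec.base ⟨p, hp⟩ ∈ Set.range U.2.fromSpec.base := ⟨_, rfl⟩
        rwa [U.2.range_fromSpec] at this
      refine ⟨hx, ?_⟩
      have := U.2.fromSpec.isOpenEmbedding.injective
        (U.2.fromSpec_primeIdealOf ⟨U.2.fromSpec.base ⟨p, hp⟩, hx⟩)
      exact congrArg PrimeSpectrum.asIdeal this
    -- preimages of points over an ideal
    have hpre : ∀ {W : Scheme.{u}} (i : W ⟶ X) [IsClosedImmersion i] (p : Ideal Γ(X, U.1)) (hp : p.IsPrime),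
        RingHom.ker (i.app U.1).hom ≤ p → ∃ z : W, i.base z = U.2.fromSpec.base ⟨p, hp⟩ := by
      intro W i _ p hp hle
      obtain ⟨hx, hxp⟩ := hpt p hp
      have hsupp : U.2.fromSpec.base ⟨p, hp⟩ ∈ (i.ker.support : Set X) := by
        have : U.2.fromSpec.base ⟨p, hp⟩ ∈ (i.ker.support : Set X) ∩ U.1 := by
          rw [Scheme.IdealSheafData.coe_support_inter]
          refine ⟨?_, hx⟩
          refine ((U.2.fromSpec_image_zeroLocus ((i.ker.ideal U : Ideal Γ(X, U.1)) : Set Γ(X, U.1))).le
            ⟨⟨p, hp⟩, ?_, rfl⟩).1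
          show ((i.ker.ideal U : Ideal Γ(X, U.1)) : Set Γ(X, U.1)) ⊆ p
          rw [Scheme.Hom.ker_apply]
          exact hle
        exact this.1
      rw [Scheme.Hom.support_ker, i.isClosedEmbedding.isClosed_range.closure_eq] at hsupp
      exact hsupp
    refine ⟨fun p hp => ?_, inferInstance, fun p hp hle => ?_, fun p hp hle => ?_, fun q hq hle => ?_⟩
    · obtain ⟨hx, hxp⟩ := hpt p hp
      let x : U.1 := ⟨U.2.fromSpec.base ⟨p, hp⟩, hx⟩
      let _ := X.presheaf.algebra_section_stalk x
      have := U.2.isLocalization_stalk x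
      have : IsLocalization p.primeCompl (X.presheaf.stalk x.1) := by
        convert this using 2
        exact hxp.symm
      exact Groth.Ega4b.isCohenMacaulayLocalRing_of_ringEquiv
        (IsLocalization.algEquiv p.primeCompl (X.presheaf.stalk x.1) (Localization.AtPrime p)).toRingEquiv
        (hCM x.1)
    · obtain ⟨z, hz⟩ := hpre iY p hp hle
      obtain ⟨hx, hxp⟩ := hpt p hp
      have hzU : iY.base z ∈ U.1 := hz ▸ hx
      have := Groth.CMTorIndep.lRegLen_of_ofCodim iY hY z U hzU
      have he : (⟨iY.base z, hzU⟩ : U.1) = ⟨_, hx⟩ := Subtype.ext hz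
      rw [he, hxp] at this
      exact this
    · obtain ⟨z, hz⟩ := hpre iZ p hp hle
      obtain ⟨hx, hxp⟩ := hpt p hp
      have hzU : iZ.base z ∈ U.1 := hz ▸ hx
      have := Groth.CMTorIndep.lRegLen_of_ofCodim iZ hZ z U hzU
      have he : (⟨iZ.base z, hzU⟩ : U.1) = ⟨_, hx⟩ := Subtype.ext hz
      rw [he, hxp] at this
      exact this
    · obtain ⟨z, hz⟩ := hpre w q hq ((hkerU U).le.trans hle)
      obtain ⟨hx, hxp⟩ := hpt q hq
      let x : U.1 := ⟨U.2.fromSpec.base ⟨q, hq⟩, hx⟩
      let _ := X.presheaf.algebra_section_stalk x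
      have := U.2.isLocalization_stalk x
      have : IsLocalization.AtPrime (X.presheaf.stalk x.1) q := by
        show IsLocalization q.primeCompl _
        convert this using 2
        exact hxp.symm
      have h := hcodim z
      rw [show (pullback.fst iY iZ ≫ iY).base z = x.1 from hz,
        IsLocalization.AtPrime.ringKrullDim_eq_height q (X.presheaf.stalk x.1)] at h
      exact WithBot.coe_le_coe.1 h
  refine ⟨⟨inferInstance, fun z => ?_⟩, fun U hU i hi => ?_⟩
  · obtain ⟨U, hU, hzU, -⟩ := exists_isAffineOpen_mem_and_subset (x := w.base z) (U := (⊤ : X.Opens)) trivial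
    obtain ⟨hCM', hN, hI, hJ, hht⟩ := key ⟨U, hU⟩
    have := Groth.KoszulLCI.ker_app_le_primeIdealOf w hU z hzU
    rw [hkerU ⟨U, hU⟩] at this
    refine Groth.CMTorIndep.exists_chart_of_lRegLen w z ⟨U, hU⟩ hzU ?_
    rw [hkerU ⟨U, hU⟩]
    exact Groth.CMTorIndep.lRegLen_sup (hCM' _) (hI _ (le_sup_left.trans this))
      (hJ _ (le_sup_right.trans this)) this fun q hq h _ => hht q hq h
  · obtain ⟨hCM', hN, hI, hJ, hht⟩ := key ⟨U, hU⟩
    obtain ⟨i, rfl⟩ := Nat.exists_eq_succ_of_ne_zero hi.ne'
    have hfin := Groth.CMTorIndep.subsingleton_tor (R := Γ(X, U)) hCM' hI hJ hht i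
    letI := (iY.app U).hom.toAlgebra
    letI := (iZ.app U).hom.toAlgebra
    have eY : (Γ(X, U) ⧸ RingHom.ker (iY.app U).hom) ≃ₗ[Γ(X, U)] Γ(Y, iY ⁻¹ᵁ U) :=
      (Ideal.quotientKerAlgEquivOfSurjective (f := Algebra.ofId Γ(X, U) Γ(Y, iY ⁻¹ᵁ U))
        (Groth.KoszulReg.surjective_app iY U hU)).toLinearEquiv
    have eZ : (Γ(X, U) ⧸ RingHom.ker (iZ.app U).hom) ≃ₗ[Γ(X, U)] Γ(Z, iZ ⁻¹ᵁ U) :=
      (Ideal.quotientKerAlgEquivOfSurjective (f := Algebra.ofId Γ(X, U) Γ(Z, iZ ⁻¹ᵁ U))
        (Groth.KoszulReg.surjective_app iZ U hU)).toLinearEquiv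
    obtain ⟨e⟩ := Groth.CMTorIndep.tor_congr eY eZ (i + 1)
    exact e.symm.toEquiv.subsingleton

end Groth.Agent.S15825
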