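import Groth.Statements.S15828
import Groth.Agent.KoszulTens.Cone
-- import your own Groth.Agent.* helpers here

set_option autoImplicit false
universe u
open CategoryTheory CategoryTheory.Limits MonoidalCategory
open Koszul

namespace Groth.Agent.S15828

section Helpers

open CochainComplex CochainComplex.mappingCone in
noncomputable def coneMapIso {C : Type*} [Category C] [Preadditive C]
    {K₁ L₁ K₂ L₂ : CochainComplex C ℤ} [HasBinaryBiproducts C] (φ₁ : K₁ ⟶ L₁) (φ₂ : K₂ ⟶ L₂)
    (a : K₁ ≅ K₂) (b : L₁ ≅ L₂) (comm : φ₁ ≫ b.hom = a.hom ≫ φ₂) :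
    mappingCone φ₁ ≅ mappingCone φ₂ where
  hom := map φ₁ φ₂ a.hom b.hom comm
  inv := map φ₂ φ₁ a.inv b.inv (by rw [← cancel_epi a.hom, ← reassoc_of% comm]; simp)
  hom_inv_id := by
    rw [← map_comp]
    simp [map_id]
  inv_hom_id := by
    rw [← map_comp]
    simp [map_id]

end Helpers

/-- Let A be a commutative ring and f = (f_1, …, f_r), g = (g_1, …, g_s) finite sequences of elements of
A (Koszul complexes of free modules of finite rank with chosen bases). Then the tensor product of
cochain complexes K(f) ⊗ K(g) is isomorphic to the Koszul complex K(f_1, …, f_r, g_1, …, g_s) of the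
concatenated sequence (existence of an isomorphism of cochain complexes of A-modules; the Koszul
complexes are the iterated mapping-cone model and ⊗ is the tensor product of complexes). The second
assertion of the published statement, K(f, g) ≅ Cone(g : K(f) → K(f)) for a single element g, is the
defining recursion of the mapping-cone model and is not restated. -/
theorem result (A : Type u) [CommRing A] (f g : List A) :
    Nonempty ((MonoidalCategoryStruct.tensorObj (C := DRing.Cx A) (Koszul.koszul A f) (Koszul.koszul A g)) ≅
      Koszul.koszul A (f ++ g)) := by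
  induction f with
  | nil =>
    exact ⟨MonoidalCategory.leftUnitor (C := DRing.Cx A) (Koszul.koszul A g)⟩
  | cons a l ih =>
    obtain ⟨e⟩ := ih
    let φ : Koszul.koszul A l ⟶ Koszul.koszul A l := a • 𝟙 _
    have h1 : HomologicalComplex.tensorHom φ (𝟙 (Koszul.koszul A g)) =
        a • 𝟙 (HomologicalComplex.tensorObj (Koszul.koszul A l) (Koszul.koszul A g)) :=
      Groth.KoszulTens.tensorHom_smul _ a _
    have i1 := Groth.KoszulTens.iso φ (Koszul.koszul A g)
    rw [h1] at i1
    refine ⟨i1 ≪≫ ?_⟩
    exact coneMapIso _ _ e e (by simp)

end Groth.Agent.S15828
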