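import Groth.Statements.S18543
import Mathlib
import Groth.Agent.Hopf.CharGroup
import Groth.Agent.Sga3.HopfFiniteDescent

set_option autoImplicit false
universe u
open Hopf

namespace Groth.Agent.S18543

open TensorProduct

theorem convPow_apply_groupLike {R B : Type*} [CommRing R] [CommRing B] [Bialgebra R B] {a : B}
    (ha : IsGroupLikeElem R a) (m : ℕ) :
    (WithConv.toConv (AlgHom.id R B) ^ m) a = a ^ m := by
  induction m with
  | zero =>
    rw [pow_zero, AlgHom.convOne_apply, ha.counit_eq_one, map_one, pow_zero]
  | succ m ih =>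
    rw [pow_succ, AlgHom.convMul_apply, ha.comul_eq_tmul_self, pow_succ]
    simp [ih]

/-- Let p be a prime number, k a field of characteristic p and A a finite-dimensional commutative,
cocommutative Hopf algebra over k — the coordinate ring of a finite commutative group scheme G over
k — such that A is étale over k and dim_k A = p^n for some n (G is an étale group scheme of p-power
order). Then the Cartier dual A^∨ = Hom_k(A, k), with its convolution ring structure, is a local
ring; that is, the Cartier dual group scheme G^∨ = Spec A^∨ is infinitesimal (its underlying space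
is a single point). -/
theorem result (p : ℕ) [Fact p.Prime]
    (k : Type u) [Field k] [CharP k p] (A : Type u) [CommRing A] [HopfAlgebra k A] [Coalgebra.IsCocomm k A]
    [Module.Finite k A] [Algebra.Etale k A] (n : ℕ) (hA : Module.finrank k A = p ^ n) :
    IsLocalRing (CartDual.D k A) := by
  let L := AlgebraicClosure k
  let b := Module.finBasis k A
  have hu : Subsingleton (WithConv (CartDual.D k A →ₐ[k] L)) := by
    refine (Groth.ComodLib.charEquiv L b).symm.toEquiv.subsingleton_congr.mpr ?_
    haveI : IsReduced (L ⊗[k] A) := Algebra.FormallyUnramified.isReduced_of_field L (L ⊗[k] A)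
    haveI : CharP L p := charP_of_injective_algebraMap' k p
    refine subsingleton_of_forall_eq 1 fun g => GroupLike.val_injective ?_
    have h1 : (g.val : L ⊗[k] A) ^ p ^ n = 1 := by
      have h2 := convPow_apply_groupLike g.isGroupLikeElem_val (Module.finrank L (L ⊗[k] A))
      rw [Groth.Sga3.HopfFin.convPow_finrank_eq_one', AlgHom.convOne_apply,
        g.isGroupLikeElem_val.counit_eq_one, map_one, Module.finrank_baseChange, hA] at h2
      exact h2.symm
    show g.val = 1
    haveI : Nontrivial A := (Module.nontrivial_of_finrank_pos (R := k) (by rw [hA]; exact pow_pos (Fact.out : p.Prime).pos n))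
    haveI : Nontrivial (L ⊗[k] A) := Module.nontrivial_of_finrank_pos (R := L) (by
      rw [Module.finrank_baseChange, hA]; exact pow_pos (Fact.out : p.Prime).pos n)
    haveI : CharP (L ⊗[k] A) p := charP_of_injective_algebraMap' L p
    refine sub_eq_zero.mp (IsReduced.eq_zero _ ⟨p ^ n, ?_⟩)
    rw [sub_pow_char_pow, h1, one_pow, sub_self]
  haveI : Nontrivial (CartDual.D k A) := by
    refine Module.nontrivial_of_finrank_pos (R := k) ?_
    rw [(CartDual.toDual k A).finrank_eq, Subspace.dual_finrank_eq, hA]
    exact pow_pos (Fact.out : p.Prime).pos n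
  have hpt : ∀ m : Ideal (CartDual.D k A), m.IsMaximal →
      ∃ f : CartDual.D k A →ₐ[k] L, RingHom.ker f = m := by
    intro m hm
    letI := Ideal.Quotient.field m
    haveI : Algebra.IsAlgebraic k (CartDual.D k A ⧸ m) := inferInstance
    let i : (CartDual.D k A ⧸ m) →ₐ[k] L := IsAlgClosed.lift
    refine ⟨i.comp (Ideal.Quotient.mkₐ k m), ?_⟩
    ext x
    rw [RingHom.mem_ker, AlgHom.comp_apply, map_eq_zero_iff i i.toRingHom.injective,
      Ideal.Quotient.mkₐ_eq_mk, Ideal.Quotient.eq_zero_iff_mem]
  obtain ⟨m, hm⟩ := Ideal.exists_maximal (CartDual.D k A)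
  refine IsLocalRing.of_unique_max_ideal ⟨m, hm, fun m' hm' => ?_⟩
  obtain ⟨f, rfl⟩ := hpt m hm
  obtain ⟨f', rfl⟩ := hpt m' hm'
  rw [show f' = f from WithConv.toConv_injective (Subsingleton.elim _ _)]
end Groth.Agent.S18543
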