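import Groth.Statements.S15832
import Mathlib.Tactic

set_option autoImplicit false
universe u
open TopGrp Topology

namespace Groth.Agent.S15832

/-- For a group T with a topology, let B be the family of two-sided translates x Γ y, where Γ runs over
the subgroups of T open in the given topology and x, y over T; the topology generated by B makes T a
topological group in which every neighbourhood of the identity contains a subgroup open for that
topology. (The published statement is for the free topological product of two Noohi groups whose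
open subgroups form a basis of neighbourhoods of the identity; the argument uses only the group
structure and the chosen family of subgroups, so the row is stated for an arbitrary group with a
topology. The published conventions include Hausdorffness in the word topological group; this row
does not assert it, and the published argument does not prove it.) -/
theorem result (T : Type u) [Group T]
    [TopologicalSpace T] :
    @NonarchimedeanGroup T _ (TopologicalSpace.generateFrom
      {S : Set T | ∃ (Γ : OpenSubgroup T) (x y : T), S = (fun g : T => x * g * y) '' (Γ : Set T)}) := by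
  let t0 : TopologicalSpace T := inferInstance
  set B : Set (Set T) := {S : Set T | ∃ (Γ : OpenSubgroup T) (x y : T), S = (fun g : T => x * g * y) '' (Γ : Set T)}
  have hB' : ∀ (Γ : OpenSubgroup T) (x y : T), (fun g : T => x * g * y) '' (Γ : Set T) ∈ B :=
    fun Γ x y => ⟨Γ, x, y, rfl⟩
  let t : TopologicalSpace T := TopologicalSpace.generateFrom B
  have hB : ∀ (Γ : @OpenSubgroup T _ t0) (x y : T), IsOpen[t] ((fun g : T => x * g * y) '' (@SetLike.coe (@OpenSubgroup T _ t0) T _ Γ)) :=
    fun Γ x y => TopologicalSpace.GenerateOpen.basic (g := B) _ (hB' Γ x y)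
  have hL : ∀ a : T, Continuous[t, t] (fun g => a * g) := by
    intro a
    rw [continuous_generateFrom_iff]
    rintro S ⟨Γ, x, y, rfl⟩
    convert hB Γ (a⁻¹ * x) y using 1
    ext g; simp only [Set.mem_preimage, Set.mem_image]
    constructor <;> rintro ⟨γ, hγ, h⟩ <;> refine ⟨γ, hγ, ?_⟩
    · rw [mul_assoc a⁻¹, mul_assoc a⁻¹, h, inv_mul_cancel_left]
    · rw [← h]; group
  have hR : ∀ a : T, Continuous[t, t] (fun g => g * a) := by
    intro a
    rw [continuous_generateFrom_iff]
    rintro S ⟨Γ, x, y, rfl⟩
    convert hB Γ x (y * a⁻¹) using 1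
    ext g; simp only [Set.mem_preimage, Set.mem_image]
    constructor <;> rintro ⟨γ, hγ, h⟩ <;> refine ⟨γ, hγ, ?_⟩
    · rw [← mul_assoc (x * γ), h, mul_inv_cancel_right]
    · rw [← h]; group
  have hI : Continuous[t, t] (fun g : T => g⁻¹) := by
    rw [continuous_generateFrom_iff]
    rintro S ⟨Γ, x, y, rfl⟩
    convert hB Γ y⁻¹ x⁻¹ using 1
    ext g; simp only [Set.mem_preimage, Set.mem_image, SetLike.mem_coe]
    constructor <;> rintro ⟨γ, hγ, h⟩ <;> refine ⟨γ⁻¹, inv_mem hγ, ?_⟩
    · rw [← inv_inv g, ← h]; group
    · rw [← h]; group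
  -- every open set containing `1` contains an open subgroup
  have hbasis : ∀ U : Set T, IsOpen[t] U → (1:T) ∈ U →
      ∃ H : Subgroup T, IsOpen[t] (H : Set T) ∧ (H : Set T) ⊆ U := by
    intro U hU
    induction hU with
    | basic S hS =>
      intro h1
      obtain ⟨Γ, x, y, rfl⟩ := hS
      obtain ⟨γ, hγ, hxy⟩ := h1
      refine ⟨(Γ : Subgroup T).map (MulAut.conj x).toMonoidHom, ?_, ?_⟩
      · convert hB Γ x x⁻¹ using 1
        rw [Subgroup.coe_map]; rfl
      · rintro g ⟨δ, hδ, rfl⟩
        refine ⟨δ * γ, mul_mem hδ hγ, ?_⟩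
        have hy : y = γ⁻¹ * x⁻¹ := by
          rw [← mul_inv_rev]; exact (eq_inv_of_mul_eq_one_right hxy)
        simp only [hy, MulEquiv.coe_toMonoidHom, MulAut.conj_apply]; group
    | univ => exact fun _ => ⟨⊤, TopologicalSpace.GenerateOpen.univ, Set.subset_univ _⟩
    | inter U V _ _ ihU ihV =>
      intro h1
      obtain ⟨H, hH, hHU⟩ := ihU h1.1
      obtain ⟨K, hK, hKV⟩ := ihV h1.2
      exact ⟨H ⊓ K, TopologicalSpace.GenerateOpen.inter _ _ hH hK, Set.inter_subset_inter hHU hKV⟩
    | sUnion S _ ih =>
      intro h1
      obtain ⟨U, hUS, h1U⟩ := h1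
      obtain ⟨H, hH, hHU⟩ := ih U hUS h1U
      exact ⟨H, hH, hHU.trans (Set.subset_sUnion_of_mem hUS)⟩
  haveI : @IsTopologicalGroup T t _ :=
    { continuous_inv := hI
      continuous_mul := by
        rw [continuous_def]
        intro U hU
        rw [isOpen_prod_iff]
        intro a b hab
        obtain ⟨H, hH, hHU⟩ := hbasis ((fun g => a * g * b) ⁻¹' U)
          (((hR b).comp (hL a)).isOpen_preimage U hU) (by simpa using hab)
        refine ⟨_, _, (hL a⁻¹).isOpen_preimage _ hH, (hR b⁻¹).isOpen_preimage _ hH, by simp, by simp, ?_⟩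
        rintro ⟨g, h⟩ ⟨hg, hh⟩
        have := hHU (H.mul_mem hg hh)
        simpa [mul_assoc] using this }
  refine @NonarchimedeanGroup.mk T _ t inferInstance ?_
  intro U hU
  obtain ⟨V, hVU, hVo, hV1⟩ := mem_nhds_iff.1 hU
  obtain ⟨H, hH, hHV⟩ := hbasis V hVo hV1
  exact ⟨⟨H, hH⟩, hHV.trans hVU⟩

end Groth.Agent.S15832
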