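import Groth.Statements.S15833
import Groth.Agent.EtaleBase.Sections
import Mathlib.AlgebraicGeometry.Morphisms.ClosedImmersion
-- import your own Groth.Agent.* helpers here

set_option autoImplicit false
universe u
open EtBase

namespace Groth.Agent.S15833

open CategoryTheory CategoryTheory.Limits AlgebraicGeometry in
set_option backward.isDefEq.respectTransparency.types false in
/-- Let i : X₀ ⟶ X be a surjective closed immersion of schemes and f : Y ⟶ X a morphism. Then f
satisfies the valuative criterion (existence and uniqueness of a lift in every valuative square,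
over arbitrary valuation rings) if and only if its base change Y ×_X X₀ ⟶ X₀ does. (The published
statement takes X locally Noetherian and connected, X₀ the reduced closed subscheme with the same
underlying space and f étale, and combines this step with the equivalence between étale schemes over
X and over X₀ to identify the geometric coverings, i.e. the étale morphisms satisfying the valuative
criterion, of X and of X₀; the argument for this step uses only that X₀ ⟶ X is a surjective closed
immersion and that valuation rings are reduced.) -/
theorem result {X X₀ Y : Scheme.{u}} (i : X₀ ⟶ X)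
    [IsClosedImmersion i] [Surjective i] (f : Y ⟶ X) :
    ValuativeCriterion f ↔ ValuativeCriterion (pullback.snd f i) := by
  have lift : ∀ (T : Scheme.{u}) [IsReduced T] (h : T ⟶ X), ∃ h₀ : T ⟶ X₀, h₀ ≫ i = h := by
    intro T _ h
    have : IsClosedImmersion (pullback.snd i h) := MorphismProperty.pullback_snd _ _ ‹_›
    have : Surjective (pullback.snd i h) := MorphismProperty.pullback_snd _ _ ‹_›
    have := isIso_of_isClosedImmersion_of_surjective (pullback.snd i h)
    exact ⟨inv (pullback.snd i h) ≫ pullback.fst i h, by
      rw [Category.assoc, pullback.condition, IsIso.inv_hom_id_assoc]⟩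
  constructor
  · intro hf S
    let S' : ValuativeCommSq f := ⟨S.R, S.K, S.i₁ ≫ pullback.fst f i, S.i₂ ≫ i,
      ⟨by rw [Category.assoc, pullback.condition, ← Category.assoc, S.commSq.w, Category.assoc]⟩⟩
    obtain ⟨u⟩ := hf S'
    let l := u.default
    refine ⟨⟨⟨⟨pullback.lift l.l S.i₂ l.fac_right, ?_, ?_⟩⟩, fun m => ?_⟩⟩
    · apply pullback.hom_ext
      · exact (Category.assoc _ _ _).trans ((congrArg (_ ≫ ·) (pullback.lift_fst _ _ _)).trans l.fac_left)
      · exact (Category.assoc _ _ _).trans ((congrArg (_ ≫ ·) (pullback.lift_snd _ _ _)).trans S.commSq.w.symm)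
    · exact pullback.lift_snd _ _ _
    · apply CommSq.LiftStruct.ext
      apply pullback.hom_ext
      · refine (congrArg CommSq.LiftStruct.l (u.uniq ⟨m.l ≫ pullback.fst f i, ?_, ?_⟩)).trans
          (pullback.lift_fst _ _ _).symm
        · exact (Category.assoc _ _ _).symm.trans (congrArg (· ≫ pullback.fst f i) m.fac_left)
        · exact (Category.assoc _ _ _).trans ((congrArg (m.l ≫ ·) pullback.condition).trans
            ((Category.assoc _ _ _).symm.trans (congrArg (· ≫ i) m.fac_right)))
      · exact m.fac_right.trans (pullback.lift_snd _ _ _).symm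
  · intro hf S
    obtain ⟨i₂, hi₂⟩ := lift _ S.i₂
    let S' : ValuativeCommSq (pullback.snd f i) := ⟨S.R, S.K,
      pullback.lift S.i₁ (Spec.map (CommRingCat.ofHom (algebraMap S.R S.K)) ≫ i₂)
        (by rw [Category.assoc, hi₂, S.commSq.w]), i₂, ⟨pullback.lift_snd _ _ _⟩⟩
    obtain ⟨u⟩ := hf S'
    let l := u.default
    refine ⟨⟨⟨⟨l.l ≫ pullback.fst f i, ?_, ?_⟩⟩, fun m => ?_⟩⟩
    · rw [← Category.assoc, l.fac_left]; exact pullback.lift_fst _ _ _
    · rw [Category.assoc, pullback.condition, ← Category.assoc, l.fac_right, hi₂]
    · apply CommSq.LiftStruct.ext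
      have := congrArg CommSq.LiftStruct.l (u.uniq ⟨pullback.lift m.l i₂ (by rw [m.fac_right, hi₂]), by
        apply pullback.hom_ext
        · rw [Category.assoc, pullback.lift_fst]; exact (m.fac_left).trans (pullback.lift_fst _ _ _).symm
        · rw [Category.assoc, pullback.lift_snd]; exact (pullback.lift_snd _ _ _).symm,
        pullback.lift_snd _ _ _⟩)
      exact (pullback.lift_fst _ _ _).symm.trans (congrArg (· ≫ pullback.fst f i) this)

end Groth.Agent.S15833
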