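import Groth.Statements.S15835
import Mathlib
-- import your own Groth.Agent.* helpers here

set_option autoImplicit false
universe u
open SprIso

namespace Groth.Agent.S15835

/-- Over a commutative ring R of prime characteristic p, let n ≥ 1 and let p^m be the largest power of p
dividing n. The locus of n × n matrices with characteristic polynomial t^n is stable under adding a
scalar matrix a·1 with n·a = 0 exactly when a^(p^m) = 0: for X with characteristic polynomial t^n
and such an a, the matrix X + a·1 has characteristic polynomial t^n if and only if a^(p^m) = 0.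
(Stated on points with values in an arbitrary ring of characteristic p; the scheme-theoretic
assertion about the nilpotent scheme of SL_n is this statement for all such rings.) -/
theorem result (p : ℕ) [Fact p.Prime] (R : Type u) [CommRing R]
    [CharP R p] (n : ℕ) (hn : 0 < n) (X : Matrix (Fin n) (Fin n) R) (hX : X.charpoly = Polynomial.X ^ n)
    (a : R) (ha : (n : R) * a = 0) :
    (X + Matrix.scalar (Fin n) a).charpoly = Polynomial.X ^ n ↔ a ^ (p ^ padicValNat p n) = 0 := by
  classical
  haveI : Nontrivial R := CharP.nontrivial_of_char_ne_one (v := p) (Fact.out : p.Prime).ne_one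
  have hcp : (X + Matrix.scalar (Fin n) a).charpoly = (Polynomial.X - Polynomial.C a) ^ n := by
    have := Matrix.charpoly_sub_scalar X (-a)
    rw [map_neg, sub_neg_eq_add] at this
    rw [this, hX, Polynomial.pow_comp, Polynomial.X_comp, map_neg, sub_eq_add_neg]
  set q := p ^ padicValNat p n with hq
  obtain ⟨c, hc⟩ : q ∣ n := pow_padicValNat_dvd
  have hcop : ¬ p ∣ c := fun ⟨d, hd⟩ => pow_succ_padicValNat_not_dvd hn.ne'
    ⟨d, by rw [pow_succ, ← hq, mul_assoc, ← hd, ← hc]⟩
  have hexp : (Polynomial.X - Polynomial.C a) ^ n =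
      (Polynomial.X ^ q - Polynomial.C (a ^ q)) ^ c := by
    rw [hc, pow_mul, hq, sub_pow_char_pow, map_pow]
  rw [hcp, hexp]
  refine ⟨fun h => ?_, fun h => by rw [h, map_zero, sub_zero, ← pow_mul, ← hc]⟩
  have hc0 : 0 < c := Nat.pos_of_ne_zero fun h0 => by simp [h0] at hc; omega
  have hq0 : 0 < q := pow_pos (Fact.out : p.Prime).pos _
  have hcoef := congrArg (fun f : Polynomial R => f.coeff (q * (c - 1))) h
  simp only [sub_eq_add_neg, ← map_neg, add_pow, Polynomial.finsetSum_coeff] at hcoef
  rw [Finset.sum_eq_single (c - 1)] at hcoef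
  · simp only [← pow_mul, ← Polynomial.C_pow, show c - (c - 1) = 1 by omega, pow_one] at hcoef
    rw [← Polynomial.C_eq_natCast, mul_assoc, ← map_mul, Polynomial.coeff_X_pow_mul',
      if_pos le_rfl, Nat.sub_self, Polynomial.coeff_C_zero, Polynomial.coeff_X_pow,
      if_neg (by rw [hc]; intro he; have := Nat.eq_of_mul_eq_mul_left hq0 he; omega)] at hcoef
    have hu : IsUnit ((c.choose (c - 1) : ℕ) : R) := by
      rw [Nat.choose_symm (show 1 ≤ c by omega), Nat.choose_one_right]
      exact (CharP.isUnit_natCast_iff (Fact.out : p.Prime)).2 hcop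
    simpa using (hu.mul_left_eq_zero).1 hcoef
  · intro i hi hne
    rw [← pow_mul, ← Polynomial.C_pow, ← Polynomial.C_eq_natCast, mul_assoc, ← map_mul,
      Polynomial.coeff_X_pow_mul']
    split_ifs with hle
    · rw [Polynomial.coeff_C, if_neg]
      intro h0
      have : i ≤ c - 1 := Nat.le_of_mul_le_mul_left hle hq0
      have := Nat.eq_of_mul_eq_mul_left hq0 (le_antisymm (Nat.sub_eq_zero_iff_le.1 h0) hle)
      omega
    · rfl
  · intro h'
    exact absurd (Finset.mem_range.2 (by omega)) h'

end Groth.Agent.S15835
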