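import Groth.Statements.S15836
import Groth.Agent.Agf.GradedPic

set_option autoImplicit false
universe u
open SprIso

namespace Groth.Agent.S15836

/-- Let k be a field and C a closed subscheme of affine n-space over k which is stable under the scaling
action of the affine line, i.e. C = Spec A with A = k[x_1, …, x_n]/I for an ideal I generated by
homogeneous polynomials, and assume C is normal (A is an integrally closed domain). Then Pic(C) = 0:
every invertible A-module is free. -/
theorem result (k : Type u) [Field k] (n : ℕ)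
    (I : Ideal (MvPolynomial (Fin n) k))
    (hI : ∃ s : Set (MvPolynomial (Fin n) k), (∀ f ∈ s, ∃ d : ℕ, f.IsHomogeneous d) ∧ I = Ideal.span s)
    [IsDomain (MvPolynomial (Fin n) k ⧸ I)] [IsIntegrallyClosed (MvPolynomial (Fin n) k ⧸ I)]
    (M : Type u) [AddCommGroup M] [Module (MvPolynomial (Fin n) k ⧸ I) M]
    [Module.Invertible (MvPolynomial (Fin n) k ⧸ I) M] :
    Module.Free (MvPolynomial (Fin n) k ⧸ I) M := by
  obtain ⟨s, hs, rfl⟩ := hI
  let P := MvPolynomial (Fin n) k
  let J : Ideal P := Ideal.span s
  let A := P ⧸ J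
  let π : P →ₐ[k] A := Ideal.Quotient.mkₐ k J
  let t : Polynomial A := Polynomial.X
  let ψ : P →ₐ[k] Polynomial A := MvPolynomial.aeval fun v => t * Polynomial.C (π (MvPolynomial.X v))
  have hψ : ∀ f ∈ s, ψ f = 0 := fun f hf => by
    obtain ⟨d, hd⟩ := hs f hf
    show MvPolynomial.aeval (fun v => t * Polynomial.C (π (MvPolynomial.X v))) f = 0
    rw [Groth.Agf.GradedPic.aeval_smul_of_isHomogeneous t _ hd]
    have h1 : (MvPolynomial.aeval fun v => Polynomial.C (π (MvPolynomial.X v))) f = Polynomial.C (π f) := by
      show MvPolynomial.eval₂Hom _ _ f = ((Polynomial.C : A →+* Polynomial A).comp π.toRingHom) f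
      refine RingHom.congr_fun (MvPolynomial.ringHom_ext (fun c => ?_) fun v => ?_) f
      · rw [MvPolynomial.eval₂Hom_C, RingHom.comp_apply]
        show algebraMap k (Polynomial A) c = Polynomial.C (π (algebraMap k P c))
        rw [AlgHom.commutes]
        rfl
      · rw [MvPolynomial.eval₂Hom_X', RingHom.comp_apply]
        rfl
    rw [h1, show π f = 0 from Ideal.Quotient.eq_zero_iff_mem.2 (Ideal.subset_span hf), map_zero, mul_zero]
  let φ : A →+* Polynomial A := Ideal.Quotient.lift J ψ.toRingHom fun a ha =>
    (Ideal.span_le.2 hψ : J ≤ RingHom.ker ψ.toRingHom) ha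
  have he1 : ((Polynomial.evalRingHom (1 : A)).comp φ).comp (Ideal.Quotient.mk J) =
      Ideal.Quotient.mk J := by
    refine MvPolynomial.ringHom_ext (fun c => ?_) fun v => ?_
    · show (Polynomial.evalRingHom (1 : A)) (ψ (algebraMap k P c)) = Ideal.Quotient.mk J (algebraMap k P c)
      rw [AlgHom.commutes, Polynomial.coe_evalRingHom, Polynomial.algebraMap_apply, Polynomial.eval_C]
      rfl
    · show (Polynomial.evalRingHom (1 : A)) (ψ (MvPolynomial.X v)) = _
      rw [show ψ (MvPolynomial.X v) = t * Polynomial.C (π (MvPolynomial.X v)) from MvPolynomial.aeval_X _ _,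
        Polynomial.coe_evalRingHom, Polynomial.eval_mul, Polynomial.eval_X, Polynomial.eval_C, one_mul]
      rfl
  have h1 : (Polynomial.evalRingHom (1 : A)).comp φ = RingHom.id A := Ideal.Quotient.ringHom_ext he1
  have he0 : ((Polynomial.evalRingHom (0 : A)).comp φ).comp (Ideal.Quotient.mk J) =
      (algebraMap k A).comp MvPolynomial.constantCoeff := by
    refine MvPolynomial.ringHom_ext (fun c => ?_) fun v => ?_
    · show (Polynomial.evalRingHom (0 : A)) (ψ (algebraMap k P c)) = algebraMap k A (MvPolynomial.constantCoeff (MvPolynomial.C c))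
      rw [AlgHom.commutes, Polynomial.coe_evalRingHom, Polynomial.algebraMap_apply, Polynomial.eval_C,
        MvPolynomial.constantCoeff_C]
    · show (Polynomial.evalRingHom (0 : A)) (ψ (MvPolynomial.X v)) = algebraMap k A (MvPolynomial.constantCoeff (MvPolynomial.X v))
      rw [show ψ (MvPolynomial.X v) = t * Polynomial.C (π (MvPolynomial.X v)) from MvPolynomial.aeval_X _ _,
        Polynomial.coe_evalRingHom, Polynomial.eval_mul, Polynomial.eval_X, zero_mul,
        MvPolynomial.constantCoeff_X, map_zero]
  let ε : A →+* k := Ideal.Quotient.lift J MvPolynomial.constantCoeff fun a ha => by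
    refine (algebraMap k A).injective ?_
    rw [map_zero]
    refine (RingHom.congr_fun he0 a).symm.trans ?_
    rw [RingHom.comp_apply, Ideal.Quotient.eq_zero_iff_mem.2 ha, map_zero]
  have h0 : (Polynomial.evalRingHom (0 : A)).comp φ = (algebraMap k A).comp ε :=
    Ideal.Quotient.ringHom_ext (he0.trans (RingHom.ext fun _ => rfl))
  exact Groth.Agf.GradedPic.free_of_homotopy φ (algebraMap k A) ε h1 h0 M

end Groth.Agent.S15836
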