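import Groth.Statements.S15837
import Groth.Agent.Reductive.HomScheme.Apps

set_option autoImplicit false
universe u
open CategoryTheory MonoidalCategory CartesianMonoidalCategory MonObj GrpObj AlgebraicGeometry
open SprIso

namespace Groth.Agent.S15837

/-- Let S be a scheme, G an S-group scheme of finite presentation acting on an S-scheme X which is
affine and of finite presentation over S, and Y a closed subscheme of X which is finite, flat and of
finite presentation over S. Then the functorial stabilizer of Y in G — whose points with values in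
an S-scheme T are the points g of G such that g acts as the identity on every point of Y with values
in a scheme over T — is represented by a closed subscheme of G whose inclusion is of finite
presentation. -/
theorem result (S : Scheme.{u}) (G X Y : Over S) [GrpObj G]
    [LocallyOfFinitePresentation G.hom] [QuasiCompact G.hom] [QuasiSeparated G.hom]
    [IsAffineHom X.hom] [LocallyOfFinitePresentation X.hom] (a : AlgGrp.Action G X)
    (i : Y ⟶ X) [IsClosedImmersion i.left] [IsFinite Y.hom] [Flat Y.hom] [LocallyOfFinitePresentation Y.hom] :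
    ∃ (Z : Over S) (j : Z ⟶ G), IsClosedImmersion j.left ∧ LocallyOfFinitePresentation j.left ∧
      ∀ (T : Over S) (g : T ⟶ G), (∃ z : T ⟶ Z, z ≫ j = g) ↔
        ∀ (T' : Over S) (t : T' ⟶ T) (y : T' ⟶ Y), lift (t ≫ g) (y ≫ i) ≫ a.act = y ≫ i := by
  obtain ⟨M, ev, hMa, hM, -, hMp⟩ := Groth.Reductive.HomScheme.exists_homScheme Y X
  have := hMa
  have := hMp inferInstance
  obtain ⟨α, hα, -⟩ := hM G (lift (snd Y G) (fst Y G ≫ i) ≫ a.act)
  obtain ⟨β, hβ, -⟩ := hM G (fst Y G ≫ i)
  obtain ⟨A, ι₀, hci, hlfp, -, huniv⟩ := Groth.Reductive.HomScheme.exists_equalizer α β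
  refine ⟨A, ι₀, hci, hlfp inferInstance, fun T g => (huniv T g).trans ?_⟩
  have eα : (Y ◁ (g ≫ α)) ≫ ev = lift (snd Y T ≫ g) (fst Y T ≫ i) ≫ a.act := by
    rw [whiskerLeft_comp, Category.assoc, hα, comp_lift_assoc, whiskerLeft_snd,
      whiskerLeft_fst_assoc]
  have eβ : (Y ◁ (g ≫ β)) ≫ ev = fst Y T ≫ i := by
    rw [whiskerLeft_comp, Category.assoc, hβ, whiskerLeft_fst_assoc]
  constructor
  · intro h T' t y
    have h1 : lift (snd Y T ≫ g) (fst Y T ≫ i) ≫ a.act = fst Y T ≫ i := by rw [← eα, h, eβ]
    have h2 := lift y t ≫= h1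
    rwa [comp_lift_assoc, lift_snd_assoc, lift_fst_assoc] at h2
  · intro h
    exact Groth.Reductive.HomScheme.IsHomScheme.ext hM
      (eα.trans ((h (Y ⊗ T) (snd Y T) (fst Y T)).trans eβ.symm))

end Groth.Agent.S15837
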