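import Groth.Statements.S15838
import Mathlib
-- import your own Groth.Agent.* helpers here

set_option autoImplicit false
universe u
open scoped TensorProduct
open SprIso

namespace Groth.Agent.S15838

open scoped TensorProduct

private theorem mem_adjoin_of_decomp {k : Type u} [Field k] [PerfectField k] {V : Type u}
    [AddCommGroup V] [Module k V] [FiniteDimensional k V] {X Y N : Module.End k V}
    (hY : Y.IsSemisimple) (hN : IsNilpotent N) (hc : Commute Y N) (hX : X = Y + N) :
    Y ∈ Algebra.adjoin k {X} ∧ N ∈ Algebra.adjoin k {X} := by
  obtain ⟨n, hn, s, hs, hnn, hss, hns⟩ := X.exists_isNilpotent_isSemisimple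
  have hcomm : Commute n s := by
    have h1 : Commute n X := Algebra.commute_of_mem_adjoin_singleton_of_commute hn (Commute.refl X) |>.symm
    have h2 : Commute s X := Algebra.commute_of_mem_adjoin_singleton_of_commute hs (Commute.refl X) |>.symm
    exact (Algebra.commute_of_mem_adjoin_singleton_of_commute hs h1)
  obtain ⟨rfl, rfl⟩ := Module.End.isNilpotent_isSemisimple_unique hN hY hnn hss hc.symm hcomm
    (by rw [← hns, hX, add_comm])
  exact ⟨hs, hn⟩

private theorem commute_baseChange {k : Type u} [Field k] {V : Type u}
    [AddCommGroup V] [Module k V] {R : Type u} [CommRing R] [Algebra k R]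
    {X Y : Module.End k V} (hY : Y ∈ Algebra.adjoin k {X}) {h : Module.End R (R ⊗[k] V)}
    (hh : Commute h (X.baseChange R)) : Commute h (Y.baseChange R) := by
  refine Algebra.commute_of_mem_adjoin_singleton_of_commute (R := k) ?_ hh
  have : Module.End.baseChangeHom k R V Y ∈
      (Algebra.adjoin k {X}).map (Module.End.baseChangeHom k R V) :=
    Subalgebra.mem_map.2 ⟨Y, hY, rfl⟩
  rwa [AlgHom.map_adjoin_singleton] at this


/-- General linear group case: this is the case G = GL(V), to which the general case reduces along a
closed embedding. Let k be a perfect field and V a finite-dimensional k-vector space. If an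
invertible endomorphism g of V has multiplicative Jordan decomposition g = t u (t semisimple, u
unipotent, t and u commuting), then the scheme-theoretic centralizer of g in GL(V) is the
centralizer of u inside the centralizer of t: for every commutative k-algebra R, an R-linear
endomorphism h of R ⊗ V commutes with g_R if and only if it commutes with both t_R and u_R.
Likewise, if an endomorphism X of V has additive Jordan decomposition X = Y + N (Y semisimple, N
nilpotent, commuting), then h commutes with X_R if and only if it commutes with both Y_R and N_R. -/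
theorem result (k : Type u) [Field k] [PerfectField k]
    (V : Type u) [AddCommGroup V] [Module k V] [FiniteDimensional k V]
    (R : Type u) [CommRing R] [Algebra k R] (h : Module.End R (R ⊗[k] V)) :
    (∀ (g t u : Module.End k V), IsUnit g → t.IsSemisimple → IsNilpotent (u - 1) → Commute t u → g = t * u →
      (Commute h (g.baseChange R) ↔ Commute h (t.baseChange R) ∧ Commute h (u.baseChange R))) ∧
    (∀ (X Y N : Module.End k V), Y.IsSemisimple → IsNilpotent N → Commute Y N → X = Y + N →
      (Commute h (X.baseChange R) ↔ Commute h (Y.baseChange R) ∧ Commute h (N.baseChange R))) := by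
  refine ⟨fun g t u hg ht hu htu hgtu => ⟨fun hh => ?_, fun ⟨h1, h2⟩ => ?_⟩,
    fun X Y N hY hN hc hX => ⟨fun hh => ?_, fun ⟨h1, h2⟩ => ?_⟩⟩
  · have hc1 : Commute t (u - 1) := htu.sub_right (Commute.one_right t)
    obtain ⟨hm, -⟩ := mem_adjoin_of_decomp (X := g) ht ((hc1).isNilpotent_mul_left hu)
      ((Commute.refl t).mul_right hc1) (by rw [hgtu, mul_sub, mul_one, add_sub_cancel])
    have h1 := commute_baseChange hm hh
    have hut : IsUnit t := by
      have hcg : g = u * t := hgtu.trans htu.eq
      exact isUnit_of_mul_isUnit_right (hcg ▸ hg)
    refine ⟨h1, ?_⟩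
    have hu' : IsUnit (t.baseChange R) := hut.map (Module.End.baseChangeHom k R V)
    have h3 : g.baseChange R = t.baseChange R * u.baseChange R := by
      rw [hgtu, LinearMap.baseChange_mul]
    refine hu'.mul_left_cancel ?_
    rw [← mul_assoc, ← h1.eq, mul_assoc, ← mul_assoc (t.baseChange R) (u.baseChange R), ← h3, ← hh.eq, h3]
  · rw [hgtu, LinearMap.baseChange_mul]
    exact h1.mul_right h2
  · obtain ⟨h1, h2⟩ := mem_adjoin_of_decomp hY hN hc hX
    exact ⟨commute_baseChange h1 hh, commute_baseChange h2 hh⟩
  · rw [hX, LinearMap.baseChange_add]
    exact h1.add_right h2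

end Groth.Agent.S15838
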