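import Groth.Statements.S15839
import Groth.Agent.S4599
import Groth.Agent.AlgGrp1.Sub

set_option autoImplicit false
universe u
open CategoryTheory MonoidalCategory CartesianMonoidalCategory MonObj GrpObj AlgebraicGeometry
open SprIso CategoryTheory.Limits

namespace Groth.Agent.S15839

/-- Let S be a scheme, G an S-group scheme which is affine and of finite presentation over S, and g a
section of G over S. Then the centralizer of g — the subfunctor of G whose points with values in an
S-scheme T are the points x of G with x g_T = g_T x — is represented by a closed subscheme of G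
whose inclusion is of finite presentation. -/
theorem result (S : Scheme.{u}) (G : Over S) [GrpObj G]
    [IsAffineHom G.hom] [LocallyOfFinitePresentation G.hom] (g : 𝟙_ (Over S) ⟶ G) :
    ∃ (Z : Over S) (j : Z ⟶ G), IsClosedImmersion j.left ∧ LocallyOfFinitePresentation j.left ∧
      ∀ (T : Over S) (x : T ⟶ G), (∃ z : T ⟶ Z, z ≫ j = x) ↔
        x * (toUnit T ≫ g) = (toUnit T ≫ g) * x := by
  have : IsSeparated G.hom := inferInstance
  let f : G ⟶ G := 𝟙 G * (toUnit G ≫ g)
  let f' : G ⟶ G := (toUnit G ≫ g) * 𝟙 G
  let d : G ⟶ G ⊗ G := lift (𝟙 G) (𝟙 G)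
  have : LocallyOfFinitePresentation d.left := Groth.Agent.S4599.result G.hom
  have : IsClosedImmersion d.left :=
    inferInstanceAs (IsClosedImmersion (pullback.diagonal G.hom))
  obtain ⟨Z, j, hj, hZ⟩ : ∃ (Z : Over S) (c : Z ⟶ G), (IsClosedImmersion c.left ∧ LocallyOfFinitePresentation c.left) ∧
      ∀ (W : Over S) (x : W ⟶ G), (∃ z : W ⟶ Z, z ≫ c = x) ↔ x ≫ f = x ≫ f' := by
    let P := pullback (lift f f').left d.left
    let c : Over.mk (pullback.fst (lift f f').left d.left ≫ G.hom) ⟶ G := Over.homMk (pullback.fst (lift f f').left d.left) rfl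
    let e : Over.mk (pullback.fst (lift f f').left d.left ≫ G.hom) ⟶ G := Over.homMk (pullback.snd (lift f f').left d.left) (by
      show pullback.snd (lift f f').left d.left ≫ G.hom = pullback.fst (lift f f').left d.left ≫ G.hom
      exact (congrArg (pullback.snd _ _ ≫ ·) (Over.w d)).symm.trans ((pullback.condition_assoc _).symm.trans (congrArg (pullback.fst _ _ ≫ ·) (Over.w (lift f f')))))
    have hc : c ≫ lift f f' = e ≫ d := Over.OverMorphism.ext pullback.condition
    refine ⟨_, c, ⟨inferInstanceAs (IsClosedImmersion (pullback.fst (lift f f').left d.left)),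
      inferInstanceAs (LocallyOfFinitePresentation (pullback.fst (lift f f').left d.left))⟩, fun W x => ⟨?_, fun h => ?_⟩⟩
    · rintro ⟨z, rfl⟩
      have h1 := congrArg (fun r => z ≫ r ≫ fst G G) hc
      have h2 := congrArg (fun r => z ≫ r ≫ snd G G) hc
      simp only [d, Category.assoc, lift_fst, lift_snd] at h1 h2
      rw [Category.assoc, Category.assoc, h1, h2]
    · refine ⟨Over.homMk (pullback.lift x.left (x ≫ f).left ?_) ?_, Over.OverMorphism.ext (pullback.lift_fst _ _ _)⟩
      · rw [← Over.comp_left, ← Over.comp_left]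
        congr 1
        simp [d, comp_lift, h]
      · show pullback.lift _ _ _ ≫ pullback.fst _ _ ≫ G.hom = W.hom
        rw [pullback.lift_fst_assoc, Over.w x]
  refine ⟨Z, j, hj.1, hj.2, fun T x => (hZ T x).trans ?_⟩
  simp only [f, f', MonObj.comp_mul, Category.comp_id, ← Category.assoc, toUnit_unique (x ≫ toUnit G) (toUnit T)]

end Groth.Agent.S15839
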