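import Groth.Statements.S15841
import Mathlib.Tactic.Abel
import Mathlib.Tactic.Ring

set_option autoImplicit false
universe u
open scoped TensorProduct
open SprIso

namespace Groth.Agent.S15841

open scoped TensorProduct Classical in
theorem coxeter_aux {ι M N : Type u} [AddCommGroup M] [AddCommGroup N] (P : RootPairing ι ℤ M N)
    (k : Type u) [Field k] (ω : ι → M) (H : k ⊗[ℤ] N) :
    ∀ L : List ι, L.Nodup → (∀ i ∈ L, ∀ j ∈ L, P.coroot' j (ω i) = if j = i then 1 else 0) →
      (∀ i ∈ L, (P.toLinearMap (ω i) : N →ₗ[ℤ] ℤ).baseChange k (((L.map fun i => ((P.coreflection i : N ≃ₗ[ℤ] N) : N →ₗ[ℤ] N)).prod).baseChange k H - H) = 0) →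
      ((L.map fun i => ((P.coreflection i : N ≃ₗ[ℤ] N) : N →ₗ[ℤ] N)).prod).baseChange k H = H ∧
        ∀ i ∈ L, (P.root' i).baseChange k H = 0 := by
  classical
  have key : ∀ (φ : N →ₗ[ℤ] ℤ) (a : ι) (y : k ⊗[ℤ] N),
      φ.baseChange k ((((P.coreflection a : N ≃ₗ[ℤ] N) : N →ₗ[ℤ] N)).baseChange k y) =
        φ.baseChange k y - φ (P.coroot a) • (P.root' a).baseChange k y := by
    intro φ a y
    induction y using TensorProduct.induction_on with
    | zero => simp
    | tmul c n =>
      simp [RootPairing.coreflection_apply, TensorProduct.tmul_sub, ← TensorProduct.tmul_smul, mul_comm]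
    | add u v hu hv => simp only [map_add, hu, hv, smul_add]; abel
  have key' : ∀ (a : ι) (y : k ⊗[ℤ] N), (P.root' a).baseChange k y = 0 →
      (((P.coreflection a : N ≃ₗ[ℤ] N) : N →ₗ[ℤ] N)).baseChange k y = y := by
    intro a y hy
    have : (((P.coreflection a : N ≃ₗ[ℤ] N) : N →ₗ[ℤ] N)).baseChange k y =
        y - (LinearMap.toSpanSingleton ℤ N (P.coroot a)).baseChange k ((P.root' a).baseChange k y) := by
      clear hy
      induction y using TensorProduct.induction_on with
      | zero => simp
      | tmul c n => simp [RootPairing.coreflection_apply, TensorProduct.tmul_sub]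
      | add u v hu hv => simp only [map_add, hu, hv]; abel
    rw [this, hy, map_zero, sub_zero]
  intro L
  induction L with
  | nil => exact fun _ _ _ => ⟨by simp [Module.End.one_eq_id], by simp⟩
  | cons a L ih =>
    intro hnd hω h
    obtain ⟨haL, hnd'⟩ := List.nodup_cons.1 hnd
    simp only [List.map_cons, List.prod_cons, Module.End.mul_eq_comp, LinearMap.baseChange_comp, LinearMap.comp_apply] at h ⊢
    have hφ : ∀ i ∈ a :: L, ∀ j ∈ a :: L, P.toLinearMap (ω i) (P.coroot j) = if j = i then 1 else 0 := hω
    obtain ⟨hfix, hroot⟩ := ih hnd' (fun i hi j hj => hω i (List.mem_cons_of_mem _ hi) j (List.mem_cons_of_mem _ hj)) fun i hi => by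
      have := h i (List.mem_cons_of_mem _ hi)
      rw [map_sub, key, hφ i (List.mem_cons_of_mem _ hi) a List.mem_cons_self,
        if_neg (fun hh : a = i => haL (hh ▸ hi)), zero_smul, sub_zero] at this
      rw [map_sub]; exact this
    rw [hfix] at h ⊢
    have h0 := h a List.mem_cons_self
    rw [map_sub, key, hφ a List.mem_cons_self a List.mem_cons_self, if_pos rfl, one_smul, sub_sub_cancel_left, neg_eq_zero] at h0
    exact ⟨key' a H h0, List.forall_mem_cons.2 ⟨h0, hroot⟩⟩

/-- For a connected reductive group G with maximal torus T whose derived group is simply connected, and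
a Coxeter element w (the product of the simple reflections, each once, in any order), an element of
Lie T = k ⊗ X_*(T) fixed by Ad(w) is killed by the differential of every simple root, i.e. lies in
the centre of Lie G. In root-datum form: let P be a root pairing over ℤ with character lattice M and
cocharacter lattice N, b a base, and suppose each simple coroot has a dual character ω_i in M with
⟨ω_i, α_i^∨⟩ = 1 and ⟨ω_i, α_j^∨⟩ = 0 for every other simple j (the simply connected derived group
hypothesis). If l lists the simple roots without repetition, w^∨ is the composite of the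
coreflections along l acting on N, k is a field and H in k ⊗ N satisfies w^∨_k H = H, then (α_i)_k H
= 0 for every simple root α_i, where (α_i)_k is the base change to k of the functional ⟨α_i, −⟩ on
N. (Stated for an arbitrary field k; the published setting is an algebraically closed field, and the
argument does not depend on k.) -/
theorem result {ι M N : Type u} [AddCommGroup M] [AddCommGroup N]
    (P : RootPairing ι ℤ M N) (b : P.Base)
    (hsc : ∀ i ∈ b.support, ∃ ω : M, P.coroot' i ω = 1 ∧ ∀ j ∈ b.support, j ≠ i → P.coroot' j ω = 0)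
    (l : List ι) (hl : l.Nodup) (hlb : ∀ i : ι, i ∈ l ↔ i ∈ b.support)
    (k : Type u) [Field k] (H : k ⊗[ℤ] N)
    (hH : ((l.map (fun i => ((P.coreflection i : N ≃ₗ[ℤ] N) : N →ₗ[ℤ] N))).prod).baseChange k H = H) :
    ∀ i ∈ b.support, (P.root' i).baseChange k H = 0 := by
  classical
  choose ω hω₁ hω₂ using hsc
  let w : ι → M := fun i => if h : i ∈ b.support then ω i h else 0
  have := (coxeter_aux P k w H l hl (fun i hi j hj => ?_) (fun i _ => by rw [hH, sub_self, map_zero])).2
  · exact fun i hi => this i ((hlb i).2 hi)
  · have hi' := (hlb i).1 hi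
    have hj' := (hlb j).1 hj
    simp only [w, dif_pos hi']
    split_ifs with h
    · rw [h]; exact hω₁ i hi'
    · exact hω₂ i hi' j hj' h

end Groth.Agent.S15841
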