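import Groth.Statements.S15843
import Mathlib
import Groth.Agent.Calg7.RegularMatrix
-- import your own Groth.Agent.* helpers here

set_option autoImplicit false
universe u
open SprIso

namespace Groth.Agent.S15843

open Matrix

private theorem det_sq_smul {B : Type u} [CommRing B] {n : ℕ} (g X : Matrix (Fin n) (Fin n) B)
    (v : Fin n → B) (hX : X * g = g * X) :
    (Matrix.of fun r (j : Fin n) => (g ^ (j : ℕ)).mulVec v r).det ^ 2 • X =
      ∑ j : Fin n, ((Matrix.of fun r (j : Fin n) => (g ^ (j : ℕ)).mulVec v r).det *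
        (Matrix.of fun r (j : Fin n) => (g ^ (j : ℕ)).mulVec v r).adjugate.mulVec (X.mulVec v) j) •
          g ^ (j : ℕ) := by
  set M := Matrix.of fun r (j : Fin n) => (g ^ (j : ℕ)).mulVec v r with hM
  set c := M.adjugate.mulVec (X.mulVec v) with hc
  have hcol : ∀ c : Fin n → B, M.mulVec c = ∑ j : Fin n, c j • (g ^ (j : ℕ)).mulVec v := fun c => by
    ext a
    simp [hM, Matrix.mulVec, dotProduct, mul_comm]
  set D := M.det • X - ∑ j : Fin n, c j • g ^ (j : ℕ) with hD
  have hDg : Commute D g :=
    (Commute.smul_left hX M.det).sub_left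
      (Commute.sum_left _ _ _ fun j _ => ((Commute.refl g).pow_left _).smul_left _)
  have hDv : D.mulVec v = 0 := by
    rw [hD, Matrix.sub_mulVec, Matrix.smul_mulVec, Matrix.sum_mulVec]
    simp only [Matrix.smul_mulVec]
    rw [← hcol, hc, Matrix.mulVec_mulVec, Matrix.mul_adjugate, Matrix.smul_mulVec,
      Matrix.one_mulVec, sub_self]
  have hDM : D * M = 0 := by
    ext a j
    have : D.mulVec ((g ^ (j : ℕ)).mulVec v) = 0 := by
      rw [Matrix.mulVec_mulVec, (hDg.pow_right _).eq, ← Matrix.mulVec_mulVec, hDv,
        Matrix.mulVec_zero]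
    exact congrFun this a
  have h0 := congrArg (· * M.adjugate) hDM
  simp only [Matrix.mul_assoc, Matrix.mul_adjugate, Matrix.mul_smul, mul_one, Matrix.zero_mul] at h0
  rw [hD, smul_sub, sub_eq_zero, smul_smul, ← sq, Finset.smul_sum] at h0
  rw [h0]
  exact Finset.sum_congr rfl fun j _ => smul_smul _ _ _


/-- The flatness assertion, for a section of the group and equally for a section of its Lie algebra, in
the case G = GL_n (its derived group SL_n is simply connected and every prime is good for it, so the
hypotheses on the fundamental group and on the characteristic that the general statement needs hold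
over every base, and strong regularity is regularity). Let A be a commutative ring and g an n × n
matrix over A — a section of GL_n when invertible, of its Lie algebra gl_n in general; in both cases
the centralizer in GL_n is the scheme of invertible matrices commuting with g — which is fiberwise
regular (at every field-valued point A → K the commutant of g_K in M_n(K) has dimension n). Then the
centralizer Z_{GL_n}(g) is flat over A; concretely, with X the generic n × n matrix over A[x_ij],
the ring obtained from A[x_ij] by dividing by the entries of X g − g X and inverting det X is a flat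
A-module. -/
theorem result (A : Type u) [CommRing A] (n : ℕ)
    (g : Matrix (Fin n) (Fin n) A)
    (hreg : ∀ (K : Type u) [Field K] (φ : A →+* K),
      Module.finrank K (Subalgebra.centralizer K ({g.map φ} : Set (Matrix (Fin n) (Fin n) K))) = n) :
    Module.Flat A (Localization.Away
      (Ideal.Quotient.mk (Ideal.span (Set.range fun ij : Fin n × Fin n =>
        (Matrix.mvPolynomialX (Fin n) (Fin n) A * g.map MvPolynomial.C -
          g.map MvPolynomial.C * Matrix.mvPolynomialX (Fin n) (Fin n) A :
            Matrix (Fin n) (Fin n) (MvPolynomial (Fin n × Fin n) A)) ij.1 ij.2))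
        (Matrix.mvPolynomialX (Fin n) (Fin n) A).det)) := by
  classical
  let d : (Fin n → A) → A := fun v => (Matrix.of fun r (j : Fin n) => (g ^ (j : ℕ)).mulVec v r).det
  have htop : Ideal.span (Set.range fun v => d v ^ 2) = ⊤ := by
    by_contra hne
    obtain ⟨m, hm, hle⟩ := Ideal.exists_le_maximal _ hne
    obtain ⟨v, hv⟩ := Groth.Calg7.RegularMatrix.exists_det_not_mem g hreg m
    exact hv (hm.isPrime.mem_of_pow_mem 2 (hle (Ideal.subset_span ⟨v, rfl⟩)))
  obtain ⟨a, ha⟩ := (Finsupp.mem_ideal_span_range_iff_exists_finsupp).1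
    (htop ▸ Submodule.mem_top : (1 : A) ∈ Ideal.span (Set.range fun v => d v ^ 2))
  let gP := g.map (MvPolynomial.C : A →+* MvPolynomial (Fin n × Fin n) A)
  let Xg : Matrix (Fin n) (Fin n) (MvPolynomial (Fin n × Fin n) A) :=
    Matrix.mvPolynomialX (Fin n) (Fin n) A
  let I : Ideal (MvPolynomial (Fin n × Fin n) A) :=
    Ideal.span (Set.range fun ij : Fin n × Fin n => (Xg * gP - gP * Xg) ij.1 ij.2)
  let C := MvPolynomial (Fin n × Fin n) A ⧸ I
  let P := MvPolynomial (↥a.support × Fin n) A
  let g' : Matrix (Fin n) (Fin n) P := g.map (algebraMap A P)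
  let Y : Matrix (Fin n) (Fin n) P := ∑ q : ↥a.support × Fin n, (MvPolynomial.X q : P) • g' ^ (q.2 : ℕ)
  let φ₀ : MvPolynomial (Fin n × Fin n) A →ₐ[A] P := MvPolynomial.aeval fun ij => Y ij.1 ij.2
  have hφX : Xg.map φ₀ = Y := by
    ext i j
    simp [Xg, φ₀]
  have hφg : gP.map φ₀ = g' := by
    ext i j
    simp [gP, g', φ₀]
  have hYg : Y * g' = g' * Y :=
    (Commute.sum_left _ _ _ fun q _ => ((Commute.refl g').pow_left _).smul_left _).eq
  let φ : C →ₐ[A] P := Ideal.Quotient.liftₐ I φ₀ fun x hx => by
    have hle : I ≤ RingHom.ker φ₀ := Ideal.span_le.2 (by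
      rintro _ ⟨ij, rfl⟩
      show φ₀ ((Xg * gP - gP * Xg) ij.1 ij.2) = 0
      rw [← Matrix.map_apply (f := φ₀), Matrix.map_sub _ (map_sub φ₀), Matrix.map_mul,
        Matrix.map_mul, hφX, hφg, hYg, sub_self]
      rfl)
    exact hle hx
  let π : MvPolynomial (Fin n × Fin n) A →ₐ[A] C := Ideal.Quotient.mkₐ A I
  let Xc : Matrix (Fin n) (Fin n) C := Xg.map π
  let gc : Matrix (Fin n) (Fin n) C := g.map (algebraMap A C)
  have hgc : gP.map π = gc := by
    ext i j
    simp only [gP, gc, π, Matrix.map_apply]
    rw [← MvPolynomial.algebraMap_eq, AlgHom.commutes]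
  have hXc : Xc * gc = gc * Xc := by
    rw [← sub_eq_zero, ← hgc, ← Matrix.map_mul, ← Matrix.map_mul, ← Matrix.map_sub _ (map_sub π)]
    ext i j
    exact Ideal.Quotient.eq_zero_iff_mem.2 (Ideal.subset_span ⟨(i, j), rfl⟩)
  let M : (Fin n → A) → Matrix (Fin n) (Fin n) C := fun v =>
    Matrix.of fun r (j : Fin n) => (gc ^ (j : ℕ)).mulVec (algebraMap A C ∘ v) r
  have hdM : ∀ v, (M v).det = algebraMap A C (d v) := by
    intro v
    show (Matrix.of fun r (j : Fin n) => (gc ^ (j : ℕ)).mulVec (algebraMap A C ∘ v) r).det = _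
    rw [RingHom.map_det]
    congr 1
    ext r j
    rw [Matrix.of_apply, RingHom.mapMatrix_apply, Matrix.map_apply, Matrix.of_apply,
      RingHom.map_mulVec, ← RingHom.mapMatrix_apply, map_pow]
    rfl
  let ψ : P →ₐ[A] C := MvPolynomial.aeval fun q => algebraMap A C (a q.1.1) *
    ((M q.1.1).det * (M q.1.1).adjugate.mulVec (Xc.mulVec (algebraMap A C ∘ q.1.1)) q.2)
  have hψg : g'.map ψ = gc := by
    ext i j
    simp only [g', gc, Matrix.map_apply, AlgHom.commutes]
  have hψY : Y.map ψ = Xc := by
    have h1 : Y.map ψ = ∑ q : ↥a.support × Fin n, ψ (MvPolynomial.X q) • gc ^ (q.2 : ℕ) := by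
      rw [← AlgHom.mapMatrix_apply, map_sum]
      refine Finset.sum_congr rfl fun q _ => ?_
      have hpow : (g' ^ (q.2 : ℕ)).map ψ = gc ^ (q.2 : ℕ) := by
        rw [← AlgHom.mapMatrix_apply, map_pow, AlgHom.mapMatrix_apply, hψg]
      rw [← hpow]
      ext i j
      simp only [AlgHom.mapMatrix_apply, Matrix.map_apply, Matrix.smul_apply, smul_eq_mul, map_mul]
    rw [h1, Fintype.sum_prod_type]
    calc ∑ v : a.support, ∑ j : Fin n, ψ (MvPolynomial.X (v, j)) • gc ^ (j : ℕ)
        = ∑ v : a.support, algebraMap A C (a v.1) • ((M v.1).det ^ 2 • Xc) := by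
          refine Finset.sum_congr rfl fun v _ => ?_
          rw [det_sq_smul gc Xc _ hXc, Finset.smul_sum]
          refine Finset.sum_congr rfl fun j _ => ?_
          rw [MvPolynomial.aeval_X, smul_smul]
      _ = algebraMap A C (∑ v : a.support, a v.1 * d v.1 ^ 2) • Xc := by
          simp [map_sum, Finset.sum_smul, hdM, smul_smul]
      _ = Xc := by
          rw [Finset.sum_coe_sort a.support fun v => a v * d v ^ 2]
          rw [Finsupp.sum] at ha
          rw [ha, map_one, one_smul]
  have hret : ψ.toLinearMap ∘ₗ φ.toLinearMap = LinearMap.id := by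
    suffices h : ψ.comp φ = AlgHom.id A C from LinearMap.ext fun x => AlgHom.congr_fun h x
    refine Ideal.Quotient.algHom_ext A (MvPolynomial.algHom_ext fun ij => ?_)
    have := congrFun (congrFun hψY ij.1) ij.2
    simp only [Xc, Matrix.map_apply] at this
    show ψ (φ₀ (MvPolynomial.X ij)) = π (MvPolynomial.X ij)
    rw [MvPolynomial.aeval_X, this]
    simp [Xg]
  haveI : Module.Flat A C := Module.Flat.of_retract φ.toLinearMap ψ.toLinearMap hret
  haveI : Module.Flat C (Localization.Away (Ideal.Quotient.mk I Xg.det)) :=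
    IsLocalization.flat _ (Submonoid.powers (Ideal.Quotient.mk I Xg.det))
  exact Module.Flat.trans A C _

end Groth.Agent.S15843
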