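import Groth.Statements.S15845
import Mathlib.Data.Fintype.Fin
import Mathlib.Algebra.BigOperators.Fin
import Mathlib.Algebra.Algebra.Defs
-- import your own Groth.Agent.* helpers here

set_option autoImplicit false
universe u
open SprIso

namespace Groth.Agent.S15845

/-- General linear group case: this is the case G = GL_n with its upper-triangular Borel subgroup B
(derived group SL_n simply connected, all primes good, so the hypotheses on the characteristic
hold), together with the companion statement for a regular nilpotent element of Lie B. Let k be a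
field and u an n × n upper-triangular matrix over k whose diagonal entries are all equal and whose
superdiagonal entries u_{i,i+1} are all non-zero — for diagonal 1 this is a regular unipotent
element of B(k), for diagonal 0 a regular nilpotent element of Lie B. Then the centralizer of u in
GL_n is contained in B and is the product of the centre with the centralizer in the unipotent
radical: for every commutative k-algebra R and every invertible x ∈ M_n(R) commuting with u_R, x is
upper triangular and its diagonal entries are all equal. (The smoothness of the centralizer in the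
unipotent radical, also part of the published statement, is not stated here.) -/
theorem result (k : Type u) [Field k] (n : ℕ)
    (u : Matrix (Fin n) (Fin n) k) (htri : ∀ i j : Fin n, j < i → u i j = 0) (hdiag : ∀ i j : Fin n, u i i = u j j)
    (hreg : ∀ (i j : Fin n), j.val = i.val + 1 → u i j ≠ 0)
    (R : Type u) [CommRing R] [Algebra k R] (x : Matrix (Fin n) (Fin n) R) (hx : IsUnit x)
    (hxu : x * u.map (algebraMap k R) = u.map (algebraMap k R) * x) :
    (∀ i j : Fin n, j < i → x i j = 0) ∧ (∀ i j : Fin n, x i i = x j j) := by
  classical
  let v : Fin n → Fin n → R := fun i j => algebraMap k R (u i j)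
  have hv0 : ∀ i j, j < i → v i j = 0 := fun i j h => by simp [v, htri i j h]
  have hvd : ∀ i j, v i i = v j j := fun i j => by simp only [v, hdiag i j]
  have heq : ∀ i j, ∑ l ∈ Finset.Iio j, x i l * v l j = ∑ l ∈ Finset.Ioi i, v i l * x l j := by
    intro i j
    have h : ∑ l, x i l * v l j = ∑ l, v i l * x l j := congrFun (congrFun hxu i) j
    have h1 : ∑ l, x i l * v l j = ∑ l ∈ Finset.Iio j, x i l * v l j + x i j * v j j := by
      rw [← Finset.add_sum_erase _ _ (Finset.mem_univ j), add_comm]
      refine congrArg (· + _) (Finset.sum_subset (fun l hl => ?_) fun l hl hl' => ?_).symm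
      · exact Finset.mem_erase.2 ⟨(Finset.mem_Iio.1 hl).ne, Finset.mem_univ _⟩
      · rw [Finset.mem_Iio, not_lt] at hl'
        rw [hv0 l j (lt_of_le_of_ne hl' (Finset.ne_of_mem_erase hl).symm), mul_zero]
    have h2 : ∑ l, v i l * x l j = ∑ l ∈ Finset.Ioi i, v i l * x l j + v i i * x i j := by
      rw [← Finset.add_sum_erase _ _ (Finset.mem_univ i), add_comm]
      refine congrArg (· + _) (Finset.sum_subset (fun l hl => ?_) fun l hl hl' => ?_).symm
      · exact Finset.mem_erase.2 ⟨(Finset.mem_Ioi.1 hl).ne', Finset.mem_univ _⟩
      · rw [Finset.mem_Ioi, not_lt] at hl'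
        rw [hv0 i l (lt_of_le_of_ne hl' (Finset.ne_of_mem_erase hl)), zero_mul]
    rw [h1, h2, hvd i j, mul_comm (x i j)] at h
    exact add_right_cancel h
  have hunit : ∀ i j : Fin n, j.val = i.val + 1 → IsUnit (v i j) := fun i j h =>
    (isUnit_iff_ne_zero.2 (hreg i j h)).map (algebraMap k R)
  have hlow : ∀ J : ℕ, ∀ d : ℕ, ∀ i j : Fin n, j.val = J → n - i.val = d → j < i → x i j = 0 := by
    intro J
    induction J using Nat.strong_induction_on with
    | _ J ihJ =>
      intro d
      induction d using Nat.strong_induction_on with
      | _ d ihd =>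
        intro i j hJ hd hji
        have hji' := Fin.lt_def.1 hji
        let i' : Fin n := ⟨i.val - 1, by omega⟩
        have hi' : i.val = i'.val + 1 := by simp only [i']; omega
        have h := heq i' j
        rw [Finset.sum_eq_zero (fun l hl => ?_), Finset.sum_eq_single i] at h
        · exact (hunit i' i hi').mul_right_eq_zero.1 h.symm
        · intro l hl hne
          have hl' := Fin.lt_def.1 (Finset.mem_Ioi.1 hl)
          have hne' : l.val ≠ i.val := fun he => hne (Fin.ext he)
          rw [ihd (n - l.val) (by omega) l j hJ rfl (Fin.lt_def.2 (by omega)), mul_zero]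
        · intro hi
          exact absurd (Finset.mem_Ioi.2 (Fin.lt_def.2 (by omega))) hi
        · have hl' := Fin.lt_def.1 (Finset.mem_Iio.1 hl)
          rw [ihJ l.val (by omega) _ i' l rfl rfl (Fin.lt_def.2 (by omega)), zero_mul]
  have hlow' : ∀ i j : Fin n, j < i → x i j = 0 := fun i j h => hlow j.val _ i j rfl rfl h
  refine ⟨hlow', ?_⟩
  have hstep : ∀ i j : Fin n, j.val = i.val + 1 → x i i = x j j := by
    intro i j hij
    have h := heq i j
    rw [Finset.sum_eq_single i, Finset.sum_eq_single j, mul_comm (v i j)] at h
    · exact (hunit i j hij).mul_left_inj.1 h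
    · intro l hl hne
      have hl' := Fin.lt_def.1 (Finset.mem_Ioi.1 hl)
      have hne' : l.val ≠ j.val := fun he => hne (Fin.ext he)
      rw [hlow' l j (Fin.lt_def.2 (by omega)), mul_zero]
    · intro hj
      exact absurd (Finset.mem_Ioi.2 (Fin.lt_def.2 (by omega))) hj
    · intro l hl hne
      have hl' := Fin.lt_def.1 (Finset.mem_Iio.1 hl)
      have hne' : l.val ≠ i.val := fun he => hne (Fin.ext he)
      rw [hlow' i l (Fin.lt_def.2 (by omega)), zero_mul]
    · intro hi
      exact absurd (Finset.mem_Iio.2 (Fin.lt_def.2 (by omega))) hi
  have h0 : ∀ t : ℕ, ∀ i : Fin n, i.val = t → x i i = x ⟨0, by have := i.isLt; omega⟩ ⟨0, by have := i.isLt; omega⟩ := by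
    intro t
    induction t with
    | zero =>
      intro i hi
      have : i = ⟨0, by have := i.isLt; omega⟩ := Fin.ext hi
      conv_lhs => rw [this]
    | succ t ih =>
      intro i hi
      rw [← hstep ⟨t, by have := i.isLt; omega⟩ i hi, ih ⟨t, by have := i.isLt; omega⟩ rfl]
  exact fun i j => (h0 _ i rfl).trans (h0 _ j rfl).symm

end Groth.Agent.S15845
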