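import Groth.Statements.S15851
import Groth.Agent.Duality.BidualOne
import Groth.Agent.PnCI.Adjunction

set_option autoImplicit false
set_option backward.isDefEq.respectTransparency false
set_option linter.style.haveILetI false
set_option synthInstance.maxHeartbeats 400000
set_option maxHeartbeats 800000
universe u
open CategoryTheory CategoryTheory.Limits AlgebraicGeometry
attribute [local instance] HasDerivedCategory.standard
open Surf

namespace Groth.Agent.S15851

/-- Let k be an algebraically closed field of characteristic zero, S a smooth projective surface over k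
(integral, smooth over k, of dimension two, with a closed immersion over k into some projective
space) and ω an O_S-module which is a second exterior power of the sheaf of differentials of S over
k (the canonical sheaf). Let j : C → S be a closed immersion with C integral of dimension one and A
a coherent O_C-module with torsion-free stalks and one-dimensional generic stalk (a rank-one
torsion-free sheaf on C). Put A^* = Ext^1_{O_S}(j_*A, ω), the value at ω of the first right derived
functor of the sheaf Hom functor Hom_{O_S}(j_*A, -) (taken as the right adjoint of j_*A ⊗ -). Then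
Ext^1_{O_S}(A^*, ω) is isomorphic to j_*A: the operation A ↦ A^* is an involution up to isomorphism
(existence of an isomorphism only). (The instance binders on sheaf Hom functors and injective
resolutions always hold.) -/
theorem result
    (k : Type u) [Field k] [IsAlgClosed k] [CharZero k]
    (S : Scheme.{u}) [S.Over (Spec (CommRingCat.of k))] [IsIntegral S]
    [Smooth (S ↘ Spec (CommRingCat.of k))] (hdim : topologicalKrullDim S = 2)
    [IsProper (S ↘ Spec (CommRingCat.of k))]
    (hproj : ∃ (n : ℕ) (ι : S ⟶ CohB1.ProjSpace n k), IsClosedImmersion ι ∧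
      ι ≫ CohB1.ProjSpace.toSpec n k = S ↘ Spec (CommRingCat.of k))
    [HasInjectiveResolutions S.Modules]
    (ω : S.Modules) (hω : Canon.IsTopDiff (S ↘ Spec (CommRingCat.of k)) 2 ω)
    (C : Scheme.{u}) (j : C ⟶ S) [IsClosedImmersion j] [IsIntegral C]
    (hC : topologicalKrullDim C = 1)
    (M : C.Modules) (hM : Coh.IsCoh M) (hMtf : TorSh.IsTorsionFree M)
    (hrk : Module.finrank (C.presheaf.stalk (genericPoint C)) (M.presheaf.stalk (genericPoint C)) = 1)
    [DCoh.HasSheafHom ((Coh.push j).obj M)] [(DCoh.sheafHom ((Coh.push j).obj M)).Additive]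
    [DCoh.HasSheafHom (((DCoh.sheafHom ((Coh.push j).obj M)).rightDerived 1).obj ω)]
    [(DCoh.sheafHom (((DCoh.sheafHom ((Coh.push j).obj M)).rightDerived 1).obj ω)).Additive] :
    Nonempty (((DCoh.sheafHom (((DCoh.sheafHom ((Coh.push j).obj M)).rightDerived 1).obj ω)).rightDerived 1).obj ω ≅ (Coh.push j).obj M) := by
  obtain ⟨n, ι, hcl, hι⟩ := hproj
  haveI := hcl
  haveI : SmoothOfRelativeDimension 2 (S ↘ Spec (CommRingCat.of k)) :=
    Groth.PnCI.smoothOfRelativeDimension_of_irreducible (S ↘ Spec (CommRingCat.of k)) (by exact_mod_cast hdim)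
  haveI : IsLocallyNoetherian S := LocallyOfFiniteType.isLocallyNoetherian (S ↘ Spec (CommRingCat.of k))
  haveI : IsLocallyNoetherian C := LocallyOfFiniteType.isLocallyNoetherian j
  have hF : Coh.IsCoh ((Coh.push j).obj M) := Groth.CohTwo.isCoh_push j hM
  have hω1 : FlatMod.IsFinLocFreeOfRank 1 ω := by
    obtain ⟨e₀⟩ := Groth.LocFree.nonempty_iso_extPow hω
    refine Groth.LocFree.isFinLocFreeOfRank_of_iso e₀ ?_
    simpa using Groth.LocFree.isFinLocFreeOfRank_extPow (Groth.OmegaSheaf.isFinLocFreeOfRank_sheaf
      (S ↘ Spec (CommRingCat.of k)) 2) 2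
  obtain ⟨T, hT, h3, hE, hK⟩ := Groth.Duality.BidualOne.exists_cover ι ((Coh.push j).obj M) hF
  have h₁ := Groth.Duality.BidualOne.isFinLocFree_left hT hK hE (fun x => by
    rw [h3]
    exact Groth.Duality.BidualOne.hasProjectiveDimensionLT_stalk_push k j hC M hM hMtf x)
  haveI : HasInjectiveResolutions (ModSite.Mod S.sheaf) := ‹HasInjectiveResolutions S.Modules›
  haveI := Groth.SitesTopoi.ModH.hasSheafHom (O := S.sheaf) ((Coh.push j).obj M)
  haveI : ModSite.HasSheafHom (O := S.sheaf) T.X₃ := Groth.SitesTopoi.ModH.hasSheafHom (O := S.sheaf) T.X₃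
  haveI : (ModSite.sheafHom (O := S.sheaf) ((Coh.push j).obj M) : S.Modules ⥤ S.Modules).Additive :=
    ModSite.sheafHom_additive (O := S.sheaf) ((Coh.push j).obj M)
  let G := ((DCoh.sheafHom ((Coh.push j).obj M)).rightDerived 1).obj ω
  haveI := Groth.SitesTopoi.ModH.hasSheafHom (O := S.sheaf) G
  haveI : (ModSite.sheafHom (O := S.sheaf) G : S.Modules ⥤ S.Modules).Additive :=
    ModSite.sheafHom_additive (O := S.sheaf) G
  obtain ⟨c⟩ := Groth.SheafExt.nonempty_extSh_congr (F' := T.X₃) (eqToIso h3.symm) 1 ω
  let eG : G ≅ (ModSite.extSh (O := S.sheaf) T.X₃ 1).obj ω :=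
    (Groth.Duality.ExtTwist.extShIso ((Coh.push j).obj M) 1 ω).symm ≪≫ c
  have hz : IsZero (RefHull.homSh T.X₃ ω) := by
    obtain ⟨e⟩ := Groth.Duality.ExtShShift.nonempty_extSh_zero ((Coh.push j).obj M) ω
    rw [h3]
    refine ((Groth.Duality.PushDualOne.isZero_rightDerived_push k 2 j M hM (d := 1) (p := 1)
      hC.le (by omega) (Groth.LocFree.isFinLocFree_of_rank hω1) (l := 0) (by omega)).of_iso ?_)
    exact e.symm ≪≫ Groth.Duality.ExtTwist.extShIso ((Coh.push j).obj M) 0 ω
  obtain ⟨r⟩ := Groth.Duality.BidualOne.nonempty_bidual_iso hω1 hT h₁ hE (h3.symm ▸ hF) hz G eG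
  exact ⟨(Groth.Duality.ExtTwist.extShIso G 1 ω).symm ≪≫ r ≪≫ eqToIso h3⟩

end Groth.Agent.S15851
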