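import Groth.Statements.S15852
import Groth.Agent.Duality.PushDualOne
import Groth.Agent.PnCI.Adjunction

set_option autoImplicit false
set_option backward.isDefEq.respectTransparency false
set_option linter.style.haveILetI false
set_option synthInstance.maxHeartbeats 400000
universe u
open CategoryTheory CategoryTheory.Limits AlgebraicGeometry
open Surf

namespace Groth.Agent.S15852

/-- Let k be an algebraically closed field of characteristic zero, S a smooth projective surface over k
(integral, smooth over k, of dimension two, with a closed immersion over k into some projective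
space) and ω an O_S-module which is a second exterior power of the sheaf of differentials of S over
k. Let j : C → S be a closed immersion with C integral of dimension one and A a coherent O_C-module
with torsion-free stalks and one-dimensional generic stalk, and put A^* = Ext^1_{O_S}(j_*A, ω), the
first right derived functor of the sheaf Hom functor Hom_{O_S}(j_*A, -) (the right adjoint of j_*A ⊗
-) evaluated at ω. Then the group Ext^1_{O_S}(j_*A, ω), computed in the category of all O_S-modules
with its k-linear structure (the Ext instance is the stated hypothesis; it holds), is k-linearly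
isomorphic to H^0(S, A^*), and also to the k-dual of H^1(S, j_*A) = H^1(C, A). (Existence of
k-linear isomorphisms only.) -/
theorem result
    (k : Type u) [Field k] [IsAlgClosed k] [CharZero k]
    (S : Scheme.{u}) [S.Over (Spec (CommRingCat.of k))] [IsIntegral S]
    [Smooth (S ↘ Spec (CommRingCat.of k))] (hdim : topologicalKrullDim S = 2)
    [IsProper (S ↘ Spec (CommRingCat.of k))]
    (hproj : ∃ (n : ℕ) (ι : S ⟶ CohB1.ProjSpace n k), IsClosedImmersion ι ∧
      ι ≫ CohB1.ProjSpace.toSpec n k = S ↘ Spec (CommRingCat.of k))
    [HasInjectiveResolutions S.Modules] [HasExt.{u} S.Modules]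
    (ω : S.Modules) (hω : Canon.IsTopDiff (S ↘ Spec (CommRingCat.of k)) 2 ω)
    (C : Scheme.{u}) (j : C ⟶ S) [IsClosedImmersion j] [IsIntegral C]
    (hC : topologicalKrullDim C = 1)
    (M : C.Modules) (hM : Coh.IsCoh M) (hMtf : TorSh.IsTorsionFree M)
    (hrk : Module.finrank (C.presheaf.stalk (genericPoint C)) (M.presheaf.stalk (genericPoint C)) = 1)
    [DCoh.HasSheafHom ((Coh.push j).obj M)] [(DCoh.sheafHom ((Coh.push j).obj M)).Additive] :
    Nonempty (Abelian.Ext ((Coh.push j).obj M) ω 1 ≃ₗ[k]
        Coh.HH S (((DCoh.sheafHom ((Coh.push j).obj M)).rightDerived 1).obj ω) 0) ∧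
      Nonempty (Abelian.Ext ((Coh.push j).obj M) ω 1 ≃ₗ[k]
        Module.Dual k (Coh.HH S ((Coh.push j).obj M) 1)) := by
  obtain ⟨n, ι, hcl, hι⟩ := hproj
  haveI := hcl
  haveI : SmoothOfRelativeDimension 2 (S ↘ Spec (CommRingCat.of k)) :=
    Groth.PnCI.smoothOfRelativeDimension_of_irreducible (S ↘ Spec (CommRingCat.of k)) (by exact_mod_cast hdim)
  haveI : IsLocallyNoetherian S := LocallyOfFiniteType.isLocallyNoetherian (S ↘ Spec (CommRingCat.of k))
  haveI : IsLocallyNoetherian C := LocallyOfFiniteType.isLocallyNoetherian j
  have hF : Coh.IsCoh ((Coh.push j).obj M) := Groth.CohTwo.isCoh_push j hM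
  constructor
  · have hωf : FlatMod.IsFinLocFree ω := by
      obtain ⟨e₀⟩ := Groth.LocFree.nonempty_iso_extPow hω
      exact Groth.KTheory.LocFree.isFinLocFree_of_iso e₀ (Groth.LocFree.isFinLocFree_of_rank
        (Groth.LocFree.isFinLocFreeOfRank_extPow (Groth.OmegaSheaf.isFinLocFreeOfRank_sheaf
          (S ↘ Spec (CommRingCat.of k)) 2) 2))
    refine Groth.Duality.ExtTwist.nonempty_ext_linearEquiv k ((Coh.push j).obj M) ω 1 fun l hl q => ?_
    exact Groth.Duality.ExtTwist.subsingleton_HH_of_isZero
      (Groth.Duality.PushDualOne.isZero_rightDerived_push k 2 j M hM (d := 1) (p := 1)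
        hC.le (by omega) hωf hl) (q + 1)
  · obtain ⟨t, ht, hcov⟩ := Groth.Duality.SmoothDual.exists_dualData ι hι ω hω
    exact Groth.Duality.DualPair.nonempty_linearEquiv t ht hcov (by omega) le_rfl hF

end Groth.Agent.S15852
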