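import Groth.Statements.S15853
import Groth.Agent.HilbStab.K3Ext

set_option autoImplicit false
universe u
open CategoryTheory CategoryTheory.Limits AlgebraicGeometry Polynomial
open ShStab

open Groth.RefRank Groth.PicAux Groth.HilbStab

namespace Groth.Agent.S15853

/-- Let k be an algebraically closed field of characteristic zero and S a K3 surface over k — a smooth
projective surface (integral, smooth over k, of dimension two, with a closed immersion over k into
some projective space) whose structure sheaf is a second exterior power of its sheaf of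
differentials and with H^1(S, O_S) = 0 — whose Picard group is infinite cyclic, generated by the
class of an ample invertible sheaf L. Let V be a coherent O_S-module with torsion-free stalks,
stable of dimension two with respect to L, and let P be its Hilbert polynomial with respect to L,
P(m) = χ(V ⊗ L^m). Assume: the leading coefficient of P is twice that of the Hilbert polynomial of
O_S (V has rank two); the coefficients of m and of m^2 in P agree (on such a surface this says
c_1(V)·L = L^2, i.e. the first Chern class of V is the class of L); and P(0) = χ(V) ≥ 1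
(equivalently c_2(V) ≤ L^2/2 + 3). Then V is an extension of L ⊗ I_Z by O_S for some finite
subscheme Z: there are a coherent subsheaf N ⊆ L with L/N supported in dimension at most zero and a
short exact sequence 0 → O_S → V → N → 0, which moreover does not split. -/
theorem result
    (k : Type u) [Field k] [IsAlgClosed k] [CharZero k]
    (S : Scheme.{u}) [S.Over (Spec (CommRingCat.of k))] [IsIntegral S]
    [Smooth (S ↘ Spec (CommRingCat.of k))] (hdim : topologicalKrullDim S = 2)
    [IsProper (S ↘ Spec (CommRingCat.of k))]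
    (hproj : ∃ (n : ℕ) (ι : S ⟶ CohB1.ProjSpace n k), IsClosedImmersion ι ∧
      ι ≫ CohB1.ProjSpace.toSpec n k = S ↘ Spec (CommRingCat.of k))
    (hK : Canon.IsTopDiff (S ↘ Spec (CommRingCat.of k)) 2 (Coh.structureModule S))
    (hq : Module.finrank k (Coh.HH S (Coh.structureModule S) 1) = 0)
    (L : S.Modules) (hLi : PicF.IsInvertible L) (hLa : CohB1.IsAmple L)
    [PicGrp.Law S] (hgen : ∀ c : PicLoc.PicSet S, ∃ n : ℤ, c = PicGrp.cls L hLi ^ n)
    (hfree : ∀ n : ℤ, PicGrp.cls L hLi ^ n = 1 → n = 0)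
    (V : S.Modules) (hV : Coh.IsCoh V) (hVtf : TorSh.IsTorsionFree V)
    (hst : ShStab.IsStable k S L V 2)
    (P PO : ℚ[X]) (hP : ShStab.IsHilbPoly k S L V P)
    (hPO : ShStab.IsHilbPoly k S L (Coh.structureModule S) PO)
    (hrk : P.coeff 2 = 2 * PO.coeff 2) (hc1 : P.coeff 1 = P.coeff 2) (hchi : 1 ≤ P.coeff 0) :
    ∃ (N : S.Modules) (ι : N ⟶ L) (_ : Mono ι) (_ : Coh.IsCoh N)
      (_ : topologicalKrullDim (CohB1.support (cokernel ι)) ≤ 0)
      (a : Coh.structureModule S ⟶ V) (b : V ⟶ N) (w : a ≫ b = 0),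
      (ShortComplex.mk a b w).ShortExact ∧
        ∀ r : V ⟶ Coh.structureModule S, a ≫ r ≠ 𝟙 (Coh.structureModule S) := by
  have hX : topologicalKrullDim S = ((2 : ℕ) : WithBot ℕ∞) := by simpa using hdim
  haveI := Groth.HilbStab.isLocallyNoetherian k (X := S)
  obtain ⟨n, ι₀, hι₀, hι⟩ := hproj
  haveI := hι₀
  haveI := hV.1
  have hOi := PicLoc.isInvertible_structureModule S
  have hOc : Coh.IsCoh (Coh.structureModule S) := Groth.QCohMod.isCoh_unit
  haveI := hOc.1
  have hO1 := isRankOne_of_isInvertible hOi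
  have hOtf := isTorsionFree_of_isInvertible hOi
  have h1 := coeff_one_structure k hLa hX ι₀ hι hK hPO
  have hO2 : 0 < PO.coeff 2 := coeff_two_pos k hLa hX hOtf (𝟙 _) hOc (not_isZero_of_isRankOne hO1) hPO
  have hss := isMuSS_of_isStable k hLa hX hst
  -- a section
  obtain ⟨σ, hσ⟩ := exists_hom_of_euler k hLa hdim ι₀ hι hK hV hP (by rwa [← coeff_zero_eq_eval_zero]) fun φ =>
    eq_zero_of_isMuSS k hX hLa hV hss hOi hP hPO rfl hrk (by rw [h1, hc1, hrk]; linarith) φ
  haveI : Mono σ := mono_of_ne_zero hOtf hO1 hVtf σ hσ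
  have hQc := Groth.QCohMod.isCoh_cokernel σ hV
  obtain ⟨pQ, hpQ⟩ := Groth.HilbStab.exists_isHilbPoly k S hLa hQc
  have hQ2 : pQ.coeff 2 = PO.coeff 2 := by
    have h := Groth.HilbStab.isHilbPoly_cokernel_add k hLa hOc σ hV hPO hP hpQ
    have h' := congrArg (fun q => q.coeff 2) h
    simp only [coeff_add] at h'
    linarith
  obtain ⟨F, N, j, b, w, D, E, hD, hE, δ, ιN, τ, hex, hF, hN, hmτ, hτ, hmδ, hδ, hmι, hι0, -⟩ :=
    exists_rankTwo_extension k hX hV hVtf hOi σ (isRankOne_of_coeff k hX hLa hQc hpQ hPO hQ2)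
  haveI := hmτ
  haveI := hmδ
  haveI := hmι
  haveI := hF.1
  haveI := hN.1
  haveI : Mono j := hex.mono_f
  have hDc := Groth.EulerDeg.isCoh_of_isInvertible hD
  have hEc := Groth.EulerDeg.isCoh_of_isInvertible hE
  obtain ⟨pF, hpF⟩ := Groth.HilbStab.exists_isHilbPoly k S hLa hF
  obtain ⟨pN, hpN⟩ := Groth.HilbStab.exists_isHilbPoly k S hLa hN
  obtain ⟨pD, hpD⟩ := Groth.HilbStab.exists_isHilbPoly k S hLa hDc
  obtain ⟨pE, hpE⟩ := Groth.HilbStab.exists_isHilbPoly k S hLa hEc
  obtain ⟨z, hz⟩ := hgen (PicGrp.cls D hD)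
  obtain ⟨a', ha⟩ := hgen (PicGrp.cls E hE)
  obtain ⟨hD2, hD1⟩ := coeff_of_cls_zpow k hLa hX hLi hD hz hPO h1 hpD
  obtain ⟨hE2, hE1⟩ := coeff_of_cls_zpow k hLa hX hLi hE ha hPO h1 hpE
  obtain ⟨hF2, hF1⟩ := coeff_eq_of_cofinite k hLa hX hF hDc δ hδ hpF hpD
  obtain ⟨hN2, hN1⟩ := coeff_eq_of_cofinite k hLa hX hN hEc ιN hι0 hpN hpE
  have hsum : P = pF + pN := Groth.HilbStab.isHilbPoly_add k hLa hex hF hN hpF hP hpN
  haveI : Mono (τ ≫ δ) := mono_comp τ δ
  have hz0 : 0 ≤ z := by
    have h := hatSlope_le_of_mono k hLa hX hDc (τ ≫ δ) hOc hPO hpD hD2.symm (hD2 ▸ hO2)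
    rw [hatSlope_two, hatSlope_two, h1, hD1, hD2, zero_div, le_div_iff₀ (by linarith), zero_mul] at h
    have : (0 : ℚ) ≤ z := by nlinarith
    exact_mod_cast this
  have hz1 : z ≤ 0 := by
    have h := hss F j inferInstance hF pF P hpF hP (by rw [alpha_two, hF2, hD2]; linarith)
      (by rw [alpha_two, alpha_two, hF2, hD2, hrk]; linarith)
    rw [hatSlope_two, hatSlope_two, hF1, hF2, hD1, hD2, hc1, hrk,
      div_le_div_iff₀ (by linarith) (by linarith)] at h
    have h' : (2 * z - 1 : ℚ) ≤ 0 := by nlinarith [mul_pos hO2 hO2]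
    have h'' : (2 * z : ℚ) ≤ ((1 : ℤ) : ℚ) := by push_cast; linarith
    have : 2 * z ≤ 1 := by exact_mod_cast h''
    omega
  obtain rfl : z = 0 := le_antisymm hz1 hz0
  rw [zpow_zero, PicGrp.cls_eq_one_iff] at hz
  obtain ⟨eD⟩ := hz
  haveI : IsIso (τ ≫ δ) := Groth.HilbStab.isIso_of_mono_of_eq k hLa hOc (τ ≫ δ) hDc hPO
    (Groth.HilbStab.isHilbPoly_iso k eD.symm hPO)
  haveI : Epi δ := epi_of_epi τ δ
  haveI : IsIso δ := isIso_of_mono_of_epi δ
  haveI : IsIso τ := IsIso.of_isIso_comp_right τ δ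
  have ha1 : a' = 1 := by
    have h := congrArg (fun q => q.coeff 1) hsum
    simp only [coeff_add] at h
    rw [hc1, hrk, hF1, hD1, hN1, hE1] at h
    push_cast at h
    have : (a' : ℚ) = ((1 : ℤ) : ℚ) := by push_cast; nlinarith
    exact_mod_cast this
  subst ha1
  rw [zpow_one, PicGrp.cls_eq_cls_iff] at ha
  obtain ⟨eE⟩ := ha
  haveI : Mono (ιN ≫ eE.hom) := mono_comp ιN eE.hom
  have w' : σ ≫ b = 0 := by rw [← hτ, Category.assoc, w, Limits.comp_zero]
  have hex' : (ShortComplex.mk σ b w').ShortExact :=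
    ShortComplex.shortExact_of_iso (ShortComplex.isoMk (asIso τ).symm (Iso.refl _) (Iso.refl _)
      (by simp [← hτ]) (by simp) : ShortComplex.mk j b w ≅ ShortComplex.mk σ b w') hex
  refine ⟨N, ιN ≫ eE.hom, inferInstance, hN, ?_, σ, b, w', hex', fun r hr => ?_⟩
  · rw [Groth.QCohMod.support_eq_of_iso (cokernelCompIsIso ιN eE.hom)]
    exact hι0
  -- a splitting would give a subsheaf of too large slope
  let sp := ShortComplex.Splitting.ofExactOfRetraction (ShortComplex.mk σ b w') hex'.exact r hr hex'.epi_g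
  haveI : IsSplitMono sp.s := ⟨⟨b, sp.s_g⟩⟩
  have hms : Mono sp.s := inferInstance
  have h := hss N sp.s hms hN pN P hpN hP (by rw [alpha_two, hN2, hE2]; linarith)
    (by rw [alpha_two, alpha_two, hN2, hE2, hrk]; linarith)
  rw [hatSlope_two, hatSlope_two, hN1, hN2, hE1, hE2, hc1, hrk,
    div_le_div_iff₀ (by linarith) (by linarith)] at h
  push_cast at h
  nlinarith

end Groth.Agent.S15853
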