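import Groth.Statements.S15856
import Groth.Agent.HilbStab.K3Vanish
import Groth.Agent.DerivedCoh.KFlat.SchemeStalk
import Groth.Agent.Cycles.ProjSepConst

set_option autoImplicit false
universe u
set_option linter.style.haveILetI false
open CategoryTheory CategoryTheory.Limits AlgebraicGeometry
open ShStab
open Groth.RefRank Groth.PicAux Groth.HilbStab
open CategoryTheory.Abelian

namespace Groth.Agent.S15856

open Groth.DerivedCoh.KFlat (stk)

/-- On a set of dimension at most zero closed in a scheme every point is closed. -/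
theorem isClosed_singleton_of_mem {X : Scheme.{u}} {Z : Set X} (hZ : IsClosed Z)
    (h : topologicalKrullDim Z ≤ 0) {x : X} (hx : x ∈ Z) : IsClosed ({x} : Set X) := by
  refine isClosed_of_closure_subset fun y hy => ?_
  have hyx : x ⤳ y := specializes_iff_mem_closure.2 hy
  have hyZ : y ∈ Z := hyx.mem_closed hZ hx
  let C : Z → TopologicalSpace.IrreducibleCloseds Z := fun z =>
    ⟨closure {z}, isIrreducible_singleton.closure, isClosed_closure⟩
  have hspec : (⟨x, hx⟩ : Z) ⤳ ⟨y, hyZ⟩ := (subtype_specializes_iff _ _).2 hyx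
  have hle : C ⟨y, hyZ⟩ ≤ C ⟨x, hx⟩ := hspec.closure_subset
  have hmax : IsMax (C ⟨y, hyZ⟩) := Order.krullDim_nonpos_iff_forall_isMax.1 h _
  have hsub : closure ({⟨x, hx⟩} : Set Z) ⊆ closure {⟨y, hyZ⟩} := hmax hle
  have hback : (⟨y, hyZ⟩ : Z) ⤳ ⟨x, hx⟩ :=
    specializes_iff_mem_closure.2 (hsub (subset_closure rfl))
  exact Set.mem_singleton_iff.2 ((hyx.antisymm ((subtype_specializes_iff _ _).1 hback)).eq.symm)

variable {k : Type u} [Field k] {X : Scheme.{u}} [X.Over (Spec (CommRingCat.of k))]

/-- A constant acts on stalks by its germ. -/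
theorem stalk_map_smul_id (c : k) (L : X.Modules) (x : X) :
    (stk x).map (c • 𝟙 L) = X.presheaf.germ ⊤ x trivial
      (Coh.toGlobal (X ↘ Spec (CommRingCat.of k)) c) • 𝟙 ((stk x).obj L) := by
  ext m
  obtain ⟨U, hxU, s, rfl⟩ := L.presheaf.exists_germ_eq (x := x) m
  refine (DerSch.stalkFunctor_map_germ x (c • 𝟙 L) U hxU s).trans ?_
  rw [KLin.smul_app_apply]
  refine (Groth.QCohMod.germ_smul L x hxU _ s).trans ?_
  erw [TopCat.Presheaf.germ_res_apply]
  rfl

theorem comp_mk₀_smul_id {R : Type*} [CommRing R] {C : Type*} [Category C] [Abelian C]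
    [Linear R C] [HasExt.{u} C] {A B : C} (e : Ext A B 1) (r : R) :
    e.comp (Ext.mk₀ (r • 𝟙 B)) (add_zero 1) = r • e := by
  rw [Ext.mk₀_smul, Ext.comp_smul, Ext.comp_mk₀_id]

section Stalk

variable [IsLocallyNoetherian X] [HasExt.{u} X.Modules]

/-- If the class of an extension of a non-free stalk has free middle term, it generates the classes
of all extensions at that point, and the classes vanishing there modulo the maximal ideal give
non-free middle terms. -/
theorem exists_const_not_free [IsAlgClosed k] [LocallyOfFiniteType (X ↘ Spec (CommRingCat.of k))]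
    {L N : X.Modules} (hL : PicF.IsInvertible L) (hN : Coh.IsCoh N) {x : X}
    (hx : IsClosed ({x} : Set X))
    (hNx : ¬ Module.Free (X.presheaf.stalk x) (N.presheaf.stalk x))
    {V : X.Modules} {a : L ⟶ V} {b : V ⟶ N} {w : a ≫ b = 0}
    (hS : (ShortComplex.mk a b w).ShortExact) (hV : FlatMod.IsFinLocFree V) (e' : Ext N L 1) :
    ∃ c : k, ∀ (V' : X.Modules) (a' : L ⟶ V') (b' : V' ⟶ N) (w' : a' ≫ b' = 0)
      (hS' : (ShortComplex.mk a' b' w').ShortExact), hS'.extClass = e' - c • hS.extClass →
      ¬ FlatMod.IsFinLocFree V' := by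
  let F := stk x
  haveI := hN.1
  haveI : Module.Finite (X.presheaf.stalk x) (N.presheaf.stalk x) := finite_stalkModule hN x
  haveI hfree : ∀ {M : X.Modules}, FlatMod.IsFinLocFree M → Projective (F.obj M) := fun {M} hM => by
    haveI : Module.Free (X.presheaf.stalk x) (M.presheaf.stalk x) := Groth.KTheory.LocFree.free_stalk hM x
    exact ModuleCat.projective_of_free (Module.Free.chooseBasis (X.presheaf.stalk x) (M.presheaf.stalk x))
  let hT := hS.map_of_exact F
  haveI := hfree hV
  have hLr := Groth.LocFree.isInvertible_iff_ofRank_one.1 hL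
  have hLf := Groth.LocFree.isFinLocFree_of_rank hLr
  haveI : Module.Free (X.presheaf.stalk x) (L.presheaf.stalk x) := Groth.KTheory.LocFree.free_stalk hLf x
  haveI : Module.Finite (X.presheaf.stalk x) (L.presheaf.stalk x) :=
    finite_stalkModule (Groth.KTheory.LocFree.isCoh hLf) x
  let B := Module.finBasisOfFinrankEq (X.presheaf.stalk x) (L.presheaf.stalk x) (Groth.LocFree.finrank_stalk hLr x)
  -- every class at the point is a multiple of the given one
  have hgen : ∀ y : Ext (F.obj N) (F.obj L) 1, ∃ u : (X.presheaf.stalk x), y = u • hT.extClass := by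
    intro y
    obtain ⟨z, hz⟩ := Ext.contravariant_sequence_exact₃ hT (F.obj L) (n₁ := 1) y
      (Ext.eq_zero_of_projective (P := F.obj V) (n := 0) _) (n₀ := 0) (add_zero 1)
    obtain ⟨f, rfl⟩ := (Ext.mk₀_bijective _ _).2 z
    obtain ⟨u, hu⟩ : ∃ u : (X.presheaf.stalk x), f = u • 𝟙 (F.obj L) := by
      refine ⟨B.repr (f.hom (B 0)) 0, ?_⟩
      refine ModuleCat.hom_ext (B.ext fun i => ?_)
      rw [Fin.fin_one_eq_zero i]
      change f.hom (B 0) = B.repr (f.hom (B 0)) 0 • B 0
      conv_lhs => rw [← B.sum_repr (f.hom (B 0))]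
      rw [Fin.sum_univ_one]
    refine ⟨u, hz.symm.trans ?_⟩
    subst hu
    exact comp_mk₀_smul_id hT.extClass u
  have hne : hT.extClass ≠ 0 := by
    intro h0
    obtain ⟨z, hz⟩ := Ext.covariant_sequence_exact₃ (X := F.obj N) hT
      (Ext.mk₀ (𝟙 (F.obj N))) (n₁ := 1) (zero_add 1) (by rw [h0, Ext.comp_zero])
    obtain ⟨s, rfl⟩ := (Ext.mk₀_bijective _ _).2 z
    rw [Ext.mk₀_comp_mk₀] at hz
    have hs := (Ext.mk₀_bijective _ _).1 hz
    haveI : Projective ((ShortComplex.mk a b w).map F).X₂ := hfree hV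
    haveI hp : Projective (F.obj N) :=
      { factors := fun f e he => ⟨s ≫ Projective.factorThru ((F.map b) ≫ f) e, by
          rw [Category.assoc, Projective.factorThru_comp, ← Category.assoc]
          exact (congrArg (· ≫ f) hs).trans (Category.id_comp f)⟩ }
    haveI : Module.Projective (X.presheaf.stalk x) (N.presheaf.stalk x) :=
      (IsProjective.iff_projective (R := X.presheaf.stalk x) (F.obj N)).2 hp
    exact hNx Module.free_of_flat_of_isLocalRing
  obtain ⟨u, hu⟩ := hgen (e'.mapExactFunctor F)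
  obtain ⟨c, hc⟩ := Groth.Cycles.ProjSep.gammaEvaluation_toGlobal_surjective
    (X ↘ Spec (CommRingCat.of k)) hx u
  refine ⟨c, fun V' a' b' w' hS' he hV' => hne ?_⟩
  let γ : (X.presheaf.stalk x) := X.presheaf.germ ⊤ x trivial (Coh.toGlobal (X ↘ Spec (CommRingCat.of k)) c)
  have hγ : u - γ ∈ IsLocalRing.maximalIdeal (X.presheaf.stalk x) := hc
  have hc' : (c • hS.extClass).mapExactFunctor F = γ • hT.extClass := by
    have : c • hS.extClass = hS.extClass.comp (Ext.mk₀ (c • 𝟙 L)) (add_zero 1) := by
      rw [Ext.mk₀_smul, Ext.comp_smul]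
      exact congrArg (c • ·) (Ext.comp_mk₀_id _).symm
    rw [this, Ext.mapExactFunctor_comp, Ext.mapExactFunctor_mk₀, Ext.mapExactFunctor_extClass,
      stalk_map_smul_id, Ext.mk₀_smul, Ext.comp_smul]
    exact congrArg (γ • ·) (Ext.comp_mk₀_id _)
  have hclass : (hS'.map_of_exact F).extClass = (u - γ) • hT.extClass := by
    rw [sub_smul, ← hu, ← hc', ← Ext.mapExactFunctor_extClass F hS', he]
    exact map_sub (F.mapExtAddHom N L 1) _ _
  haveI := hfree hV'
  obtain ⟨z, hz⟩ := Ext.contravariant_sequence_exact₃ (hS'.map_of_exact F) (F.obj L) (n₁ := 1) hT.extClass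
    (Ext.eq_zero_of_projective (P := F.obj V') (n := 0) _) (n₀ := 0) (add_zero 1)
  obtain ⟨f, rfl⟩ := (Ext.mk₀_bijective _ _).2 z
  obtain ⟨v, hv⟩ : ∃ v : (X.presheaf.stalk x), f = v • 𝟙 (F.obj L) := by
    refine ⟨B.repr (f.hom (B 0)) 0, ?_⟩
    refine ModuleCat.hom_ext (B.ext fun i => ?_)
    rw [Fin.fin_one_eq_zero i]
    change f.hom (B 0) = B.repr (f.hom (B 0)) 0 • B 0
    conv_lhs => rw [← B.sum_repr (f.hom (B 0))]
    rw [Fin.sum_univ_one]
  have h1 : (v * (u - γ)) • hT.extClass = hT.extClass := by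
    refine Eq.trans ?_ hz
    rw [hv, mul_smul, ← hclass]
    exact (comp_mk₀_smul_id (hS'.map_of_exact F).extClass v).symm
  have h2 : IsUnit (1 - v * (u - γ)) := by
    refine IsLocalRing.isUnit_one_sub_self_of_mem_nonunits _ ?_
    exact (IsLocalRing.maximalIdeal (X.presheaf.stalk x)).mul_mem_left v hγ
  refine h2.smul_eq_zero.1 ?_
  rw [sub_smul, one_smul, h1, sub_self]

end Stalk

/-- Let k be an algebraically closed field of characteristic zero and S a K3 surface over k — a smooth
projective surface (integral, smooth over k, of dimension two, with a closed immersion over k into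
some projective space) whose structure sheaf is a second exterior power of its sheaf of
differentials and with H^1(S, O_S) = 0 — whose Picard group is infinite cyclic, generated by the
class of an ample invertible sheaf G. Let L and L' be invertible O_S-modules and N ⊆ L' a coherent
subsheaf whose quotient L'/N is supported in dimension at most zero (N is L' twisted by the ideal
sheaf of a finite subscheme Z). If the group Ext^1_{O_S}(N, L), computed in the category of all
O_S-modules with its k-linear structure (the Ext instance is the stated hypothesis; it holds), has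
k-dimension at least 2, then there is a short exact sequence 0 → L → V → N → 0 which does not split
and whose middle term V is not a finite locally free O_S-module. -/
theorem result
    (k : Type u) [Field k] [IsAlgClosed k] [CharZero k]
    (S : Scheme.{u}) [S.Over (Spec (CommRingCat.of k))] [IsIntegral S]
    [Smooth (S ↘ Spec (CommRingCat.of k))] (hdim : topologicalKrullDim S = 2)
    [IsProper (S ↘ Spec (CommRingCat.of k))]
    (hproj : ∃ (n : ℕ) (ι : S ⟶ CohB1.ProjSpace n k), IsClosedImmersion ι ∧
      ι ≫ CohB1.ProjSpace.toSpec n k = S ↘ Spec (CommRingCat.of k))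
    (hK : Canon.IsTopDiff (S ↘ Spec (CommRingCat.of k)) 2 (Coh.structureModule S))
    (hq : Module.finrank k (Coh.HH S (Coh.structureModule S) 1) = 0)
    (G : S.Modules) (hGi : PicF.IsInvertible G) (hGa : CohB1.IsAmple G)
    [PicGrp.Law S] (hgen : ∀ c : PicLoc.PicSet S, ∃ n : ℤ, c = PicGrp.cls G hGi ^ n)
    (hfree : ∀ n : ℤ, PicGrp.cls G hGi ^ n = 1 → n = 0)
    [HasExt.{u} S.Modules]
    (L L' : S.Modules) (hL : PicF.IsInvertible L) (hL' : PicF.IsInvertible L')
    (N : S.Modules) (ι : N ⟶ L') [Mono ι] (hN : Coh.IsCoh N)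
    (hZ : topologicalKrullDim (CohB1.support (cokernel ι)) ≤ 0)
    (h2 : 2 ≤ Module.finrank k (Abelian.Ext N L 1)) :
    ∃ (V : S.Modules) (a : L ⟶ V) (b : V ⟶ N) (w : a ≫ b = 0),
      (ShortComplex.mk a b w).ShortExact ∧ (∀ r : V ⟶ L, a ≫ r ≠ 𝟙 L) ∧
        ¬ FlatMod.IsFinLocFree V := by
  obtain ⟨n, emb, hemb, hemb'⟩ := hproj
  haveI := hemb
  haveI := Groth.HilbStab.isLocallyNoetherian k (X := S)
  haveI := hN.1
  have hreg : ∀ x : S, IsRegularLocalRing (S.presheaf.stalk x) := fun x =>
    Groth.NeronArea.Weil.isRegularLocalRing_of_smooth_dedekind (R := k)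
      (S ↘ Spec (CommRingCat.of k)) x
  have hL'c := Groth.EulerDeg.isCoh_of_isInvertible hL'
  haveI := hL'c.1
  have hN0 : ¬ IsZero N := fun h => by
    have : Subsingleton (Ext N L 1) := subsingleton_of_forall_eq 0 fun y => by
      rw [← Ext.mk₀_id_comp y, (IsZero.iff_id_eq_zero N).1 h, Ext.mk₀_zero, Ext.zero_comp]
    rw [Module.finrank_zero_of_subsingleton] at h2
    omega
  -- the stalk of `N` is not free at some closed point
  obtain ⟨x, hx, hNx⟩ : ∃ x : S, IsClosed ({x} : Set S) ∧
      ¬ Module.Free (S.presheaf.stalk x) (N.presheaf.stalk x) := by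
    by_contra hall
    push_neg at hall
    have hNf : FlatMod.IsFinLocFree N := Groth.KTheory.LocFree.isFinLocFree_of_free_stalks hN fun x => by
      by_cases hxZ : x ∈ CohB1.support (cokernel ι)
      · exact hall x (isClosed_singleton_of_mem
          (Groth.CohTwo.isClosed_support _ (Groth.QCohMod.isCoh_cokernel ι hL'c)) hZ hxZ)
      · haveI : Subsingleton ((cokernel ι).presheaf.stalk x) := not_not.1 hxZ
        obtain ⟨hi, hex, -⟩ := Groth.KTheory.LocFree.stalk_exact
          ({ exact := ShortComplex.exact_of_g_is_cokernel _ (cokernelIsCokernel ι) } :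
            (ShortComplex.mk ι (cokernel.π ι) (cokernel.condition ι)).ShortExact) x
        haveI : Module.Free (S.presheaf.stalk x) (L'.presheaf.stalk x) :=
          Groth.KTheory.LocFree.free_stalk (Groth.LocFree.isFinLocFree_of_rank
            (Groth.LocFree.isInvertible_iff_ofRank_one.1 hL')) x
        exact Module.Free.of_equiv (LinearEquiv.ofBijective (RefHull.stalkMapₗ ι x)
          ⟨stalkMapₗ_injective_of_mono ι x, fun y => (hex y).1 (Subsingleton.elim _ _)⟩).symm
    have hNi : PicF.IsInvertible N := isInvertible_of_isReflexive_of_regular hreg hN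
      (Groth.ProjFormula.isIso_bidualMap hNf)
      (isRankOne_of_mono (isTorsionFree_of_isInvertible hL') (isRankOne_of_isInvertible hL') ι hN hN0)
    obtain ⟨N', hN', hNN'⟩ := exists_isInverseOf hNi
    obtain ⟨eE⟩ := nonempty_ext_invertible k hNi hNN' L
    haveI := subsingleton_HH_one_of_isInvertible k hdim emb hemb' hK hq hGi hGa hgen hfree
      (M := CohB1.tensorMod L N') (Groth.PicAux.isInvertible_tensorMod hL hN')
    haveI := eE.toEquiv.subsingleton
    rw [Module.finrank_zero_of_subsingleton] at h2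
    omega
  obtain ⟨v, hv⟩ := exists_linearIndependent_of_le_finrank h2
  have hne : ∀ c : k, v 1 - c • v 0 ≠ 0 := fun c h => by
    have := (Fintype.linearIndependent_iff.1 hv) ![-c, 1] (by
      simp only [Fin.sum_univ_two, Matrix.cons_val_zero, Matrix.cons_val_one, one_smul, neg_smul]
      rw [← h]
      abel) 1
    simp at this
  obtain ⟨V, a, b, w, hS, hc⟩ := Groth.SGA7.Ext1.exists_shortExact_extClass_eq (v 0)
  by_cases hV : FlatMod.IsFinLocFree V
  swap
  · exact ⟨V, a, b, w, hS, ne_id_of_extClass_ne_zero hS (hc ▸ hv.ne_zero 0), hV⟩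
  obtain ⟨c, hgood⟩ := exists_const_not_free (k := k) hL hN hx hNx hS hV (v 1)
  obtain ⟨V', a', b', w', hS', hc'⟩ := Groth.SGA7.Ext1.exists_shortExact_extClass_eq (v 1 - c • v 0)
  refine ⟨V', a', b', w', hS', ne_id_of_extClass_ne_zero hS' (hc' ▸ hne c), ?_⟩
  exact hgood V' a' b' w' hS' (by rw [hc', hc])

end Groth.Agent.S15856
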