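import Groth.Statements.S15857
import Groth.Agent.CohTwo.Degeneracy.Chart
import Groth.Agent.CohTwo.Degeneracy.Dim
import Groth.Agent.VBCurves.KrullSchmidt

set_option autoImplicit false
universe u
open CategoryTheory CategoryTheory.Limits AlgebraicGeometry
open Coherent

namespace Groth.Agent.S15857

open TopologicalSpace in
/-- The dimension of the components of an open piece covered by charts with constant height. -/
private theorem dim_component {k : Type u} [Field k] {D : Scheme.{u}} (g : D ⟶ Spec (CommRingCat.of k))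
    [LocallyOfFiniteType g] (W : D.Opens) (d : ℕ)
    (hW : ∀ x : D, x ∈ W → ∃ V : D.affineOpens, x ∈ V.1 ∧ V.1 ≤ W ∧
      ∀ 𝔪 : Ideal Γ(D, V.1), 𝔪.IsMaximal → 𝔪.height = (d : ℕ))
    (Z : Set (W : Type u)) (hZ : Z ∈ irreducibleComponents (W : Type u)) :
    topologicalKrullDim Z = ((d : ℕ) : WithBot ℕ∞) := by
  have hZirr : IsIrreducible Z := hZ.1
  have hZc : IsClosed Z := isClosed_of_mem_irreducibleComponents Z hZ
  haveI : QuasiSober (W : Type u) := inferInstanceAs (QuasiSober W.toScheme)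
  obtain ⟨η, hη⟩ : ∃ η : W.toScheme, IsGenericPoint η Z := ⟨_, hZirr.isGenericPoint_genericPoint hZc⟩
  have h1 : topologicalKrullDim Z = (Order.height η : ℕ∞) := by
    rw [← Groth.Variety2.Dim.dim_closure_singleton (X := W.toScheme) η, hη.def]
  rw [h1, ← Groth.Variety2.Dim.height_eq_of_isPreimmersion (W.ι ≫ g) g W.ι rfl η]
  obtain ⟨V, hηV, hVW, hht⟩ := hW (W.ι η) η.2
  obtain ⟨P, hP⟩ := Groth.Variety2.Dim.exists_prime_of_mem V.2 hηV
  have hmin : P.asIdeal ∈ minimalPrimes Γ(D, V.1) := by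
    refine ⟨⟨P.isPrime, bot_le⟩, fun Q hQ hle => ?_⟩
    let q : PrimeSpectrum Γ(D, V.1) := ⟨Q, hQ.1⟩
    have hqp : q ⤳ P := (PrimeSpectrum.le_iff_specializes q P).1 hle
    have hsp : V.2.fromSpec q ⤳ W.ι η := hP ▸ hqp.map V.2.fromSpec.continuous
    have hqW : V.2.fromSpec q ∈ W := hVW (Groth.Variety2.Dim.fromSpec_mem V.2 q)
    let η' : W.toScheme := ⟨V.2.fromSpec q, hqW⟩
    have hsp' : η' ⤳ η := W.ι.isOpenEmbedding.toIsInducing.specializes_iff.1 hsp
    have hcl : Z ⊆ closure {η'} := by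
      rw [← hη.def]
      exact closure_minimal (Set.singleton_subset_iff.2 (specializes_iff_mem_closure.1 hsp')) isClosed_closure
    have hge : closure {η'} ⊆ Z := hZ.2 isIrreducible_singleton.closure hcl
    have heq : η' = η := IsGenericPoint.eq (show IsGenericPoint η' Z from le_antisymm hge hcl) hη
    have hqP : q = P := V.2.fromSpec.isOpenEmbedding.injective ((congrArg W.ι heq).trans hP.symm)
    exact le_of_eq (congrArg PrimeSpectrum.asIdeal hqP).symm
  obtain ⟨ψ, -, hψft⟩ := Groth.Variety2.Dim.exists_algebra g V.2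
  letI := ψ.hom.toAlgebra
  haveI : Algebra.FiniteType k Γ(D, V.1) := hψft
  rw [← hP, Groth.Variety2.Dim.height_fromSpec g V.2 P d
    (Groth.CohTwo.Degeneracy.ringKrullDim_quotient_minimal k _ d hht P.asIdeal hmin)]
  rfl

/-- Let k be a field that is algebraically closed with char k = 0 and X a smooth proper variety over k
(an integral k-scheme, smooth and proper over k) of dimension n; let E and F be locally free
O_X-modules of ranks e and f such that the sheaf Hom(E, F) = E^∨ ⊗ F (the right adjoint of E ⊗ - at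
F) is globally generated, and let r be a natural number with r < e and r < f. For a morphism φ : E →
F let D_r(φ) ⊆ X be the closed subscheme where φ has rank at most r, with its determinantal
structure (the subscheme of the (f - r - 1)-st Fitting ideal sheaf of the cokernel of φ, generated
locally by the (r+1)-minors of φ), and let D_r(φ) ∖ D_{r-1}(φ) be its open subscheme where the rank
is exactly r (the complement of the zero set of the (f - r)-th Fitting ideal). Then for φ general —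
for all φ in a non-empty Zariski-open subset of the finite-dimensional k-vector space Hom(E, F),
namely all φ at which some fixed nonzero polynomial in linear coordinates on Hom(E, F) does not
vanish — the scheme D_r(φ) ∖ D_{r-1}(φ) is smooth over k and is either empty or has all its
irreducible components of dimension n - (e - r)(f - r); in particular it is empty when (e - r)(f -
r) > n. (The published statement allows every r and does not ask X to be proper; this row takes r <
e, r < f and X proper, so that Hom(E, F) is a finite-dimensional k-vector space.) -/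
theorem result
    (k : Type u) [Field k] [IsAlgClosed k] [CharZero k]
    (X : Scheme.{u}) [X.Over (Spec (CommRingCat.of k))] [IsIntegral X]
    [Smooth (X ↘ Spec (CommRingCat.of k))] [IsProper (X ↘ Spec (CommRingCat.of k))]
    (n : ℕ) (hdim : topologicalKrullDim X = n)
    (E F : X.Modules) (e f : ℕ) (hE : FlatMod.IsFinLocFreeOfRank e E) (hF : FlatMod.IsFinLocFreeOfRank f F)
    [DCoh.HasSheafHom E] (hgg : Curv2.IsGloballyGenerated ((DCoh.sheafHom E).obj F))
    (r : ℕ) (hre : r < e) (hrf : r < f) :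
    ∃ (m : ℕ) (c : (E ⟶ F) ≃ₗ[k] (Fin m → k)) (p : MvPolynomial (Fin m) k), p ≠ 0 ∧
      ∀ φ : E ⟶ F, MvPolynomial.eval (c φ) p ≠ 0 →
        letI D := Fitt.sheafIdeal (cokernel φ) (f - r - 1)
        letI W : D.subscheme.Opens :=
          D.subschemeι ⁻¹ᵁ ((Fitt.sheafIdeal (cokernel φ) (f - r)).support : TopologicalSpace.Closeds X).compl
        Smooth (W.ι ≫ D.subschemeι ≫ (X ↘ Spec (CommRingCat.of k))) ∧
          (IsEmpty W ∨ ((e - r) * (f - r) ≤ n ∧
            ∀ Z ∈ irreducibleComponents (W : Type u),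
              topologicalKrullDim Z = ((n - (e - r) * (f - r) : ℕ) : WithBot ℕ∞))) := by
  classical
  haveI := Groth.EulerDeg.isNoetherian_of_proper k X
  have hE' := Groth.LocFree.isFinLocFree_of_rank hE
  have hF' := Groth.LocFree.isFinLocFree_of_rank hF
  haveI : Module.Finite k (E ⟶ F) := Groth.VBCurves.KS.finite_hom k
    (Groth.KTheory.LocFree.isCoh hE') (Groth.KTheory.LocFree.isCoh hF')
  let c := (Module.finBasis k (E ⟶ F)).equivFun
  have hloc : ∀ x : X, ∃ U : X.affineOpens, x ∈ U.1 ∧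
      Nonempty (Module.Basis (Fin e) Γ(X, U.1) Γ(E, U.1)) ∧ Nonempty (Module.Basis (Fin f) Γ(X, U.1) Γ(F, U.1)) := by
    intro x
    obtain ⟨U₁, s, -, hx₁, hs⟩ := Groth.LocFree.exists_affine_basis_ofRank hE x
    obtain ⟨U₂, s', -, hx₂, hs'⟩ := Groth.LocFree.exists_affine_basis_ofRank hF x
    obtain ⟨_, ⟨V, hV, rfl⟩, hxV, hle⟩ := X.isBasis_affineOpens.exists_subset_of_mem_open
      (show x ∈ ((U₁ ⊓ U₂ : X.Opens) : Set X) from ⟨hx₁, hx₂⟩) (U₁ ⊓ U₂).2
    exact ⟨⟨V, hV⟩, hxV, ⟨Groth.LocFree.basisOfBasis' hs fun y hy => (hle hy).1⟩,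
      ⟨Groth.LocFree.basisOfBasis' hs' fun y hy => (hle hy).2⟩⟩
  choose U hxU hbE hbF using hloc
  have key : ∀ x, ∃ p : MvPolynomial (Fin _) k, p ≠ 0 ∧ _ := fun x =>
    haveI : Nonempty (U x).1 := ⟨⟨x, hxU x⟩⟩
    Groth.CohTwo.Degeneracy.chart_good k n hdim hE' hF' hgg r hrf c (U x) (hbE x).some (hbF x).some
  choose p hp hgood using key
  obtain ⟨T, hT⟩ := CompactSpace.isCompact_univ.elim_finite_subcover (fun x : X => ((U x).1 : Set X))
    (fun x => (U x).1.2) (fun x _ => Set.mem_iUnion.2 ⟨x, hxU x⟩)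
  refine ⟨_, c, ∏ x ∈ T, p x, Finset.prod_ne_zero_iff.2 fun x _ => hp x, fun φ hφ => ?_⟩
  rw [map_prod, Finset.prod_ne_zero_iff] at hφ
  let D := Fitt.sheafIdeal (cokernel φ) (f - r - 1)
  let W : D.subscheme.Opens :=
    D.subschemeι ⁻¹ᵁ ((Fitt.sheafIdeal (cokernel φ) (f - r)).support : TopologicalSpace.Closeds X).compl
  let g := D.subschemeι ≫ (X ↘ Spec (CommRingCat.of k))
  change Smooth (W.ι ≫ g) ∧ _
  have hW : ∀ x : D.subscheme, x ∈ W → ∃ V : D.subscheme.affineOpens, x ∈ V.1 ∧ V.1 ≤ W ∧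
      Smooth (V.1.ι ≫ g) ∧
      ∀ 𝔪 : Ideal Γ(D.subscheme, V.1), 𝔪.IsMaximal → 𝔪.height + ((e - r) * (f - r) : ℕ) = (n : ℕ) := by
    intro x hx
    obtain ⟨y, hy, hxy⟩ := Set.mem_iUnion₂.1 (hT (Set.mem_univ (D.subschemeι x)))
    exact hgood y φ (hφ y hy) x hxy hx
  choose V hxV hVW hVsm hVht using hW
  refine ⟨?_, ?_⟩
  · refine (IsZariskiLocalAtSource.iff_exists_resLE (P := @Smooth)).2 fun x => ?_
    refine ⟨⊤, W.ι ⁻¹ᵁ (V x.1 x.2).1, hxV x.1 x.2, fun _ _ => trivial, ?_⟩
    have h1 : Smooth ((W.ι ⁻¹ᵁ (V x.1 x.2).1).ι ≫ W.ι ≫ g) := by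
      have := hVsm x.1 x.2
      have e1 : (W.ι ⁻¹ᵁ (V x.1 x.2).1).ι ≫ W.ι = (W.ι ∣_ (V x.1 x.2).1) ≫ (V x.1 x.2).1.ι :=
        (morphismRestrict_ι _ _).symm
      rw [← Category.assoc, e1, Category.assoc]
      exact MorphismProperty.comp_mem _ _ _ (inferInstanceAs (Smooth (W.ι ∣_ (V x.1 x.2).1))) this
    have e2 := Scheme.Hom.resLE_comp_ι (W.ι ≫ g)
      (show W.ι ⁻¹ᵁ (V x.1 x.2).1 ≤ (W.ι ≫ g) ⁻¹ᵁ ⊤ from fun _ _ => trivial)
    exact (MorphismProperty.cancel_right_of_respectsIso @Smooth _ (Scheme.topIso _).hom).1 (e2 ▸ h1)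
  · by_cases hne : IsEmpty (W : Type u)
    · exact Or.inl hne
    haveI : Nonempty (W : Type u) := not_isEmpty_iff.1 hne
    obtain ⟨x⟩ := ‹Nonempty (W : Type u)›
    haveI : Nonempty (V x.1 x.2).1 := ⟨⟨x.1, hxV x.1 x.2⟩⟩
    haveI : Nontrivial Γ(D.subscheme, (V x.1 x.2).1) := Scheme.component_nontrivial _ _
    obtain ⟨𝔪, h𝔪⟩ := Ideal.exists_maximal Γ(D.subscheme, (V x.1 x.2).1)
    have hcn : (e - r) * (f - r) ≤ n := by
      have h := hVht x.1 x.2 𝔪 h𝔪
      exact_mod_cast h ▸ le_add_self (a := (((e - r) * (f - r) : ℕ) : ℕ∞))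
    refine Or.inr ⟨hcn, fun Z hZ => dim_component g W _ (fun y hy => ?_) Z hZ⟩
    refine ⟨V y hy, hxV y hy, hVW y hy, fun 𝔫 h𝔫 => ?_⟩
    have h := hVht y hy 𝔫 h𝔫
    refine (ENat.add_left_injective_of_ne_top (ENat.coe_ne_top ((e - r) * (f - r)))) ?_
    simp only []
    rw [h, ← Nat.cast_add, Nat.sub_add_cancel hcn]

end Groth.Agent.S15857
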