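import Groth.Statements.S15870
import Groth.Agent.SmoothSlice.Sections
import Groth.Agent.AlgSpBasic.Topology
import Groth.Agent.NeronArea.MappingDescent
import Groth.Agent.EtaleBase.IntegralScheme
set_option backward.isDefEq.respectTransparency false
set_option backward.isDefEq.respectTransparency.types false

set_option autoImplicit false
universe u
open CategoryTheory MonoidalCategory CartesianMonoidalCategory MonObj GrpObj AlgebraicGeometry
open NonAbH1

namespace Groth.Agent.S15870

/-- Let π : S' → S be finite locally free (finite, flat, locally of finite presentation), G a smooth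
S'-group scheme and E an fppf G-torsor over S'. Then E trivializes fppf locally on S: some fppf
covering family of S consists of morphisms U → S such that E has a section over U ×_S S' → S'. (The
published statement is for a variable S-scheme T, torsors over S' ×_S T and G a group algebraic
space; this row is the case T = S with G a scheme, to which the general case reduces by base change
of π.) -/
theorem result
    {S S' : Scheme.{u}} (π : S' ⟶ S) [IsFinite π] [Flat π] [LocallyOfFinitePresentation π]
    (G : Over S') [GrpObj G] [Smooth G.hom]
    (E : NonAbH1.TorsorSch G Scheme.fppfPrecoverage) :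
    ∃ R ∈ Scheme.fppfPrecoverage S, ∀ ⦃U : Scheme.{u}⦄ (g : U ⟶ S), R g →
      NonAbH1.HasSectionOver E.X (Limits.pullback.snd g π) := by
  haveI : Smooth E.X.hom :=
    Groth.NeronArea.property_of_isLocallyTrivial E.act E.isTorsor.1 @Smooth E.isTorsor.2 inferInstance
  haveI := Groth.NeronArea.surjective_of_isLocallyTrivial E.isTorsor.2
  choose x hx using fun s : S' => E.X.hom.surjective s
  choose W j w he hw using fun s : S' => Groth.SmoothSlice.exists_etale_section E.X.hom (x s)
  let g₀ := Limits.Sigma.desc (fun s => j s ≫ E.X.hom)
  haveI : Etale g₀ := IsZariskiLocalAtSource.sigmaDesc he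
  have hs : ∀ s, s ∈ Set.range g₀.base := fun s =>
    ⟨(Limits.Sigma.ι W s).base (w s), by
      rw [← Scheme.Hom.comp_apply, Limits.Sigma.ι_desc]; exact (hw s).trans (hx s)⟩
  choose V v hv h hh hy _ using fun y : S =>
    Groth.EtaleBase.exists_etale_nbhd_section π g₀ y (fun z _ => hs z) none (by simp)
  refine ⟨Presieve.ofArrows V v, ?_, ?_⟩
  · show Presieve.ofArrows V v ∈ Scheme.precoverage _ S
    rw [Scheme.ofArrows_mem_precoverage_iff]
    exact ⟨fun y => ⟨y, hy y⟩, fun y => by have := hv y; exact ⟨inferInstance, inferInstance⟩⟩
  · rintro U _ ⟨y⟩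
    refine ⟨(Limits.pullbackSymmetry (v y) π).hom ≫ h y ≫ Limits.Sigma.desc j, ?_⟩
    have e : Limits.Sigma.desc j ≫ E.X.hom = g₀ := by
      apply Limits.Sigma.hom_ext
      intro s
      simp [g₀]
    rw [Category.assoc, Category.assoc, e, hh, Limits.pullbackSymmetry_hom_comp_fst]

end Groth.Agent.S15870
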