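import Groth.Statements.S15875
import Groth.Agent.AlgGrp1.Extension
import Groth.Agent.AlgGrp1.AffineKernelBC
import Groth.Agent.EtaleBase.FpqcDescent

set_option autoImplicit false
universe u
open CategoryTheory MonoidalCategory CartesianMonoidalCategory MonObj GrpObj AlgebraicGeometry
open AGF

open CategoryTheory.Limits

namespace Groth.Agent.S15875

open Limits in
/-- An open surjection whose kernel pair is quasi-compact is quasi-compact. -/
theorem quasiCompact_of_kernelPair {X Y : Scheme.{u}} (f : X ⟶ Y) [Surjective f]
    (hf : IsOpenMap f.base) [QuasiCompact (pullback.fst f f)] : QuasiCompact f := by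
  refine quasiCompact_iff_forall_isAffineOpen.2 fun U hU => ?_
  have hV : ∀ y : U.1, ∃ V : X.Opens, IsAffineOpen V ∧ V ≤ f ⁻¹ᵁ U ∧ y.1 ∈ f.base '' (V : Set X) := by
    intro y
    obtain ⟨x, hx⟩ := f.surjective y.1
    obtain ⟨V, hV, hxV, hVU⟩ := exists_isAffineOpen_mem_and_subset
      (show x ∈ f ⁻¹ᵁ U by show f.base x ∈ U; exact hx ▸ y.2)
    exact ⟨V, hV, hVU, x, hxV, hx⟩
  choose V hVaff hVU hyV using hV
  obtain ⟨t, ht⟩ := hU.isCompact.elim_finite_subcover (fun y => f.base '' (V y : Set X))
    (fun y => hf _ (V y).2) (fun y hy => Set.mem_iUnion.2 ⟨⟨y, hy⟩, hyV ⟨y, hy⟩⟩)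
  have : ((f ⁻¹ᵁ U : X.Opens) : Set X) = ⋃ y ∈ t, (pullback.snd f f).base ''
      ((pullback.fst f f).base ⁻¹' (V y : Set X)) := by
    ext x
    simp only [Set.mem_iUnion, Set.mem_image, Set.mem_preimage, SetLike.mem_coe]
    constructor
    · intro hx
      obtain ⟨y, hy, v, hv, hvx⟩ := Set.mem_iUnion₂.1 (ht hx)
      obtain ⟨z, hz1, hz2⟩ := Scheme.Pullback.exists_preimage_pullback (f := f) (g := f) v x hvx
      exact ⟨y, hy, z, hz1 ▸ hv, hz2⟩
    · rintro ⟨y, hy, z, hz, rfl⟩
      show f.base ((pullback.snd f f).base z) ∈ U
      rw [← Scheme.Hom.comp_apply, ← pullback.condition, Scheme.Hom.comp_apply]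
      exact hVU y hz
  rw [this]
  exact t.finite_toSet.isCompact_biUnion fun y _ =>
    (((pullback.fst f f).isCompact_preimage (hVaff y).isCompact)).image (pullback.snd f f).continuous

/-- Let k'/k be a finite purely inseparable field extension, G a k-group locally of finite type, q :
G_{k'} → Ḡ a faithfully flat homomorphism onto a k'-group Ḡ locally of finite type with
quasi-compact kernel N, and (R, q_R) a Weil restriction of Ḡ to k carrying a group structure for
which q_R is a homomorphism. Then the comparison morphism i : G → R corresponding to q is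
quasi-compact. (The published statement allows any finite extension k'/k and adds that the kernel of
i is quasi-compact as well; the published proof goes through the purely inseparable case of the
kernel of the counit of Weil restriction, so k'/k is taken purely inseparable here.) -/
theorem result (k k' : Type u) [Field k] [Field k'] [Algebra k k']
    [Module.Finite k k'] [IsPurelyInseparable k k']
    (G : Over (Spec (CommRingCat.of k))) [GrpObj G] [LocallyOfFiniteType G.hom]
    (Gbar : Over (Spec (CommRingCat.of k'))) [GrpObj Gbar] [LocallyOfFiniteType Gbar.hom]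
    (q : Red.bc (Spec.map (CommRingCat.ofHom (algebraMap k k'))) G ⟶ Gbar) [IsMonHom q] [Surjective q.left] [Flat q.left]
    (N : Over (Spec (CommRingCat.of k'))) (iN : N ⟶ Red.bc (Spec.map (CommRingCat.ofHom (algebraMap k k'))) G) (hN : AlgGrp.IsKernel iN q) [CompactSpace N.left]
    (R : Over (Spec (CommRingCat.of k))) [GrpObj R] (qR : Red.bc (Spec.map (CommRingCat.ofHom (algebraMap k k'))) R ⟶ Gbar) [IsMonHom qR]
    (hR : WeilRes.IsWeilRes (Spec.map (CommRingCat.ofHom (algebraMap k k'))) Gbar R qR) :
    QuasiCompact (hR.lift G q).left := by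
  have hsepR : IsSeparated R.hom := Groth.AlgGrp1.isSeparated_grpObj R
  have hqcN : QuasiCompact N.hom := (quasiCompact_iff_compactSpace N.hom).2 ‹_›
  have hfst : QuasiCompact (pullback.fst q.left q.left) := by
    have h1 := (Groth.AlgGrp1.IsKernel.isPullback_mul_left hN).flip
    have h2 : QuasiCompact (fst (Red.bc (Spec.map (CommRingCat.ofHom (algebraMap k k'))) G) N).left :=
      MorphismProperty.of_isPullback (IsPullback.of_hasPullback _ N.hom).flip hqcN
    rw [← h1.isoPullback_inv_fst]
    exact (MorphismProperty.cancel_left_of_respectsIso @QuasiCompact _ _).2 h2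
  have : LocallyOfFiniteType (Red.bc (Spec.map (CommRingCat.ofHom (algebraMap k k'))) G).hom :=
    inferInstanceAs (LocallyOfFiniteType (pullback.snd G.hom _))
  have := Groth.AlgGrp1.lfp_left q
  have : UniversallyOpen q.left := UniversallyOpen.of_flat q.left
  have hq : QuasiCompact q.left := quasiCompact_of_kernelPair q.left q.left.isOpenMap
  set i := hR.lift G q
  have hi : (Over.pullback (Spec.map (CommRingCat.ofHom (algebraMap k k')))).map i ≫ qR = q :=
    (Equiv.ofBijective _ (hR G)).apply_symm_apply q
  have hsepR' : IsSeparated (Red.bc (Spec.map (CommRingCat.ofHom (algebraMap k k'))) R).hom :=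
    MorphismProperty.pullback_snd _ _ hsepR
  have hsepq : IsSeparated qR.left := by
    have : IsSeparated (qR.left ≫ Gbar.hom) := by rw [Over.w qR]; exact hsepR'
    exact IsSeparated.of_comp qR.left Gbar.hom
  have hmap : QuasiCompact ((Over.pullback (Spec.map (CommRingCat.ofHom (algebraMap k k')))).map i).left := by
    have : QuasiCompact (((Over.pullback (Spec.map (CommRingCat.ofHom (algebraMap k k')))).map i).left ≫ qR.left) := by
      rw [← Over.comp_left, hi]; exact hq
    exact QuasiCompact.of_comp _ qR.left
  have hp : (@Surjective ⊓ @Flat ⊓ @QuasiCompact : MorphismProperty Scheme.{u})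
      (pullback.fst R.hom (Spec.map (CommRingCat.ofHom (algebraMap k k')))) := by
    exact ⟨⟨MorphismProperty.pullback_fst _ _ inferInstance, MorphismProperty.pullback_fst _ _ inferInstance⟩,
      MorphismProperty.pullback_fst _ _ inferInstance⟩
  exact MorphismProperty.of_isPullback_of_descendsAlong (P := @QuasiCompact)
    (Groth.AlgGrp1.isPullback_bc_map _ i).flip hp hmap

end Groth.Agent.S15875
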