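import Groth.Statements.S15876
import Groth.Agent.PRedWeil.KerPath
import Groth.Agent.PRedWeil.Relative
import Groth.Agent.PRedWeil.Insep

set_option autoImplicit false
universe u
open CategoryTheory MonoidalCategory CartesianMonoidalCategory MonObj GrpObj AlgebraicGeometry
open AGF

namespace Groth.Agent.S15876

/-- Let k'/k be a finite purely inseparable extension, G' a k'-group locally of finite type, (R, q) a
Weil restriction of G' to k with a group structure making q : R_{k'} → G' a homomorphism, and K the
kernel of q. Then K is affine and quasi-compact with no non-trivial subtorus in its geometric fibre,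
and when G' is smooth K is moreover smooth and connected. (The published statement says that K is
unipotent, and split unipotent when G' is smooth; unipotent k'-groups are affine of finite type with
no geometric subtori and split ones are in addition smooth and connected, which is what this row
records, a weaker conclusion.) -/
theorem result (k k' : Type u) [Field k] [Field k']
    [Algebra k k'] [Module.Finite k k'] [IsPurelyInseparable k k']
    (G' : Over (Spec (CommRingCat.of k'))) [GrpObj G'] [LocallyOfFiniteType G'.hom]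
    (R : Over (Spec (CommRingCat.of k))) [GrpObj R] (q : Red.bc (Spec.map (CommRingCat.ofHom (algebraMap k k'))) R ⟶ G') [IsMonHom q]
    (hR : WeilRes.IsWeilRes (Spec.map (CommRingCat.ofHom (algebraMap k k'))) G' R q)
    (K : Over (Spec (CommRingCat.of k'))) [GrpObj K] (iK : K ⟶ Red.bc (Spec.map (CommRingCat.ofHom (algebraMap k k'))) R) [IsMonHom iK]
    (hK : AlgGrp.IsKernel iK q) :
    (IsAffine K.left ∧ CompactSpace ↥K.left ∧ (∀ s : ↥(Spec (CommRingCat.of k')), Red.HasNoSubtorus (AlgebraicClosure ((Spec (CommRingCat.of k')).residueField s)) (Red.geomFibre s K))) ∧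
    (Smooth G'.hom → Smooth K.hom ∧ ConnectedSpace ↥K.left) := by
  let f : Spec (CommRingCat.of k') ⟶ Spec (CommRingCat.of k) := Groth.PRedWeil.φR k k'
  have : IsFinite f := (IsFinite.SpecMap_iff _).mpr (RingHom.finite_algebraMap.mpr ‹_›)
  have : Flat f := (HasRingHomProperty.Spec_iff (P := @Flat)).mpr
    (RingHom.flat_algebraMap_iff.mpr inferInstance)
  have : LocallyOfFinitePresentation f :=
    (HasRingHomProperty.Spec_iff (P := @LocallyOfFinitePresentation)).mpr
      (RingHom.finitePresentation_algebraMap.mpr (Algebra.FinitePresentation.of_finiteType.mp inferInstance))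
  have : UniversallyInjective f := Groth.PRedWeil.universallyInjective_φ k k'
  -- an affine neighbourhood of the identity
  let c : ↥(𝟙_ (Over (Spec (CommRingCat.of k')))).left := (default : PrimeSpectrum k')
  obtain ⟨U, hU, hcU, -⟩ := exists_isAffineOpen_mem_and_subset (X := G'.left) (x := η[G'].left c)
    (U := ⊤) trivial
  have : IsAffine U.toScheme := hU
  let Uo : Over (Spec (CommRingCat.of k')) := Over.mk (U.ι ≫ G'.hom)
  have : IsAffine Uo.left := hU
  have : IsAffineHom Uo.hom := isAffineHom_of_isAffine _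
  let jO : Uo ⟶ G' := Over.homMk U.ι rfl
  have : IsOpenImmersion jO.left := inferInstanceAs (IsOpenImmersion U.ι)
  have hjO : Mono jO := Over.mono_of_mono_left jO
  have hfac : ∀ {W : Over (Spec (CommRingCat.of k'))} (x : W ⟶ G'),
      Set.range x.left ⊆ U → ∃ l : W ⟶ Uo, l ≫ jO = x := fun {W} x hx =>
    ⟨Over.homMk (IsOpenImmersion.lift U.ι x.left (by rwa [Scheme.Opens.range_ι])) (by
      show _ ≫ U.ι ≫ G'.hom = _
      rw [IsOpenImmersion.lift_fac_assoc]
      exact Over.w x), Over.OverMorphism.ext (IsOpenImmersion.lift_fac _ _ _)⟩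
  have hc1 : ∀ {W : Over (Spec (CommRingCat.of k'))} (y : W.left), (toUnit W ≫ η[G']).left y = η[G'].left c :=
    fun y => congrArg η[G'].left (@Subsingleton.elim (PrimeSpectrum k') _ _ _)
  obtain ⟨eUnit, heUnit⟩ := hfac η[G'] (by
    rintro _ ⟨y, rfl⟩
    rw [show y = c from @Subsingleton.elim (PrimeSpectrum k') _ _ _]
    exact hcU)
  obtain ⟨RU, qU, hqU, hRUa, -, -⟩ := Groth.PRedWeil.exists_weilRes f Uo
  obtain ⟨ιR, hιR⟩ := (hR RU).2 (qU ≫ jO)
  rw [WeilRes.restr_apply] at hιR
  have hιm : Mono ιR := ⟨fun {Z} u v huv => (hqU Z).1 ((cancel_mono jO).mp (by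
    simp only [WeilRes.restr_apply, Category.assoc]
    rw [← hιR, ← Functor.map_comp_assoc, ← Functor.map_comp_assoc, huv]))⟩
  have : Mono ((Over.pullback f).map ιR) := (Over.pullback f).map_mono ιR
  have hmono : Mono iK := ⟨fun u v huv => hK.hom_ext huv (Subsingleton.elim _ _)⟩
  -- the inclusion of the kernel factors through the restriction of the open
  let adj := Over.mapPullbackAdj f
  let a := (adj.homEquiv K R).symm iK
  let sK := adj.unit.app K
  have hsa : sK ≫ (Over.pullback f).map a = iK :=
    (adj.homEquiv_unit K R a).symm.trans ((adj.homEquiv K R).apply_symm_apply iK)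
  obtain ⟨b', hb'⟩ := hfac ((Over.pullback f).map a ≫ q) (by
    rintro _ ⟨z, rfl⟩
    let p1 := Limits.pullback.fst ((Over.map f).obj K).hom f
    have hs : sK.left ≫ p1 = 𝟙 K.left := by
      exact Limits.pullback.lift_fst _ _ _
    have : UniversallyInjective p1 := MorphismProperty.pullback_fst _ _ ‹UniversallyInjective f›
    have hz : sK.left (p1 z) = z :=
      p1.injective (congrArg (fun m => (show K.left ⟶ K.left from m) (p1 z)) hs)
    show ((Over.pullback f).map a ≫ q).left z ∈ U
    rw [← hz]
    have h1 : sK ≫ (Over.pullback f).map a ≫ q = toUnit K ≫ η[G'] := by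
      rw [← Category.assoc, hsa]; exact hK.w
    have h2 := congrArg (fun m : K ⟶ G' => m.left (p1 z)) h1
    simp only at h2
    rw [hc1] at h2
    exact h2 ▸ hcU)
  obtain ⟨b, hb⟩ := (hqU _).2 b'
  rw [WeilRes.restr_apply] at hb
  have hba : b ≫ ιR = a := (hR _).1 (by
    simp only [WeilRes.restr_apply, Functor.map_comp, Category.assoc]
    rw [hιR, ← Category.assoc, hb, hb'])
  let v : K ⟶ Red.bc f RU := sK ≫ (Over.pullback f).map b
  have hv : v ≫ (Over.pullback f).map ιR = iK := by
    rw [Category.assoc, ← Functor.map_comp, hba, hsa]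
  have hvw : v ≫ qU = toUnit K ≫ eUnit := by
    rw [← cancel_mono jO]
    simp only [v, Category.assoc, heUnit]
    rw [← hιR, ← Functor.map_comp_assoc, hba, ← Category.assoc, hsa]
    exact hK.w
  have hP : IsPullback v (toUnit K) qU eUnit := by
    refine IsPullback.mk' hvw (fun W u w h1 _ => ?_) (fun W u t ht => ?_)
    · rw [← cancel_mono iK, ← hv, ← Category.assoc, h1, Category.assoc]
    · have hcone : (u ≫ (Over.pullback f).map ιR) ≫ q = t ≫ η[G'] := by
        rw [Category.assoc, hιR, ← Category.assoc, ht, Category.assoc, heUnit]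
      refine ⟨hK.lift _ _ hcone, ?_, hK.lift_snd _ _ _⟩
      rw [← cancel_mono ((Over.pullback f).map ιR), Category.assoc, hv, hK.lift_fst]
  have hPl := hP.map (Over.forget _)
  have : IsAffineHom RU.hom := hRUa
  have : IsAffine RU.left := isAffine_of_isAffineHom RU.hom
  have : IsAffine (Red.bc f RU).left := by
    show IsAffine (Limits.pullback RU.hom f)
    infer_instance
  have : IsAffine (𝟙_ (Over (Spec (CommRingCat.of k')))).left := isAffine_Spec _
  have : IsAffineHom eUnit.left := isAffineHom_of_isAffine _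
  have : IsAffineHom v.left :=
    MorphismProperty.of_isPullback hPl.flip ‹IsAffineHom eUnit.left›
  have hKa : IsAffine K.left := isAffine_of_isAffineHom v.left
  -- the transported data
  let e : ∀ Y : Over (Spec (CommRingCat.of k)), (Y ⟶ R) ≃ ((Over.pullback f).obj Y ⟶ G') :=
    fun Y => Equiv.ofBijective _ (hR Y)
  have he : ∀ (Y Z : Over (Spec (CommRingCat.of k))) (h : Y ⟶ Z) (g : Z ⟶ R),
      e Y (h ≫ g) = (Over.pullback f).map h ≫ e Z g := fun Y Z h g => by
    show WeilRes.restr f q Y _ = _ ≫ WeilRes.restr f q Z g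
    simp only [WeilRes.restr_apply, Functor.map_comp, Category.assoc]
  have hmul : ∀ (Y : Over (Spec (CommRingCat.of k))) (g h : Y ⟶ R), e Y (g * h) = e Y g * e Y h :=
    fun Y g h => by
    show WeilRes.restr f q Y _ = WeilRes.restr f q Y g * WeilRes.restr f q Y h
    have h1 := map_mul ((Over.pullback f).homMonoidHom (X := Y) (M := R)) g h
    simp only [WeilRes.restr_apply]
    rw [show (Over.pullback f).map (g * h) = (Over.pullback f).map g * (Over.pullback f).map h from h1,
      MonObj.mul_comp]
  have heR : e R (𝟙 R) = q := by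
    show WeilRes.restr f q R _ = q
    rw [WeilRes.restr_apply]
    exact (congrArg (· ≫ q) ((Over.pullback f).map_id R)).trans (Category.id_comp q)
  rw [← heR] at hK
  obtain ⟨A, _, _, ⟨eU⟩⟩ := Groth.PRedWeil.exists_specOver_iso Uo
  have : IsIso eU.inv.left := (Over.forget _).map_isIso eU.inv
  let jU : Groth.PRedWeil.specOver k' A ⟶ G' := eU.inv ≫ jO
  have : IsOpenImmersion jU.left := inferInstanceAs (IsOpenImmersion (eU.inv.left ≫ jO.left))
  obtain ⟨l, hl⟩ := hfac (1 : Groth.PRedWeil.specOver k' k' ⟶ G') (by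
    rintro _ ⟨y, rfl⟩
    rw [Hom.one_def, hc1]
    exact hcU)
  obtain ⟨ε₀, hε⟩ := (Groth.PRedWeil.specHom_bijective A k').2 (l ≫ eU.hom)
  have hε₀ : Groth.PRedWeil.pt jU ε₀ = 1 := by
    rw [Groth.PRedWeil.pt, hε, Category.assoc, Iso.hom_inv_id_assoc, hl]
  obtain ⟨m, hm, hK1⟩ := Groth.PRedWeil.exists_pow_id_eq_one e he jU ε₀ hε₀ iK hK hmul
  refine ⟨⟨hKa, inferInstance, fun s => Groth.PRedWeil.hasNoSubtorus_geomFibre K hm hK1 s⟩, fun hs => ?_⟩
  have : Smooth Uo.hom := inferInstanceAs (Smooth (U.ι ≫ G'.hom))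
  have hA : Smooth (Spec.map (CommRingCat.ofHom (algebraMap k' A))) := by
    rw [show Spec.map (CommRingCat.ofHom (algebraMap k' A)) = eU.inv.left ≫ Uo.hom from
      (Over.w eU.inv).symm]
    infer_instance
  have : Algebra.Smooth k' A :=
    RingHom.smooth_algebraMap.mp ((HasRingHomProperty.Spec_iff (P := @Smooth)).mp hA)
  refine ⟨?_, Groth.PRedWeil.connectedSpace_kernel e he jU ε₀ hε₀ iK hK⟩
  have : Smooth qU.left := (Groth.PRedWeil.smooth_counit hqU).1
  have h2 : Smooth (toUnit K).left := MorphismProperty.of_isPullback hPl ‹Smooth qU.left›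
  have h3 : (toUnit K).left ≫ (𝟙_ (Over (Spec (CommRingCat.of k')))).hom = K.hom := Over.w (toUnit K)
  have : IsIso (𝟙_ (Over (Spec (CommRingCat.of k')))).hom := inferInstanceAs (IsIso (𝟙 _))
  rw [← h3]
  infer_instance

end Groth.Agent.S15876
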