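import Groth.Statements.S1588
import Mathlib
import Groth.Agent.Curves1.Node.NodeEtale
import Groth.Agent.VarietyBC.Tower

set_option autoImplicit false
universe u
open CategoryTheory CategoryTheory.Limits AlgebraicGeometry
open Curves

namespace Groth.Agent.S1588

/-- Let K be a field extension of k, X locally of finite type over k of dimension one, and y a point of
X_K with image x in X. Then x is a node of X (in particular closed) if and only if y is a node of
X_K. -/
theorem result (k : Type u) [Field k] (X : Scheme.{u}) [X.Over (Spec (CommRingCat.of k))] [LocallyOfFiniteType (X ↘ (Spec (CommRingCat.of k)))]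
    (hdim : topologicalKrullDim X = 1) (K : Type u) [Field K] [Algebra k K] (y : Curv2.bc k X K) :
    Curv2.IsNode k X (Curv2.bcFst k X K y) ↔ @Curv2.IsNode K _ (Curv2.bc k X K) ⟨Curv2.bcSnd k X K⟩ y := by
  let Ω := AlgebraicClosure K
  let OK : (Curv2.bc k X K).Over (Spec (CommRingCat.of K)) := ⟨Curv2.bcSnd k X K⟩
  have : LocallyOfFiniteType ((Curv2.bc k X K) ↘ (Spec (CommRingCat.of K))) :=
    inferInstanceAs (LocallyOfFiniteType (Curv2.bcSnd k X K))
  rw [Groth.Curves1.Node.isNode_iff_isNodeStalk, Groth.Curves1.Node.isNode_iff_isNodeStalk]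
  let e := Groth.VarietyBC.towerIso (k := k) (X := X) (K := K) (L := Ω)
  have : Surjective (Spec.map (CommRingCat.ofHom (algebraMap K Ω))) :=
    ⟨fun y => ⟨⟨⊥, Ideal.isPrime_bot⟩, Subsingleton.elim _ _⟩⟩
  obtain ⟨z, rfl⟩ := (Curv2.bcFst K (Curv2.bc k X K) Ω).surjective y
  let O₁ : (Curv2.bc K (Curv2.bc k X K) Ω).Over (Spec (CommRingCat.of Ω)) :=
    ⟨Curv2.bcSnd K (Curv2.bc k X K) Ω⟩
  let O₂ : (Curv2.bc k X Ω).Over (Spec (CommRingCat.of Ω)) := ⟨Curv2.bcSnd k X Ω⟩
  let := Curv2.stalkAlgebra Ω (Curv2.bc K (Curv2.bc k X K) Ω) z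
  let := Curv2.stalkAlgebra Ω (Curv2.bc k X Ω) (e.hom z)
  have hfst : Curv2.bcFst k X Ω (e.hom z) = Curv2.bcFst k X K (Curv2.bcFst K (Curv2.bc k X K) Ω z) := by
    rw [← Scheme.Hom.comp_apply, Groth.VarietyBC.towerIso_hom_fst, Scheme.Hom.comp_apply]
  have := Groth.Curves1.Node.isNoetherianRing_stalk_bc (k := K) Ω z
  have := Groth.Curves1.Node.isNoetherianRing_stalk_bc (k := k) Ω (e.hom z)
  let ρ : (Curv2.bc k X Ω).presheaf.stalk (e.hom z) ≃+* (Curv2.bc K (Curv2.bc k X K) Ω).presheaf.stalk z :=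
    (asIso (e.hom.stalkMap z)).commRingCatIsoToRingEquiv
  have hclosed : IsClosed ({z} : Set (Curv2.bc K (Curv2.bc k X K) Ω)) ↔
      IsClosed ({e.hom z} : Set (Curv2.bc k X Ω)) := by
    rw [← (e.hom.homeomorph).isClosed_image, Set.image_singleton]
    rfl
  let := Curv2.stalkAlgebra K (Curv2.bc k X K) (Curv2.bcFst K (Curv2.bc k X K) Ω z)
  let := Curv2.stalkAlgebra k X (Curv2.bcFst k X Ω (e.hom z))
  constructor
  · intro hx
    rw [← hfst] at hx
    have h' := Groth.Curves1.Node.isOrdDoublePt_of_isNodeStalk Ω (e.hom z) hx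
    have hcl : IsClosed ({z} : Set (Curv2.bc K (Curv2.bc k X K) Ω)) := hclosed.mpr
      (Groth.Curves1.Node.isClosed_bc Ω _
        (Groth.Curves1.Node.isClosed_of_isSeparable_residueField _ hx.1))
    obtain ⟨N, π, π', p, hP⟩ := Groth.Curves1.Node.exists_stalk_presentation (k := K) Ω z hcl
    exact Groth.Curves1.Node.isNodeStalk_of_isOrdDoublePt Ω z hcl
      (Groth.Curves1.Node.isOrdDoublePt_of_ringEquiv ρ hP.exists_sub_algebraMap_mem h')
  · intro hy
    have hcl : IsClosed ({z} : Set (Curv2.bc K (Curv2.bc k X K) Ω)) :=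
      Groth.Curves1.Node.isClosed_bc Ω z (Groth.Curves1.Node.isClosed_of_isSeparable_residueField _ hy.1)
    have h' := Groth.Curves1.Node.isOrdDoublePt_of_isNodeStalk Ω z hy
    have hcl' := hclosed.mp hcl
    obtain ⟨N, π, π', p, hP⟩ := Groth.Curves1.Node.exists_stalk_presentation (k := k) Ω (e.hom z) hcl'
    rw [← hfst]
    exact Groth.Curves1.Node.isNodeStalk_of_isOrdDoublePt Ω (e.hom z) hcl'
      (Groth.Curves1.Node.isOrdDoublePt_of_ringEquiv ρ.symm hP.exists_sub_algebraMap_mem h')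

end Groth.Agent.S1588
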