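import Groth.Statements.S15880
import Groth.Agent.Limits.ConstFinite
import Groth.Agent.PnCoh.GlobalFun

set_option autoImplicit false
universe u
open CategoryTheory CategoryTheory.Limits AlgebraicGeometry
open CohB1

namespace Groth.Agent.S15880

/-- Let k be a field, s a k-point of P^n_k and f : F → P^n_k a finite morphism whose direct image of the
structure sheaf is isomorphic to the free module O^{⊕d} on P^n_k. Then F is, over P^n_k, isomorphic
to the base change F_s ×_k P^n_k of its fibre at s (existence of an isomorphism over P^n_k). (The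
published statement is the equivalence of categories between finite k-schemes and finite flat
P^n_k-schemes with free direct image of the structure sheaf, with inverse F ↦ s^*F; this row states
its essential surjectivity in the pinned form F ≅ (s^*F) ×_k P^n_k.) -/
theorem result (k : Type u) [Field k] (n d : ℕ)
    (s : Spec (CommRingCat.of k) ⟶ CohB1.ProjSpace n k) (hs : s ≫ CohB1.ProjSpace.toSpec n k = 𝟙 _)
    (F : Scheme.{u}) (f : F ⟶ CohB1.ProjSpace n k) [IsFinite f]
    (e : (Scheme.Modules.pushforward f).obj (SheafOfModules.unit F.ringCatSheaf) ≅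
      ∐ fun _ : ULift.{u} (Fin d) => (SheafOfModules.unit (CohB1.ProjSpace n k).ringCatSheaf :
        (CohB1.ProjSpace n k).Modules)) :
    Nonempty (Over.mk f ≅ Over.mk (pullback.snd (pullback.snd f s) (CohB1.ProjSpace.toSpec n k))) := by
  obtain ⟨B, a, c, H⟩ := Groth.LimConstFinite.exists_isPullback (CohB1.ProjSpace.toSpec n k)
    (Groth.PnCoh.toGlobal_bijective n k) f e
  have Hs : IsPullback (pullback.fst f s ≫ c) (pullback.snd f s) a (𝟙 _) := by
    rw [← hs]
    exact (IsPullback.of_hasPullback f s).paste_horiz H
  haveI : IsIso (pullback.fst f s ≫ c) := Hs.isIso_fst_of_isIso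
  have ha : a = inv (pullback.fst f s ≫ c) ≫ pullback.snd f s := by
    rw [IsIso.eq_inv_comp, Hs.w, Category.comp_id]
  let e' : F ≅ pullback (pullback.snd f s) (CohB1.ProjSpace.toSpec n k) :=
    H.isoPullback ≪≫ asIso (pullback.map a (CohB1.ProjSpace.toSpec n k) (pullback.snd f s)
      (CohB1.ProjSpace.toSpec n k) (inv (pullback.fst f s ≫ c)) (𝟙 _) (𝟙 _)
      (by rw [Category.comp_id, ha]) (by simp))
  refine ⟨Over.isoMk e' ?_⟩
  simp only [e', Iso.trans_hom, asIso_hom, Over.mk_hom, Over.mk_left, Category.assoc,
    pullback.map]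
  rw [pullback.lift_snd, Category.comp_id]
  exact H.isoPullback_hom_snd

end Groth.Agent.S15880
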