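import Groth.Statements.S15883
import Groth.Agent.BMCoh.Multi

set_option autoImplicit false
universe u
open CategoryTheory AlgebraicGeometry Opposite
open BMCoh

namespace Groth.Agent.S15883

/-- Let T be a twisted Borel–Moore cohomology theory with coefficients in A (a full subcategory of
R-modules containing R) on a constructible class V of Noetherian schemes, and let i_X : X → W and
i_Y : Y → W be morphisms of V — open immersions with dim X = dim W = dim Y — whose images are
complementary in W, so that W is the disjoint union of X and Y. Then for every coefficient module M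
and all integers i, n the map H^i(W, M(n)) → H^i(X, M(n)) × H^i(Y, M(n)) whose components are the
restriction maps along i_X and i_Y is bijective. -/
theorem result (V : ObjectProperty Scheme.{u}) [BMCoh.IsConstructible V] (R : Type u) [CommRing R] (A : BMCoh.Coefs R) (T : BMCoh.TheoryOn V R A) {X Y W : BMCoh.Obj V} (iX : X ⟶ W) (iY : Y ⟶ W) (h : Set.range iX.hom = (Set.range iY.hom)ᶜ) (M : A.Cat) (i n : ℤ) : Function.Bijective (fun a : T.gp W M i n => ((T.pull iX M i n).hom a, (T.pull iY M i n).hom a)) := by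
  haveI := iX.isOpenImmersion
  haveI := iY.isOpenImmersion
  have hX : IsClosed (Set.range iX.hom) := by rw [h]; exact iY.hom.isOpenEmbedding.isOpen_range.isClosed_compl
  have hY : IsClosed (Set.range iY.hom) := by
    rw [← compl_compl (Set.range iY.hom), ← h]; exact iX.hom.isOpenEmbedding.isOpen_range.isClosed_compl
  haveI cX : IsClosedImmersion iX.hom := .of_isPreimmersion _ hX
  haveI cY : IsClosedImmersion iY.hom := .of_isPreimmersion _ hY
  let DX : BMCoh.Decomp W :=
    { Z := X, U := Y, i := iX.hom, closedImm := cX, j := iY, range_eq := by rw [h, compl_compl] }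
  let DY : BMCoh.Decomp W :=
    { Z := Y, U := X, i := iY.hom, closedImm := cY, j := iX, range_eq := h }
  have hcX : BMCoh.relCodim X.scheme W.scheme = 0 := by simp [BMCoh.relCodim, iX.dim_eq]
  have hcY : BMCoh.relCodim Y.scheme W.scheme = 0 := by simp [BMCoh.relCodim, iY.dim_eq]
  have hi : ∀ c : ℤ, c = 0 → i = i + 2 * c := by intro c hc; omega
  have hn : ∀ c : ℤ, c = 0 → n = n + c := by intro c hc; omega
  have sX : ∀ b, T.pull iX M i n (T.push iX.hom M i n i n (hi _ hcX) (hn _ hcX) b) = b :=
    Groth.BMCohLib.pull_push_self T.toPreTheory iX.hom iX rfl M i n _ _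
  have sY : ∀ b, T.pull iY M i n (T.push iY.hom M i n i n (hi _ hcY) (hn _ hcY) b) = b :=
    Groth.BMCohLib.pull_push_self T.toPreTheory iY.hom iY rfl M i n _ _
  have zX : ∀ b, T.pull iY M i n (T.push iX.hom M i n i n (hi _ hcX) (hn _ hcX) b) = 0 :=
    Groth.BMCohLib.pull_push_eq_zero T.toPreTheory DX M i n i n (hi _ hcX) (hn _ hcX)
  have zY : ∀ b, T.pull iX M i n (T.push iY.hom M i n i n (hi _ hcY) (hn _ hcY) b) = 0 :=
    Groth.BMCohLib.pull_push_eq_zero T.toPreTheory DY M i n i n (hi _ hcY) (hn _ hcY)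
  refine ⟨fun a b hab => ?_, fun ⟨x, y⟩ => ⟨T.push iX.hom M i n i n (hi _ hcX) (hn _ hcX) x +
    T.push iY.hom M i n i n (hi _ hcY) (hn _ hcY) y, ?_⟩⟩
  · obtain ⟨hx, hy⟩ := Prod.mk.injEq .. ▸ hab
    obtain ⟨c, hc⟩ := (Groth.BMCohLib.exact_pp_apply T.toPreTheory DX M i n i n (hi _ hcX) (hn _ hcX) (a - b)).1
      ((map_sub _ _ _).trans (sub_eq_zero.2 hy))
    have h0 : c = 0 := (sX c).symm.trans ((congrArg (T.pull iX M i n) hc).trans
      ((map_sub _ _ _).trans (sub_eq_zero.2 hx)))
    exact sub_eq_zero.1 (hc.symm.trans (h0 ▸ map_zero _))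
  · exact Prod.ext ((map_add _ _ _).trans ((congrArg₂ (· + ·) (sX x) (zY y)).trans (add_zero x)))
      ((map_add _ _ _).trans ((congrArg₂ (· + ·) (zX x) (sY y)).trans (zero_add y)))

end Groth.Agent.S15883
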