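import Groth.Statements.S15890
import Groth.Agent.VerschLib.Basic

set_option autoImplicit false
universe u v
open Versch

namespace Groth.Agent.S15890

open scoped TensorProduct KaehlerDifferential

/-- Let p be a prime, k a field of characteristic p and A a finite-dimensional commutative and
cocommutative Hopf algebra over k (a finite commutative k-group scheme G = Spec A), and let v : A →
A ⊗_k k^(Frob) be the comorphism of the Verschiebung V : G^(p) → G (the ring map whose transpose
under the canonical pairing is the relative Frobenius of the dual Hopf algebra). Then G is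
multiplicative, i.e. the dual Hopf algebra Hom_k(A, k) of the Cartier dual G^D is étale over k, if
and only if v is bijective, i.e. V is an isomorphism. -/
theorem result (p : ℕ) [Fact p.Prime] (k : Type u) [Field k] [CharP k p]
    (A : Type v) [CommRing A] [HopfAlgebra k A] [Coalgebra.IsCocomm k A] [FiniteDimensional k A]
    (v : A →+* FrobAlg.BaseChange p k A) (hv : Versch.IsVerschiebung p k A v) :
    Algebra.Etale k (CartDual.D k A) ↔ Function.Bijective v := by
  classical
  let b := Module.finBasis k A
  set n := Module.finrank k A
  let φ : Fin n → CartDual.D k A := fun i => WithConv.toConv (b.coord i)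
  have hdual : ∀ a : A, ∑ i, φ i a • b i = a := fun a => b.sum_repr a
  have hδ : ∀ i j, φ i (b j) = if j = i then 1 else 0 := fun i j => b.repr_self_apply j i
  let L : A →ₗ[k] (Fin n → k) := LinearMap.pi fun i => (φ i ^ p).ofConv
  let Ψ : FrobAlg.BaseChange p k A → (Fin n → k) :=
    fun z i => (FrobAlg.toTwist p k).symm (Versch.evTw p k A (φ i) z)
  have hrec : ∀ z : FrobAlg.BaseChange p k A, z = ∑ i, b i ⊗ₜ Versch.evTw p k A (φ i) z := by
    intro z
    induction z using TensorProduct.induction_on with
    | zero => simp
    | add z z' hz hz' =>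
      conv_lhs => rw [hz, hz']
      simp only [map_add, TensorProduct.tmul_add, Finset.sum_add_distrib]
    | tmul a s =>
      conv_lhs => rw [← hdual a, TensorProduct.sum_tmul]
      refine Finset.sum_congr rfl fun i _ => ?_
      rw [Versch.evTw_tmul, ← Algebra.smul_def, TensorProduct.tmul_smul, TensorProduct.smul_tmul']
  have hΨ : Function.Bijective Ψ := by
    refine ⟨fun z z' h => ?_, fun c => ⟨∑ i, b i ⊗ₜ FrobAlg.toTwist p k (c i), ?_⟩⟩
    · rw [hrec z, hrec z']
      refine Finset.sum_congr rfl fun i _ => ?_
      rw [(FrobAlg.toTwist p k).symm.injective (congr_fun h i)]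
    · funext i
      simp only [Ψ]
      rw [Groth.VerschLib.evTw_sum_tmul p (fun i => b i), RingEquiv.symm_apply_eq]
      rw [Finset.sum_eq_single i]
      · rw [hδ, if_pos rfl, one_pow, map_one, one_mul]
      · intro j _ hj
        rw [hδ, if_neg hj, zero_pow (Fact.out : p.Prime).ne_zero, map_zero, zero_mul]
      · simp
  have hcomp : Ψ ∘ v = L := by
    funext a i
    show (FrobAlg.toTwist p k).symm (Versch.evTw p k A (φ i) (v a)) = (φ i ^ p) a
    rw [(Versch.isVerschiebung_iff p k A v).1 hv, RingEquiv.symm_apply_apply]
  have hvL : Function.Bijective v ↔ Function.Injective L := by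
    have hdim : Module.finrank k A = Module.finrank k (Fin n → k) := by
      rw [Module.finrank_fin_fun]
    rw [← Function.Bijective.of_comp_iff' hΨ v, hcomp]
    exact ⟨fun h => h.1, fun h =>
      ⟨h, (LinearMap.injective_iff_surjective_of_finrank_eq_finrank hdim).1 h⟩⟩
  rw [hvL]
  constructor
  · intro het
    let K := AlgebraicClosure k
    haveI : Nontrivial (K ⊗[k] CartDual.D k A) :=
      (Bialgebra.counitAlgHom K (K ⊗[k] CartDual.D k A)).toRingHom.domain_nontrivial
    haveI : CharP (K ⊗[k] CartDual.D k A) p :=
      charP_of_injective_algebraMap (algebraMap k (K ⊗[k] CartDual.D k A)).injective p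
    haveI := Algebra.FormallyUnramified.isReduced_of_field K (K ⊗[k] CartDual.D k A)
    have hli : LinearIndependent k (fun i => φ i ^ p) := by
      rw [Fintype.linearIndependent_iff]
      intro c hc j
      choose d hd using fun i => IsAlgClosed.exists_pow_nat_eq (algebraMap k K (c i))
        (Fact.out : p.Prime).pos
      have h0 : (∑ i, d i ⊗ₜ[k] φ i) ^ p = 0 := by
        refine (sum_pow_char p Finset.univ fun i => d i ⊗ₜ[k] φ i).trans ?_
        simp only [Algebra.TensorProduct.tmul_pow, hd]
        simp only [Algebra.algebraMap_eq_smul_one, TensorProduct.smul_tmul]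
        rw [← TensorProduct.tmul_sum, hc, TensorProduct.tmul_zero]
      have h1 := IsNilpotent.eq_zero ⟨p, h0⟩
      have h2 := congrArg ((TensorProduct.rid k K).toLinearMap ∘ₗ LinearMap.lTensor K
        (LinearMap.applyₗ (b j) ∘ₗ (CartDual.toDual k A).toLinearMap)) h1
      simp only [map_sum, map_zero, LinearMap.coe_comp, LinearEquiv.coe_coe, Function.comp_apply,
        LinearMap.lTensor_tmul, TensorProduct.rid_tmul, LinearMap.applyₗ_apply_apply,
        CartDual.toDual_apply, ← CartDual.coe_apply, hδ] at h2
      have h3 : d j = 0 := by simpa using h2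
      have := hd j
      rw [h3, zero_pow (Fact.out : p.Prime).ne_zero] at this
      exact (map_eq_zero _).1 this.symm
    have hspan := hli.span_eq_top_of_card_eq_finrank' (by
      rw [Fintype.card_fin, (CartDual.toDual k A).finrank_eq, Subspace.dual_finrank_eq])
    rw [injective_iff_map_eq_zero]
    intro a ha
    refine (Module.forall_dual_apply_eq_zero_iff k a).1 fun y => ?_
    have hy : WithConv.toConv y ∈ Submodule.span k (Set.range fun i => φ i ^ p) := by
      rw [hspan]; trivial
    obtain ⟨c, hc⟩ := (Submodule.mem_span_range_iff_exists_fun k).1 hy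
    rw [show y = (WithConv.toConv y).ofConv from rfl, ← hc]
    simp only [WithConv.ofConv_sum, WithConv.ofConv_smul, LinearMap.sum_apply,
      LinearMap.smul_apply]
    refine Finset.sum_eq_zero fun i _ => ?_
    rw [show (φ i ^ p).ofConv a = 0 from congr_fun ha i, smul_zero]
  · intro hL
    haveI : Algebra.FormallyUnramified k (CartDual.D k A) := by
      refine (Algebra.formallyUnramified_iff _ _).2 ⟨fun w w' => ?_⟩
      suffices ∀ w : Ω[CartDual.D k A⁄k], w = 0 by rw [this w, this w']
      intro w
      have hw : w ∈ Submodule.span (CartDual.D k A)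
          (Set.range (KaehlerDifferential.D k (CartDual.D k A))) := by
        rw [KaehlerDifferential.span_range_derivation]; trivial
      refine Submodule.span_induction (fun z hz => ?_) rfl (fun _ _ _ _ h h' => by simp [h, h'])
        (fun r _ _ h => by simp [h]) hw
      obtain ⟨y, rfl⟩ := hz
      obtain ⟨f, hf⟩ := L.dualMap_surjective_of_injective hL y.ofConv
      have hy : y = ∑ i, f (Pi.single i 1) • φ i ^ p := by
        apply WithConv.ext
        apply LinearMap.ext
        intro a
        rw [← hf]
        simp only [LinearMap.dualMap_apply, WithConv.ofConv_sum, WithConv.ofConv_smul,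
          LinearMap.sum_apply, LinearMap.smul_apply]
        conv_lhs => rw [pi_eq_sum_univ' (L a), map_sum]
        refine Finset.sum_congr rfl fun i _ => ?_
        rw [map_smul, smul_eq_mul, smul_eq_mul, mul_comm]
        rfl
      rw [hy, map_sum]
      refine Finset.sum_eq_zero fun i _ => ?_
      rw [Derivation.map_smul, Derivation.leibniz_pow]
      rw [← Nat.cast_smul_eq_nsmul (CartDual.D k A), CharP.cast_eq_zero]
      refine Eq.trans (congrArg (fun t : Ω[CartDual.D k A⁄k] => f (Pi.single i 1) • t) ?_)
        (smul_zero (f (Pi.single i 1)))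
      exact zero_smul (CartDual.D k A) (φ i ^ (p - 1) • KaehlerDifferential.D k (CartDual.D k A) (φ i))
    haveI : Algebra.FinitePresentation k (CartDual.D k A) :=
      Algebra.FinitePresentation.of_finiteType.1 inferInstance
    haveI : Algebra.FormallyEtale k (CartDual.D k A) :=
      Algebra.FormallyEtale.iff_formallyUnramified_of_field.2 inferInstance
    exact {}

end Groth.Agent.S15890
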