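import Groth.Statements.S15891
import Groth.Agent.VerschLib.Basic

set_option autoImplicit false
universe u
open scoped TensorProduct
open Versch

namespace Groth.Agent.S15891

theorem powConv_one_tmul {R : Type u} [CommRing R] {A : Type u} [CommRing A] [HopfAlgebra R A]
    (S : Type u) [CommRing S] [Algebra R S] (m : ℕ) (b : A) :
    SGA3b.powConv S (S ⊗[R] A) m ((1 : S) ⊗ₜ b) = (1 : S) ⊗ₜ SGA3b.powConv R A m b := by
  simp only [SGA3b.powConv]
  induction m generalizing b with
  | zero =>
    rw [pow_zero, pow_zero]
    simp [Algebra.smul_def]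
    exact Algebra.TensorProduct.tmul_one_eq_one_tmul _
  | succ m ih =>
    rw [pow_succ, pow_succ, AlgHom.convMul_apply, AlgHom.convMul_apply]
    simp only [TensorProduct.comul_tmul, CommSemiring.comul_apply]
    generalize Coalgebra.comul (R := R) b = z
    induction z with
    | zero => simp
    | add x y hx hy => simp only [TensorProduct.tmul_add, map_add, hx, hy]
    | tmul x y => simp [ih]

/-- Let p be a prime, R a commutative ring of characteristic p and A a commutative and cocommutative
Hopf algebra over R which is finitely generated and projective as an R-module, of characteristic p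
(a finite locally free commutative group scheme G = Spec A over S = Spec R), and let v : A → A^(p) =
A ⊗_R R^(Frob) be the comorphism of the Verschiebung V : G^(p) → G (the ring map whose transpose
under the canonical pairing is the relative Frobenius of the dual Hopf algebra). Then F ∘ V = [p] is
multiplication by p on the S-group G^(p): the ring endomorphism v ∘ F* of A^(p), where F* : A^(p) →
A is the relative Frobenius comorphism, transported along the symmetry A ⊗_R R^(Frob) ≅ R^(Frob) ⊗_R
A, is the p-th convolution power of the identity of the Hopf algebra R^(Frob) ⊗_R A over R^(Frob)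
(the base change of A along the Frobenius of R). (The published notes work over a Noetherian base
ring; the row allows any commutative base ring of characteristic p.) -/
theorem result (p : ℕ) [Fact p.Prime] (R : Type u) [CommRing R] [CharP R p]
    (A : Type u) [CommRing A] [HopfAlgebra R A] [Coalgebra.IsCocomm R A] [Module.Finite R A] [Module.Projective R A]
    [CharP A p] (v : A →+* FrobAlg.BaseChange p R A) (hv : Versch.IsVerschiebung p R A v) :
    ((Algebra.TensorProduct.comm R A (FrobAlg.Twist p R)).toRingEquiv.toRingHom.comp
        ((v.comp (FrobAlg.relFrob p R A)).comp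
          (Algebra.TensorProduct.comm R A (FrobAlg.Twist p R)).symm.toRingEquiv.toRingHom)) =
      (SGA3b.powConv (FrobAlg.Twist p R) (FrobAlg.Twist p R ⊗[R] A) p).toRingHom := by
  apply RingHom.ext
  intro z
  induction z using TensorProduct.induction_on with
  | zero => simp only [map_zero]
  | add z z' hz hz' => simp only [map_add, hz, hz']
  | tmul t a =>
    obtain ⟨n, e, φ, h⟩ := Groth.VerschLib.exists_dualBasis R A
    have hta : t ⊗ₜ[R] a = algebraMap (FrobAlg.Twist p R) ((FrobAlg.Twist p R) ⊗[R] A) t * ((1 : (FrobAlg.Twist p R)) ⊗ₜ a) := by simp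
    conv_rhs => rw [hta, map_mul]
    have hr : (SGA3b.powConv (FrobAlg.Twist p R) ((FrobAlg.Twist p R) ⊗[R] A) p).toRingHom (algebraMap (FrobAlg.Twist p R) ((FrobAlg.Twist p R) ⊗[R] A) t) =
        algebraMap (FrobAlg.Twist p R) ((FrobAlg.Twist p R) ⊗[R] A) t := (SGA3b.powConv (FrobAlg.Twist p R) ((FrobAlg.Twist p R) ⊗[R] A) p).commutes t
    have hr' : (SGA3b.powConv (FrobAlg.Twist p R) ((FrobAlg.Twist p R) ⊗[R] A) p).toRingHom ((1 : (FrobAlg.Twist p R)) ⊗ₜ[R] a) =
        (1 : (FrobAlg.Twist p R)) ⊗ₜ[R] SGA3b.powConv R A p a := powConv_one_tmul (FrobAlg.Twist p R) p a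
    rw [hr, hr']
    show Algebra.TensorProduct.comm R A (FrobAlg.Twist p R) (v (FrobAlg.relFrob p R A (a ⊗ₜ t))) = _
    rw [Groth.VerschLib.relFrob_tmul, map_mul, map_pow, Groth.VerschLib.apply_smul p hv,
      RingEquiv.apply_symm_apply, map_mul, map_pow, Algebra.TensorProduct.comm_tmul,
      Groth.VerschLib.apply_eq_sum p hv h, map_sum, Groth.VerschLib.powConv_p_apply p h,
      TensorProduct.tmul_sum, mul_comm]
    haveI : CharP ((FrobAlg.Twist p R) ⊗[R] A) p := by
      refine charP_of_injective_algebraMap (R := (FrobAlg.Twist p R)) (fun r s hrs => ?_) p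
      have := congrArg (Coalgebra.counit (R := (FrobAlg.Twist p R)) (A := (FrobAlg.Twist p R) ⊗[R] A)) hrs
      simpa only [Bialgebra.counit_algebraMap] using this
    rw [Algebra.TensorProduct.algebraMap_apply, Algebra.algebraMap_self_apply, sum_pow_char]
    congr 1
    refine Finset.sum_congr rfl fun i _ => ?_
    rw [Algebra.TensorProduct.comm_tmul, Algebra.TensorProduct.tmul_pow, ← map_pow (FrobAlg.toTwist p R),
      ← Algebra.smul_def, TensorProduct.tmul_smul, TensorProduct.smul_tmul',
      Algebra.smul_def, mul_one]
    rfl

end Groth.Agent.S15891
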