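import Groth.Statements.S15893
import Mathlib.LinearAlgebra.Dual.Lemmas

set_option autoImplicit false
universe u v w
open CartDual

namespace Groth.Agent.S15893

/-- Let R be a commutative ring and A, B commutative and cocommutative Hopf algebras over R, each
finitely generated and projective as an R-module (finite locally free commutative group schemes G =
Spec A, H = Spec B over Spec R). Then Cartier duality is a fully faithful contravariant functor: the
map sending a bialgebra homomorphism f : A → B (a homomorphism of group schemes H → G) to its
transpose between the dual Hopf algebras, Hom_R(B, R) → Hom_R(A, R) (the dual homomorphism G^D →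
H^D), is a bijection between bialgebra homomorphisms A → B and bialgebra homomorphisms Hom_R(B, R) →
Hom_R(A, R). (The published statement also asserts that the canonical map to the double dual is an
isomorphism, which makes duality an involutory anti-equivalence; that part is not restated here. The
published notes work over a Noetherian base ring; the row allows any commutative base ring.) -/
theorem result (R : Type u) [CommRing R] (A : Type v) (B : Type w)
    [CommRing A] [HopfAlgebra R A] [Coalgebra.IsCocomm R A] [Module.Finite R A] [Module.Projective R A]
    [CommRing B] [HopfAlgebra R B] [Coalgebra.IsCocomm R B] [Module.Finite R B] [Module.Projective R B] :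
    Function.Bijective (fun f : A →ₐc[R] B => CartDual.transpose R f) := by
  have hev : ∀ (C : Type w) [CommRing C] [HopfAlgebra R C] [Module.Finite R C] [Module.Projective R C],
      Function.Bijective (CartDual.eval R C) := by
    intro C _ _ _ _
    have h1 := Module.bijective_dual_eval R C
    exact ((CartDual.toDual R (CartDual.D R C)).symm.bijective.comp
      ((CartDual.toDual R C).dualMap.bijective.comp h1))
  constructor
  · intro f f' h
    apply BialgHom.ext
    intro a
    apply (hev B).1
    apply WithConv.ext
    apply LinearMap.ext
    intro x
    have := congrArg (fun g : CartDual.D R B →ₐc[R] CartDual.D R A => (g x) a) h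
    simpa using this
  · intro g
    let e := BialgEquiv.ofBijective (R := R) (A := B) (B := CartDual.D R (CartDual.D R B)) (CartDual.eval R B) (hev B)
    let f : A →ₐc[R] B := ((e.symm : CartDual.D R (CartDual.D R B) ≃ₐc[R] B) :
      CartDual.D R (CartDual.D R B) →ₐc[R] B).comp ((CartDual.transpose R g).comp (CartDual.eval R A))
    refine ⟨f, BialgHom.ext fun x => WithConv.ext (LinearMap.ext fun a => ?_)⟩
    change x (f a) = g x a
    have h1 : CartDual.eval R B (f a) = CartDual.transpose R g (CartDual.eval R A a) := by
      change e (e.symm _) = _
      exact e.apply_symm_apply _
    have := congrArg (fun y : CartDual.D R (CartDual.D R B) => y x) h1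
    simpa using this

end Groth.Agent.S15893
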