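import Groth.Statements.S15895
import Groth.Agent.VerschLib.Basic

set_option autoImplicit false
universe u
open scoped TensorProduct
open Versch

namespace Groth.Agent.S15895

/-- Let p be a prime, R a commutative ring of characteristic p and B = Hom_R(R[ℤ/p], R) the dual Hopf
algebra of the group algebra of the cyclic group of order p: the Hopf algebra of the constant group
scheme ℤ/p over Spec R (the Cartier dual of μ_p). Let v : B → B ⊗_R R^(Frob) be the comorphism of
the Verschiebung V : (ℤ/p)^(p) → ℤ/p (the ring map whose transpose under the canonical pairing is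
the relative Frobenius of the dual Hopf algebra of B). Then V is the trivial homomorphism: v is the
composite of the counit ε : B → R, the identity of underlying rings R → R^(Frob) and the inclusion
of the twisted factor R^(Frob) → B ⊗_R R^(Frob), i.e. v(b) = 1 ⊗ ε(b). -/
theorem result (p : ℕ) [Fact p.Prime] (R : Type u) [CommRing R]
    [CharP R p] (v : CartDual.D R (MonoidAlgebra R (Multiplicative (ZMod p))) →+* FrobAlg.BaseChange p R (CartDual.D R (MonoidAlgebra R (Multiplicative (ZMod p)))))
    (hv : Versch.IsVerschiebung p R (CartDual.D R (MonoidAlgebra R (Multiplicative (ZMod p)))) v) :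
    v = ((Algebra.TensorProduct.includeRight (R := R) (A := CartDual.D R (MonoidAlgebra R (Multiplicative (ZMod p))))
            (B := FrobAlg.Twist p R)).toRingHom.comp (FrobAlg.toTwist p R).toRingHom).comp
          (Bialgebra.counitAlgHom R (CartDual.D R (MonoidAlgebra R (Multiplicative (ZMod p))))).toRingHom := by
  let G := Multiplicative (ZMod p)
  haveI : CharP (MonoidAlgebra R G) p := charP_of_injective_algebraMap (R := R)
    (fun r s h => by
      have := congrArg (Coalgebra.counit (R := R) (A := MonoidAlgebra R G)) h
      simpa [Bialgebra.counit_algebraMap] using this) p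
  have hp : ∀ a : MonoidAlgebra R G,
      a ^ p = algebraMap R (MonoidAlgebra R G) (Coalgebra.counit (R := R) a ^ p) := by
    intro a
    induction a using MonoidAlgebra.induction_linear with
    | zero => simp [(Fact.out : p.Prime).ne_zero]
    | add a b ha hb => rw [add_pow_char, ha, hb, map_add, add_pow_char, map_add]
    | single g r =>
      have hg : g ^ p = 1 := by
        apply Multiplicative.toAdd.injective
        rw [toAdd_pow, toAdd_one, nsmul_eq_mul, CharP.cast_eq_zero, zero_mul]
      rw [MonoidAlgebra.single_pow, hg, MonoidAlgebra.counit_single]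
      simp [MonoidAlgebra.coe_algebraMap]
  apply RingHom.ext
  intro b
  apply Versch.evTw_injective p R (CartDual.D R (MonoidAlgebra R G))
  intro y
  rw [(Versch.isVerschiebung_iff p R (CartDual.D R (MonoidAlgebra R G)) v).1 hv]
  refine Eq.trans ?_ (Versch.evTw_tmul' p R (CartDual.D R (MonoidAlgebra R G)) y 1
    (FrobAlg.toTwist p R (Coalgebra.counit (R := R) b))).symm
  rw [← map_mul]
  congr 1
  obtain ⟨a, rfl⟩ : ∃ a, CartDual.eval R (MonoidAlgebra R G) a = y := by
    obtain ⟨a, ha⟩ := (Module.bijective_dual_eval R (MonoidAlgebra R G)).2
      (y.ofConv ∘ₗ (CartDual.toDual R (MonoidAlgebra R G)).symm.toLinearMap)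
    refine ⟨a, ?_⟩
    apply WithConv.ext
    apply LinearMap.ext
    intro z
    exact LinearMap.congr_fun ha z.ofConv
  rw [← map_pow, hp]
  rw [CartDual.eval_apply, CartDual.eval_apply, LinearMap.convOne_apply]
  rw [Algebra.algebraMap_eq_smul_one, CartDual.coe_apply, map_smul, smul_eq_mul]
  rfl

end Groth.Agent.S15895
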