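import Groth.Statements.S15906
import Groth.Agent.Surfaces.DPConics

set_option autoImplicit false
open Surf

namespace Groth.Agent.S15906

def typesList : List (List ℕ) :=
  [[1, 1, 0, 0, 0, 0, 0, 0, 0],
    [2, 1, 1, 1, 1, 0, 0, 0, 0],
    [3, 2, 1, 1, 1, 1, 1, 0, 0],
    [4, 2, 2, 2, 1, 1, 1, 1, 0],
    [4, 3, 1, 1, 1, 1, 1, 1, 1],
    [5, 2, 2, 2, 2, 2, 2, 1, 0],
    [5, 3, 2, 2, 2, 1, 1, 1, 1],
    [6, 3, 3, 2, 2, 2, 2, 1, 1],
    [7, 3, 3, 3, 3, 2, 2, 2, 1],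
    [7, 4, 3, 2, 2, 2, 2, 2, 2],
    [8, 4, 3, 3, 3, 3, 2, 2, 2],
    [8, 3, 3, 3, 3, 3, 3, 3, 1],
    [9, 4, 4, 3, 3, 3, 3, 3, 2],
    [10, 4, 4, 4, 4, 3, 3, 3, 3],
    [11, 4, 4, 4, 4, 4, 4, 4, 3]]

open W4c3severiratdp Groth.Surfaces.DPConics in
lemma sorted_conic_mem (w : DP 8) (hw : IsConic w) (hanti : Antitone fun i : Fin 8 => w i.succ) :
    toList w ∈ typesList := by
  have h1 := toList_mem le_rfl hw
  have h2 : ∀ l ∈ conicList 8, (l.tail.zip l.tail.tail).all (fun p => decide (p.2 ≤ p.1)) = true →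
      l ∈ typesList := by
    decide +kernel
  refine h2 _ h1 ?_
  simp [toList, List.ofFn_succ]
  exact ⟨Or.inl (hanti (show (0 : Fin 8) ≤ 1 by decide)), Or.inl (hanti (show (1 : Fin 8) ≤ 2 by decide)), Or.inl (hanti (show (2 : Fin 8) ≤ 3 by decide)), Or.inl (hanti (show (3 : Fin 8) ≤ 4 by decide)), Or.inl (hanti (show (4 : Fin 8) ≤ 5 by decide)), Or.inl (hanti (show (5 : Fin 8) ≤ 6 by decide)), Or.inl (hanti (show (6 : Fin 8) ≤ 7 by decide))⟩

open W4c3severiratdp in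
/-- Work in the lattice of vectors (a; b_1, …, b_δ), standing for divisor classes a ℓ − Σ b_i e_i on the
blow-up of the projective plane at δ points written in a standard basis, with intersection form a a'
− Σ b_i b_i' and canonical class K = (−3; −1, …, −1); a conic class is a class Q with Q·Q = 0 and
K·Q = −2, an exceptional class (the class of a (−1)-curve) is a class E with E·E = −1 and K·E = −1,
and the Weyl group W_δ is the group of additive automorphisms of the lattice preserving the form and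
fixing K. For δ = 8, a class (a; b_1, …, b_8) is a conic class if and only if, up to a permutation
of b_1, …, b_8, it is one of the fifteen vectors (1; 1, 0, 0, 0, 0, 0, 0, 0), (2; 1, 1, 1, 1, 0, 0,
0, 0), (3; 2, 1, 1, 1, 1, 1, 0, 0), (4; 2, 2, 2, 1, 1, 1, 1, 0), (4; 3, 1, 1, 1, 1, 1, 1, 1), (5; 2,
2, 2, 2, 2, 2, 1, 0), (5; 3, 2, 2, 2, 1, 1, 1, 1), (6; 3, 3, 2, 2, 2, 2, 1, 1), (7; 3, 3, 3, 3, 2,
2, 2, 1), (7; 4, 3, 2, 2, 2, 2, 2, 2), (8; 4, 3, 3, 3, 3, 2, 2, 2), (8; 3, 3, 3, 3, 3, 3, 3, 1), (9;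
4, 4, 3, 3, 3, 3, 3, 2), (10; 4, 4, 4, 4, 3, 3, 3, 3), (11; 4, 4, 4, 4, 4, 4, 4, 3). (One line of
the published table is illegible in the available copy; the fifteen vectors here are the complete
solution set of the two defining equations a² = Σ b_i², 3a − Σ b_i = 2.) -/
theorem result (v : DP 8) :
    IsConic v ↔
      ∃ t ∈ ({![1, 1, 0, 0, 0, 0, 0, 0, 0],
        ![2, 1, 1, 1, 1, 0, 0, 0, 0],
        ![3, 2, 1, 1, 1, 1, 1, 0, 0],
        ![4, 2, 2, 2, 1, 1, 1, 1, 0],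
        ![4, 3, 1, 1, 1, 1, 1, 1, 1],
        ![5, 2, 2, 2, 2, 2, 2, 1, 0],
        ![5, 3, 2, 2, 2, 1, 1, 1, 1],
        ![6, 3, 3, 2, 2, 2, 2, 1, 1],
        ![7, 3, 3, 3, 3, 2, 2, 2, 1],
        ![7, 4, 3, 2, 2, 2, 2, 2, 2],
        ![8, 4, 3, 3, 3, 3, 2, 2, 2],
        ![8, 3, 3, 3, 3, 3, 3, 3, 1],
        ![9, 4, 4, 3, 3, 3, 3, 3, 2],
        ![10, 4, 4, 4, 4, 3, 3, 3, 3],
        ![11, 4, 4, 4, 4, 4, 4, 4, 3]} : Set (DP 8)),
        ∃ σ : Equiv.Perm (Fin 8), v 0 = t 0 ∧ ∀ i : Fin 8, v (σ i).succ = t i.succ := by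
  constructor
  · intro hv
    obtain ⟨h1, h2⟩ := (Groth.Surfaces.DPConics.isConic_iff v).1 hv
    obtain ⟨-, -, hnn⟩ := Groth.Surfaces.DPConics.bounds_of_isConic le_rfl hv
    let σ : Equiv.Perm (Fin 8) := Tuple.sort (fun i : Fin 8 => -v i.succ)
    let w : DP 8 := Fin.cases (v 0) (fun i => v (σ i).succ)
    have hanti : Antitone fun i : Fin 8 => w i.succ := by
      intro i j hij
      have := Tuple.monotone_sort (fun i : Fin 8 => -v i.succ) hij
      simpa [w, σ] using this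
    have hw : IsConic w := by
      rw [Groth.Surfaces.DPConics.isConic_iff]
      simp only [w, Fin.cases_zero, Fin.cases_succ]
      exact ⟨(Equiv.sum_comp σ (fun i : Fin 8 => v i.succ)).trans h1,
        (Equiv.sum_comp σ (fun i : Fin 8 => v i.succ ^ 2)).trans h2⟩
    have hmem := sorted_conic_mem w hw hanti
    simp only [Set.mem_insert_iff, Set.mem_singleton_iff]
    refine ⟨w, ?_, σ, by simp [w], fun i => by simp [w]⟩
    simp only [typesList, List.mem_cons, List.not_mem_nil, or_false] at hmem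
    have key : ∀ t : DP 8, IsConic t → Groth.Surfaces.DPConics.toList w =
        Groth.Surfaces.DPConics.toList t → w = t :=
      fun t ht h => Groth.Surfaces.DPConics.toList_injOn le_rfl hw ht h
    rcases hmem with h | h | h | h | h | h | h | h | h | h | h | h | h | h | h
    · exact Or.inl (key ![1, 1, 0, 0, 0, 0, 0, 0, 0] (by rw [Groth.Surfaces.DPConics.isConic_iff]; decide) (h.trans (by decide)))
    · exact Or.inr (Or.inl (key ![2, 1, 1, 1, 1, 0, 0, 0, 0] (by rw [Groth.Surfaces.DPConics.isConic_iff]; decide) (h.trans (by decide))))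
    · exact Or.inr (Or.inr (Or.inl (key ![3, 2, 1, 1, 1, 1, 1, 0, 0] (by rw [Groth.Surfaces.DPConics.isConic_iff]; decide) (h.trans (by decide)))))
    · exact Or.inr (Or.inr (Or.inr (Or.inl (key ![4, 2, 2, 2, 1, 1, 1, 1, 0] (by rw [Groth.Surfaces.DPConics.isConic_iff]; decide) (h.trans (by decide))))))
    · exact Or.inr (Or.inr (Or.inr (Or.inr (Or.inl (key ![4, 3, 1, 1, 1, 1, 1, 1, 1] (by rw [Groth.Surfaces.DPConics.isConic_iff]; decide) (h.trans (by decide)))))))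
    · exact Or.inr (Or.inr (Or.inr (Or.inr (Or.inr (Or.inl (key ![5, 2, 2, 2, 2, 2, 2, 1, 0] (by rw [Groth.Surfaces.DPConics.isConic_iff]; decide) (h.trans (by decide))))))))
    · exact Or.inr (Or.inr (Or.inr (Or.inr (Or.inr (Or.inr (Or.inl (key ![5, 3, 2, 2, 2, 1, 1, 1, 1] (by rw [Groth.Surfaces.DPConics.isConic_iff]; decide) (h.trans (by decide)))))))))
    · exact Or.inr (Or.inr (Or.inr (Or.inr (Or.inr (Or.inr (Or.inr (Or.inl (key ![6, 3, 3, 2, 2, 2, 2, 1, 1] (by rw [Groth.Surfaces.DPConics.isConic_iff]; decide) (h.trans (by decide))))))))))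
    · exact Or.inr (Or.inr (Or.inr (Or.inr (Or.inr (Or.inr (Or.inr (Or.inr (Or.inl (key ![7, 3, 3, 3, 3, 2, 2, 2, 1] (by rw [Groth.Surfaces.DPConics.isConic_iff]; decide) (h.trans (by decide)))))))))))
    · exact Or.inr (Or.inr (Or.inr (Or.inr (Or.inr (Or.inr (Or.inr (Or.inr (Or.inr (Or.inl (key ![7, 4, 3, 2, 2, 2, 2, 2, 2] (by rw [Groth.Surfaces.DPConics.isConic_iff]; decide) (h.trans (by decide))))))))))))
    · exact Or.inr (Or.inr (Or.inr (Or.inr (Or.inr (Or.inr (Or.inr (Or.inr (Or.inr (Or.inr (Or.inl (key ![8, 4, 3, 3, 3, 3, 2, 2, 2] (by rw [Groth.Surfaces.DPConics.isConic_iff]; decide) (h.trans (by decide)))))))))))))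
    · exact Or.inr (Or.inr (Or.inr (Or.inr (Or.inr (Or.inr (Or.inr (Or.inr (Or.inr (Or.inr (Or.inr (Or.inl (key ![8, 3, 3, 3, 3, 3, 3, 3, 1] (by rw [Groth.Surfaces.DPConics.isConic_iff]; decide) (h.trans (by decide))))))))))))))
    · exact Or.inr (Or.inr (Or.inr (Or.inr (Or.inr (Or.inr (Or.inr (Or.inr (Or.inr (Or.inr (Or.inr (Or.inr (Or.inl (key ![9, 4, 4, 3, 3, 3, 3, 3, 2] (by rw [Groth.Surfaces.DPConics.isConic_iff]; decide) (h.trans (by decide)))))))))))))))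
    · exact Or.inr (Or.inr (Or.inr (Or.inr (Or.inr (Or.inr (Or.inr (Or.inr (Or.inr (Or.inr (Or.inr (Or.inr (Or.inr (Or.inl (key ![10, 4, 4, 4, 4, 3, 3, 3, 3] (by rw [Groth.Surfaces.DPConics.isConic_iff]; decide) (h.trans (by decide))))))))))))))))
    · exact Or.inr (Or.inr (Or.inr (Or.inr (Or.inr (Or.inr (Or.inr (Or.inr (Or.inr (Or.inr (Or.inr (Or.inr (Or.inr (Or.inr ((key ![11, 4, 4, 4, 4, 4, 4, 4, 3] (by rw [Groth.Surfaces.DPConics.isConic_iff]; decide) (h.trans (by decide)))))))))))))))))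

  · rintro ⟨t, ht, σ, h0, hσ⟩
    rw [Groth.Surfaces.DPConics.isConic_iff, h0, ← Equiv.sum_comp σ (fun i : Fin 8 => v i.succ),
      ← Equiv.sum_comp σ (fun i : Fin 8 => v i.succ ^ 2)]
    simp only [hσ]
    simp only [Set.mem_insert_iff, Set.mem_singleton_iff] at ht
    rcases ht with rfl | rfl | rfl | rfl | rfl | rfl | rfl | rfl | rfl | rfl | rfl | rfl | rfl | rfl | rfl <;>
      decide

end Groth.Agent.S15906
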