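import Groth.Statements.S15908
import Groth.Agent.Surfaces.DPOrbits

set_option autoImplicit false
open Surf Groth.Surfaces.DPOrbits Groth.Surfaces.DPWeyl

namespace Groth.Agent.S15908

open W4c3severiratdp Groth.Surfaces.DPWeyl in
def A : DP 8 := ofList 8 0 [4, 0, 2, 2, 2, 1, 1, 1, 1]

open W4c3severiratdp Groth.Surfaces.DPWeyl in
def B : DP 8 := ofList 8 0 [5, 1, 2, 2, 2, 2, 2, 2, 0]

open W4c3severiratdp Groth.Surfaces.DPOrbits in
instance : DecidablePred (IsConic (δ := 8)) := fun v =>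
  inferInstanceAs (Decidable (form v v = 0 ∧ form (canon 8) v = -2))

open W4c3severiratdp Groth.Surfaces.DPOrbits in
lemma chamber_four : ∀ w ∈ chamber 8 1 0, form (Q0 8) w = 4 → w = A ∨ w = B := by
  decide +kernel


open W4c3severiratdp in
/-- Work in the lattice of vectors (a; b_1, …, b_δ), standing for divisor classes a ℓ − Σ b_i e_i on the
blow-up of the projective plane at δ points written in a standard basis, with intersection form a a'
− Σ b_i b_i' and canonical class K = (−3; −1, …, −1); a conic class is a class Q with Q·Q = 0 and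
K·Q = −2, an exceptional class (the class of a (−1)-curve) is a class E with E·E = −1 and K·E = −1,
and the Weyl group W_δ is the group of additive automorphisms of the lattice preserving the form and
fixing K. For δ = 8 the ordered pairs (Q_1, Q_2) of conic classes with Q_1·Q_2 = 4 form exactly two
W_8-orbits: there are two such pairs that no element of W_8 carries one to the other, and every such
pair is carried by an element of W_8 to one of these two. -/
theorem result :
    ∃ p₁ p₂ q₁ q₂ : DP 8, IsConic p₁ ∧ IsConic p₂ ∧ IsConic q₁ ∧ IsConic q₂ ∧ form p₁ p₂ = 4 ∧ form q₁ q₂ = 4 ∧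
      (¬ ∃ g : DP 8 ≃ₗ[ℤ] DP 8, IsWeyl g ∧ g p₁ = q₁ ∧ g p₂ = q₂) ∧
      ∀ v₁ v₂ : DP 8, IsConic v₁ → IsConic v₂ → form v₁ v₂ = 4 →
        ∃ g : DP 8 ≃ₗ[ℤ] DP 8, IsWeyl g ∧ ((g v₁ = p₁ ∧ g v₂ = p₂) ∨ (g v₁ = q₁ ∧ g v₂ = q₂)) := by
  refine ⟨Q0 8, A, Q0 8, B, by decide +kernel, by decide +kernel, by decide +kernel,
    by decide +kernel, by decide +kernel, by decide +kernel, ?_, ?_⟩
  · rintro ⟨g, -, h1, h2⟩
    let y : DP 8 := Fin.cases (-2) fun i => if i = 0 then 0 else if i = 7 then 0 else -1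
    have hy : Q0 8 - B = (2 : ℤ) • y := by decide +kernel
    have h3 : g (Q0 8 - A) = (2 : ℤ) • y := by rw [map_sub, h1, h2, hy]
    have h4 : Q0 8 - A = (2 : ℤ) • g.symm y := by
      rw [← g.symm_apply_apply (Q0 8 - A), h3, map_smul]
    have h5 := congrFun h4 0
    rw [Pi.smul_apply, smul_eq_mul, show (Q0 8 - A) 0 = -3 by decide +kernel] at h5
    omega
  · intro v₁ v₂ hv₁ hv₂ h
    obtain ⟨g, w, hg, g1, g2, hw, hf⟩ := pair_normal (by norm_num) le_rfl hv₁ hv₂
    rw [h] at hf
    rcases chamber_four w hw hf with rfl | rfl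
    · exact ⟨g, hg, Or.inl ⟨g1, g2⟩⟩
    · exact ⟨g, hg, Or.inr ⟨g1, g2⟩⟩

end Groth.Agent.S15908
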