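import Groth.Statements.S15910
import Groth.Agent.Surfaces.DPOrbits

set_option autoImplicit false
open Surf

namespace Groth.Agent.S15910

open W4c3severiratdp Groth.Surfaces.DPWeyl Groth.Surfaces.DPOrbits

def R1 : DP 8 := ofList 8 1 [1, 2, 2, 1, 1, 1, 1, 1, 1]
def R2 : DP 8 := ofList 8 1 [3, 3, 2, 2, 2, 2, 2, 2, 1]
def R3 : DP 8 := ofList 8 1 [6, 4, 3, 3, 3, 3, 3, 3, 3]
def X1 : DP 8 := ofList 8 1 [2, 1, 1, 2, 2, 2, 2, 2, 1]
def tgt : DP 8 := L0 - 2 • canon 8

def reps : Fin 4 → Fin 3 → DP 8 :=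
  ![![R3, L0, tgt - R3 - L0], ![R2, L0, tgt - R2 - L0], ![R1, L0, tgt - R1 - L0],
    ![R1, X1, tgt - R1 - X1]]

lemma reps_spec : ∀ j, (∀ i, IsExc (reps j i)) ∧ reps j 0 + reps j 1 + reps j 2 = tgt := by
  decide +kernel

lemma reps_sep : ∀ (j j' : Fin 4) (σ : Equiv.Perm (Fin 3)),
    (∀ i, form L0 (reps j (σ i)) = form L0 (reps j' i)) → j = j' := by
  decide +kernel

lemma chamber_L0 : ∀ v ∈ excChamber 1 1, (form L0 v = 1 → v = R1) ∧ (form L0 v = 2 → v = R2) ∧
    (form L0 v = 3 → v = R3) ∧ (form L0 v = -1 → v = L0) := by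
  decide +kernel

lemma form_L0_range : ∀ v ∈ excVecs, -1 ≤ form L0 v ∧ form L0 v ≤ 3 := by decide +kernel

lemma chamber_stab : ∀ v ∈ excChamber 2 1,
    form L0 v = 0 → IsExc (tgt - R1 - v) → v = X1 := by
  decide +kernel

lemma eq_L0 {v : DP 8} (hv : IsExc v) (h : form L0 v = -1) : v = L0 := by
  obtain ⟨w, hw, hmem⟩ := exc_normal hv
  have := (chamber_L0 w hmem).2.2.2 (by rw [hw.form_fixed_eq (List.mem_singleton.2 rfl), h])
  subst this
  obtain ⟨g, -, hF, hg⟩ := hw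
  exact g.injective (hg.trans (hF L0 (List.mem_singleton.2 rfl)).symm)

lemma pick3 : ∀ a b c : Fin 5, (a : ℕ) + b + c = 4 → ∃ σ : Equiv.Perm (Fin 3),
    (2 ≤ (![a, b, c] (σ 0) : ℕ) ∧ (![a, b, c] (σ 1) : ℕ) = 0) ∨
      ((![a, b, c] (σ 0) : ℕ) = 2 ∧ (![a, b, c] (σ 1) : ℕ) = 1) := by
  decide +kernel

lemma tgt_fixed {g : DP 8 ≃ₗ[ℤ] DP 8} (hg : IsWeyl g) (hF : g L0 = L0) : g tgt = tgt := by
  simp only [tgt, map_sub, map_nsmul, hF, hg.2]

lemma orbits_L0 (t : Fin 3 → DP 8) (ht : ∀ i, IsExc (t i)) (hsum : t 0 + t 1 + t 2 = tgt) :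
    ∃ j, ∃ g : DP 8 ≃ₗ[ℤ] DP 8, IsWeyl g ∧ g L0 = L0 ∧
      ∃ σ : Equiv.Perm (Fin 3), ∀ i, g (t (σ i)) = reps j i := by
  have hb : ∀ i, ∃ a : Fin 5, ((a : ℕ) : ℤ) = form L0 (t i) + 1 := fun i => by
    have := form_L0_range _ (mem_excVecs (ht i))
    exact ⟨⟨(form L0 (t i) + 1).toNat, by omega⟩, by simp; omega⟩
  choose a ha using hb
  have hs : (a 0 : ℕ) + a 1 + a 2 = 4 := by
    have h := congrArg (form L0) hsum
    rw [form_add_right, form_add_right, show form L0 tgt = 1 by decide +kernel] at h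
    have := ha 0
    have := ha 1
    have := ha 2
    omega
  have hvec : ![a 0, a 1, a 2] = a := by ext i; fin_cases i <;> rfl
  obtain ⟨σ, hσ⟩ := pick3 _ _ _ hs
  rw [hvec] at hσ
  have hsum' : t (σ 0) + t (σ 1) + t (σ 2) = tgt := by
    have := Equiv.sum_comp σ t
    simp only [Fin.sum_univ_three] at this
    rw [this, hsum]
  have h2 : t (σ 2) = tgt - t (σ 0) - t (σ 1) := by rw [← hsum']; abel
  obtain ⟨u, hu, humem⟩ := exc_normal (ht (σ 0))
  have hu' := hu.form_fixed_eq (List.mem_singleton.2 rfl)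
  obtain ⟨g, hg, hgF, hgu⟩ := hu
  have hgL : g L0 = L0 := hgF _ (List.mem_singleton.2 rfl)
  have finish : ∀ (h : DP 8 ≃ₗ[ℤ] DP 8) (j : Fin 4), IsWeyl h → h L0 = L0 →
      h (t (σ 0)) = reps j 0 → h (t (σ 1)) = reps j 1 →
      ∃ j, ∃ g : DP 8 ≃ₗ[ℤ] DP 8, IsWeyl g ∧ g L0 = L0 ∧
        ∃ σ : Equiv.Perm (Fin 3), ∀ i, g (t (σ i)) = reps j i := by
    intro h j hh hL h0 h1
    refine ⟨j, h, hh, hL, σ, fun i => ?_⟩
    fin_cases i
    · exact h0
    · exact h1
    · show h (t (σ 2)) = reps j 2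
      rw [h2, map_sub, map_sub, h0, h1, tgt_fixed hh hL]
      have := (reps_spec j).2
      rw [← this]
      abel
  have ha0 := ha (σ 0)
  have ha1 := ha (σ 1)
  obtain ⟨c1, c2, c3, -⟩ := chamber_L0 u humem
  rcases hσ with ⟨h0, h1⟩ | ⟨h0, h1⟩
  · have e1 : t (σ 1) = L0 := eq_L0 (ht _) (by omega)
    have hlt := (a (σ 0)).isLt
    rcases (show (a (σ 0) : ℕ) = 2 ∨ (a (σ 0) : ℕ) = 3 ∨ (a (σ 0) : ℕ) = 4 by omega) with e | e | e
    · exact finish g 2 hg hgL (by rw [hgu, c1 (by omega)]; rfl) (by rw [e1, hgL]; rfl)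
    · exact finish g 1 hg hgL (by rw [hgu, c2 (by omega)]; rfl) (by rw [e1, hgL]; rfl)
    · exact finish g 0 hg hgL (by rw [hgu, c3 (by omega)]; rfl) (by rw [e1, hgL]; rfl)
  · have eu : u = R1 := c1 (by omega)
    subst eu
    have hgweyl : ∀ x, IsExc x → IsExc (g x) := fun x hx =>
      Rel.isExc ⟨g, hg, (by simp : ∀ f ∈ ([] : List (DP 8)), g f = f), rfl⟩ hx
    let S : DP 8 → Prop := fun x => IsExc x ∧ form L0 x = 0 ∧ IsExc (tgt - R1 - x)
    have hS : ∀ v w, Rel [L0, R1] v w → S v → S w := by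
      rintro v w hr ⟨s1, s2, s3⟩
      refine ⟨hr.isExc s1, by rw [hr.form_fixed_eq (by simp), s2], ?_⟩
      obtain ⟨f, hf, hfF, rfl⟩ := hr
      have := Rel.isExc ⟨f, hf, hfF, rfl⟩ s3
      rwa [map_sub, map_sub, tgt_fixed hf (hfF _ (by simp)), hfF R1 (by simp)] at this
    have hSx : S (g (t (σ 1))) := by
      refine ⟨hgweyl _ (ht _), ?_, ?_⟩
      · rw [← hgL, hg.1]; omega
      · have := hgweyl _ (ht (σ 2))
        rwa [h2, map_sub, map_sub, tgt_fixed hg hgL, hgu] at this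
    obtain ⟨w, hw, hSw, hT, hsort⟩ := descend [L0, R1] 2
      (by intro f hf; simp at hf; rcases hf with rfl | rfl <;> decide +kernel) S
      (fun w => term 1 w = true) hS (fun u hu => (bounds_of_isExc hu.1).1)
      (fun u _ _ => step [L0, R1] 1
        (by intro f hf; simp at hf; rcases hf with rfl | rfl <;> decide +kernel) u) _ hSx
    have ew := chamber_stab w (mem_excChamber hSw.1 hsort hT) hSw.2.1 hSw.2.2
    subst ew
    obtain ⟨f, hf, hfF, hfw⟩ := hw
    refine finish (g.trans f) 3 (isWeyl_trans hg hf) ?_ ?_ ?_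
    · rw [LinearEquiv.trans_apply, hgL, hfF _ (by simp)]
    · rw [LinearEquiv.trans_apply, hgu, hfF _ (by simp)]; rfl
    · rw [LinearEquiv.trans_apply, hfw]; rfl


open W4c3severiratdp in
/-- Work in the lattice of vectors (a; b_1, …, b_δ), standing for divisor classes a ℓ − Σ b_i e_i on the
blow-up of the projective plane at δ points written in a standard basis, with intersection form a a'
− Σ b_i b_i' and canonical class K = (−3; −1, …, −1); a conic class is a class Q with Q·Q = 0 and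
K·Q = −2, an exceptional class (the class of a (−1)-curve) is a class E with E·E = −1 and K·E = −1,
and the Weyl group W_δ is the group of additive automorphisms of the lattice preserving the form and
fixing K. Let δ = 8 and let L be an exceptional class. Let B be the set of unordered triples {λ_1,
λ_2, λ_3} of exceptional classes (repetitions allowed) with λ_1 + λ_2 + λ_3 = −2K + L. Then the
stabilizer of L in W_8 has exactly four orbits on B. Triples are written as maps Fin 3 → lattice and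
compared up to reordering: there are four members of B, no two of which are identified by an element
of the stabilizer followed by a reordering, and every member of B is so identified with one of the
four. -/
theorem result (L : DP 8) (hL : IsExc L) :
    ∃ r : Fin 4 → (Fin 3 → DP 8),
      (∀ j, (∀ i, IsExc (r j i)) ∧ r j 0 + r j 1 + r j 2 = L - 2 • canon 8) ∧
      (∀ j j', (∃ g : DP 8 ≃ₗ[ℤ] DP 8, IsWeyl g ∧ g L = L ∧ ∃ σ : Equiv.Perm (Fin 3), ∀ i, g (r j (σ i)) = r j' i) → j = j') ∧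
      ∀ t : Fin 3 → DP 8, (∀ i, IsExc (t i)) → t 0 + t 1 + t 2 = L - 2 • canon 8 →
        ∃ j, ∃ g : DP 8 ≃ₗ[ℤ] DP 8, IsWeyl g ∧ g L = L ∧ ∃ σ : Equiv.Perm (Fin 3), ∀ i, g (t (σ i)) = r j i := by
  obtain ⟨h, hh, -, hhL⟩ := exc_rel_L0 hL
  have htgt : h (L - 2 • canon 8) = tgt := by simp only [tgt, map_sub, map_nsmul, hhL, hh.2]
  have hexc : ∀ {g : DP 8 ≃ₗ[ℤ] DP 8}, IsWeyl g → ∀ x, IsExc x → IsExc (g x) := fun {g} hg x hx =>
    Rel.isExc ⟨g, hg, (by simp : ∀ f ∈ ([] : List (DP 8)), g f = f), rfl⟩ hx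
  refine ⟨fun j i => h.symm (reps j i), fun j => ⟨fun i => hexc (isWeyl_symm hh) _
    ((reps_spec j).1 i), ?_⟩, ?_, ?_⟩
  · simp only [← map_add, (reps_spec j).2]
    rw [LinearEquiv.symm_apply_eq]
    exact htgt.symm
  · rintro j j' ⟨g, hg, hgL, σ, hσ⟩
    dsimp only at hσ
    refine reps_sep j j' σ fun i => ?_
    rw [← hhL, ← h.apply_symm_apply (reps j (σ i)), ← h.apply_symm_apply (reps j' i), hh.1, hh.1,
      ← hσ i]
    conv_rhs => rw [← hgL]
    rw [hg.1]
  · intro t ht hsum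
    obtain ⟨j, g, hg, hgL, σ, hσ⟩ := orbits_L0 (fun i => h (t i)) (fun i => hexc hh _ (ht i))
      (by rw [← map_add, ← map_add, hsum, htgt])
    refine ⟨j, (h.trans g).trans h.symm, isWeyl_trans (isWeyl_trans hh hg) (isWeyl_symm hh), ?_,
      σ, fun i => ?_⟩
    · rw [LinearEquiv.trans_apply, LinearEquiv.trans_apply, LinearEquiv.symm_apply_eq, hhL, hgL]
    · rw [LinearEquiv.trans_apply, LinearEquiv.trans_apply, hσ i]

end Groth.Agent.S15910
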