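import Groth.Statements.S15938
import Groth.Agent.PicAux.QCoh
import Groth.Agent.ThetaAlg.DescLF
import Groth.Agent.QCohMod.QCQS
import Groth.Agent.PicAux.PushPull
import Groth.Agent.GrpschAbsch.H0General
import Groth.Agent.PicAux.Tensor
import Groth.Agent.LocFree.ExtPow
import Groth.Agent.OmegaSheaf.Smooth
import Groth.Agent.Chow.Segre
import Groth.Agent.AlgGrp1.SmoothReduced
-- import your own Groth.Agent.* helpers here

set_option autoImplicit false
universe u
open CategoryTheory CategoryTheory.Limits AlgebraicGeometry
open Canon

namespace Groth.Agent.S15938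


/-- Let S be a locally Noetherian scheme, f : X ⟶ S locally projective and smooth of relative dimension
n with non-empty geometrically connected fibres, ω an n-th exterior power of the relative
differentials (the relative canonical sheaf K_{X/S}), and m ≥ 1 such that the evaluation map f^* f_*
K^{⊗m} ⟶ K^{⊗m} is an isomorphism. Then the formation of f_* K^{⊗m} commutes with base change: for
every morphism g : S′ ⟶ S with S′ locally Noetherian, writing f′ : X ×_S S′ ⟶ S′ and g′ : X ×_S S′ ⟶
X for the projections, the base-change morphism g^* f_* K^{⊗m} ⟶ f′_* g′^* K^{⊗m} (adjoint to g′^*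
of the evaluation map, through the canonical identifications of iterated pullbacks) is an
isomorphism. (The published statement has f projective and smooth, of possibly varying relative
dimension; this row takes f locally projective of constant relative dimension n and base changes by
locally Noetherian schemes.) -/
theorem result
    {X S : Scheme.{u}} [IsLocallyNoetherian S] (f : X ⟶ S)
    (hproj : RedSub.IsLocallyProjective (Over.mk f))
    (n : ℕ) [SmoothOfRelativeDimension n f] [GeometricallyConnected f]
    (ω : X.Modules) (hω : Canon.IsTopDiff f n ω) (m : ℕ) (hm : 1 ≤ m)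
    (hev : IsIso ((Scheme.Modules.pullbackPushforwardAdjunction f).counit.app (CohB1.tensorPow ω m)))
    {S' : Scheme.{u}} [IsLocallyNoetherian S'] (g : S' ⟶ S) :
    IsIso (((Scheme.Modules.pullbackPushforwardAdjunction (pullback.snd f g)).homEquiv _ _)
      ((Scheme.Modules.pullbackComp (pullback.snd f g) g).hom.app _ ≫
        (Scheme.Modules.pullbackCongr (pullback.condition (f := f) (g := g))).inv.app _ ≫
        (Scheme.Modules.pullbackComp (pullback.fst f g) f).inv.app _ ≫
        (Scheme.Modules.pullback (pullback.fst f g)).map
          ((Scheme.Modules.pullbackPushforwardAdjunction f).counit.app (CohB1.tensorPow ω m)))) := by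
  have hp : IsProper f := by
    choose V hV n' e he hcomp using hproj
    refine IsZariskiLocalAtTarget.of_iSup_eq_top V (eq_top_iff.2 fun s _ => TopologicalSpace.Opens.mem_iSup.2 ⟨s, hV s⟩) fun s => ?_
    haveI := he s
    haveI := Groth.Variety2.isProper_projSpaceOver_toBase (n' s) (V s : Scheme.{u})
    haveI : IsProper (pullback.snd f (V s).ι) := by
      have h2 : IsProper (e s ≫ CohB1.ProjSpaceOver.toBase (n' s) (V s : Scheme.{u})) := inferInstance
      rw [hcomp s] at h2
      exact h2
    have h3 := (MorphismProperty.arrow_mk_iso_iff @IsProper (morphismRestrictOpensRange f (V s).ι)).2 ‹_›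
    rwa [Scheme.Opens.opensRange_ι] at h3
  haveI : Smooth f := SmoothOfRelativeDimension.smooth (n := n) f
  haveI : Flat f := inferInstance
  haveI : GeometricallyReduced f := by
    constructor
    intro K _ y Z fst snd h
    have : Smooth snd := MorphismProperty.of_isPullback h ‹Smooth f›
    exact Groth.AlgGrp1.isReduced_of_smooth snd
  haveI : LocallyOfFinitePresentation f := inferInstance
  have hΩ := Groth.OmegaSheaf.isFinLocFreeOfRank_sheaf f n
  have hL := Groth.PicAux.isInvertible_tensorPow (Groth.LocFree.isInvertible_det hΩ hω) m
  haveI := Groth.PicAux.isQCoh_of_isInvertible hL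
  haveI := Groth.QCohMod.isQCoh_pushforward (CohB1.tensorPow ω m) f
  haveI := hev
  have hN : PicF.IsInvertible ((Scheme.Modules.pushforward f).obj (CohB1.tensorPow ω m)) :=
    Groth.LocFree.isInvertible_iff_ofRank_one.2
      (Groth.ThetaAlg.DescLF.isFinLocFreeOfRank_of_pullback f _ 1
        (Groth.LocFree.isFinLocFreeOfRank_of_iso
          (asIso ((Scheme.Modules.pullbackPushforwardAdjunction f).counit.app (CohB1.tensorPow ω m))).symm
          (Groth.LocFree.isInvertible_iff_ofRank_one.1 hL)))
  haveI : GeometricallyReduced (pullback.snd f g) := by
    constructor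
    intro K _ y Z fst snd h
    have : Smooth snd := MorphismProperty.of_isPullback h (inferInstance : Smooth (pullback.snd f g))
    exact Groth.AlgGrp1.isReduced_of_smooth snd
  haveI := Groth.PicAux.isIso_unit_of_invertible (pullback.snd f g)
    (Groth.GrpschAbsch.H0General.app_bijective (pullback.snd f g))
    (Groth.PicAux.isInvertible_pullback g hN)
  rw [Adjunction.homEquiv_unit]
  infer_instance

end Groth.Agent.S15938
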