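import Groth.Statements.S15939
import Mathlib

set_option autoImplicit false
universe u
open CAlg

namespace Groth.Agent.S15939

open Polynomial

theorem surjective_of_mem {κ A B : Type*} [Field κ] [CommRing A] [Algebra κ A] [CommRing B] [Algebra κ B]
    (h : IsSimpleOrder (Subalgebra κ A)) (φ : B →ₐ[κ] A) {b : B} (hb : φ b ∉ (⊥ : Subalgebra κ A)) :
    Function.Surjective φ :=
  AlgHom.range_eq_top φ |>.1 ((h.eq_bot_or_eq_top φ.range).resolve_left fun e => hb (e ▸ ⟨b, rfl⟩))

theorem finiteDimensional_of_simple {κ A : Type*} [Field κ] [CommRing A] [Algebra κ A]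
    (h : IsSimpleOrder (Subalgebra κ A)) : FiniteDimensional κ A := by
  by_cases hx : ∃ x : A, x ∉ (⊥ : Subalgebra κ A)
  swap
  · push Not at hx
    exact Module.Finite.of_surjective (Algebra.linearMap κ A) fun x => Algebra.mem_bot.1 (hx x)
  obtain ⟨x, hx⟩ := hx
  have hsurj : Function.Surjective (aeval (R := κ) x) := surjective_of_mem h _ (b := X) (by rwa [aeval_X])
  suffices hint : IsIntegral κ x by
    have hker : (minpoly κ x) ∈ RingHom.ker (aeval (R := κ) x) := minpoly.aeval κ x
    haveI : Module.Finite κ (Algebra.adjoin κ {x}) :=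
      Module.Finite.iff_fg.2 hint.fg_adjoin_singleton
    have htop : Algebra.adjoin κ {x} = ⊤ := by
      rw [Algebra.adjoin_singleton_eq_range_aeval, AlgHom.range_eq_top]
      exact hsurj
    exact Module.Finite.of_surjective (Algebra.adjoin κ {x}).val.toLinearMap
      fun a => ⟨⟨a, htop ▸ Algebra.mem_top⟩, rfl⟩
  by_contra hint
  have halg : ∀ q : κ[X], aeval x q = 0 → q = 0 := fun q hq => by
    by_contra hq0
    exact hint (IsAlgebraic.isIntegral ⟨q, hq0, hq⟩)
  have hx2 : x ^ 2 ∉ (⊥ : Subalgebra κ A) := fun hm => by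
    obtain ⟨c, hc⟩ := Algebra.mem_bot.1 hm
    have := halg (X ^ 2 - C c) (by rw [map_sub, map_pow, aeval_X, aeval_C, hc, sub_self])
    simpa using congrArg natDegree this
  obtain ⟨q, hq⟩ := surjective_of_mem h (aeval (R := κ) (x ^ 2)) (b := X) (by rwa [aeval_X]) x
  have hq2 := halg (expand κ 2 q - X) (by rw [map_sub, expand_aeval, hq, aeval_X, sub_self])
  have := congrArg natDegree (sub_eq_zero.1 hq2)
  rw [natDegree_expand, natDegree_X] at this
  omega

open Classical in
theorem case_field {κ A : Type u} [Field κ] [Field A] [Algebra κ A] [FiniteDimensional κ A]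
    (h : IsSimpleOrder (Subalgebra κ A)) (hsep : ¬ Algebra.IsSeparable κ A) :
    ∃ (p : ℕ) (a : κ), p.Prime ∧ CharP κ p ∧ (∀ b : κ, b ^ p ≠ a) ∧
      Nonempty (A ≃ₐ[κ] AdjoinRoot (X ^ p - C a)) := by
  haveI : IsPurelyInseparable κ A := by
    refine (separableClosure.eq_bot_iff).1 ?_
    rcases h.eq_bot_or_eq_top (separableClosure κ A).toSubalgebra with e | e
    · exact IntermediateField.toSubalgebra_injective (e.trans IntermediateField.bot_toSubalgebra.symm)
    · exact absurd ((separableClosure.eq_top_iff κ A).1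
        (IntermediateField.toSubalgebra_injective (e.trans IntermediateField.top_toSubalgebra.symm))) hsep
  obtain ⟨p, hp⟩ := ExpChar.exists κ
  cases hp with
  | zero =>
    exact absurd (Algebra.IsAlgebraic.isSeparable_of_perfectField) hsep
  | @prime _ hpp hchar =>
    haveI : Fact p.Prime := ⟨hpp⟩
    haveI : ExpChar κ p := .prime hpp
    haveI : ExpChar A p := expChar_of_injective_ringHom (algebraMap κ A).injective p
    obtain ⟨x, hx⟩ : ∃ x : A, x ∉ (algebraMap κ A).range := by
      by_contra hall
      push Not at hall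
      refine hsep ⟨fun x => ?_⟩
      obtain ⟨c, rfl⟩ := hall x
      exact isSeparable_algebraMap c
    have hex : ∃ n, x ^ p ^ n ∈ (algebraMap κ A).range := IsPurelyInseparable.pow_mem κ p x
    obtain ⟨n, hn⟩ : ∃ n, Nat.find hex = n + 1 :=
      ⟨Nat.find hex - 1, (Nat.sub_add_cancel (Nat.one_le_iff_ne_zero.2 fun e => hx (by
        have := Nat.find_spec hex
        rwa [e, pow_zero, pow_one] at this))).symm⟩
    set y := x ^ p ^ n with hy
    have hyn : y ∉ (algebraMap κ A).range := Nat.find_min hex (by omega)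
    obtain ⟨a, ha⟩ : y ^ p ∈ (algebraMap κ A).range := by
      have := Nat.find_spec hex
      rwa [hn, pow_succ, pow_mul] at this
    have ha' : ∀ b : κ, b ^ p ≠ a := fun b hb => hyn ⟨b, by
      apply frobenius_inj A p
      simp [frobenius_def, ← map_pow, hb, ha]⟩
    have hirr : Irreducible (X ^ p - C a) := X_pow_sub_C_irreducible_of_prime hpp ha'
    haveI := Fact.mk hirr
    let ψ : AdjoinRoot (X ^ p - C a) →ₐ[κ] A := AdjoinRoot.liftAlgHom _ (Algebra.ofId κ A) y (by
      simp [eval₂_sub, eval₂_pow, ha])
    have hψ : Function.Surjective ψ := surjective_of_mem h ψ (b := AdjoinRoot.root _) (by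
      rw [show ψ (AdjoinRoot.root _) = y from AdjoinRoot.liftAlgHom_root _ _ _ _]
      exact fun hm => hyn (Algebra.mem_bot.1 hm))
    exact ⟨p, a, hpp, hchar, ha',
      ⟨(AlgEquiv.ofBijective ψ ⟨ψ.toRingHom.injective, hψ⟩).symm⟩⟩

theorem case_not_field {κ A : Type u} [Field κ] [CommRing A] [Nontrivial A] [Algebra κ A] [FiniteDimensional κ A]
    (h : IsSimpleOrder (Subalgebra κ A)) (hA : ¬ IsField A) :
    Nonempty (A ≃ₐ[κ] DualNumber κ) ∨ Nonempty (A ≃ₐ[κ] (κ × κ)) := by
  have hinj : Function.Injective (algebraMap κ A) := (algebraMap κ A).injective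
  by_cases hred : IsReduced A
  · right
    obtain ⟨x, hx0, hxu⟩ := Ring.exists_not_isUnit_of_not_isField hA
    haveI : IsArtinianRing A := isArtinian_of_tower κ inferInstance
    obtain ⟨n, y, hy⟩ := IsArtinian.exists_pow_succ_smul_dvd x (1 : A)
    simp only [smul_eq_mul, mul_one] at hy
    have hk : ∀ k, x ^ n = x ^ (n + k) * y ^ k := by
      intro k
      induction k with
      | zero => simp
      | succ k ih =>
        calc x ^ n = x ^ (n + k) * y ^ k := ih
          _ = x ^ k * x ^ n * y ^ k := by rw [add_comm, pow_add]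
          _ = x ^ k * (x ^ (n + 1) * y) * y ^ k := by rw [hy]
          _ = x ^ (n + (k + 1)) * y ^ (k + 1) := by ring
    set e := x ^ n * y ^ n with he
    have hee : e * e = e := by
      calc e * e = x ^ (n + n) * y ^ n * y ^ n := by rw [he]; ring
        _ = x ^ n * y ^ n := by rw [← hk n]
    have he0 : e ≠ 0 := fun h0 => hx0 (IsNilpotent.eq_zero ⟨n, by
      rw [hk n, pow_add, mul_assoc, ← he, h0, mul_zero]⟩)
    have he1 : e ≠ 1 := fun h1 => hxu (by
      rcases Nat.eq_zero_or_pos n with rfl | hn
      · simp only [zero_add, pow_one, pow_zero] at hy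
        exact IsUnit.of_mul_eq_one y hy
      · exact (isUnit_pow_iff hn.ne').1 (IsUnit.of_mul_eq_one (y ^ n) h1))
    have heb : e ∉ (⊥ : Subalgebra κ A) := fun hm => by
      obtain ⟨c, hc⟩ := Algebra.mem_bot.1 hm
      rw [← hc, ← map_mul] at hee
      rcases mul_eq_zero.1 (show c * (c - 1) = 0 by rw [mul_sub, mul_one, hinj hee, sub_self]) with h | h
      · exact he0 (by rw [← hc, h, map_zero])
      · exact he1 (by rw [← hc, sub_eq_zero.1 h, map_one])
    let φ : κ × κ →ₐ[κ] A :=
      { toFun := fun v => algebraMap κ A v.1 * (1 - e) + algebraMap κ A v.2 * e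
        map_one' := by simp
        map_mul' := fun v w => by
          simp only [Prod.fst_mul, Prod.snd_mul, map_mul]
          linear_combination (algebraMap κ A v.2 * algebraMap κ A w.1 + algebraMap κ A v.1 * algebraMap κ A w.2 -
            algebraMap κ A v.1 * algebraMap κ A w.1 - algebraMap κ A v.2 * algebraMap κ A w.2) * hee
        map_zero' := by simp
        map_add' := fun v w => by simp only [Prod.fst_add, Prod.snd_add, map_add]; ring
        commutes' := fun r => by simp [Prod.algebraMap_apply]; ring }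
    have hφe : φ (0, 1) = e := by simp [φ]
    refine ⟨(AlgEquiv.ofBijective φ ⟨(injective_iff_map_eq_zero _).2 fun v hv => ?_,
      surjective_of_mem h φ (b := (0, 1)) (by rwa [hφe])⟩).symm⟩
    replace hv : algebraMap κ A v.1 * (1 - e) + algebraMap κ A v.2 * e = 0 := hv
    have h2 : algebraMap κ A v.2 * e = 0 := by
      linear_combination e * hv + (algebraMap κ A v.1 - algebraMap κ A v.2) * hee
    have h1 : algebraMap κ A v.1 * (1 - e) = 0 := by linear_combination hv - h2
    refine Prod.ext ?_ ?_
    · by_contra hne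
      exact sub_ne_zero.2 he1.symm (((isUnit_iff_ne_zero.2 hne).map (algebraMap κ A)).mul_right_eq_zero.1 h1)
    · by_contra hne
      exact he0 (((isUnit_iff_ne_zero.2 hne).map (algebraMap κ A)).mul_right_eq_zero.1 h2)
  · left
    obtain ⟨z, hz0, hz2⟩ : ∃ z : A, z ≠ 0 ∧ z * z = 0 := by
      rw [isReduced_iff_pow_one_lt 2 one_lt_two] at hred
      push Not at hred
      obtain ⟨z, hz, hz0⟩ := hred
      exact ⟨z, hz0, by rwa [← sq]⟩
    have hzb : z ∉ (⊥ : Subalgebra κ A) := fun hm => by
      obtain ⟨c, hc⟩ := Algebra.mem_bot.1 hm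
      rw [← hc, ← map_mul] at hz2
      exact hz0 (by rw [← hc, mul_self_eq_zero.1 ((map_eq_zero_iff _ hinj).1 hz2), map_zero])
    let φ : DualNumber κ →ₐ[κ] A := DualNumber.lift ⟨(Algebra.ofId κ A, z), hz2, fun _ => mul_comm _ _⟩
    have hφe : φ DualNumber.eps = z := DualNumber.lift_apply_eps _
    refine ⟨(AlgEquiv.ofBijective φ ⟨(injective_iff_map_eq_zero _).2 fun v hv => ?_,
      surjective_of_mem h φ (b := DualNumber.eps) (by rwa [hφe])⟩).symm⟩
    have hv' : φ v = algebraMap κ A v.fst + algebraMap κ A v.snd * z := by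
      simp [φ, TrivSqZeroExt.lift, Algebra.smul_def]
      rfl
    rw [hv'] at hv
    have h1 : v.fst = 0 := by
      by_contra hne
      have : algebraMap κ A v.fst * z = 0 := by linear_combination z * hv - algebraMap κ A v.snd * hz2
      exact hz0 (((isUnit_iff_ne_zero.2 hne).map (algebraMap κ A)).mul_right_eq_zero.1 this)
    rw [h1, map_zero, zero_add] at hv
    refine TrivSqZeroExt.ext h1 ?_
    by_contra hne
    exact hz0 (((isUnit_iff_ne_zero.2 hne).map (algebraMap κ A)).mul_right_eq_zero.1 hv)

open Polynomial in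
/-- Let κ be a field and A a commutative κ-algebra whose only κ-subalgebras are the image of κ and A
itself, these two being different. Then A is finite-dimensional over κ, and A is isomorphic as a
κ-algebra to the dual numbers over κ, or to κ × κ, or A is a field which is either separable over κ
or isomorphic to κ[X]/(X^p - a) with p the (positive) characteristic of κ and a an element of κ that
is not a p-th power. (The published statement also records that these four cases exclude one
another; that part is not restated.) -/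
theorem result (κ A : Type u) [Field κ] [CommRing A] [Algebra κ A]
    (h : IsSimpleOrder (Subalgebra κ A)) :
    FiniteDimensional κ A ∧
    (Nonempty (A ≃ₐ[κ] DualNumber κ) ∨ Nonempty (A ≃ₐ[κ] (κ × κ)) ∨
      (IsField A ∧ (Algebra.IsSeparable κ A ∨
        ∃ (p : ℕ) (a : κ), p.Prime ∧ CharP κ p ∧ (∀ b : κ, b ^ p ≠ a) ∧
          Nonempty (A ≃ₐ[κ] AdjoinRoot (X ^ p - C a))))) := by
  haveI := finiteDimensional_of_simple h
  refine ⟨inferInstance, ?_⟩
  haveI : Nontrivial A := by
    by_contra hA
    rw [not_nontrivial_iff_subsingleton] at hA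
    exact bot_ne_top (α := Subalgebra κ A) (SetLike.ext fun x => by
      simp [Subsingleton.elim x 0])
  by_cases hA : IsField A
  · refine Or.inr (Or.inr ⟨hA, ?_⟩)
    by_cases hsep : Algebra.IsSeparable κ A
    · exact Or.inl hsep
    · letI := hA.toField
      exact Or.inr (case_field h hsep)
  · rcases case_not_field h hA with e | e
    · exact Or.inl e
    · exact Or.inr (Or.inl e)

end Groth.Agent.S15939
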