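import Groth.Statements.S1594
import Groth.Agent.Curves1.Node.NodalBC
import Mathlib

set_option autoImplicit false
universe u
open CategoryTheory CategoryTheory.Limits AlgebraicGeometry
open Curves

namespace Groth.Agent.S1594

/-- (2) implies (1), for a covering by one flat quasi-compact surjective morphism: let f : X → S and g :
S' → S flat, quasi-compact and surjective. If the base change X ×_S S' → S' is at-worst-nodal of
relative dimension one then so is f. -/
theorem result {X S S' : Scheme.{u}} (f : X ⟶ S) (g : S' ⟶ S) [Flat g] [QuasiCompact g] [Surjective g]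
    (h : Curv2.IsNodalFamily (pullback.snd f g)) : Curv2.IsNodalFamily f := by
  have := h.1
  have := h.2.1
  have : Flat (pullback.fst f g ≫ f) := by rw [pullback.condition]; infer_instance
  have h1 : Flat f := Groth.FlatMor2.flat_of_comp_surjective (pullback.fst f g) f
  have h2 : LocallyOfFinitePresentation f :=
    MorphismProperty.of_pullback_snd_of_descendsAlong (P := (@LocallyOfFinitePresentation : MorphismProperty Scheme.{u}))
      (Q := (@Surjective ⊓ @Flat ⊓ @QuasiCompact : MorphismProperty Scheme.{u}))
      (f := f) (g := g) ⟨⟨‹Surjective g›, ‹Flat g›⟩, ‹QuasiCompact g›⟩ ‹_›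
  refine (Groth.Curves1.Node.isNodalFamily_iff f).2 ⟨h1, h2, fun s => ?_⟩
  obtain ⟨s', rfl⟩ := g.surjective s
  obtain ⟨q, hq⟩ := Groth.Curves1.Node.exists_fibre_isPullback f g (pullback.snd f g) (pullback.fst f g)
    (IsPullback.of_hasPullback f g) s'
  let := (g.residueFieldMap s').hom.toAlgebra
  let : (f.fiber (g s')).Over (Spec (CommRingCat.of (S.residueField (g s')))) :=
    ⟨f.fiberToSpecResidueField (g s')⟩
  let : ((pullback.snd f g).fiber s').Over (Spec (CommRingCat.of (S'.residueField s'))) :=
    ⟨(pullback.snd f g).fiberToSpecResidueField s'⟩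
  have : LocallyOfFiniteType ((f.fiber (g s')) ↘ (Spec (CommRingCat.of (S.residueField (g s'))))) :=
    inferInstanceAs (LocallyOfFiniteType (pullback.snd f (S.fromSpecResidueField (g s'))))
  exact (Groth.Curves1.Node.isNodalCurveOver_iff_of_isPullback (k := S.residueField (g s')) (S'.residueField s') q hq).1 (h.2.2 s')

end Groth.Agent.S1594
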