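import Groth.Statements.S15941
import Groth.Agent.HTopHyper.Local

set_option autoImplicit false
universe u
open HTop

namespace Groth.Agent.S15941

/-- An integrally closed integral domain is a seminormal ring, that is, whenever x^3 = y^2 there is
exactly one element a with x = a^2 and y = a^3. (The published statement is for a normal Noetherian
scheme and reduces at once to this affine integral case; the Noetherian hypothesis plays no role.) -/
theorem result (A : Type u) [CommRing A] [IsDomain A]
    [IsIntegrallyClosed A] : HTop.IsSeminormalRing A := by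
  intro x y hxy
  have inj := IsFractionRing.injective A (FractionRing A)
  set i := algebraMap A (FractionRing A)
  have e : i x ^ 3 = i y ^ 2 := by rw [← map_pow, hxy, map_pow]
  have h2 : (i y / i x) ^ 2 = i x := by
    by_cases hx : i x = 0
    · rw [hx, div_zero, zero_pow two_ne_zero]
    · rw [div_pow, ← e]; field_simp
  have h3 : (i y / i x) ^ 3 = i y := by
    by_cases hx : i x = 0
    · rw [hx, zero_pow three_ne_zero] at e
      rw [(pow_eq_zero_iff two_ne_zero).mp e.symm, zero_div, zero_pow three_ne_zero]
    · rw [div_pow, e]; field_simp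
  obtain ⟨a, ha⟩ := IsIntegrallyClosed.algebraMap_eq_of_integral
    (IsIntegral.of_pow (n := 2) (x := i y / i x) (R := A) (by omega) (by rw [h2]; exact isIntegral_algebraMap))
  have e2 : x = a ^ 2 := inj (by rw [map_pow]; exact (ha.symm ▸ h2 : _).symm)
  have e3 : y = a ^ 3 := inj (by rw [map_pow]; exact (ha.symm ▸ h3 : _).symm)
  exact ⟨a, ⟨e2, e3⟩, fun b hb => Groth.HTopHyper.eq_of_sq_cube' hb ⟨e2, e3⟩⟩

end Groth.Agent.S15941
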