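import Groth.Statements.S15942
import Groth.Agent.NeronArea.GenericGlue
import Groth.Agent.NeronArea.GenericDense
import Groth.Agent.NeronArea.MappingDescent
import Mathlib.AlgebraicGeometry.Morphisms.Flat


set_option autoImplicit false
universe u
open Neron

namespace Groth.Agent.S15942

open CategoryTheory AlgebraicGeometry in
/-- Let S be a Dedekind scheme (integral, Noetherian, separated, of dimension one, with regular local
rings), K its function field with generic point η : Spec K → S, and G → S a smooth separated
S-scheme. Suppose that for every closed point p of S the base change G_p = G ×_S Spec O_{S,p} is a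
Néron lft-model of its generic fibre over Spec O_{S,p}: for every smooth scheme Y over Spec O_{S,p},
restricting to generic fibres is a bijection from morphisms Y → G_p over Spec O_{S,p} onto morphisms
of generic fibres over K. Then G is a Néron lft-model of its generic fibre over S: for every smooth
S-scheme Y, restriction along η is a bijection from S-morphisms Y → G onto K-morphisms Y_η → G_η.
(The published statement is for a smooth separated group scheme; the group structure plays no part
in the property or in its proof and is not assumed here.) -/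
theorem result
    {S : Scheme.{u}} [IsIntegral S] [IsNoetherian S] [S.IsSeparated]
    (hreg : ∀ s : S, IsRegularLocalRing (S.presheaf.stalk s)) (hdim : topologicalKrullDim S = 1)
    (G : Over S) [Smooth G.hom] [IsSeparated G.hom]
    (hloc : ∀ p : S, IsClosed ({p} : Set S) →
      ∀ Y : Over (Spec (S.presheaf.stalk p)), Smooth Y.hom →
        Function.Bijective (fun g : Y ⟶ (Over.pullback (S.fromSpecStalk p)).obj G =>
          (Over.pullback (Spec.map (S.presheaf.stalkSpecializes (genericPoint_specializes p)))).map g)) :
    ∀ Y : Over S, Smooth Y.hom →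
      Function.Bijective (fun g : Y ⟶ G => (Over.pullback (S.fromSpecStalk (genericPoint S))).map g) := by
  open CategoryTheory.Limits in
  let η := genericPoint S
  haveI hqc : QuasiCompact (S.fromSpecStalk η) := inferInstance
  haveI : IsDominant (S.fromSpecStalk η) := ⟨fun x => by
    have h : η ∈ Set.range (S.fromSpecStalk η) := by
      rw [Scheme.range_fromSpecStalk]; exact specializes_rfl
    exact closure_mono (Set.singleton_subset_iff.2 h) (genericPoint_specializes x).mem_closure⟩
  haveI : IsSchemeTheoreticallyDominant (S.fromSpecStalk η) := .of_isDominant _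
  intro Y hY
  haveI := hY
  refine ⟨Groth.NeronArea.map_injective_of_flat _ Y G, ?_⟩
  refine ((Groth.NeronArea.bijective_map_iff _ Y G).2 ⟨?_, fun u => ?_⟩).2
  · intro a b hab
    exact Groth.NeronArea.map_injective_of_flat _ Y G ((Groth.NeronArea.map_eq_iff _ a b).2 hab)
  haveI := Groth.NeronArea.Weil.isReduced_of_regular (X := Y.left)
    fun x => Groth.NeronArea.Weil.isRegularLocalRing_of_smooth Y.hom x (hreg _)
  haveI : IsLocallyNoetherian Y.left := LocallyOfFiniteType.isLocallyNoetherian Y.hom
  let c := pullback.fst Y.hom (S.fromSpecStalk η)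
  haveI : IsReduced (pullback Y.hom (S.fromSpecStalk η)) := by
    haveI : IsLocallyNoetherian (Spec (S.presheaf.stalk η)) := inferInstance
    refine Groth.NeronArea.Weil.isReduced_of_regular fun z =>
      Groth.NeronArea.Weil.isRegularLocalRing_of_smooth (pullback.snd Y.hom (S.fromSpecStalk η)) z ?_
    letI : Field (S.presheaf.stalk η) := inferInstanceAs (Field S.functionField)
    exact IsRegularLocalRing.of_ringEquiv (Spec.stalkIso (S.presheaf.stalk η)
      (pullback.snd Y.hom (S.fromSpecStalk η) z)).commRingCatIsoToRingEquiv.symm
  have hint : ∀ x : Y.left, ∃ W : Y.left.Opens, x ∈ W ∧ IsIntegral (W : Scheme.{u}) := fun x => by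
    haveI := Groth.NeronArea.Weil.isRegularLocalRing_of_smooth Y.hom x (hreg _)
    haveI : IsDomain (Y.left.presheaf.stalk x) := Groth.Ega4Algebra1.isDomain_of_isRegularLocalRing _
    exact Groth.NeronArea.Weil.exists_integral_nhd x
  have hr : ∀ x : Y.left, (∀ y, y ⤳ x → y = x) → x ∈ Set.range c := fun x hx => by
    obtain ⟨y, hy, hy'⟩ := Flat.generalizingMap Y.hom (genericPoint_specializes (Y.hom x))
    rw [show c = pullback.fst Y.hom (S.fromSpecStalk η) from rfl, Scheme.Pullback.range_fst]
    show Y.hom x ∈ Set.range _
    rw [Scheme.range_fromSpecStalk, ← hx y hy, hy']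
    exact specializes_rfl
  obtain ⟨g, hg, hgu⟩ := Groth.NeronArea.exists_glue_of_stalk_generic c Y.hom G.hom hint hr u.left
    (Over.w u) fun x => by
    obtain ⟨p, hp, hpc⟩ := IsClosed.exists_closed_singleton (S := closure {Y.hom x})
      isClosed_closure ⟨_, subset_closure rfl⟩
    have hxp : Y.hom x ⤳ p := specializes_iff_mem_closure.2 hp
    let ρ := S.presheaf.stalkSpecializes (genericPoint_specializes p)
    have hρ : Spec.map ρ ≫ S.fromSpecStalk p = S.fromSpecStalk η :=
      Scheme.SpecMap_stalkSpecializes_fromSpecStalk _
    haveI : Mono (S.fromSpecStalk p) := inferInstance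
    have hsq : IsPullback (𝟙 _) (Spec.map ρ) (S.fromSpecStalk η) (S.fromSpecStalk p) := by
      refine IsPullback.of_isLimit' ⟨by rw [Category.id_comp]; exact hρ.symm⟩
        (PullbackCone.IsLimit.mk _ (fun s => s.fst) (fun s => Category.comp_id _) (fun s => ?_)
          fun s m h1 _ => by simpa using h1)
      rw [← cancel_mono (S.fromSpecStalk p), Category.assoc, hρ]
      exact s.condition
    let Y' := (Over.pullback (S.fromSpecStalk p)).obj Y
    let Z := (Over.map (S.fromSpecStalk p)).obj Y'
    haveI : Smooth Y'.hom := inferInstanceAs (Smooth (pullback.snd Y.hom (S.fromSpecStalk p)))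
    let π : Z ⟶ Y := Over.homMk (pullback.fst Y.hom (S.fromSpecStalk p)) pullback.condition
    have hZ := (Groth.NeronArea.bijective_map_iff (S.fromSpecStalk η) Z G).1
      ((Groth.NeronArea.bijective_baseChange_iff (S.fromSpecStalk η) (S.fromSpecStalk p) (Spec.map ρ)
        hsq Y' G).1 (hloc p hpc Y' inferInstance))
    obtain ⟨f', hf'⟩ := hZ.2 (Groth.NeronArea.rstMap _ π ≫ u)
    have hf'l : pullback.fst Z.hom (S.fromSpecStalk η) ≫ f'.left =
        (Groth.NeronArea.rstMap (S.fromSpecStalk η) π).left ≫ u.left :=
      congrArg CommaMorphism.left hf'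
    let l : Spec (Y.left.presheaf.stalk x) ⟶ Z.left := pullback.lift (Y.left.fromSpecStalk x)
      (Spec.map (Y.hom.stalkMap x) ≫ Spec.map (S.presheaf.stalkSpecializes hxp)) (by
        rw [Category.assoc, Scheme.SpecMap_stalkSpecializes_fromSpecStalk,
          Scheme.SpecMap_stalkMap_fromSpecStalk])
    have hl : l ≫ π.left = Y.left.fromSpecStalk x := pullback.lift_fst _ _ _
    refine ⟨l ≫ f'.left, ?_, ?_⟩
    · rw [Category.assoc, Over.w f', ← Over.w π, reassoc_of% hl]
    · let t : pullback (Y.left.fromSpecStalk x) c ⟶ pullback Z.hom (S.fromSpecStalk η) :=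
        pullback.lift (pullback.fst _ _ ≫ l) (pullback.snd _ _ ≫ pullback.snd Y.hom _) (by
          rw [← Over.w π, Category.assoc, reassoc_of% hl, Category.assoc, ← pullback.condition,
            pullback.condition_assoc])
      have ht : t ≫ (Groth.NeronArea.rstMap (S.fromSpecStalk η) π).left = pullback.snd _ _ := by
        have h2 : (Groth.NeronArea.rstMap (S.fromSpecStalk η) π).left ≫ pullback.fst Y.hom (S.fromSpecStalk η) =
            pullback.fst Z.hom (S.fromSpecStalk η) ≫ π.left := pullback.lift_fst _ _ _
        have h3 : (Groth.NeronArea.rstMap (S.fromSpecStalk η) π).left ≫ pullback.snd Y.hom (S.fromSpecStalk η) =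
            pullback.snd Z.hom (S.fromSpecStalk η) := pullback.lift_snd _ _ _
        apply pullback.hom_ext
        · rw [Category.assoc, h2, pullback.lift_fst_assoc, Category.assoc, hl, pullback.condition]
        · rw [Category.assoc, h3, pullback.lift_snd]
      have h1 : pullback.fst (Y.left.fromSpecStalk x) c ≫ l = t ≫ pullback.fst Z.hom (S.fromSpecStalk η) :=
        (pullback.lift_fst _ _ _).symm
      rw [reassoc_of% h1, hf'l, reassoc_of% ht]
  exact ⟨Over.homMk g hg, Over.OverMorphism.ext hgu⟩

end Groth.Agent.S15942
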