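import Groth.Statements.S15944
import Groth.Agent.SpecFerrand.Props

set_option autoImplicit false
universe u
open Pinch

namespace Groth.Agent.S15944

open CategoryTheory AlgebraicGeometry in
/-- Let Y be a scheme, f : X → Y a morphism, t : T → Y a scheme affine over Y, ξ : Z → T a morphism with
Z affine over Y via ξ followed by t, and ι : Z → X a closed immersion over Y; assume every point of
Y has an affine open neighbourhood U together with an affine open V of X inside the preimage of U
containing the image under ι of the part of Z over U; assume moreover that Y is locally Noetherian,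
f and t are of finite type and ξ is finite, and let X → P ← T be a push-out of ι and ξ in the
category of schemes, with p : P → Y the induced morphism. Then p is of finite type, and if X and T
are proper over Y then so is P. -/
theorem result {X Y T Z : Scheme.{u}} (f : X ⟶ Y) (t : T ⟶ Y) (ξ : Z ⟶ T) (ι : Z ⟶ X)
    [IsAffineHom t] [IsAffineHom (ξ ≫ t)] [IsClosedImmersion ι] (hsq : ι ≫ f = ξ ≫ t)
    (hstd : ∀ y : Y, ∃ U : Y.Opens, IsAffineOpen U ∧ y ∈ U ∧ ∃ V : X.Opens, IsAffineOpen V ∧
      V ≤ f ⁻¹ᵁ U ∧ ∀ z : Z, (ξ ≫ t).base z ∈ U → ι.base z ∈ V)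
    [IsLocallyNoetherian Y] [LocallyOfFiniteType f] [QuasiCompact f] [LocallyOfFiniteType t] [QuasiCompact t]
    [IsFinite ξ] {P : Scheme.{u}} (a : X ⟶ P) (b : T ⟶ P) (hP : IsPushout ι ξ a b)
    (p : P ⟶ Y) (hap : a ≫ p = f) (hbp : b ≫ p = t) :
    (LocallyOfFiniteType p ∧ QuasiCompact p) ∧ (IsProper f → IsProper t → IsProper p) := by
  have hc := Groth.SpecFerrand.Glue.covers_of_affine_local f t hsq hstd
  haveI : IsIntegralHom ξ := inferInstance
  obtain ⟨ha, hb, hsurj, -⟩ := Groth.SpecFerrand.Glue.facts_of_isPushout hc hP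
  haveI : QuasiCompact (a ≫ p) := hap ▸ inferInstance
  haveI : QuasiCompact (b ≫ p) := hbp ▸ inferInstance
  haveI : LocallyOfFiniteType (a ≫ p) := hap ▸ inferInstance
  haveI : LocallyOfFiniteType (b ≫ p) := hbp ▸ inferInstance
  haveI hlft : LocallyOfFiniteType p := Groth.SpecFerrand.Glue.locallyOfFiniteType_of_isPushout hc hP p
  refine ⟨⟨hlft, Groth.SpecFerrand.quasiCompact_of_jointly a b p hsurj⟩, fun hf ht => ?_⟩
  haveI : IsProper (a ≫ p) := hap ▸ hf
  haveI : IsProper (b ≫ p) := hbp ▸ ht
  haveI : UniversallyClosed p := Groth.SpecFerrand.universallyClosed_of_jointly a b p hsurj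
  haveI : IsSeparated p := Groth.SpecFerrand.isSeparated_of_jointly a b p hsurj
  exact {}

end Groth.Agent.S15944
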