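import Groth.Statements.S15945
import Groth.Agent.SpecFerrand.Covers

set_option autoImplicit false
universe u
open Pinch

namespace Groth.Agent.S15945

open CategoryTheory AlgebraicGeometry in
/-- Let Y be a scheme, f : X → Y a morphism, t : T → Y a scheme affine over Y, ξ : Z → T a morphism with
Z affine over Y via ξ followed by t, and ι : Z → X a closed immersion over Y; assume every point of
Y has an affine open neighbourhood U together with an affine open V of X inside the preimage of U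
containing the image under ι of the part of Z over U; assume moreover that Y is locally Noetherian,
f and t are of finite type and ξ is finite, and let X → P ← T be a push-out of ι and ξ in the
category of schemes. Then X → P is finite, the square is also cartesian (Z is identified with X ×_P
T), and T → P is a closed immersion. -/
theorem result {X Y T Z : Scheme.{u}} (f : X ⟶ Y) (t : T ⟶ Y) (ξ : Z ⟶ T) (ι : Z ⟶ X)
    [IsAffineHom t] [IsAffineHom (ξ ≫ t)] [IsClosedImmersion ι] (hsq : ι ≫ f = ξ ≫ t)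
    (hstd : ∀ y : Y, ∃ U : Y.Opens, IsAffineOpen U ∧ y ∈ U ∧ ∃ V : X.Opens, IsAffineOpen V ∧
      V ≤ f ⁻¹ᵁ U ∧ ∀ z : Z, (ξ ≫ t).base z ∈ U → ι.base z ∈ V)
    [IsLocallyNoetherian Y] [LocallyOfFiniteType f] [QuasiCompact f] [LocallyOfFiniteType t] [QuasiCompact t]
    [IsFinite ξ] {P : Scheme.{u}} (a : X ⟶ P) (b : T ⟶ P) (hP : IsPushout ι ξ a b) :
    IsFinite a ∧ IsPullback ι ξ a b ∧ IsClosedImmersion b := by
  haveI : IsAffineHom ξ := IsAffineHom.of_comp ξ t
  have hc : Groth.SpecFerrand.Glue.Covers ι ξ := fun y => by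
    obtain ⟨U, hU, hyU, V, hV, hVU, hz⟩ := hstd (t.base y)
    refine ⟨⟨V, t ⁻¹ᵁ U, hV, hU.preimage t, ?_⟩, hyU⟩
    ext z
    refine ⟨fun h => ?_, fun h => hz z h⟩
    show (ξ ≫ t).base z ∈ U
    rw [← hsq]
    exact hVU h
  have hG := Groth.SpecFerrand.Glue.isPushout hc
  obtain ⟨p, hp, -⟩ : ∃ p, Groth.SpecFerrand.Glue.a hc ≫ p = f ∧ Groth.SpecFerrand.Glue.b hc ≫ p = t :=
    ⟨hG.desc f t hsq, hG.inl_desc _ _ _, hG.inr_desc _ _ _⟩
  haveI hint : IsIntegralHom (Groth.SpecFerrand.Glue.a hc) := Groth.SpecFerrand.Glue.isIntegralHom_a ι ξ hc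
  haveI : LocallyOfFiniteType (Groth.SpecFerrand.Glue.a hc ≫ p) := hp ▸ inferInstance
  haveI : IsFinite (Groth.SpecFerrand.Glue.a hc) :=
    (IsFinite.iff_isIntegralHom_and_locallyOfFiniteType _).mpr
      ⟨inferInstance, locallyOfFiniteType_of_comp _ p⟩
  haveI := Groth.SpecFerrand.Glue.isClosedImmersion_b hc
  let e := hG.isoIsPushout _ _ hP
  have ha : Groth.SpecFerrand.Glue.a hc ≫ e.hom = a := hG.inl_isoIsPushout_hom _ _ hP
  have hb : Groth.SpecFerrand.Glue.b hc ≫ e.hom = b := hG.inr_isoIsPushout_hom _ _ hP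
  refine ⟨ha ▸ inferInstance, ?_, hb ▸ inferInstance⟩
  exact (Groth.SpecFerrand.Glue.isPullback hc).of_iso (Iso.refl _) (Iso.refl _) (Iso.refl _) e
    (by simp) (by simp) (by simpa using ha) (by simpa using hb)

end Groth.Agent.S15945
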