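import Groth.Statements.S15949
import Groth.Agent.MilnorKLambda.P1.Const
-- import your own Groth.Agent.* helpers here

set_option autoImplicit false
universe u
open AlgGrp

namespace Groth.Agent.S15949

section Helpers

open CategoryTheory Limits MonoidalCategory CartesianMonoidalCategory MonObj GrpObj AlgebraicGeometry
  Groth.MilnorKLambda.P1
open scoped HomogeneousIdeal

variable (k : Type u) [Field k]

theorem chart_evAway_injective :
    Function.Injective (evAway ((coords ![(0 : R1 k), 1]).comp (shift k).toRingHom) (MvPolynomial.X 1)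
      (chart_unit k)) := by
  rw [injective_iff_map_eq_zero]
  intro z hz
  obtain ⟨⟨N, ⟨p, hp⟩, ⟨b, hb⟩, ⟨d, (rfl : _ = b)⟩⟩, rfl⟩ := HomogeneousLocalization.mk_surjective z
  rw [evAway_apply, HomogeneousLocalization.val_mk] at hz
  have h := lift_mk ((coords ![(0 : R1 k), 1]).comp (shift k).toRingHom) _ (chart_unit k) p d
  simp only at hz
  rw [hz, zero_mul] at h
  have hev : ∀ a : AlgebraicClosure k, MvPolynomial.eval ![a, 1] (MvPolynomial.map (algebraMap k (AlgebraicClosure k)) p) = 0 := fun a => by
    have h2 := congrArg (Polynomial.eval₂RingHom (algebraMap k (AlgebraicClosure k)) a) h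
    rw [map_zero] at h2
    refine (h2.trans ?_).symm
    refine RingHom.congr_fun (f := (Polynomial.eval₂RingHom (algebraMap k (AlgebraicClosure k)) a).comp ((coords ![(0 : R1 k), 1]).comp (shift k).toRingHom))
      (g := (MvPolynomial.eval ![a, 1]).comp (MvPolynomial.map (algebraMap k (AlgebraicClosure k)))) (MvPolynomial.ringHom_ext (fun r => ?_) fun i => ?_) p
    · show Polynomial.eval₂RingHom _ a (coords _ (MvPolynomial.eval₂Hom _ _ (MvPolynomial.C r))) = MvPolynomial.eval _ (MvPolynomial.map _ _)
      simp
    · show Polynomial.eval₂RingHom _ a (coords _ (shift k (MvPolynomial.X i))) = MvPolynomial.eval _ (MvPolynomial.map _ _)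
      fin_cases i <;> simp
  have hp0 : p = 0 := by
    apply MvPolynomial.map_injective (algebraMap k (AlgebraicClosure k)) (RingHom.injective _)
    rw [map_zero]
    have hpK := ((MvPolynomial.mem_homogeneousSubmodule _ _).1 hp).map (algebraMap k (AlgebraicClosure k))
    generalize MvPolynomial.map (algebraMap k (AlgebraicClosure k)) p = q at hpK hev ⊢
    have hz0 : q * MvPolynomial.X 1 = 0 := MvPolynomial.funext fun c => by
      rw [map_mul, MvPolynomial.eval_X, map_zero]
      by_cases hc : c 1 = 0
      · rw [hc, mul_zero]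
      have hh : MvPolynomial.eval c q = c 1 ^ N * MvPolynomial.eval ![c 0 / c 1, 1] q := by
        rw [MvPolynomial.eval_eq', MvPolynomial.eval_eq', Finset.mul_sum]
        refine Finset.sum_congr rfl fun m hm => ?_
        have hd : m 0 + m 1 = N := by
          have h3 := hpK (MvPolynomial.mem_support_iff.1 hm)
          rw [Finsupp.weight_apply, Finsupp.sum_fintype _ _ (by simp)] at h3
          simpa using h3
        rw [Fin.prod_univ_two, Fin.prod_univ_two, ← hd, pow_add]
        simp only [Matrix.cons_val_zero, Matrix.cons_val_one, one_pow, _root_.mul_one, div_pow]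
        field_simp
      rw [hh, hev, mul_zero, zero_mul]
    exact (mul_eq_zero.1 hz0).resolve_right (MvPolynomial.X_ne_zero 1)
  subst hp0
  exact HomogeneousLocalization.val_injective _
    ((HomogeneousLocalization.val_mk _).trans ((Localization.mk_zero _).trans HomogeneousLocalization.val_zero.symm))

theorem isDominant_chart : IsDominant (chart k).left := by
  show IsDominant (Spec.map _ ≫ Proj.awayι (Gr k) (MvPolynomial.X 1) (X_mem 1) one_pos)
  haveI : Nonempty (Spec (CommRingCat.of (R1 k)) : Scheme.{u}) := inferInstanceAs (Nonempty (PrimeSpectrum _))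
  haveI : IsDominant (Spec.map (CommRingCat.ofHom (evAway ((coords ![(0 : R1 k), 1]).comp (shift k).toRingHom)
      (MvPolynomial.X 1) (chart_unit k)))) := by
    refine ⟨?_⟩
    show DenseRange (PrimeSpectrum.comap (evAway ((coords ![(0 : R1 k), 1]).comp (shift k).toRingHom)
      (MvPolynomial.X 1) (chart_unit k)))
    rw [PrimeSpectrum.denseRange_comap_iff_ker_le_nilRadical, (RingHom.injective_iff_ker_eq_bot _).1
      (chart_evAway_injective k)]
    exact bot_le
  haveI : IsDominant (Proj.awayι (Gr k) (MvPolynomial.X 1) (X_mem 1) one_pos) := by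
    refine ⟨?_⟩
    haveI := isIntegral_line k
    haveI : PreirreducibleSpace (Proj (Gr k)) := inferInstanceAs (PreirreducibleSpace (CohB1.ProjSpace 1 k))
    exact IsOpen.dense (Proj.awayι (Gr k) (MvPolynomial.X 1) (X_mem 1) one_pos).isOpenEmbedding.isOpen_range
      ⟨_, Set.mem_range_self ((Spec.map (CommRingCat.ofHom (evAway ((coords ![(0 : R1 k), 1]).comp (shift k).toRingHom)
      (MvPolynomial.X 1) (chart_unit k)))) (Classical.arbitrary _))⟩
  infer_instance

/-- A morphism from the projective line to a separated group scheme is constant. -/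
theorem exists_const (G : Over (Spec (CommRingCat.of k))) [GrpObj G] [IsSeparated G.hom]
    (φ : Line k ⟶ G) : φ = toUnit (Line k) ≫ zero k ≫ φ := by
  haveI : IsProper (Line k).hom := Groth.Variety2.isProper_projSpace_toSpec 1 k
  haveI : QuasiCompact (Line k).hom := inferInstance
  haveI : QuasiSeparated (Line k).hom := inferInstance
  haveI : IsLocallyNoetherian (A1 k).left := inferInstanceAs (IsLocallyNoetherian (Spec (CommRingCat.of (R1 k))))
  haveI : PreconnectedSpace (A1 k).left := inferInstanceAs (PreconnectedSpace (PrimeSpectrum (R1 k)))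
  let Ψ : Line k ⊗ A1 k ⟶ G := (act k ≫ φ) * (fst (Line k) (A1 k) ≫ φ)⁻¹
  have h0 : (Line k ◁ origin k) ≫ Ψ = toUnit _ ≫ (1 : 𝟙_ _ ⟶ G) := by
    simp only [Ψ, MonObj.comp_mul, GrpObj.comp_inv, MonObj.comp_one]
    rw [← Category.assoc, ← Category.assoc, act_origin, whiskerLeft_fst, rightUnitor_hom]
    exact mul_inv_cancel _
  have hr := Groth.AlgGrp1.eq_snd_comp_of_const (hasConstFunctions_line k) (infty k) (origin k) 1 Ψ h0
  have h1 : lift (toUnit (A1 k) ≫ infty k) (𝟙 (A1 k)) ≫ Ψ = 1 := by
    simp only [Ψ, MonObj.comp_mul, GrpObj.comp_inv]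
    rw [← Category.assoc, ← Category.assoc, act_infty, lift_fst]
    exact mul_inv_cancel _
  rw [h1, MonObj.comp_one] at hr
  have h2 : act k ≫ φ = fst (Line k) (A1 k) ≫ φ := mul_inv_eq_one.1 hr
  have h3 : chart k ≫ φ = chart k ≫ toUnit (Line k) ≫ zero k ≫ φ := by
    rw [← (act_zero k).1, Category.assoc, h2, reassoc_of% (act_zero k).2]
    simp only [← Category.assoc]
    congr 2
    exact toUnit_unique _ _
  haveI := isDominant_chart k
  haveI := isIntegral_line k
  haveI : IsReduced (Line k).left := inferInstanceAs (IsReduced (CohB1.ProjSpace 1 k))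
  refine Over.OverMorphism.ext ?_
  exact ext_of_isDominant_of_isSeparated G.hom (by rw [Over.w φ, Over.w (toUnit (Line k) ≫ zero k ≫ φ)])
    (chart k).left (congrArg (fun r => r.left) h3)

end Helpers

open CategoryTheory AlgebraicGeometry in
/-- Auxiliary step: let κ be an arbitrary field, G a group scheme over κ which is smooth over κ, and φ :
P¹_κ → G a morphism over κ. Then φ is constant: there is a κ-rational point g of G such that φ is
the structure morphism P¹_κ → Spec κ followed by g. (The published proof states this step for any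
smooth group scheme over a field in the course of proving the main proposition.) -/
theorem result (κ : Type u) [Field κ]
    (G : Over (Spec (CommRingCat.of κ))) [GrpObj G] [Smooth G.hom]
    (φ : CohB1.ProjSpaceOver 1 (Spec (CommRingCat.of κ)) ⟶ G.left)
    (hφ : φ ≫ G.hom = CohB1.ProjSpaceOver.toBase 1 (Spec (CommRingCat.of κ))) :
    ∃ g : Spec (CommRingCat.of κ) ⟶ G.left, g ≫ G.hom = 𝟙 _ ∧
      φ = CohB1.ProjSpaceOver.toBase 1 (Spec (CommRingCat.of κ)) ≫ g := by
  have hsep : IsSeparated G.hom := Groth.AlgGrp1.isSeparated_grpObj G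
  let ψ : Groth.MilnorKLambda.P1.Line κ ⟶ G := Over.homMk ((Groth.PnCoh.overIso 1 κ).hom ≫ φ) (by
    rw [Category.assoc, hφ]
    exact Groth.PnCoh.overIso_hom_toBase 1 κ)
  have h := exists_const κ G ψ
  refine ⟨(Groth.MilnorKLambda.P1.zero κ ≫ ψ).left, Over.w (Groth.MilnorKLambda.P1.zero κ ≫ ψ), ?_⟩
  rw [← cancel_epi (Groth.PnCoh.overIso 1 κ).hom, Groth.PnCoh.overIso_hom_toBase_assoc]
  exact congr(($h).left)

end Groth.Agent.S15949
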