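import Groth.Statements.S16751
import Groth.Agent.CohBase.UnitBC
import Groth.Agent.Inter.Vanishing

set_option autoImplicit false
set_option backward.isDefEq.respectTransparency.types false
universe u
open CurvSt

namespace Groth.Agent.S16751

open CategoryTheory CategoryTheory.Limits AlgebraicGeometry in
/-- Fibre cohomology in degree two vanishes for fibres of dimension at most one. -/
theorem subsingleton_fiberH_two {X S : Scheme.{u}} (f : X ⟶ S) [IsProper f] (s : S)
    (hdim : topologicalKrullDim ↥(f.fiber s) ≤ 1) (p : ℕ) (hp : 1 < p) :
    Subsingleton (CohIII.fiberH f (Coh.structureModule X) s p) := by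
  have : TopologicalSpace.NoetherianSpace ↥(f.fiber s) := by
    have : IsLocallyNoetherian (f.fiber s) :=
      LocallyOfFiniteType.isLocallyNoetherian (f.fiberToSpecResidueField s)
    have : CompactSpace (f.fiber s) :=
      QuasiCompact.compactSpace_of_compactSpace (f.fiberToSpecResidueField s)
    have : IsNoetherian (f.fiber s) := {}
    infer_instance
  exact Groth.Inter.Vanishing.subsingleton_H_of_dim_le (d := 1) (by exact_mod_cast hdim) _ p hp

open CategoryTheory CategoryTheory.Limits AlgebraicGeometry in
/-- Let f : X → S be a flat, proper morphism of schemes, locally of finite presentation, all of whose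
fibres have dimension at most one (a family of curves whose total space is a scheme), and assume
that for every point s of S the fibre X_s has dim_{κ(s)} H^0(X_s, O_{X_s}) = 1 (the residue field is
the ring of global functions of the fibre). Then (1) the map O_S → f_* O_X is an isomorphism, and so
is O_{S'} → f'_* O_{X'} for the base change f' of f along any morphism of schemes S' → S; and (2)
R^1 f_* O_X is a finite locally free O_S-module. The source allows the total space to be an
algebraic space, and also asserts the compatibility of R^1 f_* O_X with arbitrary base change, which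
is not stated here. -/
theorem result (X S : Scheme.{u}) (f : X ⟶ S)
    [Flat f] [IsProper f] [LocallyOfFinitePresentation f]
    (hdim : ∀ s : S, topologicalKrullDim ↥(f.fiber s) ≤ 1)
    (h0 : ∀ s : S, Models.hRank ↥(S.residueField s) (f.fiber s) (f.fiberToSpecResidueField s)
      (Coh.structureModule (f.fiber s)) 0 = 1)
    [HasInjectiveResolutions X.Modules] :
    (∀ (S' : Scheme.{u}) (g : S' ⟶ S), IsIso (ClSub.unitToPush (pullback.snd f g))) ∧
      FlatMod.IsFinLocFree ((Coh.Rpush f 1).obj (Coh.structureModule X)) := by
  have hr : ∀ s : S, CohIII.fiberRank f (Coh.structureModule X) 0 s = 1 := fun s => by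
    let : (f.fiber s).Over (Spec (CommRingCat.of (S.residueField s))) :=
      ⟨f.fiberToSpecResidueField s⟩
    obtain ⟨e⟩ := Groth.PicAux.pullback_structure_iso (f.fiberι s)
    exact ((Groth.CohBase.haIsoEquiv (f.fiberToSpecResidueField s) e 0).finrank_eq).trans (h0 s)
  refine ⟨fun S' g => ?_, Groth.CohBase.isFinLocFree_Rpush_one f hr fun s =>
    subsingleton_fiberH_two f s (hdim s) 2 Nat.one_lt_two⟩
  rw [← Groth.CohBase.pushUnit_eq_unitToPush]
  exact Groth.CohBase.isIso_pushUnit_baseChange f hr (IsPullback.of_hasPullback f g)

end Groth.Agent.S16751
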