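import Groth.Statements.S1596
import Groth.Agent.S16751
import Groth.Agent.S10831
import Groth.Agent.CohBase.FibreConsequencesFP
import Groth.Agent.Curves1.Node.NodalLocal

set_option autoImplicit false
set_option backward.isDefEq.respectTransparency.types false
universe u
open CategoryTheory CategoryTheory.Limits AlgebraicGeometry
open Curves

namespace Groth.Agent.S1596

/-- Let f : X → S be a proper morphism of schemes that is at-worst-nodal of relative dimension one with
geometrically connected fibres. Then R¹f_*O_X is a finite locally free O_S-module and R^q f_*O_X = 0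
for every q ≥ 2. The published statement also includes the compatibility of these direct images with
base change, which is not asserted here. (Existence of injective resolutions in the category of
O_X-modules is carried as an instance binder.) -/
theorem result {X S : Scheme.{u}} (f : X ⟶ S) [IsProper f] (hf : Curv2.IsNodalFamily f)
    [GeometricallyConnected f] [HasInjectiveResolutions X.Modules] :
    FlatMod.IsFinLocFree ((Coh.Rpush f 1).obj (Coh.structureModule X)) ∧
      ∀ q : ℕ, 2 ≤ q → IsZero ((Coh.Rpush f q).obj (Coh.structureModule X)) := by
  have : Flat f := hf.1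
  have : LocallyOfFinitePresentation f := hf.2.1
  have hr : ∀ s : S, CohIII.fiberRank f (Coh.structureModule X) 0 s = 1 := fun s => by
    let K := S.residueField s
    let C := f.fiber s
    let : C.Over (Spec (CommRingCat.of K)) := ⟨f.fiberToSpecResidueField s⟩
    have : IsProper (C ↘ Spec (CommRingCat.of K)) :=
      MorphismProperty.pullback_snd _ _ ‹IsProper f›
    have : LocallyOfFiniteType (C ↘ Spec (CommRingCat.of K)) := inferInstance
    have : GeometricallyReduced (C ↘ Spec (CommRingCat.of K)) :=
      Groth.Curves1.Node.geometricallyReduced_of_atWorstNodal (hf.2.2 s).2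
    have : GeometricallyConnected (C ↘ Spec (CommRingCat.of K)) :=
      MorphismProperty.pullback_snd _ _ ‹GeometricallyConnected f›
    have hb := Groth.VarietyBC.GlobalField.appTop_bijective (C ↘ Spec (CommRingCat.of K))
    have hbij : Function.Bijective (algebraMap K Γ(C, ⊤)) :=
      hb.comp (ConcreteCategory.bijective_of_isIso (Scheme.ΓSpecIso (CommRingCat.of K)).inv)
    rw [Groth.CohBase.fiberRank_zero_structure f s]
    exact ((LinearEquiv.ofBijective (Algebra.linearMap K Γ(C, ⊤)) hbij).finrank_eq).symm.trans
      (Module.finrank_self K)
  have hdim : ∀ s : S, topologicalKrullDim ↥(f.fiber s) ≤ 1 := fun s => by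
    rw [Groth.Agent.S10831.result]
    exact iSup₂_le fun Z hZ => ((hf.2.2 s).1 Z hZ).le
  have hlf := LocFree.isFinLocFree_of_rank (LocFree.isInvertible_iff_ofRank_one.1
    (Groth.EulerDeg.isInvertible_structureModule X))
  have := KTheory.LocFree.isQCoh hlf
  refine ⟨Groth.CohBase.isFinLocFree_Rpush_one f hr fun s =>
      Groth.Agent.S16751.subsingleton_fiberH_two f s (hdim s) 2 Nat.one_lt_two, fun q hq =>
    Groth.CohBase.isZero_Rpush_of_fibres f (Groth.PropsBasic.LocFree.isFP_of_isFinLocFree _ hlf)
      (Groth.FBaseGeom.isFlatOver_structureModule f) q fun s =>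
        Groth.Agent.S16751.subsingleton_fiberH_two f s (hdim s) q hq⟩

end Groth.Agent.S1596
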