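import Groth.Statements.S15963
import Groth.Agent.HTopHyper.Normal
import Mathlib.AlgebraicGeometry.Morphisms.SchemeTheoreticallyDominant

set_option autoImplicit false
universe u
open HTop

namespace Groth.Agent.S15963

open CategoryTheory AlgebraicGeometry in
/-- Let S be a reduced Noetherian scheme, π : S̃ → S its normalisation (S̃ has integrally closed local
domains, π is integral and an isomorphism over a dense open subset of S with dense preimage), ν : X'
→ S a seminormalization of S (X' seminormal, ν a universal homeomorphism with residue-field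
isomorphisms, initial among such) and g : S̃ → X' a morphism with g followed by ν equal to π. Then ν
and g are scheme-theoretically dominant (the structure sheaf maps injectively into the direct
image), and if π is finite then so are ν and g. -/
theorem result {S Sn X' : Scheme.{u}}
    [IsNoetherian S] [IsReduced S]
    (π : Sn ⟶ S) [IsIntegralHom π] (hn : Pi1.IsNormalScheme Sn)
    (hbir : ∃ U : S.Opens, Dense (U : Set S) ∧ Dense ((π ⁻¹ᵁ U : Sn.Opens) : Set Sn) ∧ IsIso (π ∣_ U))
    (ν : X' ⟶ S) (hν : HTop.IsSeminormalization ν) (hX' : HTop.IsSeminormal X')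
    (g : Sn ⟶ X') (hg : g ≫ ν = π) :
    (IsSchemeTheoreticallyDominant ν ∧ IsSchemeTheoreticallyDominant g) ∧
      (IsFinite π → IsFinite ν ∧ IsFinite g) := by
  obtain ⟨V, hV, -, hiso⟩ := hbir
  have := Groth.HTopHyper.isReduced_of_isSeminormal hX'
  have hνs := Groth.HTopHyper.surjective_of_isUnivHomeo hν.1.1
  have := Groth.HTopHyper.isIntegralHom_of_isUnivHomeo hν.1.1
  have : IsIntegralHom (g ≫ ν) := hg ▸ inferInstance
  have : IsIntegralHom g := IsIntegralHom.of_comp g ν
  have : IsDominant g := by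
    constructor
    have hh := Groth.HTopHyper.isHomeomorph_of_isUnivHomeo hν.1.1
    refine dense_iff_closure_eq.mpr (Set.eq_univ_of_forall fun x => ?_)
    have hd : Dense (ν ⁻¹' (V : Set S)) := hV.preimage hh.isOpenMap
    refine closure_mono ?_ (hd x)
    intro z hz
    obtain ⟨w, hw⟩ := (π ∣_ V).surjective ⟨ν z, hz⟩
    refine ⟨w.1, hh.injective ?_⟩
    rw [← Scheme.Hom.comp_apply, hg]
    exact (morphismRestrict_base_coe π V w).symm.trans (congrArg Subtype.val hw)
  have hgd : IsSchemeTheoreticallyDominant g := .of_isDominant g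
  refine ⟨⟨.of_isDominant ν, hgd⟩, fun hf => ?_⟩
  have : IsFinite (g ≫ ν) := hg ▸ hf
  refine ⟨(isFinite_iff ν).mpr ⟨inferInstance, fun U hU => ?_⟩, IsFinite.of_comp g ν⟩
  let a := (ν.app U).hom
  let b := (g.app (ν ⁻¹ᵁ U)).hom
  have hbfin : (b.comp a).Finite := by
    have h1 : ((g ≫ ν).app U).hom.Finite := IsFinite.finite_app (g ≫ ν) U hU
    rw [Scheme.Hom.comp_app] at h1
    exact h1
  let := a.toAlgebra
  let := (b.comp a).toAlgebra
  have hN : IsNoetherianRing Γ(S, U) := IsLocallyNoetherian.component_noetherian ⟨U, hU⟩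
  have : Module.Finite Γ(S, U) Γ(Sn, g ⁻¹ᵁ ν ⁻¹ᵁ U) := hbfin
  have : IsNoetherian Γ(S, U) Γ(Sn, g ⁻¹ᵁ ν ⁻¹ᵁ U) := isNoetherian_of_isNoetherianRing_of_finite _ _
  let l : Γ(X', ν ⁻¹ᵁ U) →ₐ[Γ(S, U)] Γ(Sn, g ⁻¹ᵁ ν ⁻¹ᵁ U) := { b with commutes' := fun _ => rfl }
  exact Module.Finite.of_injective l.toLinearMap (g.app_injective (ν ⁻¹ᵁ U))

end Groth.Agent.S15963
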