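import Groth.Statements.S15976
import Groth.Agent.Variety2.Growth.CombAvoid

set_option autoImplicit false
universe u
open IntSh

namespace Groth.Agent.S15976

open CategoryTheory CategoryTheory.Limits AlgebraicGeometry Opposite in
/-- Let A be a Noetherian local ring with infinite residue field, V a Noetherian scheme over Spec A, L
an invertible O_V-module generated by finitely many global sections σ_0, …, σ_N (at every point some
σ_i generates L), and F_1, …, F_m coherent O_V-modules. Then some A-linear combination σ of the σ_i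
is F_j-regular for every j, regularity of a global section σ of L with respect to F meaning that the
map F ⊗ O_V → F ⊗ L induced by σ is injective. The combination is expressed through the global
sections σ(1), σ_i(1) ∈ Γ(V, L) and the images in Γ(V, O_V) of the coefficients from A. -/
theorem result
    {A : Type u} [CommRing A] [IsNoetherianRing A] [IsLocalRing A]
    (hA : Infinite (IsLocalRing.ResidueField A))
    {V : Scheme.{u}} [IsNoetherian V] (f : V ⟶ Spec (CommRingCat.of A))
    (L : V.Modules) (hL : PicF.IsInvertible L)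
    {N : ℕ} (σ : Fin (N + 1) → (Coh.structureModule V ⟶ L))
    (hgen : ∀ x : V, ∃ i, x ∈ CohB1.genLocus L (σ i))
    {m : ℕ} (F : Fin m → V.Modules) (hF : ∀ j, Coh.IsCoh (F j)) :
    ∃ (τ : Coh.structureModule V ⟶ L) (a : Fin (N + 1) → A),
      τ.val.app (op ⊤) (1 : V.ringCatSheaf.obj.obj (op ⊤)) =
        ∑ i, f.appTop ((Scheme.ΓSpecIso (CommRingCat.of A)).inv (a i)) •
          (σ i).val.app (op ⊤) (1 : V.ringCatSheaf.obj.obj (op ⊤)) ∧
      ∀ j, Mono (((DCoh.tensorBi (X := V)).obj (F j)).map τ) := by
  open Groth Groth.Inter Groth.PicAux Groth.HilbStab Groth.PropsBasic.Ample Groth.Variety2.Growth in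
  exact by
    classical
    let g : A →+* Γ(V, (⊤ : V.Opens)) :=
      f.appTop.hom.comp (Scheme.ΓSpecIso (CommRingCat.of A)).inv.hom
    let r : IsLocalRing.ResidueField A → A := Function.surjInv IsLocalRing.residue_surjective
    have hr : ∀ q, IsLocalRing.residue A (r q) = q :=
      Function.surjInv_eq IsLocalRing.residue_surjective
    have hR : (Set.range r).Infinite :=
      Set.infinite_range_of_injective fun p q h => by rw [← hr p, h, hr q]
    have hRu : ∀ a ∈ Set.range r, ∀ b ∈ Set.range r, a ≠ b → IsUnit (a - b) := by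
      rintro _ ⟨p, rfl⟩ _ ⟨q, rfl⟩ hpq
      refine (IsLocalRing.residue_ne_zero_iff_isUnit _).1 ?_
      rw [map_sub, hr, hr, sub_ne_zero]
      exact fun h => hpq (congrArg r h)
    obtain ⟨a, ha⟩ := exists_mem_gloc_comb g hR hRu hL (fun i => gsec (σ i))
      (fun x => by obtain ⟨i, hi⟩ := hgen x; exact ⟨i, genLocus_eq_gloc (σ i) ▸ hi⟩)
      (Set.finite_iUnion fun j => finite_assPoints (hF j))
    let t : Γ(L, (⊤ : V.Opens)) := ∑ i, g (a i) • gsec (σ i)
    refine ⟨homOfSection t, a, homOfSection_one t, fun j => ?_⟩
    have hm : Mono (mulSec t (F j)) :=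
      mono_mulSec_of_assPoints (hF j) t fun x hx => ha x (Set.mem_iUnion.2 ⟨j, hx⟩)
    exact mono_tensorBi_homOfSection hm

end Groth.Agent.S15976
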