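import Groth.Statements.S15980
import Groth.Agent.ChowK.CodimOne

set_option autoImplicit false
universe u
open IntSh

namespace Groth.Agent.S15980

open CategoryTheory CategoryTheory.Limits AlgebraicGeometry in
/-- Let X be a normal separated Noetherian integral scheme with generic point ξ. For a Weil divisor D,
given as a finitely supported integer-valued function on the points x with dim O_{X,x} = 1, the
class Σ_x D(x)·[O_{x̄}] in the Grothendieck group of coherent O_X-modules (O_{x̄} the structure
sheaf of the reduced closure of x) lies in the subgroup generated by the classes of coherent modules
whose support has codimension at least 2 if and only if D is principal, i.e. there is a nonzero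
rational function f with D(x) = ord_x(f) at every point x with dim O_{X,x} = 1. (This is the
statement that prime divisors induce an injection of the Weil divisor class group into the first
graded piece of the coniveau filtration; the published lemma phrases it as an isomorphism onto the
group of reflexive rank-one sheaves compatible with the determinant, and cites the surjectivity. The
published statement also allows X disconnected: a normal Noetherian scheme is the disjoint union of
its finitely many integral components and the claim splits accordingly, and the published proof
begins by reducing to the integral case, which is the case stated here.) -/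
theorem result
    {X : Scheme.{u}} [IsNoetherian X] [IsIntegral X] [X.IsSeparated] (hXn : Pi1.IsNormalScheme X)
    (D : X →₀ ℤ) (hD : ∀ x ∈ D.support, ringKrullDim (X.presheaf.stalk x) = 1) :
    (D.sum fun x n => n • KZero.clSub (fun M : X.Modules => Coh.IsCoh M) (Cyc.closureStructureSheaf x)) ∈
        AddSubgroup.closure {c : SGA6.Kcoh X | ∃ F : X.Modules, Coh.IsCoh F ∧
          (∀ x ∈ CohB1.support F, (2 : WithBot ℕ∞) ≤ ringKrullDim (X.presheaf.stalk x)) ∧
          c = KZero.clSub (fun M : X.Modules => Coh.IsCoh M) F} ↔
      ∃ f : X.residueField (genericPoint X), f ≠ 0 ∧
        ∀ x : X, ringKrullDim (X.presheaf.stalk x) = 1 →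
          D x = Cyc.ordAt x (genericPoint X) (genericPoint_specializes x) f :=
  (Groth.ChowK.CodimOne.main D hD).trans
    ⟨fun ⟨f, hf, h⟩ => ⟨f, hf, fun x hx => h ⟨x, hx⟩⟩, fun ⟨f, hf, h⟩ => ⟨f, hf, fun t => h t.1 t.2⟩⟩

end Groth.Agent.S15980
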