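import Groth.Statements.S15981
import Groth.Agent.ChowK.KDev

set_option autoImplicit false
universe u
open IntSh

namespace Groth.Agent.S15981

open CategoryTheory AlgebraicGeometry
section Helpers

open TopologicalSpace Groth.QCohMod Groth.KTheory Groth.KTheory.LocFree Groth.ChowK Groth.ChowK.KDev

variable {X : Scheme.{u}} [IsNoetherian X] [IsReduced X]

theorem len_ne_top' {F : X.Modules} (hF : Coh.IsCoh F) {x : X} (hx : ∀ z : X, z ⤳ x → z = x) :
    Module.length (X.presheaf.stalk x) (F.presheaf.stalk x) ≠ ⊤ :=
  Devissage.length_stalk_ne_top hF x fun z _ h => hx z h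

theorem equiv_of_length_eq {A B : X.Modules} (hA : Coh.IsCoh A) (hB : Coh.IsCoh B) {x : X}
    (hx : ringKrullDim (X.presheaf.stalk x) = 0)
    (h : Module.length (X.presheaf.stalk x) (A.presheaf.stalk x) =
      Module.length (X.presheaf.stalk x) (B.presheaf.stalk x)) :
    Nonempty (A.presheaf.stalk x ≃ₗ[X.presheaf.stalk x] B.presheaf.stalk x) := by
  have : Ring.KrullDimLE 0 (X.presheaf.stalk x) := Ring.krullDimLE_iff.mpr hx.le
  have hf : IsField (X.presheaf.stalk x) := Ring.KrullDimLE.isField_of_isReduced
  have := hA.1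
  have := hB.1
  have := Groth.QCohMod.finite_stalk A hA.2 x
  have := Groth.QCohMod.finite_stalk B hB.2 x
  letI := hf.toField
  refine FiniteDimensional.nonempty_linearEquiv_of_finrank_eq ?_
  rw [Module.length_eq_finrank, Module.length_eq_finrank] at h
  exact_mod_cast h

theorem subsingleton_of_not_small {G : X.Modules}
    (h : ∀ y : X, ringKrullDim (X.presheaf.stalk y) = 0 → Subsingleton (G.presheaf.stalk y)) :
    ∀ x ∈ CohB1.support G, (1 : WithBot ℕ∞) ≤ ringKrullDim (X.presheaf.stalk x) := by
  intro x hx
  have hne : ringKrullDim (X.presheaf.stalk x) ≠ 0 := fun h0 => hx (h x h0)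
  rw [ringKrullDim_stalk_eq_coheight] at hne ⊢
  exact_mod_cast Order.one_le_iff_pos.2 (pos_iff_ne_zero.2 (by exact_mod_cast hne))

end Helpers


open CategoryTheory CategoryTheory.Limits AlgebraicGeometry in
/-- Let X be a reduced Noetherian scheme and η_i the generic points of its irreducible components (the
points with zero-dimensional local ring). Sending the class of a coherent O_X-module F to the family
of lengths of its stalks F_{η_i} over O_{X,η_i} is a well defined homomorphism rk from the
Grothendieck group of coherent O_X-modules to the group of integer-valued functions on the η_i;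
every such rk is surjective and its kernel is the subgroup generated by the classes of coherent
modules whose support contains no η_i (the first step of the coniveau filtration), so that rk
identifies the zeroth graded piece of that filtration with the free abelian group on the irreducible
components. -/
theorem result
    {X : Scheme.{u}} [IsNoetherian X] [IsReduced X] :
    (∃ rk : SGA6.Kcoh X →+ ({x : X // ringKrullDim (X.presheaf.stalk x) = 0} → ℤ),
        ∀ F : X.Modules, Coh.IsCoh F →
          rk (KZero.clSub (fun M : X.Modules => Coh.IsCoh M) F) =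
            fun x => ((Module.length (X.presheaf.stalk x.1) (F.presheaf.stalk x.1)).toNat : ℤ)) ∧
    ∀ rk : SGA6.Kcoh X →+ ({x : X // ringKrullDim (X.presheaf.stalk x) = 0} → ℤ),
      (∀ F : X.Modules, Coh.IsCoh F →
          rk (KZero.clSub (fun M : X.Modules => Coh.IsCoh M) F) =
            fun x => ((Module.length (X.presheaf.stalk x.1) (F.presheaf.stalk x.1)).toNat : ℤ)) →
        Function.Surjective rk ∧
          rk.ker = AddSubgroup.closure {c : SGA6.Kcoh X | ∃ F : X.Modules, Coh.IsCoh F ∧
            (∀ x ∈ CohB1.support F, (1 : WithBot ℕ∞) ≤ ringKrullDim (X.presheaf.stalk x)) ∧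
            c = KZero.clSub (fun M : X.Modules => Coh.IsCoh M) F} := by
  classical
  open Groth.QCohMod Groth.KTheory Groth.KTheory.LocFree Groth.ChowK Groth.ChowK.KDev in
  have hadd : ∀ S : ShortComplex X.Modules, S.ShortExact → Coh.IsCoh S.X₁ → Coh.IsCoh S.X₂ → Coh.IsCoh S.X₃ →
      (fun x : {x : X // ringKrullDim (X.presheaf.stalk x) = 0} =>
        ((Module.length (X.presheaf.stalk x.1) (S.X₂.presheaf.stalk x.1)).toNat : ℤ)) =
      (fun x : {x : X // ringKrullDim (X.presheaf.stalk x) = 0} =>
        ((Module.length (X.presheaf.stalk x.1) (S.X₁.presheaf.stalk x.1)).toNat : ℤ)) +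
      (fun x : {x : X // ringKrullDim (X.presheaf.stalk x) = 0} =>
        ((Module.length (X.presheaf.stalk x.1) (S.X₃.presheaf.stalk x.1)).toNat : ℤ)) := by
    intro S hS h₁ h₂ h₃
    funext x
    obtain ⟨hi, he, hs⟩ := Groth.KTheory.LocFree.stalk_exact hS x.1
    have hx := Groth.ChowK.KDev.dim_stalk_eq_zero_iff.1 x.2
    rw [Pi.add_apply, Module.length_eq_add_of_exact _ _ hi hs he,
      ENat.toNat_add (len_ne_top' h₁ hx) (len_ne_top' h₃ hx), Nat.cast_add]
  refine ⟨⟨Groth.KTheory.liftSub (Groth.ChowK.KDev.CohP X) _ hadd, fun F hF =>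
    Groth.KTheory.liftSub_clSub _ _ hF⟩, fun rk hrk => ⟨fun g => ?_, ?_⟩⟩
  · have hfin : Finite {x : X // ringKrullDim (X.presheaf.stalk x) = 0} := by
      refine ((Groth.ChowK.KDev.finite_maximal (X := X) isClosed_univ).subset ?_).to_subtype
      intro x hx
      exact ⟨trivial, fun z _ hz => Groth.ChowK.KDev.dim_stalk_eq_zero_iff.1 hx z hz⟩
    have := Fintype.ofFinite {x : X // ringKrullDim (X.presheaf.stalk x) = 0}
    refine ⟨∑ x : {x : X // ringKrullDim (X.presheaf.stalk x) = 0},
      g x • KZero.clSub (fun M : X.Modules => Coh.IsCoh M) (Cyc.closureStructureSheaf x.1), ?_⟩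
    funext y
    rw [map_sum, Finset.sum_apply, Finset.sum_eq_single y]
    · rw [map_zsmul, hrk _ (Groth.KTheory.Devissage.isCoh_closureStructureSheaf y.1), Pi.smul_apply,
        Groth.KTheory.Devissage.length_closureStructureSheaf]
      simp
    · intro x _ hne
      rw [map_zsmul, hrk _ (Groth.KTheory.Devissage.isCoh_closureStructureSheaf x.1), Pi.smul_apply]
      have : Subsingleton ((Cyc.closureStructureSheaf x.1).presheaf.stalk y.1) := by
        by_contra h
        exact hne (Subtype.ext (Groth.ChowK.KDev.dim_stalk_eq_zero_iff.1 y.2 x.1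
          (specializes_iff_mem_closure.2 (Groth.KTheory.Devissage.support_closureStructureSheaf_subset x.1 h))))
      rw [Module.length_eq_zero_iff.2 this]
      simp
    · intro h
      exact absurd (Finset.mem_univ y) h
  · apply le_antisymm
    · intro c hc
      obtain ⟨M, N, hM, hN, rfl⟩ := Groth.ChowK.KDev.exists_eq_sub c
      rw [AddMonoidHom.mem_ker, map_sub, sub_eq_zero, hrk M hM, hrk N hN] at hc
      refine Groth.ChowK.KDev.cl_sub_mem isClosed_univ _ ?small _
        (Groth.ChowK.KDev.finite_maximal (X := X) isClosed_univ).toFinset rfl M N hM hN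
        (Set.subset_univ _) (Set.subset_univ _)
        (fun y hy hm hyS => ?_) fun y hy => ?_
      case small =>
        exact fun G hG _ h => AddSubgroup.subset_closure
          ⟨G, hG, subsingleton_of_not_small fun y hy => h y trivial fun z _ hz =>
            Groth.ChowK.KDev.dim_stalk_eq_zero_iff.1 hy z hz, rfl⟩
      · exact absurd ((Groth.ChowK.KDev.finite_maximal (X := X) isClosed_univ).mem_toFinset.2 ⟨hy, hm⟩) hyS
      obtain ⟨hy1, hy2⟩ := (Set.Finite.mem_toFinset _).1 hy
      have hy0 : ringKrullDim (X.presheaf.stalk y) = 0 :=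
        Groth.ChowK.KDev.dim_stalk_eq_zero_iff.2 fun z hz => hy2 z trivial hz
      refine ⟨⟨hy1, hy2⟩, equiv_of_length_eq hM hN hy0 ?_⟩
      have := congrFun hc ⟨y, hy0⟩
      simp only [Nat.cast_inj] at this
      rw [← ENat.coe_toNat (len_ne_top' hM fun z hz => hy2 z trivial hz),
        ← ENat.coe_toNat (len_ne_top' hN fun z hz => hy2 z trivial hz), this]
    · rw [AddSubgroup.closure_le]
      rintro _ ⟨F, hF, hsupp, rfl⟩
      rw [SetLike.mem_coe, AddMonoidHom.mem_ker, hrk F hF]
      funext x
      have : Subsingleton (F.presheaf.stalk x.1) := by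
        by_contra h
        exact absurd ((hsupp x.1 h).trans x.2.le) (by decide)
      rw [Module.length_eq_zero_iff.2 this]
      rfl

end Groth.Agent.S15981
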