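import Groth.Statements.S15983
import Mathlib
import Groth.Agent.DLVar.Basic

set_option autoImplicit false
universe u v
open W4c3dlvarstrsh

namespace Groth.Agent.S15983

open Matrix W4c3dlvarstrsh Groth.DLVar

/-- Let F be a finite field, R a commutative ring, and ω a word of r pairwise distinct simple
reflections of GL_{m+1}. For each level ℓ, consider the families, indexed by the subwords of ω with
ℓ letters, of R-valued functions on GL_{m+1}(F), each invariant under right translation by the
standard parabolic subgroup of its subword (the permutation module of that parabolic over R), and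
the differential lowering the level by one given by the alternating sum of the inclusions (a letter
is deleted with the sign of its position). Then for every c with c + 1 ≤ r, every such invariant
family at level c + 1 killed by the differential is the differential of an invariant family at level
c + 2; when c + 1 = r this is injectivity of the first differential, and when c + 1 < r it is
exactness of the complex at its middle terms. (The published statement has coefficients the integers
modulo a prime power; the same argument gives any commutative coefficient ring, as stated here. Its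
description of the cokernel at the last term is definitional in this formulation and is not
restated.) -/
theorem result
    (F : Type u) [Field F] [Fintype F] (R : Type v) [CommRing R]
    (m r : ℕ) (ω : Fin r ↪ Fin m) (c : ℕ) (hc : c + 1 ≤ r)
    (f : W4c3dlvarstrsh.Cochain F R (m := m) r (c + 1))
    (hf : W4c3dlvarstrsh.IsInduced ω f) (hd : W4c3dlvarstrsh.delta c f = 0) :
    ∃ g : W4c3dlvarstrsh.Cochain F R (m := m) r (c + 2),
      W4c3dlvarstrsh.IsInduced ω g ∧ W4c3dlvarstrsh.delta (c + 1) g = f := by

  classical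
  let PP : Finset (Fin r) → Subgroup (GL (Fin (m + 1)) F) := fun T => parabolic F (T.map ω)
  let B : Subgroup (GL (Fin (m + 1)) F) := parabolic F (∅ : Finset (Fin m))
  have hB : ∀ T, B ≤ PP T := fun T => parabolic_mono (Finset.empty_subset _)
  let rk : GL (Fin (m + 1)) F → Lex (Fin (m + 1) → Fin (m + 1)) := fun g => toLex (piv g)
  have : WellFoundedLT (Lex (Fin (m + 1) → Fin (m + 1))) := Finite.to_wellFoundedLT
  have hmin : ∀ (T : Finset (Fin r)) (q : GL (Fin (m + 1)) F ⧸ PP T),
      ∃ g : GL (Fin (m + 1)) F, (g : GL (Fin (m + 1)) F ⧸ PP T) = q ∧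
        ∀ g' : GL (Fin (m + 1)) F, (g' : GL (Fin (m + 1)) F ⧸ PP T) = q → rk g ≤ rk g' := fun T q =>
    ⟨_, Function.argminOn_mem rk _ (Quotient.exists_rep q),
      fun g' hg' => Function.argminOn_le rk (s := {g : GL (Fin (m + 1)) F | (g : GL (Fin (m + 1)) F ⧸ PP T) = q}) hg'⟩
  choose rep hrep hrepmin using hmin
  let mT : Finset (Fin r) → GL (Fin (m + 1)) F ⧸ B → GL (Fin (m + 1)) F ⧸ B := fun T x =>
    (rep T ((x.out : GL (Fin (m + 1)) F) : GL (Fin (m + 1)) F ⧸ PP T) : GL (Fin (m + 1)) F ⧸ B)
  have hout : ∀ (T : Finset (Fin r)) (g : GL (Fin (m + 1)) F),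
      (((g : GL (Fin (m + 1)) F ⧸ B).out : GL (Fin (m + 1)) F) : GL (Fin (m + 1)) F ⧸ PP T) = g := fun T g => by
    rw [QuotientGroup.eq]
    exact hB T (QuotientGroup.eq.1 (Quotient.out_eq (g : GL (Fin (m + 1)) F ⧸ B)))
  have hpiv : ∀ g : GL (Fin (m + 1)) F, piv ((g : GL (Fin (m + 1)) F ⧸ B).out) = piv g := fun g => by
    have h1 : ((g : GL (Fin (m + 1)) F ⧸ B).out)⁻¹ * g ∈ B :=
      QuotientGroup.eq.1 (Quotient.out_eq (g : GL (Fin (m + 1)) F ⧸ B))
    conv_rhs => rw [← mul_inv_cancel_left ((g : GL (Fin (m + 1)) F ⧸ B).out) g]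
    exact (piv_mul _ _ h1).symm
  let A : GL (Fin (m + 1)) F ⧸ B → Finset (Fin r) := fun x =>
    Finset.univ.filter fun a => piv x.out (ω a).castSucc < piv x.out (ω a).succ
  have hA : ∀ T x, T ⊆ A x ↔ Incr (T.map ω) x.out := fun T x => by
    constructor
    · intro h k hk
      obtain ⟨a, ha, rfl⟩ := Finset.mem_map.1 hk
      exact (Finset.mem_filter.1 (h ha)).2
    · intro h a ha
      exact Finset.mem_filter.2 ⟨Finset.mem_univ _, h _ (Finset.mem_map.2 ⟨a, ha, rfl⟩)⟩
  have hrepincr : ∀ T q, Incr (T.map ω) (rep T q) := fun T q => by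
    by_contra hc
    obtain ⟨p, hp, hlt⟩ := exists_better hc
    refine absurd hlt (not_lt.2 (hrepmin T q (rep T q * p) ?_))
    refine (QuotientGroup.eq.2 ?_).trans (hrep T q)
    simpa [PP] using inv_mem hp
  have hfix : ∀ T x, T ⊆ A x → mT T x = x := fun T x h => by
    have h1 := (hA T x).1 h
    have h2 := hrepincr T ((x.out : GL (Fin (m + 1)) F) : GL (Fin (m + 1)) F ⧸ PP T)
    have h3 := QuotientGroup.eq.1 (hrep T ((x.out : GL (Fin (m + 1)) F) : GL (Fin (m + 1)) F ⧸ PP T))
    conv_rhs => rw [← Quotient.out_eq x]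
    refine QuotientGroup.eq.2 (incr_unique h3 h2 ?_)
    rw [mul_inv_cancel_left]; exact h1
  have hlt : ∀ T x, ¬ T ⊆ A x → rk (mT T x).out < rk x.out := fun T x h => by
    obtain ⟨p, hp, hlt⟩ := exists_better (mt (hA T x).2 h)
    refine lt_of_le_of_lt (le_trans (le_of_eq ?_) (hrepmin T ((x.out : GL (Fin (m + 1)) F) : GL (Fin (m + 1)) F ⧸ PP T) (x.out * p) ?_)) hlt
    · exact congrArg toLex (hpiv _)
    · rw [QuotientGroup.eq]
      simpa [PP] using inv_mem hp
  have hcomp : ∀ T U x, T ⊆ U → mT U (mT T x) = mT U x := fun T U x h => by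
    have h1 : ((mT T x).out : GL (Fin (m + 1)) F ⧸ PP U) = (x.out : GL (Fin (m + 1)) F ⧸ PP U) := by
      rw [hout U, QuotientGroup.eq]
      exact parabolic_mono (Finset.map_subset_map.2 h) (QuotientGroup.eq.1 (hrep T _))
    simp only [mT] at h1 ⊢
    rw [h1]
  let fx : GL (Fin (m + 1)) F ⧸ B → Finset (Fin r) → R := fun x T =>
    if hT : T.card = c + 1 then f ⟨T, hT⟩ x.out else 0
  have hinv : ∀ (T : {T : Finset (Fin r) // T.card = c + 1}) (g g' : GL (Fin (m + 1)) F),
      (g : GL (Fin (m + 1)) F ⧸ PP T.1) = g' → f T g = f T g' := fun T g g' h => by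
    have := hf T g _ (QuotientGroup.eq.1 h)
    rwa [mul_inv_cancel_left, eq_comm] at this
  have hfm : ∀ T x, fx (mT T x) T = fx x T := fun T x => by
    simp only [fx]
    split_ifs with hT
    · exact hinv ⟨T, hT⟩ _ _ ((hout T _).trans (hrep T _))
    · rfl
  have hDf : ∀ x T, D (fx x) T = 0 := fun x T => by
    by_cases hT : T.card = c
    · have := congr_fun (congr_fun hd ⟨T, hT⟩) x.out
      rw [delta] at this
      refine Eq.trans ?_ this
      simp only [D, fx, s, Pi.zero_apply]
      rw [← Finset.sum_subset (Finset.subset_univ Tᶜ) (fun a _ ha => dif_neg (by simpa using ha))]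
      refine Finset.sum_congr rfl fun a ha => ?_
      rw [Finset.mem_compl] at ha
      rw [dif_pos ha, dif_pos (by rw [Finset.card_insert_of_notMem ha, hT])]
    · refine Finset.sum_eq_zero fun a ha => ?_
      rw [Finset.mem_compl] at ha
      simp only [fx]
      rw [dif_neg (by rw [Finset.card_insert_of_notMem ha]; omega), mul_zero]
  let rkN : GL (Fin (m + 1)) F ⧸ B → ℕ := fun x => (Finset.univ.filter fun a => a < rk x.out).card
  have hltN : ∀ T x, ¬ T ⊆ A x → rkN (mT T x) < rkN x := fun T x h =>
    Finset.card_lt_card ((Finset.ssubset_iff_of_subset (fun a ha =>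
      Finset.mem_filter.2 ⟨Finset.mem_univ _, ((Finset.mem_filter.1 ha).2).trans (hlt T x h)⟩)).2
      ⟨rk (mT T x).out, Finset.mem_filter.2 ⟨Finset.mem_univ _, hlt T x h⟩,
        fun hc => lt_irrefl _ (Finset.mem_filter.1 hc).2⟩)
  obtain ⟨h, hinvh, hDh⟩ := exists_primitive rkN A mT hfix hltN hcomp fx hfm
    (fun x => by simp [fx]) hDf
  refine ⟨fun U g => h g U.1, fun U g p hp => ?_, ?_⟩
  · have h1 : mT U.1 ((g * p : GL (Fin (m + 1)) F) : GL (Fin (m + 1)) F ⧸ B) = mT U.1 (g : GL (Fin (m + 1)) F ⧸ B) := by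
      simp only [mT, hout]
      congr 2
      rw [QuotientGroup.eq]
      simpa [PP] using inv_mem hp
    have := hinvh U.1 ((g * p : GL (Fin (m + 1)) F) : GL (Fin (m + 1)) F ⧸ B)
    rw [h1, hinvh] at this
    exact this.symm
  · funext T g
    refine Eq.trans ?_ ((hDh (g : GL (Fin (m + 1)) F ⧸ B) T.1).trans ?_)
    · simp only [delta, D, s]
      rw [← Finset.sum_subset (Finset.subset_univ T.1ᶜ) (fun a _ ha => dif_neg (by simpa using ha))]
      exact Finset.sum_congr rfl fun a ha => dif_pos (Finset.mem_compl.1 ha)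
    · simp only [fx, dif_pos T.2]
      exact hinv T _ _ (hout T.1 g)

end Groth.Agent.S15983
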