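import Groth.Statements.S15984
import Groth.Agent.Limits.BC0.Consequences

set_option autoImplicit false
universe u
open Coherent

namespace Groth.Agent.S15984

open AlgebraicGeometry CategoryTheory Scheme.Modules in
/-- Let π : X → Y be proper of finite presentation, F a quasi-coherent O_X-module of finite
presentation, flat over Y, and y a point of Y at which the degree-0 base change map of the fibre
square, κ(y)^* π_* F → (X_y → Spec κ(y))_* (F|_{X_y}) — the adjoint of π_* of the unit F → ι_* ι^* F
for ι : X_y → X, followed by the identification π_* ι_* = (Spec κ(y) → Y)_* (X_y → Spec κ(y))_* — is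
an epimorphism. Then y has an open neighbourhood U over which π_* F is finite locally free and such
that for every cartesian square with vertex X' = X ×_Y Z, projections f : X' → X and ζ : X' → Z,
over a morphism α : Z → Y with image inside U, the base change map α^* π_* F → ζ_* f^* F (defined
the same way) is an isomorphism. (Degree-0 case of the source's statement, which treats all higher
direct images R^p π_* F.) -/
theorem result
    {X Y : Scheme.{u}} (π : X ⟶ Y) [IsProper π] [LocallyOfFinitePresentation π]
    (F : X.Modules) [Coh.IsQCoh F] (hfp : CohB1.IsFP F) (hfl : FlatMod.IsFlatOver π F) (y : Y)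
    (hy : Epi (((pullbackPushforwardAdjunction (Y.fromSpecResidueField y)).homEquiv ((pushforward π).obj F)
            ((pushforward (π.fiberToSpecResidueField y)).obj ((pullback (π.fiberι y)).obj F))).symm
          ((pushforward π).map ((pullbackPushforwardAdjunction (π.fiberι y)).unit.app F) ≫
            (pushforwardComp (π.fiberι y) π).hom.app ((pullback (π.fiberι y)).obj F) ≫
            (pushforwardCongr (π.fiber_fac y)).hom.app ((pullback (π.fiberι y)).obj F) ≫
            (pushforwardComp (π.fiberToSpecResidueField y) (Y.fromSpecResidueField y)).inv.app ((pullback (π.fiberι y)).obj F)))) :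
    ∃ U : Y.Opens, y ∈ U ∧ FlatMod.IsFinLocFree (((pushforward π).obj F).restrict U.ι) ∧
      ∀ ⦃X' Z : Scheme.{u}⦄ (f : X' ⟶ X) (ζ : X' ⟶ Z) (α : Z ⟶ Y) (h : IsPullback f ζ π α),
        (∀ z : Z, α z ∈ U) →
        IsIso (((pullbackPushforwardAdjunction α).homEquiv ((pushforward π).obj F)
            ((pushforward ζ).obj ((pullback f).obj F))).symm
          ((pushforward π).map ((pullbackPushforwardAdjunction f).unit.app F) ≫
            (pushforwardComp f π).hom.app ((pullback f).obj F) ≫
            (pushforwardCongr h.w).hom.app ((pullback f).obj F) ≫
            (pushforwardComp ζ α).inv.app ((pullback f).obj F))) := by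
  have hgood := Groth.Limits.BC0.goodAt_of_epi hfp hfl y hy
  exact ⟨Groth.Limits.BC0.goodOpens π F, hgood,
    Groth.Limits.BC0.isFinLocFree_restrict_of_good fun t ht => ht,
    fun X' Z f ζ α h hα => Groth.Limits.BC0.isIso_bc0_of_good h fun z => hα z⟩

end Groth.Agent.S15984
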