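import Groth.Statements.S15987

set_option autoImplicit false
universe u v
open Deform

namespace Groth.Agent.S15987

open TrivSqZeroExt in
/-- Let k be a field, A a commutative k-algebra and q_i : A → k (i ∈ ι) k-algebra maps (marked k-points
of Spec A). The k-algebra automorphisms φ of the ring of dual numbers A[ε] that fix ε (so are
k[ε]-linear), are the identity modulo ε, and satisfy q_i((φ x)_ε) = q_i(x_ε) for all i and x
(compatibility with the trivial lifts A[ε] → k[ε] of the marked points) are in bijection with the
k-derivations D : A → A such that q_i ∘ D = 0 for every i, the bijection sending φ to a ↦ (φ(a))_ε.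
(The source identifies the right-hand side with the global vector fields vanishing at the marked
points; the condition the computation yields is q_i ∘ D = 0, which is the same for Spec A smooth
over k but is weaker in general, e.g. for A = k[x]/(x^2) with 2 invertible in k.) -/
theorem result
    (k : Type u) [Field k] (A : Type u) [CommRing A] [Algebra k A] {ι : Type v} (q : ι → (A →ₐ[k] k)) :
    ∃ e : {φ : DualNumber A ≃ₐ[k] DualNumber A //
            φ DualNumber.eps = DualNumber.eps ∧ (∀ x, (φ x).fst = x.fst) ∧
              ∀ i x, q i (φ x).snd = q i x.snd} ≃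
          {D : Derivation k A A // ∀ i a, q i (D a) = 0},
      ∀ φ (a : A), (e φ).1 a = (φ.1 (inl a : DualNumber A)).snd := by
  classical
  have hφr : ∀ (φ : DualNumber A ≃ₐ[k] DualNumber A), φ DualNumber.eps = DualNumber.eps →
      (∀ x, (φ x).fst = x.fst) → ∀ x : DualNumber A, (φ x).snd = (φ (inl x.fst)).snd + x.snd := by
    intro φ he h1 x
    have hx : x = inl x.fst + inl x.snd * DualNumber.eps := by
      refine TrivSqZeroExt.ext ?_ ?_ <;> simp [-DualNumber.inr_eq_smul_eps, DualNumber.eps]
    conv_lhs => rw [hx, map_add, map_mul, he]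
    simp [-DualNumber.inr_eq_smul_eps, DualNumber.eps, h1]
  have hmul : ∀ (φ : DualNumber A ≃ₐ[k] DualNumber A), (∀ x, (φ x).fst = x.fst) → ∀ a b : A,
      (φ (inl (a * b))).snd = a * (φ (inl b)).snd + b * (φ (inl a)).snd := fun φ h1 a b => by
    rw [TrivSqZeroExt.inl_mul, map_mul, TrivSqZeroExt.snd_mul, h1, h1]
    simp
    ring
  let mkD : ∀ φ : DualNumber A ≃ₐ[k] DualNumber A, (∀ x, (φ x).fst = x.fst) → Derivation k A A := fun φ h1 =>
    Derivation.mk'
      { toFun := fun a => (φ (inl a)).snd
        map_add' := fun a b => by rw [TrivSqZeroExt.inl_add, map_add, TrivSqZeroExt.snd_add]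
        map_smul' := fun c a => by
          rw [RingHom.id_apply, show (inl (c • a) : DualNumber A) = c • inl a by
            refine TrivSqZeroExt.ext ?_ ?_ <;> simp, map_smul, TrivSqZeroExt.snd_smul] }
      (fun a b => by simpa [smul_eq_mul] using hmul φ h1 a b)
  let mkφ : Derivation k A A → (DualNumber A →ₐ[k] DualNumber A) := fun D =>
    { toFun := fun x => inl x.fst + inr (x.snd + D x.fst)
      map_one' := by refine TrivSqZeroExt.ext ?_ ?_ <;> simp
      map_zero' := by refine TrivSqZeroExt.ext ?_ ?_ <;> simp
      map_add' := fun x y => by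
        refine TrivSqZeroExt.ext ?_ ?_
        · simp
        · simp only [TrivSqZeroExt.snd_add, TrivSqZeroExt.snd_inl, TrivSqZeroExt.snd_inr, TrivSqZeroExt.fst_add, map_add]
          abel
      map_mul' := fun x y => by
        refine TrivSqZeroExt.ext ?_ ?_
        · simp
        · simp [TrivSqZeroExt.snd_mul]
          ring
      commutes' := fun c => by
        refine TrivSqZeroExt.ext ?_ ?_ <;> simp [TrivSqZeroExt.algebraMap_eq_inl'] }
  have hcomp : ∀ D : Derivation k A A, (mkφ D).comp (mkφ (-D)) = AlgHom.id k _ := fun D => AlgHom.ext fun x => by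
    refine TrivSqZeroExt.ext ?_ ?_ <;> simp [mkφ]
  have hcomp' : ∀ D : Derivation k A A, (mkφ (-D)).comp (mkφ D) = AlgHom.id k _ := fun D => by
    have := hcomp (-D)
    rwa [neg_neg] at this
  let back : Derivation k A A → (DualNumber A ≃ₐ[k] DualNumber A) := fun D =>
    AlgEquiv.ofAlgHom (mkφ D) (mkφ (-D)) (hcomp D) (hcomp' D)
  refine ⟨{ toFun := fun φ => ⟨mkD φ.1 φ.2.2.1, fun i a => ?_⟩
            invFun := fun D => ⟨back D.1, ?_, fun x => ?_, fun i x => ?_⟩
            left_inv := fun φ => Subtype.ext (AlgEquiv.ext fun x => TrivSqZeroExt.ext ?_ ?_)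
            right_inv := fun D => Subtype.ext (Derivation.ext fun a => ?_) }, fun φ a => rfl⟩
  · have := φ.2.2.2 i (inl a)
    simpa using! this
  · refine TrivSqZeroExt.ext ?_ ?_ <;> simp [-DualNumber.inr_eq_smul_eps, back, mkφ, DualNumber.eps]
  · simp [back, mkφ]
  · simp [back, mkφ, D.2 i]
  · simp [back, mkφ, φ.2.2.1]
  · change (inl x.fst + inr (x.snd + (φ.1 (inl x.fst)).snd) : DualNumber A).snd = _
    rw [hφr φ.1 φ.2.1 φ.2.2.1 x]
    simp [add_comm]
  · change (inl (inl a : DualNumber A).fst + inr ((inl a : DualNumber A).snd + D.1 (inl a : DualNumber A).fst) : DualNumber A).snd = _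
    simp

end Groth.Agent.S15987
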