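import Groth.Statements.S15988
import Mathlib.RingTheory.Smooth.Basic
import Mathlib.RingTheory.Kaehler.Basic

set_option autoImplicit false
universe u v
open Deform

namespace Groth.Agent.S15988

open TrivSqZeroExt in
/-- Let k be a field, A a smooth commutative k-algebra, q_i : A → k (i ∈ ι, ι finite) pairwise distinct
k-algebra maps, and q'_i : A[ε] → k[ε] k-algebra maps with q'_i(ε) = ε which reduce to q_i modulo ε
(marked points of a first-order deformation with underlying trivial deformation). Then some
k-algebra automorphism φ of A[ε] with φ(ε) = ε and φ = id modulo ε carries every q'_i to the trivial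
lift of q_i: q'_i(φ x) = (q_i(x_0), q_i(x_ε)) for all i and x. Together with the triviality of
first-order deformations of a smooth affine scheme this gives the source's statement that
first-order deformations of a smooth affine scheme with marked points are trivial. (The published
statement does not say that the finitely many marked points are distinct; for two coincident points
with different lifts no such automorphism exists, so the points are taken pairwise distinct here,
and the source's non-singular is read as smooth over k.) -/
theorem result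
    (k : Type u) [Field k] (A : Type u) [CommRing A] [Algebra k A] [Algebra.Smooth k A]
    {ι : Type v} [Finite ι] (q : ι → (A →ₐ[k] k)) (hq : Function.Injective q)
    (q' : ι → (DualNumber A →ₐ[k] DualNumber k))
    (hε : ∀ i, q' i DualNumber.eps = DualNumber.eps) (hq' : ∀ i x, (q' i x).fst = q i x.fst) :
    ∃ φ : DualNumber A ≃ₐ[k] DualNumber A,
      φ DualNumber.eps = DualNumber.eps ∧ (∀ x, (φ x).fst = x.fst) ∧
        ∀ i x, (q' i (φ x)).fst = q i x.fst ∧ (q' i (φ x)).snd = q i x.snd := by
  classical
  have := Fintype.ofFinite ι
  -- interpolation at the points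
  have hsep : ∀ i, ∃ e : A, q i e = 1 ∧ ∀ j, j ≠ i → q j e = 0 := by
    intro i
    have h : ∀ j, j ≠ i → ∃ e : A, q i e = 1 ∧ q j e = 0 := by
      intro j hj
      obtain ⟨a, ha⟩ : ∃ a, q i a ≠ q j a := by
        by_contra hc
        push Not at hc
        exact hj (hq (AlgHom.ext hc)).symm
      refine ⟨(q i a - q j a)⁻¹ • (a - algebraMap k A (q j a)), ?_, by simp⟩
      simp [inv_mul_cancel₀ (sub_ne_zero.mpr ha)]
    choose e he1 he2 using h
    refine ⟨∏ j : {j // j ≠ i}, e j.1 j.2, by simp [he1], fun j hj => ?_⟩
    rw [map_prod]
    exact Finset.prod_eq_zero (Finset.mem_univ ⟨j, hj⟩) (he2 j hj)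
  choose e he1 he0 using hsep
  let Q : A →ₐ[k] (ι → k) := AlgHom.ofLinearMap (LinearMap.pi fun i => (q i).toLinearMap) (by ext i; simp) (fun a b => by ext i; simp)
  letI : Algebra A (ι → k) := Q.toRingHom.toAlgebra
  haveI : IsScalarTower k A (ι → k) := IsScalarTower.of_algebraMap_eq (fun c => (Q.commutes c).symm)
  have hsmul : ∀ (a : A) (f : ι → k) i, (a • f) i = q i a * f i := fun a f i => rfl
  -- the derivations given by the marked points
  let c : ι → A → k := fun i a => (q' i (TrivSqZeroExt.inl a)).snd
  have hc1 : ∀ i a, (q' i (TrivSqZeroExt.inl a)).fst = q i a := fun i a => by rw [hq']; simp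
  have hcalg : ∀ i (r : k), c i (algebraMap k A r) = 0 := by
    intro i r
    have h := congrArg TrivSqZeroExt.snd ((q' i).commutes r)
    exact h
  have hq's : ∀ i x, (q' i x).snd = c i x.fst + q i x.snd := by
    intro i x
    have hx : x = TrivSqZeroExt.inl x.fst + DualNumber.eps * TrivSqZeroExt.inl x.snd := by
      ext <;> simp
    conv_lhs => rw [hx]
    rw [map_add, map_mul, hε]
    simp [c, hc1]
  let Dc : Derivation k A (ι → k) := Derivation.mk'
    { toFun := fun a i => - c i a
      map_add' := fun a b => by
        ext i
        simp only [Pi.add_apply, c]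
        rw [TrivSqZeroExt.inl_add, map_add, TrivSqZeroExt.snd_add, neg_add]
      map_smul' := fun r a => by
        ext i
        simp only [Pi.smul_apply, RingHom.id_apply, c]
        have h : (TrivSqZeroExt.inl (r • a) : DualNumber A) = r • TrivSqZeroExt.inl a := by ext <;> simp
        rw [h, map_smul, TrivSqZeroExt.snd_smul, smul_neg] }
    (fun a b => by
      ext i
      simp only [LinearMap.coe_mk, AddHom.coe_mk, Pi.add_apply, hsmul, c]
      rw [TrivSqZeroExt.inl_mul, map_mul, TrivSqZeroExt.snd_mul, hc1, hc1]
      simp; ring)
  let L : A →ₗ[A] (ι → k) := Algebra.linearMap A (ι → k)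
  have hL : Function.Surjective L := by
    intro f
    refine ⟨∑ i, f i • e i, ?_⟩
    ext j
    change q j (∑ i, f i • e i) = f j
    rw [map_sum, Finset.sum_eq_single j]
    · simp [he1]
    · intro i _ hij; simp [he0 i j (Ne.symm hij)]
    · simp
  obtain ⟨g, hg⟩ := Module.projective_lifting_property L Dc.liftKaehlerDifferential hL
  let D : Derivation k A A := g.compDer (KaehlerDifferential.D k A)
  have hD : ∀ i a, q i (D a) = - c i a := by
    intro i a
    have h := LinearMap.congr_fun hg (KaehlerDifferential.D k A a)
    rw [Derivation.liftKaehlerDifferential_comp_D] at h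
    exact congrFun h i
  let φ : DualNumber A ≃ₐ[k] DualNumber A :=
    { toFun := fun x => x + TrivSqZeroExt.inr (D x.fst)
      invFun := fun x => x - TrivSqZeroExt.inr (D x.fst)
      left_inv := fun x => by ext <;> simp
      right_inv := fun x => by ext <;> simp
      map_mul' := fun x y => by
        ext <;> simp
        ring
      map_add' := fun x y => by
        ext <;> simp
        abel
      commutes' := fun r => by ext <;> simp [TrivSqZeroExt.algebraMap_eq_inl'] }
  refine ⟨φ, ?_, fun x => ?_, fun i x => ⟨?_, ?_⟩⟩
  · change DualNumber.eps + TrivSqZeroExt.inr (D (DualNumber.eps : DualNumber A).fst) = _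
    simp
  · change (x + TrivSqZeroExt.inr (D x.fst)).fst = x.fst
    simp
  · rw [hq']
    change q i (x + TrivSqZeroExt.inr (D x.fst)).fst = _
    simp
  · rw [hq's]
    change c i (x + TrivSqZeroExt.inr (D x.fst)).fst + q i (x + TrivSqZeroExt.inr (D x.fst)).snd = _
    simp [hD]

end Groth.Agent.S15988
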