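import Groth.Statements.S1599
import Groth.Agent.ResolveSurf.CompletionNormal
-- import your own Groth.Agent.* helpers here

set_option autoImplicit false
universe u
open CategoryTheory CategoryTheory.Limits AlgebraicGeometry
open Resolve

namespace Groth.Agent.S1599

/-- Let A be a Noetherian local ring with maximal ideal m and B ⊆ C finite A-algebras. If B is a normal
ring and the m-adic completion of C is a normal ring, then the m-adic completion of B is a normal
ring. -/
theorem result (A : Type u) [CommRing A] [IsLocalRing A] [IsNoetherianRing A]
    (B C : Type u) [CommRing B] [CommRing C] [Algebra A B] [Algebra A C] [Algebra B C] [IsScalarTower A B C]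
    [Module.Finite A B] [Module.Finite A C] (hinj : Function.Injective (algebraMap B C))
    (hB : EGA4.IsNormalRing B)
    (hC : EGA4.IsNormalRing (AdicCompletion ((IsLocalRing.maximalIdeal A).map (algebraMap A C)) C)) :
    EGA4.IsNormalRing (AdicCompletion ((IsLocalRing.maximalIdeal A).map (algebraMap A B)) B) := by
  have : Module.Finite B C := Module.Finite.of_restrictScalars_finite A B C
  have : IsNoetherianRing B := IsNoetherianRing.of_finite A B
  have hmap : ((IsLocalRing.maximalIdeal A).map (algebraMap A B)).map (algebraMap B C) =
      (IsLocalRing.maximalIdeal A).map (algebraMap A C) := by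
    rw [Ideal.map_map, ← IsScalarTower.algebraMap_eq]
  refine Groth.ResolveSurf.CplNormal.isNormalRing_completion (C := C) _ hinj hB ?_
  rw [hmap]
  exact hC

end Groth.Agent.S1599
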