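import Groth.Statements.S15993
import Groth.Agent.GrpschAbsch.SchDense
import Mathlib.AlgebraicGeometry.Morphisms.FlatDescent
import Mathlib.AlgebraicGeometry.Morphisms.SchemeTheoreticallyDominant

set_option autoImplicit false
open CategoryTheory AlgebraicGeometry CategoryTheory.Limits
universe u
open EtHull

namespace Groth.Agent.S15993

/-- Let f : X → S be a morphism of schemes which is faithfully flat (flat and surjective), quasi-compact
and separated, and schematically birational in the following sense: there are schematically dense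
opens U of S and V of X, with the inclusion V → X quasi-compact, such that f maps V into U and the
induced morphism V → U is an isomorphism. Then f is an isomorphism. (The source states this for
algebraic spaces and puts no quasi-compactness condition on the dense opens. Its proof base-changes
along f and uses that the inverse image of V in X ×_S X is again schematically dense, which holds
when V → X is quasi-compact, for instance when X is locally Noetherian, and fails in general: over
the Boolean ring of eventually constant sequences of elements of the field with two elements, the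
spectrum of the ring of eventually two-periodic sequences is faithfully flat and affine, and it is
an isomorphism above the open set of principal points, which is schematically dense on both sides,
yet it is not an isomorphism, the point at infinity being doubled. So V is taken retrocompact in X
here, and X, S are schemes.) -/
theorem result {X S : Scheme.{u}} (f : X ⟶ S)
    [Flat f] [Surjective f] [QuasiCompact f] [IsSeparated f]
    (U : S.Opens) (V : X.Opens) [QuasiCompact V.ι]
    (hU : CInt.IsSchematicallyDense U) (hV : CInt.IsSchematicallyDense V)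
    (hle : V ≤ f ⁻¹ᵁ U) (hiso : IsIso (f.resLE U V hle)) : IsIso f := by
  have hdom : IsSchemeTheoreticallyDominant V.ι := by
    refine ⟨Scheme.IdealSheafData.ext (funext fun A => ?_)⟩
    rw [Scheme.IdealSheafData.ideal_bot, Pi.bot_apply, eq_bot_iff]
    intro s hs
    rw [Ideal.mem_bot]
    rw [Scheme.Hom.ker_apply, RingHom.mem_ker] at hs
    refine hV A.1 ?_
    rw [map_zero]
    have h1 : V.ι ''ᵁ V.ι ⁻¹ᵁ A.1 ≤ A.1 := V.ι.image_preimage_le A.1
    have h2 : A.1 ⊓ V ≤ V.ι ''ᵁ V.ι ⁻¹ᵁ A.1 := by
      rw [V.ι.image_preimage_eq_opensRange_inf, V.opensRange_ι, inf_comm]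
    have h0 : X.presheaf.map (homOfLE h1).op s = 0 := by
      rw [Scheme.Opens.ι_app] at hs
      exact hs
    have h3 := congrArg (X.presheaf.map (homOfLE h2).op) h0
    rw [map_zero, ← CommRingCat.comp_apply, ← Functor.map_comp] at h3
    exact h3
  -- the preimage of `U` is `V`
  let W : X.Opens := f ⁻¹ᵁ U
  let f' : W.toScheme ⟶ U.toScheme := f ∣_ U
  have : IsSeparated f' := IsZariskiLocalAtTarget.restrict ‹_› U
  let s : U.toScheme ⟶ W.toScheme := inv (f.resLE U V hle) ≫ X.homOfLE hle
  have hres : f.resLE U V hle ≫ U.ι = V.ι ≫ f := Scheme.Hom.resLE_comp_ι _ _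
  have hsf : s ≫ f' = 𝟙 _ := by
    rw [← cancel_mono U.ι, Category.assoc, morphismRestrict_ι, Category.id_comp, Category.assoc,
      Scheme.homOfLE_ι_assoc, ← hres, IsIso.inv_hom_id_assoc]
  have : IsClosedImmersion (s ≫ f') := hsf ▸ inferInstance
  have : IsClosedImmersion s := IsClosedImmersion.of_comp s f'
  have hWV : W ≤ V := by
    intro x hx
    have hcl := s.isClosedEmbedding.isClosed_range
    have hsub : ∀ z : W.toScheme, z.1 ∈ V → z ∈ Set.range s := fun z hz => by
      refine ⟨f.resLE U V hle ⟨z.1, hz⟩, ?_⟩
      show (f.resLE U V hle ≫ s) _ = z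
      rw [IsIso.hom_inv_id_assoc]
      exact Subtype.ext (congrArg (fun k => k (⟨z.1, hz⟩ : V.toScheme)) (X.homOfLE_ι hle))
    have hx' : (⟨x, hx⟩ : W.toScheme) ∈ Set.range s := by
      rw [← hcl.closure_eq]
      refine mem_closure_iff.mpr fun o ho hxo => ?_
      obtain ⟨o', ho', rfl⟩ := isOpen_induced_iff.mp ho
      obtain ⟨v, hvo, hvW⟩ := V.ι.denseRange.exists_mem_open (ho'.inter W.isOpen) ⟨x, hxo, hx⟩
      exact ⟨⟨V.ι v, hvW⟩, hvo, hsub _ v.2⟩
    obtain ⟨y, hy⟩ := hx'
    have hV' : (s y).1 ∈ V := by
      show ((inv (f.resLE U V hle) ≫ X.homOfLE hle) ≫ W.ι) y ∈ V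
      rw [Category.assoc, Scheme.homOfLE_ι]
      exact ((inv (f.resLE U V hle)) y).2
    rwa [hy] at hV'
  -- the two projections agree
  let a := pullback.snd V.ι (pullback.fst f f) ≫ pullback.fst f f
  let b := pullback.snd V.ι (pullback.fst f f) ≫ pullback.snd f f
  have hab : a ≫ f = b ≫ f := by simp only [a, b, Category.assoc, pullback.condition]
  obtain ⟨a', ha'⟩ : ∃ a', a' ≫ V.ι = a := ⟨pullback.fst _ _, pullback.condition⟩
  obtain ⟨b', hb'⟩ : ∃ b', b' ≫ V.ι = b := ⟨IsOpenImmersion.lift V.ι b (by
    rintro _ ⟨q, rfl⟩
    rw [Scheme.Opens.range_ι]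
    refine hWV ?_
    show f (b q) ∈ U
    rw [← Scheme.Hom.comp_apply, ← hab, ← ha', Category.assoc, ← hres]
    exact ((a' ≫ f.resLE U V hle) q).2), IsOpenImmersion.lift_fac _ _ _⟩
  have hab' : a' = b' := by
    rw [← cancel_mono (f.resLE U V hle), ← cancel_mono U.ι]
    simp only [Category.assoc, hres]
    rw [reassoc_of% ha', reassoc_of% hb', hab]
  have heq : pullback.fst f f = pullback.snd f f :=
    Groth.GrpschAbsch.ext_of_isSchemeTheoreticallyDominant f pullback.condition
      (pullback.snd V.ι (pullback.fst f f)) (show a = b by rw [← ha', ← hb', hab'])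
  have : Mono f := ⟨fun p q hpq => by rw [← pullback.lift_fst p q hpq, heq, pullback.lift_snd]⟩
  exact MorphismProperty.of_pullback_fst_of_descendsAlong (P := MorphismProperty.isomorphisms Scheme.{u})
    (Q := @Surjective ⊓ @Flat ⊓ @QuasiCompact) (f := f) (g := f) ⟨⟨inferInstance, inferInstance⟩, inferInstance⟩
    (inferInstanceAs (IsIso (pullback.fst f f)))

end Groth.Agent.S15993
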