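import Groth.Statements.S15997
import Groth.Agent.Misc11EtHull.Sup
import Groth.Agent.EtaleBase.Rigidity
-- import your own Groth.Agent.* helpers here

set_option autoImplicit false
open CategoryTheory AlgebraicGeometry CategoryTheory.Limits
universe u
open EtHull

namespace Groth.Agent.S15997

/-- Let S be a Noetherian scheme all of whose local rings are geometrically unibranch and whose
structure sheaf has no embedded associated points, and let f : X → S be flat, surjective and of
finite presentation. Call an admissible factorization a factorization X → E → S of f with E → S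
étale and affine and X → E schematically dominant. Then any two admissible factorizations X → E₁ → S
and X → E₂ → S have a supremum: an admissible factorization X → E → S with compatible S-morphisms E
→ E₁ and E → E₂, such that every admissible factorization X → E' → S with compatible S-morphisms E'
→ E₁ and E' → E₂ admits a compatible morphism E' → E. (The source allows X to be an algebraic space;
X is a scheme here.) -/
theorem result {X S : Scheme.{u}} [IsNoetherian S]
    (hS : ∀ s : S, CAlg2.IsGeomUnibranch (S.presheaf.stalk s))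
    (hemb : AssSch.NoEmbedded (Coh.structureModule S))
    (f : X ⟶ S) [Flat f] [Surjective f] [LocallyOfFinitePresentation f] [QuasiCompact f]
    [QuasiSeparated f]
    (E₁ E₂ : Scheme.{u}) (g₁ : E₁ ⟶ S) (g₂ : E₂ ⟶ S) (u₁ : X ⟶ E₁) (u₂ : X ⟶ E₂)
    [Etale g₁] [Etale g₂] [IsAffineHom g₁] [IsAffineHom g₂]
    [IsSchemeTheoreticallyDominant u₁] [IsSchemeTheoreticallyDominant u₂]
    (h₁ : u₁ ≫ g₁ = f) (h₂ : u₂ ≫ g₂ = f) :
    ∃ (E : Scheme.{u}) (g : E ⟶ S) (u : X ⟶ E) (v₁ : E ⟶ E₁) (v₂ : E ⟶ E₂),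
      Etale g ∧ IsAffineHom g ∧ IsSchemeTheoreticallyDominant u ∧ u ≫ g = f ∧
      u ≫ v₁ = u₁ ∧ u ≫ v₂ = u₂ ∧ v₁ ≫ g₁ = g ∧ v₂ ≫ g₂ = g ∧
      ∀ (E' : Scheme.{u}) (g' : E' ⟶ S) (u' : X ⟶ E') (w₁ : E' ⟶ E₁) (w₂ : E' ⟶ E₂),
        Etale g' → IsAffineHom g' → IsSchemeTheoreticallyDominant u' → u' ≫ g' = f →
        u' ≫ w₁ = u₁ → u' ≫ w₂ = u₂ → w₁ ≫ g₁ = g' → w₂ ≫ g₂ = g' →
        ∃ w : E' ⟶ E, u' ≫ w = u ∧ w ≫ v₁ = w₁ ∧ w ≫ v₂ = w₂ := by
  let π : pullback g₁ g₂ ⟶ S := pullback.fst g₁ g₂ ≫ g₁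
  have : IsAffineHom (pullback.fst g₁ g₂) := MorphismProperty.pullback_fst g₁ g₂ inferInstance
  have : Etale (pullback.fst g₁ g₂) := MorphismProperty.pullback_fst g₁ g₂ inferInstance
  have : IsAffineHom π := inferInstanceAs (IsAffineHom (pullback.fst g₁ g₂ ≫ g₁))
  have : Etale π := inferInstanceAs (Etale (pullback.fst g₁ g₂ ≫ g₁))
  have : LocallyQuasiFinite π := Groth.EtaleBase.locallyQuasiFinite_of_formallyUnramified π
  have : IsLocallyNoetherian (pullback g₁ g₂) := LocallyOfFiniteType.isLocallyNoetherian π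
  have : CompactSpace ↥(pullback g₁ g₂) := QuasiCompact.compactSpace_of_compactSpace π
  have : IsNoetherian (pullback g₁ g₂) := { }
  let p : X ⟶ pullback g₁ g₂ := pullback.lift u₁ u₂ (h₁.trans h₂.symm)
  have hp : p ≫ π = f := by
    show pullback.lift u₁ u₂ _ ≫ pullback.fst _ _ ≫ g₁ = f
    rw [pullback.lift_fst_assoc, h₁]
  let t : X ⟶ pullback f π := pullback.lift (𝟙 X) p (by rw [Category.id_comp, hp])
  have : IsOpenImmersion t := Groth.EtaleBase.isOpenImmersion_section (pullback.fst f π) t (pullback.lift_fst _ _ _)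
  have hpt : t ≫ pullback.snd f π = p := pullback.lift_snd _ _ _
  have : Flat p := hpt ▸ inferInstance
  have : LocallyOfFinitePresentation p := hpt ▸ inferInstance
  have : QuasiCompact p := by
    have : QuasiCompact (p ≫ π) := hp.symm ▸ inferInstance
    exact QuasiCompact.of_comp p π
  obtain ⟨C, hC, hsub, hmax⟩ := Groth.EtHull.exists_clopen π hS p (p.isOpenMap.isOpen_range)
  have : IsClosedImmersion C.ι := .of_isPreimmersion C.ι (by rw [Scheme.Opens.range_ι]; exact hC)
  let u : X ⟶ C.toScheme := IsOpenImmersion.lift C.ι p (by rw [Scheme.Opens.range_ι]; exact hsub)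
  have hu : u ≫ C.ι = p := IsOpenImmersion.lift_fac _ _ _
  have : Flat u := by
    have : Flat (u ≫ C.ι) := hu.symm ▸ inferInstance
    exact MorphismProperty.of_postcomp (W := @Flat) (W' := @IsOpenImmersion) u C.ι inferInstance this
  have : QuasiCompact u := by
    have : QuasiCompact (u ≫ C.ι) := hu.symm ▸ inferInstance
    exact QuasiCompact.of_comp u C.ι
  have : IsSchemeTheoreticallyDominant u := by
    refine Groth.EtHull.isSchemeTheoreticallyDominant_of_flat (C.ι ≫ π) hemb u fun z hz => ?_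
    obtain ⟨x, hx⟩ := hmax z.1 z.2 fun w hw =>
      congrArg Subtype.val (hz ⟨w, hw.mem_open C.isOpen z.2⟩ (Topology.IsInducing.subtypeVal.specializes_iff.mp hw))
    refine ⟨x, Subtype.ext ?_⟩
    show (u ≫ C.ι) x = z.1
    rw [hu, hx]
  have hv₂ : pullback.snd g₁ g₂ ≫ g₂ = π := pullback.condition.symm
  refine ⟨C.toScheme, C.ι ≫ π, u, C.ι ≫ pullback.fst g₁ g₂, C.ι ≫ pullback.snd g₁ g₂,
    inferInstance, inferInstance, inferInstance, by rw [reassoc_of% hu, hp],
    by rw [reassoc_of% hu]; exact pullback.lift_fst _ _ _,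
    by rw [reassoc_of% hu]; exact pullback.lift_snd _ _ _,
    by simp [π], by rw [Category.assoc, hv₂], ?_⟩
  intro E' g' u' w₁ w₂ _ _ _ hu' hw₁ hw₂ hg₁ hg₂
  let l : E' ⟶ pullback g₁ g₂ := pullback.lift w₁ w₂ (hg₁.trans hg₂.symm)
  have hl : u' ≫ l = p := by
    apply pullback.hom_ext
    · rw [Category.assoc, pullback.lift_fst, pullback.lift_fst, hw₁]
    · rw [Category.assoc, pullback.lift_snd, pullback.lift_snd, hw₂]
  have : QuasiCompact u' := by
    have : QuasiCompact (u' ≫ g') := hu'.symm ▸ inferInstance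
    exact QuasiCompact.of_comp u' g'
  have hrange : Set.range l ⊆ Set.range C.ι := by
    rw [Scheme.Opens.range_ι]
    rintro _ ⟨e, rfl⟩
    have hd : closure (Set.range u') ⊆ l ⁻¹' (C : Set ↥(pullback g₁ g₂)) :=
      (hC.preimage l.continuous).closure_subset_iff.mpr (by
        rintro _ ⟨x, rfl⟩
        show l (u' x) ∈ C
        rw [← Scheme.Hom.comp_apply, hl]
        exact hsub ⟨x, rfl⟩)
    exact hd (u'.denseRange e)
  refine ⟨IsOpenImmersion.lift C.ι l hrange, ?_, ?_, ?_⟩
  · rw [← cancel_mono C.ι, Category.assoc, IsOpenImmersion.lift_fac, hl, hu]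
  · rw [IsOpenImmersion.lift_fac_assoc]; exact pullback.lift_fst _ _ _
  · rw [IsOpenImmersion.lift_fac_assoc]; exact pullback.lift_snd _ _ _

end Groth.Agent.S15997
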