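import Groth.Statements.S15994
import Groth.Agent.Misc11EtHull.Hull
import Groth.Agent.S15997

set_option autoImplicit false
open CategoryTheory AlgebraicGeometry
universe u
open EtHull

namespace Groth.Agent.S15994

/-- Let S be a Noetherian scheme all of whose local rings are geometrically unibranch and whose
structure sheaf has no embedded associated points, and let f : X → S be flat, surjective and of
finite presentation. Then there is a factorization X → E₀ → S of f with E₀ → S étale and affine and
X → E₀ schematically dominant (the étale affine hull of X over S), and it is initial among all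
factorizations of f through étale affine S-schemes: for every factorization X → E → S of f with E →
S étale and affine there is a unique morphism E₀ → E compatible with the maps from X and to S. In
particular it is the largest factorization with X → E schematically dominant. (The source allows X
to be an algebraic space; X is a scheme here.) -/
theorem result {X S : Scheme.{u}} [IsNoetherian S]
    (hS : ∀ s : S, CAlg2.IsGeomUnibranch (S.presheaf.stalk s))
    (hemb : AssSch.NoEmbedded (Coh.structureModule S))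
    (f : X ⟶ S) [Flat f] [Surjective f] [LocallyOfFinitePresentation f] [QuasiCompact f]
    [QuasiSeparated f] :
    ∃ (E₀ : Scheme.{u}) (g₀ : E₀ ⟶ S) (u₀ : X ⟶ E₀), Etale g₀ ∧ IsAffineHom g₀ ∧
      IsSchemeTheoreticallyDominant u₀ ∧ u₀ ≫ g₀ = f ∧
      ∀ (E : Scheme.{u}) (g : E ⟶ S) (u : X ⟶ E), Etale g → IsAffineHom g → u ≫ g = f →
        ∃! v : E₀ ⟶ E, u₀ ≫ v = u ∧ v ≫ g = g₀ := by
  obtain ⟨A₀, _, hA₀⟩ := Groth.EtHull.exists_initial (f := f) (fun _ => True)
    (by
      obtain ⟨A, -⟩ := Groth.EtHull.exists_adm (f := f) hS hemb (𝟙 S) f (Category.comp_id f)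
      exact ⟨A, trivial⟩)
    (fun A B _ _ => by
      obtain ⟨E, g, p, v₁, v₂, h1, h2, h3, hp, hv₁, hv₂, hg₁, hg₂, -⟩ :=
        Groth.Agent.S15997.result hS hemb f A.E B.E A.g B.g A.u B.u A.fac B.fac
      exact ⟨⟨E, g, p, h1, h2, h3, hp⟩, trivial, ⟨v₁, hv₁, hg₁⟩, ⟨v₂, hv₂, hg₂⟩⟩)
  refine ⟨A₀.E, A₀.g, A₀.u, A₀.etale, A₀.affine, A₀.dom, A₀.fac, fun E g p hg hga hp => ?_⟩
  obtain ⟨A, v, hv, hvg⟩ := Groth.EtHull.exists_adm (f := f) hS hemb g p hp
  obtain ⟨w, hw, hwg⟩ := hA₀ A trivial
  refine ⟨w ≫ v, ⟨by rw [reassoc_of% hw, hv], by rw [Category.assoc, hvg, hwg]⟩, fun y hy => ?_⟩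
  exact A₀.hom_ext (g := g) (by rw [hy.1, reassoc_of% hw, hv]) (by rw [hy.2, Category.assoc, hvg, hwg])

end Groth.Agent.S15994
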