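import Groth.Statements.S15995
-- import your own Groth.Agent.* helpers here

set_option autoImplicit false
open CategoryTheory AlgebraicGeometry
universe u
open FrobSch

namespace Groth.Agent.S15995

open FrobSch CategoryTheory.Limits in
/-- Relative perfectness says that the Frobenius square is cartesian. -/
theorem isPullback_of_isIso (p : ℕ) [Fact p.Prime] {X S : Scheme.{u}} (f : X ⟶ S) [IsCharP S p]
    [IsCharP X p] (h : IsIso (relFrob f p)) : IsPullback (frob X p) f f (frob S p) :=
  IsPullback.of_iso_pullback ⟨frob_comp p f⟩ (@asIso _ _ _ _ (relFrob f p) h)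
    (relFrob_fst f p) (pullback.lift_snd _ _ _)

open FrobSch CategoryTheory.Limits in
/-- A cartesian Frobenius square gives relative perfectness. -/
theorem isIso_of_isPullback (p : ℕ) [Fact p.Prime] {X S : Scheme.{u}} (f : X ⟶ S) [IsCharP S p]
    [IsCharP X p] (h : IsPullback (frob X p) f f (frob S p)) : IsIso (relFrob f p) := by
  have e : relFrob f p = h.isoPullback.hom := by
    apply pullback.hom_ext
    · rw [relFrob_fst, IsPullback.isoPullback_hom_fst]
    · rw [IsPullback.isoPullback_hom_snd]
      exact pullback.lift_snd _ _ _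
  rw [e]
  infer_instance


/-- Coperfection commutes with base restriction. Let S and T be schemes of characteristic p and f : T →
S a relatively perfect morphism (its relative Frobenius T → T^(p/S) is an isomorphism). Let g : X →
T and let c : X → X' be a T-morphism to a relatively perfect T-scheme π : X' → T which is a
coperfection of X over T: for every relatively perfect T-scheme Y, every T-morphism X → Y factors
uniquely through c. Then X' with structure map π ≫ f is relatively perfect over S and c is a
coperfection of X over S: every S-morphism from X to a relatively perfect S-scheme factors uniquely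
through c. (The source works with algebraic spaces; schemes here.) -/
theorem result (p : ℕ) [Fact p.Prime] {X X' T S : Scheme.{u}}
    [FrobSch.IsCharP S p] [FrobSch.IsCharP T p] (f : T ⟶ S) (hf : IsIso (FrobSch.relFrob f p))
    (g : X ⟶ T) (π : X' ⟶ T) (hπ : IsIso (FrobSch.relFrob π p)) (c : X ⟶ X') (hc : c ≫ π = g)
    (huniv : ∀ (Y : Scheme.{u}) (q : Y ⟶ T), IsIso (FrobSch.relFrob q p) →
      ∀ k : X ⟶ Y, k ≫ q = g → ∃! h : X' ⟶ Y, h ≫ q = π ∧ c ≫ h = k) :
    IsIso (FrobSch.relFrob (π ≫ f) p) ∧
      ∀ (Y : Scheme.{u}) (r : Y ⟶ S), IsIso (FrobSch.relFrob r p) →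
        ∀ k : X ⟶ Y, k ≫ r = g ≫ f → ∃! h : X' ⟶ Y, h ≫ r = π ≫ f ∧ c ≫ h = k := by
  open FrobSch CategoryTheory.Limits in
  haveI : IsCharP X' p := IsCharP.of_hom π p
  refine ⟨isIso_of_isPullback p _ ((isPullback_of_isIso p π hπ).paste_vert (isPullback_of_isIso p f hf)),
    fun Y r hr k hk => ?_⟩
  haveI : IsCharP Y p := IsCharP.of_hom r p
  let q : pullback r f ⟶ T := pullback.snd r f
  haveI : IsCharP (pullback r f) p := IsCharP.of_hom q p
  have hq : IsIso (relFrob q p) := by
    refine isIso_of_isPullback p q (IsPullback.of_right ?_ (frob_comp p q) (IsPullback.of_hasPullback r f))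
    rw [frob_comp p (pullback.fst r f), frob_comp p f]
    exact (IsPullback.of_hasPullback r f).paste_horiz (isPullback_of_isIso p r hr)
  obtain ⟨h, ⟨h1, h2⟩, hu⟩ := huniv (pullback r f) q hq (pullback.lift k g hk) (pullback.lift_snd _ _ _)
  refine ⟨h ≫ pullback.fst r f, ⟨?_, ?_⟩, ?_⟩
  · rw [Category.assoc, pullback.condition, ← Category.assoc, h1]
  · rw [← Category.assoc, h2, pullback.lift_fst]
  · rintro m ⟨m1, m2⟩
    have := hu (pullback.lift m π m1) ⟨pullback.lift_snd _ _ _, by
      apply pullback.hom_ext
      · rw [Category.assoc, pullback.lift_fst, pullback.lift_fst, m2]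
      · rw [Category.assoc, pullback.lift_snd, pullback.lift_snd, hc]⟩
    rw [← this, pullback.lift_fst]

end Groth.Agent.S15995
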