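import Groth.Statements.S15996
import Groth.Agent.Misc12.AffineHull
import Groth.Agent.Pi1Desc.Separated
import Groth.Agent.SmoothSlice.Sections
import Groth.Agent.Agf.RegularPoints

set_option autoImplicit false
set_option linter.style.haveILetI false
open CategoryTheory AlgebraicGeometry
universe u
open EtHull

namespace Groth.Agent.S15996

/-- Let R be a Noetherian ring whose localizations at all prime ideals are regular local rings, S = Spec
R, and q : U → S an étale, separated and quasi-compact morphism of schemes. The following are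
equivalent: (1) there is an open immersion of U into a scheme E which is étale and affine over S,
compatible with q; (2) the affine hull Spec Γ(U, O_U) → S of U over S is étale. (The source states
this for a locally Noetherian algebraic space S all of whose étale atlases are locally ℚ-factorial;
this row is the case of an affine regular Noetherian base, a regular scheme being locally
ℚ-factorial.) -/
theorem result {R : Type u} [CommRing R]
    [IsNoetherianRing R] (hreg : ∀ (P : Ideal R) [P.IsPrime], IsRegularLocalRing (Localization.AtPrime P))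
    {U : Scheme.{u}} (q : U ⟶ Spec (CommRingCat.of R)) [Etale q] [IsSeparated q] [QuasiCompact q] :
    (∃ (E : Scheme.{u}) (j : U ⟶ E) (g : E ⟶ Spec (CommRingCat.of R)),
        IsOpenImmersion j ∧ Etale g ∧ IsAffineHom g ∧ j ≫ g = q) ↔
      Etale (Spec.map q.appTop ≫ (Spec (CommRingCat.of R)).isoSpec.inv) := by
  haveI : IsLocallyNoetherian U := LocallyOfFiniteType.isLocallyNoetherian q
  haveI : CompactSpace U := QuasiCompact.compactSpace_of_compactSpace q
  have hqa : U.IsQuasiAffine := by
    haveI : LocallyQuasiFinite q := Groth.SmoothSlice.locallyQuasiFinite_of_formallyUnramified' q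
    haveI := (Groth.Pi1Desc.isQuasiAffineHom_of_locallyQuasiFinite q).2 ⊤ (isAffineOpen_top _)
    exact Scheme.IsQuasiAffine.of_isAffineHom (U.topIso.inv ≫ (U.isoOfEq (q.preimage_top)).inv)
  have htoΓ : U.toSpecΓ ≫ Spec.map q.appTop ≫ (Spec (CommRingCat.of R)).isoSpec.inv = q := by
    rw [← Category.assoc, ← Scheme.toSpecΓ_naturality, Category.assoc]
    simp [Scheme.isoSpec]
  constructor
  · rintro ⟨E, j, g, hj, hg, hga, hw⟩
    haveI := hj
    haveI := hg
    haveI := hga
    haveI : IsAffine E := isAffine_of_isAffineHom g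
    let g' : Spec Γ(E, ⊤) ⟶ Spec (CommRingCat.of R) := E.isoSpec.inv ≫ g
    let j' : U ⟶ Spec Γ(E, ⊤) := j ≫ E.isoSpec.hom
    have hw' : j' ≫ g' = q := by simp [j', g', hw]
    haveI : IsLocallyNoetherian (Spec Γ(E, ⊤)) := LocallyOfFiniteType.isLocallyNoetherian g'
    haveI : IsNoetherianRing Γ(E, ⊤) := isLocallyNoetherian_Spec.1 inferInstance
    have hregE : ∀ p : Spec Γ(E, ⊤), IsRegularLocalRing ((Spec Γ(E, ⊤)).presheaf.stalk p) := fun p => by
      haveI := hreg (g' p).asIdeal
      haveI : IsRegularLocalRing ((Spec (CommRingCat.of R)).presheaf.stalk (g' p)) :=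
        IsRegularLocalRing.of_ringEquiv (Spec.stalkIso (CommRingCat.of R) (g' p)).commRingCatIsoToRingEquiv.symm
      exact Groth.Agf.RegularPoints.isRegularLocalRing_stalk_of_smooth g' p
    obtain ⟨V, hUV, hV, hb⟩ := Groth.Misc12.AffineHull.exists_affine_hull hregE j'.opensRange
    haveI : IsAffine (V : Scheme.{u}) := hV
    let jV : U ⟶ V := IsOpenImmersion.lift V.ι j' (by
      rw [Scheme.Opens.range_ι]; exact hUV)
    have hjV : jV ≫ V.ι = j' := IsOpenImmersion.lift_fac _ _ _
    haveI : IsIso jV.appTop := by
      have e : V.topIso.inv ≫ jV.appTop = j'.appLE V ⊤ (fun z _ => hUV ⟨z, rfl⟩) := by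
        have h1 : V.topIso.inv = V.ι.appLE V ⊤ (fun z _ => z.2) := by simp [Scheme.Opens.topIso, Scheme.Hom.appLE]; rfl
        rw [h1, show jV.appTop = jV.appLE ⊤ ⊤ le_top from Scheme.Hom.app_eq_appLE _, Scheme.Hom.appLE_comp_appLE]
        congr 1
      haveI : IsIso (V.topIso.inv ≫ jV.appTop) := by
        rw [e, ← Scheme.Hom.map_appLE j' (show ⊤ ≤ j' ⁻¹ᵁ j'.opensRange from fun z _ => ⟨z, rfl⟩) (homOfLE hUV).op]
        haveI : IsIso ((Spec Γ(E, ⊤)).presheaf.map (homOfLE hUV).op) := (ConcreteCategory.isIso_iff_bijective _).2 hb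
        haveI : IsIso (j'.appLE j'.opensRange ⊤ (fun z _ => ⟨z, rfl⟩)) := by
          haveI := j'.isIso_app j'.opensRange le_rfl
          rw [Scheme.Hom.appLE, Subsingleton.elim (homOfLE _) (eqToHom j'.preimage_opensRange.symm)]
          infer_instance
        infer_instance
      exact IsIso.of_isIso_comp_left V.topIso.inv jV.appTop
    have key : Spec.map q.appTop ≫ (Spec (CommRingCat.of R)).isoSpec.inv =
        Spec.map jV.appTop ≫ (V : Scheme.{u}).isoSpec.inv ≫ V.ι ≫ g' := by
      have h1 : q.appTop = (V.ι ≫ g').appTop ≫ jV.appTop := by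
        rw [← Scheme.Hom.comp_appTop, ← Category.assoc, hjV, hw']
      rw [h1, Spec.map_comp, Category.assoc]
      congr 1
      rw [Iso.eq_inv_comp, ← Category.assoc, Iso.comp_inv_eq]
      exact (Scheme.toSpecΓ_naturality _).symm
    rw [key]
    infer_instance
  · intro het
    refine ⟨Spec Γ(U, ⊤), U.toSpecΓ, _, inferInstance, het, inferInstance, htoΓ⟩

end Groth.Agent.S15996
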