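import Groth.Statements.S1600
import Groth.Agent.CohFin.ProjFinite
import Groth.Agent.HensPair.ProperClopenNoeth
import Groth.Agent.Variety2.Normal
import Groth.Agent.Ega4Algebra1.RegularNormal
import Groth.Agent.Calg4.RegularStalk
import Groth.Agent.CMMor.Locus
-- import your own Groth.Agent.* helpers here

set_option autoImplicit false
universe u
open CategoryTheory CategoryTheory.Limits AlgebraicGeometry
open Resolve

namespace Groth.Agent.S1600

theorem preimage_nonempty {X Y : Scheme.{u}} (f : X ⟶ Y) [IsDominant f] (U : Y.Opens)
    (hU : (U : Set Y).Nonempty) : ∃ x : X, f x ∈ U := by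
  obtain ⟨z, hz, x, rfl⟩ := (Scheme.Hom.denseRange f).inter_open_nonempty U U.2 hU
  exact ⟨x, hz⟩

/-- Let A be a Noetherian domain such that Spec A admits an alteration f : X → Spec A with X regular.
Then the integral closure of A in its fraction field is a finite A-module (A is N-1), and some
nonempty open subset of Spec A consists of points whose local ring is regular. (The published
statement is for any Noetherian integral scheme; it is stated here for an affine one.) -/
theorem result (A : Type u) [CommRing A] [IsDomain A] [IsNoetherianRing A]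
    (X : Scheme.{u}) (f : X ⟶ Spec (CommRingCat.of A)) (hf : Curv2.IsAlteration f)
    (hreg : ∀ x : X, IsRegularLocalRing (X.presheaf.stalk x)) :
    CAlg.IsN1 A ∧ ∃ U : (Spec (CommRingCat.of A)).Opens, (U : Set (Spec (CommRingCat.of A))).Nonempty ∧
      ∀ y ∈ U, IsRegularLocalRing ((Spec (CommRingCat.of A)).presheaf.stalk y) := by
  obtain ⟨hproper, hX, hS, hdom, -⟩ := hf
  have hno : ∀ x : X, IsIntegrallyClosed (X.presheaf.stalk x) := fun x =>
    have := hreg x
    Groth.Ega4Algebra1.isIntegrallyClosed_of_isRegularLocalRing _
  refine ⟨?_, ?_⟩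
  · -- the functions on `X` form a finite normal overring
    let _ : Algebra A Γ(X, ⊤) := RingHom.toAlgebra (Groth.HensPair.toΓ f)
    have hfin : Module.Finite A Γ(X, ⊤) :=
      Groth.HensPair.finite_globalSections_of_proper Groth.CohFin.projFinite f
    have hne : Nonempty (⊤ : X.Opens) := ⟨⟨genericPoint X, trivial⟩⟩
    have hic : IsIntegrallyClosed Γ(X, ⊤) := Groth.Variety2.isIntegrallyClosed_Γ hno ⊤
    have hinj : Function.Injective (algebraMap A Γ(X, ⊤)) := by
      rw [injective_iff_map_eq_zero]
      intro a ha
      by_contra h0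
      obtain ⟨x, hx⟩ := preimage_nonempty f (PrimeSpectrum.basicOpen a)
        ⟨⟨⊥, Ideal.isPrime_bot⟩, fun h => h0 (Ideal.mem_bot.1 h)⟩
      have h := (Groth.HensPair.mem_basicOpen_toGlobal f a x).2
        ((PrimeSpectrum.mem_basicOpen _ _).1 hx)
      rw [show Groth.HensPair.toΓ f a = 0 from ha, Scheme.basicOpen_zero] at h
      exact h.elim
    let L := FractionRing Γ(X, ⊤)
    let ψ : FractionRing A →+* L := IsFractionRing.lift
      (g := (algebraMap Γ(X, ⊤) L).comp (algebraMap A Γ(X, ⊤)))
      ((IsFractionRing.injective Γ(X, ⊤) L).comp hinj)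
    let ψ' : FractionRing A →ₐ[A] L := { ψ with
      commutes' := fun a => (IsFractionRing.lift_algebraMap _ a).trans
        (IsScalarTower.algebraMap_apply A Γ(X, ⊤) L a).symm }
    have hmem : ∀ z : integralClosure A (FractionRing A), ∃ y : Γ(X, ⊤),
        algebraMap Γ(X, ⊤) L y = ψ' z := fun z =>
      IsIntegrallyClosed.isIntegral_iff.1 ((IsIntegral.map ψ' z.2).tower_top (A := Γ(X, ⊤)))
    choose e he using hmem
    let l : integralClosure A (FractionRing A) →ₗ[A] Γ(X, ⊤) :=
      { toFun := e
        map_add' := fun z w => IsFractionRing.injective Γ(X, ⊤) L (by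
          rw [map_add, he, he, he, ← map_add]; rfl)
        map_smul' := fun a z => IsFractionRing.injective Γ(X, ⊤) L (by
          rw [RingHom.id_apply, Algebra.smul_def a (e z), map_mul, he, he,
            ← IsScalarTower.algebraMap_apply A Γ(X, ⊤) L a, ← AlgHom.commutes ψ' a, ← map_mul,
            ← Algebra.smul_def a (z : FractionRing A)]
          rfl) }
    exact Module.Finite.of_injective l fun z w h => Subtype.ext <| ψ.injective <| by
      show ψ' z = ψ' w
      rw [← he, ← he]
      exact congrArg _ h
  · -- over a nonempty open `f` is flat and surjective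
    have hclosed : IsClosed (f '' {x : X | (f.stalkMap x).hom.Flat}ᶜ) :=
      f.isClosedMap _ (Groth.CMMor.isOpen_flatAt f).isClosed_compl
    refine ⟨⟨_, hclosed.isOpen_compl⟩, ⟨genericPoint (Spec (CommRingCat.of A)), ?_⟩, fun y hy => ?_⟩
    · rintro ⟨x, hx, hxη⟩
      refine hx ?_
      have hfld : IsField ((Spec (CommRingCat.of A)).presheaf.stalk (f x)) := by
        rw [hxη]
        exact Field.toIsField ((Spec (CommRingCat.of A)).functionField)
      show (f.stalkMap x).hom.Flat
      let := (f.stalkMap x).hom.toAlgebra
      let := hfld.toField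
      show Module.Flat _ _
      infer_instance
    · have hsurj : y ∈ Set.range f := by
        rw [← f.isClosedMap.isClosed_range.closure_eq, (Scheme.Hom.denseRange f).closure_range]
        trivial
      obtain ⟨x, rfl⟩ := hsurj
      exact Groth.Calg4.isRegularLocalRing_stalk_of_flatAt f x
        (by_contra fun h => hy ⟨x, h, rfl⟩) (hreg x)

end Groth.Agent.S1600
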