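import Groth.Statements.S16000
import Groth.Agent.FrobLCI.TensorPi
import Mathlib.FieldTheory.PerfectClosure
import Mathlib.LinearAlgebra.DFinsupp
import Mathlib.Tactic

set_option autoImplicit false
universe u
open FrobAlg

namespace Groth.Agent.S16000

noncomputable section

variable (p : ℕ) [Fact p.Prime] (R : Type u) [CommRing R] [CharP R p]

set_option linter.unusedVariables false in
/-- `R` as an `R`-algebra through the `n`-th iterate of Frobenius. -/
def Iter (p : ℕ) (R : Type u) (n : ℕ) : Type u := R

instance instCommRingIter (n : ℕ) : CommRing (Iter p R n) := inferInstanceAs (CommRing R)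

def toIter (n : ℕ) : R ≃+* Iter p R n := RingEquiv.refl R

instance instAlgebraIter (n : ℕ) : Algebra R (Iter p R n) :=
  ((toIter p R n : R →+* Iter p R n).comp (iterateFrobenius R p n)).toAlgebra

theorem smul_iter (n : ℕ) (c : R) (x : Iter p R n) : c • x = toIter p R n (c ^ p ^ n) * x := rfl

theorem projective_iter [Module.Projective R (FrobAlg.Twist p R)] : ∀ n, Module.Projective R (Iter p R n)
  | 0 => by
    refine Module.Projective.of_equiv (R := R) (S := R) (σ := RingHom.id R)
      ({ toFun := fun x => toIter p R 0 x
         invFun := fun x => (toIter p R 0).symm x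
         left_inv := fun x => rfl
         right_inv := fun x => rfl
         map_add' := fun x y => rfl
         map_smul' := fun c x => by
           rw [RingHom.id_apply, smul_iter, smul_eq_mul, map_mul, pow_zero, pow_one] } : R ≃ₗ[R] Iter p R 0)
  | n + 1 => by
    classical
    have := projective_iter n
    obtain ⟨s, hs⟩ := (Module.projective_def' (R := R) (P := Iter p R n)).1 inferInstance
    let c : Iter p R (n + 1) → Iter p R n := fun x => toIter p R n ((toIter p R (n + 1)).symm x)
    let f : Iter p R (n + 1) →ₗ[R] (Iter p R n →₀ FrobAlg.Twist p R) :=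
      { toFun := fun x => (s (c x)).mapRange (FrobAlg.toTwist p R) (map_zero _)
        map_add' := fun x y => by
          rw [show c (x + y) = c x + c y from rfl, map_add, Finsupp.mapRange_add (by simp)]
        map_smul' := fun a x => by
          have : c (a • x) = (a ^ p) • c x := by
            rw [smul_iter, smul_iter, ← pow_mul, ← pow_succ']
            rfl
          refine Finsupp.ext fun j => ?_
          rw [RingHom.id_apply, this, map_smul, Finsupp.mapRange_apply, Finsupp.smul_apply,
            Finsupp.smul_apply, Finsupp.mapRange_apply, Algebra.smul_def (A := FrobAlg.Twist p R),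
            FrobAlg.algebraMap_twist, smul_eq_mul, map_mul] }
    let g : (Iter p R n →₀ FrobAlg.Twist p R) →ₗ[R] Iter p R (n + 1) :=
      Finsupp.lsum R fun j =>
        { toFun := fun t => toIter p R (n + 1) ((toIter p R n).symm (((FrobAlg.toTwist p R).symm t) • j))
          map_add' := fun a b => by rw [map_add, add_smul, map_add, map_add]
          map_smul' := fun a t => by
            rw [RingHom.id_apply, Algebra.smul_def a t, FrobAlg.algebraMap_twist, map_mul,
              RingEquiv.symm_apply_apply, mul_smul, smul_iter, smul_iter, smul_iter p R (n + 1),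
              ← pow_mul, ← pow_succ']
            rfl }
    have : Module.Projective R (Iter p R n →₀ FrobAlg.Twist p R) :=
      Module.Projective.of_equiv (finsuppLequivDFinsupp (ι := Iter p R n) R (M := FrobAlg.Twist p R)).symm
    refine Module.Projective.of_split f g (LinearMap.ext fun x => ?_)
    change Finsupp.lsum R _ ((s (c x)).mapRange (FrobAlg.toTwist p R) (map_zero _)) = x
    rw [Finsupp.lsum_apply, Finsupp.sum_mapRange_index (fun _ => map_zero _)]
    have h2 : (s (c x)).sum (fun j r => r • j) = c x := LinearMap.congr_fun hs (c x)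
    have h3 := congrArg (fun z => toIter p R (n + 1) ((toIter p R n).symm z)) h2
    simp only [map_finsuppSum] at h3
    exact h3.trans rfl

theorem exists_splitting [Module.Projective R (FrobAlg.Twist p R)] :
    ∃ φ : R →+ R, φ 1 = 1 ∧ ∀ a x, φ (a ^ p * x) = a * φ x := by
  classical
  obtain ⟨s, hs⟩ := (Module.projective_def' (R := R) (P := FrobAlg.Twist p R)).1 inferInstance
  set S := s 1 with hS
  have h1 : S.sum (fun j r => r • j) = (1 : FrobAlg.Twist p R) := LinearMap.congr_fun hs 1
  let 𝔞 : Ideal R := Ideal.span (Set.range fun j => S j)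
  have htop : 𝔞 = ⊤ := by
    by_contra hne
    obtain ⟨m, hm, hle⟩ := Ideal.exists_le_maximal 𝔞 hne
    have : (FrobAlg.toTwist p R).symm (S.sum fun j r => r • j) ∈ m := by
      rw [Finsupp.sum, map_sum]
      refine Ideal.sum_mem _ fun j _ => ?_
      rw [Algebra.smul_def, map_mul, FrobAlg.algebraMap_twist, RingEquiv.symm_apply_apply]
      exact Ideal.mul_mem_right _ _ (Ideal.pow_mem_of_mem _ (hle (Ideal.subset_span ⟨j, rfl⟩)) p
        (Fact.out : p.Prime).pos)
    rw [h1, map_one] at this
    exact hm.ne_top ((Ideal.eq_top_iff_one _).2 this)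
  obtain ⟨c, hc⟩ := (Finsupp.mem_ideal_span_range_iff_exists_finsupp).1
    (htop.symm ▸ Submodule.mem_top : (1 : R) ∈ 𝔞)
  let φ : FrobAlg.Twist p R →ₗ[R] R := (Finsupp.lsum R fun j => LinearMap.mulLeft R (c j)).comp s
  refine ⟨φ.toAddMonoidHom.comp (FrobAlg.toTwist p R : R →+* FrobAlg.Twist p R).toAddMonoidHom, ?_, fun a x => ?_⟩
  · change φ (FrobAlg.toTwist p R 1) = 1
    rw [map_one]
    change (Finsupp.lsum R fun j => LinearMap.mulLeft R (c j)) S = 1
    conv_rhs => rw [← hc]
    rw [Finsupp.lsum_apply]
    show (S.sum fun j y => c j * y) = _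
    rw [Finsupp.sum_of_support_subset _ (Finset.subset_union_left : S.support ⊆ S.support ∪ c.support) _
        (fun j _ => mul_zero _),
      Finsupp.sum_of_support_subset _ (Finset.subset_union_right : c.support ⊆ S.support ∪ c.support)
        (fun i a => a * S i) (fun j _ => zero_mul (S j))]
  · change φ (FrobAlg.toTwist p R (a ^ p * x)) = a * φ (FrobAlg.toTwist p R x)
    rw [map_mul, ← FrobAlg.algebraMap_twist, ← Algebra.smul_def, map_smul, smul_eq_mul]

end

open TensorProduct in
/-- Let p be a prime, R a commutative ring of characteristic p such that R is a projective R-module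
through its absolute Frobenius, and A a commutative R-algebra of characteristic p, with Frobenius
twists A^{p^i/R} = R ⊗_{F^i,R} A, relative Frobenius maps A^{p^{i+1}/R} → A^{p^i/R} and
preperfection A^{p^∞/R} = lim_i A^{p^i/R} ⊆ Π_i A^{p^i/R}. Let R' be the direct-limit perfection
colim(R → R → ⋯) of R along Frobenius, an R-module through the canonical map R → R'. Then the
natural map R' ⊗_R A^{p^∞/R} → Π_i (R' ⊗_R A^{p^i/R}), r ⊗ x ↦ (r ⊗ x_i)_i, is injective; in
particular the base-change map R' ⊗_R lim_i A^{p^i/R} → lim_i (R' ⊗_R A^{p^i/R}) is injective. (The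
published statement identifies the target limit with the preperfection of A ⊗_R R' over R'; that
identification is not part of this row.) -/
theorem result
    (p : ℕ) [Fact p.Prime] (R : Type u) [CommRing R] [CharP R p]
    (A : Type u) [CommRing A] [Algebra R A] [CharP A p]
    [Module.Projective R (FrobAlg.Twist p R)] :
    letI : Algebra R (PerfectClosure R p) := (PerfectClosure.of R p).toAlgebra
    Function.Injective
      (LinearMap.pi fun i : ℕ =>
        LinearMap.lTensor (PerfectClosure R p)
          (((Pi.evalAlgHom R (fun k => W4c1imperftorsors.Twist p R A k) i).comp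
            (W4c1imperftorsors.prePerf p R A).val).toLinearMap) :
        PerfectClosure R p ⊗[R] ↥(W4c1imperftorsors.prePerf p R A) →ₗ[R]
          (Π i : ℕ, PerfectClosure R p ⊗[R] W4c1imperftorsors.Twist p R A i)) := by
  letI : Algebra R (PerfectClosure R p) := (PerfectClosure.of R p).toAlgebra
  obtain ⟨φ, hφ1, hφ⟩ := exists_splitting p R
  have hφit : ∀ (m : ℕ) (a x : R), (⇑φ)^[m] (a ^ p ^ m * x) = a * (⇑φ)^[m] x := by
    intro m
    induction m with
    | zero => intro a x; simp
    | succ m ih =>
      intro a x
      rw [Function.iterate_succ_apply, Function.iterate_succ_apply, pow_succ, pow_mul, hφ, ih]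
  have hadd : ∀ (m : ℕ) (x y : R), (⇑φ)^[m] (x + y) = (⇑φ)^[m] x + (⇑φ)^[m] y := by
    intro m
    induction m with
    | zero => intro x y; rfl
    | succ m ih => intro x y; rw [Function.iterate_succ_apply, Function.iterate_succ_apply,
        Function.iterate_succ_apply, map_add, ih]
  have hpow : ∀ (m l : ℕ) (x : R), (⇑φ)^[m + l] (x ^ p ^ l) = (⇑φ)^[m] x := fun m l x => by
    have := hφit l x 1
    rw [mul_one] at this
    rw [Function.iterate_add_apply, this]
    congr 1
    have h1 : ∀ l, (⇑φ)^[l] (1 : R) = 1 := fun l => Function.iterate_fixed hφ1 l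
    rw [h1, mul_one]
  have key : ∀ n, ∃ (g : Iter p R n →ₗ[R] PerfectClosure R p) (r : PerfectClosure R p →ₗ[R] Iter p R n),
      r.comp g = LinearMap.id ∧ ∀ x, g (toIter p R n x) = PerfectClosure.mk R p (n, x) := by
    intro n
    let r₀ : PerfectClosure R p → R := fun z => z.liftOn (fun q => (⇑φ)^[q.1] (q.2 ^ p ^ n)) (by
      rintro _ _ ⟨k, x⟩
      change (⇑φ)^[k] (x ^ p ^ n) = (⇑φ)^[k + 1] (frobenius R p x ^ p ^ n)
      rw [frobenius_def, ← pow_mul, mul_comm, pow_mul]
      exact (by simpa using (hpow k 1 (x ^ p ^ n)).symm))
    have hr₀ : ∀ k x, r₀ (PerfectClosure.mk R p (k, x)) = (⇑φ)^[k] (x ^ p ^ n) := fun k x => rfl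
    let g : Iter p R n →ₗ[R] PerfectClosure R p :=
      { toFun := fun x => PerfectClosure.mk R p (n, (toIter p R n).symm x)
        map_add' := fun x y => by
          rw [PerfectClosure.mk_add_mk, map_add, PerfectClosure.mk_eq_iff]
          refine ⟨0, ?_⟩
          simp only [iterate_frobenius, add_zero]
          ring_nf
          simp only [add_pow_char_pow, ← pow_mul, ← pow_add]
          ring_nf
        map_smul' := fun a x => by
          rw [RingHom.id_apply, smul_iter, map_mul, RingEquiv.symm_apply_apply, Algebra.smul_def,
            RingHom.algebraMap_toAlgebra, PerfectClosure.of_apply, PerfectClosure.mk_mul_mk]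
          simp [iterate_frobenius] }
    let r : PerfectClosure R p →ₗ[R] Iter p R n :=
      { toFun := fun z => toIter p R n (r₀ z)
        map_add' := fun z w => by
          induction z using PerfectClosure.induction_on with | h z => ?_
          induction w using PerfectClosure.induction_on with | h w => ?_
          obtain ⟨k, x⟩ := z
          obtain ⟨l, y⟩ := w
          rw [PerfectClosure.mk_add_mk, hr₀, hr₀, hr₀, ← map_add, iterate_frobenius, iterate_frobenius]
          congr 1
          rw [add_pow_char_pow, ← pow_mul, ← pow_mul, mul_comm (p ^ l), mul_comm (p ^ k), pow_mul, pow_mul,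
            hadd, hpow, add_comm k l, hpow]
        map_smul' := fun a z => by
          induction z using PerfectClosure.induction_on with | h z => ?_
          obtain ⟨k, x⟩ := z
          rw [RingHom.id_apply, Algebra.smul_def, RingHom.algebraMap_toAlgebra, PerfectClosure.of_apply,
            PerfectClosure.mk_mul_mk, hr₀, hr₀, smul_iter, ← map_mul]
          congr 1
          simp only [iterate_frobenius, zero_add, pow_zero, pow_one, mul_pow]
          rw [← pow_mul, mul_comm (p ^ k), pow_mul, hφit] }
    refine ⟨g, r, LinearMap.ext fun x => ?_, fun x => rfl⟩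
    change toIter p R n (r₀ (PerfectClosure.mk R p (n, (toIter p R n).symm x))) = x
    have := hpow 0 n ((toIter p R n).symm x)
    rw [zero_add] at this
    rw [hr₀, this]
    rfl
  choose g r hrg hg using key
  rw [injective_iff_map_eq_zero]
  intro z hz
  obtain ⟨n, w, rfl⟩ : ∃ n w, LinearMap.rTensor ↥(W4c1imperftorsors.prePerf p R A) (g n) w = z := by
    clear hz
    induction z using TensorProduct.induction_on with
    | zero => exact ⟨0, 0, map_zero _⟩
    | tmul c v =>
      induction c using PerfectClosure.induction_on with | h c => ?_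
      exact ⟨c.1, toIter p R c.1 c.2 ⊗ₜ v, by rw [LinearMap.rTensor_tmul, hg]⟩
    | add a b ha hb =>
      obtain ⟨n, w, rfl⟩ := ha
      obtain ⟨m, w', rfl⟩ := hb
      have step : ∀ n m, ∃ u : Iter p R n →ₗ[R] Iter p R (n + m), (g (n + m)).comp u = g n := by
        intro n m
        refine ⟨{ toFun := fun x => toIter p R (n + m) ((toIter p R n).symm x ^ p ^ m)
                  map_add' := fun x y => by rw [map_add, add_pow_char_pow, map_add]
                  map_smul' := fun a x => by
                    rw [RingHom.id_apply, smul_iter, smul_iter, map_mul, RingEquiv.symm_apply_apply, mul_pow,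
                      map_mul, ← pow_mul, ← pow_add] }, LinearMap.ext fun x => ?_⟩
        change g (n + m) (toIter p R (n + m) ((toIter p R n).symm x ^ p ^ m)) = g n x
        conv_rhs => rw [show x = toIter p R n ((toIter p R n).symm x) from rfl]
        rw [hg, hg, PerfectClosure.mk_eq_iff]
        refine ⟨0, ?_⟩
        simp only [iterate_frobenius, add_zero, ← pow_mul, ← pow_add, Nat.add_comm m]
      obtain ⟨u, hu⟩ := step n m
      obtain ⟨u', hu'⟩ := step m n
      refine ⟨n + m, LinearMap.rTensor _ u w + ?_, ?_⟩
      · exact (Nat.add_comm m n) ▸ LinearMap.rTensor _ u' w'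
      · rw [map_add, ← LinearMap.comp_apply, ← LinearMap.rTensor_comp, hu]
        congr 1
        have : ∀ (N : ℕ) (h : m + n = N), LinearMap.rTensor ↥(W4c1imperftorsors.prePerf p R A) (g N)
            (h ▸ LinearMap.rTensor _ u' w') =
            LinearMap.rTensor ↥(W4c1imperftorsors.prePerf p R A) (g m) w' := by
          rintro _ rfl
          rw [← LinearMap.comp_apply, ← LinearMap.rTensor_comp, hu']
        exact this _ _
  have := projective_iter p R n
  suffices w = 0 by rw [this, map_zero]
  refine (injective_iff_map_eq_zero _).1 (Groth.FrobLCI.TensorPi.injective_pi_lTensor (R := R)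
    (fun i : ℕ => ((Pi.evalAlgHom R (fun k => W4c1imperftorsors.Twist p R A k) i).comp
      (W4c1imperftorsors.prePerf p R A).val).toLinearMap) (Iter p R n)
      fun v hv => Subtype.ext (funext fun i => hv i)) w (funext fun i => ?_)
  rw [LinearMap.pi_apply, Pi.zero_apply]
  have h1 := congrFun hz i
  rw [LinearMap.pi_apply, Pi.zero_apply, ← LinearMap.comp_apply, LinearMap.lTensor_comp_rTensor,
    ← LinearMap.rTensor_comp_lTensor, LinearMap.comp_apply] at h1
  have h2 := congrArg (LinearMap.rTensor (W4c1imperftorsors.Twist p R A i) (r n)) h1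
  rwa [map_zero, ← LinearMap.comp_apply, ← LinearMap.rTensor_comp, hrg, LinearMap.rTensor_id,
    LinearMap.id_apply] at h2

end Groth.Agent.S16000
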