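import Groth.Statements.S16002
import Groth.Agent.VBCurves.Slope
import Groth.Agent.VBCurves.Sat
import Groth.Agent.PicAux.Powers
import Groth.Agent.EulerDeg.Tensor
import Groth.Agent.LocFree.Tensor

set_option autoImplicit false
open CategoryTheory AlgebraicGeometry CategoryTheory.Limits
open VBCurve

open Groth.VBCurves

namespace Groth.Agent.S16002

/-- Let X be a smooth proper integral curve over the complex numbers and (L_i)_{i ∈ ι} a family of
invertible O_X-modules. A tuple is a finite locally free O_X-module E of rank r ≥ 1 with maps φ_i :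
E → E ⊗ L_i; a submodule j : G → E (a monomorphism) is invariant when for every i some χ : G → G ⊗
L_i followed by j ⊗ L_i equals j followed by φ_i; the tuple is semistable when deg G · r ≤ deg E · n
for every invariant finite locally free submodule G of rank n ≥ 1, degrees being χ − rank · χ(O_X).
If (E, φ) and (F, ψ) are semistable tuples of ranks r ≥ 1 and s ≥ 1 over the same family (L_i) and f
: E → F is a nonzero module map with f followed by ψ_i equal to φ_i followed by f ⊗ L_i for every i,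
then the slope of E is at most that of F: deg E · s ≤ deg F · r. (The published lemma has finitely
many pairwise commuting twisting maps and morphisms compatible up to one nonzero scalar; the
commutation is not used, the index set is arbitrary here, and the scalar case reduces to this one by
rescaling the ψ_i.) -/
theorem result
    (X : Scheme.{0}) [X.Over (Spec (CommRingCat.of ℂ))] [IsIntegral X]
    [IsProper (X ↘ Spec (CommRingCat.of ℂ))] [Smooth (X ↘ Spec (CommRingCat.of ℂ))]
    (hdim : topologicalKrullDim X = 1)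
    (ι : Type) (L : ι → X.Modules) (hL : ∀ i, PicF.IsInvertible (L i))
    (r s : ℕ) (hr : 0 < r) (hs : 0 < s)
    (E F : X.Modules) (hE : FlatMod.IsFinLocFreeOfRank r E) (hF : FlatMod.IsFinLocFreeOfRank s F)
    (φ : ∀ i, E ⟶ CohB1.tensorMod E (L i)) (ψ : ∀ i, F ⟶ CohB1.tensorMod F (L i))
    (hEss : (∀ (G : X.Modules) (n : ℕ) (j : G ⟶ E), Mono j → 0 < n → FlatMod.IsFinLocFreeOfRank n G →
      (∀ i, ∃ χ : G ⟶ CohB1.tensorMod G (L i), χ ≫ (CohB1.sheafifyMod X).map (MonoidalCategoryStruct.whiskerRight (C := CohB1.PMod X) j.val (CohB1.toPMod (L i))) = j ≫ φ i) →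
      Curv2.deg ℂ X G n * (r : ℤ) ≤ Curv2.deg ℂ X E r * (n : ℤ)))
    (hFss : (∀ (G : X.Modules) (n : ℕ) (j : G ⟶ F), Mono j → 0 < n → FlatMod.IsFinLocFreeOfRank n G →
      (∀ i, ∃ χ : G ⟶ CohB1.tensorMod G (L i), χ ≫ (CohB1.sheafifyMod X).map (MonoidalCategoryStruct.whiskerRight (C := CohB1.PMod X) j.val (CohB1.toPMod (L i))) = j ≫ ψ i) →
      Curv2.deg ℂ X G n * (s : ℤ) ≤ Curv2.deg ℂ X F s * (n : ℤ)))
    (f : E ⟶ F) (hf : ∀ i, f ≫ ψ i = φ i ≫ (CohB1.sheafifyMod X).map (MonoidalCategoryStruct.whiskerRight (C := CohB1.PMod X) f.val (CohB1.toPMod (L i)))) (hne : f ≠ 0) :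
    Curv2.deg ℂ X E r * (s : ℤ) ≤ Curv2.deg ℂ X F s * (r : ℤ) := by
  have hc := IsVBCurve.of_smooth ℂ hdim
  have hE' := Groth.LocFree.isFinLocFree_of_rank hE
  have hF' := Groth.LocFree.isFinLocFree_of_rank hF
  obtain ⟨K, I, i, p, j, w, hS, hi, hp, hj, hfac, -, hK, hI, hrk, hdg, hpos⟩ :=
    exists_image hc hE' hF' f
  have hT : ∀ a, ((ShortComplex.mk i p w).map (DCoh.tensorRightMod (L a))).ShortExact :=
    fun a => Groth.PicAux.shortExact_tensorRightMod (hL a) hS
  have hjT : ∀ a, Mono ((DCoh.tensorRightMod (L a)).map j) := fun a => by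
    haveI := Groth.PicAux.isEquivalence_tensorRightMod_of_isInvertible (hL a)
    infer_instance
  have hf' : ∀ a, f ≫ ψ a = φ a ≫ (DCoh.tensorRightMod (L a)).map p ≫
      (DCoh.tensorRightMod (L a)).map j := fun a => by
    refine (hf a).trans (congrArg (φ a ≫ ·) ?_)
    rw [← hfac]
    exact Functor.map_comp (DCoh.tensorRightMod (L a)) p j
  have hKinv : ∀ a, ∃ χ : K ⟶ CohB1.tensorMod K (L a),
      χ ≫ (DCoh.tensorRightMod (L a)).map i = i ≫ φ a := fun a => by
    haveI := hjT a
    haveI : Mono (((ShortComplex.mk i p w).map (DCoh.tensorRightMod (L a))).f) := (hT a).mono_f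
    have h0 : (i ≫ φ a) ≫ (DCoh.tensorRightMod (L a)).map p = 0 := by
      rw [← cancel_mono ((DCoh.tensorRightMod (L a)).map j), zero_comp, Category.assoc,
        Category.assoc, ← hf' a, ← hfac, Category.assoc]
      erw [reassoc_of% w, zero_comp]
    exact ⟨(hT a).exact.lift (i ≫ φ a) h0, (hT a).exact.lift_f _ h0⟩
  have hIinv : ∀ a, ∃ χ : I ⟶ CohB1.tensorMod I (L a),
      χ ≫ (DCoh.tensorRightMod (L a)).map j = j ≫ ψ a := fun a => by
    haveI := hjT a
    haveI : Epi (ShortComplex.mk i p w).g := hp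
    have h0 : i ≫ φ a ≫ (DCoh.tensorRightMod (L a)).map p = 0 := by
      rw [← cancel_mono ((DCoh.tensorRightMod (L a)).map j), zero_comp, Category.assoc,
        Category.assoc, ← hf' a, ← hfac, Category.assoc]
      erw [reassoc_of% w, zero_comp]
    refine ⟨hS.exact.desc _ h0, ?_⟩
    rw [← cancel_epi p]
    erw [← Category.assoc, hS.exact.g_desc _ h0]
    erw [Category.assoc, ← hf' a, ← hfac, Category.assoc]
  have hIrk := hpos hne
  have h1 : dg ℂ K * (r : ℤ) ≤ dg ℂ E * (rk K : ℤ) := by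
    rcases Nat.eq_zero_or_pos (rk K) with h0 | h0
    · simp [h0, dg_of_rk_zero ℂ hK h0]
    · have h := hEss K (rk K) i hi h0 (isFinLocFreeOfRank_rk hK) hKinv
      rwa [dg_eq ℂ (isFinLocFreeOfRank_rk hK), dg_eq ℂ hE] at h
  have h2 : dg ℂ I * (s : ℤ) ≤ dg ℂ F * (rk I : ℤ) := by
    have h := hFss I (rk I) j hj hIrk (isFinLocFreeOfRank_rk hI) hIinv
    rwa [dg_eq ℂ (isFinLocFreeOfRank_rk hI), dg_eq ℂ hF] at h
  rw [dg_eq ℂ hE, dg_eq ℂ hF]
  rw [rk_eq hE] at hrk
  have hIz : (0 : ℤ) < rk I := by exact_mod_cast hIrk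
  have hr' : (r : ℤ) = rk K + rk I := by exact_mod_cast hrk
  refine le_of_mul_le_mul_right ?_ hIz
  have h3 : dg ℂ E * (rk I : ℤ) ≤ dg ℂ I * (r : ℤ) := by
    rw [hdg, hr'] at h1 ⊢
    nlinarith [h1]
  nlinarith [mul_le_mul_of_nonneg_right h3 (Int.natCast_nonneg s),
    mul_le_mul_of_nonneg_right h2 (Int.natCast_nonneg r)]

end Groth.Agent.S16002
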