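import Groth.Statements.S16003
import Groth.Agent.VBCurves.Slope
import Groth.Agent.VBCurves.Sat
import Groth.Agent.PicAux.Powers
import Groth.Agent.EulerDeg.Tensor
import Groth.Agent.LocFree.Tensor
import Groth.Agent.QCohMod.Coherent

set_option autoImplicit false
open CategoryTheory AlgebraicGeometry CategoryTheory.Limits
open VBCurve

open Groth.VBCurves

namespace Groth.Agent.S16003

/-- Let X be a smooth proper integral curve over the complex numbers and L an invertible O_X-module; an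
L-valued pair is a finite locally free O_X-module E of rank r ≥ 1 with a map φ : E → E ⊗ L; a
submodule j : G → E (a monomorphism) is φ-invariant when some χ : G → G ⊗ L followed by j ⊗ L equals
j followed by φ; the pair is semistable when deg G · r ≤ deg E · n for every φ-invariant finite
locally free submodule G of rank n ≥ 1, degrees being χ − rank · χ(O_X). If (E, φ) is a semistable
pair and φ is not zero, then L has non-negative degree. (The published statement is for tuples of
finitely many commuting twisting maps; this is the assertion for the one map φ.) -/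
theorem result
    (X : Scheme.{0}) [X.Over (Spec (CommRingCat.of ℂ))] [IsIntegral X]
    [IsProper (X ↘ Spec (CommRingCat.of ℂ))] [Smooth (X ↘ Spec (CommRingCat.of ℂ))]
    (hdim : topologicalKrullDim X = 1)
    (L : X.Modules) (hL : PicF.IsInvertible L)
    (r : ℕ) (hr : 0 < r) (E : X.Modules) (hE : FlatMod.IsFinLocFreeOfRank r E)
    (φ : E ⟶ CohB1.tensorMod E L)
    (hss : (∀ (G : X.Modules) (n : ℕ) (j : G ⟶ E) (χ : G ⟶ CohB1.tensorMod G L), Mono j → 0 < n →
      FlatMod.IsFinLocFreeOfRank n G →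
      χ ≫ (CohB1.sheafifyMod X).map (MonoidalCategoryStruct.whiskerRight (C := CohB1.PMod X) j.val (CohB1.toPMod L)) = j ≫ φ →
      Curv2.deg ℂ X G n * (r : ℤ) ≤ Curv2.deg ℂ X E r * (n : ℤ)))
    (hφ : φ ≠ 0) :
    0 ≤ Curv2.deg ℂ X L 1 := by
  have hc := IsVBCurve.of_smooth ℂ hdim
  have hE' := Groth.LocFree.isFinLocFree_of_rank hE
  have hL1 := Groth.LocFree.isInvertible_iff_ofRank_one.mp hL
  have hEL := Groth.LocFree.isFinLocFreeOfRank_tensorMod hE hL1
  haveI := Groth.PicAux.isEquivalence_tensorRightMod_of_isInvertible hL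
  let T := DCoh.tensorRightMod L
  obtain ⟨K, I, i, p, j, w, hS, hi, hp, hj, hfac, -, hK, hI, hrk, hdg, hpos⟩ :=
    exists_image hc hE' (Groth.LocFree.isFinLocFree_of_rank hEL) φ
  obtain ⟨M, hM, hLM⟩ := Groth.PicAux.exists_isInverseOf hL
  let G : X.Modules := (Groth.PicAux.twistEquiv hLM).inverse.obj I
  let θ : T.obj G ≅ I := (Groth.PicAux.twistEquiv hLM).counitIso.app I
  let j' : G ⟶ E := T.preimage (X := G) (Y := E) (θ.hom ≫ j)
  have hj' : T.map j' = θ.hom ≫ j := T.map_preimage _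
  haveI : Mono j' := by
    refine T.mono_of_mono_map ?_
    rw [hj']
    exact @mono_comp _ _ _ _ _ θ.hom inferInstance j hj
  have hG : FlatMod.IsFinLocFree G := Groth.LocFree.isFinLocFree_of_rank
    (Groth.LocFree.isFinLocFreeOfRank_tensorMod (isFinLocFreeOfRank_rk hI)
      (Groth.LocFree.isInvertible_iff_ofRank_one.mp hM))
  have hTG := Groth.LocFree.isFinLocFreeOfRank_tensorMod (isFinLocFreeOfRank_rk hG) hL1
  have hrkI : rk I = rk G * 1 :=
    rk_eq (Groth.LocFree.isFinLocFreeOfRank_of_iso θ hTG)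
  have hdI : dg ℂ I = dg ℂ G + (rk G : ℤ) * Curv2.deg ℂ X L 1 := by
    have h := Groth.EulerDeg.deg_tensor ℂ hdim.le (isFinLocFreeOfRank_rk hG) hL1
    rw [dg_eq ℂ (isFinLocFreeOfRank_rk hG), dg_eq ℂ hTG] at h
    rw [← dg_eq_of_iso ℂ (Groth.LocFree.isFinLocFree_of_rank hTG) θ]
    refine h.trans ?_
    push_cast
    ring
  rw [mul_one] at hrkI
  have hIrk := hpos hφ
  have h2 : dg ℂ G * (r : ℤ) ≤ dg ℂ E * (rk G : ℤ) := by
    have h := hss G (rk G) j' (j' ≫ p ≫ θ.inv) inferInstance (hrkI ▸ hIrk) (isFinLocFreeOfRank_rk hG) (by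
      show (j' ≫ p ≫ θ.inv) ≫ T.map j' = j' ≫ φ
      rw [hj', Category.assoc, Category.assoc]
      erw [θ.inv_hom_id_assoc]
      exact congrArg _ hfac)
    rwa [dg_eq ℂ (isFinLocFreeOfRank_rk hG), dg_eq ℂ hE] at h
  have h1 : dg ℂ K * (r : ℤ) ≤ dg ℂ E * (rk K : ℤ) := by
    rcases Nat.eq_zero_or_pos (rk K) with h0 | h0
    · simp [h0, dg_of_rk_zero ℂ hK h0]
    · have hφ0 : i ≫ φ = 0 := by rw [← hfac, reassoc_of% w, zero_comp]
      have h := hss K (rk K) i 0 hi h0 (isFinLocFreeOfRank_rk hK) (by rw [hφ0]; exact zero_comp)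
      rwa [dg_eq ℂ (isFinLocFreeOfRank_rk hK), dg_eq ℂ hE] at h
  rw [rk_eq hE, hrkI] at hrk
  have hr' : (r : ℤ) = rk K + rk G := by exact_mod_cast hrk
  have hG0 : (0 : ℤ) < rk G := by exact_mod_cast hrkI ▸ hIrk
  rw [hdI] at hdg
  have hr0 : (0 : ℤ) < r := by exact_mod_cast hr
  have h3 : 0 ≤ ((rk G : ℤ) * Curv2.deg ℂ X L 1) * (r : ℤ) := by
    rw [hdg, hr'] at h1 h2
    rw [hr']
    linarith
  exact nonneg_of_mul_nonneg_right (nonneg_of_mul_nonneg_left h3 hr0) hG0

end Groth.Agent.S16003
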