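import Groth.Statements.S16005
import Groth.Agent.VBCurves.Higgs

set_option autoImplicit false
open CategoryTheory AlgebraicGeometry CategoryTheory.Limits
open VBCurve

open Groth.VBCurves

namespace Groth.Agent.S16005

/-- Let X be a smooth proper integral curve over the complex numbers and L an invertible O_X-module; an
L-valued pair is a finite locally free O_X-module E of rank r ≥ 1 with a map φ : E → E ⊗ L; a
submodule j : G → E (a monomorphism) is φ-invariant when some χ : G → G ⊗ L followed by j ⊗ L equals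
j followed by φ; the pair is semistable when deg G · r ≤ deg E · n for every φ-invariant finite
locally free submodule G of rank n ≥ 1, degrees being χ − rank · χ(O_X). Let (E, φ) be a pair and ψ
: E → E an endomorphism commuting with φ (ψ followed by φ equals φ followed by ψ ⊗ L); a submodule
is ψ-invariant when ψ restricts to an endomorphism of it. Then (E, φ, ψ) is semistable, meaning deg
G · r ≤ deg E · n for every finite locally free submodule G of rank n ≥ 1 that is both φ-invariant
and ψ-invariant, if and only if the pair (E, φ) is semistable. (The published statement takes L to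
be the canonical sheaf; the row allows any invertible L.) -/
theorem result
    (X : Scheme.{0}) [X.Over (Spec (CommRingCat.of ℂ))] [IsIntegral X]
    [IsProper (X ↘ Spec (CommRingCat.of ℂ))] [Smooth (X ↘ Spec (CommRingCat.of ℂ))]
    (hdim : topologicalKrullDim X = 1)
    (L : X.Modules) (hL : PicF.IsInvertible L)
    (r : ℕ) (hr : 0 < r) (E : X.Modules) (hE : FlatMod.IsFinLocFreeOfRank r E)
    (φ : E ⟶ CohB1.tensorMod E L) (ψ : E ⟶ E)
    (hcomm : ψ ≫ φ = φ ≫ (CohB1.sheafifyMod X).map (MonoidalCategoryStruct.whiskerRight (C := CohB1.PMod X) ψ.val (CohB1.toPMod L))) :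
    (∀ (G : X.Modules) (n : ℕ) (j : G ⟶ E) (χ : G ⟶ CohB1.tensorMod G L) (ψ' : G ⟶ G), Mono j → 0 < n →
      FlatMod.IsFinLocFreeOfRank n G →
      χ ≫ (CohB1.sheafifyMod X).map (MonoidalCategoryStruct.whiskerRight (C := CohB1.PMod X) j.val (CohB1.toPMod L)) = j ≫ φ → ψ' ≫ j = j ≫ ψ →
      Curv2.deg ℂ X G n * (r : ℤ) ≤ Curv2.deg ℂ X E r * (n : ℤ)) ↔
    (∀ (G : X.Modules) (n : ℕ) (j : G ⟶ E) (χ : G ⟶ CohB1.tensorMod G L), Mono j → 0 < n →
      FlatMod.IsFinLocFreeOfRank n G →
      χ ≫ (CohB1.sheafifyMod X).map (MonoidalCategoryStruct.whiskerRight (C := CohB1.PMod X) j.val (CohB1.toPMod L)) = j ≫ φ →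
      Curv2.deg ℂ X G n * (r : ℤ) ≤ Curv2.deg ℂ X E r * (n : ℤ)) := by
  have hc := IsVBCurve.of_smooth ℂ hdim
  have hE' := Groth.LocFree.isFinLocFree_of_rank hE
  refine ⟨fun h => ?_, fun h G n j χ ψ' hj hn hG hχ _ => h G n j χ hj hn hG hχ⟩
  have hP := PBnd.of_endo hL hc hE' (by rwa [rk_eq hE]) (φ := φ) ψ hcomm
    fun G j ψ' hj hG hpos ⟨χ, hχ⟩ hψ' => by
      rw [rk_eq hE, ← dg_eq ℂ hE]
      exact h G (rk G) j χ ψ' hj hpos (isFinLocFreeOfRank_rk hG) hχ hψ'
  intro G n j χ hj hn hG hχ
  have := hP G j hj (Groth.LocFree.isFinLocFree_of_rank hG) (by rwa [rk_eq hG]) ⟨χ, hχ⟩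
  rwa [rk_eq hG, rk_eq hE, ← dg_eq ℂ hG, ← dg_eq ℂ hE] at this

end Groth.Agent.S16005
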