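import Groth.Statements.S16006
import Groth.Agent.VBCurves.GenusOneSplit
import Groth.Agent.VBCurves.Higgs
-- import your own Groth.Agent.* helpers here

set_option autoImplicit false
open CategoryTheory AlgebraicGeometry CategoryTheory.Limits
open VBCurve

open Groth.VBCurves
open scoped Groth.CurveBridge

namespace Groth.Agent.S16006

/-- Let X be a smooth proper integral curve of genus 1 over the complex numbers (genus = dim H¹(O_X))
and L an invertible O_X-module of degree 0 such that L ⊗ L is not isomorphic to O_X; an L-valued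
pair is a finite locally free O_X-module E of rank r ≥ 1 with a map φ : E → E ⊗ L; a submodule j : G
→ E (a monomorphism) is φ-invariant when some χ : G → G ⊗ L followed by j ⊗ L equals j followed by
φ; the pair is semistable when deg G · r ≤ deg E · n for every φ-invariant finite locally free
submodule G of rank n ≥ 1, degrees being χ − rank · χ(O_X), and it is stable when deg G · r < deg E
· n for every φ-invariant finite locally free submodule G of rank n with 1 ≤ n < r. If (E, φ) is a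
stable pair of rank 2, then E is slope-stable as a module of rank 2: deg G · 2 < deg E · n for every
finite locally free submodule G of rank n with 1 ≤ n < 2, φ-invariant or not. (The published
statement assumes only that L is not isomorphic to O_X. For L of order two and E = O_X ⊕ L, the
isomorphism φ : E → E ⊗ L = (O_X ⊗ L) ⊕ (L ⊗ L) that maps the summand O_X of E onto the summand L ⊗
L ≅ O_X and the summand L onto O_X ⊗ L ≅ L leaves no rank-one submodule of degree 0 invariant, so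
(E, φ) is a stable pair while E is not stable; the published argument derives L ⊗ L ≅ O_X in the
split case, so the row assumes L ⊗ L ≄ O_X.) -/
theorem result
    (X : Scheme.{0}) [X.Over (Spec (CommRingCat.of ℂ))] [IsIntegral X]
    [IsProper (X ↘ Spec (CommRingCat.of ℂ))] [Smooth (X ↘ Spec (CommRingCat.of ℂ))]
    (hdim : topologicalKrullDim X = 1)
    (hg : Curv2.genus ℂ X = 1)
    (L : X.Modules) (hL : PicF.IsInvertible L) (hL0 : Curv2.deg ℂ X L 1 = 0)
    (hL2 : ¬ Nonempty (CohB1.tensorMod L L ≅ Coh.structureModule X))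
    (E : X.Modules) (hE : FlatMod.IsFinLocFreeOfRank 2 E)
    (φ : E ⟶ CohB1.tensorMod E L)
    (hst : (∀ (G : X.Modules) (n : ℕ) (j : G ⟶ E) (χ : G ⟶ CohB1.tensorMod G L), Mono j → 0 < n → n < 2 →
      FlatMod.IsFinLocFreeOfRank n G →
      χ ≫ (CohB1.sheafifyMod X).map (MonoidalCategoryStruct.whiskerRight (C := CohB1.PMod X) j.val (CohB1.toPMod L)) = j ≫ φ →
      Curv2.deg ℂ X G n * (2 : ℤ) < Curv2.deg ℂ X E 2 * (n : ℤ))) :
    ∀ (G : X.Modules) (n : ℕ) (j : G ⟶ E), Mono j → 0 < n → n < 2 → FlatMod.IsFinLocFreeOfRank n G →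
      Curv2.deg ℂ X G n * (2 : ℤ) < Curv2.deg ℂ X E 2 * (n : ℤ) := by
  have hc := IsVBCurve.of_smooth (X := X) ℂ hdim
  have hK := Groth.CurveBridge.isFunctionField (k := ℂ) (X := X) hdim
  obtain ⟨ω, hω⟩ := exists_isDualizing_of_smooth hdim hK
  have := Groth.PicAux.isEquivalence_tensorRightMod_of_isInvertible hL
  have : PreservesBinaryBiproducts (tw L) :=
    preservesBinaryBiproducts_of_preservesBinaryProducts (tw L)
  have := Functor.additive_of_preservesBinaryBiproducts (tw L)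
  have hE' := Groth.LocFree.isFinLocFree_of_rank hE
  let φ' : E ⟶ (tw L).obj E := φ
  intro G₀ n j₀ hj hn hn2 hG₀
  obtain rfl : n = 1 := by omega
  by_contra hle
  push Not at hle
  have hG₀' := Groth.LocFree.isFinLocFree_of_rank hG₀
  -- saturate
  obtain ⟨G, Q, σ, i, q, w, hS, hσ, hσm, hG, hQ, hrG⟩ := exists_saturation hc hE' hG₀' j₀
  rw [rk_eq hG₀] at hrG
  have hr2 := rk_add hS hG hQ
  have hd2 := dg_add ℂ hS hG hQ
  dsimp only at hr2 hd2
  rw [rk_eq hE, hrG] at hr2
  have hG1 : FlatMod.IsFinLocFreeOfRank 1 G := hrG ▸ isFinLocFreeOfRank_rk hG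
  have hQ1 : FlatMod.IsFinLocFreeOfRank 1 Q :=
    (show rk Q = 1 by omega) ▸ isFinLocFreeOfRank_rk hQ
  have hdσ := (dg_le_of_mono ℂ hc.dim.le hG₀' hG σ (by rw [rk_eq hG₀, hrG])).1
  rw [dg_eq ℂ hE, dg_eq ℂ hG₀, Nat.cast_one, mul_one] at hle
  have : Mono i := hS.mono_f
  have : Epi q := hS.epi_g
  have hT := Groth.PicAux.shortExact_tensorRightMod hL hS
  have := hT.mono_f
  -- `G` is not invariant
  let f : G ⟶ (tw L).obj Q := i ≫ φ' ≫ (tw L).map q
  have hf : f ≠ 0 := fun h0 => by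
    have h0' : (i ≫ φ') ≫ (tw L).map q = 0 := by rw [Category.assoc]; exact h0
    have h := hst G 1 i (hT.exact.lift (i ≫ φ') h0') inferInstance one_pos one_lt_two hG1
      (hT.exact.lift_f (i ≫ φ') h0')
    rw [dg_eq ℂ hE, dg_eq ℂ hG1, Nat.cast_one, mul_one] at h
    linarith
  obtain ⟨hrT, hdT⟩ := tw_numerics (k := ℂ) hc hL hQ
  rw [hL0, mul_zero, add_zero] at hdT
  have hTQ := isFinLocFree_tw hL hQ
  have hTQ1 : FlatMod.IsFinLocFreeOfRank 1 ((tw L).obj Q) :=
    (show rk ((tw L).obj Q) = 1 by rw [hrT, rk_eq hQ1]) ▸ isFinLocFreeOfRank_rk hTQ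
  have : Mono f := by
    obtain ⟨A, I, a, p, c, wa, -, -, hp, hc', hfac, hpm, hA, hI, hr, -, hI0⟩ :=
      exists_image hc hG hTQ f
    have := hI0 hf
    rw [hrG] at hr
    have := hpm (by omega)
    rw [← hfac]; infer_instance
  obtain ⟨hdle, -⟩ := dg_le_of_mono ℂ hc.dim.le hG hTQ f (by rw [hrG, rk_eq hTQ1])
  have hdeq : dg ℂ G = dg ℂ Q := by omega
  have : IsIso f := isIso_of_mono hc hG hTQ f (by rw [hrG, rk_eq hTQ1]) (by rw [hdT, hdeq])
  -- no map `G ⟶ Q`, so the extension splits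
  have hLL : ∀ {P : X.Modules}, PicF.IsInvertible P → (CohB1.tensorMod P L ≅ P) →
      Nonempty (L ≅ Coh.structureModule X) := fun {P} hP e => by
    obtain ⟨P', hP', u⟩ := Groth.PicAux.exists_isInverseOf hP
    obtain ⟨u⟩ := id u
    exact ⟨(Groth.PicAux.tensorMod_one hL).some.symm ≪≫
      PicGrp.tensorModIso (u.symm ≪≫ (Groth.PicAux.tensorMod_comm hP hP').some) (Iso.refl L) ≪≫
      (Groth.PicAux.tensorMod_assoc hP' hP hL).some ≪≫ PicGrp.tensorModIso (Iso.refl P') e ≪≫
      (Groth.PicAux.tensorMod_comm hP' hP).some ≪≫ u⟩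
  have hLO : ¬ Nonempty (L ≅ Coh.structureModule X) := fun ⟨a⟩ =>
    hL2 ⟨PicGrp.tensorModIso a (Iso.refl L) ≪≫ (Groth.PicAux.tensorMod_one hL).some ≪≫ a⟩
  have hQi := Groth.LocFree.isInvertible_iff_ofRank_one.2 hQ1
  have hzero : ∀ g : G ⟶ Q, g = 0 := fun g => by
    by_contra hg0
    have : Mono g := mono_of_stable hc hG hQ (st_line hG1) (St.ss hc hQ (st_line hQ1))
      (by rw [hrG, rk_eq hQ1, hdeq]) (by rw [rk_eq hQ1]; norm_num) g hg0
    have := isIso_of_mono hc hG hQ g (by rw [hrG, rk_eq hQ1]) hdeq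
    exact hLO (hLL hQi ((asIso f).symm ≪≫ asIso g))
  have hsplit : IsSplitEpi q := GenusOne.isSplitEpi_of_hom_eq_zero hc hω hg hS hG hQ hzero
  let τ := ShortComplex.Splitting.ofExactOfSection (ShortComplex.mk i q w) hS.exact (section_ q)
    (IsSplitEpi.id q) hS.mono_f
  -- `Q` is invariant
  let s := section_ q
  have hs : Mono s := (SplitMono.mk q (IsSplitEpi.id q) : SplitMono s).mono
  have hinv : s ≫ φ' ≫ (tw L).map τ.r = 0 := by
    by_contra hne
    let g : Q ⟶ (tw L).obj G := s ≫ φ' ≫ (tw L).map τ.r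
    obtain ⟨hrTG, hdTG⟩ := tw_numerics (k := ℂ) hc hL hG
    rw [hL0, mul_zero, add_zero] at hdTG
    have hTG := isFinLocFree_tw hL hG
    have hTG1 : FlatMod.IsFinLocFreeOfRank 1 ((tw L).obj G) :=
      (show rk ((tw L).obj G) = 1 by rw [hrTG, hrG]) ▸ isFinLocFreeOfRank_rk hTG
    have : Mono g := mono_of_stable hc hQ hTG (st_line hQ1) (St.ss hc hTG (st_line hTG1))
      (by rw [rk_eq hTG1, rk_eq hQ1, hdTG, hdeq]) (by rw [rk_eq hTG1]; norm_num) g hne
    have := isIso_of_mono hc hQ hTG g (by rw [rk_eq hTG1, rk_eq hQ1]) (by rw [hdTG, hdeq])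
    let e : CohB1.tensorMod (CohB1.tensorMod Q L) L ≅ Q :=
      PicGrp.tensorModIso (asIso f).symm (Iso.refl L) ≪≫ (asIso g).symm
    obtain ⟨Q', hQ', u⟩ := Groth.PicAux.exists_isInverseOf hQi
    obtain ⟨u⟩ := id u
    exact hL2 ⟨(Groth.PicAux.tensorMod_one (Groth.PicAux.isInvertible_tensorMod hL hL)).some.symm ≪≫
      PicGrp.tensorModIso (u.symm ≪≫ (Groth.PicAux.tensorMod_comm hQi hQ').some) (Iso.refl _) ≪≫
      (Groth.PicAux.tensorMod_assoc hQ' hQi (Groth.PicAux.isInvertible_tensorMod hL hL)).some ≪≫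
      PicGrp.tensorModIso (Iso.refl Q') ((Groth.PicAux.tensorMod_assoc hQi hL hL).some.symm ≪≫ e) ≪≫
      (Groth.PicAux.tensorMod_comm hQ' hQi).some ≪≫ u⟩
  have hχ : (s ≫ φ' ≫ (tw L).map q) ≫ (tw L).map s = s ≫ φ' := by
    have h1 : (tw L).map τ.r ≫ (tw L).map i + (tw L).map q ≫ (tw L).map s = 𝟙 _ := by
      rw [← Functor.map_comp, ← Functor.map_comp, ← Functor.map_add,
        ← CategoryTheory.Functor.map_id]
      exact congrArg (fun t : E ⟶ E => (tw L).map t) τ.id
    rw [show s ≫ φ' = s ≫ φ' ≫ ((tw L).map τ.r ≫ (tw L).map i + (tw L).map q ≫ (tw L).map s) by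
      rw [h1]; exact congrArg (s ≫ ·) (Category.comp_id φ').symm]
    simp only [Preadditive.comp_add, Category.assoc, reassoc_of% hinv, zero_comp, zero_add]
  have h := hst Q 1 s (s ≫ φ' ≫ (tw L).map q) hs one_pos one_lt_two hQ1 hχ
  rw [dg_eq ℂ hE, dg_eq ℂ hQ1, Nat.cast_one, mul_one] at h
  linarith

end Groth.Agent.S16006
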