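import Groth.Statements.S16008
import Groth.Agent.VBCurves.DualityApps

set_option autoImplicit false
open CategoryTheory AlgebraicGeometry CategoryTheory.Limits
open VBCurve

open Groth.VBCurves

namespace Groth.Agent.S16008

/-- Let X be a smooth proper integral curve over the complex numbers, of genus g = dim H¹(O_X), E a
finite locally free O_X-module of rank r ≥ 1 and C an integer such that every finite locally free
submodule G of E of rank n ≥ 1 satisfies deg G · r ≤ (deg E + r·C) · n, that is, μ(G) ≤ μ(E) + C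
(degrees being χ − rank · χ(O_X)). Then H¹(X, E ⊗ N) vanishes for every invertible module N with deg
E + r · deg N > r(r − 1)·C + r(2g − 2), that is, whenever μ(E) + deg N > (r − 1)C + 2g − 2. (Only
the degree of the twisting line bundle enters, so any invertible N replaces the twist O_X(m). The
published argument, written for the twists E(m) by a degree-one polarisation, prints the threshold
as m ≥ μ(E) + (r − 1)C + 2g − 1; for E = O(−1) on the projective line and m = −2 that threshold is
met while H¹(O(−3)) ≠ 0. The degree count in the argument gives the threshold −μ(E) + (r − 1)C + 2g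
− 2 < m stated here.) -/
theorem result
    (X : Scheme.{0}) [X.Over (Spec (CommRingCat.of ℂ))] [IsIntegral X]
    [IsProper (X ↘ Spec (CommRingCat.of ℂ))] [Smooth (X ↘ Spec (CommRingCat.of ℂ))]
    (hdim : topologicalKrullDim X = 1)
    (r : ℕ) (hr : 0 < r) (E : X.Modules) (hE : FlatMod.IsFinLocFreeOfRank r E) (C : ℤ)
    (hC : ∀ (G : X.Modules) (n : ℕ) (j : G ⟶ E), Mono j → 0 < n → FlatMod.IsFinLocFreeOfRank n G →
      Curv2.deg ℂ X G n * (r : ℤ) ≤ (Curv2.deg ℂ X E r + (r : ℤ) * C) * (n : ℤ))
    (N : X.Modules) (hN : PicF.IsInvertible N)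
    (hbig : (r : ℤ) * ((r : ℤ) - 1) * C + (r : ℤ) * (2 * (Curv2.genus ℂ X : ℤ) - 2) <
      Curv2.deg ℂ X E r + (r : ℤ) * Curv2.deg ℂ X N 1) :
    Subsingleton (Coh.HH X (CohB1.tensorMod E N) 1) := by
  have hc := IsVBCurve.of_smooth ℂ hdim
  obtain ⟨ω, hω⟩ := exists_isDualizing_of_smooth hdim
    (Groth.CurveBridge.isFunctionField (k := ℂ) (X := X) hdim)
  have hE' := Groth.LocFree.isFinLocFree_of_rank hE
  have hb : Bnd ℂ E (Curv2.deg ℂ X E r + (r : ℤ) * C) r := fun G j hj hG hpos => by
    have h := hC G (rk G) j hj hpos (isFinLocFreeOfRank_rk hG)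
    rwa [dg_eq ℂ (isFinLocFreeOfRank_rk hG)] at h
  obtain ⟨h1, h2⟩ := tw_numerics (k := ℂ) hc hN hE'
  change Subsingleton (Coh.HH X ((tw N).obj E) 1)
  refine subsingleton_h1_of_bnd hc hω (isFinLocFree_tw hN hE') (hb.twist hc hN) ?_
  rw [h1, h2, rk_eq hE, show dg ℂ E = Curv2.deg ℂ X E r from (dg_eq ℂ hE).symm]
  linarith

end Groth.Agent.S16008
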