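import Groth.Statements.S1601
import Mathlib.Algebra.TrivSqZeroExt
import Mathlib.Tactic
import Mathlib.RingTheory.Ideal.Quotient.Operations
import Mathlib.RingTheory.Nilpotent.Lemmas
import Mathlib.Algebra.MvPolynomial.PDeriv
import Mathlib.Algebra.CharP.Two
import Mathlib.LinearAlgebra.FiniteDimensional.Basic
-- import your own Groth.Agent.* helpers here

set_option autoImplicit false
universe u
open Resolve

namespace Groth.Agent.S1601

open MvPolynomial

local notation "P[" κ "]" => MvPolynomial (Fin 2) κ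

section
variable {κ : Type u} [Field κ]

/-- The affine linear form with coefficients `r, s, t`. -/
private noncomputable def lin (r s t : κ) : P[κ] := C r + C s * X 0 + C t * X 1

/-- The colength of `I` is bigger than one. -/
private def Big (I : Ideal P[κ]) : Prop :=
  ¬ (Module.Finite κ (P[κ] ⧸ I) ∧ Module.finrank κ (P[κ] ⧸ I) ≤ 1)

private lemma Big.not_congr_const {I : Ideal P[κ]} (hI : Big I) (c : Fin 2 → κ) :
    ¬ ∀ i, X i - C (c i) ∈ I := by
  intro h
  apply hI
  have hs : Function.Surjective (Algebra.linearMap κ (P[κ] ⧸ I)) := by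
    intro z
    obtain ⟨g, rfl⟩ := Ideal.Quotient.mk_surjective z
    induction g using MvPolynomial.induction_on with
    | C r => exact ⟨r, rfl⟩
    | add p p' hp hp' =>
      obtain ⟨r, hr⟩ := hp
      obtain ⟨r', hr'⟩ := hp'
      exact ⟨r + r', by rw [map_add, map_add, hr, hr']⟩
    | mul_X p n hp =>
      obtain ⟨r, hr⟩ := hp
      refine ⟨r * c n, ?_⟩
      rw [Algebra.linearMap_apply] at hr ⊢
      rw [map_mul, map_mul (Ideal.Quotient.mk I), ← hr,
        Ideal.Quotient.mk_eq_mk_iff_sub_mem (X n) (C (c n)) |>.mpr (h n)]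
      rfl
  refine ⟨Module.Finite.of_surjective _ hs, ?_⟩
  have := LinearMap.finrank_le_finrank_of_surjective hs
  simpa using this

private lemma Big.const_eq_zero {I : Ideal P[κ]} (hI : Big I) {r : κ} (h : C r ∈ I) : r = 0 := by
  by_contra hr
  have : I = ⊤ := Ideal.eq_top_of_isUnit_mem _ h ((Ne.isUnit hr).map C)
  exact hI.not_congr_const 0 fun i ↦ this ▸ trivial

/-- Two linear forms in an ideal of colength bigger than one are proportional. -/
private lemma Big.minors {I : Ideal P[κ]} (hI : Big I) {r s t r' s' t' : κ} (h : lin r s t ∈ I)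
    (h' : lin r' s' t' ∈ I) : r * s' = r' * s ∧ r * t' = r' * t ∧ s * t' = s' * t := by
  have h12 : s * t' = s' * t := by
    by_contra hne
    have hne' : s * t' - s' * t ≠ 0 := sub_ne_zero.mpr hne
    set e := (s * t' - s' * t)⁻¹
    have he : C e * C (s * t' - s' * t) = (1 : P[κ]) := by rw [← map_mul, inv_mul_cancel₀ hne', map_one]
    refine hI.not_congr_const ![-(e * (t' * r - t * r')), -(e * (s * r' - s' * r))] fun i ↦ ?_
    fin_cases i
    · show X 0 - C (-(e * (t' * r - t * r'))) ∈ I
      have : X 0 - C (-(e * (t' * r - t * r'))) = C (e * t') * lin r s t - C (e * t) * lin r' s' t' := by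
        simp only [lin, map_mul, map_sub, map_neg] at he ⊢
        linear_combination -(X 0) * he
      rw [this]
      exact sub_mem (Ideal.mul_mem_left _ _ h) (Ideal.mul_mem_left _ _ h')
    · show X 1 - C (-(e * (s * r' - s' * r))) ∈ I
      have : X 1 - C (-(e * (s * r' - s' * r))) = C (e * s) * lin r' s' t' - C (e * s') * lin r s t := by
        simp only [lin, map_mul, map_sub, map_neg] at he ⊢
        linear_combination -(X 1) * he
      rw [this]
      exact sub_mem (Ideal.mul_mem_left _ _ h') (Ideal.mul_mem_left _ _ h)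
  have h12' : C s * C t' = (C s' * C t : P[κ]) := by rw [← map_mul, ← map_mul, h12]
  refine ⟨?_, ?_, h12⟩
  · refine sub_eq_zero.mp (hI.const_eq_zero ?_)
    have : C (r * s' - r' * s) = C s' * lin r s t - C s * lin r' s' t' := by
      simp only [lin, map_mul, map_sub]
      linear_combination X 1 * h12'
    rw [this]
    exact sub_mem (Ideal.mul_mem_left _ _ h) (Ideal.mul_mem_left _ _ h')
  · refine sub_eq_zero.mp (hI.const_eq_zero ?_)
    have : C (r * t' - r' * t) = C t' * lin r s t - C t * lin r' s' t' := by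
      simp only [lin, map_mul, map_sub]
      linear_combination -(X 0) * h12'
    rw [this]
    exact sub_mem (Ideal.mul_mem_left _ _ h) (Ideal.mul_mem_left _ _ h')

/-- A map satisfying the product rule sends `I ^ 2` into `I`. -/
private lemma mem_of_sq {R : Type*} [CommRing R] {I : Ideal R} (δ : R → R)
    (hadd : ∀ a b, δ (a + b) = δ a + δ b) (hmul : ∀ a b, δ (a * b) = a * δ b + b * δ a)
    {z : R} (hz : z ∈ I ^ 2) : δ z ∈ I := by
  rw [sq] at hz
  induction hz using Submodule.mul_induction_on' with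
  | mem_mul_mem a ha b hb =>
    rw [hmul]
    exact add_mem (Ideal.mul_mem_right _ _ ha) (Ideal.mul_mem_right _ _ hb)
  | add a _ b _ h h' => rw [hadd]; exact add_mem h h'

/-- A derivation killing `a` and sending `g` to one, in characteristic two. -/
private lemma exists_derivation (h2 : (2 : κ) = 0) {a g : κ} (hg : ∀ α β : κ, g ≠ α ^ 2 + β ^ 2 * a) :
    ∃ D : κ → κ, (∀ x y, D (x + y) = D x + D y) ∧ (∀ x y, D (x * y) = x * D y + y * D x) ∧
      D g = 1 ∧ D a = 0 := by
  haveI : CharP κ 2 := CharTwo.of_one_ne_zero_of_two_eq_zero one_ne_zero h2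
  let F₀ : Subring κ :=
    { carrier := {z | ∃ α β : κ, z = α ^ 2 + β ^ 2 * a}
      mul_mem' := by
        rintro _ _ ⟨α, β, rfl⟩ ⟨γ, δ, rfl⟩
        exact ⟨α * γ + β * δ * a, α * δ + β * γ, by
          linear_combination (- (α * γ * β * δ * a) - α * δ * β * γ * a) * h2⟩
      one_mem' := ⟨1, 0, by simp⟩
      add_mem' := by
        rintro _ _ ⟨α, β, rfl⟩ ⟨γ, δ, rfl⟩
        exact ⟨α + γ, β + δ, by linear_combination (-(α * γ) - β * δ * a) * h2⟩
      zero_mem' := ⟨0, 0, by simp⟩
      neg_mem' := by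
        rintro _ ⟨α, β, rfl⟩
        exact ⟨α, β, by linear_combination (-(α ^ 2 + β ^ 2 * a)) * h2⟩ }
  obtain ⟨F, hF₀, hgF, hmax⟩ : ∃ F : Subring κ, F₀ ≤ F ∧ g ∉ F ∧ ∀ G : Subring κ, F ≤ G → g ∉ G → G ≤ F := by
    have : ∀ c ⊆ {F : Subring κ | g ∉ F}, IsChain (· ≤ ·) c → ∀ y ∈ c,
        ∃ ub ∈ {F : Subring κ | g ∉ F}, ∀ z ∈ c, z ≤ ub := fun c hc hch y hy ↦ by
      refine ⟨sSup c, ?_, fun z hz ↦ le_sSup hz⟩
      intro hgs
      obtain ⟨z, hz, hgz⟩ := (Subring.mem_sSup_of_directedOn ⟨y, hy⟩ hch.directedOn).mp hgs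
      exact hc hz hgz
    obtain ⟨F, hF, hmF⟩ := zorn_le_nonempty₀ _ this F₀ (by rintro ⟨α, β, h⟩; exact hg α β h)
    exact ⟨F, hF, hmF.1, fun G hG hgG ↦ hmF.2 hgG hG⟩
  have hsq : ∀ z : κ, z ^ 2 ∈ F := fun z ↦ hF₀ ⟨z, 0, by simp⟩
  have hinv : ∀ z ∈ F, z⁻¹ ∈ F := fun z hz ↦ by
    rcases eq_or_ne z 0 with rfl | h
    · simp
    · have : z⁻¹ = z * (z⁻¹) ^ 2 := by field_simp
      rw [this]; exact mul_mem hz (hsq _)
  have hneg : ∀ z : κ, -z = z := fun z ↦ CharTwo.neg_eq z
  have hdec : ∀ z : κ, ∃ u ∈ F, ∃ v ∈ F, z = u + v * g := by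
    intro z
    by_contra! hc
    let G : Subring κ :=
      { carrier := {w | ∃ u ∈ F, ∃ v ∈ F, w = u + v * z}
        mul_mem' := by
          rintro _ _ ⟨u, hu, v, hv, rfl⟩ ⟨u', hu', v', hv', rfl⟩
          exact ⟨u * u' + v * v' * z ^ 2, add_mem (mul_mem hu hu') (mul_mem (mul_mem hv hv') (hsq z)),
            u * v' + v * u', add_mem (mul_mem hu hv') (mul_mem hv hu'), by ring⟩
        one_mem' := ⟨1, one_mem _, 0, zero_mem _, by simp⟩
        add_mem' := by
          rintro _ _ ⟨u, hu, v, hv, rfl⟩ ⟨u', hu', v', hv', rfl⟩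
          exact ⟨u + u', add_mem hu hu', v + v', add_mem hv hv', by ring⟩
        zero_mem' := ⟨0, zero_mem _, 0, zero_mem _, by simp⟩
        neg_mem' := by
          rintro _ ⟨u, hu, v, hv, rfl⟩
          exact ⟨u, hu, v, hv, hneg _⟩ }
    have hzG : z ∈ G := ⟨0, zero_mem _, 1, one_mem _, by simp⟩
    have hzF : z ∉ F := fun h ↦ hc z h 0 (zero_mem _) (by simp)
    have hgG : g ∈ G := by
      by_contra h
      exact hzF (hmax G (fun w hw ↦ ⟨w, hw, 0, zero_mem _, by simp⟩) h hzG)
    obtain ⟨u, hu, v, hv, huv⟩ := hgG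
    have hv0 : v ≠ 0 := by
      rintro rfl
      exact hgF (by simpa [huv] using hu)
    refine hc (u * v⁻¹) (mul_mem hu (hinv v hv)) v⁻¹ (hinv v hv) ?_
    rw [huv]
    field_simp
    linear_combination (-u) * h2
  choose u hu v hv huv using hdec
  have huniq : ∀ z, ∀ u' ∈ F, ∀ v' ∈ F, z = u' + v' * g → v z = v' := by
    intro z u' hu' v' hv' h
    by_contra hne
    have e : g = (u z - u') * (v' - v z)⁻¹ := by
      rw [eq_mul_inv_iff_mul_eq₀ (sub_ne_zero.mpr (Ne.symm hne))]
      linear_combination huv z - h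
    exact hgF (e ▸ mul_mem (sub_mem (hu z) hu') (hinv _ (sub_mem hv' (hv z))))
  refine ⟨v, fun x y ↦ ?_, fun x y ↦ ?_, huniq g 0 (zero_mem _) 1 (one_mem _) (by simp),
    huniq a a (hF₀ ⟨0, 1, by simp⟩) 0 (zero_mem _) (by simp)⟩
  · exact huniq _ _ (add_mem (hu x) (hu y)) _ (add_mem (hv x) (hv y))
      (by linear_combination huv x + huv y)
  · refine huniq _ (u x * u y + v x * v y * g ^ 2)
      (add_mem (mul_mem (hu x) (hu y)) (mul_mem (mul_mem (hv x) (hv y)) (hsq g))) _ ?_ ?_
    · have : x * v y + y * v x = u x * v y + u y * v x := by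
        linear_combination v y * huv x + v x * huv y + (v x * v y * g) * h2
      rw [this]
      exact add_mem (mul_mem (hu x) (hv y)) (mul_mem (hu y) (hv x))
    · linear_combination (x - v x * g) * huv y + (u y) * huv x + (-(v x * v y * g ^ 2)) * h2

/-- Applying a derivation of the coefficients to an element of `I ^ 2` gives an element of `I`. -/
private lemma coeffwise_mem (D : κ → κ) (hadd : ∀ x y, D (x + y) = D x + D y)
    (hmul : ∀ x y, D (x * y) = x * D y + y * D x) {I : Ideal P[κ]} {p₁ p₂ p₃ : κ}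
    (h : (C p₁ + C p₂ * X 0 ^ 2 + C p₃ * X 1 ^ 2 : P[κ]) ∈ I ^ 2) :
    (C (D p₁) + C (D p₂) * X 0 ^ 2 + C (D p₃) * X 1 ^ 2 : P[κ]) ∈ I := by
  have h1 : D 1 = 0 := by simpa using hmul 1 1
  have h0 : D 0 = 0 := by simpa using hadd 0 0
  let φ : κ →+* TrivSqZeroExt P[κ] P[κ] :=
    { toFun := fun r ↦ TrivSqZeroExt.inl (C r) + TrivSqZeroExt.inr (C (D r))
      map_one' := by ext <;> simp [h1]
      map_mul' := fun r s ↦ by
        ext <;> simp [hmul, map_mul, map_add] <;> ring_nf
      map_zero' := by ext <;> simp [h0]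
      map_add' := fun r s ↦ by ext <;> simp [hadd, map_add] }
  let Φ := MvPolynomial.eval₂Hom φ fun i ↦ TrivSqZeroExt.inl (X i : P[κ])
  have hfst : ∀ g, (Φ g).fst = g := fun g ↦ by
    induction g using MvPolynomial.induction_on with
    | C r => simp [Φ, φ]
    | add p p' hp hp' => simp [hp, hp']
    | mul_X p n hp => rw [map_mul, TrivSqZeroExt.fst_mul, hp]; simp [Φ]
  have := mem_of_sq (I := I) (fun g ↦ (Φ g).snd) (fun x y ↦ by simp)
    (fun x y ↦ by
      simp only [map_mul, TrivSqZeroExt.snd_mul, hfst, smul_eq_mul, MulOpposite.smul_eq_mul_unop,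
        MulOpposite.unop_op]
      ring) h
  convert this using 1
  simp [Φ, φ, sq]

/-- The case of the geometrically non-reduced double point `x ^ 2 + f y ^ 2`. -/
private lemma false_of_double_point {I : Ideal P[κ]} (hI : Big I) {α β f : κ}
    (hf : ∀ γ : κ, f ≠ γ ^ 2) (h2 : (2 : κ) = 0)
    (hx : (X 0 + C α) ^ 2 ∈ I) (hy : (X 1 + C β) ^ 2 ∈ I)
    (hq : (X 0 + C α) ^ 2 + C f * (X 1 + C β) ^ 2 ∈ I ^ 2) : False := by
  set x : P[κ] := X 0 + C α
  set y : P[κ] := X 1 + C β
  set Q : Ideal P[κ] := Ideal.span {x ^ 2, x * y, y ^ 2}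
  have hQ : ∀ {z}, z ∈ ({x ^ 2, x * y, y ^ 2} : Set P[κ]) → z ∈ Q := fun h ↦ Ideal.subset_span h
  have hexp : ∀ g : P[κ], ∃ c u v : κ, g - (C c + C u * x + C v * y) ∈ Q := by
    intro g
    induction g using MvPolynomial.induction_on with
    | C r => exact ⟨r, 0, 0, by simp⟩
    | add p p' hp hp' =>
      obtain ⟨c, u, v, h⟩ := hp
      obtain ⟨c', u', v', h'⟩ := hp'
      refine ⟨c + c', u + u', v + v', ?_⟩
      convert add_mem h h' using 1
      simp only [map_add]; ring
    | mul_X p n hp =>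
      obtain ⟨c, u, v, h⟩ := hp
      fin_cases n
      · refine ⟨-(α * c), c - α * u, -(α * v), ?_⟩
        convert add_mem (Ideal.mul_mem_right (X 0) _ h) (add_mem (Ideal.mul_mem_left Q (C u) (hQ (z := x ^ 2) (by simp)))
          (Ideal.mul_mem_left Q (C v) (hQ (z := x * y) (by simp)))) using 1
        simp only [x, y, map_sub, map_mul, map_neg, Fin.zero_eta]; ring
      · refine ⟨-(β * c), -(β * u), c - β * v, ?_⟩
        convert add_mem (Ideal.mul_mem_right (X 1) _ h) (add_mem (Ideal.mul_mem_left Q (C u) (hQ (z := x * y) (by simp)))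
          (Ideal.mul_mem_left Q (C v) (hQ (z := y ^ 2) (by simp)))) using 1
        simp only [x, y, map_sub, map_mul, map_neg, Fin.mk_one]; ring
  choose c u v hguv using hexp
  have hxy2 : (x * y) ^ 2 ∈ I := by rw [mul_pow]; exact Ideal.mul_mem_left _ _ hy
  have hc : ∀ g ∈ I, c g = 0 := by
    intro g hg
    by_contra hne
    have hQn : ∀ z ∈ Q, IsNilpotent (Ideal.Quotient.mk I z) := fun z hz ↦ by
      induction hz using Submodule.span_induction with
      | mem z hz =>
        rcases hz with rfl | rfl | rfl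
        · exact ⟨1, by rw [pow_one]; exact Ideal.Quotient.eq_zero_iff_mem.mpr hx⟩
        · exact ⟨2, by rw [← map_pow]; exact Ideal.Quotient.eq_zero_iff_mem.mpr hxy2⟩
        · exact ⟨1, by rw [pow_one]; exact Ideal.Quotient.eq_zero_iff_mem.mpr hy⟩
      | zero => simp
      | add z w _ _ h h' => rw [map_add]; exact (Commute.all _ _).isNilpotent_add h h'
      | smul r z _ h => rw [smul_eq_mul, map_mul]; exact (Commute.all _ _).isNilpotent_mul_left h
    have hxn : IsNilpotent (Ideal.Quotient.mk I x) :=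
      ⟨2, by rw [← map_pow]; exact Ideal.Quotient.eq_zero_iff_mem.mpr hx⟩
    have hyn : IsNilpotent (Ideal.Quotient.mk I y) :=
      ⟨2, by rw [← map_pow]; exact Ideal.Quotient.eq_zero_iff_mem.mpr hy⟩
    have hunit : IsUnit (Ideal.Quotient.mk I (C (c g))) := ((Ne.isUnit hne).map C).map _
    have hn : IsNilpotent (Ideal.Quotient.mk I (C (c g))) := by
      have e : Ideal.Quotient.mk I (C (c g)) = -(Ideal.Quotient.mk I (g - (C (c g) + C (u g) * x + C (v g) * y)) +
          (Ideal.Quotient.mk I (C (u g)) * Ideal.Quotient.mk I x +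
            Ideal.Quotient.mk I (C (v g)) * Ideal.Quotient.mk I y)) := by
        rw [map_sub, map_add, map_add, map_mul, map_mul, Ideal.Quotient.eq_zero_iff_mem.mpr hg]
        ring
      rw [e]
      exact ((Commute.all _ _).isNilpotent_add (hQn _ (hguv g)) ((Commute.all _ _).isNilpotent_add
        ((Commute.all _ _).isNilpotent_mul_left hxn) ((Commute.all _ _).isNilpotent_mul_left hyn))).neg
    obtain ⟨k, hk⟩ := hn
    have h0 : IsUnit (0 : P[κ] ⧸ I) := hk ▸ hunit.pow k
    rw [isUnit_zero_iff, eq_comm, ← map_one (Ideal.Quotient.mk I), Ideal.Quotient.eq_zero_iff_mem] at h0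
    exact one_ne_zero (hI.const_eq_zero (r := (1 : κ)) (by simpa using h0))
  have hJ : ∀ z ∈ Q, x * z ∈ I ∧ y * z ∈ I := fun z hz ↦ by
    induction hz using Submodule.span_induction with
    | mem z hz =>
      rcases hz with rfl | rfl | rfl
      · exact ⟨Ideal.mul_mem_left _ _ hx, Ideal.mul_mem_left _ _ hx⟩
      · exact ⟨by rw [← mul_assoc, ← sq]; exact Ideal.mul_mem_right _ _ hx,
          by rw [mul_left_comm, ← sq]; exact Ideal.mul_mem_left _ _ hy⟩
      · exact ⟨Ideal.mul_mem_left _ _ hy, Ideal.mul_mem_left _ _ hy⟩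
    | zero => simp
    | add z w _ _ h h' => exact ⟨by rw [mul_add]; exact add_mem h.1 h'.1, by rw [mul_add]; exact add_mem h.2 h'.2⟩
    | smul r z _ h =>
      rw [smul_eq_mul, mul_left_comm x, mul_left_comm y]
      exact ⟨Ideal.mul_mem_left _ _ h.1, Ideal.mul_mem_left _ _ h.2⟩
  have hline : ∃ r s : κ, (r, s) ≠ 0 ∧ ∀ g ∈ I, u g * r + v g * s = 0 := by
    by_cases hall : ∀ g ∈ I, u g = 0 ∧ v g = 0
    · exact ⟨1, 0, by simp, fun g hg ↦ by simp [hall g hg]⟩
    push Not at hall
    obtain ⟨g, hg, hne⟩ := hall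
    have hxy : x * y ∈ I := by
      have hx' : C (v g) * (x * y) ∈ I := by
        have e : C (v g) * (x * y) = x * g - x * (g - (C (c g) + C (u g) * x + C (v g) * y)) - C (u g) * x ^ 2 := by
          rw [hc g hg, map_zero]; ring
        rw [e]
        exact sub_mem (sub_mem (Ideal.mul_mem_left _ _ hg) (hJ _ (hguv g)).1) (Ideal.mul_mem_left _ _ hx)
      have hy' : C (u g) * (x * y) ∈ I := by
        have e : C (u g) * (x * y) = y * g - y * (g - (C (c g) + C (u g) * x + C (v g) * y)) - C (v g) * y ^ 2 := by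
          rw [hc g hg, map_zero]; ring
        rw [e]
        exact sub_mem (sub_mem (Ideal.mul_mem_left _ _ hg) (hJ _ (hguv g)).2) (Ideal.mul_mem_left _ _ hy)
      by_cases hu0 : u g = 0
      · exact (Ideal.unit_mul_mem_iff_mem _ ((Ne.isUnit (hne hu0)).map C)).mp hx'
      · exact (Ideal.unit_mul_mem_iff_mem _ ((Ne.isUnit hu0).map C)).mp hy'
    have hQI : Q ≤ I := Ideal.span_le.mpr (by rintro _ (rfl | rfl | rfl) <;> assumption)
    have hlin : ∀ g' ∈ I, lin (u g' * α + v g' * β) (u g') (v g') ∈ I := fun g' hg' ↦ by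
      have e : lin (u g' * α + v g' * β) (u g') (v g') =
          g' - (g' - (C (c g') + C (u g') * x + C (v g') * y)) := by
        rw [hc g' hg', map_zero]; simp only [lin, x, y, map_add, map_mul]; ring
      rw [e]
      exact sub_mem hg' (hQI (hguv g'))
    refine ⟨v g, -u g, fun h ↦ ?_, fun g' hg' ↦ ?_⟩
    · simp only [Prod.mk_eq_zero, neg_eq_zero] at h
      exact hne h.2 h.1
    · have := (hI.minors (hlin g' hg') (hlin g hg)).2.2
      linear_combination this
  obtain ⟨r, s, hrs, hline⟩ := hline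
  let σ : P[κ] →ₐ[κ] Polynomial κ := aeval ![Polynomial.C r * Polynomial.X - Polynomial.C α,
    Polynomial.C s * Polynomial.X - Polynomial.C β]
  have hσx : σ x = Polynomial.C r * Polynomial.X := by simp [σ, x]
  have hσy : σ y = Polynomial.C s * Polynomial.X := by simp [σ, y]
  have hσI : ∀ g ∈ I, Polynomial.X ^ 2 ∣ σ g := by
    intro g hg
    have h1 : Polynomial.X ^ 2 ∣ σ (g - (C (c g) + C (u g) * x + C (v g) * y)) := by
      have : Q ≤ (Ideal.span {Polynomial.X ^ 2}).comap σ := by
        refine Ideal.span_le.mpr ?_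
        rintro _ (rfl | rfl | rfl) <;>
          simp only [SetLike.mem_coe, Ideal.mem_comap, Ideal.mem_span_singleton, map_mul, map_pow, hσx, hσy]
        · exact ⟨Polynomial.C r ^ 2, by ring⟩
        · exact ⟨Polynomial.C r * Polynomial.C s, by ring⟩
        · exact ⟨Polynomial.C s ^ 2, by ring⟩
      exact Ideal.mem_span_singleton.mp (this (hguv g))
    have e : σ (g - (C (c g) + C (u g) * x + C (v g) * y)) = σ g := by
      have h' : σ (C (u g) * x + C (v g) * y) = 0 := by
        rw [map_add, map_mul, map_mul, hσx, hσy]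
        have : (Polynomial.C (u g * r + v g * s) : Polynomial κ) = 0 := by rw [hline g hg, map_zero]
        simp only [map_add, map_mul] at this
        simp only [σ, MvPolynomial.aeval_C, Polynomial.algebraMap_apply]
        linear_combination Polynomial.X * this
      rw [hc g hg, map_zero, zero_add, map_sub, h', sub_zero]
    rwa [e] at h1
  have h4 : Polynomial.X ^ 4 ∣ σ (x ^ 2 + C f * y ^ 2) := by
    have : I ^ 2 ≤ (Ideal.span {Polynomial.X ^ 4}).comap σ := by
      rw [sq, Ideal.mul_le]
      intro p hp p' hp'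
      rw [Ideal.mem_comap, Ideal.mem_span_singleton, map_mul]
      calc (Polynomial.X : Polynomial κ) ^ 4 = Polynomial.X ^ 2 * Polynomial.X ^ 2 := by ring
        _ ∣ _ := mul_dvd_mul (hσI p hp) (hσI p' hp')
    exact Ideal.mem_span_singleton.mp (this hq)
  have e : σ (x ^ 2 + C f * y ^ 2) = Polynomial.C (r ^ 2 + f * s ^ 2) * Polynomial.X ^ 2 := by
    simp only [map_add, map_mul, map_pow, hσx, hσy]
    simp only [σ, MvPolynomial.aeval_C, Polynomial.algebraMap_apply]
    simp only [Algebra.algebraMap_self, RingHom.id_apply]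
    ring
  rw [e, Polynomial.X_pow_dvd_iff] at h4
  have h := h4 2 (by norm_num)
  simp only [Polynomial.coeff_C_mul_X_pow, if_true] at h
  by_cases hs : s = 0
  · exact hrs (by simp [hs] at h ⊢; exact h)
  · refine hf (r / s) ?_
    field_simp
    linear_combination h - r ^ 2 * h2

/-- The characteristic two case for `a + X ^ 2 + f Y ^ 2`. -/
private lemma exists_sqrt_of_char_two {I : Ideal P[κ]} (hI : Big I) (h2 : (2 : κ) = 0) (a f : κ)
    (h : (C a + X 0 ^ 2 + C f * X 1 ^ 2 : P[κ]) ∈ I ^ 2) : ∃ g i : κ, a = g ^ 2 ∧ f = i ^ 2 := by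
  have h' : (C a + C 1 * X 0 ^ 2 + C f * X 1 ^ 2 : P[κ]) ∈ I ^ 2 := by simpa using h
  by_cases ha : ∃ α β : κ, a = α ^ 2 + β ^ 2 * f
  · obtain ⟨α, β, rfl⟩ := ha
    by_cases hf : ∃ γ : κ, f = γ ^ 2
    · obtain ⟨γ, rfl⟩ := hf
      exact ⟨α + β * γ, γ, by linear_combination (-(α * β * γ)) * h2, rfl⟩
    push Not at hf
    have hq : (X 0 + C α) ^ 2 + C f * (X 1 + C β) ^ 2 ∈ I ^ 2 := by
      convert h using 1
      have : (2 : P[κ]) = 0 := by rw [← map_ofNat (C : κ →+* P[κ]) 2, h2, map_zero]
      simp only [map_add, map_mul, map_pow]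
      linear_combination (X 0 * C α + C f * X 1 * C β) * this
    obtain ⟨D, hadd, hmul, hDf, -⟩ := exists_derivation (a := 0) (g := f) h2 fun γ δ ↦ by simpa using hf γ
    have hD1 : D 1 = 0 := by simpa using hmul 1 1
    have hy := coeffwise_mem D hadd hmul h'
    have hDa : D (α ^ 2 + β ^ 2 * f) = β ^ 2 := by
      simp only [hadd, hmul, sq, hDf]
      linear_combination (α * D α + f * β * D β) * h2
    rw [hDa, hD1, hDf] at hy
    have hy' : (X 1 + C β : P[κ]) ^ 2 ∈ I := by
      convert hy using 1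
      have : (2 : P[κ]) = 0 := by rw [← map_ofNat (C : κ →+* P[κ]) 2, h2, map_zero]
      simp only [map_pow, map_one, map_zero]
      linear_combination (X 1 * C β) * this
    have hx' : (X 0 + C α : P[κ]) ^ 2 ∈ I := by
      have := sub_mem (Ideal.pow_le_self two_ne_zero hq) (Ideal.mul_mem_left I (C f) hy')
      simpa using this
    exact (false_of_double_point hI hf h2 hx' hy' hq).elim
  · push Not at ha
    obtain ⟨D, hadd, hmul, hDa, hDf⟩ := exists_derivation (a := f) (g := a) h2 ha
    have hD1 : D 1 = 0 := by simpa using hmul 1 1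
    have := coeffwise_mem D hadd hmul h'
    rw [hDa, hDf, hD1] at this
    exact absurd (hI.const_eq_zero (r := (1 : κ)) (by simpa using this)) one_ne_zero

end


/-- Let κ be a field and I an ideal of κ[x, y] whose colength is greater than one (the quotient is not
of dimension at most one over κ). If a nonzero polynomial a + bx + cy + dx^2 + exy + fy^2 lies in
I^2, then it equals j (g + hx + iy)^2 for some scalars j, g, h, i. -/
theorem result (κ : Type u) [Field κ] (I : Ideal (MvPolynomial (Fin 2) κ))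
    (hI : ¬ (Module.Finite κ (MvPolynomial (Fin 2) κ ⧸ I) ∧ Module.finrank κ (MvPolynomial (Fin 2) κ ⧸ I) ≤ 1))
    (a b c d e f : κ) (hne : (a, b, c, d, e, f) ≠ (0, 0, 0, 0, 0, 0))
    (hmem : (MvPolynomial.C a + MvPolynomial.C b * MvPolynomial.X 0 + MvPolynomial.C c * MvPolynomial.X 1 +
      MvPolynomial.C d * MvPolynomial.X 0 ^ 2 + MvPolynomial.C e * MvPolynomial.X 0 * MvPolynomial.X 1 +
      MvPolynomial.C f * MvPolynomial.X 1 ^ 2 : MvPolynomial (Fin 2) κ) ∈ I ^ 2) :
    ∃ j g h i : κ, (MvPolynomial.C a + MvPolynomial.C b * MvPolynomial.X 0 + MvPolynomial.C c * MvPolynomial.X 1 +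
      MvPolynomial.C d * MvPolynomial.X 0 ^ 2 + MvPolynomial.C e * MvPolynomial.X 0 * MvPolynomial.X 1 +
      MvPolynomial.C f * MvPolynomial.X 1 ^ 2 : MvPolynomial (Fin 2) κ) =
      MvPolynomial.C j * (MvPolynomial.C g + MvPolynomial.C h * MvPolynomial.X 0 + MvPolynomial.C i * MvPolynomial.X 1) ^ 2 := by
  set q := (MvPolynomial.C a + MvPolynomial.C b * MvPolynomial.X 0 + MvPolynomial.C c * MvPolynomial.X 1 +
      MvPolynomial.C d * MvPolynomial.X 0 ^ 2 + MvPolynomial.C e * MvPolynomial.X 0 * MvPolynomial.X 1 +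
      MvPolynomial.C f * MvPolynomial.X 1 ^ 2 : MvPolynomial (Fin 2) κ) with hq
  have hB : Big I := hI
  have hqI : q ∈ I := Ideal.pow_le_self two_ne_zero hmem
  have hder : ∀ i : Fin 2, pderiv i q ∈ I := fun i ↦
    mem_of_sq (fun g ↦ pderiv i g) (fun _ _ ↦ map_add _ _ _) (fun x y ↦ by
      simp only [(pderiv i).leibniz, smul_eq_mul]) hmem
  have h0 : lin b (2 * d) e ∈ I := by
    convert hder 0 using 1
    simp [hq, lin, pderiv_mul, pderiv_pow, Pi.single_apply, map_mul, map_ofNat]
    ring
  have h1 : lin c e (2 * f) ∈ I := by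
    convert hder 1 using 1
    simp [hq, lin, pderiv_mul, pderiv_pow, Pi.single_apply, map_mul, map_ofNat]
    ring
  have h2 : lin (2 * a) b c ∈ I := by
    convert sub_mem (sub_mem (Ideal.mul_mem_left _ 2 hqI) (Ideal.mul_mem_left _ (X 0) h0))
      (Ideal.mul_mem_left _ (X 1) h1) using 1
    simp only [hq, lin, map_mul, map_ofNat]
    ring
  obtain ⟨k1, k2, k3⟩ := hB.minors h0 h1
  obtain ⟨l1, l2, l3⟩ := hB.minors h2 h0
  obtain ⟨n1, n2, n3⟩ := hB.minors h2 h1
  by_cases htwo : (2 : κ) = 0
  · have he : e = 0 := by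
      have : e * e = 0 := by linear_combination -k3 + 2 * d * f * htwo
      exact mul_self_eq_zero.mp this
    have hb : b = 0 := by
      have : b * b = 0 := by linear_combination -l1 + 2 * a * d * htwo
      exact mul_self_eq_zero.mp this
    have hc : c = 0 := by
      have : c * c = 0 := by linear_combination -n2 + 2 * a * f * htwo
      exact mul_self_eq_zero.mp this
    subst he hb hc
    by_cases hd : d = 0
    · subst hd
      by_cases hf : f = 0
      · subst hf
        exact absurd (hB.const_eq_zero (r := a) (by simpa [hq] using hqI)) (by simpa using hne)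
      by_cases ha : ∃ γ : κ, a / f = γ ^ 2
      · obtain ⟨γ, hγ⟩ := ha
        refine ⟨f, γ, 0, 1, ?_⟩
        have ha : a = f * γ ^ 2 := by rw [← hγ]; field_simp
        have t : (2 : MvPolynomial (Fin 2) κ) = 0 := by rw [← map_ofNat (C : κ →+* _) 2, htwo, map_zero]
        simp only [hq, ha, map_zero, map_one, map_mul, map_pow]
        linear_combination -(MvPolynomial.C f * MvPolynomial.C γ * MvPolynomial.X 1) * t
      · push Not at ha
        obtain ⟨D, hadd, hmul, hDa, -⟩ := exists_derivation (a := 0) (g := a / f) htwo fun γ δ ↦ by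
          simpa using ha γ
        have hD1 : D 1 = 0 := by simpa using hmul 1 1
        have hD0 : D 0 = 0 := by simpa using hadd 0 0
        have hmem' : (C (a / f) + C 0 * X 0 ^ 2 + C 1 * X 1 ^ 2 : MvPolynomial (Fin 2) κ) ∈ I ^ 2 := by
          convert Ideal.mul_mem_left _ (C f⁻¹) hmem using 1
          have : (C f⁻¹ * C f : MvPolynomial (Fin 2) κ) = 1 := by
            rw [← map_mul, inv_mul_cancel₀ hf, map_one]
          simp only [hq, map_zero, map_one, div_eq_mul_inv, map_mul]
          linear_combination -(X 1 ^ 2) * this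
        have := coeffwise_mem D hadd hmul hmem'
        rw [hDa, hD1, hD0] at this
        exact absurd (hB.const_eq_zero (r := (1 : κ)) (by simpa using this)) one_ne_zero
    · have hmem' : (C (a / d) + X 0 ^ 2 + C (f / d) * X 1 ^ 2 : MvPolynomial (Fin 2) κ) ∈ I ^ 2 := by
        convert Ideal.mul_mem_left _ (C d⁻¹) hmem using 1
        have : (C d⁻¹ * C d : MvPolynomial (Fin 2) κ) = 1 := by
          rw [← map_mul, inv_mul_cancel₀ hd, map_one]
        simp only [hq, map_zero, div_eq_mul_inv, map_mul]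
        linear_combination -(X 0 ^ 2) * this
      obtain ⟨g, i, hg, hi⟩ := exists_sqrt_of_char_two hB htwo _ _ hmem'
      refine ⟨d, g, 1, i, ?_⟩
      have ha : a = d * g ^ 2 := by rw [← hg]; field_simp
      have hf : f = d * i ^ 2 := by rw [← hi]; field_simp
      have t : (2 : MvPolynomial (Fin 2) κ) = 0 := by rw [← map_ofNat (C : κ →+* _) 2, htwo, map_zero]
      simp only [hq, ha, hf, map_zero, map_one, map_mul, map_pow]
      linear_combination -(C d * (C g * X 0 + C g * C i * X 1 + C i * X 0 * X 1)) * t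
  · by_cases hd : d = 0
    · subst hd
      by_cases hf : f = 0
      · subst hf
        have he : e = 0 := mul_self_eq_zero.mp (by linear_combination -k3)
        have hb : b = 0 := mul_self_eq_zero.mp (by linear_combination -l1)
        have hc : c = 0 := mul_self_eq_zero.mp (by linear_combination -n2)
        subst he hb hc
        exact absurd (hB.const_eq_zero (r := a) (by simpa [hq] using hqI)) (by simpa using hne)
      have he : e = 0 := mul_self_eq_zero.mp (by linear_combination -k3)
      have hb : b = 0 := mul_self_eq_zero.mp (by linear_combination -l1)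
      subst he hb
      refine ⟨f, c / (2 * f), 0, 1, ?_⟩
      have ha : a = f * (c / (2 * f)) ^ 2 := by field_simp; linear_combination n2
      have hc : c = f * (2 * (c / (2 * f))) := by field_simp
      generalize c / (2 * f) = g at ha hc
      simp only [hq, ha, hc, map_zero, map_one, map_mul, map_pow, map_ofNat]
      ring
    refine ⟨d, b / (2 * d), 1, e / (2 * d), ?_⟩
    have ha : a = d * (b / (2 * d)) ^ 2 := by field_simp; linear_combination l1
    have hb : b = d * (2 * (b / (2 * d))) := by field_simp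
    have he : e = d * (2 * (e / (2 * d))) := by field_simp
    have hf : f = d * (e / (2 * d)) ^ 2 := by field_simp; linear_combination k3
    have hc : c = d * (2 * ((b / (2 * d)) * (e / (2 * d)))) := by field_simp; linear_combination -k1
    generalize b / (2 * d) = g at ha hb hc
    generalize e / (2 * d) = i at he hf hc
    simp only [hq, ha, hb, hc, he, hf, map_one, map_mul, map_pow, map_ofNat]
    ring

end Groth.Agent.S1601
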