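import Groth.Statements.S16010
import Groth.Agent.GHConst.Basic

set_option autoImplicit false
universe u v w x
open W4c3ghconstell

namespace Groth.Agent.S16010

/-- Let k be an algebraically closed field of characteristic zero, A a commutative Hopf algebra over k
which is a finitely generated domain and linearly reductive (the coordinate ring of a connected
reductive group G; irreducible representations of G are indexed by the simple subcoalgebras D of A),
R a Noetherian commutative k-algebra with a multiplicative A-coaction (an affine G-scheme X = Spec
R), and M an R-module with a compatible A-coaction (a G-equivariant quasi-coherent module on X)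
which is finite over R, is the sum of its isotypic components M_D, and has dim_k M_D = h(D) < ∞ for
every simple subcoalgebra D. Fix a weight θ from simple subcoalgebras to ℚ, negative at only
finitely many D, with Σ_D θ(D) h(D) = 0 (a convergent real series) and with θ(D) ≠ 0, h(D) ≠ 0 for
some D; the weight of a k-subspace N of M is the real series Σ_D θ(D) · dim_k (N ∩ M_D). If M is
θ-stable, i.e. M has weight 0 and every non-zero proper R-submodule of M stable under the coaction
has weight > 0, then M is generated as an R-module by its isotypic components M_D with θ(D) < 0.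
(The published statement is over the complex numbers and records the multiplicity of each
irreducible representation rather than the dimension of the isotypic component; rescaling θ
translates between the two, and the printed argument uses only the bookkeeping stated here.) -/
theorem result (k : Type u) [Field k] [IsAlgClosed k] [CharZero k]
    (A : Type v) [CommRing A] [IsDomain A] [HopfAlgebra k A] [Algebra.FiniteType k A]
    (hred : HopfRep.IsLinearlyReductive k A)
    (R : Type w) [CommRing R] [Algebra k R] [IsNoetherianRing R] [HopfRep.Comod k A R] [GLin.IsCoactAlg k A R]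
    (M : Type x) [AddCommGroup M] [Module k M] [Module R M] [IsScalarTower k R M]
    [HopfRep.Comod k A M] [TameAct.IsHopfMod k A R M]
    (h : W4c3ghconstell.SimpSub k A → ℕ) (θ : W4c3ghconstell.SimpSub k A → ℚ)
    (hfin : {D | θ D < 0}.Finite) (hsum : HasSum (fun D => (θ D : ℝ) * (h D : ℝ)) 0)
    (hne : ∃ D, θ D ≠ 0 ∧ h D ≠ 0)
    (hM : W4c3ghconstell.IsConstellation k A R M h)
    (hst : W4c3ghconstell.IsThetaStable k A R M θ) :
    W4c3ghconstell.genIn k A R M {D | θ D < 0} ⊤ = ⊤ := by
  set S := {D | θ D < 0} with hS
  by_contra hne'
  set N' := W4c3ghconstell.genIn k A R M S ⊤ with hN'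
  have hsub := Groth.GHConst.isSubcomod_genIn (R := R) (M := M) S
    (N := ⊤) (by rw [Submodule.restrictScalars_top]; exact Groth.ComodLib.isSubcomod_top)
  have hneg : ∀ D, θ D < 0 → N'.restrictScalars k ⊓ W4c3ghconstell.isoComp M D.1 = ⊤ ⊓ W4c3ghconstell.isoComp M D.1 :=
    fun D hD => by rw [hN', Groth.GHConst.genIn_inf (S := S) hD, Submodule.restrictScalars_top]
  have hle := Groth.GHConst.theta_le hM θ hsum.summable le_top hneg
  rw [hst.1] at hle
  by_cases h0 : N' = ⊥
  · obtain ⟨D₁, hD₁, hh⟩ := hne
    have hb : ∀ D, θ D < 0 → (h D : ℝ) = 0 := fun D hD => by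
      have e := hneg D hD
      rw [h0, Submodule.restrictScalars_bot, bot_inf_eq] at e
      rw [← Groth.GHConst.hilbAt_top hM, Groth.GHConst.hilbAt_eq_zero_of_eq_bot e.symm, Nat.cast_zero]
    have hnn : ∀ D, 0 ≤ (θ D : ℝ) * (h D : ℝ) := fun D => by
      rcases lt_or_ge (θ D) 0 with hD | hD
      · simp [hb D hD]
      · exact mul_nonneg (by exact_mod_cast hD) (Nat.cast_nonneg _)
    have := congrFun ((hasSum_zero_iff_of_nonneg hnn).1 hsum) D₁
    simp [hD₁, hh] at this
  · exact absurd (hst.2 N' hsub h0 hne') (not_lt.2 hle)

end Groth.Agent.S16010
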