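import Groth.Statements.S16015
import Mathlib

set_option autoImplicit false
universe u v w
open W4c3ghconstell

namespace Groth.Agent.S16015

/-- Let B be a commutative ring, E a B-module, F a finitely generated projective B-module and β : E → F
a B-linear map. Then there is a unique ideal I of B such that for every commutative B-algebra C the
base change β_C : C ⊗ E → C ⊗ F is zero if and only if the structure map B → C kills I. (The
published statement is for a homomorphism of modules on a scheme T into a locally free module and
produces a closed subscheme T₀ through which a morphism factors exactly when the pulled-back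
homomorphism vanishes; this row is the case of an affine T with affine test schemes and F of finite
rank, to which it reduces.) -/
theorem result {B : Type u} [CommRing B]
    {E : Type v} [AddCommGroup E] [Module B E]
    {F : Type w} [AddCommGroup F] [Module B F] [Module.Finite B F] [Module.Projective B F]
    (β : E →ₗ[B] F) :
    ∃! I : Ideal B, ∀ (C : Type u) [CommRing C] [Algebra B C],
      LinearMap.baseChange C β = 0 ↔ I ≤ RingHom.ker (algebraMap B C) := by
  let I : Ideal B := ⨆ e : E, LinearMap.range (Module.Dual.eval B F (β e))
  have key : ∀ (C : Type u) [CommRing C] [Algebra B C],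
      LinearMap.baseChange C β = 0 ↔ I ≤ RingHom.ker (algebraMap B C) := by
    intro C _ _
    rw [iSup_le_iff]
    constructor
    · rintro h e b ⟨φ, rfl⟩
      have h1 := congrArg (TensorProduct.rid B C ∘ₗ φ.lTensor C : TensorProduct B C F →ₗ[B] C)
        (LinearMap.congr_fun h ((1 : C) ⊗ₜ e))
      simpa [Algebra.smul_def] using h1
    · intro h
      apply LinearMap.restrictScalars_injective B
      refine TensorProduct.ext' fun c e => ?_
      obtain ⟨n, f, g, -, -, hfg⟩ := Module.Finite.exists_comp_eq_id_of_projective B F
      have h1 : ∀ i, algebraMap B C (g (β e) i) = 0 := fun i =>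
        h e ⟨LinearMap.proj i ∘ₗ g, rfl⟩
      simp only [LinearMap.coe_restrictScalars, LinearMap.baseChange_tmul, LinearMap.zero_apply]
      rw [← LinearMap.id_apply (R := B) (β e), ← hfg, LinearMap.comp_apply,
        pi_eq_sum_univ' (g (β e)), map_sum, TensorProduct.tmul_sum]
      refine Finset.sum_eq_zero fun i _ => ?_
      rw [map_smul, TensorProduct.tmul_smul, TensorProduct.smul_tmul', Algebra.smul_def, h1,
        zero_mul, TensorProduct.zero_tmul]
  refine ⟨I, key, fun J hJ => le_antisymm ?_ ?_⟩
  · have h := (hJ (B ⧸ I)).1 ((key (B ⧸ I)).2 (by rw [Ideal.Quotient.algebraMap_eq, Ideal.mk_ker]))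
    rwa [Ideal.Quotient.algebraMap_eq, Ideal.mk_ker] at h
  · have h := (key (B ⧸ J)).1 ((hJ (B ⧸ J)).2 (by rw [Ideal.Quotient.algebraMap_eq, Ideal.mk_ker]))
    rwa [Ideal.Quotient.algebraMap_eq, Ideal.mk_ker] at h

end Groth.Agent.S16015
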