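import Groth.Statements.S16016
import Mathlib.Tactic
-- import your own Groth.Agent.* helpers here

set_option autoImplicit false
universe u
open W4c3ghconstell

namespace Groth.Agent.S16016

/-- Let k be a field with 2 ≠ 0, index k⁶ by two copies of {0,1,2} (basis vectors p₁, p₂, p₃ in the
first copy and p₄, p₅, p₆ in the second), let Q be the symmetric matrix with blocks ((0, 1), (1,
0)), so that the form it defines pairs pᵢ with pᵢ₊₃, and let W₀ be the span of p₁ and p₂. Then a 6 ×
6 matrix A satisfies AᵀQ + QA = 0 (A lies in the orthogonal Lie algebra of Q) and has the image of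
Aᵀ contained in W₀ if and only if A = a · (E₄₂ − E₅₁) for some scalar a, where Eᵢⱼ is the matrix
unit. (The lemma in the source concludes that the set of such A inside a certain nilpotent orbit
closure of this Lie algebra is one-dimensional; this row is the computation its proof performs,
which determines all such A in the Lie algebra. Characteristic 2 is excluded: there E₁₄ᵀ also
qualifies.) -/
theorem result (k : Type u) [Field k] (h2 : (2 : k) ≠ 0)
    (A : Matrix (Fin 3 ⊕ Fin 3) (Fin 3 ⊕ Fin 3) k) :
    (A.transpose * Matrix.fromBlocks (0 : Matrix (Fin 3) (Fin 3) k) 1 1 0 +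
        Matrix.fromBlocks (0 : Matrix (Fin 3) (Fin 3) k) 1 1 0 * A = 0 ∧
      LinearMap.range (Matrix.mulVecLin A.transpose) ≤
        Submodule.span k {Pi.single (Sum.inl 0 : Fin 3 ⊕ Fin 3) (1 : k), Pi.single (Sum.inl 1 : Fin 3 ⊕ Fin 3) (1 : k)}) ↔
    ∃ a : k, A = a • (Matrix.single (Sum.inr 0) (Sum.inl 1) (1 : k) - Matrix.single (Sum.inr 1) (Sum.inl 0) (1 : k)) := by
  constructor
  · rintro ⟨h1, h3⟩
    have hcol : ∀ r c, c ≠ Sum.inl 0 → c ≠ Sum.inl 1 → A r c = 0 := by
      intro r c hc0 hc1
      have hmem := h3 ⟨Pi.single r 1, rfl⟩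
      rw [Submodule.mem_span_pair] at hmem
      obtain ⟨a, b, hab⟩ := hmem
      have := congrFun hab c
      simp [Matrix.mulVec_single, Pi.single_eq_of_ne hc0, Pi.single_eq_of_ne hc1] at this
      exact this.symm
    have key : ∀ i j : Fin 3 ⊕ Fin 3, (A.transpose * Matrix.fromBlocks (0 : Matrix (Fin 3) (Fin 3) k) 1 1 0 +
        Matrix.fromBlocks (0 : Matrix (Fin 3) (Fin 3) k) 1 1 0 * A : Matrix (Fin 3 ⊕ Fin 3) (Fin 3 ⊕ Fin 3) k) i j = 0 := fun i j => by rw [h1]; rfl
    have hll : ∀ i j, A (Sum.inr j) (Sum.inl i) + A (Sum.inr i) (Sum.inl j) = 0 := by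
      intro i j
      have := key (Sum.inl i) (Sum.inl j)
      simpa [Matrix.mul_apply, Matrix.transpose_apply, Matrix.fromBlocks, Matrix.one_apply] using this
    have hlr : ∀ i j, A (Sum.inl j) (Sum.inl i) + A (Sum.inr i) (Sum.inr j) = 0 := by
      intro i j
      have := key (Sum.inl i) (Sum.inr j)
      simpa [Matrix.mul_apply, Matrix.transpose_apply, Matrix.fromBlocks, Matrix.one_apply] using this
    have hr : ∀ r c, A r (Sum.inr c) = 0 := fun r c => hcol r _ (by simp) (by simp)
    have hl2 : ∀ r, A r (Sum.inl 2) = 0 := fun r => hcol r _ (by simp) (by simp)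
    have hl : ∀ r c, A (Sum.inl r) (Sum.inl c) = 0 := fun r c => by simpa [hr] using hlr c r
    have hd : ∀ i, A (Sum.inr i) (Sum.inl i) = 0 := fun i => by
      have := hll i i
      rw [← two_mul] at this
      exact (mul_eq_zero.1 this).resolve_left h2
    have h21 : ∀ c, A (Sum.inr 2) (Sum.inl c) = 0 := fun c => by simpa [hl2] using hll 2 c
    have h10 : A (Sum.inr 1) (Sum.inl 0) = -A (Sum.inr 0) (Sum.inl 1) :=
      eq_neg_of_add_eq_zero_left (hll 0 1)
    refine ⟨A (Sum.inr 0) (Sum.inl 1), ?_⟩
    ext r c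
    rcases r with r | r <;> rcases c with c | c <;> fin_cases r <;> fin_cases c <;>
      simp [hr, hl, hl2, hd, h21, h10, Matrix.single]
  · rintro ⟨a, rfl⟩
    constructor
    · ext r c
      simp only [Matrix.add_apply, Matrix.mul_apply, Fintype.sum_sum_type, Fin.sum_univ_three]
      rcases r with r | r <;> rcases c with c | c <;> fin_cases r <;> fin_cases c <;>
        simp [Matrix.single, Matrix.transpose_apply, Matrix.fromBlocks, Matrix.one_apply]
    · rintro _ ⟨v, rfl⟩
      rw [Submodule.mem_span_pair]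
      refine ⟨-(a * v (Sum.inr 1)), a * v (Sum.inr 0), ?_⟩
      ext c
      rcases c with c | c <;> fin_cases c <;>
        simp [Matrix.mulVecLin, Matrix.mulVec, Matrix.vecMul, dotProduct, Matrix.single, Matrix.transpose_apply, Fintype.sum_sum_type, Fin.sum_univ_three] <;> ring

end Groth.Agent.S16016
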