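import Groth.Statements.S16017
import Mathlib

set_option autoImplicit false
universe u
open W4c3ghconstell

namespace Groth.Agent.S16017

/-- Let ι index the irreducible representations, θ : ι → ℚ a weight negative at only finitely many
indices (the finite set D₋), h h' : ι → ℕ with h' ≤ h pointwise (the isotypic dimensions of an
object and of a sub-object) and Σ_i θ_i h_i summable. For a finite set D of indices put S_D = Σ_{i ∉
D} θ_i h_i, d = #(D ∖ D₋), and θ̃_D = Σ_{i ∈ D} θ_i h'_i + (S_D / d) · Σ_{i ∈ D ∖ D₋} h'_i / h_i,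
the modified weight attached to the parameters chosen for D (for D ⊇ D₋ the first sum is the
negative part plus the part over D ∖ D₋). Then θ̃_D tends to Σ_i θ_i h'_i as D grows through the
finite subsets of ι. (Here D runs over all finite sets of indices and a quotient by zero is zero;
the source lets D run over the finite subsets of the locus θ ≠ 0 containing D₋, and the same tail
estimate gives both.) -/
theorem result {ι : Type u} [DecidableEq ι] (θ : ι → ℚ) (h h' : ι → ℕ)
    (hle : ∀ i, h' i ≤ h i) (hfin : {i | θ i < 0}.Finite)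
    (hsum : Summable (fun i => (θ i : ℝ) * (h i : ℝ))) :
    Filter.Tendsto
      (fun D : Finset ι =>
        (∑ i ∈ D, (θ i : ℝ) * (h' i : ℝ)) +
          ((∑' i, if i ∈ D then (0 : ℝ) else (θ i : ℝ) * (h i : ℝ)) / ((D \ hfin.toFinset).card : ℝ)) *
            ∑ i ∈ D \ hfin.toFinset, ((h' i : ℝ) / (h i : ℝ)))
      Filter.atTop (nhds (∑' i, (θ i : ℝ) * (h' i : ℝ))) := by
  set a : ι → ℝ := fun i => (θ i : ℝ) * (h i : ℝ) with ha
  have hs' : Summable (fun i => (θ i : ℝ) * (h' i : ℝ)) := by
    refine Summable.of_norm_bounded (g := fun i => ‖a i‖) hsum.norm fun i => ?_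
    simp only [ha, norm_mul, Real.norm_natCast]
    exact mul_le_mul_of_nonneg_left (by exact_mod_cast hle i) (norm_nonneg _)
  have h1 : Filter.Tendsto (fun D : Finset ι => ∑ i ∈ D, (θ i : ℝ) * (h' i : ℝ)) Filter.atTop
      (nhds (∑' i, (θ i : ℝ) * (h' i : ℝ))) := hs'.hasSum
  have htail : ∀ D : Finset ι, (∑' i, if i ∈ D then (0 : ℝ) else a i) = ∑' i, a i - ∑ i ∈ D, a i := by
    intro D
    have hD : Summable (fun i => if i ∈ D then a i else 0) :=
      summable_of_ne_finset_zero (s := D) fun i hi => by simp [hi]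
    have e : (fun i => if i ∈ D then (0 : ℝ) else a i) = fun i => a i - (if i ∈ D then a i else 0) := by
      funext i
      split_ifs <;> simp
    rw [e, Summable.tsum_sub hsum hD, tsum_eq_sum (f := fun i => if i ∈ D then a i else 0) (s := D) (fun i hi => by simp [hi]),
      Finset.sum_ite_mem, Finset.inter_self]
  have h2 : Filter.Tendsto (fun D : Finset ι => ∑' i, if i ∈ D then (0 : ℝ) else a i) Filter.atTop
      (nhds 0) := by
    simp only [htail]
    simpa using Filter.Tendsto.const_sub (∑' i, a i) hsum.hasSum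
  have h3 : Filter.Tendsto (fun D : Finset ι =>
      ((∑' i, if i ∈ D then (0 : ℝ) else a i) / ((D \ hfin.toFinset).card : ℝ)) *
        ∑ i ∈ D \ hfin.toFinset, ((h' i : ℝ) / (h i : ℝ))) Filter.atTop (nhds 0) := by
    refine squeeze_zero_norm (fun D => ?_) (tendsto_zero_iff_norm_tendsto_zero.1 h2)
    set t := D \ hfin.toFinset
    set S := ∑' i, if i ∈ D then (0 : ℝ) else a i
    have hb : ‖∑ i ∈ t, (h' i : ℝ) / (h i : ℝ)‖ ≤ t.card := by
      refine (norm_sum_le _ _).trans ?_
      refine (Finset.sum_le_card_nsmul t _ 1 fun i _ => ?_).trans (by simp)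
      rw [norm_div, Real.norm_natCast, Real.norm_natCast]
      exact div_le_one_of_le₀ (by exact_mod_cast hle i) (Nat.cast_nonneg _)
    rw [norm_mul, norm_div, Real.norm_natCast]
    rcases Nat.eq_zero_or_pos t.card with h0 | h0
    · rw [h0]; simp
    · calc ‖S‖ / t.card * ‖∑ i ∈ t, (h' i : ℝ) / (h i : ℝ)‖ ≤ ‖S‖ / t.card * t.card := by
            gcongr
        _ = ‖S‖ := div_mul_cancel₀ _ (by exact_mod_cast h0.ne')
  simpa using h1.add h3

end Groth.Agent.S16017
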