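import Groth.Statements.S16028
import Groth.Agent.S10033
import Groth.Agent.S10007
import Groth.Agent.AlgSpBasic.ChevalleySaturate
import Groth.Agent.AlgSpBasic.DenseEtaleCover
import Groth.Agent.AlgSpBasic.ChowProjective
import Groth.Agent.SpLimit.Charts
import Groth.Agent.AlgSpBasic.DecentFiniteFibre

set_option autoImplicit false
universe u
open CategoryTheory CategoryTheory.Limits AlgebraicGeometry
open AlgSp Groth.AlgSpBasic Groth.AlgSpBasic.Saturation

namespace Groth.Agent.S16028

/-- Let S be a locally Noetherian scheme and X an algebraic space over S, separated over S and presented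
by a scheme locally of finite presentation over S through an étale surjective quasi-compact chart.
Let X̃ be a scheme over S with a morphism π : X̃ ⟶ X which is integral and surjective and whose
fibre over every point of X is contained in an affine open of X̃. Then X is a scheme. -/
theorem result
    (S : Scheme.{u}) [IsLocallyNoetherian S] (X : AlgSp.Sp S) (hX : AlgSp.IsAlgSpace X)
    (hsep : AlgSp.IsSeparatedSp X)
    (hpres : ∃ (Y : Over S) (p : (AlgSp.yon S).obj Y ⟶ X),
      AlgSp.RepWith @Etale p ∧ AlgSp.RepWith @Surjective p ∧ AlgSp.RepWith @QuasiCompact p ∧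
        LocallyOfFinitePresentation Y.hom)
    (Xt : Over S) (π : (AlgSp.yon S).obj Xt ⟶ X)
    (hint : AlgSp.RepWith @IsIntegralHom π) (hsurj : AlgSp.RepWith @Surjective π)
    (hfib : ∀ x : AlgSp.Points X, ∃ U : Xt.left.Opens, IsAffineOpen U ∧
      ∀ y : ↥Xt.left, AlgSp.Points.ofPt π y = x → y ∈ U) :
    X.obj.IsRepresentable := by
  have : QuasiSeparatedSpace ↥S := inferInstance
  have hqs : IsQuasiSeparatedSp X :=
    repWith_mono (fun _ _ f (_ : IsClosedImmersion f) => inferInstanceAs (QuasiCompact f)) hsep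
  have hN : IsLocNoethSp X := by
    obtain ⟨Y, p, hp, hps, -, hY⟩ := hpres
    exact ⟨Y, p, hp, hps, LocallyOfFiniteType.isLocallyNoetherian Y.hom⟩
  refine isRepresentable_of_schematic ⟨X, hX⟩ fun x => ?_
  obtain ⟨U, hU, hUx⟩ := hfib x
  have hcl : IsClosedMap (Points.ofPt π) := by
    have : Points.ofPt π = Points.map π ∘ Points.schemeHomeo Xt := funext fun t => ofPt_eq_map π t
    rw [this]
    exact (isClosedMap_map_of_repWith (fun _ _ f (_ : IsIntegralHom f) => f.isClosedMap) hint).comp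
      (Points.schemeHomeo Xt).isClosedMap
  have hV₁ : IsOpen (Points.ofPt π '' (U : Set Xt.left)ᶜ)ᶜ :=
    (hcl _ U.isOpen.isClosed_compl).isOpen_compl
  obtain ⟨V, hV, hVc, hxV, hVsub⟩ := exists_isCompact_open_mem hX hV₁ (x := x) (by
    rintro ⟨y, hy, hyx⟩
    exact hy (hUx y hyx))
  let O : Xt.left.Opens := ⟨Points.ofPt π ⁻¹' V, hV.preimage (Points.continuous_ofPt π)⟩
  have hOU : O ≤ U := fun y hy => by
    by_contra hn
    exact hVsub hy ⟨y, hn, rfl⟩
  have hj := repWith_openSubι (X := X) hV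
  have hX₁ := isAlgSpace_openSub hX hV
  have : Mono (openSubι X V) :=
    mono_of_repWith (fun _ _ g (_ : IsOpenImmersion g) => (inferInstance : Mono g)) hj
  have hqs₁ : IsQuasiSeparatedSp (openSub X V) := isQuasiSeparatedSp_of_openImmersion hqs hj
  have hqc₁ : IsQuasiCompactSp (openSub X V) := by
    rw [isQuasiCompactSp_iff_compactSpace hX₁]
    have he := isEmbedding_map_of_immersion hX (i := openSubι X V)
      (repWith_mono (fun _ _ f (_ : IsOpenImmersion f) => inferInstanceAs (IsImmersion f)) hj)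
    exact ⟨he.1.isCompact_iff.2 (by rw [Set.image_univ, range_map_openSubι]; exact hVc)⟩
  have hN₁ : IsLocNoethSp (openSub X V) := by
    obtain ⟨A, a, ha, has, hA⟩ := hN
    obtain ⟨W, snd, fst, sq⟩ := hj.rep a
    have : IsOpenImmersion snd.left := hj.property a _ snd sq
    exact ⟨W, fst, repWith_of_isPullback sq.flip ha, repWith_of_isPullback sq.flip has,
      isLocallyNoetherian_of_isOpenImmersion snd.left⟩
  obtain ⟨l, sql⟩ := Saturation.exists_isPullback_openSub π O (fun _ => Iff.rfl)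
  have hlint : RepWith @IsIntegralHom l := repWith_of_isPullback sql.flip hint
  have hls : RepWith @Surjective l := repWith_of_isPullback sql.flip hsurj
  let Pinf : Over S := Over.mk (O.ι ≫ Xt.hom)
  have : CompactSpace ↥Pinf.left := by
    obtain ⟨A, a, ha, has, hA⟩ := hqc₁
    obtain ⟨W, fst, snd, sq⟩ := exists_pullback_yon hlint.rep a
    have : IsIntegralHom snd.left := hlint.property a _ snd sq
    have : CompactSpace ↥A.left := hA
    have : CompactSpace ↥W.left := QuasiCompact.compactSpace_of_compactSpace snd.left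
    have hf : Surjective fst.left := has.property l _ fst sq.flip
    exact hf.1.compactSpace fst.left.continuous
  have : IsAffine (U : Scheme.{u}) := hU
  have : Pinf.left.IsQuasiAffine :=
    Scheme.IsQuasiAffine.of_isImmersion (Xt.left.homOfLE hOU)
  let X₁ : AlgSp.Space S := ⟨openSub X V, hX₁⟩
  let lS : (⟨(yon S).obj Pinf, IsAlgSpace.yon_obj Pinf⟩ : AlgSp.Space S) ⟶ X₁ :=
    ObjectProperty.homMk l
  obtain ⟨I, _, _, _, D, τ, c, hc, e, hD, hDa, hDt, hDl⟩ := Groth.Agent.S10033.result S lS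
    (isIntegralMor_iff_repWith.2 hlint) hqc₁ hqs₁
  have : IsCofiltered Iᵒᵖ := inferInstance
  have hDrep : ∀ i, RepWith @IsFinite (τ.app i) := fun i => isFiniteMor_iff_repWith.1 (hDt i).1
  have hDaff : ∀ i, IsAffineMor (τ.app i) := fun i => isAffineMor_iff_repWith.2
    (repWith_mono (fun _ _ g (_ : IsFinite g) => inferInstanceAs (IsAffineHom g)) (hDrep i))
  have hDqc : ∀ i, IsQuasiCompactSp (D.obj i) := fun i =>
    Groth.AlgSp2.Approx.isQuasiCompactSp_of_affineMor (hD i) (hDaff i) hX₁ hqc₁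
  have hDqs : ∀ i, IsQuasiSeparatedSp (D.obj i) := fun i =>
    Groth.AlgSp2.Approx.isQuasiSeparatedSp_of_affineMor (hD i) (hDaff i) hqs₁
  have hrepc : c.pt.obj.IsRepresentable :=
    (representableByOfIso (e.symm : (yon S).obj Pinf ≅ c.pt)).isRepresentable
  obtain ⟨i₀, G, ⟨hG⟩⟩ := Groth.Agent.S10007.result S D hD hDa hDqc hDqs c hc hrepc
  let g : (yon S).obj G ≅ D.obj i₀ := isoOfRepresentableBy hG
  obtain ⟨P⟩ := Groth.SpLimit.nonempty_pullSys D hDa hc i₀ g.hom
  have hpiso : ∀ k, IsIso (P.p k) := fun k => (P.sq k).isIso_fst_of_isIso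
  have htiso : IsIso P.top := P.sqTop.isIso_fst_of_isIso
  obtain ⟨φ, hφ⟩ := (yon S).map_surjective (P.top ≫ e.hom)
  have : IsIso ((yon S).map φ) := by rw [hφ]; infer_instance
  have : IsIso φ := isIso_of_fully_faithful (yon S) φ
  have : IsIso φ.left := inferInstanceAs (IsIso ((Over.forget S).map φ))
  have : P.L.pt.left.IsQuasiAffine := Scheme.IsQuasiAffine.of_isAffineHom φ.left
  let E := P.E ⋙ Over.forget S
  have hqcE : ∀ k, CompactSpace (E.obj k) := fun k => (isQuasiCompactSp_yon_iff (P.E.obj k)).1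
    (isQuasiCompactSp_of_iso (asIso (P.p k)).symm (hDqc k.left))
  have hqsE : ∀ k, QuasiSeparatedSpace (E.obj k) := fun k => ChowProjective.quasiSeparatedSpace_left
    (isQuasiSeparatedSp_of_openImmersion (hDqs k.left) (repWith_isIso (P.p k)))
  have : ∀ {k k' : Over i₀} (m : k ⟶ k'), IsAffineHom (E.map m) := fun m => P.aff_map m
  have : Scheme.IsQuasiAffine ((Over.forget S).mapCone P.L).pt := ‹P.L.pt.left.IsQuasiAffine›
  obtain ⟨k, hk⟩ := Scheme.exists_isQuasiAffine_of_isLimit E _ P.isLimit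
  have : (P.E.obj k).left.IsQuasiAffine := hk
  have hπ₁ : RepWith @IsFinite (P.p k ≫ τ.app k.left) := repWith_comp (repWith_isIso _) (hDrep _)
  have hs₁ : RepWith @Surjective (P.p k ≫ τ.app k.left) := by
    refine repWith_surjective_of_ofPt hπ₁.rep fun y => ?_
    obtain ⟨v, hv⟩ := surjective_ofPt_of_repWith hls y
    have hfac : e.inv ≫ c.π.app k.left ≫ τ.app k.left = l := hDl k.left
    obtain ⟨r, hr⟩ := (yon S).map_surjective (e.inv ≫ c.π.app k.left ≫ inv (P.p k))
    refine ⟨r.left v, ?_⟩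
    rw [← ofPt_comp_yon, hr, ← hv, ← hfac]
    simp
  obtain ⟨G₁, ⟨hG₁⟩⟩ := isRepresentable_of_finite_surjective hX₁ hqc₁ hqs₁ hN₁ hπ₁ hs₁
  let j₁ : (yon S).obj G₁ ≅ openSub X V := isoOfRepresentableBy hG₁
  refine ⟨G₁, j₁.hom ≫ openSubι X V, repWith_comp (repWith_isIso _) hj, ?_⟩
  obtain ⟨y, hy⟩ : x ∈ Set.range (Points.map (openSubι X V)) := by rwa [range_map_openSubι]
  obtain ⟨z, hz⟩ := (Points.schemeEquiv G₁).surjective (Points.map j₁.inv y)
  refine ⟨z, ?_⟩
  rw [ofPt_eq_map, Points.map_comp, show Points.ofScheme G₁ z = _ from hz, ← Points.map_comp j₁.inv,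
    j₁.inv_hom_id, Points.map_id, hy]

end Groth.Agent.S16028
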