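import Groth.Statements.S16029
import Groth.Agent.AlgGrp1.AffineHull

set_option autoImplicit false
universe u
open CategoryTheory CategoryTheory.Limits AlgebraicGeometry MonoidalCategory MonObj
open GrpSch

namespace Groth.Agent.S16029

section
open Groth.AlgGrp1 Groth.AlgGrp1.AffineHull CategoryTheory CategoryTheory.Limits MonoidalCategory CartesianMonoidalCategory TopologicalSpace Opposite
open scoped TensorProduct MonObj

variable {k : Type u} [Field k]

/-- A homomorphism to an affine group injective on global functions is flat and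
surjective, onto a group of finite type. -/
theorem flat_surjective_finiteType_of_injective (G E : Over (Spec (CommRingCat.of k))) [GrpObj G] [GrpObj E]
    [LocallyOfFiniteType G.hom] [QuasiCompact G.hom] [IsAffine E.left] (ρ : G ⟶ E) [IsMonHom ρ]
    (hinj : Function.Injective ρ.left.appTop) : LocallyOfFiniteType E.hom ∧ Flat ρ.left ∧ Surjective ρ.left := by
  obtain ⟨A, ⟨e₀⟩⟩ := Groth.Misc7.AffineGroupPoints.exists_hopf E
  let eE : Groth.Misc7.AffineGroupPoints.specObj A ≅ E := (Grp.forget _).mapIso e₀
  have : IsMonHom eE.hom := inferInstanceAs (IsMonHom e₀.hom.hom.hom)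
  have : IsMonHom eE.inv := inferInstanceAs (IsMonHom e₀.inv.hom.hom)
  let r : G ⟶ Groth.Misc7.AffineGroupPoints.specObj A := ρ ≫ eE.inv
  have : IsIso eE.inv.left := inferInstanceAs (IsIso ((Over.forget _).map eE.inv))
  -- elements of `A` as functions on `G`
  let c : A →+* Γ(G.left, ⊤) := ((Scheme.ΓSpecIso (CommRingCat.of A)).inv ≫ r.left.appTop).hom
  have hc : Function.Injective c := by
    show Function.Injective fun a => ρ.left.appTop (eE.inv.left.appTop ((Scheme.ΓSpecIso (CommRingCat.of A)).inv a))
    have : IsIso eE.inv.left.appTop := inferInstanceAs (IsIso (eE.inv.left.app ⊤))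
    exact hinj.comp ((ConcreteCategory.bijective_of_isIso eE.inv.left.appTop).injective.comp
      (ConcreteCategory.bijective_of_isIso (Scheme.ΓSpecIso (CommRingCat.of A)).inv).injective)
  let v : A → A := fun a => a - algebraMap k A (Coalgebra.counit (R := k) a)
  -- finitely many functions cut out the kernel
  have : IsLocallyNoetherian G.left := isLocallyNoetherian_left G
  have : CompactSpace G.left := QuasiCompact.compactSpace_of_compactSpace G.hom
  obtain ⟨s, hsf, hs⟩ : ∃ s : Set A, s.Finite ∧ ∀ x : G.left, ∃ U : G.left.affineOpens, x ∈ U.1 ∧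
      ∀ a, G.left.presheaf.map (homOfLE (le_top : U.1 ≤ ⊤)).op (c (v a)) ∈
        Ideal.span ((fun b => G.left.presheaf.map (homOfLE (le_top : U.1 ≤ ⊤)).op (c (v b))) '' s) := by
    obtain ⟨t, ht⟩ := isCompact_univ.elim_finite_subcover (fun U : G.left.affineOpens => (U.1 : Set G.left))
      (fun U => U.1.2) (fun x _ => by
        obtain ⟨W, hW, hx, -⟩ := exists_isAffineOpen_mem_and_subset (x := x) (U := (⊤ : G.left.Opens)) trivial
        exact Set.mem_iUnion.2 ⟨⟨W, hW⟩, hx⟩)
    let g : ∀ U : G.left.affineOpens, A → Γ(G.left, U.1) := fun U a =>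
      G.left.presheaf.map (homOfLE (le_top : U.1 ≤ ⊤)).op (c (v a))
    have hgen : ∀ U : G.left.affineOpens, ∃ w : Set A, w.Finite ∧ ∀ a, g U a ∈ Ideal.span (g U '' w) := by
      intro U
      have := IsLocallyNoetherian.component_noetherian U
      obtain ⟨w', hw, hwspan⟩ :=
        (Submodule.fg_span_iff_fg_span_finset_subset (R := Γ(G.left, U.1)) (Set.range (g U))).1
          (IsNoetherian.noetherian _)
      let w : Set Γ(G.left, U.1) := ↑w'
      have hwf : w.Finite := w'.finite_toSet
      choose pre hpre using fun y : w => hw y.2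
      have := hwf.to_subtype
      refine ⟨Set.range pre, Set.finite_range _, fun a => ?_⟩
      have h1 : g U a ∈ Submodule.span Γ(G.left, U.1) w :=
        hwspan.le (Submodule.subset_span ⟨a, rfl⟩)
      refine Submodule.span_mono ?_ h1
      intro y hy
      exact ⟨pre ⟨y, hy⟩, ⟨_, rfl⟩, hpre ⟨y, hy⟩⟩
    choose w hwf hw using hgen
    refine ⟨⋃ U ∈ t, w U, Set.Finite.biUnion t.finite_toSet (fun U _ => hwf U), fun x => ?_⟩
    obtain ⟨U, hU, hxU⟩ : ∃ U ∈ t, x ∈ U.1 := by simpa using ht (Set.mem_univ x)
    exact ⟨U, hxU, fun a => Ideal.span_mono (Set.image_mono (Set.subset_biUnion_of_mem (u := w) hU)) (hw U a)⟩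
  obtain ⟨B, hBfg, hsB, hB⟩ := exists_fg_hopfSubalgebra (k := k) hsf
  letI := Groth.Sga3.SubHopfStruct.hopfAlgebra hB
  let H : Over (Spec (CommRingCat.of k)) := Groth.Misc7.AffineGroupPoints.specObj (CommHopfAlgCat.of k B)
  let P : Groth.Misc7.AffineGroupPoints.specObj A ⟶ H :=
    ((hopfSpec (CommRingCat.of k)).map
      (CommHopfAlgCat.ofHom (Groth.Sga3.SubHopfStruct.incl hB) : CommHopfAlgCat.of k B ⟶ A).op).hom.hom
  have : IsMonHom P := inferInstanceAs (IsMonHom
    ((hopfSpec (CommRingCat.of k)).map
      (CommHopfAlgCat.ofHom (Groth.Sga3.SubHopfStruct.incl hB) : CommHopfAlgCat.of k B ⟶ A).op).hom.hom)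
  have hP : P.left = Spec.map (CommRingCat.ofHom B.val.toRingHom) := rfl
  have hft : LocallyOfFiniteType H.hom := by
    rw [Groth.Misc7.AffineGroupPoints.specObj_hom]
    exact (HasRingHomProperty.Spec_iff (P := @LocallyOfFiniteType)).2
      (RingHom.finiteType_algebraMap.2 (B.fg_iff_finiteType.1 hBfg))
  have : QuasiCompact H.hom := by
    rw [Groth.Misc7.AffineGroupPoints.specObj_hom]; exact inferInstanceAs (QuasiCompact (Spec.map _))
  let f : G ⟶ H := r ≫ P
  have : IsAffine H.left := inferInstanceAs (IsAffine (Spec (CommRingCat.of B)))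
  have : QuasiCompact f.left := by
    have : IsSeparated H.hom := inferInstance
    have : QuasiCompact (f.left ≫ H.hom) := by rw [Over.w]; infer_instance
    exact QuasiCompact.of_comp f.left H.hom
  have hfc : ∀ b : B, f.left.appTop ((Scheme.ΓSpecIso (CommRingCat.of B)).inv b) = c b := by
    intro b
    show (r.left ≫ P.left).appTop _ = r.left.appTop ((Scheme.ΓSpecIso (CommRingCat.of A)).inv (b : A))
    rw [Scheme.Hom.comp_appTop, hP, ConcreteCategory.comp_apply]
    congr 1
    exact (ConcreteCategory.congr_hom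
      (Scheme.ΓSpecIso_inv_naturality (CommRingCat.ofHom B.val.toRingHom)) b).symm
  have : IsSchemeTheoreticallyDominant f.left := by
    refine isSchemeTheoreticallyDominant_of_appTop f.left fun y y' h => ?_
    obtain ⟨b, rfl⟩ := (ConcreteCategory.bijective_of_isIso (Scheme.ΓSpecIso (CommRingCat.of B)).inv).2 y
    obtain ⟨b', rfl⟩ := (ConcreteCategory.bijective_of_isIso (Scheme.ΓSpecIso (CommRingCat.of B)).inv).2 y'
    rw [hfc, hfc] at h
    rw [Subtype.ext (hc h)]
  obtain ⟨hflat, hsurj⟩ := flat_surjective_of_dominant f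
  -- the kernel of `f` is killed by `r`
  have hker : ∀ {T : Over (Spec (CommRingCat.of k))} (n : T ⟶ G), n ≫ f = 1 → n ≫ r = 1 := by
    intro T n hn
    have hB0 : ∀ b : B, n.left.appTop (c (v b)) = 0 := by
      intro b
      let b' : B := b - algebraMap k B (Coalgebra.counit (R := k) (b : A))
      have hb' : (b' : A) = v b := rfl
      rw [← hb', ← hfc]
      show (n.left.appTop).hom (f.left.appTop ((Scheme.ΓSpecIso (CommRingCat.of B)).inv b')) = 0
      rw [← ConcreteCategory.comp_apply, ← Scheme.Hom.comp_appTop, ← Over.comp_left, hn]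
      show (toUnit T ≫ η[H]).left.appTop _ = 0
      rw [Over.comp_left, Scheme.Hom.comp_appTop, ConcreteCategory.comp_apply]
      convert map_zero (toUnit T).left.appTop.hom
      show (Spec.map (CommRingCat.ofHom (Bialgebra.counitAlgHom k B).toRingHom)).appTop _ = 0
      have := ConcreteCategory.congr_hom
        (Scheme.ΓSpecIso_inv_naturality (CommRingCat.ofHom (Bialgebra.counitAlgHom k B).toRingHom)) b'
      refine this.symm.trans ?_
      show (Scheme.ΓSpecIso (CommRingCat.of k)).inv (Bialgebra.counitAlgHom k B b') = 0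
      rw [map_sub, AlgHom.commutes]
      show (Scheme.ΓSpecIso (CommRingCat.of k)).inv
        (Coalgebra.counit (R := k) (b : A) - Coalgebra.counit (R := k) (b : A)) = 0
      rw [sub_self, map_zero]
    have hA0 : ∀ a : A, n.left.appTop (c (v a)) = 0 := by
      intro a
      choose U hxU hU using hs
      refine TopCat.Sheaf.eq_of_locally_eq' T.left.sheaf (fun x : G.left => n.left ⁻¹ᵁ (U x).1) ⊤
        (fun x => homOfLE le_top) (fun z _ => Opens.mem_iSup.2 ⟨n.left z, hxU (n.left z)⟩) _ _ fun x => ?_
      have hnat : ∀ y : Γ(G.left, ⊤), T.left.presheaf.map (homOfLE le_top).op (n.left.appTop y) =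
          n.left.app (U x).1 (G.left.presheaf.map (homOfLE (le_top : (U x).1 ≤ ⊤)).op y) := fun y =>
        (ConcreteCategory.congr_hom (n.left.naturality (homOfLE (le_top : (U x).1 ≤ ⊤)).op) y).symm
      show T.left.presheaf.map _ _ = T.left.presheaf.map _ 0
      rw [map_zero, hnat]
      have hle : Ideal.span ((fun b => G.left.presheaf.map (homOfLE (le_top : (U x).1 ≤ ⊤)).op (c (v b))) '' s) ≤
          RingHom.ker (n.left.app (U x).1).hom := by
        rw [Ideal.span_le]
        rintro _ ⟨b, hb, rfl⟩
        show n.left.app (U x).1 _ = 0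
        rw [← hnat, hB0 ⟨b, hsB hb⟩, map_zero]
      exact hle (hU x a)
    apply Over.OverMorphism.ext
    have : IsAffine (Groth.Misc7.AffineGroupPoints.specObj A).left := inferInstanceAs (IsAffine (Spec _))
    refine ext_of_isAffine (CommRingCat.hom_ext (RingHom.ext fun y => ?_))
    obtain ⟨a, rfl⟩ := (ConcreteCategory.bijective_of_isIso (Scheme.ΓSpecIso (CommRingCat.of A)).inv).2 y
    have e1 : c a = c (v a) + (G.hom.appTop ((Scheme.ΓSpecIso (CommRingCat.of k)).inv
        (Coalgebra.counit (R := k) a))) := by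
      have e2 : c (algebraMap k A (Coalgebra.counit (R := k) a)) =
          G.hom.appTop ((Scheme.ΓSpecIso (CommRingCat.of k)).inv (Coalgebra.counit (R := k) a)) := by
        rw [← Over.w r, Scheme.Hom.comp_appTop]
        show r.left.appTop _ = r.left.appTop _
        congr 1
        exact (ConcreteCategory.congr_hom
          (Scheme.ΓSpecIso_inv_naturality (CommRingCat.ofHom (algebraMap k A))) _)
      rw [← e2, ← map_add, sub_add_cancel]
    show (n.left ≫ r.left).appTop _ = (toUnit T ≫ η).left.appTop _
    rw [Scheme.Hom.comp_appTop, ConcreteCategory.comp_apply]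
    show n.left.appTop (c a) = _
    rw [e1, map_add, hA0, zero_add, ← ConcreteCategory.comp_apply, ← Scheme.Hom.comp_appTop, Over.w n,
      Over.comp_left, Scheme.Hom.comp_appTop, ConcreteCategory.comp_apply]
    have e3 : (toUnit T).left = T.hom := by simpa using Over.w (toUnit T)
    rw [e3]
    congr 1
    exact (ConcreteCategory.congr_hom
      (Scheme.ΓSpecIso_inv_naturality (CommRingCat.ofHom (Bialgebra.counitAlgHom k A).toRingHom)) a)
  -- descend `r` along `f`
  have := isLocallyNoetherian_left H
  have : LocallyOfFinitePresentation f.left := lfp_left f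
  obtain ⟨σ, hσ⟩ := Groth.Agf.exists_desc_of_fppf f (pullback.fst f f) (pullback.snd f f)
    (IsPullback.of_hasPullback f f) r (by
      have h := hker ((pullback.snd f f)⁻¹ * pullback.fst f f) (by
        rw [MonObj.mul_comp, GrpObj.inv_comp, ← pullback.condition, inv_mul_cancel])
      rw [MonObj.mul_comp, GrpObj.inv_comp, inv_mul_eq_one] at h
      exact h.symm)
  have hsurjB : Function.Surjective B.val := by
    intro a
    let b : B := (Scheme.ΓSpecIso (CommRingCat.of B)).hom (σ.left.appTop ((Scheme.ΓSpecIso (CommRingCat.of A)).inv a))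
    refine ⟨b, hc ?_⟩
    show c (b : A) = c a
    rw [← hfc]
    show f.left.appTop ((Scheme.ΓSpecIso (CommRingCat.of B)).inv ((Scheme.ΓSpecIso (CommRingCat.of B)).hom _)) = _
    rw [← ConcreteCategory.comp_apply (Scheme.ΓSpecIso (CommRingCat.of B)).hom, Iso.hom_inv_id,
      ConcreteCategory.id_apply, ← ConcreteCategory.comp_apply, ← Scheme.Hom.comp_appTop, ← Over.comp_left, hσ]
    rfl
  have : IsIso P.left := by
    rw [hP]
    have : IsIso (CommRingCat.ofHom B.val.toRingHom) :=
      (ConcreteCategory.isIso_iff_bijective _).2 ⟨Subtype.val_injective, hsurjB⟩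
    exact inferInstanceAs (IsIso (Spec.map (CommRingCat.ofHom B.val.toRingHom)))
  have hEH : eE.inv.left ≫ P.left ≫ H.hom = E.hom := by rw [Over.w P, Over.w eE.inv]
  refine ⟨by rw [← hEH]; infer_instance, ?_, ?_⟩
  · have h1 : f.left = ρ.left ≫ (eE.inv.left ≫ P.left) := by simp [f, r]
    exact (MorphismProperty.cancel_right_of_respectsIso @Flat ρ.left (eE.inv.left ≫ P.left)).1 (h1 ▸ hflat)
  · have h1 : f.left = ρ.left ≫ (eE.inv.left ≫ P.left) := by simp [f, r]
    exact (MorphismProperty.cancel_right_of_respectsIso @Surjective ρ.left (eE.inv.left ≫ P.left)).1 (h1 ▸ hsurj)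


end

/-- Over a field k, let G be a group scheme of finite type, G' an affine group scheme and u : G ⟶ G' a
homomorphism which is schematically dominant (its kernel ideal sheaf vanishes). Then u is faithfully
flat and G' is of finite type over k. -/
theorem result
    (k : Type u) [Field k] (G G' : Over (Spec (CommRingCat.of k))) [GrpObj G] [GrpObj G']
    [LocallyOfFiniteType G.hom] [QuasiCompact G.hom] [IsAffine G'.left]
    (u : G ⟶ G') [IsMonHom u] (hdom : u.left.ker = ⊥) :
    Flat u.left ∧ Surjective u.left ∧ LocallyOfFiniteType G'.hom := by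
  have hinj : Function.Injective u.left.appTop := by
    have : QuasiCompact u.left := by
      have : QuasiCompact (u.left ≫ G'.hom) := by rw [Over.w]; infer_instance
      exact QuasiCompact.of_comp u.left G'.hom
    refine (RingHom.injective_iff_ker_eq_bot _).2 ?_
    have h := congrArg (fun I => I.ideal ⟨⊤, isAffineOpen_top G'.left⟩) hdom
    simp only [Scheme.Hom.ker_apply, Scheme.IdealSheafData.ideal_bot, Pi.bot_apply] at h
    exact h
  obtain ⟨h1, h2, h3⟩ := flat_surjective_finiteType_of_injective G G' u hinj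
  exact ⟨h2, h3, h1⟩

end Groth.Agent.S16029
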