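import Groth.Statements.S1603
import Groth.Agent.EulerDeg.Birational
-- import your own Groth.Agent.* helpers here

set_option autoImplicit false
universe u
open CategoryTheory CategoryTheory.Limits AlgebraicGeometry
open Curves

namespace Groth.Agent.S1603

/-- In the situation of the first part assume moreover that X is reduced, that H^0(X, O_X) → H^0(X',
O_{X'}) is surjective and that the two H^1 have the same dimension. Then f is an isomorphism. -/
theorem result (k : Type u) [Field k] (X X' : Scheme.{u}) [X.Over (Spec (CommRingCat.of k))] [X'.Over (Spec (CommRingCat.of k))]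
    [IsProper (X ↘ (Spec (CommRingCat.of k)))] [IsReduced X] (hdim : topologicalKrullDim X ≤ 1) (f : X' ⟶ X) [IsProper f] (hf : f ≫ (X ↘ (Spec (CommRingCat.of k))) = X' ↘ (Spec (CommRingCat.of k)))
    (U : X.Opens) (hU : Dense (U : Set X)) (hU' : Dense ((f ⁻¹ᵁ U : X'.Opens) : Set X')) (hfU : IsIso (f ∣_ U))
    (h0 : Function.Surjective (f.app ⊤).hom) (h1 : Curv2.genus k X' = Curv2.genus k X) : IsIso f := by
  have := Groth.EulerDeg.noetherianSpace_of_proper k X
  have hfin : IsFinite f := Groth.EulerDeg.isFinite_of_birational k hdim f hf U hU'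
  have hY : IsProper (X' ↘ Spec (CommRingCat.of k)) := hf ▸ inferInstance
  let φ := ClSub.unitToPush f
  -- `φ` is a monomorphism since `X` is reduced and `f` is an isomorphism over a dense open
  have hinj : ∀ V : X.Opens, Function.Injective (f.app V).hom := by
    intro V
    rw [injective_iff_map_eq_zero]
    intro s hs
    apply eq_zero_of_basicOpen_eq_bot
    apply TopologicalSpace.Opens.ext
    rw [TopologicalSpace.Opens.coe_bot, Set.eq_empty_iff_forall_notMem]
    intro x hx
    obtain ⟨y, hy, hyU⟩ := hU.inter_open_nonempty _ (X.basicOpen s).2 ⟨x, hx⟩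
    obtain ⟨z, hz⟩ := (f ∣_ U).surjective ⟨y, hyU⟩
    have hzy : f ((f ⁻¹ᵁ U).ι z) = y := by
      rw [← Scheme.Hom.comp_apply, ← morphismRestrict_ι, Scheme.Hom.comp_apply, hz]
      rfl
    have hz' : (f ⁻¹ᵁ U).ι z ∈ f ⁻¹ᵁ X.basicOpen s := by
      show f ((f ⁻¹ᵁ U).ι z) ∈ X.basicOpen s
      rw [hzy]; exact hy
    rw [Scheme.preimage_basicOpen, hs, Scheme.basicOpen_zero] at hz'
    exact hz'
  have hmono : Mono φ := by
    have : Mono ((Scheme.Modules.toPresheaf X).map φ) := by
      have : ∀ V, Mono (((Scheme.Modules.toPresheaf X).map φ).app V) := fun V =>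
        (AddCommGrpCat.mono_iff_injective _).mpr (hinj V.unop)
      exact NatTrans.mono_of_mono_app _
    exact (Scheme.Modules.toPresheaf X).mono_of_mono_map this
  have h₁ : (ShortComplex.mk φ (cokernel.π φ) (cokernel.condition _)).ShortExact :=
    { exact := ShortComplex.exact_cokernel _ }
  have hc : Groth.EulerDeg.SupportedAtClosed (cokernel φ) := by
    intro x hx
    by_contra hxc
    apply hx
    have := (AddCommGrpCat.epi_iff_surjective _).mpr
      (Groth.EulerDeg.surjective_stalk_unitToPush f U (Groth.EulerDeg.mem_of_dense hdim hU hxc))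
    exact AddCommGrpCat.subsingleton_of_isZero
      ((isZero_cokernel_of_epi ((Groth.QCohMod.stalk x).map φ)).of_iso
        (PreservesCokernel.iso (Groth.QCohMod.stalk x) φ))
  have s₁ : Function.Surjective (Groth.EulerDeg.hMap k φ 1) := fun y =>
    ((Groth.EulerDeg.exact_mid k h₁ 1) y).1 (@Subsingleton.elim _
      (Groth.EulerDeg.subsingleton_HH_of_supportedAtClosed hc 1 le_rfl) _ _)
  have hOX := Groth.EulerDeg.finite_HH k X (Groth.EulerDeg.isCoh_of_isInvertible (Groth.EulerDeg.isInvertible_structureModule X)) 1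
  have := (Groth.EulerDeg.isCoh_of_isInvertible (Groth.EulerDeg.isInvertible_structureModule X')).1
  have := Groth.EulerDeg.compactSpace_of_proper k (X := X')
  have : X'.IsSeparated := ⟨by
    rw [show Limits.terminal.from X' = (X' ↘ Spec (CommRingCat.of k)) ≫ Limits.terminal.from _ from
      Subsingleton.elim _ _]
    infer_instance⟩
  have : X.IsSeparated := ⟨by
    rw [show Limits.terminal.from X = (X ↘ Spec (CommRingCat.of k)) ≫ Limits.terminal.from _ from
      Subsingleton.elim _ _]
    infer_instance⟩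
  obtain ⟨e⟩ := Groth.CohFin.nonempty_linearEquiv_push f (X ↘ Spec (CommRingCat.of k)) 1
    (Coh.structureModule X')
  have e' : Coh.HH X ((Scheme.Modules.pushforward f).obj (Coh.structureModule X')) 1 ≃ₗ[k]
      Groth.CohFin.HA (X' ↘ Spec (CommRingCat.of k)) (Coh.structureModule X') 1 := hf ▸ e
  have h1' : Module.finrank k (Coh.HH X ((Scheme.Modules.pushforward f).obj (Coh.structureModule X')) 1)
      = Module.finrank k (Coh.HH X (Coh.structureModule X) 1) := e'.finrank_eq.trans h1
  have : Module.Finite k (Coh.HH X ((Scheme.Modules.pushforward f).obj (Coh.structureModule X')) 1) :=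
    Module.Finite.of_surjective _ s₁
  have i₁ : Function.Injective (Groth.EulerDeg.hMap k φ 1) :=
    (LinearMap.injective_iff_surjective_of_finrank_eq_finrank h1'.symm).mpr s₁
  have s₀ : Function.Surjective (Groth.EulerDeg.hMap k φ 0) := by
    intro y
    let eX := Sheaf.H.equiv₀ (Coh.toAb (Coh.structureModule X)) (isTerminalTop : IsTerminal (⊤ : X.Opens))
    let eY := Sheaf.H.equiv₀ (Coh.toAb ((Scheme.Modules.pushforward f).obj (Coh.structureModule X')))
      (isTerminalTop : IsTerminal (⊤ : X.Opens))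
    obtain ⟨r, hr⟩ := h0 (eY y)
    refine ⟨eX.symm r, eY.injective ?_⟩
    refine Eq.trans ((Sheaf.H.equiv₀_naturality (isTerminalTop : IsTerminal (⊤ : X.Opens))
      (Groth.EulerDeg.abMap φ) (eX.symm r)).symm) ?_
    refine Eq.trans (congrArg _ (eX.apply_symm_apply r)) hr
  have hQ0 : Subsingleton (Coh.HH X (cokernel φ) 0) := by
    refine subsingleton_iff.mpr fun a b => ?_
    suffices h : ∀ c : Coh.HH X (cokernel φ) 0, c = 0 by rw [h a, h b]
    intro c
    obtain ⟨b, hb⟩ := ((Groth.EulerDeg.exact_right k h₁ 0) c).1 (i₁ (by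
      rw [map_zero]; exact ((Groth.EulerDeg.exact_left k h₁ 0) _).2 ⟨c, rfl⟩))
    obtain ⟨a, ha⟩ := s₀ b
    rw [← hb, ← ha]
    exact ((Groth.EulerDeg.exact_mid k h₁ 0) _).2 ⟨a, rfl⟩
  have hepi : Epi φ := Abelian.epi_of_cokernel_π_eq_zero _
    ((Groth.EulerDeg.isZero_of_subsingleton_H0 hc hQ0).eq_of_tgt _ _)
  have hiso : IsIso φ := isIso_of_mono_of_epi φ
  show MorphismProperty.isomorphisms Scheme f
  rw [HasAffineProperty.iff_of_iSup_eq_top (P := MorphismProperty.isomorphisms Scheme)
    (fun V : X.affineOpens => V) (iSup_affineOpens_eq_top X)]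
  intro V
  refine ⟨V.2.preimage f, ?_⟩
  have hb : ∀ W : X.Opens, Function.Bijective (f.app W).hom := fun W =>
    ConcreteCategory.bijective_of_isIso (((Scheme.Modules.toPresheaf X).map φ).app (Opposite.op W))
  rw [Scheme.Hom.appTop, morphismRestrict_app]
  have : IsIso (f.app ((↑V : X.Opens).ι ''ᵁ ⊤)) := (ConcreteCategory.isIso_iff_bijective _).mpr (hb _)
  exact @IsIso.comp_isIso _ _ _ _ _ _ _ this (@Functor.map_isIso _ _ _ _ _ _ X'.presheaf _ (@isIso_op _ _ _ _ _ (by infer_instance)))

end Groth.Agent.S1603
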