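import Groth.Statements.S16030
import Mathlib
-- import your own Groth.Agent.* helpers here

set_option autoImplicit false
universe u
open CAlg

namespace Groth.Agent.S16030

/-- For a finite set F of points of the spectrum of a commutative ring A and an open subset U containing
F, some basic open D(a) contains F and is contained in U. -/
theorem result
    (A : Type u) [CommRing A] (F : Set (PrimeSpectrum A)) (hF : F.Finite)
    (U : TopologicalSpace.Opens (PrimeSpectrum A)) (hFU : F ⊆ (U : Set (PrimeSpectrum A))) :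
    ∃ a : A, F ⊆ (PrimeSpectrum.basicOpen a : Set (PrimeSpectrum A)) ∧ PrimeSpectrum.basicOpen a ≤ U := by
  obtain ⟨I, hI⟩ : ∃ I : Ideal A, (U : Set (PrimeSpectrum A))ᶜ = PrimeSpectrum.zeroLocus I :=
    ⟨PrimeSpectrum.vanishingIdeal ((U : Set (PrimeSpectrum A))ᶜ), by
      rw [PrimeSpectrum.zeroLocus_vanishingIdeal_eq_closure, U.isOpen.isClosed_compl.closure_eq]⟩
  classical
  by_contra hcon
  push_neg at hcon
  have hsub : (I : Set A) ⊆ ⋃ p ∈ (hF.toFinset : Set (PrimeSpectrum A)), (p.asIdeal : Set A) := by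
    intro a ha
    have h' : PrimeSpectrum.basicOpen a ≤ U := by
      intro q hq
      by_contra hq'
      have : q ∈ PrimeSpectrum.zeroLocus (I : Set A) := by rw [← hI]; exact hq'
      exact hq ((PrimeSpectrum.mem_zeroLocus q _).1 this ha)
    by_contra hc
    simp only [Set.mem_iUnion, Set.Finite.coe_toFinset, SetLike.mem_coe, not_exists] at hc
    exact hcon a (fun p hp => hc p hp) h'
  rcases F.eq_empty_or_nonempty with rfl | ⟨p₀, hp₀⟩
  · exact hcon 0 (Set.empty_subset _) (by simp)
  obtain ⟨p, hp, hle⟩ := (Ideal.subset_union_prime (f := fun p : PrimeSpectrum A => p.asIdeal)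
    (s := hF.toFinset) p₀ p₀ (fun p _ _ _ => p.isPrime)).1 hsub
  have hpI : p ∈ PrimeSpectrum.zeroLocus (I : Set A) := (PrimeSpectrum.mem_zeroLocus p _).2 hle
  rw [← hI] at hpI
  exact hpI (hFU (hF.mem_toFinset.1 hp))

end Groth.Agent.S16030
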