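import Groth.Statements.S16031
import Groth.Agent.SpecFerrand.FiniteSet

set_option autoImplicit false
universe u
open CategoryTheory CategoryTheory.Limits AlgebraicGeometry
open FlatMor

namespace Groth.Agent.S16031

/-- Let θ₁ : Y ⟶ X₁ and θ₂ : Y ⟶ X₂ be closed immersions of schemes and let X, with φ₁ : X₁ ⟶ X and φ₂ :
X₂ ⟶ X, be their pushout in the category of schemes. If a finite set E of points of X has each
preimage φᵢ⁻¹(E) contained in an affine open of Xᵢ, then E is contained in an affine open of X. -/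
theorem result
    {Y X₁ X₂ X : Scheme.{u}} (θ₁ : Y ⟶ X₁) (θ₂ : Y ⟶ X₂) [IsClosedImmersion θ₁] [IsClosedImmersion θ₂]
    (φ₁ : X₁ ⟶ X) (φ₂ : X₂ ⟶ X) (hX : IsPushout θ₁ θ₂ φ₁ φ₂)
    (E : Set ↥X) (hE : E.Finite)
    (h₁ : ∃ U₁ : X₁.Opens, IsAffineOpen U₁ ∧ φ₁ ⁻¹' E ⊆ (U₁ : Set ↥X₁))
    (h₂ : ∃ U₂ : X₂.Opens, IsAffineOpen U₂ ∧ φ₂ ⁻¹' E ⊆ (U₂ : Set ↥X₂)) :
    ∃ U : X.Opens, IsAffineOpen U ∧ E ⊆ (U : Set ↥X) := by
  haveI : IsIntegralHom θ₂ := inferInstance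
  have hc : Groth.SpecFerrand.Glue.Covers θ₁ θ₂ := Groth.SpecFerrand.Glue.covers_of_fibres θ₁ θ₂ fun y => by
    by_cases h : (θ₂ ⁻¹' {y}).Nonempty
    · obtain ⟨z, hz⟩ := h
      obtain ⟨U, hU, hzU, -⟩ := exists_isAffineOpen_mem_and_subset (x := θ₁ z) (U := ⊤) trivial
      refine ⟨U, hU, fun w hw => ?_⟩
      rw [θ₂.isClosedEmbedding.injective (hw.trans hz.symm : θ₂ w = θ₂ z)]
      exact hzU
    · exact ⟨⊥, isAffineOpen_bot X₁, fun w hw => (h ⟨w, hw⟩).elim⟩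
  have hG := Groth.SpecFerrand.Glue.isPushout hc
  let e := hG.isoIsPushout _ _ hX
  have ha : Groth.SpecFerrand.Glue.a hc ≫ e.hom = φ₁ := hG.inl_isoIsPushout_hom _ _ hX
  have hb : Groth.SpecFerrand.Glue.b hc ≫ e.hom = φ₂ := hG.inr_isoIsPushout_hom _ _ hX
  have := Groth.SpecFerrand.Glue.isClosedImmersion_a θ₁ θ₂ hc
  have := Groth.SpecFerrand.Glue.isClosedImmersion_b hc
  have : IsClosedImmersion φ₁ := ha ▸ inferInstance
  have : IsClosedImmersion φ₂ := hb ▸ inferInstance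
  obtain ⟨U₁, hU₁, hE₁⟩ := h₁
  obtain ⟨U₂, hU₂, hE₂⟩ := h₂
  obtain ⟨k, hk₁, hk₂⟩ := Groth.SpecFerrand.Glue.exists_goodPair_finite θ₁ θ₂ hU₁ hU₂
    (hE.preimage φ₁.isClosedEmbedding.injective.injOn) hE₁
    (hE.preimage φ₂.isClosedEmbedding.injective.injOn) hE₂
    (by ext z; simp only [Set.mem_preimage, ← Scheme.Hom.comp_apply, hX.w])
  refine ⟨e.hom ''ᵁ (Groth.SpecFerrand.Glue.ιc θ₁ θ₂ k).opensRange,
    (isAffineOpen_opensRange _).image_of_isOpenImmersion _, fun p hp => ?_⟩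
  refine ⟨e.inv p, ?_, show (e.inv ≫ e.hom) p = p by rw [e.inv_hom_id]; rfl⟩
  rcases Groth.SpecFerrand.Glue.jointly_surjective_ab hc (e.inv p) with ⟨w, hw⟩ | ⟨w, hw⟩
  · have hpw : φ₁ w = p := by
      rw [← ha, Scheme.Hom.comp_apply, hw, ← Scheme.Hom.comp_apply, e.inv_hom_id]; rfl
    have : w ∈ k.U := hk₁ (show φ₁ w ∈ E by rw [hpw]; exact hp)
    rw [← Groth.SpecFerrand.Glue.preimage_a hc k] at this
    rw [← hw]
    exact this
  · have hpw : φ₂ w = p := by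
      rw [← hb, Scheme.Hom.comp_apply, hw, ← Scheme.Hom.comp_apply, e.inv_hom_id]; rfl
    have : w ∈ k.V := hk₂ (show φ₂ w ∈ E by rw [hpw]; exact hp)
    rw [← Groth.SpecFerrand.Glue.preimage_b hc k] at this
    rw [← hw]
    exact this

end Groth.Agent.S16031
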