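import Groth.Statements.S16035
import Groth.Agent.Misc12.HensFin.Basic

set_option autoImplicit false
universe u
open Hensel

namespace Groth.Agent.S16035

/-- Let A be a Noetherian ring, A' and A'₁ local Noetherian henselian A-algebras and φ : A' ⟶ A'₁ a
finite local homomorphism of A-algebras. If A' is a henselization of a local ring essentially of
finite type over A then so is A'₁, and the converse holds when φ is injective. -/
theorem result
    (A : Type u) [CommRing A] [IsNoetherianRing A]
    (A' : Type u) [CommRing A'] [IsNoetherianRing A'] [HenselianLocalRing A'] [Algebra A A']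
    (A'₁ : Type u) [CommRing A'₁] [IsNoetherianRing A'₁] [HenselianLocalRing A'₁] [Algebra A A'₁]
    (φ : A' →ₐ[A] A'₁) [IsLocalHom φ.toRingHom] (hfin : φ.toRingHom.Finite) :
    ((∃ (B : Type u) (_ : CommRing B) (_ : Algebra A B) (_ : Algebra.FiniteType A B) (p : Ideal B) (_ : p.IsPrime)
        (_ : Algebra (Localization.AtPrime p) A') (_ : IsScalarTower A (Localization.AtPrime p) A')
        (_ : IsLocalHom (algebraMap (Localization.AtPrime p) A')), Hensel.IsHenselization (Localization.AtPrime p) A') →
      (∃ (B : Type u) (_ : CommRing B) (_ : Algebra A B) (_ : Algebra.FiniteType A B) (p : Ideal B) (_ : p.IsPrime)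
        (_ : Algebra (Localization.AtPrime p) A'₁) (_ : IsScalarTower A (Localization.AtPrime p) A'₁)
        (_ : IsLocalHom (algebraMap (Localization.AtPrime p) A'₁)), Hensel.IsHenselization (Localization.AtPrime p) A'₁)) ∧
    (Function.Injective φ →
      (∃ (B : Type u) (_ : CommRing B) (_ : Algebra A B) (_ : Algebra.FiniteType A B) (p : Ideal B) (_ : p.IsPrime)
        (_ : Algebra (Localization.AtPrime p) A'₁) (_ : IsScalarTower A (Localization.AtPrime p) A'₁)
        (_ : IsLocalHom (algebraMap (Localization.AtPrime p) A'₁)), Hensel.IsHenselization (Localization.AtPrime p) A'₁) →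
      (∃ (B : Type u) (_ : CommRing B) (_ : Algebra A B) (_ : Algebra.FiniteType A B) (p : Ideal B) (_ : p.IsPrime)
        (_ : Algebra (Localization.AtPrime p) A') (_ : IsScalarTower A (Localization.AtPrime p) A')
        (_ : IsLocalHom (algebraMap (Localization.AtPrime p) A')), Hensel.IsHenselization (Localization.AtPrime p) A')) := by
  classical
  constructor
  · rintro ⟨B, iB, aB, fB, p, hp, aloc, tloc, lloc, hh⟩
    have : Algebra.EssFiniteType B (Localization.AtPrime p) :=
      Algebra.EssFiniteType.of_isLocalization _ p.primeCompl
    have : Algebra.EssFiniteType A (Localization.AtPrime p) := Algebra.EssFiniteType.comp A B _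
    exact Misc12.HensFin.exists_of_finite (A := A) (W := A') (Localization.AtPrime p) φ.toRingHom
      φ.comp_algebraMap hfin
  · rintro hinj ⟨B, iB, aB, fB, p, hp, aloc, tloc, lloc, hh⟩
    exact Misc12.HensFin.exists_of_finite_injective φ hinj hfin p

end Groth.Agent.S16035
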