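import Groth.Statements.S16037
import Groth.Agent.AlgGrp1.AffineHull
import Groth.Agent.Agf.ImageSubgroup
import Groth.Agent.Agf.ClosedSubgroup
import Groth.Agent.Flatmor4.ImageDom

set_option autoImplicit false
universe u
open CategoryTheory CategoryTheory.Limits AlgebraicGeometry MonoidalCategory MonObj
open GrpSch

namespace Groth.Agent.S16037

open CategoryTheory CategoryTheory.Limits MonoidalCategory CartesianMonoidalCategory AlgebraicGeometry

/-- A nonempty family of ideal sheaves on a Noetherian scheme has a maximal member. -/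
theorem exists_maximal_idealSheaf {X : Scheme.{u}} [IsLocallyNoetherian X] [CompactSpace X] {J : Type*}
    [Nonempty J] (I : J → X.IdealSheafData) : ∃ j₀, ∀ j, I j₀ ≤ I j → I j = I j₀ := by
  classical
  obtain ⟨t, ht⟩ := isCompact_univ.elim_finite_subcover (fun U : X.affineOpens => (U.1 : Set X))
    (fun U => U.1.2) (fun x _ => by
      obtain ⟨W, hW, hx, -⟩ := exists_isAffineOpen_mem_and_subset (x := x) (U := (⊤ : X.Opens)) trivial
      exact Set.mem_iUnion.2 ⟨⟨W, hW⟩, hx⟩)
  have hU : ⨆ i : t, (i.1.1 : X.Opens) = ⊤ := by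
    refine TopologicalSpace.Opens.ext (Set.eq_univ_of_forall fun x => ?_)
    obtain ⟨U, hUt, hx⟩ : ∃ U ∈ t, x ∈ U.1 := by simpa using ht (Set.mem_univ x)
    exact TopologicalSpace.Opens.mem_iSup.2 ⟨⟨U, hUt⟩, hx⟩
  haveI : ∀ i : t, IsNoetherianRing Γ(X, i.1.1) := fun i => IsLocallyNoetherian.component_noetherian i.1
  let F : J → Ideal ((i : t) → Γ(X, i.1.1)) := fun j => Ideal.pi fun i => (I j).ideal i.1
  obtain ⟨m, ⟨j₀, rfl⟩, hm⟩ := wellFounded_gt.has_min (Set.range F) (Set.range_nonempty F)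
  refine ⟨j₀, fun j hj => ?_⟩
  have hle : F j₀ ≤ F j := Ideal.pi_le_pi_iff.2 fun i => Scheme.IdealSheafData.le_def.1 hj i.1
  have heq : F j ≤ F j₀ := (eq_of_le_of_not_lt hle (hm (F j) ⟨j, rfl⟩)).ge
  have heq' : (fun i : t => (I j₀).ideal i.1) = fun i : t => (I j).ideal i.1 :=
    le_antisymm (Ideal.pi_le_pi_iff.1 hle) (Ideal.pi_le_pi_iff.1 heq)
  exact Scheme.IdealSheafData.ext_of_iSup_eq_top (fun i : t => i.1) hU fun i => (congrFun heq' i).symm

/-- Over a field k, let G be a group scheme of finite type, G' a group scheme which is a cofiltered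
limit of group schemes of finite type (limit cone of homomorphisms), and u : G ⟶ G' a quasi-compact
homomorphism which is schematically dominant. Then u is faithfully flat and G' is of finite type. -/
theorem result
    (k : Type u) [Field k] (G : Over (Spec (CommRingCat.of k))) [GrpObj G]
    [LocallyOfFiniteType G.hom] [QuasiCompact G.hom]
    (J : Type u) [SmallCategory J] [IsCofiltered J] (D : J ⥤ Over (Spec (CommRingCat.of k)))
    [∀ j, GrpObj (D.obj j)] [∀ (j j' : J) (φ : j ⟶ j'), IsMonHom (D.map φ)]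
    (hD : ∀ j, LocallyOfFiniteType (D.obj j).hom ∧ QuasiCompact (D.obj j).hom)
    (c : Cone D) (hc : IsLimit c) [GrpObj c.pt] [∀ j, IsMonHom (M := c.pt) (N := D.obj j) (c.π.app j)]
    (u : G ⟶ c.pt) [IsMonHom u] [QuasiCompact u.left] (hdom : u.left.ker = ⊥) :
    Flat u.left ∧ Surjective u.left ∧ LocallyOfFiniteType c.pt.hom ∧ QuasiCompact c.pt.hom := by
  haveI : ∀ j, LocallyOfFiniteType (D.obj j).hom := fun j => (hD j).1
  haveI : ∀ j, QuasiCompact (D.obj j).hom := fun j => (hD j).2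
  haveI : ∀ j, IsSeparated (D.obj j).hom := fun j => Groth.AlgGrp1.isSeparated_grpObj _
  haveI : IsSeparated c.pt.hom := Groth.AlgGrp1.isSeparated_grpObj _
  haveI : Nonempty J := IsCofiltered.nonempty
  haveI := Groth.AlgGrp1.isLocallyNoetherian_left G
  haveI : CompactSpace G.left := QuasiCompact.compactSpace_of_compactSpace G.hom
  let uj : ∀ j, G ⟶ D.obj j := fun j => u ≫ c.π.app j
  -- kernels
  choose N n hn hN using fun j => Groth.Agf.exists_preimage (uj j) η[D.obj j]
  have hN' : ∀ (j : J) (T : Over (Spec (CommRingCat.of k))) (g : T ⟶ G),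
      (∃ z : T ⟶ N j, z ≫ n j = g) ↔ g ≫ uj j = 1 := fun j T g => by
    rw [hN j T g]
    exact ⟨fun ⟨x', hx'⟩ => by rw [hx', toUnit_unique x' (toUnit T), Hom.one_def],
      fun h => ⟨toUnit T, by rw [h, Hom.one_def]⟩⟩
  have hmon : ∀ {j j' : J} (φ : j' ⟶ j), (n j).left.ker ≤ (n j').left.ker := by
    intro j j' φ
    haveI := ‹∀ (j j' : J) (φ : j ⟶ j'), IsMonHom (D.map φ)› j' j φ
    obtain ⟨e, he⟩ := (hN' j (N j') (n j')).2 (by
      show n j' ≫ u ≫ c.π.app j = 1
      rw [← c.w φ, ← Category.assoc u, ← Category.assoc, (hN' j' _ (n j')).1 ⟨𝟙 _, Category.id_comp _⟩,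
        MonObj.one_comp])
    rw [← he, Over.comp_left]
    exact Scheme.Hom.le_ker_comp _ _
  obtain ⟨j₀, hj₀⟩ := exists_maximal_idealSheaf (fun j => (n j).left.ker)
  have hkill : ∀ (j : J) (T : Over (Spec (CommRingCat.of k))) (g : T ⟶ G),
      g ≫ uj j₀ = 1 → g ≫ uj j = 1 := by
    intro j T g hg
    obtain ⟨z, rfl⟩ := (hN' j₀ T g).2 hg
    obtain ⟨m, φ₀, φ, -⟩ := IsCofilteredOrEmpty.cone_objs j₀ j
    haveI := hn j₀
    haveI := hn m
    have he : (n m).left.ker = (n j₀).left.ker := hj₀ m (hmon φ₀)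
    let e : N j₀ ⟶ N m := Over.homMk (IsClosedImmersion.lift (n m).left (n j₀).left he.le) (by
      rw [← Over.w (n m), IsClosedImmersion.lift_fac_assoc, Over.w (n j₀)])
    have hem : e ≫ n m = n j₀ := Over.OverMorphism.ext (IsClosedImmersion.lift_fac _ _ _)
    haveI := ‹∀ (j j' : J) (φ : j ⟶ j'), IsMonHom (D.map φ)› m j φ
    show (z ≫ n j₀) ≫ u ≫ c.π.app j = 1
    rw [← c.w φ, ← hem, ← Category.assoc u, ← Category.assoc, ← Category.assoc z e,
      (hN' m _ ((z ≫ e) ≫ n m)).1 ⟨_, rfl⟩, MonObj.one_comp]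
  -- the image in one stage
  haveI : QuasiCompact (uj j₀).left := by
    haveI : QuasiCompact ((uj j₀).left ≫ (D.obj j₀).hom) := by rw [Over.w]; infer_instance
    exact QuasiCompact.of_comp (uj j₀).left (D.obj j₀).hom
  let H : Over (Spec (CommRingCat.of k)) := Over.mk ((uj j₀).left.imageι ≫ (D.obj j₀).hom)
  let i : H ⟶ D.obj j₀ := Over.homMk (uj j₀).left.imageι rfl
  let f : G ⟶ H := Over.homMk (uj j₀).left.toImage (by
    show (uj j₀).left.toImage ≫ (uj j₀).left.imageι ≫ _ = _
    rw [Scheme.Hom.toImage_imageι_assoc, Over.w])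
  have hfi : f ≫ i = uj j₀ := Over.OverMorphism.ext (Scheme.Hom.toImage_imageι _)
  haveI : IsClosedImmersion i.left := inferInstanceAs (IsClosedImmersion (uj j₀).left.imageι)
  haveI hfd : IsSchemeTheoreticallyDominant f.left :=
    Groth.Flatmor4.isSchemeTheoreticallyDominant_toImage (uj j₀).left
  haveI : QuasiCompact f.left := inferInstanceAs (QuasiCompact (uj j₀).left.toImage)
  obtain ⟨_, _, _⟩ := Groth.Agf.exists_grpObj_image (uj j₀) i f hfi
  haveI : LocallyOfFiniteType H.hom := by rw [← Over.w i]; infer_instance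
  haveI : QuasiCompact H.hom := by rw [← Over.w i]; infer_instance
  obtain ⟨hflat, hsur⟩ := Groth.AlgGrp1.AffineHull.flat_surjective_of_dominant f
  have hfc : Groth.AlgGrp1.IsCover f := ⟨hflat, hsur, Groth.AlgGrp1.lfp_left f⟩
  have hdesc : ∀ j, ∃ g : H ⟶ D.obj j, f ≫ g = uj j := fun j => hfc.exists_desc (uj j) fun T a b h => by
    have h1 : (a / b) ≫ uj j₀ = 1 := by
      rw [← hfi, ← Category.assoc, div_eq_mul_inv, MonObj.mul_comp, GrpObj.inv_comp, h, mul_inv_cancel,
        MonObj.one_comp]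
    have h2 := hkill j T (a / b) h1
    rwa [div_eq_mul_inv, MonObj.mul_comp, GrpObj.inv_comp, mul_inv_eq_one] at h2
  choose g hg using hdesc
  let s : Cone D := ⟨H, ⟨g, fun j j' φ => by
    simp only [Functor.const_obj_obj, Functor.const_obj_map, Category.id_comp]
    exact hfc.cancel (by rw [hg, ← Category.assoc, hg]; show u ≫ c.π.app j' = (u ≫ c.π.app j) ≫ D.map φ
                         rw [Category.assoc, c.w φ])⟩⟩
  let v : H ⟶ c.pt := hc.lift s
  have hfv : f ≫ v = u := hc.hom_ext fun j => by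
    rw [Category.assoc, hc.fac]; exact hg j
  have hvi : v ≫ c.π.app j₀ = i := hfc.cancel (by
    rw [← Category.assoc, hfv, hfi])
  haveI : IsSeparated (c.π.app j₀).left := by
    haveI : IsSeparated ((c.π.app j₀).left ≫ (D.obj j₀).hom) := by rw [Over.w]; exact ‹IsSeparated c.pt.hom›
    exact IsSeparated.of_comp (c.π.app j₀).left (D.obj j₀).hom
  haveI : IsClosedImmersion v.left := by
    haveI : IsClosedImmersion (v.left ≫ (c.π.app j₀).left) := by
      rw [← Over.comp_left, hvi]; infer_instance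
    exact IsClosedImmersion.of_comp v.left (c.π.app j₀).left
  haveI : IsIso v.left := by
    refine IsClosedImmersion.isIso_iff_ker_eq_bot.mpr (le_bot_iff.mp ?_)
    rw [← hdom, ← hfv, Over.comp_left]
    exact Scheme.Hom.le_ker_comp _ _
  haveI := hfc.flat
  haveI := hfc.surj
  refine ⟨?_, ?_, ?_, ?_⟩
  · rw [← hfv, Over.comp_left]; infer_instance
  · rw [← hfv, Over.comp_left]; infer_instance
  · rw [show c.pt.hom = inv v.left ≫ H.hom by rw [IsIso.eq_inv_comp, Over.w v]]; infer_instance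
  · rw [show c.pt.hom = inv v.left ≫ H.hom by rw [IsIso.eq_inv_comp, Over.w v]]; infer_instance

end Groth.Agent.S16037
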