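import Groth.Statements.S16039
import Groth.Agent.CodimOneAffine.QuotEqv

set_option autoImplicit false
set_option backward.isDefEq.respectTransparency false
set_option backward.isDefEq.respectTransparency.types false
universe u
open CategoryTheory CategoryTheory.Limits AlgebraicGeometry
open AlgSp

namespace Groth.Agent.S16039

/-- Let S be a locally Noetherian scheme, Y and Z schemes locally of finite type over S and s, t : Z ⟶ Y
a flat equivalence relation of finite type over S with (t, s) : Z ⟶ Y ×_S Y a closed immersion, and
let X = Y/Z be the fppf quotient sheaf. Then the largest open subspace of X which is a scheme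
contains every point of codimension at most 1: for every point y of Y whose local ring has dimension
at most 1 there is an open immersion h_U ⟶ X from a scheme whose image contains the image of y. -/
theorem result
    (S : Scheme.{u}) [IsLocallyNoetherian S] {Z Y : Over S} (s t : Z ⟶ Y)
    [LocallyOfFiniteType Y.hom] [LocallyOfFiniteType Z.hom]
    (hrel : AlgSp.IsEqvRel s t) [Flat s.left] [Flat t.left]
    [LocallyOfFiniteType s.left] [QuasiCompact s.left] [LocallyOfFiniteType t.left] [QuasiCompact t.left]
    (hsep : IsClosedImmersion (pullback.lift t.left s.left ((Over.w t).trans (Over.w s).symm) : Z.left ⟶ pullback Y.hom Y.hom))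
    (y : ↥Y.left) (hy : ringKrullDim ↥(Y.left.presheaf.stalk y) ≤ 1) :
    ∃ (U : Over S) (j : (AlgSp.yon S).obj U ⟶ AlgSp.quotSp ((AlgSp.yon S).map s) ((AlgSp.yon S).map t)),
      AlgSp.RepWith @IsOpenImmersion j ∧
      AlgSp.Points.ofPt (AlgSp.quotSpπ ((AlgSp.yon S).map s) ((AlgSp.yon S).map t)) y ∈
        Set.range (AlgSp.Points.map j) := by
  have e : (prod.lift t s).left ≫ (Groth.AlgSpBasic.isPullback_prod_left Y Y).isoPullback.hom =
      pullback.lift t.left s.left ((Over.w t).trans (Over.w s).symm) := by
    apply pullback.hom_ext
    · rw [Category.assoc, IsPullback.isoPullback_hom_fst, pullback.lift_fst,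
        Groth.AlgSpBasic.lift_left_fst]
    · rw [Category.assoc, IsPullback.isoPullback_hom_snd, pullback.lift_snd,
        Groth.AlgSpBasic.lift_left_snd]
  have hl : IsClosedImmersion (prod.lift t s).left :=
    (MorphismProperty.cancel_right_of_respectsIso @IsClosedImmersion _
      (Groth.AlgSpBasic.isPullback_prod_left Y Y).isoPullback.hom).1 (e ▸ hsep)
  obtain ⟨U, j, hj, hmem⟩ := Groth.CodimOneAffine.isSchematicPt_quotSp hrel hl y hy
  exact ⟨U, j, hj, (Groth.AlgSp2.SchematicFinLocFree.range_map_yon j).ge hmem⟩

end Groth.Agent.S16039
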