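import Groth.Statements.S1604
import Groth.Agent.EulerDeg.CartierDegree
import Groth.Agent.S1529
-- import your own Groth.Agent.* helpers here

set_option autoImplicit false
universe u
open CategoryTheory CategoryTheory.Limits AlgebraicGeometry
open Variety

namespace Groth.Agent.S1604

/-- Let X be proper of dimension at most one over k and D an effective Cartier divisor with ideal sheaf
I. Then D is finite over k, and for E finite locally free of rank n and any invertible module L
inverse to I (so L plays the role of O_X(D)) one has deg(E ⊗ L) = n · dim_k H^0(X, O_D) + deg E. -/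
theorem result (k : Type u) [Field k] (X : Scheme.{u}) [X.Over (Spec (CommRingCat.of k))] [IsProper (X ↘ (Spec (CommRingCat.of k)))] (hdim : topologicalKrullDim X ≤ 1)
    (D : X.IdealSheafData) (hD : BlowUp.IsEffCartierIdeal D)
    (L : X.Modules) (hL : PicF.IsInvertible L) (hLD : ClSub.IsInverseOf L (ClSub.idealMod D))
    (n : ℕ) (E : X.Modules) (hE : FlatMod.IsFinLocFreeOfRank n E) :
    IsFinite (D.subschemeι ≫ (X ↘ (Spec (CommRingCat.of k)))) ∧
      Curv2.deg k X (CohB1.tensorMod E L) n = n * Module.finrank k (Coh.HH X (ClSub.quotMod D) 0) + Curv2.deg k X E n := by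
  have := Groth.EulerDeg.isNoetherian_of_proper k X
  constructor
  · letI : D.subscheme.Over (Spec (CommRingCat.of k)) := ⟨D.subschemeι ≫ (X ↘ Spec (CommRingCat.of k))⟩
    have hpts : ∀ z : D.subscheme, IsClosed ({z} : Set D.subscheme) := by
      intro z
      have hz : IsClosed ({D.subschemeι z} : Set X) := by
        by_contra hc
        refine Groth.Divisors.not_mem_support_of_maximal hD
          (fun y hy => @Groth.EulerDeg.eq_of_specializes_of_not_isClosed X.toTopCat
            (inferInstanceAs (T0Space X)) (inferInstanceAs (QuasiSober X)) hdim _ y hc hy) ?_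
        change D.subschemeι z ∈ (D.support : Set X)
        rw [← D.range_subschemeι]
        exact ⟨z, rfl⟩
      have he : ({z} : Set D.subscheme) = D.subschemeι ⁻¹' {D.subschemeι z} := by
        ext w
        exact ⟨fun h => congrArg _ h, fun h => D.subschemeι.isClosedEmbedding.injective h⟩
      rw [he]
      exact hz.preimage D.subschemeι.continuous
    have h0 : topologicalKrullDim D.subscheme ≤ 0 := by
      refine Order.krullDim_nonpos_iff_forall_isMin.mpr fun Z W hW => ?_
      obtain ⟨η, hη⟩ := QuasiSober.sober Z.isIrreducible' Z.isClosed'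
      have hZ : (Z : Set D.subscheme) = {η} := by rw [← (hpts η).closure_eq]; exact hη.def.symm
      obtain ⟨w, hw⟩ := W.isIrreducible'.nonempty
      intro y hy
      have h1 : w = η := by
        have : w ∈ (Z : Set D.subscheme) := hW hw
        rwa [hZ] at this
      have h2 : y = η := by
        have : y ∈ (Z : Set D.subscheme) := hy
        rwa [hZ] at this
      exact h2 ▸ h1 ▸ hw
    have : LocallyOfFiniteType (D.subscheme ↘ Spec (CommRingCat.of k)) :=
      inferInstanceAs (LocallyOfFiniteType (D.subschemeι ≫ (X ↘ Spec (CommRingCat.of k))))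
    have : QuasiCompact (D.subscheme ↘ Spec (CommRingCat.of k)) :=
      inferInstanceAs (QuasiCompact (D.subschemeι ≫ (X ↘ Spec (CommRingCat.of k))))
    exact (Groth.Agent.S1529.result k D.subscheme h0).2
  · have h := Groth.EulerDeg.deg_tensor k hdim hE (Groth.LocFree.isInvertible_iff_ofRank_one.mp hL)
    rw [mul_one] at h
    rw [h, Groth.EulerDeg.deg_inverse_idealMod k hdim hD hL hLD]
    push_cast
    ring

end Groth.Agent.S1604
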