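import Groth.Statements.S16044
import Mathlib
-- import your own Groth.Agent.* helpers here

set_option autoImplicit false
universe u
open CategoryTheory CategoryTheory.Limits AlgebraicGeometry
open GrpSch

namespace Groth.Agent.S16044

open TensorProduct

theorem ker_SpecMap_eq_bot {R S : CommRingCat.{u}} (φ : R ⟶ S) (h : Function.Injective φ) :
    (Spec.map φ).ker = ⊥ := by
  refine Scheme.IdealSheafData.ext_of_isAffine ?_
  rw [Scheme.Hom.ker_apply, Scheme.IdealSheafData.ideal_bot, Pi.bot_apply,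
    ← RingHom.injective_iff_ker_eq_bot]
  intro x y hxy
  have h1 := congrArg (Scheme.ΓSpecIso S).hom hxy
  change ((Spec.map φ).appTop ≫ (Scheme.ΓSpecIso S).hom) x =
    ((Spec.map φ).appTop ≫ (Scheme.ΓSpecIso S).hom) y at h1
  rw [Scheme.ΓSpecIso_naturality] at h1
  exact (ConcreteCategory.bijective_of_isIso (Scheme.ΓSpecIso R).hom).1 (h h1)

theorem torsionfree_sections {A : Type u} [CommRing A] [IsDomain A] {X : Scheme.{u}}
    (φ : CommRingCat.of A ⟶ Γ(X, ⊤)) [Flat (X.toSpecΓ ≫ Spec.map φ)]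
    (a : A) (ha : a ≠ 0) (V : X.Opens) (z : Γ(X, V))
    (hz : X.presheaf.map (homOfLE (le_top : V ≤ ⊤)).op (φ a) * z = 0) : z = 0 := by
  refine X.IsSheaf.section_ext fun x hx => ?_
  obtain ⟨_, ⟨W, hW, rfl⟩, hxW, hWV : W ≤ V⟩ :=
    X.isBasis_affineOpens.exists_subset_of_mem_open hx V.isOpen
  refine ⟨W, hWV, hxW, ?_⟩
  rw [map_zero]
  have hflat : Flat (Spec.map (φ ≫ X.presheaf.map (homOfLE (le_top : W ≤ ⊤)).op)) := by
    rw [Spec.map_comp, ← IsAffineOpen.fromSpec_toSpecΓ hW, Category.assoc]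
    infer_instance
  rw [Flat.SpecMap_iff] at hflat
  algebraize [(φ ≫ X.presheaf.map (homOfLE (le_top : W ≤ ⊤)).op).hom]
  have h1 := congrArg (X.presheaf.map (homOfLE hWV).op) hz
  rw [map_mul, map_zero, ← ConcreteCategory.comp_apply, ← Functor.map_comp] at h1
  have h2 : a • X.presheaf.map (homOfLE hWV).op z = 0 := by
    rw [Algebra.smul_def]
    exact h1
  exact (smul_eq_zero.mp h2).resolve_left ha

theorem base_change_ker {R G P K : Type u} [CommRing R] [CommRing G] [CommRing P] [CommRing K]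
    [Algebra R G] [Algebra R P] [Algebra R K] (l : G →ₐ[R] P)
    (hl : Function.Injective (Algebra.TensorProduct.map l (AlgHom.id R K))) :
    (pullback.map (Spec.map (CommRingCat.ofHom (algebraMap R P)))
        (Spec.map (CommRingCat.ofHom (algebraMap R K)))
        (Spec.map (CommRingCat.ofHom (algebraMap R G)))
        (Spec.map (CommRingCat.ofHom (algebraMap R K)))
        (Spec.map (CommRingCat.ofHom l.toRingHom)) (𝟙 _) (𝟙 _)
        (by rw [Category.comp_id, ← Spec.map_comp, ← CommRingCat.ofHom_comp,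
          show l.toRingHom.comp (algebraMap R G) = algebraMap R P from l.comp_algebraMap])
        (by rw [Category.id_comp, Category.comp_id])).ker = ⊥ := by
  have : pullback.map (Spec.map (CommRingCat.ofHom (algebraMap R P)))
        (Spec.map (CommRingCat.ofHom (algebraMap R K)))
        (Spec.map (CommRingCat.ofHom (algebraMap R G)))
        (Spec.map (CommRingCat.ofHom (algebraMap R K)))
        (Spec.map (CommRingCat.ofHom l.toRingHom)) (𝟙 _) (𝟙 _)
        (by rw [Category.comp_id, ← Spec.map_comp, ← CommRingCat.ofHom_comp,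
          show l.toRingHom.comp (algebraMap R G) = algebraMap R P from l.comp_algebraMap])
        (by rw [Category.id_comp, Category.comp_id]) =
      (pullbackSpecIso R P K).hom ≫
        Spec.map (CommRingCat.ofHom (Algebra.TensorProduct.map l (AlgHom.id R K)).toRingHom) ≫
          (pullbackSpecIso R G K).inv := by
    apply pullback.hom_ext
    · rw [pullback.lift_fst, Category.assoc, Category.assoc, pullbackSpecIso_inv_fst,
        ← pullbackSpecIso_hom_fst, Category.assoc, ← Spec.map_comp, ← Spec.map_comp]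
      congr 2
    · rw [pullback.lift_snd, Category.assoc, Category.assoc, pullbackSpecIso_inv_snd,
        ← pullbackSpecIso_hom_snd, Category.comp_id, ← Spec.map_comp]
      congr 2
      ext x
      simp
  rw [this]
  have h1 : IsSchemeTheoreticallyDominant
      (Spec.map (CommRingCat.ofHom (Algebra.TensorProduct.map l (AlgHom.id R K)).toRingHom)) :=
    ⟨ker_SpecMap_eq_bot _ hl⟩
  exact IsSchemeTheoreticallyDominant.ker_eq_bot _

theorem main_aux {A : Type u} [CommRing A] [IsDomain A] [IsDedekindDomain A] {X : Scheme.{u}}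
    [CompactSpace X] (φ : CommRingCat.of A ⟶ Γ(X, ⊤)) [Flat (X.toSpecΓ ≫ Spec.map φ)]
    (K : CommRingCat.{u}) (ψ : CommRingCat.of A ⟶ K)
    (h1 : (X.toSpecΓ ≫ Spec.map φ) ≫ 𝟙 _ = X.toSpecΓ ≫ Spec.map φ)
    (h2 : Spec.map ψ ≫ 𝟙 _ = 𝟙 _ ≫ Spec.map ψ) :
    (pullback.map (X.toSpecΓ ≫ Spec.map φ) (Spec.map ψ) (Spec.map φ) (Spec.map ψ)
        X.toSpecΓ (𝟙 _) (𝟙 _) h1 h2).ker = ⊥ := by
  classical
  obtain ⟨s, hs⟩ := isCompact_univ.elim_finite_subcover
    (fun U : X.affineOpens => (U.1 : Set X)) (fun U => U.1.isOpen)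
    (fun x _ => by
      obtain ⟨_, ⟨W, hW, rfl⟩, hxW, -⟩ :=
        X.isBasis_affineOpens.exists_subset_of_mem_open (Set.mem_univ x) isOpen_univ
      exact Set.mem_iUnion.mpr ⟨⟨W, hW⟩, hxW⟩)
  let U : s → X.Opens := fun i => i.1.1
  have hU : ∀ i, IsAffineOpen (U i) := fun i => i.1.2
  have hcov : (⊤ : X.Opens) ≤ iSup U := by
    intro x _
    obtain ⟨W, hW, hxW⟩ := Set.mem_iUnion₂.mp (hs (Set.mem_univ x))
    exact TopologicalSpace.Opens.mem_iSup.mpr ⟨⟨W, hW⟩, hxW⟩
  let res : Γ(X, ⊤) →+* (∀ i, Γ(X, U i)) :=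
    RingHom.pi fun i => (X.presheaf.map (homOfLE (le_top : U i ≤ ⊤)).op).hom
  algebraize [φ.hom, ψ.hom, res.comp φ.hom]
  let l : Γ(X, ⊤) →ₐ[A] (∀ i, Γ(X, U i)) := { res with commutes' := fun a => rfl }
  have hinj : Function.Injective l := by
    intro x y hxy
    exact TopCat.Sheaf.eq_of_locally_eq' X.sheaf U ⊤ (fun i => homOfLE le_top) hcov x y
      fun i => congrFun hxy i
  have htf : Module.IsTorsionFree A ((∀ i, Γ(X, U i)) ⧸ LinearMap.range l.toLinearMap) := by
    rw [Submodule.isTorsionFree_iff_torsion_eq_bot, eq_bot_iff]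
    rintro x ⟨⟨a, ha⟩, hax⟩
    obtain ⟨w, rfl⟩ := Submodule.Quotient.mk_surjective _ x
    rw [Submonoid.smul_def, ← Submodule.Quotient.mk_smul, Submodule.Quotient.mk_eq_zero] at hax
    obtain ⟨t, ht⟩ := hax
    rw [Submodule.mem_bot, Submodule.Quotient.mk_eq_zero]
    have hti : ∀ i, X.presheaf.map (homOfLE (le_top : U i ≤ ⊤)).op t =
        X.presheaf.map (homOfLE (le_top : U i ≤ ⊤)).op (φ a) * w i := fun i => congrFun ht i
    obtain ⟨t', ht', -⟩ := TopCat.Sheaf.existsUnique_gluing' X.sheaf U ⊤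
      (fun i => homOfLE le_top) hcov w (fun i j => by
        change X.presheaf.map (homOfLE (inf_le_left : U i ⊓ U j ≤ U i)).op (w i) =
          X.presheaf.map (homOfLE (inf_le_right : U i ⊓ U j ≤ U j)).op (w j)
        rw [← sub_eq_zero]
        refine torsionfree_sections φ a (nonZeroDivisors.ne_zero ha) (U i ⊓ U j) _ ?_
        rw [mul_sub, sub_eq_zero]
        have e1 := congrArg (X.presheaf.map (homOfLE (inf_le_left : U i ⊓ U j ≤ U i)).op) (hti i)
        have e2 := congrArg (X.presheaf.map (homOfLE (inf_le_right : U i ⊓ U j ≤ U j)).op) (hti j)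
        rw [map_mul] at e1 e2
        simp only [← ConcreteCategory.comp_apply, Category.assoc, ← Functor.map_comp] at e1 e2 ⊢
        exact e1.symm.trans e2)
    exact ⟨t', funext fun i => ht' i⟩
  have : Module.Flat A ((∀ i, Γ(X, U i)) ⧸ LinearMap.range l.toLinearMap) := inferInstance
  have hl : Function.Injective (Algebra.TensorProduct.map l (AlgHom.id A K)) := by
    have h := LinearMap.lTensor_injective_of_exact_of_flat (LinearMap.range l.toLinearMap).mkQ
      (Submodule.mkQ_surjective _) l.toLinearMap hinj (LinearMap.exact_map_mkQ_range _) K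
    have e : ∀ z, Algebra.TensorProduct.map l (AlgHom.id A K) z =
        TensorProduct.comm A K (∀ i, Γ(X, U i))
          (l.toLinearMap.lTensor K (TensorProduct.comm A Γ(X, ⊤) K z)) := by
      intro z
      induction z using TensorProduct.induction_on with
      | zero => simp
      | tmul x y => simp
      | add x y hx hy => simp [map_add, hx, hy]
    intro x y hxy
    rw [e, e] at hxy
    exact (TensorProduct.comm A _ _).injective (h ((TensorProduct.comm A K _).injective hxy))
  let R : s → CommRingCat.{u} := fun i => Γ(X, U i)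
  let q : Spec (CommRingCat.of (∀ i, Γ(X, U i))) ⟶ X :=
    inv (sigmaSpec R) ≫ Sigma.desc fun i => (hU i).fromSpec
  have hq : q ≫ X.toSpecΓ = Spec.map (CommRingCat.ofHom res) := by
    rw [Category.assoc, IsIso.inv_comp_eq]
    refine Sigma.hom_ext _ _ fun i => ?_
    rw [Sigma.ι_desc_assoc, IsAffineOpen.fromSpec_toSpecΓ, ι_sigmaSpec_assoc, ← Spec.map_comp]
    rfl
  have hq' : q ≫ X.toSpecΓ ≫ Spec.map φ = Spec.map (CommRingCat.ofHom (res.comp φ.hom)) := by
    rw [reassoc_of% hq, ← Spec.map_comp]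
    rfl
  let m : pullback (Spec.map (CommRingCat.ofHom (res.comp φ.hom))) (Spec.map ψ) ⟶
      pullback (X.toSpecΓ ≫ Spec.map φ) (Spec.map ψ) :=
    pullback.map _ _ _ _ q (𝟙 _) (𝟙 _) (by rw [Category.comp_id, hq'])
      (by rw [Category.id_comp, Category.comp_id])
  have hm : m ≫ pullback.map (X.toSpecΓ ≫ Spec.map φ) (Spec.map ψ) (Spec.map φ) (Spec.map ψ)
        X.toSpecΓ (𝟙 _) (𝟙 _) h1 h2 =
      pullback.map (Spec.map (CommRingCat.ofHom (res.comp φ.hom))) (Spec.map ψ) (Spec.map φ)
        (Spec.map ψ) (Spec.map (CommRingCat.ofHom res)) (𝟙 _) (𝟙 _)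
        (by rw [Category.comp_id, ← Spec.map_comp]; rfl)
        (by rw [Category.id_comp, Category.comp_id]) := by
    apply pullback.hom_ext
    · simp only [m, Category.assoc, pullback.lift_fst, pullback.lift_fst_assoc, hq]
    · simp only [m, Category.assoc, pullback.lift_snd, pullback.lift_snd_assoc, Category.comp_id]
  refine le_bot_iff.mp ((Scheme.Hom.le_ker_comp m _).trans ?_)
  rw [hm]
  exact (base_change_ker (R := A) (G := Γ(X, ⊤)) (P := ∀ i, Γ(X, U i)) (K := K) l hl).le

/-- Let S be the spectrum of a discrete valuation ring and X a quasi-compact quasi-separated flat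
S-scheme, with canonical morphism c : X ⟶ Spec Γ(X, O_X) over S. Then on each fibre over a point of
S the base change of c is schematically dominant (its kernel ideal sheaf vanishes). -/
theorem result
    (A : Type u) [CommRing A] [IsDomain A] [IsDiscreteValuationRing A]
    (X : Scheme.{u}) (f : X ⟶ Spec (CommRingCat.of A)) [Flat f] [QuasiCompact f] [QuasiSeparated f]
    (g : Spec Γ(X, ⊤) ⟶ Spec (CommRingCat.of A)) (hg : X.toSpecΓ ≫ g = f) (s : ↥(Spec (CommRingCat.of A))) :
    (pullback.map f ((Spec (CommRingCat.of A)).fromSpecResidueField s) g ((Spec (CommRingCat.of A)).fromSpecResidueField s)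
        X.toSpecΓ (𝟙 _) (𝟙 _) ((Category.comp_id f).trans hg.symm)
        ((Category.comp_id _).trans (Category.id_comp _).symm)).ker = ⊥ := by
  have : CompactSpace X := QuasiCompact.compactSpace_of_compactSpace f
  obtain ⟨φ, rfl⟩ : ∃ φ, Spec.map φ = g := ⟨Spec.preimage g, Spec.map_preimage g⟩
  subst hg
  generalize hF : (Spec (CommRingCat.of A)).fromSpecResidueField s = F
  obtain ⟨ψ, rfl⟩ : ∃ ψ, Spec.map ψ = F := ⟨Spec.preimage F, Spec.map_preimage F⟩
  exact main_aux φ _ ψ _ _

end Groth.Agent.S16044
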