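import Groth.Statements.S16045
import Groth.Agent.SpecFerrand.BaseChange

set_option autoImplicit false
universe u
open CategoryTheory CategoryTheory.Limits AlgebraicGeometry
open FlatMor

namespace Groth.Agent.S16045

/-- Let θ₁ : Y ⟶ X₁ and θ₂ : Y ⟶ X₂ be closed immersions of schemes over S and X their pushout in
schemes over S. For a flat morphism g : S' ⟶ S, the square obtained by base change along g is a
pushout in schemes over S': pinching along a closed subscheme commutes with flat base change. -/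
theorem result
    {S S' : Scheme.{u}} (g : S' ⟶ S) [Flat g]
    {Y X₁ X₂ X : Over S} (θ₁ : Y ⟶ X₁) (θ₂ : Y ⟶ X₂) [IsClosedImmersion θ₁.left] [IsClosedImmersion θ₂.left]
    (φ₁ : X₁ ⟶ X) (φ₂ : X₂ ⟶ X) (hX : IsPushout θ₁ θ₂ φ₁ φ₂) :
    IsPushout ((Over.pullback g).map θ₁) ((Over.pullback g).map θ₂)
      ((Over.pullback g).map φ₁) ((Over.pullback g).map φ₂) := by
  have hw0 : θ₁.left ≫ φ₁.left = θ₂.left ≫ φ₂.left := congr($(hX.w).left)
  have hpo : IsPushout θ₁.left θ₂.left φ₁.left φ₂.left := hX.map (Over.forget S)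
  have hc : Groth.SpecFerrand.Glue.Covers θ₁.left θ₂.left :=
    Groth.SpecFerrand.Glue.covers_of_fibres θ₁.left θ₂.left fun y => by
      by_cases h : (θ₂.left ⁻¹' {y}).Nonempty
      · obtain ⟨z, hz⟩ := h
        obtain ⟨U, hU, hzU, -⟩ := exists_isAffineOpen_mem_and_subset (x := θ₁.left z) (U := ⊤) trivial
        refine ⟨U, hU, fun w hw => ?_⟩
        rw [θ₂.left.isClosedEmbedding.injective (hw.trans hz.symm : θ₂.left w = θ₂.left z)]
        exact hzU
      · exact ⟨⊥, isAffineOpen_bot X₁.left, fun w hw => (h ⟨w, hw⟩).elim⟩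
  refine IsPushout.of_map (Over.forget S') ?_ ?_
  · rw [← Functor.map_comp, ← Functor.map_comp, hX.w]
  refine Groth.SpecFerrand.isPushout_baseChange (IsPullback.of_hasPullback X.hom g)
    (Groth.SpecFerrand.isPullback_lift_fst X.hom φ₁.left X₁.hom (Over.w φ₁).symm _)
    (Groth.SpecFerrand.isPullback_lift_fst X.hom φ₂.left X₂.hom (Over.w φ₂).symm _)
    (Groth.SpecFerrand.isPullback_lift_fst X₁.hom θ₁.left Y.hom (Over.w θ₁).symm _)
    (Groth.SpecFerrand.isPullback_lift_fst X₂.hom θ₂.left Y.hom (Over.w θ₂).symm _) ?_ fun x => ?_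
  · exact congr($(((Over.pullback g).map_comp θ₁ φ₁).symm.trans
      ((congrArg _ hX.w).trans ((Over.pullback g).map_comp θ₂ φ₂))).left)
  obtain ⟨C, C', c, W, W', φ, γ, hW, hW', hu, hw, hxu, hxW⟩ :=
    Groth.SpecFerrand.Glue.exists_chartData hc hpo (pullback.condition (f := X.hom) (g := g)) x
  refine ⟨C, C', c, W, W', φ, γ, hW, hW', hu, hw, c.chartExact_of_flat_left φ γ ?_, hxu, hxW⟩
  refine Groth.SpecFerrand.flat_of_comp_mono _ W ?_
  rw [← hw]
  infer_instance

end Groth.Agent.S16045
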