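import Groth.Statements.S16046
import Mathlib

set_option autoImplicit false
universe u
open TensorProduct
open ValRing

namespace Groth.Agent.S16046

/-- Surjectivity assertion: let A ⊆ A' be valuation rings with fraction fields K ⊆ K', A' dominating A
and A dense in A' for the valuation topology, and L a finite extension of K; put L' = K' ⊗_K L. Then
every element of L' modulo its nilradical which is integral over A' is a finite sum Σ a'ᵢ·lᵢ with
a'ᵢ ∈ A' and lᵢ ∈ L integral over A. (The published statement also identifies the kernel of the map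
from the tensor product with the nilradical; that part is not stated here.) -/
theorem result
    (A K L A' K' : Type u) [CommRing A] [IsDomain A] [ValuationRing A] [Field K] [Algebra A K] [IsFractionRing A K]
    [Field L] [Algebra K L] [FiniteDimensional K L] [Algebra A L] [IsScalarTower A K L]
    [CommRing A'] [IsDomain A'] [ValuationRing A'] [Field K'] [Algebra A' K'] [IsFractionRing A' K']
    [Algebra A A'] [IsLocalHom (algebraMap A A')] (hinj : Function.Injective (algebraMap A A'))
    [Algebra K K'] [Algebra A K'] [IsScalarTower A A' K'] [IsScalarTower A K K']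
    (hdense : ∀ a' b' : A', b' ≠ 0 → ∃ a : A, b' ∣ a' - algebraMap A A' a)
    (x : (K' ⊗[K] L) ⧸ nilradical (K' ⊗[K] L))
    (hx : ((Ideal.Quotient.mk (nilradical (K' ⊗[K] L))).comp
            ((Algebra.TensorProduct.includeLeft : K' →ₐ[K] K' ⊗[K] L).toRingHom.comp (algebraMap A' K'))).IsIntegralElem x) :
    ∃ (n : ℕ) (a : Fin n → A') (l : Fin n → L), (∀ i, IsIntegral A (l i)) ∧
      x = Ideal.Quotient.mk (nilradical (K' ⊗[K] L)) (∑ i, algebraMap A' K' (a i) ⊗ₜ[K] l i) := by

  classical
  let q := Ideal.Quotient.mk (nilradical (K' ⊗[K] L))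
  let ι : L →+* K' ⊗[K] L := (Algebra.TensorProduct.includeRight : L →ₐ[K] K' ⊗[K] L).toRingHom
  let f := q.comp ((Algebra.TensorProduct.includeLeft : K' →ₐ[K] K' ⊗[K] L).toRingHom.comp (algebraMap A' K'))
  have hinjK' : Function.Injective (algebraMap A' K') := IsFractionRing.injective A' K'
  have happrox : ∀ c : K', ∃ (y : K) (r : A'), c = algebraMap K K' y + algebraMap A' K' r := by
    intro c
    obtain ⟨p, s, hs, rfl⟩ := IsFractionRing.div_surjective (A := A') c
    have hs0 : s ≠ 0 := nonZeroDivisors.ne_zero hs
    by_cases hunit : IsUnit s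
    · obtain ⟨u, rfl⟩ := hunit
      refine ⟨0, p * (u⁻¹ : A'ˣ), ?_⟩
      rw [map_zero, zero_add, map_mul, map_units_inv, div_eq_mul_inv]
    · obtain ⟨a, ha⟩ := hdense s (s * s) (mul_ne_zero hs0 hs0)
      obtain ⟨w, hw⟩ := ha
      have hau : algebraMap A A' a = s * (1 - s * w) := by linear_combination -hw
      have hu : IsUnit (1 - s * w) :=
        IsLocalRing.isUnit_one_sub_self_of_mem_nonunits _ (fun h => hunit (isUnit_of_mul_isUnit_left h))
      obtain ⟨u, hu⟩ := hu
      have ha0 : a ≠ 0 := fun h => by
        rw [h, map_zero, ← hu] at hau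
        exact hs0 ((mul_eq_zero.1 hau.symm).resolve_right u.ne_zero)
      have haK : algebraMap A K' a ≠ 0 := by
        rw [IsScalarTower.algebraMap_apply A A' K']
        exact fun h => ha0 (hinj (hinjK' (by rw [h, map_zero, map_zero])))
      obtain ⟨p₀, hp₀⟩ := hdense (p * u) (algebraMap A A' a)
        (fun h => ha0 (hinj (h.trans (map_zero _).symm)))
      obtain ⟨r, hr⟩ := hp₀
      refine ⟨algebraMap A K p₀ / algebraMap A K a, r, ?_⟩
      rw [map_div₀, ← IsScalarTower.algebraMap_apply A K K', ← IsScalarTower.algebraMap_apply A K K',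
        div_add' _ _ _ haK, div_eq_div_iff (fun h => hs0 (hinjK' (h.trans (map_zero _).symm))) haK,
        IsScalarTower.algebraMap_apply A A' K' a, IsScalarTower.algebraMap_apply A A' K' p₀,
        ← map_mul, ← map_mul, ← map_add, ← map_mul]
      congr 1
      rw [hau, ← hu] at hr ⊢
      linear_combination s * hr
  haveI : Algebra.IsAlgebraic A K :=
    (IsFractionRing.comap_isAlgebraic_iff (A := A) (K := K) (C := K)).2 inferInstance
  haveI : Algebra.IsAlgebraic A L := Algebra.IsAlgebraic.trans A K L
  let b := Module.finBasis K L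
  obtain ⟨d, hd0, hd⟩ := exists_integral_multiples A K (Finset.univ.image b)
  let l : Fin (Module.finrank K L) → L := fun i => algebraMap A L d * b i
  have hl : ∀ i, IsIntegral A (l i) := fun i => by
    have := hd (b i) (Finset.mem_image_of_mem _ (Finset.mem_univ i))
    rwa [Algebra.smul_def] at this
  obtain ⟨t, htx⟩ := Ideal.Quotient.mk_surjective x
  obtain ⟨c, hc⟩ : ∃ c : Fin (Module.finrank K L) → K', t = ∑ i, c i ⊗ₜ[K] l i := by
    let B := Algebra.TensorProduct.basis K' b
    have hdK : algebraMap A K' d ≠ 0 := by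
      rw [IsScalarTower.algebraMap_apply A A' K']
      exact fun h => hd0 (hinj (hinjK' (by rw [h, map_zero, map_zero])))
    refine ⟨fun i => B.repr t i / algebraMap A K' d, ?_⟩
    conv_lhs => rw [← B.sum_repr t]
    refine Finset.sum_congr rfl fun i _ => ?_
    have e : l i = (algebraMap A K d) • b i := by
      simp [l, Algebra.smul_def, ← IsScalarTower.algebraMap_apply]
    rw [e, ← TensorProduct.smul_tmul, show B i = (1 : K') ⊗ₜ[K] b i from Algebra.TensorProduct.basis_apply b i,
      TensorProduct.smul_tmul']
    congr 1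
    simp only [smul_eq_mul, mul_one, Algebra.smul_def]
    rw [← IsScalarTower.algebraMap_apply A K K', mul_div_cancel₀ _ hdK]
  choose y r hyr using happrox
  let z : L := ∑ i, y (c i) • l i
  have ht : t = ι z + ∑ i, algebraMap A' K' (r (c i)) ⊗ₜ[K] l i := by
    simp only [z, map_sum, ← Finset.sum_add_distrib]
    rw [hc]
    refine Finset.sum_congr rfl fun i _ => ?_
    conv_lhs => rw [hyr (c i)]
    rw [TensorProduct.add_tmul]
    congr 1
    show _ = (1 : K') ⊗ₜ[K] (y (c i) • l i)
    rw [← TensorProduct.smul_tmul, Algebra.smul_def, mul_one]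
  have hlint : ∀ w : L, IsIntegral A w → f.IsIntegralElem (q (ι w)) := by
    rintro w ⟨P, hPm, hP⟩
    refine ⟨P.map (algebraMap A A'), hPm.map _, ?_⟩
    have e : f.comp (algebraMap A A') = (q.comp ι).comp (algebraMap A L) := by
      refine RingHom.ext fun a => ?_
      simp only [f, ι, RingHom.comp_apply, AlgHom.toRingHom_eq_coe, RingHom.coe_coe]
      congr 1
      rw [← IsScalarTower.algebraMap_apply A A' K', IsScalarTower.algebraMap_apply A K K',
        IsScalarTower.algebraMap_apply A K L, AlgHom.commutes, AlgHom.commutes]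
    rw [Polynomial.eval₂_map, e, show q (ι w) = (q.comp ι) w from rfl, ← Polynomial.hom_eval₂, hP, map_zero]
  have hsum : f.IsIntegralElem (q (∑ i, algebraMap A' K' (r (c i)) ⊗ₜ[K] l i)) := by
    rw [map_sum]
    refine Finset.sum_induction _ f.IsIntegralElem (fun _ _ ha hb => RingHom.IsIntegralElem.add f ha hb)
      f.isIntegralElem_zero fun i _ => ?_
    have e : q (algebraMap A' K' (r (c i)) ⊗ₜ[K] l i) = f (r (c i)) * q (ι (l i)) := by
      simp only [f, ι, RingHom.comp_apply, AlgHom.toRingHom_eq_coe, RingHom.coe_coe, ← map_mul,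
        Algebra.TensorProduct.includeLeft_apply, Algebra.TensorProduct.includeRight_apply,
        Algebra.TensorProduct.tmul_mul_tmul, mul_one, one_mul]
    rw [e]
    exact RingHom.IsIntegralElem.mul f f.isIntegralElem_map (hlint _ (hl i))
  have hz : f.IsIntegralElem (q (ι z)) := by
    have := RingHom.IsIntegralElem.sub f hx hsum
    rwa [← htx, ht, map_add, add_sub_cancel_right] at this
  have hzint : IsIntegral A z := by
    obtain ⟨P, hPm, hP⟩ := hz
    have hnil : IsNilpotent (P.eval₂ ((Algebra.TensorProduct.includeLeft : K' →ₐ[K] K' ⊗[K] L).toRingHom.comp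
        (algebraMap A' K')) (ι z)) := by
      rw [← mem_nilradical, ← Ideal.Quotient.eq_zero_iff_mem]
      change q (P.eval₂ _ (ι z)) = 0
      rw [Polynomial.hom_eval₂]
      exact hP
    obtain ⟨e, he⟩ := hnil
    rw [← Polynomial.eval₂_pow] at he
    set μ := minpoly K z
    have hzK : IsIntegral K z := Algebra.IsIntegral.isIntegral z
    have hdvd : μ.map (algebraMap K K') ∣ (P ^ e).map (algebraMap A' K') := by
      set Q := (P ^ e).map (algebraMap A' K')
      have hμm : (μ.map (algebraMap K K')).Monic := (minpoly.monic hzK).map _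
      rw [← Polynomial.modByMonic_eq_zero_iff_dvd hμm]
      set R := Q %ₘ μ.map (algebraMap K K') with hR
      have hR0 : Polynomial.aeval (ι z) R = 0 := by
        have h1 := congrArg (Polynomial.aeval (ι z)) (Polynomial.modByMonic_add_div Q (μ.map (algebraMap K K')))
        have h2 : Polynomial.aeval (ι z) (μ.map (algebraMap K K')) = 0 := by
          rw [Polynomial.aeval_map_algebraMap]
          exact (Polynomial.aeval_algHom_apply (Algebra.TensorProduct.includeRight : L →ₐ[K] K' ⊗[K] L) z μ).trans
            (by rw [minpoly.aeval, map_zero])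
        have h3 : Polynomial.aeval (ι z) Q = 0 := by
          rw [Polynomial.aeval_def, Polynomial.eval₂_map]
          exact he
        rw [map_add, map_mul, h2, zero_mul, add_zero, h3] at h1
        exact h1
      have hdeg : R.natDegree < μ.natDegree := by
        rw [← Polynomial.natDegree_map (algebraMap K K')]
        refine Polynomial.natDegree_modByMonic_lt _ hμm fun h => ?_
        have := congrArg Polynomial.natDegree h
        rw [Polynomial.natDegree_map, Polynomial.natDegree_one] at this
        exact (minpoly.natDegree_pos hzK).ne' this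
      let pw : (Fin μ.natDegree → K) →ₗ[K] L := Fintype.linearCombination K fun i : Fin μ.natDegree => z ^ (i : ℕ)
      have hpw : Function.Injective pw := linearIndependent_pow z |>.fintypeLinearCombination_injective
      obtain ⟨g, hg⟩ := pw.exists_leftInverse_of_injective (LinearMap.ker_eq_bot.2 hpw)
      refine Polynomial.ext fun m => ?_
      rw [Polynomial.coeff_zero]
      by_cases hm : m < μ.natDegree
      · have h4 := congrArg (fun w => TensorProduct.rid K K' (((LinearMap.proj ⟨m, hm⟩ : (Fin μ.natDegree → K) →ₗ[K] K) ∘ₗ g).lTensor K' w)) hR0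
        rw [Polynomial.aeval_eq_sum_range' hdeg] at h4
        simp only [map_sum, map_zero] at h4
        rw [Finset.sum_range fun i => (TensorProduct.rid K K') (((LinearMap.proj ⟨m, hm⟩ ∘ₗ g).lTensor K') (R.coeff i • ι z ^ i))] at h4
        have hterm : ∀ i : Fin μ.natDegree, (TensorProduct.rid K K') (((LinearMap.proj ⟨m, hm⟩ ∘ₗ g).lTensor K')
            (R.coeff i • ι z ^ (i : ℕ))) = if i = ⟨m, hm⟩ then R.coeff i else 0 := by
          intro i
          have e1 : z ^ (i : ℕ) = pw (Pi.single i 1) := by simp [pw, Fintype.linearCombination_apply, Pi.single_apply]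
          have e2 : R.coeff i • ι z ^ (i : ℕ) = R.coeff i ⊗ₜ[K] (z ^ (i : ℕ)) := by
            simp [ι, Algebra.TensorProduct.tmul_pow, TensorProduct.smul_tmul']
          rw [e2, LinearMap.lTensor_tmul, TensorProduct.rid_tmul, e1, LinearMap.comp_apply,
            ← LinearMap.comp_apply g pw, hg, LinearMap.id_apply, LinearMap.proj_apply, Pi.single_apply]
          simp [eq_comm, ite_smul]
        simp only [hterm, Finset.sum_ite_eq', Finset.mem_univ, if_true] at h4
        exact h4
      · exact Polynomial.coeff_eq_zero_of_natDegree_lt (by omega)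
    obtain ⟨g, hg⟩ := IsIntegrallyClosed.eq_map_mul_C_of_dvd (R := A') K' (hPm.pow e) hdvd
    rw [((minpoly.monic hzK).map (algebraMap K K')).leadingCoeff, Polynomial.C_1, mul_one] at hg
    have hcoeff : ∀ m, μ.coeff m ∈ (algebraMap A K).range := by
      intro m
      have h5 := congrArg (fun p => Polynomial.coeff p m) hg
      simp only [Polynomial.coeff_map] at h5
      rcases ValuationRing.isInteger_or_isInteger A (μ.coeff m) with h | h
      · exact h
      · obtain ⟨a, ha⟩ := h
        by_cases h0 : μ.coeff m = 0
        · exact ⟨0, by rw [map_zero, h0]⟩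
        have hunit : IsUnit (algebraMap A A' a) := by
          refine IsUnit.of_mul_eq_one (g.coeff m) ?_
          refine hinjK' ?_
          rw [map_mul, map_one, h5, ← IsScalarTower.algebraMap_apply A A' K', IsScalarTower.algebraMap_apply A K K', ← map_mul,
            ha, inv_mul_cancel₀ h0, map_one]
        obtain ⟨v, hv⟩ := isUnit_of_map_unit (algebraMap A A') a hunit
        refine ⟨(v⁻¹ : Aˣ), ?_⟩
        rw [map_units_inv, hv, ha, inv_inv]
    obtain ⟨ν, hν, -, hνm⟩ := Polynomial.lifts_and_degree_eq_and_monic
      ((Polynomial.lifts_iff_coeff_lifts μ).2 hcoeff) (minpoly.monic hzK)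
    refine ⟨ν, hνm, ?_⟩
    rw [← Polynomial.aeval_def, ← Polynomial.aeval_map_algebraMap K, hν, minpoly.aeval]
  refine ⟨Module.finrank K L + 1, Fin.cons 1 fun i => r (c i), Fin.cons z l, Fin.cases hzint hl, ?_⟩
  rw [← htx]
  congr 1
  rw [ht, Fin.sum_univ_succ]
  simp [ι]

end Groth.Agent.S16046
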