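import Groth.Statements.S16050
import Groth.Agent.Ega4Algebra1.SeparableNormalization
import Groth.Agent.SGA7.PowerSeries
import Mathlib.RingTheory.MvPowerSeries.NoZeroDivisors

set_option autoImplicit false
set_option linter.style.haveILetI false
universe u
open CategoryTheory
open LCI

namespace Groth.Agent.S16050

open MvPowerSeries

variable {k : Type u} [Field k] (p : ℕ) [Fact p.Prime] [CharP k p] [PerfectRing k p]

local notation "P" => MvPowerSeries (Fin 3) k

include p in
/-- Derivations of power series over a perfect field are determined by the variables. -/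
theorem derivation_ext {M : Type u} [AddCommGroup M] [Module P M] [Module k M] [IsScalarTower k P M]
    (D D' : Derivation k P M) (h : ∀ i, D (X i) = D' (X i)) : D = D' := by
  refine Derivation.ext fun g => ?_
  obtain ⟨c, hc⟩ := Groth.Ega4Algebra1.exists_eq_sum_pow_mul p g
  have hp0 : ∀ a : P, (p : P) * a = 0 := fun a => by
    rw [← map_natCast (C (σ := Fin 3) (R := k)), CharP.cast_eq_zero, map_zero, zero_mul]
  have hpow : ∀ (E : Derivation k P M) (a : P), E (a ^ p) = 0 := fun E a => by
    rw [Derivation.leibniz_pow, ← Nat.cast_smul_eq_nsmul P, ← mul_smul, hp0, zero_smul]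
  letI : Module (MvPolynomial (Fin 3) k) M := Module.compHom M (algebraMap (MvPolynomial (Fin 3) k) P)
  haveI : IsScalarTower (MvPolynomial (Fin 3) k) P M := IsScalarTower.of_algebraMap_smul fun _ _ => rfl
  haveI : IsScalarTower k (MvPolynomial (Fin 3) k) M := IsScalarTower.of_algebraMap_smul fun c x => by
    show algebraMap (MvPolynomial (Fin 3) k) P (algebraMap k _ c) • x = c • x
    rw [← IsScalarTower.algebraMap_apply, algebraMap_smul]
  have hmono : ∀ e : Fin 3 →₀ ℕ, D (monomial e 1) = D' (monomial e 1) := fun e => by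
    rw [← MvPolynomial.coe_monomial]
    show D (algebraMap (MvPolynomial (Fin 3) k) P (MvPolynomial.monomial e 1)) =
      D' (algebraMap (MvPolynomial (Fin 3) k) P (MvPolynomial.monomial e 1))
    exact Derivation.congr_fun (MvPolynomial.derivation_ext (D₁ := D.compAlgebraMap (MvPolynomial (Fin 3) k))
      (D₂ := D'.compAlgebraMap (MvPolynomial (Fin 3) k)) (fun i => by
        show D (algebraMap (MvPolynomial (Fin 3) k) P (MvPolynomial.X i)) = D' (algebraMap (MvPolynomial (Fin 3) k) P (MvPolynomial.X i))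
        rw [show algebraMap (MvPolynomial (Fin 3) k) P (MvPolynomial.X i) = X i from MvPolynomial.coe_X i]
        exact h i)) (MvPolynomial.monomial e 1)
  rw [hc, map_sum, map_sum]
  refine Finset.sum_congr rfl fun e _ => ?_
  rw [Derivation.leibniz, Derivation.leibniz, hpow, hpow, hmono]

/-- the gradient -/
noncomputable def grad : Derivation k P (Fin 3 → P) where
  toLinearMap := LinearMap.pi fun i => (MvPowerSeries.pderiv k i).toLinearMap
  map_one_eq_zero' := funext fun i => (MvPowerSeries.pderiv k i).map_one_eq_zero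
  leibniz' a b := funext fun i => (MvPowerSeries.pderiv k i).leibniz a b

theorem grad_apply (g : P) (j : Fin 3) : grad g j = MvPowerSeries.pderiv k j g := rfl

theorem grad_X (i : Fin 3) : grad (X i : P) = Pi.single i 1 := by
  funext j
  rw [grad_apply, MvPowerSeries.pderiv_X]
  simp [Pi.single_apply, eq_comm]

include p in
/-- the Jacobian ideal -/
theorem jac_eq (f : P) :
    Ideal.span {g | ∃ D : Derivation k P P, g = D f} = Ideal.span (Set.range (grad f)) := by
  refine le_antisymm (Ideal.span_le.2 ?_) (Ideal.span_mono ?_)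
  · rintro g ⟨D, rfl⟩
    have h : D = (∑ i, D (X i) • LinearMap.proj (R := P) (φ := fun _ : Fin 3 => P) i).compDer grad :=
      derivation_ext p _ _ fun i => by
        show _ = (∑ l, D (X l) • LinearMap.proj (R := P) (φ := fun _ : Fin 3 => P) l) (grad (X i))
        simp [grad_X, Pi.single_apply]
    rw [h]
    show (∑ l, D (X l) • LinearMap.proj (R := P) (φ := fun _ : Fin 3 => P) l) (grad f) ∈ _
    rw [LinearMap.sum_apply]
    exact Ideal.sum_mem _ fun l _ => Ideal.mul_mem_left _ _ (Ideal.subset_span ⟨l, rfl⟩)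
  · rintro _ ⟨i, rfl⟩
    exact ⟨MvPowerSeries.pderiv k i, grad_apply f i⟩

variable (f : MvPowerSeries (Fin 3) k)

/-- the hypersurface ring -/
abbrev Rq := MvPowerSeries (Fin 3) k ⧸ Ideal.span {f}

/-- reduction of vectors -/
noncomputable def red : (Fin 3 → P) →ₗ[P] (Fin 3 → (Rq f)) :=
  LinearMap.pi fun i => (Algebra.linearMap P (Rq f)).comp (LinearMap.proj i)

theorem red_apply (v : Fin 3 → P) (i : Fin 3) : red f v i = Ideal.Quotient.mk _ (v i) := rfl

/-- the first map of the presentation -/
noncomputable def uMap : (Rq f) →ₗ[(Rq f)] (Fin 3 → (Rq f)) := LinearMap.toSpanSingleton (Rq f) _ (red f (grad f))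

include p in
/-- the presentation of the differentials -/
theorem exists_presentation :
    ∃ π : (Fin 3 → (Rq f)) →ₗ[(Rq f)] KaehlerDifferential k (Rq f), Function.Surjective π ∧
      LinearMap.ker π = LinearMap.range (uMap f) := by
  classical
  let C' := (Fin 3 → (Rq f)) ⧸ LinearMap.range (uMap f)
  let δ : Derivation k P C' :=
    ((((LinearMap.range (uMap f)).mkQ).restrictScalars P).comp (red f)).compDer grad
  have hδ : ∀ a, δ a = Submodule.Quotient.mk (red f (grad a)) := fun _ => rfl
  have hker : ∀ a ∈ Ideal.span {f}, δ a = 0 := fun a ha => by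
    obtain ⟨b, rfl⟩ := Ideal.mem_span_singleton'.1 ha
    have h0 : δ f = 0 := (hδ f).trans ((Submodule.Quotient.mk_eq_zero _).2 ⟨1, one_smul _ _⟩)
    rw [Derivation.leibniz, h0, smul_zero, zero_add, ← algebraMap_smul (Rq f) f,
      show algebraMap P (Rq f) f = 0 from Ideal.Quotient.eq_zero_iff_mem.2 (Ideal.mem_span_singleton_self f)]
    exact zero_smul (Rq f) (δ b)
  have hwd : ∀ a a' : P, Ideal.Quotient.mk (Ideal.span {f}) a = Ideal.Quotient.mk _ a' → δ a = δ a' := fun a a' h => by
    rw [← sub_eq_zero, ← map_sub]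
    exact hker _ (Ideal.Quotient.eq.1 h)
  let s : (Rq f) → P := Function.surjInv Ideal.Quotient.mk_surjective
  have hs : ∀ z, Ideal.Quotient.mk (Ideal.span {f}) (s z) = z := Function.surjInv_eq _
  let l : (Rq f) →ₗ[k] C' :=
    { toFun := fun z => δ (s z)
      map_add' := fun z w => by rw [← map_add]; exact hwd _ _ (by rw [map_add, hs, hs, hs])
      map_smul' := fun c z => by
        rw [RingHom.id_apply, ← Derivation.map_smul]
        refine hwd _ _ ?_
        rw [hs, ← Ideal.Quotient.mkₐ_eq_mk k, map_smul, Ideal.Quotient.mkₐ_eq_mk, hs] }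
  let D0 : Derivation k (Rq f) C' :=
    { toLinearMap := l
      map_one_eq_zero' := (hwd (s 1) 1 (by rw [hs, map_one])).trans δ.map_one_eq_zero
      leibniz' := fun z w => by
        show δ (s (z * w)) = z • δ (s w) + w • δ (s z)
        rw [hwd (s (z * w)) (s z * s w) (by rw [map_mul, hs, hs, hs]), Derivation.leibniz,
          ← algebraMap_smul (Rq f) (s z), ← algebraMap_smul (Rq f) (s w), Ideal.Quotient.algebraMap_eq, hs, hs] }
  have hD0 : ∀ a : P, D0 (Ideal.Quotient.mk _ a) = δ a := fun a => hwd _ _ (hs _)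
  let π : (Fin 3 → (Rq f)) →ₗ[(Rq f)] KaehlerDifferential k (Rq f) :=
    ∑ i, (LinearMap.proj i).smulRight (KaehlerDifferential.D k (Rq f) (Ideal.Quotient.mk _ (X i)))
  have hπ : ∀ v, π v = ∑ i, v i • KaehlerDifferential.D k (Rq f) (Ideal.Quotient.mk _ (X i)) := fun v => by
    simp [π, LinearMap.sum_apply]
  have hd : ∀ a : P, KaehlerDifferential.D k (Rq f) (Ideal.Quotient.mk _ a) = π (red f (grad a)) := fun a => by
    refine Derivation.congr_fun (derivation_ext p
      ((KaehlerDifferential.D k (Rq f)).compAlgebraMap P) (((π.restrictScalars P).comp (red f)).compDer grad) fun i => ?_) a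
    show KaehlerDifferential.D k (Rq f) (Ideal.Quotient.mk _ (X i)) = π (red f (grad (X i)))
    rw [hπ, grad_X, Finset.sum_eq_single i (fun j _ hj => by rw [red_apply, Pi.single_eq_of_ne hj, map_zero]; exact zero_smul (Rq f) (KaehlerDifferential.D k (Rq f) (Ideal.Quotient.mk _ (X j))))
      (fun h => absurd (Finset.mem_univ i) h), red_apply, Pi.single_eq_same, map_one]
    exact (one_smul (Rq f) (KaehlerDifferential.D k (Rq f) (Ideal.Quotient.mk _ (X i)))).symm
  refine ⟨π, ?_, le_antisymm ?_ ?_⟩
  · rw [← LinearMap.range_eq_top, eq_top_iff, ← KaehlerDifferential.span_range_derivation, Submodule.span_le]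
    rintro _ ⟨z, rfl⟩
    rw [← hs z]
    exact ⟨_, (hd _).symm⟩
  · have hcomp : D0.liftKaehlerDifferential.comp π = (LinearMap.range (uMap f)).mkQ := by
      refine (Pi.basisFun (Rq f) (Fin 3)).ext fun i => ?_
      rw [LinearMap.comp_apply, hπ, Finset.sum_eq_single i (fun j _ hj => by
          rw [Pi.basisFun_apply, Pi.single_eq_of_ne hj]; exact zero_smul (Rq f) (KaehlerDifferential.D k (Rq f) (Ideal.Quotient.mk _ (X j))))
        (fun h => absurd (Finset.mem_univ i) h), Pi.basisFun_apply, Pi.single_eq_same]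
      refine (congrArg D0.liftKaehlerDifferential (one_smul (Rq f) (KaehlerDifferential.D k (Rq f) (Ideal.Quotient.mk _ (X i))))).trans ?_
      rw [Derivation.liftKaehlerDifferential_comp_D, hD0, hδ, Submodule.mkQ_apply, grad_X]
      congr 1
      funext j
      rw [red_apply]
      rcases eq_or_ne j i with rfl | hj
      · rw [Pi.single_eq_same, Pi.single_eq_same, map_one]
      · rw [Pi.single_eq_of_ne hj, Pi.single_eq_of_ne hj, map_zero]
    intro v hv
    rw [← Submodule.ker_mkQ (LinearMap.range (uMap f)), LinearMap.mem_ker, ← hcomp, LinearMap.comp_apply,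
      LinearMap.mem_ker.1 hv, map_zero]
  · rintro _ ⟨z, rfl⟩
    rw [LinearMap.mem_ker, uMap, LinearMap.toSpanSingleton_apply, map_smul, ← hd,
      show Ideal.Quotient.mk (Ideal.span {f}) f = 0 from Ideal.Quotient.eq_zero_iff_mem.2 (Ideal.mem_span_singleton_self f),
      map_zero, smul_zero]

/-- no element outside a principal ideal is moved into it by all variables -/
theorem mem_of_X_mul_mem (hf0 : f ≠ 0) {g : P} (h : ∀ i, X i * g ∈ Ideal.span {f}) : g ∈ Ideal.span {f} := by
  obtain ⟨a, ha⟩ := Ideal.mem_span_singleton.1 (h 0)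
  obtain ⟨b, hb⟩ := Ideal.mem_span_singleton.1 (h 1)
  have hX0 : (X 0 : P) ≠ 0 := fun h0 => by
    have := congrArg (coeff (Finsupp.single (0 : Fin 3) 1)) h0
    rw [coeff_index_single_self_X, map_zero] at this
    exact one_ne_zero this
  have hab : X 1 * a = X 0 * b := mul_left_cancel₀ hf0 (by
    calc f * (X 1 * a) = X 1 * (f * a) := by ring
      _ = X 1 * (X 0 * g) := by rw [ha]
      _ = X 0 * (X 1 * g) := by ring
      _ = f * (X 0 * b) := by rw [hb]; ring)
  have hdvd : (X 0 : P) ∣ a := X_dvd_iff.2 fun m hm => by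
    have h1 := congrArg (coeff (Finsupp.single (1 : Fin 3) 1 + m)) hab
    rw [X_def, coeff_add_monomial_mul, one_mul] at h1
    rw [h1]
    exact X_dvd_iff.1 (dvd_mul_right (X 0 : P) b) _ (by simp [hm])
  obtain ⟨a', rfl⟩ := hdvd
  exact Ideal.mem_span_singleton.2 ⟨a', mul_left_cancel₀ hX0 (by rw [ha]; ring)⟩

theorem uMap_injective (hf0 : f ≠ 0) (hiso : ∃ N : ℕ, IsLocalRing.maximalIdeal P ^ N ≤
    Ideal.span {f} ⊔ Ideal.span (Set.range (grad f))) : Function.Injective (uMap f) := by
  obtain ⟨N, hN⟩ := hiso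
  rw [← LinearMap.ker_eq_bot, Submodule.eq_bot_iff]
  intro z hz
  obtain ⟨g, rfl⟩ := Ideal.Quotient.mk_surjective z
  rw [Ideal.Quotient.eq_zero_iff_mem]
  have hJ : ∀ a ∈ IsLocalRing.maximalIdeal P ^ N, a * g ∈ Ideal.span {f} := by
    intro a ha
    obtain ⟨x, hx, y, hy, rfl⟩ := Submodule.mem_sup.1 (hN ha)
    rw [add_mul]
    refine Ideal.add_mem _ (Ideal.mul_mem_right _ _ hx) ?_
    clear ha
    induction hy using Submodule.span_induction with
    | mem y hy =>
      obtain ⟨i, rfl⟩ := hy
      have h : Ideal.Quotient.mk (Ideal.span {f}) g • red f (grad f) i = 0 := congrFun (LinearMap.mem_ker.1 hz) i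
      rw [red_apply, smul_eq_mul, ← map_mul, Ideal.Quotient.eq_zero_iff_mem, mul_comm] at h
      exact h
    | zero => rw [zero_mul]; exact Submodule.zero_mem _
    | add a b _ _ ha hb => rw [add_mul]; exact Ideal.add_mem _ ha hb
    | smul c a _ ha => rw [smul_eq_mul, mul_assoc]; exact Ideal.mul_mem_left _ _ ha
  clear hz hN
  induction N generalizing g with
  | zero => simpa using hJ 1 (by simp)
  | succ N ih =>
    refine mem_of_X_mul_mem f hf0 fun i => ih _ fun a ha => ?_
    rw [← mul_assoc]
    refine hJ _ ?_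
    rw [pow_succ]
    exact Ideal.mul_mem_mul ha ((IsLocalRing.mem_maximalIdeal _).2 fun hu => by
      have := isUnit_constantCoeff _ hu
      simp at this)

set_option maxHeartbeats 400000 in
/-- Let k be an algebraically closed field of characteristic p > 0, P = k[[x, y, z]] the power series
ring in three variables, f a non-unit of P defining an isolated singularity — some power of the
maximal ideal of P is contained in (f) + J, where J is the ideal generated by the values D(f) of all
k-derivations D of P (the Jacobian ideal (f_x, f_y, f_z)) — and (Rq f) = P/(f). Then Ext²_{(Rq f)}(Ω_{(Rq f)/k},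
(Rq f)) = 0 and Ext¹_{(Rq f)}(Ω_{(Rq f)/k}, (Rq f)) is isomorphic as an (Rq f)-module to (Rq f)/J (Rq f), the Tjurina algebra
(existence of an (Rq f)-linear isomorphism only; the source obtains it from the boundary map of the
dualized conormal sequence). The source states this for the normal form of a rational double point;
the hypotheses used are those given here. Here Ω is the module of Kähler differentials of the
k-algebra (Rq f). (The lemma also identifies first-order deformations of (Rq f) with this Ext¹ group; that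
identification is quoted there from another work and is not part of this row.) -/
theorem result (k : Type u) [Field k] [IsAlgClosed k]
    (p : ℕ) [Fact p.Prime] [CharP k p]
    (f : MvPowerSeries (Fin 3) k) (hf : f ∈ IsLocalRing.maximalIdeal (MvPowerSeries (Fin 3) k))
    (hiso : ∃ N : ℕ, IsLocalRing.maximalIdeal (MvPowerSeries (Fin 3) k) ^ N ≤
      Ideal.span {f} ⊔ Ideal.span {g | ∃ D : Derivation k (MvPowerSeries (Fin 3) k) (MvPowerSeries (Fin 3) k), g = D f}) :
    Subsingleton (Abelian.Ext
        (ModuleCat.of (MvPowerSeries (Fin 3) k ⧸ Ideal.span {f})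
          (KaehlerDifferential k (MvPowerSeries (Fin 3) k ⧸ Ideal.span {f})))
        (ModuleCat.of (MvPowerSeries (Fin 3) k ⧸ Ideal.span {f}) (MvPowerSeries (Fin 3) k ⧸ Ideal.span {f})) 2) ∧
      Nonempty (Abelian.Ext
        (ModuleCat.of (MvPowerSeries (Fin 3) k ⧸ Ideal.span {f})
          (KaehlerDifferential k (MvPowerSeries (Fin 3) k ⧸ Ideal.span {f})))
        (ModuleCat.of (MvPowerSeries (Fin 3) k ⧸ Ideal.span {f}) (MvPowerSeries (Fin 3) k ⧸ Ideal.span {f})) 1 ≃ₗ[MvPowerSeries (Fin 3) k ⧸ Ideal.span {f}]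
        ((MvPowerSeries (Fin 3) k ⧸ Ideal.span {f}) ⧸ Ideal.map (Ideal.Quotient.mk (Ideal.span {f}))
          (Ideal.span {g | ∃ D : Derivation k (MvPowerSeries (Fin 3) k) (MvPowerSeries (Fin 3) k), g = D f}))) := by
  classical
  haveI : PerfectRing k p := PerfectField.toPerfectRing p
  obtain ⟨π, hπ, hker⟩ := exists_presentation p f
  let Ω := ModuleCat.of (Rq f) (KaehlerDifferential k (Rq f))
  let Q := ModuleCat.of (Rq f) (Rq f)
  let F := ModuleCat.of (Rq f) (Fin 3 → (Rq f))
  haveI : Projective F := ModuleCat.projective_of_free (Pi.basisFun (Rq f) (Fin 3))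
  haveI : Projective Q := ModuleCat.projective_of_free (Module.Basis.singleton (Fin 1) (Rq f))
  set Jbar := Ideal.map (Ideal.Quotient.mk (Ideal.span {f}))
    (Ideal.span {g | ∃ D : Derivation k (MvPowerSeries (Fin 3) k) (MvPowerSeries (Fin 3) k), g = D f}) with hJbar
  by_cases hf0 : f = 0
  · -- smooth case
    have hu : uMap f = 0 := by
      apply LinearMap.ext_ring
      rw [uMap, LinearMap.toSpanSingleton_apply_one, LinearMap.zero_apply]
      funext i
      rw [red_apply, grad_apply, hf0, map_zero, map_zero]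
      rfl
    have hπ' : Function.Injective π := by
      rw [← LinearMap.ker_eq_bot, hker, hu, LinearMap.range_zero]
    haveI : Projective Ω := ModuleCat.projective_of_free
      ((Pi.basisFun (Rq f) (Fin 3)).map (LinearEquiv.ofBijective π ⟨hπ', hπ⟩))
    have hJ : Jbar = ⊤ := by
      obtain ⟨N, hN⟩ := hiso
      have h0 : Ideal.span {f} ⊔ Ideal.span {g | ∃ D : Derivation k (MvPowerSeries (Fin 3) k)
          (MvPowerSeries (Fin 3) k), g = D f} = ⊥ := by
        rw [hf0]
        simp
      rw [h0, le_bot_iff] at hN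
      exfalso
      have hmem := Ideal.pow_mem_pow (show (X 0 : MvPowerSeries (Fin 3) k) ∈ IsLocalRing.maximalIdeal _ from
        (IsLocalRing.mem_maximalIdeal _).2 fun hu => by
          have := isUnit_constantCoeff _ hu
          simp at this) N
      rw [hN, Ideal.mem_bot] at hmem
      have h1 := congrArg (coeff (Finsupp.single (0 : Fin 3) N)) hmem
      rw [X_pow_eq, coeff_monomial_same, map_zero] at h1
      exact one_ne_zero h1
    refine ⟨Abelian.Ext.subsingleton_of_projective Ω Q 1, ?_⟩
    haveI := Abelian.Ext.subsingleton_of_projective Ω Q 0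
    haveI : Subsingleton ((Rq f) ⧸ Jbar) := Submodule.Quotient.subsingleton_iff.2 hJ
    exact ⟨0, 0, fun _ => Subsingleton.elim _ _, fun _ => Subsingleton.elim _ _⟩
  -- singular case
  have hinj : Function.Injective (uMap f) := uMap_injective f hf0 (by rw [← jac_eq p]; exact hiso)
  let S : ShortComplex (ModuleCat.{u} (Rq f)) := ShortComplex.mk (ModuleCat.ofHom (uMap f)) (ModuleCat.ofHom π)
    (ModuleCat.hom_ext (LinearMap.ext fun z => LinearMap.mem_ker.1 (hker.ge ⟨z, rfl⟩)))
  have hS : S.ShortExact :=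
    { exact := (ShortComplex.ShortExact.moduleCat_exact_iff_function_exact _).2 (LinearMap.exact_iff.2 hker)
      mono_f := (ModuleCat.mono_iff_injective _).2 hinj
      epi_g := (ModuleCat.epi_iff_surjective _).2 hπ }
  constructor
  · haveI := Abelian.Ext.subsingleton_of_projective F Q 1
    haveI := Abelian.Ext.subsingleton_of_projective Q Q 0
    refine subsingleton_of_forall_eq 0 fun x => ?_
    obtain ⟨y, rfl⟩ := Abelian.Ext.contravariant_sequence_exact₃ hS Q x (Subsingleton.elim _ _) (rfl : 1 + 1 = 2)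
    rw [Subsingleton.elim y 0, Abelian.Ext.comp_zero]
  haveI := Abelian.Ext.subsingleton_of_projective F Q 0
  let L : (Rq f) →ₗ[(Rq f)] Abelian.Ext Ω Q 1 :=
    LinearMap.toSpanSingleton (Rq f) _ (hS.extClass.comp (Abelian.Ext.mk₀ (𝟙 Q)) (add_zero 1))
  have hL : ∀ r, L r = hS.extClass.comp (Abelian.Ext.mk₀ (r • 𝟙 Q)) (add_zero 1) := fun r => by
    exact (Abelian.Ext.comp_smul _ _ _ r).symm.trans
      (congrArg (fun y => hS.extClass.comp y (add_zero 1)) (Abelian.Ext.mk₀_smul r (𝟙 Q)).symm)
  have hhom : ∀ φ : Q ⟶ Q, φ = φ.hom (1 : (Rq f)) • 𝟙 Q := fun φ => by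
    apply ModuleCat.hom_ext
    apply LinearMap.ext_ring
    show φ.hom (1 : (Rq f)) = φ.hom (1 : (Rq f)) • (1 : (Rq f))
    rw [smul_eq_mul, mul_one]
  have hLsurj : Function.Surjective L := fun x => by
    obtain ⟨y, rfl⟩ := Abelian.Ext.contravariant_sequence_exact₃ hS Q x (Subsingleton.elim _ _) (rfl : 1 + 0 = 1)
    obtain ⟨φ, rfl⟩ := (Abelian.Ext.mk₀_bijective _ _).2 y
    exact ⟨φ.hom (1 : (Rq f)), (hL _).trans (by rw [← hhom φ])⟩
  have hJ' : Jbar = Ideal.span (Set.range (red f (grad f))) := by
    rw [hJbar, jac_eq p, Ideal.map_span, ← Set.range_comp]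
    rfl
  have hLker : LinearMap.ker L = Jbar := by
    ext r
    rw [LinearMap.mem_ker, hL, hJ', Ideal.mem_span_range_iff_exists_fun]
    constructor
    · intro h
      obtain ⟨ψ', hψ⟩ := Abelian.Ext.contravariant_sequence_exact₁ hS Q _ (rfl : 1 + 0 = 1) h
      obtain ⟨ψ, rfl⟩ := (Abelian.Ext.mk₀_bijective _ _).2 ψ'
      rw [Abelian.Ext.mk₀_comp_mk₀] at hψ
      have h1 := congrArg (fun φ : Q ⟶ Q => φ.hom (1 : (Rq f))) ((Abelian.Ext.mk₀_bijective _ _).1 hψ)
      refine ⟨fun i => ψ.hom (Pi.single i 1), ?_⟩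
      have h2 : ψ.hom (uMap f 1) = r • (1 : (Rq f)) := h1
      rw [uMap, LinearMap.toSpanSingleton_apply_one, pi_eq_sum_univ (red f (grad f)), map_sum] at h2
      rw [smul_eq_mul, mul_one] at h2
      rw [← h2]
      refine Finset.sum_congr rfl fun i _ => ?_
      rw [map_smul, smul_eq_mul, mul_comm]
      congr 2
      dsimp only
      congr 1
      funext j
      simp [Pi.single_apply, eq_comm]
    · rintro ⟨a, ha⟩
      let ψ : F ⟶ Q := ModuleCat.ofHom (∑ i, a i • LinearMap.proj i)
      have h1 : ModuleCat.ofHom (uMap f) ≫ ψ = r • 𝟙 Q := by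
        apply ModuleCat.hom_ext
        apply LinearMap.ext_ring
        show (∑ i, a i • LinearMap.proj (R := (Rq f)) (φ := fun _ : Fin 3 => (Rq f)) i) (uMap f 1) = r • (1 : (Rq f))
        rw [uMap, LinearMap.toSpanSingleton_apply_one, smul_eq_mul, mul_one, ← ha, LinearMap.sum_apply]
        rfl
      rw [← h1, ← Abelian.Ext.mk₀_comp_mk₀]
      exact hS.extClass_comp_assoc _
  exact ⟨(LinearMap.quotKerEquivOfSurjective L hLsurj).symm ≪≫ₗ Submodule.quotEquivOfEq _ _ hLker⟩

end Groth.Agent.S16050
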