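import Groth.Statements.S16051
import Groth.Agent.Misc1.SlSubregular

set_option autoImplicit false
universe u
open LieAlg

namespace Groth.Agent.S16051

/-- Let O be a discrete valuation ring of characteristic zero with residue field of characteristic p,
let 1 ≤ n with n + 1 < p (type A_n with p above the Coxeter number), and let x ∈ sl_{n+1}(O) be the
standard subregular nilpotent element, the matrix with entries x_{i,i+1} = 1 for i + 1 < n and 0
elsewhere (one Jordan block of size n and one of size 1; in the source this is the sum of the root
vectors of the first n − 1 simple roots, completed there to an sl₂-triple). Then the quotient of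
sl_{n+1}(O) by the image of ad_x is a free O-module of rank n + 2. (The source works over a complete
such ring with algebraically closed residue field; completeness and algebraic closedness are not
used for this statement.) -/
theorem result (O : Type u) [CommRing O] [IsDomain O] [IsDiscreteValuationRing O]
    [CharZero O] (p : ℕ) [Fact p.Prime] [CharP (IsLocalRing.ResidueField O) p]
    (n : ℕ) (hn : 1 ≤ n) (hp : n + 1 < p)
    (x : LieAlgebra.SpecialLinear.sl (Fin (n + 1)) O)
    (hx : ∀ i j : Fin (n + 1), (x : Matrix (Fin (n + 1)) (Fin (n + 1)) O) i j =
      if j.val = i.val + 1 ∧ j.val < n then 1 else 0) :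
    Module.Free O (LieAlgebra.SpecialLinear.sl (Fin (n + 1)) O ⧸
        LinearMap.range (LieAlgebra.ad O (LieAlgebra.SpecialLinear.sl (Fin (n + 1)) O) x)) ∧
      Module.finrank O (LieAlgebra.SpecialLinear.sl (Fin (n + 1)) O ⧸
        LinearMap.range (LieAlgebra.ad O (LieAlgebra.SpecialLinear.sl (Fin (n + 1)) O) x)) = n + 2 := by
  exact Groth.Misc1.SlSubregular.finrank_coker hn x hx

end Groth.Agent.S16051
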