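import Groth.Statements.S16052
import Mathlib
import Groth.Agent.Calg7.TameDVR
-- import your own Groth.Agent.* helpers here

set_option autoImplicit false
universe u
open Polynomial
open CAlg

namespace Groth.Agent.S16052

/-- Let O be a henselian discrete valuation ring of characteristic zero with algebraically closed
residue field of characteristic p, ϖ a uniformizer and K the fraction field. Let r_1, …, r_m ≥ 1 and
b_1, …, b_m ≥ 1 be integers with gcd(r_i, b_i) = 1 for each i and r_1 + ⋯ + r_m < p, and let v_1, …,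
v_m be units of O. Then the splitting field over K of the polynomial ∏_i (y^{r_i} − v_i ϖ^{b_i}) has
degree lcm(r_1, …, r_m) over K. (In the source O is complete and this polynomial is the y-part of a
deformation y ↦ x² + z² + f(y) of an A_n-singularity with n + 1 = Σ r_i; the proposition goes on to
identify the monodromy element, which is not stated here.) -/
theorem result (O : Type u) [CommRing O] [IsDomain O]
    [IsDiscreteValuationRing O] [HenselianLocalRing O] [CharZero O] [IsAlgClosed (IsLocalRing.ResidueField O)]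
    (p : ℕ) [Fact p.Prime] [CharP (IsLocalRing.ResidueField O) p]
    (ϖ : O) (hϖ : Irreducible ϖ) (m : ℕ) (r b : Fin m → ℕ) (v : Fin m → Oˣ)
    (hr : ∀ i, 1 ≤ r i) (hb : ∀ i, 1 ≤ b i) (hrb : ∀ i, Nat.Coprime (r i) (b i)) (hp : ∑ i, r i < p) :
    Module.finrank (FractionRing O)
        (∏ i, (X ^ (r i) - C (algebraMap O (FractionRing O) ((v i : O) * ϖ ^ (b i))))).SplittingField =
      Finset.univ.lcm r := by
  classical
  set K := FractionRing O
  set l := Finset.univ.lcm r with hl
  have hinj : Function.Injective (algebraMap O K) := IsFractionRing.injective O K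
  have hpp : p.Prime := Fact.out
  have hri : ∀ i, ¬ p ∣ r i := fun i h => by
    have h1 := Nat.le_of_dvd (hr i) h
    have h2 : r i ≤ ∑ j, r j := Finset.single_le_sum (fun j _ => Nat.zero_le _) (Finset.mem_univ i)
    omega
  have hl0 : l ≠ 0 := by
    rw [hl, Ne, Finset.lcm_eq_zero_iff]
    rintro ⟨i, -, hi⟩
    have := hr i; omega
  have hlp : ¬ p ∣ l := by
    intro h
    have h1 : p ∣ ∏ i, r i := h.trans (Finset.lcm_dvd fun i _ => Finset.dvd_prod_of_mem r (Finset.mem_univ i))
    obtain ⟨i, -, hi⟩ := hpp.prime.exists_mem_finset_dvd h1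
    exact hri i hi
  have hu : ∀ i, IsUnit (r i : O) := fun i => Groth.Calg7.TameDVR.natCast_isUnit p (hri i)
  have hlu : IsUnit (l : O) := Groth.Calg7.TameDVR.natCast_isUnit p hlp
  have hroots := Groth.Calg7.TameDVR.primitiveRoots_nonempty K hl0 hlu
  have hirr := Groth.Calg7.TameDVR.irreducible_X_pow_sub_uniformizer hϖ hl0 K
  set L := ((X : K[X]) ^ l - C (algebraMap O K ϖ)).SplittingField
  have hfin : Module.finrank K L = l := finrank_of_isSplittingField_X_pow_sub_C hroots hirr L
  obtain ⟨β, hβ⟩ := Polynomial.Splits.exists_eval_eq_zero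
    (f := ((X : K[X]) ^ l - C (algebraMap O K ϖ)).map (algebraMap K L))
    (Polynomial.IsSplittingField.splits L _) (by
      rw [degree_map, degree_X_pow_sub_C (Nat.pos_of_ne_zero hl0)]; exact_mod_cast hl0)
  replace hβ : β ^ l = algebraMap K L (algebraMap O K ϖ) := by
    simpa [sub_eq_zero] using hβ
  have hϖ0 : algebraMap K L (algebraMap O K ϖ) ≠ 0 := by simp [hinj, hϖ.ne_zero]
  have hβ0 : β ≠ 0 := fun h => hϖ0 (by rw [← hβ, h, zero_pow hl0])
  choose k hk using fun i => (Finset.dvd_lcm (Finset.mem_univ i) : r i ∣ l)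
  replace hk : ∀ i, l = r i * k i := hk
  choose c hc using fun i => Groth.Calg7.TameDVR.exists_root_unit (Nat.one_le_iff_ne_zero.1 (hr i)) (hu i) _ (v i).isUnit
  set P := ∏ i, (X ^ (r i) - C (algebraMap O K ((v i : O) * ϖ ^ (b i)))) with hP
  set x : Fin m → L := fun i => algebraMap K L (algebraMap O K (c i)) * β ^ (k i * b i) with hxdef
  have hx : ∀ i, x i ^ r i = algebraMap K L (algebraMap O K ((v i : O) * ϖ ^ (b i))) := by
    intro i
    simp only [x, map_mul, map_pow, ← hβ, mul_pow, ← pow_mul]
    rw [← map_pow (algebraMap K L), ← map_pow (algebraMap O K), hc i]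
    congr 2
    rw [hk i]; ring
  haveI hsplit : Polynomial.IsSplittingField K L P := by
    rw [isSplittingField_iff_intermediateField]
    refine ⟨?_, ?_⟩
    · rw [hP, Polynomial.map_prod]
      refine Polynomial.Splits.prod fun i _ => ?_
      obtain ⟨ζ, hζ⟩ := Groth.Calg7.TameDVR.primitiveRoots_nonempty K (Nat.one_le_iff_ne_zero.1 (hr i)) (hu i)
      rw [mem_primitiveRoots (hr i)] at hζ
      rw [Polynomial.map_sub, Polynomial.map_pow, map_X, map_C]
      exact X_pow_sub_C_splits_of_isPrimitiveRoot (hζ.map_of_injective (algebraMap K L).injective) (hx i)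
    · set F := IntermediateField.adjoin K (P.rootSet L)
      have hP0 : P ≠ 0 := Finset.prod_ne_zero_iff.2 fun i _ => X_pow_sub_C_ne_zero (hr i) _
      have hmem : ∀ i, x i ∈ F := fun i => IntermediateField.subset_adjoin _ _ (by
        rw [mem_rootSet]
        refine ⟨hP0, ?_⟩
        rw [hP, map_prod]
        exact Finset.prod_eq_zero (Finset.mem_univ i) (by simp [hx i]))
      let H : AddSubgroup ℤ :=
        { carrier := {z : ℤ | β ^ z ∈ F}
          zero_mem' := by simp [one_mem]
          add_mem' := fun {a b} ha hb => by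
            show β ^ (a + b) ∈ F
            rw [zpow_add₀ hβ0]; exact mul_mem ha hb
          neg_mem' := fun {a} ha => by
            show β ^ (-a) ∈ F
            rw [zpow_neg]; exact inv_mem ha }
      have hlH : (l : ℤ) ∈ H := by
        show β ^ (l : ℤ) ∈ F
        rw [zpow_natCast, hβ]; exact F.algebraMap_mem _
      have hkH : ∀ i, (k i : ℤ) ∈ H := by
        intro i
        have hc0 : algebraMap K L (algebraMap O K (c i)) ≠ 0 := by
          simp only [Ne, map_eq_zero, map_eq_zero_iff _ hinj]
          intro h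
          have := hc i
          rw [h, zero_pow (Nat.one_le_iff_ne_zero.1 (hr i))] at this
          exact (v i).ne_zero this.symm
        have h1 : ((k i * b i : ℕ) : ℤ) ∈ H := by
          show β ^ ((k i * b i : ℕ) : ℤ) ∈ F
          have := mul_mem (inv_mem (F.algebraMap_mem (algebraMap O K (c i)))) (hmem i)
          rwa [hxdef, ← mul_assoc, inv_mul_cancel₀ hc0, one_mul, ← zpow_natCast] at this
        have hbez := Nat.gcd_eq_gcd_ab (r i) (b i)
        rw [(hrb i).gcd_eq_one] at hbez
        push_cast at hbez
        have : (k i : ℤ) = Nat.gcdA (r i) (b i) • (l : ℤ) + Nat.gcdB (r i) (b i) • ((k i * b i : ℕ) : ℤ) := by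
          rw [hk i, smul_eq_mul, smul_eq_mul]; push_cast
          linear_combination (k i : ℤ) * hbez
        rw [this]
        exact add_mem (AddSubgroup.zsmul_mem _ hlH _) (AddSubgroup.zsmul_mem _ h1 _)
      obtain ⟨d, hd⟩ := Int.subgroup_cyclic H
      rw [← AddSubgroup.zmultiples_eq_closure] at hd
      have hdvd : ∀ z ∈ H, d ∣ z := fun z hz => by
        rw [hd] at hz; exact Int.mem_zmultiples_iff.1 hz
      have hd1 : d.natAbs = 1 := by
        have h1 : d.natAbs ∣ l := Int.natCast_dvd_natCast.1 (Int.natAbs_dvd.2 (hdvd _ hlH))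
        obtain ⟨e, he⟩ := h1
        have h2 : l ∣ e := Finset.lcm_dvd fun i _ => by
          obtain ⟨q, hq⟩ := Int.natCast_dvd_natCast.1 (Int.natAbs_dvd.2 (hdvd _ (hkH i)))
          refine ⟨q, ?_⟩
          have hd0 : d.natAbs ≠ 0 := by
            intro h; rw [h, zero_mul] at he; exact hl0 he
          refine Nat.eq_of_mul_eq_mul_left (Nat.pos_of_ne_zero hd0) ?_
          rw [← he, hk i, hq]; ring
        have he0 : e ≠ 0 := by intro h; rw [h, mul_zero] at he; exact hl0 he
        have h3 := Nat.le_of_dvd (Nat.pos_of_ne_zero he0) h2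
        rw [he] at h3
        have hd0 : d.natAbs ≠ 0 := by intro h; rw [h, zero_mul] at he; exact hl0 he
        nlinarith [Nat.pos_of_ne_zero hd0, Nat.pos_of_ne_zero he0]
      have h1H : (1 : ℤ) ∈ H := by
        rw [hd, Int.mem_zmultiples_iff, ← Int.natAbs_dvd, hd1]
        simp
      have hβF : β ∈ F := by simpa using (show β ^ (1 : ℤ) ∈ F from h1H)
      rw [← top_le_iff]
      have htop : IntermediateField.adjoin K {β} = ⊤ :=
        (Field.primitive_element_iff_minpoly_natDegree_eq K β).2 (by
          rw [← minpoly.eq_of_irreducible_of_monic hirr (by simp [hβ]) (monic_X_pow_sub_C _ hl0),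
            natDegree_X_pow_sub_C, hfin])
      rw [← htop]
      exact IntermediateField.adjoin_le_iff.2 (Set.singleton_subset_iff.2 hβF)
  rw [← hfin]
  exact (Polynomial.IsSplittingField.algEquiv L P).toLinearEquiv.finrank_eq.symm

end Groth.Agent.S16052
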