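import Groth.Statements.S16053
import Mathlib
import Groth.Agent.Calg7.TameDVR
import Groth.Agent.Hensel1.Finite
-- import your own Groth.Agent.* helpers here

set_option autoImplicit false
universe u
open Polynomial
open CAlg

namespace Groth.Agent.S16053

/-- Let O be a henselian discrete valuation ring of characteristic zero with algebraically closed
residue field of characteristic p and fraction field K, and let f ∈ O[y] be a monic polynomial of
degree e with 1 ≤ e < p which is Eisenstein at the maximal ideal of O. Then the splitting field of f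
over K has degree e over K and the Galois group of f over K is cyclic. (In the source O is complete,
e = n + 1 and f is the y-part y^{n+1} + u_n ϖ^{a_n} y^{n−1} + ⋯ + u_1 ϖ of an A_n-degeneration
meeting the discriminant transversally; the corollary's conclusion that monodromy acts through a
Coxeter element is not stated here.) -/
theorem result (O : Type u) [CommRing O] [IsDomain O]
    [IsDiscreteValuationRing O] [HenselianLocalRing O] [CharZero O] [IsAlgClosed (IsLocalRing.ResidueField O)]
    (p : ℕ) [Fact p.Prime] [CharP (IsLocalRing.ResidueField O) p]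
    (f : O[X]) (hmon : f.Monic) (e : ℕ) (hdeg : f.natDegree = e) (he : 1 ≤ e) (hep : e < p)
    (hf : f.IsEisensteinAt (IsLocalRing.maximalIdeal O)) :
    Module.finrank (FractionRing O) (f.map (algebraMap O (FractionRing O))).SplittingField = e ∧
      IsCyclic (f.map (algebraMap O (FractionRing O))).Gal := by
  classical
  set K := FractionRing O
  have hinj : Function.Injective (algebraMap O K) := IsFractionRing.injective O K
  obtain ⟨ϖ, hϖ⟩ := IsDiscreteValuationRing.exists_irreducible O
  have hm : IsLocalRing.maximalIdeal O = Ideal.span {ϖ} := hϖ.maximalIdeal_eq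
  have hpe : ¬ p ∣ e := fun h => by have := Nat.le_of_dvd he h; omega
  have heu : IsUnit (e : O) := Groth.Calg7.TameDVR.natCast_isUnit p hpe
  have he0 : e ≠ 0 := Nat.one_le_iff_ne_zero.1 he
  -- coefficients
  have hdvd : ∀ i, i < e → ∃ b, f.coeff i = ϖ * b := fun i hi =>
    Ideal.mem_span_singleton'.1 (hm ▸ hf.mem (hdeg ▸ hi)) |>.imp fun b hb => by rw [← hb, mul_comm]
  choose b hb using hdvd
  set B := fun i : ℕ => if h : i < e then b i h else 0 with hB
  have hbu : IsUnit (B 0) := by
    rw [hB]; simp only [dif_pos (Nat.pos_of_ne_zero he0)]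
    by_contra hcon
    refine hf.notMem ?_
    rw [hb 0 (Nat.pos_of_ne_zero he0), sq]
    refine Ideal.mul_mem_mul ?_ ((IsLocalRing.mem_maximalIdeal _).2 hcon)
    rw [hm]; exact Ideal.mem_span_singleton_self ϖ
  -- the ring O[α]
  let O' := AdjoinRoot f
  let α : O' := AdjoinRoot.root f
  haveI : Module.Finite O O' := hmon.finite_adjoinRoot
  set w : O' := -∑ i ∈ Finset.range e, algebraMap O O' (B i) * α ^ i with hw
  have hαe : α ^ e = algebraMap O O' ϖ * w := by
    have h0 : Polynomial.aeval α f = 0 := (AdjoinRoot.aeval_eq f).trans AdjoinRoot.mk_self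
    rw [Polynomial.aeval_eq_sum_range, hdeg, Finset.sum_range_succ, ← hdeg, hmon.coeff_natDegree,
      one_smul, hdeg] at h0
    rw [hw, mul_neg, Finset.mul_sum, eq_neg_iff_add_eq_zero, add_comm, ← h0]
    congr 1
    refine Finset.sum_congr rfl fun i hi => ?_
    rw [Algebra.smul_def, ← mul_assoc, ← map_mul]
    congr 2
    rw [hB]; simp only [dif_pos (Finset.mem_range.1 hi)]
    exact (hb i _).symm
  have hsplit : ∀ x : O', ∃ (c : O) (y : O'), x = algebraMap O O' c + α * y := by
    intro x
    obtain ⟨g, rfl⟩ := AdjoinRoot.mk_surjective (g := f) x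
    refine ⟨g.coeff 0, AdjoinRoot.mk f g.divX, ?_⟩
    conv_lhs => rw [← X_mul_divX_add g]
    rw [map_add, map_mul, AdjoinRoot.mk_X, AdjoinRoot.mk_C, add_comm]
    rfl
  have hnt : Nontrivial O' := AdjoinRoot.nontrivial _ (by
    rw [degree_eq_natDegree hmon.ne_zero, hdeg]; exact_mod_cast he0)
  have hcomap : ∀ P : Ideal O', P.IsMaximal → P.comap (algebraMap O O') = IsLocalRing.maximalIdeal O ∧ α ∈ P := by
    intro P hP
    haveI : Algebra.IsIntegral O O' := Algebra.IsIntegral.of_finite O O'
    have h1 : P.comap (algebraMap O O') = IsLocalRing.maximalIdeal O :=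
      IsLocalRing.eq_maximalIdeal (Ideal.isMaximal_comap_of_isIntegral_of_isMaximal P)
    refine ⟨h1, hP.isPrime.mem_of_pow_mem e ?_⟩
    rw [hαe]
    refine Ideal.mul_mem_right _ _ ?_
    rw [← Ideal.mem_comap, h1, hm]
    exact Ideal.mem_span_singleton_self ϖ
  haveI : IsLocalRing O' := by
    obtain ⟨P, hP⟩ := Ideal.exists_maximal O'
    refine IsLocalRing.of_unique_max_ideal ⟨P, hP, fun Q hQ => hQ.eq_of_le hP.ne_top ?_⟩
    intro x hx
    obtain ⟨c, y, rfl⟩ := hsplit x
    have hc : c ∈ Q.comap (algebraMap O O') := by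
      rw [Ideal.mem_comap]
      simpa using sub_mem hx (Ideal.mul_mem_right y _ (hcomap Q hQ).2)
    rw [(hcomap Q hQ).1, ← (hcomap P hP).1] at hc
    exact add_mem hc (Ideal.mul_mem_right _ _ (hcomap P hP).2)
  haveI : HenselianLocalRing O' := Groth.Hensel1.henselianLocalRing_of_finite O O'
  have hαm : α ∈ IsLocalRing.maximalIdeal O' := (hcomap _ (IsLocalRing.maximalIdeal.isMaximal O')).2
  obtain ⟨c, hc⟩ := Groth.Calg7.TameDVR.exists_root_unit he0 heu (-B 0) hbu.neg
  have hcu : IsUnit c := by
    refine (isUnit_pow_iff he0).1 ?_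
    rw [hc]; exact hbu.neg
  obtain ⟨a, ha, hac⟩ := Groth.Calg7.TameDVR.exists_root_of_residue (O := O') he0
    (by simpa using heu.map (algebraMap O O')) w (algebraMap O O' c) (hcu.map _) (by
      rw [← map_pow, hc, hw, Finset.range_eq_Ico, Finset.sum_eq_sum_Ico_succ_bot (Nat.pos_of_ne_zero he0),
        pow_zero, mul_one, map_neg, sub_neg_eq_add, neg_add_cancel_left]
      refine Ideal.sum_mem _ fun i hi => Ideal.mul_mem_left _ _ ?_
      exact Ideal.pow_mem_of_mem _ hαm i (by have := (Finset.mem_Ico.1 hi).1; omega))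
  have hau : IsUnit a := by
    by_contra hcon
    have h1 : algebraMap O O' c ∈ IsLocalRing.maximalIdeal O' := by
      simpa using sub_mem ((IsLocalRing.mem_maximalIdeal a).2 hcon) hac
    exact (IsLocalRing.mem_maximalIdeal _).1 h1 (hcu.map _)
  -- the field
  set fK := f.map (algebraMap O K) with hfK
  have hfirr : Irreducible fK := (Monic.irreducible_iff_irreducible_map_fraction_map (K := K) hmon).1
    (hf.irreducible (IsLocalRing.maximalIdeal.isMaximal O).isPrime hmon.isPrimitive (by omega))
  haveI := Fact.mk hfirr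
  let L := AdjoinRoot fK
  let θ : O' →+* L := AdjoinRoot.map (algebraMap O K) f fK dvd_rfl
  have hθα : θ α = AdjoinRoot.root fK := AdjoinRoot.map_root _ _ _ _
  have hθc : ∀ x : O, θ (algebraMap O O' x) = algebraMap K L (algebraMap O K x) := fun x => by
    simp [θ, O', L, AdjoinRoot.algebraMap_eq]
  set γ : L := AdjoinRoot.root fK * (θ a)⁻¹ with hγdef
  have hγ : γ ^ e = algebraMap K L (algebraMap O K ϖ) := by
    have h1 := congrArg θ hαe
    rw [map_pow, hθα, map_mul, hθc, ← ha, map_pow] at h1
    have h2 : θ a ≠ 0 := (hau.map θ).ne_zero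
    rw [hγdef, mul_pow, h1, inv_pow, mul_assoc, mul_inv_cancel₀ (pow_ne_zero _ h2), mul_one]
  have hLrk : Module.finrank K L = e := by
    rw [(AdjoinRoot.powerBasis hfirr.ne_zero).finrank, AdjoinRoot.powerBasis_dim, hfK,
      natDegree_map_eq_of_injective hinj, hdeg]
  haveI : FiniteDimensional K L := (AdjoinRoot.powerBasis hfirr.ne_zero).finite
  have hroots := Groth.Calg7.TameDVR.primitiveRoots_nonempty K he0 heu
  have hirr := Groth.Calg7.TameDVR.irreducible_X_pow_sub_uniformizer hϖ he0 K
  have htop : IntermediateField.adjoin K {γ} = ⊤ :=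
    (Field.primitive_element_iff_minpoly_natDegree_eq K γ).2 (by
      rw [← minpoly.eq_of_irreducible_of_monic hirr (by simp [hγ]) (monic_X_pow_sub_C _ he0),
        natDegree_X_pow_sub_C, hLrk])
  haveI hS : Polynomial.IsSplittingField K L ((X : K[X]) ^ e - C (algebraMap O K ϖ)) :=
    hLrk ▸ isSplittingField_X_pow_sub_C_of_root_adjoin_eq_top (hLrk.symm ▸ hroots) (hLrk.symm ▸ hγ) htop
  haveI := isGalois_of_isSplittingField_X_pow_sub_C hroots hirr L
  haveI : NeZero e := ⟨he0⟩
  have hcyc : IsCyclic (L ≃ₐ[K] L) := isCyclic_of_isSplittingField_X_pow_sub_C hroots hirr L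
  have hfKm : fK.Monic := hmon.map _
  haveI hS' : Polynomial.IsSplittingField K L fK := by
    refine ⟨?_, ?_⟩
    · have := Normal.splits (inferInstance : Normal K L) (AdjoinRoot.root fK)
      rwa [← minpoly.eq_of_irreducible_of_monic hfirr ((AdjoinRoot.aeval_eq fK).trans AdjoinRoot.mk_self) hfKm] at this
    · rw [← top_le_iff, ← AdjoinRoot.adjoinRoot_eq_top (f := fK)]
      refine Algebra.adjoin_mono (Set.singleton_subset_iff.2 ?_)
      exact mem_rootSet.2 ⟨hfirr.ne_zero, ((AdjoinRoot.aeval_eq fK).trans AdjoinRoot.mk_self)⟩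
  let φ := Polynomial.IsSplittingField.algEquiv L fK
  refine ⟨?_, ?_⟩
  · rw [← φ.toLinearEquiv.finrank_eq, hLrk]
  · exact isCyclic_of_surjective (AlgEquiv.autCongr φ) (AlgEquiv.autCongr φ).surjective

end Groth.Agent.S16053
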