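import Groth.Statements.S16057
import Groth.Agent.GrMod.ReesSerre

set_option autoImplicit false
universe u
open GrLC

namespace Groth.Agent.S16057

/-- Let A be a Noetherian local ring with maximal ideal m, and I an ideal of A whose radical is m (an
m-primary ideal), and M a finitely generated A-module; let R(I) = ⊕_{n ≥ 0} Iⁿ Xⁿ ⊆ A[X] be the Rees
algebra, graded by the powers of X, with irrelevant ideal R(I)_+ = ⊕_{n ≥ 1} Iⁿ Xⁿ, and M* = ⊕_{n ≥
0} IⁿM Xⁿ the Rees module of M, a graded R(I)-module; let P ∈ ℚ[t] be the Hilbert–Samuel polynomial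
of M with respect to I, that is, P(n) = ℓ_A(M/IⁿM) for all sufficiently large n. Then for every
integer n ≥ 0, writing H^i_{R(I)_+}(M*)_n for the degree-n homogeneous piece of the i-th graded
local cohomology module of M* with support in R(I)_+ (computed from any *injective resolution of M*
in the category of graded R(I)-modules), a module over R(I)_0 = A: each H^i_{R(I)_+}(M*)_n has
finite length, only finitely many of them are nonzero, and P(n) − ℓ_A(M/IⁿM) = Σ_{i ≥ 0} (−1)^i
ℓ(H^i_{R(I)_+}(M*)_n). -/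
theorem result (A : Type u) [CommRing A]
    [IsNoetherianRing A] [IsLocalRing A] (I : Ideal A) (hI : I.radical = IsLocalRing.maximalIdeal A)
    (M : Type u) [AddCommGroup M] [Module A M] [Module.Finite A M] (P : Polynomial ℚ)
    (hP : ∃ N : ℕ, ∀ n : ℕ, N ≤ n →
      P.eval (n : ℚ) = ((Module.length A (M ⧸ (I ^ n • (⊤ : Submodule A M)))).toNat : ℚ))
    (E : GrLC.StarInjRes (Rees.degZ (reesAlgebra I)) (Rees.mdegZ (Rees.powFilt I M))) (n : ℕ) :
    (∀ i : ℕ, IsFiniteLength (GrLC.deg0 (Rees.degZ (reesAlgebra I))) (E.Hcomp (GrSyz.irrel (Rees.degZ (reesAlgebra I))) i (n : ℤ))) ∧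
      Set.Finite {i : ℕ | E.Hcomp (GrSyz.irrel (Rees.degZ (reesAlgebra I))) i (n : ℤ) ≠ ⊥} ∧
      P.eval (n : ℚ) - ((Module.length A (M ⧸ (I ^ n • (⊤ : Submodule A M)))).toNat : ℚ) =
        finsum (fun i : ℕ => (-1 : ℚ) ^ i *
          ((Module.length (GrLC.deg0 (Rees.degZ (reesAlgebra I))) (E.Hcomp (GrSyz.irrel (Rees.degZ (reesAlgebra I))) i (n : ℤ))).toNat : ℚ)) := by
  classical
  let E' : StarInjRes (GrothGr.ReesParts.GR I) (GrothGr.ReesParts.MG I M) :=
    GrothGr.resAgr (Rees.degZ (reesAlgebra I)) E (GrothGr.ReesParts.MG I M) fun _ _ h => h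
  obtain ⟨K, hK, hmain⟩ := GrothGr.ReesParts.sub_length_eq hI P hP E'
  obtain ⟨hfin, heq⟩ := hmain n
  have hK' : ∀ i, K < i → E.Hcomp (GrSyz.irrel (Rees.degZ (reesAlgebra I))) i (n : ℤ) = ⊥ := fun i hi => by
    exact hK i (n : ℤ) hi
  refine ⟨fun i => Module.length_ne_top_iff.1 (hfin i), (Set.finite_Iic K).subset fun i hi => ?_, ?_⟩
  · by_contra hcon
    exact hi (hK' i (lt_of_not_ge hcon))
  · rw [heq, finsum_eq_finsetSum_of_support_subset (s := Finset.range (K + 1))]
    · simp only [GrothGr.chiH]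
      push_cast
      rfl
    · intro i hi
      simp only [Finset.coe_range, Set.mem_Iio]
      by_contra hcon
      refine hi ?_
      show (-1 : ℚ) ^ i * _ = 0
      rw [hK' i (by omega), Module.length_bot]
      simp


end Groth.Agent.S16057
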