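import Groth.Statements.S16058
import Mathlib
import Groth.Agent.Calg7.ExtReesSk
import Groth.Agent.MiscGeom.SkDualModule
import Groth.Agent.Calg1.SerreConditions
-- import your own Groth.Agent.* helpers here

set_option autoImplicit false
universe u
open FiltBl

namespace Groth.Agent.S16058

section Helpers

open IsLocalRing LaurentPolynomial Groth.Ega4b RingTheory.Sequence

private theorem skLoc_of_birational {R S : Type u} [CommRing R] [CommRing S] (n : ℕ) (ι : R →+* S)
    (hι : Function.Injective ι) (c : R) (hc : ∀ x : S, ∃ k : ℕ, ∃ r : R, ι r = ι c ^ k * x)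
    (hS : ∀ (Q : Ideal S) [Q.IsPrime], SkLoc n (Localization.AtPrime Q))
    (P : Ideal R) [P.IsPrime] (hcP : c ∉ P) : SkLoc n (Localization.AtPrime P) := by
  let L := Localization.Away (ι c)
  letI : Algebra R L := ((algebraMap S L).comp ι).toAlgebra
  haveI : IsLocalization.Away c L := by
    constructor
    refine ⟨?_, ?_, ?_⟩
    · rintro ⟨_, k, rfl⟩
      show IsUnit (algebraMap S L (ι (c ^ k)))
      rw [map_pow]
      exact IsLocalization.map_units L (⟨ι c ^ k, k, rfl⟩ : Submonoid.powers (ι c))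
    · intro z
      obtain ⟨⟨x, ⟨_, m, rfl⟩⟩, hz⟩ := IsLocalization.surj (Submonoid.powers (ι c)) z
      obtain ⟨k, r, hr⟩ := hc x
      refine ⟨⟨r, ⟨c ^ (k + m), k + m, rfl⟩⟩, ?_⟩
      show z * algebraMap S L (ι (c ^ (k + m))) = algebraMap S L (ι r)
      simp only at hz
      rw [hr, map_mul, ← hz, map_pow ι c, pow_add, map_mul]
      ring
    · intro x y h
      obtain ⟨⟨_, k, rfl⟩, hk⟩ := IsLocalization.exists_of_eq (M := Submonoid.powers (ι c))
        (show algebraMap S L (ι x) = algebraMap S L (ι y) from h)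
      refine ⟨⟨c ^ k, k, rfl⟩, hι ?_⟩
      rw [map_mul, map_mul, map_pow]
      exact hk
  have hdisj : Disjoint (Submonoid.powers c : Set R) (P : Set R) := by
    refine Set.disjoint_left.2 ?_
    rintro _ ⟨k, rfl⟩ hk
    exact hcP (‹P.IsPrime›.mem_of_pow_mem k hk)
  haveI : (P.map (algebraMap R L)).IsPrime :=
    IsLocalization.isPrime_of_isPrime_disjoint (Submonoid.powers c) _ P inferInstance hdisj
  obtain ⟨e₁⟩ := Calg7.ExtRees.nonempty_equiv_of_isLocalization (Submonoid.powers c) (P.map (algebraMap R L))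
  obtain ⟨e₂⟩ := Calg7.ExtRees.nonempty_equiv_of_isLocalization (Submonoid.powers (ι c)) (P.map (algebraMap R L))
  haveI := Ideal.IsPrime.comap (K := P.map (algebraMap R L)) (algebraMap S L)
  exact Calg7.ExtRees.skLoc_congr n
    (IsLocalization.comap_map_of_isPrime_disjoint (Submonoid.powers c) _ ‹P.IsPrime› hdisj)
    ((skLoc_of_ringEquiv (e₂.trans e₁.symm)).1 (hS _))

open Pointwise in
private theorem exists_regular_mod {R : Type u} [CommRing R] [IsNoetherianRing R] (J : Ideal R) (c : R)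
    (hc : IsSMulRegular R c) (hcJ : c ∈ J) (hd : ((2 : ℕ) : ℕ∞) ≤ LocCoh.idealDepth J R) :
    ∃ t ∈ J, ∀ g : R, t * g ∈ Ideal.span {c} → g ∈ Ideal.span {c} := by
  by_cases hJtop : J = ⊤
  · exact ⟨1, hJtop ▸ trivial, fun g hg => by rwa [one_mul] at hg⟩
  have hJne : J • (⊤ : Submodule R R) ≠ ⊤ := by simpa using hJtop
  rw [← Groth.LocCohBase.idealDepth_quotSMulTop_add_one J R hJne hcJ hc] at hd
  have hd' : ((1 : ℕ) : ℕ∞) ≤ LocCoh.idealDepth J (QuotSMulTop c R) := by
    rw [show ((2 : ℕ) : ℕ∞) = ((1 : ℕ) : ℕ∞) + 1 from by norm_num,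
      ENat.add_le_add_iff_right ENat.one_ne_top] at hd
    exact hd
  have hspan : c • (⊤ : Submodule R R) = Ideal.span {c} := by
    rw [← Submodule.ideal_span_singleton_smul, smul_eq_mul, Ideal.mul_top]
  by_cases hqt : J • (⊤ : Submodule R (QuotSMulTop c R)) = ⊤
  · exfalso
    apply hJtop
    have hle : Ideal.span {c} ≤ J := (Ideal.span_singleton_le_iff_mem _).2 hcJ
    rw [Ideal.eq_top_iff_one]
    have h1 : (Submodule.Quotient.mk (1 : R) : QuotSMulTop c R) ∈
        J • (⊤ : Submodule R (QuotSMulTop c R)) := by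
      rw [hqt]; trivial
    rw [← Submodule.range_mkQ, ← Submodule.map_top, ← Submodule.map_smul''] at h1
    obtain ⟨y, hy, hy1⟩ := h1
    have h2 : y - 1 ∈ Ideal.span {c} := by
      have := (Submodule.Quotient.eq _).1 hy1
      rwa [hspan] at this
    rw [smul_eq_mul, Ideal.mul_top] at hy
    simpa using sub_mem hy (hle h2)
  obtain ⟨rs, hlen, hreg, hmem⟩ := (Groth.LocCohBase.le_idealDepth_iff_exists J hqt 1).1 hd'
  obtain ⟨t, rfl⟩ := List.length_eq_one_iff.1 hlen
  refine ⟨t, hmem t (by simp), fun g hg => ?_⟩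
  have h2 := (isSMulRegular_quotient_iff_mem_of_smul_mem _ t).1
    ((isWeaklyRegular_singleton_iff _ t).1 hreg) g
  rw [hspan] at h2
  exact h2 hg

private theorem exists_mem_regular_quot {R : Type u} [CommRing R] [IsNoetherianRing R] (P : Ideal R) (c : R)
    (hdvd : ∀ f : R, (∀ g ∈ P, g * f ∈ Ideal.span {c}) → f ∈ Ideal.span {c}) :
    ∃ t ∈ P, IsSMulRegular (R ⧸ Ideal.span {c}) t := by
  classical
  by_contra hno
  push Not at hno
  have hsub : (P : Set R) ⊆ ⋃ Q ∈ associatedPrimes R (R ⧸ Ideal.span {c}), Q := by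
    rw [biUnion_associatedPrimes_eq_compl_regular]
    exact fun g hg => hno g hg
  have hfin := associatedPrimes.finite R (R ⧸ Ideal.span {c})
  rw [show (⋃ Q ∈ associatedPrimes R (R ⧸ Ideal.span {c}), (Q : Set R))
    = ⋃ Q ∈ (hfin.toFinset : Set (Ideal R)), (Q : Set R) by simp,
    Ideal.subset_union_prime ⊥ ⊥ (fun Q hQ _ _ => ((Set.Finite.mem_toFinset hfin).1 hQ).isPrime)] at hsub
  obtain ⟨Q, hQ, hPQ⟩ := hsub
  obtain ⟨hQp, x, hx⟩ :=
    (isAssociatedPrime_iff_exists_injective_linearMap Q _).1 ((Set.Finite.mem_toFinset hfin).1 hQ)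
  obtain ⟨f, hf⟩ := Ideal.Quotient.mk_surjective (x (Submodule.Quotient.mk 1))
  have h1 : f ∈ Ideal.span {c} := hdvd f fun g hg => by
    rw [← Ideal.Quotient.eq_zero_iff_mem]
    have : g • x (Submodule.Quotient.mk 1) = 0 := by
      rw [← map_smul, ← Submodule.Quotient.mk_smul, smul_eq_mul, mul_one,
        (Submodule.Quotient.mk_eq_zero Q).2 (hPQ hg), map_zero]
    rw [← hf] at this
    exact this
  rw [Ideal.Quotient.eq_zero_iff_mem.2 h1] at hf
  exact hQp.ne_top ((Ideal.eq_top_iff_one _).2 ((Submodule.Quotient.mk_eq_zero Q).1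
    (hx (hf.symm.trans (map_zero x).symm))))

open Pointwise in
private theorem two_le_depth_atPrime {R : Type u} [CommRing R] [IsNoetherianRing R] (P : Ideal R) [P.IsPrime]
    (c t : R) (hc : IsSMulRegular R c) (ht : IsSMulRegular (R ⧸ Ideal.span {c}) t) (hcP : c ∈ P) (htP : t ∈ P) :
    ((2 : ℕ) : ℕ∞) ≤ LocCoh.depth (Localization.AtPrime P) (Localization.AtPrime P) := by
  have hspan : c • (⊤ : Submodule R R) = Ideal.span {c} := by
    rw [← Submodule.ideal_span_singleton_smul, smul_eq_mul, Ideal.mul_top]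
  have hseq : IsWeaklyRegular R [c, t] :=
    (isWeaklyRegular_cons_iff _ _ _).2 ⟨hc, (isWeaklyRegular_singleton_iff _ _).2
      (((Submodule.quotEquivOfEq _ _ hspan).isSMulRegular_congr t).2 ht)⟩
  haveI : IsNoetherianRing (Localization.AtPrime P) :=
    IsLocalization.isNoetherianRing P.primeCompl _ inferInstance
  have hseq' := hseq.of_isLocalization (Localization.AtPrime P) P.primeCompl
  have hne : maximalIdeal (Localization.AtPrime P) •
      (⊤ : Submodule (Localization.AtPrime P) (Localization.AtPrime P)) ≠ ⊤ := by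
    simpa using (maximalIdeal.isMaximal (Localization.AtPrime P)).ne_top
  refine (Groth.LocCohBase.le_idealDepth_iff_exists _ hne 2).2 ⟨_, rfl, hseq', fun r hr => ?_⟩
  simp only [List.map_cons, List.map_nil, List.mem_cons, List.not_mem_nil, or_false] at hr
  rcases hr with rfl | rfl
  · exact (IsLocalization.AtPrime.to_map_mem_maximal_iff (Localization.AtPrime P) P _).2 hcP
  · exact (IsLocalization.AtPrime.to_map_mem_maximal_iff (Localization.AtPrime P) P _).2 htP

variable {A : Type u} [CommRing A] (𝓕 : IdealFiltration A)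

private theorem pow_mem_F {a : A} (ha : a ∈ 𝓕.F 1) : ∀ k : ℕ, a ^ k ∈ 𝓕.F k
  | 0 => by rw [𝓕.zero_eq]; trivial
  | k + 1 => by
    rw [pow_succ]
    exact 𝓕.mul_le k 1 (Ideal.mul_mem_mul (pow_mem_F ha k) ha)

private theorem coeff_toLaurent' (f : Polynomial A) (k : ℕ) :
    (Polynomial.toLaurent f).coeff (k : ℤ) = f.coeff k := by
  rw [LaurentPolynomial.coeff_toLaurent]
  exact Finsupp.mapDomain_apply (f := fun k : ℕ => (k : ℤ)) Nat.cast_injective _ k

private theorem coeff_toLaurent_neg (f : Polynomial A) {i : ℤ} (hi : i < 0) :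
    (Polynomial.toLaurent f).coeff i = 0 := by
  rw [LaurentPolynomial.coeff_toLaurent]
  exact Finsupp.mapDomain_notin_range _ _ (by
    rintro ⟨k, rfl⟩
    change (k : ℤ) < 0 at hi
    omega)

/-- The inclusion of the Rees algebra in the extended one. -/
private noncomputable def incl : 𝓕.rees →ₐ[A] 𝓕.extRees :=
  AlgHom.codRestrict (Polynomial.toLaurentAlg.comp 𝓕.rees.val) 𝓕.extRees fun f m => by
    show (Polynomial.toLaurent (f : Polynomial A)).coeff m ∈ _
    by_cases hm : m < 0
    · rw [coeff_toLaurent_neg _ hm]; exact zero_mem _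
    · obtain ⟨k, rfl⟩ := Int.eq_ofNat_of_zero_le (not_lt.1 hm)
      rw [coeff_toLaurent', Int.toNat_natCast]
      exact f.2 k

private theorem incl_injective : Function.Injective (incl 𝓕) := fun _ _ h =>
  Subtype.ext (Polynomial.toLaurent_injective (congrArg Subtype.val h))

private theorem exists_incl (x : 𝓕.extRees) (h : ∀ i : ℤ, i < 0 → (x : A[T;T⁻¹]).coeff i = 0) :
    ∃ f : 𝓕.rees, incl 𝓕 f = x := by
  obtain ⟨n, g, hg⟩ := (x : A[T;T⁻¹]).exists_T_pow
  have hdvd : (Polynomial.X : Polynomial A) ^ n ∣ g := by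
    rw [Polynomial.X_pow_dvd_iff]
    intro d hd
    rw [← coeff_toLaurent', hg, T, AddMonoidAlgebra.coeff_mul_single_eq_coeff_mul ((d : ℤ) - n)
      (fun x _ => by constructor <;> intro e <;> omega), h _ (by omega), zero_mul]
  obtain ⟨f, rfl⟩ := hdvd
  have hf : Polynomial.toLaurent f = (x : A[T;T⁻¹]) := by
    rw [map_mul, Polynomial.toLaurent_X_pow, mul_comm] at hg
    exact (isUnit_T _).mul_right_cancel hg
  refine ⟨⟨f, fun k => ?_⟩, Subtype.ext hf⟩
  have := x.2 (k : ℤ)
  rwa [← hf, coeff_toLaurent', Int.toNat_natCast] at this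

variable [IsNoetherianRing A] (hA : LocCoh.HasSk 2 A A)

include hA in
/-- Off `V(F 1)` the Rees algebra is the polynomial ring. -/
private theorem skLoc_of_notMem_F_one (P : Ideal 𝓕.rees) [P.IsPrime] {s : A} (hs : s ∈ 𝓕.F 1)
    (hsP : algebraMap A 𝓕.rees s ∉ P) : SkLoc 2 (Localization.AtPrime P) := by
  refine skLoc_of_birational 2 𝓕.rees.val.toRingHom Subtype.val_injective (algebraMap A 𝓕.rees s)
    (fun g => ?_) ((hasSk_self_iff 2 _).1 (Calg7.ExtRees.hasSk_polynomial 2 A hA)) P hsP
  refine ⟨g.natDegree, ⟨(Polynomial.C s) ^ g.natDegree * g, fun i => ?_⟩, rfl⟩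
  rw [← map_pow, Polynomial.coeff_C_mul]
  by_cases hi : i ≤ g.natDegree
  · exact Ideal.mul_mem_right _ _ (𝓕.antitone hi (pow_mem_F 𝓕 hs _))
  · rw [Polynomial.coeff_eq_zero_of_natDegree_lt (not_le.1 hi), mul_zero]
    exact zero_mem _

private theorem skLoc_of_notMem_positive (hR : LocCoh.HasSk 2 𝓕.extRees 𝓕.extRees) (P : Ideal 𝓕.rees)
    [P.IsPrime] {m : ℕ} (hm : 0 < m) (c : 𝓕.rees) (a : A)
    (hc : (c : Polynomial A) = Polynomial.monomial m a) (hcP : c ∉ P) : SkLoc 2 (Localization.AtPrime P) := by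
  classical
  refine skLoc_of_birational 2 (incl 𝓕).toRingHom (incl_injective 𝓕) c (fun x => ?_)
    ((hasSk_self_iff 2 _).1 hR) P hcP
  obtain ⟨k, hk⟩ : ∃ k : ℕ, ∀ i ∈ (x : A[T;T⁻¹]).coeff.support, -i ≤ (k : ℤ) :=
    ⟨(x : A[T;T⁻¹]).coeff.support.sup fun i => (-i).toNat, fun i hi => by
      have : (-i).toNat ≤ (x : A[T;T⁻¹]).coeff.support.sup fun i => (-i).toNat :=
        Finset.le_sup (f := fun i : ℤ => (-i).toNat) hi
      omega⟩
  obtain ⟨f, hf⟩ := exists_incl 𝓕 ((incl 𝓕).toRingHom c ^ k * x) fun i hi => by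
    show (((incl 𝓕 c : 𝓕.extRees) ^ k * x : 𝓕.extRees) : A[T;T⁻¹]).coeff i = 0
    rw [Subalgebra.coe_mul, SubmonoidClass.coe_pow]
    show ((Polynomial.toLaurent (c : Polynomial A)) ^ k * (x : A[T;T⁻¹])).coeff i = 0
    rw [hc, ← map_pow, Polynomial.monomial_pow, Polynomial.toLaurent_C_mul_T, ← single_eq_C_mul_T,
      AddMonoidAlgebra.coeff_single_mul_eq_mul_coeff (i - ((m * k : ℕ) : ℤ))
        (fun x _ => by constructor <;> intro e <;> omega)]
    by_cases hi' : i - ((m * k : ℕ) : ℤ) ∈ (x : A[T;T⁻¹]).coeff.support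
    · exfalso
      have := hk _ hi'
      have : k ≤ m * k := Nat.le_mul_of_pos_left k hm
      omega
    · rw [Finsupp.notMem_support_iff.1 hi', mul_zero]
  exact ⟨k, f, hf⟩

end Helpers


set_option maxHeartbeats 1600000 in
/-- Let A be a Noetherian local ring that is a quotient of a Gorenstein ring, and F a filtration of
ideals on A (F^0 = A ⊇ F^1 ⊇ ⋯, F^i F^j ⊆ F^{i+j}) with every F^n nonzero and ⋂ F^n = 0, whose Rees
algebra R = ⊕_{n ≥ 0} F^n T^n ⊆ A[T] is finitely generated over A and with F^1 of height at least 2.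
If the extended Rees algebra R' = ⊕_{n ∈ ℤ} F^n T^n ⊆ A[T, T⁻¹] (F^n = A for n < 0) satisfies
Serre's condition (S_2), then R satisfies (S_2) as well. (The converse fails. The published
statement is made under the further standing assumption that no nonzero element of R is annihilated
by a power of the ideal generated by its homogeneous elements of positive degree; under the present
hypothesis that assumption holds automatically, since (S_2) for R' forces (S_2) for A, so that F^1,
of height at least 2, contains a nonzerodivisor of A.) -/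
theorem result (A : Type u) [CommRing A] [IsNoetherianRing A] [IsLocalRing A]
    (S : Type u) [CommRing S] [LocCoh.IsGorensteinRing S] (π : S →+* A) (hπ : Function.Surjective π)
    (𝓕 : FiltBl.IdealFiltration A) (hne : ∀ n, 𝓕.F n ≠ ⊥) (hsep : ⨅ n, 𝓕.F n = ⊥)
    (hfg : Algebra.FiniteType A 𝓕.rees) (hht : 2 ≤ (𝓕.F 1).height)
    (h : LocCoh.HasSk 2 𝓕.extRees 𝓕.extRees) : LocCoh.HasSk 2 𝓕.rees 𝓕.rees := by
  classical
  haveI := hfg
  haveI : IsNoetherianRing 𝓕.rees := Algebra.FiniteType.isNoetherianRing A _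
  haveI := Calg7.ExtRees.isNoetherianRing 𝓕 hfg
  have hA : LocCoh.HasSk 2 A A := ((Calg7.ExtRees.hasSk_two_iff 𝓕 hfg).1 h).2
  rw [Groth.Ega4b.hasSk_self_iff]
  intro P _
  by_cases hpos : ∀ (m : ℕ) (c : 𝓕.rees) (a : A), 0 < m →
      (c : Polynomial A) = Polynomial.monomial m a → c ∈ P
  swap
  · push Not at hpos
    obtain ⟨m, c, a, hm, hc, hcP⟩ := hpos
    exact skLoc_of_notMem_positive 𝓕 h P hm c a hc hcP
  by_cases hF : ∀ s ∈ 𝓕.F 1, algebraMap A 𝓕.rees s ∈ P
  swap
  · push Not at hF
    obtain ⟨s, hs, hsP⟩ := hF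
    exact skLoc_of_notMem_F_one 𝓕 hA P hs hsP
  set q := P.comap (algebraMap A 𝓕.rees) with hq
  have hF1ne : 𝓕.F 1 ≠ ⊤ := fun e => ‹P.IsPrime›.ne_top ((Ideal.eq_top_iff_one _).2 (by
    have := hF 1 (e ▸ trivial)
    rwa [map_one] at this))
  -- a regular element of `F 1`
  obtain ⟨s, hsF, hs⟩ : ∃ s ∈ 𝓕.F 1, IsSMulRegular A s := by
    have h1 : ((1 : ℕ) : ℕ∞) ≤ LocCoh.idealDepth (𝓕.F 1) A :=
      Groth.MiscGeom.QGor.le_idealDepth_of_hasSk (𝓕.F 1) 1 (Groth.Calg1.hasSk_of_le (by norm_num) hA)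
        (le_trans (by norm_num) hht)
    obtain ⟨rs, hlen, hreg, hmem⟩ :=
      (Groth.LocCohBase.le_idealDepth_iff_exists (𝓕.F 1) (by simpa using hF1ne) 1).1 h1
    obtain ⟨s, rfl⟩ := List.length_eq_one_iff.1 hlen
    exact ⟨s, hmem s (by simp), (RingTheory.Sequence.isWeaklyRegular_singleton_iff A s).1 hreg⟩
  set cR : 𝓕.rees := algebraMap A 𝓕.rees s
  have hcval : ((incl 𝓕 cR : 𝓕.extRees) : LaurentPolynomial A) = algebraMap A (LaurentPolynomial A) s := by
    rw [(incl 𝓕).commutes]
    rfl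
  have hsmul : ∀ (y : LaurentPolynomial A) (i : ℤ),
      (algebraMap A (LaurentPolynomial A) s * y).coeff i = s * y.coeff i := fun y i => by
    rw [← Algebra.smul_def, AddMonoidAlgebra.coeff_smul, Finsupp.smul_apply, smul_eq_mul]
  have hcregL : IsSMulRegular 𝓕.extRees (incl 𝓕 cR) := fun x y hxy => by
    refine Subtype.ext (AddMonoidAlgebra.ext (Finsupp.ext fun i => hs ?_))
    have h1 := congrArg (fun z : 𝓕.extRees => (z : LaurentPolynomial A).coeff i) hxy
    simp only [smul_eq_mul, Subalgebra.coe_mul, hcval, hsmul] at h1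
    exact h1
  have hcreg : IsSMulRegular 𝓕.rees cR := fun x y hxy => incl_injective 𝓕 (hcregL (by
    have h1 : incl 𝓕 (cR * x) = incl 𝓕 (cR * y) := congrArg _ hxy
    rwa [map_mul, map_mul] at h1))
  -- the extended ideal
  set J : Ideal 𝓕.extRees := P.map (incl 𝓕).toRingHom with hJ
  have hqF : 𝓕.F 1 ≤ q := fun a ha => hF a ha
  have hht' : ((2 : ℕ) : ℕ∞) ≤ J.height := by
    rw [Ideal.height_eq_inf_minimalPrimes, le_iInf_iff]
    intro Q
    rw [le_iInf_iff]
    intro hQ
    haveI := hQ.1.1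
    set q' := Q.comap (algebraMap A 𝓕.extRees) with hq'
    have hqq' : q ≤ q' := fun a ha => by
      have h1 : (incl 𝓕).toRingHom (algebraMap A 𝓕.rees a) ∈ Q := hQ.1.2 (Ideal.mem_map_of_mem _ ha)
      show algebraMap A 𝓕.extRees a ∈ Q
      rw [← (incl 𝓕).commutes]
      exact h1
    have hcomp : ∀ (f : 𝓕.extRees) (q₀ : Ideal A), q₀ ≤ q' →
        (∀ i, (f : LaurentPolynomial A).coeff i ∈ q₀) → f ∈ Q := by
      intro f q₀ hq₀ hf
      suffices h : ∀ t : Finset ℤ, ∃ g ∈ Q, ((g : 𝓕.extRees) : LaurentPolynomial A)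
          = ∑ i ∈ t, AddMonoidAlgebra.single i ((f : LaurentPolynomial A).coeff i) by
        obtain ⟨g, hg, hgf⟩ := h (f : LaurentPolynomial A).coeff.support
        rwa [show f = g from Subtype.ext
          ((AddMonoidAlgebra.sum_coeff_single (f : LaurentPolynomial A)).symm.trans hgf.symm)]
      intro t
      induction t using Finset.induction_on with
      | empty => exact ⟨0, zero_mem _, by simp⟩
      | insert i t hi ih =>
        obtain ⟨g, hg, hgt⟩ := ih
        suffices ∃ g' ∈ Q, ((g' : 𝓕.extRees) : LaurentPolynomial A)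
            = AddMonoidAlgebra.single i ((f : LaurentPolynomial A).coeff i) by
          obtain ⟨g', hg', hgi⟩ := this
          exact ⟨g' + g, add_mem hg' hg, by rw [Subalgebra.coe_add, hgi, hgt, Finset.sum_insert hi]⟩
        rcases le_or_gt i 0 with h0 | h0
        · obtain ⟨k, rfl⟩ : ∃ k : ℕ, i = -(k : ℤ) := ⟨(-i).toNat, by omega⟩
          refine ⟨algebraMap A 𝓕.extRees ((f : LaurentPolynomial A).coeff (-(k : ℤ))) * 𝓕.u ^ k,
            Ideal.mul_mem_right _ _ (hq₀ (hf _)), ?_⟩
          rw [Subalgebra.coe_mul, SubmonoidClass.coe_pow]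
          show LaurentPolynomial.C _ * LaurentPolynomial.T (-1) ^ k = _
          rw [LaurentPolynomial.T_pow, LaurentPolynomial.single_eq_C_mul_T, mul_neg_one]
        · obtain ⟨k, rfl⟩ := Int.eq_ofNat_of_zero_le h0.le
          have hk : (f : LaurentPolynomial A).coeff (k : ℤ) ∈ 𝓕.F k := by simpa using f.2 (k : ℤ)
          have hmem : Polynomial.monomial k ((f : LaurentPolynomial A).coeff (k : ℤ)) ∈ 𝓕.rees := fun j => by
            rw [Polynomial.coeff_monomial]
            split_ifs with hj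
            · subst hj; exact hk
            · exact zero_mem _
          refine ⟨(incl 𝓕).toRingHom ⟨_, hmem⟩, hQ.1.2 (Ideal.mem_map_of_mem _
            (hpos k ⟨_, hmem⟩ _ (by exact_mod_cast h0) rfl)), ?_⟩
          show Polynomial.toLaurent (Polynomial.monomial k _) = _
          rw [Polynomial.toLaurent_C_mul_T, LaurentPolynomial.single_eq_C_mul_T]
    -- a chain of length two below `Q`
    haveI : q'.IsPrime := Ideal.IsPrime.comap _
    have hq2 : ((2 : ℕ) : ℕ∞) ≤ q'.height := hht.trans (Ideal.height_mono (hqF.trans hqq'))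
    by_contra hlt
    have hnot : ¬ q'.height ≤ ((1 : ℕ) : ℕ∞) := fun h1 => by
      have := hq2.trans h1
      norm_num at this
    rw [Ideal.height_le_iff] at hnot
    push Not at hnot
    obtain ⟨q₁, hq₁, hlt₁, hge₁⟩ := hnot
    haveI := hq₁
    have hnot' : ¬ q₁.height ≤ ((0 : ℕ) : ℕ∞) := fun h1 => by
      have := hge₁.trans h1
      norm_num at this
    rw [Ideal.height_le_iff] at hnot'
    push Not at hnot'
    obtain ⟨q₀, hq₀, hlt₀, -⟩ := hnot'
    haveI := hq₀
    have mk : ∀ (r : Ideal A), r.IsPrime → ∃ R : Ideal 𝓕.extRees, R.IsPrime ∧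
        (∀ f, f ∈ R → ∀ i, (f : LaurentPolynomial A).coeff i ∈ r) ∧
        (∀ f : 𝓕.extRees, (∀ i, (f : LaurentPolynomial A).coeff i ∈ r) → f ∈ R) ∧
          R.comap (algebraMap A 𝓕.extRees) = r := by
      intro r hr
      haveI := hr
      set r₀ : Ideal (Polynomial A) := r.map Polynomial.C with hr₀
      haveI hr₀p : r₀.IsPrime := Ideal.isPrime_map_C_of_isPrime
      have hdisj : Disjoint (Submonoid.powers (Polynomial.X : Polynomial A) : Set (Polynomial A))
          (r₀ : Set _) := by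
        refine Set.disjoint_left.2 ?_
        rintro _ ⟨k, rfl⟩ hk
        have := Ideal.mem_map_C_iff.1 hk k
        rw [Polynomial.coeff_X_pow, if_pos rfl] at this
        exact hr.ne_top ((Ideal.eq_top_iff_one _).2 this)
      have hcC : (algebraMap (Polynomial A) (LaurentPolynomial A)).comp Polynomial.C
          = algebraMap A (LaurentPolynomial A) := by
        refine RingHom.ext fun b => ?_
        show algebraMap (Polynomial A) (LaurentPolynomial A) (Polynomial.C b) = algebraMap A _ b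
        rw [LaurentPolynomial.algebraMap_eq_toLaurent, Polynomial.toLaurent_C]
        rfl
      set 𝔔 : Ideal (LaurentPolynomial A) := r₀.map (algebraMap (Polynomial A) (LaurentPolynomial A)) with h𝔔
      haveI : 𝔔.IsPrime :=
        IsLocalization.isPrime_of_isPrime_disjoint (Submonoid.powers Polynomial.X) _ r₀ hr₀p hdisj
      refine ⟨𝔔.comap 𝓕.extRees.val.toRingHom, Ideal.IsPrime.comap _, fun f hf => ?_, fun f hf => ?_, ?_⟩
      · have h1 : (f : LaurentPolynomial A) ∈ r.map (algebraMap A (LaurentPolynomial A)) := by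
          rw [← hcC, ← Ideal.map_map]
          exact hf
        change (f : LaurentPolynomial A) ∈ Submodule.span (LaurentPolynomial A)
          (algebraMap A (LaurentPolynomial A) '' (r : Set A)) at h1
        generalize (f : LaurentPolynomial A) = g at h1 ⊢
        induction h1 using Submodule.span_induction with
        | mem x hx =>
          obtain ⟨a, ha, rfl⟩ := hx
          intro n
          rw [LaurentPolynomial.algebraMap_apply, Algebra.algebraMap_self, RingHom.id_apply,
            LaurentPolynomial.C_apply]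
          split_ifs
          · exact ha
          · exact zero_mem _
        | zero => intro n; simp
        | add x y _ _ hx hy => intro n; simpa using add_mem (hx n) (hy n)
        | smul g x _ hx =>
          intro n
          rw [smul_eq_mul, AddMonoidAlgebra.coeff_mul]
          simp only [Finsupp.sum]
          refine Submodule.sum_mem _ fun i _ => Submodule.sum_mem _ fun j _ => ?_
          split_ifs
          · exact Ideal.mul_mem_left _ _ (hx j)
          · exact zero_mem _
      · show (f : LaurentPolynomial A) ∈ 𝔔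
        rw [h𝔔, hr₀, Ideal.map_map, hcC, ← AddMonoidAlgebra.sum_coeff_single (f : LaurentPolynomial A)]
        refine Ideal.sum_mem _ fun i _ => ?_
        show AddMonoidAlgebra.single i _ ∈ _
        rw [LaurentPolynomial.single_eq_C_mul_T]
        exact Ideal.mul_mem_right _ _ (Ideal.mem_map_of_mem _ (hf i))
      · rw [Ideal.comap_comap, show 𝓕.extRees.val.toRingHom.comp (algebraMap A 𝓕.extRees)
          = algebraMap A (LaurentPolynomial A) from rfl, ← hcC, ← Ideal.comap_comap, h𝔔,
          show (r₀.map (algebraMap (Polynomial A) (LaurentPolynomial A))).comap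
            (algebraMap (Polynomial A) (LaurentPolynomial A)) = r₀ from
            IsLocalization.comap_map_of_isPrime_disjoint (Submonoid.powers Polynomial.X) _ hr₀p hdisj]
        refine le_antisymm (fun b hb => ?_) Ideal.le_comap_map
        simpa using Ideal.mem_map_C_iff.1 hb 0
    obtain ⟨R₀, hR₀, hR₀c, -, hR₀q⟩ := mk q₀ hq₀
    obtain ⟨R₁, hR₁, hR₁c, hR₁m, hR₁q⟩ := mk q₁ hq₁
    haveI := hR₀
    haveI := hR₁
    have hle₁ : R₁ ≤ Q := fun f hf => hcomp f q₁ hlt₁.le (hR₁c f hf)
    have hle₀ : R₀ ≤ R₁ := fun f hf => hR₁m f fun i => hlt₀.le (hR₀c f hf i)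
    have h01 : R₀ < R₁ := lt_of_le_of_ne hle₀ fun e => hlt₀.ne (by rw [← hR₀q, e, hR₁q])
    have h1Q : R₁ < Q := lt_of_le_of_ne hle₁ fun e => hlt₁.ne (by rw [← hR₁q, e])
    have a1 := Ideal.height_add_one_le_of_lt_of_isPrime h01
    have a2 := Ideal.height_add_one_le_of_lt_of_isPrime h1Q
    apply hlt
    calc ((2 : ℕ) : ℕ∞) = 0 + 1 + 1 := by norm_num
      _ ≤ R₀.height + 1 + 1 := by gcongr; exact bot_le
      _ ≤ R₁.height + 1 := by gcongr
      _ ≤ Q.height := a2
  -- an element of the extended ideal regular modulo `s`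
  obtain ⟨t, htJ, ht⟩ := exists_regular_mod J (incl 𝓕 cR) hcregL
    (Ideal.mem_map_of_mem (incl 𝓕).toRingHom (hF s hsF))
    (Groth.MiscGeom.QGor.le_idealDepth_of_hasSk J 2 h hht')
  have hdvd : ∀ f : 𝓕.rees, (∀ g ∈ P, g * f ∈ Ideal.span {cR}) → f ∈ Ideal.span {cR} := by
    intro f hf
    have h1 : t * incl 𝓕 f ∈ Ideal.span {incl 𝓕 cR} := by
      have hle : ∀ y ∈ J, y * incl 𝓕 f ∈ Ideal.span {incl 𝓕 cR} := by
        intro y hy
        change y ∈ Submodule.span 𝓕.extRees ((incl 𝓕).toRingHom '' (P : Set 𝓕.rees)) at hy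
        induction hy using Submodule.span_induction with
        | mem y hy =>
          obtain ⟨g, hg, rfl⟩ := hy
          obtain ⟨w, hw⟩ := Ideal.mem_span_singleton'.1 (hf g hg)
          show incl 𝓕 g * incl 𝓕 f ∈ _
          rw [← map_mul, ← hw, map_mul]
          exact Ideal.mul_mem_left _ _ (Ideal.mem_span_singleton_self _)
        | zero => rw [zero_mul]; exact zero_mem _
        | add x y _ _ hx hy => rw [add_mul]; exact add_mem hx hy
        | smul a y _ hy => rw [smul_eq_mul, mul_assoc]; exact Ideal.mul_mem_left _ _ hy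
      exact hle t htJ
    obtain ⟨x, hx⟩ := Ideal.mem_span_singleton'.1 (ht _ h1)
    obtain ⟨f', hf'⟩ := exists_incl 𝓕 x fun i hi => by
      have h2 := congrArg (fun z : 𝓕.extRees => (z : LaurentPolynomial A).coeff i) hx
      simp only [Subalgebra.coe_mul, mul_comm (x : LaurentPolynomial A), hcval, hsmul] at h2
      rw [show ((incl 𝓕 f : 𝓕.extRees) : LaurentPolynomial A).coeff i = 0 from coeff_toLaurent_neg _ hi] at h2
      exact hs (h2.trans (mul_zero s).symm)
    refine Ideal.mem_span_singleton'.2 ⟨f', incl_injective 𝓕 ?_⟩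
    rw [map_mul, hf', hx]
  obtain ⟨t', ht'P, ht'⟩ := exists_mem_regular_quot P cR hdvd
  exact (min_le_left _ _).trans (WithBot.coe_le_coe.2
    (two_le_depth_atPrime P cR t' hcreg ht' (hF s hsF) ht'P))

end Groth.Agent.S16058
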