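import Groth.Statements.S16072
import Groth.Agent.Hopf.SmallGroups

set_option autoImplicit false
universe u
open Hopf

namespace Groth.Agent.S16072

open Groth.ComodLib TensorProduct

/-- Let p be a prime and R a commutative ring of characteristic p (p = 0 in R, R nonzero). Then the
constant group scheme ℤ/p and the group scheme μ_p of p-th roots of unity over Spec R are not
isomorphic: there is no R-bialgebra isomorphism between the Hopf algebra Maps(ℤ/p, R) of functions
on the cyclic group of order p and the group algebra R[ℤ/p]. (Any nonzero commutative base ring of
characteristic p is allowed. The published statement allows any ring R with p·R = 0; over the zero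
ring both Hopf algebras are the zero ring and hence isomorphic, so R is assumed nonzero here.) -/
theorem result (p : ℕ) [Fact p.Prime] (R : Type u) [CommRing R]
    [CharP R p] :
    IsEmpty (ConstGrp.F R (Multiplicative (ZMod p)) ≃ₐc[R] MonoidAlgebra R (Multiplicative (ZMod p))) := by
  have hg : (Multiplicative.ofAdd (1 : ZMod p)) ≠ 1 := by
    intro h
    exact one_ne_zero (Multiplicative.ofAdd.injective h)
  refine isEmpty_constGrp_equiv (p := p) hg (pow_char_mem_range_monoidAlgebra fun g => ?_)
  apply Multiplicative.toAdd.injective
  simp

end Groth.Agent.S16072
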