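import Groth.Statements.S16075
import Groth.Agent.Hopf.SmallGroups

set_option autoImplicit false
universe u
open Hopf

namespace Groth.Agent.S16075

open Groth.ComodLib TensorProduct

/-- Let p be a prime, T a commutative ring of characteristic p (p = 0 in T, T nonzero) and A =
T[X]/(X^p) the Hopf algebra of α_p over Spec T, with X primitive. Then the endomorphisms of the
T-group α_{p,T} are exactly the scalings: every T-bialgebra endomorphism f of A has f(X) = λ·X for a
unique λ ∈ T, and for every λ ∈ T there is a T-bialgebra endomorphism f of A with f(X) = λ·X. So the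
endomorphisms of α_{p,T} correspond bijectively to the elements of T. (Only this bijection is
stated; that it turns addition and composition of endomorphisms into addition and multiplication in
T, and its naturality in T, are not stated here. The zero ring, allowed as T in the published
statement, is excluded by the characteristic hypothesis here.) -/
theorem result (p : ℕ) [Fact p.Prime] (T : Type u) [CommRing T] [CharP T p] :
    (∀ f : AlphaP.A p T →ₐc[T] AlphaP.A p T, ∃! c : T, f (AlphaP.x p T) = c • AlphaP.x p T) ∧
      (∀ c : T, ∃ f : AlphaP.A p T →ₐc[T] AlphaP.A p T, f (AlphaP.x p T) = c • AlphaP.x p T) := by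
  have : Nontrivial T := CharP.nontrivial_of_char_ne_one (Fact.out : p.Prime).ne_one
  refine ⟨fun f => ?_, fun c => ?_⟩
  · obtain ⟨c, hc⟩ := primitive_alphaP (p := p) (R := T) (y := f (AlphaP.x p T)) (by
      rw [← CoalgHomClass.map_comp_comul_apply f (AlphaP.x p T)]
      simp [map_one])
    refine ⟨c, hc, fun d hd => ?_⟩
    dsimp only at hd
    have h := congrArg (fun z => (AlphaP.basis p T).repr z ⟨1, (Fact.out : p.Prime).one_lt⟩)
      (hd.symm.trans hc)
    have e : AlphaP.x p T = AlphaP.basis p T ⟨1, (Fact.out : p.Prime).one_lt⟩ := by simp
    rw [e] at h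
    simpa only [map_smul, Module.Basis.repr_self, Finsupp.smul_single, Finsupp.single_eq_same,
      smul_eq_mul, mul_one] using h
  · have hc : (c • AlphaP.x p T) ^ p = 0 := by rw [smul_pow, AlphaP.x_pow, smul_zero]
    refine ⟨BialgHom.ofAlgHom (AlphaP.lift p T (c • AlphaP.x p T) hc) ?_ ?_, ?_⟩
    · apply AlphaP.algHom_ext
      simp
    · apply AlphaP.algHom_ext
      simp [TensorProduct.smul_tmul']
    · exact AlphaP.lift_x (p := p) _ hc

end Groth.Agent.S16075
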