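import Groth.Statements.S16076
import Groth.Agent.VerschLib.Basic

set_option autoImplicit false
universe u
open scoped TensorProduct
open Versch

namespace Groth.Agent.S16076

/-- Let p be a prime, R a commutative ring of characteristic p and A = R[X]/(X^p) the Hopf algebra of
α_p over Spec R, with X primitive. Let v : A → A ⊗_R R^(Frob) be the comorphism of the Verschiebung
V : α_p^(p) → α_p (the ring map whose transpose under the canonical pairing is the relative
Frobenius of the dual Hopf algebra Hom_R(A, R)). Then V is the trivial homomorphism: v is the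
composite of the counit ε : A → R, the identity of underlying rings R → R^(Frob) and the inclusion
of the twisted factor R^(Frob) → A ⊗_R R^(Frob), i.e. v(a) = 1 ⊗ ε(a). (Any commutative base ring of
characteristic p is allowed.) -/
theorem result (p : ℕ) [Fact p.Prime] (R : Type u) [CommRing R] [CharP R p]
    (v : AlphaP.A p R →+* FrobAlg.BaseChange p R (AlphaP.A p R))
    (hv : Versch.IsVerschiebung p R (AlphaP.A p R) v) :
    v = ((Algebra.TensorProduct.includeRight (R := R) (A := AlphaP.A p R) (B := FrobAlg.Twist p R)).toRingHom.comp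
          (FrobAlg.toTwist p R).toRingHom).comp (Bialgebra.counitAlgHom R (AlphaP.A p R)).toRingHom := by
  have hker : ∀ (x : CartDual.D R (AlphaP.A p R)), x 1 = 0 → x ^ p = 0 := by
    intro x hx
    have key : ∀ (k i : ℕ), i < k → (x ^ k) (AlphaP.x p R ^ i) = 0 := by
      intro k
      induction k with
      | zero => intro i hi; omega
      | succ k ih =>
        intro i hi
        rw [pow_succ', LinearMap.convMul_apply, ← Bialgebra.comulAlgHom_apply, map_pow]
        have hcx : Bialgebra.comulAlgHom R (AlphaP.A p R) (AlphaP.x p R) =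
            AlphaP.x p R ⊗ₜ[R] 1 + 1 ⊗ₜ[R] AlphaP.x p R := AlphaP.comulAlg_x p R
        rw [hcx, add_pow, map_sum, map_sum]
        refine Finset.sum_eq_zero fun j hj => ?_
        rw [Finset.mem_range] at hj
        rw [← nsmul_eq_mul', map_nsmul, map_nsmul]
        simp only [Algebra.TensorProduct.tmul_pow, one_pow, Algebra.TensorProduct.tmul_mul_tmul,
          mul_one, one_mul, TensorProduct.map_tmul, LinearMap.mul'_apply]
        rcases Nat.eq_zero_or_pos j with rfl | hj'
        · rw [pow_zero, show x.ofConv 1 = 0 from hx, zero_mul, smul_zero]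
        · rw [show (x ^ k).ofConv (AlphaP.x p R ^ (i - j)) = 0 from ih _ (by omega), mul_zero,
            smul_zero]
    apply WithConv.ext
    apply LinearMap.ext
    intro a
    obtain ⟨f, rfl⟩ := AlphaP.mk_surjective p R a
    rw [← AlphaP.aeval_x, Polynomial.aeval_eq_sum_range, map_sum]
    refine Finset.sum_eq_zero fun i _ => ?_
    rw [map_smul]
    rcases lt_or_ge i p with hi | hi
    · rw [show (x ^ p).ofConv (AlphaP.x p R ^ i) = 0 from key p i hi, smul_zero]
    · rw [AlphaP.x_pow_of_le p R hi, map_zero, smul_zero]
  apply RingHom.ext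
  intro a
  apply Versch.evTw_injective p R (AlphaP.A p R)
  intro x
  rw [(Versch.isVerschiebung_iff p R _ v).1 hv]
  refine Eq.trans ?_ (Versch.evTw_tmul' p R (AlphaP.A p R) x 1
    (FrobAlg.toTwist p R (Coalgebra.counit (R := R) a))).symm
  rw [← map_mul]
  congr 1
  have hy : (x - algebraMap R (CartDual.D R (AlphaP.A p R)) (x 1)) 1 = 0 := by
    simp [CartDual.coe_apply]
  have h1 := hker _ hy
  rw [sub_pow_char, sub_eq_zero] at h1
  rw [h1, ← map_pow (algebraMap R (CartDual.D R (AlphaP.A p R)))]
  simp only [CartDual.coe_apply, LinearMap.convAlgebraMap_apply]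
  simp [CartDual.coe_apply]

end Groth.Agent.S16076
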