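import Groth.Statements.S16077
import Mathlib
-- import your own Groth.Agent.* helpers here

set_option autoImplicit false
universe u
open CAlg

namespace Groth.Agent.S16077

open MvPolynomial in
/-- The dimension of the span of `p ^ m`-th powers in a truncated polynomial algebra. -/
theorem finrank_span_pow (p : ℕ) [Fact p.Prime] (k : Type u) [Field k] [CharP k p] [PerfectField k]
    (r : ℕ) (e : Fin r → ℕ) (m : ℕ) :
    Module.finrank k (Submodule.span k (Set.range fun a :
      MvPolynomial (Fin r) k ⧸ Ideal.span (Set.range fun i : Fin r => (X i : MvPolynomial (Fin r) k) ^ p ^ e i) =>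
        a ^ p ^ m)) = p ^ ∑ i, (e i - m) := by
  classical
  have hp := (Fact.out : p.Prime)
  set I := Ideal.span (Set.range fun i : Fin r => (X i : MvPolynomial (Fin r) k) ^ p ^ e i) with hI
  haveI : ExpChar k p := .prime hp
  haveI : ExpChar (MvPolynomial (Fin r) k) p := inferInstance
  let S : Set (Fin r →₀ ℕ) := Set.range fun i => Finsupp.single i (p ^ e i)
  have hIS : I = Ideal.span ((fun s => monomial s (1 : k)) '' S) := by
    rw [hI, ← Set.range_comp]; congr 1; ext x; simp [X_pow_eq_monomial]
  let D := (i : Fin r) → Fin (p ^ (e i - m))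
  let emb : D → (Fin r →₀ ℕ) := fun d => Finsupp.equivFunOnFinite.symm fun i => p ^ m * (d i : ℕ)
  have hembi : ∀ d i, emb d i = p ^ m * (d i : ℕ) := fun d i => rfl
  let b : D → MvPolynomial (Fin r) k ⧸ I := fun d => Ideal.Quotient.mk I (monomial (emb d) 1)
  have hbox : ∀ d i, emb d i < p ^ e i := fun d i => by
    rw [hembi]
    rcases le_or_gt m (e i) with h | h
    · calc p ^ m * (d i : ℕ) < p ^ m * p ^ (e i - m) := Nat.mul_lt_mul_of_pos_left (d i).2 (Nat.pow_pos hp.pos)
        _ = p ^ e i := by rw [← pow_add, Nat.add_sub_cancel' h]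
    · have : (d i : ℕ) = 0 := by
        have h1 : p ^ (e i - m) = 1 := by rw [show e i - m = 0 by omega, pow_zero]
        have := (d i).2; omega
      rw [this, mul_zero]; exact Nat.pow_pos hp.pos
  have hinj : Function.Injective emb := fun d d' h => funext fun i => Fin.ext <| by
    have := DFunLike.congr_fun h i
    rw [hembi, hembi] at this
    exact Nat.eq_of_mul_eq_mul_left (Nat.pow_pos hp.pos) this
  have hli : LinearIndependent k b := by
    rw [Fintype.linearIndependent_iff]
    intro c hc d
    let P : MvPolynomial (Fin r) k := ∑ d, monomial (emb d) (c d)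
    have hP : P ∈ I := by
      rw [← Ideal.Quotient.eq_zero_iff_mem, ← hc, map_sum]
      refine Finset.sum_congr rfl fun d _ => ?_
      rw [show monomial (emb d) (c d) = c d • monomial (emb d) (1 : k) by rw [smul_monomial, smul_eq_mul, mul_one],
        ← Ideal.Quotient.mkₐ_eq_mk k, map_smul]
      rfl
    by_contra hd
    have hsupp : emb d ∈ P.support := by
      rw [mem_support_iff, coeff_sum, Finset.sum_eq_single d (fun d' _ h' => by
        rw [coeff_monomial, if_neg (fun h => h' (hinj h))]) (by simp), coeff_monomial, if_pos rfl]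
      exact hd
    rw [hIS, mem_ideal_span_monomial_image] at hP
    obtain ⟨_, ⟨i, rfl⟩, hle⟩ := hP _ hsupp
    have := hle i
    simp only [Finsupp.single_eq_same] at this
    exact absurd this (not_le.2 (hbox d i))
  have hroot : ∀ c : k, ∃ d : k, d ^ p ^ m = c := fun c => (bijective_iterateFrobenius (R := k) (p := p) (n := m)).2 c
  have hspan : Submodule.span k (Set.range fun a : MvPolynomial (Fin r) k ⧸ I => a ^ p ^ m) = Submodule.span k (Set.range b) := by
    refine le_antisymm (Submodule.span_le.2 ?_) (Submodule.span_le.2 ?_)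
    · rintro _ ⟨a, rfl⟩
      obtain ⟨q, rfl⟩ := Ideal.Quotient.mk_surjective a
      show Ideal.Quotient.mk I q ^ p ^ m ∈ _
      rw [← map_pow, q.as_sum, sum_pow_char_pow, map_sum]
      refine sum_mem fun v _ => ?_
      rw [monomial_pow, show monomial (p ^ m • v) (coeff v q ^ p ^ m) =
        (coeff v q ^ p ^ m) • monomial (p ^ m • v) (1 : k) by rw [smul_monomial, smul_eq_mul, mul_one],
        ← Ideal.Quotient.mkₐ_eq_mk k, map_smul]
      refine Submodule.smul_mem _ _ ?_
      by_cases hv : ∀ i, v i < p ^ (e i - m)
      · refine Submodule.subset_span ⟨fun i => ⟨v i, hv i⟩, ?_⟩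
        show Ideal.Quotient.mk I _ = Ideal.Quotient.mk I _
        congr 3
        ext j
        rw [hembi, Finsupp.smul_apply, smul_eq_mul]
      · push Not at hv
        obtain ⟨i, hi⟩ := hv
        have : monomial (p ^ m • v) (1 : k) ∈ I := by
          rw [hIS, mem_ideal_span_monomial_image]
          intro xi hxi
          rw [mem_support_iff, coeff_monomial, ne_eq, ite_eq_right_iff, not_forall] at hxi
          obtain ⟨rfl, -⟩ := hxi
          refine ⟨_, ⟨i, rfl⟩, ?_⟩
          rw [Finsupp.single_le_iff, Finsupp.smul_apply, smul_eq_mul]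
          refine le_trans ?_ (Nat.mul_le_mul_left _ hi)
          rw [← pow_add]
          exact Nat.pow_le_pow_right hp.pos (by omega)
        rw [Ideal.Quotient.mkₐ_eq_mk, Ideal.Quotient.eq_zero_iff_mem.2 this]
        exact zero_mem _
    · rintro _ ⟨d, rfl⟩
      refine Submodule.subset_span ⟨Ideal.Quotient.mk I (monomial (Finsupp.equivFunOnFinite.symm fun i => (d i : ℕ)) 1), ?_⟩
      show Ideal.Quotient.mk I _ ^ p ^ m = b d
      rw [← map_pow, monomial_pow, one_pow]
      show Ideal.Quotient.mk I _ = Ideal.Quotient.mk I _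
      congr 3
      ext j
      rw [hembi, Finsupp.smul_apply, smul_eq_mul]
      rfl
  rw [hspan, finrank_span_eq_card hli]
  simp [D, Fintype.card_pi, Finset.prod_pow_eq_pow_sum]


/-- Let k be a perfect field of characteristic p > 0 and let e_1, …, e_r ≥ 1 and f_1, …, f_s ≥ 1 be
natural numbers. If the k-algebras k[X_1, …, X_r]/(X_i^{p^{e_i}} : 1 ≤ i ≤ r) and k[X_1, …,
X_s]/(X_j^{p^{f_j}} : 1 ≤ j ≤ s) are isomorphic, then r = s and (f_j) is a permutation of (e_i):
there is a bijection σ between the index sets with f_{σ(i)} = e_i. Such truncated polynomial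
algebras are the coordinate rings of the connected finite k-group schemes, and the row says that the
number of variables and the exponents are invariants of the group, indeed of its algebra. (Only this
invariance is stated here; the existence of such a presentation for every connected finite k-group
is a separate statement.) -/
theorem result (p : ℕ) [Fact p.Prime] (k : Type u) [Field k]
    [CharP k p] [PerfectField k] (r s : ℕ) (e : Fin r → ℕ) (f : Fin s → ℕ) (he : ∀ i, 1 ≤ e i) (hf : ∀ j, 1 ≤ f j)
    (φ : (MvPolynomial (Fin r) k ⧸ Ideal.span (Set.range fun i : Fin r => (MvPolynomial.X i : MvPolynomial (Fin r) k) ^ p ^ e i)) ≃ₐ[k]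
      (MvPolynomial (Fin s) k ⧸ Ideal.span (Set.range fun j : Fin s => (MvPolynomial.X j : MvPolynomial (Fin s) k) ^ p ^ f j))) :
    ∃ σ : Fin r ≃ Fin s, ∀ i : Fin r, f (σ i) = e i := by
  classical
  have hp := (Fact.out : p.Prime)
  have hm : ∀ m, ∑ i, (e i - m) = ∑ j, (f j - m) := by
    intro m
    apply Nat.pow_right_injective hp.two_le
    show p ^ _ = p ^ _
    rw [← finrank_span_pow p k r e m, ← finrank_span_pow p k s f m]
    refine (Submodule.equivMapOfInjective φ.toLinearMap φ.injective _).finrank_eq.trans ?_
    have hS : (Submodule.span k (Set.range fun a : MvPolynomial (Fin r) k ⧸ Ideal.span (Set.range fun i : Fin r => (MvPolynomial.X i : MvPolynomial (Fin r) k) ^ p ^ e i) => a ^ p ^ m)).map φ.toLinearMap =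
        Submodule.span k (Set.range fun a : MvPolynomial (Fin s) k ⧸ Ideal.span (Set.range fun j : Fin s => (MvPolynomial.X j : MvPolynomial (Fin s) k) ^ p ^ f j) => a ^ p ^ m) := by
      rw [Submodule.map_span, ← Set.range_comp]
      congr 1
      ext x
      constructor
      · rintro ⟨a, rfl⟩; exact ⟨φ a, (map_pow φ a _).symm⟩
      · rintro ⟨a, rfl⟩; exact ⟨φ.symm a, by simp⟩
    exact (LinearEquiv.ofEq _ _ hS).finrank_eq
  have hgt : ∀ {t : ℕ} (g : Fin t → ℕ) (m : ℕ),
      ∑ i, (g i - m) = (Finset.univ.filter fun i => m < g i).card + ∑ i, (g i - (m + 1)) := by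
    intro t g m
    rw [Finset.card_filter, ← Finset.sum_add_distrib]
    exact Finset.sum_congr rfl fun i _ => by split <;> omega
  have hcnt : ∀ m, (Finset.univ.filter fun i => m < e i).card = (Finset.univ.filter fun j => m < f j).card := by
    intro m
    have h1 := hgt e m; have h2 := hgt f m; have h3 := hm m; have h4 := hm (m + 1)
    omega
  have hsplit : ∀ {t : ℕ} (g : Fin t → ℕ) (v : ℕ), (Finset.univ.filter fun i => g i = v + 1).card +
      (Finset.univ.filter fun i => v + 1 < g i).card = (Finset.univ.filter fun i => v < g i).card := by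
    intro t g v
    rw [← Finset.card_union_of_disjoint]
    · congr 1; ext i; simp only [Finset.mem_union, Finset.mem_filter, Finset.mem_univ, true_and]; omega
    · rw [Finset.disjoint_filter]; intros; omega
  have hfib : ∀ v, Fintype.card {i // e i = v} = Fintype.card {j // f j = v} := by
    intro v
    rw [Fintype.card_subtype, Fintype.card_subtype]
    cases v with
    | zero =>
      rw [Finset.filter_false_of_mem fun i _ => Nat.one_le_iff_ne_zero.1 (he i),
        Finset.filter_false_of_mem fun j _ => Nat.one_le_iff_ne_zero.1 (hf j)]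
      rfl
    | succ v =>
      have h1 := hsplit e v; have h2 := hsplit f v; have h3 := hcnt v; have h4 := hcnt (v + 1)
      omega
  let τ : ∀ v, {i // e i = v} ≃ {j // f j = v} := fun v => Fintype.equivOfCardEq (hfib v)
  exact ⟨Equiv.ofFiberEquiv τ, fun i => Equiv.ofFiberEquiv_map τ i⟩

end Groth.Agent.S16077
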