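import Groth.Statements.S16078
import Groth.Agent.PropsBasic.HopfConnectedSeq

set_option autoImplicit false
set_option linter.style.haveILetI false
set_option linter.style.longLine false
universe u
open scoped TensorProduct
open Hopf

namespace Groth.Agent.S16078

/-- Let R be a henselian Noetherian local ring, A and A'' commutative Hopf algebras over R which are
finite and flat as R-modules, and A'' → A an R-algebra homomorphism compatible with
comultiplications and counits making A faithfully flat over A'' (a faithfully flat homomorphism π :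
G → G'' of finite flat R-groups); let J ⊆ A be the ideal generated by the image of the augmentation
ideal of A'' (G' = Spec A/J = ker π, so that 1 → G' → G → G'' → 1 is exact). Let e ∈ A and e'' ∈ A''
be idempotents with ε(e) = 1, ε(e'') = 1 and A/(1 − e), A''/(1 − e'') local rings (the unit
components G⁰ and G''⁰), and let e' ∈ A be an element whose image in A/J is an idempotent, with
ε(e') = 1 and A/(J + (1 − e')) local (so G'⁰ = Spec (A/J)/(1 − e') is the unit component of G').
Suppose g : A''/(1 − e'') → A/(1 − e) is the ring homomorphism induced by A'' → A (the restriction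
π⁰ : G⁰ → G''⁰ of π, which exists because G⁰ is connected). Then g is faithfully flat, and e ≡ e'
modulo J, i.e. J + (1 − e) = J + (1 − e') and the kernel of π⁰, which is cut out in G⁰ by J, is
exactly G'⁰: the sequence 1 → G'⁰ → G⁰ → G''⁰ → 1 is exact. (The published statement also asserts
exactness of the maximal étale quotient G ↦ G^ét, not stated here.) -/
theorem result (R : Type u) [CommRing R] [HenselianLocalRing R]
    [IsNoetherianRing R] (A A'' : Type u) [CommRing A] [HopfAlgebra R A] [Module.Finite R A] [Module.Flat R A]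
    [CommRing A''] [HopfAlgebra R A''] [Module.Finite R A''] [Module.Flat R A'']
    [Algebra A'' A] [IsScalarTower R A'' A] [Module.FaithfullyFlat A'' A]
    (hΔ : (Bialgebra.comulAlgHom R A).comp (IsScalarTower.toAlgHom R A'' A) =
      (Algebra.TensorProduct.map (IsScalarTower.toAlgHom R A'' A) (IsScalarTower.toAlgHom R A'' A)).comp
        (Bialgebra.comulAlgHom R A''))
    (hε : (Bialgebra.counitAlgHom R A).comp (IsScalarTower.toAlgHom R A'' A) = Bialgebra.counitAlgHom R A'')
    (e : A) (he : IsIdempotentElem e) (heε : Bialgebra.counitAlgHom R A e = 1)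
    [IsLocalRing (A ⧸ Ideal.span ({1 - e} : Set A))]
    (e'' : A'') (he'' : IsIdempotentElem e'') (he''ε : Bialgebra.counitAlgHom R A'' e'' = 1)
    [IsLocalRing (A'' ⧸ Ideal.span ({1 - e''} : Set A''))]
    (e' : A) (he' : IsIdempotentElem (Ideal.Quotient.mk ((RingHom.ker (Bialgebra.counitAlgHom R A'')).map (algebraMap A'' A)) e'))
    (he'ε : Bialgebra.counitAlgHom R A e' = 1)
    [IsLocalRing (A ⧸ (((RingHom.ker (Bialgebra.counitAlgHom R A'')).map (algebraMap A'' A)) ⊔ Ideal.span ({1 - e'} : Set A)))]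
    (g : (A'' ⧸ Ideal.span ({1 - e''} : Set A'')) →+* (A ⧸ Ideal.span ({1 - e} : Set A)))
    (hg : g.comp (Ideal.Quotient.mk (Ideal.span ({1 - e''} : Set A''))) =
      (Ideal.Quotient.mk (Ideal.span ({1 - e} : Set A))).comp (algebraMap A'' A)) :
    g.FaithfullyFlat ∧
      Ideal.Quotient.mk ((RingHom.ker (Bialgebra.counitAlgHom R A'')).map (algebraMap A'' A)) e = Ideal.Quotient.mk ((RingHom.ker (Bialgebra.counitAlgHom R A'')).map (algebraMap A'' A)) e' := by
  have hJε : ((RingHom.ker (Bialgebra.counitAlgHom R A'')).map (algebraMap A'' A)) ≤ RingHom.ker (Bialgebra.counitAlgHom R A) := by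
    rw [Ideal.map_le_iff_le_comap]
    intro x hx
    have := DFunLike.congr_fun hε x
    rw [RingHom.mem_ker] at hx
    exact this.trans hx
  have hIε : (Ideal.span ({1 - e} : Set A)) ≤ RingHom.ker (Bialgebra.counitAlgHom R A) :=
    Ideal.span_le.2 (by simp [show Coalgebra.counit (R := R) e = 1 from heε])
  refine ⟨?_, ?_⟩
  · letI : Algebra (A'' ⧸ (Ideal.span ({1 - e''} : Set A''))) (A ⧸ (Ideal.span ({1 - e} : Set A))) := g.toAlgebra
    haveI : IsScalarTower A'' (A'' ⧸ (Ideal.span ({1 - e''} : Set A''))) (A ⧸ (Ideal.span ({1 - e} : Set A))) := IsScalarTower.of_algebraMap_eq fun x =>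
      (RingHom.congr_fun hg x).symm
    haveI : IsLocalization.Away e'' (A'' ⧸ (Ideal.span ({1 - e''} : Set A''))) :=
      IsLocalization.away_of_isIdempotentElem he'' Ideal.mk_ker Ideal.Quotient.mk_surjective
    haveI : Module.Flat A'' (A ⧸ (Ideal.span ({1 - e} : Set A))) := Groth.HopfConn.flat_quot_idem he
    haveI : Module.Flat (A'' ⧸ (Ideal.span ({1 - e''} : Set A''))) (A ⧸ (Ideal.span ({1 - e} : Set A))) :=
      (Module.flat_iff_of_isLocalization (A'' ⧸ (Ideal.span ({1 - e''} : Set A''))) (Submonoid.powers e'') (A ⧸ (Ideal.span ({1 - e} : Set A)))).2 inferInstance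
    haveI : Module.Finite R (A ⧸ (Ideal.span ({1 - e} : Set A))) :=
      Module.Finite.of_surjective (Ideal.Quotient.mkₐ R (Ideal.span ({1 - e} : Set A))).toLinearMap (Ideal.Quotient.mkₐ_surjective R (Ideal.span ({1 - e} : Set A)))
    haveI : Module.Finite A'' (A ⧸ (Ideal.span ({1 - e} : Set A))) := Module.Finite.of_restrictScalars_finite R A'' _
    haveI : Module.Finite (A'' ⧸ (Ideal.span ({1 - e''} : Set A''))) (A ⧸ (Ideal.span ({1 - e} : Set A))) := Module.Finite.of_restrictScalars_finite A'' (A'' ⧸ (Ideal.span ({1 - e''} : Set A''))) _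
    exact Groth.HopfConn.faithfullyFlat_of_local (B := A'' ⧸ (Ideal.span ({1 - e''} : Set A''))) (C := A ⧸ (Ideal.span ({1 - e} : Set A)))
  · set q := Ideal.Quotient.mk ((RingHom.ker (Bialgebra.counitAlgHom R A'')).map (algebraMap A'' A))
    let εJ : A ⧸ ((RingHom.ker (Bialgebra.counitAlgHom R A'')).map (algebraMap A'' A)) →ₐ[R] R := Ideal.Quotient.liftₐ _ (Bialgebra.counitAlgHom R A) hJε
    set K := ((RingHom.ker (Bialgebra.counitAlgHom R A'')).map (algebraMap A'' A)) ⊔ Ideal.span ({1 - e'} : Set A) with hKdef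
    have hKε : K ≤ RingHom.ker (Bialgebra.counitAlgHom R A) :=
      sup_le hJε (Ideal.span_le.2 (by simp [show Coalgebra.counit (R := R) e' = 1 from he'ε]))
    let εK : A ⧸ K →ₐ[R] R := Ideal.Quotient.liftₐ _ (Bialgebra.counitAlgHom R A) hKε
    let εI : A ⧸ (((RingHom.ker (Bialgebra.counitAlgHom R A'')).map (algebraMap A'' A)) ⊔ (Ideal.span ({1 - e} : Set A))) →ₐ[R] R := Ideal.Quotient.liftₐ _ (Bialgebra.counitAlgHom R A) (sup_le hJε hIε)
    haveI : Nontrivial (A ⧸ (((RingHom.ker (Bialgebra.counitAlgHom R A'')).map (algebraMap A'' A)) ⊔ (Ideal.span ({1 - e} : Set A)))) := RingHom.domain_nontrivial εI.toRingHom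
    haveI : IsLocalRing (A ⧸ (((RingHom.ker (Bialgebra.counitAlgHom R A'')).map (algebraMap A'' A)) ⊔ (Ideal.span ({1 - e} : Set A)))) := IsLocalRing.of_surjective'
      (Ideal.Quotient.factor (le_sup_right : (Ideal.span ({1 - e} : Set A)) ≤ ((RingHom.ker (Bialgebra.counitAlgHom R A'')).map (algebraMap A'' A)) ⊔ (Ideal.span ({1 - e} : Set A))))
      (Ideal.Quotient.factor_surjective (le_sup_right : (Ideal.span ({1 - e} : Set A)) ≤ ((RingHom.ker (Bialgebra.counitAlgHom R A'')).map (algebraMap A'' A)) ⊔ (Ideal.span ({1 - e} : Set A))))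
    have h1 : Ideal.Quotient.mk (((RingHom.ker (Bialgebra.counitAlgHom R A'')).map (algebraMap A'' A)) ⊔ (Ideal.span ({1 - e} : Set A))) e' = 1 :=
      Groth.HopfConn.idem_eq_one_of_map εI.toRingHom
        (he'.map (Ideal.Quotient.factor (le_sup_left : ((RingHom.ker (Bialgebra.counitAlgHom R A'')).map (algebraMap A'' A)) ≤ ((RingHom.ker (Bialgebra.counitAlgHom R A'')).map (algebraMap A'' A)) ⊔ (Ideal.span ({1 - e} : Set A))))) he'ε
    have h2 : Ideal.Quotient.mk K e = 1 :=
      Groth.HopfConn.idem_eq_one_of_map εK.toRingHom (he.map (Ideal.Quotient.mk K)) heε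
    rw [← map_one (Ideal.Quotient.mk _), Ideal.Quotient.eq] at h1 h2
    obtain ⟨j, hj, i, hi, hji⟩ := Submodule.mem_sup.1 h1
    obtain ⟨j', hj', i', hi', hji'⟩ := Submodule.mem_sup.1 h2
    obtain ⟨c, rfl⟩ := Ideal.mem_span_singleton'.1 hi
    obtain ⟨c', rfl⟩ := Ideal.mem_span_singleton'.1 hi'
    have hx : q e * q e = q e := he.map q
    have hy : q e' * q e' = q e' := he'
    have e1 := congrArg q hji
    have e2 := congrArg q hji'
    simp only [map_add, map_mul, map_sub, map_one, show q j = 0 from Ideal.Quotient.eq_zero_iff_mem.2 hj,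
      show q j' = 0 from Ideal.Quotient.eq_zero_iff_mem.2 hj', zero_add] at e1 e2
    linear_combination (q e) * e1 - (q e') * e2 + (q c) * hx - (q c') * hy

end Groth.Agent.S16078
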