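import Groth.Statements.S16084
import Groth.Agent.RefRank.Divisor

set_option autoImplicit false
universe u
open CategoryTheory CategoryTheory.Limits AlgebraicGeometry TopologicalSpace
open SDiv

namespace Groth.Agent.S16084

/-- Let X be an integral locally Noetherian normal scheme, F a rank one coherent reflexive O_X-module
and s a nonzero global section of F. Let Z be the set of points x at which multiplication by the
germ of s, O_{X,x} → F_x, fails to be bijective (the complement of the open where s generates F).
Then every irreducible component of Z has codimension 1 in X: at each point z of Z to which no other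
point of Z specializes, the local ring O_{X,z} has dimension 1. -/
theorem result (X : Scheme.{u}) [IsIntegral X] [IsLocallyNoetherian X]
    (hX : Pi1.IsNormalScheme X) (F : X.Modules) (hF : RefHull.IsRef1 F) (s : Γ(F, ⊤)) (hs : s ≠ 0) (z : ↥X)
    (hz : ¬ Function.Bijective fun a : ↑(X.presheaf.stalk z) => a • F.presheaf.germ ⊤ z trivial s)
    (hmax : ∀ y : ↥X, ¬ Function.Bijective (fun a : ↑(X.presheaf.stalk y) => a • F.presheaf.germ ⊤ y trivial s) →
      y ⤳ z → y = z) :
    ringKrullDim ↑(X.presheaf.stalk z) = 1 := by
    have := hF.1.1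
    have h1 := Groth.RefRank.isRankOne_of_genInvertible hF.2.2
    obtain ⟨S, hS⟩ : ∃ S : ∀ x : X, F.presheaf.stalk x, ∀ x, S x = F.presheaf.germ ⊤ x trivial s :=
      ⟨_, fun _ => rfl⟩
    simp only [← hS] at hz hmax
    have hspec : ∀ {x y : X} (h : y ⤳ x), Groth.RefRank.mspec F h (S x) = S y := fun {x y} h => by
      rw [hS, hS]
      exact Groth.RefRank.mspec_germ F h (U := ⊤) trivial s
    have hη : S (genericPoint ↥X) ≠ 0 := by
      intro e
      refine hs (Groth.RefRank.mod_section_ext F fun x hx => Groth.RefRank.mspec_gen_injective hF.1 hF.2.1 x ?_)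
      rw [map_zero, map_zero, ← e, ← hspec (Groth.RefRank.genSpec x), hS]
    have hb := h1.isStalkBasis hη
    by_contra hne
    have hkey : ∀ y : X, y ⤳ z → ringKrullDim ↑(X.presheaf.stalk y) = 1 →
        Groth.RefRank.IsStalkBasis F y (S y) := fun y hy hy1 => by
      by_contra hb'
      exact hne (hmax y hb' hy ▸ hy1)
    refine hz ⟨fun a b hab => Groth.RefRank.rspec_gen_injective z (hb.1 ?_), fun v => ?_⟩
    · have h := congrArg (Groth.RefRank.mspec F (Groth.RefRank.genSpec z)) hab
      dsimp only at h ⊢
      rwa [Groth.RefRank.mspec_smul, Groth.RefRank.mspec_smul, hspec] at h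
    · obtain ⟨c, hc⟩ := hb.2 (Groth.RefRank.mspec F (Groth.RefRank.genSpec z) v)
      dsimp only at hc
      obtain ⟨o, ho⟩ := Groth.RefRank.mem_range_mspec hX Groth.QCohMod.isCoh_unit
        Groth.RefRank.isReflexive_structureModule (x := z)
        (c • Groth.RefRank.oneGerm (genericPoint ↥X)) fun y hy hy1 => by
          obtain ⟨a, ha⟩ := (hkey y hy hy1).2 (Groth.RefRank.mspec F hy v)
          dsimp only at ha
          have e := congrArg (Groth.RefRank.mspec F (Groth.RefRank.genSpec y)) ha
          rw [Groth.RefRank.mspec_smul, hspec, Groth.RefRank.mspec_mspec] at e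
          have hca : Groth.RefRank.rspec (Groth.RefRank.genSpec y) a = c := hb.1 (e.trans hc.symm)
          exact ⟨a • Groth.RefRank.oneGerm y, by
            rw [Groth.RefRank.mspec_smul, Groth.RefRank.mspec_oneGerm, hca]⟩
      obtain ⟨a, rfl⟩ := (Groth.RefRank.oneEquiv z).surjective o
      rw [Groth.RefRank.oneEquiv_apply, Groth.RefRank.mspec_smul, Groth.RefRank.mspec_oneGerm] at ho
      have hac := (Groth.RefRank.isStalkBasis_oneGerm (genericPoint ↥X)).1 ho
      refine ⟨a, Groth.RefRank.mspec_gen_injective hF.1 hF.2.1 z ?_⟩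
      dsimp only
      rw [Groth.RefRank.mspec_smul, hspec, hac, hc]

end Groth.Agent.S16084
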