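import Groth.Statements.S16085
import Groth.Agent.RefRank.Divisor

set_option autoImplicit false
universe u
open CategoryTheory CategoryTheory.Limits AlgebraicGeometry TopologicalSpace
open SDiv

namespace Groth.Agent.S16085

/-- Let X be an integral locally Noetherian normal scheme. Sending (F, G) to the reflexive hull (F
⊗_{O_X} G)^** makes the isomorphism classes of rank one coherent reflexive O_X-modules into an
abelian group: on that set there are a commutative and associative composition law, a neutral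
element and inverses, such that the product of the classes of F and G is the class of the reflexive
hull of F ⊗_{O_X} G, the neutral element is the class of O_X, and the inverse of the class of F is
the class of its dual 𝓗om_{O_X}(F, O_X). -/
theorem result (X : Scheme.{u}) [IsIntegral X] [IsLocallyNoetherian X] (hX : Pi1.IsNormalScheme X) :
    ∃ (mul : {c : PicF.Cl X // ∃ F : X.Modules, PicF.cl F = c ∧ RefHull.IsRef1 F} →
          {c : PicF.Cl X // ∃ F : X.Modules, PicF.cl F = c ∧ RefHull.IsRef1 F} →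
            {c : PicF.Cl X // ∃ F : X.Modules, PicF.cl F = c ∧ RefHull.IsRef1 F})
      (one : {c : PicF.Cl X // ∃ F : X.Modules, PicF.cl F = c ∧ RefHull.IsRef1 F})
      (inv : {c : PicF.Cl X // ∃ F : X.Modules, PicF.cl F = c ∧ RefHull.IsRef1 F} →
          {c : PicF.Cl X // ∃ F : X.Modules, PicF.cl F = c ∧ RefHull.IsRef1 F}),
      (∀ a b, mul a b = mul b a) ∧ (∀ a b c, mul (mul a b) c = mul a (mul b c)) ∧ (∀ a, mul one a = a) ∧
        (∀ a, mul (inv a) a = one) ∧
        (∀ (F G : X.Modules) (hF : RefHull.IsRef1 F) (hG : RefHull.IsRef1 G),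
          (mul ⟨PicF.cl F, F, rfl, hF⟩ ⟨PicF.cl G, G, rfl, hG⟩).1 = PicF.cl (RefHull.ddual (CohB1.tensorMod F G))) ∧
        one.1 = PicF.cl (Coh.structureModule X) ∧
        (∀ (F : X.Modules) (hF : RefHull.IsRef1 F), (inv ⟨PicF.cl F, F, rfl, hF⟩).1 = PicF.cl (RefHull.dual F)) := by
    let R := {c : PicF.Cl X // ∃ F : X.Modules, PicF.cl F = c ∧ RefHull.IsRef1 F}
    let rep : R → X.Modules := fun a => a.2.choose
    have hrep : ∀ a : R, PicF.cl (rep a) = a.1 ∧ RefHull.IsRef1 (rep a) := fun a => a.2.choose_spec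
    let mul : R → R → R := fun a b => ⟨PicF.cl (RefHull.ddual (CohB1.tensorMod (rep a) (rep b))), _, rfl,
      Groth.RefRank.isRef1_refTensor (hrep a).2 (hrep b).2⟩
    let one : R := ⟨PicF.cl (Coh.structureModule X), _, rfl, Groth.RefRank.isRef1_structure⟩
    let inv : R → R := fun a => ⟨PicF.cl (RefHull.dual (rep a)), _, rfl, Groth.RefRank.isRef1_dual (hrep a).2⟩
    -- a divisor of any representative is a divisor of the chosen one
    have hdiv : ∀ (a : R) (F : X.Modules), RefHull.IsRef1 F → PicF.cl F = a.1 → ∀ d,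
        Groth.RefRank.HasDiv F d → Groth.RefRank.HasDiv (rep a) d := fun a F hF e d h =>
      Groth.RefRank.hasDiv_iso hX hF (hrep a).2
        (Groth.RefRank.cl_eq_iff.mp (e.trans (hrep a).1.symm)).some h
    have hex : ∀ a : R, ∃ d, Groth.RefRank.HasDiv (rep a) d := fun a =>
      Groth.RefRank.exists_hasDiv (hrep a).2
    have hmul : ∀ a b d e, Groth.RefRank.HasDiv (rep a) d → Groth.RefRank.HasDiv (rep b) e →
        Groth.RefRank.HasDiv (rep (mul a b)) (fun y => d y + e y) := fun a b d e h h' =>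
      hdiv (mul a b) _ (Groth.RefRank.isRef1_refTensor (hrep a).2 (hrep b).2) rfl _
        (Groth.RefRank.hasDiv_refTensor hX (hrep a).2 (hrep b).2 h h')
    have hone : Groth.RefRank.HasDiv (rep one) (fun _ => 0) :=
      hdiv one _ Groth.RefRank.isRef1_structure rfl _ Groth.RefRank.hasDiv_structure
    have hinv : ∀ a d, Groth.RefRank.HasDiv (rep a) d → Groth.RefRank.HasDiv (rep (inv a)) (fun y => - d y) :=
      fun a d h => hdiv (inv a) _ (Groth.RefRank.isRef1_dual (hrep a).2) rfl _
        (Groth.RefRank.hasDiv_dual hX (hrep a).2 h)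
    have heq : ∀ (a b : R) d e, Groth.RefRank.HasDiv (rep a) d → Groth.RefRank.HasDiv (rep b) e →
        (∀ y, d y = e y) → a = b := fun a b d e h h' hde => by
      obtain rfl : d = e := funext hde
      apply Subtype.ext
      rw [← (hrep a).1, ← (hrep b).1]
      exact Groth.RefRank.cl_eq_iff.mpr (Groth.RefRank.nonempty_iso_of_hasDiv hX (hrep a).2 (hrep b).2 h h')
    refine ⟨mul, one, inv, fun a b => ?_, fun a b c => ?_, fun a => ?_, fun a => ?_,
      fun F G hF hG => ?_, rfl, fun F hF => ?_⟩
    · obtain ⟨d, hd⟩ := hex a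
      obtain ⟨e, he⟩ := hex b
      exact heq _ _ _ _ (hmul a b d e hd he) (hmul b a e d he hd) fun y => add_comm _ _
    · obtain ⟨d, hd⟩ := hex a
      obtain ⟨e, he⟩ := hex b
      obtain ⟨g, hg⟩ := hex c
      exact heq _ _ _ _ (hmul _ _ _ _ (hmul a b d e hd he) hg) (hmul _ _ _ _ hd (hmul b c e g he hg))
        fun y => add_assoc _ _ _
    · obtain ⟨d, hd⟩ := hex a
      exact heq _ _ _ _ (hmul _ _ _ _ hone hd) hd fun y => zero_add _
    · obtain ⟨d, hd⟩ := hex a
      exact heq _ _ _ _ (hmul _ _ _ _ (hinv a d hd) hd) hone fun y => neg_add_cancel _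
    · obtain ⟨d, hd⟩ := Groth.RefRank.exists_hasDiv hF
      obtain ⟨e, he⟩ := Groth.RefRank.exists_hasDiv hG
      refine Groth.RefRank.cl_eq_iff.mpr (Groth.RefRank.nonempty_iso_of_hasDiv hX
        (Groth.RefRank.isRef1_refTensor (hrep _).2 (hrep _).2) (Groth.RefRank.isRef1_refTensor hF hG)
        (Groth.RefRank.hasDiv_refTensor hX (hrep _).2 (hrep _).2 (hdiv _ F hF rfl d hd) (hdiv _ G hG rfl e he))
        (Groth.RefRank.hasDiv_refTensor hX hF hG hd he))
    · obtain ⟨d, hd⟩ := Groth.RefRank.exists_hasDiv hF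
      exact Groth.RefRank.cl_eq_iff.mpr (Groth.RefRank.nonempty_iso_of_hasDiv hX
        (Groth.RefRank.isRef1_dual (hrep _).2) (Groth.RefRank.isRef1_dual hF)
        (Groth.RefRank.hasDiv_dual hX (hrep _).2 (hdiv _ F hF rfl d hd))
        (Groth.RefRank.hasDiv_dual hX hF hd))

end Groth.Agent.S16085
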