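import Groth.Statements.S16089
import Groth.Agent.RefRank.DetTwist
-- import your own Groth.Agent.* helpers here

set_option autoImplicit false
universe u
open CategoryTheory CategoryTheory.Limits AlgebraicGeometry TopologicalSpace
open SDiv

namespace Groth.Agent.S16089

/-- Suppose X is an integral regular scheme (locally Noetherian, with every local ring regular) whose
dimension is at most 2. Consider an effective Cartier divisor D ⊆ X with ideal sheaf 𝓓, whose
associated closed subscheme is integral, and write i : D ⟶ X for the closed immersion. Take G to be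
a finite locally free O_D-module of rank s, and assume F ⟶ F' ⟶ i_*G ⟶ 0 is exact, where F and F'
are coherent O_X-modules that are both locally free of rank r on some common nonempty open subset.
Then, for any r-th exterior power L of F and L' of F', the reflexive hulls L^** and L'^** are
invertible O_X-modules, and there is an integer k with 0 ≤ k ≤ min(s, r) such that L'^** ≅ L^** ⊗
O_X(D)^{⊗ k}, where O_X(D) = 𝓗om(𝓓, O_X). Although the published version assumes X has dimension
exactly 2, the proof only needs dimension at most 2. -/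
theorem result (X : Scheme.{u}) [IsIntegral X] [IsLocallyNoetherian X]
    (hreg : ∀ x : ↥X, IsRegularLocalRing ↑(X.presheaf.stalk x)) (hdim : topologicalKrullDim ↥X ≤ 2)
    (𝓓 : X.IdealSheafData) (hD : BlowUp.IsEffCartierIdeal 𝓓) (hDi : IsIntegral 𝓓.subscheme) (s : ℕ)
    (G : (𝓓.subscheme).Modules) (hG : FlatMod.IsFinLocFreeOfRank s G) (F F' : X.Modules) (hF : Coh.IsCoh F)
    (hF' : Coh.IsCoh F') (a : F ⟶ F') (b : F' ⟶ (Scheme.Modules.pushforward 𝓓.subschemeι).obj G) (w : a ≫ b = 0)
    (hex : (ShortComplex.mk a b w).Exact) (hb : Epi b) (r : ℕ)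
    (hU : ∃ U : X.Opens, (U : Set ↥X).Nonempty ∧ FlatMod.IsFinLocFreeOfRank r (F.restrict U.ι) ∧
      FlatMod.IsFinLocFreeOfRank r (F'.restrict U.ι))
    (L L' : X.Modules) (hL : ExtPow.IsExtPow r F L) (hL' : ExtPow.IsExtPow r F' L') :
    PicF.IsInvertible (RefHull.ddual L) ∧ PicF.IsInvertible (RefHull.ddual L') ∧
      ∃ k : ℕ, k ≤ min s r ∧
        Nonempty (RefHull.ddual L' ≅
          CohB1.tensorMod (RefHull.ddual L) (CohB1.tensorPow (RefHull.dual (ClSub.idealMod 𝓓)) k)) := by
  open Groth.RefRank Groth.RefRank.DetTwist Groth.RefRank.DetDiv Groth.RefRank.CartierTwist Groth.QCohMod in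
  classical
  have hX := Groth.RefRank.isNormalScheme_of_regular hreg
  obtain ⟨U, hUne, hUF, hUF'⟩ := hU
  have hr := finrank_generic hUne hUF
  have hr' := finrank_generic hUne hUF'
  obtain ⟨hM, hMi, φ, hφ₀, hφ⟩ := exists_det_map hreg hF hr hL
  obtain ⟨hM', hMi', φ', hφ₀', hφ'⟩ := exists_det_map hreg hF' hr' hL'
  refine ⟨hMi, hMi', ?_⟩
  have := hF.1
  have := hF'.1
  let η := genericPoint ↥X
  letI : Field (X.presheaf.stalk η) := inferInstanceAs (Field X.functionField)
  haveI := finite_stalkModule hF η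
  haveI := finite_stalkModule hF' η
  have hηD := genericPoint_notMem_support hD
  -- exactness on stalks
  have hbsurj : ∀ y, Function.Surjective (RefHull.stalkMapₗ b y) := (epi_iff_stalk b).1 hb
  have hker : ∀ y q, RefHull.stalkMapₗ b y q = 0 → q ∈ LinearMap.range (RefHull.stalkMapₗ a y) :=
    fun y q hq => (ShortComplex.ab_exact_iff _).1 ((exact_iff_stalk _).1 hex y) q hq
  have hgen : Function.Bijective (RefHull.stalkMapₗ a η) := by
    have := subsingleton_stalk_push G hηD
    have hs : Function.Surjective (RefHull.stalkMapₗ a η) := fun q =>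
      hker η q (Subsingleton.elim _ _)
    exact ⟨((RefHull.stalkMapₗ a η).injective_iff_surjective_of_finrank_eq_finrank (hr.trans hr'.symm)).2 hs,
      hs⟩
  let bF := Module.finBasisOfFinrankEq (X.presheaf.stalk η) (F.presheaf.stalk η) hr
  -- the local statement
  have hloc : ∀ y, ringKrullDim (X.presheaf.stalk y) = 1 → ∀ (t : ℕ)
      (g : Fin t → ((Scheme.Modules.pushforward 𝓓.subschemeι).obj G).presheaf.stalk y),
      Submodule.span (X.presheaf.stalk y) (Set.range g) = ⊤ →
      ∃ k : ℕ, k ≤ t ∧ k ≤ r ∧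
        ordSec (RefHull.ddual L') y (form φ' η fun j => RefHull.stalkMapₗ a η (bF j)) =
          ordSec (RefHull.ddual L) y (form φ η bF) + k := by
    intro y hy t g hg
    choose g' hg' using fun i => hbsurj y (g i)
    refine exists_ord_form_comp hX hF' φ φ' hM hM' hφ₀ hφ₀' a hgen bF hy (hφ y hy) (hφ' y hy)
      (fun c hc q => hker y _ ?_) g' (eq_top_iff.2 ?_)
    · rw [map_smul]
      exact (exists_gens_push hD hG hy).1 c hc _
    · rintro q -
      obtain ⟨c, hc⟩ := (Submodule.mem_span_range_iff_exists_fun _).1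
        (hg.ge (Submodule.mem_top : RefHull.stalkMapₗ b y q ∈ ⊤))
      rw [show q = (∑ i, c i • g' i) + (q - ∑ i, c i • g' i) by abel]
      refine Submodule.add_mem_sup (Submodule.sum_mem _ fun i _ =>
        Submodule.smul_mem _ _ (Submodule.subset_span ⟨i, rfl⟩)) (hker y _ ?_)
      simp [map_sum, hg', hc]
  -- the exponent
  obtain ⟨k, hk, hkey⟩ : ∃ k : ℕ, k ≤ min s r ∧ ∀ y, ringKrullDim (X.presheaf.stalk y) = 1 →
      ordSec (RefHull.ddual L') y (form φ' η fun j => RefHull.stalkMapₗ a η (bF j)) =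
        ordSec (RefHull.ddual L) y (form φ η bF) + (k : ℤ) * (if y ∈ 𝓓.support then 1 else 0) := by
    have h0 : ∀ y, ringKrullDim (X.presheaf.stalk y) = 1 → y ∉ 𝓓.support →
        ordSec (RefHull.ddual L') y (form φ' η fun j => RefHull.stalkMapₗ a η (bF j)) =
          ordSec (RefHull.ddual L) y (form φ η bF) := fun y hy hys => by
      have := subsingleton_stalk_push G hys
      obtain ⟨k, hk, -, h⟩ := hloc y hy 0 0 (Subsingleton.elim _ _)
      simpa [Nat.le_zero.1 hk] using h
    by_cases hex' : ∃ y, ringKrullDim (X.presheaf.stalk y) = 1 ∧ y ∈ 𝓓.support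
    · obtain ⟨y₀, hy₀, hys₀⟩ := hex'
      obtain ⟨g, hg⟩ := (exists_gens_push hD hG hy₀).2
      obtain ⟨k, hks, hkr, h⟩ := hloc y₀ hy₀ s g hg
      refine ⟨k, le_min hks hkr, fun y hy => ?_⟩
      by_cases hys : y ∈ 𝓓.support
      · obtain rfl : y = y₀ := (eq_image_genericPoint hD hy hys).symm.trans
          (eq_image_genericPoint hD hy₀ hys₀)
        rw [if_pos hys, h, mul_one]
      · rw [if_neg hys, h0 y hy hys, mul_zero, add_zero]
    · exact ⟨0, Nat.zero_le _, fun y hy => by
        rw [if_neg fun h => hex' ⟨y, hy, h⟩, h0 y hy fun h => hex' ⟨y, hy, h⟩, mul_zero, add_zero]⟩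
  refine ⟨k, hk, ?_⟩
  have hne : ∀ {E M : X.Modules} [E.IsQuasicoherent] (ψ : Groth.LocFree.extPow r E ⟶ M),
      Function.Surjective (RefHull.stalkMapₗ ψ η) → IsRankOne M →
      ∀ B : Module.Basis (Fin r) (X.presheaf.stalk η) (E.presheaf.stalk η), form ψ η B ≠ 0 := by
    intro E M _ ψ hψ hM1 B h0
    obtain ⟨w, hw⟩ := hM1
    obtain ⟨z, rfl⟩ := hψ w
    have hle : Submodule.span (X.presheaf.stalk η) (Set.range (stalkWedge r E η)) ≤
        LinearMap.ker (RefHull.stalkMapₗ ψ η) := Submodule.span_le.2 (by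
      rintro _ ⟨v, rfl⟩
      change form ψ η v = 0
      rw [DetAlg.alt_apply_eq_det_smul (form ψ η) B v, h0, smul_zero])
    have hz : RefHull.stalkMapₗ ψ η z = 0 := hle ((span_stalkWedge r E η).ge Submodule.mem_top)
    exact one_ne_zero (hw.1 (a₁ := 1) (a₂ := 0) (by dsimp only; rw [hz, smul_zero, smul_zero]))
  have hd : HasDiv (RefHull.ddual L) (fun y => ordSec (RefHull.ddual L) y (form φ η bF)) :=
    ⟨_, hne φ hφ₀ (isRankOne_of_genInvertible hM.2.2) bF, fun _ _ => rfl⟩
  have hd' : HasDiv (RefHull.ddual L')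
      (fun y => ordSec (RefHull.ddual L) y (form φ η bF) +
        (k : ℤ) * (if y ∈ 𝓓.support then 1 else 0)) := by
    refine ⟨_, hne φ' hφ₀' (isRankOne_of_genInvertible hM'.2.2)
      (bF.map (LinearEquiv.ofBijective (RefHull.stalkMapₗ a η) hgen)), fun y hy => ?_⟩
    exact hkey y hy
  have hinvD := DualInv.isInvertible_dual (Groth.PicAux.isInvertible_idealMod hD)
  exact nonempty_iso_of_hasDiv hX hM'
    (isRef1_of_isInvertible (Groth.Abvar.PicCalc.isInvertible_tensorMod hMi
      (Groth.Abvar.PicCalc.isInvertible_tensorPow hinvD k)))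
    hd' (hasDiv_tensor hMi (Groth.Abvar.PicCalc.isInvertible_tensorPow hinvD k) hd
      (hasDiv_tensorPow hinvD (hasDiv_dual_idealMod hX hD) k))

end Groth.Agent.S16089
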