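import Groth.Statements.S1609
import Groth.Agent.VarietyBC.Fibre

set_option autoImplicit false
universe u
open CategoryTheory CategoryTheory.Limits AlgebraicGeometry
open Variety

namespace Groth.Agent.S1609

open Groth.VarietyBC


/-- Geometric irreducibility of a k-scheme can be checked after an arbitrary extension of the base
field. -/
theorem result (k : Type u) [Field k] (X : Scheme.{u}) [X.Over (Spec (CommRingCat.of k))] (k' : Type u) [Field k'] [Algebra k k']
    [GeometricallyIrreducible (Curv2.bcSnd k X k')] : GeometricallyIrreducible (X ↘ (Spec (CommRingCat.of k))) := by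
  let S := AlgebraicClosure k'
  have h : IrreducibleSpace
      ↑(pullback (Curv2.bcSnd k X k') (Spec.map (CommRingCat.ofHom (algebraMap k' S)))) :=
    GeometricallyIrreducible.geometrically_irreducibleSpace _ _ _ (.of_hasPullback _ _)
  let e := pullbackLeftPullbackSndIso (X ↘ (Spec (CommRingCat.of k)))
      (Spec.map (CommRingCat.ofHom (algebraMap k k'))) (Spec.map (CommRingCat.ofHom (algebraMap k' S)))
      ≪≫ pullback.congrHom rfl (by
        rw [← Spec.map_comp, ← CommRingCat.ofHom_comp, ← IsScalarTower.algebraMap_eq k k' S])
  have : IrreducibleSpace (Curv2.bc k X S) := e.hom.homeomorph.irreducibleSpace_iff.mp h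
  have : IrreducibleSpace X := irreducibleSpace_of_bc (k := k) S
  exact geometricallyIrreducible_of_sepClosedAt
    (sepClosedAt_genericPoint_of_bc S fun E => ⟨IsSepClosed.lift⟩)

end Groth.Agent.S1609
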