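import Groth.Statements.S16091
import Groth.Agent.RefRank.RelTwistFlat

set_option autoImplicit false
universe u
open CategoryTheory CategoryTheory.Limits AlgebraicGeometry TopologicalSpace Opposite
open scoped HomogeneousIdeal
noncomputable section
open SDiv

namespace Groth.Agent.S16091

/-- Let S be a scheme and 𝒜 a quasi-coherent graded O_S-algebra such that for all sufficiently large d
the degree-d piece 𝒜_d is a flat O_S-module (over every affine open U the degree-d part of 𝒜(U) is a
flat module over Γ(U, O_S) acting through the structure map). Let p : P ⟶ S be the relative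
homogeneous spectrum of 𝒜, given with its charts. Then p is flat, and for every integer n the
twisting module O_P(n), given with its chart identifications, is flat over S (every stalk O_P(n)_x
is flat over O_{S, p x}). -/
theorem result {S P : Scheme.{u}} (𝒜 : RelProj.QCGrAlg S)
    (hflat : ∃ d₀ : ℕ, ∀ d : ℕ, d₀ ≤ d → ∀ (U : S.Opens) (hU : IsAffineOpen U),
      letI := (𝒜.str.app (op U)).hom.toAlgebra
      Module.Flat Γ(S, U) ↥(Submodule.span Γ(S, U) (𝒜.deg U hU d : Set (𝒜.presheaf.obj (op U)))))
    (p : P ⟶ S) (chart : ∀ (U : S.Opens) (hU : IsAffineOpen U), (((p ⁻¹ᵁ U : P.Opens) : Scheme.{u}) ≅ Proj (𝒜.deg U hU)))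
    (hP : RelProj.IsRelProj 𝒜 p chart) :
    Flat p ∧
      ∀ (n : ℤ) (L : P.Modules)
        (lam : ∀ (U : S.Opens) (hU : IsAffineOpen U),
          L ⟶ (Scheme.Modules.pushforward (RelProj.emb p chart U hU)).obj (GrTwist.twist (𝒜.deg U hU) n)),
        RelProj.IsRelTwist 𝒜 p chart n L lam → FlatMod.IsFlatOver p L := by
  exact ⟨Groth.RefRank.RelTwistFlat.flat hP hflat,
    fun n L lam hL x => Groth.RefRank.RelTwistFlat.isFlatOverAt lam hP hL hflat x⟩

end Groth.Agent.S16091
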