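import Groth.Statements.S16096
import Groth.Agent.BMCoh.Push

set_option autoImplicit false
universe u
open CategoryTheory AlgebraicGeometry Opposite
open BMCoh

namespace Groth.Agent.S16096

/-- Let T be a pre-theory (the groups, proper push-forwards and residue maps of a twisted Borel–Moore
cohomology theory, with their conditions) with coefficients in A on a constructible class V of
Noetherian schemes, Y and X objects, φ : Y → X a proper morphism of their schemes, y a point of Y
and x a point of X. A push-forward datum of groups of points along φ from y to x consists of the
assertions φ(y) = x and dim (closure of y) = dim (closure of x) together with maps H^i(y, M(n)) →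
H^i(x, M(n)) for all M, i, n which, read through any nonempty open W of the reduced closure of y,
any nonempty open W' of the reduced closure of x and any proper f : W → W' compatible with φ, are
push-forward along f. Then any two such data are equal. (Properness of φ is essential: along the
spectrum of a transcendental field extension no compatible f exists and the maps are unconstrained.) -/
theorem result
    (V : ObjectProperty Scheme.{u}) [BMCoh.IsConstructible V] (R : Type u) [CommRing R]
    (A : BMCoh.Coefs R) (T : BMCoh.PreTheory V R A) (Y X : BMCoh.Obj V)
    (φ : Y.scheme ⟶ X.scheme) [IsProper φ] (y : Y.scheme) (x : X.scheme) :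
    Subsingleton (T.PtPush φ y x) := by
  refine ⟨fun L L' => ?_⟩
  obtain rfl : φ.base y = x := L.maps_pt
  have h : L.cpt = L'.cpt := by
    funext M i n
    refine ModuleCat.hom_ext (LinearMap.ext fun γ => ?_)
    obtain ⟨U, hU, f, hf, b, hi, hn, hb, hL⟩ :=
      Groth.BMCohLib.exists_ptPush_rep (T := T) L.codim_eq M i n γ
    exact (hL L).trans (hL L').symm
  cases L; cases L'; cases h; rfl

end Groth.Agent.S16096
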