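import Groth.Statements.S16099
import Groth.Agent.FunFld1.RiemannRoch

set_option autoImplicit false
universe u
open FunFld Groth.FunFld1

namespace Groth.Agent.S16099

/-- For a function field `K/k` of one variable of genus `g` and any place `P`, the `k`-space `K /
(O_{\{P\}} + O_P)` is finite-dimensional of dimension `g` (the number of Weierstrass gaps when `P`
is rational), where `O_{\{P\}}` is the ring of elements of `K` integral at every place other than
`P` and `O_P` is the valuation ring of `P` (written as the elements integral at every place outside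
the complement of `\{P\}`). (The published example is for a curve over an algebraically closed field
and is stated with completions at `P`; this is the equivalent form inside `K`, over any field `k`
algebraically closed in `K`.) -/
theorem result (k K : Type u) [Field k] [Field K]
    [Algebra k K] (hK : FunFld.IsFunctionField k K) (P : FunFld.Place k K) :
    FiniteDimensional k (K ⧸ (Subalgebra.toSubmodule (AdFn.SInt ({P} : Set (FunFld.Place k K))) ⊔
        Subalgebra.toSubmodule (AdFn.SInt (({P} : Set (FunFld.Place k K))ᶜ)))) ∧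
    Module.finrank k (K ⧸ (Subalgebra.toSubmodule (AdFn.SInt ({P} : Set (FunFld.Place k K))) ⊔
        Subalgebra.toSubmodule (AdFn.SInt (({P} : Set (FunFld.Place k K))ᶜ)))) = FunFld.genus k K := by
  classical
  have hF := IsFF.of_isFunctionField hK
  obtain ⟨hfin, hrank⟩ := adele_quotient hK (0 : FunFld.Divisor k K)
  set R := Subalgebra.toSubmodule (AdFn.SInt ({P} : Set (FunFld.Place k K))) ⊔
    Subalgebra.toSubmodule (AdFn.SInt (({P} : Set (FunFld.Place k K))ᶜ))
  let one : K →ₗ[k] ↥(FunFld.adele k K) :=
    (LinearMap.single k (fun _ : FunFld.Place k K => K) P).codRestrict (FunFld.adele k K) fun x =>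
      (Filter.eventually_cofinite_ne P).mono fun Q hQ => by
        simp [Pi.single_eq_of_ne hQ]
  let ψ := (Submodule.mkQ (FunFld.ADK (0 : FunFld.Divisor k K))).comp one
  have hker : LinearMap.ker ψ = R := by
    ext x
    rw [LinearMap.mem_ker]
    change Submodule.Quotient.mk (one x) = 0 ↔ _
    rw [Submodule.Quotient.mk_eq_zero]
    change Pi.single P x ∈ FunFld.AD (0 : FunFld.Divisor k K) ⊔ LinearMap.range (FunFld.diag k K) ↔ _
    constructor
    · intro hx
      obtain ⟨b, hb, _, ⟨y, rfl⟩, hby⟩ := Submodule.mem_sup.1 hx
      refine Submodule.mem_sup.2 ⟨y, fun Q hQ => ?_, x - y, fun Q hQ => ?_, add_sub_cancel y x⟩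
      · have h1 := congrFun hby Q
        rw [Pi.add_apply, Pi.single_eq_of_ne (M := fun _ : FunFld.Place k K => K) (by simpa using hQ) x,
          FunFld.diag, LinearMap.pi_apply, LinearMap.id_apply] at h1
        have h2 := hb Q
        rw [eq_neg_of_add_eq_zero_left h1, Valuation.map_neg] at h2
        simpa using h2
      · rw [Set.notMem_compl_iff, Set.mem_singleton_iff] at hQ
        subst hQ
        have h1 := congrFun hby Q
        rw [Pi.add_apply, Pi.single_eq_same, FunFld.diag, LinearMap.pi_apply, LinearMap.id_apply] at h1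
        rw [← h1, add_sub_cancel_right]
        simpa using hb Q
    · intro hx
      obtain ⟨y, hy, z, hz, rfl⟩ := Submodule.mem_sup.1 hx
      refine Submodule.mem_sup.2 ⟨Pi.single P (y + z) - FunFld.diag k K y, fun Q => ?_, _, ⟨y, rfl⟩,
        sub_add_cancel _ _⟩
      rw [Pi.sub_apply, FunFld.diag, LinearMap.pi_apply, LinearMap.id_apply, Finsupp.zero_apply,
        WithZero.exp_zero]
      rcases eq_or_ne Q P with e | hQ
      · subst e
        rw [Pi.single_eq_same, add_sub_cancel_left]
        exact hz Q (by simp)
      · rw [Pi.single_eq_of_ne (M := fun _ : FunFld.Place k K => K) hQ, zero_sub, Valuation.map_neg]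
        exact hy Q (by simpa using hQ)
  have hsurj : Function.Surjective ψ := by
    intro q
    obtain ⟨a, rfl⟩ := Submodule.mkQ_surjective _ q
    set N : FunFld.Divisor k K := Finsupp.single P ((2 * FunFld.genus k K : ℕ) : ℤ) with hN
    obtain ⟨hfinN, hN0⟩ := adele_quotient hK N
    have hd : delta N = FunFld.genus k K := delta_eq_of_deg_ge hK (by
      rw [hN, Groth.FunFld1.deg_single]
      have := hF.deg_pos P
      push_cast
      nlinarith)
    rw [hd, sub_self] at hN0
    have hN1 : Module.finrank k (↥(FunFld.adele k K) ⧸ FunFld.ADK N) = 0 := by exact_mod_cast hN0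
    have : Subsingleton (↥(FunFld.adele k K) ⧸ FunFld.ADK N) := Module.finrank_zero_iff.1 hN1
    have hmem : a ∈ FunFld.ADK N := by
      rw [← Submodule.Quotient.mk_eq_zero]
      exact Subsingleton.elim _ _
    obtain ⟨b, hb, _, ⟨y, rfl⟩, hby⟩ := Submodule.mem_sup.1 (Submodule.mem_comap.1 hmem)
    refine ⟨b P, ?_⟩
    change Submodule.Quotient.mk (one (b P)) = Submodule.Quotient.mk a
    rw [Submodule.Quotient.eq]
    change Pi.single P (b P) - a.1 ∈ FunFld.AD (0 : FunFld.Divisor k K) ⊔ LinearMap.range (FunFld.diag k K)
    rw [← show b + FunFld.diag k K y = a.1 from hby, sub_add_eq_sub_sub]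
    refine sub_mem (Submodule.mem_sup_left fun Q => ?_) (Submodule.mem_sup_right ⟨y, rfl⟩)
    rw [Pi.sub_apply, Finsupp.zero_apply, WithZero.exp_zero]
    rcases eq_or_ne Q P with e | hQ
    · subst e; simp
    · rw [Pi.single_eq_of_ne (M := fun _ : FunFld.Place k K => K) hQ, zero_sub, Valuation.map_neg]
      simpa [hN, Finsupp.single_eq_of_ne hQ] using hb Q
  have e := (Submodule.quotEquivOfEq _ _ hker.symm).trans (ψ.quotKerEquivOfSurjective hsurj)
  refine ⟨Module.Finite.equiv e.symm, ?_⟩
  rw [e.finrank_eq]
  have h0 : delta (0 : FunFld.Divisor k K) = 0 := delta_zero hK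
  rw [h0, sub_zero] at hrank
  exact_mod_cast hrank

end Groth.Agent.S16099
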