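import Groth.Statements.S16102
import Groth.Agent.Limits.BC0.Vanish

set_option autoImplicit false
set_option backward.isDefEq.respectTransparency false
set_option backward.defeqAttrib.useBackward true
set_option backward.isDefEq.respectTransparency.types false
universe u
open Coherent

namespace Groth.Agent.S16102

open AlgebraicGeometry CategoryTheory Scheme.Modules in
/-- p = 2: let π : X → Y be proper of finite presentation and F a quasi-coherent O_X-module of finite
presentation, flat over Y. Suppose that for every point y of Y, H^2(X_y, F|_{X_y}) = 0 (cohomology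
of the restriction of F to the scheme-theoretic fibre) and the degree-0 base change map of the fibre
square at y, κ(y)^* π_* F → (X_y → Spec κ(y))_* (F|_{X_y}) — the adjoint of π_* of the unit F → ι_*
ι^* F for ι : X_y → X, followed by the identification π_* ι_* = (Spec κ(y) → Y)_* (X_y → Spec
κ(y))_* — is an epimorphism. Then R^1 π_* F, the first right derived functor of π_* on O_X-modules
applied to F, is a finite locally free O_Y-module. (The case p = 2 of the source's statement for an
integer p, whose surjectivity hypothesis in degree p - 2 concerns a higher base change map when p is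
at least 3 and is empty when p is at most 1.) -/
theorem result
    {X Y : Scheme.{u}} (π : X ⟶ Y) [IsProper π] [LocallyOfFinitePresentation π]
    [HasInjectiveResolutions X.Modules]
    (F : X.Modules) [Coh.IsQCoh F] (hfp : CohB1.IsFP F) (hfl : FlatMod.IsFlatOver π F)
    (h2 : ∀ y : Y, Subsingleton (CohIII.fiberH π F y 2))
    (h0 : ∀ y : Y, Epi (((pullbackPushforwardAdjunction (Y.fromSpecResidueField y)).homEquiv ((pushforward π).obj F)
            ((pushforward (π.fiberToSpecResidueField y)).obj ((pullback (π.fiberι y)).obj F))).symm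
          ((pushforward π).map ((pullbackPushforwardAdjunction (π.fiberι y)).unit.app F) ≫
            (pushforwardComp (π.fiberι y) π).hom.app ((pullback (π.fiberι y)).obj F) ≫
            (pushforwardCongr (π.fiber_fac y)).hom.app ((pullback (π.fiberι y)).obj F) ≫
            (pushforwardComp (π.fiberToSpecResidueField y) (Y.fromSpecResidueField y)).inv.app ((pullback (π.fiberι y)).obj F)))) :
    FlatMod.IsFinLocFree ((Coh.Rpush π 1).obj F) := by
  have := Groth.CohBase.isQCoh_Rpush π (M := F) 1
  refine Groth.LocFree.isFinLocFree_of_affine_cover fun y => ?_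
  obtain ⟨_, ⟨V, hV, rfl⟩, hy, -⟩ :=
    Y.isBasis_affineOpens.exists_subset_of_mem_open (Set.mem_univ y) isOpen_univ
  obtain ⟨M⟩ := Groth.CohC3.BC.exists_model_preimage π hV F hfp hfl
  have := M.finitePresentation 1
  have := M.finitePresentation 2
  have := M.free 1
  have := M.finite 1
  have h1 : Module.freeLocus Γ(Y, V) (M.Q 1) = Set.univ := by
    refine Set.eq_univ_of_forall fun x => ?_
    obtain ⟨z, hz, rfl⟩ := Groth.CohBase.exists_primeIdealOf_eq hV x
    have hpt : ∀ w : Spec (Y.residueField z), Y.fromSpecResidueField z w = z :=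
      fun w => Scheme.fromSpecResidueField_apply z w
    let w : Spec (Y.residueField z) := IsLocalRing.closedPoint (Y.residueField z)
    have hK : IsField Γ(Spec (Y.residueField z), ⊤) :=
      MulEquiv.isField (Field.toIsField (Y.residueField z))
        (Scheme.ΓSpecIso (Y.residueField z)).commRingCatIsoToRingEquiv.toMulEquiv
    have hmem := Groth.Limits.BC0.mem_freeLocus_of_epi M
      (IsPullback.of_hasPullback π (Y.fromSpecResidueField z)) hV (isAffineOpen_top _)
      (fun v _ => show Y.fromSpecResidueField z v ∈ V by rw [hpt v]; exact hz) hK (z := w) trivial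
      (h0 z)
    have e : (⟨Y.fromSpecResidueField z w, by rw [hpt w]; exact hz⟩ : V) = ⟨z, hz⟩ :=
      Subtype.ext (hpt w)
    rwa [show hV.primeIdealOf _ = hV.primeIdealOf ⟨z, hz⟩ from congrArg _ e] at hmem
  have h2' : Module.freeLocus Γ(Y, V) (M.Q 2) = Set.univ := by
    refine Set.eq_univ_of_forall fun x => ?_
    obtain ⟨z, hz, rfl⟩ := Groth.CohBase.exists_primeIdealOf_eq hV x
    exact (Groth.CohC3.BC.mem_freeLocus_of_vanish hV M hz 2 (h2 z)).1.2
  have : Module.Projective Γ(Y, V) (M.Q 1) := Module.freeLocus_eq_univ_iff.1 h1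
  have : Module.Projective Γ(Y, V) (M.Q (1 + 1)) := Module.freeLocus_eq_univ_iff.1 h2'
  obtain ⟨_, _⟩ := Groth.CohC3.BC.ker_finite_projective (M.exact 1) (M.surjective 1)
  let : ((π ⁻¹ᵁ V : X.Opens) : Scheme.{u}).Over (Spec (CommRingCat.of Γ(Y, V))) :=
    ⟨Groth.CohBase.preimageToSpec π⟩
  obtain ⟨e⟩ := Groth.CohBase.exists_Rpush_linEquiv π (M := F) 1 hV
  let e' : LinearMap.ker (M.d 1) ≃ₗ[Γ(Y, V)] Γ((Coh.Rpush π 1).obj F, V) := (M.e₀ 1).trans e.symm
  exact ⟨V, hV, hy, Module.Finite.equiv e', Module.Projective.of_equiv e'⟩

end Groth.Agent.S16102
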