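import Groth.Statements.S16104
import Mathlib

set_option autoImplicit false
universe u v
open LunaSt

namespace Groth.Agent.S16104

/-- Case of local rings. Let φ : A → B be a local homomorphism of Noetherian local rings whose composite
A → B/m_B² is surjective (the first infinitesimal neighbourhoods give a closed immersion), and
assume that A/m_A^(n+1) and B/m_B^(n+1) have the same length for every n (the associated graded
modules of the two maximal ideals have pieces of the same dimension over the common residue field).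
Then for every n the composite A → B/m_B^(n+1) is surjective with kernel m_A^(n+1): φ identifies all
infinitesimal neighbourhoods. (The published statement is for a pointed morphism of Noetherian local
algebraic stacks; its proof reduces to this case of local rings.) -/
theorem result
    (A : Type u) (B : Type v) [CommRing A] [CommRing B] [IsLocalRing A] [IsLocalRing B]
    [IsNoetherianRing A] [IsNoetherianRing B] (φ : A →+* B) [IsLocalHom φ]
    (h1 : Function.Surjective ((Ideal.Quotient.mk (IsLocalRing.maximalIdeal B ^ 2)).comp φ))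
    (hlen : ∀ n : ℕ, Module.length A (A ⧸ IsLocalRing.maximalIdeal A ^ (n + 1)) =
      Module.length B (B ⧸ IsLocalRing.maximalIdeal B ^ (n + 1))) (n : ℕ) :
    Function.Surjective ((Ideal.Quotient.mk (IsLocalRing.maximalIdeal B ^ (n + 1))).comp φ) ∧
      RingHom.ker ((Ideal.Quotient.mk (IsLocalRing.maximalIdeal B ^ (n + 1))).comp φ) =
        IsLocalRing.maximalIdeal A ^ (n + 1) := by
  classical
  let _ : Algebra A B := φ.toAlgebra
  set mA := IsLocalRing.maximalIdeal A with hmA
  set mB := IsLocalRing.maximalIdeal B with hmB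
  have hmap : mA.map φ ≤ mB := ((IsLocalRing.local_hom_TFAE φ).out 0 2).1 ‹IsLocalHom φ›
  have hpow : ∀ k a, a ∈ mA ^ k → φ a ∈ mB ^ k := fun k a ha =>
    Ideal.pow_right_mono hmap k (Ideal.map_pow φ mA k ▸ Ideal.mem_map_of_mem φ ha)
  have h1' : ∀ b : B, ∃ a, b - φ a ∈ mB ^ 2 := fun b => by
    obtain ⟨a, ha⟩ := h1 (Ideal.Quotient.mk _ b)
    exact ⟨a, Ideal.Quotient.eq.1 ha.symm⟩
  have hdeg1 : ∀ b ∈ mB, ∃ a ∈ mA, b - φ a ∈ mB ^ 2 := fun b hb => by
    obtain ⟨a, ha⟩ := h1' b
    refine ⟨a, ?_, ha⟩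
    have h2 : φ a ∈ mB := by
      have := Ideal.sub_mem _ hb (Ideal.pow_le_self two_ne_zero ha)
      simpa using this
    by_contra h
    exact h2 ((IsLocalRing.notMem_maximalIdeal.1 h).map φ)
  have hgr : ∀ k, ∀ b ∈ mB ^ k, ∃ a ∈ mA ^ k, b - φ a ∈ mB ^ (k + 1) := by
    intro k
    induction k with
    | zero =>
      intro b _
      obtain ⟨a, ha⟩ := h1' b
      exact ⟨a, by simp, Ideal.pow_le_pow_right (by norm_num) ha⟩
    | succ k ih =>
      intro b hb
      rw [pow_succ] at hb
      induction hb using Submodule.mul_induction_on' with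
      | mem_mul_mem x hx y hy =>
        obtain ⟨a, ha, ha'⟩ := ih x hx
        obtain ⟨a', ha2, ha2'⟩ := hdeg1 y hy
        refine ⟨a * a', pow_succ mA k ▸ Ideal.mul_mem_mul ha ha2, ?_⟩
        have e : x * y - φ (a * a') = (x - φ a) * y + φ a * (y - φ a') := by rw [map_mul]; ring
        rw [e]
        refine Ideal.add_mem _ ?_ ?_
        · exact pow_succ mB (k + 1) ▸ Ideal.mul_mem_mul ha' hy
        · rw [show k + 1 + 1 = k + 2 from rfl, pow_add]
          exact Ideal.mul_mem_mul (hpow k a ha) ha2'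
      | add x _ y _ hx hy =>
        obtain ⟨a, ha, ha'⟩ := hx
        obtain ⟨a', ha2, ha2'⟩ := hy
        refine ⟨a + a', Ideal.add_mem _ ha ha2, ?_⟩
        rw [map_add, add_sub_add_comm]
        exact Ideal.add_mem _ ha' ha2'
  have hsurjk : ∀ k, ∀ b : B, ∃ a, b - φ a ∈ mB ^ k := by
    intro k
    induction k with
    | zero => exact fun b => ⟨0, by simp⟩
    | succ k ih =>
      intro b
      obtain ⟨a, ha⟩ := ih b
      obtain ⟨a', -, ha'⟩ := hgr k _ ha
      exact ⟨a + a', by rwa [map_add, ← sub_sub]⟩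
  have hsurj : Function.Surjective ((Ideal.Quotient.mk (mB ^ (n + 1))).comp φ) := by
    intro c
    obtain ⟨b, rfl⟩ := Ideal.Quotient.mk_surjective c
    obtain ⟨a, ha⟩ := hsurjk (n + 1) b
    exact ⟨a, (Ideal.Quotient.eq.2 ha).symm⟩
  refine ⟨hsurj, ?_⟩
  have hle : mA ^ (n + 1) ≤ RingHom.ker ((Ideal.Quotient.mk (mB ^ (n + 1))).comp φ) := fun a ha =>
    Ideal.Quotient.eq_zero_iff_mem.2 (hpow _ a ha)
  refine le_antisymm (fun a ha => ?_) hle
  let g : (A ⧸ mA ^ (n + 1)) →ₗ[A] (B ⧸ mB ^ (n + 1)) :=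
    (mA ^ (n + 1)).liftQ (Algebra.linearMap A (B ⧸ mB ^ (n + 1))) hle
  have hg : Function.Surjective g := fun c => by
    obtain ⟨a, rfl⟩ := hsurj c
    exact ⟨Submodule.Quotient.mk a, rfl⟩
  have hAC : Module.length A (B ⧸ mB ^ (n + 1)) = Module.length B (B ⧸ mB ^ (n + 1)) :=
    (Module.length_eq_of_surjective (R := B ⧸ mB ^ (n + 1)) (S := A) hsurj).trans
      (Module.length_eq_of_surjective (R := B ⧸ mB ^ (n + 1)) (S := B) Ideal.Quotient.mk_surjective).symm
  have : IsArtinianRing (B ⧸ mB ^ (n + 1)) := by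
    have : Nontrivial (B ⧸ mB ^ (n + 1)) := Ideal.Quotient.nontrivial_iff.2 (fun h =>
      (IsLocalRing.maximalIdeal.isMaximal B).ne_top (top_le_iff.1 (h ▸ Ideal.pow_le_self (Nat.succ_ne_zero n))))
    have : IsLocalRing (B ⧸ mB ^ (n + 1)) :=
      IsLocalRing.of_surjective' (Ideal.Quotient.mk _) Ideal.Quotient.mk_surjective
    rw [isArtinianRing_iff_isNilpotent_maximalIdeal]
    refine ⟨n + 1, ?_⟩
    rw [← IsLocalRing.eq_maximalIdeal ((IsLocalRing.maximalIdeal.isMaximal B).map_of_surjective_of_ker_le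
      Ideal.Quotient.mk_surjective (Ideal.mk_ker.trans_le (Ideal.pow_le_self (Nat.succ_ne_zero n)))),
      ← Ideal.map_pow, Ideal.map_quotient_self, Ideal.zero_eq_bot]
  have hfin : Module.length A (B ⧸ mB ^ (n + 1)) ≠ ⊤ := by
    rw [Module.length_eq_of_surjective (R := B ⧸ mB ^ (n + 1)) (S := A) hsurj]
    exact Module.length_ne_top
  have hex := Module.length_eq_add_of_exact (LinearMap.ker g).subtype g (Submodule.subtype_injective _) hg
    (LinearMap.exact_subtype_ker_map g)
  rw [hlen n, ← hAC] at hex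
  have h0 : Module.length A (LinearMap.ker g) = 0 :=
    (WithTop.add_right_inj hfin).1 ((hex.symm).trans (zero_add _).symm)
  have := Module.length_eq_zero_iff.1 h0
  have hga : (Submodule.Quotient.mk a : A ⧸ mA ^ (n + 1)) ∈ LinearMap.ker g := LinearMap.mem_ker.2 ha
  exact (Submodule.Quotient.mk_eq_zero _).1 (congrArg Subtype.val (Subsingleton.elim (⟨_, hga⟩ : LinearMap.ker g) 0))

end Groth.Agent.S16104
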