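import Groth.Statements.S16105
import Mathlib
import Groth.Agent.LunaLib.Avg
import Groth.Agent.AdicLinTop.Adic
import Groth.Agent.Calg5.InjColimit

set_option autoImplicit false
universe u v w w'
open LunaSt

namespace Groth.Agent.S16105

section Chevalley

open IsLocalRing

/-- Chevalley's lemma for a finite module over a complete Noetherian local ring. -/
theorem chevalley {R : Type*} [CommRing R] [IsLocalRing R] [IsNoetherianRing R] {N : Type*} [AddCommGroup N]
    [Module R N] (hN : IsPrecomplete (maximalIdeal R) N)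
    (hfin : ∀ i : ℕ, IsArtinian R (N ⧸ (maximalIdeal R ^ i • ⊤ : Submodule R N)))
    (J : ℕ → Submodule R N) (hJ : Antitone J) (hpow : ∀ n, maximalIdeal R ^ n • ⊤ ≤ J n)
    (hinf : ∀ x, (∀ n, x ∈ J n) → x = 0) (j : ℕ) : ∃ n, J n ≤ maximalIdeal R ^ j • ⊤ := by
  classical
  set m := maximalIdeal R
  have stab : ∀ i, ∃ n, ∀ n', n ≤ n' → J n ⊔ m ^ i • ⊤ = J n' ⊔ m ^ i • ⊤ := by
    intro i
    haveI := hfin i
    obtain ⟨n, hn⟩ := IsArtinian.monotone_stabilizes (R := R) (M := N ⧸ (m ^ i • ⊤ : Submodule R N))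
      ⟨fun n => OrderDual.toDual ((J n).map (Submodule.mkQ (m ^ i • ⊤))), fun a b hab => Submodule.map_mono (hJ hab)⟩
    refine ⟨n, fun n' hn' => ?_⟩
    have h := congrArg (Submodule.comap (Submodule.mkQ (m ^ i • ⊤ : Submodule R N)))
      (show (J n).map (Submodule.mkQ (m ^ i • ⊤)) = (J n').map (Submodule.mkQ (m ^ i • ⊤)) from hn n' hn')
    rwa [Submodule.comap_map_mkQ, Submodule.comap_map_mkQ, sup_comm, sup_comm _ (J n')] at h
  choose Q hQ using stab
  let Q' : ℕ → ℕ := fun i => i + ∑ l ∈ Finset.range (i + 1), Q l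
  have hQ' : ∀ i n', Q' i ≤ n' → J (Q' i) ⊔ m ^ i • ⊤ = J n' ⊔ m ^ i • ⊤ := by
    intro i n' h
    have hle : Q i ≤ Q' i := le_trans (Finset.single_le_sum (f := Q) (fun _ _ => Nat.zero_le _)
      (Finset.self_mem_range_succ i)) (Nat.le_add_left _ _)
    rw [← hQ i (Q' i) hle, ← hQ i n' (hle.trans h)]
  have hmono : ∀ i, Q' i ≤ Q' (i + 1) := fun i => by
    simp only [Q', Finset.sum_range_succ _ (i + 1)]; omega
  refine ⟨Q' j, fun z0 hz0 => ?_⟩
  have step : ∀ i z, z ∈ J (Q' i) → ∃ z' ∈ J (Q' (i + 1)), z' - z ∈ (m ^ i • ⊤ : Submodule R N) := by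
    intro i z hz
    have hz' : z ∈ J (Q' (i + 1)) ⊔ m ^ i • ⊤ := hQ' i _ (hmono i) ▸ Submodule.mem_sup_left hz
    obtain ⟨a, ha, b, hb, rfl⟩ := Submodule.mem_sup.1 hz'
    exact ⟨a, ha, by simpa using hb⟩
  let seq : ∀ i, {z : N // z ∈ J (Q' (j + i))} := fun i =>
    Nat.rec ⟨z0, hz0⟩ (fun i z => ⟨(step (j + i) z.1 z.2).choose, (step (j + i) z.1 z.2).choose_spec.1⟩) i
  have hstep : ∀ i, (seq (i + 1)).1 - (seq i).1 ∈ (m ^ (j + i) • ⊤ : Submodule R N) := fun i =>
    (step (j + i) (seq i).1 (seq i).2).choose_spec.2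
  have hc : ∀ {a b : ℕ}, a ≤ b → (seq b).1 - (seq a).1 ∈ (m ^ (j + a) • ⊤ : Submodule R N) := by
    intro a b hab
    induction b, hab using Nat.le_induction with
    | base => rw [sub_self]; exact zero_mem _
    | succ b hab ih =>
      have := add_mem (Submodule.pow_smul_top_le m N (Nat.add_le_add_left hab j) (hstep b)) ih
      rwa [sub_add_sub_cancel] at this
  obtain ⟨L, hL⟩ := hN.prec (f := fun i => (seq i).1) fun {a b} hab => by
    rw [SModEq.sub_mem, ← neg_sub, neg_mem_iff]
    exact Submodule.pow_smul_top_le m N (Nat.le_add_left a j) (hc hab)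
  have hLJ : ∀ n, L ∈ J n := fun n => by
    have h1 : (seq n).1 ∈ J n := hJ (le_trans (Nat.le_add_left n j) (Nat.le_add_right (j + n) _)) (seq n).2
    have h2 : (seq n).1 - L ∈ J n := hpow n (SModEq.sub_mem.1 (hL n))
    simpa using sub_mem h1 h2
  have h3 := SModEq.sub_mem.1 (hL j)
  have h4 : (seq j).1 - z0 ∈ (m ^ j • ⊤ : Submodule R N) := by
    simpa [seq] using hc (Nat.zero_le j)
  rw [hinf L hLJ, sub_zero] at h3
  simpa using sub_mem h3 h4

end Chevalley

/-- The key claim of its proof. Let k be a field and H a commutative Hopf algebra of finite type over k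
all of whose finite-dimensional comodules are semisimple (a linearly reductive affine group G = Spec
H). Let A be a Noetherian commutative k-algebra with a coaction of H that is an algebra map (an
action of G on Spec A), let m be a maximal ideal of A stable under the coaction (for instance the
ideal of a closed point fixed by G), and assume that the ring of invariants A^G is a Noetherian
local ring, complete with respect to its maximal ideal. Let M be a finite A-module with a compatible
H-coaction (a coherent G-module on Spec A). Then (i) an invariant element of M which lies in m^n M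
for every n is zero, and (ii) for every sequence of invariants x_0, x_1, … with x_(n+1) − x_n ∈ m^n
M there is an invariant x with x − x_n ∈ m^n M for all n. In other words M^G → lim_n M^G/(m^n M)^G
is bijective: the m-adic filtration and the filtration by powers of the maximal ideal of A^G induce
the same topology on M^G. (The ring of invariants is assumed Noetherian here; this also follows from
linear reductivity.) -/
theorem result
    (k : Type u) [Field k] (H : Type v) [CommRing H] [HopfAlgebra k H] [Algebra.FiniteType k H]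
    (hG : HopfRep.IsLinearlyReductive k H)
    (A : Type w) [CommRing A] [Algebra k A] [IsNoetherianRing A]
    [HopfRep.Comod k H A] [GLin.IsCoactAlg k H A]
    (m : Ideal A) [m.IsMaximal] (hm : HopfRep.IsSubcomod (k := k) (A := H) (m.restrictScalars k))
    [IsLocalRing ↥(GLin.invariants k H A)] [IsNoetherianRing ↥(GLin.invariants k H A)]
    [IsAdicComplete (IsLocalRing.maximalIdeal ↥(GLin.invariants k H A)) ↥(GLin.invariants k H A)]
    (M : Type w') [AddCommGroup M] [Module k M] [Module A M] [IsScalarTower k A M] [Module.Finite A M]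
    [HopfRep.Comod k H M] [TameAct.IsHopfMod k H A M] :
    (∀ x ∈ HopfRep.fixedPts k H M, (∀ n : ℕ, x ∈ (m ^ n • ⊤ : Submodule A M)) → x = 0) ∧
      ∀ x : ℕ → M, (∀ n, x n ∈ HopfRep.fixedPts k H M) →
        (∀ n, x (n + 1) - x n ∈ (m ^ n • ⊤ : Submodule A M)) →
          ∃ y ∈ HopfRep.fixedPts k H M, ∀ n, y - x n ∈ (m ^ n • ⊤ : Submodule A M) := by
  classical
  obtain ⟨α₀, hα₀, h1⟩ := Groth.ComodLib.isLinearlyReductive_iff_integral.1 hG
  haveI := Groth.ComodLib.isHopfMod_self (k := k) (A := H) (B := A)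
  let φ := Groth.LunaLib.avgFun α₀
  have hφ1 : φ 1 = 1 := Groth.LunaLib.avgFun_one h1
  let E : A → GLin.invariants k H A := fun a => ⟨Groth.ComodLib.op φ a, Groth.LunaLib.avg_mem α₀ hα₀ A a⟩
  let mx := IsLocalRing.maximalIdeal (GLin.invariants k H A)
  let q : Ideal (GLin.invariants k H A) := m.comap (GLin.invariants k H A).val.toRingHom
  haveI : q.IsMaximal := by
    refine Ideal.isMaximal_iff.2 ⟨fun h => (Ideal.IsMaximal.ne_top ‹m.IsMaximal›) ((Ideal.eq_top_iff_one m).2 h),
      fun J x hqJ hxq hxJ => ?_⟩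
    obtain ⟨a, ha⟩ := (Ideal.IsMaximal.exists_inv ‹m.IsMaximal› (x := (x : A)) hxq)
    obtain ⟨i, hi, hai⟩ := ha
    have hy : E a * x - 1 ∈ q := by
      have h2 : Groth.ComodLib.op φ i ∈ m := Groth.LunaLib.op_mem hm hi φ
      have h3 : Groth.ComodLib.op φ (a * (x : A)) = Groth.ComodLib.op φ a * (x : A) :=
        Groth.LunaLib.op_smul_fixed (B := A) (M := A) a x.2 φ
      have h4 := congrArg (Groth.ComodLib.op φ) hai
      rw [map_add, h3, Groth.LunaLib.op_fixed (GLin.invariants k H A).one_mem φ, hφ1, one_smul] at h4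
      show Groth.ComodLib.op φ a * (x : A) - 1 ∈ m
      rw [← h4]
      simpa using neg_mem h2
    have := J.sub_mem (J.mul_mem_left (E a) hxJ) (hqJ hy)
    rwa [sub_sub_cancel] at this
  have hq : mx = q := (IsLocalRing.eq_maximalIdeal (I := q) inferInstance).symm
  let N : Submodule (GLin.invariants k H A) M :=
    { HopfRep.fixedPts k H M with
      smul_mem' := fun c x hx => by
        show HopfRep.Comod.coact (k := k) (A := H) ((c : A) • x) = _
        rw [Groth.ComodLib.coact_smul_fixed (B := A) (c : A) hx,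
          show HopfRep.Comod.coact (k := k) (A := H) (c : A) = (c : A) ⊗ₜ[k] (1 : H) from c.2,
          LinearMap.rTensor_tmul]
        rfl }
  haveI : Module.Finite (GLin.invariants k H A) N := by
    obtain ⟨s, hs, hspan⟩ := (Submodule.fg_span_iff_fg_span_finset_subset _).1
      (IsNoetherian.noetherian (Submodule.span A (HopfRep.fixedPts k H M : Set M)))
    rw [Module.Finite.iff_fg]
    refine ⟨s, le_antisymm (Submodule.span_le.2 hs) fun x hx => ?_⟩
    obtain ⟨c, -, hc⟩ := Submodule.mem_span_finset.1 (hspan ▸ Submodule.subset_span hx)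
    have h2 := congrArg (Groth.ComodLib.op φ) hc
    rw [Groth.LunaLib.op_fixed (show x ∈ HopfRep.fixedPts k H M from hx) φ, hφ1, one_smul, map_sum] at h2
    rw [← h2]
    refine Submodule.sum_mem _ fun y hy => ?_
    rw [Groth.LunaLib.op_smul_fixed (c y) (hs hy) φ]
    exact Submodule.smul_mem _ (E (c y)) (Submodule.subset_span (Finset.mem_coe.2 hy))
  haveI : IsAdicComplete mx N := Groth.AdicLinTop.Adic.isAdicComplete_of_finite
  let J : ℕ → Submodule (GLin.invariants k H A) N := fun n =>
    ((m ^ n • ⊤ : Submodule A M).restrictScalars (GLin.invariants k H A)).comap N.subtype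
  have hJmem : ∀ n (y : N), y ∈ J n ↔ (y : M) ∈ (m ^ n • ⊤ : Submodule A M) := fun _ _ => Iff.rfl
  have hJanti : Antitone J := fun a b hab y hy =>
    (hJmem a y).2 (Submodule.pow_smul_top_le m M hab ((hJmem b y).1 hy))
  have hpow : ∀ n, mx ^ n • ⊤ ≤ J n := fun n => by
    refine Submodule.smul_le.2 fun r hr y _ => ?_
    refine (hJmem n _).2 (Submodule.smul_mem_smul (I := m ^ n) ?_ Submodule.mem_top)
    have h2 : (mx ^ n).map (GLin.invariants k H A).val.toRingHom ≤ m ^ n := by
      rw [Ideal.map_pow, hq]; exact Ideal.pow_right_mono Ideal.map_comap_le n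
    exact h2 (Ideal.mem_map_of_mem _ hr)
  have part1 : ∀ x ∈ HopfRep.fixedPts k H M, (∀ n : ℕ, x ∈ (m ^ n • ⊤ : Submodule A M)) → x = 0 := by
    intro x hx hall
    obtain ⟨⟨r, hr⟩, hrx⟩ := (m.mem_iInf_smul_pow_eq_bot_iff x).1 (Submodule.mem_iInf _ |>.2 hall)
    have h2 := congrArg (Groth.ComodLib.op φ) (hrx : r • x = x)
    rw [Groth.LunaLib.op_smul_fixed r hx φ, Groth.LunaLib.op_fixed hx φ, hφ1, one_smul] at h2
    have hEr : E r ∈ mx := hq ▸ (Groth.LunaLib.op_mem hm hr φ)
    have hu : IsUnit (1 - E r) := IsLocalRing.isUnit_one_sub_self_of_mem_nonunits _ hEr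
    have h3 : (1 - E r) • x = 0 := by
      rw [sub_smul, one_smul]
      exact sub_eq_zero.2 h2.symm
    exact hu.smul_eq_zero.1 h3
  refine ⟨part1, fun x hx hdiff => ?_⟩
  have hfin : ∀ i : ℕ, IsArtinian (GLin.invariants k H A) (N ⧸ (mx ^ i • ⊤ : Submodule (GLin.invariants k H A) N)) := fun i => by
    haveI := Groth.Calg5.InjColimit.isArtinianRing_quotient_pow (GLin.invariants k H A) i
    haveI : Module.Finite (GLin.invariants k H A ⧸ mx ^ i) (N ⧸ (mx ^ i • ⊤ : Submodule (GLin.invariants k H A) N)) :=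
      Module.Finite.of_restrictScalars_finite (GLin.invariants k H A) _ _
    exact ((LinearMap.isArtinian_iff_of_bijective
      (R := GLin.invariants k H A) (S := GLin.invariants k H A ⧸ mx ^ i)
      (σ := Ideal.Quotient.mk (mx ^ i))
      ({ toFun := id, map_add' := fun _ _ => rfl, map_smul' := fun r y => (algebraMap_smul (GLin.invariants k H A ⧸ mx ^ i) r y).symm } :
        (N ⧸ (mx ^ i • ⊤ : Submodule (GLin.invariants k H A) N)) →ₛₗ[Ideal.Quotient.mk (mx ^ i)] (N ⧸ (mx ^ i • ⊤ : Submodule (GLin.invariants k H A) N)))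
      Function.bijective_id).2 inferInstance)
  have hch := chevalley (N := N) inferInstance hfin J hJanti hpow fun y hy =>
    Subtype.ext (part1 _ y.2 fun n => (hJmem n y).1 (hy n))
  choose g hg using hch
  let G : ℕ → ℕ := fun j => j + ∑ l ∈ Finset.range (j + 1), g l
  have hGmono : Monotone G := monotone_nat_of_le_succ fun i => by
    simp only [G, Finset.sum_range_succ _ (i + 1)]; omega
  have hG' : ∀ j, J (G j) ≤ mx ^ j • ⊤ := fun j =>
    (hJanti (le_trans (Finset.single_le_sum (f := g) (fun _ _ => Nat.zero_le _)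
      (Finset.self_mem_range_succ j)) (Nat.le_add_left _ _))).trans (hg j)
  let z : ℕ → N := fun i => ⟨x i, hx i⟩
  have hc : ∀ {a b : ℕ}, a ≤ b → z b - z a ∈ J a := by
    intro a b hab
    induction b, hab using Nat.le_induction with
    | base => rw [sub_self]; exact zero_mem _
    | succ b hab ih =>
      have := add_mem (hJanti hab ((hJmem b (z (b + 1) - z b)).2 (hdiff b))) ih
      rwa [sub_add_sub_cancel] at this
  obtain ⟨L, hL⟩ := IsPrecomplete.prec (I := mx) (M := N) inferInstance (f := fun j => z (G j)) fun {a b} hab => by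
    rw [SModEq.sub_mem, ← neg_sub, neg_mem_iff]
    exact hG' a (hc (hGmono hab))
  refine ⟨L, L.2, fun n => ?_⟩
  have h2 : z (G n) - L ∈ J n := hpow n (SModEq.sub_mem.1 (hL n))
  have h3 := sub_mem (hc (Nat.le_add_right n (∑ l ∈ Finset.range (n + 1), g l))) h2
  have h4 : z (G n) - z n - (z (G n) - L) = L - z n := by abel
  rw [h4] at h3
  exact (hJmem n _).1 h3

end Groth.Agent.S16105
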