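import Groth.Statements.S16106
import Groth.Agent.Misc12.ArtinApx.Functor
import Groth.Agent.S0595
import Groth.Agent.S0600

set_option autoImplicit false
universe u
open CategoryTheory CategoryTheory.Limits
open LunaSt

namespace Groth.Agent.S16106

/-- Local form. Let A be a local G-ring, that is a Noetherian local ring all of whose local rings have
regular completion maps (for instance an excellent local ring), with maximal ideal m and m-adic
completion Â. Let F be a functor from A-algebras (commutative rings under A) to sets preserving
filtered colimits, let ξ ∈ F(Â) and N ≥ 0. Then there exist an étale A-algebra A′, a map of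
A-algebras φ : A′ → A/m^(N+1) (an étale neighbourhood of the closed point with trivial residue field
extension) and ξ′ ∈ F(A′) such that ξ′ and ξ have the same image in F(A/m^(N+1)); here π is the
A-algebra map Â → A/m^(N+1), pinned by its underlying ring map. (The published statement is for any
point of the spectrum of a G-ring, with a functor locally of finite presentation on all schemes over
it; its proof first localizes at the point, and only the values of the functor on affine schemes
enter, so the row states this local form for a functor on A-algebras preserving filtered colimits.) -/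
theorem result (A : Type u) [CommRing A] [IsLocalRing A]
    (hG : CAlg.IsGRing A)
    (F : Under (CommRingCat.of A) ⥤ Type u)
    (hF : ∀ (J : Type u) [SmallCategory J] [IsFiltered J], PreservesColimitsOfShape J F)
    (N : ℕ)
    (π : Under.mk (CommRingCat.ofHom (algebraMap A
        (AdicCompletion (IsLocalRing.maximalIdeal A) A))) ⟶
      Under.mk (CommRingCat.ofHom (algebraMap A (A ⧸ IsLocalRing.maximalIdeal A ^ (N + 1)))))
    (hπ : π.right = CommRingCat.ofHom
      (AdicCompletion.evalₐ (IsLocalRing.maximalIdeal A) (N + 1) :
        AdicCompletion (IsLocalRing.maximalIdeal A) A →ₐ[A]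
          A ⧸ IsLocalRing.maximalIdeal A ^ (N + 1)).toRingHom)
    (ξ : F.obj (Under.mk (CommRingCat.ofHom (algebraMap A
        (AdicCompletion (IsLocalRing.maximalIdeal A) A))))) :
    ∃ (A' : Type u) (_ : CommRing A') (_ : Algebra A A') (_ : Algebra.Etale A A')
      (φ : Under.mk (CommRingCat.ofHom (algebraMap A A')) ⟶
        Under.mk (CommRingCat.ofHom (algebraMap A (A ⧸ IsLocalRing.maximalIdeal A ^ (N + 1)))))
      (ξ' : F.obj (Under.mk (CommRingCat.ofHom (algebraMap A A')))),
      F.map φ ξ' = F.map π ξ := by
  have := hG.1
  obtain ⟨E, _, _, hE, φ, y, hy⟩ := Groth.Agent.Misc12.ArtinApx.approx_etale (fun R _ _ Λ _ _ _ => Groth.Agent.S0595.result R Λ)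
    (IsLocalRing.maximalIdeal A) (Groth.Agent.S0600.result A hG _) F hF (N + 1) π ξ
  exact ⟨E, inferInstance, inferInstance, hE, Groth.Agent.Misc12.ArtinApx.underHom φ, y, hy⟩

end Groth.Agent.S16106
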