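import Groth.Statements.S16107
import Mathlib
import Groth.Agent.LunaLib.Avg

set_option autoImplicit false
universe u v w
open LunaSt

namespace Groth.Agent.S16107

open scoped TensorProduct

noncomputable section Twist

variable (k : Type u) [Field k] (H : Type v) [CommRing H] [HopfAlgebra k H]
  (A : Type w) [CommRing A] [Algebra k A] [HopfRep.Comod k H A] [GLin.IsCoactAlg k H A]

/-- the diagonal coaction on `A ⊗ H` -/
@[reducible] def diag : HopfRep.Comod k H (A ⊗[k] H) :=
  ComodTens.Comod.tensor (inferInstance : HopfRep.Comod k H A) (inferInstance : HopfRep.Comod k H H)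

/-- the diagonal coaction as an algebra map -/
def diagHom : A ⊗[k] H →ₐ[k] (A ⊗[k] H) ⊗[k] H :=
  Algebra.TensorProduct.productMap
    ((Algebra.TensorProduct.map (Algebra.TensorProduct.includeLeft : A →ₐ[k] A ⊗[k] H) (AlgHom.id k H)).comp
      (GLin.coactAlgHom k H A))
    ((Algebra.TensorProduct.map (Algebra.TensorProduct.includeRight : H →ₐ[k] A ⊗[k] H) (AlgHom.id k H)).comp
      (Bialgebra.comulAlgHom k H))

theorem diag_coact (x : A ⊗[k] H) : (diag k H A).coact x = diagHom k H A x := by
  induction x using TensorProduct.induction_on with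
  | zero => simp
  | add p q hp hq => rw [map_add, map_add, hp, hq]
  | tmul a h =>
    rw [ComodTens.tensor_coact_tmul, diagHom, Algebra.TensorProduct.productMap_apply_tmul,
      AlgHom.comp_apply, AlgHom.comp_apply, GLin.coactAlgHom_apply]
    change _ = _ * Algebra.TensorProduct.map _ _ (HopfRep.Comod.coact (k := k) (A := H) h)
    generalize HopfRep.Comod.coact (k := k) (A := H) (V := A) a = z
    generalize HopfRep.Comod.coact (k := k) (A := H) (V := H) h = z'
    induction z using TensorProduct.induction_on with
    | zero => simp
    | add p q hp hq => simp only [TensorProduct.add_tmul, map_add, add_mul, hp, hq]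
    | tmul p q =>
      induction z' using TensorProduct.induction_on with
      | zero => simp
      | add p' q' hp hq => simp only [TensorProduct.tmul_add, map_add, mul_add, hp, hq]
      | tmul p' q' => simp

end Twist

/-- Let k be a field and H a commutative Hopf algebra of finite type over k all of whose
finite-dimensional comodules are semisimple (a linearly reductive affine group G = Spec H of finite
type). Let A be a Noetherian commutative k-algebra with a coaction of H that is an algebra map (an
action of G on Spec A). Then A is of finite type as an algebra over its subring of invariants A^G.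
(The published statement is that a good moduli space with affine diagonal of a Noetherian algebraic
stack is of finite type; this row is its case [Spec A/G] → Spec A^G.) -/
theorem result
    (k : Type u) [Field k] (H : Type v) [CommRing H] [HopfAlgebra k H] [Algebra.FiniteType k H]
    (hG : HopfRep.IsLinearlyReductive k H)
    (A : Type w) [CommRing A] [Algebra k A] [IsNoetherianRing A]
    [HopfRep.Comod k H A] [GLin.IsCoactAlg k H A] :
    Algebra.FiniteType ↥(GLin.invariants k H A) A := by
  obtain ⟨α₀, hα₀, h1⟩ := Groth.ComodLib.isLinearlyReductive_iff_integral.1 hG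
  letI := diag k H A
  haveI : GLin.IsCoactAlg k H (A ⊗[k] H) := ⟨by
      rw [diag_coact k H A, map_one], fun f g => by
      rw [diag_coact k H A, diag_coact k H A, diag_coact k H A, map_mul]⟩
  haveI := Groth.ComodLib.isHopfMod_self (k := k) (A := H) (B := A ⊗[k] H)
  haveI : Algebra.FiniteType A (A ⊗[k] H) := inferInstance
  have hinl : ∀ a : A, HopfRep.Comod.coact (k := k) (A := H) (a ⊗ₜ[k] (1 : H)) =
      (Algebra.TensorProduct.includeLeft : A →ₐ[k] A ⊗[k] H).toLinearMap.rTensor H
        (HopfRep.Comod.coact (k := k) (A := H) a) := fun a => by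
    rw [diag_coact k H A, diagHom, Algebra.TensorProduct.productMap_apply_tmul, map_one, mul_one,
      AlgHom.comp_apply, GLin.coactAlgHom_apply]
    generalize HopfRep.Comod.coact (k := k) (A := H) a = z
    induction z using TensorProduct.induction_on with
    | zero => simp
    | add p q hp hq => rw [map_add, map_add, hp, hq]
    | tmul p q => simp
  obtain ⟨s, hs⟩ := Groth.LunaLib.exists_finset_invariants_adjoin (C := A ⊗[k] H) hG A
    (LinearMap.ext fun a => hinl a)
  let α : H →ₗ[k] A ⊗[k] H := (Algebra.TensorProduct.includeRight : H →ₐ[k] A ⊗[k] H).toLinearMap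
  have hα : Hoch.IsComodHom H α := LinearMap.ext fun h => by
    simp only [LinearMap.comp_apply, α, AlgHom.toLinearMap_apply, Algebra.TensorProduct.includeRight_apply]
    rw [diag_coact k H A, diagHom, Algebra.TensorProduct.productMap_apply_tmul, map_one, one_mul,
      AlgHom.comp_apply]
    change _ = _
    rw [Bialgebra.comulAlgHom_apply]
    change _ = LinearMap.rTensor H α (Coalgebra.comul (R := k) h)
    generalize Coalgebra.comul (R := k) h = z
    induction z using TensorProduct.induction_on with
    | zero => simp
    | add p q hp hq => rw [map_add, map_add, hp, hq]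
    | tmul p q => simp [α]
  let κ : A ⊗[k] H →ₐ[k] A := Algebra.TensorProduct.lift (AlgHom.id k A)
    ((Algebra.ofId k A).comp (Bialgebra.counitAlgHom k H)) (fun _ _ => .all ..)
  have hκ : ∀ a : A, ∃ c ∈ GLin.invariants k H (A ⊗[k] H), κ c = a := by
    intro a
    refine ⟨TameAct.reynolds k H (A ⊗[k] H) (A ⊗[k] H) α (a ⊗ₜ[k] (1 : H)),
      Groth.ComodLib.reynolds_mem_fixedPts hα _, ?_⟩
    rw [Groth.ComodLib.reynolds_eq, hinl]
    conv_rhs => rw [← Groth.ComodLib.op_counit (k := k) (A := H) a, Groth.ComodLib.op_apply]
    generalize HopfRep.Comod.coact (k := k) (A := H) a = z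
    induction z using TensorProduct.induction_on with
    | zero => simp
    | add p q hp hq => simp only [map_add, hp, hq]
    | tmul p q => simp [α, κ, Algebra.ofId_apply, Algebra.smul_def, mul_comm]
  classical
  refine ⟨⟨s.image κ, eq_top_iff.2 fun a _ => ?_⟩⟩
  obtain ⟨c, hc, rfl⟩ := hκ a
  rw [hs] at hc
  have hle : Algebra.adjoin k (⇑(algebraMap A (A ⊗[k] H)) '' ↑(GLin.invariants k H A) ∪ ↑s) ≤
      ((Algebra.adjoin (GLin.invariants k H A) ((s.image κ : Finset A) : Set A)).restrictScalars k).comap κ := by
    refine Algebra.adjoin_le ?_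
    rintro y (⟨x, hx, rfl⟩ | hy)
    · simp only [SetLike.mem_coe, Subalgebra.mem_comap, Subalgebra.mem_restrictScalars]
      rw [show κ (algebraMap A (A ⊗[k] H) x) = algebraMap (GLin.invariants k H A) A ⟨x, hx⟩ by
        simp [κ, Algebra.TensorProduct.algebraMap_apply]]
      exact Subalgebra.algebraMap_mem _ _
    · exact Algebra.subset_adjoin (Finset.mem_image_of_mem κ hy)
  exact hle hc

end Groth.Agent.S16107
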