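import Groth.Statements.S1611
import Groth.Agent.Curves1.RR.VeryAmple

set_option autoImplicit false
universe u
open CategoryTheory CategoryTheory.Limits AlgebraicGeometry
open Curves

namespace Groth.Agent.S1611

/-- Let X be proper of dimension one over k with global functions k, geometrically integral, of genus g,
and L an invertible module with deg L ≥ 2g + 1. Then L is very ample: there is a closed immersion i
of X into some projective space P^n_k over k with i^* O(1) ≅ L. -/
theorem result (k : Type u) [Field k] (X : Scheme.{u}) [X.Over (Spec (CommRingCat.of k))]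
    [IsProper (X ↘ (Spec (CommRingCat.of k)))] [GeometricallyIntegral (X ↘ (Spec (CommRingCat.of k)))] (hdim : topologicalKrullDim X = 1)
    (h0 : Module.finrank k (Coh.HH X (Coh.structureModule X) 0) = 1) (L : X.Modules) (hL : PicF.IsInvertible L)
    (hdeg : 2 * (Curv2.genus k X : ℤ) + 1 ≤ Curv2.deg k X L 1) :
    ∃ (n : ℕ) (i : X ⟶ CohB1.ProjSpace n k), IsClosedImmersion i ∧ i ≫ CohB1.ProjSpace.toSpec n k = X ↘ (Spec (CommRingCat.of k)) ∧
      Nonempty ((Scheme.Modules.pullback i).obj (Twist.twistProjSpace n k 1) ≅ L) := by
  exact Groth.Curves1.RR.veryAmple_of_deg_ge k hdim h0 L hL hdeg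

end Groth.Agent.S1611
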