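import Groth.Statements.S16110
import Groth.Agent.Dual3BC.ProjNat
import Groth.Agent.Misc4.QCohDColim

set_option autoImplicit false
universe u
open CategoryTheory CategoryTheory.Limits
attribute [local instance] HasDerivedCategory.standard
open DCoh

namespace Groth.Agent.S16110

open AlgebraicGeometry in
/-- Let f : X ⟶ Y be a proper morphism of finite Tor-dimension between separated Noetherian schemes
(finite Tor-dimension: for some integer m, H^i(Lf^*M) = 0 for all i < m and all quasi-coherent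
O_Y-modules M), let f^! be the right adjoint of Rf_* : D_qc(X) → D_qc(Y) (f is proper) and let G₁,
G₂ be objects of D_qc(Y), G₁ given by a cochain complex P of O_Y-modules and Lf^*G₁ by a cochain
complex P' of O_X-modules. Assume that RHom(G₁, G₂) and RHom(Lf^*G₁, f^!G₂) have quasi-coherent
cohomology sheaves. Then f^! RHom(G₁, G₂) ≅ RHom(Lf^*G₁, f^!G₂) in D(O_X). The derived functors
Rf_*, Lf^*, ⊗^L and the internal RHom (right adjoint of ⊗^L) are taken under their existence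
binders. (The published statement uses the internal Hom of D_qc and a canonical isomorphism; here
RHom is the internal Hom of D(O_X), the two quasi-coherence assumptions replace the passage to D_qc,
and only the existence of an isomorphism is asserted.) -/
theorem result
    {X Y : Scheme.{u}} [X.IsSeparated] [IsNoetherian X] [Y.IsSeparated] [IsNoetherian Y]
    (f : X ⟶ Y) [IsProper f] [DCoh.HasRpush f] [DCoh.HasLpull f]
    (hfTor : ∃ m : ℤ, ∀ (M : Y.Modules), Coh.IsQCoh M →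
      ∀ i : ℤ, i < m → IsZero (DCoh.HD ((DCoh.Lpull f).obj (DCoh.inD Y M)) i))
    (h : DCoh.RpushPreservesQCoh f) [DCoh.HasShriek f h]
    (P : CochainComplex Y.Modules ℤ) [DCoh.HasLTensorCx P] [DCoh.HasRSheafHom P]
    (hP : DCoh.IsQCohD (DCoh.toD Y P)) (G₂ : DCoh.DQCoh Y)
    (hq : DCoh.IsQCohD ((DCoh.RSheafHom P).obj G₂.obj))
    (P' : CochainComplex X.Modules ℤ) [DCoh.HasLTensorCx P'] [DCoh.HasRSheafHom P']
    (hP' : Nonempty (DCoh.toD X P' ≅ (DCoh.Lpull f).obj (DCoh.toD Y P)))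
    (hq' : DCoh.IsQCohD ((DCoh.RSheafHom P').obj ((DCoh.shriek f h).obj G₂).obj)) :
    Nonempty (((DCoh.shriek f h).obj ⟨(DCoh.RSheafHom P).obj G₂.obj, hq⟩).obj ≅
      (DCoh.RSheafHom P').obj ((DCoh.shriek f h).obj G₂).obj) := by
  obtain ⟨eP'⟩ := hP'
  let P₀ := (Groth.DerivedCoh.KFlat.flatResolution Y).obj P
  haveI : QuasiIso ((Groth.DerivedCoh.KFlat.flatResolutionAug Y).app P) :=
    Groth.DerivedCoh.KFlat.flatResolution_quasiIso P
  haveI := (DerivedCategory.isIso_Q_map_iff_quasiIso _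
    ((Groth.DerivedCoh.KFlat.flatResolutionAug Y).app P)).2 inferInstance
  let eP : DCoh.toD Y P ≅ DCoh.toD Y P₀ :=
    (asIso (DerivedCategory.Q.map ((Groth.DerivedCoh.KFlat.flatResolutionAug Y).app P))).symm
  have hP₀ := Groth.DerivedCoh.KFlat.flatResolution_isKFlat P
  haveI := Groth.DerivedCoh.KFlat.hasLTensorCx P₀
  haveI := Groth.DerivedCoh.KFlat.hasLTensorCx ((Groth.DerivedCoh.KFlat.pullCx f).obj P₀)
  obtain ⟨c₁⟩ := Groth.DEquivH6.DiagPhi.nonempty_ltcx_congr (K := P) (E := P₀) eP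
  obtain ⟨c₂⟩ := Groth.DEquivH6.DiagPhi.nonempty_ltcx_congr (K := P')
    (E := (Groth.DerivedCoh.KFlat.pullCx f).obj P₀)
    (eP' ≪≫ (DCoh.Lpull f).mapIso eP ≪≫ Groth.DerivedCoh.KFlat.lpullQIso f P₀ hP₀)
  have hP₀q : DCoh.IsQCohD (DCoh.toD Y P₀) := Groth.Misc4.QCohDPerf.isQCohD_of_iso eP hP
  have hP'q : DCoh.IsQCohD (DCoh.toD X P') := Groth.Misc4.QCohDPerf.isQCohD_of_iso eP'.symm
    (Groth.Misc4.QCohDColim.isQCohD_Lpull f hP)
  have hT : ∀ M : DCoh.DQCoh X, DCoh.IsQCohD ((DCoh.LTensorCx P').obj M.obj) := fun M =>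
    Groth.Misc4.QCohDTensor.isQCohD_LTensorCx P' hP'q M.property
  let τ := Groth.Dual3ProjNat.proj f P₀ hP₀
  have hτ : ∀ M : DCoh.DQCoh X, IsIso (τ.app M.obj) := fun M =>
    Groth.Dual3ProjNat.isIso_proj f P₀ hP₀ hP₀q M.property
  let pf : ∀ M : DCoh.DQCoh X, (DCoh.LTensorCx P).obj ((DCoh.Rpush f).obj M.obj) ≅
      (DCoh.Rpush f).obj ((DCoh.LTensorCx P').obj M.obj) := fun M =>
    c₁.app _ ≪≫ @asIso _ _ _ _ (τ.app M.obj) (hτ M) ≪≫ (DCoh.Rpush f).mapIso (c₂.app M.obj).symm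
  have hpf : ∀ {M N : DCoh.DQCoh X} (g : M ⟶ N),
      (DCoh.LTensorCx P).map ((DCoh.Rpush f).map g.hom) ≫ (pf N).hom =
        (pf M).hom ≫ (DCoh.Rpush f).map ((DCoh.LTensorCx P').map g.hom) := fun {M N} g => by
    have h1 := c₁.hom.naturality ((DCoh.Rpush f).map g.hom)
    have h2 := τ.naturality g.hom
    have h3 := c₂.inv.naturality g.hom
    simp only [Functor.comp_map] at h2
    simp only [pf, Iso.trans_hom, Iso.app_hom, asIso_hom, Functor.mapIso_hom, Iso.symm_hom, Iso.app_inv,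
      Category.assoc]
    rw [reassoc_of% h1, reassoc_of% h2, ← Functor.map_comp, ← Functor.map_comp]
    exact congrArg (fun t => _ ≫ _ ≫ (DCoh.Rpush f).map t) h3
  let adj : DCoh.RpushQ f h ⊣ DCoh.shriek f h := Adjunction.ofIsLeftAdjoint _
  let A : DCoh.DQCoh Y := ⟨(DCoh.RSheafHom P).obj G₂.obj, hq⟩
  let B : DCoh.DQCoh X := ⟨(DCoh.RSheafHom P').obj ((DCoh.shriek f h).obj G₂).obj, hq'⟩
  let Φ : ∀ M : DCoh.DQCoh X, (M ⟶ (DCoh.shriek f h).obj A) ≃ (M ⟶ B) := fun M =>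
    (adj.homEquiv M A).symm.trans <|
    ((DCoh.IsQCohD (X := Y)).fullyFaithfulι.homEquiv).trans <|
    ((DCoh.RSheafHomAdj P).homEquiv _ _).symm.trans <|
    ((pf M).homFromEquiv).trans <|
    ((DCoh.IsQCohD (X := Y)).fullyFaithfulι.homEquiv
      (X := (DCoh.RpushQ f h).obj ⟨(DCoh.LTensorCx P').obj M.obj, hT M⟩) (Y := G₂)).symm.trans <|
    (adj.homEquiv ⟨(DCoh.LTensorCx P').obj M.obj, hT M⟩ G₂).trans <|
    ((DCoh.IsQCohD (X := X)).fullyFaithfulι.homEquiv).trans <|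
    ((DCoh.RSheafHomAdj P').homEquiv M.obj _).trans
      ((DCoh.IsQCohD (X := X)).fullyFaithfulι.homEquiv (X := M) (Y := B)).symm
  have hΦ : ∀ {M N : DCoh.DQCoh X} (g : M ⟶ N) (t : N ⟶ (DCoh.shriek f h).obj A),
      Φ M (g ≫ t) = g ≫ Φ N t := fun {M N} g t => by
    apply ObjectProperty.hom_ext
    show (DCoh.RSheafHomAdj P').homEquiv M.obj _ (adj.homEquiv ⟨(DCoh.LTensorCx P').obj M.obj, hT M⟩ G₂ (ObjectProperty.homMk ((pf M).inv ≫
      ((DCoh.RSheafHomAdj P).homEquiv _ _).symm ((adj.homEquiv M A).symm (g ≫ t)).hom))).hom =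
      g.hom ≫ (DCoh.RSheafHomAdj P').homEquiv N.obj _ (adj.homEquiv ⟨(DCoh.LTensorCx P').obj N.obj, hT N⟩ G₂ (ObjectProperty.homMk ((pf N).inv ≫
        ((DCoh.RSheafHomAdj P).homEquiv _ _).symm ((adj.homEquiv N A).symm t).hom))).hom
    rw [← Adjunction.homEquiv_naturality_left]
    refine congrArg _ ?_
    let g' : (⟨(DCoh.LTensorCx P').obj M.obj, hT M⟩ : DCoh.DQCoh X) ⟶
        ⟨(DCoh.LTensorCx P').obj N.obj, hT N⟩ := ObjectProperty.homMk ((DCoh.LTensorCx P').map g.hom)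
    refine Eq.trans ?_ (congrArg (fun t => t.hom) (adj.homEquiv_naturality_left g' _))
    refine congrArg (fun t => (adj.homEquiv _ _ t).hom) (ObjectProperty.hom_ext _ ?_)
    rw [adj.homEquiv_naturality_left_symm]
    show (pf M).inv ≫ ((DCoh.RSheafHomAdj P).homEquiv _ _).symm
        ((DCoh.Rpush f).map g.hom ≫ ((adj.homEquiv N A).symm t).hom) =
      (DCoh.Rpush f).map ((DCoh.LTensorCx P').map g.hom) ≫ (pf N).inv ≫ _
    rw [Adjunction.homEquiv_naturality_left_symm, ← Category.assoc, ← Category.assoc]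
    congr 1
    rw [Iso.inv_comp_eq, ← Category.assoc, Iso.eq_comp_inv, hpf]
  exact ⟨(ObjectProperty.ι _).mapIso (Yoneda.ext ((DCoh.shriek f h).obj A) B (fun {M} t => Φ M t)
    (fun {M} t => (Φ M).symm t) (fun {M} t => (Φ M).symm_apply_apply t)
    (fun {M} t => (Φ M).apply_symm_apply t) (fun {M N} g t => hΦ g t))⟩

end Groth.Agent.S16110
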