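import Groth.Statements.S16113
import Groth.Agent.S0215

set_option autoImplicit false
universe u
open CategoryTheory MonoidalCategory CartesianMonoidalCategory MonObj GrpObj AlgebraicGeometry CategoryTheory.Limits
open AlgGrp

namespace Groth.Agent.S16113

/-- Over an algebraically closed field k, let X be an irreducible variety (an integral separated
k-scheme of finite type) and R = Γ(X, O_X). Then the quotient of the unit group R^× by the subgroup
k^× of nonzero constants is a free abelian group of finite rank: for some n there is a surjective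
group homomorphism from R^× onto ℤⁿ (written multiplicatively) whose kernel is exactly the image of
k^× under the structure map k → R. -/
theorem result (k : Type u) [Field k] [IsAlgClosed k]
    (X : Over (Spec (CommRingCat.of k))) [IsIntegral X.left] [IsSeparated X.hom] [LocallyOfFiniteType X.hom] [QuasiCompact X.hom] :
    ∃ (n : ℕ) (v : (Γ(X.left, ⊤))ˣ →* Multiplicative (Fin n → ℤ)), Function.Surjective v ∧
      v.ker = (Units.map (((Scheme.ΓSpecIso (CommRingCat.of k)).inv ≫ X.hom.appTop).hom : k →* Γ(X.left, ⊤))).range := by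
  set φ : k →+* Γ(X.left, ⊤) := X.hom.appTop.hom.comp (Scheme.ΓSpecIso (CommRingCat.of k)).inv.hom
    with hφ
  haveI : Nonempty (⊤ : X.left.Opens) := ⟨⟨Classical.arbitrary X.left, trivial⟩⟩
  have hint : ∀ x : Γ(X.left, ⊤), φ.IsIntegralElem x → x ∈ Set.range φ := by
    intro x hx
    letI := φ.toAlgebra
    have hd := IsAlgClosed.degree_eq_one_of_irreducible k
      (minpoly.irreducible (show IsIntegral k x from hx))
    obtain ⟨c, hc⟩ := minpoly.degree_eq_one_iff.mp hd
    exact ⟨c, hc⟩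
  haveI : CompactSpace ↥X.left := (quasiCompact_iff_compactSpace X.hom).mp inferInstance
  haveI := LocallyOfFiniteType.isLocallyNoetherian X.hom
  haveI : AlgebraicGeometry.IsNoetherian X.left := ⟨⟩
  haveI : Group.FG ((Γ(X.left, ⊤))ˣ ⧸ (Units.map (φ : k →* Γ(X.left, ⊤))).range) :=
    Groth.Agent.S0215.result k X.left X.hom
      (TopologicalSpace.NoetherianSpace.finite_irreducibleComponents (α := X.left)) hint
  set N := (Units.map (φ : k →* Γ(X.left, ⊤))).range with hN
  letI iCG : CommGroup ((Γ(X.left, ⊤))ˣ ⧸ N) := QuotientGroup.Quotient.commGroup N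
  letI : AddCommGroup (Additive ((Γ(X.left, ⊤))ˣ ⧸ N)) := Additive.addCommGroup
  haveI : AddGroup.FG (Additive ((Γ(X.left, ⊤))ˣ ⧸ N)) := GroupFG.iff_add_fg.mp inferInstance
  haveI : Module.Finite ℤ (Additive ((Γ(X.left, ⊤))ˣ ⧸ N)) := Module.Finite.iff_addGroup_fg.mpr inferInstance
  haveI : Module.IsTorsionFree ℤ (Additive ((Γ(X.left, ⊤))ˣ ⧸ N)) := by
    refine Module.isTorsionFree_iff_smul_eq_zero.mpr fun n q hq => ?_
    by_contra h
    push Not at h
    obtain ⟨hn, hq0⟩ := h
    obtain ⟨u, hu⟩ := QuotientGroup.mk_surjective (Additive.toMul q)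
    have hpow : u ^ n ∈ N := by
      rw [← QuotientGroup.eq_one_iff]
      show ((u ^ n : (Γ(X.left, ⊤))ˣ) : (Γ(X.left, ⊤))ˣ ⧸ N) = 1
      rw [QuotientGroup.mk_zpow, hu, ← toMul_zsmul, hq, toMul_zero]
    have hu' : u ∈ N := by
      have hm : u ^ n.natAbs ∈ N := by
        rcases Int.natAbs_eq n with e | e
        · rw [e, zpow_natCast] at hpow; exact hpow
        · rw [e, zpow_neg, zpow_natCast, inv_mem_iff] at hpow; exact hpow
      obtain ⟨c, hc⟩ := hm
      obtain ⟨d, hd⟩ := hint (u : Γ(X.left, ⊤)) ⟨Polynomial.X ^ n.natAbs - Polynomial.C (c : k),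
        Polynomial.monic_X_pow_sub_C _ (Int.natAbs_ne_zero.mpr hn), by
          have := congrArg (fun z : (Γ(X.left, ⊤))ˣ => (z : Γ(X.left, ⊤))) hc
          simp only [Units.coe_map, Units.val_pow_eq_pow_val] at this
          rw [Polynomial.eval₂_sub, Polynomial.eval₂_X_pow, Polynomial.eval₂_C]
          exact sub_eq_zero.mpr this.symm⟩
      have hd0 : d ≠ 0 := fun h0 => u.ne_zero (by rw [← hd, h0, map_zero])
      exact ⟨Units.mk0 d hd0, Units.ext hd⟩
    apply hq0
    rw [← ofMul_toMul q, ← hu, (QuotientGroup.eq_one_iff u).mpr hu', ofMul_one]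
  haveI : Module.Free ℤ (Additive ((Γ(X.left, ⊤))ˣ ⧸ N)) := Module.free_of_finite_type_torsion_free'
  let e : (Additive ((Γ(X.left, ⊤))ˣ ⧸ N)) ≃ₗ[ℤ] (Fin (Module.finrank ℤ (Additive ((Γ(X.left, ⊤))ˣ ⧸ N))) → ℤ) := (Module.finBasis ℤ (Additive ((Γ(X.left, ⊤))ˣ ⧸ N))).equivFun
  let E : ((Γ(X.left, ⊤))ˣ ⧸ N) ≃* Multiplicative (Fin (Module.finrank ℤ (Additive ((Γ(X.left, ⊤))ˣ ⧸ N))) → ℤ) :=
    e.toAddEquiv.toMultiplicativeRight
  refine ⟨_, E.toMonoidHom.comp (QuotientGroup.mk' N),
    E.surjective.comp (QuotientGroup.mk'_surjective N), ?_⟩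
  show (E.toMonoidHom.comp (QuotientGroup.mk' N)).ker = N
  ext u
  rw [MonoidHom.mem_ker, MonoidHom.comp_apply]
  show E (QuotientGroup.mk' N u) = 1 ↔ _
  rw [EmbeddingLike.map_eq_one_iff, QuotientGroup.mk'_apply, QuotientGroup.eq_one_iff]

end Groth.Agent.S16113
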