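import Groth.Statements.S16115
import Groth.Agent.AlgGrp2.UnitsGroup

set_option autoImplicit false
universe u
open CategoryTheory MonoidalCategory CartesianMonoidalCategory MonObj GrpObj AlgebraicGeometry CategoryTheory.Limits
open AlgGrp

namespace Groth.Agent.S16115

/-- Over an algebraically closed field k, let G be a connected algebraic group (a smooth connected
k-group scheme of finite type) and X an irreducible variety (an integral separated k-scheme of
finite type). Then every unit f of Γ(G × X, O) is of the form p₁^*(χ) · p₂^*(u) with χ a character
of G (a unit of Γ(G, O_G) with e^*(χ) = 1 and m^*(χ) = p₁^*(χ) · p₂^*(χ)) and u a unit of Γ(X, O_X).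
(The published statement asserts that the product map from characters of G times units of X to units
of G × X is an isomorphism; injectivity is immediate by restriction to e × X and is not restated.) -/
theorem result (k : Type u) [Field k] [IsAlgClosed k]
    (G X : Over (Spec (CommRingCat.of k))) [GrpObj G] [Smooth G.hom] [QuasiCompact G.hom] [ConnectedSpace ↥G.left]
    [IsIntegral X.left] [IsSeparated X.hom] [LocallyOfFiniteType X.hom] [QuasiCompact X.hom]
    (f : Γ((G ⊗ X).left, ⊤)) (hf : IsUnit f) :
    ∃ (χ : Γ(G.left, ⊤)) (u : Γ(X.left, ⊤)), IsUnit χ ∧ η[G].left.appTop χ = 1 ∧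
      μ[G].left.appTop χ = (fst G G).left.appTop χ * (snd G G).left.appTop χ ∧ IsUnit u ∧
      f = (fst G X).left.appTop χ * (snd G X).left.appTop u := by
  exact Groth.AlgGrp2.UnitsVar.exists_character_mul G X f hf

end Groth.Agent.S16115
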