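import Groth.Statements.S16116
import Groth.Agent.AlgGrp2.UnitsGroup

set_option autoImplicit false
universe u
open CategoryTheory MonoidalCategory CartesianMonoidalCategory MonObj GrpObj AlgebraicGeometry CategoryTheory.Limits
open AlgGrp

namespace Groth.Agent.S16116

/-- Over an algebraically closed field k, let G be a connected algebraic group (a smooth connected
k-group scheme of finite type) acting by σ on an irreducible variety X (an integral separated
k-scheme of finite type), and let f be a unit of Γ(X, O_X). Then f is a semi-invariant: there is a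
unique character χ of G (a unit of Γ(G, O_G) with e^*(χ) = 1 and m^*(χ) = p₁^*(χ) · p₂^*(χ)) such
that σ^*(f) = p₁^*(χ) · p₂^*(f) in Γ(G × X, O). -/
theorem result (k : Type u) [Field k] [IsAlgClosed k]
    (G X : Over (Spec (CommRingCat.of k))) [GrpObj G] [Smooth G.hom] [QuasiCompact G.hom] [ConnectedSpace ↥G.left]
    [IsIntegral X.left] [IsSeparated X.hom] [LocallyOfFiniteType X.hom] [QuasiCompact X.hom] (a : AlgGrp.Action G X)
    (f : Γ(X.left, ⊤)) (hf : IsUnit f) :
    ∃! χ : Γ(G.left, ⊤), IsUnit χ ∧ η[G].left.appTop χ = 1 ∧
      μ[G].left.appTop χ = (fst G G).left.appTop χ * (snd G G).left.appTop χ ∧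
      a.act.left.appTop f = (fst G X).left.appTop χ * (snd G X).left.appTop f := by
  exact Groth.AlgGrp2.UnitsVar.existsUnique_character G X a f hf

end Groth.Agent.S16116
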