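import Groth.Statements.S16119
import Groth.Agent.AlgGrpRat.PicAct

set_option autoImplicit false
universe u
open CategoryTheory MonoidalCategory CartesianMonoidalCategory MonObj GrpObj AlgebraicGeometry CategoryTheory.Limits
open AlgGrp

namespace Groth.Agent.S16119

/-- Over an algebraically closed field k, let G be a connected linear algebraic group (an affine,
smooth, connected k-group scheme) acting by σ on a normal irreducible variety X (an integral normal
separated k-scheme of finite type); assume the Picard group laws on G, X and G × X, with pullback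
along σ and along the projection p₂ : G × X → X multiplicative. Let n be the exponent of the group
Pic(G) (a finite group). Then for every invertible O_X-module L with class c, σ^*(L^{⊗n}) ≅
p₂^*(L^{⊗n}): σ^*(cⁿ) = p₂^*(cⁿ) in Pic(G × X). (The published statement concludes that L^{⊗n}
admits a G-linearization; its argument establishes the displayed isomorphism, which is equivalent to
G-linearizability of L^{⊗n}; that equivalence is not restated here.) -/
theorem result (k : Type u) [Field k] [IsAlgClosed k]
    (G X : Over (Spec (CommRingCat.of k))) [GrpObj G] [IsAffine G.left] [Smooth G.hom] [ConnectedSpace ↥G.left]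
    [IsIntegral X.left] [IsSeparated X.hom] [LocallyOfFiniteType X.hom] [QuasiCompact X.hom]
    (hX : Pi1.IsNormalScheme X.left) (a : AlgGrp.Action G X)
    [PicGrp.Law G.left] [PicGrp.Law X.left] [PicGrp.Law (G ⊗ X).left]
    (hσ : PicGrp.PullMul a.act.left) (hp : PicGrp.PullMul (snd G X).left) (c : PicLoc.PicSet X.left) :
    PicGrp.pullHom a.act.left hσ (c ^ Monoid.exponent (PicLoc.PicSet G.left)) =
      PicGrp.pullHom (snd G X).left hp (c ^ Monoid.exponent (PicLoc.PicSet G.left)) := by
  have h₁ : PicGrp.PullMul (fst G X).left := Groth.Abvar.PicCalc.pullMulCl _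
  obtain ⟨α, β, h⟩ := Groth.AlgGrpRat.exists_split G X hX h₁ hp (PicGrp.pullHom a.act.left hσ c)
  have hn : PicGrp.pullHom a.act.left hσ (c ^ Monoid.exponent (PicLoc.PicSet G.left)) =
      PicGrp.pullHom (snd G X).left hp (β ^ Monoid.exponent (PicLoc.PicSet G.left)) := by
    rw [map_pow, ← h, mul_pow, ← map_pow, Monoid.pow_exponent_eq_one, map_one, _root_.one_mul, map_pow]
  rw [hn]
  congr 1
  let s : X ⟶ G ⊗ X := lift (toUnit X ≫ η[G]) (𝟙 X)
  have hsa : s ≫ a.act = 𝟙 X := by
    rw [show s = lift (toUnit X ≫ η[G]) (𝟙 X) from rfl, ← lift_whiskerRight, Category.assoc, a.one_act]; simp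
  have hsp : s ≫ snd G X = 𝟙 X := lift_snd _ _
  have e : ∀ (f : G ⊗ X ⟶ X) (hf : PicGrp.PullMul f.left) (hs : s ≫ f = 𝟙 X) (d : PicLoc.PicSet X.left),
      PicGrp.pullHom s.left (Groth.Abvar.PicCalc.pullMulCl _) (PicGrp.pullHom f.left hf d) = d := by
    intro f hf hs d
    refine Subtype.ext ?_
    show PicF.pullCl s.left (PicF.pullCl f.left d.1) = d.1
    rw [← PicLoc.pullCl_comp, ← Over.comp_left, hs, Over.id_left, PicLoc.pullCl_id]
  have := congrArg (PicGrp.pullHom s.left (Groth.Abvar.PicCalc.pullMulCl _)) hn
  rw [e _ hσ hsa, e _ hp hsp] at this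
  exact this.symm

end Groth.Agent.S16119
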