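import Groth.Statements.S16122
import Groth.Agent.AlgGrpRat.FinitePic

set_option autoImplicit false
universe u
open CategoryTheory MonoidalCategory CartesianMonoidalCategory MonObj GrpObj AlgebraicGeometry CategoryTheory.Limits
open AlgGrp

namespace Groth.Agent.S16122

/-- Over an algebraically closed field k, if G is a connected linear algebraic group (an affine, smooth,
connected k-group scheme), then Pic(G) is finite: there are only finitely many isomorphism classes
of invertible O_G-modules. -/
theorem result (k : Type u) [Field k] [IsAlgClosed k]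
    (G : Over (Spec (CommRingCat.of k))) [GrpObj G] [IsAffine G.left] [Smooth G.hom] [ConnectedSpace ↥G.left] :
    Finite (PicLoc.PicSet G.left) := by
  letI := Groth.PicAux.picLaw G.left
  obtain ⟨A, _, _, _, e, he⟩ := Groth.AlgGrp1.exists_hopf_iso G
  haveI hiso : IsIso e.hom.left := inferInstanceAs (IsIso ((Over.forget _).map e.hom))
  haveI : Smooth (CoactBr.sp k A).hom := by
    rw [← Over.w e.hom]; infer_instance
  haveI : ConnectedSpace ↥(CoactBr.sp k A).left :=
    (TopCat.homeoOfIso (Scheme.forgetToTop.mapIso (asIso e.hom.left))).connectedSpace_iff.2 inferInstance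
  haveI : Finite (PicLoc.PicSet (CoactBr.sp k A).left) := Groth.AlgGrpRat.finite_pic_spec (k := k) A
  refine Finite.of_injective (fun c => Groth.Abvar.PicCalc.pull e.hom.left c) fun a b h => ?_
  have key : ∀ c, Groth.Abvar.PicCalc.pull e.inv.left (Groth.Abvar.PicCalc.pull e.hom.left c) = c := fun c => by
    rw [← Groth.Abvar.PicCalc.pull_comp, ← Over.comp_left, e.inv_hom_id, Over.id_left, Groth.Abvar.PicCalc.pull_id]
  rw [← key a, ← key b]
  exact congrArg _ h

end Groth.Agent.S16122
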