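import Groth.Statements.S16124
import Groth.Agent.Pi1Ample.FiniteAffine
-- import your own Groth.Agent.* helpers here

set_option autoImplicit false
universe u
open CategoryTheory MonoidalCategory CartesianMonoidalCategory MonObj GrpObj AlgebraicGeometry CategoryTheory.Limits
open AlgGrp

namespace Groth.Agent.S16124

/-- Over an algebraically closed field k, let X be a quasi-projective variety (a reduced separated
k-scheme, quasi-projective over k) with an action of a finite group Γ by k-automorphisms. Then X is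
covered by Γ-stable affine open subschemes: every point x of X lies in an affine open U with σ⁻¹(U)
= U for every σ in Γ. -/
theorem result (k : Type u) [Field k] [IsAlgClosed k]
    (X : Over (Spec (CommRingCat.of k))) [IsReduced X.left] [IsSeparated X.hom] (hX : RelProj.IsQuasiProjective X.hom)
    (Γgrp : Type u) [Group Γgrp] [Finite Γgrp] (ρ : Γgrp →* Aut X.left)
    (hρ : ∀ σ : Γgrp, (ρ σ).hom ≫ X.hom = X.hom) (x : ↥X.left) :
    ∃ U : X.left.Opens, x ∈ U ∧ IsAffineOpen U ∧ ∀ σ : Γgrp, (ρ σ).hom ⁻¹ᵁ U = U := by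
  obtain ⟨-, -, L, -, hL⟩ := hX
  have : IsSeparated (terminal.from X.left) := by
    rw [← Limits.terminal.comp_from X.hom]; infer_instance
  have : X.left.IsSeparated := ⟨inferInstance⟩
  let f := X.hom
  have hA := hL ⟨⊤, isAffineOpen_top _⟩
  let W : X.left.Opens := f ⁻¹ᵁ ⊤
  let Z : Set X.left := Set.range fun σ : Γgrp => (ρ σ).hom x
  obtain ⟨U', hU', hZ'⟩ : ∃ U' : W.toScheme.Opens, IsAffineOpen U' ∧
      ∀ z ∈ Z, (⟨z, trivial⟩ : W.toScheme) ∈ U' := by
    have := Groth.PropsBasic.Ample.exists_affine_finite hA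
      ((fun z => (⟨z, trivial⟩ : W.toScheme)) '' Z) ((Set.finite_range _).image _)
    obtain ⟨U', h1, h2⟩ := this
    exact ⟨U', h1, fun z hz => h2 ⟨z, hz, rfl⟩⟩
  let U₀ : X.left.Opens := W.ι ''ᵁ U'
  have hU₀ : IsAffineOpen U₀ := hU'.image_of_isOpenImmersion _
  let A : Γgrp → X.left.Opens := fun σ => (ρ σ).hom ⁻¹ᵁ U₀
  cases nonempty_fintype Γgrp
  refine ⟨Finset.univ.inf' ⟨1, Finset.mem_univ _⟩ A, ?_, ?_, fun σ => ?_⟩
  · refine Finset.inf'_induction (p := fun V : X.left.Opens => x ∈ V) _ _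
      (fun V hV V' hV' => ⟨hV, hV'⟩) fun τ _ => ?_
    exact ⟨_, hZ' _ ⟨τ, rfl⟩, rfl⟩
  · exact Finset.inf'_induction (p := IsAffineOpen) _ _ (fun V hV V' hV' => hV.inf hV')
      fun τ _ => hU₀.preimage_of_isIso _
  · ext y
    have hmem : ∀ z, z ∈ Finset.univ.inf' ⟨1, Finset.mem_univ _⟩ A ↔ ∀ τ, (ρ τ).hom z ∈ U₀ := fun z =>
      ⟨fun h τ => (Finset.inf'_le A (Finset.mem_univ τ)) h, fun h =>
        Finset.inf'_induction (p := fun V : X.left.Opens => z ∈ V) _ _
          (fun V hV V' hV' => ⟨hV, hV'⟩) fun τ _ => h τ⟩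
    have hmul : ∀ τ z, (ρ τ).hom ((ρ σ).hom z) = (ρ (τ * σ)).hom z := fun τ z => by
      rw [map_mul]; rfl
    show (ρ σ).hom y ∈ Finset.univ.inf' _ A ↔ y ∈ Finset.univ.inf' _ A
    rw [hmem, hmem]
    refine ⟨fun h τ => ?_, fun h τ => by rw [hmul]; exact h _⟩
    have := h (τ * σ⁻¹)
    rwa [hmul, inv_mul_cancel_right] at this

end Groth.Agent.S16124
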