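import Groth.Statements.S16126
import Groth.Agent.Agf.CentralChar

set_option autoImplicit false
universe u
open CategoryTheory MonoidalCategory CartesianMonoidalCategory MonObj GrpObj AlgebraicGeometry CategoryTheory.Limits
open AlgGrp

namespace Groth.Agent.S16126

open scoped Groth.Agf TensorProduct
open Groth.Agf

variable {k : Type u} [Field k] {E : Over (Spec (CommRingCat.of k))} [GrpObj E] [IsAffine E.left]

/-- The determinant of a finite rational module. -/
theorem exists_det_char {W : Type u} [AddCommGroup W] [Module k W] [Module.Finite k W] (ρ : VecGrp.GMod E W) :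
    ∃ d : Fn E, IsUnit d ∧
      (∀ (B : Type u) [CommRing B] [Algebra k B] (g h : VecGrp.pt k B ⟶ E), evalPt (g * h) d = evalPt g d * evalPt h d) ∧
      ∀ (B : Type u) [CommRing B] [Algebra k B] (g : VecGrp.pt k B ⟶ E) (c : B),
        (∀ w : W, ρ.ρ B g ((1 : B) ⊗ₜ[k] w) = c • ((1 : B) ⊗ₜ[k] w)) → evalPt g d = c ^ Module.finrank k W := by
  classical
  let b := Module.finBasis k W
  let P : Matrix (Fin (Module.finrank k W)) (Fin (Module.finrank k W)) (Fn E) :=
    Matrix.of fun i j => coeffFn ρ (b.coord i) (b j)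
  let M : ∀ (B : Type u) [CommRing B] [Algebra k B] (g : VecGrp.pt k B ⟶ E), Matrix _ _ B :=
    fun B _ _ g => LinearMap.toMatrix (b.baseChange B) (b.baseChange B) (ρ.ρ B g).toLinearMap
  have hM : ∀ (B : Type u) [CommRing B] [Algebra k B] (g : VecGrp.pt k B ⟶ E), (evalPt g).mapMatrix P = M B g := by
    intro B _ _ g
    ext i j
    simp only [M, P, AlgHom.mapMatrix_apply, Matrix.map_apply, Matrix.of_apply, evalPt_coeffFn,
      LinearMap.toMatrix_apply, Module.Basis.baseChange_apply, LinearEquiv.coe_coe]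
    generalize (ρ.ρ B g) ((1 : B) ⊗ₜ[k] b j) = z
    induction z using TensorProduct.induction_on with
    | zero => simp
    | tmul p q => simp [Module.Basis.baseChange_repr_tmul]
    | add p q hp hq => simp only [map_add, Finsupp.add_apply, hp, hq]
  have hd : ∀ (B : Type u) [CommRing B] [Algebra k B] (g : VecGrp.pt k B ⟶ E), evalPt g P.det = (M B g).det := by
    intro B _ _ g
    rw [AlgHom.map_det, hM]
  have hmul : ∀ (B : Type u) [CommRing B] [Algebra k B] (g h : VecGrp.pt k B ⟶ E),
      evalPt (g * h) P.det = evalPt g P.det * evalPt h P.det := by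
    intro B _ _ g h
    rw [hd, hd, hd, ← Matrix.det_mul]
    simp only [M, map_mul, ← LinearMap.toMatrix_comp]
    rfl
  refine ⟨P.det, ?_, hmul, fun B _ _ g c hg => ?_⟩
  · have h := hmul (Fn E) (univ E) (univ E)⁻¹
    rw [mul_inv_cancel, hd _ 1, evalPt_univ] at h
    simp only [M, map_one, AlgHom.id_apply] at h
    refine IsUnit.of_mul_eq_one _ (h.symm.trans ?_)
    rw [show (LinearEquiv.toLinearMap (1 : VecGrp.W k W (Fn E) ≃ₗ[Fn E] VecGrp.W k W (Fn E))) = LinearMap.id from rfl,
      LinearMap.toMatrix_id, Matrix.det_one]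
  · have hs : M B g = c • (1 : Matrix (Fin (Module.finrank k W)) (Fin (Module.finrank k W)) B) := by
      rw [← LinearMap.toMatrix_id (b.baseChange B), ← map_smul]
      simp only [M]
      congr 1
      refine (b.baseChange B).ext fun j => ?_
      simp [hg]
    rw [hd, hs, Matrix.det_smul, Matrix.det_one, _root_.mul_one, Fintype.card_fin]


/-- Over an algebraically closed field k, let E and G be linear algebraic groups (affine smooth k-group
schemes) with G connected, i : 𝔾_m → E a homomorphism which is a closed immersion with central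
image, and f : E → G a flat surjective homomorphism with kernel i (a central extension 1 → 𝔾_m → E →
G → 1). Then there exist a character χ : E → 𝔾_m and an integer n ≥ 1 such that χ ∘ i is the n-th
power map of 𝔾_m: for every point t of 𝔾_m with values in a k-scheme T, χ(i(t)) = tⁿ in the group of
T-points of 𝔾_m. (The published lemma is stated in a setting where all groups are linear; for a
connected G that is not linear the conclusion can fail.) -/
theorem result (k : Type u) [Field k] [IsAlgClosed k]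
    (E G : Over (Spec (CommRingCat.of k))) [GrpObj E] [IsAffine E.left] [Smooth E.hom]
    [GrpObj G] [IsAffine G.left] [Smooth G.hom] [ConnectedSpace ↥G.left]
    (i : Red.Gm (Spec (CommRingCat.of k)) ⟶ E) [IsMonHom i] [IsClosedImmersion i.left]
    (hcent : ∀ (T : Over (Spec (CommRingCat.of k))) (t : T ⟶ Red.Gm (Spec (CommRingCat.of k))) (g : T ⟶ E),
      (t ≫ i) * g = g * (t ≫ i))
    (f : E ⟶ G) [IsMonHom f] [Flat f.left] [Surjective f.left] (hker : AlgGrp.IsKernel i f) :
    ∃ (χ : E ⟶ Red.Gm (Spec (CommRingCat.of k))) (n : ℕ), IsMonHom χ ∧ 1 ≤ n ∧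
      ∀ (T : Over (Spec (CommRingCat.of k))) (t : T ⟶ Red.Gm (Spec (CommRingCat.of k))), (t ≫ i) ≫ χ = t ^ n := by
  have hc : ∀ (B : Type u) [CommRing B] [Algebra k B] (u : Bˣ) (g : VecGrp.pt k B ⟶ E),
      (gmPt u ≫ i) * g = g * (gmPt u ≫ i) := fun B _ _ u g => hcent _ _ g
  obtain ⟨f₀, hf₀, hne⟩ := exists_ne_zero i
  let ρ₁ := subGMod (regRep E) (wt1_stable i hc)
  obtain ⟨W, hWfin, hWf, hWs⟩ := exists_finite_stable ρ₁ {(⟨f₀, hf₀⟩ : wt1 i)}
  let ρ := subGMod ρ₁ hWs
  have hW : 1 ≤ Module.finrank k W := by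
    have h0 : (⟨f₀, hf₀⟩ : wt1 i) ∈ W := hWf (by simp)
    have hz : (⟨⟨f₀, hf₀⟩, h0⟩ : W) ≠ 0 := fun h => hne (congrArg (fun z : W => (z.1.1 : Fn E)) h)
    have : Nontrivial W := ⟨⟨_, 0, hz⟩⟩
    exact Module.finrank_pos (R := k) (M := W)
  obtain ⟨d, hdu, hdmul, hdsc⟩ := exists_det_char ρ
  have hwt : ∀ (B : Type u) [CommRing B] [Algebra k B] (u : Bˣ) (w : W),
      ρ.ρ B (gmPt u ≫ i) ((1 : B) ⊗ₜ[k] w) = (u : B) • ((1 : B) ⊗ₜ[k] w) := by
    intro B _ _ u w
    apply incl_injective B W
    rw [subGMod_incl, map_smul, LinearMap.baseChange_tmul]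
    apply incl_injective B (wt1 i)
    rw [subGMod_incl, map_smul, LinearMap.baseChange_tmul, regRep_apply, rTransAlg,
      ← Category.assoc _ (gmPt u) i, ptMap_gmPt]
    rw [show (wt1 i).subtype (W.subtype w) = w.1.1 from rfl, w.1.2, evalPt_ptMap, evalPt_univ, AlgHom.comp_id]
    simp [TensorProduct.smul_tmul']
  let χ : E ⟶ Red.Gm (Spec (CommRingCat.of k)) := Groth.Reductive.gmMk E hdu.unit
  have hχ : Red.gmFn χ = d := by simp [χ]
  have hpull : pull i d = gmC ^ Module.finrank k W := by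
    refine fn_ext (X := Red.Gm _) fun B _ _ g => ?_
    rw [← evalPt_comp_apply, ← gmPt_evalPt g, hdsc B _ _ (hwt B _), map_pow, evalPt_gmPt]
  have haff := tensor_isAffine E E
  have hμ : pull μ[E] d = pull (fst E E) d * pull (snd E E) d := by
    refine fn_ext (X := E ⊗ E) fun B _ _ z => ?_
    rw [← evalPt_comp_apply, map_mul, ← evalPt_comp_apply, ← evalPt_comp_apply, ← hdmul,
      show (z ≫ fst E E) * (z ≫ snd E E) = z ≫ μ[E] by
        rw [← MonObj.comp_mul, Hom.mul_def, lift_fst_snd, Category.id_comp]]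
  refine ⟨χ, Module.finrank k W, ⟨?_, ?_⟩, hW, fun T t => ?_⟩
  · have h1 : (1 : 𝟙_ (Over (Spec (CommRingCat.of k))) ⟶ E) * 1 = 1 := _root_.mul_one _
    have hχmul : ∀ {T : Over (Spec (CommRingCat.of k))} (a b : T ⟶ E), (a * b) ≫ χ = (a ≫ χ) * (b ≫ χ) := by
      intro T a b
      refine Groth.Reductive.gmFn_injective ?_
      rw [Groth.Reductive.gmFn_mul, gmFn_pull, gmFn_pull, gmFn_pull, hχ, Hom.mul_def, pull_comp, hμ, map_mul,
        ← pull_comp, ← pull_comp, lift_fst, lift_snd]
    have h2 := hχmul (1 : 𝟙_ (Over (Spec (CommRingCat.of k))) ⟶ E) 1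
    rw [h1] at h2
    have h3 := mul_inv_cancel ((1 : 𝟙_ (Over (Spec (CommRingCat.of k))) ⟶ E) ≫ χ)
    have h4 := congrArg (fun x => x * ((1 : 𝟙_ (Over (Spec (CommRingCat.of k))) ⟶ E) ≫ χ)⁻¹) h2
    simp only [_root_.mul_assoc, h3, _root_.mul_one] at h4
    replace h2 := h4.symm
    simpa [Hom.one_def] using h2
  · refine Groth.Reductive.gmFn_injective ?_
    rw [show (χ ⊗ₘ χ) ≫ μ = (fst E E ≫ χ) * (snd E E ≫ χ) by rw [Hom.mul_def]; congr 1,
      Groth.Reductive.gmFn_mul, gmFn_pull, gmFn_pull, gmFn_pull, hχ, hμ]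
  · refine Groth.Reductive.gmFn_injective ?_
    rw [Groth.Reductive.gmFn_pow, gmFn_pull, hχ, pull_comp, hpull, map_pow, gmC, ← gmFn_pull, Category.comp_id]

end Groth.Agent.S16126
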