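import Groth.Statements.S16127
import Groth.Agent.AlgGrp2.Basic

set_option autoImplicit false
universe u
open CategoryTheory MonoidalCategory CartesianMonoidalCategory MonObj GrpObj AlgebraicGeometry CategoryTheory.Limits
open AlgGrp

namespace Groth.Agent.S16127

/-- The morphism to the affine line given by a function. -/
noncomputable def fnHom (W : Scheme.{u}) (s : Γ(W, ⊤)) :
    W ⟶ Spec (CommRingCat.of (Polynomial (ULift.{u} ℤ))) :=
  W.toSpecΓ ≫ Spec.map (CommRingCat.ofHom
    (Polynomial.eval₂RingHom ((Int.castRingHom Γ(W, ⊤)).comp ULift.ringEquiv.toRingHom) s))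

/-- The coordinate. -/
noncomputable def coord : Γ(Spec (CommRingCat.of (Polynomial (ULift.{u} ℤ))), ⊤) :=
  (Scheme.ΓSpecIso (CommRingCat.of (Polynomial (ULift.{u} ℤ)))).inv Polynomial.X

lemma appTop_fnHom (W : Scheme.{u}) (s : Γ(W, ⊤)) : (fnHom W s).appTop coord = s := by
  show W.toSpecΓ.appTop ((Spec.map _).appTop ((Scheme.ΓSpecIso (CommRingCat.of (Polynomial (ULift.{u} ℤ)))).inv Polynomial.X)) = s
  rw [← CommRingCat.comp_apply, ← CommRingCat.comp_apply]
  erw [← Scheme.ΓSpecIso_inv_naturality_assoc, Scheme.toSpecΓ_appTop, Iso.inv_hom_id, Category.comp_id]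
  simp

lemma fnHom_comp {V W : Scheme.{u}} (g : V ⟶ W) (s : Γ(W, ⊤)) :
    g ≫ fnHom W s = fnHom V (g.appTop s) := by
  rw [fnHom, fnHom, ← Category.assoc, Scheme.toSpecΓ_naturality, Category.assoc, ← Spec.map_comp]
  congr 2
  apply CommRingCat.hom_ext
  refine Polynomial.ringHom_ext (fun r => ?_) ?_
  · simp
  · simp

/-- Over an algebraically closed field k, let G be an algebraic group (a smooth k-group scheme of finite
type) acting by σ on a variety X, and let f : X → Y be a principal G-bundle over a variety Y (X, Y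
reduced separated k-schemes of finite type; f flat and surjective, the square σ, p₂ : G × X → X, f,
f cartesian). Then f^* identifies Γ(Y, O_Y) with the invariants Γ(X, O_X)^G: f^* on global sections
is injective and its range is the set of global functions s on X with σ^*(s) = p₂^*(s). -/
theorem result (k : Type u) [Field k] [IsAlgClosed k]
    (G X Y : Over (Spec (CommRingCat.of k))) [GrpObj G] [Smooth G.hom] [QuasiCompact G.hom]
    [IsReduced X.left] [IsSeparated X.hom] [LocallyOfFiniteType X.hom] [QuasiCompact X.hom]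
    [IsReduced Y.left] [IsSeparated Y.hom] [LocallyOfFiniteType Y.hom] [QuasiCompact Y.hom]
    (a : AlgGrp.Action G X) (f : X ⟶ Y) [Flat f.left] [Surjective f.left]
    (hsq : IsPullback a.act.left (snd G X).left f.left f.left) :
    Function.Injective (f.left.appTop) ∧
      Set.range (f.left.appTop) = {s : Γ(X.left, ⊤) | a.act.left.appTop s = (snd G X).left.appTop s} := by
  haveI : QuasiCompact f.left :=
    haveI : QuasiCompact (f.left ≫ Y.hom) := by rw [Over.w f]; infer_instance
    QuasiCompact.of_comp f.left Y.hom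
  refine ⟨fun s t h => ?_, Set.ext fun s => ⟨?_, fun hs => ?_⟩⟩
  · have : fnHom Y.left s = fnHom Y.left t := by
      rw [← cancel_epi f.left, fnHom_comp, fnHom_comp, h]
    rw [← appTop_fnHom Y.left s, this, appTop_fnHom]
  · rintro ⟨t, rfl⟩
    show (a.act.left ≫ f.left).appTop t = ((snd G X).left ≫ f.left).appTop t
    rw [hsq.w]
  · have hco : a.act.left ≫ fnHom X.left s = (snd G X).left ≫ fnHom X.left s := by
      rw [fnHom_comp, fnHom_comp, show a.act.left.appTop s = _ from hs]
    let d := EffectiveEpi.desc f.left (fnHom X.left s) fun g₁ g₂ hg => by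
      rw [← hsq.lift_fst g₁ g₂ hg, Category.assoc, hco, hsq.lift_snd_assoc]
    refine ⟨d.appTop coord, ?_⟩
    show (f.left ≫ d).appTop coord = s
    rw [EffectiveEpi.fac, appTop_fnHom]

end Groth.Agent.S16127
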