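import Groth.Statements.S1613
import Groth.Agent.CurveBridge.Canonical
import Groth.Agent.EulerDeg.LineBundle

set_option autoImplicit false
universe u
open CategoryTheory CategoryTheory.Limits AlgebraicGeometry
open Curves Groth.CurveBridge

namespace Groth.Agent.S1613

/-- Let X be a smooth proper connected curve over an algebraically closed field k, of genus g ≥ 2. Then
every O_X-linear map from the sheaf of differentials Ω_{X/k} to O_X is zero (X has no nonzero
k-derivations of its structure sheaf). -/
theorem result (k : Type u) [Field k] [IsAlgClosed k] (X : Scheme.{u}) [X.Over (Spec (CommRingCat.of k))]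
    (hX : Curve.IsSmoothProperCurve k X (X ↘ (Spec (CommRingCat.of k)))) (hg : 2 ≤ Curv2.genus k X)
    (θ : Omega.sheaf (X ↘ (Spec (CommRingCat.of k))) ⟶ Coh.structureModule X) : θ = 0 := by
  obtain ⟨hp, hs, hi, hd⟩ := hX
  haveI := hp; haveI := hs; haveI := hi
  have h := isRegCurve_of_smooth k X hd
  have hK := isFunctionField (k := k) (X := X) hd
  obtain ⟨-, -, hdΩ⟩ := omega_numerics (k := k) (X := X) h
  by_contra hne
  have hO : PicF.IsInvertible (Coh.structureModule X) := Groth.EulerDeg.isInvertible_structureModule X
  haveI := Groth.EulerDeg.mono_of_ne_zero (isInvertible_omega hK) hO hne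
  have := deg_le_of_mono θ k hd (isInvertible_omega hK) hO
  rw [hdΩ] at this
  unfold Curv2.deg at this
  push_cast at this
  rw [euler_structure h hK] at this
  omega

end Groth.Agent.S1613
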