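import Groth.Statements.S16133
import Groth.Agent.Pi1Desc.General
import Groth.Agent.Agf.Quot
import Groth.Agent.Agf.GeomRed
import Groth.Agent.Agf.SmoothRed
import Groth.Agent.AlgGrp1.Points
import Groth.Agent.EtaleBase.FpqcDescent
import Mathlib.AlgebraicGeometry.Morphisms.LocalFlatDescent
import Mathlib.AlgebraicGeometry.AlgClosed.Basic
-- import your own Groth.Agent.* helpers here

set_option autoImplicit false
universe u
open CategoryTheory MonoidalCategory CartesianMonoidalCategory MonObj GrpObj AlgebraicGeometry CategoryTheory.Limits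
open AlgGrp

namespace Groth.Agent.S16133


section Bundle

variable {S : Scheme.{u}} {G X Y Z : Over S} [GrpObj G] {a : AlgGrp.Action G X} {f : X ⟶ Y}
  (hsq : IsPullback a.act.left (snd G X).left f.left f.left) (b : AlgGrp.Action G Z)

include hsq

/-- Two points with the same image differ by a group element. -/
lemma exists_trans {T : Over S} (x x' : T ⟶ X) (e : x ≫ f = x' ≫ f) :
    ∃ g : T ⟶ G, lift g x ≫ a.act = x' := by
  have e' : x'.left ≫ f.left = x.left ≫ f.left := congrArg Over.Hom.left e.symm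
  let z : T ⟶ G ⊗ X := Over.homMk (hsq.lift x'.left x.left e') (by
    rw [← Over.w (snd G X), ← Category.assoc, hsq.lift_snd, Over.w x])
  have h1 : z ≫ a.act = x' := Over.OverMorphism.ext (hsq.lift_fst _ _ _)
  have h2 : z ≫ snd G X = x := Over.OverMorphism.ext (hsq.lift_snd _ _ _)
  refine ⟨z ≫ fst G X, ?_⟩
  have hz : lift (z ≫ fst G X) x = z := by
    rw [← h2]
    exact CartesianMonoidalCategory.hom_ext _ _ (lift_fst _ _) (lift_snd _ _)
  rw [hz, h1]

/-- The group element is unique. -/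
lemma trans_unique {T : Over S} {x : T ⟶ X} {g g' : T ⟶ G}
    (e : lift g x ≫ a.act = lift g' x ≫ a.act) : g = g' := by
  have h : lift g x = lift g' x := Over.OverMorphism.ext (hsq.hom_ext
    (by simpa using congrArg Over.Hom.left e)
    (congrArg Over.Hom.left (show lift g x ≫ snd G X = lift g' x ≫ snd G X by rw [lift_snd, lift_snd])))
  simpa using congrArg (· ≫ fst G X) h

omit hsq in
/-- The diagonal action. -/
noncomputable def diagAct {T : Over S} (g : T ⟶ G) (v : T ⟶ X ⊗ Z) : T ⟶ X ⊗ Z :=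
  lift (lift g (v ≫ fst X Z) ≫ a.act) (lift g (v ≫ snd X Z) ≫ b.act)

lemma exists_rep {T : Scheme.{u}} (v : T ⟶ (X ⊗ Z).left) (x' : T ⟶ X.left)
    (e : v ≫ (fst X Z).left ≫ f.left = x' ≫ f.left) :
    ∃ (v' : Over.mk (v ≫ (X ⊗ Z).hom) ⟶ X ⊗ Z) (γ : Over.mk (v ≫ (X ⊗ Z).hom) ⟶ G),
      v'.left = v ∧ (lift γ (v' ≫ fst X Z) ≫ a.act).left = x' := by
  let v' : Over.mk (v ≫ (X ⊗ Z).hom) ⟶ X ⊗ Z := Over.homMk v rfl
  let x'' : Over.mk (v ≫ (X ⊗ Z).hom) ⟶ X := Over.homMk x' (by
    show x' ≫ X.hom = v ≫ (X ⊗ Z).hom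
    rw [← Over.w f, ← Category.assoc, ← e, Category.assoc, Category.assoc, Over.w f,
      Over.w (fst X Z)])
  obtain ⟨γ, hγ⟩ := exists_trans hsq (v' ≫ fst X Z) x'' (Over.OverMorphism.ext
    ((Category.assoc _ _ _).trans e))
  exact ⟨v', γ, rfl, congrArg Over.Hom.left hγ⟩

/-- The point over `x'` in the orbit of `v`. -/
noncomputable def moveTo {T : Scheme.{u}} (v : T ⟶ (X ⊗ Z).left) (x' : T ⟶ X.left)
    (e : v ≫ (fst X Z).left ≫ f.left = x' ≫ f.left) : T ⟶ (X ⊗ Z).left :=
  (diagAct (a := a) b (exists_rep hsq v x' e).choose_spec.choose (exists_rep hsq v x' e).choose).left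

lemma moveTo_eq {T : Scheme.{u}} {t : T ⟶ S} (v : T ⟶ (X ⊗ Z).left) (x' : T ⟶ X.left) (e)
    (v' : Over.mk t ⟶ X ⊗ Z) (γ : Over.mk t ⟶ G) (hv : v'.left = v)
    (hx : (lift γ (v' ≫ fst X Z) ≫ a.act).left = x') :
    moveTo hsq b v x' e = (diagAct (a := a) b γ v').left := by
  obtain rfl : t = v ≫ (X ⊗ Z).hom := by rw [← hv]; exact (Over.w v').symm
  have key : ∀ (w : Over.mk (v ≫ (X ⊗ Z).hom) ⟶ X ⊗ Z) (δ : Over.mk (v ≫ (X ⊗ Z).hom) ⟶ G),
      w.left = v → (lift δ (w ≫ fst X Z) ≫ a.act).left = x' →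
      diagAct (a := a) b δ w = diagAct (a := a) b γ v' := fun w δ hw hδ => by
    obtain rfl : w = v' := Over.OverMorphism.ext (hw.trans hv.symm)
    obtain rfl : δ = γ := trans_unique hsq (Over.OverMorphism.ext (hδ.trans hx.symm))
    rfl
  exact congrArg Over.Hom.left (key _ _ (exists_rep hsq v x' e).choose_spec.choose_spec.1
    (exists_rep hsq v x' e).choose_spec.choose_spec.2)

/-- The diagonal action as a descent datum on `X × Z ⟶ X`. -/
noncomputable def bundleAct : Groth.Pi1Desc.Act (fst X Z).left f.left where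
  act v x' e := moveTo hsq b v x' e
  act_hom v x' e := by
    obtain ⟨v', γ, hv, hx⟩ := exists_rep hsq v x' e
    rw [moveTo_eq hsq b v x' e v' γ hv hx, ← hx, ← Over.comp_left, diagAct, lift_fst]
  act_self v x' e h := by
    obtain ⟨v', γ, hv, hx⟩ := exists_rep hsq v x' e
    rw [moveTo_eq hsq b v x' e v' 1 hv (by rw [Groth.Agf.lift_one_act, Over.comp_left, hv, h]),
      diagAct, Groth.Agf.lift_one_act, Groth.Agf.lift_one_act]
    conv_rhs => rw [← hv]
    congr 1
    ext <;> simp
  act_act v x y e e' e'' := by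
    obtain ⟨v', γ, hv, hx⟩ := exists_rep hsq v x e
    obtain ⟨u, hu⟩ : ∃ u, u = diagAct (a := a) b γ v' := ⟨_, rfl⟩
    have hu1 : u.left = moveTo hsq b v x e := by rw [hu, moveTo_eq hsq b v x e v' γ hv hx]
    have hy : y ≫ X.hom = v ≫ (X ⊗ Z).hom := by
      rw [← Over.w f, ← Category.assoc, ← e', Category.assoc, Category.assoc, Over.w f,
        Over.w (fst X Z)]
    obtain ⟨δ, hδ⟩ := exists_trans (a := a) hsq (u ≫ fst X Z)
      (Over.homMk y hy : Over.mk (v ≫ (X ⊗ Z).hom) ⟶ X) (Over.OverMorphism.ext (by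
        show (u.left ≫ (fst X Z).left) ≫ f.left = y ≫ f.left
        rw [hu1, Category.assoc]; exact e''))
    have hd : diagAct (a := a) b δ u = diagAct (a := a) b (δ * γ) v' := by
      subst hu
      unfold diagAct
      rw [lift_fst, lift_snd, Groth.Agf.lift_mul_act, Groth.Agf.lift_mul_act]
    rw [moveTo_eq hsq b _ y e'' u δ hu1 (congrArg Over.Hom.left hδ), hd]
    refine (moveTo_eq hsq b v y e' v' (δ * γ) hv ?_).symm
    have h2 : (lift (δ * γ) (v' ≫ fst X Z) ≫ a.act) = lift δ (u ≫ fst X Z) ≫ a.act := by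
      rw [hu, diagAct, lift_fst, Groth.Agf.lift_mul_act]
    rw [h2, hδ]
    rfl
  act_comp g v x' e e' := by
    obtain ⟨v', γ, hv, hx⟩ := exists_rep hsq v x' e
    let g' : Over.mk (g ≫ v ≫ (X ⊗ Z).hom) ⟶ Over.mk (v ≫ (X ⊗ Z).hom) := Over.homMk g rfl
    rw [moveTo_eq hsq b v x' e v' γ hv hx, moveTo_eq hsq b (g ≫ v) (g ≫ x') e' (g' ≫ v') (g' ≫ γ)
      (by rw [Over.comp_left, hv]; rfl)
      (by rw [Category.assoc, ← comp_lift, Category.assoc, Over.comp_left, hx]; rfl)]
    show _ = (g' ≫ diagAct (a := a) b γ v').left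
    simp only [diagAct, comp_lift, comp_lift_assoc, Category.assoc]

end Bundle

/-- Over an algebraically closed field k, let G be an algebraic group (a smooth k-group scheme of finite
type), f : X → Y a principal G-bundle between varieties (X, Y reduced separated k-schemes of finite
type; σ the action on X; f flat and surjective with the square σ, p₂, f, f cartesian), and Z an
affine variety with an action τ of G. Then the associated fibre bundle X ×^G Z → Y exists: there are
a variety W (reduced, separated, of finite type over k), a morphism φ : X × Z → W which is invariant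
for the diagonal action g · (x, z) = (g · x, g · z), and a morphism ψ : W → Y such that the square
formed by p₁ : X × Z → X, φ, f and ψ is cartesian. (The published statement covers every
G-quasi-projective Z; affine G-varieties are G-quasi-projective, and only that case is stated here.) -/
theorem result (k : Type u) [Field k] [IsAlgClosed k]
    (G X Y Z : Over (Spec (CommRingCat.of k))) [GrpObj G] [Smooth G.hom] [QuasiCompact G.hom]
    [IsReduced X.left] [IsSeparated X.hom] [LocallyOfFiniteType X.hom] [QuasiCompact X.hom]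
    [IsReduced Y.left] [IsSeparated Y.hom] [LocallyOfFiniteType Y.hom] [QuasiCompact Y.hom]
    [IsReduced Z.left] [IsAffine Z.left] [LocallyOfFiniteType Z.hom]
    (a : AlgGrp.Action G X) (f : X ⟶ Y) [Flat f.left] [Surjective f.left]
    (hsq : IsPullback a.act.left (snd G X).left f.left f.left) (b : AlgGrp.Action G Z) :
    ∃ (W : Over (Spec (CommRingCat.of k))) (φ : X ⊗ Z ⟶ W) (ψ : W ⟶ Y),
      IsReduced W.left ∧ IsSeparated W.hom ∧ LocallyOfFiniteType W.hom ∧ QuasiCompact W.hom ∧
      lift ((G ◁ fst X Z) ≫ a.act) ((G ◁ snd X Z) ≫ b.act) ≫ φ = snd G (X ⊗ Z) ≫ φ ∧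
      IsPullback (fst X Z).left φ.left f.left ψ.left := by
  have hsqf : f.left ≫ Y.hom = X.hom := Over.w f
  have : QuasiCompact f.left := by
    have : QuasiCompact (f.left ≫ Y.hom) := by rw [hsqf]; infer_instance
    exact QuasiCompact.of_comp f.left Y.hom
  let h := (fst X Z).left
  have : IsAffineHom Z.hom := isAffineHom_of_isAffine Z.hom
  have : IsAffineHom h := MorphismProperty.of_isPullback (IsPullback.of_hasPullback X.hom Z.hom).flip
    ‹IsAffineHom Z.hom›
  have : LocallyOfFiniteType h := MorphismProperty.of_isPullback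
    (IsPullback.of_hasPullback X.hom Z.hom).flip ‹LocallyOfFiniteType Z.hom›
  obtain ⟨U, π, q, hpb, hinv⟩ := Groth.Pi1Desc.Act.eff_of_isAffineHom (bundleAct hsq b)
  have hqw : q ≫ π ≫ Y.hom = (X ⊗ Z).hom := by
    rw [hpb.w_assoc, hsqf]; exact Over.w (fst X Z)
  let W : Over (Spec (CommRingCat.of k)) := Over.mk (π ≫ Y.hom)
  let φ : X ⊗ Z ⟶ W := Over.homMk q hqw
  let ψ : W ⟶ Y := Over.homMk π rfl
  have hQ : (@Surjective ⊓ @Flat ⊓ @QuasiCompact : MorphismProperty Scheme.{u}) f.left :=
    ⟨⟨inferInstance, inferInstance⟩, inferInstance⟩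
  have : IsAffineHom π :=
    MorphismProperty.of_isPullback_of_descendsAlong (P := @IsAffineHom) hpb.flip hQ inferInstance
  have : LocallyOfFiniteType π :=
    MorphismProperty.of_isPullback_of_descendsAlong (P := @LocallyOfFiniteType) hpb.flip hQ inferInstance
  have : IsReduced U := by
    have : Flat q := MorphismProperty.of_isPullback hpb.flip ‹Flat f.left›
    have : Surjective q := MorphismProperty.of_isPullback hpb.flip ‹Surjective f.left›
    have : GeometricallyReduced X.hom := by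
      refine Groth.Agf.geometricallyReduced_of_dense_points X ?_
      have := LocallyOfFiniteType.jacobsonSpace X.hom
      have hcd : Dense (closedPoints X.left) := dense_iff_closure_eq.2 closure_closedPoints
      refine hcd.mono fun p hp => ?_
      exact ⟨Over.homMk (pointOfClosedPoint X.hom p hp) (pointOfClosedPoint_comp X.hom p hp),
        IsLocalRing.closedPoint k, pointOfClosedPoint_apply X.hom p hp _⟩
    have : IsReduced (X ⊗ Z).left := Groth.AlgGrp1.isReduced_tensorObj X Z
    exact Groth.Agf.isReduced_of_flat_surjective q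
  refine ⟨W, φ, ψ, ‹IsReduced U›, inferInstanceAs (IsSeparated (π ≫ Y.hom)),
    inferInstanceAs (LocallyOfFiniteType (π ≫ Y.hom)), inferInstanceAs (QuasiCompact (π ≫ Y.hom)),
    ?_, hpb.flip⟩
  apply Over.OverMorphism.ext
  let x' := (lift (fst G (X ⊗ Z)) (snd G (X ⊗ Z) ≫ fst X Z) ≫ a.act).left
  have e : (snd G (X ⊗ Z)).left ≫ (fst X Z).left ≫ f.left = x' ≫ f.left := by
    have := congrArg ((lift (fst G (X ⊗ Z)) (snd G (X ⊗ Z) ≫ fst X Z)).left ≫ ·) hsq.w
    simp only [← Category.assoc, ← Over.comp_left, lift_snd] at this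
    simp only [x', ← Over.comp_left, Category.assoc] at this ⊢
    exact this.symm
  have h1 := hinv _ (snd G (X ⊗ Z)).left x' e
  have h2 := moveTo_eq hsq b (snd G (X ⊗ Z)).left x' e (t := (G ⊗ (X ⊗ Z)).hom)
    (snd G (X ⊗ Z)) (fst G (X ⊗ Z)) rfl rfl
  rw [show (bundleAct hsq b).act _ _ e = _ from h2] at h1
  have h3 : lift ((G ◁ fst X Z) ≫ a.act) ((G ◁ snd X Z) ≫ b.act) =
      diagAct (a := a) b (fst G (X ⊗ Z)) (snd G (X ⊗ Z)) := by
    have hwl : ∀ {V : Over (Spec (CommRingCat.of k))} (w : X ⊗ Z ⟶ V),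
        (G ◁ w) = lift (fst G (X ⊗ Z)) (snd G (X ⊗ Z) ≫ w) := fun w => by ext <;> simp
    rw [hwl, hwl]
    rfl
  rw [Over.comp_left, Over.comp_left, h3]
  exact h1

end Groth.Agent.S16133
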