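import Groth.Statements.S16148
import Groth.Agent.Variety2.Reg.NegGrowth
import Groth.Agent.Variety2.Reg.Ample
import Groth.Agent.HilbStab.Degree
import Groth.Agent.HilbStab.Exists
import Groth.Agent.Variety2.ProjBasics

set_option autoImplicit false
universe u
open CategoryTheory CategoryTheory.Limits AlgebraicGeometry
open Variety

namespace Groth.Agent.S16148

/-- Let k be a characteristic-zero algebraically closed field and G a coherent O-module (quasi-coherent
of finite type) on projective n-space P^n_k whose support, as a subspace of P^n_k, has Krull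
dimension a with a ≥ 1. Then there is an integer m such that H^a(P^n_k, G(m)) ≠ 0, where G(m) = G ⊗
O(m). (The source works over the complex numbers.) -/
theorem result (k : Type u) [Field k] [IsAlgClosed k] [CharZero k]
    (n : ℕ) (G : (CohB1.ProjSpace n k).Modules) (hG : Coh.IsCoh G) (a : ℕ) (ha : 1 ≤ a)
    (hdim : topologicalKrullDim ↥(CohB1.support G) = a) :
    ∃ m : ℤ, Nontrivial (Coh.HH (CohB1.ProjSpace n k) (CohB1.tensorMod G (Twist.twistProjSpace n k m)) a) := by
  haveI : IsProper ((CohB1.ProjSpace n k) ↘ Spec (CommRingCat.of k)) :=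
    inferInstanceAs (IsProper (CohB1.ProjSpace.toSpec n k))
  haveI : IsLocallyNoetherian (CohB1.ProjSpace n k) := Groth.PnCoh.isLocallyNoetherian_projSpace n k
  haveI : CompactSpace (CohB1.ProjSpace n k) :=
    QuasiCompact.compactSpace_of_compactSpace (CohB1.ProjSpace.toSpec n k)
  haveI : AlgebraicGeometry.IsNoetherian (CohB1.ProjSpace n k) := {}
  by_contra hne
  have hvan : ∀ m : ℤ, Subsingleton (Coh.HH (CohB1.ProjSpace n k) (Groth.Variety2.Reg.fT G m) a) :=
    fun m => not_nontrivial_iff_subsingleton.mp fun h => hne ⟨m, h⟩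
  have hA := Groth.Variety2.Reg.isAmple_tw_one (n := n) (k := k)
  have hG0 : ¬ IsZero G := fun h => by
    rw [(Groth.QCohMod.isZero_iff_support_eq_empty G).mp h] at hdim
    have : IsEmpty (TopologicalSpace.IrreducibleCloseds ((∅ : Set (CohB1.ProjSpace n k)) : Type u)) :=
      ⟨fun T => T.isIrreducible.1.some.2⟩
    rw [topologicalKrullDim, Order.krullDim_eq_bot] at hdim
    exact WithBot.bot_ne_natCast a hdim
  obtain ⟨P, hP⟩ := Groth.HilbStab.exists_isHilbPoly k (CohB1.ProjSpace n k) hA hG
  have hdeg : P.natDegree = a := by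
    have := Groth.HilbStab.natDegree_eq_dim k hA hG hG0 hP
    rw [hdim] at this
    exact_mod_cast this.symm
  have hP0 : P ≠ 0 := fun h => by rw [h, Polynomial.natDegree_zero] at hdeg; omega
  -- the Euler characteristic of the negative twists
  have heuler : ∀ c : ℕ, P.eval (-(c : ℚ)) =
      (Curv2.euler k (CohB1.ProjSpace n k) (Groth.Variety2.Reg.fT G (-(c : ℤ))) : ℚ) := by
    intro c
    obtain ⟨P', hP'⟩ := Groth.HilbStab.exists_isHilbPoly k (CohB1.ProjSpace n k) hA
      (Groth.Variety2.Reg.isCoh_fT G hG (-(c : ℤ)))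
    have hcomp : P'.comp (Polynomial.X + Polynomial.C (c : ℚ)) = P := by
      refine Groth.HilbStab.poly_ext_nat fun m => ?_
      rw [Polynomial.eval_comp, Polynomial.eval_add, Polynomial.eval_X, Polynomial.eval_C,
        ← Nat.cast_add, ← hP' (m + c), ← hP m]
      obtain ⟨e₁⟩ := Groth.Variety2.Reg.nonempty_twist_pow (Groth.Variety2.Reg.fT G (-(c : ℤ))) (m + c)
      obtain ⟨e₂⟩ := Groth.Variety2.Reg.nonempty_twist_pow G m
      obtain ⟨e₃⟩ := Groth.Variety2.Reg.nonempty_twist_twist G (-(c : ℤ)) ((m + c : ℕ) : ℤ) (m : ℤ)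
        (by push_cast; ring)
      exact congrArg (fun z : ℤ => (z : ℚ))
        (Groth.EulerDeg.euler_congr (k := k) (e₁ ≪≫ e₃ ≪≫ e₂.symm))
    rw [← hcomp, Polynomial.eval_comp, Polynomial.eval_add, Polynomial.eval_X, Polynomial.eval_C,
      neg_add_cancel, ← Nat.cast_zero, ← hP' 0]
    exact congrArg (fun z : ℤ => (z : ℚ))
      (Groth.EulerDeg.euler_congr (k := k) (SecTwist.unitorR _))
  -- its growth
  choose C hC using Groth.Variety2.Reg.NegGrowth.bound_of_support G hG
  let B : ℕ := ∑ q ∈ Finset.range a, C q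
  have hbound : ∀ c : ℕ, |P.eval (-(c : ℚ))| ≤ (B : ℚ) * ((c : ℚ) + 1) ^ (a - 1) := by
    intro c
    rw [heuler c, Groth.EulerDeg.euler_eq_sum (N := a) (fun q hq => ?_)]
    · push_cast
      refine (Finset.abs_sum_le_sum_abs _ _).trans ?_
      rw [show (B : ℚ) = ∑ q ∈ Finset.range a, (C q : ℚ) by simp [B], Finset.sum_mul]
      refine Finset.sum_le_sum fun q hq => ?_
      rw [abs_mul, abs_pow, abs_neg, abs_one, one_pow, one_mul, Nat.abs_cast]
      have h1 : (Groth.Variety2.Reg.NegGrowth.hrank k (Groth.Variety2.Reg.fT G (-(c : ℤ))) q : ℚ) ≤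
          (C q : ℚ) * ((c : ℚ) + 1) ^ q := by exact_mod_cast hC q c
      refine le_trans h1 (mul_le_mul_of_nonneg_left (pow_le_pow_right₀ (by linarith [(Nat.cast_nonneg c : (0 : ℚ) ≤ c)]) ?_) (Nat.cast_nonneg _))
      have := Finset.mem_range.mp hq
      omega
    · rcases eq_or_lt_of_le hq with rfl | hlt
      · exact hvan _
      · exact Groth.Duality.SupportVanish.subsingleton_HH_of_support _
          (Groth.CohTwo.isClosed_support G hG) hdim.le
          (Groth.Variety2.Reg.support_fT_subset G _) hlt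
  let R : Polynomial ℚ := P.comp (-Polynomial.X)
  let D : Polynomial ℚ := Polynomial.C (B : ℚ) * (Polynomial.X + Polynomial.C 1) ^ (a - 1)
  have hRdeg : R.natDegree = a := by
    rw [Polynomial.natDegree_comp, Polynomial.natDegree_neg, Polynomial.natDegree_X, mul_one, hdeg]
  have hR0 : R ≠ 0 := fun h => by rw [h, Polynomial.natDegree_zero] at hRdeg; omega
  have hD : D.degree < R.degree := by
    rw [Polynomial.degree_eq_natDegree hR0, hRdeg]
    refine lt_of_le_of_lt Polynomial.degree_le_natDegree ?_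
    refine Nat.cast_lt.mpr (lt_of_le_of_lt (Polynomial.natDegree_C_mul_le _ _) ?_)
    rw [Polynomial.natDegree_pow, Polynomial.natDegree_X_add_C, mul_one]
    omega
  have ht := (Polynomial.div_tendsto_atTop_zero_of_degree_lt D R hD).comp
    (tendsto_natCast_atTop_atTop (R := ℚ))
  have hev : ∀ᶠ c : ℕ in Filter.atTop, |D.eval (c : ℚ) / R.eval (c : ℚ)| < 1 := by
    have := ht.abs
    rw [abs_zero] at this
    exact this.eventually (eventually_lt_nhds one_pos)
  have hne0 : ∀ᶠ c : ℕ in Filter.atTop, R.eval (c : ℚ) ≠ 0 :=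
    (tendsto_natCast_atTop_atTop (R := ℚ)).eventually (Polynomial.eventually_no_roots R hR0)
  obtain ⟨c, hc1, hc0⟩ := (hev.and hne0).exists
  rw [abs_div, div_lt_one (abs_pos.mpr hc0)] at hc1
  have hb := hbound c
  have hDc : D.eval (c : ℚ) = (B : ℚ) * ((c : ℚ) + 1) ^ (a - 1) := by simp [D]
  have hRc : R.eval (c : ℚ) = P.eval (-(c : ℚ)) := by simp [R]
  rw [hDc, hRc, abs_of_nonneg (by positivity : (0 : ℚ) ≤ (B : ℚ) * ((c : ℚ) + 1) ^ (a - 1))] at hc1
  linarith

end Groth.Agent.S16148
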