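import Groth.Statements.S1615
import Mathlib.AlgebraicGeometry.ProjectiveSpectrum.Basic
import Mathlib.RingTheory.GradedAlgebra.Radical

set_option autoImplicit false
universe u
open CategoryTheory CategoryTheory.Limits AlgebraicGeometry
open Constr

namespace Groth.Agent.S1615

/-- For a graded ring A, quasi-compactness of Proj A is equivalent to the existence of finitely many
homogeneous elements of positive degree generating an ideal whose radical contains the irrelevant
ideal A_+. -/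
theorem result {R A : Type u} [CommRing R] [CommRing A] [Algebra R A] (𝒜 : ℕ → Submodule R A) [GradedAlgebra 𝒜] :
    CompactSpace ↥(Proj 𝒜) ↔ ∃ s : Finset A, (∀ f ∈ s, ∃ d : ℕ, 0 < d ∧ f ∈ 𝒜 d) ∧
      (HomogeneousIdeal.irrelevant 𝒜).toIdeal ≤ (Ideal.span (s : Set A)).radical := by
  have key : ∀ s : Finset A, (∀ f ∈ s, ∃ d : ℕ, 0 < d ∧ f ∈ 𝒜 d) →
      ((∀ x : Proj 𝒜, ∃ f ∈ s, x ∈ Proj.basicOpen 𝒜 f) ↔
      (HomogeneousIdeal.irrelevant 𝒜).toIdeal ≤ (Ideal.span (s : Set A)).radical) := by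
    intro s hs
    constructor
    · intro h
      have hhom : (Ideal.span (s : Set A)).IsHomogeneous 𝒜 :=
        Ideal.homogeneous_span 𝒜 _ fun f hf => ⟨_, (hs f hf).choose_spec.2⟩
      rw [hhom.radical_eq]
      refine le_sInf fun J ⟨hJh, hJ, hJp⟩ => ?_
      by_contra hne
      obtain ⟨f, hf, hx⟩ := h (⟨⟨J, hJh⟩, hJp, hne⟩ : ProjectiveSpectrum 𝒜)
      exact hx (hJ (Ideal.subset_span hf))
    · intro h x
      by_contra hx
      push Not at hx
      refine x.not_irrelevant_le (h.trans ?_)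
      exact x.isPrime.radical_le_iff.mpr (Ideal.span_le.mpr fun f hf =>
        not_not.mp fun hf1 => hx f hf hf1)
  constructor
  · intro hc
    let ι := {f : A // ∃ d : ℕ, 0 < d ∧ f ∈ 𝒜 d}
    have hcov : (Set.univ : Set (Proj 𝒜)) ⊆
        ⋃ i : ι, (Proj.basicOpen 𝒜 i.1 : Set (Proj 𝒜)) := by
      intro x _
      have h1 : ¬ (HomogeneousIdeal.irrelevant 𝒜).toIdeal ≤ x.asHomogeneousIdeal.toIdeal :=
        x.not_irrelevant_le
      rw [HomogeneousIdeal.irrelevant_eq_span, Ideal.span_le, Set.not_subset] at h1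
      obtain ⟨f, hf, hfx⟩ := h1
      simp only [Set.mem_iUnion] at hf
      obtain ⟨d, hd, hfd⟩ := hf
      exact Set.mem_iUnion.mpr ⟨⟨f, d, hd, hfd⟩, hfx⟩
    obtain ⟨t, ht⟩ := hc.isCompact_univ.elim_finite_subcover _
      (fun i => (Proj.basicOpen 𝒜 _).isOpen) hcov
    classical
    refine ⟨t.image Subtype.val, fun f hf => ?_, (key _ fun f hf => ?_).mp fun x => ?_⟩
    · obtain ⟨i, -, rfl⟩ := Finset.mem_image.mp hf
      exact i.2
    · obtain ⟨i, -, rfl⟩ := Finset.mem_image.mp hf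
      exact i.2
    · obtain ⟨i, hi, hx⟩ := Set.mem_iUnion₂.mp (ht (Set.mem_univ x))
      exact ⟨i.1, Finset.mem_image_of_mem _ hi, hx⟩
  · rintro ⟨s, hs, h⟩
    refine ⟨?_⟩
    rw [show (Set.univ : Set (Proj 𝒜)) = ⋃ f ∈ s, (Proj.basicOpen 𝒜 f : Set (Proj 𝒜)) from
      (Set.eq_univ_of_forall fun x => by simpa using! (key s hs).mpr h x).symm]
    refine s.finite_toSet.isCompact_biUnion fun f hf => ?_
    obtain ⟨d, hd, hfd⟩ := hs f hf
    exact (Proj.isAffineOpen_basicOpen 𝒜 f hfd hd).isCompact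

end Groth.Agent.S1615
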