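import Groth.Statements.S16150
import Groth.Agent.RefRank.RefPowColimit

set_option autoImplicit false
universe u
open CategoryTheory CategoryTheory.Limits AlgebraicGeometry TopologicalSpace
open SDiv

namespace Groth.Agent.S16150

/-- Let X be an integral locally Noetherian normal scheme, F a rank one coherent reflexive O_X-module
and s : O_X → F a global section of F. Let U be the open subscheme of X whose points are those x at
which the stalk map (O_X)_x → F_x of s is bijective, and j : U → X its inclusion. Consider the
system O_X → F → F^[2] → F^[3] → ⋯ of reflexive powers (F^[0] = O_X, F^[1] = F, F^[n+1] the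
reflexive hull of F^[n] ⊗ F), each map being multiplication by s. Then j_*(O_X|_U) is the colimit of
this system in the category of O_X-modules; precisely, there is a cocone from the system to
j_*(O_X|_U) whose leg in degree 0 is the restriction map O_X → j_*(O_X|_U) (the unit of the
adjunction between restriction to U and direct image along j) and which is a colimit cocone. -/
theorem result (X : Scheme.{u}) [IsIntegral X] [IsLocallyNoetherian X]
    (hX : Pi1.IsNormalScheme X) (F : X.Modules) (hF : RefHull.IsRef1 F) (s : Coh.structureModule X ⟶ F)
    (U : X.Opens) (hU : (U : Set X) = RefPow.isoLocus s) :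
    ∃ ι : RefPow.diagram F s ⟶ (Functor.const ℕ).obj ((Scheme.Modules.pushforward U.ι).obj ((Coh.structureModule X).restrict U.ι)),
      ι.app 0 = (Scheme.Modules.restrictAdjunction U.ι).unit.app (Coh.structureModule X) ∧
        Nonempty (IsColimit (Cocone.mk _ ι)) := by
    exact ⟨Groth.RefRank.powCocone hF hU,
      (Groth.RefRank.powCocone_app hF hU 0).trans (Groth.RefRank.powLeg_zero hF hU),
      Groth.RefRank.nonempty_isColimit_powCocone hX hF hU⟩

end Groth.Agent.S16150
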