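import Groth.Statements.S16154
import Groth.Agent.PnCI.Top
import Groth.Agent.Duality.SmoothDual

set_option autoImplicit false
universe u
open CategoryTheory CategoryTheory.Limits AlgebraicGeometry
open WGauss

namespace Groth.Agent.S16154

/-- Let k be a field and X in projective n-space over k the common zero scheme of m forms G_j of degrees
d_1 >= d_2 >= ... >= d_m >= 2 (m >= 1), smooth over k of relative dimension kk >= 1 with kk + m = n,
so that X is a smooth complete intersection of dimension kk whose twisted conormal bundle N_X^*(t)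
is the direct sum of the O_X(t - d_j). Then, for an integer t, H^1(X, O_X(t - d_j)) = 0 for every j
(that is, H^1(X, N_X^*(t)) = 0) if and only if either kk >= 2, or kk = 1 and t > 2 d_1 + d_2 + ... +
d_m - n - 1. Here O_X(c) is the pullback of O(c) from projective space along the inclusion of X.
(The source works over the complex numbers with X smooth projective; the statement is given over any
field.) -/
theorem result
    (k : Type u) [Field k] (n kk m : ℕ) (hkk : 1 ≤ kk) (hm : 1 ≤ m) (hn : kk + m = n)
    (d : Fin m → ℕ) (hd2 : ∀ j, 2 ≤ d j) (hanti : Antitone d)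
    (G : ∀ j : Fin m, LefPen.Form n k (d j))
    [SmoothOfRelativeDimension kk ((LefPen.ciIdeal G).subschemeι ≫ CohB1.ProjSpace.toSpec n k)]
    (t : ℤ) :
    (∀ j : Fin m, Subsingleton (Coh.HH (LefPen.ciIdeal G).subscheme
        ((Scheme.Modules.pullback (LefPen.ciIdeal G).subschemeι).obj
          (Twist.twistProjSpace n k (t - (d j : ℤ)))) 1)) ↔
      (2 ≤ kk ∨ (kk = 1 ∧ ((d ⟨0, hm⟩ : ℤ) + ∑ j : Fin m, (d j : ℤ)) - (n : ℤ) - 1 < t)) := by
  have hd0 : ∀ j, 0 < d j := fun j => lt_of_lt_of_le two_pos (hd2 j)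
  have hdim := Groth.Duality.SmoothDual.topologicalKrullDim_le
    ((LefPen.ciIdeal G).subschemeι ≫ CohB1.ProjSpace.toSpec n k) kk
  have hG : Groth.PnCI.Good G := by
    refine ⟨by omega, fun y hy => ?_⟩
    have hy' := (Groth.PnCI.mem_ci_support_iff hd0 G).2 hy
    rw [← SetLike.mem_coe, ← Scheme.IdealSheafData.range_subschemeι] at hy'
    obtain ⟨z, hz⟩ := hy'
    have h1 := Groth.Variety2.Dim.height_eq_of_isPreimmersion
      ((LefPen.ciIdeal G).subschemeι ≫ CohB1.ProjSpace.toSpec n k) (CohB1.ProjSpace.toSpec n k)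
      (LefPen.ciIdeal G).subschemeι rfl z
    have h2 : Order.height z ≤ (kk : ℕ∞) :=
      WithBot.coe_le_coe.1 (((le_iSup (fun x => ((Order.height x : ℕ∞) : WithBot ℕ∞)) z).trans_eq
        (Groth.Variety2.Dim.dim_eq_iSup_height _).symm).trans hdim)
    have h3 : Groth.Variety2.PSpace.ht y ≤ (kk : ℕ∞) := by
      refine le_of_eq_of_le ?_ h2
      rw [← hz]
      exact h1
    refine (add_le_add h3 le_rfl).trans ?_
    exact_mod_cast hn.le
  have key : ∀ j, Subsingleton (Coh.HH (LefPen.ciIdeal G).subscheme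
      ((Scheme.Modules.pullback (LefPen.ciIdeal G).subschemeι).obj
        (Twist.twistProjSpace n k (t - (d j : ℤ)))) 1) ↔
      (2 ≤ kk ∨ (∑ i : Fin m, (d i : ℤ)) - n - 1 < t - (d j : ℤ)) := by
    intro j
    rw [← Groth.PnCI.subsingleton_rest_iff]
    rcases Nat.lt_or_ge kk 2 with hk | hk
    · have h := Groth.PnCI.top_iff m d hd0 G hG (by omega) (t - (d j : ℤ))
      rw [show n - m = 1 by omega] at h
      rw [h]
      exact ⟨Or.inr, fun h => h.resolve_left (by omega)⟩
    · exact iff_of_true ((Groth.PnCI.main m d hd0 G hG).1 _ 1 one_pos (by omega)) (Or.inl hk)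
  simp only [key]
  constructor
  · intro h
    rcases h ⟨0, hm⟩ with h | h
    · exact Or.inl h
    · rcases Nat.lt_or_ge kk 2 with hk | hk
      · exact Or.inr ⟨by omega, by omega⟩
      · exact Or.inl hk
  · rintro (h | ⟨-, h⟩) j
    · exact Or.inl h
    · refine Or.inr ?_
      have : d j ≤ d ⟨0, hm⟩ := hanti (Fin.le_def.2 (Nat.zero_le _))
      omega

end Groth.Agent.S16154
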