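import Groth.Statements.S16156
import Mathlib

set_option autoImplicit false
universe u
open MukaiVec

namespace Groth.Agent.S16156

/-- Let N be an abelian group with a symmetric integer-valued bilinear form and H an element with H·H =
2n for some n > 0 such that every x with x·H = 0 satisfies x·x ≤ 0 (the Hodge index inequality). Fix
integers r ≥ 2, d > 0 and χ < 0 (a Mukai vector v = (r, dH, χ)) and an isotropic Mukai vector u =
(p, η, q), p ≥ 0, η ∈ N, η·η = 2pq, whose pairing ⟨v, u⟩ = d(H·η) − rq − χp has absolute value 1 or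
2. Exclude the case d = 1, χ = −1, H·η = 1, η·η = 0, and when r = 2 also the case p = 0, H·η = 0.
Then the pairings of u∨ = (p, −η, q) with w₀ = (0, rH, −2nd) and with w₁ = (2nd, −χH, 0) are both
non-negative or both negative: 2ndp − r(H·η) ≥ 0 holds if and only if χ(H·η) − 2ndq ≥ 0 holds. -/
theorem result
    (N : Type u) [AddCommGroup N] (B : LinearMap.BilinForm ℤ N) (hB : ∀ x y : N, B x y = B y x)
    (H : N) (n : ℤ) (hn : 0 < n) (hH : B H H = 2 * n) (hodge : ∀ x : N, B x H = 0 → B x x ≤ 0)
    (r d χ p q : ℤ) (η : N) (hr : 2 ≤ r) (hd : 0 < d) (hχ : χ < 0) (hp : 0 ≤ p)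
    (hiso : B η η = 2 * p * q)
    (hvu : 1 ≤ |d * B H η - r * q - χ * p| ∧ |d * B H η - r * q - χ * p| ≤ 2)
    (hexc : ¬ (d = 1 ∧ χ = -1 ∧ B H η = 1 ∧ B η η = 0))
    (hr2 : r = 2 → ¬ (p = 0 ∧ B H η = 0)) :
    (0 ≤ 2 * n * d * p - r * B H η ↔ 0 ≤ χ * B H η - 2 * n * d * q) := by
  set e := B H η with he
  set m := d * e - r * q - χ * p with hm
  have hη : B η H = e := hB η H
  have hodge' : 4 * n * (p * q) ≤ e ^ 2 := by
    have hx : B ((2 * n) • η - e • H) H = 0 := by
      simp only [map_sub, map_smul, LinearMap.sub_apply, LinearMap.smul_apply, smul_eq_mul, hη, hH]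
      ring
    have h := hodge _ hx
    simp only [map_sub, map_smul, LinearMap.sub_apply, LinearMap.smul_apply, smul_eq_mul, hη, hH,
      hiso, ← he] at h
    nlinarith
  have hm2 : m ^ 2 ≤ 4 := by
    have : -2 ≤ m ∧ m ≤ 2 := abs_le.1 hvu.2
    nlinarith
  have hAC : (2 * n * d * p - r * e) * (χ * e - 2 * n * d * q) =
      (2 * n * d ^ 2 - r * χ) * e ^ 2 - 2 * n * d * (e * m) - 4 * n ^ 2 * d ^ 2 * (p * q) := by
    rw [hm]; ring
  by_contra hne
  have hle : (2 * n * d * p - r * e) * (χ * e - 2 * n * d * q) ≤ 0 := by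
    rcases le_or_gt 0 (2 * n * d * p - r * e) with h1 | h1 <;>
      rcases le_or_gt 0 (χ * e - 2 * n * d * q) with h2 | h2
    · exact absurd (iff_of_true h1 h2) hne
    · exact mul_nonpos_of_nonneg_of_nonpos h1 h2.le
    · exact mul_nonpos_of_nonpos_of_nonneg h1.le h2
    · exact absurd (iff_of_false (not_le.2 h1) (not_le.2 h2)) hne
  have hrs : 2 ≤ -(r * χ) := by nlinarith
  rcases eq_or_ne e 0 with he0 | he0
  · have hpq : p * q ≤ 0 := by nlinarith
    apply hne
    rcases eq_or_lt_of_le hp with hp0 | hp0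
    · exfalso
      have hq : q ≠ 0 := fun h => by
        have : m = 0 := by rw [hm, he0, ← hp0, h]; ring
        rw [this] at hvu; simp at hvu
      have hmq : m = -(r * q) := by rw [hm, he0, ← hp0]; ring
      have hq2 : 1 ≤ q ^ 2 := by
        rcases lt_or_gt_of_ne hq with h | h <;> nlinarith
      have h4 : r ^ 2 * q ^ 2 ≤ 4 := by
        rw [hmq] at hm2; linarith [show (-(r * q)) ^ 2 = r ^ 2 * q ^ 2 by ring]
      have : r = 2 := by nlinarith [mul_le_mul_of_nonneg_left hq2 (sq_nonneg r)]
      exact hr2 this ⟨hp0.symm, he0⟩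
    · have hq : q ≤ 0 := by nlinarith
      rw [he0]
      have hnd : 0 < n * d := mul_pos hn hd
      exact iff_of_true (by nlinarith [mul_pos hnd hp0])
        (by nlinarith [mul_nonneg hnd.le (neg_nonneg.2 hq)])
  · have hesq : 1 ≤ e ^ 2 := by
      rcases lt_or_gt_of_ne he0 with h | h <;> nlinarith
    have key : (n * d ^ 2 - r * χ) * e ^ 2 ≤ 2 * n * d * (e * m) := by
      have := mul_le_mul_of_nonneg_left hodge' (by positivity : (0 : ℤ) ≤ n * d ^ 2)
      nlinarith
    have hem : |e * m| ≤ 2 * |e| := by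
      rw [abs_mul, mul_comm]
      exact mul_le_mul_of_nonneg_right hvu.2 (abs_nonneg _)
    have hea : 1 ≤ |e| := Int.one_le_abs he0
    have key' : (n * d ^ 2 + 2) * |e| ≤ 4 * n * d := by
      have h1 : (n * d ^ 2 + 2) * |e| * |e| ≤ 4 * n * d * |e| := by
        have : |e| * |e| = e ^ 2 := by rw [← sq, sq_abs]
        have hnd : 0 ≤ 2 * (n * d) := by positivity
        rw [mul_assoc _ |e| |e|, this]
        nlinarith [mul_le_mul_of_nonneg_left ((le_abs_self (e * m)).trans hem) hnd,
          mul_le_mul_of_nonneg_right hrs (sq_nonneg e)]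
      exact le_of_mul_le_mul_right h1 (by linarith)
    have hde : d * |e| ≤ 3 := by
      by_contra h
      push_neg at h
      nlinarith [mul_le_mul_of_nonneg_left (show 4 ≤ d * |e| by omega) (mul_pos hn hd).le]
    have hpq : p * q ≤ 0 := by
      by_contra h
      push_neg at h
      have h4 : 4 * n ≤ e ^ 2 := by nlinarith
      have he3 : |e| ≤ 3 := by nlinarith
      have he9 : e ^ 2 ≤ 9 := by nlinarith [sq_abs e, abs_nonneg e]
      have he2 : 2 ≤ |e| := by nlinarith [sq_abs e, abs_nonneg e]
      have hd1 : d = 1 := by nlinarith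
      have hn2 : n = 2 := by
        rcases (by omega : n = 1 ∨ n = 2) with h | h
        · subst h; subst hd1; nlinarith
        · exact h
      subst hn2; subst hd1
      have : |e| = 2 := by nlinarith
      nlinarith [sq_abs e]
    have key2 : (2 * n * d ^ 2 - r * χ) * e ^ 2 ≤ 2 * n * d * (e * m) := by
      nlinarith [mul_nonneg (show (0 : ℤ) ≤ n ^ 2 * d ^ 2 by positivity) (neg_nonneg.2 hpq)]
    have hde1 : d * |e| < 2 := by
      by_contra h
      push_neg at h
      have h1 : (2 * n * d ^ 2 + 2) * |e| * |e| ≤ 4 * n * d * |e| := by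
        have : |e| * |e| = e ^ 2 := by rw [← sq, sq_abs]
        have hnd : 0 ≤ 2 * (n * d) := by positivity
        rw [mul_assoc _ |e| |e|, this]
        nlinarith [mul_le_mul_of_nonneg_left ((le_abs_self (e * m)).trans hem) hnd,
          mul_le_mul_of_nonneg_right hrs (sq_nonneg e)]
      have h2 := le_of_mul_le_mul_right h1 (by linarith)
      nlinarith [mul_le_mul_of_nonneg_left (show 2 ≤ d * |e| by omega) (mul_pos hn hd).le]
    have hd1 : d = 1 := by nlinarith
    have he1 : |e| = 1 := by nlinarith
    subst hd1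
    have hee : e = 1 ∨ e = -1 := abs_eq (by norm_num : (0:ℤ) ≤ 1) |>.1 he1
    rcases hee with hee | hee
    · have hm' : m = 2 := by
        have := (abs_le.1 hvu.2).2
        rw [hee] at key2
        by_contra hm'
        have : m ≤ 1 := by omega
        nlinarith
      have hlin : -χ * p - r * q = 1 := by rw [hm, hee] at hm'; linarith
      rcases eq_or_lt_of_le hp with hp0 | hp0
      · rw [← hp0] at hlin
        rcases lt_trichotomy q 0 with h | h | h <;> nlinarith
      · have hq : q ≤ 0 := by nlinarith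
        rcases eq_or_lt_of_le hq with hq0 | hq0
        · rw [hq0] at hlin
          apply hexc
          refine ⟨rfl, by nlinarith, hee, ?_⟩
          rw [hiso, hq0]; ring
        · nlinarith
    · have hm' : m = -2 := by
        have := (abs_le.1 hvu.2).1
        rw [hee] at key2
        by_contra hm'
        have : -1 ≤ m := by omega
        nlinarith
      have hlin : r * q + χ * p = 1 := by rw [hm, hee] at hm'; linarith
      rcases eq_or_lt_of_le hp with hp0 | hp0
      · rw [← hp0] at hlin
        rcases lt_trichotomy q 0 with h | h | h <;> nlinarith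
      · have hq : q ≤ 0 := by nlinarith
        nlinarith

end Groth.Agent.S16156
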