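import Groth.Statements.S16158
import Mathlib


set_option autoImplicit false
universe u v w
open MadRed

namespace Groth.Agent.S16158

open TensorProduct in
theorem card_le_of_forall_mem_support {R : Type u} [CommRing R] {M : Type v} [AddCommGroup M]
    [Module R M] [Module.Finite R M] [IsNoetherianRing R] {ι : Type w} [DecidableEq ι]
    (N : ι → Submodule R M) (hN : DirectSum.IsInternal N) (g : ℕ)
    (hg : ∃ x : Fin g → M, Submodule.span R (Set.range x) = ⊤) (P : PrimeSpectrum R)
    (t : Finset ι) (ht : ∀ i ∈ t, P ∈ Module.support R (N i)) : t.card ≤ g := by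
  classical
  let K := P.asIdeal.ResidueField
  let e := LinearEquiv.ofBijective (DirectSum.coeLinearMap N) hN
  let π : ∀ i, M →ₗ[R] N i := fun i => DirectSum.component R ι (fun i => N i) i ∘ₗ e.symm.toLinearMap
  have hπ : ∀ i (x : N i), π i x = x := fun i x => by
    have h1 : e.symm (x : M) = DirectSum.lof R ι (fun i => N i) i x :=
      e.symm_apply_eq.2 (DirectSum.coeLinearMap_of N i x).symm
    simp [π, h1]
  have hπne : ∀ i j (x : N i), i ≠ j → π j x = 0 := fun i j x hij => by
    have h1 : e.symm (x : M) = DirectSum.lof R ι (fun i => N i) i x :=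
      e.symm_apply_eq.2 (DirectSum.coeLinearMap_of N i x).symm
    simp [π, h1, DirectSum.component.of, hij]
  have hne : ∀ i : t, ∃ x : N i, ((N i).subtype.baseChange K) (1 ⊗ₜ x) ≠ 0 := fun i => by
    haveI : IsNoetherian R M := isNoetherian_of_isNoetherianRing_of_finite R M
    haveI := (Module.mem_support_iff_nontrivial_residueField_tensorProduct P).1 (ht i i.2)
    by_contra hc
    push_neg at hc
    obtain ⟨z, hz⟩ := exists_ne (0 : K ⊗[R] N i)
    apply hz
    have hinj : Function.Injective ((N i).subtype.baseChange K) := by
      refine Function.LeftInverse.injective (g := (π i).baseChange K) fun w => ?_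
      induction w using TensorProduct.induction_on with
      | zero => simp
      | tmul c x => simp [hπ]
      | add a b ha hb => simp only [map_add, ha, hb]
    apply hinj
    rw [map_zero]
    clear hz
    induction z using TensorProduct.induction_on with
    | zero => simp
    | tmul c x =>
      rw [show c ⊗ₜ[R] x = c • ((1 : K) ⊗ₜ[R] x) by simp [TensorProduct.smul_tmul'], map_smul, hc,
        smul_zero]
    | add a b ha hb => simp only [map_add, ha, hb, add_zero]
  choose x hx using hne
  have hli : LinearIndependent K (fun i : t => ((N i).subtype.baseChange K) (1 ⊗ₜ x i)) := by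
    rw [Fintype.linearIndependent_iff]
    intro c hc j
    have h1 := congrArg (((N (j : ι)).subtype ∘ₗ π j).baseChange K) hc
    rw [map_sum, map_zero, Finset.sum_eq_single j] at h1
    · have h2 : c j • ((N (j : ι)).subtype.baseChange K) (1 ⊗ₜ x j) = 0 := by
        simpa [hπ] using h1
      exact (smul_eq_zero.1 h2).resolve_right (hx j)
    · intro i _ hij
      have : (i : ι) ≠ j := fun h => hij (Subtype.ext h)
      simp [hπne _ _ (x i) this]
    · simp
  obtain ⟨y, hy⟩ := hg
  have hspan : Submodule.span K (Set.range fun i => (1 : K) ⊗ₜ[R] y i) = ⊤ := by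
    rw [show Set.range (fun i => (1 : K) ⊗ₜ[R] y i) = TensorProduct.mk R K M 1 '' Set.range y from
      Set.range_comp (TensorProduct.mk R K M 1) y, ← Submodule.baseChange_span, hy,
      Submodule.baseChange_top]
  calc t.card = Fintype.card t := (Fintype.card_coe t).symm
    _ ≤ Fintype.card (Fin g) := by
        refine le_trans hli.fintype_card_le_finrank ?_
        rw [← finrank_top K (K ⊗[R] M), ← hspan]
        exact finrank_range_le_card _
    _ = g := Fintype.card_fin g

/-- Let R be a commutative Noetherian ring and M a finitely generated R-module. Then there is a natural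
number n such that in every decomposition of M as an internal direct sum of a family of submodules,
at most n of the summands are nonzero (the nonzero summands are indexed by a finite set of size at
most n). -/
theorem result (R : Type u) [CommRing R] [IsNoetherianRing R]
    (M : Type v) [AddCommGroup M] [Module R M] [Module.Finite R M] :
    ∃ n : ℕ, ∀ (ι : Type w) [DecidableEq ι] (N : ι → Submodule R M), DirectSum.IsInternal N →
      ∃ s : Finset ι, s.card ≤ n ∧ ∀ i, N i ≠ ⊥ → i ∈ s := by
  classical
  haveI : IsNoetherian R M := isNoetherian_of_isNoetherianRing_of_finite R M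
  obtain ⟨g, y, hy⟩ := Module.Finite.exists_fin (R := R) (M := M)
  let A := (associatedPrimes.finite R M).toFinset
  refine ⟨A.card * g, fun ι _ N hN => ?_⟩
  have hass : ∀ i, N i ≠ ⊥ → ∃ P : PrimeSpectrum R, P.asIdeal ∈ A ∧ P ∈ Module.support R (N i) := by
    intro i hi
    haveI : Nontrivial (N i) := Submodule.nontrivial_iff_ne_bot.2 hi
    obtain ⟨P, hP⟩ := associatedPrimes.nonempty R (N i)
    refine ⟨⟨P, hP.isPrime⟩, ?_, ?_⟩
    · rw [Set.Finite.mem_toFinset]
      exact associatedPrimes.subset_of_injective (f := (N i).subtype) (N i).injective_subtype hP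
    · obtain ⟨-, x, hx⟩ := isAssociatedPrime_iff.1 hP
      rw [Module.mem_support_iff_exists_annihilator]
      refine ⟨x, fun r hr => ?_⟩
      rw [Submodule.mem_annihilator_span_singleton] at hr
      show r ∈ P
      rw [hx, Submodule.mem_colon_singleton, Submodule.mem_bot]
      exact hr
  choose P hPA hPsupp using hass
  have hfin : {i | N i ≠ ⊥}.Finite :=
    (WellFoundedGT.finite_ne_bot_of_iSupIndep hN.submodule_iSupIndep)
  refine ⟨hfin.toFinset, ?_, fun i hi => hfin.mem_toFinset.2 hi⟩
  have hc : hfin.toFinset.card = hfin.toFinset.attach.card := (Finset.card_attach).symm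
  rw [hc, mul_comm]
  refine Finset.card_le_mul_card_image_of_maps_to
    (f := fun i : hfin.toFinset => (P i (hfin.mem_toFinset.1 i.2)).asIdeal)
    (fun i _ => hPA _ _) g fun Q hQ => ?_
  let t := hfin.toFinset.attach.filter
    (fun i : hfin.toFinset => (P i (hfin.mem_toFinset.1 i.2)).asIdeal = Q)
  have hQp : Q.IsPrime := ((associatedPrimes.finite R M).mem_toFinset.1 hQ).isPrime
  have := card_le_of_forall_mem_support N hN g ⟨y, hy⟩ ⟨Q, hQp⟩
    (t.map (Function.Embedding.subtype _)) (fun i hi => by
      simp only [Finset.mem_map] at hi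
      obtain ⟨j, hj, rfl⟩ := hi
      have hj' := (Finset.mem_filter.1 hj).2
      have e : (⟨Q, hQp⟩ : PrimeSpectrum R) = P j (hfin.mem_toFinset.1 j.2) :=
        PrimeSpectrum.ext hj'.symm
      rw [e]
      exact hPsupp _ _)
  rwa [Finset.card_map] at this

end Groth.Agent.S16158
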