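import Groth.Statements.S16159
import Mathlib

set_option autoImplicit false
universe u v w x
open MadRed

namespace Groth.Agent.S16159

theorem components_mem {k : Type u} [Field k] {V : Type w} [AddCommGroup V] [Module k V]
    (f : Module.End k V) (W : Submodule k V) (hW : ∀ w ∈ W, f w ∈ W) (s : Finset k) :
    ∀ (v : k → V), (∀ μ ∈ s, v μ ∈ f.eigenspace μ) → ∑ μ ∈ s, v μ ∈ W → ∀ μ ∈ s, v μ ∈ W := by
  classical
  induction s using Finset.induction with
  | empty => simp
  | @insert a s ha ih =>
    intro v hv hsum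
    rw [Finset.sum_insert ha] at hsum
    have h1 : ∑ μ ∈ s, (μ - a) • v μ ∈ W := by
      have h2 : f (v a + ∑ μ ∈ s, v μ) - a • (v a + ∑ μ ∈ s, v μ) ∈ W :=
        W.sub_mem (hW _ hsum) (W.smul_mem a hsum)
      convert h2 using 1
      rw [map_add, map_sum, smul_add, Finset.smul_sum,
        Module.End.mem_eigenspace_iff.1 (hv a (Finset.mem_insert_self _ _)), add_sub_add_left_eq_sub,
        ← Finset.sum_sub_distrib]
      refine Finset.sum_congr rfl fun μ hμ => ?_
      rw [Module.End.mem_eigenspace_iff.1 (hv μ (Finset.mem_insert_of_mem hμ)), sub_smul]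
    have h3 : ∀ μ ∈ s, v μ ∈ W := by
      intro μ hμ
      have h4 := ih (fun μ => (μ - a) • v μ)
        (fun ν hν => (f.eigenspace ν).smul_mem _ (hv ν (Finset.mem_insert_of_mem hν))) h1 μ hμ
      exact (W.smul_mem_iff (sub_ne_zero.2 fun h : μ = a => ha (h ▸ hμ))).1 h4
    intro μ hμ
    rcases Finset.mem_insert.1 hμ with rfl | hμ
    · exact (W.add_mem_iff_left (W.sum_mem h3)).1 hsum
    · exact h3 μ hμ

/-- Let k be a field, R a commutative Noetherian k-algebra and V an R-module, viewed also as a k-vector
space through k → R. Let (f_i) be a family of pairwise commuting R-linear endomorphisms of V such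
that each f_i, as a k-linear map, is diagonalizable over k (its eigenspaces span V), and such that
every vector of V lies in a finitely generated R-submodule stable under every f_i. Then the family
is simultaneously diagonalizable over k: the common eigenspaces ⨅_i Eig(f_i, χ(i)), over all
assignments χ of eigenvalues in k, span V. The source states this for the endomorphisms given by an
abelian group acting R-linearly; the row takes any commuting family, which is what the argument
uses, and neither k algebraically closed nor of characteristic zero is needed. -/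
theorem result
    (k : Type u) [Field k] (R : Type v) [CommRing R] [Algebra k R] [IsNoetherianRing R]
    (V : Type w) [AddCommGroup V] [Module R V] [Module k V] [IsScalarTower k R V]
    (ι : Type x) (f : ι → Module.End R V)
    (hcomm : ∀ i j, Commute (f i) (f j))
    (hdiag : ∀ i, ⨆ μ : k, Module.End.eigenspace ((f i).restrictScalars k) μ = ⊤)
    (hfin : ∀ v : V, ∃ W : Submodule R V, v ∈ W ∧ W.FG ∧ ∀ i, ∀ w ∈ W, f i w ∈ W) :
    ⨆ χ : ι → k, ⨅ i, Module.End.eigenspace ((f i).restrictScalars k) (χ i) = ⊤ := by
  classical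
  let E : ι → k → Submodule R V := fun i μ => LinearMap.ker (f i - algebraMap k R μ • LinearMap.id)
  have hE : ∀ i μ v, v ∈ E i μ ↔ v ∈ Module.End.eigenspace ((f i).restrictScalars k) μ := by
    intro i μ v
    simp [E, Module.End.mem_eigenspace_iff, sub_eq_zero, algebraMap_smul]
  rw [eq_top_iff]
  intro v _
  obtain ⟨W, hvW, hWfg, hWst⟩ := hfin v
  haveI : IsNoetherian R W := isNoetherian_of_fg_of_noetherian W hWfg
  suffices key : ∀ C' : Submodule R W, ∀ D : Submodule R V, D ≤ W →
      (∀ i, ∀ x ∈ D, f i x ∈ D) → Disjoint D (C'.map W.subtype) →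
      ∀ x ∈ D, x ∈ ⨆ χ : ι → k, ⨅ i, Module.End.eigenspace ((f i).restrictScalars k) (χ i) from
    key ⊥ W le_rfl hWst (by simp) v hvW
  intro C'
  induction C' using WellFoundedGT.induction with
  | _ C' ih =>
    intro D hDW hDst hdisj x hx
    let C := C'.map W.subtype
    have hdec : ∀ i, ∀ x ∈ D, ∃ (s : Finset k) (c : k → V),
        (∀ μ ∈ s, c μ ∈ E i μ ∧ c μ ∈ D) ∧ ∑ μ ∈ s, c μ = x := by
      intro i x hx
      have hx' : x ∈ ⨆ μ : k, Module.End.eigenspace ((f i).restrictScalars k) μ := by
        rw [hdiag i]; trivial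
      obtain ⟨c, hc, hcx⟩ := (Submodule.mem_iSup_iff_exists_finsupp _ _).1 hx'
      have h1 := components_mem ((f i).restrictScalars k) (D.restrictScalars k) (hDst i)
        c.support c (fun μ _ => hc μ) (by
          show ∑ μ ∈ c.support, c μ ∈ D
          have : c.sum (fun _ xi => xi) = x := hcx
          rw [Finsupp.sum] at this
          rw [this]; exact hx)
      exact ⟨c.support, c, fun μ hμ => ⟨(hE i μ _).2 (hc μ), h1 μ hμ⟩, hcx⟩
    by_cases hscal : ∀ i, ∃ μ, D ≤ E i μ
    · choose χ hχ using hscal
      exact Submodule.mem_iSup_of_mem χ ((Submodule.mem_iInf _).2 fun i => (hE i _ x).1 (hχ i hx))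
    · push_neg at hscal
      obtain ⟨i, hi⟩ := hscal
      obtain ⟨s, c, hc, hcx⟩ := hdec i x hx
      rw [← hcx]
      refine Submodule.sum_mem _ fun μ hμ => ?_
      let D₁ := D ⊓ E i μ
      let O := ⨆ ν : {ν : k // ν ≠ μ}, D ⊓ E i ν
      have hO : O ≤ D := iSup_le fun ν => inf_le_left
      let C₁ := C ⊔ O
      have hC₁W : C₁ ≤ W := sup_le (Submodule.map_subtype_le _ _) (hO.trans hDW)
      have hind : Disjoint D₁ C₁ := by
        rw [Submodule.disjoint_def]
        intro y hy hy'
        obtain ⟨y₁, hy₁, y₂, hy₂, rfl⟩ := Submodule.mem_sup.1 hy'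
        have h0 : y₁ = 0 := Submodule.disjoint_def.1 hdisj y₁
          ((D.add_mem_iff_left (hO hy₂)).1 hy.1) hy₁
        subst h0
        rw [zero_add] at hy ⊢
        have h1 : y₂ ∈ Module.End.eigenspace ((f i).restrictScalars k) μ := (hE i μ _).1 hy.2
        have h2 : y₂ ∈ ⨆ (ν) (_ : ν ≠ μ), Module.End.eigenspace ((f i).restrictScalars k) ν := by
          refine Submodule.iSup_induction _ (motive := fun z => z ∈ ⨆ (ν) (_ : ν ≠ μ),
            Module.End.eigenspace ((f i).restrictScalars k) ν) hy₂ (fun ν z hz => ?_)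
            (Submodule.zero_mem _) (fun a b ha hb => Submodule.add_mem _ ha hb)
          exact Submodule.mem_iSup_of_mem ν.1 (Submodule.mem_iSup_of_mem ν.2 ((hE i ν _).1 hz.2))
        exact Submodule.disjoint_def.1
          ((Module.End.eigenspaces_iSupIndep ((f i).restrictScalars k)) μ) y₂ h1 h2
      have hne : ∃ ν, ν ≠ μ ∧ D ⊓ E i ν ≠ ⊥ := by
        by_contra hc'
        push_neg at hc'
        refine hi μ fun y hy => ?_
        obtain ⟨s', d, hd, hdy⟩ := hdec i y hy
        rw [← hdy]
        refine Submodule.sum_mem _ fun ν hν => ?_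
        rcases eq_or_ne ν μ with rfl | hne
        · exact (hd ν hν).1
        · rw [(Submodule.eq_bot_iff _).1 (hc' ν hne) (d ν) ⟨(hd ν hν).2, (hd ν hν).1⟩]
          exact Submodule.zero_mem _
      have hmap : (C₁.comap W.subtype).map W.subtype = C₁ :=
        Submodule.map_comap_eq_of_le (by rwa [Submodule.range_subtype])
      have hlt : C' < C₁.comap W.subtype := by
        refine lt_of_le_of_ne (Submodule.map_le_iff_le_comap.1 le_sup_left) fun h => ?_
        obtain ⟨ν, hν, hνne⟩ := hne
        apply hνne
        rw [eq_bot_iff]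
        intro y hy
        have hyC : y ∈ C := by
          show y ∈ C'.map W.subtype
          rw [h, hmap]
          exact Submodule.mem_sup_right (Submodule.mem_iSup_of_mem (⟨ν, hν⟩ : {ν : k // ν ≠ μ}) hy)
        exact (Submodule.mem_bot R).2 (Submodule.disjoint_def.1 hdisj y hy.1 hyC)
      refine ih _ hlt D₁ (inf_le_left.trans hDW) (fun j y hy => ⟨hDst j y hy.1, ?_⟩)
        (by rwa [hmap]) (c μ) ⟨(hc μ hμ).2, (hc μ hμ).1⟩
      have hy2 : f i y = algebraMap k R μ • y := by simpa [E, sub_eq_zero] using hy.2
      show f j y ∈ E i μ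
      simp only [E, LinearMap.mem_ker, LinearMap.sub_apply, LinearMap.smul_apply,
        LinearMap.id_apply, sub_eq_zero]
      rw [← Module.End.mul_apply, (hcomm i j).eq, Module.End.mul_apply, hy2, map_smul]

end Groth.Agent.S16159
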