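import Groth.Statements.S16160
import Groth.Agent.S16159
import Groth.Agent.Hopf.Comod

set_option autoImplicit false
universe u v w
open scoped TensorProduct
open MadRed

namespace Groth.Agent.S16160

open TensorProduct in
theorem ptAct_one_tmul {k : Type u} [Field k] {A : Type v} [CommRing A] [HopfAlgebra k A]
    {R : Type w} [CommRing R] [Algebra k R] (g : A →ₐ[k] R) (a : A) :
    MadRed.ptAct k A R g (1 ⊗ₜ a) = MadRed.translAux k A R g a := by
  simp [MadRed.ptAct, ← Algebra.TensorProduct.one_def]

open TensorProduct in
theorem ptAct_mul {k : Type u} [Field k] {A : Type v} [CommRing A] [HopfAlgebra k A]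
    {R : Type w} [CommRing R] [Algebra k R] (g h : A →ₐ[k] R) (z : R ⊗[k] A) :
    MadRed.ptAct k A R g (MadRed.ptAct k A R h z) =
      MadRed.ptAct k A R (WithConv.toConv g * WithConv.toConv h).ofConv z := by
  suffices ∀ a : A, MadRed.ptAct k A R g (MadRed.translAux k A R h a) =
      MadRed.translAux k A R (WithConv.toConv g * WithConv.toConv h).ofConv a by
    induction z using TensorProduct.induction_on with
    | zero => simp
    | add x y hx hy => simp only [map_add, hx, hy]
    | tmul r a =>
      rw [show r ⊗ₜ[k] a = r • ((1 : R) ⊗ₜ[k] a) by simp [smul_tmul'], map_smul, map_smul, map_smul,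
        ptAct_one_tmul, ptAct_one_tmul, this]
  intro a
  let F : A ⊗[k] (A ⊗[k] A) →ₗ[k] R ⊗[k] A :=
    (TensorProduct.comm k A R).toLinearMap ∘ₗ
      (LinearMap.mul' k R ∘ₗ TensorProduct.map g.toLinearMap h.toLinearMap).lTensor A
  have hl : ∀ w : A ⊗[k] A, MadRed.ptAct k A R g
      ((Algebra.TensorProduct.map h (AlgHom.id k A)) (Algebra.TensorProduct.comm k A A w)) =
      F (TensorProduct.assoc k A A A ((Coalgebra.comul (R := k) (A := A)).rTensor A w)) := by
    intro w
    induction w using TensorProduct.induction_on with
    | zero => simp
    | add x y hx hy => simp only [map_add, hx, hy]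
    | tmul x y =>
      rw [Algebra.TensorProduct.comm_tmul, Algebra.TensorProduct.map_tmul, AlgHom.id_apply,
        show (h y) ⊗ₜ[k] x = (h y) • ((1 : R) ⊗ₜ[k] x) by simp [smul_tmul'], map_smul,
        ptAct_one_tmul, LinearMap.rTensor_tmul]
      simp only [MadRed.translAux, AlgHom.comp_apply, AlgEquiv.coe_toAlgHom,
        Bialgebra.comulAlgHom_apply]
      generalize Coalgebra.comul (R := k) x = t
      induction t using TensorProduct.induction_on with
      | zero => simp
      | add u v hu hv => simp only [map_add, TensorProduct.add_tmul, smul_add, hu, hv]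
      | tmul u v => simp [F, smul_tmul', mul_comm]
  have hr : ∀ w : A ⊗[k] A,
      (Algebra.TensorProduct.map (WithConv.toConv g * WithConv.toConv h).ofConv (AlgHom.id k A))
        (Algebra.TensorProduct.comm k A A w) =
      F ((Coalgebra.comul (R := k) (A := A)).lTensor A w) := by
    intro w
    induction w using TensorProduct.induction_on with
    | zero => simp
    | add x y hx hy => simp only [map_add, hx, hy]
    | tmul x y =>
      simp only [Algebra.TensorProduct.comm_tmul, Algebra.TensorProduct.map_tmul, AlgHom.id_apply,
        LinearMap.lTensor_tmul, AlgHom.convMul_apply]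
      generalize Coalgebra.comul (R := k) y = t
      induction t using TensorProduct.induction_on with
      | zero => simp
      | add u v hu hv => simp only [map_add, TensorProduct.add_tmul, TensorProduct.tmul_add, hu, hv]
      | tmul u v => simp [F]
  simp only [MadRed.translAux, AlgHom.comp_apply, AlgEquiv.coe_toAlgHom,
    Bialgebra.comulAlgHom_apply]
  rw [hl, hr, Coalgebra.coassoc_apply]

/-- Let k be a field, G = Spec A an affine k-group with A a commutative Hopf algebra over k, and R a
commutative Noetherian k-algebra, so that R ⊗ A is the coordinate ring of the base change G_R and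
the k-algebra maps A → R are its R-valued points. Let H be a set of R-valued points which pairwise
commute for the convolution product of G(R) (the case of an abelian subgroup of G(R)). If every g in
H is diagonalizable over k on R ⊗ A, meaning that the eigenspaces of right translation by g, for
eigenvalues in k, span R ⊗ A, then H is simultaneously diagonalizable over k on R ⊗ A: the common
eigenspaces of the right translations by all g in H span R ⊗ A. The standing assumptions of the
source at this point (k algebraically closed of characteristic zero, G reductive) are not used. -/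
theorem result (k : Type u) [Field k]
    (A : Type v) [CommRing A] [HopfAlgebra k A] (R : Type w) [CommRing R] [Algebra k R]
    [IsNoetherianRing R] (H : Set (A →ₐ[k] R))
    (hcomm : ∀ g ∈ H, ∀ h ∈ H,
      WithConv.toConv g * WithConv.toConv h = WithConv.toConv h * WithConv.toConv g)
    (hdiag : ∀ g ∈ H, ⨆ μ : k,
      Module.End.eigenspace (((MadRed.ptAct k A R g).toLinearMap).restrictScalars k) μ = ⊤) :
    ⨆ χ : H → k, ⨅ g : H,
      Module.End.eigenspace (((MadRed.ptAct k A R g.1).toLinearMap).restrictScalars k) (χ g) = ⊤ := by
  refine Groth.Agent.S16159.result k R (R ⊗[k] A) H (fun g => (MadRed.ptAct k A R g.1).toLinearMap)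
    (fun g h => ?_) (fun g => hdiag g.1 g.2) (fun v => ?_)
  · apply LinearMap.ext
    intro z
    show MadRed.ptAct k A R g.1 (MadRed.ptAct k A R h.1 z) =
      MadRed.ptAct k A R h.1 (MadRed.ptAct k A R g.1 z)
    rw [ptAct_mul, ptAct_mul, hcomm g.1 g.2 h.1 h.2]
  · obtain ⟨S, hS⟩ : ∃ S : Finset A, v ∈ Submodule.span R ((fun a => (1 : R) ⊗ₜ[k] a) '' (S : Set A)) := by
      classical
      induction v using TensorProduct.induction_on with
      | zero => exact ⟨∅, Submodule.zero_mem _⟩
      | tmul r a =>
        refine ⟨{a}, ?_⟩
        rw [Finset.coe_singleton, Set.image_singleton, Submodule.mem_span_singleton]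
        exact ⟨r, by simp [TensorProduct.smul_tmul']⟩
      | add x y hx hy =>
        obtain ⟨S, hS⟩ := hx
        obtain ⟨T, hT⟩ := hy
        refine ⟨S ∪ T, Submodule.add_mem _ (Submodule.span_mono ?_ hS) (Submodule.span_mono ?_ hT)⟩
        · exact Set.image_mono (by simp)
        · exact Set.image_mono (by simp)
    obtain ⟨U, hUf, hSU, hUc⟩ :=
      Groth.ComodLib.exists_finite_subcomod_span (k := k) (A := A) (V := A) S.finite_toSet
    haveI := hUf
    refine ⟨LinearMap.range (U.subtype.baseChange R),
      (Submodule.span_le.2 ?_) hS, Module.Finite.iff_fg.1 (Module.Finite.range _), fun g w hw => ?_⟩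
    · rintro _ ⟨a, ha, rfl⟩
      exact ⟨(1 : R) ⊗ₜ[k] (⟨a, hSU ha⟩ : U), rfl⟩
    · obtain ⟨z, rfl⟩ := hw
      induction z using TensorProduct.induction_on with
      | zero => simp
      | add x y hx hy => simp only [map_add]; exact Submodule.add_mem _ hx hy
      | tmul r u =>
        rw [LinearMap.baseChange_tmul,
          show r ⊗ₜ[k] U.subtype u = r • ((1 : R) ⊗ₜ[k] (u : A)) by simp [TensorProduct.smul_tmul'],
          map_smul]
        refine Submodule.smul_mem _ _ ?_
        rw [AlgHom.toLinearMap_apply, ptAct_one_tmul]
        obtain ⟨t, ht⟩ := hUc u u.2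
        simp only [MadRed.translAux, AlgHom.comp_apply, AlgEquiv.coe_toAlgHom,
          Bialgebra.comulAlgHom_apply]
        rw [show Coalgebra.comul (R := k) (u : A) = U.subtype.rTensor A t from ht.symm]
        clear ht
        induction t using TensorProduct.induction_on with
        | zero => simp
        | add x y hx hy => simp only [map_add]; exact Submodule.add_mem _ hx hy
        | tmul x a => exact ⟨g.1 a ⊗ₜ[k] x, by simp⟩

end Groth.Agent.S16160
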