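import Groth.Statements.S16161
import Mathlib

set_option autoImplicit false
universe u v
open MadRed

namespace Groth.Agent.S16161

/-- Let k be an algebraically closed field of characteristic zero and R a reduced finitely generated
commutative k-algebra whose spectrum is connected (R has no idempotents besides 0 and 1); let W =
R^n be a free R-module of finite rank and g an R-linear endomorphism of W of finite order, g^m = 1
with m > 0 (an element of finite order of GL(W)(R)). Then the action of g on W is diagonalizable
over k: viewing g as a k-linear map, its eigenspaces for eigenvalues in k span W. The source also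
assumes that g is diagonalizable over k on every fibre W ⊗ k(x), x a point of Spec R; for g of
finite order this holds automatically (k is algebraically closed of characteristic zero), as the
source itself notes, so that hypothesis is omitted. -/
theorem result
    (k : Type u) [Field k] [IsAlgClosed k] [CharZero k]
    (R : Type v) [CommRing R] [Algebra k R] [IsReduced R] [Algebra.FiniteType k R]
    (hconn : ∀ e : R, IsIdempotentElem e → e = 0 ∨ e = 1)
    (n : ℕ) (g : Module.End R (Fin n → R)) (m : ℕ) (hm : 0 < m) (hg : g ^ m = 1) :
    ⨆ μ : k, Module.End.eigenspace (g.restrictScalars k) μ = ⊤ := by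

  classical
  let f : Module.End k (Fin n → R) := g.restrictScalars k
  have hf : f ^ m = 1 := by
    refine LinearMap.ext fun v => ?_
    have e : ∀ j : ℕ, (f ^ j) v = (g ^ j) v := by
      intro j
      induction j generalizing v with
      | zero => rfl
      | succ j ih => rw [pow_succ, pow_succ, Module.End.mul_apply, Module.End.mul_apply, ih]; rfl
    rw [e, hg]; rfl
  have key : ∀ s : Finset k, LinearMap.ker (Polynomial.aeval f (∏ μ ∈ s, (Polynomial.X - Polynomial.C μ))) ≤
      ⨆ μ : k, Module.End.eigenspace f μ := by
    intro s
    induction s using Finset.induction_on with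
    | empty =>
      intro v hv
      rw [Finset.prod_empty, map_one, LinearMap.mem_ker, Module.End.one_apply] at hv
      rw [hv]; exact zero_mem _
    | insert μ s hμ ih =>
      rw [Finset.prod_insert hμ, ← Polynomial.sup_ker_aeval_eq_ker_aeval_mul_of_coprime]
      · refine sup_le ?_ ih
        refine le_trans (le_of_eq ?_) (le_iSup _ μ)
        rw [Module.End.eigenspace_def, map_sub, Polynomial.aeval_X, Polynomial.aeval_C]
        rfl
      · exact IsCoprime.prod_right fun ν hν => Polynomial.isCoprime_X_sub_C_of_isUnit_sub
          (isUnit_iff_ne_zero.2 (sub_ne_zero.2 fun h => hμ (h ▸ hν)))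
  have hp : (Polynomial.X ^ m - Polynomial.C (1 : k)).Separable :=
    Polynomial.separable_X_pow_sub_C 1 (Nat.cast_ne_zero.2 hm.ne') one_ne_zero
  have hprod : Polynomial.X ^ m - Polynomial.C (1 : k) =
      ∏ μ ∈ (Polynomial.X ^ m - Polynomial.C (1 : k)).roots.toFinset, (Polynomial.X - Polynomial.C μ) := by
    conv_lhs => rw [(IsAlgClosed.splits _).eq_prod_roots_of_monic (Polynomial.monic_X_pow_sub_C 1 hm.ne')]
    rw [Finset.prod_eq_multiset_prod, Multiset.toFinset_val,
      Multiset.dedup_eq_self.2 (Polynomial.nodup_roots hp)]
  refine eq_top_iff.2 fun v _ => key (Polynomial.X ^ m - Polynomial.C (1 : k)).roots.toFinset ?_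
  rw [← hprod, LinearMap.mem_ker, map_sub, map_pow, Polynomial.aeval_X, map_one, map_one, hf, sub_self]
  rfl

end Groth.Agent.S16161
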