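import Groth.Statements.S16162
import Mathlib

set_option autoImplicit false
open CategoryTheory MonoidalCategory CartesianMonoidalCategory MonObj GrpObj AlgebraicGeometry
universe u
open MadRed

namespace Groth.Agent.S16162

/-- Let S be a scheme, G a group scheme over S, and X an S-scheme with an action of G making X → S a
principal G-bundle (a torsor in the representable fppf sense: X → S surjective, flat and locally of
finite presentation, and G ×_S X → X ×_S X, (g, x) ↦ (g·x, x), an isomorphism). Let P be a closed
subset of X stable under the action: the action map sends into P every point of G ×_S X whose second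
projection lies in P. Then the image of P in S is closed, and P is the full preimage of its image.
(The source works with varieties over the complex numbers and an affine algebraic group; the
assertion holds over any base. Its second assertion, that P → image is again a principal bundle for
the induced reduced structures, then comes from base change and is not part of this row.) -/
theorem result {S : Scheme.{u}}
    {G X : Over S} [GrpObj G] (a : AlgGrp.Action G X) (ha : RedSub.IsTorsor a)
    (P : Set X.left) (hP : IsClosed P)
    (hstab : ∀ w : (G ⊗ X).left, (snd G X).left.base w ∈ P → a.act.left.base w ∈ P) :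
    IsClosed (X.hom.base '' P) ∧ X.hom.base ⁻¹' (X.hom.base '' P) = P := by

  obtain ⟨hsurj, hflat, hlfp, hiso⟩ := ha
  have hsat : ∀ x y : X.left, X.hom.base x = X.hom.base y → x ∈ P → y ∈ P := by
    intro x y h hx
    obtain ⟨z, hz1, hz2⟩ := Scheme.Pullback.exists_preimage_pullback (f := X.hom) (g := X.hom) y x h.symm
    let e := CategoryTheory.inv (lift a.act (snd G X))
    have h1 : e.left ≫ a.act.left = (fst X X).left := by
      rw [← Over.comp_left]; congr 1
      simp only [e, IsIso.inv_comp_eq, lift_fst]
    have h2 : e.left ≫ (snd G X).left = (snd X X).left := by
      rw [← Over.comp_left]; congr 1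
      simp only [e, IsIso.inv_comp_eq, lift_snd]
    have h3 := hstab (e.left.base z) ?_
    · have h4 : (fst X X).left.base z = y := hz1
      have h5 : a.act.left.base (e.left.base z) = (fst X X).left.base z := by rw [← h1]; rfl
      rw [h5, h4] at h3
      exact h3
    · have h4 : (snd X X).left.base z = x := hz2
      have h5 : (snd G X).left.base (e.left.base z) = (snd X X).left.base z := by rw [← h2]; rfl
      rw [h5, h4]
      exact hx
  have hpre : X.hom.base ⁻¹' (X.hom.base '' P) = P :=
    Set.Subset.antisymm (fun y ⟨x, hx, h⟩ => hsat x y h hx) (Set.subset_preimage_image _ _)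
  refine ⟨?_, hpre⟩
  have heq : (X.hom.base '' P) = (X.hom.base '' Pᶜ)ᶜ := by
    ext s
    constructor
    · rintro ⟨x, hx, rfl⟩ ⟨y, hy, hxy⟩
      exact hy (hsat x y hxy.symm hx)
    · intro hs
      obtain ⟨x, rfl⟩ := X.hom.surjective s
      refine ⟨x, ?_, rfl⟩
      by_contra hx
      exact hs ⟨x, hx, rfl⟩
  rw [heq]
  exact (X.hom.isOpenMap _ hP.isOpen_compl).isClosed_compl

end Groth.Agent.S16162
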