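import Groth.Statements.S16170
import Mathlib.Tactic


set_option autoImplicit false
open Neron

namespace Groth.Agent.S16170

/-- Let M and N be symmetric positive-semidefinite integer matrices on the same finite index set whose
sum M + N is positive definite, and let χ₁, χ₂ be integer matrices with χ₁ + χ₂ = 1 and M χ₂ = N χ₁.
Then χ₁ and χ₂ are idempotent. (In the intended application M = Pᵀ Ψ₁ P and N = Qᵀ Ψ₂ Q for
surjective integer matrices P, Q and positive-definite Ψ₁, Ψ₂.) -/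
theorem result
    {ι : Type} [Fintype ι] [DecidableEq ι]
    (M N χ₁ χ₂ : Matrix ι ι ℤ) (hM : M.IsSymm) (hN : N.IsSymm)
    (hMpos : ∀ v : ι → ℤ, 0 ≤ v ⬝ᵥ M.mulVec v) (hNpos : ∀ v : ι → ℤ, 0 ≤ v ⬝ᵥ N.mulVec v)
    (hpos : ∀ v : ι → ℤ, v ≠ 0 → 0 < v ⬝ᵥ (M + N).mulVec v)
    (hsum : χ₁ + χ₂ = 1) (hrel : M * χ₂ = N * χ₁) :
    χ₁ * χ₁ = χ₁ ∧ χ₂ * χ₂ = χ₂ := by
  set S := M + N with hS
  have h2 : χ₂ = 1 - χ₁ := eq_sub_of_add_eq' hsum
  have h1 : χ₁ = 1 - χ₂ := eq_sub_of_add_eq hsum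
  have hM' : M = S * χ₁ := by
    have h := hrel; rw [h2, mul_sub, mul_one, sub_eq_iff_eq_add] at h
    rw [hS, add_mul]; exact h.trans (add_comm _ _)
  have hN' : N = S * χ₂ := by
    rw [h2, mul_sub, mul_one, ← hM', hS, add_sub_cancel_left]
  have hSt : S.transpose = S := by rw [hS, Matrix.transpose_add, hM.eq, hN.eq]
  have a1 : χ₁.transpose * S = S * χ₁ := by
    have := congrArg Matrix.transpose hM'
    rw [Matrix.transpose_mul, hM.eq, hSt] at this
    rw [← this, ← hM']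
  have a2 : χ₂.transpose * S = S * χ₂ := by
    rw [h2, Matrix.transpose_sub, Matrix.transpose_one, sub_mul, one_mul, a1, mul_sub, mul_one]
  have hc : χ₁ * χ₂ = χ₂ * χ₁ := by rw [h2]; simp [mul_sub, sub_mul]
  let b : (ι → ℤ) → (ι → ℤ) → ℤ := fun u v => u ⬝ᵥ S.mulVec v
  let T := χ₁ * χ₂
  have badd : ∀ x y z, b (x + y) z = b x z + b y z ∧ b z (x + y) = b z x + b z y := fun x y z =>
    ⟨add_dotProduct _ _ _, by simp [b, Matrix.mulVec_add, dotProduct_add]⟩
  have bsymm : ∀ x y, b x y = b y x := fun x y => by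
    show x ⬝ᵥ S.mulVec y = y ⬝ᵥ S.mulVec x
    rw [Matrix.dotProduct_mulVec, ← Matrix.mulVec_transpose, hSt, dotProduct_comm]
  have badj : ∀ (χ : Matrix ι ι ℤ), χ.transpose * S = S * χ → ∀ x y, b (χ.mulVec x) y = b x (χ.mulVec y) := by
    intro χ hχ x y
    show χ.mulVec x ⬝ᵥ S.mulVec y = x ⬝ᵥ S.mulVec (χ.mulVec y)
    rw [Matrix.mulVec_mulVec, ← hχ, ← Matrix.mulVec_mulVec, Matrix.dotProduct_mulVec x χ.transpose,
      Matrix.vecMul_transpose]
  have bnn : ∀ x, 0 ≤ b x x := fun x => by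
    have : b x x = x ⬝ᵥ M.mulVec x + x ⬝ᵥ N.mulVec x := by
      simp [b, hS, Matrix.add_mulVec, dotProduct_add]
    rw [this]; exact add_nonneg (hMpos x) (hNpos x)
  have key : ∀ (χ P : Matrix ι ι ℤ), P = S * χ → χ.transpose * S = S * χ →
      (∀ v, 0 ≤ v ⬝ᵥ P.mulVec v) → (∀ v, v ⬝ᵥ P.mulVec v ≤ b v v) →
      ∀ v, b (χ.mulVec v) (χ.mulVec v) ≤ b v (χ.mulVec v) := by
    intro χ P hP hχ hPpos hPle v
    set w := χ.mulVec v with hw
    have e1 : ∀ x y, x ⬝ᵥ P.mulVec y = b x (χ.mulVec y) := fun x y => by simp [b, hP, Matrix.mulVec_mulVec]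
    have hww : b w w = w ⬝ᵥ P.mulVec v := by rw [e1]
    have hsym : v ⬝ᵥ P.mulVec w = w ⬝ᵥ P.mulVec v := by
      rw [e1, e1, ← badj χ hχ]
    have h := hPpos (w - v)
    simp only [Matrix.mulVec_sub, dotProduct_sub, sub_dotProduct, hsym] at h
    have h' := hPle w
    have : b v w = v ⬝ᵥ P.mulVec v := (e1 v v).symm
    linarith
  have dec : ∀ x, b x x = x ⬝ᵥ M.mulVec x + x ⬝ᵥ N.mulVec x := fun x => by
    simp [b, hS, Matrix.add_mulVec, dotProduct_add]
  have k1 := key χ₁ M hM' a1 hMpos (fun v => by rw [dec]; linarith [hNpos v])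
  have k2 := key χ₂ N hN' a2 hNpos (fun v => by rw [dec]; linarith [hMpos v])
  have hT : ∀ v, 8 * b (T.mulVec v) (T.mulVec v) ≤ b v v := by
    intro v
    have e1 : T.mulVec v = χ₁.mulVec (χ₂.mulVec v) := (Matrix.mulVec_mulVec _ _ _).symm
    have e2 : T.mulVec v = χ₂.mulVec (χ₁.mulVec v) := by
      rw [Matrix.mulVec_mulVec, ← hc]
    have q1 : b (T.mulVec v) (T.mulVec v) ≤ b (χ₂.mulVec v) (T.mulVec v) := by
      rw [e1]; exact k1 _
    have q2 : b (T.mulVec v) (T.mulVec v) ≤ b (χ₁.mulVec v) (T.mulVec v) := by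
      rw [e2]; exact k2 _
    have hv : χ₁.mulVec v + χ₂.mulVec v = v := by rw [← Matrix.add_mulVec, hsum, Matrix.one_mulVec]
    have q3 : b (χ₁.mulVec v) (T.mulVec v) + b (χ₂.mulVec v) (T.mulVec v) = b v (T.mulVec v) := by
      rw [← (badd _ _ _).1, hv]
    have q4 : b (χ₁.mulVec v) (χ₂.mulVec v) = b v (T.mulVec v) := by rw [badj χ₁ a1, e1]
    have q5 := bnn (χ₁.mulVec v - χ₂.mulVec v)
    have q6 : b v v = b (χ₁.mulVec v) (χ₁.mulVec v) + 2 * b (χ₁.mulVec v) (χ₂.mulVec v)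
        + b (χ₂.mulVec v) (χ₂.mulVec v) := by
      conv_lhs => rw [← hv, (badd _ _ _).1, (badd _ _ _).2, (badd _ _ _).2, bsymm (χ₂.mulVec v) (χ₁.mulVec v)]
      ring
    have q7 : b (χ₁.mulVec v - χ₂.mulVec v) (χ₁.mulVec v - χ₂.mulVec v) =
        b (χ₁.mulVec v) (χ₁.mulVec v) - 2 * b (χ₁.mulVec v) (χ₂.mulVec v) + b (χ₂.mulVec v) (χ₂.mulVec v) := by
      have := bsymm (χ₂.mulVec v) (χ₁.mulVec v)
      simp only [b, Matrix.mulVec_sub, dotProduct_sub, sub_dotProduct] at this ⊢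
      linarith
    linarith
  have hTT : T.transpose * S = S * T := by
    show (χ₁ * χ₂).transpose * S = S * (χ₁ * χ₂)
    rw [Matrix.transpose_mul, mul_assoc, a1, ← mul_assoc, a2, mul_assoc, hc]
  have hT0 : ∀ n : ℕ, ∀ v, (b v v).toNat = n → T.mulVec v = 0 := by
    intro n
    induction n using Nat.strong_induction_on with
    | _ n ih =>
      intro v hv
      by_contra hne
      have hp : 0 < b (T.mulVec v) (T.mulVec v) := hpos _ hne
      have := ih (b (T.mulVec v) (T.mulVec v)).toNat (by have := hT v; omega) _ rfl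
      have h0 : b (T.mulVec v) (T.mulVec v) = 0 := by
        rw [badj T hTT, this]; simp [b]
      omega
  have : T = 0 := Matrix.ext_of_mulVec_single fun i => by
    rw [hT0 _ _ rfl]; simp [funext_iff]
  constructor
  · have : χ₁ * (1 - χ₁) = 0 := by rw [← h2]; exact this
    rw [mul_sub, mul_one, sub_eq_zero] at this; exact this.symm
  · have : (1 - χ₂) * χ₂ = 0 := by rw [← h1]; exact this
    rw [sub_mul, one_mul, sub_eq_zero] at this; exact this.symm

end Groth.Agent.S16170
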