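import Groth.Statements.S16164
import Groth.Agent.S16170
import Mathlib.Tactic


set_option autoImplicit false
open Neron

namespace Groth.Agent.S16164

/-- Let X, Y₁, Y₂ be finitely generated free abelian groups with chosen bases, so that homomorphisms are
integer matrices acting on column vectors and each group is identified with its dual; let P : X → Y₁
and Q : X → Y₂ be surjective with A = (P over Q) : X → Y₁ ⊕ Y₂ injective, and let Ψ₁, Ψ₂ be
symmetric positive-definite integer matrices on Y₁ and Y₂, Ψ their block-diagonal sum. If the image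
of Aᵀ Ψ : Y₁ ⊕ Y₂ → X coincides with the image of Aᵀ Ψ A : X → X (the reverse inclusion always
holds), then A is bijective. (In the source X, Y₁, Y₂ are character groups of maximal tori, P and Q
specialization maps, Ψ₁ and Ψ₂ monodromy pairings, and the hypothesis expresses that two groups of
components coincide.) -/
theorem result
    {ι κ₁ κ₂ : Type} [Fintype ι] [Fintype κ₁] [Fintype κ₂]
    (P : Matrix κ₁ ι ℤ) (Q : Matrix κ₂ ι ℤ)
    (hP : Function.Surjective P.mulVec) (hQ : Function.Surjective Q.mulVec)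
    (hA : Function.Injective (Matrix.fromRows P Q).mulVec)
    (Ψ₁ : Matrix κ₁ κ₁ ℤ) (Ψ₂ : Matrix κ₂ κ₂ ℤ) (hΨ₁ : Ψ₁.IsSymm) (hΨ₂ : Ψ₂.IsSymm)
    (hΨ₁pos : ∀ y : κ₁ → ℤ, y ≠ 0 → 0 < y ⬝ᵥ Ψ₁.mulVec y)
    (hΨ₂pos : ∀ y : κ₂ → ℤ, y ≠ 0 → 0 < y ⬝ᵥ Ψ₂.mulVec y)
    (himage : LinearMap.range ((Matrix.fromRows P Q).transpose * Matrix.fromBlocks Ψ₁ 0 0 Ψ₂).mulVecLin =
      LinearMap.range ((Matrix.fromRows P Q).transpose * Matrix.fromBlocks Ψ₁ 0 0 Ψ₂ * Matrix.fromRows P Q).mulVecLin) :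
    Function.Bijective (Matrix.fromRows P Q).mulVec := by
  classical
  set A := Matrix.fromRows P Q with hAdef
  set Ψ := Matrix.fromBlocks Ψ₁ 0 0 Ψ₂ with hΨ
  let M := P.transpose * Ψ₁ * P
  let N := Q.transpose * Ψ₂ * Q
  have quad : ∀ {κ : Type} [Fintype κ] (B : Matrix κ ι ℤ) (Φ : Matrix κ κ ℤ) (v : ι → ℤ),
      v ⬝ᵥ (B.transpose * Φ * B).mulVec v = B.mulVec v ⬝ᵥ Φ.mulVec (B.mulVec v) := by
    intro κ _ B Φ v
    rw [← Matrix.mulVec_mulVec, ← Matrix.mulVec_mulVec, Matrix.dotProduct_mulVec, Matrix.vecMul_transpose]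
  have kerp : ∀ {κ : Type} [Fintype κ] (B : Matrix κ ι ℤ) (Φ : Matrix κ κ ℤ) (v : ι → ℤ),
      (∀ y : κ → ℤ, y ≠ 0 → 0 < y ⬝ᵥ Φ.mulVec y) → (B.transpose * Φ * B).mulVec v = 0 → B.mulVec v = 0 := by
    intro κ _ B Φ v hp h
    by_contra hne
    have := hp _ hne
    rw [← quad, h, dotProduct_zero] at this
    exact lt_irrefl _ this
  have hG : A.transpose * Ψ * A = M + N := by
    rw [hAdef, hΨ, Matrix.transpose_fromRows, Matrix.fromCols_mul_fromBlocks, Matrix.fromCols_mul_fromRows]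
    simp [M, N]
  have hcol : ∀ i : ι, ∃ c : ι → ℤ, (M + N).mulVec c = M.mulVec (Pi.single i 1) := by
    intro i
    have : M.mulVec (Pi.single i 1) ∈ LinearMap.range (A.transpose * Ψ).mulVecLin := by
      refine ⟨Sum.elim (P.mulVec (Pi.single i 1)) 0, ?_⟩
      rw [Matrix.mulVecLin_apply, hAdef, hΨ, Matrix.transpose_fromRows, Matrix.fromCols_mul_fromBlocks,
        Matrix.fromCols_mulVec_sumElim]
      rw [Matrix.mulVec_mulVec]; simp [M]
    rw [himage] at this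
    obtain ⟨c, hc⟩ := this
    exact ⟨c, by rw [← hG]; exact hc⟩
  choose c hc using hcol
  let χ₁ : Matrix ι ι ℤ := Matrix.of fun a b => c b a
  have hMχ : (M + N) * χ₁ = M := Matrix.ext_of_mulVec_single fun i => by
    rw [← Matrix.mulVec_mulVec, ← hc i]
    congr 1
    ext a; simp [χ₁]
  have hsym : ∀ {κ : Type} [Fintype κ] (B : Matrix κ ι ℤ) (Φ : Matrix κ κ ℤ), Φ.IsSymm →
      (B.transpose * Φ * B).IsSymm := fun B Φ h => by
    simp [Matrix.IsSymm, Matrix.transpose_mul, h.eq, Matrix.mul_assoc]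
  have hnn : ∀ {κ : Type} [Fintype κ] (B : Matrix κ ι ℤ) (Φ : Matrix κ κ ℤ),
      (∀ y : κ → ℤ, y ≠ 0 → 0 < y ⬝ᵥ Φ.mulVec y) → ∀ v : ι → ℤ, 0 ≤ v ⬝ᵥ (B.transpose * Φ * B).mulVec v := by
    intro κ _ B Φ hp v
    rw [quad]
    rcases eq_or_ne (B.mulVec v) 0 with h | h
    · simp [h]
    · exact (hp _ h).le
  have hpos : ∀ v : ι → ℤ, v ≠ 0 → 0 < v ⬝ᵥ (M + N).mulVec v := by
    intro v hv
    have hne : P.mulVec v ≠ 0 ∨ Q.mulVec v ≠ 0 := by
      by_contra h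
      push Not at h
      refine hv (hA ?_)
      rw [Matrix.fromRows_mulVec, h.1, h.2, Matrix.mulVec_zero]
      ext (i | i) <;> rfl
    rw [Matrix.add_mulVec, dotProduct_add]
    rcases hne with h | h
    · have : 0 < v ⬝ᵥ M.mulVec v := by rw [quad]; exact hΨ₁pos _ h
      linarith [hnn Q Ψ₂ hΨ₂pos v]
    · have : 0 < v ⬝ᵥ N.mulVec v := by rw [quad]; exact hΨ₂pos _ h
      linarith [hnn P Ψ₁ hΨ₁pos v]
  have hrel : M * (1 - χ₁) = N * χ₁ := by
    rw [Matrix.mul_sub, Matrix.mul_one, sub_eq_iff_eq_add, add_comm, ← Matrix.add_mul, hMχ]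
  obtain ⟨h1, -⟩ := Groth.Agent.S16170.result M N χ₁ (1 - χ₁) (hsym P Ψ₁ hΨ₁) (hsym Q Ψ₂ hΨ₂)
    (hnn P Ψ₁ hΨ₁pos) (hnn Q Ψ₂ hΨ₂pos) hpos (by simp) hrel
  have hM1 : M * χ₁ = M := by
    conv_lhs => rw [← hMχ, Matrix.mul_assoc, h1, hMχ]
  have hN1 : N * χ₁ = 0 := by rw [← hrel, Matrix.mul_sub, Matrix.mul_one, hM1, sub_self]
  refine ⟨hA, fun y => ?_⟩
  obtain ⟨a, ha⟩ := hP (y ∘ Sum.inl)
  obtain ⟨b, hb⟩ := hQ (y ∘ Sum.inr)
  refine ⟨χ₁.mulVec a + (1 - χ₁).mulVec b, ?_⟩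
  have e1 : Q.mulVec (χ₁.mulVec a) = 0 := kerp Q Ψ₂ _ hΨ₂pos (by
    show N.mulVec _ = 0
    rw [Matrix.mulVec_mulVec, hN1, Matrix.zero_mulVec])
  have e2 : P.mulVec (χ₁.mulVec a) = P.mulVec a := by
    have h : P.mulVec (a - χ₁.mulVec a) = 0 := kerp P Ψ₁ _ hΨ₁pos (by
      show M.mulVec _ = 0
      rw [Matrix.mulVec_sub, Matrix.mulVec_mulVec, hM1, sub_self])
    rw [Matrix.mulVec_sub, sub_eq_zero] at h; exact h.symm
  have e3 : P.mulVec ((1 - χ₁).mulVec b) = 0 := kerp P Ψ₁ _ hΨ₁pos (by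
    show M.mulVec _ = 0
    rw [Matrix.mulVec_mulVec, hrel, hN1, Matrix.zero_mulVec])
  have e4 : Q.mulVec ((1 - χ₁).mulVec b) = Q.mulVec b := by
    have h : Q.mulVec (χ₁.mulVec b) = 0 := kerp Q Ψ₂ _ hΨ₂pos (by
      show N.mulVec _ = 0
      rw [Matrix.mulVec_mulVec, hN1, Matrix.zero_mulVec])
    rw [Matrix.sub_mulVec, Matrix.one_mulVec, Matrix.mulVec_sub, h, sub_zero]
  show A.mulVec _ = y
  rw [hAdef, Matrix.fromRows_mulVec, Matrix.mulVec_add, Matrix.mulVec_add, e1, e2, e3, e4, add_zero, zero_add, ha, hb]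
  exact Sum.elim_comp_inl_inr y

end Groth.Agent.S16164
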