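import Groth.Statements.S16172
import Groth.Agent.Misc15.SemilocInj.GenMain
import Groth.Agent.Misc15.SemilocInj.ValEtale
import Groth.Agent.Misc15.SemilocInj.ValDiv
import Groth.Agent.Misc15.SemilocInj.FpqcCover

set_option autoImplicit false
universe u
open CategoryTheory MonoidalCategory CartesianMonoidalCategory MonObj GrpObj AlgebraicGeometry
open NonAbH1

namespace Groth.Agent.S16172

/-- Let V be a valuation ring with fraction field K and M a V-group scheme of multiplicative type and of
finite type. Then H¹_fpqc(V, M) → H¹_fpqc(K, M) is injective: the base-change map along Spec K →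
Spec V on classes of fpqc torsors (schemes with an M-action) is injective. In particular (the case
of a V-torus, where fpqc torsors are the same as etale ones) a torsor under a V-torus that is
trivial over K is trivial. (The published statement does not assume M of finite type; the proof uses
it: the isotriviality of M and the reduction to valuation rings of finite rank need it.) -/
theorem result (V : Type u) [CommRing V]
    [IsDomain V] [ValuationRing V] (M : Over (Spec (CommRingCat.of V))) [GrpObj M] (hM : SGA3x.IsMultTypeFT M) :
    Function.Injective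
      (NonAbH1.H1Sch.bcMap (Spec.map (CommRingCat.ofHom (algebraMap V (FractionRing V)))) M Scheme.fpqcPrecoverage) := by
  classical
  obtain ⟨haff, -⟩ := Groth.Misc15.SemilocInj.exists_ff_triv hM
  haveI := haff
  haveI : IsAffine M.left := isAffine_of_isAffineHom M.hom
  obtain ⟨E, _, _, _, _, _, _, hetale, hfin, τ, hfg⟩ := Groth.Misc15.SemilocInj.exists_valSplit hM
  haveI := hetale
  haveI := hfin
  haveI := hfg
  haveI : IsFractionRing (integralClosure V E) E :=
    integralClosure.isFractionRing_of_finite_extension (FractionRing V) E
  haveI : FaithfulSMul V (integralClosure V E) := (faithfulSMul_iff_algebraMap_injective V _).2 fun p q h => by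
    refine IsFractionRing.injective V (FractionRing V) ((algebraMap (FractionRing V) E).injective ?_)
    rw [← IsScalarTower.algebraMap_apply, ← IsScalarTower.algebraMap_apply]
    exact congrArg Subtype.val h
  haveI : Algebra.IsIntegral V (integralClosure V E) := Algebra.IsIntegral.of_finite V _
  haveI : Module.FaithfullyFlat V (integralClosure V E) := Module.FaithfullyFlat.of_comap_surjective fun p => by
    obtain ⟨Q, -, hQ, hQp⟩ := Ideal.exists_ideal_over_prime_of_isIntegral p.asIdeal (⊥ : Ideal (integralClosure V E))
      (by rw [Ideal.comap_bot_of_injective _ (FaithfulSMul.algebraMap_injective V _)]; exact bot_le)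
    exact ⟨⟨Q, hQ⟩, PrimeSpectrum.ext hQp⟩
  have hfrac : ∀ x : E, ∃ s b : integralClosure V E, s ≠ 0 ∧ x * s = b := fun x => by
    obtain ⟨b, s, hs, h⟩ := IsFractionRing.div_surjective (A := integralClosure V E) x
    refine ⟨s, b, nonZeroDivisors.ne_zero hs, ?_⟩
    rw [← h]
    exact div_mul_cancel₀ _ (fun e => nonZeroDivisors.ne_zero hs (Subtype.ext e))
  intro p q h
  induction p using Quot.ind with | _ P => ?_
  induction q using Quot.ind with | _ Q => ?_
  obtain ⟨e⟩ := Groth.Misc15.SemilocInj.nonempty_equivIso_of_eqvGen (Quot.eqvGen_exact h)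
  obtain ⟨C, _, _, _, hsurj, ⟨z₁, hz₁⟩, ⟨z₂, hz₂⟩⟩ :=
    Groth.Misc15.SemilocInj.exists_cover_fpqc P.isTorsor.2 Q.isTorsor.2
  haveI : Module.FaithfullyFlat V C := Module.FaithfullyFlat.of_comap_surjective hsurj.surj
  refine Quot.sound (Groth.Misc15.SemilocInj.nonempty_equivIso_of_div (integralClosure V E) τ
    P.isTorsor.1 Q.isTorsor.1 (fun ρ hρ hval θ c hθ hc =>
      Groth.Misc15.SemilocInj.exists_equivariant_div_val hfrac ρ hρ (fun g x hx => IsIntegral.map (ρ g) hx)
        (fun g k => (hval g _).trans (g.commutes k)) θ c hθ hc)
    (Over.homMk z₁ hz₁) (Over.homMk z₂ hz₂) e)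

end Groth.Agent.S16172
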