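import Groth.Statements.S16174
import Groth.Agent.HensPair.Basic
import Groth.Agent.Hensel1.Local

set_option autoImplicit false
universe u
open Hensel

namespace Groth.Agent.S16174

/-- Let V be a Henselian valuation ring and p a prime ideal of V. Then the local rings V_p (localisation
at p) and V/p are Henselian. (Both are again valuation rings, which is elementary and not restated.) -/
theorem result (V : Type u) [CommRing V]
    [IsDomain V] [ValuationRing V] [HenselianLocalRing V] (p : Ideal V) [p.IsPrime] :
    HenselianLocalRing (Localization.AtPrime p) ∧ HenselianLocalRing (V ⧸ p) := by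
  have : Nontrivial (V ⧸ p) := Ideal.Quotient.nontrivial_iff.2 ‹p.IsPrime›.ne_top
  refine ⟨?_, Groth.HensPair.henselianLocalRing_quotient p ‹p.IsPrime›.ne_top⟩
  set L := Localization.AtPrime p
  have hlift : ∀ x ∈ IsLocalRing.maximalIdeal L, ∃ y ∈ p, algebraMap V L y = x := by
    intro x hx
    obtain ⟨a, s, rfl⟩ := IsLocalization.exists_mk'_eq p.primeCompl x
    have ha : a ∈ p := (IsLocalization.AtPrime.mk'_mem_maximal_iff L p a s).1 hx
    rcases ValuationRing.dvd_total (s : V) a with ⟨y, rfl⟩ | ⟨y, hy⟩
    · exact ⟨y, (‹p.IsPrime›.mem_or_mem ha).resolve_left s.2,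
        (IsLocalization.eq_mk'_iff_mul_eq.2 (by rw [← map_mul, mul_comm])).symm.symm⟩
    · exact absurd (hy ▸ p.mul_mem_right y ha) s.2
  have hV := Groth.Hensel1.gabber_of_henselianRing (I := IsLocalRing.maximalIdeal V)
  have : HenselianRing L (IsLocalRing.maximalIdeal L) := Groth.Hensel1.henselianRing_iff_gabber.2
    { jac := IsLocalRing.maximalIdeal_le_jacobson ⊥
      root := fun n hn q hq hqI => by
        choose y hy hyq using fun i => hlift _ (hqI i)
        let r : Polynomial V := ∑ i ∈ Finset.range (n + 1), Polynomial.C (y i) * Polynomial.X ^ i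
        have hrq : r.map (algebraMap V L) = q := by
          simp only [r, Polynomial.map_sum, Polynomial.map_mul, Polynomial.map_C, Polynomial.map_pow,
            Polynomial.map_X, hyq]
          exact (q.as_sum_range_C_mul_X_pow' (by omega)).symm
        have hrp : ∀ i, r.coeff i ∈ p := fun i => by
          rw [Polynomial.finsetSum_coeff]
          exact sum_mem fun j _ => by
            rw [Polynomial.coeff_C_mul]
            exact p.mul_mem_right _ (hy j)
        have hrd : r.natDegree ≤ n := Polynomial.natDegree_sum_le_of_forall_le _ _ fun i hi =>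
          (Polynomial.natDegree_C_mul_X_pow_le _ _).trans (by rw [Finset.mem_range] at hi; omega)
        obtain ⟨α, hα, hroot⟩ := hV.root n hn r hrd fun i =>
          IsLocalRing.le_maximalIdeal ‹p.IsPrime›.ne_top (hrp i)
        refine ⟨algebraMap V L α, ?_, ?_⟩
        · have h1 : α ^ n * (α - 1) ∈ p := by
            have := hroot
            simp only [Polynomial.IsRoot.def, Polynomial.eval_add, Polynomial.eval_mul,
              Polynomial.eval_pow, Polynomial.eval_X, Polynomial.eval_sub, Polynomial.eval_one] at this
            rw [eq_neg_of_add_eq_zero_left this]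
            exact p.neg_mem (Groth.Hensel1.eval_mem_of_coeff_mem hrp α)
          have h2 : α ∉ p := fun h => ‹p.IsPrime›.ne_top <| (Ideal.eq_top_iff_one _).2 <| by
            exact Ideal.eq_top_of_isUnit_mem p h (Groth.Hensel1.isUnit_of_sub_one_mem
              (IsLocalRing.maximalIdeal_le_jacobson ⊥) hα) ▸ Submodule.mem_top
          rw [← map_one (algebraMap V L), ← map_sub]
          exact (IsLocalization.AtPrime.to_map_mem_maximal_iff L p _).2
            ((‹p.IsPrime›.mem_or_mem h1).resolve_left fun h => h2 (‹p.IsPrime›.mem_of_pow_mem n h))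
        · have := hroot.map (f := algebraMap V L)
          simpa [hrq] using this }
  exact Groth.Hensel1.henselianLocalRing_of_henselianRing

end Groth.Agent.S16174
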