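import Groth.Statements.S9157
import Mathlib

set_option autoImplicit false
universe u
open CAlg

namespace Groth.Agent.S9157

/-- If the localization S⁻¹M of an R-module M is finitely presented over S⁻¹R, then some finitely
presented R-module M' maps to M inducing an isomorphism S⁻¹M' → S⁻¹M. -/
theorem result (R : Type u) [CommRing R] (S : Submonoid R)
    (M : Type u) [AddCommGroup M] [Module R M]
    [Module.FinitePresentation (Localization S) (LocalizedModule S M)] :
    ∃ (M' : Type u) (_ : AddCommGroup M') (_ : Module R M') (φ : M' →ₗ[R] M),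
      Module.FinitePresentation R M' ∧ Function.Bijective (LocalizedModule.map S φ) := by
  classical
  let T := Localization S
  let ι := LocalizedModule.mkLinearMap S M
  obtain ⟨n, z, hz⟩ := Submodule.fg_iff_exists_fin_generating_family.mp
    (inferInstance : Module.Finite T (LocalizedModule S M)).fg_top
  choose x hx using fun k => IsLocalizedModule.surj S ι (z k)
  let π : (Fin n → R) →ₗ[R] M := Fintype.linearCombination R fun k => (x k).1
  let πS := LocalizedModule.map S π
  have hπS : Function.Surjective πS := by
    rw [← LinearMap.range_eq_top, eq_top_iff, ← hz, Submodule.span_le]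
    rintro _ ⟨k, rfl⟩
    refine ⟨LocalizedModule.mk (Pi.single k 1) (x k).2, ?_⟩
    rw [LocalizedModule.map_mk]
    have h2 : π (Pi.single k 1) = (x k).1 := by simp [π]
    rw [h2, show z k = IsLocalizedModule.mk' ι (x k).1 (x k).2 from
      ((IsLocalizedModule.mk'_eq_iff).mpr (hx k).symm).symm]
    exact IsLocalizedModule.mk_eq_mk' ..
  have : Module.Finite T (LocalizedModule S (Fin n → R)) :=
    Module.Finite.of_isLocalizedModule S (LocalizedModule.mkLinearMap S (Fin n → R))
  have hfg : (LinearMap.ker πS).FG := Module.FinitePresentation.fg_ker πS hπS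
  obtain ⟨m, y, hy⟩ := Submodule.fg_iff_exists_fin_generating_family.mp hfg
  have hk : ∀ l, ∃ (k : Fin n → R) (t : S), π k = 0 ∧ y l = LocalizedModule.mk k t := by
    intro l
    obtain ⟨⟨v, t⟩, hv⟩ : ∃ p : (Fin n → R) × S, LocalizedModule.mk p.1 p.2 = y l := by
      induction y l using LocalizedModule.induction_on with
      | h v t => exact ⟨(v, t), rfl⟩
    have h0 : πS (y l) = 0 := (hy ▸ Submodule.subset_span ⟨l, rfl⟩ : y l ∈ LinearMap.ker πS)
    rw [← hv, LocalizedModule.map_mk] at h0
    obtain ⟨u, hu⟩ := LocalizedModule.mk_eq.mp (h0.trans (LocalizedModule.zero_mk 1).symm)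
    refine ⟨u • v, u * t, ?_, ?_⟩
    · rw [one_smul, smul_zero, smul_zero] at hu
      rw [Submonoid.smul_def, map_smul, ← Submonoid.smul_def]
      exact hu
    · rw [← hv, LocalizedModule.mk_cancel_common_left]
  choose k t hk0 hkt using hk
  let K : Submodule R (Fin n → R) := Submodule.span R (Set.range k)
  have hK : K ≤ LinearMap.ker π := Submodule.span_le.mpr (by rintro _ ⟨l, rfl⟩; exact hk0 l)
  refine ⟨(Fin n → R) ⧸ K, inferInstance, inferInstance, K.liftQ π hK,
    Module.finitePresentation_of_surjective K.mkQ K.mkQ_surjective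
      (by rw [Submodule.ker_mkQ]; exact Submodule.fg_span (Set.finite_range k)), ?_, ?_⟩
  · rw [injective_iff_map_eq_zero]
    intro q hq
    induction q using LocalizedModule.induction_on with
    | h q s =>
      obtain ⟨v, rfl⟩ := K.mkQ_surjective q
      have hv : LocalizedModule.mk v s ∈ Submodule.span T (Set.range y) := by
        rw [hy, LinearMap.mem_ker, LocalizedModule.map_mk]
        rw [LocalizedModule.map_mk] at hq
        exact hq
      have hz0 : LocalizedModule.map S K.mkQ (LocalizedModule.mk v s) = 0 := by
        refine (Submodule.span_le (p := LinearMap.ker (LocalizedModule.map S K.mkQ))).mpr ?_ hv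
        rintro _ ⟨l, rfl⟩
        rw [SetLike.mem_coe, LinearMap.mem_ker, hkt, LocalizedModule.map_mk, Submodule.mkQ_apply,
          (Submodule.Quotient.mk_eq_zero K).mpr (Submodule.subset_span ⟨l, rfl⟩),
          LocalizedModule.zero_mk]
      rwa [LocalizedModule.map_mk] at hz0
  · intro q
    obtain ⟨w, rfl⟩ := hπS q
    induction w using LocalizedModule.induction_on with
    | h v s => exact ⟨LocalizedModule.mk (K.mkQ v) s, by simp [πS, LocalizedModule.map_mk]⟩

end Groth.Agent.S9157
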