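import Groth.Statements.S16178
import Mathlib
import Groth.Agent.Ega43FP2.PdLocal
import Groth.Agent.S9157
import Groth.Agent.Ega4Algebra1.RegularLocal
import Groth.Agent.Ega4Algebra1.PdBasic
-- import your own Groth.Agent.* helpers here

set_option autoImplicit false
universe u
open CategoryTheory
open CAlg

namespace Groth.Agent.S16178

open scoped TensorProduct
open Groth.Ega43FP2

set_option synthInstance.maxHeartbeats 400000

/-- A finitely presented module over `B_q`, flat over the base, comes from one flat near `q`. -/
theorem exists_flat_model {V B : Type u} [CommRing V] [CommRing B] [Algebra V B] [Algebra.FinitePresentation V B]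
    (q : Ideal B) [q.IsPrime] (M : Type u) [AddCommGroup M] [Module (Localization.AtPrime q) M]
    [Module.FinitePresentation (Localization.AtPrime q) M] [Module V M]
    [IsScalarTower V (Localization.AtPrime q) M] [Module.Flat V M] :
    ∃ (M' : Type u) (_ : AddCommGroup M') (_ : Module B M') (_ : Module V M') (_ : IsScalarTower V B M'),
      Module.FinitePresentation B M' ∧
      Nonempty (Localization.AtPrime q ⊗[B] M' ≃ₗ[Localization.AtPrime q] M) ∧
      ∃ h ∉ q, Module.Flat V (Localization.Away h ⊗[B] M') := by
  let A := Localization.AtPrime q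
  let := Module.compHom M (algebraMap B A)
  have : IsScalarTower B A M := IsScalarTower.of_algebraMap_smul fun _ _ => rfl
  have : IsScalarTower V B M := IsScalarTower.of_algebraMap_smul fun v x => by
    show algebraMap B A (algebraMap V B v) • x = v • x
    rw [← IsScalarTower.algebraMap_apply, algebraMap_smul]
  have hid : IsLocalizedModule q.primeCompl (LinearMap.id : M →ₗ[B] M) := isLocalizedModule_id q.primeCompl M A
  let e₀ : LocalizedModule q.primeCompl M ≃ₗ[A] M :=
    LinearEquiv.extendScalarsOfIsLocalization q.primeCompl A
      (IsLocalizedModule.iso q.primeCompl (LinearMap.id : M →ₗ[B] M))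
  have : Module.FinitePresentation A (LocalizedModule q.primeCompl M) := Module.FinitePresentation.of_equiv e₀.symm
  obtain ⟨M', _, _, φ, hM', hφ⟩ := Groth.Agent.S9157.result B q.primeCompl M
  let : Module V M' := Module.compHom M' (algebraMap V B)
  have : IsScalarTower V B M' := IsScalarTower.of_algebraMap_smul fun _ _ => rfl
  let e₁ : LocalizedModule q.primeCompl M' ≃ₗ[A] M := (LinearEquiv.ofBijective _ hφ).trans e₀
  let e : A ⊗[B] M' ≃ₗ[A] M :=
    (LinearEquiv.extendScalarsOfIsLocalization q.primeCompl A (IsLocalizedModule.linearEquiv q.primeCompl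
      (TensorProduct.mk B A M' 1) (LocalizedModule.mkLinearMap q.primeCompl M'))).trans e₁
  refine ⟨M', inferInstance, inferInstance, inferInstance, inferInstance, hM', ⟨e⟩, ?_⟩
  have hq : Module.Flat V (LocalizedModule q.primeCompl M') :=
    Module.Flat.of_linearEquiv (R := V) (M := M) (N := LocalizedModule q.primeCompl M') (((e₁.restrictScalars B : LocalizedModule q.primeCompl M' ≃ₗ[B] M)).restrictScalars V)
  obtain ⟨_, ⟨h, rfl⟩, hqh, hsub⟩ := PrimeSpectrum.isTopologicalBasis_basic_opens.exists_subset_of_mem_open
    (show (⟨q, inferInstance⟩ : PrimeSpectrum B) ∈ {x : PrimeSpectrum B | Module.Flat V (LocalizedModule x.asIdeal.primeCompl M')} from hq)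
    (Groth.FlatMorOne.isOpen_flatLocus V B M')
  refine ⟨h, hqh, Groth.FlatMorOne.flat_of_forall_flat_localized (S := Localization.Away h) fun Q => ?_⟩
  let q' : PrimeSpectrum B := PrimeSpectrum.comap (algebraMap B (Localization.Away h)) Q
  have hq' : Module.Flat V (LocalizedModule q'.asIdeal.primeCompl M') := hsub (by
    show h ∉ q'.asIdeal
    intro hh
    exact Q.isPrime.ne_top (Ideal.eq_top_of_isUnit_mem _ hh (IsLocalization.Away.algebraMap_isUnit h)))
  let T := Localization.AtPrime Q.asIdeal
  have : IsLocalization.AtPrime T q'.asIdeal :=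
    IsLocalization.isLocalization_isLocalization_atPrime_isLocalization (Submonoid.powers h) T Q.asIdeal
  have : Module.Flat V (T ⊗[B] M') := Module.Flat.of_linearEquiv ((IsLocalizedModule.linearEquiv q'.asIdeal.primeCompl
    (TensorProduct.mk B T M' 1) (LocalizedModule.mkLinearMap q'.asIdeal.primeCompl M')).restrictScalars V)
  let e₂ : LocalizedModule Q.asIdeal.primeCompl (Localization.Away h ⊗[B] M') ≃ₗ[Localization.Away h] T ⊗[B] M' :=
    (IsLocalizedModule.linearEquiv Q.asIdeal.primeCompl (LocalizedModule.mkLinearMap Q.asIdeal.primeCompl _)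
      (TensorProduct.mk (Localization.Away h) T (Localization.Away h ⊗[B] M') 1)).trans
      ((TensorProduct.AlgebraTensorModule.cancelBaseChange B (Localization.Away h) T T M').restrictScalars (Localization.Away h))
  exact Module.Flat.of_linearEquiv (e₂.restrictScalars V)


/-- Let V be a valuation ring, B a flat V-algebra of finite presentation, q a prime ideal of B lying
over the prime p of V, A = B_q the local ring of Spec B at q, and suppose that the local ring A/pA
of the fibre over p at q is a regular local ring of dimension n. Then every finitely presented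
A-module M which is flat as a V-module has projective dimension at most n over A. -/
theorem result (V : Type u) [CommRing V] [IsDomain V] [ValuationRing V]
    (B : Type u) [CommRing B] [Algebra V B] [Module.Flat V B] [Algebra.FinitePresentation V B]
    (q : Ideal B) [q.IsPrime] (n : ℕ)
    (hreg : IsRegularLocalRing (Localization.AtPrime q ⧸ Ideal.map (algebraMap V (Localization.AtPrime q)) (Ideal.comap (algebraMap V B) q)))
    (hn : ringKrullDim (Localization.AtPrime q ⧸ Ideal.map (algebraMap V (Localization.AtPrime q)) (Ideal.comap (algebraMap V B) q)) = n)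
    (M : Type u) [AddCommGroup M] [Module (Localization.AtPrime q) M] [Module.FinitePresentation (Localization.AtPrime q) M]
    [Module V M] [IsScalarTower V (Localization.AtPrime q) M] [Module.Flat V M] :
    HasProjectiveDimensionLE (ModuleCat.of (Localization.AtPrime q) M) n := by
  obtain ⟨M', _, _, _, _, hM', ⟨e⟩, h, hh, hflat⟩ := exists_flat_model (V := V) q M
  let A := Localization.AtPrime q
  let Bh := Localization.Away h
  have : Algebra.FinitePresentation B Bh := IsLocalization.Away.finitePresentation h
  have : Algebra.FinitePresentation V Bh := Algebra.FinitePresentation.trans V B Bh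
  have : Module.Flat B Bh := IsLocalization.flat Bh (Submonoid.powers h)
  have : Module.Flat V Bh := Module.Flat.trans V B Bh
  have hdisj : Disjoint (Submonoid.powers h : Set B) (q : Set B) :=
    Set.disjoint_left.2 fun x hx1 hx => by
      obtain ⟨k, rfl⟩ := hx1
      exact hh (Ideal.IsPrime.mem_of_pow_mem inferInstance k hx)
  let P : PrimeSpectrum Bh := ⟨q.map (algebraMap B Bh),
    IsLocalization.isPrime_of_isPrime_disjoint (Submonoid.powers h) Bh q inferInstance hdisj⟩
  have hP : P.asIdeal.comap (algebraMap B Bh) = q :=
    IsLocalization.under_map_of_isPrime_disjoint (Submonoid.powers h) Bh inferInstance hdisj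
  have : P.asIdeal.IsPrime := P.isPrime
  let R := Localization.AtPrime P.asIdeal
  have : IsLocalization.AtPrime R q := by
    have := IsLocalization.isLocalization_isLocalization_atPrime_isLocalization (Submonoid.powers h) R P.asIdeal
    simpa only [hP] using this
  let ε : R ≃ₐ[B] A := IsLocalization.algEquiv q.primeCompl R A
  have hεV : ∀ v, ε (algebraMap V R v) = algebraMap V A v := fun v => by
    rw [IsScalarTower.algebraMap_apply V B R, AlgEquiv.commutes, ← IsScalarTower.algebraMap_apply]
  have hpu : P.asIdeal.under V = Ideal.comap (algebraMap V B) q := by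
    rw [Ideal.under_def, IsScalarTower.algebraMap_eq V B Bh, ← Ideal.comap_comap, hP]
  have hmap : Ideal.map (algebraMap V A) (Ideal.comap (algebraMap V B) q) =
      ((P.asIdeal.under V).map (algebraMap V R)).map ε.toRingEquiv := by
    rw [hpu]
    exact (congrArg (fun m => Ideal.map m _) (RingHom.ext hεV).symm).trans
      (Ideal.map_map (algebraMap V R) ε.toRingEquiv.toRingHom).symm
  let e' : FibRing P V ≃+* (A ⧸ Ideal.map (algebraMap V A) (Ideal.comap (algebraMap V B) q)) :=
    Ideal.quotientEquiv _ _ ε.toRingEquiv hmap
  have : IsRegularLocalRing (FibRing P V) := IsRegularLocalRing.of_ringEquiv (R := _) e'.symm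
  have hdim : ((IsLocalRing.maximalIdeal (FibRing P V)).spanFinrank : WithBot ℕ∞) = n := by
    rw [IsRegularLocalRing.spanFinrank_maximalIdeal, ringKrullDim_eq_of_ringEquiv e', hn]
  have hk : (IsLocalRing.maximalIdeal (FibRing P V)).spanFinrank = n := by exact_mod_cast hdim
  have : Module.Flat V (Bh ⊗[B] M') := hflat
  let N : FPFlat V Bh := ⟨Bh ⊗[B] M'⟩
  have h1 : HasProjectiveDimensionLT (stk P N) (n + 1) :=
    (hasProjectiveDimensionLT_stk_iff P (n + 1) N).1
      (Groth.Ega4Algebra1.pdLT_of_isRegularLocalRing (FibRing P V) n hk (FibRing P V ⊗[Bh] (Bh ⊗[B] M')))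
  let : Algebra R A := ε.toRingEquiv.toRingHom.toAlgebra
  have : IsScalarTower B R A := IsScalarTower.of_algebraMap_eq fun b => (ε.commutes b).symm
  have : Module.Flat R A := Module.Flat.of_linearEquiv
    (LinearEquiv.ofBijective (Algebra.linearMap R A) ε.bijective).symm
  have h2 : Groth.Ega4Algebra1.PdLT R (R ⊗[B] M') (n + 1) :=
    Groth.Ega4Algebra1.PdLT.of_equiv (TensorProduct.AlgebraTensorModule.cancelBaseChange B Bh R R M') h1
  exact Groth.Ega4Algebra1.PdLT.of_equiv
    ((TensorProduct.AlgebraTensorModule.cancelBaseChange B R A A M').trans e)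
    (Groth.Ega4Algebra1.PdLT.baseChange A (n + 1) h2)

end Groth.Agent.S16178
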