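import Groth.Statements.S16179
import Mathlib
import Groth.Agent.Calg7.ValFlatFP
import Groth.Agent.S16178
-- import your own Groth.Agent.* helpers here

set_option autoImplicit false
universe u
open CategoryTheory
open CAlg

namespace Groth.Agent.S16179

theorem main (V : Type u) [CommRing V] [IsDomain V] [ValuationRing V]
    (B : Type u) [CommRing B] [Algebra V B] [Module.Flat V B] [Algebra.FinitePresentation V B]
    (q : Ideal B) [q.IsPrime] (n : ℕ)
    (hreg : IsRegularLocalRing (Localization.AtPrime q ⧸ Ideal.map (algebraMap V (Localization.AtPrime q)) (Ideal.comap (algebraMap V B) q)))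
    (hn : ringKrullDim (Localization.AtPrime q ⧸ Ideal.map (algebraMap V (Localization.AtPrime q)) (Ideal.comap (algebraMap V B) q)) = n)
    (M : Type u) [AddCommGroup M] [Module (Localization.AtPrime q) M] [Module.FinitePresentation (Localization.AtPrime q) M] :
    Groth.Ega4Algebra1.PdLT (Localization.AtPrime q) M (n + 2) := by
  let A := Localization.AtPrime q
  haveI : Algebra.EssFiniteType B A := Algebra.EssFiniteType.of_isLocalization A q.primeCompl
  haveI : Algebra.EssFiniteType V A := Algebra.EssFiniteType.comp V B A
  haveI : Module.Flat B A := IsLocalization.flat A q.primeCompl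
  haveI : Module.Flat V A := Module.Flat.trans V B A
  obtain ⟨k, f, hf⟩ := Module.Finite.exists_fin' A M
  rw [Groth.Ega4Algebra1.PdLT.ker_iff f hf]
  haveI : Module.Flat V (Fin k → A) := Module.Flat.trans V A (Fin k → A)
  haveI : Module.IsTorsionFree V (Fin k → A) :=
    Submodule.isTorsionFree_iff_torsion_eq_bot.2 (Module.Flat.flat_iff_torsion_eq_bot_of_isBezout.1 inferInstance)
  haveI : Module.IsTorsionFree V (LinearMap.ker f) :=
    Function.Injective.moduleIsTorsionFree _ Subtype.val_injective (fun _ _ => rfl)
  haveI : Module.Flat V (LinearMap.ker f) :=
    Module.Flat.flat_iff_torsion_eq_bot_of_isBezout.2 (Submodule.isTorsionFree_iff_torsion_eq_bot.1 inferInstance)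
  haveI : Module.Finite A (LinearMap.ker f) := Module.Finite.iff_fg.2 (Module.FinitePresentation.fg_ker f hf)
  haveI : Module.FinitePresentation A (LinearMap.ker f) := Groth.Calg7.ValFlatFP.finitePresentation V A _
  exact Groth.Agent.S16178.result V B q n hreg hn _

/-- Let V be a valuation ring, B a flat V-algebra of finite presentation, q a prime ideal of B lying
over the prime p of V, A = B_q the local ring of Spec B at q, and suppose that the local ring A/pA
of the fibre over p at q is a regular local ring of dimension n. Then every finitely presented
A-module M has projective dimension at most n + 1 over A. -/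
theorem result (V : Type u) [CommRing V] [IsDomain V] [ValuationRing V]
    (B : Type u) [CommRing B] [Algebra V B] [Module.Flat V B] [Algebra.FinitePresentation V B]
    (q : Ideal B) [q.IsPrime] (n : ℕ)
    (hreg : IsRegularLocalRing (Localization.AtPrime q ⧸ Ideal.map (algebraMap V (Localization.AtPrime q)) (Ideal.comap (algebraMap V B) q)))
    (hn : ringKrullDim (Localization.AtPrime q ⧸ Ideal.map (algebraMap V (Localization.AtPrime q)) (Ideal.comap (algebraMap V B) q)) = n)
    (M : Type u) [AddCommGroup M] [Module (Localization.AtPrime q) M] [Module.FinitePresentation (Localization.AtPrime q) M] :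
    HasProjectiveDimensionLE (ModuleCat.of (Localization.AtPrime q) M) (n + 1) := by
  exact main V B q n hreg hn M

end Groth.Agent.S16179
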