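import Groth.Statements.S16180
import Mathlib
import Groth.Agent.Calg7.ValFlatFP
import Groth.Agent.S16179
-- import your own Groth.Agent.* helpers here

set_option autoImplicit false
universe u
open CategoryTheory
open CAlg

namespace Groth.Agent.S16180

open Groth.Ega4Algebra1 in
theorem pd_ker (A : Type u) [CommRing A] {P Q : Type u} [AddCommGroup P] [Module A P] [AddCommGroup Q] [Module A Q]
    [Module.Projective A P] [Module.Projective A Q] (f : P →ₗ[A] Q) (n : ℕ)
    (h : PdLT A (Q ⧸ LinearMap.range f) (n + 2)) : PdLT A (LinearMap.ker f) (n - 1 + 1) := by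
  rw [PdLT.ker_iff (LinearMap.range f).mkQ (Submodule.mkQ_surjective _), Submodule.ker_mkQ] at h
  rw [← LinearMap.ker_rangeRestrict f]
  match n with
  | 0 => exact PdLT.ker_of_surjective f.surjective_rangeRestrict (PdLT.one_iff.2 inferInstance) (h.mono (by omega))
  | n + 1 =>
    rw [Nat.add_sub_cancel]
    exact (PdLT.ker_iff f.rangeRestrict f.surjective_rangeRestrict n).1 h

theorem ker_dualMap_equiv (A : Type u) [CommRing A] {P M : Type u} [AddCommGroup P] [Module A P]
    [AddCommGroup M] [Module A M] (p : P →ₗ[A] M) (hp : Function.Surjective p) {Q : Type u} [AddCommGroup Q] [Module A Q]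
    (g : Q →ₗ[A] P) (hg : LinearMap.range g = LinearMap.ker p) :
    Nonempty (Module.Dual A M ≃ₗ[A] LinearMap.ker g.dualMap) := by
  refine ⟨(LinearEquiv.ofInjective p.dualMap (LinearMap.dualMap_injective_of_surjective hp)).trans
    (LinearEquiv.ofEq _ _ ?_)⟩
  rw [LinearMap.ker_dualMap_eq_dualAnnihilator_range, hg, LinearMap.range_dualMap_eq_dualAnnihilator_ker_of_surjective p hp]

open Groth.Ega4Algebra1 in
theorem main (V : Type u) [CommRing V] [IsDomain V] [ValuationRing V]
    (A : Type u) [CommRing A] [Algebra V A] [Module.Flat V A] [Algebra.EssFiniteType V A] (n : ℕ)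
    (hpd : ∀ (C : Type u) [AddCommGroup C] [Module A C] [Module.FinitePresentation A C], PdLT A C (n + 2))
    (M : Type u) [AddCommGroup M] [Module A M] [Module.FinitePresentation A M] [Module.IsReflexive A M] :
    PdLT A M (n - 1 + 1) := by
  have htf : ∀ (P : Type u) [AddCommGroup P] [Module A P] [Module V P] [IsScalarTower V A P] [Module.Flat A P],
      Module.IsTorsionFree V P := fun P _ _ _ _ _ => by
    haveI : Module.Flat V P := Module.Flat.trans V A P
    exact Submodule.isTorsionFree_iff_torsion_eq_bot.2 (Module.Flat.flat_iff_torsion_eq_bot_of_isBezout.1 inferInstance)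
  -- a presentation of `M`
  obtain ⟨m, p, hp⟩ := Module.Finite.exists_fin' A M
  haveI : Module.Finite A (LinearMap.ker p) := Module.Finite.iff_fg.2 (Module.FinitePresentation.fg_ker p hp)
  obtain ⟨k, g₀, hg₀⟩ := Module.Finite.exists_fin' A (LinearMap.ker p)
  obtain ⟨e⟩ := ker_dualMap_equiv A p hp ((LinearMap.ker p).subtype ∘ₗ g₀)
    (by rw [LinearMap.range_comp, LinearMap.range_eq_top.2 hg₀, Submodule.map_top, Submodule.range_subtype])
  let d := ((LinearMap.ker p).subtype ∘ₗ g₀).dualMap
  haveI := htf (Module.Dual A (Fin m → A))
  haveI := htf (Module.Dual A (Fin k → A))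
  haveI : Module.IsTorsionFree V (LinearMap.range d) :=
    Function.Injective.moduleIsTorsionFree _ Subtype.val_injective (fun _ _ => rfl)
  haveI : Module.IsTorsionFree V (LinearMap.ker d) :=
    Function.Injective.moduleIsTorsionFree _ Subtype.val_injective (fun _ _ => rfl)
  haveI : Module.Finite A (LinearMap.range d) := Module.Finite.range d
  haveI : Module.FinitePresentation A (LinearMap.range d) := Groth.Calg7.ValFlatFP.finitePresentation V A (LinearMap.range d)
  haveI : Module.Finite A (LinearMap.ker d) := by
    rw [Module.Finite.iff_fg, ← LinearMap.ker_rangeRestrict d]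
    exact Module.FinitePresentation.fg_ker (M := Module.Dual A (Fin m → A)) (N := LinearMap.range d) d.rangeRestrict d.surjective_rangeRestrict
  haveI : Module.FinitePresentation A (LinearMap.ker d) := Groth.Calg7.ValFlatFP.finitePresentation V A (LinearMap.ker d)
  haveI : Module.FinitePresentation A (Module.Dual A M) :=
    Module.FinitePresentation.of_equiv (M := LinearMap.ker d) (N := Module.Dual A M) e.symm
  -- a presentation of its dual
  obtain ⟨m', p', hp'⟩ := Module.Finite.exists_fin' A (Module.Dual A M)
  haveI : Module.Finite A (LinearMap.ker p') := Module.Finite.iff_fg.2 (Module.FinitePresentation.fg_ker p' hp')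
  obtain ⟨k', g₁, hg₁⟩ := Module.Finite.exists_fin' A (LinearMap.ker p')
  obtain ⟨e'⟩ := ker_dualMap_equiv A p' hp' ((LinearMap.ker p').subtype ∘ₗ g₁)
    (by rw [LinearMap.range_comp, LinearMap.range_eq_top.2 hg₁, Submodule.map_top, Submodule.range_subtype])
  let d' := ((LinearMap.ker p').subtype ∘ₗ g₁).dualMap
  haveI : Module.FinitePresentation A ((Module.Dual A (Fin k' → A)) ⧸ LinearMap.range d') :=
    haveI : Module.FinitePresentation A (Module.Dual A (Fin k' → A)) := Module.finitePresentation_of_projective _ _
    Module.finitePresentation_of_surjective (LinearMap.range d').mkQ (Submodule.mkQ_surjective _)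
      (by rw [Submodule.ker_mkQ]; exact Module.Finite.iff_fg.1 (Module.Finite.range d'))
  exact ((pd_ker A d' n (hpd _)).of_equiv e'.symm).of_equiv (Module.evalEquiv A M).symm

/-- Let V be a valuation ring, B a flat V-algebra of finite presentation, q a prime ideal of B lying
over the prime p of V, A = B_q the local ring of Spec B at q, and suppose that the local ring A/pA
of the fibre over p at q is a regular local ring of dimension n. Then every finitely presented
A-module M which is reflexive (the evaluation map into its double A-dual is bijective) has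
projective dimension at most max(0, n - 1) over A (written with truncated subtraction of natural
numbers). -/
theorem result (V : Type u) [CommRing V] [IsDomain V] [ValuationRing V]
    (B : Type u) [CommRing B] [Algebra V B] [Module.Flat V B] [Algebra.FinitePresentation V B]
    (q : Ideal B) [q.IsPrime] (n : ℕ)
    (hreg : IsRegularLocalRing (Localization.AtPrime q ⧸ Ideal.map (algebraMap V (Localization.AtPrime q)) (Ideal.comap (algebraMap V B) q)))
    (hn : ringKrullDim (Localization.AtPrime q ⧸ Ideal.map (algebraMap V (Localization.AtPrime q)) (Ideal.comap (algebraMap V B) q)) = n)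
    (M : Type u) [AddCommGroup M] [Module (Localization.AtPrime q) M] [Module.FinitePresentation (Localization.AtPrime q) M]
    [Module.IsReflexive (Localization.AtPrime q) M] :
    HasProjectiveDimensionLE (ModuleCat.of (Localization.AtPrime q) M) (n - 1) := by
  haveI : Algebra.EssFiniteType B (Localization.AtPrime q) := Algebra.EssFiniteType.of_isLocalization _ q.primeCompl
  haveI : Algebra.EssFiniteType V (Localization.AtPrime q) := Algebra.EssFiniteType.comp V B _
  haveI : Module.Flat B (Localization.AtPrime q) := IsLocalization.flat _ q.primeCompl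
  haveI : Module.Flat V (Localization.AtPrime q) := Module.Flat.trans V B _
  exact main V (Localization.AtPrime q) n (fun C _ _ _ => Groth.Agent.S16179.main V B q n hreg hn C) M

end Groth.Agent.S16180
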