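import Groth.Statements.S16185
import Groth.Agent.Dual3Gor.Basic

set_option autoImplicit false
universe u
open CategoryTheory CategoryTheory.Limits AlgebraicGeometry
open Dual3

namespace Groth.Agent.S16185

/-- Let A be an Artinian local ring with maximal ideal m and let f : P → Spec A be a flat morphism of
schemes whose closed fibre X = P ×_{Spec A} Spec (A/m) is a Gorenstein scheme (locally Noetherian,
all local rings Gorenstein). Then f is a Gorenstein morphism: flat at every point with Gorenstein
local rings on its fibres. (The source takes A to be a local Artinian algebra over a field k with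
residue field k and X a k-scheme deformed flatly over A; the k-algebra structure plays no role, so
the residue field of A is used directly.) -/
theorem result
    {A : Type u} [CommRing A] [IsArtinianRing A] [IsLocalRing A]
    {P X : Scheme.{u}} (f : P ⟶ Spec (CommRingCat.of A)) [Flat f]
    (i : X ⟶ P) (q : X ⟶ Spec (CommRingCat.of (IsLocalRing.ResidueField A)))
    (hsq : IsPullback i q f (Spec.map (CommRingCat.ofHom (IsLocalRing.residue A))))
    (hX : Dual3.IsGorenstein X) : Dual3.IsGorensteinMor f := by
  intro x
  refine ⟨Flat.stalkMap f x, ?_⟩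
  let r : Spec (CommRingCat.of (IsLocalRing.ResidueField A)) ⟶ Spec (CommRingCat.of A) :=
    Spec.map (CommRingCat.ofHom (IsLocalRing.residue A))
  have hs : r (IsLocalRing.closedPoint (IsLocalRing.ResidueField A)) = f x := by
    have hall : ∀ p : PrimeSpectrum A, p.asIdeal = IsLocalRing.maximalIdeal A := fun p =>
      IsLocalRing.eq_maximalIdeal (IsArtinianRing.isMaximal_of_isPrime p.asIdeal)
    exact PrimeSpectrum.ext ((hall _).trans (hall _).symm)
  obtain ⟨ψ, hψ⟩ : ∃ ψ : (Spec (CommRingCat.of A)).residueField (f x) ⟶ CommRingCat.of (IsLocalRing.ResidueField A),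
      Spec.map ψ ≫ (Spec (CommRingCat.of A)).fromSpecResidueField (f x) = r := by
    rw [← hs]
    exact ⟨_, Scheme.descResidueField_stalkClosedPointTo_fromSpecResidueField _ _ r⟩
  let φ := Spec.preimage ((Spec (CommRingCat.of A)).fromSpecResidueField (f x))
  have hcomp : φ ≫ ψ = CommRingCat.ofHom (IsLocalRing.residue A) := by
    apply Spec.map_injective
    rw [Spec.map_comp, Spec.map_preimage]
    exact hψ
  have hsurj : Function.Surjective ψ.hom := fun z => by
    obtain ⟨a, ha⟩ := IsLocalRing.residue_surjective (R := A) z
    exact ⟨φ.hom a, (congrArg (fun t => t.hom a) hcomp).trans ha⟩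
  haveI : IsIso ψ := (ConcreteCategory.isIso_iff_bijective ψ).2 ⟨ψ.hom.injective, hsurj⟩
  have hsq' : IsPullback i (q ≫ Spec.map ψ) f ((Spec (CommRingCat.of A)).fromSpecResidueField (f x)) :=
    hsq.of_iso (Iso.refl _) (Iso.refl _) (asIso (Spec.map ψ)) (Iso.refl _) (by simp) (by simp) (by simp)
      (by simp [hψ, r])
  let e : X ≅ f.fiber (f x) := hsq'.isoPullback
  exact Groth.Dual3Gor.isGorenstein_of_ringEquiv (asIso (e.inv.stalkMap (f.asFiber x))).commRingCatIsoToRingEquiv
    (hX.2 _)


end Groth.Agent.S16185
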