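import Groth.Statements.S5934
import Groth.Agent.PropsBasic.LociBaseChange.Scheme

set_option autoImplicit false
open CategoryTheory AlgebraicGeometry
universe u
open EGA43

namespace Groth.Agent.S5934

/-- Let f : X ⟶ Y be a proper, flat morphism of finite presentation. The set of points y of Y whose
fibre X_y is geometrically regular, i.e. smooth over the residue field κ(y), is open in Y. -/
theorem result {X Y : Scheme.{u}} (f : X ⟶ Y) [IsProper f] [Flat f]
    [LocallyOfFinitePresentation f] :
    IsOpen {y : Y | Smooth (f.fiberToSpecResidueField y)} := by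
  have hset : {y : Y | Smooth (f.fiberToSpecResidueField y)} = (f '' (f.smoothLocus : Set X)ᶜ)ᶜ := by
    ext y
    haveI : LocallyOfFinitePresentation (f.fiberToSpecResidueField y) :=
      MorphismProperty.pullback_snd _ _ inferInstance
    constructor
    · rintro hs ⟨x, hx, rfl⟩
      haveI : Smooth (f.fiberToSpecResidueField (f x)) := hs
      refine hx (Groth.PropsBasic.Loci.mem_smoothLocus_of_fiber (Flat.stalkMap f x) ?_)
      rw [Scheme.Hom.smoothLocus_eq_top]
      trivial
    · intro hy
      show Smooth (f.fiberToSpecResidueField y)
      rw [← Scheme.Hom.smoothLocus_eq_top_iff]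
      refine top_le_iff.mp fun z _ => Groth.PropsBasic.Loci.preimage_smoothLocus_le
        (CategoryTheory.IsPullback.of_hasPullback f (Y.fromSpecResidueField y)) ?_
      by_contra hz
      exact hy ⟨f.fiberι y z, hz, (f.range_fiberι y).le ⟨z, rfl⟩⟩
  rw [hset]
  exact (f.isClosedMap _ f.smoothLocus.2.isClosed_compl).isOpen_compl

end Groth.Agent.S5934
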