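import Groth.Statements.S16186
import Groth.Agent.Smoothing16186.Spread
import Groth.Agent.Variety2.ProjBasics
import Groth.Agent.Variety2.GenSmooth

set_option autoImplicit false
universe u
open CategoryTheory CategoryTheory.Limits AlgebraicGeometry
open Deform

namespace Groth.Agent.S16186

/-- Let k be an algebraically closed field and let p : P → Spec k[[t]] be flat and projective, i.e. P is
a closed subscheme of a projective space over k[[t]] compatibly with p; let X be its closed fibre
over k and suppose the generic fibre P ⊗ Frac k[[t]] is smooth. Then X is geometrically smoothable: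
there exist an affine integral curve C, smooth of dimension one over k, a k-rational point c of C
and a flat proper morphism Y → C whose fibre over c is isomorphic to X over k and whose fibre over
the generic point of C is smooth. (The source's statement is the equivalence, for X reduced
projective and equidimensional over an algebraically closed field of characteristic zero with H^2(X,
O_X) = 0 or with X Gorenstein and its dualizing sheaf or the dual of it ample, between the existence
of a formal smoothing and of a geometric smoothing; its proof first turns a formal smoothing into a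
smoothing over Spec k[[t]] and then runs the argument stated here, which uses neither characteristic
zero nor the hypotheses on X.) -/
theorem result
    (k : Type u) [Field k] [IsAlgClosed k]
    (X : Scheme.{u}) (pX : X ⟶ Spec (CommRingCat.of k))
    (P : Scheme.{u}) (p : P ⟶ Spec (CommRingCat.of (PowerSeries k))) [Flat p]
    (hproj : ∃ (d : ℕ) (ι : P ⟶ CohB1.ProjSpace d (PowerSeries k)), IsClosedImmersion ι ∧
      ι ≫ CohB1.ProjSpace.toSpec d (PowerSeries k) = p)
    (i : X ⟶ P)
    (hX : IsPullback i pX p (Spec.map (CommRingCat.ofHom (PowerSeries.constantCoeff (R := k)))))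
    (hgen : Smooth (pullback.snd p
      (Spec.map (CommRingCat.ofHom (algebraMap (PowerSeries k) (FractionRing (PowerSeries k)))))))
    : ∃ (C : Scheme.{u}) (qC : C ⟶ Spec (CommRingCat.of k)) (c : Spec (CommRingCat.of k) ⟶ C)
      (_ : c ≫ qC = 𝟙 (Spec (CommRingCat.of k))) (_ : IsIntegral C) (_ : IsAffine C) (_ : Smooth qC)
      (_ : topologicalKrullDim C = 1)
      (Y : Scheme.{u}) (π : Y ⟶ C) (_ : Flat π) (_ : IsProper π) (j : X ⟶ Y)
      (η : C) (_ : closure ({η} : Set C) = Set.univ),
      IsPullback j pX π c ∧ Smooth (π.fiberToSpecResidueField η) := by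
  classical
  let A := PowerSeries k
  obtain ⟨n, ιP, hιP, hιPp⟩ := hproj
  haveI := hιP
  haveI : IsProper p := by
    rw [← hιPp]
    haveI := Groth.Variety2.isProper_projSpace_toSpec n (PowerSeries k)
    infer_instance
  haveI : LocallyOfFinitePresentation p := Groth.Variety2.locallyOfFinitePresentation_of_noetherian p
  obtain ⟨R, hR, htR, P₁, p₁, q, hp₁, hp₁f, hp₁lfp, hsq⟩ :=
    Groth.Smoothing16186.exists_model_adjoin k p (PowerSeries.X : PowerSeries k)
  haveI := hp₁
  haveI := hp₁f
  haveI := hp₁lfp
  haveI : Algebra.FiniteType k R := R.fg_iff_finiteType.1 hR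
  let G : Set (PrimeSpectrum R) := {y | Smooth (p₁.fiberToSpecResidueField y)}
  have hG : IsOpen G := Groth.Agent.S5934.result p₁
  let K := FractionRing (PowerSeries k)
  let toK : R →+* K := (algebraMap (PowerSeries k) K).comp R.val.toRingHom
  have hinj : Function.Injective toK := fun a b h =>
    Subtype.ext (IsFractionRing.injective (PowerSeries k) K h)
  let w : PrimeSpectrum R := ⟨⊥, Ideal.isPrime_bot⟩
  have hpK : IsPullback (pullback.fst p (Spec.map (CommRingCat.ofHom (algebraMap (PowerSeries k) K))) ≫ q)
      (pullback.snd p (Spec.map (CommRingCat.ofHom (algebraMap (PowerSeries k) K)))) p₁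
      (Spec.map (CommRingCat.ofHom toK)) := by
    have h := (IsPullback.of_hasPullback p (Spec.map (CommRingCat.ofHom (algebraMap (PowerSeries k) K)))).paste_horiz hsq
    rwa [← Spec.map_comp] at h
  have hw : w ∈ G := by
    refine (Groth.Smoothing16186.smooth_fiber_iff p₁ w).2 fun z hz => ?_
    haveI := hgen
    obtain ⟨z₁, hz₁⟩ : z ∈ Set.range (pullback.fst p₁ (Spec.map (CommRingCat.ofHom toK))) := by
      rw [Scheme.Pullback.range_fst]
      exact ⟨⟨⊥, Ideal.isPrime_bot⟩, (hz.trans (PrimeSpectrum.ext
        (((RingHom.injective_iff_ker_eq_bot toK).1 hinj).symm.trans (RingHom.ker_eq_comap_bot toK)))).symm⟩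
    obtain ⟨z₂, rfl⟩ : z ∈ Set.range (pullback.fst p (Spec.map (CommRingCat.ofHom (algebraMap (PowerSeries k) K))) ≫ q) := by
      refine ⟨hpK.isoPullback.inv z₁, ?_⟩
      rw [← Scheme.Hom.comp_apply, hpK.isoPullback_inv_fst, hz₁]
    exact (Groth.CMMor.isSmoothFibreAt_baseChange_iff _ _ _ _ hpK z₂).1
      (Groth.CMMor.isSmoothFibreAt_of_mem_smoothLocus _ z₂ (by rw [Scheme.Hom.smoothLocus_eq_top]; trivial))
  let c₀ : R →ₐ[k] k :=
    { (PowerSeries.constantCoeff (R := k)).comp R.val.toRingHom with
      commutes' := fun r => by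
        change PowerSeries.constantCoeff (algebraMap k (PowerSeries k) r) = r
        simp }
  have hne : w.asIdeal ≠ RingHom.ker c₀ := by
    intro h
    have hX : (⟨PowerSeries.X, htR⟩ : R) ∈ RingHom.ker c₀ := PowerSeries.constantCoeff_X
    rw [← h] at hX
    exact PowerSeries.X_ne_zero (congrArg Subtype.val (Ideal.mem_bot.1 hX))
  obtain ⟨D, _, _, _, _, φ, γ, hγ, hdim, hη⟩ :=
    Groth.Smoothing16186.exists_curve_hom c₀ G hG w hw hne bot_le
  let C := Spec (CommRingCat.of D)
  let g : C ⟶ Spec (CommRingCat.of R) := Spec.map (CommRingCat.ofHom φ.toRingHom)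
  let c : Spec (CommRingCat.of k) ⟶ C := Spec.map (CommRingCat.ofHom γ.toRingHom)
  haveI : Smooth (Spec.map (CommRingCat.ofHom (algebraMap k D))) := by
    rw [HasRingHomProperty.Spec_iff (P := @Smooth)]
    exact RingHom.smooth_algebraMap.2 inferInstance
  have hgc : c ≫ g = Spec.map (CommRingCat.ofHom (PowerSeries.constantCoeff (R := k))) ≫
      Spec.map (CommRingCat.ofHom R.val.toRingHom) := by
    rw [← Spec.map_comp, ← Spec.map_comp]
    exact congrArg Spec.map (CommRingCat.hom_ext (congrArg AlgHom.toRingHom hγ))
  have hXP : IsPullback (i ≫ q) pX p₁ (c ≫ g) := by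
    rw [hgc]; exact hX.paste_horiz hsq
  refine ⟨C, Spec.map (CommRingCat.ofHom (algebraMap k D)), c, ?_, inferInstance, inferInstance, inferInstance,
    ?_, pullback p₁ g, pullback.snd p₁ g, inferInstance, inferInstance,
    pullback.lift (i ≫ q) (pX ≫ c) (by rw [Category.assoc pX]; exact hXP.w), (⟨⊥, Ideal.isPrime_bot⟩ : PrimeSpectrum D), ?_, ?_, ?_⟩
  · rw [← Spec.map_comp]
    exact (congrArg Spec.map (CommRingCat.hom_ext (RingHom.ext fun r => γ.commutes r))).trans (Spec.map_id _)
  · exact (PrimeSpectrum.topologicalKrullDim_eq_ringKrullDim (R := D)).trans hdim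
  · refine Set.eq_univ_of_forall fun y => ?_
    exact ((PrimeSpectrum.le_iff_specializes (R := D) ⟨⊥, Ideal.isPrime_bot⟩ y).1 bot_le).mem_closure
  · refine IsPullback.of_right ?_ (pullback.lift_snd _ _ _) (IsPullback.of_hasPullback p₁ g)
    rw [pullback.lift_fst]
    exact hXP
  · refine (Groth.Smoothing16186.smooth_fiber_iff (pullback.snd p₁ g) _).2 fun z hz => ?_
    refine (Groth.CMMor.isSmoothFibreAt_baseChange_iff _ _ _ _ (IsPullback.of_hasPullback p₁ g) z).2 ?_
    refine (Groth.Smoothing16186.smooth_fiber_iff p₁ _).1 hη _ ?_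
    rw [← Scheme.Hom.comp_apply, pullback.condition, Scheme.Hom.comp_apply, hz]
    rfl

end Groth.Agent.S16186
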