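import Groth.Statements.S16187
import Groth.Agent.Misc3Fitt.Props
import Mathlib.RingTheory.Smooth.Field
import Mathlib.RingTheory.Regular.Flat
import Mathlib.RingTheory.KrullDimension.Regular
import Mathlib.RingTheory.Ideal.KrullsHeightTheorem
import Mathlib.RingTheory.Localization.AtPrime.Basic
import Mathlib.RingTheory.Ideal.MinimalPrime.Localization
import Mathlib.Algebra.MvPolynomial.PDeriv
import Mathlib.LinearAlgebra.InvariantBasisNumber
import Mathlib.Algebra.Category.ModuleCat.Ext.Basic
import Mathlib.Algebra.Homology.ShortComplex.ModuleCat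
import Mathlib.Algebra.Homology.DerivedCategory.Ext.EnoughProjectives
import Mathlib.Algebra.Category.ModuleCat.Projective

set_option autoImplicit false
set_option linter.style.haveILetI false
universe u
open CategoryTheory
open Fitt

namespace Groth.Agent.S16187

open scoped TensorProduct

section

variable {k : Type u} [Field k] [IsAlgClosed k] {r c : ℕ} {B : Type u} [CommRing B] [Algebra k B]
  (φ : MvPolynomial (Fin r) k →ₐ[k] B) (a : Fin c → MvPolynomial (Fin r) k)

/-- the Jacobian matrix on the quotient -/
noncomputable def jac (i : Fin c) (j : Fin r) : B := φ (MvPolynomial.pderiv j (a i))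

variable (k r) in
/-- the gradient -/
noncomputable def gradDer : Derivation k (MvPolynomial (Fin r) k) (Fin r → MvPolynomial (Fin r) k) :=
  MvPolynomial.mkDerivation k fun i => Pi.single i 1

omit [IsAlgClosed k] in
theorem gradDer_apply (z : MvPolynomial (Fin r) k) (j : Fin r) : gradDer k r z j = MvPolynomial.pderiv j z := by
  classical
  have h : (LinearMap.proj (R := MvPolynomial (Fin r) k) (φ := fun _ : Fin r => MvPolynomial (Fin r) k) j).compDer
      (gradDer k r) = MvPolynomial.pderiv j :=
    MvPolynomial.derivation_ext fun i => by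
      show gradDer k r (MvPolynomial.X i) j = _
      rw [gradDer, MvPolynomial.mkDerivation_X]
      by_cases hij : i = j
      · subst hij; simp
      · simp [MvPolynomial.pderiv_X_of_ne hij, Pi.single_eq_of_ne (Ne.symm hij)]
  exact Derivation.congr_fun h z

omit [IsAlgClosed k] in
theorem derivation_eq_sum {M : Type u} [AddCommGroup M] [Module k M] [Module (MvPolynomial (Fin r) k) M]
    [IsScalarTower k (MvPolynomial (Fin r) k) M] (E : Derivation k (MvPolynomial (Fin r) k) M)
    (z : MvPolynomial (Fin r) k) :
    E z = ∑ j, MvPolynomial.pderiv j z • E (MvPolynomial.X j) := by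
  classical
  have h : E = (Fintype.linearCombination (MvPolynomial (Fin r) k) fun j => E (MvPolynomial.X j)).compDer (gradDer k r) :=
    MvPolynomial.derivation_ext fun i => by
      show _ = Fintype.linearCombination (MvPolynomial (Fin r) k) (fun j => E (MvPolynomial.X j)) (gradDer k r (MvPolynomial.X i))
      rw [gradDer, MvPolynomial.mkDerivation_X, Fintype.linearCombination_apply_single, one_smul]
  conv_lhs => rw [h]
  show Fintype.linearCombination (MvPolynomial (Fin r) k) (fun j => E (MvPolynomial.X j)) (gradDer k r z) = _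
  rw [Fintype.linearCombination_apply]
  exact Finset.sum_congr rfl fun j _ => by rw [gradDer_apply]

theorem mem_minimal_of_jac [IsReduced B] (hφ : Function.Surjective φ)
    (ha : RingTheory.Sequence.IsRegular (MvPolynomial (Fin r) k) (List.ofFn a))
    (hker : RingHom.ker φ.toRingHom = Ideal.span (Set.range a))
    (v : Fin c → B) (hv : ∀ j, ∑ i, v i * jac φ a i j = 0) (l : Fin c)
    (q : Ideal B) (hq : q ∈ minimalPrimes B) : v l ∈ q := by
  classical
  by_contra hl
  haveI hqp : q.IsPrime := hq.1.1
  let P := MvPolynomial (Fin r) k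
  let Q : Ideal P := q.comap φ.toRingHom
  haveI : Q.IsPrime := Ideal.IsPrime.comap _
  let L := Localization.AtPrime Q
  let K := IsLocalRing.ResidueField L
  have hmem : ∀ i, a i ∈ Q := fun i => by
    show φ (a i) ∈ q
    rw [show φ (a i) = 0 from RingHom.mem_ker.1 (hker.ge (Ideal.subset_span ⟨i, rfl⟩))]
    exact q.zero_mem
  let w : Fin c → L := fun i => algebraMap P L (a i)
  have hm : IsLocalRing.maximalIdeal L = Ideal.span (Set.range w) := by
    refine le_antisymm ?_ (Ideal.span_le.2 ?_)
    · rw [← IsLocalization.AtPrime.map_eq_maximalIdeal Q L, Ideal.map_le_iff_le_comap]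
      intro x hx
      have h1 : algebraMap B (Localization.AtPrime q) (φ x) ∈ (Ideal.map (algebraMap B (Localization.AtPrime q)) ⊥).radical := by
        rw [IsLocalization.AtPrime.radical_map_of_mem_minimalPrimes (A := Localization.AtPrime q) q ⊥ hq]
        exact Ideal.mem_map_of_mem _ hx
      rw [Ideal.map_bot] at h1
      obtain ⟨n, hn⟩ := h1
      rw [Ideal.mem_bot, ← map_pow] at hn
      obtain ⟨s, hs⟩ := (IsLocalization.map_eq_zero_iff q.primeCompl _ _).1 hn
      have h2 : (s : B) * φ x = 0 := IsNilpotent.eq_zero ⟨n + 1, by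
        rw [show ((s : B) * φ x) ^ (n + 1) = ((s : B) ^ n * φ x) * ((s : B) * φ x ^ n) by ring, hs, mul_zero]⟩
      obtain ⟨t, ht⟩ := hφ (s : B)
      have h3 : t * x ∈ Ideal.span (Set.range a) := hker.le (by
        rw [RingHom.mem_ker]
        show φ (t * x) = 0
        rw [map_mul, ht, h2])
      have h4 : algebraMap P L (t * x) ∈ Ideal.span (Set.range w) := by
        have h := Ideal.mem_map_of_mem (algebraMap P L) h3
        rwa [Ideal.map_span, ← Set.range_comp] at h
      rw [map_mul] at h4
      exact (Ideal.unit_mul_mem_iff_mem _ (IsLocalization.map_units L (⟨t, fun h => s.2 (by rw [← ht]; exact h)⟩ : Q.primeCompl))).1 h4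
    · rintro _ ⟨i, rfl⟩
      exact (IsLocalization.AtPrime.to_map_mem_maximal_iff L Q _).2 (hmem i)
  have hdim : (c : WithBot ℕ∞) ≤ ringKrullDim L := by
    have hreg : RingTheory.Sequence.IsRegular L ((List.ofFn a).map (algebraMap P L)) :=
      RingTheory.Sequence.IsWeaklyRegular.isRegular_of_isLocalization_of_mem L Q ha.toIsWeaklyRegular
        fun x hx => by
          obtain ⟨i, rfl⟩ := List.mem_ofFn.1 hx
          exact hmem i
    rw [← ringKrullDim_add_length_eq_ringKrullDim_of_isRegular _ hreg, List.length_map, List.length_ofFn]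
    have hne : Nontrivial (L ⧸ Ideal.ofList ((List.ofFn a).map (algebraMap P L))) := by
      refine Ideal.Quotient.nontrivial_iff.2 (ne_top_of_le_ne_top (IsLocalRing.maximalIdeal.isMaximal L).ne_top ?_)
      refine Ideal.span_le.2 fun x hx => ?_
      obtain ⟨y, hy, rfl⟩ := List.mem_map.1 hx
      obtain ⟨i, rfl⟩ := List.mem_ofFn.1 hy
      exact (IsLocalization.AtPrime.to_map_mem_maximal_iff L Q _).2 (hmem i)
    exact le_add_of_nonneg_left ringKrullDim_nonneg_of_nontrivial
  -- the element of the conormal module
  choose t ht using fun i => hφ (v i)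
  let x : L := ∑ i, algebraMap P L (t i) * w i
  have hwm : ∀ i, w i ∈ IsLocalRing.maximalIdeal L := fun i => hm.ge (Ideal.subset_span ⟨i, rfl⟩)
  have hsurj : Function.Surjective (algebraMap L K) := Ideal.Quotient.mk_surjective
  have hkerK : RingHom.ker (algebraMap L K) = IsLocalRing.maximalIdeal L := Ideal.mk_ker
  have hxm : x ∈ RingHom.ker (algebraMap L K) := by
    rw [hkerK]
    exact Ideal.sum_mem _ fun i _ => Ideal.mul_mem_left _ _ (hwm i)
  haveI : Algebra.EssFiniteType k L :=
    haveI : Algebra.EssFiniteType P L := Algebra.EssFiniteType.of_isLocalization L Q.primeCompl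
    Algebra.EssFiniteType.comp k P L
  haveI : Algebra.EssFiniteType L K :=
    haveI : Algebra.FiniteType L K := RingHom.FiniteType.of_surjective _ hsurj
    inferInstance
  haveI : Algebra.EssFiniteType k K := Algebra.EssFiniteType.comp k L K
  haveI : Algebra.FormallySmooth k K := Algebra.FormallySmooth.of_perfectField
  haveI : Algebra.FormallySmooth k L :=
    haveI : Algebra.FormallySmooth P L := Algebra.FormallySmooth.of_isLocalization Q.primeCompl
    Algebra.FormallySmooth.comp k P L
  obtain ⟨σ, hσ⟩ := (Algebra.FormallySmooth.iff_split_injection (R := k) (P := L) (A := K) hsurj).1 inferInstance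
  let E : Derivation k P (K ⊗[L] KaehlerDifferential k L) :=
    ((((TensorProduct.mk L K (KaehlerDifferential k L)) 1).compDer (KaehlerDifferential.D k L)).compAlgebraMap P)
  have hE := fun z : P => derivation_eq_sum E z
  have hzero : ∀ (z : P) (m : K ⊗[L] KaehlerDifferential k L), z ∈ Q → z • m = 0 := fun z m hz => by
    rw [← algebraMap_smul K z m, IsScalarTower.algebraMap_apply P L K,
      show algebraMap L K (algebraMap P L z) = 0 from RingHom.mem_ker.1 (hkerK.ge
        ((IsLocalization.AtPrime.to_map_mem_maximal_iff L Q _).2 hz)), zero_smul]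
  have hx0 : KaehlerDifferential.kerCotangentToTensor k L K (Ideal.toCotangent _ ⟨x, hxm⟩) = 0 := by
    rw [KaehlerDifferential.kerCotangentToTensor_toCotangent]
    show (1 : K) ⊗ₜ[L] KaehlerDifferential.D k L x = 0
    have hterm : ∀ i, (1 : K) ⊗ₜ[L] KaehlerDifferential.D k L (algebraMap P L (t i) * w i) = t i • E (a i) := fun i => by
      rw [← map_mul]
      show E (t i * a i) = _
      rw [Derivation.leibniz, hzero _ (E (t i)) (hmem i), add_zero]
    simp only [x, map_sum, TensorProduct.tmul_sum, hterm]
    rw [Finset.sum_congr rfl (fun i _ => show t i • E (a i) = ∑ j, (t i * MvPolynomial.pderiv j (a i)) • E (MvPolynomial.X j) by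
      rw [hE (a i), Finset.smul_sum]; simp only [smul_smul])]
    rw [Finset.sum_comm]
    refine Finset.sum_eq_zero fun j _ => ?_
    rw [← Finset.sum_smul]
    refine hzero _ _ ?_
    show φ (∑ i, t i * MvPolynomial.pderiv j (a i)) ∈ q
    simp only [map_sum, map_mul, ht]
    exact (hv j).symm ▸ q.zero_mem
  have hx2 : x ∈ IsLocalRing.maximalIdeal L ^ 2 := by
    have h1 := LinearMap.congr_fun hσ (Ideal.toCotangent _ ⟨x, hxm⟩)
    rw [LinearMap.comp_apply, hx0, map_zero, LinearMap.id_apply] at h1
    rw [← hkerK]
    exact (Ideal.toCotangent_eq_zero _ _).1 h1.symm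
  -- one generator less
  let S : Finset L := (Finset.univ.erase l).image w
  have hunit : IsUnit (algebraMap P L (t l)) :=
    IsLocalization.map_units L (⟨t l, fun h => hl (by rw [← ht l]; exact h)⟩ : Q.primeCompl)
  have hle : IsLocalRing.maximalIdeal L ≤ Ideal.span (S : Set L) ⊔ IsLocalRing.maximalIdeal L • IsLocalRing.maximalIdeal L := by
    have hoth : ∀ i, i ≠ l → w i ∈ Ideal.span (S : Set L) := fun i hi =>
      Ideal.subset_span (Finset.mem_coe.2 (Finset.mem_image_of_mem _ (Finset.mem_erase.2 ⟨hi, Finset.mem_univ _⟩)))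
    conv_lhs => rw [hm]
    refine Ideal.span_le.2 ?_
    rintro _ ⟨i, rfl⟩
    by_cases hi : i = l
    · subst hi
      refine (Ideal.unit_mul_mem_iff_mem _ hunit).1 ?_
      rw [show algebraMap P L (t i) * w i = x - ∑ j ∈ Finset.univ.erase i, algebraMap P L (t j) * w j from
        eq_sub_of_add_eq (Finset.add_sum_erase _ (fun j => algebraMap P L (t j) * w j) (Finset.mem_univ i))]
      refine sub_mem (Submodule.mem_sup_right ?_) (Submodule.mem_sup_left ?_)
      · rwa [smul_eq_mul, ← pow_two]
      · exact Ideal.sum_mem _ fun j hj => Ideal.mul_mem_left _ _ (hoth j (Finset.ne_of_mem_erase hj))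
    · exact Submodule.mem_sup_left (hoth i hi)
  haveI : IsNoetherianRing L := IsLocalization.isNoetherianRing Q.primeCompl L inferInstance
  have hle2 : IsLocalRing.maximalIdeal L ≤ Ideal.span (S : Set L) :=
    Submodule.le_of_le_smul_of_le_jacobson_bot (IsNoetherian.noetherian _) (IsLocalRing.maximalIdeal_le_jacobson _) hle
  have heq : IsLocalRing.maximalIdeal L = Ideal.span (S : Set L) := le_antisymm hle2 (Ideal.span_le.2 fun y hy => by
    obtain ⟨i, -, rfl⟩ := Finset.mem_image.1 (Finset.mem_coe.1 hy)
    exact hwm i)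
  have h1 : (ringKrullDim L) ≤ ((c - 1 : ℕ) : WithBot ℕ∞) := by
    rw [← IsLocalRing.maximalIdeal_height_eq_ringKrullDim]
    have h := (IsLocalRing.maximalIdeal L).height_le_spanFinrank (IsLocalRing.maximalIdeal.isMaximal L).ne_top
    have hc : (IsLocalRing.maximalIdeal L).spanFinrank ≤ c - 1 := by
      rw [heq]
      refine (Submodule.spanFinrank_span_le_ncard_of_finite S.finite_toSet).trans ?_
      rw [Set.ncard_coe_finset]
      exact Finset.card_image_le.trans (by rw [Finset.card_erase_of_mem (Finset.mem_univ l)]; simp)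
    exact WithBot.coe_le_coe.2 (h.trans (by exact_mod_cast hc))
  have h2 : (c : ℕ) ≤ c - 1 := by exact_mod_cast hdim.trans h1
  have := l.2
  omega

theorem jac_injective [IsReduced B] (hφ : Function.Surjective φ)
    (ha : RingTheory.Sequence.IsRegular (MvPolynomial (Fin r) k) (List.ofFn a))
    (hker : RingHom.ker φ.toRingHom = Ideal.span (Set.range a)) :
    Function.Injective (Fintype.linearCombination B (jac φ a)) := by
  rw [← LinearMap.ker_eq_bot, Submodule.eq_bot_iff]
  intro v hv
  funext l
  have h : v l ∈ sInf (minimalPrimes B) := Submodule.mem_sInf.2 fun q hq =>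
    mem_minimal_of_jac φ a hφ ha hker v (fun j => by
      have h := congrFun (LinearMap.mem_ker.1 hv) j
      simpa [Fintype.linearCombination_apply, Finset.sum_apply] using h) l q hq
  rw [show minimalPrimes B = (⊥ : Ideal B).minimalPrimes from rfl, Ideal.sInf_minimalPrimes] at h
  exact IsNilpotent.eq_zero (mem_nilradical.1 h)

theorem exists_presentation (hφ : Function.Surjective φ)
    (hker : RingHom.ker φ.toRingHom = Ideal.span (Set.range a)) :
    ∃ π : (Fin r → B) →ₗ[B] KaehlerDifferential k B, Function.Surjective π ∧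
      LinearMap.ker π = LinearMap.range (Fintype.linearCombination B (jac φ a)) := by
  classical
  letI : Algebra (MvPolynomial (Fin r) k) B := φ.toRingHom.toAlgebra
  haveI : IsScalarTower k (MvPolynomial (Fin r) k) B := IsScalarTower.of_algebraMap_eq fun x => (φ.commutes x).symm
  let π : (Fin r → B) →ₗ[B] KaehlerDifferential k B :=
    Fintype.linearCombination B fun j => KaehlerDifferential.D k B (φ (MvPolynomial.X j))
  let grad : MvPolynomial (Fin r) k → Fin r → B := fun z j => φ (MvPolynomial.pderiv j z)
  let C' := (Fin r → B) ⧸ LinearMap.range (Fintype.linearCombination B (jac φ a))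
  let δ0 : MvPolynomial (Fin r) k → C' := fun z => Submodule.Quotient.mk (grad z)
  let δ : Derivation k (MvPolynomial (Fin r) k) C' :=
    ((((LinearMap.range (Fintype.linearCombination B (jac φ a))).mkQ).restrictScalars _).comp
      (LinearMap.pi fun j => (Algebra.linearMap (MvPolynomial (Fin r) k) B).comp (LinearMap.proj j))).compDer
        (gradDer k r)
  have hδ : ∀ z, δ z = δ0 z := fun z => by
    show Submodule.Quotient.mk _ = Submodule.Quotient.mk _
    congr 1
    funext j
    show φ (gradDer k r z j) = φ _
    rw [gradDer_apply]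
  have hzero : ∀ z ∈ Ideal.span (Set.range a), δ z = 0 := fun z hz => by
    obtain ⟨b, rfl⟩ := (Ideal.mem_span_range_iff_exists_fun).1 hz
    rw [map_sum]
    refine Finset.sum_eq_zero fun i _ => ?_
    have h0 : δ (a i) = 0 := (hδ _).trans ((Submodule.Quotient.mk_eq_zero _).2
      ⟨Pi.single i 1, by rw [Fintype.linearCombination_apply_single, one_smul]; rfl⟩)
    rw [Derivation.leibniz, h0, smul_zero, zero_add, ← algebraMap_smul B (a i) (δ (b i)),
      show algebraMap (MvPolynomial (Fin r) k) B (a i) = 0 from RingHom.mem_ker.1 (hker.ge (Ideal.subset_span ⟨i, rfl⟩))]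
    exact zero_smul B (δ (b i))
  have hwd : ∀ z z', φ z = φ z' → δ z = δ z' := fun z z' h => by
    rw [← sub_eq_zero, ← map_sub]
    exact hzero _ (hker.le (by rw [RingHom.mem_ker]; show φ (z - z') = 0; rw [map_sub, h, sub_self]))
  let s : B → MvPolynomial (Fin r) k := Function.surjInv hφ
  have hs : ∀ z, φ (s z) = z := Function.surjInv_eq _
  let D0 : Derivation k B C' :=
    { toFun := fun z => δ (s z)
      map_add' := fun z w => by rw [← map_add]; exact hwd _ _ (by rw [map_add, hs, hs, hs])
      map_smul' := fun b z => by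
        rw [RingHom.id_apply, ← Derivation.map_smul]
        exact hwd _ _ (by rw [hs, map_smul, hs])
      map_one_eq_zero' := (hwd (s 1) 1 (by rw [hs, map_one])).trans δ.map_one_eq_zero
      leibniz' := fun z w => by
        show δ (s (z * w)) = z • δ (s w) + w • δ (s z)
        rw [hwd (s (z * w)) (s z * s w) (by rw [map_mul, hs, hs, hs]), Derivation.leibniz,
          ← algebraMap_smul B (s z) (δ (s w)), ← algebraMap_smul B (s w) (δ (s z))]
        show φ (s z) • _ + φ (s w) • _ = _
        rw [hs, hs] }
  have hd : ∀ z, KaehlerDifferential.D k B (φ z) = π (grad z) := fun z => by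
    refine (derivation_eq_sum ((KaehlerDifferential.D k B).compAlgebraMap (MvPolynomial (Fin r) k)) z).trans ?_
    rw [Fintype.linearCombination_apply]
    refine Finset.sum_congr rfl fun j _ => ?_
    show MvPolynomial.pderiv j z • KaehlerDifferential.D k B (φ (MvPolynomial.X j)) = _
    exact (algebraMap_smul B (MvPolynomial.pderiv j z) _).symm
  refine ⟨π, ?_, le_antisymm ?_ ?_⟩
  · rw [← LinearMap.range_eq_top, eq_top_iff, ← KaehlerDifferential.span_range_derivation, Submodule.span_le]
    rintro _ ⟨z, rfl⟩
    rw [← hs z]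
    exact ⟨_, (hd _).symm⟩
  · have hcomp : D0.liftKaehlerDifferential.comp π = (LinearMap.range (Fintype.linearCombination B (jac φ a))).mkQ := by
      refine (Pi.basisFun B (Fin r)).ext fun i => ?_
      rw [LinearMap.comp_apply, Pi.basisFun_apply, Fintype.linearCombination_apply_single, map_smul, one_smul,
        Derivation.liftKaehlerDifferential_comp_D]
      refine (hwd _ _ (hs (φ (MvPolynomial.X i)))).trans ((hδ _).trans ?_)
      show Submodule.Quotient.mk _ = Submodule.Quotient.mk _
      congr 1
      funext j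
      show φ _ = _
      by_cases hij : i = j
      · subst hij; simp
      · simp [MvPolynomial.pderiv_X_of_ne hij, Pi.single_eq_of_ne (Ne.symm hij)]
    intro v hv
    rw [← Submodule.ker_mkQ (LinearMap.range _), LinearMap.mem_ker, ← hcomp, LinearMap.comp_apply,
      LinearMap.mem_ker.1 hv, map_zero]
  · rintro _ ⟨v, rfl⟩
    rw [LinearMap.mem_ker, Fintype.linearCombination_apply B (jac φ a) v, map_sum]
    refine Finset.sum_eq_zero fun i _ => ?_
    rw [map_smul, show jac φ a i = grad (a i) from rfl, ← hd,
      show φ (a i) = 0 from RingHom.mem_ker.1 (hker.ge (Ideal.subset_span ⟨i, rfl⟩)), map_zero, smul_zero]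

end


theorem fitt_ext_one {R : Type u} [CommRing R] {Ω : Type u} [AddCommGroup Ω] [Module R Ω] {c r : ℕ}
    (u : (Fin c → R) →ₗ[R] (Fin r → R)) (π : (Fin r → R) →ₗ[R] Ω) (hu : Function.Injective u)
    (hπ : Function.Surjective π) (hker : LinearMap.ker π = LinearMap.range u) :
    Fitt.ideal R (Abelian.Ext.{u} (ModuleCat.of R Ω) (ModuleCat.of R R) 1) 0 =
      Groth.Misc3Fitt.minors (Submodule.span R (Set.range fun j i => u (Pi.single i 1) j)) c := by
  classical
  let Q := ModuleCat.of R R
  let F := ModuleCat.of R (Fin r → R)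
  let G := ModuleCat.of R (Fin c → R)
  haveI : Projective F := ModuleCat.projective_of_free (Pi.basisFun R (Fin r))
  let S : ShortComplex (ModuleCat.{u} R) := ShortComplex.mk (ModuleCat.ofHom u) (ModuleCat.ofHom π)
    (ModuleCat.hom_ext (LinearMap.ext fun z => LinearMap.mem_ker.1 (hker.ge ⟨z, rfl⟩)))
  have hS : S.ShortExact :=
    { exact := (ShortComplex.ShortExact.moduleCat_exact_iff_function_exact _).2 (LinearMap.exact_iff.2 hker)
      mono_f := (ModuleCat.mono_iff_injective _).2 hu
      epi_g := (ModuleCat.epi_iff_surjective _).2 hπ }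
  let Z : (G ⟶ Q) → Abelian.Ext (ModuleCat.of R Ω) Q 1 := fun g => hS.extClass.comp (Abelian.Ext.mk₀ g) (add_zero 1)
  let x : Fin c → Abelian.Ext (ModuleCat.of R Ω) Q 1 := fun i => Z (ModuleCat.ofHom (LinearMap.proj i))
  have hZ : ∀ w : Fin c → R, ∑ i, w i • x i = Z (∑ i, w i • ModuleCat.ofHom (LinearMap.proj i)) := fun w => by
    refine Eq.trans ?_ (map_sum (AddMonoidHom.mk' Z fun g g' => by
      show hS.extClass.comp _ _ = hS.extClass.comp _ _ + hS.extClass.comp _ _
      rw [Abelian.Ext.mk₀_add, Abelian.Ext.comp_add]) _ _).symm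
    refine Finset.sum_congr rfl fun i _ => ?_
    exact (Abelian.Ext.comp_smul _ _ _ (w i)).symm.trans
      (congrArg (fun y => hS.extClass.comp y (add_zero 1)) (Abelian.Ext.mk₀_smul (w i) (ModuleCat.ofHom (LinearMap.proj i) : G ⟶ Q)).symm)
  have hhom : ∀ g : G ⟶ Q, g = ∑ i, g.hom (Pi.single i 1) • ModuleCat.ofHom (LinearMap.proj i) := fun g => by
    apply ModuleCat.hom_ext
    rw [ModuleCat.hom_sum]
    refine (Pi.basisFun R (Fin c)).ext fun j => ?_
    rw [Pi.basisFun_apply, LinearMap.sum_apply]
    simp [Pi.single_apply]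
  have hspan : Submodule.span R (Set.range x) = ⊤ := by
    haveI := Abelian.Ext.subsingleton_of_projective F Q 0
    refine eq_top_iff.2 fun e _ => ?_
    obtain ⟨y, rfl⟩ := Abelian.Ext.contravariant_sequence_exact₃ hS Q e (Subsingleton.elim _ _) (rfl : 1 + 0 = 1)
    obtain ⟨g, rfl⟩ := (Abelian.Ext.mk₀_bijective _ _).2 y
    exact (Submodule.mem_span_range_iff_exists_fun R).2 ⟨fun i => g.hom (Pi.single i 1), (hZ _).trans (by rw [← hhom g])⟩
  rw [Groth.Misc3Fitt.ideal_eq_fitt x hspan 0, Groth.Misc3Fitt.fitt, Nat.sub_zero]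
  congr 1
  ext w
  rw [Groth.Misc3Fitt.mem_rel, hZ, Submodule.mem_span_range_iff_exists_fun]
  constructor
  · intro h
    obtain ⟨ψ', hψ⟩ := Abelian.Ext.contravariant_sequence_exact₁ hS Q _ (rfl : 1 + 0 = 1) h
    obtain ⟨ψ, rfl⟩ := (Abelian.Ext.mk₀_bijective _ _).2 ψ'
    rw [Abelian.Ext.mk₀_comp_mk₀] at hψ
    have h1 := (Abelian.Ext.mk₀_bijective _ _).1 hψ
    refine ⟨fun j => ψ.hom (Pi.single j 1), funext fun i => ?_⟩
    have h2 := congrArg (fun g : G ⟶ Q => g.hom (Pi.single i 1)) h1
    simp only [ModuleCat.hom_sum, LinearMap.sum_apply] at h2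
    have h3 : ψ.hom (u (Pi.single i 1)) = w i := h2.trans ((Finset.sum_eq_single i (fun d _ hd => by
      show w d * (Pi.single i (1 : R) : Fin c → R) d = 0
      rw [Pi.single_eq_of_ne hd, mul_zero]) (fun h => absurd (Finset.mem_univ i) h)).trans (by
      show w i * (Pi.single i (1 : R) : Fin c → R) i = w i
      rw [Pi.single_eq_same, mul_one]))
    rw [← h3, Finset.sum_apply, pi_eq_sum_univ' (u (Pi.single i 1)), map_sum]
    refine Finset.sum_congr rfl fun j _ => ?_
    rw [Pi.smul_apply, map_smul, smul_eq_mul, smul_eq_mul, mul_comm]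
  · rintro ⟨y, hy⟩
    let ψ : F ⟶ Q := ModuleCat.ofHom (Fintype.linearCombination R y)
    have h1 : ModuleCat.ofHom u ≫ ψ = ∑ i, w i • ModuleCat.ofHom (LinearMap.proj i) := by
      apply ModuleCat.hom_ext
      rw [ModuleCat.hom_sum]
      refine (Pi.basisFun R (Fin c)).ext fun i => ?_
      rw [Pi.basisFun_apply, LinearMap.sum_apply]
      show Fintype.linearCombination R y (u (Pi.single i 1)) = _
      rw [Fintype.linearCombination_apply, ← hy]
      simp [Pi.single_apply, Finset.sum_apply, mul_comm]
    show hS.extClass.comp _ _ = 0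
    rw [← h1, ← Abelian.Ext.mk₀_comp_mk₀]
    exact hS.extClass_comp_assoc _

theorem minors_span_transpose {R : Type u} [CommRing R] {c r : ℕ} (J : Fin c → Fin r → R) :
    Groth.Misc3Fitt.minors (Submodule.span R (Set.range J)) c =
      Groth.Misc3Fitt.minors (Submodule.span R (Set.range fun j i => J i j)) c := by
  rw [Groth.Misc3Fitt.minors_span_eq, Groth.Misc3Fitt.minors_span_eq]
  refine le_antisymm (Ideal.span_le.2 ?_) (Ideal.span_le.2 ?_)
  · rintro _ ⟨z, e, hz, rfl⟩
    choose σ hσ using hz
    refine Ideal.subset_span ⟨fun b i => J i (e b), σ, fun b => ⟨e b, rfl⟩, ?_⟩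
    rw [← Groth.Misc3Fitt.minor_transpose]
    show Matrix.det _ = Matrix.det _
    congr 1
    ext x y
    simp [← hσ]
  · rintro _ ⟨z, e, hz, rfl⟩
    choose σ hσ using hz
    refine Ideal.subset_span ⟨fun b => J (e b), σ, fun b => ⟨e b, rfl⟩, ?_⟩
    rw [← Groth.Misc3Fitt.minor_transpose]
    show Matrix.det _ = Matrix.det _
    congr 1
    ext x y
    simp [← hσ]

/-- Let k be an algebraically closed field and let B be a reduced k-algebra presented as k[T_1, …,
T_r]/(a_1, …, a_c) with a_1, …, a_c a regular sequence in the polynomial ring, so that Spec B is a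
reduced complete intersection of dimension d = r - c. Then the d-th Fitting ideal of Ω_{B/k} equals
the 0-th Fitting ideal of the B-module T^1 = Ext^1_B(Ω_{B/k}, B). (The source states the equality
Fitt_d of the formal sheaf of differentials = Fitt_0 of T^1 for a flat morphism 𝔛 → Spf k[[t]] of
locally Noetherian formal schemes that is a local complete intersection of relative dimension d and
has reduced closed fibre, and obtains it on affine charts from a two-term free resolution of the
differentials given by the conormal sequence; stated here is that chart computation on the closed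
fibre, for a global complete intersection in affine r-space.) -/
theorem result
    (k : Type u) [Field k] [IsAlgClosed k] (r c : ℕ)
    (B : Type u) [CommRing B] [Algebra k B] [IsReduced B]
    (φ : MvPolynomial (Fin r) k →ₐ[k] B) (hφ : Function.Surjective φ)
    (a : Fin c → MvPolynomial (Fin r) k)
    (ha : RingTheory.Sequence.IsRegular (MvPolynomial (Fin r) k) (List.ofFn a))
    (hker : RingHom.ker φ.toRingHom = Ideal.span (Set.range a)) :
    Fitt.ideal B (KaehlerDifferential k B) (r - c) =
      Fitt.ideal B (Abelian.Ext.{u} (ModuleCat.of B (KaehlerDifferential k B)) (ModuleCat.of B B) 1) 0 := by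
  classical
  obtain ⟨π, hπ, hk⟩ := exists_presentation φ a hφ hker
  have hinj := jac_injective φ a hφ ha hker
  rw [fitt_ext_one (Fintype.linearCombination B (jac φ a)) π hinj hπ hk]
  have hcr : c ≤ r := by
    rcases subsingleton_or_nontrivial B with hB | hB
    · exfalso
      refine ha.top_ne_smul ?_
      have h1 : φ 1 = 0 := Subsingleton.elim _ _
      have h2 : (1 : MvPolynomial (Fin r) k) ∈ Ideal.span (Set.range a) := hker.le (RingHom.mem_ker.2 h1)
      rw [← Ideal.eq_top_iff_one] at h2
      rw [show Ideal.ofList (List.ofFn a) = Ideal.span (Set.range a) by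
        rw [Ideal.ofList]; congr 1; ext z; simp [List.mem_ofFn], h2, Submodule.top_smul]
    · simpa using card_le_of_injective B _ hinj
  let x : Fin r → KaehlerDifferential k B := fun j => π (Pi.single j 1)
  have hlc : Fintype.linearCombination B x = π := (Pi.basisFun B (Fin r)).ext fun j => by
    rw [Pi.basisFun_apply, Fintype.linearCombination_apply_single, one_smul]
  have hx : Submodule.span B (Set.range x) = ⊤ := by
    rw [← Fintype.range_linearCombination, hlc, LinearMap.range_eq_top.2 hπ]
  rw [Groth.Misc3Fitt.ideal_eq_fitt x hx, Groth.Misc3Fitt.fitt, Groth.Misc3Fitt.rel, hlc, hk,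
    Fintype.range_linearCombination, Nat.sub_sub_self hcr, minors_span_transpose]
  simp only [Fintype.linearCombination_apply_single, one_smul]

end Groth.Agent.S16187
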