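import Groth.Statements.S16188
import Groth.Agent.PropsBasic2.Reduced

set_option autoImplicit false
universe u
open CategoryTheory AlgebraicGeometry TopologicalSpace
open SchMor

namespace Groth.Agent.S16188

/-- Let f : X → Y be a morphism of schemes with X reduced and irreducible. Then f factors through an
irreducible component of Y carrying its reduced closed-subscheme structure: there are an irreducible
component Z of Y and a morphism g from X to the closed subscheme of Y cut out by the vanishing ideal
sheaf of Z with g followed by the inclusion equal to f; that closed subscheme is integral. -/
theorem result
    {X Y : Scheme.{u}} (f : X ⟶ Y) [IsReduced X] [IrreducibleSpace X] :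
    ∃ (Z : Closeds Y) (_ : (Z : Set Y) ∈ irreducibleComponents Y)
      (_ : IsIntegral (Scheme.IdealSheafData.vanishingIdeal Z).subscheme)
      (g : X ⟶ (Scheme.IdealSheafData.vanishingIdeal Z).subscheme),
      g ≫ (Scheme.IdealSheafData.vanishingIdeal Z).subschemeι = f := by
  exact Groth.PropsBasic2.exists_factor_irreducibleComponent f

end Groth.Agent.S16188
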