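import Groth.Statements.S16190
import Groth.Agent.Smoothing16186.Spread
import Groth.Agent.SurfNum.Regular
import Groth.Agent.Calg1.CompletionLocal
import Groth.Agent.Calg4.CompletionPowerSeries
import Groth.Agent.Cycles.CurveDegree
import Groth.Agent.S12630
import Groth.Agent.SGA7.DefSchGlue

set_option autoImplicit false
universe u
open CategoryTheory CategoryTheory.Limits AlgebraicGeometry
open Deform

namespace Groth.Agent.S16190

open IsLocalRing in
/-- A power series parameter at a rational point of a smooth curve. -/
theorem exists_trait {k : Type u} [Field k] (C : Scheme.{u}) (qC : C ⟶ Spec (CommRingCat.of k))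
    (c : Spec (CommRingCat.of k) ⟶ C) (hc : c ≫ qC = 𝟙 _) [IsIntegral C] [Smooth qC]
    (hC : topologicalKrullDim C = 1) :
    ∃ h : Spec (CommRingCat.of (PowerSeries k)) ⟶ C,
      Spec.map (CommRingCat.ofHom (PowerSeries.constantCoeff (R := k))) ≫ h = c ∧
        h (⟨⊥, Ideal.isPrime_bot⟩ : PrimeSpectrum (PowerSeries k)) = genericPoint C := by
  let pt := c (closedPoint k)
  let O := C.presheaf.stalk pt
  haveI : IsLocallyNoetherian C := LocallyOfFiniteType.isLocallyNoetherian qC
  haveI : LocallyOfFiniteType (c ≫ qC) := by rw [hc]; infer_instance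
  haveI : LocallyOfFiniteType c := locallyOfFiniteType_of_comp c qC
  haveI : JacobsonSpace C := LocallyOfFiniteType.jacobsonSpace qC
  have hpt : IsClosed ({pt} : Set C) := by
    refine c.closePoints_subset_preimage_closedPoints ?_
    exact (PrimeSpectrum.isClosed_singleton_iff_isMaximal (R := k) (closedPoint k)).2 inferInstance
  haveI : IsNoetherianRing O := inferInstance
  letI : C.Over (Spec (CommRingCat.of k)) := ⟨qC⟩
  haveI : Smooth (C ↘ Spec (CommRingCat.of k)) := ‹Smooth qC›
  haveI hreg : IsRegularLocalRing O := Groth.SurfNum.isRegularLocalRing_stalk k pt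
  have hdim : ringKrullDim O = 1 := Groth.Cycles.ringKrullDim_stalk_closed qC hC pt hpt
  obtain ⟨_, hdvr⟩ := (Groth.Calg1.isDVR_iff_regular_dim_one O).2 ⟨hreg, hdim⟩
  let ρ : O →+* k := (Scheme.stalkClosedPointTo c).hom
  let j : k →+* O := (Spec.preimage (C.fromSpecStalk pt ≫ qC)).hom
  have hρj : ρ.comp j = RingHom.id k := by
    have e : Scheme.stalkClosedPointTo c ≫ 𝟙 _ = Scheme.stalkClosedPointTo c := Category.comp_id _
    have h1 : Spec.map (Spec.preimage (C.fromSpecStalk pt ≫ qC) ≫ Scheme.stalkClosedPointTo c) = Spec.map (𝟙 _) := by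
      rw [Spec.map_comp, Spec.map_preimage, Scheme.Spec_stalkClosedPointTo_fromSpecStalk_assoc, hc, Spec.map_id]
    exact congrArg CommRingCat.Hom.hom (Spec.map_injective h1)
  have hρ : RingHom.ker ρ = maximalIdeal O :=
    eq_maximalIdeal (RingHom.ker_isMaximal_of_surjective ρ fun r => ⟨j r, RingHom.congr_fun hρj r⟩)
  let K := AdicCompletion (maximalIdeal O) O
  haveI : IsNoetherianRing K := Groth.Calg1.isNoetherianRing_adicCompletion _ (IsNoetherian.noetherian _)
  obtain ⟨_, hKdvr⟩ := (Groth.Calg1.isDVR_iff_adicCompletion O).1 ⟨inferInstance, hdvr⟩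
  haveI : IsAdicComplete (maximalIdeal K) K := by
    rw [AdicCompletion.maximalIdeal_eq_map]
    exact AdicCompletion.isAdicComplete_self _ (maximalIdeal O).fg_of_isNoetherianRing
  letI : Algebra k K := ((algebraMap O K).comp j).toAlgebra
  have hloc : ∀ o ∈ maximalIdeal O, algebraMap O K o ∈ maximalIdeal K := fun o ho => by
    rw [AdicCompletion.maximalIdeal_eq_map]; exact Ideal.mem_map_of_mem _ ho
  have hK : Function.Bijective (algebraMap k (ResidueField K)) := by
    refine ⟨(algebraMap k (ResidueField K)).injective, fun z => ?_⟩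
    obtain ⟨b, rfl⟩ := residue_surjective (R := K) z
    obtain ⟨a, ha⟩ := Groth.Calg4.CompletionPS.exists_sub_mem_pow O 1 b
    rw [pow_one] at ha
    refine ⟨ρ a, (Ideal.Quotient.eq.2 ?_).symm⟩
    have hd : a - j (ρ a) ∈ maximalIdeal O := by
      rw [← hρ, RingHom.mem_ker, map_sub]
      exact sub_eq_zero.2 (RingHom.congr_fun hρj (ρ a)).symm
    have := (maximalIdeal K).add_mem ha (hloc _ hd)
    rwa [map_sub, sub_add_sub_cancel] at this
  obtain ⟨π, hπ⟩ := IsDiscreteValuationRing.exists_irreducible K
  obtain ⟨e, -⟩ := Groth.Agent.S12630.result k K hK π hπ.maximalIdeal_eq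
  let ψ : O →+* PowerSeries k := e.symm.toRingEquiv.toRingHom.comp (algebraMap O K)
  refine ⟨Spec.map (CommRingCat.ofHom ψ) ≫ C.fromSpecStalk pt, ?_, ?_⟩
  · have hcψ : (PowerSeries.constantCoeff (R := k)).comp ψ = ρ := by
      refine RingHom.ext fun o => ?_
      have hd : o - j (ρ o) ∈ maximalIdeal O := by
        rw [← hρ, RingHom.mem_ker, map_sub]
        exact sub_eq_zero.2 (RingHom.congr_fun hρj (ρ o)).symm
      have h1 : ψ (j (ρ o)) = PowerSeries.C (ρ o) := e.symm.commutes (ρ o)
      have h2 : PowerSeries.constantCoeff (ψ (o - j (ρ o))) = 0 := by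
        have hm : ψ (o - j (ρ o)) ∈ maximalIdeal (PowerSeries k) := fun hu =>
          hloc _ hd (by
            have h3 := hu.map e.toRingEquiv.toRingHom
            rwa [show e.toRingEquiv.toRingHom (ψ (o - j (ρ o))) = algebraMap O K (o - j (ρ o)) from e.apply_symm_apply _] at h3)
        rw [PowerSeries.maximalIdeal_eq_span_X, Ideal.mem_span_singleton, PowerSeries.X_dvd_iff] at hm
        exact hm
      rw [map_sub, map_sub, h1, PowerSeries.constantCoeff_C, sub_eq_zero] at h2
      exact h2
    rw [← Category.assoc, ← Spec.map_comp, ← CommRingCat.ofHom_comp, hcψ]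
    exact Scheme.Spec_stalkClosedPointTo_fromSpecStalk c
  · have hinj : Function.Injective ψ := e.symm.injective.comp (AdicCompletion.of_injective (maximalIdeal O) O)
    rw [Scheme.Hom.comp_apply]
    obtain ⟨q, hq⟩ : genericPoint C ∈ Set.range (C.fromSpecStalk pt) := by
      rw [Scheme.range_fromSpecStalk]; exact genericPoint_specializes pt
    have h0 : (Spec.map (CommRingCat.ofHom ψ)) (⟨⊥, Ideal.isPrime_bot⟩ : PrimeSpectrum (PowerSeries k)) ⤳ q :=
      (PrimeSpectrum.le_iff_specializes (R := O) _ q).1 (by
        change Ideal.comap ψ ⊥ ≤ _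
        rw [← RingHom.ker_eq_comap_bot, (RingHom.injective_iff_ker_eq_bot ψ).1 hinj]
        exact bot_le)
    exact ((h0.map (C.fromSpecStalk pt).continuous).antisymm (hq.symm ▸ genericPoint_specializes _)).eq.trans hq

/-- Let k be an algebraically closed field and let X have a geometric smoothing, i.e. there are an
integral k-scheme C smooth of dimension one over k, a k-rational point c of C and a flat proper
morphism π : Y → C whose fibre over c is X (as a k-scheme) and whose fibre over the generic point of
C is smooth. Then X has a smoothing over Spec k[[t]]: a flat proper morphism P → Spec k[[t]] with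
closed fibre X over k and smooth generic fibre P ⊗ Frac k[[t]]. (The published lemma concludes that
X, assumed projective and equidimensional, is formally smoothable; its proof builds exactly this
family over the completed local ring of C at c, identified with k[[t]], and then appeals to a
criterion equating smoothings over a discrete valuation ring with formal smoothings, which is not
restated; the hypotheses on X are not used in the step stated.) -/
theorem result
    (k : Type u) [Field k] [IsAlgClosed k]
    (X : Scheme.{u}) (pX : X ⟶ Spec (CommRingCat.of k))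
    (C : Scheme.{u}) (qC : C ⟶ Spec (CommRingCat.of k)) (c : Spec (CommRingCat.of k) ⟶ C)
    (hc : c ≫ qC = 𝟙 (Spec (CommRingCat.of k))) [IsIntegral C] [Smooth qC]
    (hC : topologicalKrullDim C = 1)
    (Y : Scheme.{u}) (π : Y ⟶ C) [Flat π] [IsProper π] (j : X ⟶ Y) (hsq : IsPullback j pX π c)
    (hgen : Smooth (π.fiberToSpecResidueField (genericPoint C))) :
    ∃ (P : Scheme.{u}) (p : P ⟶ Spec (CommRingCat.of (PowerSeries k))) (_ : Flat p) (_ : IsProper p)
      (i : X ⟶ P),
      IsPullback i pX p (Spec.map (CommRingCat.ofHom (PowerSeries.constantCoeff (R := k)))) ∧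
      Smooth (pullback.snd p
        (Spec.map (CommRingCat.ofHom (algebraMap (PowerSeries k) (FractionRing (PowerSeries k)))))) := by
  obtain ⟨h, hhc, hhη⟩ := exists_trait C qC c hc hC
  refine ⟨pullback π h, pullback.snd π h, inferInstance, inferInstance,
    pullback.lift j (pX ≫ Spec.map (CommRingCat.ofHom (PowerSeries.constantCoeff (R := k))))
      (by rw [Category.assoc, hhc]; exact hsq.w),
    IsPullback.of_right (by rw [pullback.lift_fst, hhc]; exact hsq) (pullback.lift_snd _ _ _)
      (IsPullback.of_hasPullback π h), ?_⟩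
  let f := pullback.snd (pullback.snd π h)
    (Spec.map (CommRingCat.ofHom (algebraMap (PowerSeries k) (FractionRing (PowerSeries k)))))
  haveI : IsLocallyNoetherian C := LocallyOfFiniteType.isLocallyNoetherian qC
  haveI : LocallyOfFinitePresentation π := Groth.Variety2.locallyOfFinitePresentation_of_noetherian π
  rw [← Scheme.Hom.smoothLocus_eq_top_iff]
  refine top_le_iff.1 fun z _ => ?_
  have hp := (IsPullback.of_hasPullback (pullback.snd π h)
    (Spec.map (CommRingCat.ofHom (algebraMap (PowerSeries k) (FractionRing (PowerSeries k)))))).paste_horiz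
      (IsPullback.of_hasPullback π h)
  have hsf : Groth.CMMor.IsSmoothFibreAt f z := by
    refine (Groth.CMMor.isSmoothFibreAt_baseChange_iff _ _ _ _ hp z).2 ?_
    refine (Groth.Smoothing16186.smooth_fiber_iff π _).1 hgen _ ?_
    rw [← Scheme.Hom.comp_apply, hp.w, Scheme.Hom.comp_apply, Scheme.Hom.comp_apply]
    refine (congrArg h ?_).trans hhη
    refine PrimeSpectrum.ext ?_
    change Ideal.comap (algebraMap (PowerSeries k) (FractionRing (PowerSeries k))) (PrimeSpectrum.asIdeal _) = ⊥
    rw [((Ideal.eq_bot_or_top _).resolve_right (PrimeSpectrum.isPrime _).ne_top :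
      PrimeSpectrum.asIdeal (R := FractionRing (PowerSeries k)) (f z) = ⊥), ← RingHom.ker_eq_comap_bot]
    exact (RingHom.injective_iff_ker_eq_bot _).1 (IsFractionRing.injective _ _)
  haveI : Flat ((Spec (CommRingCat.of (FractionRing (PowerSeries k)))).fromSpecResidueField (f z)) :=
    Groth.SGA7Def.flat_of_field _
  have h1 := Groth.PropsBasic.Loci.mem_smoothLocus_of_flat
    (IsPullback.of_hasPullback f ((Spec (CommRingCat.of (FractionRing (PowerSeries k)))).fromSpecResidueField (f z))) hsf
  rwa [show pullback.fst f _ (f.asFiber z) = z from f.fiberι_asFiber z] at h1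

end Groth.Agent.S16190
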