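import Groth.Statements.S18126
import Groth.Agent.Syntomic.CotangentProj
import Groth.Agent.Gorenstein.LCI
import Groth.Agent.GrMod.Veronese.Gorenstein
import Groth.Agent.GrMod.Hilbert
import Groth.Agent.Calg1.AssTensor

set_option autoImplicit false
set_option linter.style.haveILetI false
set_option backward.isDefEq.respectTransparency false
universe u
open Deform

namespace Groth.Agent.S18126

section Aux

open TensorProduct

/-- An associated prime of a flat algebra with Cohen–Macaulay fibres is minimal in its fibre. -/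
theorem eq_of_le_of_mem_associatedPrimes {A P : Type u} [CommRing A] [IsNoetherianRing A] [CommRing P]
    [Algebra A P] [IsNoetherianRing P] [Module.Flat A P]
    (hCM : ∀ (p : Ideal A) [p.IsPrime], LocCoh.IsCohenMacaulayRing (p.Fiber P))
    {Q : Ideal P} (hQ : Q ∈ associatedPrimes P P) (Q' : Ideal P) [Q'.IsPrime] (hle : Q' ≤ Q)
    (hcomap : Q'.comap (algebraMap A P) = Q.comap (algebraMap A P)) : Q' = Q := by
  classical
  have h := Groth.Calg1.associatedPrimes_tensor (R := A) (S := P) (N := P) A
  rw [LinearEquiv.AssociatedPrimes.eq (AlgebraTensorModule.rid A P P)] at h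
  rw [h, Set.mem_iUnion₂] at hQ
  obtain ⟨p, hp, hQp⟩ := hQ
  haveI := hp.isPrime
  haveI := hQp.isPrime
  haveI := hCM p
  let I : Ideal P := p.map (algebraMap A P)
  have hI : I • (⊤ : Submodule P P) = I := by rw [smul_eq_mul, Ideal.mul_top]
  obtain ⟨hQprime, x, hx⟩ := (isAssociatedPrime_iff_exists_injective_linearMap _ _).1 hQp
  obtain ⟨b, hb⟩ := Submodule.Quotient.mk_surjective _ (x (Ideal.Quotient.mk Q 1))
  have hann : ∀ c : P, c ∈ Q ↔ c * b ∈ I := by
    intro c
    have e : x (Ideal.Quotient.mk Q c) = Submodule.Quotient.mk (c * b) := by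
      rw [show Ideal.Quotient.mk Q c = c • Ideal.Quotient.mk Q 1 by
        rw [Algebra.smul_def, Ideal.Quotient.algebraMap_eq, map_one, mul_one], map_smul, ← hb,
        ← Submodule.Quotient.mk_smul]
      rfl
    constructor
    · intro hc
      rw [Ideal.Quotient.eq_zero_iff_mem.2 hc, map_zero, eq_comm, Submodule.Quotient.mk_eq_zero, hI] at e
      exact e
    · intro hc
      refine Ideal.Quotient.eq_zero_iff_mem.1 (hx ?_)
      rw [map_zero, e, Submodule.Quotient.mk_eq_zero, hI]
      exact hc
  have hbI : b ∉ I := fun hb' => hQprime.ne_top ((Ideal.eq_top_iff_one Q).2 ((hann 1).2 (by rwa [one_mul])))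
  haveI : Module.Flat (A ⧸ p) ((A ⧸ p) ⊗[A] P) := inferInstance
  have htf : ∀ (a : A) (c : P), a ∉ p → algebraMap A P a * c ∈ I → c ∈ I := by
    intro a c ha hc
    have hne : Ideal.Quotient.mk p a ≠ 0 := fun h => ha (Ideal.Quotient.eq_zero_iff_mem.1 h)
    have hinj : Function.Injective (LinearMap.lsmul A (A ⧸ p) a) := by
      intro u v huv
      obtain ⟨u, rfl⟩ := Ideal.Quotient.mk_surjective u
      obtain ⟨v, rfl⟩ := Ideal.Quotient.mk_surjective v
      simp only [LinearMap.lsmul_apply, Algebra.smul_def, Ideal.Quotient.algebraMap_eq] at huv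
      exact mul_left_cancel₀ hne huv
    let e := (Algebra.TensorProduct.quotIdealMapEquivTensorQuot P p).toLinearEquiv.restrictScalars A
    have key := Module.Flat.lTensor_preserves_injective_linearMap (M := P) _ hinj
    rw [← Ideal.Quotient.eq_zero_iff_mem] at hc ⊢
    refine e.injective (key ?_)
    have hl : ∀ z : P ⊗[A] (A ⧸ p), LinearMap.lTensor P (LinearMap.lsmul A (A ⧸ p) a) z = a • z := by
      intro z
      induction z using TensorProduct.induction_on with
      | zero => simp
      | tmul q r => simp [TensorProduct.tmul_smul]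
      | add q r hq hr => simp only [map_add, smul_add, hq, hr]
    rw [hl, hl, ← map_smul e, map_zero, smul_zero]
    change e (a • Ideal.Quotient.mk I c) = 0
    rw [Algebra.smul_def, IsScalarTower.algebraMap_apply A P (P ⧸ I), Ideal.Quotient.algebraMap_eq, ← map_mul, hc,
      map_zero]
  have hQc : Q.comap (algebraMap A P) = p := by
    refine le_antisymm (fun a ha => ?_) (fun a ha => (hann _).2 (Ideal.mul_mem_right _ _ (Ideal.mem_map_of_mem _ ha)))
    by_contra hap
    exact hbI (htf a b hap ((hann _).1 ha))
  let ι : P →ₐ[A] p.Fiber P := Algebra.TensorProduct.includeRight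
  have hker : ∀ c : P, ι c = 0 ↔ c ∈ I := by
    intro c
    constructor
    · intro hc
      let g : p.Fiber P →ₗ[A] p.ResidueField ⊗[A] P := LinearMap.id
      have h1 : LinearMap.rTensor P (IsScalarTower.toAlgHom A (A ⧸ p) p.ResidueField).toLinearMap
          ((1 : A ⧸ p) ⊗ₜ[A] c) = 0 := by
        rw [LinearMap.rTensor_tmul]
        simpa [ι] using hc
      have h2 := Module.Flat.rTensor_preserves_injective_linearMap (M := P)
        (IsScalarTower.toAlgHom A (A ⧸ p) p.ResidueField).toLinearMap p.injective_algebraMap_quotient_residueField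
      have h3 : (1 : A ⧸ p) ⊗ₜ[A] c = 0 := h2 (h1.trans (map_zero _).symm)
      rw [← Ideal.Quotient.eq_zero_iff_mem]
      refine (Algebra.TensorProduct.quotIdealMapEquivTensorQuot P p).injective ?_
      rw [map_zero, Algebra.TensorProduct.quotIdealMapEquivTensorQuot_mk]
      have h4 := congrArg (TensorProduct.comm A (A ⧸ p) P) h3
      simpa using h4
    · intro hc
      have : I ≤ RingHom.ker ι.toRingHom := by
        rw [Ideal.map_le_iff_le_comap]
        intro a ha
        simp only [Ideal.mem_comap, RingHom.mem_ker, AlgHom.toRingHom_eq_coe, AlgHom.coe_toRingHom, AlgHom.commutes]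
        rw [IsScalarTower.algebraMap_apply A p.ResidueField (p.Fiber P), Ideal.algebraMap_residueField_eq_zero.mpr ha,
          map_zero]
      exact this hc
  have hrep : ∀ z : p.Fiber P, ∃ (v : p.Fiber P) (c : P), IsUnit v ∧ v * z = ι c := by
    intro z
    obtain ⟨r, hr, s, hs⟩ := Ideal.Fiber.exists_smul_eq_one_tmul p z
    refine ⟨algebraMap A _ r, s, ?_, by rw [← Algebra.smul_def]; exact hs⟩
    rw [IsScalarTower.algebraMap_apply A p.ResidueField (p.Fiber P)]
    exact (isUnit_iff_ne_zero.2 fun h => hr (Ideal.algebraMap_residueField_eq_zero.1 h)).map _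
  let y : p.Fiber P := ι b
  let J : Ideal (p.Fiber P) := LinearMap.ker (LinearMap.toSpanSingleton (p.Fiber P) (p.Fiber P) y)
  have hJ : ∀ c, ι c ∈ J ↔ c ∈ Q := fun c => by
    rw [hann, ← hker, map_mul]
    exact Iff.rfl
  have hJ' : ∀ z, z ∈ J → ∀ v, v * z ∈ J := fun z hz v => J.mul_mem_left v hz
  have hJprime : J.IsPrime := by
    refine ⟨fun h => hQprime.ne_top ((Ideal.eq_top_iff_one Q).2 ((hJ 1).1 (by rw [h]; trivial))), fun {f g} hfg => ?_⟩
    obtain ⟨v, c, hv, hc⟩ := hrep f
    obtain ⟨w, d, hw, hd⟩ := hrep g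
    have : c * d ∈ Q := (hJ _).1 (by
      rw [map_mul, ← hc, ← hd, show v * f * (w * g) = (v * w) * (f * g) by ring]
      exact J.mul_mem_left _ hfg)
    rcases hQprime.mem_or_mem this with h | h
    · exact Or.inl ((Ideal.unit_mul_mem_iff_mem J hv).1 (hc ▸ (hJ _).2 h))
    · exact Or.inr ((Ideal.unit_mul_mem_iff_mem J hw).1 (hd ▸ (hJ _).2 h))
  have hJass : J ∈ associatedPrimes (p.Fiber P) (p.Fiber P) := by
    refine (isAssociatedPrime_iff_exists_injective_linearMap _ _).2 ⟨hJprime,
      J.liftQ (LinearMap.toSpanSingleton (p.Fiber P) (p.Fiber P) y) le_rfl, ?_⟩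
    rw [← LinearMap.ker_eq_bot]
    exact Submodule.ker_liftQ_eq_bot _ _ _ le_rfl
  have hJmin := GrothGr.mem_minimalPrimes_of_mem_associatedPrimes_of_isCM hJass
  haveI : Q'.LiesOver p := ⟨by rw [Ideal.under_def, hcomap, hQc]⟩
  let Q'' : PrimeSpectrum (p.Fiber P) := PrimeSpectrum.primesOverOrderIsoFiber A P p ⟨Q', ‹_›, ‹_›⟩
  have hQ'' : Q''.asIdeal.comap Algebra.TensorProduct.includeRight = Q' := by
    rw [← PrimeSpectrum.coe_primesOverOrderIsoFiber_symm_apply]
    exact congrArg Subtype.val ((PrimeSpectrum.primesOverOrderIsoFiber A P p).symm_apply_apply _)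
  have hleJ : Q''.asIdeal ≤ J := by
    intro z hz
    obtain ⟨v, c, hv, hc⟩ := hrep z
    have h1 : c ∈ Q' := by
      rw [← hQ'', Ideal.mem_comap]
      change ι c ∈ _
      rw [← hc]
      exact Q''.asIdeal.mul_mem_left _ hz
    exact (Ideal.unit_mul_mem_iff_mem J hv).1 (hc ▸ (hJ _).2 (hle h1))
  have heq : J ≤ Q''.asIdeal := hJmin.2 ⟨Q''.2, bot_le⟩ hleJ
  refine le_antisymm hle fun c hc => ?_
  rw [← hQ'', Ideal.mem_comap]
  exact heq ((hJ c).2 hc)

end Aux

/-- Let A be a Noetherian ring in which 2 is invertible and P a flat A-algebra which is a local complete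
intersection over A (of finite type, with Koszul-regular kernel for some polynomial presentation)
and whose fibres are generically smooth: every prime of P minimal among the primes of its fibre over
A lies in the smooth locus of A → P. Then the first homology of the naive cotangent complex of P
over A vanishes, H_1(NL_{P/A}) = 0: for every presentation P = S/I by a polynomial A-algebra S the
conormal sequence 0 → I/I^2 → Ω_{S/A} ⊗_S P → Ω_{P/A} → 0 is exact on the left. Since the cotangent
complex of a local complete intersection is this two-term complex, it is quasi-isomorphic to Ω_{P/A}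
in degree 0, which is the identification that makes T^1 = Ext^1(Ω_{P/A}, P) the degree-one
cohomology of RHom of the cotangent complex into P. (The text states the latter identification for a
flat local complete intersection morphism of Noetherian schemes with generically smooth fibres; the
row is its affine content.) -/
theorem result
    (A : Type u) [CommRing A] [IsNoetherianRing A] (h2 : IsUnit (2 : A))
    (P : Type u) [CommRing P] [Algebra A P] [Module.Flat A P] (hlci : LCI.IsLCI A P)
    (hgs : ∀ 𝔓 : PrimeSpectrum P,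
      (∀ 𝔔 : PrimeSpectrum P, 𝔔 ≤ 𝔓 →
          𝔔.asIdeal.comap (algebraMap A P) = 𝔓.asIdeal.comap (algebraMap A P) → 𝔔 = 𝔓) →
        𝔓 ∈ Algebra.smoothLocus A P) :
    Subsingleton (Algebra.H1Cotangent A P) := by
  haveI hft : Algebra.FiniteType A P := hlci.1
  haveI : IsNoetherianRing P := Algebra.FiniteType.isNoetherianRing A P
  have hCM : ∀ (p : Ideal A) [p.IsPrime], LocCoh.IsCohenMacaulayRing (p.Fiber P) := fun p _ => by
    haveI := GrothGoren.isGorensteinRing_fibre_of_isLCI hlci p
    exact GrothGr.isCohenMacaulayRing_of_gorenstein _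
  obtain ⟨-, n, φ, hφ, hI⟩ := hlci
  have hval : MvPolynomial.aeval (fun i => φ (MvPolynomial.X i)) = φ := MvPolynomial.algHom_ext fun i => by simp
  let G : Algebra.Generators A P (Fin n) :=
    Algebra.Generators.ofSurjective (fun i => φ (MvPolynomial.X i)) (by rw [hval]; exact hφ)
  have hker : G.toExtension.ker = RingHom.ker φ.toRingHom := by
    ext z
    simp only [Algebra.Extension.ker, RingHom.mem_ker]
    change MvPolynomial.aeval (fun i => φ (MvPolynomial.X i)) z = 0 ↔ φ.toRingHom z = 0
    rw [hval]
    rfl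
  have hproj := (Groth.Syntomic.finite_projective_cotangent _ hI).2
  rw [← hker] at hproj
  let J := G.toExtension.ker
  haveI : Module.Projective (G.toExtension.Ring ⧸ J) J.Cotangent := hproj
  obtain ⟨s, hs⟩ := Module.Projective.out (R := G.toExtension.Ring ⧸ J) (P := J.Cotangent)
  let e : (G.toExtension.Ring ⧸ J) ≃+* P :=
    RingHom.quotientKerEquivOfSurjective (f := algebraMap G.toExtension.Ring P) G.toExtension.algebraMap_surjective
  refine subsingleton_of_forall_eq 0 fun z => ?_
  by_contra hz
  let w := G.equivH1Cotangent.symm z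
  have hw : (w.1 : G.toExtension.Cotangent).val ≠ 0 := fun h => hz (by
    have h1 : w = 0 := Subtype.ext (Algebra.Extension.Cotangent.ext h)
    exact G.equivH1Cotangent.symm.map_eq_zero_iff.mp h1)
  have hsw : s (w.1 : G.toExtension.Cotangent).val ≠ 0 := fun h => hw (by
    rw [← hs (w.1 : G.toExtension.Cotangent).val, h, map_zero])
  obtain ⟨i, hi⟩ := Finsupp.ne_iff.mp hsw
  let c := e (s (w.1 : G.toExtension.Cotangent).val i)
  have hc : c ≠ 0 := fun h => hi (e.map_eq_zero_iff.mp h)
  have hann : ∀ a : P, a • z = 0 → a * c = 0 := by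
    intro a ha
    have h1 : a • w = 0 := by rw [← map_smul, ha, map_zero]
    have h2 : G.toExtension.σ a • (w.1 : G.toExtension.Cotangent).val = 0 :=
      (Algebra.Extension.Cotangent.val_smul a w.1).symm.trans
        (congrArg (fun t : G.toExtension.H1Cotangent => (t.1 : G.toExtension.Cotangent).val) h1)
    have h3 : Ideal.Quotient.mk J (G.toExtension.σ a) • s (w.1 : G.toExtension.Cotangent).val = 0 := by
      rw [← map_smul]
      have h2' : Ideal.Quotient.mk J (G.toExtension.σ a) • (w.1 : G.toExtension.Cotangent).val = 0 := h2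
      rw [h2', map_zero]
    have h4 := congrArg e (Finsupp.ext_iff.mp h3 i)
    rw [Finsupp.smul_apply, smul_eq_mul, map_mul, Finsupp.zero_apply, map_zero] at h4
    have h5 : e (Ideal.Quotient.mk J (G.toExtension.σ a)) = a := G.toExtension.algebraMap_σ a
    rwa [h5] at h4
  obtain ⟨p, hp, hle⟩ := exists_le_isAssociatedPrime_of_isNoetherianRing P c hc
  haveI := hp.isPrime
  haveI : Algebra.FormallySmooth A (Localization.AtPrime p) := hgs ⟨p, inferInstance⟩ fun 𝔔 hle' hcm =>
    PrimeSpectrum.ext (eq_of_le_of_mem_associatedPrimes hCM hp 𝔔.asIdeal hle' hcm)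
  haveI : Subsingleton (Algebra.H1Cotangent A (Localization.AtPrime p)) :=
    Algebra.FormallySmooth.subsingleton_h1Cotangent
  have h0 : Algebra.H1Cotangent.map A A P (Localization.AtPrime p) z =
      Algebra.H1Cotangent.map A A P (Localization.AtPrime p) 0 := Subsingleton.elim _ _
  obtain ⟨t, ht⟩ := (IsLocalizedModule.eq_iff_exists p.primeCompl
    (Algebra.H1Cotangent.map A A P (Localization.AtPrime p))).mp h0
  rw [smul_zero] at ht
  refine t.2 (hle ?_)
  rw [Submodule.mem_colon_singleton, Submodule.mem_bot, smul_eq_mul]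
  exact hann t ht

end Groth.Agent.S18126
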