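import Groth.Statements.S18124
import Groth.Agent.S18126
import Groth.Agent.ArtfunDeform.CotT.ExtT2

set_option autoImplicit false
universe u
open CategoryTheory TensorProduct
open Deform

set_option autoImplicit false
set_option linter.style.haveILetI false
set_option backward.isDefEq.respectTransparency false

namespace Groth.Agent.S18124

section Aux

open TensorProduct

/-- An associated prime of a flat algebra with Cohen–Macaulay fibres is minimal in its fibre. -/
theorem eq_of_le_of_mem_associatedPrimes {A P : Type u} [CommRing A] [IsNoetherianRing A] [CommRing P]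
    [Algebra A P] [IsNoetherianRing P] [Module.Flat A P]
    (hCM : ∀ (p : Ideal A) [p.IsPrime], LocCoh.IsCohenMacaulayRing (p.Fiber P))
    (M : Type u) [AddCommGroup M] [Module A M] {Q : Ideal P} (hQ : Q ∈ associatedPrimes P (P ⊗[A] M)) (Q' : Ideal P) [Q'.IsPrime] (hle : Q' ≤ Q)
    (hcomap : Q'.comap (algebraMap A P) = Q.comap (algebraMap A P)) : Q' = Q := by
  classical
  have h := Groth.Calg1.associatedPrimes_tensor (R := A) (S := P) (N := P) M
  rw [h, Set.mem_iUnion₂] at hQ
  obtain ⟨p, hp, hQp⟩ := hQ
  haveI := hp.isPrime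
  haveI := hQp.isPrime
  haveI := hCM p
  let I : Ideal P := p.map (algebraMap A P)
  have hI : I • (⊤ : Submodule P P) = I := by rw [smul_eq_mul, Ideal.mul_top]
  obtain ⟨hQprime, x, hx⟩ := (isAssociatedPrime_iff_exists_injective_linearMap _ _).1 hQp
  obtain ⟨b, hb⟩ := Submodule.Quotient.mk_surjective _ (x (Ideal.Quotient.mk Q 1))
  have hann : ∀ c : P, c ∈ Q ↔ c * b ∈ I := by
    intro c
    have e : x (Ideal.Quotient.mk Q c) = Submodule.Quotient.mk (c * b) := by
      rw [show Ideal.Quotient.mk Q c = c • Ideal.Quotient.mk Q 1 by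
        rw [Algebra.smul_def, Ideal.Quotient.algebraMap_eq, map_one, mul_one], map_smul, ← hb,
        ← Submodule.Quotient.mk_smul]
      rfl
    constructor
    · intro hc
      rw [Ideal.Quotient.eq_zero_iff_mem.2 hc, map_zero, eq_comm, Submodule.Quotient.mk_eq_zero, hI] at e
      exact e
    · intro hc
      refine Ideal.Quotient.eq_zero_iff_mem.1 (hx ?_)
      rw [map_zero, e, Submodule.Quotient.mk_eq_zero, hI]
      exact hc
  have hbI : b ∉ I := fun hb' => hQprime.ne_top ((Ideal.eq_top_iff_one Q).2 ((hann 1).2 (by rwa [one_mul])))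
  haveI : Module.Flat (A ⧸ p) ((A ⧸ p) ⊗[A] P) := inferInstance
  have htf : ∀ (a : A) (c : P), a ∉ p → algebraMap A P a * c ∈ I → c ∈ I := by
    intro a c ha hc
    have hne : Ideal.Quotient.mk p a ≠ 0 := fun h => ha (Ideal.Quotient.eq_zero_iff_mem.1 h)
    have hinj : Function.Injective (LinearMap.lsmul A (A ⧸ p) a) := by
      intro u v huv
      obtain ⟨u, rfl⟩ := Ideal.Quotient.mk_surjective u
      obtain ⟨v, rfl⟩ := Ideal.Quotient.mk_surjective v
      simp only [LinearMap.lsmul_apply, Algebra.smul_def, Ideal.Quotient.algebraMap_eq] at huv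
      exact mul_left_cancel₀ hne huv
    let e := (Algebra.TensorProduct.quotIdealMapEquivTensorQuot P p).toLinearEquiv.restrictScalars A
    have key := Module.Flat.lTensor_preserves_injective_linearMap (M := P) _ hinj
    rw [← Ideal.Quotient.eq_zero_iff_mem] at hc ⊢
    refine e.injective (key ?_)
    have hl : ∀ z : P ⊗[A] (A ⧸ p), LinearMap.lTensor P (LinearMap.lsmul A (A ⧸ p) a) z = a • z := by
      intro z
      induction z using TensorProduct.induction_on with
      | zero => simp
      | tmul q r => simp [TensorProduct.tmul_smul]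
      | add q r hq hr => simp only [map_add, smul_add, hq, hr]
    rw [hl, hl, ← map_smul e, map_zero, smul_zero]
    change e (a • Ideal.Quotient.mk I c) = 0
    rw [Algebra.smul_def, IsScalarTower.algebraMap_apply A P (P ⧸ I), Ideal.Quotient.algebraMap_eq, ← map_mul, hc,
      map_zero]
  have hQc : Q.comap (algebraMap A P) = p := by
    refine le_antisymm (fun a ha => ?_) (fun a ha => (hann _).2 (Ideal.mul_mem_right _ _ (Ideal.mem_map_of_mem _ ha)))
    by_contra hap
    exact hbI (htf a b hap ((hann _).1 ha))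
  let ι : P →ₐ[A] p.Fiber P := Algebra.TensorProduct.includeRight
  have hker : ∀ c : P, ι c = 0 ↔ c ∈ I := by
    intro c
    constructor
    · intro hc
      let g : p.Fiber P →ₗ[A] p.ResidueField ⊗[A] P := LinearMap.id
      have h1 : LinearMap.rTensor P (IsScalarTower.toAlgHom A (A ⧸ p) p.ResidueField).toLinearMap
          ((1 : A ⧸ p) ⊗ₜ[A] c) = 0 := by
        rw [LinearMap.rTensor_tmul]
        simpa [ι] using hc
      have h2 := Module.Flat.rTensor_preserves_injective_linearMap (M := P)
        (IsScalarTower.toAlgHom A (A ⧸ p) p.ResidueField).toLinearMap p.injective_algebraMap_quotient_residueField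
      have h3 : (1 : A ⧸ p) ⊗ₜ[A] c = 0 := h2 (h1.trans (map_zero _).symm)
      rw [← Ideal.Quotient.eq_zero_iff_mem]
      refine (Algebra.TensorProduct.quotIdealMapEquivTensorQuot P p).injective ?_
      rw [map_zero, Algebra.TensorProduct.quotIdealMapEquivTensorQuot_mk]
      have h4 := congrArg (TensorProduct.comm A (A ⧸ p) P) h3
      simpa using h4
    · intro hc
      have : I ≤ RingHom.ker ι.toRingHom := by
        rw [Ideal.map_le_iff_le_comap]
        intro a ha
        simp only [Ideal.mem_comap, RingHom.mem_ker, AlgHom.toRingHom_eq_coe, AlgHom.coe_toRingHom, AlgHom.commutes]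
        rw [IsScalarTower.algebraMap_apply A p.ResidueField (p.Fiber P), Ideal.algebraMap_residueField_eq_zero.mpr ha,
          map_zero]
      exact this hc
  have hrep : ∀ z : p.Fiber P, ∃ (v : p.Fiber P) (c : P), IsUnit v ∧ v * z = ι c := by
    intro z
    obtain ⟨r, hr, s, hs⟩ := Ideal.Fiber.exists_smul_eq_one_tmul p z
    refine ⟨algebraMap A _ r, s, ?_, by rw [← Algebra.smul_def]; exact hs⟩
    rw [IsScalarTower.algebraMap_apply A p.ResidueField (p.Fiber P)]
    exact (isUnit_iff_ne_zero.2 fun h => hr (Ideal.algebraMap_residueField_eq_zero.1 h)).map _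
  let y : p.Fiber P := ι b
  let J : Ideal (p.Fiber P) := LinearMap.ker (LinearMap.toSpanSingleton (p.Fiber P) (p.Fiber P) y)
  have hJ : ∀ c, ι c ∈ J ↔ c ∈ Q := fun c => by
    rw [hann, ← hker, map_mul]
    exact Iff.rfl
  have hJ' : ∀ z, z ∈ J → ∀ v, v * z ∈ J := fun z hz v => J.mul_mem_left v hz
  have hJprime : J.IsPrime := by
    refine ⟨fun h => hQprime.ne_top ((Ideal.eq_top_iff_one Q).2 ((hJ 1).1 (by rw [h]; trivial))), fun {f g} hfg => ?_⟩
    obtain ⟨v, c, hv, hc⟩ := hrep f
    obtain ⟨w, d, hw, hd⟩ := hrep g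
    have : c * d ∈ Q := (hJ _).1 (by
      rw [map_mul, ← hc, ← hd, show v * f * (w * g) = (v * w) * (f * g) by ring]
      exact J.mul_mem_left _ hfg)
    rcases hQprime.mem_or_mem this with h | h
    · exact Or.inl ((Ideal.unit_mul_mem_iff_mem J hv).1 (hc ▸ (hJ _).2 h))
    · exact Or.inr ((Ideal.unit_mul_mem_iff_mem J hw).1 (hd ▸ (hJ _).2 h))
  have hJass : J ∈ associatedPrimes (p.Fiber P) (p.Fiber P) := by
    refine (isAssociatedPrime_iff_exists_injective_linearMap _ _).2 ⟨hJprime,
      J.liftQ (LinearMap.toSpanSingleton (p.Fiber P) (p.Fiber P) y) le_rfl, ?_⟩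
    rw [← LinearMap.ker_eq_bot]
    exact Submodule.ker_liftQ_eq_bot _ _ _ le_rfl
  have hJmin := GrothGr.mem_minimalPrimes_of_mem_associatedPrimes_of_isCM hJass
  haveI : Q'.LiesOver p := ⟨by rw [Ideal.under_def, hcomap, hQc]⟩
  let Q'' : PrimeSpectrum (p.Fiber P) := PrimeSpectrum.primesOverOrderIsoFiber A P p ⟨Q', ‹_›, ‹_›⟩
  have hQ'' : Q''.asIdeal.comap Algebra.TensorProduct.includeRight = Q' := by
    rw [← PrimeSpectrum.coe_primesOverOrderIsoFiber_symm_apply]
    exact congrArg Subtype.val ((PrimeSpectrum.primesOverOrderIsoFiber A P p).symm_apply_apply _)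
  have hleJ : Q''.asIdeal ≤ J := by
    intro z hz
    obtain ⟨v, c, hv, hc⟩ := hrep z
    have h1 : c ∈ Q' := by
      rw [← hQ'', Ideal.mem_comap]
      change ι c ∈ _
      rw [← hc]
      exact Q''.asIdeal.mul_mem_left _ hz
    exact (Ideal.unit_mul_mem_iff_mem J hv).1 (hc ▸ (hJ _).2 (hle h1))
  have heq : J ≤ Q''.asIdeal := hJmin.2 ⟨Q''.2, bot_le⟩ hleJ
  refine le_antisymm hle fun c hc => ?_
  rw [← hQ'', Ideal.mem_comap]
  exact heq ((hJ c).2 hc)


/-- Coordinates of an element of a base change along a dual basis. -/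
theorem eq_sum_coord {P : Type u} [CommRing P] (P' : Type u) [CommRing P'] [Algebra P P'] {C : Type u}
    [AddCommGroup C] [Module P C] {n : ℕ} (v : Fin n → C) (ℓ : Fin n → C →ₗ[P] P)
    (hv : ∀ x, ∑ i, ℓ i x • v i = x) (z : P' ⊗[P] C) :
    ∑ i, ((Algebra.linearMap P P' ∘ₗ ℓ i).liftBaseChange P' z) ⊗ₜ[P] v i = z := by
  induction z using TensorProduct.induction_on with
  | zero => simp
  | tmul a x =>
    conv_rhs => rw [← hv x, TensorProduct.tmul_sum]
    refine Finset.sum_congr rfl fun i _ => ?_
    simp only [LinearMap.liftBaseChange_tmul, LinearMap.comp_apply, Algebra.linearMap_apply, TensorProduct.tmul_smul,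
      TensorProduct.smul_tmul', smul_eq_mul, Algebra.smul_def, mul_comm a]
  | add a b ha hb => simp only [map_add, TensorProduct.add_tmul, Finset.sum_add_distrib, ha, hb]

theorem exists_dual_basis {P : Type u} [CommRing P] (C : Type u) [AddCommGroup C] [Module P C] [Module.Finite P C]
    [Module.Projective P C] :
    ∃ (n : ℕ) (v : Fin n → C) (ℓ : Fin n → C →ₗ[P] P), ∀ x, ∑ i, ℓ i x • v i = x := by
  obtain ⟨n, f, hf⟩ := Module.Finite.exists_fin' P C
  obtain ⟨s, hs⟩ := Module.projective_lifting_property f LinearMap.id hf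
  refine ⟨n, fun i => f (Pi.single i 1), fun i => LinearMap.proj i ∘ₗ s, fun x => ?_⟩
  conv_rhs => rw [show x = f (s x) from (LinearMap.congr_fun hs x).symm, pi_eq_sum_univ' (s x), map_sum]
  exact Finset.sum_congr rfl fun i _ => by rw [map_smul]; rfl

/-- A map out of a projective module with retractions near the associated primes of `P / I` stays
injective modulo `I`. -/
theorem injective_baseChange_of_local_retraction {P : Type u} [CommRing P] [IsNoetherianRing P] (I : Ideal P)
    {C F : Type u} [AddCommGroup C] [Module P C] [AddCommGroup F] [Module P F] [Module.Finite P C]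
    [Module.Projective P C] (d : C →ₗ[P] F)
    (hloc : ∀ Q ∈ associatedPrimes P (P ⧸ I), ∃ t : P, t ∉ Q ∧ ∃ r : F →ₗ[P] C, ∀ x, r (d x) = t • x) :
    Function.Injective (d.baseChange (P ⧸ I)) := by
  obtain ⟨n, v, ℓ, hv⟩ := exists_dual_basis (P := P) C
  rw [← LinearMap.ker_eq_bot, Submodule.eq_bot_iff]
  intro z hz
  rw [LinearMap.mem_ker] at hz
  by_contra hne
  obtain ⟨i, hi⟩ : ∃ i, (Algebra.linearMap P (P ⧸ I) ∘ₗ ℓ i).liftBaseChange (P ⧸ I) z ≠ 0 := by
    by_contra h
    push Not at h
    exact hne (by rw [← eq_sum_coord (P ⧸ I) v ℓ hv z]; simp [h])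
  obtain ⟨Q, hQ, hle⟩ := exists_le_isAssociatedPrime_of_isNoetherianRing P _ hi
  obtain ⟨t, ht, r, hr⟩ := hloc Q hQ
  have htz : t • z = 0 := by
    have hrd : ∀ w, r.baseChange (P ⧸ I) (d.baseChange (P ⧸ I) w) = t • w := by
      intro w
      induction w using TensorProduct.induction_on with
      | zero => simp
      | tmul a x => rw [LinearMap.baseChange_tmul, LinearMap.baseChange_tmul, hr, TensorProduct.tmul_smul]
      | add a b ha hb => rw [map_add, map_add, ha, hb, smul_add]
    rw [← hrd, hz, map_zero]
  refine ht (hle ?_)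
  rw [Submodule.mem_colon_singleton, Submodule.mem_bot, ← LinearMap.map_smul_of_tower, htz, map_zero]

set_option maxHeartbeats 1000000 in
/-- The first `Ext` of the cokernel of a map between projectives, modulo an ideal. -/
theorem nonempty_quotient_tensor_cokerDual_equiv {P : Type u} [CommRing P] (I : Ideal P) {C F E E' : Type u}
    [AddCommGroup C] [Module P C] [Module.Finite P C] [Module.Projective P C] [AddCommGroup F] [Module P F]
    [Module.Projective P F] [AddCommGroup E] [Module P E] [AddCommGroup E'] [Module (P ⧸ I) E'] (d : C →ₗ[P] F)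
    (δ : (C →ₗ[P] P) →ₗ[P] E) (hδs : Function.Surjective δ)
    (hδk : ∀ x, δ x = 0 ↔ ∃ ψ : F →ₗ[P] P, ψ ∘ₗ d = x)
    (δ' : ((P ⧸ I) ⊗[P] C →ₗ[P ⧸ I] P ⧸ I) →ₗ[P ⧸ I] E') (hδs' : Function.Surjective δ')
    (hδk' : ∀ x, δ' x = 0 ↔ ∃ ψ : (P ⧸ I) ⊗[P] F →ₗ[P ⧸ I] P ⧸ I, ψ ∘ₗ d.baseChange (P ⧸ I) = x) :
    Nonempty ((P ⧸ I) ⊗[P] E ≃ₗ[P ⧸ I] E') := by
  letI : Module P E' := Module.compHom E' (algebraMap P (P ⧸ I))
  haveI : IsScalarTower P (P ⧸ I) E' := IsScalarTower.of_algebraMap_smul fun _ _ => rfl
  let q : P →ₗ[P] P ⧸ I := Algebra.linearMap P (P ⧸ I)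
  have hq : Function.Surjective q := Ideal.Quotient.mk_surjective
  let θ : (C →ₗ[P] P) →ₗ[P] E' :=
    { toFun := fun x => δ' ((q ∘ₗ x).liftBaseChange (P ⧸ I))
      map_add' := fun x y => by
        rw [← map_add]
        congr 1
        ext c
        simp
      map_smul' := fun a x => by
        rw [RingHom.id_apply, ← algebraMap_smul (P ⧸ I) a (δ' _), ← map_smul]
        congr 1
        ext c
        simp [q] }
  have hθk : ∀ x, δ x = 0 → θ x = 0 := fun x hx => by
    obtain ⟨ψ, rfl⟩ := (hδk x).1 hx
    refine (hδk' _).2 ⟨(q ∘ₗ ψ).liftBaseChange (P ⧸ I), ?_⟩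
    ext c
    simp
  let η : E →ₗ[P] E' := (LinearMap.ker δ).liftQ θ hθk ∘ₗ (δ.quotKerEquivOfSurjective hδs).symm.toLinearMap
  have hη : ∀ x, η (δ x) = θ x := fun x => by
    have : (δ.quotKerEquivOfSurjective hδs).symm (δ x) = Submodule.Quotient.mk x :=
      (LinearEquiv.symm_apply_eq _).2 rfl
    simp [η, this]
  have hsurj : Function.Surjective η := by
    intro y
    obtain ⟨x', rfl⟩ := hδs' y
    obtain ⟨x, hx⟩ := Module.projective_lifting_property q
      (x'.restrictScalars P ∘ₗ TensorProduct.mk P (P ⧸ I) C 1) hq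
    refine ⟨δ x, ?_⟩
    rw [hη]
    refine congrArg δ' ?_
    ext c
    simpa using LinearMap.congr_fun hx c
  have hker : LinearMap.ker η = I • (⊤ : Submodule P E) := by
    refine le_antisymm (fun e he => ?_) (Submodule.smul_le.2 fun a ha e _ => ?_)
    · obtain ⟨x, rfl⟩ := hδs e
      rw [LinearMap.mem_ker, hη] at he
      obtain ⟨ψ', hψ'⟩ := (hδk' _).1 he
      obtain ⟨ψ, hψ⟩ := Module.projective_lifting_property q
        (ψ'.restrictScalars P ∘ₗ TensorProduct.mk P (P ⧸ I) F 1) hq
      have hmem : ∀ c, (x - ψ ∘ₗ d) c ∈ I := fun c => by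
        have h1 := LinearMap.congr_fun hψ (d c)
        have h2 := LinearMap.congr_fun hψ' ((1 : P ⧸ I) ⊗ₜ[P] c)
        simp [q] at h1 h2
        rw [← Ideal.Quotient.eq_zero_iff_mem, LinearMap.sub_apply, map_sub, LinearMap.comp_apply, h1, ← h2, sub_self]
      obtain ⟨n, v, ℓ, hv⟩ := exists_dual_basis (P := P) C
      have hx : x - ψ ∘ₗ d = ∑ i, (x - ψ ∘ₗ d) (v i) • ℓ i := LinearMap.ext fun c => by
        conv_lhs => rw [← hv c, map_sum]
        simp [mul_comm]
      have h0 : δ (ψ ∘ₗ d) = 0 := (hδk _).2 ⟨ψ, rfl⟩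
      rw [show δ x = δ (x - ψ ∘ₗ d) by rw [map_sub, h0, sub_zero], hx, map_sum]
      exact Submodule.sum_mem _ fun i _ => by
        rw [map_smul]
        exact Submodule.smul_mem_smul (hmem _) Submodule.mem_top
    · rw [LinearMap.mem_ker, map_smul, ← algebraMap_smul (P ⧸ I) a (η e), Ideal.Quotient.algebraMap_eq,
        Ideal.Quotient.eq_zero_iff_mem.2 ha, zero_smul]
  let e₀ : (P ⧸ I) ⊗[P] E ≃ₗ[P] E' := (TensorProduct.quotTensorEquivQuotSMul E I).trans
    ((Submodule.quotEquivOfEq _ _ hker.symm).trans (η.quotKerEquivOfSurjective hsurj))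
  refine ⟨LinearEquiv.ofBijective (η.liftBaseChange (P ⧸ I)) ?_⟩
  have hee : ∀ z, η.liftBaseChange (P ⧸ I) z = e₀ z := by
    intro z
    induction z using TensorProduct.induction_on with
    | zero => simp
    | tmul a x =>
      obtain ⟨a, rfl⟩ := Ideal.Quotient.mk_surjective a
      rw [LinearMap.liftBaseChange_tmul]
      simp [e₀]
      rfl
    | add a b ha hb => rw [map_add, map_add, ha, hb]
  rw [show ⇑(η.liftBaseChange (P ⧸ I)) = e₀ from funext hee]
  exact e₀.bijective

/-- The differentials of a quotient by an ideal of the base are the base change of the differentials. -/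
theorem mapBaseChange_injective_quotient {A P : Type u} [CommRing A] [CommRing P] [Algebra A P] (J : Ideal A) :
    Function.Injective (KaehlerDifferential.mapBaseChange A P (P ⧸ J.map (algebraMap A P))) := by
  let I := J.map (algebraMap A P)
  have key : ∀ y ∈ I, (1 : P ⧸ I) ⊗ₜ[P] KaehlerDifferential.D A P y = 0 := by
    intro y hy
    have hy' : y ∈ Submodule.span P (algebraMap A P '' J) := hy
    clear hy
    induction hy' using Submodule.span_induction with
    | mem y hy => obtain ⟨a, -, rfl⟩ := hy; simp
    | zero => simp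
    | add a b _ _ ha hb => rw [map_add, TensorProduct.tmul_add, ha, hb, add_zero]
    | smul r y hy' ih =>
      have hy : y ∈ I := hy'
      rw [smul_eq_mul, Derivation.leibniz, TensorProduct.tmul_add, TensorProduct.tmul_smul, TensorProduct.tmul_smul,
        ih, smul_zero, zero_add, TensorProduct.smul_tmul', ← Algebra.algebraMap_eq_smul_one,
        Ideal.Quotient.algebraMap_eq, Ideal.Quotient.eq_zero_iff_mem.2 hy, TensorProduct.zero_tmul]
  rw [← LinearMap.ker_eq_bot, Submodule.eq_bot_iff]
  intro z hz
  obtain ⟨x, rfl⟩ := (KaehlerDifferential.exact_kerCotangentToTensor_mapBaseChange A P (P ⧸ I)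
    Ideal.Quotient.mk_surjective z).1 hz
  obtain ⟨y, rfl⟩ := Ideal.toCotangent_surjective _ x
  rw [KaehlerDifferential.kerCotangentToTensor_toCotangent]
  refine key _ ?_
  rw [← Ideal.Quotient.eq_zero_iff_mem]
  exact y.2

/-- Near a prime with formally smooth local ring, the conormal map of an extension has a retraction. -/
theorem exists_retraction {A P : Type u} [CommRing A] [CommRing P] [Algebra A P]
    [IsNoetherianRing P] [Module.Finite P (KaehlerDifferential A P)] (E : Algebra.Extension.{u} A P)
    (hinj : Function.Injective E.cotangentComplex) (Q : Ideal P) [Q.IsPrime]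
    [Algebra.FormallySmooth A (Localization.AtPrime Q)] :
    ∃ t : P, t ∉ Q ∧ ∃ r : E.CotangentSpace →ₗ[P] E.Cotangent, ∀ x, r (E.cotangentComplex x) = t • x := by
  let S := Localization.AtPrime Q
  haveI : Module.FinitePresentation P (KaehlerDifferential A P) := Module.finitePresentation_of_finite P _
  haveI : IsLocalizedModule Q.primeCompl (TensorProduct.mk P S E.CotangentSpace 1) :=
    (isLocalizedModule_iff_isBaseChange Q.primeCompl S _).mpr (TensorProduct.isBaseChange P E.CotangentSpace S)
  let loc : KaehlerDifferential A P →ₗ[P] KaehlerDifferential A S := KaehlerDifferential.map A A P S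
  let π : S ⊗[P] E.CotangentSpace →ₗ[S] KaehlerDifferential A S := (loc ∘ₗ E.toKaehler).liftBaseChange S
  have hπ : Function.Surjective π := fun y => by
    obtain ⟨⟨x, s⟩, hxs⟩ := IsLocalizedModule.surj Q.primeCompl loc y
    obtain ⟨w, rfl⟩ := E.toKaehler_surjective x
    refine ⟨IsLocalization.mk' S 1 s ⊗ₜ w, ?_⟩
    rw [LinearMap.liftBaseChange_tmul, LinearMap.comp_apply, ← hxs, Submonoid.smul_def,
      ← algebraMap_smul S (s : P) y, smul_smul, IsLocalization.mk'_spec, map_one, one_smul]
  haveI : Module.Projective S (KaehlerDifferential A S) := Algebra.FormallySmooth.projective_kaehlerDifferential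
  obtain ⟨sec, hsec⟩ := Module.projective_lifting_property π LinearMap.id hπ
  obtain ⟨h, u, hu⟩ := Module.FinitePresentation.exists_lift_of_isLocalizedModule Q.primeCompl
    (TensorProduct.mk P S E.CotangentSpace 1) (sec.restrictScalars P ∘ₗ loc)
  have hcomp : loc ∘ₗ (E.toKaehler ∘ₗ h) = loc ∘ₗ ((u : P) • LinearMap.id) := LinearMap.ext fun x => by
    have h1 := congrArg π (LinearMap.congr_fun hu x)
    have h2 : π (sec (loc x)) = loc x := LinearMap.congr_fun hsec (loc x)
    simp only [LinearMap.comp_apply, LinearMap.smul_apply, TensorProduct.mk_apply, LinearMap.coe_restrictScalars,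
      LinearMap.map_smul_of_tower, Submonoid.smul_def] at h1
    rw [h2, LinearMap.liftBaseChange_tmul, one_smul] at h1
    simpa using h1
  obtain ⟨v, hv⟩ := Module.Finite.exists_smul_of_comp_eq_of_isLocalizedModule Q.primeCompl loc _ _ hcomp
  refine ⟨(v * u : Q.primeCompl), (v * u).2, ?_⟩
  let w : E.CotangentSpace →ₗ[P] E.CotangentSpace :=
    ((v * u : Q.primeCompl) : P) • LinearMap.id - (v : P) • (h ∘ₗ E.toKaehler)
  have hw : ∀ x, w x ∈ LinearMap.range E.cotangentComplex := fun x => by
    refine (E.exact_cotangentComplex_toKaehler _).1 ?_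
    have h1 := LinearMap.congr_fun hv (E.toKaehler x)
    simp only [LinearMap.smul_apply, LinearMap.comp_apply, LinearMap.id_coe, id_eq, Submonoid.smul_def] at h1
    simp [w, map_sub, h1, smul_smul]
  refine ⟨(LinearEquiv.ofInjective _ hinj).symm.toLinearMap ∘ₗ w.codRestrict _ hw, fun x => ?_⟩
  rw [LinearMap.comp_apply, LinearEquiv.coe_coe, LinearEquiv.symm_apply_eq]
  apply Subtype.ext
  have h0 := (E.exact_cotangentComplex_toKaehler).apply_apply_eq_zero x
  simp [w, h0]

end Aux


/-- Let K be an algebraically closed field in which 2 ≠ 0, A a finitely generated K-algebra, and P a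
flat A-algebra which is a local complete intersection over A (of finite type, with Koszul-regular
kernel for some polynomial presentation) and whose fibres are generically smooth: every prime of P
that is minimal among the primes of its fibre over A lies in the smooth locus of A → P. Let J be an
ideal of A and P' := P/JP, so that Spec P' = Spec P ×_{Spec A} Spec (A/J) and Ω_{P'/A} =
Ω_{P'/(A/J)}. Then the P'-modules P' ⊗_P Ext^1_P(Ω_{P/A}, P) and Ext^1_{P'}(Ω_{P'/A}, P') are
isomorphic: the first cotangent sheaf T^1 of a flat local complete intersection morphism with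
generically smooth fibres commutes with base change along a closed embedding. (The text constructs a
natural base-change map and proves it is an isomorphism; only the existence of an isomorphism on
affine pieces is stated here, the natural map not being available as a named map.) -/
theorem result
    (K : Type u) [Field K] [IsAlgClosed K] [NeZero (2 : K)]
    (A : Type u) [CommRing A] [Algebra K A] [Algebra.FiniteType K A]
    (P : Type u) [CommRing P] [Algebra A P] [Module.Flat A P] (hlci : LCI.IsLCI A P)
    (hgs : ∀ 𝔓 : PrimeSpectrum P,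
      (∀ 𝔔 : PrimeSpectrum P, 𝔔 ≤ 𝔓 →
          𝔔.asIdeal.comap (algebraMap A P) = 𝔓.asIdeal.comap (algebraMap A P) → 𝔔 = 𝔓) →
        𝔓 ∈ Algebra.smoothLocus A P)
    (J : Ideal A) :
    Nonempty
      ((P ⧸ J.map (algebraMap A P)) ⊗[P]
          Abelian.Ext.{u} (ModuleCat.of P (KaehlerDifferential A P)) (ModuleCat.of P P) 1 ≃ₗ[P ⧸ J.map (algebraMap A P)]
        Abelian.Ext.{u}
          (ModuleCat.of (P ⧸ J.map (algebraMap A P)) (KaehlerDifferential A (P ⧸ J.map (algebraMap A P))))
          (ModuleCat.of (P ⧸ J.map (algebraMap A P)) (P ⧸ J.map (algebraMap A P))) 1) := by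
  haveI : IsNoetherianRing A := Algebra.FiniteType.isNoetherianRing K A
  have h2 : IsUnit (2 : A) := map_ofNat (algebraMap K A) 2 ▸ (isUnit_iff_ne_zero.2 two_ne_zero).map (algebraMap K A)
  have hH1 : Subsingleton (Algebra.H1Cotangent A P) := Groth.Agent.S18126.result A h2 P hlci hgs
  haveI : Algebra.FiniteType A P := hlci.1
  haveI : IsNoetherianRing P := Algebra.FiniteType.isNoetherianRing A P
  have hCM : ∀ (p : Ideal A) [p.IsPrime], LocCoh.IsCohenMacaulayRing (p.Fiber P) := fun p _ => by
    haveI := GrothGoren.isGorensteinRing_fibre_of_isLCI hlci p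
    exact GrothGr.isCohenMacaulayRing_of_gorenstein _
  obtain ⟨-, n, φ, hφ, hI⟩ := hlci
  have hval : MvPolynomial.aeval (fun i => φ (MvPolynomial.X i)) = φ := MvPolynomial.algHom_ext fun i => by simp
  let G : Algebra.Generators A P (Fin n) :=
    Algebra.Generators.ofSurjective (fun i => φ (MvPolynomial.X i)) (by rw [hval]; exact hφ)
  have hker : G.toExtension.ker = RingHom.ker φ.toRingHom := by
    ext z
    simp only [Algebra.Extension.ker, RingHom.mem_ker]
    change MvPolynomial.aeval (fun i => φ (MvPolynomial.X i)) z = 0 ↔ φ.toRingHom z = 0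
    rw [hval]
    rfl
  have hproj := (Groth.Syntomic.finite_projective_cotangent _ hI).2
  rw [← hker] at hproj
  haveI : Module.Free P G.toExtension.CotangentSpace := Module.Free.of_basis G.cotangentSpaceBasis
  haveI : Module.Finite P G.toExtension.CotangentSpace := Module.Finite.of_basis G.cotangentSpaceBasis
  have hinj : Function.Injective G.toExtension.cotangentComplex :=
    (Algebra.Extension.subsingleton_h1Cotangent _).1 G.equivH1Cotangent.toEquiv.subsingleton
  haveI : Module.Finite P G.toExtension.Cotangent := Module.Finite.of_injective _ hinj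
  haveI : Module.Projective P G.toExtension.Cotangent := by
    let E := G.toExtension
    let J := E.ker
    haveI : Module.Projective (E.Ring ⧸ J) J.Cotangent := hproj
    obtain ⟨s, hs⟩ := Module.Projective.out (R := E.Ring ⧸ J) (P := J.Cotangent)
    let e : (E.Ring ⧸ J) ≃+* P :=
      RingHom.quotientKerEquivOfSurjective (f := algebraMap E.Ring P) E.algebraMap_surjective
    have he : ∀ a : P, e (Ideal.Quotient.mk J (E.σ a)) = a := fun a => E.algebraMap_σ a
    let i : E.Cotangent →ₗ[P] (J.Cotangent →₀ P) :=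
      { toFun := fun x => (s x.val).mapRange e (map_zero e)
        map_add' := fun x y => by
          rw [Algebra.Extension.Cotangent.val_add, map_add, Finsupp.mapRange_add (map_add e)]
        map_smul' := fun a x => by
          ext j
          have h1 : s (a • x).val = Ideal.Quotient.mk J (E.σ a) • s x.val := by
            rw [← map_smul]
            exact congrArg s (Algebra.Extension.Cotangent.val_smul a x)
          rw [Finsupp.mapRange_apply, h1, Finsupp.smul_apply, smul_eq_mul, map_mul, he]
          rfl }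
    refine Module.Projective.of_split i (Finsupp.linearCombination P Algebra.Extension.Cotangent.of)
      (LinearMap.ext fun x => Algebra.Extension.Cotangent.ext ?_)
    have key : ∀ f : J.Cotangent →₀ (E.Ring ⧸ J),
        (Finsupp.linearCombination P Algebra.Extension.Cotangent.of (f.mapRange e (map_zero e))).val =
          Finsupp.linearCombination (E.Ring ⧸ J) id f := by
      intro f
      induction f using Finsupp.induction_linear with
      | zero => simp
      | add a b ha hb =>
        rw [Finsupp.mapRange_add (map_add e), map_add, Algebra.Extension.Cotangent.val_add, ha, hb, map_add]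
      | single j r =>
        obtain ⟨r, rfl⟩ := Ideal.Quotient.mk_surjective r
        have : e (Ideal.Quotient.mk J r) = algebraMap E.Ring P r := rfl
        rw [Finsupp.mapRange_single, Finsupp.linearCombination_single, Finsupp.linearCombination_single, this,
          algebraMap_smul, Algebra.Extension.Cotangent.val_smul']
        rfl
    exact (key _).trans (hs x.val)
  let I := J.map (algebraMap A P)
  have hloc : ∀ Q ∈ associatedPrimes P (P ⧸ I), ∃ t : P, t ∉ Q ∧
      ∃ r : G.toExtension.CotangentSpace →ₗ[P] G.toExtension.Cotangent,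
        ∀ x, r (G.toExtension.cotangentComplex x) = t • x := by
    intro Q hQ
    haveI := hQ.isPrime
    rw [LinearEquiv.AssociatedPrimes.eq (Algebra.TensorProduct.quotIdealMapEquivTensorQuot P J).toLinearEquiv] at hQ
    haveI : Algebra.FormallySmooth A (Localization.AtPrime Q) := hgs ⟨Q, ‹_›⟩ fun 𝔔 hle hcm =>
      PrimeSpectrum.ext (eq_of_le_of_mem_associatedPrimes hCM _ hQ 𝔔.asIdeal hle hcm)
    exact exists_retraction G.toExtension hinj Q
  obtain ⟨δ, hδs, hδk⟩ := Groth.ArtfunDeform.exists_ext_one_connecting (N := P) G.toExtension.cotangentComplex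
    G.toExtension.toKaehler G.toExtension.exact_cotangentComplex_toKaehler hinj G.toExtension.toKaehler_surjective
  let g' : (P ⧸ I) ⊗[P] G.toExtension.CotangentSpace →ₗ[P ⧸ I] KaehlerDifferential A (P ⧸ I) :=
    KaehlerDifferential.mapBaseChange A P (P ⧸ I) ∘ₗ G.toExtension.toKaehler.baseChange (P ⧸ I)
  have hg' : Function.Surjective g' :=
    (KaehlerDifferential.mapBaseChange_surjective A P (P ⧸ I) Ideal.Quotient.mk_surjective).comp
      (LinearMap.lTensor_surjective (P ⧸ I) G.toExtension.toKaehler_surjective)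
  have hex' : Function.Exact (G.toExtension.cotangentComplex.baseChange (P ⧸ I)) g' :=
    (lTensor_exact (P ⧸ I) G.toExtension.exact_cotangentComplex_toKaehler
      G.toExtension.toKaehler_surjective).comp_injective (g' := KaehlerDifferential.mapBaseChange A P (P ⧸ I))
        (mapBaseChange_injective_quotient J) (map_zero _)
  obtain ⟨δ', hδs', hδk'⟩ := Groth.ArtfunDeform.exists_ext_one_connecting (N := P ⧸ I)
    (G.toExtension.cotangentComplex.baseChange (P ⧸ I)) g' hex'
    (injective_baseChange_of_local_retraction I _ hloc) hg'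
  exact nonempty_quotient_tensor_cokerDual_equiv I G.toExtension.cotangentComplex δ hδs hδk δ' hδs' hδk'

end Groth.Agent.S18124
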