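import Groth.Statements.S16194
-- import your own Groth.Agent.* helpers here

set_option autoImplicit false
universe u
open DivAlg

namespace Groth.Agent.S16194

/-- In an associative unital ring R, not necessarily commutative, every element r of the Jacobson
radical (the set of elements lying in every maximal left ideal) is quasiregular, i.e. 1 - r is a
two-sided unit. -/
theorem result {R : Type u} [Ring R] (r : R)
    (hr : r ∈ Ring.jacobson R) : IsUnit (1 - r) := by
  rw [Ring.jacobson_eq_sInf_isMaximal] at hr
  have key : ∀ x ∈ sInf {I : Ideal R | I.IsMaximal}, ∃ z, z * (1 - x) = 1 := by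
    intro x hx
    by_contra hne
    rw [not_exists] at hne
    obtain ⟨I, hI, hle⟩ := Ideal.exists_le_maximal (Ideal.span {1 - x}) (by
      rw [Ne, Ideal.eq_top_iff_one, Ideal.mem_span_singleton']
      rintro ⟨z, hz⟩; exact hne z hz)
    have h1 : x ∈ I := (Submodule.mem_sInf.1 hx) I hI
    have h2 : 1 - x ∈ I := hle (Ideal.subset_span rfl)
    exact hI.ne_top (I.eq_top_iff_one.2 (by simpa using I.add_mem h2 h1))
  obtain ⟨z, hz⟩ := key r hr
  obtain ⟨w, hw⟩ := key (-(z * r)) (neg_mem (Ideal.mul_mem_left _ z hr))
  have hz1 : z = 1 - -(z * r) := by rw [mul_sub, mul_one, sub_eq_iff_eq_add] at hz; rw [sub_neg_eq_add]; exact hz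
  rw [← hz1] at hw
  have : w = 1 - r := by
    calc w = w * (z * (1 - r)) := by rw [hz, mul_one]
      _ = 1 - r := by rw [← mul_assoc, hw, one_mul]
  rw [this] at hw
  exact ⟨⟨1 - r, z, hw, hz⟩, rfl⟩

end Groth.Agent.S16194
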