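import Groth.Statements.S16195
-- import your own Groth.Agent.* helpers here

set_option autoImplicit false
universe u v w
open DivAlg

namespace Groth.Agent.S16195

/-- Let R be a ring (associative, unital, not necessarily commutative) and M, N left R-modules. For an
R-module P write BiEnd_R(P) for the ring of endomorphisms of P that are linear over the ring
End_R(P), which acts on P through evaluation. Then every T in BiEnd_R(M × N) preserves the two
summands and is induced by a pair (T₁, T₂) with T₁ in BiEnd_R(M) and T₂ in BiEnd_R(N). -/
theorem result {R : Type u} [Ring R] (M : Type v) (N : Type w)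
    [AddCommGroup M] [Module R M] [AddCommGroup N] [Module R N]
    (T : Module.End (Module.End R (M × N)) (M × N)) :
    ∃ (T₁ : Module.End (Module.End R M) M) (T₂ : Module.End (Module.End R N) N),
      ∀ (m : M) (n : N), T (m, n) = (T₁ m, T₂ n) := by
  have hT : ∀ (φ : Module.End R (M × N)) x, T (φ x) = φ (T x) := fun φ x => T.map_smul φ x
  have h1 : ∀ m : M, (T (m, 0)).2 = 0 := fun m => by
    have := hT ((LinearMap.inl R M N).comp (LinearMap.fst R M N)) (m, 0)
    simp only [LinearMap.comp_apply, LinearMap.fst_apply, LinearMap.inl_apply] at this
    exact congrArg Prod.snd this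
  have h2 : ∀ n : N, (T (0, n)).1 = 0 := fun n => by
    have := hT ((LinearMap.inr R M N).comp (LinearMap.snd R M N)) (0, n)
    simp only [LinearMap.comp_apply, LinearMap.snd_apply, LinearMap.inr_apply] at this
    exact congrArg Prod.fst this
  refine ⟨{ toFun := fun m => (T (m, 0)).1, map_add' := ?_, map_smul' := ?_ },
    { toFun := fun n => (T (0, n)).2, map_add' := ?_, map_smul' := ?_ }, fun m n => ?_⟩
  · intro a b; rw [← Prod.fst_add, ← map_add, Prod.mk_add_mk, add_zero]
  · intro φ m
    have := congrArg Prod.fst (hT (φ.prodMap LinearMap.id) (m, 0))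
    simpa using this
  · intro a b; rw [← Prod.snd_add, ← map_add, Prod.mk_add_mk, add_zero]
  · intro φ m
    have := congrArg Prod.snd (hT (LinearMap.id.prodMap φ) (0, m))
    simpa using this
  · have : ((m, n) : M × N) = (m, 0) + (0, n) := by simp
    rw [this, map_add]
    ext <;> simp [h1, h2]

end Groth.Agent.S16195
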