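import Groth.Statements.S16196
import Mathlib.Algebra.Module.BigOperators
-- import your own Groth.Agent.* helpers here

set_option autoImplicit false
universe u v
open DivAlg

namespace Groth.Agent.S16196

/-- Let R be a ring (associative, unital, not necessarily commutative) and M a left R-module which is a
generator, in the form: for some n there is an R-linear surjection from M^n onto R. Then the natural
ring homomorphism from R to the double endomorphism ring BiEnd_R(M) = End_{End_R(M)}(M)
(endomorphisms of M commuting with every R-linear endomorphism), r ↦ multiplication by r, is
bijective. (The printed form takes R an algebra over a commutative ring k, embeds R in E = End_k(M)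
and asserts R = C_E(C_E(R)); the double centralizer there is BiEnd_R(M).) -/
theorem result {R : Type u} [Ring R] (M : Type v)
    [AddCommGroup M] [Module R M]
    (hgen : ∃ (n : ℕ) (f : (Fin n → M) →ₗ[R] R), Function.Surjective f) :
    Function.Bijective (Module.toModuleEnd (Module.End R M) (S := R) M) := by
  obtain ⟨n, f, hf⟩ := hgen
  obtain ⟨v, hv⟩ := hf 1
  constructor
  · intro r s hrs
    have hm : ∀ m : M, r • m = s • m := fun m => LinearMap.congr_fun hrs m
    have : r • v = s • v := funext fun i => hm (v i)
    simpa [map_smul, hv] using congrArg f this
  · intro T
    refine ⟨f (fun i => T (v i)), LinearMap.ext fun m => ?_⟩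
    show f (fun i => T (v i)) • m = T m
    let g : Fin n → Module.End R M := fun i =>
      (LinearMap.toSpanSingleton R M m).comp (f.comp (LinearMap.single R (fun _ => M) i))
    have hg : ∀ w : Fin n → M, f w • m = ∑ i, g i (w i) := by
      intro w
      conv_lhs => rw [← Finset.univ_sum_single w]
      simp [g, map_sum, Finset.sum_smul]
    have hT : ∀ (φ : Module.End R M) x, T (φ x) = φ (T x) := fun φ x => T.map_smul φ x
    rw [hg, show T m = T (f v • m) by rw [hv, one_smul], hg, map_sum]
    simp [hT]

end Groth.Agent.S16196
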