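import Groth.Statements.S16197
-- import your own Groth.Agent.* helpers here

set_option autoImplicit false
universe u v w
open DivAlg

namespace Groth.Agent.S16197

/-- Let R be a ring (associative, unital, not necessarily commutative) and M a left R-module which is a
generator, used here only through the existence of an R-linear surjection from a direct sum of
copies of M, indexed by an arbitrary type, onto R. Then some finite power M^n decomposes as R × Q
for a submodule Q of M^n. (The published statement is an equivalence; this row states only the
implication from the existence of such a surjection to the splitting.) -/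
theorem result {R : Type u} [Ring R] (M : Type v)
    [AddCommGroup M] [Module R M]
    (hgen : ∃ (ι : Type w) (f : (ι →₀ M) →ₗ[R] R), Function.Surjective f) :
    ∃ (n : ℕ) (Q : Submodule R (Fin n → M)), Nonempty ((Fin n → M) ≃ₗ[R] (R × Q)) := by
  obtain ⟨ι, f, hf⟩ := hgen
  obtain ⟨v, hv⟩ := hf 1
  classical
  let e := v.support.equivFin
  let L : (Fin v.support.card → M) →ₗ[R] (ι →₀ M) :=
    ∑ i, (Finsupp.lsingle ((e.symm i : ι))).comp (LinearMap.proj i)
  let g := f.comp L
  let w : Fin v.support.card → M := fun i => v (e.symm i : ι)
  have hgw : g w = 1 := by
    have : L w = v := by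
      simp only [L, LinearMap.coe_sum, Finset.sum_apply, LinearMap.comp_apply, LinearMap.proj_apply, w, Finsupp.lsingle_apply]
      rw [e.symm.sum_comp (fun x : v.support => Finsupp.single (x : ι) (v x)),
        Finset.sum_coe_sort v.support (fun x => Finsupp.single x (v x))]
      exact v.sum_single
    simp [g, this, hv]
  refine ⟨v.support.card, LinearMap.ker g, ⟨LinearEquiv.ofLinear
    (g.prod ((LinearMap.id - (LinearMap.toSpanSingleton R _ w).comp g).codRestrict (LinearMap.ker g) (fun x => by
      simp [hgw])))
    ((LinearMap.toSpanSingleton R _ w).coprod (LinearMap.ker g).subtype) ?_ ?_⟩⟩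
  · refine LinearMap.ext fun x => ?_
    obtain ⟨r, q, hq⟩ := x
    have hq' : g q = 0 := hq
    ext <;> simp [hgw, hq']
  · ext x; simp

end Groth.Agent.S16197
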