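import Groth.Statements.S16198
import Mathlib
import Groth.Agent.Steinitz.Basic

set_option autoImplicit false
universe u v
open DivAlg

namespace Groth.Agent.S16198

open TensorProduct

theorem pow_iso {R : Type u} [CommRing R] (N : Type v) [AddCommGroup N] [Module R N]
    [Module.Invertible R N] (n : ℕ) :
    Nonempty (TensorPower R n N ≃ₗ[R] (CommRing.Pic.mk R N ^ n : CommRing.Pic R)) := by
  induction n with
  | zero =>
    have h : CommRing.Pic.mk R (CommRing.Pic.mk R N ^ 0 : CommRing.Pic R) = 1 := by
      rw [CommRing.Pic.mk_eq_self, pow_zero]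
    exact ⟨(PiTensorProduct.isEmptyEquiv (Fin 0)) ≪≫ₗ (CommRing.Pic.mk_eq_one_iff.1 h).some.symm⟩
  | succ n ih =>
    obtain ⟨e⟩ := ih
    have h : CommRing.Pic.mk R ((CommRing.Pic.mk R N ^ n : CommRing.Pic R) ⊗[R] N) = CommRing.Pic.mk R N ^ (n + 1) := by
      rw [CommRing.Pic.mk_tensor, CommRing.Pic.mk_eq_self, ← pow_succ]
    exact ⟨TensorPower.mulEquiv.symm ≪≫ₗ
      TensorProduct.congr e (PiTensorProduct.subsingletonEquiv (0 : Fin 1)) ≪≫ₗ
      (CommRing.Pic.mk_eq_iff.1 h).some⟩

/-- In the case of a commutative ring R, let N be an invertible R-module such that the direct sum N^n is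
isomorphic to R^n for some natural number n. Then the class of N in Pic(R) satisfies [N]^n = 1. (The
published statement is for invertible modules on an arbitrary ringed site; this row states the case
of a commutative ring.) -/
theorem result {R : Type u} [CommRing R] (N : Type v)
    [AddCommGroup N] [Module R N] [Module.Invertible R N] (n : ℕ)
    (e : (Fin n → N) ≃ₗ[R] (Fin n → R)) :
    CommRing.Pic.mk R N ^ n = 1 := by

  classical
  let Lj : Fin n → N →ₗ[R] (Fin n → R) := fun j => e.toLinearMap ∘ₗ LinearMap.single R (fun _ => N) j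
  let D : MultilinearMap R (fun _ : Fin n => N) R :=
    (Matrix.detRowAlternating (n := Fin n) (R := R)).toMultilinearMap.compLinearMap Lj
  let dl : TensorPower R n N →ₗ[R] R := PiTensorProduct.lift D
  let Δ := (Matrix.detRowAlternating (n := Fin n) (R := R))
  let w : Fin n → Fin n → N := fun k => e.symm (Pi.single k 1)
  have hzero : ∀ (f : Fin n → Fin n), ¬ Function.Injective f → ∀ v : Fin n → N,
      Δ (fun k => Lj (f k) (v k)) = 0 := by
    intro f hf v
    obtain ⟨a, b, hab, hne⟩ : ∃ a b, f a = f b ∧ a ≠ b := by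
      simpa [Function.Injective] using hf
    let d := Δ (fun k => Lj (f k) (v k))
    let J : Ideal R := LinearMap.ker (LinearMap.mulRight R d)
    suffices hJ : J = ⊤ by
      have : (1 : R) ∈ J := hJ ▸ Submodule.mem_top
      simpa [J, d] using this
    by_contra hJ
    obtain ⟨M, hM, hle⟩ := Ideal.exists_le_maximal _ hJ
    obtain ⟨g, z, hgz⟩ := Groth.Steinitz.exists_form_notMem (N := N) M
    refine hgz (hM.isPrime.mem_of_pow_mem 2 (hle ?_))
    change g z ^ 2 * d = 0
    let u := Function.update (Function.update (fun k => Lj (f k) (v k)) a (Lj (f a) z)) b (Lj (f a) z)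
    have h1 : ∀ x : N, g z • x = g x • z := fun x => Groth.Steinitz.smul_swap g z x
    have e1 : (fun k => Lj (f k) (v k)) = Function.update (Function.update (fun k => Lj (f k) (v k)) a
        (Lj (f a) (v a))) b (Lj (f a) (v b)) := by
      rw [Function.update_eq_self, hab, Function.update_eq_self]
    have hsm : ∀ (m : Fin n → Fin n → R) (i : Fin n) (x : N),
        g z • Δ (Function.update m i (Lj (f a) x)) = g x • Δ (Function.update m i (Lj (f a) z)) :=
      fun m i x => by
      rw [← Δ.map_update_smul, ← Δ.map_update_smul, ← LinearMap.map_smul, ← LinearMap.map_smul, h1]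
    have h2 : g z ^ 2 • d = (g (v a) * g (v b)) • Δ u := by
      simp only [d]
      rw [e1, pow_two, mul_smul, hsm, smul_comm (g z) (g (v b)), Function.update_comm hne, hsm,
        ← mul_smul, mul_comm (g (v b)), Function.update_comm hne.symm]
    have h3 : Δ u = 0 := Δ.map_eq_zero_of_eq u (by simp [u, hne]) hne
    rw [← smul_eq_mul, h2, h3, smul_zero]
  have hrange : (1 : R) ∈ LinearMap.range dl := by
    have e2 : (fun k => ∑ j, Lj j (w k j)) = (fun k => Pi.single k (1 : R)) := by
      funext k
      simp only [Lj, LinearMap.comp_apply, LinearEquiv.coe_coe, ← map_sum, LinearMap.coe_single,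
        Finset.univ_sum_single, w, LinearEquiv.apply_symm_apply]
    have e3 : Δ (fun k => Pi.single k (1 : R)) = 1 := by
      have : (fun k => Pi.single k (1 : R)) = ((1 : Matrix (Fin n) (Fin n) R) : Fin n → Fin n → R) := by
        funext k j
        simp [Matrix.one_apply, Pi.single_apply, eq_comm]
      rw [this]
      exact Matrix.det_one
    have e4 : (1 : R) = ∑ f : Fin n → Fin n, Δ (fun k => Lj (f k) (w k (f k))) := by
      rw [← e3, ← e2]
      exact Δ.toMultilinearMap.map_sum fun k j => Lj j (w k j)
    rw [e4]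
    refine Submodule.sum_mem _ fun f _ => ?_
    by_cases hf : Function.Injective f
    · let σ := Equiv.ofBijective f (Finite.injective_iff_bijective.1 hf)
      have e5 : (fun k => Lj (f k) (w k (f k))) = (fun j => Lj j (w (σ.symm j) j)) ∘ σ := by
        funext k
        simp only [Function.comp_apply, Equiv.symm_apply_apply]
        rfl
      rw [e5, AlternatingMap.map_perm, Units.smul_def, ← Int.cast_smul_eq_zsmul R]
      refine Submodule.smul_mem _ _ ⟨PiTensorProduct.tprod R fun j => w (σ.symm j) j, ?_⟩
      simp [dl, D, Δ]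
    · rw [hzero f hf fun k => w k (f k)]
      exact Submodule.zero_mem _
  obtain ⟨t, ht⟩ := hrange
  obtain ⟨i⟩ := pow_iso N n (R := R)
  have hsurj : Function.Surjective (dl ∘ₗ i.symm.toLinearMap) := fun r => ⟨r • i t, by simp [ht]⟩
  rw [← CommRing.Pic.mk_eq_self (M := CommRing.Pic.mk R N ^ n), CommRing.Pic.mk_eq_one_iff]
  exact ⟨LinearEquiv.ofBijective _ (Module.Invertible.bijective_of_surjective hsurj)⟩

end Groth.Agent.S16198
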