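import Groth.Statements.S1620
import Groth.Agent.VarietyBC.Dim

set_option autoImplicit false
universe u
open CategoryTheory CategoryTheory.Limits AlgebraicGeometry
attribute [local instance] Curv2.stalkAlgebra Curv2.resAlgebra
open Variety

namespace Groth.Agent.S1620

/-- Let X be locally of finite type over a field k and x ⤳ x' an immediate specialisation (x ≠ x' and no
point strictly in between). If the residue field of x' has transcendence degree n over k then the
residue field of x has transcendence degree n + 1. -/
theorem result (k : Type u) [Field k] (X : Scheme.{u}) [X.Over (Spec (CommRingCat.of k))] [LocallyOfFiniteType (X ↘ (Spec (CommRingCat.of k)))] (x x' : X) (hne : x ≠ x') (hsp : x ⤳ x')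
    (himm : ∀ y : X, x ⤳ y → y ⤳ x' → y = x ∨ y = x')
    (n : ℕ) (hn : Algebra.trdeg k (X.residueField x') = n) : Algebra.trdeg k (X.residueField x) = n + 1 := by
  have hlt : x' < x := lt_of_le_not_ge (Scheme.le_iff_specializes.2 hsp)
    fun h => hne ((hsp.antisymm (Scheme.le_iff_specializes.1 h)).eq)
  have hcov : x' ⋖ x := ⟨hlt, fun y h1 h2 => by
    rcases himm y (Scheme.le_iff_specializes.1 h2.le) (Scheme.le_iff_specializes.1 h1.le) with h | h
    · exact h2.ne h
    · exact h1.ne h.symm⟩
  refine (Groth.VarietyBC.trdeg_eq_of_height_eq (k := k) x (n + 1) ?_).trans (Nat.cast_add_one n)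
  rw [Groth.Variety2.Dim.height_eq_of_covBy (X ↘ (Spec (CommRingCat.of k))) hcov,
    Groth.VarietyBC.height_eq_of_trdeg_eq x' n hn]
  norm_num

end Groth.Agent.S1620
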