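import Groth.Statements.S16200
import Groth.Agent.Steinitz.Basic

set_option autoImplicit false
universe u v
open DivAlg

namespace Groth.Agent.S16200

/-- Let R be a Dedekind domain, N an invertible R-module and n a natural number with [N]^n = 1 in
Pic(R). Then the direct sum N^n is isomorphic to R^n; thus over a Dedekind domain the invertible
modules N with N^n ≅ R^n are exactly the n-torsion classes of Pic(R), the other inclusion holding
over any commutative ring. -/
theorem result {R : Type u} [CommRing R]
    [IsDedekindDomain R] (N : Type v) [AddCommGroup N] [Module R N] [Module.Invertible R N]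
    (n : ℕ) (h : CommRing.Pic.mk R N ^ n = 1) :
    Nonempty ((Fin n → N) ≃ₗ[R] (Fin n → R)) := by
  rcases n with _ | n
  · exact ⟨LinearEquiv.ofSubsingleton _ _⟩
  obtain ⟨e⟩ := Groth.Steinitz.pow_equiv (R := R) N n
  have h1 : CommRing.Pic.mk R R = CommRing.Pic.mk R N ^ (n + 1) := by rw [h, CommRing.Pic.mk_self]
  exact ⟨e ≪≫ₗ (LinearEquiv.refl R _).prodCongr (CommRing.Pic.mk_eq_iff.1 h1).some.symm ≪≫ₗ
    LinearEquiv.prodComm R _ _ ≪≫ₗ Fin.consLinearEquiv R fun _ : Fin (n + 1) => R⟩

end Groth.Agent.S16200
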