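import Groth.Statements.S16201
import Mathlib
import Groth.Agent.Variety2.IrrFibres

set_option autoImplicit false
open CategoryTheory AlgebraicGeometry
open Variety

namespace Groth.Agent.S16201

/-- Let f : Y → Z be a morphism of schemes of finite type over ℂ, with Z irreducible. Suppose that the
general fibre of f is irreducible, in the sense that there is a nonempty open subset V of Z such
that the fibre of f over every closed point of V is an irreducible topological space, and that each
irreducible component of Y has dense image in Z. Then Y is irreducible. (The published statement is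
for a morphism of projective varieties; only finiteness of type over the field is used, and the row
is stated in that generality.) -/
theorem result
    (Y Z : Scheme.{0}) (g : Z ⟶ Spec (CommRingCat.of ℂ)) (f : Y ⟶ Z)
    [LocallyOfFiniteType g] [QuasiCompact g] [LocallyOfFiniteType f] [QuasiCompact f]
    [IrreducibleSpace Z]
    (hgen : ∃ V : Z.Opens, (V : Set Z).Nonempty ∧
      ∀ z ∈ V, IsClosed ({z} : Set Z) → IsIrreducible (f.base ⁻¹' {z}))
    (hdom : ∀ W ∈ irreducibleComponents Y, Dense (f.base '' W)) :
    IrreducibleSpace Y := by
  open Groth.Variety2.Dim in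
  have : QuasiCompact (f ≫ g) := inferInstance
  obtain ⟨V, hV, hirr⟩ := hgen
  open Groth.Variety2.Dim in
  obtain ⟨y, hy, hyc⟩ := exists_isClosed_singleton_mem g V.2.isLocallyClosed hV
  open Groth.Variety2.Dim in
  obtain ⟨x₀, hx₀⟩ := (hirr y hy hyc).nonempty
  open Groth.Variety2.Dim in
  obtain ⟨Z₀, hZ₀, ξ, hξ, hmax, -⟩ := exists_component_generic x₀
  have hη : ∀ W ∈ irreducibleComponents Y, ∀ ζ, IsGenericPoint ζ W → f ζ = genericPoint Z := by
    intro W hW ζ hζ
    refine (((genericPoint_specializes (f ζ)).antisymm ?_).eq).symm
    refine specializes_iff_mem_closure.2 (closure_minimal ?_ isClosed_closure (hdom W hW (genericPoint Z)))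
    rintro _ ⟨x, hx, rfl⟩
    exact specializes_iff_mem_closure.1 ((hζ.specializes hx).map f.continuous)
  have hall : ∀ x, ξ ⤳ x := by
    intro x
    open Groth.Variety2.Dim in
    obtain ⟨W, hW, ζ, hζ, hζmax, hζx⟩ := exists_component_generic x
    open Groth.Variety2.Dim in
    have := eq_of_irreducible_fibres (f ≫ g) g f rfl V hV hirr hζmax hmax (hη W hW ζ hζ) (hη Z₀ hZ₀ ξ hξ)
    exact this ▸ hζx
  rw [irreducibleSpace_def]
  have : closure {ξ} = Set.univ := Set.eq_univ_of_forall fun x => specializes_iff_mem_closure.1 (hall x)
  change IsIrreducible (Set.univ : Set _)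
  exact this ▸ isIrreducible_singleton.closure

end Groth.Agent.S16201
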