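import Groth.Statements.S16205
import Groth.Agent.BendBreak.ProductSurface
-- import your own Groth.Agent.* helpers here

set_option autoImplicit false
set_option backward.isDefEq.respectTransparency.types false
open CategoryTheory MonoidalCategory CartesianMonoidalCategory AlgebraicGeometry
open RatCurv

namespace Groth.Agent.S16205

/-- Let X be a projective variety over ℂ and let C and B be smooth integral curves over ℂ (separated, of
finite type, not necessarily complete). If a rational map from the surface C × B to X, that is a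
ℂ-morphism φ defined on a nonempty open subset U of C × B, does not extend to a morphism defined on
all of C × B, then X contains a rational curve: there is a nonconstant ℂ-morphism from the
projective line to X. The product is taken in the cartesian monoidal category of ℂ-schemes. (The
published statement allows C and B singular, C even reducible, and X any variety; for C an elliptic
curve with two points glued to a node, B a curve and X that elliptic curve, the rational map induced
by the normalisation coordinate does not extend although X has no rational curve, and for smooth C,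
B the open immersion of the punctured affine plane into itself does not extend to the product of two
projective lines although the punctured plane has no complete or affine rational curves; so C and B
are taken smooth and X projective, the case the argument treats.) -/
theorem result
    (X C B : Over (Spec (CommRingCat.of ℂ))) [IsIntegral X.left]
    (hX : (∃ (n : ℕ) (ι : X.left ⟶ CohB1.ProjSpace n ℂ), IsClosedImmersion ι ∧ ι ≫ CohB1.ProjSpace.toSpec n ℂ = X.hom))
    [IsIntegral C.left] [Smooth C.hom] [IsSeparated C.hom] [QuasiCompact C.hom]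
    (hC : topologicalKrullDim C.left = 1)
    [IsIntegral B.left] [Smooth B.hom] [IsSeparated B.hom] [QuasiCompact B.hom]
    (hB : topologicalKrullDim B.left = 1)
    (U : (C ⊗ B).left.Opens) (hU : (U : Set (C ⊗ B).left).Nonempty)
    (φ : (U : Scheme.{0}) ⟶ X.left) (hφ : φ ≫ X.hom = U.ι ≫ (C ⊗ B).hom)
    (hne : ¬ ∃ ψ : (C ⊗ B).left ⟶ X.left, U.ι ≫ ψ = φ) :
    ∃ g : Over.mk (CohB1.ProjSpace.toSpec 1 ℂ) ⟶ X, ¬ ∃ x : X.left, Set.range g.left.base ⊆ {x} := by
  obtain ⟨n, ι, hι, hιh⟩ := hX
  haveI := hι
  let S : Scheme.{0} := Limits.pullback C.hom B.hom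
  let q : S ⟶ Spec (CommRingCat.of ℂ) := Limits.pullback.fst C.hom B.hom ≫ C.hom
  haveI : IsIntegral S := Groth.Agent.S1582.result ℂ C.left B.left C.hom B.hom
  haveI : IsLocallyNoetherian S := LocallyOfFiniteType.isLocallyNoetherian q
  haveI : CompactSpace S := QuasiCompact.compactSpace_of_compactSpace q
  haveI := Groth.Variety2.isProper_projSpace_toSpec n ℂ
  haveI : IsProper X.hom := hιh ▸ inferInstance
  haveI : X.left.IsSeparated := ⟨by rw [← Limits.terminal.comp_from X.hom]; infer_instance⟩
  let U' : S.Opens := U
  let φ' : (U' : Scheme.{0}) ⟶ X.left := φ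
  have hφ' : φ' ≫ X.hom = U'.ι ≫ q := hφ
  have hg : genericPoint S ∈ U' :=
    ((genericPoint_spec S).mem_open_set_iff U'.2).2 ⟨hU.some, trivial, hU.some_mem⟩
  let η := U'.fromSpecStalkOfMem (genericPoint S) hg ≫ φ'
  obtain ⟨x, hx, hno⟩ : ∃ x : S, IsClosed ({x} : Set S) ∧ ¬ Groth.BendBreak.ExtendsAt q X.hom η x := by
    by_contra hall
    push Not at hall
    obtain ⟨ψ, -, hψ⟩ := Groth.BendBreak.exists_hom q X.hom (η := η) fun w => by
      obtain ⟨z, hz, hzc⟩ := (isClosed_closure (s := ({w} : Set S))).exists_closed_singleton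
        ⟨w, subset_closure rfl⟩
      exact (hall z hzc).of_specializes q X.hom (specializes_iff_mem_closure.2 hz)
    refine hne ⟨ψ, ?_⟩
    change U'.ι ≫ ψ = φ'
    haveI : Nonempty (U' : Scheme.{0}) := ⟨⟨_, hg⟩⟩
    haveI : IsDominant (U'.fromSpecStalkOfMem (genericPoint S) hg) := ⟨by
      rw [DenseRange, dense_iff_closure_eq, ← Set.univ_subset_iff, ← (genericPoint_spec _).def]
      refine closure_mono (Set.singleton_subset_iff.2 ⟨IsLocalRing.closedPoint _, ?_⟩)
      apply U'.ι.isOpenEmbedding.injective
      rw [← Scheme.Hom.comp_apply, Scheme.Opens.fromSpecStalkOfMem_ι, Scheme.fromSpecStalk_closedPoint,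
        genericPoint_eq_of_isOpenImmersion]⟩
    refine ext_of_isDominant (ι := U'.fromSpecStalkOfMem (genericPoint S) hg) ?_
    rw [← Category.assoc, Scheme.Opens.fromSpecStalkOfMem_ι]
    exact hψ
  obtain ⟨V, W, g, φW, hgp, hxV, -, hφW, -, -, hfib, hcurve⟩ := Groth.BendBreak.exists_rational_curves q
    (Groth.BendBreak.regular_prod C.hom B.hom) X.hom ι hιh U' hg φ' hφ' hx
    (Groth.BendBreak.dim_stalk_prod C.hom B.hom hC hB hx) hno
  obtain ⟨z, hz⟩ := hfib
  have hxVc : IsClosed ({(⟨x, hxV⟩ : (V : Scheme.{0}))} : Set (V : Scheme.{0})) := by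
    convert hx.preimage V.ι.continuous
    ext v
    show v = ⟨x, hxV⟩ ↔ V.ι v = x
    exact ⟨fun e => by rw [e]; rfl, fun e => Subtype.ext e⟩
  haveI : CompactSpace (V : Scheme.{0}) := by
    haveI : TopologicalSpace.NoetherianSpace S := by
      haveI : AlgebraicGeometry.IsNoetherian S := {}
      infer_instance
    exact isCompact_iff_compactSpace.mp (TopologicalSpace.NoetherianSpace.isCompact (V : Set S))
  haveI : CompactSpace W := QuasiCompact.compactSpace_of_compactSpace g
  obtain ⟨z', hz', hz'c⟩ := (hxVc.preimage g.continuous).exists_closed_singleton ⟨z, hz⟩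
  haveI : LocallyOfFiniteType (g ≫ V.ι ≫ q) := inferInstance
  let pW : Spec (CommRingCat.of ℂ) ⟶ X.left := pointOfClosedPoint (g ≫ V.ι ≫ q) z' hz'c ≫ φW
  have hpW : pW ≫ X.hom = 𝟙 _ := by rw [Category.assoc, hφW, pointOfClosedPoint_comp]
  haveI := isClosedImmersion_of_comp_eq_id _ _ hpW
  have hcl : IsClosed ({φW z'} : Set X.left) := by
    convert pW.isClosedEmbedding.isClosed_range
    refine (Set.Subset.antisymm (Set.singleton_subset_iff.2 ⟨IsLocalRing.closedPoint ℂ, ?_⟩)
      (Set.range_subset_iff.2 fun a => ?_))
    · simp [pW]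
    · simp [pW]
  obtain ⟨j, hj, -, hjne⟩ := hcurve (φW z') ⟨z', hz', rfl⟩ hcl
  exact ⟨Over.homMk j hj, hjne⟩

end Groth.Agent.S16205
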