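import Groth.Statements.S16206
import Mathlib

set_option autoImplicit false
open RatCurv

namespace Groth.Agent.S16206

open W4c3cyccovratcurv SimpleGraph

variable {k n : ℕ}

/-- the star at the first vertex -/
def starG (n : ℕ) : SimpleGraph (Fin (n + 1)) := SimpleGraph.fromRel fun a _ => a = 0

theorem adj_symm {T₁ T₂ : MarkedTree k} (h : ConicAdj T₁ T₂) : ConicAdj T₂ T₁ := by
  obtain ⟨u₁, w₁, u₂, w₂, h₁, h₂, φ, hφ, hm⟩ := h
  refine ⟨u₂, w₂, u₁, w₁, h₂, h₁, φ.symm, ?_, fun i => ?_⟩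
  · rw [← hφ, RelIso.symm_apply_apply]
  · rw [← hm, RelIso.symm_apply_apply]

theorem adj_of_contract_eq {G G' : SimpleGraph (Fin n)} (hG : G.IsTree) (hG' : G'.IsTree)
    (m m' : Fin k → Fin n) (u w : Fin n) (h : G.Adj u w) (h' : G'.Adj u w)
    (he : contract G u w = contract G' u w)
    (hm : ∀ i, contractMark m u w h.ne i = contractMark m' u w h'.ne i) :
    ConicAdj ⟨n, G, hG, m⟩ ⟨n, G', hG', m'⟩ :=
  ⟨u, w, u, w, h, h', ⟨Equiv.refl _, fun {a b} => by rw [he]; rfl⟩, rfl, hm⟩

theorem slide {G : SimpleGraph (Fin n)} (hG : G.IsTree) {u v w : Fin n} (huw : G.Adj u w) (hvw : G.Adj v w)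
    (huv : u ≠ v) : ∃ G' : SimpleGraph (Fin n), G' = G.deleteEdges {s(v, w)} ⊔ SimpleGraph.edge v u ∧
      ∃ hG' : G'.IsTree, ∀ m : Fin k → Fin n, ConicAdj ⟨n, G, hG, m⟩ ⟨n, G', hG', m⟩ := by
  refine ⟨_, rfl, ?_⟩
  set G₀ := G.deleteEdges {s(v, w)} with hG₀
  have huw0 : G₀.Adj u w := by
    rw [hG₀, deleteEdges_adj]
    refine ⟨huw, fun hmem => ?_⟩
    rw [Set.mem_singleton_iff, Sym2.eq_iff] at hmem
    rcases hmem with ⟨h, -⟩ | ⟨h, -⟩
    · exact huv h
    · exact huw.ne h
  have hbr : ¬ G₀.Reachable v w :=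
    isBridge_iff.1 (isAcyclic_iff_forall_adj_isBridge.1 hG.IsAcyclic hvw)
  have htree : (G₀ ⊔ SimpleGraph.edge v u).IsTree := by
    refine ⟨?_, (hG.IsAcyclic.anti (deleteEdges_le _)).sup_edge_of_not_reachable fun h => hbr (h.trans huw0.reachable)⟩
    have key : ∀ a b, G.Adj a b → (G₀ ⊔ SimpleGraph.edge v u).Reachable a b := by
      intro a b hab
      have hvw' : (G₀ ⊔ SimpleGraph.edge v u).Reachable v w := by
        refine Reachable.trans (v := u) (Adj.reachable (Or.inr ?_)) (Adj.reachable (Or.inl huw0))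
        rw [edge_adj]; exact ⟨Or.inl ⟨rfl, rfl⟩, huv.symm⟩
      by_cases hs : s(a, b) = s(v, w)
      · rcases Sym2.eq_iff.1 hs with ⟨rfl, rfl⟩ | ⟨rfl, rfl⟩
        · exact hvw'
        · exact hvw'.symm
      · exact Adj.reachable (Or.inl (deleteEdges_adj.2 ⟨hab, hs⟩))
    have : Nonempty (Fin n) := ⟨u⟩
    refine ⟨fun a b => ?_⟩
    obtain ⟨p⟩ := hG.isConnected.preconnected a b
    induction p with
    | nil => exact Reachable.refl _
    | cons h _ ih => exact (key _ _ h).trans ih
  refine ⟨htree, fun m => adj_of_contract_eq hG htree m m u w huw (Or.inl huw0) ?_ fun i => rfl⟩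
  ext ⟨a, ha⟩ ⟨b, hb⟩
  simp only [contract, SimpleGraph.fromRel_adj, SimpleGraph.sup_adj, edge_adj, hG₀, deleteEdges_adj,
    Set.mem_singleton_iff, Sym2.eq_iff, ne_eq, Subtype.mk.injEq]
  have hs : G.Adj w v := hvw.symm
  constructor
  · rintro ⟨hne, h⟩
    refine ⟨hne, ?_⟩
    rcases h with (h | ⟨rfl, h⟩) | (h | ⟨rfl, h⟩)
    · exact Or.inl (Or.inl (Or.inl ⟨h, by tauto⟩))
    · by_cases hbv : b = v
      · subst hbv; exact Or.inl (Or.inl (Or.inr ⟨Or.inr ⟨rfl, rfl⟩, hne⟩))
      · exact Or.inl (Or.inr ⟨rfl, Or.inl ⟨h, by tauto⟩⟩)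
    · exact Or.inr (Or.inl (Or.inl ⟨h, by tauto⟩))
    · by_cases hav : a = v
      · subst hav; exact Or.inr (Or.inl (Or.inr ⟨Or.inr ⟨rfl, rfl⟩, Ne.symm hne⟩))
      · exact Or.inr (Or.inr ⟨rfl, Or.inl ⟨h, by tauto⟩⟩)
  · rintro ⟨hne, h⟩
    refine ⟨hne, ?_⟩
    rcases h with ((⟨h, -⟩ | ⟨⟨rfl, rfl⟩ | ⟨rfl, rfl⟩, -⟩) | ⟨rfl, (⟨h, -⟩ | ⟨⟨rfl, rfl⟩ | ⟨rfl, rfl⟩, -⟩)⟩) |
      ((⟨h, -⟩ | ⟨⟨rfl, rfl⟩ | ⟨rfl, rfl⟩, -⟩) | ⟨rfl, (⟨h, -⟩ | ⟨⟨rfl, rfl⟩ | ⟨rfl, rfl⟩, -⟩)⟩)
    all_goals first
      | exact Or.inl (Or.inl h)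
      | exact Or.inr (Or.inl h)
      | exact Or.inl (Or.inr ⟨rfl, h⟩)
      | exact Or.inr (Or.inr ⟨rfl, h⟩)
      | exact Or.inl (Or.inr ⟨rfl, hs⟩)
      | exact Or.inr (Or.inr ⟨rfl, hs⟩)
      | exact absurd rfl ha
      | exact absurd rfl hb
      | exact absurd rfl huw.ne
      | exact absurd rfl hvw.ne

theorem to_star (d : ℕ) : ∀ (G : SimpleGraph (Fin (n + 1))) (hG : G.IsTree) (m : Fin k → Fin (n + 1)),
    Nat.card {x // ¬ G.Adj 0 x} ≤ d → ∃ hS : (starG n).IsTree,
      Relation.ReflTransGen ConicAdj (⟨n + 1, G, hG, m⟩ : MarkedTree k) ⟨n + 1, starG n, hS, m⟩ := by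
  induction d with
  | zero =>
    intro G hG m hd
    have : Nonempty {x // ¬ G.Adj 0 x} := ⟨⟨0, G.irrefl⟩⟩
    exact absurd hd (not_le.2 Nat.card_pos)
  | succ d ih =>
    intro G hG m hd
    by_cases hgood : ∀ w, G.Adj 0 w → ∀ v, G.Adj v w → v = 0
    · have hstar : G = starG n := by
        ext a b
        simp only [starG, SimpleGraph.fromRel_adj]
        have hall : ∀ x, x = 0 ∨ G.Adj 0 x := by
          intro x
          by_contra hc
          obtain ⟨p⟩ := hG.isConnected.preconnected 0 x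
          obtain ⟨e, -, he1, he2⟩ := p.exists_boundary_dart {y | y = 0 ∨ G.Adj 0 y} (Or.inl rfl) hc
          rcases he1 with he | he
          · exact he2 (Or.inr (he ▸ e.adj))
          · exact he2 (Or.inl (hgood _ he _ e.adj.symm))
        constructor
        · intro h
          refine ⟨h.ne, ?_⟩
          rcases hall a with rfl | ha
          · exact Or.inl rfl
          · exact Or.inr (hgood a ha b h.symm)
        · rintro ⟨hne, rfl | rfl⟩
          · exact (hall b).resolve_left (Ne.symm hne)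
          · exact ((hall a).resolve_left hne).symm
      subst hstar
      exact ⟨hG, Relation.ReflTransGen.refl⟩
    · push Not at hgood
      obtain ⟨w, h0w, v, hvw, hv0⟩ := hgood
      obtain ⟨G', hG'def, hG', hstep⟩ := slide (k := k) hG h0w hvw (Ne.symm hv0)
      obtain ⟨hS, hrest⟩ := ih G' hG' m (by
        have hv : ¬ G.Adj 0 v := by
          intro h
          have hbr := isBridge_iff.1 (isAcyclic_iff_forall_adj_isBridge.1 hG.IsAcyclic hvw)
          refine hbr (Reachable.trans (v := 0) (Adj.reachable ?_) (Adj.reachable ?_))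
          · rw [deleteEdges_adj, Set.mem_singleton_iff, Sym2.eq_iff]
            exact ⟨h.symm, by rintro (⟨-, h'⟩ | ⟨h', -⟩); exacts [h0w.ne h', hvw.ne h']⟩
          · rw [deleteEdges_adj, Set.mem_singleton_iff, Sym2.eq_iff]
            exact ⟨h0w, by rintro (⟨h', -⟩ | ⟨h', -⟩); exacts [hv0 h'.symm, h0w.ne h']⟩
        have hsub : {x | ¬ G'.Adj 0 x} ⊂ {x | ¬ G.Adj 0 x} := by
          refine (Set.ssubset_iff_of_subset fun x (hx : ¬ G'.Adj 0 x) (hadj : G.Adj 0 x) => hx ?_).2 ⟨v, hv, fun (hc : ¬ G'.Adj 0 v) => hc ?_⟩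
          · rw [hG'def]
            refine Or.inl (deleteEdges_adj.2 ⟨hadj, ?_⟩)
            rw [Set.mem_singleton_iff, Sym2.eq_iff]
            rintro (⟨h', -⟩ | ⟨h', -⟩)
            exacts [hv0 h'.symm, h0w.ne h']
          · rw [hG'def]
            refine Or.inr ?_
            rw [edge_adj]
            exact ⟨Or.inr ⟨rfl, rfl⟩, Ne.symm hv0⟩
        have := Set.ncard_lt_ncard hsub
        rw [← Nat.card_coe_set_eq, ← Nat.card_coe_set_eq] at this
        change Nat.card {x // ¬ G'.Adj 0 x} < Nat.card {x // ¬ G.Adj 0 x} at this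
        omega)
      exact ⟨hS, Relation.ReflTransGen.head (hstep m) hrest⟩

theorem to_zero (hS : (starG n).IsTree) (s : Finset (Fin k)) : ∀ (m : Fin k → Fin (n + 1)),
    (∀ i, i ∉ s → m i = 0) →
      Relation.ReflTransGen ConicAdj (⟨n + 1, starG n, hS, m⟩ : MarkedTree k) ⟨n + 1, starG n, hS, fun _ => 0⟩ := by
  induction s using Finset.induction_on with
  | empty =>
    intro m hm
    rw [show m = fun _ => 0 from funext fun i => hm i (Finset.notMem_empty i)]
  | insert i s his ih =>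
    intro m hm
    have hm' : ∀ j, j ∉ s → Function.update m i 0 j = 0 := fun j hj => by
      by_cases h : j = i
      · subst h; simp
      · rw [Function.update_of_ne h]; exact hm j (by simp [hj, h])
    by_cases hi : m i = 0
    · have : Function.update m i 0 = m := by rw [← hi, Function.update_eq_self]
      exact this ▸ ih _ hm'
    · refine Relation.ReflTransGen.head ?_ (ih _ hm')
      have hadj : (starG n).Adj 0 (m i) := by
        rw [starG, SimpleGraph.fromRel_adj]; exact ⟨Ne.symm hi, Or.inl rfl⟩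
      refine adj_of_contract_eq hS hS m _ 0 (m i) hadj hadj rfl fun j => ?_
      by_cases h : j = i
      · subst h
        simp [contractMark, Ne.symm hi]
      · simp [contractMark, Function.update_of_ne h]

/-- Let G₁ and G₂ be dual graphs of linear trees of the same total degree e and with k marked points
each, that is finite trees with e vertices, every vertex of degree one, together with a list of k
marked vertices (repetitions allowed). Then a finite chain of conic deformations leads from G₁ to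
G₂. Here a conic deformation of such a graph is the marked graph obtained by contracting one edge
(the contracted vertex being the unique vertex of degree two), two marked trees are one step apart
when they have isomorphic conic deformations, the isomorphism matching the contracted vertices and
the i-th marked vertices, and the conclusion is that G₁ and G₂ are related by the
reflexive-transitive closure of this one-step relation. -/
theorem result (k : ℕ) (T₁ T₂ : W4c3cyccovratcurv.MarkedTree k)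
    (h : T₁.n = T₂.n) :
    Relation.ReflTransGen W4c3cyccovratcurv.ConicAdj T₁ T₂ := by

  obtain ⟨n₁, G₁, h₁, m₁⟩ := T₁
  obtain ⟨n₂, G₂, h₂, m₂⟩ := T₂
  dsimp only at h
  subst h
  obtain ⟨n, rfl⟩ : ∃ n, n₁ = n + 1 :=
    ⟨n₁ - 1, by have := h₁.isConnected.nonempty; have := Fin.pos_iff_nonempty.2 this; omega⟩
  obtain ⟨hS, e₁⟩ := to_star _ G₁ h₁ m₁ le_rfl
  obtain ⟨hS', e₂⟩ := to_star _ G₂ h₂ m₂ le_rfl
  have f₁ := e₁.trans (to_zero hS Finset.univ m₁ (fun i hi => absurd (Finset.mem_univ i) hi))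
  have f₂ := e₂.trans (to_zero hS Finset.univ m₂ (fun i hi => absurd (Finset.mem_univ i) hi))
  refine f₁.trans ?_
  have hsymm : ∀ a b : W4c3cyccovratcurv.MarkedTree k, Relation.ReflTransGen W4c3cyccovratcurv.ConicAdj a b →
      Relation.ReflTransGen W4c3cyccovratcurv.ConicAdj b a := fun a b hab => by
    induction hab with
    | refl => exact Relation.ReflTransGen.refl
    | tail _ hbc ih => exact Relation.ReflTransGen.head (adj_symm hbc) ih
  exact hsymm _ _ f₂

end Groth.Agent.S16206
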