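import Groth.Statements.S16211
import Mathlib.Tactic.LinearCombination

set_option autoImplicit false
universe u v
open InvTh

namespace Groth.Agent.S16211

/-- Let R be a commutative ring, O a formally smooth R-algebra and G a finite group whose order is
invertible in R, acting on O by R-algebra automorphisms. Then the largest quotient algebra of O on
which G acts trivially, namely the quotient of O by the ideal generated by all g • f - f (the
coordinate ring of the subscheme of G-fixed points of Spec O), is again formally smooth over R: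
invariant homomorphisms lift along square-zero extensions. The published statement is about a scheme
X smooth and of finite presentation over the base and concludes that its fixed-point scheme is
smooth; this row, the affine step of its proof, assumes only that O is formally smooth over R and
concludes only formal smoothness. -/
theorem result (R : Type u) [CommRing R]
    (O : Type u) [CommRing O] [Algebra R O] [Algebra.FormallySmooth R O]
    (G : Type v) [Group G] [Finite G] [MulSemiringAction G O] [SMulCommClass G R O]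
    (hG : IsUnit (Nat.card G : R)) :
    Algebra.FormallySmooth R (O ⧸ Ideal.span {x : O | ∃ (g : G) (f : O), x = g • f - f}) := by
  classical
  have := Fintype.ofFinite G
  obtain ⟨c, hc⟩ := isUnit_iff_exists_inv'.mp hG
  set I := Ideal.span {x : O | ∃ (g : G) (f : O), x = g • f - f}
  refine Algebra.FormallySmooth.of_comp_surjective fun B _ _ J hJ φ ↦ ?_
  obtain ⟨g, hg⟩ := Algebra.FormallySmooth.exists_lift J ⟨2, hJ⟩ (φ.comp (Ideal.Quotient.mkₐ R I))
  have hfix : ∀ (γ : G) (x : O), Ideal.Quotient.mk J (g (γ • x)) = Ideal.Quotient.mk J (g x) := fun γ x ↦ by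
    have e1 := DFunLike.congr_fun hg (γ • x)
    have e2 := DFunLike.congr_fun hg x
    simp only [AlgHom.comp_apply, Ideal.Quotient.mkₐ_eq_mk] at e1 e2
    rw [e1, e2, show (Ideal.Quotient.mk I) (γ • x) = Ideal.Quotient.mk I x from
      Ideal.Quotient.eq.mpr (Ideal.subset_span ⟨γ, x, rfl⟩)]
  have hd : ∀ (γ : G) x, g (γ • x) - g x ∈ J := fun γ x ↦ Ideal.Quotient.eq.mp (hfix γ x)
  have hJ2 : ∀ x ∈ J, ∀ y ∈ J, x * y = 0 := fun x hx y hy ↦ by
    have := Ideal.mul_mem_mul hx hy
    rwa [← pow_two, hJ, Ideal.mem_bot] at this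
  let gb : O →ₗ[R] B := c • ∑ γ : G, g.toLinearMap ∘ₗ DistribSMul.toLinearMap R O γ
  have hgb : ∀ x, gb x = c • ∑ γ : G, g (γ • x) := fun x ↦ by simp [gb]
  have hdiff : ∀ x, gb x = g x + c • ∑ γ : G, (g (γ • x) - g x) := fun x ↦ by
    rw [hgb, Finset.sum_sub_distrib, smul_sub, Finset.sum_const, Finset.card_univ, ← Nat.cast_smul_eq_nsmul R,
      smul_smul, ← Nat.card_eq_fintype_card, hc, one_smul]
    abel
  have hmem : ∀ x, c • ∑ γ : G, (g (γ • x) - g x) ∈ J := fun x ↦ by
    rw [Algebra.smul_def]; exact J.mul_mem_left _ (sum_mem fun γ _ ↦ hd γ x)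
  let gh : O →ₐ[R] B := AlgHom.ofLinearMap gb
    (by rw [hdiff]; simp)
    (fun x y ↦ by
      rw [hdiff, hdiff, hdiff]
      have h0 := hJ2 _ (hmem x) _ (hmem y)
      have hsum : ∑ γ : G, (g (γ • (x * y)) - g (x * y)) =
          g x * ∑ γ : G, (g (γ • y) - g y) + g y * ∑ γ : G, (g (γ • x) - g x) := by
        rw [Finset.mul_sum, Finset.mul_sum, ← Finset.sum_add_distrib]
        refine Finset.sum_congr rfl fun γ _ ↦ ?_
        rw [smul_mul', map_mul, map_mul]
        linear_combination hJ2 _ (hd γ x) _ (hd γ y)
      rw [hsum, map_mul, smul_add, ← mul_smul_comm, ← mul_smul_comm]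
      linear_combination -h0)
  have hker : ∀ z ∈ I, gh z = 0 := fun z hz ↦ by
    change z ∈ RingHom.ker gh
    revert z
    change I ≤ RingHom.ker gh
    refine Ideal.span_le.mpr ?_
    rintro _ ⟨δ, x, rfl⟩
    change gb (δ • x - x) = 0
    rw [map_sub, sub_eq_zero, hgb, hgb]
    refine congrArg (c • ·) (Fintype.sum_bijective (· * δ) (Group.mulRight_bijective δ) _ _ fun γ ↦ ?_)
    rw [mul_smul]
  refine ⟨Ideal.Quotient.liftₐ I gh hker, Ideal.Quotient.algHom_ext R (AlgHom.ext fun x ↦ ?_)⟩
  have e := DFunLike.congr_fun hg x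
  simp only [AlgHom.comp_apply, Ideal.Quotient.mkₐ_eq_mk] at e ⊢
  refine Eq.trans ?_ e
  change Ideal.Quotient.mk J (gb x) = _
  rw [hdiff, Ideal.Quotient.eq, add_sub_cancel_left]
  exact hmem x

end Groth.Agent.S16211
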