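import Groth.Statements.S16212
import Groth.Agent.PRedWeil.ConstIntegral
import Mathlib.Algebra.Group.Shrink

set_option autoImplicit false
universe u v
open CategoryTheory AlgebraicGeometry
open AlgGrp

namespace Groth.Agent.S16212

open MonoidalCategory CartesianMonoidalCategory

/-- Let S be a scheme, X an S-scheme that is smooth, separated and of finite presentation over S, and G
a finite group whose order is invertible on S (a unit among the global functions of S) acting on X
by S-automorphisms. Then the scheme of G-fixed points of X, namely any S-scheme Z with an S-morphism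
ι to X that is itself fixed by every element of G (ι followed by the automorphism of each g equals
ι) and such that an S-morphism T → X is fixed by every element of G exactly when it factors through
ι, and then uniquely, is a closed subscheme of X (ι is a closed immersion) which is smooth and of
finite presentation over S (smooth, quasi-compact and quasi-separated). The published statement
assumes X only smooth and of finite presentation over S; this row also assumes X separated over S. -/
theorem result (S : Scheme.{u})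
    (X : Over S) [Smooth X.hom] [QuasiCompact X.hom] [IsSeparated X.hom]
    (G : Type v) [Group G] [Finite G] (ρ : G →* Aut X)
    (hG : IsUnit (Nat.card G : Γ(S, ⊤)))
    (Z : Over S) (ι : Z ⟶ X) (hι : ∀ g : G, ι ≫ (ρ g).hom = ι)
    (hZ : ∀ (T : Over S) (t : T ⟶ X), (∀ g : G, t ≫ (ρ g).hom = t) ↔ ∃! t' : T ⟶ Z, t' ≫ ι = t) :
    IsClosedImmersion ι.left ∧ Smooth Z.hom ∧ QuasiCompact Z.hom ∧ QuasiSeparated Z.hom := by
  classical
  haveI : Small.{u} G := small_map (Finite.equivFin G)
  let M := Shrink.{u} G
  haveI : Finite M := Finite.of_equiv G (equivShrink G)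
  let e : M ≃* G := Shrink.mulEquiv
  let r : M → (X ⟶ X) := fun m => (ρ (e m)).hom
  have hr1 : r 1 = 𝟙 X := by simp [r]; rfl
  have hrmul : ∀ m n, r (m * n) = r n ≫ r m := fun m n => by simp [r]; rfl
  haveI := Fintype.ofFinite M
  letI := Groth.GaloisBrauer.H13.constGrp S M
  obtain ⟨a, ha⟩ := Groth.PRedWeil.ConstAvg.exists_actionConst r hr1 hrmul
  obtain ⟨hH⟩ := Groth.PRedWeil.ConstAvg.nonempty_integral_const (S := S) (M := M)
    (by rw [Nat.card_congr e.toEquiv]; exact hG)
  obtain ⟨C, c, hc, hcf, hC⟩ := Groth.PRedWeil.ConstAvg.exists_closed_fixed r Finset.univ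
  have hfixG : ∀ {T : Over S} (t : T ⟶ X), (∀ g : G, t ≫ (ρ g).hom = t) ↔ ∀ m, t ≫ r m = t :=
    fun t => ⟨fun h m => h _, fun h g => by simpa [r] using h (e.symm g)⟩
  haveI : Mono c := Over.mono_of_mono_left c
  obtain ⟨u, hu⟩ := (hC Z ι).2 fun m _ => (hfixG ι).1 hι m
  obtain ⟨v, hv, -⟩ := (hZ C c).1 ((hfixG c).2 fun m => (hC C c).1 ⟨𝟙 C, Category.id_comp c⟩ m (Finset.mem_univ m))
  have huv : u ≫ v = 𝟙 Z := by
    obtain ⟨w, -, hw⟩ := (hZ Z ι).1 hι
    rw [hw (u ≫ v) (by dsimp only; rw [Category.assoc, hv, hu]), hw (𝟙 Z) (Category.id_comp ι)]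
  have hvu : v ≫ u = 𝟙 C := by rw [← cancel_mono c, Category.assoc, hu, hv, Category.id_comp]
  haveI : IsIso u := ⟨v, huv, hvu⟩
  haveI : IsIso u.left := inferInstanceAs (IsIso ((Over.forget S).map u))
  have e1 : ι.left = u.left ≫ c.left := by rw [← Over.comp_left, hu]
  haveI : IsClosedImmersion ι.left := by rw [e1]; infer_instance
  haveI : LocallyOfFinitePresentation ι.left := by rw [e1]; infer_instance
  have e2 : Z.hom = ι.left ≫ X.hom := (Over.w ι).symm
  refine ⟨inferInstance, ?_, by rw [e2]; infer_instance, by rw [e2]; infer_instance⟩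
  let a' : AlgGrp.Action (TwC.const S M) (𝟙_ (Over S)) :=
    ⟨toUnit _, toUnit_unique _ _, toUnit_unique _ _⟩
  haveI : Smooth (toUnit X).left := inferInstanceAs (Smooth X.hom)
  haveI : LocallyOfFinitePresentation (toUnit Z).left := by
    show LocallyOfFinitePresentation Z.hom
    rw [e2]; infer_instance
  haveI : Mono ι := Over.mono_of_mono_left ι
  exact Groth.PRedWeil.IntAvg.smooth_map_fixedLocus hH a a' (toUnit X) (toUnit_unique _ _) ι
    (𝟙 (𝟙_ (Over S))) (toUnit Z) (toUnit_unique _ _) ((ha ι).2 ((hfixG ι).1 hι))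
    (toUnit_unique _ _) (fun Y y hy => ((hZ Y y).1 ((hfixG y).2 ((ha y).1 hy))).exists)

end Groth.Agent.S16212
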