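import Groth.Statements.S16213
import Groth.Agent.AlgStBasic.AtlasOfBase
import Groth.Agent.AlgStBasic.LocQBase
import Groth.Agent.AlgSpBasic.LocPInst

set_option autoImplicit false
set_option backward.isDefEq.respectTransparency false
set_option backward.isDefEq.respectTransparency.types false
open CategoryTheory AlgebraicGeometry
universe u
open AlgSt

namespace Groth.Agent.S16213

/-- Let S be a scheme, let 𝒳 and 𝒴 be stacks in groupoids over (Sch/S) for the fppf topology with 𝒴 an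
algebraic stack, and let f : 𝒳 ⟶ 𝒴 be a functor over (Sch/S). Suppose there are an algebraic space Z
over S and a functor z : Z ⟶ 𝒴 over (Sch/S) which is representable by algebraic spaces, smooth and
surjective, such that the 2-fibre product Z ×_𝒴 𝒳 is an algebraic stack. Then 𝒳 is an algebraic
stack over S. -/
theorem result {S : Scheme.{u}} {𝒳 𝒴 : AlgSt.Cat S}
    (h𝒳 : Stk.IsStack (QuotSh.J Scheme.fppfPrecoverage S) 𝒳)
    (h𝒴 : AlgSt.IsAlgStack Scheme.fppfPrecoverage 𝒴) (f : 𝒳 ⥤ᵇ 𝒴)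
    (Z : AlgSp.Space S) (z : AlgSt.ofSp Z.obj ⥤ᵇ 𝒴)
    (hsm : AlgSt.RepByAlgSpWith (AlgSp.LocP @Smooth) z)
    (hsurj : AlgSt.RepByAlgSpWith AlgSp.IsSurjectiveMor z)
    (hfp : AlgSt.IsAlgStack Scheme.fppfPrecoverage (FibCat.fp z f)) :
    AlgSt.IsAlgStack Scheme.fppfPrecoverage 𝒳 := by
  exact Groth.AlgStBasic.isAlgStack_of_hasAtlas h𝒳 (Groth.AlgStBasic.hasAtlas_of_fp_atlas
    (Groth.AlgStBasic.isFibGrpd_ofSp Z.obj) h𝒳.1 h𝒴.isStack.1 z hsm hsurj f hfp.atlas)

end Groth.Agent.S16213
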