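import Groth.Statements.S16214
import Groth.Agent.ArtinAtlas.BGSmooth

set_option autoImplicit false
set_option backward.isDefEq.respectTransparency false
set_option backward.isDefEq.respectTransparency.types false
universe u
open CategoryTheory AlgebraicGeometry
open AlgSt

namespace Groth.Agent.S16214

/-- Let k be an algebraically closed field and Δ a finite diagonalizable group scheme over k, written Δ
= D(M) = Spec k[M] for a finite abelian group M. Then the classifying stack BΔ (whose objects over a
k-scheme T are the fppf-locally trivial Δ_T-torsors) is smooth over k, in the chart form: there are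
schemes U, V over k, a smooth surjective chart (Sch/U) ⟶ BΔ, a smooth chart (Sch/V) of Spec k and a
smooth U ⟶ V making the chart square commute up to isomorphism. (Δ itself need not be smooth, e.g.
μ_p in characteristic p.) The published statement allows any diagonalizable Δ; this row takes Δ
finite, i.e. M finite, the case its proof treats. -/
theorem result (k : Type u) [Field k] [IsAlgClosed k]
    (M : Type) [AddCommGroup M] [Finite M] :
    AlgSt.LocQ (AlgSp.LocP @Smooth)
      (FibCat.toSelf (AlgSt.BG Scheme.fppfPrecoverage (Red.diag k M))) := by
  have : IsAffineHom (Red.diag k M).hom := inferInstanceAs (IsAffineHom (Spec.map _))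
  have : Flat (Red.diag k M).hom := by
    refine (Flat.SpecMap_iff (f := CommRingCat.ofHom (algebraMap k (MonoidAlgebra k (Multiplicative M))))).2 ?_
    exact RingHom.flat_algebraMap_iff.2 inferInstance
  have : LocallyOfFinitePresentation (Red.diag k M).hom := by
    refine (LocallyOfFinitePresentation.SpecMap_iff (CommRingCat.ofHom (algebraMap k (MonoidAlgebra k (Multiplicative M))))).2 ?_
    have : Algebra.FinitePresentation k (MonoidAlgebra k (Multiplicative M)) :=
      Algebra.FinitePresentation.of_finiteType.1 inferInstance
    exact RingHom.finitePresentation_algebraMap.2 this
  exact Groth.ArtinAtlas.locQ_smooth_BG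

end Groth.Agent.S16214
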