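import Groth.Statements.S16221
import Groth.Agent.Misc5Disp.Dieudonne

set_option autoImplicit false
universe u v
open Disp

namespace Groth.Agent.S16221

/-- Let p be a prime and k a perfect ring of characteristic p, so that the Frobenius σ of W = W(k) is
bijective, W has no p-torsion and W/p^n W = W_n(k) (the ideal p^n W is the kernel of the truncation
to length n). Let n ≥ 2 and let M be a truncated Dieudonné module of level n over k: a W-module on
which W acts through W/p^n W, finitely generated and projective over W/p^n W, with a σ-semilinear F
: M → M and a σ⁻¹-semilinear V : M → M such that FV = VF = p. Then M/VM is a projective k-module;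
here VM ⊇ VFM = pM, and the statement is made for the W/pW-module obtained from M/pM by dividing out
the image of V, W/pW being identified with k by the first Witt component. -/
theorem result (p : ℕ) [Fact p.Prime] (k : Type u) [CommRing k]
    [CharP k p] [PerfectRing k p] (n : ℕ) (hn : 2 ≤ n)
    (M : Type v) [AddCommGroup M] [Module (WittVector p k) M]
    [Module (WittVector p k ⧸ Ideal.span {(p : WittVector p k) ^ n}) M] [IsScalarTower (WittVector p k) (WittVector p k ⧸ Ideal.span {(p : WittVector p k) ^ n}) M]
    [Module.Finite (WittVector p k ⧸ Ideal.span {(p : WittVector p k) ^ n}) M] [Module.Projective (WittVector p k ⧸ Ideal.span {(p : WittVector p k) ^ n}) M]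
    (F : M →ₛₗ[(WittVector.frobenius : WittVector p k →+* WittVector p k)] M)
    (V : M →ₛₗ[((WittVector.frobeniusEquiv p k).symm : WittVector p k →+* WittVector p k)] M)
    (hFV : ∀ m : M, F (V m) = (p : WittVector p k) • m) (hVF : ∀ m : M, V (F m) = (p : WittVector p k) • m) :
    Module.Projective (WittVector p k ⧸ Ideal.span {(p : WittVector p k)})
      ((M ⧸ (Ideal.span {(p : WittVector p k)} • (⊤ : Submodule (WittVector p k) M))) ⧸
        Submodule.span (WittVector p k ⧸ Ideal.span {(p : WittVector p k)})
          (Set.range fun m : M => (Ideal.span {(p : WittVector p k)} • (⊤ : Submodule (WittVector p k) M)).mkQ (V m))) := by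
  let π : (WittVector p k ⧸ Ideal.span {(p : WittVector p k) ^ n}) →ₐ[WittVector p k]
      WittVector p k ⧸ Ideal.span {(p : WittVector p k)} :=
    { Ideal.Quotient.factor ((Ideal.span_singleton_le_iff_mem _).2
        (Ideal.pow_mem_of_mem _ (Ideal.mem_span_singleton_self _) n (by omega))) with commutes' := fun _ => rfl }
  obtain ⟨h1, h2⟩ := Groth.Misc5Disp.finite_projective_mod (M := M) π Ideal.Quotient.mk_surjective
  exact Groth.Misc5Disp.projective_mod_V F V hFV hVF (Groth.Misc5Disp.pTorsionMod_of_projective_quotient hn)

end Groth.Agent.S16221
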