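import Groth.Statements.S16225
import Mathlib
import Groth.Agent.Calg7.WittEffective
-- import your own Groth.Agent.* helpers here

set_option autoImplicit false
open scoped TensorProduct
universe u v
open CAlg

namespace Groth.Agent.S16225

/-- Let p be a prime, n a natural number and R → R' a faithfully flat homomorphism of commutative rings
in which p is nilpotent. Regard W_n(R') and W_n(R' ⊗_R R') as W_n(R)-algebras through the
componentwise maps induced by R → R' and R → R' ⊗_R R', and let ψ₁, ψ₂ : W_n(R') → W_n(R' ⊗_R R') be
the componentwise maps induced by the two inclusions of R' (these are W_n(R)-algebra maps). Then for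
every flat W_n(R)-module M the sequence 0 → M → M ⊗_{W_n(R)} W_n(R') ⇉ M ⊗_{W_n(R)} W_n(R' ⊗_R R')
is exact: m ↦ m ⊗ 1 is injective and its image is the equalizer of id ⊗ ψ₁ and id ⊗ ψ₂. (This is the
beginning, in degrees 0 and 1, of a complex continued by the higher tensor powers of R', which the
published proof asserts to be exact throughout; W_n(R) → W_n(R') is not flat in general, so this is
not faithfully flat descent.) -/
theorem result (p : ℕ) [Fact p.Prime] (n : ℕ)
    (R R' : Type u) [CommRing R] [CommRing R'] [Algebra R R'] [Module.FaithfullyFlat R R']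
    (hp : IsNilpotent (p : R))
    [Algebra (TruncatedWittVector p n R) (TruncatedWittVector p n R')]
    (h₁ : algebraMap (TruncatedWittVector p n R) (TruncatedWittVector p n R') = WittGrp.truncMap p n (algebraMap R R'))
    [Algebra (TruncatedWittVector p n R) (TruncatedWittVector p n (TensorProduct R R' R'))]
    (h₂ : algebraMap (TruncatedWittVector p n R) (TruncatedWittVector p n (TensorProduct R R' R')) =
      WittGrp.truncMap p n (algebraMap R (TensorProduct R R' R')))
    (ψ₁ ψ₂ : TruncatedWittVector p n R' →ₐ[TruncatedWittVector p n R] TruncatedWittVector p n (TensorProduct R R' R'))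
    (hψ₁ : (ψ₁ : TruncatedWittVector p n R' →+* TruncatedWittVector p n (TensorProduct R R' R')) =
      WittGrp.truncMap p n (Algebra.TensorProduct.includeLeftRingHom : R' →+* TensorProduct R R' R'))
    (hψ₂ : (ψ₂ : TruncatedWittVector p n R' →+* TruncatedWittVector p n (TensorProduct R R' R')) =
      WittGrp.truncMap p n ((Algebra.TensorProduct.includeRight : R' →ₐ[R] TensorProduct R R' R') : R' →+* TensorProduct R R' R'))
    (M : Type v) [AddCommGroup M] [Module (TruncatedWittVector p n R) M] [Module.Flat (TruncatedWittVector p n R) M] :
    Function.Injective (fun m : M => m ⊗ₜ[TruncatedWittVector p n R] (1 : TruncatedWittVector p n R')) ∧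
      ∀ x : M ⊗[TruncatedWittVector p n R] TruncatedWittVector p n R',
        LinearMap.lTensor M ψ₁.toLinearMap x = LinearMap.lTensor M ψ₂.toLinearMap x →
          x ∈ Set.range (fun m : M => m ⊗ₜ[TruncatedWittVector p n R] (1 : TruncatedWittVector p n R')) := by
  have hinj : Function.Injective (algebraMap (TruncatedWittVector p n R) (TruncatedWittVector p n R')) := by
    intro a b hab
    rw [h₁] at hab
    ext i
    have := congrArg (fun z => TruncatedWittVector.coeff i z) hab
    simp only [WittGrp.coeff_truncMap] at this
    exact Groth.Calg7.WittEff.algebraMap_injective this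
  have hex : Function.Exact (Algebra.linearMap (TruncatedWittVector p n R) (TruncatedWittVector p n R'))
      (ψ₁.toLinearMap - ψ₂.toLinearMap) := by
    intro b
    rw [LinearMap.sub_apply, AlgHom.toLinearMap_apply, AlgHom.toLinearMap_apply, sub_eq_zero]
    have e1 : ψ₁ b = WittGrp.truncMap p n _ b := RingHom.congr_fun hψ₁ b
    have e2 : ψ₂ b = WittGrp.truncMap p n _ b := RingHom.congr_fun hψ₂ b
    rw [e1, e2]
    refine ⟨fun h => ?_, ?_⟩
    · have hc : ∀ i, ∃ r, algebraMap R R' r = b.coeff i := fun i => Groth.Calg7.WittEff.mem_range_of_eq _ (by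
        have := congrArg (fun z => TruncatedWittVector.coeff i z) h
        simpa only [WittGrp.coeff_truncMap] using this)
      choose r hr using hc
      refine ⟨TruncatedWittVector.mk p r, ?_⟩
      rw [Algebra.linearMap_apply, h₁]
      ext i
      rw [WittGrp.coeff_truncMap, TruncatedWittVector.coeff_mk, hr]
    · rintro ⟨a, rfl⟩
      rw [Algebra.linearMap_apply, h₁]
      ext i
      simp only [WittGrp.coeff_truncMap]
      exact Groth.Calg7.WittEff.includeLeft_algebraMap _
  have hlin : ∀ m : M, (Algebra.linearMap (TruncatedWittVector p n R) (TruncatedWittVector p n R')).lTensor M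
      (m ⊗ₜ (1 : TruncatedWittVector p n R)) = m ⊗ₜ (1 : TruncatedWittVector p n R') := fun m => by
    rw [LinearMap.lTensor_tmul, Algebra.linearMap_apply, map_one]
  have hl : Function.Injective
      ((Algebra.linearMap (TruncatedWittVector p n R) (TruncatedWittVector p n R')).lTensor M) :=
    Module.Flat.lTensor_preserves_injective_linearMap _ hinj
  refine ⟨fun a b hab => ?_, fun x hx => ?_⟩
  · have h := hl ((hlin a).trans ((by exact hab : a ⊗ₜ[TruncatedWittVector p n R] (1 : TruncatedWittVector p n R') = b ⊗ₜ 1).trans (hlin b).symm))
    simpa using congrArg (TensorProduct.rid (TruncatedWittVector p n R) M) h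
  · obtain ⟨z, rfl⟩ := (Module.Flat.lTensor_exact M hex x).1 (by rw [LinearMap.lTensor_sub, LinearMap.sub_apply, hx, sub_self])
    obtain ⟨m, rfl⟩ := (TensorProduct.rid (TruncatedWittVector p n R) M).symm.surjective z
    exact ⟨m, by rw [TensorProduct.rid_symm_apply, hlin]⟩

end Groth.Agent.S16225
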