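import Groth.Statements.S16226
import Groth.Agent.AlgStCover.Reduction

set_option autoImplicit false
universe u
open CategoryTheory MonoidalCategory CartesianMonoidalCategory MonObj AlgebraicGeometry
open PrincBund

namespace Groth.Agent.S16226

/-- Let i : G → H be a homomorphism of group schemes over a base scheme S which is a closed immersion, F
an H-torsor over S for the etale topology with action aF, and π : F → Q a morphism of S-schemes
exhibiting Q as the quotient F/G, in the sense that the square formed by the restricted action G ×_S
F → F, the projection G ×_S F → F and π twice is cartesian and π acquires sections etale-locally on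
Q. Then for every section σ of Q over S there are a G-torsor E over S for the etale topology and an
i-equivariant morphism φ : E → F over S such that the square (φ, E → S; π, σ) is cartesian; that is,
σ comes from a reduction of the structure group of F to G. (Stated over an arbitrary base scheme and
for arbitrary group schemes; the quotient F/G is taken as data through its torsor property rather
than constructed.) -/
theorem result
    {S : Scheme.{u}} {G H F Q : Over S} [GrpObj G] [GrpObj H]
    (i : G ⟶ H) [IsMonHom i] [IsClosedImmersion i.left]
    (aF : AlgGrp.Action H F) (hF : NonAbH1.IsTorsorFor Scheme.etalePrecoverage aF)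
    (π : F ⟶ Q)
    (hsq : IsPullback (aF.restrict i).act (snd G F) π π)
    (hloc : NonAbH1.IsLocallyTrivialFor Scheme.etalePrecoverage (Over.mk π.left : Over Q.left))
    (σ : 𝟙_ (Over S) ⟶ Q) :
    ∃ (E : Over S) (aE : AlgGrp.Action G E) (φ : E ⟶ F),
      NonAbH1.IsTorsorFor Scheme.etalePrecoverage aE ∧
      AlgGrp.Action.IsEquivariant aE (aF.restrict i) φ ∧
      IsPullback φ (toUnit E) π σ := by
  exact Groth.AlgStCover.exists_reduction_of_section hsq hloc σ

end Groth.Agent.S16226
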