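import Groth.Statements.S16231
import Groth.Agent.SGA7.Translation

set_option autoImplicit false
universe u
open VanCyc

namespace Groth.Agent.S16231

/-- Let A be a local ring with maximal ideal m that is separated and complete for the m-adic topology (A
is not assumed Noetherian), n a natural number, q an n × n coefficient table over A whose quadratic
form Q(x) = Σ_{i≤j} q_ij x_i x_j is non-degenerate (unit Gram determinant of the polar bilinear
form), a and ℓ_1, …, ℓ_n elements of m, and F a formal power series in x_1, …, x_n over A whose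
coefficients in total degree at most 2 agree with those of a + Σ ℓ_i x_i + Q(x). Then there are an
element a' of m and a non-degenerate coefficient table q' such that A[[x]]/(F) and A[[x]]/(Q'(x) +
a') are isomorphic as A-algebras, Q' the quadratic form of q'. -/
theorem result
    (A : Type u) [CommRing A] [IsLocalRing A]
    [IsAdicComplete (IsLocalRing.maximalIdeal A) A] (n : ℕ)
    (q : Fin n → Fin n → A) (hq : VanCyc.QuadNondeg q)
    (a : A) (ha : a ∈ IsLocalRing.maximalIdeal A)
    (ℓ : Fin n → A) (hℓ : ∀ i, ℓ i ∈ IsLocalRing.maximalIdeal A)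
    (F : MvPowerSeries (Fin n) A)
    (hF : ∀ e : Fin n →₀ ℕ, e.degree ≤ 2 →
      MvPowerSeries.coeff e F = MvPowerSeries.coeff e ((VanCyc.quadPoly q + ∑ i, MvPolynomial.C (ℓ i) * MvPolynomial.X i + MvPolynomial.C a : MvPolynomial (Fin n) A) : MvPowerSeries (Fin n) A)) :
    ∃ (a' : A) (q' : Fin n → Fin n → A), a' ∈ IsLocalRing.maximalIdeal A ∧ VanCyc.QuadNondeg q' ∧
      Nonempty ((MvPowerSeries (Fin n) A ⧸ Ideal.span {F}) ≃ₐ[A]
        (MvPowerSeries (Fin n) A ⧸ Ideal.span {((VanCyc.quadPoly q' + MvPolynomial.C a' : MvPolynomial (Fin n) A) : MvPowerSeries (Fin n) A)})) := by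
  classical
  letI : WithIdeal A := ⟨IsLocalRing.maximalIdeal A⟩
  obtain ⟨hcs, ht2⟩ := (IsAdic.isAdicComplete_iff (I := IsLocalRing.maximalIdeal A) rfl).mp inferInstance
  haveI := hcs
  haveI := ht2
  haveI : IsPrecomplete (WithIdeal.i : Ideal A) A := inferInstanceAs (IsPrecomplete (IsLocalRing.maximalIdeal A) A)
  haveI : IsHausdorff (WithIdeal.i : Ideal A) A := inferInstanceAs (IsHausdorff (IsLocalRing.maximalIdeal A) A)
  have hne : ∀ (i : Fin n) (e : Fin n →₀ ℕ), e.degree = 2 → ¬ Finsupp.single i 1 = e := fun i e he h => by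
    rw [← h] at he; simp at he
  have hqp : ∀ i j, i ≤ j → VanCyc.quadPart F i j = q i j := fun i j hij => by
    rw [Groth.SGA7.Translation.quadPart_apply_of_le _ hij, hF _ (by simp), MvPolynomial.coeff_coe]
    simp only [MvPolynomial.coeff_add, MvPolynomial.coeff_sum]
    rw [Groth.SGA7.Translation.coeff_quadPoly_pair _ hij, Finset.sum_eq_zero fun k _ => by
      rw [MvPolynomial.coeff_C_mul, MvPolynomial.coeff_X', if_neg (hne k _ (by simp)), mul_zero],
      MvPolynomial.coeff_C, if_neg fun h => by
        have := congrArg Finsupp.degree h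
        simp at this]
    simp
  have hdet : VanCyc.QuadNondeg (VanCyc.quadPart F) := by
    have h := Groth.SGA7.Translation.map_polarMatrix_congr (RingHom.id A) (VanCyc.quadPart F) q hqp
    unfold VanCyc.QuadNondeg at hq ⊢
    have h' : VanCyc.polarMatrix (VanCyc.quadPart F) = VanCyc.polarMatrix q := by simpa using h
    exact h' ▸ hq
  have hlin : ∀ i, MvPowerSeries.coeff (Finsupp.single i 1) F = ℓ i := fun i => by
    rw [hF _ (by simp), MvPolynomial.coeff_coe]
    simp [MvPolynomial.coeff_sum, MvPolynomial.coeff_C_mul, MvPolynomial.coeff_X', MvPolynomial.coeff_C,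
      Groth.SGA7.Translation.coeff_quadPoly_of_ne, Finsupp.single_left_inj, eq_comm (a := (0 : Fin n →₀ ℕ))]
  have hconst : MvPowerSeries.constantCoeff F = a := by
    rw [← MvPowerSeries.coeff_zero_eq_constantCoeff_apply, hF 0 (by simp), MvPolynomial.coeff_coe]
    simp [MvPolynomial.coeff_sum, MvPolynomial.coeff_X', Groth.SGA7.Translation.coeff_quadPoly_of_ne]
  obtain ⟨c, hc, h1, h0, hnd⟩ := Groth.SGA7.Translation.exists_transl_linear_eq_zero (A := A) rfl F hdet
    (fun i => by rw [hlin]; exact hℓ i)
  set G := Groth.SGA7.Translation.transl c hc F with hG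
  refine ⟨MvPowerSeries.constantCoeff G, VanCyc.quadPart G, ?_, hnd, ?_⟩
  · rw [hconst] at h0
    have h2 : MvPowerSeries.constantCoeff G - a + a ∈ IsLocalRing.maximalIdeal A := add_mem h0 ha
    rwa [sub_add_cancel] at h2
  obtain ⟨h, hh, hs, he⟩ := Groth.SGA7.Morse.exists_subst_eq 2 le_rfl (VanCyc.quadPart G) hnd
    (MvPowerSeries.constantCoeff G) G (Groth.SGA7.Translation.coeff_eq_quadPart G h1)
  have hb : Function.Bijective (MvPowerSeries.subst (fun i => MvPowerSeries.X i + h i) :
      MvPowerSeries (Fin n) A → MvPowerSeries (Fin n) A) :=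
    Groth.EtaleDeep.PSInverse.bijective_subst_of_sub_X _ fun i => by
      rw [add_sub_cancel_left]; exact_mod_cast hh i
  refine ⟨Ideal.quotientEquivAlg _ _ ((Groth.SGA7.Translation.translEquiv c hc).trans
    (Groth.EtaleDeep.PSInverse.substEquiv _ hs hb)) ?_⟩
  rw [Ideal.map_span, Set.image_singleton]
  exact congrArg (fun g => Ideal.span {g})
    (((Groth.EtaleDeep.PSInverse.substEquiv_apply _ hs hb G).trans he).symm)

end Groth.Agent.S16231
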