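import Groth.Statements.S16232
import Groth.Agent.SGA7.TameField
import Mathlib.FieldTheory.PurelyInseparable.Basic
import Mathlib.FieldTheory.Galois.Profinite

set_option autoImplicit false
universe u v
open VanCyc

namespace Groth.Agent.S16232

/-- Let R be a strictly Henselian discrete valuation ring (Henselian, with separably closed residue
field), K its fraction field, Ω a separable closure of K and G the group of K-algebra automorphisms
of Ω; let r ≥ 1 be an integer invertible in the residue field of R, ϖ a uniformizer of R and ρ an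
r-th root of ϖ in Ω, so that the fundamental character χ : G → μ_r(Ω) is σ ↦ σ(ρ)/ρ. Then every
homomorphism φ of the abstract group G into an abelian group M with rM = 0 factors uniquely through
χ: there is exactly one homomorphism u : μ_r(Ω) → M with φ(σ) = u(χ(σ)) for every σ in G.
(Homomorphisms are written as maps respecting the group laws; χ(σ) is the root of unity ζ with ζρ =
σ(ρ).) -/
theorem result
    (R : Type u) [CommRing R] [IsDomain R] [IsDiscreteValuationRing R] [HenselianLocalRing R]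
    [IsSepClosed (IsLocalRing.ResidueField R)]
    (K : Type u) [Field K] [Algebra R K] [IsFractionRing R K]
    (Ω : Type u) [Field Ω] [Algebra K Ω] [IsSepClosure K Ω]
    (r : ℕ) [NeZero r] (hr : IsUnit (r : IsLocalRing.ResidueField R))
    (ϖ : R) (hϖ : Irreducible ϖ) (ρ : Ω) (hρ : ρ ^ r = algebraMap K Ω (algebraMap R K ϖ))
    (M : Type v) [AddCommGroup M] (hM : ∀ x : M, r • x = 0)
    (φ : (Ω ≃ₐ[K] Ω) → M) (hφ : ∀ σ τ : Ω ≃ₐ[K] Ω, φ (σ * τ) = φ σ + φ τ) :
    ∃! u : ↥(rootsOfUnity r Ω) → M, (∀ ζ ξ : ↥(rootsOfUnity r Ω), u (ζ * ξ) = u ζ + u ξ) ∧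
      ∀ (σ : Ω ≃ₐ[K] Ω) (ζ : ↥(rootsOfUnity r Ω)), ((ζ : Ωˣ) : Ω) * ρ = σ ρ → φ σ = u ζ := by
  classical
  letI : Algebra R Ω := ((algebraMap K Ω).comp (algebraMap R K)).toAlgebra
  haveI : IsScalarTower R K Ω := IsScalarTower.of_algebraMap_eq fun _ => rfl
  haveI : Algebra.IsSeparable K Ω := IsSepClosure.separable
  haveI : IsSepClosed Ω := IsSepClosure.sep_closed K
  haveI : IsGalois K Ω := IsSepClosure.isGalois
  let W : ValuationSubring Ω := { (integralClosure R Ω).toSubring with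
    mem_or_inv_mem' := fun x => Groth.SGA7.HenselVal.isIntegral_or_inv R K x }
  have hmemW : ∀ x, x ∈ W ↔ IsIntegral R x := fun x => Iff.rfl
  have halg : ∀ b : R, algebraMap R Ω b = algebraMap K Ω (algebraMap R K b) := fun b => rfl
  have hW : SGA7.LiesOver K R W := by
    refine ⟨fun b => (hmemW _).mpr isIntegral_algebraMap, fun b hb => ?_⟩
    rcases eq_or_ne b 0 with rfl | hb0
    · simp
    by_contra h
    have hbK : algebraMap R K b ≠ 0 := (map_ne_zero_iff _ (IsFractionRing.injective R K)).mpr hb0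
    have hbΩ : algebraMap K Ω (algebraMap R K b) ≠ 0 := (_root_.map_ne_zero _).mpr hbK
    rw [not_lt, ← inv_le_one₀ (zero_lt_iff.mpr ((Valuation.ne_zero_iff _).mpr hbΩ)), ← map_inv₀, ← map_inv₀,
      ValuationSubring.valuation_le_one_iff, hmemW] at h
    obtain ⟨s, hs⟩ := IsIntegrallyClosed.isIntegral_iff.mp ((isIntegral_algHom_iff (IsScalarTower.toAlgHom R K Ω)
      (algebraMap K Ω).injective).mp h)
    refine (IsLocalRing.mem_maximalIdeal b).mp hb (isUnit_iff_exists_inv.mpr ⟨s, IsFractionRing.injective R K ?_⟩)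
    rw [map_mul, hs, map_one, mul_inv_cancel₀ hbK]
  have hst : ∀ (σ : Ω ≃ₐ[K] Ω) (x : Ω), x ∈ W → σ x ∈ W := fun σ x hx =>
    (hmemW _).mpr (((hmemW x).mp hx).map (σ.toAlgHom.restrictScalars R))
  -- the residual action is trivial
  let ψ : R →+* W := (algebraMap R Ω).codRestrict W.toSubring fun b => hW.1 b
  have hψmax : ∀ b ∈ IsLocalRing.maximalIdeal R, ψ b ∈ IsLocalRing.maximalIdeal W := fun b hb =>
    (ValuationSubring.valuation_lt_one_iff W (ψ b)).mpr (hW.2 b hb)
  haveI : IsLocalHom ψ := ⟨fun b hb => by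
    by_contra hu
    exact (IsLocalRing.mem_maximalIdeal _).mp (hψmax b ((IsLocalRing.mem_maximalIdeal b).mpr hu)) hb⟩
  letI : Algebra (IsLocalRing.ResidueField R) (IsLocalRing.ResidueField W) :=
    (IsLocalRing.ResidueField.map ψ).toAlgebra
  obtain ⟨q, hq⟩ := ExpChar.exists (IsLocalRing.ResidueField R)
  haveI : ExpChar (IsLocalRing.ResidueField W) q :=
    expChar_of_injective_ringHom (IsLocalRing.ResidueField.map ψ).injective q
  have hI : ∀ σ : Ω ≃ₐ[K] Ω, SGA7.IsInertia W σ := by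
    intro σ u hu
    refine ⟨hst σ u hu, (Groth.SGA7.Inertia.res_eq_iff (hst σ u hu) hu).mp ?_⟩
    obtain ⟨P, hPm, hP⟩ := (hmemW u).mp hu
    set ub : IsLocalRing.ResidueField W := IsLocalRing.residue W ⟨u, hu⟩ with hub
    have hint : IsIntegral (IsLocalRing.ResidueField R) ub := by
      refine ⟨P.map (IsLocalRing.residue R), hPm.map _, ?_⟩
      rw [Polynomial.eval₂_map]
      have h0 : Polynomial.eval₂ ψ (⟨u, hu⟩ : W) P = 0 := Subtype.ext (by
        have := Polynomial.hom_eval₂ P ψ W.subtype (⟨u, hu⟩ : W)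
        exact this.trans hP)
      have h1 := Polynomial.hom_eval₂ P ψ (IsLocalRing.residue W) (⟨u, hu⟩ : W)
      rw [h0, map_zero] at h1
      exact h1.symm
    let L := IntermediateField.adjoin (IsLocalRing.ResidueField R) {ub}
    haveI : FiniteDimensional (IsLocalRing.ResidueField R) L := IntermediateField.adjoin.finiteDimensional hint
    obtain ⟨e, c, hc⟩ := IsPurelyInseparable.pow_mem (IsLocalRing.ResidueField R) q
      (⟨ub, IntermediateField.mem_adjoin_simple_self _ ub⟩ : L)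
    obtain ⟨b, rfl⟩ := IsLocalRing.residue_surjective c
    have hbW : algebraMap K Ω (algebraMap R K b) ∈ W := hW.1 b
    have hc' : Groth.SGA7.Inertia.res W (u ^ q ^ e) = Groth.SGA7.Inertia.res W (algebraMap K Ω (algebraMap R K b)) := by
      rw [Groth.SGA7.Inertia.res_pow hu, Groth.SGA7.Inertia.res_of_mem hu, Groth.SGA7.Inertia.res_of_mem hbW]
      exact (congrArg Subtype.val hc).symm
    have h2 := (Groth.SGA7.Inertia.res_eq_iff (pow_mem hu _) (hW.1 b)).mp hc'
    have h3 := Groth.SGA7.StableVal.val_lt_one hst σ h2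
    have hσb : σ (algebraMap K Ω (algebraMap R K b)) = algebraMap K Ω (algebraMap R K b) := AlgEquiv.commutes σ _
    rw [map_sub, hσb, map_pow,
      ← Groth.SGA7.Inertia.res_eq_iff (pow_mem (hst σ u hu) _) (hW.1 b), ← hc', Groth.SGA7.Inertia.res_pow hu,
      Groth.SGA7.Inertia.res_pow (hst σ u hu)] at h3
    exact iterateFrobenius_inj (IsLocalRing.ResidueField W) q e (by simpa [iterateFrobenius_def] using h3)
  have hrk : (r : IsLocalRing.ResidueField R) ≠ 0 := hr.ne_zero
  have hr0 : 0 < r := Nat.pos_of_ne_zero (NeZero.ne r)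
  have hπ : algebraMap R Ω ϖ ≠ 0 := by
    rw [halg]; exact (_root_.map_ne_zero _).mpr ((map_ne_zero_iff _ (IsFractionRing.injective R K)).mpr hϖ.ne_zero)
  have hρ0 : ρ ≠ 0 := by
    rintro rfl
    rw [zero_pow hr0.ne'] at hρ
    exact hπ hρ.symm
  have hφ1 : φ 1 = 0 := by
    have := hφ 1 1
    rw [_root_.mul_one] at this
    simpa using this
  have hφpow : ∀ (a : Ω ≃ₐ[K] Ω) (j : ℕ), φ (a ^ j) = j • φ a := by
    intro a j
    induction j with
    | zero => simp [hφ1]
    | succ j ih => rw [pow_succ, hφ, ih, succ_nsmul]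
  have hnz : ∀ {j : ℕ}, (j : IsLocalRing.ResidueField R) ≠ 0 → Groth.SGA7.Inertia.res W (j : Ω) ≠ 0 :=
    fun h => Groth.SGA7.TameField.natCast_ne_zero hW hI h
  -- elements fixing `ρ` are killed by `φ`
  have hker : ∀ σ : Ω ≃ₐ[K] Ω, σ ρ = ρ → φ σ = 0 := by
    intro σ hσ
    have step : ∀ L : FiniteGaloisIntermediateField K Ω, ∃ a b : Ω ≃ₐ[K] Ω, ∀ x ∈ L.toIntermediateField, (a ^ r * b ^ r) x = σ x := by
      intro L
      set N := Module.finrank K L.toIntermediateField with hN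
      have hNpos : 0 < N := Module.finrank_pos
      obtain ⟨n, s, hn0, hNn, hn, hcop⟩ : ∃ n s, 0 < n ∧ N = q ^ s * n ∧ (n : IsLocalRing.ResidueField R) ≠ 0 ∧
          Nat.Coprime r (q ^ s) := by
        rcases hq with _ | ⟨hqp⟩
        · exact ⟨N, 0, hNpos, by simp, Nat.cast_ne_zero.mpr hNpos.ne', by simp⟩
        · obtain ⟨s, n, hqn, hNn⟩ := Nat.exists_eq_pow_mul_and_not_dvd hNpos.ne' q hqp.ne_one
          refine ⟨n, s, Nat.pos_of_ne_zero fun h => hNpos.ne' (by rw [hNn, h, Nat.mul_zero]), hNn,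
            fun h => hqn ((CharP.cast_eq_zero_iff _ q n).mp h), ?_⟩
          exact (Nat.Coprime.pow_right s ((hqp.coprime_iff_not_dvd.mpr fun h =>
            hrk ((CharP.cast_eq_zero_iff _ q r).mpr h)).symm))
      have hnr : ((n * r : ℕ) : IsLocalRing.ResidueField R) ≠ 0 := by
        rw [Nat.cast_mul]; exact mul_ne_zero hn hrk
      haveI : NeZero ((n * r : ℕ) : Ω) := ⟨fun h => hnz hnr (by
        rw [h, Groth.SGA7.Inertia.res_of_mem W.zero_mem]; exact map_zero _)⟩
      obtain ⟨ρ', hρ'⟩ := IsSepClosed.exists_pow_nat_eq (algebraMap R Ω ϖ) (n * r)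
      have hρ'0 : ρ' ≠ 0 := by
        rintro rfl
        rw [zero_pow (Nat.mul_pos hn0 hr0).ne'] at hρ'
        exact hπ hρ'.symm
      obtain ⟨c, hc⟩ := Groth.SGA7.TameField.root_of_unity_mem hW hI (hnz hrk) (ζ := ρ' ^ n / ρ) (by
        rw [div_pow, ← pow_mul, hρ', hρ, ← halg, div_self hπ])
      have hσρ' : σ (ρ' ^ n) = ρ' ^ n := by
        have e : ρ' ^ n = algebraMap K Ω c * ρ := by rw [hc, div_mul_cancel₀ _ hρ0]
        rw [e, map_mul, hσ, AlgEquiv.commutes]
      set ζ := σ ρ' / ρ' with hζdef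
      have hζ : ζ ^ n = 1 := by rw [hζdef, div_pow, ← map_pow, hσρ', div_self (pow_ne_zero _ hρ'0)]
      obtain ⟨ω, hω⟩ := HasEnoughRootsOfUnity.exists_primitiveRoot Ω (n * r)
      haveI : NeZero n := ⟨hn0.ne'⟩
      obtain ⟨i, -, hi⟩ := (hω.pow (Nat.mul_pos hn0 hr0) (Nat.mul_comm n r)).eq_pow_of_pow_eq_one hζ
      obtain ⟨τ, hτ⟩ := Groth.SGA7.TameField.exists_character (K := K) hϖ (Nat.mul_pos hn0 hr0) hρ' (ξ := ω ^ i)
        (by rw [← pow_mul, Nat.mul_comm, pow_mul, hω.pow_eq_one, one_pow])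
      obtain ⟨cξ, hcξ⟩ := Groth.SGA7.TameField.root_of_unity_mem hW hI (hnz hnr) (ζ := ω ^ i)
        (by rw [← pow_mul, Nat.mul_comm, pow_mul, hω.pow_eq_one, one_pow])
      have hτj : ∀ j : ℕ, (τ ^ j) ρ' = (ω ^ i) ^ j * ρ' := by
        intro j
        induction j with
        | zero => simp
        | succ j ih =>
          rw [pow_succ', AlgEquiv.mul_apply, ih, map_mul, map_pow, hτ, ← hcξ, AlgEquiv.commutes, ← _root_.mul_assoc,
            ← pow_succ]
      set δ := (τ ^ r)⁻¹ * σ with hδdef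
      have hσδ : σ = τ ^ r * δ := by rw [hδdef, mul_inv_cancel_left]
      have hτσ : (τ ^ r) ρ' = σ ρ' := by
        rw [hτj, ← pow_mul, Nat.mul_comm i r, pow_mul, hi, hζdef, div_mul_cancel₀ _ hρ'0]
      have hδρ : δ ρ' = ρ' := by
        rw [hδdef, AlgEquiv.mul_apply, ← hτσ, ← AlgEquiv.mul_apply, inv_mul_cancel, AlgEquiv.one_apply]
      have hρn : (ρ' ^ r) ^ n = algebraMap R Ω ϖ := by rw [← pow_mul, Nat.mul_comm, hρ']
      have hwild : ∀ y ∈ L.toIntermediateField, y ≠ 0 → Groth.SGA7.Inertia.res W (δ y / y) = 1 := by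
        intro y hy hy0
        obtain ⟨j, hj⟩ := Groth.SGA7.TameField.exists_zpow_of_mem hW hI hϖ L.toIntermediateField hy hy0
        rw [← hN, hNn, pow_mul, ← map_pow] at hj
        have h := Groth.SGA7.TameField.res_eq_one_of_fix hW hI hϖ hn0 hρn (δ := δ) (by rw [map_pow, hδρ])
          (pow_ne_zero _ hy0) hj
        have hm := Groth.SGA7.Inertia.mem_of_val_eq_one (Groth.SGA7.StableVal.val_div hst (σ := δ) hy0)
        rw [map_pow, ← div_pow, Groth.SGA7.Inertia.res_pow hm] at h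
        exact iterateFrobenius_inj (IsLocalRing.ResidueField W) q s (by simpa [iterateFrobenius_def] using h)
      have hstab : ∀ (g : Ω ≃ₐ[K] Ω), ∀ y ∈ L.toIntermediateField, g y ∈ L.toIntermediateField := fun g y hy => by
        have h := AlgEquiv.restrictNormal_commutes g L.toIntermediateField ⟨y, hy⟩
        change ((AlgEquiv.restrictNormal g L.toIntermediateField ⟨y, hy⟩ : L.toIntermediateField) : Ω) = g y at h
        rw [← h]; exact (AlgEquiv.restrictNormal g L.toIntermediateField ⟨y, hy⟩).2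
      have hpowN : ∀ y ∈ L.toIntermediateField, (δ ^ N) y = y := fun y hy => by
        have h1 : (AlgEquiv.restrictNormalHom L.toIntermediateField δ) ^ N = 1 := by
          have hc : Nat.card (L.toIntermediateField ≃ₐ[K] L.toIntermediateField) = N :=
            IsGalois.card_aut_eq_finrank K L.toIntermediateField
          rw [← hc]; exact pow_card_eq_one'
        rw [← map_pow] at h1
        have h := AlgEquiv.restrictNormal_commutes (δ ^ N) L.toIntermediateField ⟨y, hy⟩
        change ((AlgEquiv.restrictNormalHom L.toIntermediateField (δ ^ N) ⟨y, hy⟩ : L.toIntermediateField) : Ω) = (δ ^ N) y at h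
        rw [← h, h1]
        rfl
      have hfix : ∀ x ∈ L.toIntermediateField, (δ ^ q ^ s) x = x := fun x hx =>
        Groth.SGA7.StableVal.fix_of_wild hst (N := n) (hnz hn) L.toIntermediateField (hstab _)
          (fun y hy => by rw [← pow_mul, ← hNn]; exact hpowN y hy)
          (fun y hy hy0 => by rw [Groth.SGA7.StableVal.res_div_pow hst (hI δ) hy0, hwild y hy hy0, one_pow]) hx
      have hfixm : ∀ (m : ℕ) x, x ∈ L.toIntermediateField → ((δ ^ q ^ s) ^ m) x = x := by
        intro m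
        induction m with
        | zero => intro x _; simp
        | succ m ih => intro x hx; rw [pow_succ, AlgEquiv.mul_apply, hfix x hx, ih x hx]
      obtain ⟨cc, mm, hcm⟩ : ∃ cc mm, r * cc = 1 + q ^ s * mm := by
        rcases eq_or_ne (q ^ s) 1 with h | h
        · exact ⟨1, r - 1, by rw [h]; omega⟩
        · obtain ⟨cc, -, hcc⟩ := Nat.exists_mul_mod_eq_one_of_coprime hcop (by
            have : 0 < q ^ s := pow_pos (expChar_pos (IsLocalRing.ResidueField R) q) s
            omega)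
          exact ⟨cc, r * cc / q ^ s, by conv_lhs => rw [← Nat.mod_add_div (r * cc) (q ^ s), hcc]⟩
      refine ⟨τ, δ ^ cc, fun x hx => ?_⟩
      rw [hσδ, AlgEquiv.mul_apply, AlgEquiv.mul_apply, ← pow_mul, Nat.mul_comm cc r, hcm, pow_add, pow_one, pow_mul,
        AlgEquiv.mul_apply, hfixm mm x hx]
    -- compactness
    let S : FiniteGaloisIntermediateField K Ω → Set ((Ω ≃ₐ[K] Ω) × (Ω ≃ₐ[K] Ω)) := fun L =>
      {p | σ⁻¹ * (p.1 ^ r * p.2 ^ r) ∈ L.toIntermediateField.fixingSubgroup}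
    have hSmem : ∀ L p, p ∈ S L ↔ ∀ x ∈ L.toIntermediateField, (p.1 ^ r * p.2 ^ r) x = σ x := fun L p => by
      show _ ∈ L.toIntermediateField.fixingSubgroup ↔ _
      rw [IntermediateField.mem_fixingSubgroup_iff]
      refine forall₂_congr fun x _ => ?_
      rw [AlgEquiv.mul_apply]
      constructor
      · intro h
        have := congrArg σ h
        rwa [← AlgEquiv.mul_apply, mul_inv_cancel, AlgEquiv.one_apply] at this
      · intro h
        rw [h, ← AlgEquiv.mul_apply, inv_mul_cancel, AlgEquiv.one_apply]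
    have hSclosed : ∀ L, IsClosed (S L) := fun L =>
      (Subgroup.isClosed_of_isOpen _ (IntermediateField.fixingSubgroup_isOpen L.toIntermediateField)).preimage
        (continuous_const.mul ((continuous_fst.pow r).mul (continuous_snd.pow r)))
    obtain ⟨⟨a, b⟩, hab⟩ := IsCompact.nonempty_iInter_of_directed_nonempty_isCompact_isClosed S
      (fun L₁ L₂ => ⟨L₁ ⊔ L₂, fun p hp => (hSmem L₁ p).mpr fun x hx => (hSmem (L₁ ⊔ L₂) p).mp hp x
          ((le_sup_left : L₁ ≤ L₁ ⊔ L₂) hx),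
        fun p hp => (hSmem L₂ p).mpr fun x hx => (hSmem (L₁ ⊔ L₂) p).mp hp x ((le_sup_right : L₂ ≤ L₁ ⊔ L₂) hx)⟩)
      (fun L => by obtain ⟨a, b, h⟩ := step L; exact ⟨(a, b), (hSmem L (a, b)).mpr h⟩)
      (fun L => (hSclosed L).isCompact) hSclosed
    rw [Set.mem_iInter] at hab
    have e : σ = a ^ r * b ^ r := AlgEquiv.ext fun x =>
      ((hSmem _ _).mp (hab (FiniteGaloisIntermediateField.adjoin K {x})) x
        (FiniteGaloisIntermediateField.subset_adjoin K {x} rfl)).symm
    rw [e, hφ, hφpow, hφpow, hM, hM, add_zero]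
  -- the factorisation
  have hζ1 : ∀ ζ : ↥(rootsOfUnity r Ω), ((ζ : Ωˣ) : Ω) ^ r = 1 := fun ζ => by
    rw [← Units.val_pow_eq_pow_val, (mem_rootsOfUnity r _).mp ζ.2, Units.val_one]
  have hex : ∀ ζ : ↥(rootsOfUnity r Ω), ∃ σ : Ω ≃ₐ[K] Ω, σ ρ = ((ζ : Ωˣ) : Ω) * ρ := fun ζ =>
    Groth.SGA7.TameField.exists_character hϖ hr0 (hρ.trans (halg ϖ).symm) (hζ1 ζ)
  choose sel hsel using hex
  have hwd : ∀ σ τ : Ω ≃ₐ[K] Ω, σ ρ = τ ρ → φ σ = φ τ := fun σ τ h => by
    have h1 := hker (τ⁻¹ * σ) (by rw [AlgEquiv.mul_apply, h, ← AlgEquiv.mul_apply, inv_mul_cancel, AlgEquiv.one_apply])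
    have h2 := hφ τ (τ⁻¹ * σ)
    rw [mul_inv_cancel_left, h1, add_zero] at h2
    exact h2
  refine ⟨fun ζ => φ (sel ζ), ⟨fun ζ ξ => ?_, fun σ ζ h => hwd σ (sel ζ) ((hsel ζ).trans h).symm⟩, fun v hv => ?_⟩
  · show φ (sel (ζ * ξ)) = φ (sel ζ) + φ (sel ξ)
    rw [← hφ]
    refine hwd _ _ ?_
    obtain ⟨c, hc⟩ := Groth.SGA7.TameField.root_of_unity_mem hW hI (hnz hrk) (hζ1 ξ)
    rw [hsel, AlgEquiv.mul_apply, hsel, map_mul, hsel, ← hc, AlgEquiv.commutes]
    push_cast
    rw [hc]
    ring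
  · funext ζ
    exact (hv.2 (sel ζ) ζ (hsel ζ).symm).symm

end Groth.Agent.S16232
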