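import Groth.Statements.S16233
import Groth.Agent.NCTrace.Basic

set_option autoImplicit false
open NCTr

namespace Groth.Agent.S16233

/-- Let Λ be a ring, not necessarily commutative, G a finite group, P a left Λ[G]-module with a finite
Λ[G]-basis b, regarded also as a Λ-module by restriction of scalars and equipped with any finite
Λ-basis c, and u a Λ[G]-linear endomorphism of P with diagonal matrix entries u_ii = (b.repr (u (b
i))) i in Λ[G]. Then the trace of u as a Λ-linear endomorphism, taken in Λ modulo additive
commutators with respect to c, equals |G| times the class of the sum over i of the coefficients of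
the identity element of G in the u_ii (that sum of coefficients is the value at the identity class
of the Λ[G]-trace of u, the G-trace of u). The source states this for P finitely generated
projective over Λ[G]; this row is the free case. -/
theorem result
    (Λ : Type*) [Ring Λ] (G : Type*) [Group G] [Fintype G]
    (P : Type*) [AddCommGroup P] [Module Λ P] [Module (MonoidAlgebra Λ G) P]
    [IsScalarTower Λ (MonoidAlgebra Λ G) P]
    {ι κ : Type*} [Fintype ι] [Fintype κ]
    (b : Module.Basis ι (MonoidAlgebra Λ G) P) (c : Module.Basis κ Λ P)
    (u : P →ₗ[MonoidAlgebra Λ G] P) :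
    NCTr.hsTrace c (u.restrictScalars Λ) =
      Fintype.card G • ∑ i, (QuotientAddGroup.mk ((b.repr (u (b i)) i).coeff 1) : NCTr.Abel Λ) := by
  rw [Groth.NCTrace.hsTrace_eq_hsTrace c ((MonoidAlgebra.basis G Λ).smulTower b),
    Groth.NCTrace.hsTrace_restrictScalars b, ← Finset.card_univ (α := G), ← Finset.sum_const]
  refine Finset.sum_congr rfl fun g _ => Finset.sum_congr rfl fun i _ => ?_
  rw [LinearMap.restrictScalars_apply, map_smul, Groth.NCTrace.coeff_repr_single_smul,
    inv_mul_cancel]

end Groth.Agent.S16233
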