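import Groth.Statements.S16234
import Mathlib
-- import your own Groth.Agent.* helpers here

set_option autoImplicit false
universe u v
open CAlg

namespace Groth.Agent.S16234

/-- For a finitely generated module M over a Noetherian commutative ring A, every prime ideal in the
support of M is a maximal ideal if and only if M has finite length. -/
theorem result (A : Type u) [CommRing A] [IsNoetherianRing A]
    (M : Type v) [AddCommGroup M] [Module A M] [Module.Finite A M] :
    (∀ p ∈ Module.support A M, p.asIdeal.IsMaximal) ↔ IsFiniteLength A M := by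
  set J := Module.annihilator A M
  haveI : IsNoetherianRing (A ⧸ J) := inferInstance
  constructor
  · intro h
    have hdim : Ring.KrullDimLE 0 (A ⧸ J) := Ring.krullDimLE_zero_iff.2 fun P hP => by
      have hmem : (⟨P.comap (Ideal.Quotient.mk J), inferInstance⟩ : PrimeSpectrum A) ∈ Module.support A M := by
        rw [Module.support_eq_zeroLocus, PrimeSpectrum.mem_zeroLocus]
        intro a ha
        show Ideal.Quotient.mk J a ∈ P
        rw [Ideal.Quotient.eq_zero_iff_mem.2 ha]; exact zero_mem _
      haveI : (P.comap (Ideal.Quotient.mk J)).IsMaximal := h _ hmem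
      have hm := Ideal.map_eq_top_or_isMaximal_of_surjective (Ideal.Quotient.mk J)
        Ideal.Quotient.mk_surjective (I := P.comap (Ideal.Quotient.mk J)) inferInstance
      rw [Ideal.map_comap_of_surjective _ Ideal.Quotient.mk_surjective] at hm
      exact hm.resolve_left hP.ne_top
    haveI : IsArtinianRing (A ⧸ J) := isArtinianRing_iff_krullDimLE_zero.2 hdim
    letI : Module (A ⧸ J) M := Module.IsTorsionBySet.module (fun x a => Module.mem_annihilator.1 a.2 x)
    haveI : IsScalarTower A (A ⧸ J) M := Module.IsTorsionBySet.isScalarTower (fun x a => Module.mem_annihilator.1 a.2 x)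
    haveI : Module.Finite (A ⧸ J) M := Module.Finite.of_restrictScalars_finite A _ _
    haveI : IsArtinian A M := isArtinian_of_surjective_algebraMap (S := A) (R := A ⧸ J) Ideal.Quotient.mk_surjective
    exact isFiniteLength_iff_isNoetherian_isArtinian.2 ⟨inferInstance, inferInstance⟩
  · intro h p hp
    haveI : IsArtinian A M := (isFiniteLength_iff_isNoetherian_isArtinian.1 h).2
    obtain ⟨s, hs⟩ := (Module.Finite.fg_top : (⊤ : Submodule A M).FG)
    let φ : A →ₗ[A] (s → M) := LinearMap.pi fun x => LinearMap.toSpanSingleton A M x
    have hker : LinearMap.ker φ = J := by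
      refine le_antisymm (fun a ha => ?_) (fun a ha => ?_)
      · refine Module.mem_annihilator.2 fun m => ?_
        have : (⊤ : Submodule A M) ≤ LinearMap.ker (a • LinearMap.id : M →ₗ[A] M) := by
          rw [← hs, Submodule.span_le]
          intro x hx
          simpa [φ] using congrFun (LinearMap.mem_ker.1 ha) ⟨x, hx⟩
        simpa using this (Submodule.mem_top (x := m))
      · rw [LinearMap.mem_ker]; ext x; simpa [φ] using Module.mem_annihilator.1 ha x.1
    haveI : IsArtinian A (A ⧸ J) := by
      rw [← hker]
      exact isArtinian_of_linearEquiv φ.quotKerEquivRange.symm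
    haveI : IsArtinianRing (A ⧸ J) := isArtinian_of_tower A inferInstance
    have hJp : J ≤ p.asIdeal := Module.annihilator_le_of_mem_support hp
    haveI : (p.asIdeal.map (Ideal.Quotient.mk J)).IsPrime :=
      Ideal.map_isPrime_of_surjective Ideal.Quotient.mk_surjective (by simpa using hJp)
    haveI := IsArtinianRing.isMaximal_of_isPrime (p.asIdeal.map (Ideal.Quotient.mk J))
    have := Ideal.comap_isMaximal_of_surjective (Ideal.Quotient.mk J) Ideal.Quotient.mk_surjective
      (K := p.asIdeal.map (Ideal.Quotient.mk J))
    rwa [Ideal.comap_map_of_surjective _ Ideal.Quotient.mk_surjective, ← RingHom.ker_eq_comap_bot,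
      Ideal.mk_ker, sup_eq_left.2 hJp] at this

end Groth.Agent.S16234
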