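import Groth.Statements.S16235
import Mathlib
-- import your own Groth.Agent.* helpers here

set_option autoImplicit false
universe u
open CAlg

namespace Groth.Agent.S16235

/-- Let A be a Noetherian commutative ring and x_1, …, x_r a regular sequence on A (each x_i a
non-zero-divisor on A/(x_1, …, x_{i-1})) generating an ideal I ≠ A. Then the height of I, the
infimum of the heights of the minimal primes over I, equals r. -/
theorem result (A : Type u) [CommRing A] [IsNoetherianRing A]
    (r : ℕ) (x : Fin r → A) (hx : RingTheory.Sequence.IsWeaklyRegular A (List.ofFn x))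
    (hI : Ideal.span (Set.range x) ≠ ⊤) :
    (Ideal.span (Set.range x)).height = r := by
  set I := Ideal.span (Set.range x)
  have hlist : Ideal.ofList (List.ofFn x) = I := by
    rw [Ideal.ofList]; congr 1; ext a; simp [List.mem_ofFn]
  apply le_antisymm
  · refine (Ideal.height_le_spanFinrank I hI).trans ?_
    have := Submodule.spanFinrank_span_le_ncard_of_finite (R := A) (Set.finite_range x)
    have h2 : (Set.range x).ncard ≤ r := by
      rw [← Set.image_univ]
      exact (Set.ncard_image_le Set.finite_univ).trans (by simp)
    exact_mod_cast this.trans h2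
  · rw [Ideal.height_eq_inf_minimalPrimes]
    refine le_iInf₂ fun p hp => ?_
    haveI : p.IsPrime := Ideal.IsMinimalPrime.isPrime hp
    set S := Localization.AtPrime p
    have hmem : ∀ a ∈ List.ofFn x, algebraMap A S a ∈ IsLocalRing.maximalIdeal S := by
      intro a ha
      rw [IsLocalization.AtPrime.to_map_mem_maximal_iff S p]
      rw [List.mem_ofFn] at ha
      obtain ⟨i, rfl⟩ := ha
      exact hp.1.2 (Ideal.subset_span ⟨i, rfl⟩)
    have hreg : RingTheory.Sequence.IsRegular S ((List.ofFn x).map (algebraMap A S)) :=
      RingTheory.Sequence.IsWeaklyRegular.isRegular_of_isLocalization_of_mem S p hx (by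
        intro a ha; exact hp.1.2 (hlist ▸ Ideal.subset_span ha))
    have hdim := ringKrullDim_add_length_eq_ringKrullDim_of_isRegular _ hreg
    haveI : Nontrivial (S ⧸ Ideal.ofList ((List.ofFn x).map (algebraMap A S))) := by
      refine Ideal.Quotient.nontrivial_iff.2 (ne_top_of_le_ne_top (IsLocalRing.maximalIdeal.isMaximal S).ne_top ?_)
      rw [Ideal.ofList, Ideal.span_le]
      intro a ha
      obtain ⟨b, hb, rfl⟩ := List.mem_map.1 ha
      exact hmem b hb
    rw [List.length_map, List.length_ofFn, IsLocalization.AtPrime.ringKrullDim_eq_height p S] at hdim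
    have h0 := ringKrullDim_nonneg_of_nontrivial (R := S ⧸ Ideal.ofList ((List.ofFn x).map (algebraMap A S)))
    have : ((r : ℕ∞) : WithBot ℕ∞) ≤ (p.height : WithBot ℕ∞) := by
      rw [← hdim]; exact le_add_of_nonneg_left h0
    exact_mod_cast this

end Groth.Agent.S16235
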