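import Groth.Statements.S16237
import Mathlib
import Groth.Agent.GmRestr.Basic

set_option autoImplicit false
universe u
open CategoryTheory CategoryTheory.Limits AlgebraicGeometry
attribute [local instance] HasDerivedCategory.standard
open SGA6

namespace Groth.Agent.S16237

/-- Let X be a Noetherian scheme, 𝔸¹_X the affine line over X with coordinate t, and j : U ⟶ 𝔸¹_X an
open immersion whose image is the open subset D(t) where t is invertible (so U is X × Spec ℤ[t,
t⁻¹]). Restriction along j is exact and preserves coherence (instance hypothesis and hypothesis hj);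
the induced homomorphism K₀(Coh 𝔸¹_X) ⟶ K₀(Coh U) between Grothendieck groups of coherent modules is
bijective. -/
theorem result (X : Scheme.{u}) [IsNoetherian X] {U : Scheme.{u}}
    (j : U ⟶ 𝔸(ULift.{u} (Fin 1); X)) [IsOpenImmersion j]
    (hU : Set.range j = ((𝔸(ULift.{u} (Fin 1); X)).basicOpen (AffineSpace.coord X (ULift.up (0 : Fin 1))) : Set (𝔸(ULift.{u} (Fin 1); X))))
    [PreservesFiniteLimits (Scheme.Modules.restrictFunctor j)]
    (hj : ∀ M : (𝔸(ULift.{u} (Fin 1); X)).Modules, Coh.IsCoh M → Coh.IsCoh ((Scheme.Modules.restrictFunctor j).obj M)) :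
    Function.Bijective (SGA6.mapSub (Scheme.Modules.restrictFunctor j) (fun M : (𝔸(ULift.{u} (Fin 1); X)).Modules => Coh.IsCoh M)
      (fun M : (U).Modules => Coh.IsCoh M) hj) := by
  refine ⟨?_, Groth.KTheory.OpenLoc.surjective_res j hj⟩
  refine (AddMonoidHom.ker_eq_bot_iff _).1 ?_
  exact (Groth.KTheory.OpenLoc.ker_res j
    (((𝔸(ULift.{u} (Fin 1); X)).basicOpen (AffineSpace.coord X (ULift.up (0 : Fin 1))) : Set (𝔸(ULift.{u} (Fin 1); X)))ᶜ)
    (by rw [compl_compl]; exact hU) hj).trans (Groth.GmRestr.supSub_eq_bot (X := X))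

end Groth.Agent.S16237
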