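import Groth.Statements.S16238
import Mathlib
import Groth.Agent.Calg7.Derived.TorLinear
-- import your own Groth.Agent.* helpers here

set_option autoImplicit false
universe u
open CategoryTheory
open CAlg

namespace Groth.Agent.S16238

open CategoryTheory CategoryTheory.Limits MonoidalCategory Groth.Calg7.Tor RingTheory RingTheory.Sequence
open scoped TensorProduct

section
variable {A : Type u} [CommRing A] (M : ModuleCat.{u} A)

/-- `A/I` -/
abbrev Qt (I : Ideal A) : ModuleCat.{u} A := ModuleCat.of A (A ⧸ I)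

/-- all positive `Tor`s of `A/I` and `M` vanish -/
def Vanish (I : Ideal A) : Prop := ∀ i : ℕ, IsZero (T (i + 1) (Qt I) M)

/-- `A/I → A/I → A/(I + (r))` -/
noncomputable abbrev seq (I : Ideal A) (r : A) : ShortComplex (ModuleCat.{u} A) :=
  ShortComplex.mk (r • 𝟙 (Qt I))
    (ModuleCat.ofHom (Submodule.factor (le_sup_left : I ≤ I ⊔ Ideal.span {r}))) (by
      refine ModuleCat.hom_ext (LinearMap.ext fun a => ?_)
      obtain ⟨a, rfl⟩ := Submodule.Quotient.mk_surjective _ a
      exact (Submodule.Quotient.mk_eq_zero _).2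
        (Ideal.mem_sup_right (Ideal.mem_span_singleton'.2 ⟨a, mul_comm a r⟩)))

lemma seq_shortExact (I : Ideal A) (r : A) (hr : IsSMulRegular (A ⧸ I) r) : (seq I r).ShortExact where
  exact := (ShortComplex.ShortExact.moduleCat_exact_iff_function_exact _).2 fun a => by
    constructor
    · intro ha
      obtain ⟨a, rfl⟩ := Submodule.Quotient.mk_surjective _ a
      obtain ⟨b, hb, c, hc, rfl⟩ := Submodule.mem_sup.1 ((Submodule.Quotient.mk_eq_zero _).1 ha)
      obtain ⟨d, rfl⟩ := Ideal.mem_span_singleton'.1 hc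
      exact ⟨Submodule.Quotient.mk d, (Submodule.Quotient.eq I).2 (by
        simpa [mul_comm d r] using hb)⟩
    · rintro ⟨b, rfl⟩
      obtain ⟨b, rfl⟩ := Submodule.Quotient.mk_surjective _ b
      exact (Submodule.Quotient.mk_eq_zero _).2
        (Ideal.mem_sup_right (Ideal.mem_span_singleton'.2 ⟨b, mul_comm b r⟩))
  mono_f := (ModuleCat.mono_iff_injective _).2 hr
  epi_g := (ModuleCat.epi_iff_surjective _).2 (Submodule.factor_surjective (le_sup_left : I ≤ I ⊔ Ideal.span {r}))

lemma mono_mapL_iff (I : Ideal A) (r : A) (n : ℕ) :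
    Mono (mapL n (seq I r).f M) ↔ IsSMulRegular (T n (Qt I) M) r := by
  rw [show mapL n (seq I r).f M = r • 𝟙 (T n (Qt I) M) from mapL_smul_id _ _ _ _,
    ModuleCat.mono_iff_injective]
  rfl

lemma regular_T0_iff (I : Ideal A) (r : A) :
    IsSMulRegular (T 0 (Qt I) M) r ↔ IsSMulRegular (M ⧸ I • (⊤ : Submodule A M)) r :=
  LinearEquiv.isSMulRegular_congr
    (((zeroIso (Qt I)).app M).toLinearEquiv ≪≫ₗ TensorProduct.quotTensorEquivQuotSMul M I) r

variable [IsNoetherianRing A] [Module.Finite A M]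

lemma step (I : Ideal A) (r : A) (hr : IsSMulRegular (A ⧸ I) r)
    (hfin : ∀ n, Module.Finite A (T n (Qt I) M)) :
    (∀ n, Module.Finite A (T n (Qt (I ⊔ Ideal.span {r})) M)) ∧
    (Vanish M I → IsSMulRegular (M ⧸ I • (⊤ : Submodule A M)) r →
      Vanish M (I ⊔ Ideal.span {r})) ∧
    (r ∈ (⊥ : Ideal A).jacobson → Vanish M (I ⊔ Ideal.span {r}) →
      Vanish M I ∧ IsSMulRegular (M ⧸ I • (⊤ : Submodule A M)) r) := by
  have hS := seq_shortExact I r hr
  refine ⟨fun n => ?_, fun hv hreg i => ?_, fun hj hv => ⟨fun i => ?_, ?_⟩⟩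
  · cases n with
    | zero => exact finite_T_zero _ _
    | succ n =>
      exact @finite_of_exact _ _ _ _ (exactL₃ hS M n) (hfin (n + 1)) (hfin n)
  · refine (exactL₃ hS M i).isZero_of_both_zeros ((hv i).eq_of_src _ _) ?_
    cases i with
    | zero =>
      haveI := (mono_mapL_iff M I r 0).2 ((regular_T0_iff M I r).2 hreg)
      rw [← cancel_mono (mapL 0 (seq I r).f M)]
      exact (δL_mapL_f hS M 0).trans zero_comp.symm
    | succ j => exact (hv j).eq_of_tgt _ _
  · haveI : Epi (mapL (i + 1) (seq I r).f M) := (exactL₂ hS M (i + 1)).epi_f ((hv i).eq_of_tgt _ _)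
    have hsurj : Function.Surjective (fun z : T (i + 1) (Qt I) M => r • z) := by
      have h := (ModuleCat.epi_iff_surjective _).1
        (‹Epi (mapL (i + 1) (seq I r).f M)›)
      rwa [show mapL (i + 1) (seq I r).f M = r • 𝟙 (T (i + 1) (Qt I) M) from mapL_smul_id _ _ _ _] at h
    haveI := hfin (i + 1)
    have htop : (⊤ : Submodule A (T (i + 1) (Qt I) M)) ≤ Ideal.span {r} • ⊤ := fun z _ => by
      obtain ⟨w, rfl⟩ := hsurj z
      exact Submodule.smul_mem_smul (Ideal.mem_span_singleton_self r) trivial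
    have hbot := Submodule.eq_bot_of_le_smul_of_le_jacobson_bot (Ideal.span {r}) ⊤
      Module.Finite.fg_top htop (by rwa [Ideal.span_singleton_le_iff_mem])
    haveI : Subsingleton (T (i + 1) (Qt I) M) :=
      Submodule.subsingleton_iff _ |>.1 (subsingleton_of_bot_eq_top hbot.symm)
    exact ModuleCat.isZero_of_subsingleton _
  · haveI : Mono (mapL 0 (seq I r).f M) := (exactL₁ hS M 0).mono_g ((hv 0).eq_of_src _ _)
    exact (regular_T0_iff M I r).1 ((mono_mapL_iff M I r 0).1 ‹_›)

lemma main (l : List A) (hl : IsWeaklyRegular A l) :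
    (∀ n, Module.Finite A (T n (Qt (Ideal.ofList l)) M)) ∧
      ((∀ r ∈ l, r ∈ (⊥ : Ideal A).jacobson) →
        (IsWeaklyRegular M l ↔ Vanish M (Ideal.ofList l))) := by
  induction l using List.reverseRecOn with
  | nil =>
    haveI : Module.Flat A (Qt (Ideal.ofList ([] : List A))) :=
      Module.Flat.of_linearEquiv
        ((Submodule.quotEquivOfEq _ _ (Ideal.ofList_nil (R := A))) ≪≫ₗ Submodule.quotEquivOfEqBot ⊥ rfl)
    have hv : Vanish M (Ideal.ofList ([] : List A)) := fun i => isZero_of_flat_left _ i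
    refine ⟨fun n => ?_, fun _ => iff_of_true (IsWeaklyRegular.nil A M) hv⟩
    cases n with
    | zero => exact finite_T_zero _ _
    | succ n =>
      haveI := subsingleton_of_isZero (hv n)
      infer_instance
  | append_singleton l r ih =>
    rw [isWeaklyRegular_append_iff, isWeaklyRegular_singleton_iff] at hl
    obtain ⟨hl, hr⟩ := hl
    have hr' : IsSMulRegular (A ⧸ Ideal.ofList l) r :=
      (LinearEquiv.isSMulRegular_congr (Submodule.quotEquivOfEq _ _
        (by rw [smul_eq_mul, Ideal.mul_top])) r).1 hr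
    obtain ⟨hfin, hiff⟩ := ih hl
    obtain ⟨s1, s2, s3⟩ := step M (Ideal.ofList l) r hr' hfin
    rw [Ideal.ofList_append, Ideal.ofList_singleton]
    refine ⟨s1, fun hj => ?_⟩
    rw [isWeaklyRegular_append_iff, isWeaklyRegular_singleton_iff,
      hiff (fun a ha => hj a (List.mem_append_left _ ha))]
    exact ⟨fun h => s2 h.1 h.2, fun h => s3 (hj r (by simp)) h⟩

end

/-- Let A be a Noetherian local ring, x_1, …, x_n a regular sequence on A (each x_i a non-zero-divisor
on A/(x_1, …, x_{i-1})) generating the ideal I, and J an ideal with I + J ≠ A. Then the images of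
x_1, …, x_n form a regular sequence on A/J if and only if Tor_i^A(A/I, A/J) = 0 for all i ≥ 1 (in
degree 0 the Tor is A/(I + J) in any case). (The published statement does not ask the x_i to form a
regular sequence on A itself; without this the equivalence fails, for instance for A = k[e]/(e²), n
= 1, x_1 = e and J = 0, where every higher Tor of A/(e) against the free module A vanishes although
e is a zero-divisor.) -/
theorem result (A : Type u) [CommRing A] [IsNoetherianRing A] [IsLocalRing A]
    (n : ℕ) (x : Fin n → A) (hx : RingTheory.Sequence.IsWeaklyRegular A (List.ofFn x))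
    (J : Ideal A) (hIJ : Ideal.span (Set.range x) ⊔ J ≠ ⊤) :
    RingTheory.Sequence.IsWeaklyRegular (A ⧸ J) (List.ofFn (fun i : Fin n => Ideal.Quotient.mk J (x i))) ↔
      ∀ i : ℕ, 1 ≤ i → Limits.IsZero (((Tor (ModuleCat.{u} A) i).obj
        (ModuleCat.of A (A ⧸ Ideal.span (Set.range x)))).obj (ModuleCat.of A (A ⧸ J))) := by
  have hmem : ∀ r ∈ List.ofFn x, r ∈ (⊥ : Ideal A).jacobson := by
    intro r hr
    rw [IsLocalRing.jacobson_eq_maximalIdeal _ bot_ne_top]
    obtain ⟨i, rfl⟩ := List.mem_ofFn.1 hr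
    exact IsLocalRing.le_maximalIdeal hIJ (Ideal.mem_sup_left (Ideal.subset_span ⟨i, rfl⟩))
  have hI : Ideal.ofList (List.ofFn x) = Ideal.span (Set.range x) := by
    rw [Ideal.ofList]
    congr 1
    ext r
    exact List.mem_ofFn
  have h := (main (ModuleCat.of A (A ⧸ J)) (List.ofFn x) hx).2 hmem
  have e : List.ofFn (fun i : Fin n => Ideal.Quotient.mk J (x i)) =
      (List.ofFn x).map (algebraMap A (A ⧸ J)) := by
    rw [List.map_ofFn]
    rfl
  rw [e, RingTheory.Sequence.isWeaklyRegular_map_algebraMap_iff, h, hI]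
  refine ⟨fun hv i hi => ?_, fun hv i => hv (i + 1) (Nat.le_add_left 1 i)⟩
  obtain ⟨j, rfl⟩ := Nat.exists_eq_succ_of_ne_zero (show i ≠ 0 by omega)
  exact hv j

end Groth.Agent.S16238
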