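import Groth.Statements.S16240
import Groth.Agent.KTheory.LFResRegular
import Groth.Agent.Flatmor4.FlatDedekind
import Groth.Agent.QCohMod.Coherent
-- import your own Groth.Agent.* helpers here

set_option autoImplicit false
universe u
open CategoryTheory CategoryTheory.Limits AlgebraicGeometry
open Coh

namespace Groth.Agent.S16240
open CategoryTheory CategoryTheory.Limits AlgebraicGeometry

variable {X : Scheme.{u}} {m : ℕ} (S : ComposableArrows X.Modules (m + 1)) (hS : S.Exact)

/-- The cycles of the sequence. -/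
noncomputable abbrev Z (j : ℕ) (hj : j ≤ m) : X.Modules :=
  kernel (S.map' j (j + 1) (Nat.le_succ j) (Nat.succ_le_succ hj))

include hS in
lemma shortExact_Z (j : ℕ) (hj : j + 1 ≤ m) :
    ∃ (g : S.obj ⟨j, by omega⟩ ⟶ Z S (j + 1) hj)
      (w : kernel.ι (S.map' j (j + 1) (Nat.le_succ j) (by omega)) ≫ g = 0),
      (ShortComplex.mk _ g w).ShortExact := by
  have hex := hS.exact j (by omega)
  have he : Epi (kernel.lift (S.map' (j + 1) (j + 2)) (S.map' j (j + 1)) (hS.toIsComplex.zero j)) :=
    (ShortComplex.exact_iff_epi_kernel_lift _).1 hex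
  refine ⟨kernel.lift (S.map' (j + 1) (j + 2)) (S.map' j (j + 1)) (hS.toIsComplex.zero j), ?_, ?_⟩
  · rw [← cancel_mono (kernel.ι (S.map' (j + 1) (j + 2))), Category.assoc, kernel.lift_ι, zero_comp]
    exact kernel.condition _
  · exact ShortComplex.ShortExact.mk (ShortComplex.exact_of_f_is_kernel _
      (KernelFork.IsLimit.ofι _ _
        (fun {W} g hg => kernel.lift _ g (by
          rw [← kernel.lift_ι (S.map' (j + 1) (j + 2)) (S.map' j (j + 1)) (hS.toIsComplex.zero j),
            ← Category.assoc, hg, zero_comp]))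
        (fun {W} g hg => kernel.lift_ι _ _ _)
        (fun {W} g hg l hl => by
          rw [← cancel_mono (kernel.ι (S.map' j (j + 1))), hl, kernel.lift_ι])))

include hS in
theorem isFinLocFree_left [IsNoetherian X]
    (hmono : Mono (S.map' 0 1 (Nat.zero_le 1) (Nat.le_add_left 1 m)))
    (hepi : Epi (S.map' m (m + 1) (Nat.le_succ m) (le_refl (m + 1))))
    (hE : ∀ i : ℕ, ∀ h1 : 1 ≤ i, ∀ h2 : i ≤ m, FlatMod.IsFinLocFree (S.obj ⟨i, by omega⟩))
    (hF : Coh.IsCoh (S.obj (Fin.last (m + 1))))
    (hreg : ∀ x : X, IsRegularLocalRing (X.presheaf.stalk x))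
    (hdim : topologicalKrullDim ↥X ≤ (m : WithBot ℕ∞)) : FlatMod.IsFinLocFree (S.obj 0) := by
  have hsm : (ShortComplex.mk (kernel.ι (S.map' m (m + 1) (Nat.le_succ m) (le_refl (m + 1))))
      (S.map' m (m + 1) (Nat.le_succ m) (le_refl (m + 1))) (kernel.condition _)).ShortExact :=
    Groth.KTheory.Resolution.shortExact_kernel _
  rcases Nat.eq_zero_or_pos m with rfl | hm
  · have : IsIso (S.map' 0 1 (Nat.zero_le 1) (Nat.le_add_left 1 0)) := by
      have := hmono
      have := hepi
      exact isIso_of_mono_of_epi _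
    refine KTheory.LocFree.isFinLocFree_of_iso
      (asIso (S.map' 0 1 (Nat.zero_le 1) (Nat.le_add_left 1 0))).symm ?_
    suffices hfree : ∀ x : X, Module.Free (X.presheaf.stalk x) ((S.obj (Fin.last (0 + 1))).presheaf.stalk x) from
      KTheory.LocFree.isFinLocFree_of_free_stalks hF hfree
    intro x
    have := hreg x
    have hd : ringKrullDim (X.presheaf.stalk x) = ((0 : ℕ) : WithBot ℕ∞) :=
      le_antisymm ((Groth.Flatmor4.ringKrullDim_stalk_le x).trans hdim) ringKrullDim_nonneg_of_nontrivial
    have h1 := Groth.Ega4Algebra1.pdLT_all_of_isRegularLocalRing _ 0 hd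
      (ModuleCat.of (X.presheaf.stalk x) ((S.obj (Fin.last (0 + 1))).presheaf.stalk x))
    have : Module.Projective (X.presheaf.stalk x) ((S.obj (Fin.last (0 + 1))).presheaf.stalk x) :=
      (IsProjective.iff_projective _).mpr (projective_iff_hasProjectiveDimensionLT_one.mpr h1)
    have := hF.1
    have := Groth.QCohMod.finite_stalk (S.obj (Fin.last (0 + 1))) hF.2 x
    exact Module.free_of_flat_of_isLocalRing
  have hZc : ∀ j (h : j ≤ m), 1 ≤ j → Coh.IsCoh (Z S j h) := fun j h h1 => by
    have : (S.obj ⟨j + 1, by omega⟩).IsQuasicoherent := by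
      rcases h.eq_or_lt with rfl | h'
      · exact hF.1
      · exact (KTheory.LocFree.isCoh (hE (j + 1) (by omega) (by omega))).1
    exact QCohMod.isCoh_kernel _ (KTheory.LocFree.isCoh (hE j h1 h))
  have key : ∀ (x : X) (d : ℕ), ringKrullDim (X.presheaf.stalk x) = d → ∀ t j (h : j ≤ m), 1 ≤ j →
      j + t = m → HasProjectiveDimensionLT
        (ModuleCat.of (X.presheaf.stalk x) ((Z S j h).presheaf.stalk x)) (max 1 (d - t)) := by
    intro x d hd t
    have := hreg x
    induction t with
    | zero =>
      intro j h h1 e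
      obtain rfl : m = j := by omega
      have := KTheory.LocFree.free_stalk (hE m h1 h) x
      refine KTheory.LFRes.pdLT_stalk_X₁ hsm x _ (le_max_left _ _) ?_
      exact @hasProjectiveDimensionLT_of_ge _ _ _ _ (d + 1) _ (by omega)
        (Groth.Ega4Algebra1.pdLT_all_of_isRegularLocalRing _ d hd _)
    | succ t ih =>
      intro j h h1 e
      obtain ⟨g, w, hse⟩ := shortExact_Z S hS j (by omega)
      have := KTheory.LocFree.free_stalk (hE j h1 h) x
      refine KTheory.LFRes.pdLT_stalk_X₁ hse x _ (le_max_left _ _) ?_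
      exact @hasProjectiveDimensionLT_of_ge _ _ _ _ (max 1 (d - t)) _ (by omega)
        (ih (j + 1) (by omega) (by omega) (by omega))
  have hZ : FlatMod.IsFinLocFree (Z S 1 hm) := by
    refine KTheory.LocFree.isFinLocFree_of_free_stalks (hZc 1 hm le_rfl) fun x => ?_
    have := hreg x
    obtain ⟨d, hd⟩ : ∃ d : ℕ, ringKrullDim (X.presheaf.stalk x) = d :=
      ⟨_, (IsRegularLocalRing.spanFinrank_maximalIdeal (R := X.presheaf.stalk x)).symm⟩
    have hdm : d ≤ m := by
      have := (Groth.Flatmor4.ringKrullDim_stalk_le x).trans hdim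
      rw [hd] at this
      exact_mod_cast this
    have h1 := key x d hd (m - 1) 1 hm le_rfl (by omega)
    rw [show max 1 (d - (m - 1)) = 1 by omega] at h1
    have : Module.Projective (X.presheaf.stalk x) ((Z S 1 hm).presheaf.stalk x) :=
      (IsProjective.iff_projective _).mpr (projective_iff_hasProjectiveDimensionLT_one.mpr h1)
    have := (hZc 1 hm le_rfl).1
    have := Groth.QCohMod.finite_stalk _ (hZc 1 hm le_rfl).2 x
    exact Module.free_of_flat_of_isLocalRing
  have hex := hS.exact 0 (by omega)
  let φ := kernel.lift (S.map' 1 2 (by omega) (by omega)) (S.map' 0 1 (by omega) (by omega))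
    (hS.toIsComplex.zero 0 (by omega))
  have he : Epi φ := (ShortComplex.exact_iff_epi_kernel_lift _).1 hex
  have hm' : Mono φ :=
    haveI := hmono
    mono_of_mono_fac (kernel.lift_ι _ _ (hS.toIsComplex.zero 0 (by omega)))
  have := isIso_of_mono_of_epi φ
  exact KTheory.LocFree.isFinLocFree_of_iso (asIso φ).symm hZ


/-- Let X be a Noetherian scheme all of whose local rings are regular, of (topological Krull) dimension
at most m, and let S be an exact sequence of O_X-modules G ⟶ E_m ⟶ ⋯ ⟶ E_1 ⟶ F with m + 2 terms (G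
in position 0, F in position m + 1), injective at the first map and surjective at the last, in which
F is coherent and E_1, …, E_m are finite locally free. Then G is finite locally free. (The source
asks for p + 1 vector bundles with p ≥ dim X − 1, i.e. at least dim X of them, and finite dimension;
here m bounds the dimension.) -/
theorem result (X : Scheme.{u}) [IsNoetherian X]
    (hreg : ∀ x : X, IsRegularLocalRing (X.presheaf.stalk x)) (m : ℕ)
    (hdim : topologicalKrullDim ↥X ≤ (m : WithBot ℕ∞))
    (S : ComposableArrows X.Modules (m + 1)) (hS : S.Exact)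
    (hmono : Mono (S.map' 0 1 (Nat.zero_le 1) (Nat.le_add_left 1 m)))
    (hepi : Epi (S.map' m (m + 1) (Nat.le_succ m) (le_refl (m + 1))))
    (hE : ∀ i : Fin m, FlatMod.IsFinLocFree (S.obj ⟨i.1 + 1, Nat.succ_lt_succ (Nat.lt_succ_of_lt i.2)⟩))
    (hF : Coh.IsCoh (S.obj (Fin.last (m + 1)))) :
    FlatMod.IsFinLocFree (S.obj 0) := by
  refine isFinLocFree_left S hS hmono hepi (fun i h1 h2 => ?_) hF hreg hdim
  obtain ⟨i, rfl⟩ := Nat.exists_eq_add_of_le h1
  have := hE ⟨i, by omega⟩
  have e : (⟨i + 1, by omega⟩ : Fin (m + 1 + 1)) = ⟨1 + i, by omega⟩ := Fin.ext (by simp [add_comm])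
  rw [← e]
  exact this

end Groth.Agent.S16240
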