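import Groth.Statements.S16242
import Groth.Agent.KTheory.NodeK0

set_option autoImplicit false
universe u
open CategoryTheory
open KZero

namespace Groth.Agent.S16242

/-- Let k be a field and A = k[x, y]/(xy) (polynomial ring in two variables x = X_0, y = X_1 modulo xy).
In the Grothendieck group of finitely generated A-modules (free abelian group on them modulo short
exact sequences), the classes of A/(x) ≅ k[y] and A/(y) ≅ k[x] form a basis: the homomorphism ℤ × ℤ
⟶ K₀ sending (a, b) to a·[A/(x)] + b·[A/(y)] is bijective. -/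
theorem result (k : Type u) [Field k] :
    Function.Bijective (fun p : ℤ × ℤ =>
      p.1 • KZero.clSub (fun M : ModuleCat.{u} (MvPolynomial (Fin 2) k ⧸ Ideal.span {(MvPolynomial.X 0 * MvPolynomial.X 1 : MvPolynomial (Fin 2) k)}) => Module.Finite (MvPolynomial (Fin 2) k ⧸ Ideal.span {(MvPolynomial.X 0 * MvPolynomial.X 1 : MvPolynomial (Fin 2) k)}) M)
          (ModuleCat.of (MvPolynomial (Fin 2) k ⧸ Ideal.span {(MvPolynomial.X 0 * MvPolynomial.X 1 : MvPolynomial (Fin 2) k)}) ((MvPolynomial (Fin 2) k ⧸ Ideal.span {(MvPolynomial.X 0 * MvPolynomial.X 1 : MvPolynomial (Fin 2) k)}) ⧸ Ideal.span {Ideal.Quotient.mk (Ideal.span {(MvPolynomial.X 0 * MvPolynomial.X 1 : MvPolynomial (Fin 2) k)}) (MvPolynomial.X 0)})) +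
        p.2 • KZero.clSub (fun M : ModuleCat.{u} (MvPolynomial (Fin 2) k ⧸ Ideal.span {(MvPolynomial.X 0 * MvPolynomial.X 1 : MvPolynomial (Fin 2) k)}) => Module.Finite (MvPolynomial (Fin 2) k ⧸ Ideal.span {(MvPolynomial.X 0 * MvPolynomial.X 1 : MvPolynomial (Fin 2) k)}) M)
          (ModuleCat.of (MvPolynomial (Fin 2) k ⧸ Ideal.span {(MvPolynomial.X 0 * MvPolynomial.X 1 : MvPolynomial (Fin 2) k)}) ((MvPolynomial (Fin 2) k ⧸ Ideal.span {(MvPolynomial.X 0 * MvPolynomial.X 1 : MvPolynomial (Fin 2) k)}) ⧸ Ideal.span {Ideal.Quotient.mk (Ideal.span {(MvPolynomial.X 0 * MvPolynomial.X 1 : MvPolynomial (Fin 2) k)}) (MvPolynomial.X 1)}))) := by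
  classical
  set J : Ideal (MvPolynomial (Fin 2) k) :=
    Ideal.span {(MvPolynomial.X 0 * MvPolynomial.X 1 : MvPolynomial (Fin 2) k)} with hJ
  let A := MvPolynomial (Fin 2) k ⧸ J
  let x : Fin 2 → A := fun i => Ideal.Quotient.mk J (MvPolynomial.X i)
  let f : Fin 2 → MvPolynomial (Fin 2) k →+* Polynomial k := fun i =>
    (MvPolynomial.aeval fun j : Fin 2 => if j = i then (0 : Polynomial k) else Polynomial.X).toRingHom
  have hfi : ∀ i, f i (MvPolynomial.X i) = 0 := fun i => by simp [f]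
  have hfJ : ∀ i, ∀ a ∈ J, f i a = 0 := fun i a ha => by
    rw [hJ, Ideal.mem_span_singleton] at ha
    obtain ⟨c, rfl⟩ := ha
    fin_cases i <;> simp [f]
  let ψ : Fin 2 → A →+* Polynomial k := fun i => Ideal.Quotient.lift J (f i) (hfJ i)
  let s : Fin 2 → Polynomial k →+* A := fun i =>
    Polynomial.eval₂RingHom ((Ideal.Quotient.mk J).comp MvPolynomial.C) (x i)
  have hψC : ∀ i (c : k), ψ i (Ideal.Quotient.mk J (MvPolynomial.C c)) = Polynomial.C c := fun i c => by
    change f i (MvPolynomial.C c) = _; simp [f]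
  have hψX : ∀ i j, j ≠ i → ψ i (x j) = Polynomial.X := fun i j h => by change f i (MvPolynomial.X j) = _; simp [f, h]
  have hψ0 : ∀ i, ψ i (x i) = 0 := fun i => hfi i
  have hsect : ∀ i j, j ≠ i → (ψ i).comp (s j) = RingHom.id _ := fun i j h =>
    Polynomial.ringHom_ext (fun c => by simp [s, hψC]) (by simp [s, hψX i j h])
  have hsurj : ∀ i, Function.Surjective (ψ i) := fun i p => by
    obtain ⟨j, hj⟩ := exists_ne i
    exact ⟨s j p, congr($(hsect i j hj) p)⟩
  have hker : ∀ i, RingHom.ker (ψ i) = Ideal.span {x i} := fun i => by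
    refine le_antisymm (fun a ha => ?_) ?_
    · obtain ⟨j, hj⟩ := exists_ne i
      obtain ⟨b, rfl⟩ := Ideal.Quotient.mk_surjective a
      let q := Ideal.Quotient.mk (Ideal.span {x i})
      have h : (q.comp ((s j).comp (f i))) = q.comp (Ideal.Quotient.mk J) := by
        refine MvPolynomial.ringHom_ext (fun c => by simp [s, f]) fun l => ?_
        by_cases hl : l = i
        · subst hl
          simp only [RingHom.comp_apply, hfi, map_zero]
          exact (Ideal.Quotient.eq_zero_iff_mem.2 (Ideal.mem_span_singleton_self _)).symm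
        · obtain rfl : l = j := by omega
          simp [s, f, hl, x]
      have hb : f i b = 0 := ha
      have := congr($h b)
      simp only [RingHom.comp_apply, hb, map_zero] at this
      exact Ideal.Quotient.eq_zero_iff_mem.1 this.symm
    · rw [Ideal.span_le, Set.singleton_subset_iff]
      exact hψ0 i
  have hprod : ∀ i j : Fin 2, i ≠ j → x i * x j = 0 := fun i j h => by
    rw [← map_mul, Ideal.Quotient.eq_zero_iff_mem, hJ, Ideal.mem_span_singleton]
    obtain ⟨rfl, rfl⟩ | ⟨rfl, rfl⟩ : i = 0 ∧ j = 1 ∨ i = 1 ∧ j = 0 := by omega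
    · exact dvd_rfl
    · rw [mul_comm]
  have hmul : ∀ i j : Fin 2, i ≠ j →
      ∀ a ∈ RingHom.ker (ψ i), ∀ b ∈ RingHom.ker (ψ j), a * b = 0 := fun i j h a ha b hb => by
    rw [hker, Ideal.mem_span_singleton] at ha hb
    obtain ⟨c, rfl⟩ := ha
    obtain ⟨d, rfl⟩ := hb
    rw [mul_mul_mul_comm, hprod i j h, zero_mul]
  have hrank : ∀ i j : Fin 2, i ≠ j → _ := fun i j h =>
    Groth.KTheory.NodeK0.exists_rank (ψ i) (hsurj i) (ψ j) (x j)
      (by rw [hψX i j h.symm]; exact Polynomial.X_ne_zero)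
      (fun a ha => (mul_comm _ _).trans (hmul i j h a ha (x j) (hψ0 j))) (hψ0 j)
  obtain ⟨r₀, h00, h01⟩ := hrank 0 1 (by decide)
  obtain ⟨r₁, h11, h10⟩ := hrank 1 0 (by decide)
  have e : ∀ i, ModuleCat.of A (A ⧸ Ideal.span {x i}) = Groth.KTheory.NodeK0.branch (ψ i) :=
    fun i => by rw [Groth.KTheory.NodeK0.branch, hker]
  rw [show ModuleCat.of A (A ⧸ Ideal.span {Ideal.Quotient.mk J (MvPolynomial.X 0)}) = _ from e 0,
    show ModuleCat.of A (A ⧸ Ideal.span {Ideal.Quotient.mk J (MvPolynomial.X 1)}) = _ from e 1]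
  refine ⟨fun p q hpq => ?_, fun z => ?_⟩
  · refine Prod.ext ?_ ?_
    · have h := congrArg r₀ hpq
      simp only [map_add, map_zsmul] at h
      erw [h00, h01] at h
      simpa using h
    · have h := congrArg r₁ hpq
      simp only [map_add, map_zsmul] at h
      erw [h11, h10] at h
      simpa using h
  · obtain ⟨u, hu, v, hv, rfl⟩ := AddSubgroup.mem_sup.1 (Groth.KTheory.NodeK0.mem_sup (ψ 0) (hsurj 0)
      (ψ 1) (hsurj 1) (hmul 0 1 (by decide)) z)
    obtain ⟨a, rfl⟩ := AddSubgroup.mem_zmultiples_iff.1 hu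
    obtain ⟨b, rfl⟩ := AddSubgroup.mem_zmultiples_iff.1 hv
    exact ⟨(a, b), rfl⟩

end Groth.Agent.S16242
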