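import Groth.Statements.S16243
import Mathlib
import Groth.Agent.Calg7.Derived.Tor
import Groth.Agent.S14414
-- import your own Groth.Agent.* helpers here

set_option autoImplicit false
universe u
open CategoryTheory
open CAlg

namespace Groth.Agent.S16243

open CategoryTheory CategoryTheory.Limits MonoidalCategory Groth.Calg7.Tor
open scoped TensorProduct

section
variable {A : Type u} [CommRing A]

/-- the module `A/(x)` -/
abbrev Q1 (x : A) : ModuleCat.{u} A := ModuleCat.of A (A ⧸ Ideal.span {x})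

/-- multiplication by `y` from `A/(x)` to `A` -/
noncomputable def mulMap (x y : A) (h : x * y = 0) : (A ⧸ Ideal.span {x}) →ₗ[A] A :=
  Submodule.liftQ _ (LinearMap.mulLeft A y) fun a ha => by
    obtain ⟨c, rfl⟩ := Ideal.mem_span_singleton'.1 ha
    simp only [LinearMap.mem_ker, LinearMap.mulLeft_apply]
    rw [mul_left_comm, mul_comm y x, h, mul_zero]

lemma mulMap_mk (x y : A) (h : x * y = 0) (a : A) : mulMap x y h (Submodule.Quotient.mk a) = y * a := rfl

/-- `0 → A/(x) → A → A/(y) → 0` -/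
noncomputable abbrev seq (x y : A) (h : x * y = 0) : ShortComplex (ModuleCat.{u} A) :=
  ShortComplex.mk (ModuleCat.ofHom (mulMap x y h)) (ModuleCat.ofHom (Ideal.span {y}).mkQ) (by
    refine ModuleCat.hom_ext (LinearMap.ext fun a => ?_)
    obtain ⟨a, rfl⟩ := Submodule.Quotient.mk_surjective _ a
    change (Ideal.span {y}).mkQ (mulMap x y h (Submodule.Quotient.mk a)) = 0
    rw [mulMap_mk]
    exact (Submodule.Quotient.mk_eq_zero _).2 (Ideal.mem_span_singleton'.2 ⟨a, mul_comm a y⟩))

lemma seq_shortExact (x y : A) (h : x * y = 0) (hann : ∀ a : A, y * a = 0 → a ∈ Ideal.span {x}) :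
    (seq x y h).ShortExact where
  exact := (ShortComplex.ShortExact.moduleCat_exact_iff_function_exact _).2 fun a => by
    constructor
    · intro ha
      obtain ⟨c, rfl⟩ := Ideal.mem_span_singleton'.1 ((Submodule.Quotient.mk_eq_zero _).1 ha)
      exact ⟨Submodule.Quotient.mk c, (mulMap_mk x y h c).trans (mul_comm y c)⟩
    · rintro ⟨c, rfl⟩
      obtain ⟨c, rfl⟩ := Submodule.Quotient.mk_surjective _ c
      exact (Submodule.Quotient.mk_eq_zero _).2 (Ideal.mem_span_singleton'.2 ⟨c, mul_comm c y⟩)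
  mono_f := (ModuleCat.mono_iff_injective _).2 <| (injective_iff_map_eq_zero _).2 fun a ha => by
    obtain ⟨c, rfl⟩ := Submodule.Quotient.mk_surjective _ a
    exact (Submodule.Quotient.mk_eq_zero _).2 (hann c ha)
  epi_g := (ModuleCat.epi_iff_surjective _).2 (Submodule.mkQ_surjective _)

variable (m : Ideal A)

/-- `A/m` -/
abbrev kap : ModuleCat.{u} A := ModuleCat.of A (A ⧸ m)

lemma mapR_zero_eq_zero {N : ModuleCat.{u} A} (f : N ⟶ ModuleCat.of A A) (hf : ∀ a, f.hom a ∈ m) :
    mapR 0 (kap m) f = 0 := by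
  have h : f.hom.lTensor (A ⧸ m) = 0 := TensorProduct.ext' fun k a => by
    obtain ⟨c, rfl⟩ := Submodule.Quotient.mk_surjective _ k
    rw [LinearMap.lTensor_tmul, LinearMap.zero_apply, ← mul_one (f.hom a), ← smul_eq_mul,
      ← TensorProduct.smul_tmul, ← Submodule.Quotient.mk_smul, smul_eq_mul,
      (Submodule.Quotient.mk_eq_zero _).2 (m.mul_mem_right c (hf a)), TensorProduct.zero_tmul]
  have h' : ((tensoringLeft (ModuleCat.{u} A)).obj (kap m)).map f = 0 := ModuleCat.hom_ext h
  exact (NatIso.naturality_2 (zeroIso (kap m)) f).symm.trans (by rw [h', zero_comp, comp_zero])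

lemma length_eq_of_isIso {X Y : ModuleCat.{u} A} (f : X ⟶ Y) [IsIso f] :
    Module.length A X = Module.length A Y :=
  (asIso f).toLinearEquiv.length_eq

lemma length_T0_self : Module.length A (T 0 (kap m) (ModuleCat.of A A)) = Module.length A (A ⧸ m) :=
  (length_eq_of_isIso ((zeroIso (kap m)).hom.app (ModuleCat.of A A))).trans
    (TensorProduct.rid A (A ⧸ m)).length_eq

lemma length_T (x y : A) (h : x * y = 0) (hx : ∀ a : A, x * a = 0 → a ∈ Ideal.span {y})
    (hy : ∀ a : A, y * a = 0 → a ∈ Ideal.span {x}) (hxm : x ∈ m) (hym : y ∈ m) (n : ℕ) :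
    Module.length A (T n (kap m) (Q1 x)) = Module.length A (A ⧸ m) ∧
      Module.length A (T n (kap m) (Q1 y)) = Module.length A (A ⧸ m) := by
  have key : ∀ (a b : A) (hab : a * b = 0), (∀ c : A, b * c = 0 → c ∈ Ideal.span {a}) → b ∈ m →
      Module.length A (T 0 (kap m) (Q1 b)) = Module.length A (A ⧸ m) ∧
        ∀ j, Module.length A (T (j + 1) (kap m) (Q1 b)) = Module.length A (T j (kap m) (Q1 a)) := by
    intro a b hab hann hbm
    have hS := seq_shortExact a b hab hann
    have h0 : mapR 0 (kap m) (seq a b hab).f = 0 := mapR_zero_eq_zero m _ fun c => by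
      obtain ⟨c, rfl⟩ := Submodule.Quotient.mk_surjective _ c
      exact m.mul_mem_right c hbm
    constructor
    · haveI : Epi (mapR 0 (kap m) (seq a b hab).g) :=
        Groth.Calg7.Derived.epi_map_g_zero _ hS
      haveI : Mono (mapR 0 (kap m) (seq a b hab).g) := (exactR₂ (kap m) hS 0).mono_g h0
      haveI := isIso_of_mono_of_epi (mapR 0 (kap m) (seq a b hab).g)
      exact (length_eq_of_isIso (mapR 0 (kap m) (seq a b hab).g)).symm.trans (length_T0_self m)
    · intro j
      have hA : ∀ i, IsZero (T (i + 1) (kap m) (ModuleCat.of A A)) := fun i => isZero_of_flat_right _ _ i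
      haveI : Mono (δR (kap m) hS j) := (exactR₃ (kap m) hS j).mono_g ((hA j).eq_of_src _ _)
      haveI : Epi (δR (kap m) hS j) := (exactR₁ (kap m) hS j).epi_f (by
        cases j with
        | zero => exact h0
        | succ i => exact (hA i).eq_of_tgt _ _)
      haveI := isIso_of_mono_of_epi (δR (kap m) hS j)
      exact length_eq_of_isIso (δR (kap m) hS j)
  obtain ⟨y0, ys⟩ := key x y h hy hym
  obtain ⟨x0, xs⟩ := key y x ((mul_comm y x).trans h) hx hxm
  induction n with
  | zero => exact ⟨x0, y0⟩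
  | succ n ih => exact ⟨(xs n).trans ih.2, (ys n).trans ih.1⟩

/-- the map `(a, b) ↦ y a + x b` -/
noncomputable abbrev seqM (x y : A) (h : x * y = 0) : ShortComplex (ModuleCat.{u} A) :=
  ShortComplex.mk
    (ModuleCat.ofHom ((mulMap x y h).coprod (mulMap y x ((mul_comm y x).trans h))))
    (ModuleCat.ofHom (Ideal.span {x, y}).mkQ) (by
      refine ModuleCat.hom_ext (LinearMap.ext fun ab => ?_)
      obtain ⟨a, b⟩ := ab
      obtain ⟨a, rfl⟩ := Submodule.Quotient.mk_surjective _ a
      obtain ⟨b, rfl⟩ := Submodule.Quotient.mk_surjective _ b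
      exact (Submodule.Quotient.mk_eq_zero _).2
        (Ideal.mem_span_pair.2 ⟨b, a, (congrArg₂ (· + ·) (mul_comm b x) (mul_comm a y)).trans
          (add_comm _ _)⟩))

lemma seqM_shortExact (x y : A) (h : x * y = 0) (hx : ∀ a : A, x * a = 0 → a ∈ Ideal.span {y})
    (hy : ∀ a : A, y * a = 0 → a ∈ Ideal.span {x})
    (hd : ∀ a b : A, y * a + x * b = 0 → y * a = 0) : (seqM x y h).ShortExact where
  exact := (ShortComplex.ShortExact.moduleCat_exact_iff_function_exact _).2 fun a => by
    constructor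
    · intro ha
      obtain ⟨b, c, rfl⟩ := Ideal.mem_span_pair.1 ((Submodule.Quotient.mk_eq_zero _).1 ha)
      refine ⟨(Submodule.Quotient.mk c, Submodule.Quotient.mk b), ?_⟩
      exact show y * c + x * b = b * x + c * y by ring
    · rintro ⟨⟨c, d⟩, rfl⟩
      obtain ⟨c, rfl⟩ := Submodule.Quotient.mk_surjective _ c
      obtain ⟨d, rfl⟩ := Submodule.Quotient.mk_surjective _ d
      exact (Submodule.Quotient.mk_eq_zero _).2 (Ideal.mem_span_pair.2 ⟨d, c, by
        change _ = y * c + x * d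
        ring⟩)
  mono_f := (ModuleCat.mono_iff_injective _).2 <| (injective_iff_map_eq_zero _).2 fun a ha => by
    obtain ⟨c, d⟩ := a
    obtain ⟨c, rfl⟩ := Submodule.Quotient.mk_surjective _ c
    obtain ⟨d, rfl⟩ := Submodule.Quotient.mk_surjective _ d
    have e : y * c + x * d = 0 := ha
    have e1 := hd c d e
    refine Prod.ext ((Submodule.Quotient.mk_eq_zero _).2 (hy c e1))
      ((Submodule.Quotient.mk_eq_zero _).2 (hx d ?_))
    rwa [e1, zero_add] at e
  epi_g := (ModuleCat.epi_iff_surjective _).2 (Submodule.mkQ_surjective _)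

lemma length_T_prod (M N : ModuleCat.{u} A) (K : ModuleCat.{u} A) (n : ℕ) :
    Module.length A (T n K (ModuleCat.of A (M × N))) =
      Module.length A (T n K M) + Module.length A (T n K N) := by
  let i : M ⟶ ModuleCat.of A (M × N) := ModuleCat.ofHom (LinearMap.inl A M N)
  let p : ModuleCat.of A (M × N) ⟶ N := ModuleCat.ofHom (LinearMap.snd A M N)
  have w : i ≫ p = 0 := rfl
  have hS : (ShortComplex.mk i p w).ShortExact :=
    { exact := (ShortComplex.ShortExact.moduleCat_exact_iff_function_exact _).2 .inl_snd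
      mono_f := (ModuleCat.mono_iff_injective _).2 LinearMap.inl_injective
      epi_g := (ModuleCat.epi_iff_surjective _).2 LinearMap.snd_surjective }
  haveI : IsSplitMono i := ⟨⟨{ retraction := ModuleCat.ofHom (LinearMap.fst A M N), id := rfl }⟩⟩
  haveI : IsSplitEpi p := ⟨⟨{ section_ := ModuleCat.ofHom (LinearMap.inr A M N), id := rfl }⟩⟩
  have hf : Mono (mapR n K i) := inferInstance
  have hg : Epi (mapR n K p) := inferInstance
  exact Module.length_eq_add_of_exact (mapR n K i).hom (mapR n K p).hom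
    ((ModuleCat.mono_iff_injective _).1 hf) ((ModuleCat.epi_iff_surjective _).1 hg)
    ((ShortComplex.ShortExact.moduleCat_exact_iff_function_exact _).1 (exactR₂ K hS n))

theorem main (x y : A) (h : x * y = 0) (hx : ∀ a : A, x * a = 0 → a ∈ Ideal.span {y})
    (hy : ∀ a : A, y * a = 0 → a ∈ Ideal.span {x})
    (hd : ∀ a b : A, y * a + x * b = 0 → y * a = 0) (hmax : (Ideal.span {x, y}).IsMaximal) (n : ℕ) :
    Module.length A (T (n + 1) (kap (Ideal.span {x, y})) (kap (Ideal.span {x, y}))) = 2 := by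
  have hxm : x ∈ Ideal.span {x, y} := Ideal.subset_span (by simp)
  have hym : y ∈ Ideal.span {x, y} := Ideal.subset_span (by simp)
  haveI : IsSimpleModule A (A ⧸ Ideal.span {x, y}) :=
    isSimpleModule_iff_isCoatom.2 (Ideal.isMaximal_def.1 hmax)
  have hS := seqM_shortExact x y h hx hy hd
  have hA : ∀ i, IsZero (T (i + 1) (kap (Ideal.span {x, y})) (ModuleCat.of A A)) :=
    fun i => isZero_of_flat_right _ _ i
  haveI : Mono (δR (kap (Ideal.span {x, y})) hS n) :=
    (exactR₃ _ hS n).mono_g ((hA n).eq_of_src _ _)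
  haveI : Epi (δR (kap (Ideal.span {x, y})) hS n) := (exactR₁ _ hS n).epi_f (by
    cases n with
    | zero =>
      refine mapR_zero_eq_zero _ _ fun c => ?_
      obtain ⟨c, d⟩ := c
      obtain ⟨c, rfl⟩ := Submodule.Quotient.mk_surjective _ c
      obtain ⟨d, rfl⟩ := Submodule.Quotient.mk_surjective _ d
      exact add_mem (Ideal.mul_mem_right c _ hym) (Ideal.mul_mem_right d _ hxm)
    | succ i => exact (hA i).eq_of_tgt _ _)
  haveI := isIso_of_mono_of_epi (δR (kap (Ideal.span {x, y})) hS n)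
  obtain ⟨l1, l2⟩ := length_T (Ideal.span {x, y}) x y h hx hy hxm hym n
  rw [length_eq_of_isIso (δR (kap (Ideal.span {x, y})) hS n),
    length_T_prod (Q1 x) (Q1 y) (kap (Ideal.span {x, y})) n, l1, l2, Module.length_eq_one]
  rfl

end

section
open MvPolynomial
variable (k : Type u) [Field k]

lemma X0_dvd {a : MvPolynomial (Fin 2) k} (h : X 0 ∣ X 1 * a) : X 0 ∣ a :=
  ((X_prime).dvd_or_dvd h).resolve_left (by simp [X_dvd_X])

lemma ker_cc : RingHom.ker (constantCoeff : MvPolynomial (Fin 2) k →+* k) = Ideal.span (Set.range X) := by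
  refine Ideal.ext fun p => ?_
  rw [RingHom.mem_ker, show (Ideal.span (Set.range X) : Ideal (MvPolynomial (Fin 2) k)) =
    idealOfVars (Fin 2) k ^ 1 from (pow_one _).symm, mem_pow_idealOfVars_iff']
  refine ⟨fun h x hx => ?_, fun h => h 0 (by simp)⟩
  rw [(Finsupp.degree_eq_zero_iff x).1 (by omega)]
  exact h

lemma X1_dvd {a : MvPolynomial (Fin 2) k} (h : X 1 ∣ X 0 * a) : X 1 ∣ a :=
  ((X_prime).dvd_or_dvd h).resolve_left (by simp [X_dvd_X])

end

/-- Let k be a field, A = k[x, y]/(xy) (x = X_0, y = X_1) and κ = A/(x, y) the residue field at the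
origin, viewed as an A-module. Then for every i ≥ 1 the A-module Tor_i^A(κ, κ) has length 2 (it is a
two-dimensional κ-vector space; Tor_0 is κ), and κ admits no finite projective resolution over A:
for no n is its projective dimension less than n. -/
theorem result (k : Type u) [Field k] :
    (∀ i : ℕ, 1 ≤ i →
      Module.length (MvPolynomial (Fin 2) k ⧸ Ideal.span {(MvPolynomial.X 0 * MvPolynomial.X 1 : MvPolynomial (Fin 2) k)}) ((((Tor (ModuleCat.{u} (MvPolynomial (Fin 2) k ⧸ Ideal.span {(MvPolynomial.X 0 * MvPolynomial.X 1 : MvPolynomial (Fin 2) k)})) i).obj (ModuleCat.of (MvPolynomial (Fin 2) k ⧸ Ideal.span {(MvPolynomial.X 0 * MvPolynomial.X 1 : MvPolynomial (Fin 2) k)}) ((MvPolynomial (Fin 2) k ⧸ Ideal.span {(MvPolynomial.X 0 * MvPolynomial.X 1 : MvPolynomial (Fin 2) k)}) ⧸ Ideal.span {Ideal.Quotient.mk (Ideal.span {(MvPolynomial.X 0 * MvPolynomial.X 1 : MvPolynomial (Fin 2) k)}) (MvPolynomial.X 0), Ideal.Quotient.mk (Ideal.span {(MvPolynomial.X 0 * MvPolynomial.X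 1 : MvPolynomial (Fin 2) k)}) (MvPolynomial.X 1)}))).obj (ModuleCat.of (MvPolynomial (Fin 2) k ⧸ Ideal.span {(MvPolynomial.X 0 * MvPolynomial.X 1 : MvPolynomial (Fin 2) k)}) ((MvPolynomial (Fin 2) k ⧸ Ideal.span {(MvPolynomial.X 0 * MvPolynomial.X 1 : MvPolynomial (Fin 2) k)}) ⧸ Ideal.span {Ideal.Quotient.mk (Ideal.span {(MvPolynomial.X 0 * MvPolynomial.X 1 : MvPolynomial (Fin 2) k)}) (MvPolynomial.X 0), Ideal.Quotient.mk (Ideal.span {(MvPolynomial.X 0 * MvPolynomial.X 1 : MvPolynomial (Fin 2) k)}) (MvPolynomial.X 1)}))) : Type u) = 2) ∧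
    ∀ n : ℕ, ¬ HasProjectiveDimensionLT (ModuleCat.of (MvPolynomial (Fin 2) k ⧸ Ideal.span {(MvPolynomial.X 0 * MvPolynomial.X 1 : MvPolynomial (Fin 2) k)}) ((MvPolynomial (Fin 2) k ⧸ Ideal.span {(MvPolynomial.X 0 * MvPolynomial.X 1 : MvPolynomial (Fin 2) k)}) ⧸ Ideal.span {Ideal.Quotient.mk (Ideal.span {(MvPolynomial.X 0 * MvPolynomial.X 1 : MvPolynomial (Fin 2) k)}) (MvPolynomial.X 0), Ideal.Quotient.mk (Ideal.span {(MvPolynomial.X 0 * MvPolynomial.X 1 : MvPolynomial (Fin 2) k)}) (MvPolynomial.X 1)})) n := by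
  set I := Ideal.span {(MvPolynomial.X 0 * MvPolynomial.X 1 : MvPolynomial (Fin 2) k)} with hI
  set x := Ideal.Quotient.mk I (MvPolynomial.X 0) with hxdef
  set y := Ideal.Quotient.mk I (MvPolynomial.X 1) with hydef
  have h : x * y = 0 := Ideal.Quotient.eq_zero_iff_mem.2 (Ideal.mem_span_singleton_self _)
  have hx : ∀ a, x * a = 0 → a ∈ Ideal.span {y} := by
    intro a ha
    obtain ⟨a, rfl⟩ := Ideal.Quotient.mk_surjective a
    rw [hxdef, ← map_mul, Ideal.Quotient.eq_zero_iff_mem, hI, Ideal.mem_span_singleton] at ha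
    obtain ⟨c, hc⟩ := X1_dvd k (dvd_trans (dvd_mul_left _ _) ha)
    exact Ideal.mem_span_singleton'.2 ⟨Ideal.Quotient.mk I c, by rw [hc, map_mul, mul_comm]⟩
  have hy : ∀ a, y * a = 0 → a ∈ Ideal.span {x} := by
    intro a ha
    obtain ⟨a, rfl⟩ := Ideal.Quotient.mk_surjective a
    rw [hydef, ← map_mul, Ideal.Quotient.eq_zero_iff_mem, hI, Ideal.mem_span_singleton] at ha
    obtain ⟨c, hc⟩ := X0_dvd k (dvd_trans (dvd_mul_right _ _) ha)
    exact Ideal.mem_span_singleton'.2 ⟨Ideal.Quotient.mk I c, by rw [hc, map_mul, mul_comm]⟩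
  have hd : ∀ a b, y * a + x * b = 0 → y * a = 0 := by
    intro a b hab
    obtain ⟨a, rfl⟩ := Ideal.Quotient.mk_surjective a
    obtain ⟨b, rfl⟩ := Ideal.Quotient.mk_surjective b
    rw [hxdef, hydef, ← map_mul, ← map_mul, ← map_add, Ideal.Quotient.eq_zero_iff_mem, hI,
      Ideal.mem_span_singleton] at hab
    have h1 : MvPolynomial.X 0 ∣ (MvPolynomial.X 1 * a : MvPolynomial (Fin 2) k) :=
      (dvd_add_left (dvd_mul_right _ _)).1 (dvd_trans (dvd_mul_right _ _) hab)
    obtain ⟨c, hc⟩ := X0_dvd k h1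
    rw [hydef, ← map_mul, Ideal.Quotient.eq_zero_iff_mem, hI, Ideal.mem_span_singleton]
    exact ⟨c, by rw [hc]; ring⟩
  have hmax : (Ideal.span {x, y}).IsMaximal := by
    have hsurj : Function.Surjective
        (MvPolynomial.constantCoeff : MvPolynomial (Fin 2) k →+* k) := fun c => ⟨_, MvPolynomial.constantCoeff_C _ c⟩
    have hle : I ≤ RingHom.ker (MvPolynomial.constantCoeff : MvPolynomial (Fin 2) k →+* k) := by
      rw [hI, Ideal.span_le, Set.singleton_subset_iff]
      simp
    have e : RingHom.ker (Ideal.Quotient.lift I MvPolynomial.constantCoeff fun a ha => hle ha) =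
        Ideal.span {x, y} := by
      rw [Ideal.ker_quotient_lift, ker_cc, Ideal.map_span, ← Set.range_comp]
      congr 1
      ext z
      simp [Fin.exists_fin_two, eq_comm, hxdef, hydef]
    rw [← e]
    exact RingHom.ker_isMaximal_of_surjective _ (Ideal.Quotient.lift_surjective_of_surjective I _ hsurj)
  refine ⟨fun i hi => ?_, fun n hn => ?_⟩
  · obtain ⟨j, rfl⟩ := Nat.exists_eq_succ_of_ne_zero (show i ≠ 0 by omega)
    exact main x y h hx hy hd hmax j
  · haveI : HasProjectiveDimensionLE (ModuleCat.of (MvPolynomial (Fin 2) k ⧸ I) ((MvPolynomial (Fin 2) k ⧸ I) ⧸ Ideal.span {x, y})) n :=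
      @hasProjectiveDimensionLT_of_ge _ _ _ _ n (n + 1) (Nat.le_succ n) hn
    have h0 := Groth.Agent.S14414.result (MvPolynomial (Fin 2) k ⧸ I)
      (ModuleCat.of (MvPolynomial (Fin 2) k ⧸ I) ((MvPolynomial (Fin 2) k ⧸ I) ⧸ Ideal.span {x, y}))
      (ModuleCat.of (MvPolynomial (Fin 2) k ⧸ I) ((MvPolynomial (Fin 2) k ⧸ I) ⧸ Ideal.span {x, y}))
      n (n + 1) (by omega)
    haveI := Groth.Calg7.Tor.subsingleton_of_isZero h0
    have h2 := main x y h hx hy hd hmax n
    rw [Module.length_eq_zero] at h2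
    exact absurd h2 (by decide)

end Groth.Agent.S16243
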