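import Groth.Statements.S16244
import Mathlib
-- import your own Groth.Agent.* helpers here

set_option autoImplicit false
universe u
open Curves

namespace Groth.Agent.S16244

/-- Let k be an algebraically closed field in which 2 and 3 are nonzero, and W a short Weierstrass
equation y² = x³ + a₄x + a₆ over k with nonzero discriminant. The admissible changes of variables
(u, r, s, t) that fix W form a cyclic group, of order 6 when a₄ = 0, of order 4 when a₆ = 0, and of
order 2 when a₄ and a₆ are both nonzero. (The published statement says the automorphism group of the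
elliptic curve is cyclic of order 2, 4 or 6; the automorphisms are rendered here as the changes of
variables preserving the equation, and the case distinction is the one the computation gives.) -/
theorem result
    (k : Type u) [Field k] [IsAlgClosed k] (h2 : (2 : k) ≠ 0) (h3 : (3 : k) ≠ 0)
    (W : WeierstrassCurve k) [W.IsShortNF] (hΔ : W.Δ ≠ 0) :
    IsCyclic ↥(MulAction.stabilizer (WeierstrassCurve.VariableChange k) W) ∧
      (W.a₄ = 0 → Nat.card ↥(MulAction.stabilizer (WeierstrassCurve.VariableChange k) W) = 6) ∧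
      (W.a₆ = 0 → Nat.card ↥(MulAction.stabilizer (WeierstrassCurve.VariableChange k) W) = 4) ∧
      (W.a₄ ≠ 0 → W.a₆ ≠ 0 → Nat.card ↥(MulAction.stabilizer (WeierstrassCurve.VariableChange k) W) = 2) := by
  classical
  have ha1 : W.a₁ = 0 := WeierstrassCurve.a₁_of_isShortNF W
  have ha2 : W.a₂ = 0 := WeierstrassCurve.a₂_of_isShortNF W
  have ha3 : W.a₃ = 0 := WeierstrassCurve.a₃_of_isShortNF W
  have hmem : ∀ C : WeierstrassCurve.VariableChange k,
      C ∈ MulAction.stabilizer (WeierstrassCurve.VariableChange k) W ↔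
        C.r = 0 ∧ C.s = 0 ∧ C.t = 0 ∧ ((C.u⁻¹ : kˣ) : k) ^ 4 * W.a₄ = W.a₄ ∧
          ((C.u⁻¹ : kˣ) : k) ^ 6 * W.a₆ = W.a₆ := by
    intro C
    rw [MulAction.mem_stabilizer_iff]
    constructor
    · intro h
      have e1 := congrArg WeierstrassCurve.a₁ h
      have e2 := congrArg WeierstrassCurve.a₂ h
      have e3 := congrArg WeierstrassCurve.a₃ h
      have e4 := congrArg WeierstrassCurve.a₄ h
      have e6 := congrArg WeierstrassCurve.a₆ h
      rw [WeierstrassCurve.variableChange_a₁, ha1, zero_add, mul_eq_zero] at e1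
      have hs : C.s = 0 := by
        rcases e1 with e | e
        · exact absurd e (Units.ne_zero _)
        · exact (mul_eq_zero.1 e).resolve_left h2
      rw [WeierstrassCurve.variableChange_a₂, ha1, ha2, hs, mul_eq_zero] at e2
      have hr : C.r = 0 := by
        rcases e2 with e | e
        · exact absurd e (pow_ne_zero _ (Units.ne_zero _))
        · exact (mul_eq_zero.1 (show (3 : k) * C.r = 0 by linear_combination e)).resolve_left h3
      rw [WeierstrassCurve.variableChange_a₃, ha1, ha3, mul_eq_zero] at e3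
      have ht : C.t = 0 := by
        rcases e3 with e | e
        · exact absurd e (pow_ne_zero _ (Units.ne_zero _))
        · exact (mul_eq_zero.1 (show (2 : k) * C.t = 0 by linear_combination e)).resolve_left h2
      rw [WeierstrassCurve.variableChange_a₄, ha1, ha2, ha3, hr, hs, ht] at e4
      rw [WeierstrassCurve.variableChange_a₆, ha1, ha2, ha3, hr, ht] at e6
      exact ⟨hr, hs, ht, by linear_combination e4, by linear_combination e6⟩
    · rintro ⟨hr, hs, ht, e4, e6⟩
      ext
      · simp [WeierstrassCurve.variableChange_a₁, ha1, hs]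
      · simp [WeierstrassCurve.variableChange_a₂, ha1, ha2, hs, hr]
      · simp [WeierstrassCurve.variableChange_a₃, ha1, ha3, hr, ht]
      · rw [WeierstrassCurve.variableChange_a₄, ha1, ha2, ha3, hr, hs, ht]; linear_combination e4
      · rw [WeierstrassCurve.variableChange_a₆, ha1, ha2, ha3, hr, ht]; linear_combination e6
  let φ : ↥(MulAction.stabilizer (WeierstrassCurve.VariableChange k) W) →* kˣ :=
    { toFun := fun C => (C : WeierstrassCurve.VariableChange k).u
      map_one' := rfl
      map_mul' := fun _ _ => rfl }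
  have hinj : Function.Injective φ := by
    rintro ⟨C, hC⟩ ⟨D, hD⟩ h
    obtain ⟨a, b, c, -⟩ := (hmem C).1 hC
    obtain ⟨a', b', c', -⟩ := (hmem D).1 hD
    refine Subtype.ext (WeierstrassCurve.VariableChange.ext h ?_ ?_ ?_) <;> simp [*]
  have hrange : ∀ u : kˣ, u ∈ φ.range ↔
      (W.a₄ = 0 ∨ u ^ 4 = 1) ∧ (W.a₆ = 0 ∨ u ^ 6 = 1) := by
    intro u
    have key : ∀ (n : ℕ) (a : k), ((u⁻¹ : kˣ) : k) ^ n * a = a ↔ (a = 0 ∨ u ^ n = 1) := by
      intro n a
      rw [mul_left_eq_self₀, ← Units.val_pow_eq_pow_val, Units.val_eq_one, inv_pow, inv_eq_one, or_comm]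
    rw [← key, ← key]
    constructor
    · rintro ⟨⟨C, hC⟩, rfl⟩
      obtain ⟨-, -, -, e4, e6⟩ := (hmem C).1 hC
      exact ⟨e4, e6⟩
    · intro h
      exact ⟨⟨⟨u, 0, 0, 0⟩, (hmem _).2 ⟨rfl, rfl, rfl, h⟩⟩, rfl⟩
  have hfinite : ∀ n : ℕ, n ≠ 0 → (∀ u ∈ φ.range, u ^ n = 1) →
      IsCyclic ↥(MulAction.stabilizer (WeierstrassCurve.VariableChange k) W) := by
    intro n hn h
    have : NeZero n := ⟨hn⟩
    let ψ : ↥(MulAction.stabilizer (WeierstrassCurve.VariableChange k) W) →* ↥(rootsOfUnity n k) :=
      φ.codRestrict _ fun C => (mem_rootsOfUnity _ _).2 (h _ ⟨C, rfl⟩)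
    exact isCyclic_of_injective ψ fun a b e => hinj (congrArg Subtype.val e)
  have hcard : ∀ n : ℕ, (n : k) ≠ 0 → (∀ u : kˣ, u ∈ φ.range ↔ u ^ n = 1) →
      Nat.card ↥(MulAction.stabilizer (WeierstrassCurve.VariableChange k) W) = n := by
    intro n hn h
    have : NeZero (n : k) := ⟨hn⟩
    have : NeZero n := ⟨fun e => hn (by simp [e])⟩
    have e : φ.range = rootsOfUnity n k := by
      ext u; rw [h, mem_rootsOfUnity]
    rw [Nat.card_congr (MonoidHom.ofInjective hinj).toEquiv, e,
      HasEnoughRootsOfUnity.natCard_rootsOfUnity]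
  have h46 : W.a₄ ≠ 0 ∨ W.a₆ ≠ 0 := by
    by_contra hh
    push_neg at hh
    apply hΔ
    rw [WeierstrassCurve.Δ_of_isShortNF, hh.1, hh.2]
    ring
  have h12 : ∀ u : kˣ, u ∈ φ.range → u ^ 12 = 1 := by
    intro u hu
    obtain ⟨h4, h6⟩ := (hrange u).1 hu
    rcases h46 with h | h
    · rw [show 12 = 4 * 3 from rfl, pow_mul, h4.resolve_left h, one_pow]
    · rw [show 12 = 6 * 2 from rfl, pow_mul, h6.resolve_left h, one_pow]
  have hsix : (6 : k) ≠ 0 := by
    rw [show (6 : k) = 2 * 3 by norm_num]; exact mul_ne_zero h2 h3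
  have hfour : (4 : k) ≠ 0 := by
    rw [show (4 : k) = 2 * 2 by norm_num]; exact mul_ne_zero h2 h2
  refine ⟨hfinite 12 (by norm_num) h12, fun h4 => hcard 6 (by simpa using hsix) fun u => ?_,
    fun h6 => hcard 4 (by simpa using hfour) fun u => ?_,
    fun h4 h6 => hcard 2 (by simpa using h2) fun u => ?_⟩
  · have h6 : W.a₆ ≠ 0 := h46.resolve_left (by simp [h4])
    simp [hrange, h4, h6]
  · have h4 : W.a₄ ≠ 0 := h46.resolve_right (by simp [h6])
    simp [hrange, h4, h6]
  · rw [hrange]
    simp only [h4, h6, false_or]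
    constructor
    · rintro ⟨a, b⟩
      rwa [show 6 = 4 + 2 from rfl, pow_add, a, one_mul] at b
    · intro h
      exact ⟨by rw [show 4 = 2 * 2 from rfl, pow_mul, h, one_pow],
        by rw [show 6 = 2 * 3 from rfl, pow_mul, h, one_pow]⟩

end Groth.Agent.S16244
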