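import Groth.Statements.S16245
import Groth.Agent.CurveDiv.HilbPts

set_option autoImplicit false
universe u
open CategoryTheory CategoryTheory.Limits AlgebraicGeometry
open SDiv

namespace Groth.Agent.S16245

/-- Let f : X → S be a morphism of schemes, D ⊆ X an effective Cartier divisor with ideal sheaf 𝓘, and
D' ⊆ X a closed subscheme with ideal sheaf 𝓘' such that D' → S is finite, flat and locally of finite
presentation (finite locally free). Then there is a closed subscheme Z ⊆ S such that a morphism g :
T → S factors through Z exactly when, on X ×_S T, the inverse image ideal of 𝓘 is contained in the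
inverse image ideal of 𝓘', that is, the pull-back of D' is a closed subscheme of the pull-back of D.
This universal property determines Z, and compatibility of Z with base change follows from it. (In
the source X is a family of elliptic curves and D, D' are relative effective Cartier divisors, D'
then being finite locally free over S; the argument uses only the hypotheses stated here.) -/
theorem result
    {X S : Scheme.{u}} (f : X ⟶ S) (𝓘 𝓘' : X.IdealSheafData) (hD : BlowUp.IsEffCartierIdeal 𝓘)
    [IsFinite (𝓘'.subschemeι ≫ f)] [Flat (𝓘'.subschemeι ≫ f)]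
    [LocallyOfFinitePresentation (𝓘'.subschemeι ≫ f)] :
    ∃ 𝓩 : S.IdealSheafData, ∀ (T : Scheme.{u}) (g : T ⟶ S),
      (∃ t : T ⟶ 𝓩.subscheme, t ≫ 𝓩.subschemeι = g) ↔
        𝓘.comap (pullback.fst f g) ≤ 𝓘'.comap (pullback.fst f g) := by
  let T₀ : Over S := Over.mk (𝟙 S)
  let p₀ : PicF.XT f T₀ ⟶ X := pullback.fst f (𝟙 S)
  let J₀ : (PicF.XT f T₀).IdealSheafData := 𝓘'.comap p₀
  have e : J₀.subschemeι ≫ PicF.XTproj f T₀ =
      ((𝓘'.comapIso p₀).hom ≫ pullback.snd p₀ 𝓘'.subschemeι) ≫ 𝓘'.subschemeι ≫ f := by
    rw [Category.assoc, ← pullback.condition_assoc, ← Scheme.IdealSheafData.comapIso_inv_subschemeι,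
      Category.assoc, Iso.hom_inv_id_assoc]
    congr 1
    exact (pullback.condition.trans (Category.comp_id _)).symm
  haveI : IsIso p₀ := inferInstanceAs (IsIso (pullback.fst f (𝟙 S)))
  have hJ : Mor2.IsFinLocFree (J₀.subschemeι ≫ PicF.XTproj f T₀) := by
    rw [e]; exact ⟨inferInstance, inferInstance, inferInstance⟩
  obtain ⟨Z₀, i, hi, H⟩ := Groth.HilbPts.exists_closed_pull_le f J₀ (𝓘.comap p₀) hJ
  refine ⟨i.ker, fun T g => ?_⟩
  have h1 := H (Over.mk g) (Over.homMk g (Category.comp_id _))
  rw [Groth.CurveDiv.pull_eq_comap, Groth.CurveDiv.pull_eq_comap, ← Scheme.IdealSheafData.comap_comp,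
    ← Scheme.IdealSheafData.comap_comp] at h1
  have e2 : PicF.XTmap f (Over.homMk g (Category.comp_id _) : Over.mk g ⟶ T₀) ≫ p₀ =
      pullback.fst f g := Groth.HilbPts.XTmap_fst f _
  rw [e2] at h1
  exact (Groth.HilbPts.le_ker_iff i.ker g).symm.trans ((Groth.HilbPts.exists_fac_iff_ker_le i g).symm.trans h1.symm)

end Groth.Agent.S16245
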