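import Groth.Statements.S16248
import Groth.Agent.GrpschAbsch.GrpEtaleRel
import Groth.Agent.GrpschAbsch.FibreFlat
import Groth.Agent.Hensel1.SectionsLift

set_option autoImplicit false
universe u
open CategoryTheory CategoryTheory.Limits AlgebraicGeometry MonObj
open AgPol

namespace Groth.Agent.S16248

/-- Let E be an S-group scheme which is smooth and proper over S with geometrically connected fibres of
dimension one (a family of elliptic curves over S with its group law), and let N ≥ 1 be an integer
invertible on S. Consider, for an S-scheme T, the T-valued points Q of E with N·Q = 0 whose value at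
every geometric point of T has order exactly N (for N invertible these are exactly the level
structures of type ℤ/N sending 1 to Q). This functor is represented by an S-scheme Z which is finite
and étale over S: there are such a Z and a point P of E with values in Z having this property, such
that every Q with the property over any T is the pull-back of P along a unique S-morphism T → Z. -/
theorem result
    {S : Scheme.{u}} (E : Over S) [GrpObj E] (hE : AgPol.IsAbSch E 1)
    (N : ℕ) (hN : 1 ≤ N) (hNu : IsUnit (N : Γ(S, ⊤))) :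
    ∃ (Z : Over S) (P : Z ⟶ E), IsFinite Z.hom ∧ Etale Z.hom ∧
      (P ^ N = 1 ∧ ∀ (Ω : Type u) [Field Ω] [IsAlgClosed Ω] (t : Spec (CommRingCat.of Ω) ⟶ Z.left),
        orderOf ((Over.homMk t rfl : Over.mk (t ≫ Z.hom) ⟶ Z) ≫ P) = N) ∧
      ∀ (T : Over S) (Q : T ⟶ E), Q ^ N = 1 →
        (∀ (Ω : Type u) [Field Ω] [IsAlgClosed Ω] (t : Spec (CommRingCat.of Ω) ⟶ T.left),
          orderOf ((Over.homMk t rfl : Over.mk (t ≫ T.hom) ⟶ T) ≫ Q) = N) →
        ∃! v : T ⟶ Z, v ≫ P = Q := by
  open MonoidalCategory CartesianMonoidalCategory in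
  exact by
    have := hE.smooth
    have := hE.proper
    have := hE.geomConnected
    have : GeometricallyReduced E.hom := GrpschAbsch.FibreFlat.geometricallyReduced_of_smooth E.hom
    let f : E ⟶ E := 𝟙 E ^ N
    have hf : f = 𝟙 E ^ (N : ℤ) := (zpow_natCast _ _).symm
    have : Etale f.left := by
      rw [hf]
      exact GrpschAbsch.etale_zpow_of_abelianScheme E N (by simpa using hNu)
    have : IsFinite f.left := GrpschAbsch.isFinite_of_etale f
    let Z0 : Over S := Over.mk (pullback.snd f.left η[E].left : pullback f.left η[E].left ⟶ S)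
    have : Etale Z0.hom := inferInstanceAs (Etale (pullback.snd _ _))
    have : IsFinite Z0.hom := inferInstanceAs (IsFinite (pullback.snd _ _))
    let P0 : Z0 ⟶ E := Over.homMk (pullback.fst f.left η[E].left) (by
      show pullback.fst f.left η[E].left ≫ E.hom = pullback.snd f.left η[E].left
      rw [← Over.w f, ← Category.assoc, pullback.condition, Category.assoc]
      exact (congrArg (_ ≫ ·) (Over.w η[E])).trans (Category.comp_id _))
    have hpowN : ∀ {T : Over S} (Q : T ⟶ E), Q ≫ f = Q ^ N := fun Q => by
      rw [MonObj.comp_pow, Category.comp_id]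
    have hone : ∀ (T : Over S), ((1 : T ⟶ E)).left = T.hom ≫ η[E].left := fun T => by
      rw [Hom.one_def, Over.comp_left, Over.toUnit_left]
    have hP0 : P0 ^ N = 1 := by
      rw [← hpowN]
      exact Over.OverMorphism.ext (pullback.condition.trans (hone Z0).symm)
    have hlift : ∀ {T : Over S} (Q : T ⟶ E), Q ^ N = 1 → ∃ v : T ⟶ Z0, v ≫ P0 = Q := fun {T} Q hQ =>
      ⟨Over.homMk (pullback.lift Q.left T.hom (by rw [← Over.comp_left, hpowN, hQ, hone]))
        (pullback.lift_snd _ _ _), Over.OverMorphism.ext (pullback.lift_fst _ _ _)⟩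
    have huniq : ∀ {T : Over S} (v w : T ⟶ Z0), v ≫ P0 = w ≫ P0 → v = w := fun v w h =>
      Over.OverMorphism.ext (pullback.hom_ext (congrArg Over.Hom.left h) ((Over.w v).trans (Over.w w).symm))
    obtain ⟨e, he⟩ := hlift (1 : 𝟙_ (Over S) ⟶ E) (one_pow N)
    have hew : e.left ≫ Z0.hom = 𝟙 S := Over.w e
    have : IsOpenImmersion e.left := Groth.Hensel1.isOpenImmersion_section Z0.hom e.left hew
    have : IsClosedImmersion e.left := by
      have : IsClosedImmersion (e.left ≫ Z0.hom) := by rw [hew]; exact MorphismProperty.id_mem @IsClosedImmersion _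
      exact IsClosedImmersion.of_comp e.left Z0.hom
    choose hd hhd using fun d : ℕ => hlift (P0 ^ d) (by rw [← pow_mul, mul_comm, pow_mul, hP0, one_pow])
    let C : ℕ → Set Z0.left := fun d => (hd d).left ⁻¹' Set.range e.left
    have hC : ∀ d, IsClopen (C d) := fun d => IsClopen.preimage
      ⟨e.left.isClosedEmbedding.isClosed_range, e.left.isOpenEmbedding.isOpen_range⟩ (hd d).left.continuous
    have hBcl : IsClopen (⋃ d ∈ Finset.Ioo 0 N, C d) := isClopen_biUnion_finset fun d _ => hC d
    let U : Z0.left.Opens := ⟨(⋃ d ∈ Finset.Ioo 0 N, C d)ᶜ, hBcl.1.isOpen_compl⟩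
    have hUι : IsClosedImmersion U.ι := IsClosedImmersion.of_isPreimmersion _ (by
      rw [Scheme.Opens.range_ι]; exact hBcl.compl.1)
    have hcrit : ∀ (W : Over S) [Subsingleton W.left] (p : W.left) (w : W ⟶ Z0),
        orderOf (w ≫ P0) = N ↔ w.left p ∈ U := by
      intro W _ p w
      have hpt : ∀ d, (w ≫ P0) ^ d = 1 ↔ w.left p ∈ C d := fun d => by
        have e1 : (w ≫ P0) ^ d = (w ≫ hd d) ≫ P0 := by rw [Category.assoc, hhd, MonObj.comp_pow]
        have e2 : (1 : W ⟶ E) = (toUnit W ≫ e) ≫ P0 := by rw [Category.assoc, he, MonObj.comp_one]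
        rw [e1, e2]
        constructor
        · intro h
          refine ⟨W.hom p, ?_⟩
          have := congrArg (fun m : W ⟶ Z0 => m.left p) (huniq _ _ h)
          simpa [Over.toUnit_left] using this.symm
        · intro h
          refine congrArg (· ≫ P0) ?_
          have hr : Set.range (w ≫ hd d).left ⊆ Set.range e.left := by
            rintro _ ⟨q, rfl⟩
            rw [Subsingleton.elim q p]
            exact h
          let l : W.left ⟶ S := IsOpenImmersion.lift e.left (w ≫ hd d).left hr
          have hl : l ≫ e.left = (w ≫ hd d).left := IsOpenImmersion.lift_fac _ _ _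
          have hlW : l = W.hom := by
            rw [← Category.comp_id l, ← hew, ← Category.assoc, hl, Over.w]
          apply Over.OverMorphism.ext
          rw [← hl, hlW, Over.comp_left, Over.toUnit_left]
      rw [orderOf_eq_iff (by omega)]
      constructor
      · rintro ⟨-, h⟩ hm
        obtain ⟨d, hdI, hdC⟩ := Set.mem_iUnion₂.1 hm
        exact h d (Finset.mem_Ioo.1 hdI).2 (Finset.mem_Ioo.1 hdI).1 ((hpt d).2 hdC)
      · intro h
        refine ⟨by rw [← MonObj.comp_pow, hP0, MonObj.comp_one], fun d hdN hd0 hd1 => h ?_⟩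
        exact Set.mem_iUnion₂.2 ⟨d, Finset.mem_Ioo.2 ⟨hd0, hdN⟩, (hpt d).1 hd1⟩
    let Z : Over S := Over.mk (U.ι ≫ Z0.hom)
    let iZ : Z ⟶ Z0 := Over.homMk U.ι rfl
    refine ⟨Z, iZ ≫ P0, inferInstanceAs (IsFinite (U.ι ≫ Z0.hom)), inferInstanceAs (Etale (U.ι ≫ Z0.hom)),
      ⟨by rw [← MonObj.comp_pow, hP0, MonObj.comp_one], fun Ω _ _ t => ?_⟩, fun T Q hQ hord => ?_⟩
    · let W : Over S := Over.mk (t ≫ Z.hom)
      let w : W ⟶ Z := Over.homMk t rfl
      have : Subsingleton W.left := inferInstanceAs (Subsingleton (PrimeSpectrum Ω))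
      show orderOf (w ≫ iZ ≫ P0) = N
      rw [← Category.assoc]
      refine (hcrit W (IsLocalRing.closedPoint Ω) (w ≫ iZ)).2 ?_
      exact (t (IsLocalRing.closedPoint Ω)).2
    · obtain ⟨v0, hv0⟩ := hlift Q hQ
      have hr : Set.range v0.left ⊆ Set.range U.ι := by
        rintro _ ⟨x, rfl⟩
        rw [Scheme.Opens.range_ι]
        let Ω := AlgebraicClosure (T.left.residueField x)
        let t : Spec (CommRingCat.of Ω) ⟶ T.left :=
          Spec.map (CommRingCat.ofHom (algebraMap (T.left.residueField x) Ω)) ≫ T.left.fromSpecResidueField x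
        let W : Over S := Over.mk (t ≫ T.hom)
        let w : W ⟶ T := Over.homMk t rfl
        have : Subsingleton W.left := inferInstanceAs (Subsingleton (PrimeSpectrum Ω))
        have h := hord Ω t
        rw [← hv0, ← Category.assoc] at h
        have hm := (hcrit W (IsLocalRing.closedPoint Ω) (w ≫ v0)).1 h
        have hx : t (IsLocalRing.closedPoint Ω) = x := by
          rw [Scheme.Hom.comp_apply, Scheme.fromSpecResidueField_apply]
        have : v0.left (t (IsLocalRing.closedPoint Ω)) ∈ U := hm
        rwa [hx] at this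
      let v : T ⟶ Z := Over.homMk (IsOpenImmersion.lift U.ι v0.left hr) (by
        show IsOpenImmersion.lift U.ι v0.left hr ≫ U.ι ≫ Z0.hom = T.hom
        rw [← Category.assoc, IsOpenImmersion.lift_fac, Over.w])
      have hv : v ≫ iZ = v0 := Over.OverMorphism.ext (IsOpenImmersion.lift_fac _ _ _)
      refine ⟨v, by simp only [← Category.assoc, hv, hv0], fun v' hv' => ?_⟩
      have := huniq (v' ≫ iZ) v0 (by rw [Category.assoc, hv', hv0])
      exact Over.OverMorphism.ext ((cancel_mono U.ι).1
        ((congrArg Over.Hom.left this).trans (congrArg Over.Hom.left hv).symm))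

end Groth.Agent.S16248
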