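import Groth.Statements.S16249
import Mathlib
import Groth.Agent.PicCurve.EllipticSection

set_option autoImplicit false
universe u
open CategoryTheory CategoryTheory.Limits AlgebraicGeometry
open PicF Groth.Abvar.PicCalc

namespace Groth.Agent.S16249

/-- Let f : E → S be a family of elliptic curves: f is proper and smooth of relative dimension one with
geometrically connected fibres whose structure sheaf has Euler characteristic 0 (genus one), and σ
is a section of f. Then for every invertible O_E-module L whose restriction to every fibre of f has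
degree zero (Euler characteristic equal to that of the structure sheaf of the fibre) there is
exactly one section P of f such that L ⊗ I_P ≅ I_σ ⊗ f^*M for some invertible O_S-module M, where
I_P and I_σ are the ideal sheaves of the closed subschemes P(S) and σ(S) of E. In other words P ↦
O(P − σ) is a bijection from E(S) onto the classes of fibrewise-degree-zero invertible modules
modulo modules pulled back from S. (The published statement goes on to say that E is thereby an
S-group scheme, with P + Q = R exactly when O(P) ⊗ O(Q) ⊗ O(−σ) ≅ O(R) ⊗ f^*M for some invertible M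
on the base — its printed formula has O(−R), a misprint — ; that transport of the group structure is
not part of this statement.) -/
theorem result
    {E S : Scheme.{u}} (f : E ⟶ S) [IsProper f] [SmoothOfRelativeDimension 1 f]
    (hc : GeometricallyConnected f)
    (hg : ∀ s : S, @FGA.eulerCharLE (S.residueField s) _ (f.fiber s) (f.fiberOverSpecResidueField s)
      (Coh.structureModule (f.fiber s)) 1 = 0)
    (σ : S ⟶ E) (hσ : σ ≫ f = 𝟙 S)
    (L : E.Modules) (hL : PicF.IsInvertible L)
    (hL0 : ∀ s : S, @FGA.eulerCharLE (S.residueField s) _ (f.fiber s) (f.fiberOverSpecResidueField s)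
      ((Scheme.Modules.pullback (f.fiberι s)).obj L) 1 = 0) :
    ∃! P : S ⟶ E, P ≫ f = 𝟙 S ∧ ∃ M : S.Modules, PicF.IsInvertible M ∧
      Nonempty (CohB1.tensorMod L (ClSub.idealMod P.ker) ≅
        CohB1.tensorMod (ClSub.idealMod σ.ker) ((Scheme.Modules.pullback f).obj M)) := by
  have := hc
  haveI : Smooth f := SmoothOfRelativeDimension.smooth 1 f
  have hdim := Groth.PicCurve.dim_fiber_eq_one f
  have hg1 : ∀ s, CohIII.fiberRank f (Coh.structureModule E) 1 s = 1 := fun s => by
    obtain ⟨-, -, h0⟩ := Groth.Limits.BC0.fiber_curve f hdim s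
    letI : (f.fiber s).Over (Spec (CommRingCat.of (S.residueField s))) := ⟨f.fiberToSpecResidueField s⟩
    obtain ⟨e⟩ := Groth.PicAux.pullback_structure_iso (f.fiberι s)
    refine (Groth.EulerDeg.finrank_congr (k := S.residueField s) e 1).trans ?_
    have h : (∑ i ∈ Finset.range (1 + 1), (-1 : ℤ) ^ i *
        (Module.finrank (S.residueField s) (Coh.HH (f.fiber s) (Coh.structureModule (f.fiber s)) i) : ℤ)) = 0 := hg s
    rw [Finset.sum_range_succ, Finset.sum_range_one, h0] at h
    norm_num at h
    omega
  obtain ⟨-, hσI⟩ := Groth.Limits.BC0.CurveSection.isEffCartier_ker f hdim σ hσ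
  let c := cls hL * Groth.PicCurve.divCls hσI
  have hdeg : ∀ s, Groth.PicCurve.degC f (cls hL) s = 0 := fun s => by
    obtain ⟨-, hp, h0⟩ := Groth.Limits.BC0.fiber_curve f hdim s
    letI : (f.fiber s).Over (Spec (CommRingCat.of (S.residueField s))) := ⟨f.fiberToSpecResidueField s⟩
    have := Groth.EulerDeg.isNoetherian_of_proper (S.residueField s) (X := f.fiber s)
    have eu : ∀ (N : (f.fiber s).Modules), N.IsQuasicoherent →
        Curv2.euler (S.residueField s) (f.fiber s) N =
          (Module.finrank (S.residueField s) (Coh.HH (f.fiber s) N 0) : ℤ) -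
            Module.finrank (S.residueField s) (Coh.HH (f.fiber s) N 1) := fun N hN =>
      Groth.EulerDeg.euler_eq_sub fun n hn =>
        Groth.EulerDeg.subsingleton_HH_of_dim_le_one _ (hdim s).le N n hn
    have hq1 := (Groth.PicAux.isInvertible_pullback (f.fiberι s) hL)
    rw [Groth.PicCurve.degC_cls, Groth.PicCurve.fibEuler_structure, Groth.PicCurve.fibEuler_eq,
      eu _ (Groth.PicCurve.model_hyps (π := 𝟙 (f.fiber s)) hq1).1,
      eu _ (Groth.PicCurve.model_hyps (π := 𝟙 (f.fiber s)) (PicLoc.isInvertible_structureModule _)).1, sub_eq_zero]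
    have h1 := hL0 s
    have h2 := hg s
    simp only [FGA.eulerCharLE, Finset.sum_range_succ, Finset.sum_range_zero, pow_zero, pow_one,
      one_mul, neg_one_mul, zero_add] at h1 h2
    omega
  have hc1 : ∀ s, Groth.PicCurve.degC f c s = 1 := fun s => by
    rw [Groth.PicCurve.degC_mul f hdim, hdeg s, Groth.PicCurve.degC_divCls_section f hdim hσ hσI, zero_add]
  have iff : ∀ (P : S ⟶ E) (hI : BlowUp.IsEffCartierIdeal P.ker) (M : S.Modules) (hM : PicF.IsInvertible M),
      Nonempty (CohB1.tensorMod L (ClSub.idealMod P.ker) ≅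
        CohB1.tensorMod (ClSub.idealMod σ.ker) ((Scheme.Modules.pullback f).obj M)) ↔
      c = Groth.PicCurve.divCls hI * pull f (cls hM) := fun P hI M hM => by
    have hP := Groth.PicAux.isInvertible_idealMod hI
    have hS := Groth.PicAux.isInvertible_idealMod hσI
    rw [nonempty_iso_iff (Groth.PicAux.isInvertible_tensorMod hL hP)
      (Groth.PicAux.isInvertible_tensorMod hS (Groth.PicAux.isInvertible_pullback f hM)),
      cls_tensorMod hL hP, cls_tensorMod hS (Groth.PicAux.isInvertible_pullback f hM), pull_cls]
    show _ ↔ cls hL * (cls hS)⁻¹ = (cls hP)⁻¹ * _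
    constructor <;> intro h
    · rw [eq_inv_mul_iff_mul_eq, ← mul_assoc, mul_comm (cls hP), h, mul_comm (cls hS), mul_inv_cancel_right]
    · rw [mul_inv_eq_iff_eq_mul] at h
      rw [h, mul_comm _ (cls hS), mul_comm (cls hP)⁻¹, mul_assoc, mul_assoc, inv_mul_cancel, mul_one]
  obtain ⟨P, hPf, hPI, m, hm⟩ := Groth.PicCurve.exists_section_mul_base hdim hg1 hσ c hc1
  obtain ⟨M, hM, rfl⟩ := PicGrp.exists_eq_cls m
  refine ⟨P, ⟨hPf, M, hM, (iff P hPI M hM).2 hm⟩, ?_⟩
  rintro Q ⟨hQf, N, hN, hiso⟩
  obtain ⟨-, hQI⟩ := Groth.Limits.BC0.CurveSection.isEffCartier_ker f hdim Q hQf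
  have h := ((iff Q hQI N hN).1 hiso).symm.trans hm
  refine Groth.PicCurve.section_eq_of_mul_base hdim (fun s => (hg1 s).ge) hQf hPf hQI hPI
    (cls hM * (cls hN)⁻¹) ?_
  rw [map_mul, map_inv, ← mul_assoc, ← h, mul_inv_cancel_right]

end Groth.Agent.S16249
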