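import Groth.Statements.S16251
import Groth.Agent.EtaleDeep.Cons.AbNoetherian

set_option autoImplicit false
open CategoryTheory CategoryTheory.Limits AlgebraicGeometry Opposite
universe u
open EtPBC

namespace Groth.Agent.S16251

/-- Let ℓ be a prime, X a locally Noetherian scheme and F = (F_n) an ℓ-adic projective system of abelian
sheaves on the small étale site of X, indexed from 0 (so ℓ^(n+1) F_n = 0 and, for n ≤ m, the
transition map F_m ⟶ F_n is a quotient map modulo ℓ^(n+1)). If the first member F_0 is
constructible, then every member F_n is constructible. (The converse is trivial. The published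
statement indexes the system from 1, with ℓ^n killing the n-th member; the statement here indexes it
from 0.) -/
theorem result (ℓ : ℕ) [Fact ℓ.Prime]
    (X : Scheme.{u}) [IsLocallyNoetherian X]
    (F : ARSys.PS (EtCoh.Ab X)) (hF : ARSys.IsAdic (Ideal.span {(ℓ : ℤ)}) F)
    (h0 : EtPBC.IsConstructible (F.obj (op 0))) (n : ℕ) :
    EtPBC.IsConstructible (F.obj (op n)) := by
  induction n with
  | zero => exact h0
  | succ n ih =>
    let J : Ideal ℤ := Ideal.span {(ℓ : ℤ)}
    let p := ARSys.tr F (Nat.le_succ n)
    let q := ARSys.tr F (Nat.zero_le (n + 1))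
    have hq := hF.2 0 (n + 1) (Nat.zero_le _)
    have hp := hF.2 n (n + 1) (Nat.le_succ n)
    haveI : Epi q := ⟨fun a b h => by
      have hk : ARSys.HomKilledBy (J ^ (0 + 1)) (q ≫ a) := fun r hr => by
        rw [← Linear.smul_comp, show r • q = q ≫ (r • 𝟙 _) by rw [Linear.comp_smul, Category.comp_id],
          hq.1 r hr, comp_zero, zero_comp]
      exact (hq.2 _ _ hk).unique rfl h.symm⟩
    haveI : Epi p := ⟨fun a b h => by
      have hk : ARSys.HomKilledBy (J ^ (n + 1)) (p ≫ a) := fun r hr => by
        rw [← Linear.smul_comp, show r • p = p ≫ (r • 𝟙 _) by rw [Linear.comp_smul, Category.comp_id],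
          hp.1 r hr, comp_zero, zero_comp]
      exact (hp.2 _ _ hk).unique rfl h.symm⟩
    let c : ℤ := (ℓ : ℤ) ^ (n + 1)
    let μ : F.obj (op (n + 1)) ⟶ F.obj (op (n + 1)) := c • 𝟙 _
    have hc : c ∈ J ^ (n + 1) := Ideal.pow_mem_pow (Ideal.mem_span_singleton_self _) _
    obtain ⟨ν, hν, -⟩ := hq.2 _ μ fun r hr => by
      rw [show r • μ = (r * c) • 𝟙 (F.obj (op (n + 1))) from smul_smul r c _]
      refine hF.1 (n + 1) _ ?_
      rw [pow_succ']
      exact Ideal.mul_mem_mul (by simpa using hr) hc
    have w : ν ≫ p = 0 := by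
      rw [← cancel_epi q, ← Category.assoc, hν, comp_zero,
        show μ ≫ p = c • p by simp [μ],
        show c • p = p ≫ (c • 𝟙 _) by rw [Linear.comp_smul, Category.comp_id], hp.1 c hc, comp_zero]
    obtain ⟨ψ, hψ, -⟩ := hp.2 _ (cokernel.π ν) fun r hr => by
      obtain ⟨d, rfl⟩ : c ∣ r := by
        rw [Ideal.span_singleton_pow, Ideal.mem_span_singleton] at hr
        exact hr
      rw [mul_comm, mul_smul, show c • cokernel.π ν = μ ≫ cokernel.π ν by simp [μ], ← hν, Category.assoc,
        cokernel.condition, comp_zero, smul_zero]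
    let S := ShortComplex.mk ν p w
    have hS : S.Exact := by
      rw [S.exact_iff_kernel_ι_comp_cokernel_π_zero]
      change kernel.ι p ≫ cokernel.π ν = 0
      rw [← hψ, reassoc_of% kernel.condition, zero_comp]
    let S' := ShortComplex.mk (Abelian.image.ι ν) p (by
      rw [← cancel_epi (Abelian.factorThruImage ν), ← Category.assoc, Abelian.image.fac, w, comp_zero])
    have hS' : S'.ShortExact := by
      refine { exact := ?_ }
      let φ : S ⟶ S' := ShortComplex.homMk (Abelian.factorThruImage ν) (𝟙 _) (𝟙 _) (by simp [S, S']) (by simp [S, S'])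
      haveI : Epi φ.τ₁ := inferInstanceAs (Epi (Abelian.factorThruImage ν))
      haveI : IsIso φ.τ₂ := inferInstanceAs (IsIso (𝟙 _))
      haveI : Mono φ.τ₃ := inferInstanceAs (Mono (𝟙 _))
      exact (ShortComplex.exact_iff_of_epi_of_isIso_of_mono φ).1 hS
    refine Groth.EtaleDeep.Cons.isConstructible_extension hS' ?_ ih
    refine Groth.EtaleDeep.Cons.isConstructible_of_openCover _ (fun U : {U : X.Opens // IsAffineOpen U} => U.1)
      (iSup_affineOpens_eq_top X) fun U => ?_
    haveI : IsAffine U.1.toScheme := U.2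
    haveI : AlgebraicGeometry.IsNoetherian U.1.toScheme := {}
    haveI := (EtCoh.pullPushAdj U.1.ι).isLeftAdjoint
    haveI := (EtCoh.pullPushAdj U.1.ι).leftAdjoint_preservesColimits.{0, 0}
    haveI : Epi ((EtCoh.pull U.1.ι).map (Abelian.factorThruImage ν)) := inferInstance
    exact Groth.EtaleDeep.Cons.isConstructible_of_epi ((EtCoh.pull U.1.ι).map (Abelian.factorThruImage ν))
      (Groth.EtaleDeep.Cons.isConstructible_pull U.1.ι h0)

end Groth.Agent.S16251
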