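import Groth.Statements.S16254
import Mathlib.LinearAlgebra.Matrix.SchurComplement
import Mathlib.RingTheory.Ideal.Quotient.Operations
import Mathlib.LinearAlgebra.FreeModule.Basic
import Mathlib.Tactic

set_option autoImplicit false
universe u
open scoped BigOperators
open LefPen

namespace Groth.Agent.S16254

/-- Let A be a commutative ring and m_1, …, m_s ∈ A^(N+1) linearly independent vectors whose span M has
projective (that is, locally free) quotient A^(N+1)/M. Write a_0, …, a_N for the coordinate
functions, so that restricting linear forms to M and expressing them in the basis dual to the m_i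
gives the A-algebra map A[a_0, …, a_N] ⟶ A[y_1, …, y_s], a_j ↦ Σ_i (m_i)_j y_i (the map
Sym((A^(N+1))^∨) ⟶ Sym(M^∨)). Its kernel is the ideal generated by the (s+1) × (s+1) minors of the
(s+1) × (N+1) matrix whose first s rows are the coordinate rows of m_1, …, m_s and whose last row is
(a_0, …, a_N). The minors are indexed here by all maps c from Fin (s+1) to Fin (N+1) choosing the
columns (non-injective choices give zero). -/
theorem result
    (A : Type u) [CommRing A] (N s : ℕ) (m : Fin s → (Fin (N + 1) → A))
    (hli : LinearIndependent A m)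
    (hproj : Module.Projective A ((Fin (N + 1) → A) ⧸ Submodule.span A (Set.range m))) :
    RingHom.ker (MvPolynomial.aeval (R := A) (S₁ := MvPolynomial (Fin s) A)
        (fun j : Fin (N + 1) => ∑ i : Fin s, MvPolynomial.C (m i j) * MvPolynomial.X i)) =
      Ideal.span (Set.range fun c : Fin (s + 1) → Fin (N + 1) =>
        (Matrix.of fun (i : Fin (s + 1)) (j : Fin (s + 1)) =>
          (Fin.snoc (α := fun _ => MvPolynomial (Fin (N + 1)) A)
            (fun i' : Fin s => MvPolynomial.C (m i' (c j))) (MvPolynomial.X (c j)) i)).det) := by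
  classical
  set S : Submodule A (Fin (N + 1) → A) := Submodule.span A (Set.range m)
  obtain ⟨sec, hsec⟩ := Module.projective_lifting_property S.mkQ LinearMap.id S.mkQ_surjective
  let L : (Fin s → A) →ₗ[A] (Fin (N + 1) → A) := Fintype.linearCombination A m
  have hLinj : Function.Injective L := linearIndependent_iff_injective_fintypeLinearCombination.mp hli
  have hrange : ∀ v : Fin (N + 1) → A, v - sec (S.mkQ v) ∈ LinearMap.range L := fun v => by
    rw [Fintype.range_linearCombination, ← Submodule.Quotient.eq]
    exact (LinearMap.congr_fun hsec (S.mkQ v)).symm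
  let P : (Fin (N + 1) → A) →ₗ[A] LinearMap.range L :=
    LinearMap.codRestrict _ (LinearMap.id - sec ∘ₗ S.mkQ) hrange
  let π : (Fin (N + 1) → A) →ₗ[A] (Fin s → A) := (LinearEquiv.ofInjective L hLinj).symm.toLinearMap ∘ₗ P
  have hπ : ∀ w, π (L w) = w := fun w => by
    apply (LinearEquiv.ofInjective L hLinj).injective
    simp only [π, LinearMap.coe_comp, LinearEquiv.coe_coe, Function.comp_apply, LinearEquiv.apply_symm_apply]
    apply Subtype.ext
    have hz : S.mkQ (L w) = 0 := (Submodule.Quotient.mk_eq_zero _).mpr (by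
      show L w ∈ Submodule.span A (Set.range m)
      rw [← Fintype.range_linearCombination]
      exact LinearMap.mem_range_self _ _)
    simp [P, hz]
  let r : Fin s → Fin (N + 1) → A := fun k j => π (Pi.single j 1) k
  have hr : ∀ k i, ∑ j, r k j * m i j = if k = i then 1 else 0 := fun k i => by
    have h1 : L (Pi.single i 1) = m i := by simp [L]
    have h2 := congrFun (congrArg π h1) k
    rw [hπ, pi_eq_sum_univ (m i), map_sum, Finset.sum_apply] at h2
    rw [Pi.single_apply] at h2
    rw [h2]
    refine Finset.sum_congr rfl fun j _ => ?_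
    rw [LinearMap.map_smul, Pi.smul_apply, smul_eq_mul, mul_comm]
    simp only [r]
    rw [show (Pi.single j 1 : Fin (N + 1) → A) = fun l => if j = l then 1 else 0 from
      funext fun l => by simp [Pi.single_apply, eq_comm]]
  set Φ := MvPolynomial.aeval (R := A) (S₁ := MvPolynomial (Fin s) A)
      (fun j : Fin (N + 1) => ∑ i : Fin s, MvPolynomial.C (m i j) * MvPolynomial.X i) with hΦ
  set Min : (Fin (s + 1) → Fin (N + 1)) → MvPolynomial (Fin (N + 1)) A := fun c =>
    (Matrix.of fun (i : Fin (s + 1)) (j : Fin (s + 1)) =>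
          (Fin.snoc (α := fun _ => MvPolynomial (Fin (N + 1)) A)
            (fun i' : Fin s => MvPolynomial.C (m i' (c j))) (MvPolynomial.X (c j)) i)).det with hMin
  set J := Ideal.span (Set.range Min)
  let σ : MvPolynomial (Fin s) A →ₐ[A] MvPolynomial (Fin (N + 1)) A :=
    MvPolynomial.aeval fun k => ∑ l, MvPolynomial.C (r k l) * MvPolynomial.X l
  have hgen : ∀ j, (MvPolynomial.X j : MvPolynomial (Fin (N + 1)) A) - σ (Φ (MvPolynomial.X j)) ∈ J := by
    intro j
    let R' : Fin (N + 1) → Fin (s + 1) → MvPolynomial (Fin (N + 1)) A := fun l =>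
      Fin.snoc (fun k => MvPolynomial.C (r k l)) (if l = j then 1 else 0)
    let M' : Fin (N + 1) → Fin (s + 1) → MvPolynomial (Fin (N + 1)) A := fun l =>
      Fin.snoc (fun i => MvPolynomial.C (m i l)) (MvPolynomial.X l)
    let D : Matrix (Fin (s + 1)) (Fin (s + 1)) (MvPolynomial (Fin (N + 1)) A) :=
      fun t i => ∑ l, R' l t * M' l i
    have hD : D.det ∈ J := by
      have h := Matrix.detRowAlternating.toMultilinearMap.map_sum
        (g := fun (t : Fin (s + 1)) (l : Fin (N + 1)) => R' l t • M' l)
      have e : D = fun t => ∑ l, R' l t • M' l := by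
        funext t i
        simp [D, Finset.sum_apply]
      have hdet : D.det = ∑ c : Fin (s + 1) → Fin (N + 1),
          (∏ t, R' (c t) t) * (Matrix.of fun t => M' (c t)).det := by
        rw [show D.det = Matrix.detRowAlternating D from rfl, e]
        exact h.trans (Finset.sum_congr rfl fun c _ => MultilinearMap.map_smul_univ _ _ _)
      rw [hdet]
      refine Ideal.sum_mem _ fun c _ => Ideal.mul_mem_left _ _ ?_
      rw [← Matrix.det_transpose]
      exact Ideal.subset_span ⟨c, rfl⟩
    convert hD using 1
    let B : Matrix (Fin s) (Fin 1) (MvPolynomial (Fin (N + 1)) A) :=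
      fun k _ => ∑ l, MvPolynomial.C (r k l) * MvPolynomial.X l
    let C' : Matrix (Fin 1) (Fin s) (MvPolynomial (Fin (N + 1)) A) := fun _ i => MvPolynomial.C (m i j)
    let D' : Matrix (Fin 1) (Fin 1) (MvPolynomial (Fin (N + 1)) A) := fun _ _ => MvPolynomial.X j
    have e : D.submatrix finSumFinEquiv finSumFinEquiv = Matrix.fromBlocks 1 B C' D' := by
      have hl : ∀ a : Fin s, (finSumFinEquiv (Sum.inl a) : Fin (s + 1)) = Fin.castSucc a := fun a => by
        ext; simp
      have hr' : ∀ a : Fin 1, (finSumFinEquiv (Sum.inr a) : Fin (s + 1)) = Fin.last s := fun a => by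
        ext; simp
      refine Matrix.ext fun a b => ?_
      rcases a with a | a <;> rcases b with b | b <;>
        simp only [Matrix.submatrix_apply, D, R', M', hl, hr', Fin.snoc_castSucc, Fin.snoc_last,
          Matrix.fromBlocks_apply₁₁, Matrix.fromBlocks_apply₁₂, Matrix.fromBlocks_apply₂₁, Matrix.fromBlocks_apply₂₂]
      · simp only [← map_mul, ← map_sum, hr, Matrix.one_apply]
        split_ifs <;> simp
      · rfl
      · simp [C', ite_mul]
      · simp [D', ite_mul]
    have hdet2 : D.det = (D' - C' * B).det := by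
      rw [← Matrix.det_submatrix_equiv_self finSumFinEquiv D, e, Matrix.det_fromBlocks_one₁₁]
    rw [hdet2, Matrix.det_fin_one]
    simp [Matrix.mul_apply, D', C', B, Φ, σ]
  apply le_antisymm
  · intro p hp
    rw [RingHom.mem_ker] at hp
    have key : (Ideal.Quotient.mkₐ A J).comp (σ.comp Φ) = Ideal.Quotient.mkₐ A J :=
      MvPolynomial.algHom_ext fun j => (Ideal.Quotient.eq.mpr (hgen j)).symm
    have := AlgHom.congr_fun key p
    simp only [AlgHom.coe_comp, Function.comp_apply, hp, map_zero, Ideal.Quotient.mkₐ_eq_mk] at this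
    exact Ideal.Quotient.eq_zero_iff_mem.mp this.symm
  · rw [Ideal.span_le]
    rintro _ ⟨c, rfl⟩
    rw [SetLike.mem_coe, RingHom.mem_ker]
    rw [AlgHom.map_det]
    set Q := Φ.mapMatrix (Matrix.of fun (i : Fin (s + 1)) (j : Fin (s + 1)) =>
          (Fin.snoc (α := fun _ => MvPolynomial (Fin (N + 1)) A)
            (fun i' : Fin s => MvPolynomial.C (m i' (c j))) (MvPolynomial.X (c j)) i))
    have hrow : Q (Fin.last s) = ∑ i : Fin (s + 1), (Fin.snoc (α := fun _ => MvPolynomial (Fin s) A)
        (fun i' : Fin s => MvPolynomial.X i') 0 i) • Q i := by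
      funext j
      simp [Q, Φ, Finset.sum_apply, Fin.sum_univ_castSucc, mul_comm]
    have h0 := Matrix.det_updateRow_sum Q (Fin.last s) (Fin.snoc (α := fun _ => MvPolynomial (Fin s) A)
        (fun i' : Fin s => MvPolynomial.X i') 0)
    rw [← hrow, Matrix.updateRow_eq_self] at h0
    simpa using h0

end Groth.Agent.S16254
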