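import Groth.Statements.S16255
import Groth.Agent.SGA7.HypersurfaceCompletion

set_option autoImplicit false
universe u
open VanCyc Groth.SGA7.Hypersurface

namespace Groth.Agent.S16255
theorem nakayama {A : Type u} [CommRing A] [IsNoetherianRing A] [IsLocalRing A] {J : Ideal A}
    (h : IsLocalRing.maximalIdeal A ≤ J ⊔ IsLocalRing.maximalIdeal A * IsLocalRing.maximalIdeal A) :
    IsLocalRing.maximalIdeal A ≤ J :=
  Submodule.le_of_le_smul_of_le_jacobson_bot (IsNoetherian.noetherian _) (IsLocalRing.maximalIdeal_le_jacobson _) h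



/-- (b) ⇔ (c): let k be an algebraically closed field, m ≥ 0, f ∈ k[x_0, …, x_m], B = k[x_0, …, x_m]/(f)
and P a maximal ideal of B (a closed point y of the hypersurface Y = V(f)) containing the classes of
all partial derivatives ∂f/∂x_j, so that y lies in the m-th Jacobian locus of Y (cut out in Y by the
m-th Fitting ideal of Ω_{Y/k}, which is generated by these classes). Then the following are
equivalent: (b) the classes of the ∂f/∂x_j generate the maximal ideal of the local ring B_P, i.e.
near y the Jacobian locus is the reduced point y; (c) y is a non-degenerate quadratic singularity of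
Y of dimension m: the completion of B_P is k-isomorphic to k[[x_0, …, x_m]]/(g) for a power series g
without constant or linear terms whose quadratic part has unit polar discriminant. (The published
statement is for Y a local complete intersection of virtual dimension m over k and a point of the
m-th but not the (m+1)-st Jacobian locus; the statement here is its affine hypersurface case, to
which its proof reduces by an étale chart. A third equivalent condition there, on the differentials
of the Jacobian scheme at y, is not stated here.) -/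
theorem result
    (k : Type u) [Field k] [IsAlgClosed k] (m : ℕ) (f : MvPolynomial (Fin (m + 1)) k)
    (P : Ideal (MvPolynomial (Fin (m + 1)) k ⧸ Ideal.span {f})) [P.IsMaximal]
    (hP : ∀ j : Fin (m + 1), Ideal.Quotient.mk (Ideal.span {f}) (MvPolynomial.pderiv j f) ∈ P) :
    Ideal.map (algebraMap (MvPolynomial (Fin (m + 1)) k ⧸ Ideal.span {f}) (Localization.AtPrime P))
        (Ideal.span (Set.range fun j : Fin (m + 1) =>
          Ideal.Quotient.mk (Ideal.span {f}) (MvPolynomial.pderiv j f))) =
      IsLocalRing.maximalIdeal (Localization.AtPrime P) ↔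
    VanCyc.IsNondegQuadSing k (Localization.AtPrime P) m := by
  classical
  set mk := Ideal.Quotient.mk (Ideal.span {f}) with hmk
  set P' := P.comap mk with hP'
  haveI : P'.IsMaximal := Ideal.comap_isMaximal_of_surjective mk Ideal.Quotient.mk_surjective
  obtain ⟨c, hc⟩ := (MvPolynomial.isMaximal_iff_eq_vanishingIdeal_singleton (I := P')).mp inferInstance
  have hmem : ∀ p : (MvPolynomial (Fin (m + 1)) k), mk p ∈ P ↔ MvPolynomial.eval c p = 0 := fun p => by
    rw [← Ideal.mem_comap, ← hP', hc, MvPolynomial.mem_vanishingIdeal_singleton_iff, MvPolynomial.aeval_eq_eval]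
  set g := shift c f with hg
  have h0 : MvPolynomial.constantCoeff g = 0 := by
    rw [hg, constantCoeff_shift]
    exact (hmem f).mp (by rw [show mk f = 0 from Ideal.Quotient.eq_zero_iff_mem.mpr (Ideal.subset_span rfl)]; exact zero_mem _)
  have h1 : ∀ j, lin g j = 0 := fun j => by
    rw [lin, hg, pderiv_shift, constantCoeff_shift]; exact (hmem _).mp (hP j)
  let π : ∀ n, ((MvPolynomial (Fin (m + 1)) k) ⧸ Ideal.span {f}) →ₐ[k] ((MvPolynomial (Fin (m + 1)) k) ⧸ jetIdeal g n) := fun n =>
    Ideal.Quotient.liftₐ _ ((Ideal.Quotient.mkₐ k (jetIdeal g n)).comp (shift c)) (fun a ha => by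
      obtain ⟨b, rfl⟩ := Ideal.mem_span_singleton'.mp ha
      rw [AlgHom.comp_apply, map_mul]
      exact Ideal.Quotient.eq_zero_iff_mem.mpr (Ideal.mem_sup_left (Ideal.mem_span_singleton'.mpr ⟨_, rfl⟩)))
  have hπmk : ∀ n p, π n (mk p) = Ideal.Quotient.mk (jetIdeal g n) (shift c p) := fun _ _ => rfl
  have hπ : ∀ n, Function.Surjective (π n) := fun n y => by
    obtain ⟨p, rfl⟩ := Ideal.Quotient.mk_surjective y
    exact ⟨mk (shift (-c) p), by rw [hπmk, shift_shift_neg]⟩
  set m₀ := MvPolynomial.idealOfVars (Fin (m + 1)) k with hm₀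
  have hPmap : P = m₀.map (mk.comp (shift (-c)).toRingHom) := by
    rw [← Ideal.map_map]
    have e : m₀.map (shift (-c)).toRingHom = P' := by
      refine le_antisymm ?_ fun p hp => ?_
      · rw [hm₀, MvPolynomial.idealOfVars, Ideal.map_span, Ideal.span_le]
        rintro _ ⟨_, ⟨i, rfl⟩, rfl⟩
        refine (hmem _).mpr ?_
        simp [shift]
      · rw [← shift_neg_shift c p]
        refine Ideal.mem_map_of_mem (shift (-c)).toRingHom ?_
        rw [← pow_one m₀, hm₀, MvPolynomial.mem_pow_idealOfVars_iff']
        intro d hd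
        obtain rfl : d = 0 := by rw [← Finsupp.degree_eq_zero_iff]; omega
        exact (constantCoeff_shift c p).trans ((hmem p).mp hp)
    rw [e, hP', Ideal.map_comap_of_surjective _ Ideal.Quotient.mk_surjective]
  have hker : ∀ n, RingHom.ker (π n) = P ^ n := by
    intro n
    rw [hPmap, ← Ideal.map_pow]
    refine le_antisymm (fun x hx => ?_) ?_
    · obtain ⟨p, rfl⟩ := Ideal.Quotient.mk_surjective x
      rw [RingHom.mem_ker, hπmk, Ideal.Quotient.eq_zero_iff_mem] at hx
      obtain ⟨a, w, hw, e⟩ := jetIdeal_mem g hx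
      have e' : mk p = mk (shift (-c) w) := by
        rw [← shift_neg_shift c p, e, map_add, map_mul, hg, shift_neg_shift, map_add, map_mul,
          show mk f = 0 from Ideal.Quotient.eq_zero_iff_mem.mpr (Ideal.subset_span rfl), mul_zero, zero_add]
      rw [e']
      exact Ideal.mem_map_of_mem _ hw
    · rw [Ideal.map_le_iff_le_comap]
      intro w hw
      rw [Ideal.mem_comap, RingHom.mem_ker, RingHom.comp_apply]
      show π n (mk (shift (-c) w)) = 0
      rw [hπmk, shift_shift_neg, Ideal.Quotient.eq_zero_iff_mem]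
      exact Ideal.mem_sup_right hw
  have hcompat : ∀ {a b : ℕ} (h : a ≤ b) (x : (MvPolynomial (Fin (m + 1)) k) ⧸ Ideal.span {f}),
      Ideal.Quotient.factor (jetIdeal_le g h) (π b x) = π a x := fun {a b} h x => by
    obtain ⟨p, rfl⟩ := Ideal.Quotient.mk_surjective x
    rfl
  set O := Localization.AtPrime P
  set al := algebraMap ((MvPolynomial (Fin (m + 1)) k) ⧸ Ideal.span {f}) O
  set J := Ideal.span (Set.range fun j : Fin (m + 1) => mk (MvPolynomial.pderiv j f)) with hJ
  have hmax : IsLocalRing.maximalIdeal O = P.map al := (IsLocalization.AtPrime.map_eq_maximalIdeal P O).symm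
  have hX : ∀ i, mk (shift (-c) (MvPolynomial.X i)) ∈ P := fun i => by
    rw [hPmap]
    exact Ideal.mem_map_of_mem (mk.comp (shift (-c)).toRingHom) (Ideal.subset_span ⟨i, rfl⟩)
  have hd2 : ∀ j, π 2 (mk (MvPolynomial.pderiv j f)) = Ideal.Quotient.mk _ (MvPolynomial.pderiv j g) := fun j => by
    rw [hπmk, hg, pderiv_shift]
  have hdg : ∀ j, MvPolynomial.constantCoeff (MvPolynomial.pderiv j g) = 0 := h1
  have hlin : ∀ i j, lin (MvPolynomial.X i : (MvPolynomial (Fin (m + 1)) k)) j = (1 : Matrix (Fin (m + 1)) (Fin (m + 1)) k) i j := fun i j => by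
    rw [lin, MvPolynomial.pderiv_X, Matrix.one_apply, Pi.single_apply]
    by_cases h : i = j
    · simp [h]
    · simp [h, Ne.symm h]
  have hLinSum : ∀ (a : Fin (m + 1) → (MvPolynomial (Fin (m + 1)) k)) (l : Fin (m + 1)), lin (∑ j, a j * MvPolynomial.pderiv j g) l =
      ∑ j, MvPolynomial.constantCoeff (a j) * hess g l j := fun a l => by
    simp only [lin, map_sum]
    refine Finset.sum_congr rfl fun j _ => ?_
    rw [MvPolynomial.pderiv_mul, map_add, map_mul, map_mul, hdg, mul_zero, zero_add]
    rfl
  constructor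
  · intro hb
    have hdet : IsUnit (hess g).det := by
      let χ : O →+* (MvPolynomial (Fin (m + 1)) k) ⧸ jetIdeal g 2 := (jetEquiv π hπ hker 2).toRingEquiv.toRingHom.comp (Ideal.Quotient.mk _)
      have hχ : ∀ b, χ (al b) = π 2 b := fun b => jetEquiv_mk π hπ hker 2 b
      have hex : ∀ i, ∃ a : Fin (m + 1) → (MvPolynomial (Fin (m + 1)) k),
          (MvPolynomial.X i : (MvPolynomial (Fin (m + 1)) k)) - ∑ j, a j * MvPolynomial.pderiv j g ∈ jetIdeal g 2 := by
        intro i
        have hx : al (mk (shift (-c) (MvPolynomial.X i))) ∈ J.map al := by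
          rw [hb, hmax]; exact Ideal.mem_map_of_mem _ (hX i)
        have h2 := Ideal.mem_map_of_mem χ hx
        rw [hχ, hπmk, shift_shift_neg, Ideal.map_map, hJ, Ideal.map_span, ← Set.range_comp] at h2
        obtain ⟨a', ha'⟩ := Ideal.mem_span_range_iff_exists_fun.mp h2
        choose a ha using fun j => Ideal.Quotient.mk_surjective (a' j)
        refine ⟨a, ?_⟩
        rw [← Ideal.Quotient.eq, ← ha', map_sum]
        refine Finset.sum_congr rfl fun j _ => ?_
        simp only [Function.comp_apply, RingHom.comp_apply, map_mul, ha, hχ, hd2]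
      choose a ha using hex
      refine IsUnit.of_mul_eq_one_right ((Matrix.of fun i j => MvPolynomial.constantCoeff (a i j)).det) ?_
      rw [← Matrix.det_transpose (hess g), ← Matrix.det_mul, show
        (Matrix.of fun i j => MvPolynomial.constantCoeff (a i j)) * (hess g).transpose = 1 from ?_, Matrix.det_one]
      refine Matrix.ext fun i l => ?_
      have h3 := lin_eq_zero_of_mem h0 h1 le_rfl (ha i) l
      have h4 : lin ((MvPolynomial.X i : (MvPolynomial (Fin (m + 1)) k)) - ∑ j, a i j * MvPolynomial.pderiv j g) l =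
          lin (MvPolynomial.X i) l - lin (∑ j, a i j * MvPolynomial.pderiv j g) l := by simp only [lin, map_sub]
      rw [h4, hlin, hLinSum, sub_eq_zero] at h3
      rw [h3]
      simp [Matrix.mul_apply]
    exact ⟨(g : MvPowerSeries (Fin (m + 1)) k),
      ⟨⟨by rw [← MvPowerSeries.coeff_zero_eq_constantCoeff_apply, MvPolynomial.coeff_coe]; exact h0,
        fun i => by rw [MvPolynomial.coeff_coe, ← lin_eq]; exact h1 i⟩,
        by rw [VanCyc.QuadNondeg, ← hess_eq_polar]; exact hdet⟩,
      nonempty_completion_equiv π hπ hker (fun h x => hcompat h x)⟩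
  · rintro ⟨h, hh, ⟨e⟩⟩
    set Mx := IsLocalRing.maximalIdeal O
    obtain ⟨Φ, hΦ, hΦ0⟩ := exists_jet_hom π hπ hker 3 (e.symm.toAlgHom.comp (Ideal.Quotient.mkₐ k (Ideal.span {h})))
      (e.symm.surjective.comp Ideal.Quotient.mk_surjective)
    have hΦh : Φ h = 0 := hΦ0 h (by
      rw [AlgHom.comp_apply, Ideal.Quotient.mkₐ_eq_mk,
        show Ideal.Quotient.mk (Ideal.span {h}) h = 0 from Ideal.Quotient.eq_zero_iff_mem.mpr (Ideal.subset_span rfl),
        map_zero])
    have hdet := isUnit_det_hess h0 h1 h hh Φ hΦ hΦh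
    have hle : J ≤ P := by rw [hJ, Ideal.span_le]; rintro _ ⟨j, rfl⟩; exact hP j
    have hA := Matrix.nonsing_inv_mul (hess g).transpose (by rwa [Matrix.det_transpose])
    set A := ((hess g).transpose)⁻¹
    have hgen : P ≤ J ⊔ P ^ 2 := by
      refine hPmap.le.trans ?_
      rw [hm₀, MvPolynomial.idealOfVars, Ideal.map_span, Ideal.span_le]
      rintro _ ⟨_, ⟨i, rfl⟩, rfl⟩
      show mk (shift (-c) (MvPolynomial.X i)) ∈ J ⊔ P ^ 2
      let S := ∑ j, mk (MvPolynomial.C (A i j)) * mk (MvPolynomial.pderiv j f)
      have hS : S ∈ J := Ideal.sum_mem _ fun j _ => Ideal.mul_mem_left _ _ (Ideal.subset_span ⟨j, rfl⟩)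
      have h2 : mk (shift (-c) (MvPolynomial.X i)) - S ∈ P ^ 2 := by
        rw [← hker 2, RingHom.mem_ker, map_sub, map_sum, sub_eq_zero, hπmk, shift_shift_neg]
        simp only [map_mul, hd2, hπmk]
        simp only [← map_mul, ← map_sum, Ideal.Quotient.eq]
        refine Ideal.mem_sup_right (sub_mem_sq ?_ fun l => ?_)
        · simp [hdg]
        · rw [hlin, hLinSum, ← hA, Matrix.mul_apply]
          simp [shift]
      rw [← sub_add_cancel (mk (shift (-c) (MvPolynomial.X i))) S]
      exact Ideal.add_mem _ (Ideal.mem_sup_right h2) (Ideal.mem_sup_left hS)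
    refine le_antisymm (hmax ▸ Ideal.map_mono hle) ?_
    have h3 : Mx ≤ J.map al ⊔ Mx * Mx := by
      refine le_trans (hmax ▸ Ideal.map_mono hgen) ?_
      rw [Ideal.map_sup, Ideal.map_pow, ← hmax, pow_two]
    exact nakayama (A := Localization.AtPrime P) h3

end Groth.Agent.S16255
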