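import Groth.Statements.S16259
import Mathlib

set_option autoImplicit false
open W4c3wronskmg

namespace Groth.Agent.S16259

open Polynomial in
/-- Over a field of characteristic zero, for positive integers `i, j` and a natural number `n`, the
polynomial `h(W) = ∑_{l=0}^{n} (i choose l) (j choose (n-l)) W^(n-l)`, the coefficient of
`X^(i+j-n)` in `(X+1)^i (X+W)^j`, has no multiple root other than possibly `0` and `1`: every `c ≠
0, 1` has root multiplicity at most one. -/
theorem result
    (k : Type*) [Field k] [CharZero k] (i j n : ℕ) (hi : 0 < i) (hj : 0 < j) (c : k) (hc0 : c ≠ 0) (hc1 : c ≠ 1) :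
    Polynomial.rootMultiplicity c
      (∑ l ∈ Finset.range (n + 1),
        Polynomial.C (((i.choose l) * (j.choose (n - l)) : ℕ) : k) * Polynomial.X ^ (n - l)) ≤ 1 := by

  set h : Polynomial k := ∑ l ∈ Finset.range (n + 1),
    Polynomial.C (((i.choose l) * (j.choose (n - l)) : ℕ) : k) * Polynomial.X ^ (n - l) with hh
  by_cases h0 : h = 0
  · simp [h0]
  by_contra hm
  push Not at hm
  have hcoef : ∀ s, h.coeff s = if s ≤ n then ((i.choose (n - s) * j.choose s : ℕ) : k) else 0 := by
    intro s
    rw [hh, Polynomial.finsetSum_coeff]
    simp only [Polynomial.coeff_C_mul_X_pow]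
    split_ifs with hs
    · rw [Finset.sum_eq_single (n - s)]
      · rw [if_pos (by omega), show n - (n - s) = s by omega]
      · intro l hl hne; rw [if_neg (by have := Finset.mem_range.1 hl; omega)]
      · intro hn; exact absurd (Finset.mem_range.2 (by omega)) hn
    · exact Finset.sum_eq_zero fun l hl => if_neg (by omega)
  have hrec : ∀ s : ℕ, ((s : k) + 1) * ((s : k) + 1 + i - n) * h.coeff (s + 1) = ((s : k) - n) * ((s : k) - j) * h.coeff s := by
    intro s
    rw [hcoef, hcoef]
    rcases lt_trichotomy s n with hs | rfl | hs
    · rw [if_pos (by omega), if_pos hs.le]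
      obtain ⟨t, rfl⟩ : ∃ t, n = s + 1 + t := ⟨n - s - 1, by omega⟩
      rw [show s + 1 + t - (s + 1) = t by omega, show s + 1 + t - s = t + 1 by omega]
      have hA := Nat.choose_succ_right_eq i t
      have hB := Nat.choose_succ_right_eq j s
      have cast1 : ((i.choose (t + 1) : k)) * ((t : k) + 1) = (i.choose t : k) * ((i : k) - t) := by
        by_cases ht : t ≤ i
        · have := congrArg (Nat.cast : ℕ → k) hA
          push_cast [Nat.cast_sub ht] at this; exact this
        · rw [Nat.choose_eq_zero_of_lt (by omega), Nat.choose_eq_zero_of_lt (by omega)]; simp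
      have cast2 : ((j.choose (s + 1) : k)) * ((s : k) + 1) = (j.choose s : k) * ((j : k) - s) := by
        by_cases ht : s ≤ j
        · have := congrArg (Nat.cast : ℕ → k) hB
          push_cast [Nat.cast_sub ht] at this; exact this
        · rw [Nat.choose_eq_zero_of_lt (by omega), Nat.choose_eq_zero_of_lt (by omega)]; simp
      push_cast
      linear_combination ((i.choose t : k) * ((i : k) - t)) * cast2 - ((j.choose s : k) * ((j : k) - s)) * cast1
    · simp
    · rw [if_neg (by omega), if_neg (by omega)]; simp
  have hode : Polynomial.X * (1 - Polynomial.X) * Polynomial.derivative (Polynomial.derivative h) +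
      (Polynomial.C (1 + (i : k) - n) - Polynomial.C (1 - (n : k) - j) * Polynomial.X) * Polynomial.derivative h
        - Polynomial.C ((n : k) * j) * h = 0 := by
    refine Polynomial.ext fun s => ?_
    rw [show Polynomial.X * (1 - Polynomial.X) * Polynomial.derivative (Polynomial.derivative h) +
        (Polynomial.C (1 + (i : k) - n) - Polynomial.C (1 - (n : k) - j) * Polynomial.X) * Polynomial.derivative h
          - Polynomial.C ((n : k) * j) * h =
        Polynomial.X * Polynomial.derivative (Polynomial.derivative h)
          - Polynomial.X * (Polynomial.X * Polynomial.derivative (Polynomial.derivative h))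
          + Polynomial.C (1 + (i : k) - n) * Polynomial.derivative h
          - Polynomial.C (1 - (n : k) - j) * (Polynomial.X * Polynomial.derivative h)
          - Polynomial.C ((n : k) * j) * h by ring]
    have hr := hrec s
    rcases s with _ | _ | s
    all_goals simp only [Polynomial.coeff_add, Polynomial.coeff_sub, Polynomial.coeff_C_mul, Polynomial.coeff_X_mul,
      Polynomial.coeff_X_mul_zero, Polynomial.coeff_derivative, Polynomial.coeff_zero, Nat.cast_add, Nat.cast_one,
      Nat.cast_zero, zero_add] at hr ⊢
    all_goals linear_combination hr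
  set e := h.rootMultiplicity c with he
  have hroot : h.IsRoot c := (Polynomial.rootMultiplicity_pos h0).1 (by omega)
  have hd1 : (Polynomial.derivative h).rootMultiplicity c = e - 1 := Polynomial.derivative_rootMultiplicity_of_root hroot
  have hdne : Polynomial.derivative h ≠ 0 := fun hz => by
    rw [hz, Polynomial.rootMultiplicity_zero] at hd1; omega
  have hroot1 : (Polynomial.derivative h).IsRoot c := (Polynomial.rootMultiplicity_pos hdne).1 (by omega)
  have hd2 : (Polynomial.derivative (Polynomial.derivative h)).rootMultiplicity c = e - 2 := by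
    rw [Polynomial.derivative_rootMultiplicity_of_root hroot1, hd1]; omega
  have hd2ne : Polynomial.derivative (Polynomial.derivative h) ≠ 0 := fun hz => by
    have := Polynomial.natDegree_eq_zero_of_derivative_eq_zero hz
    obtain ⟨u, hu⟩ : ∃ u, Polynomial.derivative h = Polynomial.C u := ⟨_, Polynomial.eq_C_of_natDegree_eq_zero this⟩
    rw [hu] at hroot1 hdne
    simp at hroot1
    simp [hroot1] at hdne
  have hdvd : (Polynomial.X - Polynomial.C c) ^ (e - 1) ∣
      Polynomial.X * (1 - Polynomial.X) * Polynomial.derivative (Polynomial.derivative h) := by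
    have h1 : (Polynomial.X - Polynomial.C c) ^ (e - 1) ∣ Polynomial.derivative h :=
      hd1 ▸ Polynomial.pow_rootMultiplicity_dvd _ _
    have h2 : (Polynomial.X - Polynomial.C c) ^ (e - 1) ∣ h :=
      (pow_dvd_pow _ (Nat.sub_le e 1)).trans (he ▸ Polynomial.pow_rootMultiplicity_dvd h c)
    have e' : Polynomial.X * (1 - Polynomial.X) * Polynomial.derivative (Polynomial.derivative h) =
        Polynomial.C ((n : k) * j) * h -
          (Polynomial.C (1 + (i : k) - n) - Polynomial.C (1 - (n : k) - j) * Polynomial.X) * Polynomial.derivative h := by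
      linear_combination hode
    rw [e']
    exact dvd_sub (h2.mul_left _) (h1.mul_left _)
  have hA : Polynomial.X * (1 - Polynomial.X) * Polynomial.derivative (Polynomial.derivative h) ≠ 0 := by
    refine mul_ne_zero (mul_ne_zero Polynomial.X_ne_zero fun hz => ?_) hd2ne
    have := congrArg (Polynomial.eval 0) hz; simp at this
  have h3 := (Polynomial.le_rootMultiplicity_iff hA).2 hdvd
  have hX : (Polynomial.X * (1 - Polynomial.X) : Polynomial k).rootMultiplicity c = 0 := by
    refine Polynomial.rootMultiplicity_eq_zero ?_
    simp [sub_eq_zero, hc0, Ne.symm hc1]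
  rw [Polynomial.rootMultiplicity_mul hA, hX, hd2] at h3
  omega

end Groth.Agent.S16259
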