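import Groth.Statements.S9676
import Groth.Agent.PropsBasic.NagataNormalization
import Groth.Agent.PropsBasic.DimOneNormal

set_option autoImplicit false
set_option linter.style.haveILetI false
universe u
open CategoryTheory CategoryTheory.Limits AlgebraicGeometry
open Mor

namespace Groth.Agent.S9676

set_option backward.isDefEq.respectTransparency.types false

/-- Let f : Y ⟶ X be of finite type with Y reduced and every affine open of X having Nagata coordinate
ring, and let X' be the normalization of X in Y. If x' is a point of X' whose local ring has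
dimension 1 and over which the fibre of Y ⟶ X' is empty, then the local ring of X' at x' is a
discrete valuation ring. (Such an f is automatically quasi-separated; the binder is carried only to
form the relative normalization.) -/
theorem result {X Y : Scheme.{u}} (f : Y ⟶ X)
    [LocallyOfFiniteType f] [QuasiCompact f] [QuasiSeparated f] [IsReduced Y]
    (hX : ∀ U : X.affineOpens, CAlg.IsNagata Γ(X, U))
    (x' : ↥f.normalization) (hdim : ringKrullDim (f.normalization.presheaf.stalk x') = 1)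
    (hx' : x' ∉ Set.range f.toNormalization.base) :
    ∃ _ : IsDomain (f.normalization.presheaf.stalk x'),
      IsDiscreteValuationRing (f.normalization.presheaf.stalk x') := by
  classical
  obtain ⟨U, hU, hxU, -⟩ := TopologicalSpace.Opens.isBasis_iff_nbhd.mp X.isBasis_affineOpens
    (TopologicalSpace.Opens.mem_top (f.fromNormalization.base x'))
  letI := (f.app U).hom.toAlgebra
  let V := f.fromNormalization ⁻¹ᵁ U
  have hV : IsAffineOpen V := hU.preimage _
  have hle : f ⁻¹ᵁ U ≤ f.toNormalization ⁻¹ᵁ V := by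
    simp [V, ← Scheme.Hom.comp_preimage]
  let e := (f.normalizationObjIso hU).commRingCatIsoToRingEquiv
  let φ := (f.toNormalization.appLE V (f ⁻¹ᵁ U) hle).hom
  letI : Algebra Γ(f.normalization, V) Γ(Y, f ⁻¹ᵁ U) := φ.toAlgebra
  have hφ : φ = (integralClosure Γ(X, U) Γ(Y, f ⁻¹ᵁ U)).val.toRingHom.comp e.toRingHom := by
    simp only [φ, V]
    rw [← f.normalizationObjIso_hom_val hU]
    rfl
  have hinj : Function.Injective φ := by
    rw [hφ]; exact Subtype.val_injective.comp e.injective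
  haveI := (hX ⟨U, hU⟩).1
  haveI hfin := Groth.PropsBasic.finite_integralClosure_of_nagata_of_finiteType f ⟨U, hU⟩ (hX ⟨U, hU⟩)
  haveI : IsNoetherianRing (integralClosure Γ(X, U) Γ(Y, f ⁻¹ᵁ U)) :=
    IsNoetherianRing.of_finite Γ(X, U) _
  haveI : IsNoetherianRing Γ(f.normalization, V) := isNoetherianRing_of_ringEquiv _ e.symm
  haveI : _root_.IsReduced Γ(f.normalization, V) := isReduced_of_injective φ hinj
  letI : Algebra Γ(f.normalization, V) (f.normalization.presheaf.stalk x') :=
    TopCat.Presheaf.algebra_section_stalk f.normalization.presheaf (U := V) ⟨x', hxU⟩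
  haveI := hV.isLocalization_stalk ⟨x', hxU⟩
  let p := (hV.primeIdealOf ⟨x', hxU⟩).asIdeal
  refine Groth.PropsBasic.isDVR_of_integrallyClosed (C := Γ(Y, f ⁻¹ᵁ U)) p hinj ?_ hdim ?_
  · intro c hc
    have h1 : (integralClosure Γ(X, U) Γ(Y, f ⁻¹ᵁ U)).val.toRingHom.IsIntegralElem c := by
      have h2 : φ.IsIntegralElem c := hc
      rw [hφ] at h2
      exact RingHom.IsIntegralElem.of_comp h2
    have h3 : IsIntegral Γ(X, U) c :=
      isIntegral_trans (A := integralClosure Γ(X, U) Γ(Y, f ⁻¹ᵁ U)) c h1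
    refine ⟨e.symm ⟨c, h3⟩, ?_⟩
    show φ _ = c
    rw [hφ]
    show (e (e.symm ⟨c, h3⟩)).1 = c
    rw [e.apply_symm_apply]
  intro s hs
  obtain ⟨t, ht, hUt⟩ :=
    isCompact_iff_finite_and_eq_biUnion_affineOpens.mp (f.isCompact_preimage hU.isCompact)
  haveI := ht.fintype
  have hWle : ∀ W : t, (W.1.1 : Y.Opens) ≤ f ⁻¹ᵁ U := fun W =>
    hUt ▸ le_iSup₂ (f := fun (i : Y.affineOpens) (_ : i ∈ t) => (i : Y.Opens)) W.1 W.2
  have hcov : f ⁻¹ᵁ U ≤ ⨆ W : t, (W.1.1 : Y.Opens) := by
    rw [hUt]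
    exact iSup₂_le fun i hi => le_iSup (fun W : t => (W.1.1 : Y.Opens)) ⟨i, hi⟩
  let ψ : ∀ W : t, Γ(f.normalization, V) →+* Γ(Y, W.1.1) := fun W =>
    (Y.presheaf.map (homOfLE (hWle W)).op).hom.comp φ
  have hψ : ∀ W : t, ψ W = (f.toNormalization.appLE V W.1.1 ((hWle W).trans hle)).hom := by
    intro W
    simp only [ψ, φ, ← CommRingCat.hom_comp, Scheme.Hom.appLE_map]
  have key : ∀ W : t, ∃ u : Γ(f.normalization, V), u ∉ p ∧ ψ W s ∣ ψ W u := by
    intro W
    by_contra hne
    have hJ : (Ideal.span {ψ W s}).comap (ψ W) ≤ p := fun u hu => by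
      by_contra hup
      exact hne ⟨u, hup, Ideal.mem_span_singleton.mp hu⟩
    obtain ⟨q, hq, hqp⟩ := Ideal.exists_minimalPrimes_le hJ
    obtain ⟨P, hP, hsP, hPq⟩ := Ideal.exists_comap_eq_of_mem_minimalPrimes (ψ W) q hq
    have hsq : s ∈ q := hPq ▸ hsP (Ideal.mem_span_singleton_self _)
    rcases hqp.eq_or_lt with h | h
    · subst h
      apply hx'
      refine ⟨W.1.2.fromSpec.base ⟨P, hP⟩, ?_⟩
      have h4 := IsAffineOpen.SpecMap_appLE_fromSpec f.toNormalization hV W.1.2
        ((hWle W).trans hle)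
      have h5 : (Spec.map (f.toNormalization.appLE V W.1.1 ((hWle W).trans hle))).base ⟨P, hP⟩ =
          hV.primeIdealOf ⟨x', hxU⟩ := by
        apply PrimeSpectrum.ext
        show P.comap (f.toNormalization.appLE V W.1.1 ((hWle W).trans hle)).hom = _
        rw [← hψ W]
        exact hPq
      calc f.toNormalization.base (W.1.2.fromSpec.base ⟨P, hP⟩)
          = (W.1.2.fromSpec ≫ f.toNormalization).base ⟨P, hP⟩ :=
            (Scheme.Hom.comp_apply W.1.2.fromSpec f.toNormalization _).symm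
        _ = (Spec.map (f.toNormalization.appLE V W.1.1 ((hWle W).trans hle)) ≫
              hV.fromSpec).base ⟨P, hP⟩ := by rw [h4]
        _ = hV.fromSpec.base (hV.primeIdealOf ⟨x', hxU⟩) := by
            rw [← h5]; rfl
        _ = x' := hV.fromSpec_primeIdealOf ⟨x', hxU⟩
    · exact hs q hq.1.1 h hsq
  choose u hu hdvd using key
  let v := ∏ W : t, u W
  have hv : v ∉ p := fun h => by
    obtain ⟨W, -, hW⟩ := (hV.primeIdealOf ⟨x', hxU⟩).2.prod_mem_iff.mp h
    exact hu W hW
  have hdv : ∀ W : t, ψ W s ∣ ψ W v := fun W =>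
    (hdvd W).trans (map_dvd _ (Finset.dvd_prod_of_mem u (Finset.mem_univ W)))
  choose c hc using hdv
  let r : ∀ (W : t) (O : Y.Opens), O ≤ W.1.1 → Γ(Y, W.1.1) →+* Γ(Y, O) := fun W O h =>
    (Y.presheaf.map (homOfLE h).op).hom
  have hr : ∀ (W : t) (O : Y.Opens) (h : O ≤ W.1.1) (b : Γ(f.normalization, V)),
      r W O h (ψ W b) = (Y.presheaf.map (homOfLE (h.trans (hWle W))).op).hom (φ b) := by
    intro W O h b
    simp only [r, ψ, RingHom.comp_apply]
    rw [← CommRingCat.comp_apply, ← Functor.map_comp]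
    rfl
  obtain ⟨g, hg, -⟩ := Y.sheaf.existsUnique_gluing' (fun W : t => (W.1.1 : Y.Opens)) (f ⁻¹ᵁ U)
    (fun W => homOfLE (hWle W)) hcov (fun W => ψ W v * c W) (by
      intro W W'
      show r W _ inf_le_left (ψ W v * c W) = r W' _ inf_le_right (ψ W' v * c W')
      have e1 := congrArg (r W ((W.1.1 : Y.Opens) ⊓ W'.1.1) inf_le_left) (hc W)
      have e2 := congrArg (r W' ((W.1.1 : Y.Opens) ⊓ W'.1.1) inf_le_right) (hc W')
      rw [map_mul, hr, hr] at e1 e2
      rw [map_mul, map_mul, hr, hr]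
      linear_combination r W _ inf_le_left (c W) * e2 - r W' _ inf_le_right (c W') * e1)
  let g₀ : Γ(Y, f ⁻¹ᵁ U) := g
  refine ⟨v * v, fun h => hv (((hV.primeIdealOf ⟨x', hxU⟩).2.mem_or_mem h).elim id id), g₀, ?_⟩
  refine Y.sheaf.eq_of_locally_eq' (fun W : t => (W.1.1 : Y.Opens)) (f ⁻¹ᵁ U)
    (fun W => homOfLE (hWle W)) hcov _ _ fun W => ?_
  show (Y.presheaf.map (homOfLE (hWle W)).op).hom (φ (v * v)) =
    (Y.presheaf.map (homOfLE (hWle W)).op).hom (φ s * g₀)
  have hgW : (Y.presheaf.map (homOfLE (hWle W)).op).hom g₀ = ψ W v * c W := hg W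
  rw [map_mul, map_mul, map_mul, hgW]
  show ψ W v * ψ W v = ψ W s * (ψ W v * c W)
  linear_combination ψ W v * hc W

end Groth.Agent.S9676
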