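import Groth.Statements.S1626
import Groth.Agent.VarietyBC.CurveProj
import Groth.Agent.S9676
import Groth.Agent.Agf.CurveNormalization
import Groth.Agent.Calg1.NagataTheorem

set_option autoImplicit false
universe u
open CategoryTheory CategoryTheory.Limits AlgebraicGeometry
open Variety

namespace Groth.Agent.S1626

/-- Let X be reduced, separated and of finite type over k with dim X ≤ 1. Then there are a closed
subscheme Y of some P^d_k and a dense, scheme-theoretically dense open immersion j : X → Y over k
whose complement is a finite set of closed points at each of which the local ring of Y is a discrete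
valuation ring. -/
theorem result (k : Type u) [Field k] (X : Scheme.{u}) [X.Over (Spec (CommRingCat.of k))] [IsReduced X] [IsSeparated (X ↘ (Spec (CommRingCat.of k)))] [LocallyOfFiniteType (X ↘ (Spec (CommRingCat.of k)))] [QuasiCompact (X ↘ (Spec (CommRingCat.of k)))] (hdim : topologicalKrullDim X ≤ 1) :
    ∃ (d : ℕ) (Y : Scheme.{u}) (c : Y ⟶ CohB1.ProjSpace d k) (j : X ⟶ Y), IsClosedImmersion c ∧ IsOpenImmersion j ∧
      j ≫ c ≫ CohB1.ProjSpace.toSpec d k = X ↘ (Spec (CommRingCat.of k)) ∧ Dense (Set.range j.base) ∧ IsSchemeTheoreticallyDominant j ∧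
      (Set.range j.base)ᶜ.Finite ∧ ∀ y ∈ (Set.range j.base)ᶜ, IsClosed ({y} : Set Y) ∧
        ∃ _ : IsDomain (Y.presheaf.stalk y), IsDiscreteValuationRing (Y.presheaf.stalk y) := by
  let str := X ↘ Spec (CommRingCat.of k)
  obtain ⟨d, Y0, c, j, hc, hj, hjf, hjd, hjsd, hjfin, hjcl⟩ :=
    Groth.VarietyBC.CurveProj.exists_completion k str hdim
  let P := CohB1.ProjSpace.toSpec d k
  haveI : IsProper P := Groth.Variety2.isProper_projSpace_toSpec d k
  let g0 := c ≫ P
  haveI : IsProper g0 := inferInstanceAs (IsProper (c ≫ P))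
  haveI : IsLocallyNoetherian Y0 := LocallyOfFiniteType.isLocallyNoetherian g0
  haveI : CompactSpace Y0 := QuasiCompact.compactSpace_of_compactSpace g0
  haveI : IsNoetherian Y0 := ⟨⟩
  haveI : IsLocallyNoetherian X := LocallyOfFiniteType.isLocallyNoetherian str
  have hnag : ∀ U : Y0.affineOpens, CAlg.IsNagata Γ(Y0, U) := by
    intro U
    have hft := g0.finiteType_appLE (isAffineOpen_top (Spec (CommRingCat.of k))) U.2 (le_top.trans (le_of_eq (Scheme.Hom.preimage_top g0).symm))
    let φ : k →+* Γ(Y0, U.1) := (g0.appLE ⊤ U.1 (le_top.trans (le_of_eq (Scheme.Hom.preimage_top g0).symm))).hom.comp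
      (Scheme.ΓSpecIso (CommRingCat.of k)).inv.hom
    letI : Algebra k Γ(Y0, U.1) := φ.toAlgebra
    haveI : Algebra.FiniteType k Γ(Y0, U.1) :=
      RingHom.finiteType_algebraMap.mp (hft.comp (RingHom.FiniteType.of_surjective _
        (Scheme.ΓSpecIso (CommRingCat.of k)).symm.commRingCatIsoToRingEquiv.surjective))
    exact Groth.Calg1.isNagata_of_finiteType (Groth.Agf.CurveNormalization.isNagata_field k)
  let Y := j.normalization
  let π := j.fromNormalization
  let J := j.toNormalization
  haveI : IsFinite π := Groth.PropsBasic.isFinite_fromNormalization j fun U =>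
    Groth.PropsBasic.finite_integralClosure_of_nagata_of_finiteType j U (hnag U)
  let g := π ≫ g0
  haveI : IsProper g := inferInstanceAs (IsProper (π ≫ g0))
  haveI : IsLocallyNoetherian Y := LocallyOfFiniteType.isLocallyNoetherian g
  haveI : CompactSpace Y := QuasiCompact.compactSpace_of_compactSpace g
  haveI : IsNoetherian Y := ⟨⟩
  have hJπ : J ≫ π = j := j.toNormalization_fromNormalization
  have hJg : J ≫ g = str := by
    show J ≫ π ≫ g0 = str
    rw [reassoc_of% hJπ]
    exact hjf
  haveI : IsOpenImmersion J := inferInstanceAs (IsOpenImmersion j.toNormalization)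
  have hJd : Dense (Set.range J) := j.toNormalization.denseRange
  -- the image of `X` is the full preimage of the image of `X`
  have hrange : π ⁻¹' Set.range j ⊆ Set.range J := by
    let V := π ⁻¹ᵁ j.opensRange
    have hV : Set.range J ⊆ Set.range V.ι := by
      rw [Scheme.Opens.range_ι]
      rintro _ ⟨x, rfl⟩
      exact ⟨x, (congr($hJπ x)).symm⟩
    let s := IsOpenImmersion.lift V.ι J hV
    have hs : s ≫ V.ι = J := IsOpenImmersion.lift_fac _ _ _
    let b := (π ∣_ j.opensRange) ≫ j.isoOpensRange.inv
    have hsb : s ≫ b = 𝟙 X := by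
      rw [← cancel_mono j, Category.id_comp, Category.assoc, Category.assoc,
        Scheme.Hom.isoOpensRange_inv_comp, morphismRestrict_ι, ← Category.assoc, hs, hJπ]
    haveI : IsClosedImmersion (s ≫ b) := by rw [hsb]; infer_instance
    haveI : IsClosedImmersion s := IsClosedImmersion.of_comp s b
    intro z hz
    by_contra hzJ
    have hopen : IsOpen ((π ⁻¹' Set.range j) ∩ (V.ι '' (Set.range s))ᶜ) := by
      have hT : (π ⁻¹' Set.range j) ∩ (V.ι '' (Set.range s))ᶜ = V.ι '' (Set.range s)ᶜ := by
        rw [Set.image_compl_eq_range_sdiff_image V.ι.isOpenEmbedding.injective, Scheme.Opens.range_ι]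
        rfl
      rw [hT]
      exact V.ι.isOpenEmbedding.isOpenMap _ s.isClosedEmbedding.isClosed_range.isOpen_compl
    have hrs : V.ι '' (Set.range s) = Set.range J := by
      rw [← Set.range_comp, ← hs]
      rfl
    rw [hrs] at hopen
    obtain ⟨w, hw, hw'⟩ := hJd.inter_open_nonempty _ hopen ⟨z, hz, hzJ⟩
    exact hw.2 hw'
  have hcl : ∀ y ∈ (Set.range J.base)ᶜ, IsClosed ({y} : Set Y) := by
    intro y hy
    have h0 : π y ∈ (Set.range j.base)ᶜ := fun h => hy (hrange h)
    obtain ⟨w, hw⟩ : ∃ w, w = π y := ⟨_, rfl⟩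
    have hfib := (IsFinite.finite_preimage_singleton π (π y))
    have hclosed : IsClosed (π ⁻¹' {π y}) := (hjcl _ h0).preimage π.continuous
    refine closure_eq_iff_isClosed.1 (Set.Subset.antisymm (fun z hz => ?_) subset_closure)
    have hzy : y ⤳ z := specializes_iff_mem_closure.2 hz
    have hzπ : π z = π y := hclosed.closure_subset_iff.2 (Set.singleton_subset_iff.2 rfl) hz
    haveI : LocallyQuasiFinite π := inferInstance
    have hdisc : _root_.IsDiscrete (π ⁻¹' {π y}) := π.isDiscrete_preimage_singleton _
    have := hdisc.to_subtype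
    have hs : (⟨y, rfl⟩ : π ⁻¹' {π y}) ⤳ ⟨z, hzπ⟩ := Topology.IsInducing.subtypeVal.specializes_iff.1 hzy
    exact (congrArg Subtype.val (specializes_iff_eq.1 hs)).symm
  have hheight : ∀ y : Y, Order.height y ≤ 1 := by
    intro y
    by_cases hy : y ∈ Set.range J
    · obtain ⟨x, rfl⟩ := hy
      rw [Groth.Variety2.Dim.height_eq_of_isPreimmersion str g J hJg x]
      have := (le_iSup (fun x : X => ((Order.height x : ℕ∞) : WithBot ℕ∞)) x).trans
        ((Groth.Variety2.Dim.dim_eq_iSup_height X).ge.trans hdim)
      exact WithBot.coe_le_coe.1 this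
    · have : IsMin y := fun z hz => by
        rw [(Set.mem_singleton_iff.1 ((hcl y hy).closure_subset (specializes_iff_mem_closure.1 hz)) : z = y)]
      rw [Order.height_eq_zero.2 this]
      exact zero_le
  have hYdim : topologicalKrullDim Y ≤ 1 := by
    rw [Groth.Variety2.Dim.dim_eq_iSup_height]
    exact iSup_le fun y => WithBot.coe_le_coe.2 (hheight y)
  obtain ⟨N, i, hi, hiqc, hig⟩ := Groth.VarietyBC.CurveProj.exists_immersion k g hYdim
  haveI : IsProper (CohB1.ProjSpace.toSpec N k) := Groth.Variety2.isProper_projSpace_toSpec N k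
  haveI : IsProper i := by
    haveI : IsProper (i ≫ CohB1.ProjSpace.toSpec N k) := by rw [hig]; infer_instance
    exact IsProper.of_comp i (CohB1.ProjSpace.toSpec N k)
  haveI : IsClosedImmersion i := .of_isPreimmersion i i.isClosedMap.isClosed_range
  refine ⟨N, Y, i, J, inferInstance, inferInstance, by rw [hig, hJg], hJd, ⟨j.ker_toNormalization⟩, ?_, fun y hy => ⟨hcl y hy, ?_⟩⟩
  · have hfin : (π ⁻¹' (Set.range j.base)ᶜ).Finite := hjfin.preimage' fun b _ => IsFinite.finite_preimage_singleton π b
    exact hfin.subset fun y hy h => hy (hrange h)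
  · refine Groth.Agent.S9676.result j hnag y ?_ hy
    rw [ringKrullDim_stalk_eq_coheight]
    obtain ⟨η, hη, hηy⟩ := Groth.VarietyBC.CurveProj.exists_mem_specializes J.opensRange
      (by rwa [Scheme.Hom.coe_opensRange]) y
    have hlt : y < η := lt_iff_le_not_ge.2 ⟨hηy, fun h => hy ((Specializes.antisymm h hηy).eq ▸ hη)⟩
    have h1 : (1 : ℕ∞) ≤ Order.coheight y := le_trans le_add_self (Order.coheight_add_one_le hlt)
    have h2 : Order.coheight y ≤ 1 := by
      refine Order.coheight_le fun p hp => ?_
      exact (Order.length_le_height_last (p := p)).trans (hheight _)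
    rw [le_antisymm h2 h1]
    rfl

end Groth.Agent.S1626
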