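import Groth.Statements.S16261
import Mathlib
import Groth.Agent.P1Res.Basic

set_option autoImplicit false
open W4c3wronskmg

namespace Groth.Agent.S16261

open Polynomial in
/-- With `k` of characteristic zero, `a, b, i` positive, `i ≤ a + b`, `j = a + b + 2 - i` and `V ⊆ k[X]`
the linear system of the first assertion (marked points `A = 0`, `B = 1`, `C = ∞`; `V` spanned by
the multiples of `X^(a+1)` of degree at most `a+b`, the multiples of `(X-1)^(b+1)` of degree at most
`a+b`, and `X^(a+1) (X-1)^(b+1)`): if the point `P` is put at `A` and `Q = q` is any point other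
than `C`, and both `dim V(-iA-jQ) ≥ 1` and `dim V(-(i-1)A-(j-1)Q) ≥ 2` hold, then `i ≥ a + 1`. (The
published statement is over the complex numbers.) -/
theorem result
    (k : Type*) [Field k] [CharZero k] (a b i j : ℕ) (ha : 0 < a) (hb : 0 < b) (hi : 0 < i) (hiab : i ≤ a + b)
    (hj : i + j = a + b + 2)
    (V : Submodule k (Polynomial k))
    (hV : V = ((Ideal.span {(X : Polynomial k) ^ (a + 1)}).restrictScalars k ⊓ Polynomial.degreeLE k ↑(a + b)) ⊔
      ((Ideal.span {((X : Polynomial k) - 1) ^ (b + 1)}).restrictScalars k ⊓ Polynomial.degreeLE k ↑(a + b)) ⊔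
      Submodule.span k {(X : Polynomial k) ^ (a + 1) * (X - 1) ^ (b + 1)})
    (q : k)
    (h1 : 1 ≤ Module.finrank k ↥(V ⊓ (Ideal.span {(X : Polynomial k) ^ i * (X - C q) ^ j}).restrictScalars k))
    (h2 : 2 ≤ Module.finrank k ↥(V ⊓ (Ideal.span {(X : Polynomial k) ^ (i - 1) * (X - C q) ^ (j - 1)}).restrictScalars k)) :
    a + 1 ≤ i := by

  by_contra hia
  have hia' : i ≤ a := by omega
  obtain ⟨r₀, r₁, h₀, h₁, hE₀, hE₁⟩ := Groth.P1Res.exists_pair (k := k) a b
  have hdeg : ∀ f ∈ V, f.natDegree ≤ a + b + 2 := by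
    intro f hf
    have : V ≤ degreeLE k ↑(a + b + 2) := by
      rw [hV]
      refine sup_le (sup_le (inf_le_right.trans (degreeLE_mono (by norm_cast; omega)))
        (inf_le_right.trans (degreeLE_mono (by norm_cast; omega)))) ?_
      rw [Submodule.span_singleton_le_iff_mem, mem_degreeLE, ← natDegree_le_iff_degree_le, ← C_1]
      refine natDegree_mul_le.trans ?_
      rw [natDegree_X_pow, natDegree_pow, natDegree_X_sub_C]; omega
    exact natDegree_le_of_degree_le (mem_degreeLE.1 (this hf))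
  have hΦ : (X : Polynomial k) ^ i * (X - C q) ^ j ∈ V := by
    have hne : V ⊓ (Ideal.span {(X : Polynomial k) ^ i * (X - C q) ^ j}).restrictScalars k ≠ ⊥ := fun e => by
      rw [e, finrank_bot] at h1; omega
    obtain ⟨f, ⟨hfV, hfI⟩, hf0⟩ := Submodule.exists_mem_ne_zero_of_ne_bot hne
    obtain ⟨R, rfl⟩ := Ideal.mem_span_singleton.1 hfI
    have hR : R ≠ 0 := fun e => hf0 (by simp [e])
    have hd := hdeg _ hfV
    rw [natDegree_mul (mul_ne_zero (pow_ne_zero _ X_ne_zero) (pow_ne_zero _ (X_sub_C_ne_zero q))) hR,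
      natDegree_mul (pow_ne_zero _ X_ne_zero) (pow_ne_zero _ (X_sub_C_ne_zero q)), natDegree_X_pow,
      natDegree_pow, natDegree_X_sub_C] at hd
    obtain ⟨c, rfl⟩ : ∃ c, R = C c := ⟨_, eq_C_of_natDegree_eq_zero (by omega)⟩
    have hc : c ≠ 0 := fun e => hR (by simp [e])
    have := V.smul_mem c⁻¹ hfV
    rwa [smul_eq_C_mul, mul_comm _ (C c), ← mul_assoc, ← C_mul, inv_mul_cancel₀ hc, C_1, one_mul] at this
  obtain ⟨e0, e1⟩ := Groth.P1Res.res_eq_zero h₀ h₁ hV hΦ
  by_cases hq0 : q = 0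
  · subst hq0
    rw [map_zero, sub_zero, ← pow_add, show i + j = (a + 1) + (b + 1) by omega, pow_add, h₁.2, taylor_pow,
      taylor_X, coeff_X_add_C_pow, one_pow, one_mul, Nat.choose_succ_self_right] at e1
    · exact absurd e1 (Nat.cast_ne_zero.2 (Nat.succ_ne_zero b))
  by_cases hq1 : q = 1
  · subst hq1
    rw [show (X : Polynomial k) ^ i * (X - C 1) ^ j = (X - C 1) ^ (b + 1) * (X ^ i * (X + C (-1)) ^ (a - i + 1)) by
        rw [map_neg, ← sub_eq_add_neg, mul_left_comm, ← pow_add, show b + 1 + (a - i + 1) = j by omega],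
      h₀.2, coeff_X_pow_mul', if_pos hia', coeff_X_add_C_pow, Nat.choose_succ_self_right] at e0
    have h1 : (-1 : k) ^ (a - i + 1 - (a - i)) ≠ 0 := pow_ne_zero _ (by simp)
    exact absurd e0 (mul_ne_zero h1 (Nat.cast_ne_zero.2 (Nat.succ_ne_zero _)))
  have h2' : 2 ≤ Module.finrank k ↥(V ⊓ (Ideal.span {(X - C (0 : k)) ^ (i - 1) * (X - C q) ^ (j - 1)}).restrictScalars k) := by
    rwa [map_zero, sub_zero]
  obtain ⟨μ, ν, hne, hrel⟩ :=
    Groth.P1Res.exists_relation a b i j 0 q hi (by omega) hj h₀ h₁ hE₀ hE₁ hV h2'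
  have hν : ν = 0 := by
    have := hrel (X ^ (a + 1) * (X - C 1) ^ b)
    rw [h₀.1 _ (Dvd.dvd.mul_left (dvd_mul_right _ _) _), mul_left_comm, h₁.2, taylor_mul, taylor_pow, map_sub,
      taylor_X, taylor_C, add_sub_cancel_right, mul_zero, zero_add, coeff_mul_X_pow', if_pos le_rfl, Nat.sub_self,
      taylor_coeff_zero] at this
    refine (mul_eq_zero.1 this).resolve_right ?_
    simp [sub_eq_zero, Ne.symm hq1]
  have hμ : μ = 0 := by
    have := hrel (X ^ (a - i + 1) * (X - C 1) ^ (b + 1))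
    rw [h₁.1 _ (Dvd.dvd.mul_left (dvd_mul_left _ _) _), mul_zero, add_zero,
      show (X - C (0 : k)) ^ (i - 1) * (X - C q) ^ (j - 1) * (X ^ (a - i + 1) * (X - C 1) ^ (b + 1)) =
        (X - C 1) ^ (b + 1) * ((X - C q) ^ (j - 1) * X ^ a) by
        rw [map_zero, sub_zero]
        calc _ = (X - C 1) ^ (b + 1) * ((X - C q) ^ (j - 1) * (X ^ (i - 1) * X ^ (a - i + 1))) := by ring
          _ = _ := by rw [← pow_add, show i - 1 + (a - i + 1) = a by omega],
      h₀.2, coeff_mul_X_pow', if_pos le_rfl, Nat.sub_self, coeff_zero_eq_eval_zero] at this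
    refine (mul_eq_zero.1 this).resolve_right ?_
    simp [hq0]
  exact hne.elim (fun e => e hμ) (fun e => e hν)

end Groth.Agent.S16261
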