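import Groth.Statements.S16262
import Mathlib

set_option autoImplicit false
open W4c3wronskmg

namespace Groth.Agent.S16262

open Polynomial in
/-- Let `k` be a field of characteristic zero and `a, b, i` positive integers with `i < a + b`. On the
projective line with `A = 0`, `B = ∞`, `P = -1`, the system `V_{a,b} = H⁰(ω((1+a)A)) ⊕ H⁰(ω((1+b)B))
⊆ H⁰(O(a+b))` is the space of polynomials of degree at most `a+b` with vanishing coefficient of
`X^a`, and `V = V_{a,b}(-iP)` (divided by `(X+1)^i`) is the space of `G` of degree at most `a+b-i`
such that the coefficient of `X^a` in `(X+1)^i G` vanishes; it is a linear system of dimension and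
degree `a+b-i`. Then no point of the projective line other than `A` and `B` is a special
ramification point of `V` (a point of weight at least two); for such a system a point `q` of the
affine line is special exactly when two independent members are divisible by `(X-q)^(a+b-i-1)`, so
the statement is that this fails for every `q ≠ 0`. (The published statement does not except `A` and
`B`, but `A` has weight `max(b-i, 0)` in `V`, which is `2` for `a = 1, b = 3, i = 1`: there `X^3`
and `X^2` both lie in `V`. It is stated over the complex numbers.) -/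
theorem result
    (k : Type*) [Field k] [CharZero k] (a b i : ℕ) (ha : 0 < a) (hb : 0 < b) (hi : 0 < i) (hiab : i < a + b)
    (V : Submodule k (Polynomial k))
    (hV : V = Polynomial.degreeLE k ↑(a + b - i) ⊓
      LinearMap.ker ((Polynomial.lcoeff k a).comp (LinearMap.mulLeft k (((X : Polynomial k) + 1) ^ i))))
    (q : k) (hq : q ≠ 0) :
    Module.finrank k ↥(V ⊓ (Ideal.span {(X - C q) ^ (a + b - i - 1)}).restrictScalars k) ≤ 1 := by

  set P : Polynomial k := (X + 1) ^ i * (X - C q) ^ (a + b - i - 1) with hP
  have hode : (X + 1) * (X - C q) * derivative P =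
      (C (i : k) * (X - C q) + C ((a + b - i - 1 : ℕ) : k) * (X + 1)) * P := by
    rw [hP]
    rcases i with _ | i
    · omega
    rcases hn : a + b - (i + 1) - 1 with _ | m
    · simp [derivative_pow]; ring
    · simp [derivative_pow]; ring
  have hne : P.coeff a ≠ 0 ∨ P.coeff (a - 1) ≠ 0 := by
    by_contra hc
    push Not at hc
    have step : ∀ m, P.coeff m = 0 → P.coeff (m + 1) = 0 → P.coeff (m + 2) = 0 := by
      intro m h0 h1
      have e := congrArg (fun f => Polynomial.coeff f (m + 1)) hode
      simp only [show (X + 1) * (X - C q) * derivative P = X * (X * derivative P) + C (1 - q) * (X * derivative P)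
          - C q * derivative P by simp only [map_sub, map_one]; ring,
        show (C (i : k) * (X - C q) + C ((a + b - i - 1 : ℕ) : k) * (X + 1)) * P =
          C ((i : k) + ((a + b - i - 1 : ℕ) : k)) * (X * P) + C (((a + b - i - 1 : ℕ) : k) - i * q) * P by
          simp only [map_sub, map_add, map_mul]; ring,
        coeff_add, coeff_sub, coeff_C_mul, coeff_X_mul, h0, h1, mul_zero, add_zero] at e
      have h3 : (X * derivative P).coeff m = 0 := by
        rcases m with _ | m
        · simp
        · rw [coeff_X_mul, coeff_derivative, h0, zero_mul]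
      rw [h3, coeff_derivative, h1, coeff_derivative] at e
      simp only [zero_mul, mul_zero, zero_add, zero_sub, neg_eq_zero, mul_eq_zero] at e
      rcases e with e | e | e
      · exact absurd e hq
      · exact e
      · exact absurd e (Nat.cast_add_one_ne_zero _)
    have hall : ∀ d, P.coeff (a - 1 + d) = 0 ∧ P.coeff (a - 1 + d + 1) = 0 := by
      intro d
      induction d with
      | zero => exact ⟨hc.2, by rw [add_zero, show a - 1 + 1 = a by omega]; exact hc.1⟩
      | succ d ih => exact ⟨ih.2, step _ ih.1 ih.2⟩
    have hmon : P.Monic := ((monic_X_add_C (1 : k)).pow i).mul ((monic_X_sub_C q).pow _) |> fun h => by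
      rwa [map_one] at h
    have hdeg : P.natDegree = a + b - 1 := by
      rw [hP, ← C_1, natDegree_mul (pow_ne_zero _ (X_add_C_ne_zero 1)) (pow_ne_zero _ (X_sub_C_ne_zero q)),
        natDegree_pow, natDegree_pow, natDegree_X_add_C, natDegree_X_sub_C]
      omega
    have h1 := (hall b).1
    rw [show a - 1 + b = P.natDegree by omega, hmon.coeff_natDegree] at h1
    exact one_ne_zero h1
  refine le_trans (Submodule.finrank_mono (t := Submodule.span k
    {(X - C q) ^ (a + b - i - 1) * (C (P.coeff a) * X - C (P.coeff (a - 1)))}) ?_) ((finrank_span_le_card _).trans (by simp))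
  rintro f ⟨hfV, hfI⟩
  rw [hV] at hfV
  obtain ⟨hd, hker⟩ := hfV
  obtain ⟨R, rfl⟩ := Ideal.mem_span_singleton.1 hfI
  obtain ⟨u, v, rfl⟩ : ∃ u v, R = C u * X + C v := by
    by_cases hR : R = 0
    · exact ⟨0, 0, by simp [hR]⟩
    · have hd' := natDegree_le_of_degree_le (mem_degreeLE.1 hd)
      rw [natDegree_mul (pow_ne_zero _ (X_sub_C_ne_zero q)) hR, natDegree_pow, natDegree_X_sub_C] at hd'
      exact exists_eq_X_add_C_of_natDegree_le_one (by omega)
  have hrel : u * P.coeff (a - 1) + v * P.coeff a = 0 := by
    have h1 : ((X + 1) ^ i * ((X - C q) ^ (a + b - i - 1) * (C u * X + C v))).coeff a = 0 := hker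
    rw [← mul_assoc, ← hP, mul_add, ← mul_assoc, coeff_add, coeff_mul_C] at h1
    obtain ⟨a', rfl⟩ : ∃ a', a = a' + 1 := ⟨a - 1, by omega⟩
    rw [coeff_mul_X, coeff_mul_C] at h1
    simp only [Nat.add_sub_cancel]
    linear_combination h1
  rw [Submodule.mem_span_singleton]
  rcases hne with h | h
  · refine ⟨u / P.coeff a, ?_⟩
    rw [smul_eq_C_mul, ← div_mul_cancel₀ u h, map_mul]
    have : C v = - (C (u / P.coeff a) * C (P.coeff (a - 1))) := by
      rw [← map_mul, ← map_neg]; congr 1
      field_simp
      linear_combination hrel
    rw [this]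
    rw [div_mul_cancel₀ u h]
    ring
  · refine ⟨-v / P.coeff (a - 1), ?_⟩
    rw [smul_eq_C_mul]
    have e1 : C u = C (-v / P.coeff (a - 1)) * C (P.coeff a) := by
      rw [← map_mul]; congr 1
      field_simp
      linear_combination hrel
    have e2 : C v = -(C (-v / P.coeff (a - 1)) * C (P.coeff (a - 1))) := by
      rw [← map_mul, ← map_neg, div_mul_cancel₀ _ h, neg_neg]
    rw [e1, e2]
    ring

end Groth.Agent.S16262
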