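import Groth.Statements.S16263
import Mathlib

set_option autoImplicit false
open W4c3wronskmg

namespace Groth.Agent.S16263

open Polynomial in
/-- Let `k` be a field of characteristic zero and `a` a positive integer. On the projective line with `A
= 0`, `B = -1`, `C = ∞`, the `(a+1)`-dimensional system `V = H⁰(ω((1+a)C)) ⊕ H⁰(ω(A+B)) ⊆
H⁰(ω((1+a)C + A + B)) ≅ H⁰(O(a+1))` is, in the affine coordinate, the space of polynomials `c + X
(X+1) F` with `c` a constant and `deg F ≤ a - 1`. Then `V` has no special ramification point (no
point of weight at least two): since the members have degree at most `a + 1`, this says that for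
every point `p` of the affine line at most a one-dimensional subspace of `V` is divisible by
`(X-p)^a`, and at `C` that at most a one-dimensional subspace has degree at most one (degree less
than two). (The published statement carries two further positive integers `i, j` with `i + j = a -
1`, used only in its second assertion, and is over the complex numbers.) -/
theorem result
    (k : Type*) [Field k] [CharZero k] (a : ℕ) (ha : 0 < a)
    (V : Submodule k (Polynomial k))
    (hV : V = Submodule.span k {(1 : Polynomial k)} ⊔
      ((Ideal.span {(X : Polynomial k) * (X + 1)}).restrictScalars k ⊓ Polynomial.degreeLE k ↑(a + 1))) :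
    (∀ p : k, Module.finrank k ↥(V ⊓ (Ideal.span {(X - C p) ^ a}).restrictScalars k) ≤ 1) ∧
      Module.finrank k ↥(V ⊓ Polynomial.degreeLT k 2) ≤ 1 := by

  have hmem : ∀ f ∈ V, f.natDegree ≤ a + 1 ∧ f.eval 0 = f.eval (-1) := by
    intro f hf
    rw [hV, Submodule.mem_sup] at hf
    obtain ⟨c, hc, g, ⟨hg1, hg2⟩, rfl⟩ := hf
    obtain ⟨r, rfl⟩ := Submodule.mem_span_singleton.1 hc
    obtain ⟨F, rfl⟩ := Ideal.mem_span_singleton.1 hg1
    have hg3 := natDegree_le_of_degree_le (mem_degreeLE.1 hg2)
    refine ⟨(natDegree_add_le _ _).trans (max_le ?_ hg3), by simp⟩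
    exact (natDegree_smul_le _ _).trans (by simp)
  refine ⟨fun p => ?_, ?_⟩
  · set A : k := (-p) ^ a - (-1 - p) ^ a with hA
    set B : k := (-p) ^ (a + 1) - (-1 - p) ^ (a + 1) with hB
    have hAB : A ≠ 0 ∨ B ≠ 0 := by
      by_contra h
      push Not at h
      obtain ⟨h1, h2⟩ := h
      rw [hA, sub_eq_zero] at h1
      rw [hB, sub_eq_zero, pow_succ, pow_succ, ← h1] at h2
      by_cases hp : (-p) ^ a = 0
      · have hp0 : p = 0 := by simpa [ha.ne'] using hp
        subst hp0
        rw [neg_zero, zero_pow ha.ne'] at h1
        exact pow_ne_zero a (by simp) h1.symm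
      · have := mul_left_cancel₀ hp h2
        exact one_ne_zero (by linear_combination this : (1 : k) = 0)
    refine le_trans (Submodule.finrank_mono (t := Submodule.span k
      {(X - C p) ^ a * (C B - C A * (X - C p))}) ?_) ((finrank_span_le_card _).trans (by simp))
    rintro f ⟨hfV, hfI⟩
    obtain ⟨G, rfl⟩ := Ideal.mem_span_singleton.1 hfI
    obtain ⟨hdeg, hev⟩ := hmem _ hfV
    obtain ⟨u, v, rfl⟩ : ∃ u v, G = C u + C v * (X - C p) := by
      by_cases hG : G = 0
      · exact ⟨0, 0, by simp [hG]⟩
      · rw [natDegree_mul (pow_ne_zero _ (X_sub_C_ne_zero p)) hG, natDegree_pow,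
          natDegree_X_sub_C] at hdeg
        obtain ⟨b, c, hbc⟩ := exists_eq_X_add_C_of_natDegree_le_one (p := G) (by omega)
        exact ⟨c + b * p, b, by rw [hbc]; simp only [map_add, map_mul]; ring⟩
    simp only [eval_mul, eval_pow, eval_sub, eval_add, eval_X, eval_C, zero_sub] at hev
    have hrel : u * A + v * B = 0 := by rw [hA, hB]; linear_combination hev
    rw [Submodule.mem_span_singleton]
    rcases hAB with h | h
    · refine ⟨-v / A, ?_⟩
      have : u = -v / A * B := by field_simp; linear_combination hrel
      have hv : -v / A * A = -v := div_mul_cancel₀ _ h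
      rw [smul_eq_C_mul, this, map_mul]
      have hv' : C (-v / A) * C A = -C v := by rw [← map_mul, hv, map_neg]
      linear_combination (-((X - C p) ^ a * (X - C p))) * hv'
    · by_cases hA0 : A = 0
      · rw [hA0, mul_zero, zero_add, mul_eq_zero] at hrel
        refine ⟨u / B, ?_⟩
        have hu : C (u / B) * C B = C u := by rw [← map_mul, div_mul_cancel₀ _ h]
        rw [smul_eq_C_mul, hA0, hrel.resolve_right h, map_zero, zero_mul, sub_zero,
          add_zero]
        linear_combination ((X - C p) ^ a) * hu
      · refine ⟨-v / A, ?_⟩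
        have : u = -v / A * B := by field_simp; linear_combination hrel
        have hv' : C (-v / A) * C A = -C v := by rw [← map_mul, div_mul_cancel₀ _ hA0, map_neg]
        rw [smul_eq_C_mul, this, map_mul]
        linear_combination (-((X - C p) ^ a * (X - C p))) * hv'
  · refine le_trans (Submodule.finrank_mono (t := Submodule.span k {(1 : Polynomial k)}) ?_)
      ((finrank_span_le_card _).trans (by simp))
    rintro f ⟨hfV, hf2⟩
    obtain ⟨-, hev⟩ := hmem _ hfV
    have hd : f.degree < ((2 : ℕ) : WithBot ℕ) := mem_degreeLT.1 hf2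
    have hd1 : f.natDegree ≤ 1 := by
      by_cases hf : f = 0
      · simp [hf]
      · have := (natDegree_lt_iff_degree_lt hf).2 hd
        omega
    obtain ⟨b, c, rfl⟩ := exists_eq_X_add_C_of_natDegree_le_one hd1
    simp only [eval_add, eval_mul, eval_C, eval_X, mul_zero, zero_add, mul_neg, mul_one] at hev
    have hb : b = 0 := by linear_combination hev
    exact Submodule.mem_span_singleton.2 ⟨c, by simp [hb, smul_eq_C_mul]⟩

end Groth.Agent.S16263
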