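import Groth.Statements.S16264
import Mathlib

set_option autoImplicit false
open W4c3wronskmg

namespace Groth.Agent.S16264

open Polynomial in
/-- Let `k` be a field of characteristic zero and `a, i, j` positive integers with `i + j = a - 1`. With
`A = 0`, `B = -1`, `C = ∞` on the projective line and `V` the `(a+1)`-dimensional system of
polynomials `c + X (X+1) F`, `deg F ≤ a - 1` (that is, `H⁰(ω((1+a)C)) ⊕ H⁰(ω(A+B)) ⊆ H⁰(O(a+1))`),
the pairs of points `(P, Q) = (p, q)` of the affine line with `dim V(-iP-jQ) ≥ 3`, i.e. with at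
least a three-dimensional subspace of `V` divisible by `(X-p)^i (X-q)^j`, are exactly `(A, B)` and
`(B, A)`. (Here `P, Q` range over the points other than `C`; when one of them is `C` the dimension
is at most two for degree reasons. The published statement is over the complex numbers.) -/
theorem result
    (k : Type*) [Field k] [CharZero k] (a i j : ℕ) (hi : 0 < i) (hj : 0 < j) (hij : i + j + 1 = a)
    (V : Submodule k (Polynomial k))
    (hV : V = Submodule.span k {(1 : Polynomial k)} ⊔
      ((Ideal.span {(X : Polynomial k) * (X + 1)}).restrictScalars k ⊓ Polynomial.degreeLE k ↑(a + 1)))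
    (p q : k) :
    3 ≤ Module.finrank k ↥(V ⊓ (Ideal.span {(X - C p) ^ i * (X - C q) ^ j}).restrictScalars k) ↔
      (p = 0 ∧ q = -1) ∨ (p = -1 ∧ q = 0) := by

  set Φ : Polynomial k := (X - C p) ^ i * (X - C q) ^ j with hΦ
  have hΦne : Φ ≠ 0 := mul_ne_zero (pow_ne_zero _ (X_sub_C_ne_zero p)) (pow_ne_zero _ (X_sub_C_ne_zero q))
  have hΦdeg : Φ.natDegree = i + j := by
    rw [hΦ, natDegree_mul (pow_ne_zero _ (X_sub_C_ne_zero p)) (pow_ne_zero _ (X_sub_C_ne_zero q)), natDegree_pow,
      natDegree_pow, natDegree_X_sub_C, natDegree_X_sub_C]; omega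
  have hmem : ∀ f, f ∈ V ↔ f.natDegree ≤ a + 1 ∧ f.eval 0 = f.eval (-1) := by
    intro f
    constructor
    · intro hf
      rw [hV, Submodule.mem_sup] at hf
      obtain ⟨c, hc, g, ⟨hg1, hg2⟩, rfl⟩ := hf
      obtain ⟨r, rfl⟩ := Submodule.mem_span_singleton.1 hc
      obtain ⟨F, rfl⟩ := Ideal.mem_span_singleton.1 hg1
      exact ⟨(natDegree_add_le _ _).trans (max_le ((natDegree_smul_le _ _).trans (by simp))
        (natDegree_le_of_degree_le (mem_degreeLE.1 hg2))), by simp⟩
    · rintro ⟨hd, he⟩
      rw [hV, Submodule.mem_sup]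
      refine ⟨C (f.eval 0), Submodule.mem_span_singleton.2 ⟨f.eval 0, by simp [smul_eq_C_mul]⟩,
        f - C (f.eval 0), ⟨?_, ?_⟩, add_sub_cancel _ _⟩
      · refine Ideal.mem_span_singleton.2 (IsCoprime.mul_dvd ?_ ?_ ?_)
        · have := isCoprime_X_sub_C_of_isUnit_sub (R := k) (a := 0) (b := -1) (by simp)
          simpa using this
        · have := (dvd_iff_isRoot (a := (0 : k)) (p := f - C (f.eval 0))).2 (by simp)
          simpa using this
        · have := (dvd_iff_isRoot (a := (-1 : k)) (p := f - C (f.eval 0))).2 (by simp [he])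
          simpa using this
      · exact mem_degreeLE.2 (natDegree_le_iff_degree_le.1 ((natDegree_sub_C (a := f.eval 0)).le.trans hd))
  let mh : degreeLT k 3 →ₗ[k] Polynomial k := LinearMap.mulLeft k Φ ∘ₗ (degreeLT k 3).subtype
  have hmh : Function.Injective mh := fun u v huv => Subtype.ext (mul_left_cancel₀ hΦne huv)
  have : FiniteDimensional k (degreeLT k 3) := Module.Finite.equiv (degreeLTEquiv k 3).symm
  have hfr : Module.finrank k (LinearMap.range mh) = 3 := by
    rw [LinearMap.finrank_range_of_inj hmh, (degreeLTEquiv k 3).finrank_eq, Module.finrank_fin_fun]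
  have hle : V ⊓ (Ideal.span {Φ}).restrictScalars k ≤ LinearMap.range mh := by
    rintro f ⟨hfV, hfI⟩
    obtain ⟨R, rfl⟩ := Ideal.mem_span_singleton.1 hfI
    refine ⟨⟨R, ?_⟩, rfl⟩
    rw [mem_degreeLT]
    by_cases hR : R = 0
    · rw [hR, degree_zero]; exact WithBot.bot_lt_coe _
    · have hd := ((hmem _).1 hfV).1
      rw [natDegree_mul hΦne hR, hΦdeg] at hd
      rw [← natDegree_lt_iff_degree_lt hR]
      omega
  constructor
  · intro h3
    have heq := Submodule.eq_of_le_of_finrank_le hle (by omega)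
    have hin : ∀ R : Polynomial k, R.natDegree ≤ 2 → Φ.eval 0 * R.eval 0 = Φ.eval (-1) * R.eval (-1) := by
      intro R hR
      have : Φ * R ∈ LinearMap.range mh := by
        refine ⟨⟨R, mem_degreeLT.2 ?_⟩, rfl⟩
        exact lt_of_le_of_lt (degree_le_natDegree.trans (WithBot.coe_le_coe.2 hR)) (by norm_cast)
      rw [← heq] at this
      simpa using ((hmem _).1 this.1).2
    have h1 := hin 1 (by simp)
    have h2 := hin X (by simp)
    simp at h1 h2
    have hm1 : Φ.eval (-1) = 0 := h2
    rw [hm1] at h1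
    simp [hΦ, hi.ne', hj.ne', sub_eq_zero] at h1 hm1
    rcases h1 with h | h <;> rcases hm1 with h' | h'
    · exact absurd (h'.trans h) (by simp)
    · exact Or.inl ⟨h, h'.symm⟩
    · exact Or.inr ⟨h'.symm, h⟩
    · exact absurd (h'.trans h) (by simp)
  · intro hpq
    have heq : V ⊓ (Ideal.span {Φ}).restrictScalars k = LinearMap.range mh := by
      refine le_antisymm hle ?_
      rintro _ ⟨⟨R, hR⟩, rfl⟩
      refine ⟨(hmem _).2 ⟨natDegree_mul_le.trans ?_, ?_⟩, Ideal.mem_span_singleton.2 (dvd_mul_right _ _)⟩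
      · by_cases hR0 : R = 0
        · subst hR0; show Φ.natDegree + (0 : Polynomial k).natDegree ≤ a + 1; rw [natDegree_zero]; omega
        · have := (natDegree_lt_iff_degree_lt hR0).2 (mem_degreeLT.1 hR)
          show Φ.natDegree + R.natDegree ≤ a + 1
          omega
      · show eval 0 (Φ * R) = eval (-1) (Φ * R)
        rcases hpq with ⟨rfl, rfl⟩ | ⟨rfl, rfl⟩ <;> simp [hΦ, hi.ne', hj.ne']
    rw [heq, hfr]

end Groth.Agent.S16264
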