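import Groth.Statements.S16265
import Groth.Agent.FunFld1.Nonsingular
import Groth.Agent.FunFld1.Rational

set_option autoImplicit false
open FunFld Groth.FunFld1

namespace Groth.Agent.S16265

/-- Let `K/k` be a function field of one variable over an algebraically closed field `k` of
characteristic zero (the function field of a smooth projective curve), `D` a divisor and `V ⊆ L(D)`
a linear system of dimension `r + 1`; write `V(-mP-nQ) = V ∩ L(D - mP - nQ)` for the members
vanishing to the indicated orders. Assume `V` has no special ramification point, i.e. no place of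
weight at least two: for every place `R`, `dim V(-rR) ≤ 1` and `V(-(r+2)R) = 0`. Let `P ≠ Q` be
places and `a, b ≥ 1` with `a + b = r + 1` (so that `V(-aP)` and `V(-bQ)` have dimensions `b` and
`a`). Then the following are equivalent: (1) the system `V(-aP)` has weight at least two at `Q`,
that is `dim V(-aP-(b-1)Q) ≥ 2` or `dim V(-aP-(b+1)Q) ≥ 1`, and the system `V(-bQ)` has weight at
least two at `P`, that is `dim V(-(a-1)P-bQ) ≥ 2` or `dim V(-(a+1)P-bQ) ≥ 1`; (2) one of (a) `dim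
V(-(a+1)P-(b+1)Q) ≥ 1`, (b) `dim V(-(a-1)P-(b-1)Q) ≥ 3`, (c) `dim V(-aP-(b+1)Q) ≥ 1` and `dim
V(-(a-1)P-bQ) ≥ 2`, (d) `dim V(-(a+1)P-bQ) ≥ 1` and `dim V(-aP-(b-1)Q) ≥ 2`. (The published
statement is for a smooth curve over the complex numbers.) -/
theorem result
    (k K : Type*) [Field k] [IsAlgClosed k] [CharZero k] [Field K] [Algebra k K]
    (hK : FunFld.IsFunctionField k K) (D : FunFld.Divisor k K)
    (V : Submodule k K) (hVD : V ≤ FunFld.L D) (r : ℕ) (hr : Module.finrank k ↥V = r + 1)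
    (hns : ∀ R : FunFld.Place k K,
      Module.finrank k ↥(V ⊓ FunFld.L (D - Finsupp.single R (r : ℤ))) ≤ 1 ∧
        V ⊓ FunFld.L (D - Finsupp.single R ((r : ℤ) + 2)) = ⊥)
    (P Q : FunFld.Place k K) (hPQ : P ≠ Q) (a b : ℕ) (ha : 1 ≤ a) (hb : 1 ≤ b) (hab : a + b = r + 1) :
    ((2 ≤ Module.finrank k ↥(V ⊓ FunFld.L (D - Finsupp.single P (a : ℤ) - Finsupp.single Q ((b : ℤ) - 1 : ℤ))) ∨
        1 ≤ Module.finrank k ↥(V ⊓ FunFld.L (D - Finsupp.single P (a : ℤ) - Finsupp.single Q ((b : ℤ) + 1 : ℤ)))) ∧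
      (2 ≤ Module.finrank k ↥(V ⊓ FunFld.L (D - Finsupp.single P ((a : ℤ) - 1 : ℤ) - Finsupp.single Q (b : ℤ))) ∨
        1 ≤ Module.finrank k ↥(V ⊓ FunFld.L (D - Finsupp.single P ((a : ℤ) + 1 : ℤ) - Finsupp.single Q (b : ℤ))))) ↔
    (1 ≤ Module.finrank k ↥(V ⊓ FunFld.L (D - Finsupp.single P ((a : ℤ) + 1 : ℤ) - Finsupp.single Q ((b : ℤ) + 1 : ℤ))) ∨
      3 ≤ Module.finrank k ↥(V ⊓ FunFld.L (D - Finsupp.single P ((a : ℤ) - 1 : ℤ) - Finsupp.single Q ((b : ℤ) - 1 : ℤ))) ∨
      (1 ≤ Module.finrank k ↥(V ⊓ FunFld.L (D - Finsupp.single P (a : ℤ) - Finsupp.single Q ((b : ℤ) + 1 : ℤ))) ∧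
        2 ≤ Module.finrank k ↥(V ⊓ FunFld.L (D - Finsupp.single P ((a : ℤ) - 1 : ℤ) - Finsupp.single Q (b : ℤ)))) ∨
      (1 ≤ Module.finrank k ↥(V ⊓ FunFld.L (D - Finsupp.single P ((a : ℤ) + 1 : ℤ) - Finsupp.single Q (b : ℤ))) ∧
        2 ≤ Module.finrank k ↥(V ⊓ FunFld.L (D - Finsupp.single P (a : ℤ) - Finsupp.single Q ((b : ℤ) - 1 : ℤ))))) := by
  classical
  have hfin : FiniteDimensional k V := FiniteDimensional.of_finrank_pos (by omega)
  set S : ℤ → ℤ → Submodule k K :=
    fun i j => V ⊓ L (D - Finsupp.single P i - Finsupp.single Q j) with hS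
  set n : ℤ → ℤ → ℕ := fun i j => Module.finrank k ↥(S i j) with hn
  have hSfin : ∀ i j, FiniteDimensional k (S i j) := fun i j =>
    Submodule.finiteDimensional_of_le (inf_le_left : S i j ≤ V)
  have hle : ∀ i j i' j', i ≤ i' → j ≤ j' → S i' j' ≤ S i j := fun i j i' j' hi hj =>
    inf_le_inf_left _ (Groth.FunFld1.L_mono (sub_le_sub (sub_le_sub_left
      (Finsupp.single_le_single.2 hi) D) (Finsupp.single_le_single.2 hj)))
  have hmono : ∀ i j i' j', i ≤ i' → j ≤ j' → n i' j' ≤ n i j := fun i j i' j' hi hj =>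
    Submodule.finrank_mono (hle i j i' j' hi hj)
  have hd := fun R : Place k K => deg_eq_one_of_isAlgClosed (IsFF.of_isFunctionField hK) R
  have hdrop : ∀ (R : Place k K) (E : Divisor k K),
      Module.finrank k ↥(V ⊓ L E) ≤ Module.finrank k ↥(V ⊓ L (E - Finsupp.single R 1)) + 1 :=
    fun R E => finrank_inf_L_step hK hd V E R
  have hdropP : ∀ i j, n i j ≤ n (i + 1) j + 1 := fun i j => by
    have h := hdrop P (D - Finsupp.single P i - Finsupp.single Q j)
    rwa [show D - Finsupp.single P i - Finsupp.single Q j - Finsupp.single P (1 : ℤ) =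
      D - Finsupp.single P (i + 1) - Finsupp.single Q j by rw [Finsupp.single_add]; abel] at h
  have hdropQ : ∀ i j, n i j ≤ n i (j + 1) + 1 := fun i j => by
    have h := hdrop Q (D - Finsupp.single P i - Finsupp.single Q j)
    rwa [show D - Finsupp.single P i - Finsupp.single Q j - Finsupp.single Q (1 : ℤ) =
      D - Finsupp.single P i - Finsupp.single Q (j + 1) by rw [Finsupp.single_add]; abel] at h
  -- two coordinates intersect to the larger one
  have hinf : ∀ i j i' j', i' ≤ i → j ≤ j' → S i j ⊓ S i' j' ≤ S i j' := by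
    rintro i j i' j' hi hj x ⟨h1, h2⟩
    refine ⟨h1.1, fun R => ?_⟩
    rcases eq_or_ne R P with e | hP
    · have := h1.2 R
      simp only [e, Finsupp.sub_apply, Finsupp.single_eq_same, Finsupp.single_eq_of_ne hPQ,
        sub_zero] at this ⊢
      exact this
    · have := h2.2 R
      simp only [Finsupp.sub_apply, Finsupp.single_eq_of_ne hP, sub_zero] at this ⊢
      exact this
  set A : ℤ := (a : ℤ)
  set B : ℤ := (b : ℤ)
  change ((2 ≤ n A (B - 1) ∨ 1 ≤ n A (B + 1)) ∧ (2 ≤ n (A - 1) B ∨ 1 ≤ n (A + 1) B)) ↔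
    (1 ≤ n (A + 1) (B + 1) ∨ 3 ≤ n (A - 1) (B - 1) ∨ (1 ≤ n A (B + 1) ∧ 2 ≤ n (A - 1) B) ∨
      (1 ≤ n (A + 1) B ∧ 2 ≤ n A (B - 1)))
  constructor
  · rintro ⟨h1 | h1, h2 | h2⟩
    · by_cases h3 : 3 ≤ n (A - 1) (B - 1)
      · exact Or.inr (Or.inl h3)
      have e1 : S A (B - 1) = S (A - 1) (B - 1) :=
        Submodule.eq_of_le_of_finrank_le (hle _ _ _ _ (by omega) le_rfl) (by
          change n (A - 1) (B - 1) ≤ n A (B - 1); omega)
      have e2 : S (A - 1) B = S (A - 1) (B - 1) :=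
        Submodule.eq_of_le_of_finrank_le (hle _ _ _ _ le_rfl (by omega)) (by
          change n (A - 1) (B - 1) ≤ n (A - 1) B; omega)
      have e3 : n A (B - 1) ≤ n A B := Submodule.finrank_mono (by
        refine le_trans (le_inf le_rfl ?_) (hinf A (B - 1) (A - 1) B (by omega) (by omega))
        rw [e2, e1])
      have e4 := hdropQ A B
      exact Or.inr (Or.inr (Or.inl ⟨by omega, h2⟩))
    · exact Or.inr (Or.inr (Or.inr ⟨h2, h1⟩))
    · exact Or.inr (Or.inr (Or.inl ⟨h1, h2⟩))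
    · by_cases h3 : 2 ≤ n A B
      · have := hmono A (B - 1) A B le_rfl (by omega)
        exact Or.inr (Or.inr (Or.inr ⟨h2, by omega⟩))
      have hA := hmono A B A (B + 1) le_rfl (by omega)
      have hB := hmono A B (A + 1) B (by omega) le_rfl
      have e1 : S A (B + 1) = S A B :=
        Submodule.eq_of_le_of_finrank_le (hle _ _ _ _ le_rfl (by omega)) (by
          change n A B ≤ n A (B + 1); omega)
      have e2 : S (A + 1) B = S A B :=
        Submodule.eq_of_le_of_finrank_le (hle _ _ _ _ (by omega) le_rfl) (by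
          change n A B ≤ n (A + 1) B; omega)
      have e3 : n A B ≤ n (A + 1) (B + 1) := Submodule.finrank_mono (by
        refine le_trans (le_inf ?_ ?_) (hinf (A + 1) B A (B + 1) (by omega) (by omega))
        · exact e2.ge
        · exact e1.ge)
      exact Or.inl (by omega)
  · rintro (h | h | ⟨h1, h2⟩ | ⟨h1, h2⟩)
    · exact ⟨Or.inr (h.trans (hmono _ _ _ _ (by omega) le_rfl)),
        Or.inr (h.trans (hmono _ _ _ _ le_rfl (by omega)))⟩
    · have h1 := hdropP (A - 1) (B - 1)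
      have h2 := hdropQ (A - 1) (B - 1)
      rw [sub_add_cancel] at h1 h2
      exact ⟨Or.inl (by omega), Or.inl (by omega)⟩
    · exact ⟨Or.inr h1, Or.inl h2⟩
    · exact ⟨Or.inl h2, Or.inr h1⟩

end Groth.Agent.S16265
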