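import Groth.Statements.S16266
import Groth.Agent.Funfld2.Small.RR

set_option autoImplicit false
open FunFld Groth.FunFld1

namespace Groth.Agent.S16266

/-- Let `K/k` be a function field of one variable over an algebraically closed field `k` of
characteristic zero, `D` a divisor, `V ⊆ L(D)` a linear system of dimension `r + 1` with `r ≥ 1`,
and `P` a place with `V' = V(-P) = V ∩ L(D - P) ≠ V`, an `r`-dimensional system in `L(D - P)`.
Assume that neither `V` nor `V'` has a special ramification point (a place of weight at least two):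
for every place `R`, `dim V ∩ L(D - rR) ≤ 1`, `V ∩ L(D - (r+2)R) = 0`, `dim V' ∩ L(D - P - (r-1)R) ≤
1` and `V' ∩ L(D - P - (r+1)R) = 0`. Then no place `Q ≠ P` is a ramification point of both `V` and
`V'`: for no such `Q` are both `V ∩ L(D - (r+1)Q)` and `V' ∩ L(D - P - rQ)` nonzero. (The published
statement is for a smooth curve over the complex numbers.) -/
theorem result
    (k K : Type*) [Field k] [IsAlgClosed k] [CharZero k] [Field K] [Algebra k K]
    (hK : FunFld.IsFunctionField k K) (D : FunFld.Divisor k K)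
    (V : Submodule k K) (hVD : V ≤ FunFld.L D) (r : ℕ) (hr : Module.finrank k ↥V = r + 1) (hr1 : 1 ≤ r)
    (P : FunFld.Place k K) (hP : V ⊓ FunFld.L (D - Finsupp.single P 1) ≠ V)
    (hns : ∀ R : FunFld.Place k K,
      Module.finrank k ↥(V ⊓ FunFld.L (D - Finsupp.single R (r : ℤ))) ≤ 1 ∧
        V ⊓ FunFld.L (D - Finsupp.single R ((r : ℤ) + 2)) = ⊥)
    (hns' : ∀ R : FunFld.Place k K,
      Module.finrank k ↥(V ⊓ FunFld.L (D - Finsupp.single P 1 - Finsupp.single R ((r : ℤ) - 1))) ≤ 1 ∧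
        V ⊓ FunFld.L (D - Finsupp.single P 1 - Finsupp.single R ((r : ℤ) + 1)) = ⊥)
    (Q : FunFld.Place k K) (hQP : Q ≠ P) :
    ¬ (V ⊓ FunFld.L (D - Finsupp.single Q ((r : ℤ) + 1)) ≠ ⊥ ∧
       V ⊓ FunFld.L (D - Finsupp.single P 1 - Finsupp.single Q (r : ℤ)) ≠ ⊥) := by
  classical
  rintro ⟨h1, h2⟩
  obtain ⟨f, hf, hf0⟩ := Submodule.exists_mem_ne_zero_of_ne_bot h1
  obtain ⟨h, hh, hh0⟩ := Submodule.exists_mem_ne_zero_of_ne_bot h2
  have hfin : FiniteDimensional k V := FiniteDimensional.of_finrank_pos (by omega)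
  have hle1 := (hns Q).1
  set W := V ⊓ L (D - Finsupp.single Q (r : ℤ)) with hW
  have : FiniteDimensional k W := Submodule.finiteDimensional_of_le (inf_le_left : W ≤ V)
  have hfW : f ∈ W := ⟨hf.1, Groth.FunFld1.L_mono
    (sub_le_sub_left (Finsupp.single_le_single.2 (by omega)) D) hf.2⟩
  have hhW : h ∈ W := ⟨hh.1, Groth.FunFld1.L_mono
    (sub_le_sub_right (sub_le_self _ (by simp)) _) hh.2⟩
  obtain ⟨v, hv⟩ := finrank_le_one_iff.1 hle1
  obtain ⟨a, ha⟩ := hv ⟨f, hfW⟩
  obtain ⟨b, hb⟩ := hv ⟨h, hhW⟩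
  replace ha : a • (v : K) = f := congrArg Subtype.val ha
  replace hb : b • (v : K) = h := congrArg Subtype.val hb
  have hb0 : b ≠ 0 := fun e => hh0 (by rw [← hb, e, zero_smul])
  have hfh : f = (a / b) • h := by rw [← hb, smul_smul, div_mul_cancel₀ _ hb0, ha]
  refine hf0 ((Submodule.eq_bot_iff _).1 (hns' Q).2 f ⟨hf.1, fun R => ?_⟩)
  rcases eq_or_ne R Q with e | hR
  · have := hf.2 R
    rw [e, Finsupp.sub_apply] at this
    rw [e, Finsupp.sub_apply, Finsupp.sub_apply, Finsupp.single_eq_of_ne hQP, sub_zero]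
    exact this
  · have h3 : h ∈ L (D - Finsupp.single P (1 : ℤ) - Finsupp.single Q (r : ℤ)) := hh.2
    have := (hfh ▸ Submodule.smul_mem _ (a / b) h3 :
      f ∈ L (D - Finsupp.single P (1 : ℤ) - Finsupp.single Q (r : ℤ))) R
    rw [Finsupp.sub_apply, Finsupp.single_eq_of_ne hR, sub_zero] at this
    rw [Finsupp.sub_apply, Finsupp.single_eq_of_ne hR, sub_zero]
    exact this

end Groth.Agent.S16266
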