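import Groth.Statements.S16277
import Groth.Agent.HodgeDivisor.Main
import Groth.Agent.Variety2.ProjBasics
-- import your own Groth.Agent.* helpers here

set_option autoImplicit false
set_option backward.isDefEq.respectTransparency.types false
universe u
open CategoryTheory CategoryTheory.Limits AlgebraicGeometry
open HodgeNum

namespace Groth.Agent.S16277

/-- Let k be an algebraically closed field of characteristic p > 0, X a smooth projective k-variety of
dimension n + 1 (an integral k-scheme, smooth of relative dimension n + 1 over k, with a closed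
immersion into some P^N_k over k) and L an ample invertible O_X-module. Then for d large enough
every smooth divisor Y in the linear system of L^{⊗d} satisfies h^{p,q}(Y) = h^{p,q}(X) for p + q ≤
n - 1: there is d₀ such that for all d ≥ d₀, every M with M ⊗ L^{⊗d} ≅ O_X, every closed subscheme Y
of X which is smooth of relative dimension n over k and whose ideal sheaf is isomorphic to M, all p,
q with p + q ≤ n - 1, every p-th exterior power F of Ω_{Y/k} and every p-th exterior power E of
Ω_{X/k}, the k-vector spaces H^q(Y, F) and H^q(X, E) have the same dimension. (The published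
statement assumes L very ample; its argument only uses that L is ample, which is what is assumed
here.) -/
theorem result (k : Type u) [Field k] [IsAlgClosed k]
    (pc : ℕ) [Fact pc.Prime] [CharP k pc] (n N : ℕ)
    (X : Scheme.{u}) [X.Over (Spec (CommRingCat.of k))] [IsIntegral X]
    [SmoothOfRelativeDimension (n + 1) (X ↘ Spec (CommRingCat.of k))]
    (ι : X ⟶ CohB1.ProjSpace N k) [IsClosedImmersion ι] (hι : ι ≫ CohB1.ProjSpace.toSpec N k = X ↘ Spec (CommRingCat.of k))
    (L : X.Modules) (hL : CohB1.IsAmple L) :
    ∃ d₀ : ℕ, ∀ d : ℕ, d₀ ≤ d → ∀ M : X.Modules, ClSub.IsInverseOf M (CohB1.tensorPow L d) →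
      ∀ (I : X.IdealSheafData) [I.subscheme.Over (Spec (CommRingCat.of k))],
        I.subscheme ↘ Spec (CommRingCat.of k) = I.subschemeι ≫ X ↘ Spec (CommRingCat.of k) → Nonempty (ClSub.idealMod I ≅ M) →
        SmoothOfRelativeDimension n (I.subscheme ↘ Spec (CommRingCat.of k)) →
        ∀ p q : ℕ, p + q + 1 ≤ n →
          ∀ F : I.subscheme.Modules, ExtPow.IsExtPow p (Omega.sheaf (I.subscheme ↘ Spec (CommRingCat.of k))) F →
          ∀ E : X.Modules, ExtPow.IsExtPow p (Omega.sheaf (X ↘ Spec (CommRingCat.of k))) E →
            Module.finrank k (Coh.HH I.subscheme F q) = Module.finrank k (Coh.HH X E q) := by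
  haveI := Groth.Variety2.isProper_projSpace_toSpec N k
  let f := X ↘ Spec (CommRingCat.of k)
  haveI : AlgebraicGeometry.IsProper f := by
    show AlgebraicGeometry.IsProper (X ↘ Spec (CommRingCat.of k))
    rw [← hι]; infer_instance
  haveI : AlgebraicGeometry.Smooth f := SmoothOfRelativeDimension.smooth (n + 1) f
  haveI : IsLocallyNoetherian X := LocallyOfFiniteType.isLocallyNoetherian f
  have hA := Groth.LocFree.isFinLocFree_of_rank (Groth.OmegaSheaf.isFinLocFreeOfRank_sheaf f (n + 1))
  haveI := Groth.KTheory.LocFree.isQCoh hA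
  obtain ⟨L', -, hL'⟩ := Groth.PicAux.exists_isInverseOf hL.1
  choose m₀ hm₀ using fun p : Fin (n + 1) => Groth.LefVanish.exists_subsingleton_negPow k f hL hL'
    _ (Groth.KTheory.LocFree.isCoh (Groth.LocFree.isFinLocFree_extPow hA p.1)) (n + 1)
    fun z hz => Groth.HodgeDivisor.le_depth_of_smooth (f := f) (Groth.LocFree.isFinLocFree_extPow hA p.1) z hz
  refine ⟨Finset.univ.sup m₀, fun d hd M hM I _ hover hI hsm p q hpq F hF E hE => ?_⟩
  have hM' : PicF.IsInvertible M := Groth.PicAux.isInvertible_of_isInverseOf
    (Groth.PicAux.isInvertible_tensorPow hL.1 d) (Groth.PicAux.isInverseOf_symm hM)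
  refine Groth.HodgeDivisor.finrank_eq hM' I hI hover (fun e he p q h => ?_) p q hpq F hF E hE
  have hde : m₀ ⟨p, by omega⟩ ≤ d * e :=
    ((Finset.le_sup (f := m₀) (Finset.mem_univ _)).trans hd).trans (Nat.le_mul_of_pos_right d he)
  obtain ⟨u⟩ := Groth.PicAux.isInverseOf_unique
    (Groth.PicAux.isInverseOf_tensorPow hL' (d * e))
    (Groth.PicAux.isInverseOf_symm (Groth.HodgeDivisor.isInverseOf_pow hM e))
  exact Groth.PnCI.subsingleton_congr (PicGrp.tensorModIso (Iso.refl _) u.symm) q
    (hm₀ ⟨p, by omega⟩ (d * e) hde q (by omega))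

end Groth.Agent.S16277
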