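import Groth.Statements.S16280
import Groth.Agent.CohBase.ComposeAcyclic
import Groth.Agent.SheafExt.Coherent
import Groth.Agent.CohFin.BaseLocal
import Groth.Agent.CohFin.ProjFinite
import Groth.Agent.CohTwo.TensorBelow
import Groth.Agent.CohBase.RpushAb
import Groth.Agent.SiteCohomology.Flasque
import Groth.Agent.SiteCohomology.SchemeModules
import Groth.Agent.QCohMod.Coherent
import Groth.Agent.CohTwo.QCohExt
import Groth.Agent.RDerLib.LES

set_option autoImplicit false
universe u
open CategoryTheory CategoryTheory.Limits AlgebraicGeometry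
open Coherent

namespace Groth.Agent.S16280

set_option backward.isDefEq.respectTransparency false

/-- Coherent modules are closed under kernels, cokernels and extensions. -/
lemma closed_isCoh {Y : Scheme.{u}} [IsLocallyNoetherian Y] :
    Groth.CohTwo.ComposeCoh.Closed (Coh.IsCoh (X := Y)) where
  iso e h := Groth.QCohMod.isCoh_of_iso e h
  ker f hA hB := by haveI := hB.1; exact Groth.QCohMod.isCoh_kernel f hA
  coker f hA hB := by haveI := hA.1; exact Groth.QCohMod.isCoh_cokernel f hB
  ext hS h₁ h₃ := by
    haveI := h₁.1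
    haveI := h₃.1
    haveI := Groth.CohTwo.QCohExt.isQCoh_of_shortExact hS
    exact Groth.QCohMod.isCoh_of_shortExact hS h₁ h₃

/-- The sheaf of maps into an injective module has no higher direct images. -/
lemma isZero_rpush_sheafHom_injective {X Y : Scheme.{u}} (f : X ⟶ Y) (F Q : X.Modules) [Injective Q]
    [ModSite.HasSheafHom (O := X.sheaf) F] [HasInjectiveResolutions X.Modules] (q : ℕ) :
    IsZero (((Scheme.Modules.pushforward f).rightDerived (q + 1)).obj
      ((ModSite.sheafHom (O := X.sheaf) F : X.Modules ⥤ X.Modules).obj Q)) := by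
  haveI := Groth.CohTwo.LocFreeExt.hasSheafHom F
  let H : X.Modules := (ModSite.sheafHom (O := X.sheaf) F : X.Modules ⥤ X.Modules).obj Q
  haveI hfl : TopCat.Sheaf.IsFlasque (Coh.toAb H) := ⟨fun {U V} i => by
    rw [AddCommGrpCat.epi_iff_surjective]
    intro s
    let e : H ≅ (DCoh.sheafHom F).obj Q := (Groth.CohTwo.LocFreeExt.msIso F).app Q
    obtain ⟨t, ht⟩ := Groth.CohTwo.sheafHom_restriction_surjective F Q
      i.unop.le (Scheme.Modules.Hom.app e.hom V.unop s)
    refine ⟨Scheme.Modules.Hom.app e.inv U.unop t, ?_⟩
    have h1 := congr(($((Scheme.Modules.Hom.mapPresheaf e.inv).naturality (homOfLE i.unop.le).op)) t)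
    refine h1.symm.trans ?_
    refine (congrArg (Scheme.Modules.Hom.app e.inv V.unop) ht).trans ?_
    exact congr((Scheme.Modules.Hom.app $(e.hom_inv_id) V.unop) s)⟩
  obtain ⟨i⟩ := Groth.CohBase.nonempty_toAb_Rpush_iso f (q + 1) (M := H)
  have hz : IsZero (Coh.toAb ((Coh.Rpush f (q + 1)).obj H)) :=
    IsZero.of_iso (Groth.SiteCohomology.isZero_Rpush_top_of_subsingleton f.base (Coh.toAb H) (q + 1)
      fun V => Groth.SiteCohomology.subsingleton_HU_succ_of_flasque (Coh.toAb H) _ q) i
  rw [IsZero.iff_id_eq_zero]
  exact (SheafOfModules.toSheaf Y.ringCatSheaf).map_injective (hz.eq_of_src _ _)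

/-- Let Y be a Noetherian scheme, f : X → Y a morphism admitting a factorisation through a closed
immersion e : X → P^n_Y followed by the projection (a projective morphism), and F, G coherent
O_X-modules. Then for every p ≥ 0 the relative Ext sheaf Ext^p_f(F, G) — the value at G of the p-th
right derived functor of the left exact functor G ↦ f_* Hom_{O_X}(F, G) from O_X-modules to
O_Y-modules — is a coherent O_Y-module. (The internal Hom functor of F, injective resolutions of
O_X-modules and additivity of the composite functor are the stated instance hypotheses, all true.) -/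
theorem result (X Y : Scheme.{u}) [IsNoetherian Y] (f : X ⟶ Y)
    (n : ℕ) (e : X ⟶ CohB1.ProjSpaceOver n Y) [IsClosedImmersion e] (he : e ≫ CohB1.ProjSpaceOver.toBase n Y = f)
    (F G : X.Modules) (hF : Coh.IsCoh F) (hG : Coh.IsCoh G)
    [ModSite.HasSheafHom (O := X.sheaf) F] [HasInjectiveResolutions (ModSite.Mod X.sheaf)]
    [(ModSite.sheafHom (O := X.sheaf) F ⋙ Scheme.Modules.pushforward f).Additive] (p : ℕ) :
    Coh.IsCoh (((ModSite.sheafHom (O := X.sheaf) F ⋙ Scheme.Modules.pushforward f).rightDerived p).obj G) := by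
  haveI : IsProper (CohB1.ProjSpaceOver.toBase n Y) := inferInstance
  haveI : IsProper f := he ▸ inferInstance
  haveI : IsLocallyNoetherian X := LocallyOfFiniteType.isLocallyNoetherian f
  haveI : HasInjectiveResolutions X.Modules := ‹HasInjectiveResolutions (ModSite.Mod X.sheaf)›
  haveI : PreservesFiniteLimits (Scheme.Modules.pushforward f) :=
    (Scheme.Modules.pullbackPushforwardAdjunction f).rightAdjoint_preservesLimits.{0, 0}.preservesFiniteLimits
  haveI : (Scheme.Modules.pushforward f).Additive :=
    (Scheme.Modules.pullbackPushforwardAdjunction f).right_adjoint_additive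
  let A : X.Modules ⥤ X.Modules := ModSite.sheafHom (O := X.sheaf) F
  haveI : A.Additive := ModSite.sheafHom_additive (O := X.sheaf) F
  let R := injectiveResolution (show X.Modules from G)
  let K := (A.mapHomologicalComplex (ComplexShape.up ℕ)).obj R.cocomplex
  obtain ⟨L⟩ := Groth.RDerLib.exists_derivedLES (Scheme.Modules.pushforward f)
  have hK : ∀ i q, IsZero (((Scheme.Modules.pushforward f).rightDerived (q + 1)).obj (K.X i)) :=
    fun i q => isZero_rpush_sheafHom_injective f F (R.cocomplex.X i) q
  have hH : ∀ j, j ≤ p → ∀ q,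
      Coh.IsCoh (((Scheme.Modules.pushforward f).rightDerived q).obj (K.homology j)) := fun j _ q =>
    Groth.CohFin.isCoh_rightDerived_of_proper Groth.CohFin.projFinite f q _
      (Groth.QCohMod.isCoh_of_iso (R.isoRightDerivedObj A j)
        (Groth.SheafExt.isCoh_extSh F G hF hG j))
  refine Groth.QCohMod.isCoh_of_iso
    ((HomologicalComplex.homologyFunctor _ _ p).mapIso
      (Groth.LocCohZBase.DerivedComp.cxIso A (Scheme.Modules.pushforward f) R.cocomplex).symm ≪≫
      (R.isoRightDerivedObj (A ⋙ Scheme.Modules.pushforward f) p).symm) ?_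
  exact Groth.CohBase.ComposeAcyclic.mem_homology_map (Scheme.Modules.pushforward f)
    (P := Coh.IsCoh) closed_isCoh L K hK p hH p le_rfl

end Groth.Agent.S16280
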