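import Groth.Statements.S16281
import Groth.Agent.SheafExt.Restrict
import Groth.Agent.CohFin.BaseLocal
import Groth.Agent.SitesTopoi.Mod.DerivedRestr

set_option autoImplicit false
universe u
open CategoryTheory CategoryTheory.Limits AlgebraicGeometry
open Coherent

namespace Groth.Agent.S16281

/-- Let f : X → Y be a morphism of schemes, F and G O_X-modules, W ⊆ Y an open subscheme and p ≥ 0.
Write Ext^p_f(F, -) for the p-th right derived functor of the left exact functor G ↦ f_*
Hom_{O_X}(F, G) from O_X-modules to O_Y-modules (the relative Ext sheaves). Then the restriction of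
Ext^p_f(F, G) to W is isomorphic to Ext^p_{f'}(F|_{f⁻¹W}, G|_{f⁻¹W}), where f' : f⁻¹W → W is the
restricted morphism. (Stated for schemes, the published statement being for ringed spaces; existence
of an isomorphism of O_W-modules only. The internal Hom functors, injective resolutions and
additivity of the composite functors on X and on f⁻¹W are the stated instance hypotheses, all true.) -/
theorem result (X Y : Scheme.{u}) (f : X ⟶ Y) (W : Y.Opens)
    (F G : X.Modules) (p : ℕ)
    [ModSite.HasSheafHom (O := X.sheaf) F] [HasInjectiveResolutions (ModSite.Mod X.sheaf)]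
    [(ModSite.sheafHom (O := X.sheaf) F ⋙ Scheme.Modules.pushforward f).Additive]
    [ModSite.HasSheafHom (O := (↑(f ⁻¹ᵁ W) : Scheme.{u}).sheaf) (F.restrict (f ⁻¹ᵁ W).ι)]
    [HasInjectiveResolutions (ModSite.Mod (↑(f ⁻¹ᵁ W) : Scheme.{u}).sheaf)]
    [(ModSite.sheafHom (O := (↑(f ⁻¹ᵁ W) : Scheme.{u}).sheaf) (F.restrict (f ⁻¹ᵁ W).ι) ⋙ Scheme.Modules.pushforward (f ∣_ W)).Additive] :
    Nonempty ((Scheme.Modules.restrictFunctor W.ι).obj (((ModSite.sheafHom (O := X.sheaf) F ⋙ Scheme.Modules.pushforward f).rightDerived p).obj G) ≅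
      ((ModSite.sheafHom (O := (↑(f ⁻¹ᵁ W) : Scheme.{u}).sheaf) (F.restrict (f ⁻¹ᵁ W).ι) ⋙ Scheme.Modules.pushforward (f ∣_ W)).rightDerived p).obj
        (G.restrict (f ⁻¹ᵁ W).ι)) := by
  let j := W.ι
  let i := (f ⁻¹ᵁ W).ι
  haveI hlim : PreservesFiniteLimits (Scheme.Modules.restrictFunctor i) :=
    haveI : PreservesLimitsOfSize.{0, 0} (Scheme.Modules.restrictFunctor i) :=
      (CxOX.extZeroAdj i).rightAdjoint_preservesLimits
    PreservesLimitsOfSize.preservesFiniteLimits _
  haveI hcolim : PreservesFiniteColimits (Scheme.Modules.restrictFunctor i) :=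
    haveI : PreservesColimitsOfSize.{0, 0} (Scheme.Modules.restrictFunctor i) :=
      (Scheme.Modules.restrictAdjunction i).leftAdjoint_preservesColimits
    PreservesColimitsOfSize.preservesFiniteColimits _
  haveI : PreservesFiniteLimits (Scheme.Modules.restrictFunctor j) :=
    haveI : PreservesLimitsOfSize.{0, 0} (Scheme.Modules.restrictFunctor j) :=
      (CxOX.extZeroAdj j).rightAdjoint_preservesLimits
    PreservesLimitsOfSize.preservesFiniteLimits _
  haveI : PreservesFiniteColimits (Scheme.Modules.restrictFunctor j) :=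
    haveI : PreservesColimitsOfSize.{0, 0} (Scheme.Modules.restrictFunctor j) :=
      (Scheme.Modules.restrictAdjunction j).leftAdjoint_preservesColimits
    PreservesColimitsOfSize.preservesFiniteColimits _
  haveI : (Scheme.Modules.restrictFunctor i).PreservesInjectiveObjects :=
    ⟨fun {I} _ => Groth.CohTwo.injective_restrict i I⟩
  haveI : HasInjectiveResolutions X.Modules := ‹HasInjectiveResolutions (ModSite.Mod X.sheaf)›
  haveI : HasInjectiveResolutions (↑(f ⁻¹ᵁ W) : Scheme.{u}).Modules :=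
    ‹HasInjectiveResolutions (ModSite.Mod (↑(f ⁻¹ᵁ W) : Scheme.{u}).sheaf)›
  let A : X.Modules ⥤ Y.Modules := ModSite.sheafHom (O := X.sheaf) F ⋙ Scheme.Modules.pushforward f
  let B : (↑(f ⁻¹ᵁ W) : Scheme.{u}).Modules ⥤ (↑W : Scheme.{u}).Modules :=
    ModSite.sheafHom (O := (↑(f ⁻¹ᵁ W) : Scheme.{u}).sheaf) (F.restrict i) ⋙
      Scheme.Modules.pushforward (f ∣_ W)
  haveI : A.Additive :=
    ‹(ModSite.sheafHom (O := X.sheaf) F ⋙ Scheme.Modules.pushforward f).Additive›
  haveI : B.Additive :=
    ‹(ModSite.sheafHom (O := (↑(f ⁻¹ᵁ W) : Scheme.{u}).sheaf) (F.restrict i) ⋙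
      Scheme.Modules.pushforward (f ∣_ W)).Additive›
  haveI := Groth.CohFin.isIso_baseLocalNat f W
  let b := asIso (Groth.CohFin.baseLocalNat f W)
  let h : A ⋙ Scheme.Modules.restrictFunctor j ≅ Scheme.Modules.restrictFunctor i ⋙ B :=
    Functor.associator _ _ _ ≪≫ Functor.isoWhiskerLeft _ b ≪≫ (Functor.associator _ _ _).symm ≪≫
      Functor.isoWhiskerRight (Groth.SheafExt.sheafHomRestrictIso i F)
        (Scheme.Modules.pushforward (f ∣_ W)) ≪≫ Functor.associator _ _ _
  obtain ⟨c⟩ := Groth.SheafExt.nonempty_rightDerived_comp_exact A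
    (Scheme.Modules.restrictFunctor j) p G
  exact ⟨c.symm ≪≫ (Groth.SitesTopoi.ModH.rightDerivedIso h p).app G ≪≫
    (Groth.LocCohZBase.DerivedComp.rightDerivedCompIso (Scheme.Modules.restrictFunctor i) B p).app G⟩

end Groth.Agent.S16281
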