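import Groth.Statements.S16282
import Groth.Agent.ProjFormula.Derived
import Groth.Agent.SitesTopoi.Mod.DerivedRestr

set_option autoImplicit false
universe u
open CategoryTheory CategoryTheory.Limits AlgebraicGeometry
open Coherent

namespace Groth.Agent.S16282

open Groth.CohTwo.LocFreeExt (tR flipIso msDual assocFlip preservesFinite_tR)
open Groth.CohTwo.SheafHomIso (tF)
open Groth.SitesTopoi.ModH (rightDerivedIso)

set_option backward.isDefEq.respectTransparency false

/-- Let f : X → Y be a morphism of schemes, F and G O_X-modules, L a finite locally free O_X-module with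
dual L^∨ = Hom_{O_X}(L, O_X), N a finite locally free O_Y-module and p ≥ 0. Write Ext^p_f(M, -) for
the p-th right derived functor of the left exact functor G ↦ f_* Hom_{O_X}(M, G) from O_X-modules to
O_Y-modules. Then Ext^p_f(F ⊗ L, G ⊗ f^*N) is isomorphic to Ext^p_f(F, G ⊗ L^∨) ⊗ N. (Stated for
schemes, the published statement being for ringed spaces and a chain of two functorial isomorphisms;
existence of an isomorphism of O_Y-modules only. The internal Hom functors, injective resolutions
and additivity of the composite functors are the stated instance hypotheses, all true.) -/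
theorem result (X Y : Scheme.{u}) (f : X ⟶ Y) (F G L : X.Modules) (N : Y.Modules)
    (hL : FlatMod.IsFinLocFree L) (hN : FlatMod.IsFinLocFree N) (p : ℕ)
    [ModSite.HasSheafHom (O := X.sheaf) F] [ModSite.HasSheafHom (O := X.sheaf) L]
    [ModSite.HasSheafHom (O := X.sheaf) (CohB1.tensorMod F L)] [HasInjectiveResolutions (ModSite.Mod X.sheaf)]
    [(ModSite.sheafHom (O := X.sheaf) F ⋙ Scheme.Modules.pushforward f).Additive]
    [(ModSite.sheafHom (O := X.sheaf) (CohB1.tensorMod F L) ⋙ Scheme.Modules.pushforward f).Additive] :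
    Nonempty (((ModSite.sheafHom (O := X.sheaf) (CohB1.tensorMod F L) ⋙ Scheme.Modules.pushforward f).rightDerived p).obj
        (CohB1.tensorMod G ((Scheme.Modules.pullback f).obj N)) ≅
      CohB1.tensorMod (((ModSite.sheafHom (O := X.sheaf) F ⋙ Scheme.Modules.pushforward f).rightDerived p).obj
        (CohB1.tensorMod G ((ModSite.sheafHom (O := X.sheaf) L).obj (Coh.structureModule X)))) N) := by
  haveI : HasInjectiveResolutions X.Modules := ‹HasInjectiveResolutions (ModSite.Mod X.sheaf)›
  let fN := (Scheme.Modules.pullback f).obj N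
  have hfN : FlatMod.IsFinLocFree fN := Groth.LocFree.isFinLocFree_pullback f hN
  have hLd := Groth.CohTwo.LocFreeExt.isFinLocFree_msDual hL
  let A0 : X.Modules ⥤ X.Modules := ModSite.sheafHom (O := X.sheaf) F
  let A0' : X.Modules ⥤ X.Modules := ModSite.sheafHom (O := X.sheaf) (CohB1.tensorMod F L)
  let adjF : tR F ⊣ A0 := ModSite.sheafHomAdj (O := X.sheaf) F
  let adjFL : tR (CohB1.tensorMod F L) ⊣ A0' :=
    ModSite.sheafHomAdj (O := X.sheaf) (CohB1.tensorMod F L)
  obtain ⟨eL⟩ := Groth.CohTwo.LocFreeExt.nonempty_sheafHom_iso_tensor hL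
  let adjL : tR L ⊣ tR (msDual L) :=
    (ModSite.sheafHomAdj (O := X.sheaf) L : tR L ⊣ _).ofNatIsoRight eL
  -- `Hom(F ⊗ L, -) = Hom(F, - ⊗ L^∨)`
  let h1 : A0' ≅ tR (msDual L) ⋙ A0 :=
    Adjunction.rightAdjointUniq adjFL ((adjF.comp adjL).ofNatIsoLeft (assocFlip F L))
  -- tensoring with `f^*N` commutes with `Hom(F, -)`
  obtain ⟨E', adjE⟩ : ∃ E' : X.Modules, Nonempty (tR E' ⊣ tR fN) := by
    have := Groth.ProjFormula.isIso_bidualMap hfN
    have := Groth.CohTwo.LocFreeExt.hasSheafHom (Groth.CohTwo.LocFreeDual.dual fN)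
    have hD : FlatMod.IsFinLocFree (Groth.CohTwo.LocFreeDual.dual fN) :=
      Groth.LocFree.isFinLocFree_homSh hfN (Groth.LocFree.isFinLocFree_unit X)
    exact ⟨_, ⟨((Groth.CohTwo.LocFreeDual.dualAdj hD).ofNatIsoLeft
      (flipIso _).symm).ofNatIsoRight
        (((DCoh.tensorBi (X := X)).mapIso (asIso (RefHull.bidualMap fN)).symm) ≪≫
          (flipIso fN).symm)⟩⟩
  obtain ⟨adjE⟩ := adjE
  let brE : tR (CohB1.tensorMod F E') ≅ tR (CohB1.tensorMod E' F) :=
    (DCoh.tensorBi (X := X)).flip.mapIso (Groth.PicAux.exists_braiding F E').choose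
  let h2 : tR fN ⋙ A0 ≅ A0 ⋙ tR fN :=
    Adjunction.rightAdjointUniq (adjF.comp adjE)
      ((adjE.comp adjF).ofNatIsoLeft (assocFlip E' F ≪≫ brE.symm ≪≫ (assocFlip F E').symm))
  let h3 : Scheme.Modules.pushforward f ⋙ tR N ≅ tR fN ⋙ Scheme.Modules.pushforward f :=
    Functor.isoWhiskerLeft _ (flipIso N) ≪≫ Groth.ProjFormula.pfIso f N hN ≪≫
      Functor.isoWhiskerRight (flipIso fN).symm _
  let A : X.Modules ⥤ Y.Modules := A0 ⋙ Scheme.Modules.pushforward f
  let A' : X.Modules ⥤ Y.Modules := A0' ⋙ Scheme.Modules.pushforward f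
  haveI : A.Additive :=
    ‹(ModSite.sheafHom (O := X.sheaf) F ⋙ Scheme.Modules.pushforward f).Additive›
  haveI : A'.Additive :=
    ‹(ModSite.sheafHom (O := X.sheaf) (CohB1.tensorMod F L) ⋙ Scheme.Modules.pushforward f).Additive›
  haveI := Groth.CohTwo.LocFreeExt.additive_tR (msDual L)
  haveI := Groth.CohTwo.LocFreeExt.additive_tR fN
  haveI := Groth.CohTwo.LocFreeExt.additive_tR N
  haveI := (preservesFinite_tR hLd).1
  haveI := (preservesFinite_tR hLd).2
  haveI := (preservesFinite_tR hfN).1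
  haveI := (preservesFinite_tR hfN).2
  haveI := (preservesFinite_tR hN).1
  haveI := (preservesFinite_tR hN).2
  haveI : (tR (msDual L)).PreservesInjectiveObjects :=
    haveI := (preservesFinite_tR hL).1
    Functor.preservesInjectiveObjects_of_adjunction_of_preservesMonomorphisms adjL
  haveI : (tR fN).PreservesInjectiveObjects :=
    haveI := Groth.ProjFormula.preservesInjectiveObjects_tF hfN
    ⟨fun {I} hI => Injective.of_iso ((flipIso fN).app I).symm
      (Functor.PreservesInjectiveObjects.injective_obj (F := tF fN) hI)⟩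
  let hA' : A' ≅ tR (msDual L) ⋙ A :=
    Functor.isoWhiskerRight h1 _ ≪≫ Functor.associator _ _ _
  let hN' : tR fN ⋙ A ≅ A ⋙ tR N :=
    (Functor.associator _ _ _).symm ≪≫ Functor.isoWhiskerRight h2 _ ≪≫ Functor.associator _ _ _ ≪≫
      Functor.isoWhiskerLeft A0 h3.symm ≪≫ (Functor.associator _ _ _).symm
  let brL : tR fN ⋙ tR (msDual L) ≅ tR (msDual L) ⋙ tR fN :=
    assocFlip fN (msDual L) ≪≫
      (DCoh.tensorBi (X := X)).flip.mapIso (Groth.PicAux.exists_braiding fN (msDual L)).choose ≪≫
      (assocFlip (msDual L) fN).symm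
  obtain ⟨c⟩ := Groth.ProjFormula.nonempty_rightDerived_postcomp A (tR N) p
    ((tR (msDual L)).obj G)
  exact ⟨(rightDerivedIso hA' p).app _ ≪≫
    (Groth.LocCohZBase.DerivedComp.rightDerivedCompIso (tR (msDual L)) A p).app _ ≪≫
    (A.rightDerived p).mapIso (brL.app G) ≪≫
    ((Groth.LocCohZBase.DerivedComp.rightDerivedCompIso (tR fN) A p).app _).symm ≪≫
    (rightDerivedIso hN' p).app _ ≪≫ c⟩

end Groth.Agent.S16282
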