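import Groth.Statements.S16283
import Groth.Agent.Misc7.GSS.Composite
import Groth.Agent.CohTwo.TensorBelow
import Groth.Agent.CohTwo.LocFreeExt
import Groth.Agent.CohBase.RpushAb
import Groth.Agent.SiteCohomology.Flasque
import Groth.Agent.SiteCohomology.HigherDirectImage
import Groth.Agent.SiteCohomology.SchemeModules

set_option autoImplicit false
universe u
open CategoryTheory CategoryTheory.Limits AlgebraicGeometry ZeroObject
open Coherent

namespace Groth.Agent.S16283

/-- Let f : X → Y and g : Y → Z be morphisms of schemes, h = g ∘ f, and F, G O_X-modules. For a morphism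
u out of X write Ext^b_u(F, -) for the b-th right derived functor of the left exact functor G ↦ u_*
Hom_{O_X}(F, G) from O_X-modules. Then there is an E₂ spectral sequence of O_Z-modules with E₂^{a,b}
≅ R^a g_*(Ext^b_f(F, G)) for a, b ≥ 0 (and 0 otherwise), bounded, abutting with finite filtrations
to Ext^n_h(F, G) (n ≥ 0; 0 for n < 0). (Stated for schemes, the published statement being for ringed
spaces. Existence only: the E₂ identifications and the abutment are some isomorphisms. The internal
Hom functor of F, injective resolutions on X and Y and additivity of the composite functors are the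
stated instance hypotheses, all true.) -/
theorem result (X Y Z : Scheme.{u}) (f : X ⟶ Y) (g : Y ⟶ Z)
    (F G : X.Modules)
    [ModSite.HasSheafHom (O := X.sheaf) F] [HasInjectiveResolutions (ModSite.Mod X.sheaf)] [HasInjectiveResolutions Y.Modules]
    [(ModSite.sheafHom (O := X.sheaf) F ⋙ Scheme.Modules.pushforward f).Additive]
    [(ModSite.sheafHom (O := X.sheaf) F ⋙ Scheme.Modules.pushforward (f ≫ g)).Additive] :
    ∃ (E : E₂CohomologicalSpectralSequence Z.Modules)
      (a : SpSeq.Abutment E (fun n : ℤ =>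
        if 0 ≤ n then ((ModSite.sheafHom (O := X.sheaf) F ⋙ Scheme.Modules.pushforward (f ≫ g)).rightDerived n.toNat).obj G else (0 : Z.Modules))),
      (∀ n : ℤ, a.IsFinite n) ∧ SpSeq.IsBounded E ∧
      ∀ p q : ℤ, Nonempty ((E.page 2 le_rfl).X (p, q) ≅
        (if 0 ≤ p ∧ 0 ≤ q then (Coh.Rpush g p.toNat).obj (((ModSite.sheafHom (O := X.sheaf) F ⋙ Scheme.Modules.pushforward f).rightDerived q.toNat).obj G)
          else (0 : Z.Modules))) := by
  haveI : PreservesFiniteLimits (Scheme.Modules.pushforward g) :=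
    (Scheme.Modules.pullbackPushforwardAdjunction g).rightAdjoint_preservesLimits.{0, 0}.preservesFiniteLimits
  refine Groth.Misc7.GSS.exists_composite (ModSite.sheafHom (O := X.sheaf) F ⋙ Scheme.Modules.pushforward f)
    (Scheme.Modules.pushforward g) (fun Q hQ q => ?_) G _ (fun n => ?_) (fun n hn => ?_)
    (fun p q => if 0 ≤ p ∧ 0 ≤ q then
      (Coh.Rpush g p.toNat).obj (((ModSite.sheafHom (O := X.sheaf) F ⋙ Scheme.Modules.pushforward f).rightDerived q.toNat).obj G)
      else (0 : Z.Modules)) (fun p q => ?_) (fun p q h => ?_)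
  · haveI := Groth.CohTwo.LocFreeExt.hasSheafHom F
    let H := (ModSite.sheafHom (O := X.sheaf) F ⋙ Scheme.Modules.pushforward f).obj Q
    haveI hfl : TopCat.Sheaf.IsFlasque (Coh.toAb H) := ⟨fun {U V} i => by
      rw [AddCommGrpCat.epi_iff_surjective]
      intro s
      let e : ((ModSite.sheafHom (O := X.sheaf) F : X.Modules ⥤ X.Modules).obj Q : X.Modules) ≅ (DCoh.sheafHom F).obj Q :=
        (Groth.CohTwo.LocFreeExt.msIso F).app Q
      haveI : @Injective X.Modules _ Q := hQ
      obtain ⟨t, ht⟩ := Groth.CohTwo.sheafHom_restriction_surjective F Q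
        (f.preimage_mono i.unop.le) (Scheme.Modules.Hom.app e.hom (f ⁻¹ᵁ V.unop) s)
      refine ⟨Scheme.Modules.Hom.app e.inv (f ⁻¹ᵁ U.unop) t, ?_⟩
      have h1 := congr(($((Scheme.Modules.Hom.mapPresheaf e.inv).naturality (homOfLE (f.preimage_mono i.unop.le)).op)) t)
      refine h1.symm.trans ?_
      refine (congrArg (Scheme.Modules.Hom.app e.inv (f ⁻¹ᵁ V.unop)) ht).trans ?_
      exact congr((Scheme.Modules.Hom.app $(e.hom_inv_id) (f ⁻¹ᵁ V.unop)) s)⟩
    obtain ⟨i⟩ := Groth.CohBase.nonempty_toAb_Rpush_iso g (q + 1) (M := H)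
    have hz : IsZero (Coh.toAb ((Coh.Rpush g (q + 1)).obj H)) :=
      IsZero.of_iso (Groth.SiteCohomology.isZero_Rpush_top_of_subsingleton g.base (Coh.toAb H) (q + 1)
        fun V => Groth.SiteCohomology.subsingleton_HU_succ_of_flasque (Coh.toAb H) _ q) i
    rw [IsZero.iff_id_eq_zero]
    exact (SheafOfModules.toSheaf Z.ringCatSheaf).map_injective (hz.eq_of_src _ _)
  · obtain ⟨e⟩ := Groth.SiteCohomology.nonempty_rightDerived_comp_exact
      (ModSite.sheafHom (O := X.sheaf) F ⋙ Scheme.Modules.pushforward (f ≫ g)) (𝟭 _)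
      ((ModSite.sheafHom (O := X.sheaf) F ⋙ Scheme.Modules.pushforward f) ⋙ Scheme.Modules.pushforward g)
      (Functor.associator _ _ _ ≪≫ Functor.isoWhiskerLeft _ (Scheme.Modules.pushforwardComp f g) ≪≫
        (Functor.rightUnitor _).symm) G n
    exact ⟨e ≪≫ eqToIso (by simp)⟩
  · simp only [not_le.2 hn, if_false]; exact isZero_zero _
  · exact ⟨eqToIso (by simp)⟩
  · simp only [h, if_false]; exact isZero_zero _

end Groth.Agent.S16283
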