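import Groth.Statements.S16284
import Groth.Agent.CohBase.ComposeAcyclic
import Groth.Agent.S16280
import Groth.Agent.ProjFormula.Derived
import Groth.Agent.SitesTopoi.Mod.DerivedRestr
import Groth.Agent.CohBase.RelAmpleVanish
import Groth.Agent.KTheory.RegSheaf
import Groth.Agent.Chow.VeryAmplePn
import Groth.Agent.Variety2.ProjBasics
import Groth.Agent.S2427

set_option autoImplicit false
universe u
open CategoryTheory CategoryTheory.Limits AlgebraicGeometry
open Coherent

namespace Groth.Agent.S16284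

open Groth.CohTwo.LocFreeExt (tR flipIso msDual assocFlip preservesFinite_tR)
open Groth.CohTwo.SheafHomIso (tF)
open Groth.SitesTopoi.ModH (rightDerivedIso)

set_option backward.isDefEq.respectTransparency false

/-- Relative Ext sheaves commute with twists from the base. -/
lemma nonempty_relExt_twist {X Y : Scheme.{u}} (f : X ⟶ Y) (F G : X.Modules) (N : Y.Modules)
    (hN : FlatMod.IsFinLocFree N) (p : ℕ)
    [ModSite.HasSheafHom (O := X.sheaf) F] [HasInjectiveResolutions (ModSite.Mod X.sheaf)]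
    [(ModSite.sheafHom (O := X.sheaf) F ⋙ Scheme.Modules.pushforward f).Additive] :
    Nonempty (((ModSite.sheafHom (O := X.sheaf) F ⋙ Scheme.Modules.pushforward f).rightDerived p).obj
        (CohB1.tensorMod G ((Scheme.Modules.pullback f).obj N)) ≅
      CohB1.tensorMod
        (((ModSite.sheafHom (O := X.sheaf) F ⋙ Scheme.Modules.pushforward f).rightDerived p).obj G) N) := by
  haveI : HasInjectiveResolutions X.Modules := ‹HasInjectiveResolutions (ModSite.Mod X.sheaf)›
  let fN := (Scheme.Modules.pullback f).obj N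
  have hfN : FlatMod.IsFinLocFree fN := Groth.LocFree.isFinLocFree_pullback f hN
  let A0 : X.Modules ⥤ X.Modules := ModSite.sheafHom (O := X.sheaf) F
  let adjF : tR F ⊣ A0 := ModSite.sheafHomAdj (O := X.sheaf) F
  obtain ⟨E', ⟨adjE⟩⟩ : ∃ E' : X.Modules, Nonempty (tR E' ⊣ tR fN) := by
    have := Groth.ProjFormula.isIso_bidualMap hfN
    have := Groth.CohTwo.LocFreeExt.hasSheafHom (Groth.CohTwo.LocFreeDual.dual fN)
    have hD : FlatMod.IsFinLocFree (Groth.CohTwo.LocFreeDual.dual fN) :=
      Groth.LocFree.isFinLocFree_homSh hfN (Groth.LocFree.isFinLocFree_unit X)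
    exact ⟨_, ⟨((Groth.CohTwo.LocFreeDual.dualAdj hD).ofNatIsoLeft
      (flipIso _).symm).ofNatIsoRight
        (((DCoh.tensorBi (X := X)).mapIso (asIso (RefHull.bidualMap fN)).symm) ≪≫
          (flipIso fN).symm)⟩⟩
  let brE : tR (CohB1.tensorMod F E') ≅ tR (CohB1.tensorMod E' F) :=
    (DCoh.tensorBi (X := X)).flip.mapIso (Groth.PicAux.exists_braiding F E').choose
  let h2 : tR fN ⋙ A0 ≅ A0 ⋙ tR fN :=
    Adjunction.rightAdjointUniq (adjF.comp adjE)
      ((adjE.comp adjF).ofNatIsoLeft (assocFlip E' F ≪≫ brE.symm ≪≫ (assocFlip F E').symm))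
  let h3 : Scheme.Modules.pushforward f ⋙ tR N ≅ tR fN ⋙ Scheme.Modules.pushforward f :=
    Functor.isoWhiskerLeft _ (flipIso N) ≪≫ Groth.ProjFormula.pfIso f N hN ≪≫
      Functor.isoWhiskerRight (flipIso fN).symm _
  let A : X.Modules ⥤ Y.Modules := A0 ⋙ Scheme.Modules.pushforward f
  haveI : A.Additive :=
    ‹(ModSite.sheafHom (O := X.sheaf) F ⋙ Scheme.Modules.pushforward f).Additive›
  haveI := Groth.CohTwo.LocFreeExt.additive_tR fN
  haveI := Groth.CohTwo.LocFreeExt.additive_tR N
  haveI := (preservesFinite_tR hfN).1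
  haveI := (preservesFinite_tR hfN).2
  haveI := (preservesFinite_tR hN).1
  haveI := (preservesFinite_tR hN).2
  haveI : (tR fN).PreservesInjectiveObjects :=
    haveI := Groth.ProjFormula.preservesInjectiveObjects_tF hfN
    ⟨fun {I} hI => Injective.of_iso ((flipIso fN).app I).symm
      (Functor.PreservesInjectiveObjects.injective_obj (F := tF fN) hI)⟩
  let hN' : tR fN ⋙ A ≅ A ⋙ tR N :=
    (Functor.associator _ _ _).symm ≪≫ Functor.isoWhiskerRight h2 _ ≪≫ Functor.associator _ _ _ ≪≫
      Functor.isoWhiskerLeft A0 h3.symm ≪≫ (Functor.associator _ _ _).symm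
  obtain ⟨c⟩ := Groth.ProjFormula.nonempty_rightDerived_postcomp A (tR N) p G
  exact ⟨((Groth.LocCohZBase.DerivedComp.rightDerivedCompIso (tR fN) A p).app _).symm ≪≫
    (rightDerivedIso hN' p).app _ ≪≫ c⟩

/-- The pushforward of the sheaf of maps into an injective module has no higher direct images. -/
lemma isZero_rpush_push_sheafHom_injective {X Y Z : Scheme.{u}} (f : X ⟶ Y) (g : Y ⟶ Z)
    (F Q : X.Modules) [Injective Q] [ModSite.HasSheafHom (O := X.sheaf) F]
    [HasInjectiveResolutions Y.Modules] (q : ℕ) :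
    IsZero (((Scheme.Modules.pushforward g).rightDerived (q + 1)).obj
      ((Scheme.Modules.pushforward f).obj
        ((ModSite.sheafHom (O := X.sheaf) F : X.Modules ⥤ X.Modules).obj Q))) := by
  haveI := Groth.CohTwo.LocFreeExt.hasSheafHom F
  let H0 : X.Modules := (ModSite.sheafHom (O := X.sheaf) F : X.Modules ⥤ X.Modules).obj Q
  let H : Y.Modules := (Scheme.Modules.pushforward f).obj H0
  haveI hfl : TopCat.Sheaf.IsFlasque (Coh.toAb H) := ⟨fun {U V} i => by
    rw [AddCommGrpCat.epi_iff_surjective]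
    intro s
    let e : H0 ≅ (DCoh.sheafHom F).obj Q := (Groth.CohTwo.LocFreeExt.msIso F).app Q
    obtain ⟨t, ht⟩ := Groth.CohTwo.sheafHom_restriction_surjective F Q
      (f.preimage_mono i.unop.le) (Scheme.Modules.Hom.app e.hom (f ⁻¹ᵁ V.unop) s)
    refine ⟨Scheme.Modules.Hom.app e.inv (f ⁻¹ᵁ U.unop) t, ?_⟩
    have h1 := congr(($((Scheme.Modules.Hom.mapPresheaf e.inv).naturality
      (homOfLE (f.preimage_mono i.unop.le)).op)) t)
    refine h1.symm.trans ?_
    refine (congrArg (Scheme.Modules.Hom.app e.inv (f ⁻¹ᵁ V.unop)) ht).trans ?_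
    exact congr((Scheme.Modules.Hom.app $(e.hom_inv_id) (f ⁻¹ᵁ V.unop)) s)⟩
  obtain ⟨i⟩ := Groth.CohBase.nonempty_toAb_Rpush_iso g (q + 1) (M := H)
  have hz : IsZero (Coh.toAb ((Coh.Rpush g (q + 1)).obj H)) :=
    IsZero.of_iso (Groth.SiteCohomology.isZero_Rpush_top_of_subsingleton g.base (Coh.toAb H) (q + 1)
      fun V => Groth.SiteCohomology.subsingleton_HU_succ_of_flasque (Coh.toAb H) _ q) i
  rw [IsZero.iff_id_eq_zero]
  exact (SheafOfModules.toSheaf Z.ringCatSheaf).map_injective (hz.eq_of_src _ _)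

/-- Let Z be a Noetherian scheme, g : Y → Z a morphism factoring through a closed immersion e' : Y →
P^m_Z followed by the projection, O_Y(l) = e'^*O(l), f : X → Y a morphism factoring through a closed
immersion X → P^n_Y followed by the projection, h = g ∘ f, and F, G coherent O_X-modules. For a
morphism u out of X write Ext^p_u(F, -) for the p-th right derived functor of the left exact functor
G ↦ u_* Hom_{O_X}(F, G). Then for every p ≥ 0 there is l₀ such that for all l ≥ l₀ the O_Z-module
g_* Ext^p_f(F, G ⊗ f^*O_Y(l)) is isomorphic to Ext^p_h(F, G ⊗ f^*O_Y(l)). (Existence of an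
isomorphism of O_Z-modules only. The internal Hom functor of F, injective resolutions and additivity
of the composite functors are the stated instance hypotheses, all true.) -/
theorem result (Z : Scheme.{u}) [IsNoetherian Z] (m : ℕ)
    (Y : Scheme.{u}) (g : Y ⟶ Z) (e' : Y ⟶ CohB1.ProjSpaceOver m Z) [IsClosedImmersion e']
    (he' : e' ≫ CohB1.ProjSpaceOver.toBase m Z = g)
    (n : ℕ) (X : Scheme.{u}) (f : X ⟶ Y) (e : X ⟶ CohB1.ProjSpaceOver n Y) [IsClosedImmersion e]
    (he : e ≫ CohB1.ProjSpaceOver.toBase n Y = f)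
    (F G : X.Modules) (hF : Coh.IsCoh F) (hG : Coh.IsCoh G) (p : ℕ)
    [ModSite.HasSheafHom (O := X.sheaf) F] [HasInjectiveResolutions (ModSite.Mod X.sheaf)]
    [(ModSite.sheafHom (O := X.sheaf) F ⋙ Scheme.Modules.pushforward f).Additive]
    [(ModSite.sheafHom (O := X.sheaf) F ⋙ Scheme.Modules.pushforward (f ≫ g)).Additive] :
    ∃ l₀ : ℕ, ∀ l : ℕ, l₀ ≤ l →
      Nonempty ((Scheme.Modules.pushforward g).obj (((ModSite.sheafHom (O := X.sheaf) F ⋙ Scheme.Modules.pushforward f).rightDerived p).obj
          (CohB1.tensorMod G ((Scheme.Modules.pullback f).obj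
            ((Scheme.Modules.pullback e').obj (Twist.twistOver m Z (l : ℤ)))))) ≅
        ((ModSite.sheafHom (O := X.sheaf) F ⋙ Scheme.Modules.pushforward (f ≫ g)).rightDerived p).obj
          (CohB1.tensorMod G ((Scheme.Modules.pullback f).obj
            ((Scheme.Modules.pullback e').obj (Twist.twistOver m Z (l : ℤ)))))) := by
  haveI := Groth.Variety2.isProper_projSpaceOver_toBase m Z
  haveI : IsProper g := he' ▸ inferInstance
  haveI : IsLocallyNoetherian Y := LocallyOfFiniteType.isLocallyNoetherian g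
  haveI : CompactSpace Y := QuasiCompact.compactSpace_of_compactSpace g
  haveI : IsNoetherian Y := {}
  haveI : HasInjectiveResolutions X.Modules := ‹HasInjectiveResolutions (ModSite.Mod X.sheaf)›
  haveI : HasInjectiveResolutions Y.Modules := inferInstance
  haveI : PreservesFiniteLimits (Scheme.Modules.pushforward g) :=
    (Scheme.Modules.pullbackPushforwardAdjunction g).rightAdjoint_preservesLimits.{0, 0}.preservesFiniteLimits
  haveI : (Scheme.Modules.pushforward g).Additive :=
    (Scheme.Modules.pullbackPushforwardAdjunction g).right_adjoint_additive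
  let L := (Scheme.Modules.pullback e').obj (Twist.twistOver m Z 1)
  have hL : PicF.IsInvertible L := Groth.PicAux.isInvertible_pullback e'
    (Groth.KTheory.RegSheaf.isInvertible_twistOver m Z 1)
  have ha : ∀ W : Z.Opens, IsAffineOpen W → CohB1.IsAmple (L.restrict (g ⁻¹ᵁ W).ι) := by
    have h := (Groth.Agent.S2427.isRelAmple_twistOver m e').2
    rw [he'] at h
    exact fun W hW => h ⟨W, hW⟩
  let A : X.Modules ⥤ Y.Modules := ModSite.sheafHom (O := X.sheaf) F ⋙ Scheme.Modules.pushforward f
  haveI : A.Additive :=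
    ‹(ModSite.sheafHom (O := X.sheaf) F ⋙ Scheme.Modules.pushforward f).Additive›
  have hExt : ∀ j, Coh.IsCoh ((A.rightDerived j).obj G) := fun j =>
    Groth.Agent.S16280.result X Y f n e he F G hF hG j
  choose n₀ hn₀ using fun j => Groth.CohBase.exists_isZero_Rpush_of_relAmple g L hL ha _ (hExt j)
  refine ⟨(Finset.range (p + 1)).sup n₀, fun l hl => ?_⟩
  obtain ⟨eT⟩ := Groth.Agent.S2427.nonempty_tensorPow_twistOver m Z l
  obtain ⟨eP⟩ := Groth.PicAux.pullback_tensorPow e' (Twist.twistOver m Z 1) l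
  let Ll := (Scheme.Modules.pullback e').obj (Twist.twistOver m Z (l : ℤ))
  let eL : Ll ≅ CohB1.tensorPow L l := (Scheme.Modules.pullback e').mapIso eT.symm ≪≫ eP
  have hLl : FlatMod.IsFinLocFree Ll :=
    Groth.LocFree.isFinLocFree_pullback e' (Groth.KTheory.RegSheaf.isFinLocFree_twistOver m Z l)
  let G' := CohB1.tensorMod G ((Scheme.Modules.pullback f).obj Ll)
  let R := injectiveResolution (show X.Modules from G')
  let K := (A.mapHomologicalComplex (ComplexShape.up ℕ)).obj R.cocomplex
  obtain ⟨Δ⟩ := Groth.RDerLib.exists_derivedLES (Scheme.Modules.pushforward g)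
  have hK : ∀ i q, IsZero (((Scheme.Modules.pushforward g).rightDerived (q + 1)).obj (K.X i)) :=
    fun i q => isZero_rpush_push_sheafHom_injective f g F (R.cocomplex.X i) q
  have hH : ∀ j, j ≤ p → ∀ q,
      IsZero (((Scheme.Modules.pushforward g).rightDerived (q + 1)).obj (K.homology j)) := by
    intro j hj q
    obtain ⟨c⟩ := nonempty_relExt_twist f F G Ll hLl j
    refine (hn₀ j l ((Finset.le_sup (Finset.mem_range.2 (Nat.lt_succ_of_le hj))).trans hl)
      (q + 1) q.succ_pos).of_iso ?_
    exact ((Scheme.Modules.pushforward g).rightDerived (q + 1)).mapIso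
      ((R.isoRightDerivedObj A j).symm ≪≫ c ≪≫
        PicGrp.tensorModIso (Iso.refl _) eL)
  obtain ⟨i⟩ := Groth.CohBase.ComposeAcyclic.nonempty_homology_map_iso
    (Scheme.Modules.pushforward g) Δ K hK p hH
  let B : X.Modules ⥤ Z.Modules :=
    ModSite.sheafHom (O := X.sheaf) F ⋙ Scheme.Modules.pushforward (f ≫ g)
  haveI : B.Additive :=
    ‹(ModSite.sheafHom (O := X.sheaf) F ⋙ Scheme.Modules.pushforward (f ≫ g)).Additive›
  let b : A ⋙ Scheme.Modules.pushforward g ≅ B :=
    Functor.associator _ _ _ ≪≫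
      Functor.isoWhiskerLeft _ (Scheme.Modules.pushforwardComp f g)
  exact ⟨(Scheme.Modules.pushforward g).mapIso (R.isoRightDerivedObj A p) ≪≫ i.symm ≪≫
    ((HomologicalComplex.homologyFunctor _ _ p).mapIso
      (Groth.LocCohZBase.DerivedComp.cxIso A (Scheme.Modules.pushforward g) R.cocomplex).symm ≪≫
      (R.isoRightDerivedObj (A ⋙ Scheme.Modules.pushforward g) p).symm) ≪≫
    (rightDerivedIso b p).app _⟩

end Groth.Agent.S16284
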