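import Groth.Statements.S16289
import Mathlib
import Groth.Agent.SheafExt.HomComplex
import Groth.Agent.LocCohZBase.Connecting
import Groth.Agent.Misc4.FreeOn

set_option autoImplicit false
universe u
open CategoryTheory CategoryTheory.Limits AlgebraicGeometry
open Coherent

namespace Groth.Agent.S16289

open Groth.SheafExt

/-- Hom into an injective module turns monomorphisms into sectionwise surjections. -/
lemma sheafHomMap_app_surjective {X : Scheme.{u}} {M M' : ModSite.Mod X.sheaf}
    [ModSite.HasSheafHom M] [ModSite.HasSheafHom M'] (g : M' ⟶ M) [Mono g]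
    (I : ModSite.Mod X.sheaf) [Injective I] (U : X.Opens) :
    Function.Surjective (Groth.SitesTopoi.ModH.apm ((ExtSupp.sheafHomMap g).app I).val U) := by
  intro s
  let H := ModSite.freeOn X.sheaf U
  let x : H ⟶ (ModSite.sheafHom M').obj I := (Groth.Misc4.FreeOn.homEquiv U _).symm s
  have := Groth.SitesTopoi.ModH.isFlat_tensorObj (Groth.Misc4.FreeOn.isFlat_freeOn (O := X.sheaf) U)
  have : Mono (((ModSite.tensorBi X.sheaf).obj H).map g) := inferInstance
  let y : ((ModSite.tensorBi X.sheaf).obj H).obj M ⟶ I :=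
    Injective.factorThru ((curry M').symm x) (((ModSite.tensorBi X.sheaf).obj H).map g)
  refine ⟨Groth.Misc4.FreeOn.homEquiv U _ (curry M y), ?_⟩
  rw [← Groth.Misc4.FreeOn.homEquiv_comp]
  have h : curry M y ≫ (ExtSupp.sheafHomMap g).app I = x := by
    apply (curry M').symm.injective
    rw [curry_symm_comp, Equiv.symm_apply_apply, Injective.comp_factorThru]
  rw [h, Equiv.apply_symm_apply]

lemma epi_of_app_surjective {X : Scheme.{u}} {M N : X.Modules} (p : M ⟶ N)
    (h : ∀ U, Function.Surjective (p.app U)) : Epi p := by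
  refine (Scheme.Modules.toPresheaf X).epi_of_epi_map ?_
  have : ∀ U, Epi (((Scheme.Modules.toPresheaf X).map p).app U) := fun U =>
    ConcreteCategory.epi_of_surjective _ (h U.unop)
  exact NatTrans.epi_of_epi_app _

section

variable {C : Type*} [Category C] [Abelian C] [HasInjectiveResolutions C]
  {D : Type*} [Category D] [Abelian D] {G K P : C ⥤ D} [G.Additive] [K.Additive] [P.Additive]

/-- The long exact sequence of right derived functors of a sequence of functors exact on injectives. -/
lemma longExact (a : G ⟶ K) (b : K ⟶ P) (w : a ≫ b = 0)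
    (hex : ∀ I : C, Injective I →
      (ShortComplex.mk (a.app I) (b.app I) (congrArg (fun t : G ⟶ P => t.app I) w)).ShortExact)
    (X : C) :
    Mono ((NatTrans.rightDerived a 0).app X) ∧
    (∀ p : ℕ, ∃ w : (NatTrans.rightDerived a p).app X ≫ (NatTrans.rightDerived b p).app X = 0,
      (ShortComplex.mk _ _ w).Exact) ∧
    ∃ δ : ∀ p : ℕ, (P.rightDerived p).obj X ⟶ (G.rightDerived (p + 1)).obj X,
      ∀ p : ℕ,
        (∃ w : (NatTrans.rightDerived b p).app X ≫ δ p = 0, (ShortComplex.mk _ _ w).Exact) ∧
        (∃ w : δ p ≫ (NatTrans.rightDerived a (p + 1)).app X = 0,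
          (ShortComplex.mk _ _ w).Exact) := by
  let R := injectiveResolution X
  have hS := Groth.LocCohZBase.Connecting.seq_shortExact G K P a b w hex R
  let S := Groth.LocCohZBase.Connecting.seq G K P a b w R
  let δ : ∀ p : ℕ, (P.rightDerived p).obj X ⟶ (G.rightDerived (p + 1)).obj X := fun p =>
    (R.isoRightDerivedObj P p).hom ≫ hS.δ p (p + 1) (by simp) ≫
      (R.isoRightDerivedObj G (p + 1)).inv
  have ea : ∀ p, (NatTrans.rightDerived a p).app X = (R.isoRightDerivedObj G p).hom ≫
      HomologicalComplex.homologyMap S.f p ≫ (R.isoRightDerivedObj K p).inv := fun p =>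
    R.rightDerived_app_eq a p
  have eb : ∀ p, (NatTrans.rightDerived b p).app X = (R.isoRightDerivedObj K p).hom ≫
      HomologicalComplex.homologyMap S.g p ≫ (R.isoRightDerivedObj P p).inv := fun p =>
    R.rightDerived_app_eq b p
  have key : ∀ {A₁ A₂ A₃ B₁ B₂ B₃ : D} (e₁ : A₁ ≅ B₁) (e₂ : A₂ ≅ B₂) (e₃ : A₃ ≅ B₃)
      (f' : B₁ ⟶ B₂) (g' : B₂ ⟶ B₃) (w' : f' ≫ g' = 0) (_ : (ShortComplex.mk f' g' w').Exact)
      (f : A₁ ⟶ A₂) (g : A₂ ⟶ A₃) (_ : f = e₁.hom ≫ f' ≫ e₂.inv) (_ : g = e₂.hom ≫ g' ≫ e₃.inv),
      ∃ w : f ≫ g = 0, (ShortComplex.mk f g w).Exact := by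
    intro A₁ A₂ A₃ B₁ B₂ B₃ e₁ e₂ e₃ f' g' w' h f g hf hg
    have w : f ≫ g = 0 := by
      rw [hf, hg, Category.assoc, Category.assoc, Iso.inv_hom_id_assoc, reassoc_of% w', zero_comp,
        comp_zero]
    exact ⟨w, (ShortComplex.exact_iff_of_iso (ShortComplex.isoMk e₁ e₂ e₃ (by simp [hf])
      (by simp [hg]))).2 h⟩
  refine ⟨?_, fun p => ?_, δ, fun p => ⟨?_, ?_⟩⟩
  · rw [ea]
    have := hS.mono_f
    have h0 : Mono (HomologicalComplex.homologyMap S.f 0) :=
      HomologicalComplex.mono_homologyMap_of_mono_of_not_rel S.f 0 (by simp)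
    exact mono_comp' inferInstance (mono_comp' h0 inferInstance)
  · exact key _ _ _ _ _ _ (hS.homology_exact₂ p) _ _ (ea p) (eb p)
  · exact key _ _ _ _ _ _ (hS.homology_exact₃ p (p + 1) (by simp)) _ _ (eb p) rfl
  · exact key _ _ _ _ _ _ (hS.homology_exact₁ p (p + 1) (by simp)) _ _ rfl (ea (p + 1))

end

/-- For relative Ext sheaves in the first variable; let f : X → Y be a morphism of schemes, 0 → F' → F →
F'' → 0 a short exact sequence of O_X-modules (S below, with S.X₁ = F', S.X₂ = F, S.X₃ = F'') and G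
an O_X-module. For an O_X-module M write Ext^p_f(M, -) for the p-th right derived functor of the
left exact functor G ↦ f_* Hom_{O_X}(M, G), and for u : M' → M write u^* : Ext^p_f(M, G) →
Ext^p_f(M', G) for the map induced (right derived natural transformation) by Hom(M, -) → Hom(M', -).
Then Ext^0_f(F'', G) → Ext^0_f(F, G) is a monomorphism, for every p the pair Ext^p_f(F'', G) →
Ext^p_f(F, G) → Ext^p_f(F', G) composes to zero and is exact, and there are connecting morphisms δ_p
: Ext^p_f(F', G) → Ext^{p+1}_f(F'', G) making Ext^p_f(F, G) → Ext^p_f(F', G) → Ext^{p+1}_f(F'', G)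
and Ext^p_f(F', G) → Ext^{p+1}_f(F'', G) → Ext^{p+1}_f(F, G) compose to zero and exact. (Stated for
schemes, the published statement being for ringed spaces; the connecting maps are asserted to exist
only. The internal Hom functors, injective resolutions and additivity of the composite functors are
the stated instance hypotheses, all true.) -/
theorem result (X Y : Scheme.{u}) (f : X ⟶ Y) (S : ShortComplex X.Modules) (hS : S.ShortExact)
    (G : X.Modules)
    [ModSite.HasSheafHom (O := X.sheaf) S.X₁] [ModSite.HasSheafHom (O := X.sheaf) S.X₂] [ModSite.HasSheafHom (O := X.sheaf) S.X₃]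
    [HasInjectiveResolutions (ModSite.Mod X.sheaf)]
    [(ModSite.sheafHom (O := X.sheaf) S.X₁ ⋙ Scheme.Modules.pushforward f).Additive]
    [(ModSite.sheafHom (O := X.sheaf) S.X₂ ⋙ Scheme.Modules.pushforward f).Additive]
    [(ModSite.sheafHom (O := X.sheaf) S.X₃ ⋙ Scheme.Modules.pushforward f).Additive] :
    Mono ((NatTrans.rightDerived (Functor.whiskerRight (ExtSupp.sheafHomMap (O := X.sheaf) S.g) (Scheme.Modules.pushforward f)) 0).app G) ∧
    (∀ p : ℕ, ∃ w : (NatTrans.rightDerived (Functor.whiskerRight (ExtSupp.sheafHomMap (O := X.sheaf) S.g) (Scheme.Modules.pushforward f)) p).app G ≫ (NatTrans.rightDerived (Functor.whiskerRight (ExtSupp.sheafHomMap (O := X.sheaf) S.f) (Scheme.Modules.pushforward f)) p).app G = 0,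
      (ShortComplex.mk _ _ w).Exact) ∧
    ∃ δ : ∀ p : ℕ, ((ModSite.sheafHom (O := X.sheaf) S.X₁ ⋙ Scheme.Modules.pushforward f).rightDerived p).obj G ⟶ ((ModSite.sheafHom (O := X.sheaf) S.X₃ ⋙ Scheme.Modules.pushforward f).rightDerived (p + 1)).obj G,
      ∀ p : ℕ,
        (∃ w : (NatTrans.rightDerived (Functor.whiskerRight (ExtSupp.sheafHomMap (O := X.sheaf) S.f) (Scheme.Modules.pushforward f)) p).app G ≫ δ p = 0, (ShortComplex.mk _ _ w).Exact) ∧
        (∃ w : δ p ≫ (NatTrans.rightDerived (Functor.whiskerRight (ExtSupp.sheafHomMap (O := X.sheaf) S.g) (Scheme.Modules.pushforward f)) (p + 1)).app G = 0, (ShortComplex.mk _ _ w).Exact) := by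
  have hadd : (Scheme.Modules.pushforward f).Additive := by
    have : PreservesLimitsOfSize.{0, 0} (Scheme.Modules.pushforward f) :=
      (Scheme.Modules.pullbackPushforwardAdjunction f).rightAdjoint_preservesLimits
    exact Functor.additive_of_preserves_binary_products _
  have hz : ∀ (M N : X.Modules), (Scheme.Modules.pushforward f).map (0 : M ⟶ N) = 0 :=
    fun M N => Functor.map_zero _ _ _
  refine longExact (Functor.whiskerRight (ExtSupp.sheafHomMap (O := X.sheaf) S.g) (Scheme.Modules.pushforward f))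
    (Functor.whiskerRight (ExtSupp.sheafHomMap (O := X.sheaf) S.f) (Scheme.Modules.pushforward f))
    ?_ ?_ G
  · ext I : 2
    simp only [NatTrans.comp_app, Functor.whiskerRight_app, ← Functor.map_comp]
    erw [sheafHomMap_comp_eq_zero S.f S.g S.zero I]
    exact hz _ _
  intro I hI
  have : PreservesLimitsOfSize.{0, 0} (Scheme.Modules.pushforward f) :=
    (Scheme.Modules.pullbackPushforwardAdjunction f).rightAdjoint_preservesLimits
  let F : ModSite.Mod X.sheaf ⥤ Y.Modules := Scheme.Modules.pushforward f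
  have : PreservesLimitsOfSize.{0, 0} F :=
    (Scheme.Modules.pullbackPushforwardAdjunction f).rightAdjoint_preservesLimits
  have : PreservesFiniteLimits F := inferInstance
  have : F.Additive := Functor.additive_of_preserves_binary_products _
  have hm : Mono (homSeq (O := X.sheaf) S I).f := @mono_homSeq _ _ _ X.sheaf S _ _ hS.epi_g I
  have hex : (homSeq (O := X.sheaf) S I).Exact := exact_homSeq_of_injective S hS.exact I
  have h1 := hex.map_of_mono_of_preservesKernel F hm inferInstance
  exact
    { exact := h1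
      mono_f := F.map_mono (homSeq (O := X.sheaf) S I).f
      epi_g := epi_of_app_surjective _ fun V => by
        exact @sheafHomMap_app_surjective X _ _ _ _ S.f hS.mono_f I _ (f ⁻¹ᵁ V) }

end Groth.Agent.S16289
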