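import Groth.Statements.S16286
import Mathlib
import Groth.Agent.S16289
import Groth.Agent.SitesTopoi.Mod.TensorExact

set_option autoImplicit false
universe u
open CategoryTheory CategoryTheory.Limits AlgebraicGeometry
open Coherent

namespace Groth.Agent.S16286

open Groth.SheafExt

/-- Homology from a kernel and a cokernel. -/
lemma nonempty_homology_iso {A : Type*} [Category A] [Abelian A] {a b c k h : A} (f : a ⟶ b)
    (g : b ⟶ c) (w : f ≫ g = 0) (ι : k ⟶ b) [Mono ι] (wι : ι ≫ g = 0)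
    (hι : (ShortComplex.mk ι g wι).Exact) (f' : a ⟶ k) (hf : f' ≫ ι = f) (p : k ⟶ h) [Epi p]
    (wp : f' ≫ p = 0) (hp : (ShortComplex.mk f' p wp).Exact) :
    Nonempty ((ShortComplex.mk f g w).homology ≅ h) := by
  have hl : hι.fIsKernel.lift (KernelFork.ofι f w) = f' := by
    refine Fork.IsLimit.hom_ext hι.fIsKernel ?_
    rw [Fork.IsLimit.lift_ι]
    exact hf.symm
  let D : (ShortComplex.mk f g w).LeftHomologyData :=
    { K := k
      H := h
      i := ι
      π := p
      wi := wι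
      hi := hι.fIsKernel
      wπ := (congrArg (· ≫ p) hl).trans wp
      hπ := CokernelCofork.IsColimit.ofπ' _ _ fun {Z} t ht =>
        ⟨hp.desc t ((congrArg (· ≫ t) hl).symm.trans ht), hp.g_desc t _⟩ }
  exact ⟨D.homologyIso⟩

section

variable {X Y : Scheme.{u}} (Φ : ModSite.Mod X.sheaf ⥤ Y.Modules) [PreservesFiniteLimits Φ]
  [HasInjectiveResolutions (ModSite.Mod X.sheaf)]
  [∀ M : ModSite.Mod X.sheaf, ModSite.HasSheafHom M]
  [∀ M : ModSite.Mod X.sheaf, (ModSite.sheafHom M ⋙ Φ).Additive]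
  (G : ModSite.Mod X.sheaf)

/-- `Φ Hom(M, G)`. -/
noncomputable abbrev T (M : ModSite.Mod X.sheaf) : Y.Modules := (ModSite.sheafHom M ⋙ Φ).obj G

/-- Functoriality of `T`. -/
noncomputable abbrev Tmap {M M' : ModSite.Mod X.sheaf} (g : M' ⟶ M) : T Φ G M ⟶ T Φ G M' :=
  (Functor.whiskerRight (ExtSupp.sheafHomMap g) Φ).app G

lemma Tmap_zero' {M M' M'' : ModSite.Mod X.sheaf} (f : M'' ⟶ M') (g : M' ⟶ M) (w : f ≫ g = 0) :
    Tmap Φ G g ≫ Tmap Φ G f = 0 := by
  have : Φ.Additive := Functor.additive_of_preserves_binary_products _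
  show Φ.map _ ≫ Φ.map _ = 0
  rw [← Φ.map_comp, sheafHomMap_comp_eq_zero f g w]
  exact Φ.map_zero _ _

lemma Tmap_comp {M M' M'' : ModSite.Mod X.sheaf} (f : M'' ⟶ M') (g : M' ⟶ M) :
    Tmap Φ G g ≫ Tmap Φ G f = Tmap Φ G (f ≫ g) := by
  show Φ.map _ ≫ Φ.map _ = Φ.map _
  rw [← Φ.map_comp]
  congr 1
  apply (curry M'').symm.injective
  rw [curry_symm_comp, ← Category.id_comp ((ExtSupp.sheafHomMap g).app G), curry_symm_comp,
    ← Category.id_comp ((ExtSupp.sheafHomMap (f ≫ g)).app G), curry_symm_comp, ← Category.assoc,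
    ← Functor.map_comp]

/-- The derived functors at `G`. -/
noncomputable abbrev R (p : ℕ) (M : ModSite.Mod X.sheaf) : Y.Modules :=
  ((ModSite.sheafHom M ⋙ Φ).rightDerived p).obj G

lemma isIso_zero (M : ModSite.Mod X.sheaf) :
    IsIso ((ModSite.sheafHom M ⋙ Φ).toRightDerivedZero.app G) := by
  have : PreservesLimitsOfSize.{0, 0} (ModSite.sheafHom M) :=
    (ModSite.sheafHomAdj M).rightAdjoint_preservesLimits
  infer_instance

lemma exists_left_exact (S : ShortComplex (ModSite.Mod X.sheaf)) (hS : S.Exact) [Epi S.g] :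
    Mono (Tmap Φ G S.g) ∧
      (ShortComplex.mk (Tmap Φ G S.g) (Tmap Φ G S.f) (Tmap_zero' Φ G _ _ S.zero)).Exact := by
  have : Φ.Additive := Functor.additive_of_preserves_binary_products _
  have hm : Mono (homSeq S G).f := mono_homSeq S G
  exact ⟨Φ.map_mono (homSeq S G).f,
    (exact_homSeq S hS G).map_of_mono_of_preservesKernel Φ hm inferInstance⟩

variable (hΦ : ∀ (M M' : ModSite.Mod X.sheaf) (g : M' ⟶ M) (I : ModSite.Mod X.sheaf), Mono g →
  Injective I → Epi (Φ.map ((ExtSupp.sheafHomMap g).app I)))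

include hΦ in
lemma shortExact_injective (S : ShortComplex (ModSite.Mod X.sheaf)) (hS : S.ShortExact)
    (I : ModSite.Mod X.sheaf) [Injective I] :
    (ShortComplex.mk (Tmap Φ I S.g) (Tmap Φ I S.f) (Tmap_zero' Φ I _ _ S.zero)).ShortExact := by
  have := hS.epi_g
  obtain ⟨h1, h2⟩ := exists_left_exact Φ I S hS.exact
  exact { exact := h2, mono_f := h1, epi_g := hΦ _ _ _ I hS.mono_f inferInstance }

include hΦ in
/-- The connecting isomorphisms for a short exact sequence with acyclic middle. -/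
lemma shift (S : ShortComplex (ModSite.Mod X.sheaf)) (hS : S.ShortExact)
    (hac : ∀ p, 1 ≤ p → IsZero (R Φ G p S.X₂)) :
    (∀ p, Nonempty (R Φ G (p + 1) S.X₁ ≅ R Φ G (p + 2) S.X₃)) ∧
      ∃ (θ : T Φ G S.X₁ ⟶ R Φ G 1 S.X₃) (w : Tmap Φ G S.f ≫ θ = 0),
        Epi θ ∧ (ShortComplex.mk _ _ w).Exact := by
  let a : ModSite.sheafHom S.X₃ ⋙ Φ ⟶ ModSite.sheafHom S.X₂ ⋙ Φ :=
    Functor.whiskerRight (ExtSupp.sheafHomMap S.g) Φ
  let b : ModSite.sheafHom S.X₂ ⋙ Φ ⟶ ModSite.sheafHom S.X₁ ⋙ Φ :=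
    Functor.whiskerRight (ExtSupp.sheafHomMap S.f) Φ
  have w : a ≫ b = 0 := by ext I : 2; exact Tmap_zero' Φ I _ _ S.zero
  obtain ⟨-, -, δ, hδ⟩ := Groth.Agent.S16289.longExact a b w
    (fun I _ => shortExact_injective Φ hΦ S hS I) G
  refine ⟨fun p => ?_, ?_⟩
  · obtain ⟨w1, h1⟩ := (hδ (p + 1)).1
    obtain ⟨w2, h2⟩ := (hδ (p + 1)).2
    have : Mono (δ (p + 1)) := h1.mono_g ((hac (p + 1) (by omega)).eq_of_src _ _)
    have : Epi (δ (p + 1)) := h2.epi_f ((hac (p + 2) (by omega)).eq_of_tgt _ _)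
    have := isIso_of_mono_of_epi (δ (p + 1))
    exact ⟨asIso (δ (p + 1))⟩
  · obtain ⟨w1, h1⟩ := (hδ 0).1
    obtain ⟨w2, h2⟩ := (hδ 0).2
    have hepi : Epi (δ 0) := h2.epi_f ((hac 1 le_rfl).eq_of_tgt _ _)
    have i1 := isIso_zero Φ G S.X₁
    have i2 := isIso_zero Φ G S.X₂
    have hn : b.app G ≫ (ModSite.sheafHom S.X₁ ⋙ Φ).toRightDerivedZero.app G =
        (ModSite.sheafHom S.X₂ ⋙ Φ).toRightDerivedZero.app G ≫ (NatTrans.rightDerived b 0).app G :=
      congrArg (fun t => NatTrans.app t G)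
        (Groth.LocCohZBase.Connecting.toRightDerivedZero_naturality _ _ b)
    refine ⟨(ModSite.sheafHom S.X₁ ⋙ Φ).toRightDerivedZero.app G ≫ δ 0, ?_, inferInstance, ?_⟩
    · show b.app G ≫ _ = 0
      rw [reassoc_of% hn, w1, comp_zero]
    · refine (ShortComplex.exact_iff_of_iso ?_).2 h1
      exact ShortComplex.isoMk (asIso ((ModSite.sheafHom S.X₂ ⋙ Φ).toRightDerivedZero.app G))
        (asIso ((ModSite.sheafHom S.X₁ ⋙ Φ).toRightDerivedZero.app G)) (Iso.refl _) hn.symm
        (by simp)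

include hΦ in
/-- The derived functors are computed by resolutions acyclic at `G`. -/
lemma main (i : ℕ) : ∀ (F : ModSite.Mod X.sheaf) (L : ℕ → ModSite.Mod X.sheaf)
    (d : ∀ j, L (j + 1) ⟶ L j) (π : L 0 ⟶ F) (_ : Epi π) (w0 : d 0 ≫ π = 0)
    (_ : (ShortComplex.mk (d 0) π w0).Exact) (wd : ∀ j, d (j + 1) ≫ d j = 0)
    (_ : ∀ j, (ShortComplex.mk (d (j + 1)) (d j) (wd j)).Exact)
    (_ : ∀ j p, 1 ≤ p → IsZero (R Φ G p (L j))),
    Nonempty ((ShortComplex.mk (Tmap Φ G (d i)) (Tmap Φ G (d (i + 1)))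
      (Tmap_zero' Φ G _ _ (wd i))).homology ≅ R Φ G (i + 1) F) := by
  induction i with
  | zero =>
    intro F L d π hπ w0 hex0 wd hex hac
    let S := ShortComplex.mk (kernel.ι π) π (kernel.condition π)
    have hS : S.ShortExact :=
      { exact := ShortComplex.exact_of_f_is_kernel _ (kernelIsKernel π) }
    obtain ⟨-, θ, w, hθ, hex1⟩ := shift Φ G hΦ S hS (hac 0)
    let e : L 1 ⟶ kernel π := kernel.lift π (d 0) w0
    have he : Epi e := hex0.epi_kernelLift
    have hwe : d 1 ≫ e = 0 := by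
      rw [← cancel_mono (kernel.ι π), Category.assoc, kernel.lift_ι, wd 0, zero_comp]
    have hexe : (ShortComplex.mk (d 1) e hwe).Exact := by
      let φ : ShortComplex.mk (d 1) e hwe ⟶ ShortComplex.mk (d 1) (d 0) (wd 0) :=
        { τ₁ := 𝟙 _, τ₂ := 𝟙 _, τ₃ := kernel.ι π
          comm₁₂ := by simp
          comm₂₃ := by simp [e] }
      exact (ShortComplex.exact_iff_of_epi_of_isIso_of_mono φ).2 (hex 0)
    obtain ⟨hm, hk⟩ := exists_left_exact Φ G (ShortComplex.mk (d 1) e hwe) hexe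
    have hde : Tmap Φ G (d 0) = Tmap Φ G (kernel.ι π) ≫ Tmap Φ G e := by
      rw [Tmap_comp, kernel.lift_ι]
    have := hm
    exact nonempty_homology_iso _ _ _ (Tmap Φ G e) _ hk (Tmap Φ G (kernel.ι π)) hde.symm θ w hex1
  | succ i ih =>
    intro F L d π hπ w0 hex0 wd hex hac
    let S := ShortComplex.mk (kernel.ι π) π (kernel.condition π)
    have hS : S.ShortExact :=
      { exact := ShortComplex.exact_of_f_is_kernel _ (kernelIsKernel π) }
    obtain ⟨h, -⟩ := shift Φ G hΦ S hS (hac 0)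
    let e : L 1 ⟶ kernel π := kernel.lift π (d 0) w0
    have hwe : d 1 ≫ e = 0 := by
      rw [← cancel_mono (kernel.ι π), Category.assoc, kernel.lift_ι, wd 0, zero_comp]
    have hexe : (ShortComplex.mk (d 1) e hwe).Exact := by
      let φ : ShortComplex.mk (d 1) e hwe ⟶ ShortComplex.mk (d 1) (d 0) (wd 0) :=
        { τ₁ := 𝟙 _, τ₂ := 𝟙 _, τ₃ := kernel.ι π
          comm₁₂ := by simp
          comm₂₃ := by simp [e] }
      exact (ShortComplex.exact_iff_of_epi_of_isIso_of_mono φ).2 (hex 0)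
    obtain ⟨e1⟩ := ih (kernel π) (fun j => L (j + 1)) (fun j => d (j + 1)) e hex0.epi_kernelLift
      hwe hexe (fun j => wd (j + 1)) (fun j => hex (j + 1)) (fun j => hac (j + 1))
    obtain ⟨e2⟩ := h i
    exact ⟨e1 ≪≫ e2⟩

end

/-- Let f : X → Y be a morphism of schemes, F and G O_X-modules, and L_• → F → 0 a resolution of F: a
chain complex L of O_X-modules indexed by the natural numbers with an augmentation π : L_0 → F such
that L is exact in every positive degree and L_1 → L_0 → F → 0 is exact. For an O_X-module M write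
Ext^p_f(M, -) for the p-th right derived functor of the left exact functor G ↦ f_* Hom_{O_X}(M, G),
and assume Ext^p_f(L_i, G) = 0 for every i ≥ 0 and every p ≥ 1. Let C be the cochain complex f_*
Hom_{O_X}(L_•, G) of O_Y-modules, given with identifications C^i ≅ f_* Hom_{O_X}(L_i, G) under which
its differentials are f_* of the maps induced by the differentials of L. Then for every i the i-th
cohomology object of C is isomorphic to Ext^i_f(F, G). (Stated for schemes, the published statement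
being for ringed spaces; existence of an isomorphism of O_Y-modules only. The internal Hom functors,
injective resolutions and additivity of the composite functors are the stated instance hypotheses,
all true.) -/
theorem result (X Y : Scheme.{u}) (f : X ⟶ Y) (F G : X.Modules)
    (L : ChainComplex X.Modules ℕ) (π : L.X 0 ⟶ F) [Epi π] (hπ : L.d 1 0 ≫ π = 0)
    (hex0 : (ShortComplex.mk (L.d 1 0) π hπ).Exact) (hex : ∀ j : ℕ, L.ExactAt (j + 1))
    [∀ j : ℕ, ModSite.HasSheafHom (O := X.sheaf) (L.X j)] [ModSite.HasSheafHom (O := X.sheaf) F]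
    [HasInjectiveResolutions (ModSite.Mod X.sheaf)]
    [∀ j : ℕ, (ModSite.sheafHom (O := X.sheaf) (L.X j) ⋙ Scheme.Modules.pushforward f).Additive]
    [(ModSite.sheafHom (O := X.sheaf) F ⋙ Scheme.Modules.pushforward f).Additive]
    (hL : ∀ (j : ℕ) (p : ℕ), 1 ≤ p → IsZero (((ModSite.sheafHom (O := X.sheaf) (L.X j) ⋙ Scheme.Modules.pushforward f).rightDerived p).obj G))
    (C : CochainComplex Y.Modules ℕ)
    (e : ∀ j : ℕ, C.X j ≅ (Scheme.Modules.pushforward f).obj ((ModSite.sheafHom (O := X.sheaf) (L.X j)).obj G))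
    (hC : ∀ j : ℕ, C.d j (j + 1) ≫ (e (j + 1)).hom =
      (e j).hom ≫ (Scheme.Modules.pushforward f).map ((ExtSupp.sheafHomMap (O := X.sheaf) (L.d (j + 1) j)).app G))
    (i : ℕ) :
    Nonempty (C.homology i ≅ ((ModSite.sheafHom (O := X.sheaf) F ⋙ Scheme.Modules.pushforward f).rightDerived i).obj G) := by
  let Φ : ModSite.Mod X.sheaf ⥤ Y.Modules := Scheme.Modules.pushforward f
  have : PreservesLimitsOfSize.{0, 0} Φ :=
    (Scheme.Modules.pullbackPushforwardAdjunction f).rightAdjoint_preservesLimits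
  have : PreservesFiniteLimits Φ := inferInstance
  have hΦa : Φ.Additive := Functor.additive_of_preserves_binary_products _
  have hsh : ∀ M : ModSite.Mod X.sheaf, ModSite.HasSheafHom M :=
    Groth.SitesTopoi.ModH.hasSheafHom
  have hadd : ∀ M : ModSite.Mod X.sheaf, (ModSite.sheafHom M ⋙ Φ).Additive := fun M => by
    have : PreservesLimitsOfSize.{0, 0} (ModSite.sheafHom M) :=
      (ModSite.sheafHomAdj M).rightAdjoint_preservesLimits
    exact Functor.additive_of_preserves_binary_products _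
  have hΦ : ∀ (M M' : ModSite.Mod X.sheaf) (g : M' ⟶ M) (I : ModSite.Mod X.sheaf), Mono g →
      Injective I → Epi (Φ.map ((ExtSupp.sheafHomMap g).app I)) := fun M M' g I hg hI =>
    Groth.Agent.S16289.epi_of_app_surjective _ fun V => by
      exact @Groth.Agent.S16289.sheafHomMap_app_surjective X _ _ _ _ g hg I hI (f ⁻¹ᵁ V)
  cases i with
  | zero =>
    have hw : (L.d 1 0) ≫ π = 0 := hπ
    obtain ⟨hm, hk⟩ := @exists_left_exact X Y Φ _ _ hsh hadd G
      (ShortComplex.mk (C := ModSite.Mod X.sheaf) (L.d 1 0) π hw) hex0 ‹Epi π›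
    let k := Tmap (X := X) Φ G π ≫ (e 0).inv
    have wk : k ≫ C.d 0 1 = 0 := by
      rw [← cancel_mono (e 1).hom, zero_comp, Category.assoc, hC 0]
      simp only [k, Category.assoc, Iso.inv_hom_id_assoc]
      exact Tmap_zero' (X := X) Φ G _ _ hw
    have hk' : IsLimit (KernelFork.ofι k wk) := by
      have := hm
      refine ShortComplex.Exact.fIsKernel (S := ShortComplex.mk k (C.d 0 1) wk) ?_
      refine (ShortComplex.exact_iff_of_iso (ShortComplex.isoMk (S₁ := ShortComplex.mk k (C.d 0 1) wk)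
        (S₂ := ShortComplex.mk _ _ (Tmap_zero' (X := X) Φ G _ _ hw)) (Iso.refl _) (e 0) (e 1) ?_ ?_)).2 hk
      · simp only [k, Category.assoc, Iso.inv_hom_id, Category.comp_id]
        exact (Category.id_comp _)
      · exact (hC 0).symm
    exact ⟨(CochainComplex.isoHomologyπ₀ C).symm ≪≫
      (IsLimit.conePointUniqueUpToIso hk' (C.cyclesIsKernel 0 1 (by simp))).symm ≪≫
      @asIso _ _ _ _ _ (isIso_zero (X := X) Φ G F)⟩
  | succ i =>
    obtain ⟨e'⟩ := main (X := X) Φ G hΦ i F L.X (fun j => L.d (j + 1) j) π ‹_› hπ hex0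
      (fun j => L.d_comp_d _ _ _)
      (fun j => (L.exactAt_iff' (j + 2) (j + 1) j (by simp) (by simp)).1 (hex j))
      (fun j p hp => hL j p hp)
    refine ⟨ShortComplex.homologyMapIso (C.isoSc' i (i + 1) (i + 2) (by simp) (by simp) ≪≫
      ShortComplex.isoMk (S₂ := ShortComplex.mk (Tmap (X := X) Φ G (L.d (i + 1) i))
        (Tmap (X := X) Φ G (L.d (i + 2) (i + 1)))
        (Tmap_zero' (X := X) Φ G _ _ (L.d_comp_d _ _ _)))
        (e i) (e (i + 1)) (e (i + 2)) ?_ ?_) ≪≫ e'⟩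
    · exact (hC i).symm
    · exact (hC (i + 1)).symm

end Groth.Agent.S16286
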