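import Groth.Statements.S16287
import Groth.Agent.LocCohZBase.MayerVietoris

set_option autoImplicit false
universe u
open CategoryTheory CategoryTheory.Limits TopologicalSpace
open LocCohZ

namespace Groth.Agent.S16287

/-- Let X be a topological space, F an abelian sheaf on X, and U, U' open subsets with closed
complements Z = X ∖ U and Z' = X ∖ U' (so Z ∩ Z' = X ∖ (U ∪ U') and Z ∪ Z' = X ∖ (U ∩ U')). With
H^i_{X∖W}(X, F) = Ext^i(Z_X/Z_W, F) and the enlargement-of-support maps r : H^i_{Z∩Z'} → H^i_Z, r' :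
H^i_{Z∩Z'} → H^i_{Z'}, s : H^i_Z → H^i_{Z∪Z'}, s' : H^i_{Z'} → H^i_{Z∪Z'}: the map H^0_{Z∩Z'} →
H^0_Z ⊕ H^0_{Z'}, x ↦ (r x, r' x), is injective, and there are connecting homomorphisms δ_i :
H^i_{Z∪Z'}(X, F) → H^{i+1}_{Z∩Z'}(X, F) such that for every i the sequence H^i_{Z∩Z'} → H^i_Z ⊕
H^i_{Z'} → H^i_{Z∪Z'} → H^{i+1}_{Z∩Z'} → H^{i+1}_Z ⊕ H^{i+1}_{Z'} is exact, the middle map being (y,
y') ↦ s y − s' y'. -/
theorem result {X : TopCat.{u}} (F : CohTop.Ab X) (U U' : Opens X) :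
    Function.Injective (fun x : LocCohZ.HZc F 0 (U ⊔ U') =>
      (LocCohZ.resZ F 0 (le_top : U ⊔ U' ≤ ⊤) (le_top : U ≤ ⊤) le_sup_left le_rfl x,
       LocCohZ.resZ F 0 (le_top : U ⊔ U' ≤ ⊤) (le_top : U' ≤ ⊤) le_sup_right le_rfl x)) ∧
    ∃ δ : ∀ i : ℕ, LocCohZ.HZc F i (U ⊓ U') →+ LocCohZ.HZc F (i + 1) (U ⊔ U'),
      ∀ i : ℕ,
        (∀ y : LocCohZ.HZc F i U × LocCohZ.HZc F i U',
          LocCohZ.resZ F i (le_top : U ≤ ⊤) (le_top : U ⊓ U' ≤ ⊤) inf_le_left le_rfl y.1 -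
              LocCohZ.resZ F i (le_top : U' ≤ ⊤) (le_top : U ⊓ U' ≤ ⊤) inf_le_right le_rfl y.2 = 0 ↔
            ∃ x : LocCohZ.HZc F i (U ⊔ U'),
              LocCohZ.resZ F i (le_top : U ⊔ U' ≤ ⊤) (le_top : U ≤ ⊤) le_sup_left le_rfl x = y.1 ∧
              LocCohZ.resZ F i (le_top : U ⊔ U' ≤ ⊤) (le_top : U' ≤ ⊤) le_sup_right le_rfl x = y.2) ∧
        (∀ w : LocCohZ.HZc F i (U ⊓ U'),
          δ i w = 0 ↔ ∃ y : LocCohZ.HZc F i U × LocCohZ.HZc F i U',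
            LocCohZ.resZ F i (le_top : U ≤ ⊤) (le_top : U ⊓ U' ≤ ⊤) inf_le_left le_rfl y.1 -
              LocCohZ.resZ F i (le_top : U' ≤ ⊤) (le_top : U ⊓ U' ≤ ⊤) inf_le_right le_rfl y.2 = w) ∧
        (∀ x : LocCohZ.HZc F (i + 1) (U ⊔ U'),
          (LocCohZ.resZ F (i + 1) (le_top : U ⊔ U' ≤ ⊤) (le_top : U ≤ ⊤) le_sup_left le_rfl x = 0 ∧
            LocCohZ.resZ F (i + 1) (le_top : U ⊔ U' ≤ ⊤) (le_top : U' ≤ ⊤) le_sup_right le_rfl x = 0) ↔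
            ∃ w : LocCohZ.HZc F i (U ⊓ U'), δ i w = x) := by
  obtain ⟨h0, δ, h⟩ := Groth.LocCohZBase.mayer_vietoris U U' F
  refine ⟨h0, δ, fun i => ⟨fun y => ((h i).1 y).trans (exists_congr fun x => Prod.ext_iff),
    (h i).2.1, fun x => Iff.trans ?_ ((h i).2.2 x)⟩⟩
  exact (Prod.ext_iff (x := Groth.LocCohZBase.pairMap U U' F (i + 1) x) (y := 0)).symm

end Groth.Agent.S16287
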