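import Groth.Statements.S16298
import Groth.Agent.EulerDeg.Birational
import Groth.Agent.CurveNorm.Main
import Groth.Agent.BMCoh.Birational
-- import your own Groth.Agent.* helpers here

set_option autoImplicit false
universe u
open CategoryTheory CategoryTheory.Limits AlgebraicGeometry
open Curves

namespace Groth.Agent.S16298

/-- Let k be a field and X a genus-zero curve over k, that is, an integral scheme proper over k of
dimension one with H^1(X, O_X) = 0. Then the normalization Y of X again satisfies H^1(Y, O_Y) = 0,
so Y is again a genus-zero curve. (The two instance binders on the morphism from the generic point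
always hold; they are only needed to form the normalization.) -/
theorem result (k : Type u) [Field k] (X : Scheme.{u}) [X.Over (Spec (CommRingCat.of k))]
    [IsIntegral X] [IsProper (X ↘ (Spec (CommRingCat.of k)))] (hdim : topologicalKrullDim X = 1)
    (h1 : Subsingleton (Coh.HH X (Coh.structureModule X) 1))
    [QuasiCompact (X.fromSpecStalk (genericPoint X))] [QuasiSeparated (X.fromSpecStalk (genericPoint X))] :
    Subsingleton (Coh.HH (Curv2.normalization X) (Coh.structureModule (Curv2.normalization X)) 1) := by
  let ν := Curv2.normalizationι X
  haveI hfin : IsFinite ν := by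
    change IsFinite (X.fromSpecStalk (genericPoint X)).fromNormalization
    exact Groth.CurveNorm.isFinite_fromNormalization X X.functionField (RingHom.id _)
      (X.fromSpecStalk (genericPoint X)) (by simp) k (X ↘ Spec (CommRingCat.of k)) inferInstance
      (RingHom.Finite.id _)
  obtain ⟨D, hD, hiso⟩ := Groth.BMCohLib.exists_isIso_normalizationι X
  letI : (Curv2.normalization X).Over (Spec (CommRingCat.of k)) := ⟨ν ≫ X ↘ Spec (CommRingCat.of k)⟩
  have hY : IsProper (Curv2.normalization X ↘ Spec (CommRingCat.of k)) :=
    inferInstanceAs (IsProper (ν ≫ X ↘ Spec (CommRingCat.of k)))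
  have hd : Dense (D : Set X) := D.2.dense ⟨_, hD⟩
  have hle := Groth.EulerDeg.genus_le_of_isFinite k hdim.le ν rfl D hd
  have h0 : Curv2.genus k X = 0 := Module.finrank_zero_of_subsingleton
  have hf := Groth.EulerDeg.finite_HH k (Curv2.normalization X)
    (Groth.EulerDeg.isCoh_of_isInvertible (Groth.EulerDeg.isInvertible_structureModule _)) 1
  exact Module.finrank_zero_iff.mp (show Curv2.genus k (Curv2.normalization X) = 0 by omega)

end Groth.Agent.S16298
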