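import Groth.Statements.S1630
import Groth.Agent.VarietyBC.Fibre

set_option autoImplicit false
universe u
open CategoryTheory CategoryTheory.Limits AlgebraicGeometry
open Variety

namespace Groth.Agent.S1630

open Groth.VarietyBC


/-- Let X be a scheme over k. If X has a cover by a nonempty family of open subschemes, each
geometrically irreducible over k and any two of which meet, then X is geometrically irreducible over
k. -/
theorem result (k : Type u) [Field k] (X : Scheme.{u}) [X.Over (Spec (CommRingCat.of k))]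
    (ι : Type u) (U : ι → X.Opens) (hne : Nonempty ι) (hcov : (⨆ i, U i) = ⊤)
    (hmeet : ∀ i j, ((U i : Set X) ∩ (U j : Set X)).Nonempty)
    (hU : ∀ i, GeometricallyIrreducible ((U i).ι ≫ (X ↘ (Spec (CommRingCat.of k))))) : GeometricallyIrreducible (X ↘ (Spec (CommRingCat.of k))) := by
  refine geometricallyIrreducible_iff_forall.mpr fun K _ _ => ?_
  let p := Curv2.bcFst k X K
  have hpc : ∀ i, IsIrreducible (p ⁻¹' (U i : Set X)) := by
    intro i
    have h := GeometricallyIrreducible.geometrically_irreducibleSpace (f := (U i).ι ≫ (X ↘ (Spec (CommRingCat.of k))))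
      (Spec.map (CommRingCat.ofHom (algebraMap k K))) _ _ (.of_hasPullback _ _)
    let j := (pullbackRightPullbackFstIso (X ↘ (Spec (CommRingCat.of k)))
        (Spec.map (CommRingCat.ofHom (algebraMap k K))) (U i).ι).inv ≫ pullback.snd _ _
    have hr : Set.range j = p ⁻¹' (U i : Set X) := by
      rw [Scheme.Hom.comp_base, TopCat.coe_comp,
        (Scheme.Hom.surjective _).range_comp, Scheme.Pullback.range_snd, Scheme.Opens.range_ι]
    rw [← hr, ← Set.image_univ]
    exact ((irreducibleSpace_def _).mp h).image _ j.continuous.continuousOn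
  have hmeet' : ∀ i j, (p ⁻¹' (U i : Set X) ∩ p ⁻¹' (U j : Set X)).Nonempty := fun i j => by
    obtain ⟨x, hx⟩ := hmeet i j
    obtain ⟨z, rfl⟩ := (surjective_bcFst (k := k) (X := X) K) x
    exact ⟨z, hx⟩
  have hcov' : ∀ z, ∃ i, z ∈ p ⁻¹' (U i : Set X) := fun z =>
    TopologicalSpace.Opens.mem_iSup.mp (hcov ▸ TopologicalSpace.Opens.mem_top (p z))
  obtain ⟨i₀⟩ := hne
  rw [irreducibleSpace_def]
  refine ⟨(hpc i₀).nonempty.mono (Set.subset_univ _), ?_⟩
  have hd : ∀ i (O : Set (Curv2.bc k X K)), IsOpen O → (O ∩ p ⁻¹' (U i : Set X)).Nonempty →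
      (O ∩ p ⁻¹' (U i₀ : Set X)).Nonempty := fun i O hO hn => by
    obtain ⟨z, -, h1, h2⟩ := (hpc i).isPreirreducible O _ hO
      ((U i₀).2.preimage p.continuous) (by rwa [Set.inter_comm] at hn) (hmeet' i i₀)
    exact ⟨z, h1, h2⟩
  intro A B hA hB hAn hBn
  obtain ⟨a, -, ha⟩ := hAn
  obtain ⟨b, -, hb⟩ := hBn
  obtain ⟨i, hi⟩ := hcov' a
  obtain ⟨j, hj⟩ := hcov' b
  obtain ⟨z, -, hz⟩ := (hpc i₀).isPreirreducible A B hA hB
    (by rw [Set.inter_comm]; exact hd i A hA ⟨a, ha, hi⟩)
    (by rw [Set.inter_comm]; exact hd j B hB ⟨b, hb, hj⟩)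
  exact ⟨z, trivial, hz⟩

end Groth.Agent.S1630
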