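import Groth.Statements.S16301
import Groth.Agent.Curves1.RR.MinimalPoints

set_option autoImplicit false
universe u
open CategoryTheory CategoryTheory.Limits AlgebraicGeometry
open Curves

namespace Groth.Agent.S16301

/-- Let k be an infinite field and X a genus-zero curve over k, that is, an integral scheme proper over
k of dimension one with H^1(X, O_X) = 0. Let P be a closed point of X whose local ring is regular
and whose degree deg_k P = dim_k H^0(P, O_P) is least among all closed points of X with regular
local ring, and let I_P be the ideal sheaf of the reduced point P (an invertible module, P being a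
regular point of a curve; this is carried as a hypothesis). Then the Picard group of X is generated
by the class of I_P, equivalently by O_X(P): every class of an invertible O_X-module is an integer
power of the class of I_P (the group law on the Picard group is the tensor product, supplied by the
binder). (The published statement is for an arbitrary base field; this row assumes k infinite, the
case in which the published argument applies: it twice replaces an ample divisor by a member of its
base-point-free complete linear system whose support avoids the finitely many non-regular points of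
X, and over a finite field such a member need not exist.) -/
theorem result (k : Type u) [Field k] [Infinite k] (X : Scheme.{u}) [X.Over (Spec (CommRingCat.of k))]
    [IsIntegral X] [IsProper (X ↘ (Spec (CommRingCat.of k)))] (hdim : topologicalKrullDim X = 1)
    (h1 : Subsingleton (Coh.HH X (Coh.structureModule X) 1))
    (P : X) (hPc : IsClosed ({P} : Set X)) (hPreg : IsRegularLocalRing (X.presheaf.stalk P))
    (hmin : ∀ (Q : X) (hQc : IsClosed ({Q} : Set X)), IsRegularLocalRing (X.presheaf.stalk Q) →
      Module.finrank k (Coh.HH X (ClSub.quotMod (Scheme.IdealSheafData.vanishingIdeal ⟨{P}, hPc⟩)) 0) ≤ Module.finrank k (Coh.HH X (ClSub.quotMod (Scheme.IdealSheafData.vanishingIdeal ⟨{Q}, hQc⟩)) 0))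
    (hI : PicF.IsInvertible (ClSub.idealMod (Scheme.IdealSheafData.vanishingIdeal ⟨{P}, hPc⟩))) [PicGrp.Law X]
    (c : PicLoc.PicSet X) :
    c ∈ Subgroup.zpowers (PicGrp.cls (ClSub.idealMod (Scheme.IdealSheafData.vanishingIdeal ⟨{P}, hPc⟩)) hI) := by
  classical
  have hg : Curv2.genus k X = 0 := Module.finrank_zero_of_subsingleton
  haveI : IsNoetherian X := Groth.EulerDeg.isNoetherian_of_proper k X
  let δ : PicLoc.PicSet X → ℤ := fun a => Curv2.deg k X (PicGrp.exists_eq_cls a).choose 1
  have hδ : ∀ (L : X.Modules) (hL : PicF.IsInvertible L),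
      δ (PicGrp.cls L hL) = Curv2.deg k X L 1 := by
    intro L hL
    obtain ⟨hN, e⟩ := (PicGrp.exists_eq_cls (PicGrp.cls L hL)).choose_spec
    obtain ⟨i⟩ := (PicGrp.cls_eq_cls_iff hL hN).1 e
    exact (Groth.EulerDeg.deg_congr (k := k) i 1).symm
  have hmul : ∀ a b, δ (a * b) = δ a + δ b := by
    intro a b
    obtain ⟨A, hA, rfl⟩ := PicGrp.exists_eq_cls a
    obtain ⟨B, hB, rfl⟩ := PicGrp.exists_eq_cls b
    have : PicGrp.cls A hA * PicGrp.cls B hB =
        PicGrp.cls (CohB1.tensorMod A B) (Groth.PicAux.isInvertible_tensorMod hA hB) :=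
      Subtype.ext (PicGrp.cls_mul_cls_val hA hB)
    rw [this, hδ, hδ, hδ, Groth.EulerDeg.deg_tensor_invertible k hdim.le hA hB]
  let D : PicLoc.PicSet X →* Multiplicative ℤ :=
    MonoidHom.mk' (fun a => Multiplicative.ofAdd (δ a))
      (fun a b => by rw [hmul]; rfl)
  set g := PicGrp.cls (ClSub.idealMod (Scheme.IdealSheafData.vanishingIdeal ⟨{P}, hPc⟩)) hI
  set m := Module.finrank k
    (Coh.HH X (ClSub.quotMod (Scheme.IdealSheafData.vanishingIdeal ⟨{P}, hPc⟩)) 0) with hm
  have hIe := Groth.Curves1.RR.MinimalPoints.isEffCartierIdeal_of_regular k hdim P hPc hPreg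
  have hgdeg : δ g = -(m : ℤ) :=
    (hδ _ hI).trans (Groth.Curves1.RR.MinimalPoints.deg_idealMod k hdim.le hIe)
  have hmpos : 0 < m := Groth.Curves1.RR.MinimalPoints.finrank_pointIdeal_pos k P hPc
  have hz : ∀ q : ℤ, δ (c * g ^ q) = δ c - q * m := by
    intro q
    rw [hmul]
    have : δ (g ^ q) = q * δ g := by
      have := congrArg Multiplicative.toAdd (map_zpow D g q)
      rw [toAdd_zpow] at this
      rw [← smul_eq_mul]
      exact this
    rw [this, hgdeg]
    ring
  obtain ⟨M, hM, hMc⟩ := PicGrp.exists_eq_cls (c * g ^ (δ c / (m : ℤ)))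
  have hr : Curv2.deg k X M 1 = δ c % (m : ℤ) := by
    rw [← hδ M hM, ← hMc, hz, Int.emod_def, mul_comm]
  have hr0 : Curv2.deg k X M 1 = 0 := by
    rcases eq_or_lt_of_le (Int.emod_nonneg (δ c) (by omega : (m : ℤ) ≠ 0)) with h | h
    · rw [hr]; exact h.symm
    exfalso
    obtain ⟨x, hx, -, hxr, hxd⟩ := Groth.Curves1.RR.MinimalPoints.exists_regular_point k hdim hg
      ∅ Set.finite_empty hM (hr ▸ h)
    have h2 := hmin x hx hxr
    have h3 := Int.emod_lt_of_pos (δ c) (by omega : 0 < (m : ℤ))
    rw [hr] at hxd
    omega
  obtain ⟨e⟩ := Groth.Curves1.RR.MinimalPoints.nonempty_iso_structure k hdim hg hM hr0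
  have h1 : c * g ^ (δ c / (m : ℤ)) = 1 := by
    rw [hMc, ← PicGrp.cls_structureModule_eq_one]
    exact (PicGrp.cls_eq_cls_iff hM _).2 ⟨e⟩
  exact ⟨-(δ c / (m : ℤ)), by simp only [zpow_neg]; exact (eq_inv_of_mul_eq_one_left h1).symm⟩

end Groth.Agent.S16301
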