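import Groth.Statements.S16302
import Groth.Agent.Curves1.RR.MinimalPoints

set_option autoImplicit false
universe u
open CategoryTheory CategoryTheory.Limits AlgebraicGeometry
open Curves

namespace Groth.Agent.S16302

/-- Let k be an infinite field and X a genus-zero curve over k, that is, an integral scheme proper over
k of dimension one with H^1(X, O_X) = 0. Then the set of closed points P of X whose local ring is
regular and whose degree deg_k P = dim_k H^0(P, O_P) is least among all closed points with regular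
local ring is infinite. -/
theorem result (k : Type u) [Field k] (X : Scheme.{u}) [X.Over (Spec (CommRingCat.of k))] [Infinite k]
    [IsIntegral X] [IsProper (X ↘ (Spec (CommRingCat.of k)))] (hdim : topologicalKrullDim X = 1)
    (h1 : Subsingleton (Coh.HH X (Coh.structureModule X) 1)) :
    {P : X | ∃ hPc : IsClosed ({P} : Set X), IsRegularLocalRing (X.presheaf.stalk P) ∧
      ∀ (Q : X) (hQc : IsClosed ({Q} : Set X)), IsRegularLocalRing (X.presheaf.stalk Q) →
        Module.finrank k (Coh.HH X (ClSub.quotMod (Scheme.IdealSheafData.vanishingIdeal ⟨{P}, hPc⟩)) 0) ≤ Module.finrank k (Coh.HH X (ClSub.quotMod (Scheme.IdealSheafData.vanishingIdeal ⟨{Q}, hQc⟩)) 0)}.Infinite := by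
  classical
  have hg : Curv2.genus k X = 0 := Module.finrank_zero_of_subsingleton
  let f : (P : X) → IsClosed ({P} : Set X) → ℕ := fun P hP =>
    Module.finrank k (Coh.HH X (ClSub.quotMod (Scheme.IdealSheafData.vanishingIdeal ⟨{P}, hP⟩)) 0)
  -- a regular closed point
  haveI : IsNoetherian X := Groth.EulerDeg.isNoetherian_of_proper k X
  haveI : JacobsonSpace X := LocallyOfFiniteType.jacobsonSpace (X ↘ Spec (CommRingCat.of k))
  have hη : ¬ IsClosed ({genericPoint X} : Set X) := by
    intro hx
    have h1 : ∀ y : X, y = genericPoint X := fun y =>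
      hx.closure_eq.le ((genericPoint_spec X).symm.le (Set.mem_univ y) : y ∈ closure {genericPoint X})
    haveI : Subsingleton X := ⟨fun a b => (h1 a).trans (h1 b).symm⟩
    haveI : Subsingleton (TopologicalSpace.IrreducibleCloseds X) := ⟨fun a b =>
      TopologicalSpace.IrreducibleCloseds.ext
      (a.isIrreducible.nonempty.eq_univ.trans b.isIrreducible.nonempty.eq_univ.symm)⟩
    have h2 : topologicalKrullDim X ≤ 0 := Order.krullDim_nonpos_of_subsingleton
    rw [hdim] at h2
    exact absurd h2 (by norm_num)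
  obtain ⟨P₀, hP₀, hP₀r⟩ : ∃ P : X, ∃ _ : IsClosed ({P} : Set X),
      IsRegularLocalRing (X.presheaf.stalk P) := by
    by_contra hno
    push Not at hno
    have hfin : (closedPoints X).Finite :=
      (Groth.Curves1.RR.MinimalPoints.finite_nonregular k X hdim).subset fun P hP => hno P hP
    have hcl : IsClosed (closedPoints X) := by
      rw [← Set.biUnion_of_singleton (closedPoints X)]
      exact hfin.isClosed_biUnion fun P hP => hP
    exact hη (show genericPoint X ∈ closedPoints X from
      hcl.closure_eq.le ((closure_closedPoints (X := X)).ge trivial))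
  -- one of least degree
  have hex : ∃ m : ℕ, ∃ P : X, ∃ hP : IsClosed ({P} : Set X),
      IsRegularLocalRing (X.presheaf.stalk P) ∧ f P hP = m := ⟨_, P₀, hP₀, hP₀r, rfl⟩
  obtain ⟨P₁, hP₁, hP₁r, hP₁m⟩ := Nat.find_spec hex
  have hI := Groth.Curves1.RR.MinimalPoints.isEffCartierIdeal_of_regular k hdim P₁ hP₁ hP₁r
  obtain ⟨M, hM, hMI⟩ := Groth.PicAux.exists_isInverseOf (Groth.PicAux.isInvertible_idealMod hI)
  have hdeg := Groth.EulerDeg.deg_inverse_idealMod k hdim.le hI hM (Groth.PicAux.isInverseOf_symm hMI)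
  have hpos : 0 < f P₁ hP₁ := by
    show 0 < Module.finrank k (Coh.HH X (ClSub.quotMod (Groth.Curves1.RR.pointIdeal P₁ hP₁)) 0)
    exact Groth.Curves1.RR.MinimalPoints.finrank_pointIdeal_pos k P₁ hP₁
  intro hfinite
  obtain ⟨x, hx, hxS, hxr, hxd⟩ := Groth.Curves1.RR.MinimalPoints.exists_regular_point k hdim hg
    _ hfinite hM (by rw [hdeg]; exact Int.natCast_pos.2 hpos)
  refine hxS ⟨hx, hxr, fun Q hQ hQr => ?_⟩
  rw [hdeg] at hxd
  have h1 : f x hx ≤ f P₁ hP₁ := Int.ofNat_le.1 hxd
  have h2 : Nat.find hex ≤ f Q hQ := Nat.find_min' hex ⟨Q, hQ, hQr, rfl⟩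
  show f x hx ≤ f Q hQ
  omega

end Groth.Agent.S16302
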