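import Groth.Statements.S16303
import Groth.Agent.ResolveSurf.ExceptionalTest
import Groth.Agent.ResPropLib.FibreBound
import Groth.Agent.ArSurfBasics.ZMTPoint
import Groth.Agent.CohBase.FibreBC
import Groth.Agent.CohBase.RpushAb
import Groth.Agent.SiteCohomology.SubSheafGerms

set_option backward.isDefEq.respectTransparency.types false
set_option linter.style.haveILetI false

set_option autoImplicit false
universe u
open CategoryTheory CategoryTheory.Limits AlgebraicGeometry
open Resolve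

namespace Groth.Agent.S16303

open Groth.ResolveSurf

variable {X Y : Scheme.{u}} (f : Y ⟶ X)

theorem appLE_preimageToSpec {V : X.Opens} (hV : IsAffineOpen V)
    (W : ((f ⁻¹ᵁ V : Y.Opens) : Scheme.{u}).Opens) (e : W ≤ ((f ⁻¹ᵁ V).ι ≫ f) ⁻¹ᵁ V) (c : Γ(X, V)) :
    ((f ⁻¹ᵁ V).ι ≫ f).appLE V W e c =
      Coh.resTop ((f ⁻¹ᵁ V : Y.Opens) : Scheme.{u}) (Opposite.op W)
        (Coh.toGlobal (CohBase.preimageToSpec f (V := V)) c) := by
  have key : ∀ (g : ((f ⁻¹ᵁ V : Y.Opens) : Scheme.{u}) ⟶ X) (e : W ≤ g ⁻¹ᵁ V),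
      g = CohBase.preimageToSpec f ≫ hV.fromSpec →
      g.appLE V W e c = Coh.resTop ((f ⁻¹ᵁ V : Y.Opens) : Scheme.{u}) (Opposite.op W)
        (Coh.toGlobal (CohBase.preimageToSpec f (V := V)) c) := by
    rintro g e rfl
    rw [← Scheme.Hom.appLE_comp_appLE (CohBase.preimageToSpec f) hV.fromSpec V ⊤ W
      hV.fromSpec_preimage_self.ge le_top, CommRingCat.comp_apply,
      show hV.fromSpec.appLE V ⊤ hV.fromSpec_preimage_self.ge = (Scheme.ΓSpecIso Γ(X, V)).inv by
        rw [Scheme.Hom.appLE, IsAffineOpen.fromSpec_app_self, Category.assoc, ← Functor.map_comp]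
        simp]
    rfl
  exact key _ e (CohBase.isPullback_preimageToSpec f hV).w

theorem fiber_preimageToSpec_le [IsProper f] (hd : ∀ x : X, topologicalKrullDim ↥(f.fiber x) ≤ ((1 : ℕ) : WithBot ℕ∞))
    {V : X.Opens} (hV : IsAffineOpen V) (P : Spec (CommRingCat.of Γ(X, V))) :
    topologicalKrullDim ↥((CohBase.preimageToSpec f (V := V)).fiber P) ≤ ((1 : ℕ) : WithBot ℕ∞) := by
  have hy : hV.fromSpec P ∈ V := hV.range_fromSpec.le ⟨P, rfl⟩
  have h : hV.primeIdealOf ⟨_, hy⟩ = P :=
    hV.fromSpec.isOpenEmbedding.injective (hV.fromSpec_primeIdealOf ⟨_, hy⟩)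
  exact h ▸ Groth.Limits.FibreVanishing.dim_fiber_preimageToSpec_le f hV _ hy 1 (hd _)

/-- A closed subscheme over the affine open, inside the preimage. -/
theorem exists_lift {V : X.Opens} (W : Y.IdealSheafData) (hW : (W.support : Set Y) ⊆ f ⁻¹' (V : Set X)) :
    ∃ i : W.subscheme ⟶ ((f ⁻¹ᵁ V : Y.Opens) : Scheme.{u}), IsClosedImmersion i ∧
      i.ker = W.comap (f ⁻¹ᵁ V).ι := by
  haveI : Surjective (pullback.snd (f ⁻¹ᵁ V).ι W.subschemeι) := ⟨fun w => by
    have h : w ∈ Set.range (pullback.snd (f ⁻¹ᵁ V).ι W.subschemeι) := by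
      rw [Scheme.Pullback.range_snd, Scheme.Opens.range_ι]
      exact hW (W.range_subschemeι ▸ Set.mem_range_self w)
    exact h⟩
  haveI : Epi (pullback.snd (f ⁻¹ᵁ V).ι W.subschemeι).base :=
    (TopCat.epi_iff_surjective _).2 (pullback.snd (f ⁻¹ᵁ V).ι W.subschemeι).surjective
  haveI : IsIso (pullback.snd (f ⁻¹ᵁ V).ι W.subschemeι) := IsOpenImmersion.isIso _
  exact ⟨inv (pullback.snd (f ⁻¹ᵁ V).ι W.subschemeι) ≫ pullback.fst _ _, inferInstance,
    Scheme.Hom.ker_comp_of_isIso _ _⟩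

variable [IsLocallyNoetherian X] [CompactSpace X] [IsProper f]

theorem forward (hd : ∀ x : X, topologicalKrullDim ↥(f.fiber x) ≤ ((1 : ℕ) : WithBot ℕ∞))
    (hR : IsZero ((Coh.RpushAb f 1).obj (Coh.toAb (Coh.structureModule Y)))) {V : X.Opens}
    (hV : IsAffineOpen V) (W : Y.IdealSheafData) (hW : (W.support : Set Y) ⊆ f ⁻¹' (V : Set X)) :
    Subsingleton (Coh.HH Y (ClSub.quotMod W) 1) := by
  let U : Scheme.{u} := (f ⁻¹ᵁ V : Y.Opens)
  letI : U.Over (Spec (CommRingCat.of Γ(X, V))) := ⟨CohBase.preimageToSpec f⟩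
  haveI : IsProper (U ↘ Spec (CommRingCat.of Γ(X, V))) :=
    MorphismProperty.of_isPullback (CohBase.isPullback_preimageToSpec f hV) ‹IsProper f›
  haveI : IsLocallyNoetherian Y := LocallyOfFiniteType.isLocallyNoetherian f
  haveI : (Coh.structureModule Y).IsQuasicoherent := Groth.QCohMod.isQCoh_unit Y
  let I := injectiveResolution (Coh.structureModule Y)
  obtain ⟨a⟩ := CohBase.nonempty_RpushAb_iso_homology f I 1
  obtain ⟨e⟩ := CohBase.exists_sections_linEquiv f I 1 hV
  let i0 : (Coh.structureModule Y).restrict (f ⁻¹ᵁ V).ι ≅ Coh.structureModule U :=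
    ((Scheme.Modules.restrictFunctorIsoPullback (f ⁻¹ᵁ V).ι).app _) ≪≫
      (Groth.PicAux.pullback_structure_iso (f ⁻¹ᵁ V).ι).some
  have hz : Subsingleton Γ((CohBase.pushCx f I).homology 1, V) :=
    AddCommGrpCat.subsingleton_of_isZero
      ((sheafToPresheaf _ _ ⋙ (evaluation _ _).obj (Opposite.op V)).map_isZero
        (IsZero.of_iso hR a.symm))
  haveI : Subsingleton (Coh.HH U (Coh.structureModule U) 1) :=
    (e.trans (Groth.EulerDeg.hEquiv Γ(X, V) i0 1)).symm.toEquiv.subsingleton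
  obtain ⟨i, hi, hik⟩ := exists_lift f W hW
  have h1 := ExcTest.subsingleton_quotMod (B := Γ(X, V)) (U := U) (fiber_preimageToSpec_le f hd hV)
    inferInstance i.ker
  have h2 := (ExcTest.subsingleton_iff_quotMod i 1).1 h1
  have h3 := (ExcTest.subsingleton_iff_quotMod W.subschemeι 1).2 h2
  rwa [Scheme.IdealSheafData.ker_subschemeι] at h3

theorem backward {P : X} (hPc : IsClosed ({P} : Set X))
    [IsIso (f ∣_ ⟨({P} : Set X)ᶜ, hPc.isOpen_compl⟩)]
    (I : Y.IdealSheafData) (hI : (I.support : Set Y) = f ⁻¹' {P})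
    (h : ∀ N : ℕ, 0 < N → Subsingleton (Coh.HH Y (ClSub.quotMod (I ^ N)) 1)) :
    IsZero ((Coh.RpushAb f 1).obj (Coh.toAb (Coh.structureModule Y))) := by
  haveI : IsLocallyNoetherian Y := LocallyOfFiniteType.isLocallyNoetherian f
  haveI : CompactSpace Y := QuasiCompact.compactSpace_of_compactSpace f
  haveI : (Coh.structureModule Y).IsQuasicoherent := Groth.QCohMod.isQCoh_unit Y
  refine Groth.SiteCohomology.SubSheafGerms.isZero_of_stalks fun y a => ?_
  suffices key : ∃ V : X.Opens, ∃ hV : IsAffineOpen V, y ∈ V ∧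
      ∃ s : Γ(X, V), y ∈ X.basicOpen s ∧
        letI : ((f ⁻¹ᵁ V : Y.Opens) : Scheme.{u}).Over (Spec (CommRingCat.of Γ(X, V))) :=
          ⟨CohBase.preimageToSpec f⟩
        ∀ ξ : Coh.HH (f ⁻¹ᵁ V : Y.Opens) ((Coh.structureModule Y).restrict (f ⁻¹ᵁ V).ι) 1, s • ξ = 0 by
    obtain ⟨V, hV, hyV, s, hs, hξ⟩ := key
    have hz := Groth.Limits.FibreVanishing.isZero_stalk_RpushAb f (Coh.structureModule Y) 1 hV y hyV
      (fun ξ => ⟨s, hs, hξ ξ⟩)
    have hz2 := (Groth.SiteCohomology.isZero_sfib_iff ((Coh.RpushAb f 1).obj (Coh.toAb (Coh.structureModule Y))) y).2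
      ((Groth.SiteCohomology.isZero_stalk_iff _ y).1 hz)
    exact @Subsingleton.elim _ (AddCommGrpCat.subsingleton_of_isZero hz2) a 0
  by_cases hy : y = P
  swap
  · obtain ⟨_, ⟨V, hV, rfl⟩, hyV, hVle⟩ := X.isBasis_affineOpens.exists_subset_of_mem_open
      (show y ∈ ({P} : Set X)ᶜ from hy) hPc.isOpen_compl
    haveI : IsIso (f ∣_ V) := Groth.ArSurfBasics.Principalization.isIso_restrict_mono f
      (U := ⟨({P} : Set X)ᶜ, hPc.isOpen_compl⟩) hVle
    haveI : IsAffine ((f ⁻¹ᵁ V : Y.Opens) : Scheme.{u}) :=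
      haveI : IsAffine (V : Scheme.{u}) := hV
      .of_isIso (f ∣_ V)
    refine ⟨V, hV, hyV, 1, by simpa using hyV, ?_⟩
    letI : ((f ⁻¹ᵁ V : Y.Opens) : Scheme.{u}).Over (Spec (CommRingCat.of Γ(X, V))) :=
      ⟨CohBase.preimageToSpec f⟩
    intro ξ
    haveI : Subsingleton (Coh.HH (f ⁻¹ᵁ V : Y.Opens) ((Coh.structureModule Y).restrict (f ⁻¹ᵁ V).ι) 1) :=
      @Equiv.subsingleton _ _ (Groth.CohBase.equivHTop _ _).toEquiv
        (Groth.CohBase.hVanish_of_isAffineOpen _ (isAffineOpen_top _) 0)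
    exact Subsingleton.elim _ _
  subst hy
  obtain ⟨V, hV, hPV⟩ := Groth.QCohMod.exists_affine_mem y
  let U : Scheme.{u} := (f ⁻¹ᵁ V : Y.Opens)
  letI : U.Over (Spec (CommRingCat.of Γ(X, V))) := ⟨CohBase.preimageToSpec f⟩
  haveI : IsProper (U ↘ Spec (CommRingCat.of Γ(X, V))) :=
    MorphismProperty.of_isPullback (CohBase.isPullback_preimageToSpec f hV) ‹IsProper f›
  haveI : IsNoetherianRing Γ(X, V) := IsLocallyNoetherian.component_noetherian ⟨V, hV⟩
  let p := (hV.primeIdealOf ⟨y, hPV⟩).asIdeal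
  let P₀ := Scheme.IdealSheafData.vanishingIdeal (⟨{y}, hPc⟩ : TopologicalSpace.Closeds X)
  let K := P₀.comap f
  have hKs : (K.support : Set Y) ⊆ I.support := by
    rw [hI, Scheme.IdealSheafData.support_comap, TopologicalSpace.Closeds.coe_preimage,
      Scheme.IdealSheafData.coe_support_vanishingIdeal]
    rfl
  obtain ⟨N, hN⟩ := ExcTest.exists_pow_le I K hKs
  have hp : P₀.ideal ⟨V, hV⟩ ≤ p := by
    have hm : y ∈ P₀.support := by
      rw [← SetLike.mem_coe, Scheme.IdealSheafData.coe_support_vanishingIdeal]; exact rfl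
    exact (Groth.DivisorLength.mem_support_iff_le (W := ⟨V, hV⟩) hPV).1 hm
  obtain ⟨s, hs, hξ⟩ := ExcTest.exists_smul_eq_zero (B := Γ(X, V)) (U := U) p fun m => by
    let W := I ^ ((N + 1) * (m + 1))
    have hW : (W.support : Set Y) = f ⁻¹' {y} := by
      rw [Scheme.IdealSheafData.support_pow _ _ (by positivity), hI]
    obtain ⟨i, hi, hik⟩ := exists_lift f (V := V) W (hW.trans_subset
      (Set.preimage_mono (Set.singleton_subset_iff.2 hPV)))
    refine ⟨i.ker, fun V' => ?_, (ExcTest.subsingleton_iff_quotMod i 1).2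
      ((ExcTest.subsingleton_iff_quotMod W.subschemeι 1).1
        (by rw [Scheme.IdealSheafData.ker_subschemeι]; exact h _ (by positivity)))⟩
    have hle : W ≤ K ^ (m + 1) := by
      intro A
      simp only [W, Scheme.IdealSheafData.ideal_pow, Pi.pow_apply, pow_mul]
      refine Ideal.pow_right_mono ((Ideal.pow_le_pow_right (Nat.le_succ N)).trans ?_) _
      simpa only [Scheme.IdealSheafData.ideal_pow, Pi.pow_apply] using hN A
    rw [hik]
    refine (Scheme.IdealSheafData.comap_mono _ hle V').trans ?_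
    let A : Y.affineOpens := ⟨(f ⁻¹ᵁ V).ι ''ᵁ V'.1, V'.2.image_of_isOpenImmersion _⟩
    have hA : V'.1 ≤ (f ⁻¹ᵁ V).ι ⁻¹ᵁ A.1 := (Scheme.Hom.preimage_image_eq _ _).ge
    have hAV : A.1 ≤ f ⁻¹ᵁ V := Scheme.Opens.ι_image_le _ _
    rw [Groth.Divisors.ideal_comap_affine _ _ A V' hA, Scheme.IdealSheafData.ideal_pow, Pi.pow_apply,
      Groth.Divisors.ideal_comap_affine _ _ ⟨V, hV⟩ A hAV, Ideal.map_pow, Ideal.map_map,
      ← CommRingCat.hom_comp, Scheme.Hom.appLE_comp_appLE, Ideal.map_pow]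
    refine (Ideal.pow_le_pow_right (Nat.le_succ m)).trans (Ideal.pow_right_mono ?_ m)
    refine (Ideal.map_mono hp).trans (Ideal.map_le_iff_le_comap.2 fun c hc => ?_)
    rw [Ideal.mem_comap, appLE_preimageToSpec f hV]
    exact Ideal.mem_map_of_mem _ hc
  refine ⟨V, hV, hPV, s, ?_, fun ξ => ?_⟩
  · exact (X.mem_basicOpen s y hPV).2
      ((Groth.DivisorLength.isUnit_germ_iff (W := ⟨V, hV⟩) hPV s).2 hs)
  · let i0 : (Coh.structureModule Y).restrict (f ⁻¹ᵁ V).ι ≅ Coh.structureModule U :=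
      ((Scheme.Modules.restrictFunctorIsoPullback (f ⁻¹ᵁ V).ι).app _) ≪≫
        (Groth.PicAux.pullback_structure_iso (f ⁻¹ᵁ V).ι).some
    refine (Groth.EulerDeg.hEquiv Γ(X, V) i0 1).injective ?_
    rw [map_smul, map_zero]
    exact hξ _

/-- Let k be a field and X a normal surface over k (an integral normal scheme, separated and of finite
type over k, of dimension two) whose only non-regular point is the closed point P. Let f : Y → X be
a resolution: a proper morphism from an integral scheme Y of dimension two with all local rings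
regular, restricting to an isomorphism over the complement of P. Then R^1 f_* O_Y = 0 (first higher
direct image of abelian sheaves), that is, P is a rational singularity, if and only if H^1(W, O_W) =
0 for every nonzero effective Cartier divisor W on Y (quasi-coherent ideal sheaf that is an
invertible module, with nonempty support) which is f-exceptional, that is, supported in the fibre of
f over P. (The published statement also has a third equivalent condition, the vanishing of H^1 of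
the structure sheaf of the fundamental cycle of f, not restated here.) -/
theorem result (k : Type u) [Field k] (X : Scheme.{u}) [X.Over (Spec (CommRingCat.of k))]
    [IsIntegral X] [IsSeparated (X ↘ (Spec (CommRingCat.of k)))] [LocallyOfFiniteType (X ↘ (Spec (CommRingCat.of k)))]
    [CompactSpace X] (hdim : topologicalKrullDim X = 2) (hnorm : Pi1.IsNormalScheme X)
    (P : X) (hPc : IsClosed ({P} : Set X)) (hP : ¬ IsRegularLocalRing (X.presheaf.stalk P))
    (hreg : ∀ x : X, x ≠ P → IsRegularLocalRing (X.presheaf.stalk x))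
    (Y : Scheme.{u}) (f : Y ⟶ X) [IsIntegral Y] (hdimY : topologicalKrullDim Y = 2)
    (hregY : ∀ y : Y, IsRegularLocalRing (Y.presheaf.stalk y)) [IsProper f]
    (hiso : IsIso (f ∣_ ⟨({P} : Set X)ᶜ, hPc.isOpen_compl⟩)) :
    IsZero ((Coh.RpushAb f 1).obj (Coh.toAb (Coh.structureModule Y))) ↔
      ∀ W : Y.IdealSheafData, PicF.IsInvertible (ClSub.idealMod W) → (W.support : Set Y).Nonempty →
        (W.support : Set Y) ⊆ f.base ⁻¹' {P} → Subsingleton (Coh.HH Y (ClSub.quotMod W) 1) := by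
  haveI := hiso
  haveI : IsLocallyNoetherian X := LocallyOfFiniteType.isLocallyNoetherian (X ↘ (Spec (CommRingCat.of k)))
  haveI : IsLocallyNoetherian Y := LocallyOfFiniteType.isLocallyNoetherian f
  haveI : CompactSpace Y := QuasiCompact.compactSpace_of_compactSpace f
  haveI : IsNoetherian Y := {}
  let Cp : X.Opens := ⟨({P} : Set X)ᶜ, hPc.isOpen_compl⟩
  have hne : (Cp : Set X).Nonempty := by
    by_contra hem
    haveI : Subsingleton X := ⟨fun a b => by
      have h : ∀ z : X, z = P := fun z => by_contra fun hz => hem ⟨z, hz⟩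
      rw [h a, h b]⟩
    haveI : Subsingleton (TopologicalSpace.IrreducibleCloseds X) :=
      (irreducibleSetEquivPoints (α := X)).toEquiv.subsingleton
    have h2 : topologicalKrullDim X ≤ 0 := Order.krullDim_nonpos_of_subsingleton
    rw [hdim] at h2
    exact absurd h2 (by decide)
  have hpre : ((f ⁻¹ᵁ Cp : Y.Opens) : Set Y).Nonempty := by
    obtain ⟨x, hx⟩ := hne
    obtain ⟨q, -⟩ := (f ∣_ Cp).homeomorph.surjective ⟨x, hx⟩
    exact ⟨q.1, q.2⟩
  have hd : ∀ x : X, topologicalKrullDim ↥(f.fiber x) ≤ ((1 : ℕ) : WithBot ℕ∞) := fun x =>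
    Groth.ResPropLib.fiber_dim_le f Cp ((f ⁻¹ᵁ Cp).2.dense hpre)
      (fun z hz => Groth.ResPropLib.finite_fiber_of_isIso f Cp hiso z hz) x 1 (by
        have h := Order.coheight_le_krullDim ((irreducibleSetEquivPoints (α := X)).symm x)
        rw [Order.coheight_orderIso] at h
        exact WithBot.coe_le_coe.1 (h.trans_eq hdim))
  constructor
  · intro hR W _ _ hW
    obtain ⟨V, hV, hPV⟩ := Groth.QCohMod.exists_affine_mem P
    exact forward f hd hR hV W (hW.trans (Set.preimage_mono (Set.singleton_subset_iff.2 hPV)))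
  · intro h
    obtain ⟨y₀, hy₀⟩ : ∃ y₀, f y₀ = P := by
      have h1 : (Cp : Set X) ⊆ Set.range f := fun x hx => by
        obtain ⟨q, hq⟩ := (f ∣_ Cp).homeomorph.surjective ⟨x, hx⟩
        exact ⟨q.1, (morphismRestrict_base_coe f Cp q).symm.trans (congrArg Subtype.val hq)⟩
      have h2 := closure_minimal h1 f.isClosedMap.isClosed_range
      rw [show closure (Cp : Set X) = Set.univ from (Cp.2.dense hne).closure_eq] at h2
      exact h2 (Set.mem_univ P)
    have hrel : ∀ x, f x = P → ∃ z, f z = P ∧ z ≠ x ∧ (z ⤳ x ∨ x ⤳ z) := by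
      haveI : IsIntegrallyClosed (X.presheaf.stalk P) := (hnorm P).2
      refine (Groth.ArSurfBasics.isIso_nhd_or_related f hne P).resolve_left fun ⟨V, hPV, hV⟩ => hP ?_
      have hy₀V : y₀ ∈ f ⁻¹ᵁ V := show f y₀ ∈ V by rw [hy₀]; exact hPV
      haveI := hV
      haveI : IsIso (f.stalkMap y₀) :=
        ((MorphismProperty.isomorphisms CommRingCat.{u}).arrow_mk_iso_iff
          (morphismRestrictStalkMap f V ⟨y₀, hy₀V⟩)).1
          (inferInstanceAs (IsIso ((f ∣_ V).stalkMap ⟨y₀, hy₀V⟩)))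
      haveI := hregY y₀
      exact hy₀ ▸ IsRegularLocalRing.of_ringEquiv (asIso (f.stalkMap y₀)).commRingCatIsoToRingEquiv.symm
    obtain ⟨I, hI, hIs⟩ := ExcTest.exists_divisor hregY (f ⁻¹' {P}) (hPc.preimage f.continuous)
      fun ξ hξ hmax => by
        obtain ⟨z, hz, hzne, hzs | hzs⟩ := hrel ξ hξ
        · exact absurd (hmax z hz hzs) hzne
        have hle := ExcTest.dim_stalk_le_one hdimY.le hzs hzne.symm
        refine le_antisymm hle ?_
        rw [ringKrullDim_stalk_eq_coheight]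
        refine WithBot.coe_le_coe.2 (ENat.one_le_iff_ne_zero.2 fun h0 => ?_)
        rw [Order.coheight_eq_zero] at h0
        have hξη : ξ = genericPoint Y :=
          ((Scheme.le_iff_specializes.1 (h0 (Scheme.le_iff_specializes.2 (genericPoint_specializes ξ)))).antisymm
            (genericPoint_specializes ξ)).eq
        have : genericPoint Y ∈ f ⁻¹ᵁ Cp :=
          ((genericPoint_spec Y).mem_open_set_iff (f ⁻¹ᵁ Cp).2).2 (by simpa using hpre)
        exact this (hξη ▸ hξ)
    refine backward f hPc I hIs fun N hN => h _ ?_ ?_ ?_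
    · exact Groth.PicAux.isInvertible_idealMod (Groth.Divisors.isEffCartierIdeal_pow hI N)
    · rw [Scheme.IdealSheafData.support_pow _ _ hN.ne', hIs]
      exact ⟨y₀, hy₀⟩
    · rw [Scheme.IdealSheafData.support_pow _ _ hN.ne', hIs]

end Groth.Agent.S16303
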