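import Groth.Statements.S16304
import Groth.Agent.Ega2Proj.CounitGen
import Groth.Agent.HensPair.SteinNormalPoint
import Groth.Agent.PnCoh.ProjFinite
import Groth.Agent.DivisorLength.Basic
import Groth.Agent.Divisors.IdealComap
import Groth.Agent.PicAux.EffCartierLine

set_option backward.isDefEq.respectTransparency.types false

set_option autoImplicit false
universe u
open CategoryTheory CategoryTheory.Limits AlgebraicGeometry
open Resolve

namespace Groth.Agent.S16304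

theorem birational {X Y : Scheme.{u}} [IsIntegral X] [IsIntegral Y] (f : Y ⟶ X) (U : X.Opens)
    (hU : (U : Set X).Nonempty) [IsIso (f ∣_ U)] :
    ∃ hdom : f.base (genericPoint Y) ⤳ genericPoint X,
      Function.Surjective (CohIII.stalkToFunctionField f (genericPoint X) hdom) := by
  have hη : genericPoint X ∈ U :=
    ((genericPoint_spec X).mem_open_set_iff U.2).2 (by simpa using hU)
  obtain ⟨x, hx⟩ := (f ∣_ U).homeomorph.surjective ⟨_, hη⟩
  have hx' : f x.1 = genericPoint X :=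
    (morphismRestrict_base_coe f U x).symm.trans (congrArg Subtype.val hx)
  have hξ : genericPoint Y ∈ f ⁻¹ᵁ U :=
    ((genericPoint_spec Y).mem_open_set_iff (f ⁻¹ᵁ U).2).2 ⟨x.1, trivial, x.2⟩
  have h1 : f (genericPoint Y) ⤳ genericPoint X := hx' ▸ (genericPoint_specializes x.1).map f.continuous
  have heq : f (genericPoint Y) = genericPoint X := (h1.antisymm (genericPoint_specializes _)).eq
  have : IsIso ((f ∣_ U).stalkMap ⟨_, hξ⟩) := inferInstance
  have : IsIso (f.stalkMap (genericPoint Y)) :=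
    ((MorphismProperty.isomorphisms CommRingCat.{u}).arrow_mk_iso_iff
      (morphismRestrictStalkMap f U ⟨_, hξ⟩)).1 this
  refine ⟨h1, fun z => ?_⟩
  obtain ⟨a, ha⟩ := (ConcreteCategory.bijective_of_isIso (f.stalkMap (genericPoint Y))).2 z
  have h2 : genericPoint X ⤳ f (genericPoint Y) := genericPoint_specializes _
  refine ⟨X.presheaf.stalkSpecializes h2 a, ?_⟩
  refine Eq.trans ?_ ha
  show f.stalkMap (genericPoint Y) ((X.presheaf.stalkSpecializes h2 ≫ X.presheaf.stalkSpecializes h1) a) = _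
  rw [TopCat.Presheaf.stalkSpecializes_comp, TopCat.Presheaf.stalkSpecializes_refl]
  rfl

open Groth.PicAux in
theorem local_le {X Y : Scheme.{u}} (f : Y ⟶ X) [IsProper f] [IsLocallyNoetherian Y]
    (P : X) (hPc : IsClosed ({P} : Set X)) (V : Y.IdealSheafData)
    {W₀ : X.Opens} {U₀ : Y.Opens} (hU₀ : U₀ ≤ f ⁻¹ᵁ W₀)
    (s : Γ(ClSub.idealMod V, f ⁻¹ᵁ W₀)) (hs : Gen (ClSub.idealMod V) U₀ (res _ hU₀ s))
    (hPV : ∃ y₀ ∈ V.support, f y₀ = P) (hP0 : P ∈ W₀)
    {W₁ : X.Opens} (hW₁ : IsAffineOpen W₁) (hP1 : P ∈ W₁) [IsIso (f.app W₁)]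
    (y : Y) (hy : y ∈ U₀) (hyP : f y = P) :
    ∃ U : Y.affineOpens, y ∈ U.1 ∧
      V.ideal U ≤ ((Scheme.IdealSheafData.vanishingIdeal ⟨{P}, hPc⟩).comap f).ideal U := by
  obtain ⟨h, hle, hPh⟩ := hW₁.exists_basicOpen_le (V := W₀) ⟨P, hP0⟩ hP1
  let g := f.app W₁ h
  have hg : Y.basicOpen g = f ⁻¹ᵁ X.basicOpen h := (Scheme.preimage_basicOpen f h).symm
  have hgW : Y.basicOpen g ≤ f ⁻¹ᵁ W₀ := hg.le.trans (f.preimage_mono hle)
  let x : Γ(Y, Y.basicOpen g) := OmegaSh.idealSect V _ (res _ hgW s)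
  obtain ⟨n, b, hb⟩ := exists_eq_pow_mul_of_isCompact_of_isQuasiSeparated Y (f ⁻¹ᵁ W₁)
    (QuasiCompact.isCompact_preimage _ W₁.2 hW₁.isCompact) (IsQuasiSeparated.of_quasiSeparatedSpace _) g x
  obtain ⟨a, rfl⟩ := (ConcreteCategory.bijective_of_isIso (f.app W₁)).2 b
  have hxmem : ∀ A : Y.affineOpens, ∀ hA : A.1 ≤ Y.basicOpen g, resX Y hA x ∈ V.ideal A := by
    intro A hA
    rw [← idealSect_res' V hA]
    exact Groth.OmegaSheaf.idealSect_mem V A _
  -- `a` vanishes at the point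
  have haP : a ∈ (hW₁.primeIdealOf ⟨P, hP1⟩).asIdeal := by
    by_contra hu
    have hu' := (Groth.DivisorLength.isUnit_germ_iff (W := ⟨W₁, hW₁⟩) hP1 a).2 hu
    obtain ⟨y₀, hy₀, hy₀P⟩ := hPV
    subst hy₀P
    have hy₀1 : y₀ ∈ f ⁻¹ᵁ W₁ := hP1
    have hy₀g : y₀ ∈ Y.basicOpen g := hg.ge hPh
    obtain ⟨_, ⟨A, hA, rfl⟩, hyA, hAg⟩ :=
      Y.isBasis_affineOpens.exists_subset_of_mem_open hy₀g (Y.basicOpen g).2
    have h1 : IsUnit (Y.presheaf.germ (f ⁻¹ᵁ W₁) y₀ hy₀1 (f.app W₁ a)) := by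
      rw [← Scheme.Hom.germ_stalkMap_apply]
      exact hu'.map _
    have h2 : Y.presheaf.germ (f ⁻¹ᵁ W₁) y₀ hy₀1 (f.app W₁ a) =
        Y.presheaf.germ (f ⁻¹ᵁ W₁) y₀ hy₀1 g ^ n * Y.presheaf.germ _ y₀ hy₀g x := by
      have := congrArg (Y.presheaf.germ _ y₀ hy₀g) hb
      rw [map_mul, map_pow] at this
      erw [TopCat.Presheaf.germ_res_apply, TopCat.Presheaf.germ_res_apply] at this
      exact this
    rw [h2, IsUnit.mul_iff] at h1
    have h3 : IsUnit (Y.presheaf.germ A y₀ hyA (resX Y hAg x)) := by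
      erw [TopCat.Presheaf.germ_res_apply]
      exact h1.2
    exact (Groth.DivisorLength.isUnit_germ_iff (W := ⟨A, hA⟩) hyA _).1 h3
      ((Groth.DivisorLength.mem_support_iff_le (W := ⟨A, hA⟩) hyA).1 hy₀ (hxmem ⟨A, hA⟩ hAg))
  have ha : a ∈ (Scheme.IdealSheafData.vanishingIdeal ⟨{P}, hPc⟩).ideal ⟨W₁, hW₁⟩ := by
    rw [Scheme.IdealSheafData.vanishingIdeal_ideal, PrimeSpectrum.mem_vanishingIdeal]
    intro q hq
    have hq' : hW₁.fromSpec q = P := hq
    have : hW₁.primeIdealOf ⟨P, hP1⟩ = q :=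
      hW₁.fromSpec.isEmbedding.injective ((hW₁.fromSpec_primeIdealOf _).trans hq'.symm)
    exact this ▸ haP
  obtain ⟨_, ⟨U, hU, rfl⟩, hyU, hUle⟩ := Y.isBasis_affineOpens.exists_subset_of_mem_open
    (show y ∈ U₀ ⊓ Y.basicOpen g from ⟨hy, hg.ge (show f y ∈ X.basicOpen h by rw [hyP]; exact hPh)⟩)
    (U₀ ⊓ Y.basicOpen g).2
  have hU0 : U ≤ U₀ := fun z hz => (hUle hz).1
  have hUg : U ≤ Y.basicOpen g := fun z hz => (hUle hz).2
  have hUW : U ≤ f ⁻¹ᵁ W₁ := hUg.trans (Y.basicOpen_le g)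
  refine ⟨⟨U, hU⟩, hyU, fun t ht => ?_⟩
  rw [Groth.Divisors.ideal_comap_affine _ f ⟨W₁, hW₁⟩ ⟨U, hU⟩ hUW]
  obtain ⟨k, rfl⟩ := Groth.OmegaSheaf.exists_idealSect V ⟨U, hU⟩ ht
  obtain ⟨r, rfl⟩ := (hs U hU0).2 k
  have hxU : OmegaSh.idealSect V U (res _ hU0 (res _ hU₀ s)) = resX Y hUg x := by
    rw [res_res, ← idealSect_res', res_res]
  have hbU : (f.appLE W₁ U hUW) a = resX Y hUg (resX Y (Y.basicOpen_le g) g) ^ n * resX Y hUg x := by
    have := congrArg (resX Y hUg) hb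
    rw [map_mul, map_pow] at this
    refine Eq.trans ?_ this
    show _ = Y.presheaf.map _ (Y.presheaf.map _ (f.app W₁ a))
    rw [← ConcreteCategory.comp_apply, ← ConcreteCategory.comp_apply, ← Functor.map_comp]
    rfl
  have hunit : IsUnit (resX Y hUg (resX Y (Y.basicOpen_le g) g)) :=
    (RingedSpace.isUnit_res_basicOpen _ g).map _
  simp only [Groth.OmegaSheaf.idealSect_smul, hxU]
  refine Ideal.mul_mem_left _ r ?_
  rw [← (hunit.pow n).unit.inv_mul_cancel_left (resX Y hUg x)]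
  refine Ideal.mul_mem_left _ _ ?_
  rw [IsUnit.unit_spec, ← hbU]
  exact Ideal.mem_map_of_mem _ ha

/-- Let k be a field and X a normal surface over k (an integral normal scheme, separated and of finite
type over k, of dimension two) whose only non-regular point is the closed point P, and f : Y → X a
resolution: a proper morphism from an integral scheme Y of dimension two with all local rings
regular, restricting to an isomorphism over the complement of P. Let V be an effective Cartier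
divisor on Y, given by a quasi-coherent ideal sheaf O_Y(-V) that is an invertible module, such that
P lies in f(Supp V) and O_Y(-V) is f-free, that is, the counit f^* f_* O_Y(-V) → O_Y(-V) is an
epimorphism. Then O_Y(-V) is contained in m_P O_Y, the inverse image ideal sheaf of the ideal of the
reduced point P. -/
theorem result (k : Type u) [Field k] (X : Scheme.{u}) [X.Over (Spec (CommRingCat.of k))]
    [IsIntegral X] [IsSeparated (X ↘ (Spec (CommRingCat.of k)))] [LocallyOfFiniteType (X ↘ (Spec (CommRingCat.of k)))]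
    [CompactSpace X] (hdim : topologicalKrullDim X = 2) (hnorm : Pi1.IsNormalScheme X)
    (P : X) (hPc : IsClosed ({P} : Set X)) (hP : ¬ IsRegularLocalRing (X.presheaf.stalk P))
    (hreg : ∀ x : X, x ≠ P → IsRegularLocalRing (X.presheaf.stalk x))
    (Y : Scheme.{u}) (f : Y ⟶ X) [IsIntegral Y] (hdimY : topologicalKrullDim Y = 2)
    (hregY : ∀ y : Y, IsRegularLocalRing (Y.presheaf.stalk y)) [IsProper f]
    (hiso : IsIso (f ∣_ ⟨({P} : Set X)ᶜ, hPc.isOpen_compl⟩))
    (V : Y.IdealSheafData) (hV : PicF.IsInvertible (ClSub.idealMod V)) (hPV : P ∈ f.base '' (V.support : Set Y))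
    (hfree : Epi ((Scheme.Modules.pullbackPushforwardAdjunction f).counit.app (ClSub.idealMod V))) :
    V ≤ (Scheme.IdealSheafData.vanishingIdeal ⟨{P}, hPc⟩).comap f := by
  let o : X.Opens := ⟨({P} : Set X)ᶜ, hPc.isOpen_compl⟩
  have hη : genericPoint X ∈ o := by
    intro h
    exact hP (h ▸ (inferInstanceAs (IsRegularLocalRing X.functionField)))
  have : IsIso (f ∣_ o) := hiso
  obtain ⟨hdom, hsurj⟩ := birational f o ⟨_, hη⟩
  have : IsLocallyNoetherian X := LocallyOfFiniteType.isLocallyNoetherian (X ↘ Spec (CommRingCat.of k))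
  have : IsLocallyNoetherian Y := LocallyOfFiniteType.isLocallyNoetherian f
  obtain ⟨W₁, hW₁, hP1, hiso1⟩ := Groth.HensPair.exists_affine_isIso_app f Groth.PnCoh.projFinite hdom
    (fun x _ => hsurj x) P (hnorm P).2
  have key : ∀ y : Y, ∃ U : Y.affineOpens, y ∈ U.1 ∧
      V.ideal U ≤ ((Scheme.IdealSheafData.vanishingIdeal ⟨{P}, hPc⟩).comap f).ideal U := by
    intro y
    by_cases hyP : f y = P
    · obtain ⟨W₀, U₀, hU₀, s, hy, hgen⟩ := Groth.Ega2Proj.exists_gen_of_epi_counit f hV y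
      have hP0 : P ∈ W₀ := by rw [← hyP]; exact hU₀ hy
      have : IsIso (f.app W₁) := hiso1
      exact local_le f P hPc V hU₀ s hgen hPV hP0 hW₁ hP1 y hy hyP
    · obtain ⟨_, ⟨W, hW, rfl⟩, hyW, hWo⟩ :=
        X.isBasis_affineOpens.exists_subset_of_mem_open (show f y ∈ o from hyP) o.2
      obtain ⟨_, ⟨U, hU, rfl⟩, hyU, hUW⟩ :=
        Y.isBasis_affineOpens.exists_subset_of_mem_open (show y ∈ f ⁻¹ᵁ W from hyW) (f ⁻¹ᵁ W).2
      refine ⟨⟨U, hU⟩, hyU, ?_⟩
      rw [Groth.Divisors.ideal_comap_affine _ f ⟨W, hW⟩ ⟨U, hU⟩ hUW]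
      have : (Scheme.IdealSheafData.vanishingIdeal ⟨{P}, hPc⟩).ideal ⟨W, hW⟩ = ⊤ := by
        rw [Ideal.eq_top_iff_one, Scheme.IdealSheafData.vanishingIdeal_ideal, PrimeSpectrum.mem_vanishingIdeal]
        intro q hq
        exact (hWo (hW.range_fromSpec.le ⟨q, rfl⟩) hq).elim
      rw [this, Ideal.map_top]
      exact le_top
  choose U hyU hle using key
  exact Scheme.IdealSheafData.le_of_iSup_eq_top U
    (eq_top_iff.2 fun y _ => TopologicalSpace.Opens.mem_iSup.2 ⟨y, hyU y⟩) hle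

end Groth.Agent.S16304
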