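import Groth.Statements.S1631
import Mathlib
import Groth.Agent.Curves1.Node.Completion

set_option autoImplicit false
universe u
open Curves

namespace Groth.Agent.S1631

/-- For a Noetherian local k-algebra (A, m, κ), these two conditions are equivalent: (i) κ is separable
over k, A is reduced, m/m^2 has dimension two, and there are x, y spanning m modulo m^2 and a, b, c
∈ A whose residues form a nondegenerate quadratic form with a x^2 + b xy + c y^2 ∈ m^3; (ii) κ is
separable over k and the m-adic completion of A is isomorphic, compatibly with the maps from k, to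
κ[[u, v]]/(a' u^2 + b' uv + c' v^2) for a nondegenerate quadratic form over κ. -/
theorem result (k : Type u) [Field k] (A : Type u) [CommRing A] [IsLocalRing A] [IsNoetherianRing A]
    [Algebra k A] :
    (Algebra.IsSeparable k (IsLocalRing.ResidueField A) ∧ IsReduced A ∧
      Module.finrank (IsLocalRing.ResidueField A) (IsLocalRing.CotangentSpace A) = 2 ∧
      ∃ x y a b c : A, x ∈ IsLocalRing.maximalIdeal A ∧ y ∈ IsLocalRing.maximalIdeal A ∧
        Ideal.span {x, y} ⊔ IsLocalRing.maximalIdeal A ^ 2 = IsLocalRing.maximalIdeal A ∧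
        IsLocalRing.residue A (4 * a * c - b ^ 2) ≠ 0 ∧
        a * x ^ 2 + b * x * y + c * y ^ 2 ∈ IsLocalRing.maximalIdeal A ^ 3) ↔
    (Algebra.IsSeparable k (IsLocalRing.ResidueField A) ∧
      ∃ a b c : IsLocalRing.ResidueField A, 4 * a * c - b ^ 2 ≠ 0 ∧
        ∃ e : AdicCompletion (IsLocalRing.maximalIdeal A) A ≃+*
            (MvPowerSeries (Fin 2) (IsLocalRing.ResidueField A) ⧸ Ideal.span
              {(MvPowerSeries.C a * MvPowerSeries.X 0 ^ 2 + MvPowerSeries.C b * MvPowerSeries.X 0 * MvPowerSeries.X 1 +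
                MvPowerSeries.C c * MvPowerSeries.X 1 ^ 2 : MvPowerSeries (Fin 2) (IsLocalRing.ResidueField A))}),
          ∀ t : k, e (algebraMap A _ (algebraMap k A t)) =
            Ideal.Quotient.mk _ (MvPowerSeries.C (algebraMap A (IsLocalRing.ResidueField A) (algebraMap k A t)))) := by
  classical
  let R := AdicCompletion (IsLocalRing.maximalIdeal A) A
  let ι : A →+* R := algebraMap A R
  have : IsNoetherianRing R := Groth.Curves1.Node.isNoetherianRing_completion A
  have hspan := Groth.Curves1.Node.finrank_cotangent_completion A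
  constructor
  · rintro ⟨hsep, hred, hdim, x, y, a, b, c, hx, hy, hxy, hD, hQ⟩
    refine ⟨hsep, IsLocalRing.residue A a, IsLocalRing.residue A b, IsLocalRing.residue A c,
      by simpa [map_ofNat] using hD, ?_⟩
    set κ := IsLocalRing.ResidueField A
    have : Algebra.FormallyEtale k κ := Algebra.FormallyEtale.of_isSeparable k κ
    let g : κ →ₐ[k] IsLocalRing.ResidueField R :=
      { IsLocalRing.ResidueField.map ι with
        commutes' := fun t => rfl }
    obtain ⟨s, hs⟩ := Groth.Curves1.Node.exists_lift_residue g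
    let := s.toRingHom.toAlgebra
    have hres : Function.Surjective ((IsLocalRing.residue R).comp (algebraMap κ R)) := by
      intro z
      obtain ⟨z, rfl⟩ := IsLocalRing.residue_surjective z
      obtain ⟨a', ha'⟩ := Groth.Curves1.Node.exists_sub_algebraMap_mem A z
      refine ⟨IsLocalRing.residue A a', ?_⟩
      show IsLocalRing.residue R (s (IsLocalRing.residue A a')) = _
      rw [hs]
      show IsLocalRing.residue R (ι a') = _
      rw [eq_comm, ← sub_eq_zero, ← map_sub, IsLocalRing.residue_eq_zero_iff]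
      exact ha'
    have hsub : ∀ t : A, algebraMap κ R (IsLocalRing.residue A t) - ι t ∈ IsLocalRing.maximalIdeal R := by
      intro t
      rw [← IsLocalRing.residue_eq_zero_iff, map_sub]
      show IsLocalRing.residue R (s (IsLocalRing.residue A t)) - _ = 0
      rw [hs, sub_eq_zero]
      rfl
    have hxyA : Ideal.span {x, y} = IsLocalRing.maximalIdeal A := by
      refine le_antisymm (Ideal.span_le.mpr (by rintro z (rfl | rfl); exacts [hx, hy])) ?_
      refine Submodule.le_of_le_smul_of_le_jacobson_bot (IsNoetherian.noetherian _)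
        (IsLocalRing.maximalIdeal_le_jacobson ⊥) ?_
      conv_lhs => rw [← hxy]
      rw [smul_eq_mul, ← sq]
    have hxyR : Ideal.span {ι x, ι y} = IsLocalRing.maximalIdeal R := by
      have := congrArg (Ideal.map ι) hxyA
      rw [Ideal.map_span, Set.image_pair] at this
      exact this.trans AdicCompletion.maximalIdeal_eq_map.symm
    have hdim' : (IsLocalRing.maximalIdeal R).spanFinrank = 2 := hspan.symm.trans hdim
    obtain ⟨t, ht, ht'⟩ := Groth.Curves1.Node.exists_nonZeroDivisor_of_isReduced (R := A) (by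
      rw [IsLocalRing.spanFinrank_maximalIdeal_eq_finrank_cotangentSpace, hdim]; norm_num)
    have htR : ι t ∈ nonZeroDivisors R := by
      have hreg : IsSMulRegular A t := fun u v huv => sub_eq_zero.mp
        ((mem_nonZeroDivisors_iff_left.mp ht') _ (by rw [mul_sub]; exact sub_eq_zero.mpr huv))
      have h2 := IsSMulRegular.of_flat (S := R) hreg
      rw [mem_nonZeroDivisors_iff_left]
      intro u hu
      exact h2 (show ι t * u = ι t * 0 by rw [hu, mul_zero])
    have hxR : ι x ∈ IsLocalRing.maximalIdeal R := hxyR ▸ Ideal.subset_span (Set.mem_insert _ _)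
    have hyR : ι y ∈ IsLocalRing.maximalIdeal R :=
      hxyR ▸ Ideal.subset_span (Set.mem_insert_of_mem _ rfl)
    have hQR : Groth.Curves1.Node.quadVal (IsLocalRing.residue A a) (IsLocalRing.residue A b)
        (IsLocalRing.residue A c) (ι x) (ι y) ∈ IsLocalRing.maximalIdeal R ^ 3 := by
      have h1 := Groth.Curves1.Node.quadVal_sub_mem hxR hyR hxR hyR (by simp) (by simp)
        (hsub a) (hsub b) (hsub c)
      have h2 : ι (a * x ^ 2 + b * x * y + c * y ^ 2) ∈ IsLocalRing.maximalIdeal R ^ 3 := by
        rw [Groth.Curves1.Node.pow_maximalIdeal_eq_map]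
        exact Ideal.mem_map_of_mem _ hQ
      have h3 := add_mem h1 h2
      simpa [Groth.Curves1.Node.quadVal] using h3
    obtain ⟨e⟩ := Groth.Curves1.Node.nonempty_equiv_quadric hres
      (Groth.Curves1.Node.not_le_span_of_spanFinrank hdim')
      (show ι t ∈ IsLocalRing.maximalIdeal R by
        rw [AdicCompletion.maximalIdeal_eq_map]; exact Ideal.mem_map_of_mem _ ht)
      htR hxyR (by simpa [map_ofNat] using hD) hQR
    refine ⟨e.toRingEquiv, fun t' => ?_⟩
    have h4 : ι (algebraMap k A t') = algebraMap κ R (algebraMap k κ t') := (s.commutes t').symm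
    show e (ι (algebraMap k A t')) = _
    rw [h4, AlgEquiv.commutes]
    rfl
  · rintro ⟨hsep, a, b, c, hD, e, -⟩
    let e' : R ≃+* Groth.Curves1.Node.Quadric a b c := e
    have hred : IsReduced A := by
      have := Groth.Curves1.Node.quadric_isReduced' hD
      exact isReduced_of_injective (e'.toRingHom.comp ι)
        (e'.injective.comp (Groth.Curves1.Node.algebraMap_completion_injective A))
    have hmem : ∀ z, z ∈ IsLocalRing.maximalIdeal R ↔
        e' z ∈ IsLocalRing.maximalIdeal (Groth.Curves1.Node.Quadric a b c) := by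
      intro z
      rw [IsLocalRing.mem_maximalIdeal, IsLocalRing.mem_maximalIdeal, mem_nonunits_iff,
        mem_nonunits_iff]
      exact not_congr ⟨fun h => h.map e', fun h => by simpa using h.map e'.symm⟩
    set q := Ideal.Quotient.mk (Ideal.span {Groth.Curves1.Node.quad a b c})
    set u₁ := e'.symm (q (MvPowerSeries.X 0))
    set v₁ := e'.symm (q (MvPowerSeries.X 1))
    have hspanR : Ideal.span {u₁, v₁} = IsLocalRing.maximalIdeal R := by
      ext z
      rw [hmem, ← Groth.Curves1.Node.quadric_maximalIdeal, Ideal.mem_span_pair, Ideal.mem_span_pair]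
      constructor
      · rintro ⟨α, β, rfl⟩; exact ⟨e' α, e' β, by simp [u₁, v₁, q]⟩
      · rintro ⟨α, β, h⟩; exact ⟨e'.symm α, e'.symm β, e'.injective (by simp [u₁, v₁, q, h])⟩
    have hnp : ∀ z ∈ IsLocalRing.maximalIdeal R, ¬ IsLocalRing.maximalIdeal R ≤ Ideal.span {z} := by
      intro z hz hle
      refine Groth.Curves1.Node.quadric_maximalIdeal_not_le_span a b c (e' z) ((hmem z).mp hz) ?_
      intro w hw
      obtain ⟨α, hα⟩ := Ideal.mem_span_singleton'.mp
        (hle ((hmem (e'.symm w)).mpr (by simpa using hw)))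
      exact Ideal.mem_span_singleton'.mpr ⟨e' α, by rw [← map_mul, hα, e'.apply_symm_apply]⟩
    refine ⟨hsep, hred, hspan.trans (Groth.Curves1.Node.spanFinrank_eq_two hspanR hnp), ?_⟩
    have hu₁ : u₁ ∈ IsLocalRing.maximalIdeal R := hspanR ▸ Ideal.subset_span (Set.mem_insert _ _)
    have hv₁ : v₁ ∈ IsLocalRing.maximalIdeal R :=
      hspanR ▸ Ideal.subset_span (Set.mem_insert_of_mem _ rfl)
    obtain ⟨x, hx, hx2⟩ := Groth.Curves1.Node.exists_mem_sub_algebraMap_mem_sq A hu₁
    obtain ⟨y, hy, hy2⟩ := Groth.Curves1.Node.exists_mem_sub_algebraMap_mem_sq A hv₁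
    let σ : IsLocalRing.ResidueField A →+* R :=
      e'.symm.toRingHom.comp (q.comp MvPowerSeries.C)
    obtain ⟨aA, haA⟩ := Groth.Curves1.Node.exists_sub_algebraMap_mem A (σ a)
    obtain ⟨bA, hbA⟩ := Groth.Curves1.Node.exists_sub_algebraMap_mem A (σ b)
    obtain ⟨cA, hcA⟩ := Groth.Curves1.Node.exists_sub_algebraMap_mem A (σ c)
    refine ⟨x, y, aA, bA, cA, hx, hy, ?_, ?_, ?_⟩
    · refine le_antisymm (sup_le (Ideal.span_le.mpr (by rintro z (rfl | rfl); exacts [hx, hy]))
        (Ideal.pow_le_self two_ne_zero)) fun z hz => ?_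
      have hz' : ι z ∈ IsLocalRing.maximalIdeal R := by
        rw [AdicCompletion.maximalIdeal_eq_map]; exact Ideal.mem_map_of_mem _ hz
      rw [← hspanR] at hz'
      obtain ⟨α, β, hαβ⟩ := Ideal.mem_span_pair.mp hz'
      obtain ⟨α', hα'⟩ := Groth.Curves1.Node.exists_sub_algebraMap_mem A α
      obtain ⟨β', hβ'⟩ := Groth.Curves1.Node.exists_sub_algebraMap_mem A β
      have h2 : z - (α' * x + β' * y) ∈ IsLocalRing.maximalIdeal A ^ 2 := by
        refine Groth.Curves1.Node.mem_pow_of_algebraMap_mem A ?_
        have : ι (z - (α' * x + β' * y)) = (α - ι α') * u₁ + ι α' * (u₁ - ι x) +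
            ((β - ι β') * v₁ + ι β' * (v₁ - ι y)) := by
          simp only [map_sub, map_add, map_mul]
          rw [← hαβ]
          ring
        show ι _ ∈ _
        rw [this]
        refine add_mem (add_mem ?_ (Ideal.mul_mem_left _ _ hx2))
          (add_mem ?_ (Ideal.mul_mem_left _ _ hy2)) <;> rw [sq]
        · exact Ideal.mul_mem_mul hα' hu₁
        · exact Ideal.mul_mem_mul hβ' hv₁
      rw [← add_sub_cancel (α' * x + β' * y) z]
      exact Submodule.add_mem_sup (Ideal.mem_span_pair.mpr ⟨α', β', rfl⟩) h2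
    · intro h0
      rw [IsLocalRing.residue_eq_zero_iff] at h0
      have h1 : ι (4 * aA * cA - bA ^ 2) ∈ IsLocalRing.maximalIdeal R := by
        rw [AdicCompletion.maximalIdeal_eq_map]; exact Ideal.mem_map_of_mem _ h0
      rw [← IsLocalRing.residue_eq_zero_iff] at haA hbA hcA h1
      rw [map_sub, sub_eq_zero] at haA hbA hcA
      have h2 : IsLocalRing.residue R (σ (4 * a * c - b ^ 2)) = 0 := by
        rw [← h1]
        simp only [map_sub, map_mul, map_pow, map_ofNat, haA, hbA, hcA, ι, R]
      rw [IsLocalRing.residue_eq_zero_iff] at h2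
      exact (IsLocalRing.mem_maximalIdeal _).mp h2 ((Ne.isUnit hD).map σ)
    · refine Groth.Curves1.Node.mem_pow_of_algebraMap_mem A ?_
      have hxR : ι x ∈ IsLocalRing.maximalIdeal R := by
        rw [AdicCompletion.maximalIdeal_eq_map]; exact Ideal.mem_map_of_mem _ hx
      have hyR : ι y ∈ IsLocalRing.maximalIdeal R := by
        rw [AdicCompletion.maximalIdeal_eq_map]; exact Ideal.mem_map_of_mem _ hy
      have h1 := Groth.Curves1.Node.quadVal_sub_mem hxR hyR hu₁ hv₁ hx2 hy2 haA hbA hcA
      have h2 : σ a * u₁ ^ 2 + σ b * u₁ * v₁ + σ c * v₁ ^ 2 = 0 := by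
        have h3 := congrArg e'.symm (Groth.Curves1.Node.quadric_sum_eq_zero a b c)
        rw [map_zero] at h3
        rw [← h3]
        simp [Groth.Curves1.Node.quadVal, σ, u₁, v₁, q, MvPowerSeries.algebraMap_apply,
          ← Ideal.Quotient.mk_algebraMap]
      rw [h2, zero_sub, neg_mem_iff] at h1
      simpa only [map_add, map_mul, map_pow, ι, R] using h1

end Groth.Agent.S1631
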