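import Groth.Statements.S16311
import Mathlib

set_option autoImplicit false
universe u
open W4c3irrattreebun

namespace Groth.Agent.S16311

open IntermediateField

theorem to_closure {k K : Type u} [Field k] [Field K] [Algebra k K] {e : ℕ}
    (D : W4c3irrattreebun.CovDiag.{u} k K e) :
    ∃ e' ≤ e, ∃ D' : W4c3irrattreebun.CovDiag.{u} (algebraicClosure k K) K e',
      Algebra.IsSeparable K D.KC → Algebra.IsSeparable K D'.KC := by
  let C := D.KC
  let B := algebraicClosure D.KB C
  have hmem : ∀ x : algebraicClosure k K, algebraMap K C (x : K) ∈ B := fun x => by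
    rw [mem_algebraicClosure_iff]
    exact ((mem_algebraicClosure_iff.1 x.2).algHom (IsScalarTower.toAlgHom k K C)).extendScalars
      (algebraMap k D.KB).injective
  let ι : algebraicClosure k K →+* B :=
    ((algebraMap K C).comp (algebraMap (algebraicClosure k K) K)).codRestrict B.toSubfield.toSubring hmem
  letI : Algebra (algebraicClosure k K) B := ι.toAlgebra
  haveI : IsScalarTower (algebraicClosure k K) B C := IsScalarTower.of_algebraMap_eq fun _ => rfl
  haveI : Algebra.IsAlgebraic D.KB B := algebraicClosure.isAlgebraic D.KB C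
  have htr : Transcendental B D.t := fun h => D.transc (h.restrictScalars D.KB)
  let L := (IntermediateField.adjoin B ({D.t} : Set C)).restrictScalars D.KB
  let L₀ := IntermediateField.adjoin D.KB ({D.t} : Set C)
  have hle : L₀ ≤ L := IntermediateField.adjoin_le_iff.2 fun x hx => IntermediateField.subset_adjoin B _ hx
  letI : Algebra L₀ L := (IntermediateField.inclusion hle).toRingHom.toAlgebra
  haveI : IsScalarTower L₀ L C := IsScalarTower.of_algebraMap_eq fun _ => rfl
  haveI hfin : Module.Finite L C := Module.Finite.of_restrictScalars_finite L₀ L C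
  haveI : Module.Finite (IntermediateField.adjoin B ({D.t} : Set C)) C := hfin
  haveI : FiniteDimensional L₀ C := D.finiteT
  have hrank : Module.finrank L C ≤ e := by
    have h1 := Module.finrank_mul_finrank L₀ L C
    have h0 : 0 < Module.finrank L₀ L := by
      haveI : FiniteDimensional L₀ L := FiniteDimensional.left L₀ L C
      exact Module.finrank_pos
    calc Module.finrank L C ≤ Module.finrank L₀ L * Module.finrank L C := Nat.le_mul_of_pos_left _ h0
      _ = e := h1.trans D.finrank_eq
  exact ⟨Module.finrank (IntermediateField.adjoin B ({D.t} : Set C)) C, hrank,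
    { KC := C, KB := B, t := D.t, transc := htr, finrank_eq := rfl }, fun h => h⟩

theorem of_closure {k K : Type u} [Field k] [Field K] [Algebra k K] {e : ℕ}
    (D : W4c3irrattreebun.CovDiag.{u} (algebraicClosure k K) K e) :
    ∃ D' : W4c3irrattreebun.CovDiag.{u} k K e, Algebra.IsSeparable K D.KC → Algebra.IsSeparable K D'.KC := by
  letI : Algebra k D.KC := ((algebraMap K D.KC).comp (algebraMap k K)).toAlgebra
  letI : Algebra k D.KB := ((algebraMap (algebraicClosure k K) D.KB).comp (algebraMap k _)).toAlgebra
  haveI : IsScalarTower k K D.KC := IsScalarTower.of_algebraMap_eq fun _ => rfl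
  haveI : IsScalarTower k D.KB D.KC := IsScalarTower.of_algebraMap_eq fun x => by
    letI := D.algkC
    show algebraMap K D.KC (algebraMap k K x) =
      algebraMap D.KB D.KC (algebraMap (algebraicClosure k K) D.KB (algebraMap k (algebraicClosure k K) x))
    exact (@IsScalarTower.algebraMap_apply (algebraicClosure k K) K D.KC _ _ _ _ _ D.algkC D.towerK
      (algebraMap k (algebraicClosure k K) x)).symm.trans
      (@IsScalarTower.algebraMap_apply (algebraicClosure k K) D.KB D.KC _ _ _ _ _ D.algkC D.towerB
      (algebraMap k (algebraicClosure k K) x))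
  exact ⟨{ KC := D.KC, KB := D.KB, t := D.t, transc := D.transc, finrank_eq := D.finrank_eq }, fun h => h⟩

/-- For a field extension K/k with field of constants k' (the relative algebraic closure of k in K), the
separable covering gonality of K over k equals that of K over k'. (The published statement takes K
to be an algebraic function field over k; this row allows any field extension K/k.) -/
theorem result (k K : Type u) [Field k] [Field K] [Algebra k K] :
    W4c3irrattreebun.scvg k K = W4c3irrattreebun.scvg (algebraicClosure k K) K := by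

  unfold W4c3irrattreebun.scvg
  set A := {e : ℕ | ∃ D : W4c3irrattreebun.CovDiag.{u} k K e, Algebra.IsSeparable K D.KC}
  set B := {e : ℕ | ∃ D : W4c3irrattreebun.CovDiag.{u} (algebraicClosure k K) K e, Algebra.IsSeparable K D.KC}
  have h1 : ∀ e ∈ A, ∃ e' ∈ B, e' ≤ e := fun e ⟨D, hD⟩ => by
    obtain ⟨e', he', D', hD'⟩ := to_closure D
    exact ⟨e', ⟨D', hD' hD⟩, he'⟩
  have h2 : ∀ e ∈ B, e ∈ A := fun e ⟨D, hD⟩ => ⟨(of_closure D).choose, (of_closure D).choose_spec hD⟩
  rcases A.eq_empty_or_nonempty with hA | hA
  · have hB : B = ∅ := Set.eq_empty_iff_forall_notMem.2 fun e he => by simpa [hA] using h2 e he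
    rw [hA, hB]
  · obtain ⟨e', he', hle⟩ := h1 _ (Nat.sInf_mem hA)
    exact le_antisymm (Nat.sInf_le (h2 _ (Nat.sInf_mem ⟨e', he'⟩))) ((Nat.sInf_le he').trans hle)

end Groth.Agent.S16311
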