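import Groth.Statements.S16312
import Mathlib.Topology.Algebra.IsUniformGroup.Basic
-- import your own Groth.Agent.* helpers here

set_option autoImplicit false
universe u
open W4c3irrattreebun

namespace Groth.Agent.S16312

/-- Let N be a closed cone in real n-space, f a function continuous on N, positive at the nonzero points
of N and homogeneous of degree one under scaling by nonnegative reals, and Λ a discrete additive
subgroup. Then for every real c the set of points H of Λ lying in N with f(H) ≤ c is finite. (The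
published statement takes Λ to be a lattice; this row allows any discrete additive subgroup.) -/
theorem result (n : ℕ)
    (N : Set (EuclideanSpace ℝ (Fin n))) (hN : IsClosed N)
    (hcone : ∀ x ∈ N, ∀ r : ℝ, 0 ≤ r → r • x ∈ N)
    (f : EuclideanSpace ℝ (Fin n) → ℝ) (hf : ContinuousOn f N)
    (hpos : ∀ x ∈ N, x ≠ 0 → 0 < f x)
    (hhom : ∀ x ∈ N, ∀ r : ℝ, 0 ≤ r → f (r • x) = r * f x)
    (Λ : Submodule ℤ (EuclideanSpace ℝ (Fin n))) [DiscreteTopology Λ] (c : ℝ) :
    ({x : EuclideanSpace ℝ (Fin n) | x ∈ N ∧ f x ≤ c} ∩ (Λ : Set (EuclideanSpace ℝ (Fin n)))).Finite := by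
  by_cases hne : (N ∩ Metric.sphere (0 : EuclideanSpace ℝ (Fin n)) 1).Nonempty
  · obtain ⟨x₀, hx₀, hmin⟩ := (IsCompact.inter_left (isCompact_sphere _ _) hN).exists_isMinOn hne (hf.mono Set.inter_subset_left)
    have h0 : ‖x₀‖ = 1 := by simpa using hx₀.2
    have hpos0 : 0 < f x₀ := hpos x₀ hx₀.1 (fun h => by simp [h] at h0)
    haveI : DiscreteTopology Λ.toAddSubgroup := inferInstanceAs (DiscreteTopology Λ)
    have hclosed : IsClosed (Λ : Set (EuclideanSpace ℝ (Fin n))) := AddSubgroup.isClosed_of_discrete (H := Λ.toAddSubgroup)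
    refine (Metric.finite_isBounded_inter_isClosed (K := Metric.closedBall (0 : EuclideanSpace ℝ (Fin n)) (max 0 (c / f x₀))) (DiscreteTopology.isDiscrete (s := (Λ : Set (EuclideanSpace ℝ (Fin n))))) Metric.isBounded_closedBall hclosed).subset ?_
    rintro x ⟨⟨hxN, hxc⟩, hxΛ⟩
    refine ⟨?_, hxΛ⟩
    rw [mem_closedBall_zero_iff]
    rcases eq_or_ne x 0 with h | h
    · simp [h]
    · refine le_max_of_le_right ?_
      have hn : 0 < ‖x‖ := norm_pos_iff.2 h
      have hy : ‖x‖⁻¹ • x ∈ N ∩ Metric.sphere (0 : EuclideanSpace ℝ (Fin n)) 1 :=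
        ⟨hcone x hxN _ (by positivity), by simp [norm_smul, hn.ne']⟩
      have := hmin hy
      simp only [Set.mem_setOf_eq, hhom x hxN _ (inv_nonneg.2 hn.le)] at this
      rw [le_div_iff₀ hpos0]
      rw [← div_eq_inv_mul, le_div_iff₀ hn] at this
      nlinarith
  · refine (Set.finite_singleton 0).subset ?_
    rintro x ⟨⟨hxN, -⟩, -⟩
    by_contra h
    exact hne ⟨‖x‖⁻¹ • x, hcone x hxN _ (by positivity), by simp [norm_smul, (norm_pos_iff.2 h).ne']⟩

end Groth.Agent.S16312
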