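import Groth.Statements.S16314
import Mathlib
-- import your own Groth.Agent.* helpers here

set_option autoImplicit false
universe u
open scoped TensorProduct
open W4c3irrattreebun

namespace Groth.Agent.S16314

section Helpers

open IntermediateField Module

/-- A finitely generated module over a field spanned by elements closed under multiplication, with `1`,
is an intermediate field. -/
private theorem exists_intermediateField_span {F Ω : Type u} [Field F] [Field Ω] [Algebra F Ω] {ι : Type*}
    [Finite ι] (e : ι → Ω) (h1 : (1 : Ω) ∈ Submodule.span F (Set.range e))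
    (hmul : ∀ i j, e i * e j ∈ Submodule.span F (Set.range e)) :
    ∃ W : IntermediateField F Ω, ∀ x, x ∈ W ↔ x ∈ Submodule.span F (Set.range e) := by
  set M := Submodule.span F (Set.range e)
  have hm : ∀ x y, x ∈ M → y ∈ M → x * y ∈ M := fun x y hx hy => by
    have : M * M ≤ M := by
      rw [Submodule.span_mul_span, Submodule.span_le]
      rintro _ ⟨_, ⟨i, rfl⟩, _, ⟨j, rfl⟩, rfl⟩
      exact hmul i j
    exact this (Submodule.mul_mem_mul hx hy)
  haveI : Module.Finite F (M.toSubalgebra h1 hm) := by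
    have : Module.Finite F M := Module.Finite.span_of_finite F (Set.finite_range e)
    exact this
  refine ⟨(M.toSubalgebra h1 hm).toIntermediateField fun x hx => ?_, fun x => Iff.rfl⟩
  have hint : IsIntegral F x :=
    (Algebra.IsIntegral.isIntegral (⟨x, hx⟩ : M.toSubalgebra h1 hm)).map (M.toSubalgebra h1 hm).val
  exact Algebra.adjoin_le (Set.singleton_subset_iff.2 hx) hint.inv_mem_adjoin

set_option maxHeartbeats 1600000 in
private theorem descend {k K KB KC : Type u} [Field k] [Field K] [Field KB] [Field KC] [Algebra k K]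
    [Algebra K KC] [Algebra k KC] [IsScalarTower k K KC] [Algebra k KB] [Algebra KB KC]
    [IsScalarTower k KB KC] [Algebra.IsAlgebraic K KC] (hfg : (⊤ : IntermediateField k K).FG)
    (t : KC) (ht : Transcendental KB t) {e : ℕ} [Module.Finite (adjoin KB ({t} : Set KC)) KC]
    (he : Module.finrank (adjoin KB ({t} : Set KC)) KC = e) :
    ∃ D : W4c3irrattreebun.CovDiag.{u} k K e, Algebra.IsSeparable K KC → Algebra.IsSeparable K D.KC := by
  classical
  obtain ⟨G, hG⟩ := hfg
  let F := adjoin KB ({t} : Set KC)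
  let b : Basis (Fin e) F KC := (Module.finBasis F KC).reindex (finCongr he)
  -- the finitely many coefficients
  obtain ⟨C, hC, hC1, hC2, hC3⟩ : ∃ C : Finset KC,
      (∀ c ∈ C, c ∈ adjoin k (Set.range (algebraMap KB KC) ∪ {t})) ∧
      (∀ i j l : Fin e, ((b.repr (b i * b j) l : F) : KC) ∈ C) ∧
      (∀ l : Fin e, ((b.repr 1 l : F) : KC) ∈ C) ∧
      ∀ g ∈ G, ∀ l : Fin e, ((b.repr (algebraMap K KC g) l : F) : KC) ∈ C := by
    have hle : F.toSubfield ≤ (adjoin k (Set.range (algebraMap KB KC) ∪ {t})).toSubfield := by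
      refine Subfield.closure_le.2 (Set.union_subset ?_ ?_)
      · exact fun x hx => subset_adjoin k _ (Or.inl hx)
      · exact fun x hx => subset_adjoin k _ (Or.inr hx)
    refine ⟨(Finset.univ.image fun p : (Fin e × Fin e) × Fin e => ((b.repr (b p.1.1 * b p.1.2) p.2 : F) : KC)) ∪
      (Finset.univ.image fun l : Fin e => ((b.repr 1 l : F) : KC)) ∪
      ((G ×ˢ (Finset.univ : Finset (Fin e))).image fun p => ((b.repr (algebraMap K KC p.1) p.2 : F) : KC)),
      fun c hc => ?_, fun i j l => ?_, fun l => ?_, fun g hg l => ?_⟩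
    · have hcF : c ∈ F := by
        simp only [Finset.mem_union, Finset.mem_image] at hc
        rcases hc with (⟨p, -, rfl⟩ | ⟨p, -, rfl⟩) | ⟨p, -, rfl⟩ <;> exact SetLike.coe_mem _
      exact hle hcF
    · simp only [Finset.mem_union, Finset.mem_image]
      exact Or.inl (Or.inl ⟨((i, j), l), Finset.mem_univ _, rfl⟩)
    · simp only [Finset.mem_union, Finset.mem_image]
      exact Or.inl (Or.inr ⟨l, Finset.mem_univ _, rfl⟩)
    · simp only [Finset.mem_union, Finset.mem_image, Finset.mem_product]
      exact Or.inr ⟨(g, l), ⟨hg, Finset.mem_univ _⟩, rfl⟩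
  choose T hTs hT using fun c : C => exists_finset_of_mem_adjoin (hC c c.2)
  let S : Finset KB := Finset.univ.biUnion fun c : C =>
    (T c).preimage (algebraMap KB KC) (algebraMap KB KC).injective.injOn
  let KB₀ := adjoin k (S : Set KB)
  let gens : Set KC := {t} ∪ Set.range b ∪ algebraMap KB KC '' S
  let KC₀ := adjoin K gens
  haveI : Finite gens := ((Set.finite_singleton t).union (Set.finite_range b)).union
    (S.finite_toSet.image _)
  haveI : Module.Finite K KC₀ :=
    finiteDimensional_adjoin fun x _ => (Algebra.IsAlgebraic.isAlgebraic x).isIntegral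
  have hKB : ∀ x : KB₀, algebraMap KB KC x ∈ KC₀ := fun x => by
    have : KB₀ ≤ (KC₀.restrictScalars k).comap (IsScalarTower.toAlgHom k KB KC) :=
      adjoin_le_iff.2 fun s hs => subset_adjoin K gens (Or.inr ⟨s, hs, rfl⟩)
    exact this x.2
  letI : Algebra KB₀ KC₀ := (((algebraMap KB KC).comp KB₀.val.toRingHom).codRestrict KC₀ hKB).toAlgebra
  have hKB' : ∀ x : KB₀, ((algebraMap KB₀ KC₀ x : KC₀) : KC) = algebraMap KB KC x := fun x => rfl
  haveI : IsScalarTower k KB₀ KC₀ := .of_algebraMap_eq fun x => Subtype.ext (by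
    rw [hKB']
    show algebraMap k KC x = algebraMap KB KC (algebraMap k KB x)
    rw [← IsScalarTower.algebraMap_apply])
  let t₀ : KC₀ := ⟨t, subset_adjoin K gens (Or.inl (Or.inl rfl))⟩
  let b₀ : Fin e → KC₀ := fun i => ⟨b i, subset_adjoin K gens (Or.inl (Or.inr ⟨i, rfl⟩))⟩
  have ht₀ : Transcendental KB₀ t₀ := fun ⟨p, hp0, hp⟩ => ht
    ⟨p.map KB₀.val.toRingHom, (Polynomial.map_ne_zero_iff KB₀.val.toRingHom.injective).2 hp0, by
      have h := congrArg (KC₀.val : KC₀ →+* KC) hp
      rw [map_zero, Polynomial.aeval_def, Polynomial.hom_eval₂] at h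
      rw [Polynomial.aeval_def, Polynomial.eval₂_map]
      exact h⟩
  let F₀₀ := adjoin KB₀ ({t₀} : Set KC₀)
  let F₀ := adjoin k (algebraMap KB KC '' S ∪ {t})
  have hlift : ∀ y ∈ F₀, ∃ y₀ : F₀₀, ((y₀ : KC₀) : KC) = y := by
    intro y hy
    have hle : F₀ ≤ (F₀₀.restrictScalars k).map (KC₀.val.restrictScalars k) := by
      refine adjoin_le_iff.2 (Set.union_subset ?_ ?_)
      · rintro _ ⟨s, hs, rfl⟩
        exact ⟨algebraMap KB₀ KC₀ ⟨s, subset_adjoin k _ hs⟩, F₀₀.algebraMap_mem _, rfl⟩
      · rintro _ rfl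
        exact ⟨t₀, subset_adjoin KB₀ _ rfl, rfl⟩
    obtain ⟨y₀, hy₀, rfl⟩ := hle hy
    exact ⟨⟨y₀, hy₀⟩, rfl⟩
  have hF₀F : ∀ y₀ : F₀₀, ((y₀ : KC₀) : KC) ∈ F := fun y₀ => by
    have hle : F₀₀.toSubfield ≤ F.toSubfield.comap (KC₀.val : KC₀ →+* KC) := by
      refine Subfield.closure_le.2 (Set.union_subset ?_ ?_)
      · rintro _ ⟨x, rfl⟩
        exact F.algebraMap_mem (x : KB)
      · rintro _ rfl
        exact subset_adjoin KB _ rfl
    exact hle y₀.2
  have hCF₀ : ∀ c ∈ C, c ∈ F₀ := fun c hc => by
    refine adjoin.mono k _ _ (fun x hx => ?_) (hT ⟨c, hc⟩)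
    rcases hTs _ hx with ⟨s, rfl⟩ | h
    · exact Or.inl ⟨s, Finset.mem_biUnion.2 ⟨⟨c, hc⟩, Finset.mem_univ _, Finset.mem_preimage.2 hx⟩, rfl⟩
    · exact Or.inr h
  have hspan : ∀ z : KC, (∀ l, ((b.repr z l : F) : KC) ∈ F₀) → z ∈ Submodule.span F₀ (Set.range b) := by
    intro z hz
    rw [← b.sum_repr z]
    exact Submodule.sum_mem _ fun l _ =>
      Submodule.smul_mem _ (⟨_, hz l⟩ : F₀) (Submodule.subset_span ⟨l, rfl⟩)
  obtain ⟨W, hW⟩ := exists_intermediateField_span (F := F₀) b
    (hspan 1 fun l => hCF₀ _ (hC2 l))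
    (fun i j => hspan _ fun l => hCF₀ _ (hC1 i j l))
  have hKW : ∀ x : K, algebraMap K KC x ∈ W := fun x => by
    have : adjoin k (G : Set K) ≤ (W.restrictScalars k).comap (IsScalarTower.toAlgHom k K KC) :=
      adjoin_le_iff.2 fun g hg => (hW _).2 (hspan _ fun l => hCF₀ _ (hC3 g hg l))
    exact this (by rw [hG]; exact IntermediateField.mem_top (x := x))
  have hKC₀W : KC₀.toSubfield ≤ W.toSubfield := by
    refine Subfield.closure_le.2 (Set.union_subset ?_ ?_)
    · rintro _ ⟨x, rfl⟩; exact hKW x
    · rintro x ((rfl | ⟨i, rfl⟩) | ⟨s, hs, rfl⟩)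
      · exact W.algebraMap_mem (⟨x, subset_adjoin k _ (Or.inr rfl)⟩ : F₀)
      · exact (hW _).2 (Submodule.subset_span ⟨i, rfl⟩)
      · exact W.algebraMap_mem (⟨_, subset_adjoin k _ (Or.inl ⟨s, hs, rfl⟩)⟩ : F₀)
  have hli : LinearIndependent F₀₀ b₀ := by
    rw [Fintype.linearIndependent_iff]
    intro g hg i
    have h := Fintype.linearIndependent_iff.1 b.linearIndependent
      (fun j => (⟨_, hF₀F (g j)⟩ : F)) (by
        have h := congrArg (KC₀.val : KC₀ →+* KC) hg
        rw [map_sum, map_zero] at h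
        exact h) i
    exact Subtype.ext (Subtype.ext ((congrArg Subtype.val h).trans (by simp)))
  have hsp : ⊤ ≤ Submodule.span F₀₀ (Set.range b₀) := by
    intro z _
    obtain ⟨c, hc⟩ := (Submodule.mem_span_range_iff_exists_fun F₀).1 ((hW _).1 (hKC₀W z.2))
    choose c₀ hc₀ using fun l => hlift (c l) (c l).2
    refine (Submodule.mem_span_range_iff_exists_fun F₀₀).2 ⟨c₀, Subtype.ext ?_⟩
    rw [AddSubmonoidClass.coe_finsetSum, ← hc]
    exact Finset.sum_congr rfl fun l _ => congrArg (· * b l) (hc₀ l)
  let B₀ := Basis.mk hli hsp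
  haveI : Module.Finite F₀₀ KC₀ := Module.Finite.of_basis B₀
  exact ⟨{ KC := KC₀, KB := KB₀, t := t₀, transc := ht₀,
           finrank_eq := (Module.finrank_eq_card_basis B₀).trans (Fintype.card_fin e) },
    fun hsep => Algebra.isSeparable_tower_bot_of_isSeparable K KC₀ KC⟩

private theorem ascend {k K L K' : Type u} [Field k] [Field K] [Field L] [Field K'] [Algebra k K]
    [Algebra k L] [Algebra k K'] [Algebra K K'] [Algebra L K'] [IsScalarTower k K K'] [IsScalarTower k L K']
    [Algebra.IsAlgebraic k L] [Algebra.IsAlgebraic K K']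
    (hgen : adjoin K (Set.range (algebraMap L K')) = ⊤) {e : ℕ}
    (D : W4c3irrattreebun.CovDiag.{u} k K e) (hsep : Algebra.IsSeparable K D.KC) :
    ∃ e' ≤ e, ∃ D' : W4c3irrattreebun.CovDiag.{u} L K' e', Algebra.IsSeparable K' D'.KC := by
  classical
  let Ω := AlgebraicClosure D.KC
  let ι : K' →ₐ[K] Ω := IsAlgClosed.lift
  letI : Algebra K' Ω := ι.toRingHom.toAlgebra
  haveI : IsScalarTower K K' Ω := .of_algebraMap_eq fun x => (ι.commutes x).symm
  let bK := Module.finBasis K D.KC
  let gens : Set Ω := algebraMap D.KC Ω '' Set.range bK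
  let KC' := adjoin K' gens
  haveI : Finite gens := (Set.finite_range bK).image _
  have hsepgens : ∀ x ∈ gens, IsSeparable K' x := by
    rintro _ ⟨c, -, rfl⟩
    have h : IsSeparable K c := Algebra.IsSeparable.isSeparable K c
    have h' : IsSeparable K (algebraMap D.KC Ω c) :=
      (isSeparable_map_iff (IsScalarTower.toAlgHom K D.KC Ω) (algebraMap D.KC Ω).injective).2 h
    exact h'.tower_top K'
  haveI : Module.Finite K' KC' := finiteDimensional_adjoin fun x hx => (hsepgens x hx).isIntegral
  haveI hsep' : Algebra.IsSeparable K' KC' := (isSeparable_adjoin_iff_isSeparable _ _).2 hsepgens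
  have hKC : ∀ c : D.KC, algebraMap D.KC Ω c ∈ KC' := fun c => by
    rw [← bK.sum_repr c, map_sum]
    refine sum_mem fun i _ => ?_
    rw [Algebra.smul_def, map_mul, ← IsScalarTower.algebraMap_apply,
      IsScalarTower.algebraMap_apply K K' Ω]
    exact mul_mem (KC'.algebraMap_mem _) (subset_adjoin K' gens ⟨_, ⟨i, rfl⟩, rfl⟩)
  letI : Algebra D.KC KC' := ((algebraMap D.KC Ω).codRestrict KC' hKC).toAlgebra
  letI : Algebra D.KB KC' := ((algebraMap D.KC KC').comp (algebraMap D.KB D.KC)).toAlgebra
  haveI : IsScalarTower D.KB D.KC KC' := .of_algebraMap_eq fun _ => rfl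
  letI : Algebra k KC' := ((algebraMap D.KC KC').comp (algebraMap k D.KC)).toAlgebra
  haveI : IsScalarTower k D.KC KC' := .of_algebraMap_eq fun _ => rfl
  haveI : IsScalarTower k D.KB KC' := .of_algebraMap_eq fun x => by
    show algebraMap k KC' x = algebraMap D.KC KC' (algebraMap D.KB D.KC _)
    rw [← IsScalarTower.algebraMap_apply k D.KB D.KC, ← IsScalarTower.algebraMap_apply k D.KC KC']
  letI : Algebra L KC' := ((algebraMap K' KC').comp (algebraMap L K')).toAlgebra
  haveI : IsScalarTower L K' KC' := .of_algebraMap_eq fun _ => rfl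
  haveI : IsScalarTower k L KC' := .of_algebraMap_eq fun x => Subtype.ext (by
    show algebraMap D.KC Ω (algebraMap k D.KC x) = algebraMap K' Ω (algebraMap L K' (algebraMap k L x))
    rw [← IsScalarTower.algebraMap_apply k L K', IsScalarTower.algebraMap_apply k K K',
      ← IsScalarTower.algebraMap_apply K K' Ω, IsScalarTower.algebraMap_apply k K D.KC,
      ← IsScalarTower.algebraMap_apply K D.KC Ω])
  let KB' := adjoin D.KB (Set.range (algebraMap L KC'))
  haveI hKBalg : Algebra.IsAlgebraic D.KB KB' := isAlgebraic_adjoin (by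
    rintro _ ⟨l, rfl⟩
    exact (((Algebra.IsAlgebraic.isAlgebraic (R := k) l).algebraMap (A := KC')).tower_top
      (L := D.KB)).isIntegral)
  letI : Algebra L KB' :=
    ((algebraMap L KC').codRestrict KB' fun l => subset_adjoin D.KB _ ⟨l, rfl⟩).toAlgebra
  haveI : IsScalarTower L KB' KC' := .of_algebraMap_eq fun _ => rfl
  let t' : KC' := algebraMap D.KC KC' D.t
  have ht' : Transcendental KB' t' := fun h => D.transc ((isAlgebraic_algebraMap_iff
    (algebraMap D.KC KC').injective).1 (h.restrictScalars D.KB))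
  let F' := adjoin KB' ({t'} : Set KC')
  let F := adjoin D.KB ({D.t} : Set D.KC)
  let b : Basis (Fin e) F D.KC := (Module.finBasis F D.KC).reindex (finCongr D.finrank_eq)
  have hFF' : ∀ x : F, algebraMap D.KC KC' x ∈ F' := fun x => by
    have hle : F.toSubfield ≤ F'.toSubfield.comap (algebraMap D.KC KC') := by
      refine Subfield.closure_le.2 (Set.union_subset ?_ ?_)
      · rintro _ ⟨y, rfl⟩
        exact F'.algebraMap_mem (algebraMap D.KB KB' y)
      · rintro _ rfl
        exact subset_adjoin KB' _ rfl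
    exact hle x.2
  let e' : Fin e → KC' := fun i => algebraMap D.KC KC' (b i)
  have hspan : ∀ z : D.KC, algebraMap D.KC KC' z ∈ Submodule.span F' (Set.range e') := fun z => by
    rw [← b.sum_repr z, map_sum]
    refine Submodule.sum_mem _ fun l _ => ?_
    rw [Algebra.smul_def, map_mul]
    exact Submodule.smul_mem _ (⟨_, hFF' (b.repr z l)⟩ : F') (Submodule.subset_span ⟨l, rfl⟩)
  obtain ⟨W, hW⟩ := exists_intermediateField_span (F := F') e'
    (by rw [← map_one (algebraMap D.KC KC')]; exact hspan 1)
    (fun i j => by simp only [e']; rw [← map_mul]; exact hspan _)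
  have hWK' : ∀ x : K', algebraMap K' KC' x ∈ W := fun x => by
    have hle : (adjoin K (Set.range (algebraMap L K'))).toSubfield ≤
        W.toSubfield.comap (algebraMap K' KC') := by
      refine Subfield.closure_le.2 (Set.union_subset ?_ ?_)
      · rintro _ ⟨y, rfl⟩
        have : algebraMap K' KC' (algebraMap K K' y) = algebraMap D.KC KC' (algebraMap K D.KC y) :=
          Subtype.ext (show algebraMap K' Ω _ = algebraMap D.KC Ω _ by
            rw [← IsScalarTower.algebraMap_apply K K' Ω, ← IsScalarTower.algebraMap_apply K D.KC Ω])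
        show algebraMap K' KC' (algebraMap K K' y) ∈ W
        rw [this]
        exact (hW _).2 (hspan _)
      · rintro _ ⟨l, rfl⟩
        exact W.algebraMap_mem (⟨_, F'.algebraMap_mem (algebraMap L KB' l)⟩ : F')
    exact hle (show x ∈ adjoin K (Set.range (algebraMap L K')) by rw [hgen]; exact IntermediateField.mem_top)
  have htop : ∀ z : KC', z ∈ W := fun z => by
    have hle : KC'.toSubfield ≤ W.toSubfield.map (KC'.val : KC' →+* Ω) := by
      refine Subfield.closure_le.2 (Set.union_subset ?_ ?_)
      · rintro _ ⟨x, rfl⟩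
        exact ⟨algebraMap K' KC' x, hWK' x, rfl⟩
      · rintro _ ⟨c, -, rfl⟩
        exact ⟨algebraMap D.KC KC' c, (hW _).2 (hspan c), rfl⟩
    obtain ⟨w, hw, hwz⟩ := hle z.2
    exact (Subtype.ext hwz : w = z) ▸ hw
  have hsp : Submodule.span F' (Set.range e') = ⊤ := top_unique fun z _ => (hW z).1 (htop z)
  haveI : Module.Finite F' KC' := ⟨hsp ▸ Submodule.fg_span (Set.finite_range e')⟩
  have hle : Module.finrank F' KC' ≤ e := by
    have h := finrank_range_le_card (R := F') e'
    rw [Set.finrank, hsp, finrank_top, Fintype.card_fin] at h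
    exact h
  exact ⟨_, hle, { KC := KC', KB := KB', t := t', transc := ht', finrank_eq := rfl }, hsep'⟩

end Helpers


/-- Let K/k be a finitely generated field extension whose field of constants is k, let L/k be an
algebraic separable extension, and let K' be a field which is the fraction field of K ⊗_k L, the
L-algebra structure of K' being the one through the tensor product. Then the separable covering
gonality of K' over L equals that of K over k. (The published statement allows any separable
extension L/k, algebraic or not; this row assumes L/k algebraic and separable.) -/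
theorem result (k K L K' : Type u) [Field k] [Field K] [Field L]
    [Field K'] [Algebra k K] [Algebra k L] [Algebra.IsSeparable k L]
    (hfg : (⊤ : IntermediateField k K).FG) (hconst : algebraicClosure k K = ⊥)
    [Algebra (K ⊗[k] L) K'] [IsFractionRing (K ⊗[k] L) K'] [Algebra L K']
    (hL : ∀ x : L, algebraMap L K' x = algebraMap (K ⊗[k] L) K' ((1 : K) ⊗ₜ[k] x)) :
    W4c3irrattreebun.scvg L K' = W4c3irrattreebun.scvg k K := by
  classical
  letI : Algebra K K' :=
    ((algebraMap (K ⊗[k] L) K').comp Algebra.TensorProduct.includeLeftRingHom).toAlgebra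
  letI : Algebra k K' := ((algebraMap K K').comp (algebraMap k K)).toAlgebra
  haveI : IsScalarTower k K K' := .of_algebraMap_eq fun _ => rfl
  haveI : IsScalarTower k L K' := .of_algebraMap_eq fun x => by
    rw [hL]
    show algebraMap (K ⊗[k] L) K' (algebraMap k K x ⊗ₜ[k] 1) = _
    rw [Algebra.algebraMap_eq_smul_one x, Algebra.algebraMap_eq_smul_one x, TensorProduct.smul_tmul]
  haveI : Algebra.IsAlgebraic k L := Algebra.IsSeparable.isAlgebraic k L
  have hgen : IntermediateField.adjoin K (Set.range (algebraMap L K')) = ⊤ := by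
    refine top_unique fun z _ => ?_
    have hR : ∀ r : K ⊗[k] L,
        algebraMap (K ⊗[k] L) K' r ∈ IntermediateField.adjoin K (Set.range (algebraMap L K')) := fun r => by
      induction r using TensorProduct.induction_on with
      | zero => rw [map_zero]; exact zero_mem _
      | add a b ha hb => rw [map_add]; exact add_mem ha hb
      | tmul a b =>
        rw [show a ⊗ₜ[k] b = (a ⊗ₜ[k] (1 : L)) * ((1 : K) ⊗ₜ[k] b) by simp, map_mul, ← hL]
        exact mul_mem ((IntermediateField.adjoin K _).algebraMap_mem a)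
          (IntermediateField.subset_adjoin K _ ⟨b, rfl⟩)
    obtain ⟨a, s, -, rfl⟩ := IsFractionRing.div_surjective (A := K ⊗[k] L) z
    exact div_mem (hR a) (hR s)
  haveI hK'sep : Algebra.IsSeparable K K' := by
    haveI : Algebra.IsSeparable K (IntermediateField.adjoin K (Set.range (algebraMap L K'))) :=
      (IntermediateField.isSeparable_adjoin_iff_isSeparable _ _).2 (by
        rintro _ ⟨l, rfl⟩
        exact IsSeparable.tower_top K ((isSeparable_map_iff (IsScalarTower.toAlgHom k L K') (algebraMap L K').injective).2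
          (Algebra.IsSeparable.isSeparable k l)))
    rw [hgen] at this
    exact AlgEquiv.Algebra.isSeparable (IntermediateField.topEquiv (F := K) (E := K'))
  haveI : Algebra.IsAlgebraic K K' := Algebra.IsSeparable.isAlgebraic K K'
  unfold W4c3irrattreebun.scvg
  set A := {e : ℕ | ∃ D : W4c3irrattreebun.CovDiag.{u} L K' e, Algebra.IsSeparable K' D.KC}
  set B := {e : ℕ | ∃ D : W4c3irrattreebun.CovDiag.{u} k K e, Algebra.IsSeparable K D.KC}
  have h1 : ∀ e ∈ B, ∃ e' ∈ A, e' ≤ e := fun e ⟨D, hD⟩ => by
    obtain ⟨e', he', D', hD'⟩ := ascend hgen D hD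
    exact ⟨e', ⟨D', hD'⟩, he'⟩
  have h2 : ∀ e ∈ A, e ∈ B := fun e ⟨D, hD⟩ => by
    letI : Algebra K D.KC := ((algebraMap K' D.KC).comp (algebraMap K K')).toAlgebra
    haveI : IsScalarTower K K' D.KC := .of_algebraMap_eq fun _ => rfl
    letI : Algebra k D.KC := ((algebraMap K D.KC).comp (algebraMap k K)).toAlgebra
    haveI : IsScalarTower k K D.KC := .of_algebraMap_eq fun _ => rfl
    letI : Algebra k D.KB := ((algebraMap L D.KB).comp (algebraMap k L)).toAlgebra
    haveI : IsScalarTower k D.KB D.KC := .of_algebraMap_eq fun x => by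
      show algebraMap K' D.KC (algebraMap K K' (algebraMap k K x)) =
        algebraMap D.KB D.KC (algebraMap L D.KB (algebraMap k L x))
      rw [← IsScalarTower.algebraMap_apply L D.KB D.KC, IsScalarTower.algebraMap_apply L K' D.KC,
        ← IsScalarTower.algebraMap_apply k K K', ← IsScalarTower.algebraMap_apply k L K']
    haveI := hD
    have hs : Algebra.IsSeparable K D.KC := Algebra.IsSeparable.trans K K' D.KC
    haveI : Algebra.IsAlgebraic K D.KC := Algebra.IsSeparable.isAlgebraic K D.KC
    obtain ⟨D', hD'⟩ := descend hfg D.t D.transc D.finrank_eq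
    exact ⟨D', hD' hs⟩
  rcases B.eq_empty_or_nonempty with hB | hB
  · have hA : A = ∅ := Set.eq_empty_iff_forall_notMem.2 fun e he => by simpa [hB] using h2 e he
    rw [hA, hB]
  · obtain ⟨e', he', hle⟩ := h1 _ (Nat.sInf_mem hB)
    exact le_antisymm ((Nat.sInf_le he').trans hle) (Nat.sInf_le (h2 _ (Nat.sInf_mem ⟨e', he'⟩)))

end Groth.Agent.S16314
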