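import Groth.Statements.S16317
import Groth.Agent.CliffIndex.GenusNine
-- import your own Groth.Agent.* helpers here

set_option autoImplicit false
open CategoryTheory CategoryTheory.Limits AlgebraicGeometry
universe u
open Curves

namespace Groth.Agent.S16317

open scoped Groth.CurveBridge

/-- Let k be an algebraically closed field of characteristic zero and X a smooth proper integral curve
over k (integral, proper and smooth over k, of dimension one) of genus 9 whose Clifford index is 2:
some invertible module M with h^0(M) ≥ 2 and h^1(M) ≥ 2 has deg M − 2(h^0(M) − 1) = 2, and every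
invertible module M with h^0(M) ≥ 2 and h^1(M) ≥ 2 has deg M − 2(h^0(M) − 1) ≥ 2 (degrees are χ(M) −
χ(O_X); in particular X is not hyperelliptic). Then X is tetragonal: it carries a g^1_4, an
invertible module of degree 4 together with two k-linearly independent global sections. -/
theorem result
    (k : Type u) [Field k] [IsAlgClosed k] [CharZero k]
    (X : Scheme.{u}) [X.Over (Spec (CommRingCat.of k))] [IsIntegral X]
    [IsProper (X ↘ Spec (CommRingCat.of k))] [Smooth (X ↘ Spec (CommRingCat.of k))]
    (hdim : topologicalKrullDim X = 1) (hg : Curv2.genus k X = 9)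
    (hex : ∃ M : X.Modules, PicF.IsInvertible M ∧ 2 ≤ Module.finrank k (Coh.HH X M 0) ∧
      2 ≤ Module.finrank k (Coh.HH X M 1) ∧ Curv2.deg k X M 1 = 2 * (Module.finrank k (Coh.HH X M 0) : ℤ))
    (hmin : ∀ M : X.Modules, PicF.IsInvertible M → 2 ≤ Module.finrank k (Coh.HH X M 0) →
      2 ≤ Module.finrank k (Coh.HH X M 1) → 2 * (Module.finrank k (Coh.HH X M 0) : ℤ) ≤ Curv2.deg k X M 1) :
    ∃ (L : X.Modules) (s : Fin (1 + 1) → LinSer.Sect X L), LinSer.IsLinSer k X L 4 1 s := by
  have h := Groth.CurveBridge.isRegCurve_of_smooth k X hdim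
  have hK := Groth.CurveBridge.isFunctionField (k := k) (X := X) h.dim
  have hc := Groth.CliffIndex.cliffGe_of_modules (c := 2) h fun M hM a b => by
    have := hmin M hM a b
    omega
  obtain ⟨hg', D, h2, h8, hd⟩ := Groth.CliffIndex.exists_extremal (c := 2) h hg (by
    obtain ⟨M, hM, a, b, e⟩ := hex
    exact ⟨M, hM, a, b, by omega⟩)
  obtain ⟨A, hA, hAd⟩ := Groth.CliffIndex.exists_g14 hK hg' hc h2 h8 hd
  exact Groth.CurveBridge.exists_linSer_of_divisor h hK (d := 4) (r := 1) (by rw [hAd]; norm_num) hA

end Groth.Agent.S16317
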