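import Groth.Statements.S16319
import Groth.Agent.CliffIndex.Pentagonal
import Groth.Agent.CurveBridge.RatPoints
-- import your own Groth.Agent.* helpers here

set_option autoImplicit false
open CategoryTheory CategoryTheory.Limits AlgebraicGeometry
universe u
open Curves

namespace Groth.Agent.S16319

open scoped Groth.CurveBridge

/-- Let k be an algebraically closed field of characteristic zero and X a smooth proper integral curve
over k (integral, proper and smooth over k, of dimension one) of genus 9 whose Clifford index is 3: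
some invertible module M with h^0(M) ≥ 2 and h^1(M) ≥ 2 has deg M − 2(h^0(M) − 1) = 3, and every
invertible module M with h^0(M) ≥ 2 and h^1(M) ≥ 2 has deg M − 2(h^0(M) − 1) ≥ 3 (degrees are χ(M) −
χ(O_X); in particular X is not hyperelliptic); let H be an invertible module of degree 7 with h^0(H)
= 3 (a g^2_7) and D a globally generated invertible module of degree 5 with h^0(D) = 2 (a
base-point-free complete g^1_5). Then every module N with D ⊗ N ≅ H has h^0(N) = 1: the difference
of the two series is the class of an effective divisor of degree 2 with a one-dimensional space of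
sections, so the pencil is cut out by the lines through a double point of the plane model of degree
7. -/
theorem result
    (k : Type u) [Field k] [IsAlgClosed k] [CharZero k]
    (X : Scheme.{u}) [X.Over (Spec (CommRingCat.of k))] [IsIntegral X]
    [IsProper (X ↘ Spec (CommRingCat.of k))] [Smooth (X ↘ Spec (CommRingCat.of k))]
    (hdim : topologicalKrullDim X = 1) (hg : Curv2.genus k X = 9)
    (hex : ∃ M : X.Modules, PicF.IsInvertible M ∧ 2 ≤ Module.finrank k (Coh.HH X M 0) ∧
      2 ≤ Module.finrank k (Coh.HH X M 1) ∧ Curv2.deg k X M 1 = 2 * (Module.finrank k (Coh.HH X M 0) : ℤ) + 1)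
    (hmin : ∀ M : X.Modules, PicF.IsInvertible M → 2 ≤ Module.finrank k (Coh.HH X M 0) →
      2 ≤ Module.finrank k (Coh.HH X M 1) → 2 * (Module.finrank k (Coh.HH X M 0) : ℤ) + 1 ≤ Curv2.deg k X M 1)
    (H : X.Modules) (hH : PicF.IsInvertible H) (hdH : Curv2.deg k X H 1 = 7)
    (h0H : Module.finrank k (Coh.HH X H 0) = 3)
    (D : X.Modules) (hD : PicF.IsInvertible D) (hgD : Curv2.IsGloballyGenerated D)
    (hdD : Curv2.deg k X D 1 = 5) (h0D : Module.finrank k (Coh.HH X D 0) = 2)
    (N : X.Modules) (e : CohB1.tensorMod D N ≅ H) :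
    Module.finrank k (Coh.HH X N 0) = 1 := by
  have h := Groth.CurveBridge.isRegCurve_of_smooth k X hdim
  have hK := Groth.CurveBridge.isFunctionField (k := k) (X := X) h.dim
  have hF := Groth.CurveBridge.isFF k X h.dim
  have hg' : FunFld.genus k X.functionField = 9 := by rw [← Groth.CurveBridge.genus_eq h hK]; exact hg
  have hc := Groth.CliffIndex.cliffGe_of_modules (c := 3) h fun M hM a b => by
    have := hmin M hM a b
    omega
  have hN : PicF.IsInvertible N := Groth.Abvar.PicCalc.isInvertible_of_tensorMod hD
    (Groth.Abvar.PicCalc.isInvertible_of_iso hH e.symm)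
  obtain ⟨φ, A, hφ, a0, a1, -⟩ := Groth.CurveBridge.exists_divEmb h hK hD
  obtain ⟨ψ, B, hψ, b0, -, -⟩ := Groth.CurveBridge.exists_divEmb h hK hN
  obtain ⟨χ, F, hχ, f0, f1, -⟩ := Groth.CurveBridge.exists_divEmb h hK hH
  obtain ⟨ω, hω⟩ := Groth.CurveBridge.exists_divEmb_tensor h hD hN hφ hψ
  obtain ⟨μ, hμ, he⟩ := Groth.CurveBridge.linEquiv_of_iso h hK
    (Groth.PicAux.isInvertible_tensorMod hD hN) hH hω hχ e
  have key := Groth.CliffIndex.ell_net_sub hK hg' hc (E := A) (a0 ▸ h0D) (a1 ▸ hdD)
    (Groth.CurveBridge.ell_lt_of_isGloballyGenerated h hK hD hgD hφ) (H := F) (f0 ▸ h0H) (f1 ▸ hdH)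
  rw [b0, ← key, he, show A + B + FunFld.div k μ - A = B + FunFld.div k μ by abel, hF.ell_add_div B hμ]

end Groth.Agent.S16319
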