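import Groth.Statements.S1632
import Groth.Agent.CohFin.ProjFinite
import Groth.Agent.HensPair.ProperClopenNoeth
import Groth.Agent.HensPair.SectionsBaseChange
import Groth.Agent.Variety2.Normal
import Groth.Agent.Ega4Algebra1.RegularNormal
import Groth.Agent.Ega4Algebra2.FibreChange
import Groth.Agent.NeronArea.FiniteEtaleClosure
import Groth.Agent.Grauert.NormalCone
import Groth.Agent.ResolveSurf.CompletionRegular
import Groth.Agent.ResolveSurf.CompletionTensor
import Groth.Agent.ResolveSurf.AlterationH0
-- import your own Groth.Agent.* helpers here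

set_option autoImplicit false
universe u
open CategoryTheory CategoryTheory.Limits AlgebraicGeometry
open Resolve

namespace Groth.Agent.S1632

open TensorProduct in
/-- The functions of the base change to the completion. -/
theorem isNormalRing_cpl_tensor (A : Type u) [CommRing A] [IsLocalRing A] [IsNoetherianRing A]
    (X : Scheme.{u}) (f : X ⟶ Spec (CommRingCat.of A)) [IsProper f]
    (hreg : ∀ x : X, IsRegularLocalRing (X.presheaf.stalk x)) :
    letI := RingHom.toAlgebra (Groth.HensPair.toΓ f)
    EGA4.IsNormalRing (AdicCompletion (IsLocalRing.maximalIdeal A) A ⊗[A] Γ(X, ⊤)) := by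
  let _ : Algebra A Γ(X, ⊤) := RingHom.toAlgebra (Groth.HensPair.toΓ f)
  let g := Spec.map (CommRingCat.ofHom (algebraMap A (Curv2.cpl A)))
  have hY : ∀ y : ↥(Curv2.bcCpl A f), IsRegularLocalRing ((Curv2.bcCpl A f).presheaf.stalk y) :=
    (Groth.ResolveSurf.CompletionRegular.forall_isRegularLocalRing_iff A f).1 hreg
  have hN : Pi1.IsNormalScheme (Curv2.bcCpl A f) := fun y =>
    have := hY y
    ⟨Groth.Ega4Algebra1.isDomain_of_isRegularLocalRing _, Groth.Ega4Algebra1.isIntegrallyClosed_of_isRegularLocalRing _⟩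
  have : IsNoetherianRing (Curv2.cpl A) := Groth.Ega4b.isNoetherianRing_cpl A
  have : IsLocallyNoetherian (Curv2.bcCpl A f) :=
    LocallyOfFiniteType.isLocallyNoetherian (Curv2.bcCplSnd A f)
  have : CompactSpace ↥(Curv2.bcCpl A f) := QuasiCompact.compactSpace_of_compactSpace (Curv2.bcCplSnd A f)
  have : IsNoetherian (Curv2.bcCpl A f) := {}
  have : IsReduced (Curv2.bcCpl A f) :=
    have : ∀ y : ↥(Curv2.bcCpl A f), _root_.IsReduced ((Curv2.bcCpl A f).presheaf.stalk y) := fun y =>
      have := (hN y).1
      inferInstance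
    isReduced_of_isReduced_stalk _
  have hloc : ∀ y : ↥(Curv2.bcCpl A f), ∃ U : (Curv2.bcCpl A f).Opens, y ∈ U ∧ IsIntegral (U : Scheme.{u}) := by
    intro y
    have hC := irreducibleComponent_mem_irreducibleComponents y
    let U : (Curv2.bcCpl A f).Opens :=
      ⟨_, Groth.Variety2.isOpen_irreducibleComponents (fun z => (hN z).1) hC⟩
    have : IrreducibleSpace ↥(U : Scheme.{u}) := Subtype.irreducibleSpace hC.1
    exact ⟨U, mem_irreducibleComponent, isIntegral_of_irreducibleSpace_of_isReduced _⟩
  have : QuasiSeparatedSpace ↥(Curv2.bcCpl A f) :=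
    quasiSeparatedSpace_of_quasiSeparated (Curv2.bcCplSnd A f)
  have hΓ : EGA4.IsNormalRing Γ(Curv2.bcCpl A f, ⊤) :=
    Groth.Grauert.NormalCone.isNormalRing_sections hN hloc ⊤ isCompact_univ (IsQuasiSeparated.of_quasiSeparatedSpace _)
  -- flat base change
  have : Module.Flat A (Curv2.cpl A) := AdicCompletion.flat_of_isNoetherian _
  have : CompactSpace X := QuasiCompact.compactSpace_of_compactSpace f
  have : QuasiSeparatedSpace X := quasiSeparatedSpace_of_quasiSeparated f
  have hp := Groth.HensPair.isPushout_appTop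
    (IsPullback.of_hasPullback f g : IsPullback (Curv2.bcCplFst A f) (Curv2.bcCplSnd A f) f g)
  have hp1 : IsPushout ((Scheme.ΓSpecIso (CommRingCat.of A)).inv ≫ f.appTop)
      (CommRingCat.ofHom (algebraMap A (Curv2.cpl A))) (Curv2.bcCplFst A f).appTop
      ((Scheme.ΓSpecIso (CommRingCat.of (Curv2.cpl A))).inv ≫ (Curv2.bcCplSnd A f).appTop) := by
    refine hp.of_iso (Scheme.ΓSpecIso (CommRingCat.of A)) (Iso.refl _)
      (Scheme.ΓSpecIso (CommRingCat.of (Curv2.cpl A))) (Iso.refl _) ?_ ?_ ?_ ?_
    · simp
    · rw [← Scheme.ΓSpecIso_naturality]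
    · simp; rfl
    · simp; rfl
  have hp2 := (CommRingCat.isPushout_tensorProduct A (AdicCompletion (IsLocalRing.maximalIdeal A) A) Γ(X, ⊤)).flip
  exact Groth.Ega4b.isNormalRing_of_ringEquiv (hp1.isoIsPushout _ _ hp2).commRingCatIsoToRingEquiv hΓ

/-- Let (A, m) be a Noetherian local domain such that Spec A admits an alteration X → Spec A with X
regular, and let B be the integral closure of A in its fraction field. Then the m-adic completion of
B is a normal ring. -/
theorem result (A : Type u) [CommRing A] [IsDomain A] [IsLocalRing A] [IsNoetherianRing A]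
    (X : Scheme.{u}) (f : X ⟶ Spec (CommRingCat.of A)) (hf : Curv2.IsAlteration f)
    (hreg : ∀ x : X, IsRegularLocalRing (X.presheaf.stalk x)) :
    EGA4.IsNormalRing (AdicCompletion ((IsLocalRing.maximalIdeal A).map
      (algebraMap A (integralClosure A (FractionRing A)))) (integralClosure A (FractionRing A))) := by
  obtain ⟨hproper, hX, -, hdom, -⟩ := hf
  let _ : Algebra A Γ(X, ⊤) := RingHom.toAlgebra (Groth.HensPair.toΓ f)
  have hfin : Module.Finite A Γ(X, ⊤) :=
    Groth.HensPair.finite_globalSections_of_proper Groth.CohFin.projFinite f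
  obtain ⟨l, hl⟩ := Groth.ResolveSurf.AlterationH0.exists_injective_algHom f
    (fun x => have := hreg x; Groth.Ega4Algebra1.isIntegrallyClosed_of_isRegularLocalRing _)
  let B := integralClosure A (FractionRing A)
  have : Module.Finite A B := Module.Finite.of_injective l.toLinearMap hl
  have : IsNoetherianRing B := IsNoetherianRing.of_finite A B
  let := l.toRingHom.toAlgebra
  have : IsScalarTower A B Γ(X, ⊤) := IsScalarTower.of_algebraMap_eq fun a => (l.commutes a).symm
  have : Module.Finite B Γ(X, ⊤) := Module.Finite.of_restrictScalars_finite A B _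
  have : IsIntegrallyClosed B := integralClosure.isIntegrallyClosedOfFiniteExtension (FractionRing A)
  refine Groth.ResolveSurf.CplNormal.isNormalRing_completion (C := Γ(X, ⊤)) _ hl
    (Groth.NeronArea.isNormalRing_of_isIntegrallyClosed B) ?_
  have hmap : ((IsLocalRing.maximalIdeal A).map (algebraMap A B)).map (algebraMap B Γ(X, ⊤)) =
      (IsLocalRing.maximalIdeal A).map (algebraMap A Γ(X, ⊤)) := by
    rw [Ideal.map_map, ← IsScalarTower.algebraMap_eq]
  rw [hmap]
  exact Groth.Ega4b.isNormalRing_of_ringEquiv (Groth.ResolveSurf.CplTensor.tensorEquiv (IsLocalRing.maximalIdeal A))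
    (isNormalRing_cpl_tensor A X f hreg)

end Groth.Agent.S1632
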