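import Groth.Statements.S16320
import Groth.Agent.CliffIndex.Pentagonal
import Groth.Agent.CurveBridge.RatPoints
-- import your own Groth.Agent.* helpers here

set_option autoImplicit false
open CategoryTheory CategoryTheory.Limits AlgebraicGeometry
universe u
open Curves

namespace Groth.Agent.S16320

open scoped Groth.CurveBridge

/-- Let k be an algebraically closed field of characteristic zero and X a smooth proper integral curve
over k (integral, proper and smooth over k, of dimension one) of genus 9 whose Clifford index is 3: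
some invertible module M with h^0(M) ≥ 2 and h^1(M) ≥ 2 has deg M − 2(h^0(M) − 1) = 3, and every
invertible module M with h^0(M) ≥ 2 and h^1(M) ≥ 2 has deg M − 2(h^0(M) − 1) ≥ 3 (degrees are χ(M) −
χ(O_X); in particular X is not hyperelliptic), and let D be a globally generated invertible module
of degree 5 with h^0(D) = 2 (a base-point-free complete g^1_5). Then h^0(D^{⊗2}) is 3 or 4,
h^0(D^{⊗3}) is 7 or 8, and h^0(D^{⊗3}) = 7 whenever h^0(D^{⊗2}) = 3. (The published statement says,
equivalently by Riemann–Roch applied to the numbers h^0(K − iD) − h^0(K − (i+1)D) for a canonical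
module K, that the rational normal fourfold scroll formed by the linear spans of the pencil's
divisors in the canonical embedding has type S(2,1,1,1), S(2,2,1,0) or S(3,1,1,0); the scroll itself
is not restated here.) -/
theorem result
    (k : Type u) [Field k] [IsAlgClosed k] [CharZero k]
    (X : Scheme.{u}) [X.Over (Spec (CommRingCat.of k))] [IsIntegral X]
    [IsProper (X ↘ Spec (CommRingCat.of k))] [Smooth (X ↘ Spec (CommRingCat.of k))]
    (hdim : topologicalKrullDim X = 1) (hg : Curv2.genus k X = 9)
    (hex : ∃ M : X.Modules, PicF.IsInvertible M ∧ 2 ≤ Module.finrank k (Coh.HH X M 0) ∧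
      2 ≤ Module.finrank k (Coh.HH X M 1) ∧ Curv2.deg k X M 1 = 2 * (Module.finrank k (Coh.HH X M 0) : ℤ) + 1)
    (hmin : ∀ M : X.Modules, PicF.IsInvertible M → 2 ≤ Module.finrank k (Coh.HH X M 0) →
      2 ≤ Module.finrank k (Coh.HH X M 1) → 2 * (Module.finrank k (Coh.HH X M 0) : ℤ) + 1 ≤ Curv2.deg k X M 1)
    (D : X.Modules) (hD : PicF.IsInvertible D) (hgD : Curv2.IsGloballyGenerated D)
    (hdD : Curv2.deg k X D 1 = 5) (h0D : Module.finrank k (Coh.HH X D 0) = 2) :
    (Module.finrank k (Coh.HH X (CohB1.tensorPow D 2) 0) = 3 ∨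
        Module.finrank k (Coh.HH X (CohB1.tensorPow D 2) 0) = 4) ∧
      (Module.finrank k (Coh.HH X (CohB1.tensorPow D 3) 0) = 7 ∨
        Module.finrank k (Coh.HH X (CohB1.tensorPow D 3) 0) = 8) ∧
      (Module.finrank k (Coh.HH X (CohB1.tensorPow D 2) 0) = 3 →
        Module.finrank k (Coh.HH X (CohB1.tensorPow D 3) 0) = 7) := by
  have h := Groth.CurveBridge.isRegCurve_of_smooth k X hdim
  have hK := Groth.CurveBridge.isFunctionField (k := k) (X := X) h.dim
  have hF := Groth.CurveBridge.isFF k X h.dim
  have hg' : FunFld.genus k X.functionField = 9 := by rw [← Groth.CurveBridge.genus_eq h hK]; exact hg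
  have hc := Groth.CliffIndex.cliffGe_of_modules (c := 3) h fun M hM a b => by
    have := hmin M hM a b
    omega
  obtain ⟨φ, A, hφ, a0, a1, -⟩ := Groth.CurveBridge.exists_divEmb h hK hD
  have key := Groth.CliffIndex.ell_multiples hK hg' hc (E := A) (a0 ▸ h0D) (a1 ▸ hdD)
    (Groth.CurveBridge.ell_lt_of_isGloballyGenerated h hK hD hgD hφ)
  have hpow : ∀ n : ℕ, Module.finrank k (Coh.HH X (CohB1.tensorPow D n) 0) = FunFld.ell (n • A) := by
    intro n
    obtain ⟨χ, μ, hI, hμ, hχ⟩ := Groth.CurveBridge.DoubleCover.exists_divEmb_tensorPow h hK hD hφ n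
    rw [(Groth.CurveBridge.numerics_of_divEmb h hK hI hχ).1, hF.ell_add_div _ hμ]
  rw [hpow, hpow]
  exact key

end Groth.Agent.S16320
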