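import Groth.Statements.S16322
import Groth.Agent.CliffIndex.Pentagonal
import Groth.Agent.CurveBridge.RatPoints
-- import your own Groth.Agent.* helpers here

set_option autoImplicit false
open CategoryTheory CategoryTheory.Limits AlgebraicGeometry
universe u
open Curves

namespace Groth.Agent.S16322

open scoped Groth.CurveBridge

/-- Let k be a characteristic-zero algebraically closed field and X a smooth proper integral curve over
k (integral, proper and smooth over k, of dimension one) of genus 9 whose Clifford index is 3: some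
invertible module M with h^0(M) ≥ 2 and h^1(M) ≥ 2 has deg M − 2(h^0(M) − 1) = 3, and every
invertible module M with h^0(M) ≥ 2 and h^1(M) ≥ 2 has deg M − 2(h^0(M) − 1) ≥ 3 (degrees are χ(M) −
χ(O_X); in particular X is not hyperelliptic), and let D₁, D₂ be two non-isomorphic globally
generated invertible modules of degree 5 with h^0(D₁) = h^0(D₂) = 2 (two different base-point-free
complete pencils of degree 5). Then h^0(D₁ ⊗ D₂) = 4. (In the published statement the two pencils
are the ones cut out by the two rulings on a model of the curve in a blow-up of P^1 × P^1; the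
printed argument for this equality uses only that they are different base-point-free pencils of
degree 5 on a genus-9 curve of Clifford index 3, which is what is stated here; the further printed
assertion on a third pencil is not restated.) -/
theorem result
    (k : Type u) [Field k] [IsAlgClosed k] [CharZero k]
    (X : Scheme.{u}) [X.Over (Spec (CommRingCat.of k))] [IsIntegral X]
    [IsProper (X ↘ Spec (CommRingCat.of k))] [Smooth (X ↘ Spec (CommRingCat.of k))]
    (hdim : topologicalKrullDim X = 1) (hg : Curv2.genus k X = 9)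
    (hex : ∃ M : X.Modules, PicF.IsInvertible M ∧ 2 ≤ Module.finrank k (Coh.HH X M 0) ∧
      2 ≤ Module.finrank k (Coh.HH X M 1) ∧ Curv2.deg k X M 1 = 2 * (Module.finrank k (Coh.HH X M 0) : ℤ) + 1)
    (hmin : ∀ M : X.Modules, PicF.IsInvertible M → 2 ≤ Module.finrank k (Coh.HH X M 0) →
      2 ≤ Module.finrank k (Coh.HH X M 1) → 2 * (Module.finrank k (Coh.HH X M 0) : ℤ) + 1 ≤ Curv2.deg k X M 1)
    (D₁ D₂ : X.Modules) (h₁ : PicF.IsInvertible D₁) (h₂ : PicF.IsInvertible D₂)
    (hg₁ : Curv2.IsGloballyGenerated D₁) (hg₂ : Curv2.IsGloballyGenerated D₂)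
    (hd₁ : Curv2.deg k X D₁ 1 = 5) (hd₂ : Curv2.deg k X D₂ 1 = 5)
    (h0₁ : Module.finrank k (Coh.HH X D₁ 0) = 2) (h0₂ : Module.finrank k (Coh.HH X D₂ 0) = 2)
    (hne : IsEmpty (D₁ ≅ D₂)) :
    Module.finrank k (Coh.HH X (CohB1.tensorMod D₁ D₂) 0) = 4 := by
  have h := Groth.CurveBridge.isRegCurve_of_smooth k X hdim
  have hK := Groth.CurveBridge.isFunctionField (k := k) (X := X) h.dim
  have hF := Groth.CurveBridge.isFF k X h.dim
  have hg' : FunFld.genus k X.functionField = 9 := by rw [← Groth.CurveBridge.genus_eq h hK]; exact hg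
  have hc := Groth.CliffIndex.cliffGe_of_modules (c := 3) h fun M hM a b => by
    have := hmin M hM a b
    omega
  obtain ⟨φ, A, hφ, a0, a1, -⟩ := Groth.CurveBridge.exists_divEmb h hK h₁
  obtain ⟨ψ, B, hψ, b0, b1, -⟩ := Groth.CurveBridge.exists_divEmb h hK h₂
  obtain ⟨χ, hχ⟩ := Groth.CurveBridge.exists_divEmb_tensor h h₁ h₂ hφ hψ
  rw [(Groth.CurveBridge.numerics_of_divEmb h hK (Groth.PicAux.isInvertible_tensorMod h₁ h₂) hχ).1]
  refine Groth.CliffIndex.ell_add_pencils hK hg' hc (E := B) (b0 ▸ h0₂) (b1 ▸ hd₂)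
    (Groth.CurveBridge.ell_lt_of_isGloballyGenerated h hK h₂ hg₂ hψ) (E' := A) (a0 ▸ h0₁) (a1 ▸ hd₁) ?_
  have hne0 := hne
  by_contra hne
  obtain ⟨μ, hμ, he⟩ := Groth.FunFld1.exists_eq_neg_div hK (D := A - B) (fun hb => hne (by
    unfold FunFld.ell; rw [hb, finrank_bot])) (by rw [Groth.FunFld1.deg_sub, ← a1, ← b1, hd₁, hd₂, sub_self])
  obtain ⟨iso⟩ := Groth.CurveBridge.nonempty_iso_of_linEquiv h hK h₁ h₂ hφ hψ hμ (by
    rw [← sub_eq_zero] at he ⊢
    refine Eq.trans ?_ ((congrArg Neg.neg he).trans neg_zero)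
    abel)
  exact hne0.false iso

end Groth.Agent.S16322
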