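import Groth.Statements.S16324
import Groth.Agent.S16323
import Groth.Agent.GrSyz.LocalReg
import Groth.Agent.GrSyz.Hilbert
import Groth.Agent.GrMod.Res
import Groth.Agent.GrMod.LocCoh
import Groth.Agent.GrMod.Transfer
import Groth.Agent.Misc15.SegLC.LocRes
import Groth.Agent.LocCohBase.Nonvanishing
import Mathlib.Algebra.Polynomial.Roots
import Mathlib.Data.Nat.Choose.Cast

set_option autoImplicit false
universe u
open GrSyz

namespace Groth.Agent.S16324

private theorem descPochhammer_eval_neg_one (n : ℕ) :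
    (descPochhammer ℚ n).eval (-1 : ℚ) = (-1) ^ n * (n.factorial : ℚ) := by
  induction n with
  | zero => simp
  | succ n ih =>
    rw [descPochhammer_succ_eval, ih, Nat.factorial_succ, pow_succ]
    push_cast
    ring

/-- Let k be an algebraically closed field of characteristic zero, S = k[x_0, …, x_n] graded by degree,
𝔪 = (x_0, …, x_n), and M a finitely generated ℤ-graded S-module which is Cohen–Macaulay: the Krull
dimension of its support equals its 𝔪-depth. Let F be a minimal graded free resolution of M of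
length exactly ℓ (F_ℓ ≠ 0, F_i = 0 for i > ℓ; so ℓ = pd M) and let ρ be its regularity: every basis
vector of F_i has degree at most ρ + i, with equality for some i and some basis vector (so ρ = reg
M). Let P be the Hilbert polynomial of M, i.e. a polynomial over ℚ with dim_k M_d = P(d) for all
sufficiently large d. Then dim_k M_d ≠ P(d) for d = ρ + ℓ − n − 1: the bound d ≥ reg M + pd M − n
beyond which the Hilbert function agrees with the Hilbert polynomial is sharp for Cohen–Macaulay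
modules. (Part (1) of the published statement, the agreement for d ≥ reg M + pd M − n, follows from
the agreement for d at least the largest generator degree minus n and is not restated.) -/
theorem result (k : Type u) [Field k] [IsAlgClosed k] [CharZero k] (n : ℕ)
    (M : Type u) [AddCommGroup M] [Module k M] [Module (MvPolynomial (Fin (n + 1)) k) M]
    [IsScalarTower k (MvPolynomial (Fin (n + 1)) k) M] [Module.Finite (MvPolynomial (Fin (n + 1)) k) M]
    (ℳ : ℤ → Submodule k M) [DirectSum.Decomposition ℳ] [SetLike.GradedSMul (GrSyz.stdGr k (Fin (n + 1))) ℳ]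
    (hCM : Module.supportDim (MvPolynomial (Fin (n + 1)) k) M = ((LocCoh.idealDepth (GrSyz.irrel (GrSyz.stdGr k (Fin (n + 1)))).toIdeal M : ℕ∞) : WithBot ℕ∞))
    (F : GrSyz.FreeRes (GrSyz.stdGr k (Fin (n + 1))) ℳ) (hF : F.IsMinimal (GrSyz.irrel (GrSyz.stdGr k (Fin (n + 1)))).toIdeal)
    (ℓ : ℕ) (hℓ : F.HasLengthLE ℓ) (hℓ' : F.rk ℓ ≠ 0)
    (ρ : ℤ) (hρ : F.IsGenLE ρ) (hρ' : ∃ (i : ℕ) (b : Fin (F.rk i)), F.deg i b = ρ + i)
    (P : Polynomial ℚ) (hP : ∃ d₁ : ℤ, ∀ d : ℤ, d₁ ≤ d → ((Module.finrank k ↥(ℳ d) : ℤ) : ℚ) = P.eval (d : ℚ)) :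
    ((Module.finrank k ↥(ℳ (ρ + ℓ - n - 1)) : ℤ) : ℚ) ≠ P.eval ((ρ + ℓ - n - 1 : ℤ) : ℚ) := by
  classical
  haveI : IsNoetherianRing (MvPolynomial (Fin (n + 1)) k) := MvPolynomial.isNoetherianRing
  -- depth and dimension
  have hAB := Groth.Agent.S16323.result k n M ℳ F hF ℓ hℓ hℓ'
  obtain ⟨D, hD, hDl⟩ : ∃ D : ℕ, LocCoh.idealDepth (GrSyz.irrel (GrSyz.stdGr k (Fin (n + 1)))).toIdeal M = D ∧
      ℓ + D = n + 1 := by
    revert hAB
    generalize LocCoh.idealDepth (GrSyz.irrel (GrSyz.stdGr k (Fin (n + 1)))).toIdeal M = x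
    induction x using ENat.recTopCoe with
    | top => intro h; rw [add_top] at h; exact absurd h.symm (ENat.coe_ne_top _)
    | coe a => intro h; exact ⟨a, rfl, by exact_mod_cast h⟩
  rw [hD] at hCM
  -- a resolution and the graded local cohomology above the dimension
  let 𝒮 := GrSyz.stdGr k (Fin (n + 1))
  let ℳ₀ := Groth.Misc15.SegLC.clsM ℳ
  haveI : SetLike.GradedSMul 𝒮 ℳ₀ :=
    ⟨fun {a g r x} hr hx => SetLike.GradedSMul.smul_mem (A := 𝒮) (B := ℳ) hr hx⟩
  let E₀ := GrothGr.starRes 𝒮 ℳ₀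
  let E : GrLC.StarInjRes 𝒮 ℳ :=
    { X := E₀.X
      d := E₀.d
      ε := E₀.ε
      d_grHom := E₀.d_grHom
      ε_grHom := fun g x hx => E₀.ε_grHom g x hx
      ε_injective := E₀.ε_injective
      exact_zero := E₀.exact_zero
      exact_succ := E₀.exact_succ
      starInj := E₀.starInj }
  have habove : ∀ (q : ℕ) (g : ℤ), D < q → Groth.GrSyzLib.Van E 0 q g := by
    intro q g hq
    rw [← Groth.GrSyzLib.hcomp_eq_bot_iff]
    let E₁ := GrothGr.resAgr 𝒮 E ℳ₀ fun _ _ h => h
    obtain ⟨e⟩ := GrothGr.nonempty_H_equiv (GrothGr.agr 𝒮) ℳ₀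
      (GrothGr.hagr 𝒮 (GrSyz.irrel 𝒮)) E₁ q
    haveI := Groth.LocCohBase.subsingleton_H_of_supportDim_lt
      (GrothGr.hagr 𝒮 (GrSyz.irrel 𝒮)).toIdeal M (i := q)
      (by rw [hCM]; exact_mod_cast hq)
    haveI : Subsingleton (E₁.H (GrothGr.hagr 𝒮 (GrSyz.irrel 𝒮)) q) := e.toEquiv.subsingleton
    refine (Submodule.eq_bot_iff _).2 fun z _ => ?_
    exact Subsingleton.elim (α := E₁.H (GrothGr.hagr 𝒮 (GrSyz.irrel 𝒮)) q) z 0
  have hle : Groth.GrSyzLib.AllVan E 0 ρ := (Groth.GrSyzLib.isGenLE_iff_allVan F hF ρ).1 hρ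
  have hlt : ¬ Groth.GrSyzLib.AllVan E 0 (ρ - 1) := fun h => by
    obtain ⟨i, b, hb⟩ := hρ'
    have := (Groth.GrSyzLib.isGenLE_iff_allVan F hF (ρ - 1)).2 h i b
    omega
  -- a nonvanishing in Koszul cohomology in position `D`, degree `ρ - D`
  obtain ⟨b₀, hb₀⟩ : ∃ b : Fin (F.rk ℓ), F.deg ℓ b = ρ + ℓ := by
    unfold Groth.GrSyzLib.AllVan at hlt
    push Not at hlt
    obtain ⟨q, g, hg, hne⟩ := hlt
    have hg' : g ≤ ρ - q := not_lt.1 fun h => hne (hle q g h)
    obtain rfl : g = ρ - q := by omega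
    have hqD : q ≤ D := not_lt.1 fun h => hne (habove q _ h)
    have htop : ¬ Groth.GrSyzLib.Van E (n + 1) q (ρ - q) := by
      intro h
      have hall : ∀ j, j ≤ n + 1 → ∀ g', ρ - q ≤ g' → Groth.GrSyzLib.Van E j q g' := by
        intro j hj
        induction hm : n + 1 - j generalizing j with
        | zero =>
          obtain rfl : j = n + 1 := by omega
          intro g' hg''
          rcases eq_or_lt_of_le hg'' with rfl | hlt'
          · exact h
          · exact ((Groth.GrSyzLib.allVan_iff (E := E) ρ (n + 1) le_rfl).2 hle) q g' hlt'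
        | succ m ih =>
          intro g' hg''
          exact Groth.GrSyzLib.Van.down (by omega) fun g'' hg3 =>
            ih (j + 1) (by omega) (by omega) g'' (by omega)
      exact hne (hall 0 (Nat.zero_le _) _ le_rfl)
    rw [Groth.GrSyzLib.van_iff_ex,
      Groth.GrSyzLib.ex_iff_deg F hF (p := q) (i := n + 1 - q) (by omega)] at htop
    push Not at htop
    obtain ⟨b, hb⟩ := htop
    have hqeq : n + 1 - q = ℓ := by
      refine le_antisymm (not_lt.1 fun h => ?_) (by omega)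
      have h1 := hℓ _ h
      have h2 := b.2
      omega
    revert b
    rw [hqeq]
    intro b hb
    exact ⟨b, by rw [hb]; push_cast; omega⟩
  -- the Hilbert polynomial
  let Q : Polynomial ℚ := ∑ i ∈ Finset.range (ℓ + 1), (-1 : Polynomial ℚ) ^ i * ∑ b : Fin (F.rk i),
    Polynomial.C ((n.factorial : ℚ)⁻¹) *
      (descPochhammer ℚ n).comp (Polynomial.X + Polynomial.C (((n : ℤ) - F.deg i b : ℤ) : ℚ))
  let hf : (i : ℕ) → Fin (F.rk i) → ℤ → ℚ := fun i b d =>
    if F.deg i b ≤ d then ((Nat.choose (n + (d - F.deg i b).toNat) n : ℕ) : ℚ) else 0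
  let qf : (i : ℕ) → Fin (F.rk i) → ℤ → ℚ := fun i b d =>
    ((n.factorial : ℚ)⁻¹) * (descPochhammer ℚ n).eval ((d + ((n : ℤ) - F.deg i b) : ℤ) : ℚ)
  have hQ : ∀ d : ℤ, Q.eval (d : ℚ) =
      ∑ i ∈ Finset.range (ℓ + 1), (-1 : ℚ) ^ i * ∑ b : Fin (F.rk i), qf i b d := fun d => by
    simp [Q, qf, Polynomial.eval_finsetSum, Polynomial.eval_comp]
  have hH : ∀ d : ℤ, ((Module.finrank k ↥(ℳ d) : ℤ) : ℚ) =
      ∑ i ∈ Finset.range (ℓ + 1), (-1 : ℚ) ^ i * ∑ b : Fin (F.rk i), hf i b d := fun d => by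
    rw [Groth.GrSyzLib.hilbert F d ℓ hℓ]
    push_cast [hf]
    rfl
  have hagree : ∀ (i : ℕ) (b : Fin (F.rk i)) (d : ℤ), F.deg i b ≤ d + n → hf i b d = qf i b d := by
    intro i b d h
    obtain ⟨N, hN⟩ := Int.eq_ofNat_of_zero_le (show (0 : ℤ) ≤ d + ((n : ℤ) - F.deg i b) by omega)
    show (if F.deg i b ≤ d then ((Nat.choose (n + (d - F.deg i b).toNat) n : ℕ) : ℚ) else 0) =
      ((n.factorial : ℚ)⁻¹) * (descPochhammer ℚ n).eval ((d + ((n : ℤ) - F.deg i b) : ℤ) : ℚ)
    rw [hN, Int.cast_natCast, inv_mul_eq_div, ← Nat.cast_choose_eq_descPochhammer_div]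
    split_ifs with h'
    · rw [show n + (d - F.deg i b).toNat = N by omega]
    · rw [Nat.choose_eq_zero_of_lt (by omega), Nat.cast_zero]
  have hPQ : P = Q := by
    obtain ⟨d₁, hd₁⟩ := hP
    refine Polynomial.eq_of_infinite_eval_eq P Q (Set.Infinite.mono ?_
      ((Set.Ici_infinite (max d₁ (ρ + ℓ))).image (Int.cast_injective (α := ℚ)).injOn))
    rintro _ ⟨d, hd, rfl⟩
    rw [Set.mem_Ici, max_le_iff] at hd
    show P.eval (d : ℚ) = Q.eval (d : ℚ)
    rw [← hd₁ d hd.1, hH, hQ]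
    refine Finset.sum_congr rfl fun i hi => ?_
    congr 1
    refine Finset.sum_congr rfl fun b _ => hagree i b d ?_
    have := hρ i b
    have := Finset.mem_range.1 hi
    omega
  rw [hPQ, hH, hQ]
  intro heq
  set d := ρ + (ℓ : ℤ) - n - 1
  rw [Finset.sum_range_succ, Finset.sum_range_succ, Finset.sum_congr rfl fun i hi => by
    rw [Finset.sum_congr rfl fun b _ => hagree i b d (by
      have := hρ i b
      have := Finset.mem_range.1 hi
      omega)]] at heq
  have heq' := mul_left_cancel₀ (pow_ne_zero ℓ (neg_ne_zero.2 one_ne_zero)) (add_left_cancel heq)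
  have hdesc := descPochhammer_eval_neg_one n
  have hterm : ∀ b : Fin (F.rk ℓ), qf ℓ b d - hf ℓ b d =
      if F.deg ℓ b = ρ + ℓ then (-1 : ℚ) ^ n else 0 := by
    intro b
    have hb := hρ ℓ b
    split_ifs with h
    · show ((n.factorial : ℚ)⁻¹) * (descPochhammer ℚ n).eval ((d + ((n : ℤ) - F.deg ℓ b) : ℤ) : ℚ) -
        (if F.deg ℓ b ≤ d then _ else 0) = _
      rw [show d + ((n : ℤ) - F.deg ℓ b) = -1 by omega, if_neg (by omega), sub_zero, Int.cast_neg,
        Int.cast_one, hdesc]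
      field_simp [Nat.factorial_ne_zero]
    · rw [hagree ℓ b d (by omega), sub_self]
  have h0 : ∑ b : Fin (F.rk ℓ), (qf ℓ b d - hf ℓ b d) = 0 := by
    rw [Finset.sum_sub_distrib, heq', sub_self]
  rw [Finset.sum_congr rfl fun b _ => hterm b, Finset.sum_ite, Finset.sum_const_zero, add_zero,
    Finset.sum_const, nsmul_eq_mul] at h0
  rcases mul_eq_zero.1 h0 with h | h
  · have : 0 < (Finset.univ.filter fun b : Fin (F.rk ℓ) => F.deg ℓ b = ρ + ℓ).card :=
      Finset.card_pos.2 ⟨b₀, Finset.mem_filter.2 ⟨Finset.mem_univ _, hb₀⟩⟩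
    exact absurd (Nat.cast_eq_zero.1 h) (by omega)
  · exact pow_ne_zero n (neg_ne_zero.2 one_ne_zero) h


end Groth.Agent.S16324
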