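import Groth.Statements.S16325
import Groth.Agent.BiextChow.HomologyElem

set_option autoImplicit false
universe u v
open CategoryTheory
open W4c3biextchow

namespace Groth.Agent.S16325

/-- Let f : C ⟶ D be a chain map of ℕ-indexed chain complexes of modules over a ring R, and consider the
functor it induces between the groupoids attached to C and D (objects: degree-0 elements; morphisms
a ⟶ b: degree-1 elements with boundary b - a, modulo boundaries of degree-2 elements). This functor
is faithful if and only if f is injective on homology in degree 1. (The published statement is for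
complexes of abelian groups; this row allows modules over any ring R.) -/
theorem result
    (R : Type u) [Ring R] (C D : ChainComplex (ModuleCat.{v} R) ℕ) (f : C ⟶ D) :
    (W4c3biextchow.cxFunctor f).Faithful ↔ Mono (HomologicalComplex.homologyMap f 1) := by
  rw [Groth.BiextChow.mono_homologyMap_iff f (j := 2) (k := 0) (by simp) (by simp)]
  constructor
  · intro hF x hx w hw
    let a : W4c3biextchow.Obj C := ⟨0⟩
    let φ : a ⟶ a := ⟨Submodule.Quotient.mk x, by simpa [a] using hx⟩
    have h : φ = 𝟙 a := hF.map_injective (W4c3biextchow.Hom.ext (by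
      rw [W4c3biextchow.cxFunctor_map_cl, W4c3biextchow.cxFunctor_map_cl, W4c3biextchow.id_cl, map_zero]
      show W4c3biextchow.q1Map f (Submodule.Quotient.mk x) = 0
      rw [W4c3biextchow.q1Map_mk, Submodule.Quotient.mk_eq_zero]
      exact ⟨w, hw⟩))
    exact (Submodule.Quotient.mk_eq_zero _).1 (congrArg W4c3biextchow.Hom.cl h)
  · intro h
    refine ⟨fun {a b} φ ψ he => W4c3biextchow.Hom.ext ?_⟩
    obtain ⟨x, hx⟩ := Submodule.Quotient.mk_surjective _ φ.cl
    obtain ⟨y, hy⟩ := Submodule.Quotient.mk_surjective _ ψ.cl
    have he' := congrArg W4c3biextchow.Hom.cl he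
    rw [W4c3biextchow.cxFunctor_map_cl, W4c3biextchow.cxFunctor_map_cl, ← hx, ← hy,
      W4c3biextchow.q1Map_mk, W4c3biextchow.q1Map_mk, Submodule.Quotient.eq] at he'
    obtain ⟨w, hw⟩ := he'
    have hd : (C.d 1 0).hom (x - y) = 0 := by
      rw [map_sub, ← W4c3biextchow.delta_mk, ← W4c3biextchow.delta_mk, hx, hy, φ.delta_cl, ψ.delta_cl,
        sub_self]
    rw [← hx, ← hy, Submodule.Quotient.eq]
    exact h _ hd w (hw.trans (map_sub _ _ _).symm)

end Groth.Agent.S16325
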