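import Groth.Statements.S16326
import Groth.Agent.BiextChow.HomologyElem

set_option autoImplicit false
universe u v
open CategoryTheory
open W4c3biextchow

namespace Groth.Agent.S16326

/-- Let f : C ⟶ D be a chain map of ℕ-indexed chain complexes of modules over a ring R, and consider the
functor it induces between the groupoids attached to C and D (objects: degree-0 elements; morphisms
a ⟶ b: degree-1 elements with boundary b - a, modulo boundaries of degree-2 elements). This functor
is full if and only if f is surjective on homology in degree 1 and injective on homology in degree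
0. (The published statement is for complexes of abelian groups; this row allows modules over any
ring R.) -/
theorem result
    (R : Type u) [Ring R] (C D : ChainComplex (ModuleCat.{v} R) ℕ) (f : C ⟶ D) :
    (W4c3biextchow.cxFunctor f).Full ↔
      Epi (HomologicalComplex.homologyMap f 1) ∧ Mono (HomologicalComplex.homologyMap f 0) := by
  rw [Groth.BiextChow.epi_homologyMap_iff f (j := 2) (k := 0) (by simp) (by simp),
    Groth.BiextChow.mono_homologyMap_iff f (j := 1) (k := 0) (by simp) (by simp)]
  constructor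
  · intro hF
    let a : W4c3biextchow.Obj C := ⟨0⟩
    refine ⟨fun y hy => ?_, fun x _ w hw => ?_⟩
    · let ψ : (W4c3biextchow.cxFunctor f).obj a ⟶ (W4c3biextchow.cxFunctor f).obj a :=
        ⟨Submodule.Quotient.mk y, by simpa [a] using hy⟩
      obtain ⟨φ, hφ⟩ := (W4c3biextchow.cxFunctor f).map_surjective ψ
      obtain ⟨x, hx⟩ := Submodule.Quotient.mk_surjective _ φ.cl
      have h := congrArg W4c3biextchow.Hom.cl hφ
      rw [W4c3biextchow.cxFunctor_map_cl, ← hx, W4c3biextchow.q1Map_mk] at h
      obtain ⟨w, hw⟩ := (Submodule.Quotient.eq _).1 h.symm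
      refine ⟨x, ?_, w, hw⟩
      rw [← W4c3biextchow.delta_mk, hx, φ.delta_cl, sub_self]
    · let ψ : (W4c3biextchow.cxFunctor f).obj a ⟶ (W4c3biextchow.cxFunctor f).obj ⟨x⟩ :=
        ⟨Submodule.Quotient.mk w, by simpa [a] using hw⟩
      obtain ⟨φ, -⟩ := (W4c3biextchow.cxFunctor f).map_surjective ψ
      obtain ⟨x', hx'⟩ := Submodule.Quotient.mk_surjective _ φ.cl
      exact ⟨x', by rw [← W4c3biextchow.delta_mk, hx', φ.delta_cl]; simp [a]⟩
  · rintro ⟨he, hm⟩
    refine ⟨fun {a b} ψ => ?_⟩
    obtain ⟨y, hy⟩ := Submodule.Quotient.mk_surjective _ ψ.cl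
    have hdy : (D.d 1 0).hom y = (f.f 0).hom (b.pt - a.pt) := by
      rw [← W4c3biextchow.delta_mk, hy, ψ.delta_cl, map_sub]; rfl
    obtain ⟨x0, hx0⟩ := hm (b.pt - a.pt) (by simp) y hdy
    have hcomm : (D.d 1 0).hom ((f.f 1).hom x0) = (f.f 0).hom ((C.d 1 0).hom x0) :=
      congr(($(f.comm 1 0)) x0)
    obtain ⟨x1, hx1, w, hw⟩ := he (y - (f.f 1).hom x0) (by rw [map_sub, hcomm, hx0, hdy, sub_self])
    refine ⟨⟨Submodule.Quotient.mk (x0 + x1), by
      rw [W4c3biextchow.delta_mk, map_add, hx1, hx0, add_zero]⟩, W4c3biextchow.Hom.ext ?_⟩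
    rw [W4c3biextchow.cxFunctor_map_cl, ← hy]
    show W4c3biextchow.q1Map f (Submodule.Quotient.mk (x0 + x1)) = _
    rw [W4c3biextchow.q1Map_mk, Submodule.Quotient.eq]
    refine ⟨-w, ?_⟩
    rw [map_neg, hw, map_add]
    abel

end Groth.Agent.S16326
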