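import Groth.Statements.S16327
import Groth.Agent.BiextChow.HomologyElem

set_option autoImplicit false
universe u v
open CategoryTheory
open W4c3biextchow

namespace Groth.Agent.S16327

/-- Let f : C ⟶ D be a chain map of ℕ-indexed chain complexes of modules over a ring R, and consider the
functor it induces between the groupoids attached to C and D (objects: degree-0 elements; morphisms
a ⟶ b: degree-1 elements with boundary b - a, modulo boundaries of degree-2 elements). This functor
is essentially surjective if and only if f is surjective on homology in degree 0. (The published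
statement is for complexes of abelian groups; this row allows modules over any ring R.) -/
theorem result
    (R : Type u) [Ring R] (C D : ChainComplex (ModuleCat.{v} R) ℕ) (f : C ⟶ D) :
    (W4c3biextchow.cxFunctor f).EssSurj ↔ Epi (HomologicalComplex.homologyMap f 0) := by
  rw [Groth.BiextChow.epi_homologyMap_iff f (j := 1) (k := 0) (by simp) (by simp)]
  constructor
  · intro hF y _
    obtain ⟨a, ⟨e⟩⟩ := hF.mem_essImage ⟨y⟩
    obtain ⟨w, hw⟩ := Submodule.Quotient.mk_surjective _ e.hom.cl
    exact ⟨a.pt, by simp, w, by rw [← W4c3biextchow.delta_mk, hw, e.hom.delta_cl]; rfl⟩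
  · intro h
    refine ⟨fun b => ?_⟩
    obtain ⟨x, -, w, hw⟩ := h b.pt (by simp)
    refine ⟨⟨x⟩, ⟨⟨⟨Submodule.Quotient.mk w, by rw [W4c3biextchow.delta_mk, hw]; rfl⟩,
      ⟨-Submodule.Quotient.mk w, by rw [map_neg, W4c3biextchow.delta_mk, hw, neg_sub]; rfl⟩, ?_, ?_⟩⟩⟩
    · exact W4c3biextchow.Hom.ext (add_neg_cancel _)
    · exact W4c3biextchow.Hom.ext (neg_add_cancel _)

end Groth.Agent.S16327
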