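import Groth.Statements.S1633
import Groth.Agent.ResolveSurf.FormalFibreScheme
-- import your own Groth.Agent.* helpers here

set_option autoImplicit false
universe u
open CategoryTheory CategoryTheory.Limits AlgebraicGeometry
open Resolve

namespace Groth.Agent.S1633

/-- Let (A, m) be a Noetherian local ring whose m-adic completion is reduced, and X an integral scheme
locally of finite type over Spec A such that some open neighbourhood of the generic point of X is
étale over Spec A. Then the normalization morphism of X is finite. -/
theorem result (A : Type u) [CommRing A] [IsLocalRing A] [IsNoetherianRing A]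
    [IsReduced (AdicCompletion (IsLocalRing.maximalIdeal A) A)]
    (X : Scheme.{u}) [IsIntegral X] (f : X ⟶ Spec (CommRingCat.of A)) [LocallyOfFiniteType f]
    (U : X.Opens) (hU : genericPoint X ∈ U) [Etale (U.ι ≫ f)]
    [QuasiCompact (X.fromSpecStalk (genericPoint X))] [QuasiSeparated (X.fromSpecStalk (genericPoint X))] :
    IsFinite (Curv2.normalizationι X) := by
  refine Groth.ResolveSurf.AnalyticUnramified.isFinite_normalizationι X f ?_
  let j : Spec (X.presheaf.stalk (genericPoint X)) ⟶ (U : Scheme.{u}) :=
    IsOpenImmersion.lift U.ι (X.fromSpecStalk (genericPoint X)) (by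
      rw [Scheme.range_fromSpecStalk, Scheme.Opens.range_ι]
      exact fun z hz => hz.mem_open U.2 hU)
  have hj : j ≫ U.ι = X.fromSpecStalk (genericPoint X) := IsOpenImmersion.lift_fac _ _ _
  have : IsPreimmersion (j ≫ U.ι) := hj ▸ inferInstance
  have : IsPreimmersion j := IsPreimmersion.of_comp j U.ι
  have : Flat j := by
    have := Groth.ResolveSurf.FormalFibre.flat_fromSpecStalk_genericPoint X
    have h1 : IsPullback (𝟙 _) j (X.fromSpecStalk (genericPoint X)) U.ι := by
      rw [← hj]
      exact IsPullback.of_horiz_isIso_mono ⟨(Category.id_comp _)⟩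
    exact MorphismProperty.of_isPullback (P := @Flat) h1 ‹_›
  refine Groth.ResolveSurf.FormalFibre.isReduced_genericFibre f (U.ι ≫ f) j
    (by rw [← Category.assoc, hj]) fun z => ?_
  have : IsReduced (Spec (CommRingCat.of (Curv2.cpl A))) := (affine_isReduced_iff _).2 ‹_›
  have : Etale (Curv2.bcCplSnd A (U.ι ≫ f)) := inferInstanceAs (Etale (pullback.snd _ _))
  have := Groth.ResolveSurf.FormalFibre.isReduced_of_etale (Curv2.bcCplSnd A (U.ι ≫ f))
  infer_instance

end Groth.Agent.S1633
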