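import Groth.Statements.S16330
import Groth.Agent.BiextChow.Quotient

set_option autoImplicit false
universe v
open CategoryTheory
open W4c3biextchow

namespace Groth.Agent.S16330

/-- Let f : A' ⟶ A be a chain map of ℕ-indexed chain complexes of free abelian groups which is injective
in every degree, whose degreewise quotients A_q / f(A'_q) are free abelian groups, and which is a
quasi-isomorphism. Then any two chain maps g₁, g₂ : A ⟶ A' with f ≫ g₁ = f ≫ g₂ = 𝟙 differ by a
null-homotopic map: there is a chain homotopy between g₁ and g₂ all of whose components vanish on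
the image of f (so g₁ - g₂ factors through the quotient complex A / A', and the homotopy does too).
(The source allows complexes indexed by all integers; stated here for complexes in non-negative
degrees.) -/
theorem result
    (A' A : ChainComplex (ModuleCat.{v} ℤ) ℕ) (f : A' ⟶ A)
    [∀ q, Module.Free ℤ (A'.X q)] [∀ q, Module.Free ℤ (A.X q)]
    (hf : ∀ q, Function.Injective (f.f q).hom)
    (hq : ∀ q, Module.Free ℤ ((A.X q) ⧸ LinearMap.range (f.f q).hom)) [QuasiIso f]
    (g₁ g₂ : A ⟶ A') (h₁ : f ≫ g₁ = 𝟙 A') (h₂ : f ≫ g₂ = 𝟙 A') :
    ∃ H : Homotopy g₁ g₂, ∀ i j : ℕ, f.f i ≫ H.hom i j = 0 := by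
  haveI := Groth.BiextChow.projective_quot f (fun q => by
    convert hq q <;> first | rfl | exact Subsingleton.elim _ _ | exact Subsingleton.helim rfl _ _)
  exact Groth.BiextChow.exists_homotopy_vanishing f (Groth.BiextChow.quotπ f) hf
    (Groth.BiextChow.quotπ_surjective f) (Groth.BiextChow.quotπ_exact f) g₁ g₂ h₁ h₂

end Groth.Agent.S16330
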