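import Groth.Statements.S16331
import Groth.Agent.BiextChow.Quotient

set_option autoImplicit false
universe v
open CategoryTheory
open W4c3biextchow

namespace Groth.Agent.S16331

/-- Let f : A' ⟶ A be a chain map of ℕ-indexed chain complexes of free abelian groups which is injective
in every degree, with free degreewise quotients A_q / f(A'_q), and a quasi-isomorphism; let h' : A'
⟶ B be a chain map to another complex of free abelian groups and g₁, g₂ : A ⟶ A' two chain maps with
f ≫ g₁ = f ≫ g₂ = 𝟙. Consider the functors induced by g₁ ≫ h' and g₂ ≫ h' between the groupoids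
attached to A and B (objects: degree-0 elements; morphisms a ⟶ b: degree-1 elements with boundary b
- a, modulo boundaries of degree-2 elements). Then there is a natural isomorphism between these two
functors whose component at every object of the form f(a'), a' a degree-0 element of A', is the zero
class, i.e. the identity morphism of h'(a'). -/
theorem result
    (A' A B : ChainComplex (ModuleCat.{v} ℤ) ℕ) (f : A' ⟶ A) (h' : A' ⟶ B)
    [∀ q, Module.Free ℤ (A'.X q)] [∀ q, Module.Free ℤ (A.X q)] [∀ q, Module.Free ℤ (B.X q)]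
    (hf : ∀ q, Function.Injective (f.f q).hom)
    (hq : ∀ q, Module.Free ℤ ((A.X q) ⧸ LinearMap.range (f.f q).hom)) [QuasiIso f]
    (g₁ g₂ : A ⟶ A') (h₁ : f ≫ g₁ = 𝟙 A') (h₂ : f ≫ g₂ = 𝟙 A') :
    ∃ N : W4c3biextchow.cxFunctor (g₁ ≫ h') ≅ W4c3biextchow.cxFunctor (g₂ ≫ h'),
      ∀ a : W4c3biextchow.Obj A',
        (N.hom.app ((W4c3biextchow.cxFunctor f).obj a) : W4c3biextchow.Hom B _ _).cl = 0 := by
  haveI := Groth.BiextChow.projective_quot f (fun q => by
    convert hq q <;> first | rfl | exact Subsingleton.elim _ _ | exact Subsingleton.helim rfl _ _)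
  obtain ⟨H, hH⟩ := Groth.BiextChow.exists_homotopy_vanishing f (Groth.BiextChow.quotπ f) hf
    (Groth.BiextChow.quotπ_surjective f) (Groth.BiextChow.quotπ_exact f) g₁ g₂ h₁ h₂
  let K : Homotopy (g₁ ≫ h') (g₂ ≫ h') := H.compRight h'
  have h0 : ∀ x, ((g₁ ≫ h').f 0).hom x = (B.d 1 0).hom ((K.hom 0 1).hom x) + ((g₂ ≫ h').f 0).hom x := by
    intro x
    have h := congr(($(K.comm 0)) x)
    rw [Homotopy.dNext_zero_chainComplex, Homotopy.prevD_chainComplex, zero_add] at h
    exact h
  have h1 : ∀ x, ((g₁ ≫ h').f 1).hom x = (K.hom 0 1).hom ((A.d 1 0).hom x) +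
      (B.d 2 1).hom ((K.hom 1 2).hom x) + ((g₂ ≫ h').f 1).hom x := by
    intro x
    have h := congr(($(K.comm 1)) x)
    rw [Homotopy.dNext_succ_chainComplex, Homotopy.prevD_chainComplex] at h
    exact h
  have hK0 : ∀ x, (K.hom 0 1).hom ((f.f 0).hom x) = 0 := fun x => by
    show (h'.f 1).hom ((H.hom 0 1).hom ((f.f 0).hom x)) = 0
    rw [show (H.hom 0 1).hom ((f.f 0).hom x) = 0 from congr(($(hH 0 1)) x), map_zero]
  refine ⟨NatIso.ofComponents (fun a =>
    { hom := ⟨Submodule.Quotient.mk (-(K.hom 0 1).hom a.pt), ?_⟩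
      inv := ⟨Submodule.Quotient.mk ((K.hom 0 1).hom a.pt), ?_⟩
      hom_inv_id := W4c3biextchow.Hom.ext ?_
      inv_hom_id := W4c3biextchow.Hom.ext ?_ }) (fun {a b} φ => W4c3biextchow.Hom.ext ?_), fun a => ?_⟩
  · rw [W4c3biextchow.delta_mk, map_neg, W4c3biextchow.cxFunctor_obj_pt, W4c3biextchow.cxFunctor_obj_pt, h0]
    abel
  · rw [W4c3biextchow.delta_mk, W4c3biextchow.cxFunctor_obj_pt, W4c3biextchow.cxFunctor_obj_pt, h0]
    abel
  · simp
  · simp
  · obtain ⟨x, hx⟩ := Submodule.Quotient.mk_surjective _ φ.cl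
    have hd : (A.d 1 0).hom x = b.pt - a.pt := by rw [← W4c3biextchow.delta_mk, hx, φ.delta_cl]
    simp only [W4c3biextchow.comp_cl, W4c3biextchow.cxFunctor_map_cl]
    rw [← hx, W4c3biextchow.q1Map_mk, W4c3biextchow.q1Map_mk, ← Submodule.Quotient.mk_add,
      ← Submodule.Quotient.mk_add, Submodule.Quotient.eq, h1, hd, map_sub]
    refine ⟨(K.hom 1 2).hom x, ?_⟩
    abel
  · show Submodule.Quotient.mk (-(K.hom 0 1).hom ((f.f 0).hom a.pt)) = 0
    rw [hK0, neg_zero]; rfl

end Groth.Agent.S16331
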