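import Groth.Statements.S16332
import Groth.Agent.BiextChow.TensorDegOne

set_option autoImplicit false
universe v
open CategoryTheory MonoidalCategory
open W4c3biextchow

namespace Groth.Agent.S16332

/-- Let R be a commutative ring, C an ℕ-indexed chain complex of R-modules whose degree-0 term C_0 is a
free R-module, G an R-module, and π : P ⟶ G[0] a quasi-isomorphism from an ℕ-indexed chain complex P
of free R-modules onto G placed in degree 0 (a free resolution of G), so that the tensor product of
complexes C ⊗ P represents the derived tensor product of C and G. Then the map induced by π on first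
homology, H_1(C ⊗ P) → H_1(C ⊗ G[0]), is an isomorphism: in degree 1 the derived and the plain
tensor product with G have the same homology. (The published statement is over the integers, for
complexes vanishing in negative degrees with C_0 free abelian; this row allows any commutative ring
R and R-modules in the same universe as R.) -/
theorem result
    (R : Type v) [CommRing R] (C P : ChainComplex (ModuleCat.{v} R) ℕ) (G : ModuleCat.{v} R)
    [Module.Free R (C.X 0)] [∀ q, Module.Free R (P.X q)]
    (π : P ⟶ (ChainComplex.single₀ (ModuleCat.{v} R)).obj G) [QuasiIso π] :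
    IsIso (HomologicalComplex.homologyMap (C ◁ π) 1) := by
  have hQ : ∀ i, i ≠ 0 → Limits.IsZero (((ChainComplex.single₀ (ModuleCat.{v} R)).obj G).X i) :=
    fun i hi => HomologicalComplex.isZero_single_obj_X _ _ _ _ hi
  haveI : IsIso (HomologicalComplex.homologyMap π 0) := (quasiIsoAt_iff_isIso_homologyMap π 0).1 inferInstance
  haveI : IsIso (HomologicalComplex.homologyMap π 1) := (quasiIsoAt_iff_isIso_homologyMap π 1).1 inferInstance
  have h0e := (Groth.BiextChow.epi_homologyMap_iff π (j := 1) (i := 0) (k := 0) (by simp) (by simp)).1 inferInstance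
  have h0m := (Groth.BiextChow.mono_homologyMap_iff π (j := 1) (i := 0) (k := 0) (by simp) (by simp)).1 inferInstance
  have h1m := (Groth.BiextChow.mono_homologyMap_iff π (j := 2) (i := 1) (k := 0) (by simp) (by simp)).1 inferInstance
  haveI h1 := ModuleCat.subsingleton_of_isZero (hQ 1 one_ne_zero)
  refine Groth.BiextChow.isIso_homologyMap_one π hQ (fun y => ?_) (fun x => ⟨fun hx => ?_, ?_⟩)
    (fun x => ⟨fun hx => ?_, ?_⟩)
  · obtain ⟨x, -, w, hw⟩ := h0e y (by rw [HomologicalComplex.shape _ 0 0 (by simp)]; rfl)
    refine ⟨x, (sub_eq_zero.1 ?_).symm⟩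
    rw [← hw, Subsingleton.elim w 0, map_zero]
  · exact h0m x (by rw [HomologicalComplex.shape _ 0 0 (by simp)]; rfl) 0 (by rw [map_zero, hx])
  · rintro ⟨w, rfl⟩
    refine congr(($(π.comm 1 0)) w).symm.trans ?_
    show _ = (0 : ((ChainComplex.single₀ (ModuleCat.{v} R)).obj G).X 0)
    exact (congrArg (((ChainComplex.single₀ (ModuleCat.{v} R)).obj G).d 1 0).hom
      (Subsingleton.elim ((π.f 1).hom w) 0)).trans (map_zero _)
  · exact h1m x hx 0 (Subsingleton.elim (α := ((ChainComplex.single₀ (ModuleCat.{v} R)).obj G).X 1) _ _)
  · rintro ⟨w, rfl⟩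
    exact congr(($(P.d_comp_d 2 1 0)) w)

end Groth.Agent.S16332
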