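import Groth.Statements.S16337
import Mathlib.Algebra.BigOperators.GroupWithZero.Action
import Mathlib.RingTheory.Ideal.Operations

set_option autoImplicit false
universe u v w
open InvTh

namespace Groth.Agent.S16337

/-- Let `A` be a commutative ring, `Γ` a finite group whose order is invertible in `A`, `M` an
`A`-module with an `A`-linear action of `Γ`, and `I` an ideal of `A`. Then reduction modulo `I`
induces a bijection `M^Γ / I·M^Γ ≅ (M / IM)^Γ`: (a) an element of `M` fixed by `Γ` modulo `IM` is
congruent modulo `IM` to a `Γ`-fixed element, and (b) a `Γ`-fixed element lying in `IM` lies in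
`I·M^Γ`, where `M^Γ` is the submodule of `Γ`-fixed elements. (The published lemma says that
push-forward to the coarse space of a tame stack over a complete local base commutes with reduction
modulo powers of the maximal ideal; this row is the module statement its proof establishes, for an
arbitrary ideal.) -/
theorem result
    (A : Type u) [CommRing A] (Γ : Type v) [Group Γ] [Finite Γ] (hΓ : IsUnit (Nat.card Γ : A))
    (M : Type w) [AddCommGroup M] [Module A M] [DistribMulAction Γ M] [SMulCommClass Γ A M]
    (I : Ideal A) :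
    (∀ x : M, (∀ γ : Γ, γ • x - x ∈ I • (⊤ : Submodule A M)) →
        ∃ y : M, (∀ γ : Γ, γ • y = y) ∧ x - y ∈ I • (⊤ : Submodule A M)) ∧
      ∀ y : M, (∀ γ : Γ, γ • y = y) → y ∈ I • (⊤ : Submodule A M) →
        y ∈ I • Submodule.span A {m : M | ∀ γ : Γ, γ • m = m} := by
  classical
  have := Fintype.ofFinite Γ
  obtain ⟨c, hc⟩ := isUnit_iff_exists_inv'.mp hΓ
  let av : M →ₗ[A] M := c • ∑ γ : Γ, DistribSMul.toLinearMap A M γ
  have hav : ∀ x, av x = c • ∑ γ : Γ, γ • x := fun x ↦ by simp [av]
  have hfix : ∀ x (δ : Γ), δ • av x = av x := fun x δ ↦ by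
    rw [hav, smul_comm, Finset.smul_sum]
    refine congrArg (c • ·) (Fintype.sum_bijective (δ * ·) (Group.mulLeft_bijective δ) _ _ fun γ ↦ ?_)
    rw [mul_smul]
  have hid : ∀ x : M, x = c • ∑ _γ : Γ, x := fun x ↦ by
    rw [Finset.sum_const, Finset.card_univ, ← Nat.cast_smul_eq_nsmul A, smul_smul,
      ← Nat.card_eq_fintype_card, hc, one_smul]
  refine ⟨fun x hx ↦ ⟨av x, hfix x, ?_⟩, fun y hy hyI ↦ ?_⟩
  · rw [← neg_mem_iff, neg_sub, hav]
    nth_rw 2 [hid x]
    rw [← smul_sub, ← Finset.sum_sub_distrib]
    exact Submodule.smul_mem _ _ (sum_mem fun γ _ ↦ hx γ)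
  · have h1 : y = av y := by
      rw [hav]
      simp only [hy]
      exact hid y
    rw [h1]
    have h2 : av y ∈ (I • (⊤ : Submodule A M)).map av := Submodule.mem_map_of_mem hyI
    rw [Submodule.map_smul''] at h2
    refine Submodule.smul_mono le_rfl ?_ h2
    rintro _ ⟨z, -, rfl⟩
    exact Submodule.subset_span (hfix z)

end Groth.Agent.S16337
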