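import Groth.Statements.S16338
import Groth.Agent.StkGerb.SepEqualizer
import Groth.Agent.AlgStBasic.TrivialInertia
import Groth.Agent.StkBase.Descent

set_option autoImplicit false
set_option backward.isDefEq.respectTransparency false
set_option backward.isDefEq.respectTransparency.types false
universe u
open CategoryTheory AlgebraicGeometry
open AlgSt
open Groth.StkBase

namespace Groth.Agent.S16338

/-- Let `S` be a scheme, `𝒳` and `𝒴` Deligne–Mumford stacks over `(Sch/S)` (fppf topology) such that the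
diagonal of `𝒴` is representable by algebraic spaces and separated (the isomorphism spaces of `𝒴`
are separated), and `F : 𝒳 → 𝒴` a functor over `(Sch/S)` representable by algebraic spaces. Suppose
`i : 𝒰 → 𝒳` and `j : 𝒱 → 𝒴` are open immersions with `𝒰`, `𝒱` representable by algebraic spaces, the
image of `|𝒰|` is dense in `|𝒳|`, and `F` maps `𝒰` into `𝒱`: there is `G : 𝒰 → 𝒱` with a
2-isomorphism `G ⋙ j ≅ i ⋙ F` over `(Sch/S)`. Then every 2-endomorphism `α : F ⇒ F` over `(Sch/S)`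
(all of which are invertible, the fibres being groupoids) equals the identity. Density is taken in
the topological space of points of `𝒳` (topological, not scheme-theoretic, density). (The published
statement works over a Noetherian base with Deligne–Mumford stacks whose isomorphism spaces are
separated and of finite type; this row keeps only the separatedness of the isomorphism spaces of
`𝒴`, which its proof uses.) -/
theorem result
    (S : AlgebraicGeometry.Scheme.{u}) (𝒳 𝒴 𝒰 𝒱 : AlgSt.Cat S)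
    (h𝒳 : AlgSt.IsDM AlgebraicGeometry.Scheme.fppfPrecoverage 𝒳)
    (h𝒴 : AlgSt.IsDM AlgebraicGeometry.Scheme.fppfPrecoverage 𝒴)
    (hΔ : AlgSt.RepByAlgSpWith AlgSp.IsSeparatedMor (FibCat.diag (FibCat.toSelf 𝒴)))
    (F : 𝒳 ⥤ᵇ 𝒴) (hF : AlgSt.RepByAlgSp1 F)
    (i : 𝒰 ⥤ᵇ 𝒳) (hi : AlgSt.IsOpenImm i) (h𝒰 : AlgSt.RepByAlgSp 𝒰)
    (hdense : Dense (Set.range (AlgSt.Points.map i)))
    (j : 𝒱 ⥤ᵇ 𝒴) (hj : AlgSt.IsOpenImm j) (h𝒱 : AlgSt.RepByAlgSp 𝒱)
    (G : 𝒰 ⥤ᵇ 𝒱) (e : BasedFunctor.comp G j ≅ BasedFunctor.comp i F)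
    (α : F ⟶ F) : α = 𝟙 F := by
  have hX := h𝒳.1.isStack.1
  have hY := h𝒴.1.isStack.1
  obtain ⟨U₀, x, hx, hxs⟩ := h𝒳.1.atlas
  -- vanishing propagates backwards along morphisms
  have prop : ∀ {a b : 𝒳.obj} (φ : a ⟶ b), α.toNatTrans.app b = 𝟙 _ → α.toNatTrans.app a = 𝟙 _ := by
    intro a b φ hb
    refine hom_eq_of_comp_eq hY (F.map φ) ?_ ?_
    · exact (isVert_app α a).map_eq.trans (isVert_id _).map_eq.symm
    · rw [← α.toNatTrans.naturality φ, hb]
      exact (Category.comp_id _).trans (Category.id_comp _).symm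
  -- vanishing on the open substack
  have : j.toFunctor.Full := (Groth.AlgStBasic.fullyFaithful_of_isMono
    (Groth.AlgStBasic.isFibSetoid_of_repByAlgSp h𝒱).1 hY j (Groth.AlgStBasic.isMono_of_isImm
      (Groth.AlgStBasic.repWith_mono (fun _ _ _ _ _ hp => Groth.AlgSpBasic.repWith_mono
        (fun _ _ g (_ : IsOpenImmersion g) => (inferInstance : IsImmersion g)) hp) hj))).1
  have hU : ∀ v : 𝒰.obj, α.toNatTrans.app (i.obj v) = 𝟙 _ := by
    intro v
    let ev : j.obj (G.obj v) ≅ F.obj (i.obj v) := isoApp e v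
    obtain ⟨χ, hχ⟩ := j.toFunctor.map_surjective (ev.hom ≫ α.toNatTrans.app (i.obj v) ≫ ev.inv)
    have hv : IsVert 𝒱.p χ := isVert_of_map (F := j) (by
      rw [hχ]
      exact (isVert_isoApp e v).comp ((isVert_app α _).comp (IsVert.inv (φ := ev) (isVert_isoApp e v))))
    rw [hv.eq_id_of_thin (Groth.AlgStBasic.isFibSetoid_of_repByAlgSp h𝒱)] at hχ
    rw [← cancel_epi ev.hom, ← cancel_mono ev.inv, Category.assoc, ← hχ, j.toFunctor.map_id]
    exact (ev.hom_inv_id).symm.trans (by rw [Category.comp_id])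
  -- vanishing on the chart
  let p := U₀.hom
  let x' : FibCat.overCat (Over.mk p) ⥤ᵇ 𝒳 := x
  let y : FibCat.overCat (Over.mk p) ⥤ᵇ 𝒴 := BasedFunctor.comp x' F
  let a₀ := Groth.StkGerb.backObj p (Over.mk (𝟙 U₀.left))
  obtain ⟨c, hc⟩ := Groth.StkGerb.exists_autO hY (x := y.obj a₀) (α.toNatTrans.app (x'.obj a₀))
    (isVert_app α _)
  obtain ⟨W, hWo, hWc, hWiff⟩ := Groth.StkGerb.exists_clopen_autO_eq_one hY hΔ
    (Groth.AlgStBasic.repWith_unramified_diag_of_isDM h𝒴) y c
  have hres : ∀ {T : Over U₀.left} (h : T ⟶ Over.mk (𝟙 U₀.left)),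
      Nonempty (T ⟶ W) ↔ α.toNatTrans.app (x'.obj (Groth.StkGerb.backObj p T)) = 𝟙 _ := by
    intro T h
    obtain ⟨c', hc'⟩ := Groth.StkGerb.exists_autO hY (x := y.obj (Groth.StkGerb.backObj p T))
      (α.toNatTrans.app (x'.obj (Groth.StkGerb.backObj p T))) (isVert_app α _)
    have e' : Groth.StkGerb.Band.res hY (y.map (Groth.StkGerb.backMap h)) c = c' := by
      refine Groth.StkGerb.Band.res_eq hY _ _ _ ?_
      rw [hc, hc']
      exact (α.toNatTrans.naturality (x'.map (Groth.StkGerb.backMap h))).symm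
    rw [hWiff h, e', ← hc']
    exact ⟨fun h1 => by rw [h1]; rfl, fun h1 => Groth.StkGerb.Band.autO_ext h1⟩
  have hD : Dense (Points.ofChart x ⁻¹' Set.range (Points.map i)) :=
    hdense.preimage (Groth.AlgStBasic.isOpenMap_ofChart_of_smooth hX hx)
  have hsub : Points.ofChart x ⁻¹' Set.range (Points.map i) ⊆ Set.range W.hom := by
    rintro t ⟨z, hz⟩
    obtain ⟨q, rfl⟩ := Points.mk_surjective z
    rw [Points.map_mk] at hz
    obtain ⟨r, b, a, -⟩ := (Groth.AlgStBasic.mk_eq_mk_iff hX).1 hz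
    have hr : α.toNatTrans.app r.obj = 𝟙 _ := prop b (hU q.obj)
    let k : Over.mk r.str ⟶ Over.mk (U₀.left.fromSpecResidueField t ≫ U₀.hom) :=
      Groth.AlgStBasic.baseHom a
    let T : Over U₀.left := Over.mk (k.left ≫ U₀.left.fromSpecResidueField t)
    let w : (Over.map p).obj T ⟶ Over.mk r.str := Over.homMk (𝟙 (Spec (CommRingCat.of r.K))) (by
      show 𝟙 _ ≫ r.str = (k.left ≫ U₀.left.fromSpecResidueField t) ≫ U₀.hom
      rw [Category.id_comp, Category.assoc]
      exact (Over.w k).symm)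
    let pt : FibCat.overCat (Over.mk p) |>.obj := Over.mk
      (Over.homMk (U₀.left.fromSpecResidueField t) rfl :
        Over.mk (U₀.left.fromSpecResidueField t ≫ U₀.hom) ⟶ Over.mk p)
    let mm : Groth.StkGerb.backObj p T ⟶ pt := Over.homMk (w ≫ k) (by
      apply Over.OverMorphism.ext
      show (𝟙 _ ≫ k.left) ≫ U₀.left.fromSpecResidueField t = k.left ≫ U₀.left.fromSpecResidueField t
      rw [Category.id_comp])
    have e' : (eqToHom (x'.w_obj _) ≫ w ≫ eqToHom r.lies.symm) ≫ 𝒳.p.map a = 𝒳.p.map (x'.map mm) := by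
      rw [map_map x' mm]
      show _ = eqToHom _ ≫ (w ≫ k) ≫ eqToHom _
      simp [k, Groth.AlgStBasic.baseHom]
    have hT := prop (factor hX a (x'.map mm) _ e') hr
    obtain ⟨l⟩ := (hres (Over.homMk T.hom (Category.comp_id _))).2 hT
    exact ⟨l.left (IsLocalRing.closedPoint r.K), by
      rw [← Scheme.Hom.comp_apply, Over.w l]
      show (k.left ≫ U₀.left.fromSpecResidueField t) _ = t
      rw [Scheme.Hom.comp_apply]; exact Scheme.fromSpecResidueField_apply _ _⟩
  have : Surjective W.hom := ⟨fun t => by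
    have hcl : IsClosed (Set.range W.hom) := W.hom.isClosedEmbedding.isClosed_range
    have hu : Set.range W.hom = Set.univ := hcl.closure_eq.symm.trans (hD.mono hsub).closure_eq
    exact Set.range_eq_univ.1 hu t⟩
  have : IsIso W.hom := isIso_of_isOpenImmersion_of_opensRange_eq_top W.hom (TopologicalSpace.Opens.ext (Set.range_eq_univ.2 W.hom.surjective))
  have h₀ : α.toNatTrans.app (x'.obj a₀) = 𝟙 _ :=
    (hres (𝟙 (Over.mk (𝟙 U₀.left)))).1 ⟨Over.homMk (inv W.hom) (IsIso.inv_hom_id W.hom)⟩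
  have hchart : ∀ g : (FibCat.overCat (Over.mk p)).obj, α.toNatTrans.app (x'.obj g) = 𝟙 _ := fun g =>
    prop (x'.map (Over.homMk (Over.homMk g.hom.left (by
        show g.hom.left ≫ 𝟙 _ ≫ p = g.left.hom
        rw [Category.id_comp]; exact Over.w g.hom)) (Over.OverMorphism.ext (Category.comp_id _)) :
      g ⟶ a₀)) h₀
  -- every object is locally on the chart
  apply natTrans_ext
  intro a
  show α.toNatTrans.app a = 𝟙 _
  obtain ⟨R, hR, hR'⟩ := Groth.AlgStBasic.exists_lift_of_fppf_surjective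
    (Groth.AlgStBasic.repWith_locP_of_smooth (P := @Flat) (fun _ _ f (_ : Smooth f) => inferInstance) hx)
    (Groth.AlgStBasic.repWith_locP_of_smooth (P := @LocallyOfFinitePresentation)
      (fun _ _ f (_ : Smooth f) => inferInstance) hx) hxs
    (𝒳.p.obj a) (overFunctor hX a rfl)
  let R' : Sieve (𝒴.p.obj (F.obj a)) := R.pullback (eqToHom (F.w_obj a))
  refine vert_hom_ext_of_local hY R' (h𝒴.1.isStack.2 R' ((AlgSp.J S).pullback_stable _ hR)).faithful
    (isVert_app α a) (isVert_id _) fun b l hl => ?_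
  obtain ⟨a', l', h', e'⟩ := exists_lift' hX (x := a) (𝒴.p.map l ≫ eqToHom (F.w_obj a))
  obtain ⟨z, ⟨β⟩⟩ := hR' _ hl
  obtain ⟨ia, hia⟩ := overFunctor_eval hX a rfl
  let g := Over.mk (𝒴.p.map l ≫ eqToHom (F.w_obj a))
  let γ : (overFunctor hX a rfl).obj ((Over.map (𝒴.p.map l ≫ eqToHom (F.w_obj a))).obj (idObj _)) ⟶ a :=
    (overFunctor hX a rfl).map (toId _) ≫ ia.hom
  have hγ : α.toNatTrans.app
      ((overFunctor hX a rfl).obj ((Over.map (𝒴.p.map l ≫ eqToHom (F.w_obj a))).obj (idObj _))) = 𝟙 _ :=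
    prop (isoApp β (idObj _)).inv (hchart _)
  have eγ : (eqToHom (h'.trans ((overFunctor hX a rfl).w_obj ((Over.map (𝒴.p.map l ≫ eqToHom (F.w_obj a))).obj (idObj _))).symm)) ≫ 𝒳.p.map γ = 𝒳.p.map l' := by
    rw [e', Functor.map_comp, map_map, hia.map_eq]
    simp
    rfl
  have ha' : α.toNatTrans.app a' = 𝟙 _ := prop (factor hX γ l' _ eγ) hγ
  have eb : eqToHom (h'.symm.trans (F.w_obj a').symm) ≫ 𝒴.p.map (F.map l') = 𝒴.p.map l := by
    simp [map_map, e']
  rw [← factor_comp hY (F.map l') l _ eb, Category.assoc, Category.assoc,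
    α.toNatTrans.naturality l', ha', Category.id_comp]
  rw [show 𝟙 (F.obj a) = 𝟙 (F.toFunctor.obj a) from rfl, Category.comp_id]

end Groth.Agent.S16338
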