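import Groth.Statements.S16343
import Mathlib

set_option autoImplicit false
open KatoHom

namespace Groth.Agent.S16343

/-- Let P be a set of primes and π : A → T a surjection of abelian groups whose kernel is ℓ-divisible
for every ℓ ∈ P, with T a torsion group; let T(P) be the subgroup of elements of T killed by a
positive integer all of whose prime factors lie in P, and T' the subgroup of elements killed by a
positive integer none of whose prime factors lies in P. Then the preimage π⁻¹(T') is ℓ-divisible for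
every ℓ ∈ P, and π has a section s over T(P) for which (d, t) ↦ d + s(t) is a bijection from π⁻¹(T')
× T(P) onto A, so that A is the direct sum of π⁻¹(T') and a copy of T(P). (The decomposition is
expressed through a section of π over T(P).) -/
theorem result
    {A T : Type*} [AddCommGroup A] [AddCommGroup T] (P : Set ℕ) (hP : ∀ p ∈ P, p.Prime)
    (π : A →+ T) (hπ : Function.Surjective π) (hT : ∀ t : T, ∃ n : ℕ, 0 < n ∧ n • t = 0)
    (hD : ∀ ℓ ∈ P, ∀ x ∈ π.ker, ∃ y ∈ π.ker, ℓ • y = x)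
    (TP T' : AddSubgroup T)
    (hTP : ∀ t, t ∈ TP ↔ ∃ n : ℕ, 0 < n ∧ (∀ p : ℕ, p.Prime → p ∣ n → p ∈ P) ∧ n • t = 0)
    (hT' : ∀ t, t ∈ T' ↔ ∃ n : ℕ, 0 < n ∧ (∀ p : ℕ, p.Prime → p ∣ n → p ∉ P) ∧ n • t = 0) :
    (∀ ℓ ∈ P, ∀ x ∈ T'.comap π, ∃ y ∈ T'.comap π, ℓ • y = x) ∧
    ∃ s : TP →+ A, (∀ t : TP, π (s t) = (t : T)) ∧
      Function.Bijective (fun q : (T'.comap π) × TP => (q.1 : A) + s q.2) := by

  classical
  have hdisj : ∀ t, t ∈ TP → t ∈ T' → t = 0 := fun t h1 h2 => by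
    obtain ⟨a, ha0, haP, hat⟩ := (hTP t).1 h1
    obtain ⟨b, hb0, hbP, hbt⟩ := (hT' t).1 h2
    have hd : addOrderOf t ∣ Nat.gcd a b := Nat.dvd_gcd (addOrderOf_dvd_of_nsmul_eq_zero hat)
      (addOrderOf_dvd_of_nsmul_eq_zero hbt)
    have hco : Nat.gcd a b = 1 := Nat.coprime_of_dvd fun p hp h1 h2 => hbP p hp h2 (haP p hp h1)
    rw [hco, Nat.dvd_one] at hd
    exact AddMonoid.addOrderOf_eq_one_iff.1 hd
  have hsplit : ∀ n : ℕ, 0 < n → ∀ t : T, n • t = 0 → t ∈ TP ⊔ T' := by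
    intro n
    induction n using Nat.recOnPrimeCoprime with
    | zero => intro h; exact absurd h (lt_irrefl 0)
    | prime_pow p m hp =>
      intro _ t ht
      by_cases hpP : p ∈ P
      · exact AddSubgroup.mem_sup_left ((hTP t).2 ⟨p ^ m, pow_pos hp.pos m, fun q hq hd =>
          ((Nat.prime_dvd_prime_iff_eq hq hp).1 (hq.dvd_of_dvd_pow hd)).symm ▸ hpP, ht⟩)
      · exact AddSubgroup.mem_sup_right ((hT' t).2 ⟨p ^ m, pow_pos hp.pos m, fun q hq hd =>
          ((Nat.prime_dvd_prime_iff_eq hq hp).1 (hq.dvd_of_dvd_pow hd)).symm ▸ hpP, ht⟩)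
    | coprime a b ha hb hab iha ihb =>
      intro _ t ht
      have hbez : ((1 : ℕ) : ℤ) = (a : ℤ) * Nat.gcdA a b + (b : ℤ) * Nat.gcdB a b := by
        rw [← hab.gcd_eq_one]; exact Nat.gcd_eq_gcd_ab a b
      have e : t = Nat.gcdA a b • (a • t) + Nat.gcdB a b • (b • t) := by
        rw [← natCast_zsmul t a, ← natCast_zsmul t b, smul_smul, smul_smul, ← add_smul,
          mul_comm (Nat.gcdA a b), mul_comm (Nat.gcdB a b), ← hbez, Nat.cast_one, one_smul]
      rw [e]
      exact add_mem (AddSubgroup.zsmul_mem _ (ihb (by omega) _ (by rw [← mul_smul, mul_comm]; exact ht)) _)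
        (AddSubgroup.zsmul_mem _ (iha (by omega) _ (by rw [← mul_smul]; exact ht)) _)
  refine ⟨fun ℓ hℓ x hx => ?_, ?_⟩
  · obtain ⟨b, hb0, hbP, hbt⟩ := (hT' (π x)).1 hx
    have hco : Nat.Coprime ℓ b := (hP ℓ hℓ).coprime_iff_not_dvd.2 fun h => hbP ℓ (hP ℓ hℓ) h hℓ
    set c : ℤ := Nat.gcdA ℓ b with hc
    have h1 : ((1 : ℕ) : ℤ) = (ℓ : ℤ) * c + (b : ℤ) * Nat.gcdB ℓ b := by
      rw [← hco.gcd_eq_one]; exact Nat.gcd_eq_gcd_ab ℓ b
    have hk : x - ℓ • (c • x) ∈ π.ker := by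
      rw [AddMonoidHom.mem_ker, map_sub, map_nsmul, map_zsmul, ← natCast_zsmul _ ℓ, smul_smul,
        show (ℓ : ℤ) * c = 1 - Nat.gcdB ℓ b * (b : ℤ) by push_cast at h1; linarith, sub_smul,
        one_smul, mul_smul, natCast_zsmul, hbt, smul_zero, sub_zero, sub_self]
    obtain ⟨z, hz, hzx⟩ := hD ℓ hℓ _ hk
    refine ⟨c • x + z, ?_, by rw [smul_add, hzx]; abel⟩
    rw [AddSubgroup.mem_comap, map_add, (AddMonoidHom.mem_ker).1 hz, add_zero, map_zsmul]
    exact AddSubgroup.zsmul_mem _ (show π x ∈ T' from hx) _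
  · let 𝒮 : Set (AddSubgroup A) := {S | S ≤ TP.comap π ∧ ∀ x ∈ S, π x = 0 → x = 0}
    obtain ⟨S, hS⟩ : ∃ S, Maximal (· ∈ 𝒮) S := by
      refine zorn_le₀ 𝒮 fun c hc hchain => ?_
      rcases c.eq_empty_or_nonempty with rfl | hne
      · exact ⟨⊥, ⟨bot_le, fun x hx _ => (AddSubgroup.mem_bot).1 hx⟩, fun _ h => (Set.notMem_empty _ h).elim⟩
      · refine ⟨sSup c, ⟨sSup_le fun S hS => (hc hS).1, fun x hx hx0 => ?_⟩, fun S hS => le_sSup hS⟩
        obtain ⟨S, hSc, hxS⟩ := (AddSubgroup.mem_sSup_of_directedOn hne hchain.directedOn).1 hx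
        exact (hc hSc).2 x hxS hx0
    obtain ⟨hSle, hS0⟩ := hS.prop
    have step : ∀ p ∈ P, ∀ t ∈ TP, p • t ∈ S.map π → t ∈ S.map π := by
      intro p hp t ht ⟨s, hs, hst⟩
      obtain ⟨a, rfl⟩ := hπ t
      have hd : p • a - s ∈ π.ker := by
        rw [AddMonoidHom.mem_ker, map_sub, map_nsmul, hst, sub_self]
      obtain ⟨e, he, hed⟩ := hD p hp _ hd
      have he' : π e = 0 := he
      have hpa : p • (a - e) = s := by rw [smul_sub, hed]; abel
      by_contra hcon
      have hmem : S ⊔ AddSubgroup.zmultiples (a - e) ∈ 𝒮 := by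
        refine ⟨sup_le hSle ((AddSubgroup.zmultiples_le).2 ?_), fun y hy hy0 => ?_⟩
        · rw [AddSubgroup.mem_comap, map_sub, he', sub_zero]; exact ht
        obtain ⟨s1, hs1, z, hz, rfl⟩ := AddSubgroup.mem_sup.1 hy
        obtain ⟨k, rfl⟩ := AddSubgroup.mem_zmultiples_iff.1 hz
        rw [map_add, map_zsmul, map_sub, he', sub_zero] at hy0
        by_cases hpk : (p : ℤ) ∣ k
        · obtain ⟨l, rfl⟩ := hpk
          rw [mul_comm, mul_smul, natCast_zsmul, hpa]
          exact hS0 _ (add_mem hs1 (AddSubgroup.zsmul_mem _ hs _)) (by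
            rw [map_add, map_zsmul, hst, ← natCast_zsmul _ p, smul_smul, mul_comm l, hy0])
        · obtain ⟨u, v, huv⟩ := (Int.prime_iff_natAbs_prime.2 (by simpa using hP p hp) :
            Prime (p : ℤ)).coprime_iff_not_dvd.2 hpk
          refine absurd ?_ hcon
          have hk : k • π a ∈ S.map π :=
            ⟨-s1, neg_mem hs1, by rw [map_neg]; exact neg_eq_of_add_eq_zero_right hy0⟩
          have e1 : π a = u • (p • π a) + v • (k • π a) := by
            rw [← natCast_zsmul _ p, smul_smul, smul_smul, ← add_smul, huv, one_smul]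
          rw [e1]
          exact add_mem (AddSubgroup.zsmul_mem _ (show p • π a ∈ S.map π from ⟨s, hs, hst⟩) _) (AddSubgroup.zsmul_mem _ hk _)
      refine hcon ⟨a - e, hS.le_of_ge hmem le_sup_left
        (AddSubgroup.mem_sup_right (AddSubgroup.mem_zmultiples _)), ?_⟩
      rw [map_sub, he', sub_zero]
    have hfull : ∀ n : ℕ, 0 < n → (∀ p : ℕ, p.Prime → p ∣ n → p ∈ P) → ∀ t ∈ TP,
        n • t ∈ S.map π → t ∈ S.map π := by
      intro n
      induction n using Nat.strong_induction_on with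
      | _ n ih =>
        intro hn0 hnP t ht hnt
        by_cases h1 : n = 1
        · rwa [h1, one_smul] at hnt
        · obtain ⟨p, hp, q, rfl⟩ := Nat.exists_prime_and_dvd h1
          have hq0 : 0 < q := Nat.pos_of_mul_pos_left hn0
          refine ih q (lt_mul_of_one_lt_left hq0 hp.one_lt) hq0 (fun r hr hd => hnP r hr (hd.mul_left p)) t ht ?_
          refine step p (hnP p hp (dvd_mul_right p q)) _ (AddSubgroup.nsmul_mem _ ht _) ?_
          rwa [← mul_smul]
    have hsurjS : ∀ t : TP, ∃ a ∈ S, π a = t := fun t => by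
      obtain ⟨n, hn0, hnP, hnt⟩ := (hTP t).1 t.2
      exact hfull n hn0 hnP t t.2 (by rw [hnt]; exact zero_mem _)
    choose g hgS hgπ using hsurjS
    have huniq : ∀ x ∈ S, ∀ y ∈ S, π x = π y → x = y := fun x hx y hy h =>
      sub_eq_zero.1 (hS0 _ (sub_mem hx hy) (by rw [map_sub, h, sub_self]))
    let s : TP →+ A := AddMonoidHom.mk' g fun t t' =>
      huniq _ (hgS _) _ (add_mem (hgS _) (hgS _)) (by rw [map_add, hgπ, hgπ, hgπ]; rfl)
    refine ⟨s, hgπ, fun q q' h => ?_, fun a => ?_⟩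
    · have h' : π (q.1 : A) + (q.2 : T) = π (q'.1 : A) + (q'.2 : T) := by
        have := congrArg π h
        simpa only [map_add, show ∀ t, π (s t) = (t : T) from hgπ] using this
      have h2 : (q.2 : T) - q'.2 = π (q'.1 : A) - π (q.1 : A) := by
        rw [sub_eq_sub_iff_add_eq_add, add_comm, h']
      have h3 : (q.2 : T) = q'.2 := sub_eq_zero.1 (hdisj _ (sub_mem q.2.2 q'.2.2)
        (h2 ▸ sub_mem q'.1.2 q.1.2))
      have h4 : q.2 = q'.2 := Subtype.ext h3
      simp only [h4, add_left_inj, SetLike.coe_eq_coe] at h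
      exact Prod.ext h h4
    · obtain ⟨n, hn0, hnt⟩ := hT (π a)
      obtain ⟨t1, h1, t2, h2, h12⟩ := AddSubgroup.mem_sup.1 (hsplit n hn0 _ hnt)
      refine ⟨(⟨a - s ⟨t1, h1⟩, ?_⟩, ⟨t1, h1⟩), sub_add_cancel _ _⟩
      rw [AddSubgroup.mem_comap, map_sub, show π (s ⟨t1, h1⟩) = t1 from hgπ _, ← h12, add_sub_cancel_left]
      exact h2

end Groth.Agent.S16343
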