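import Groth.Statements.S16344
import Mathlib

set_option autoImplicit false
universe u v
open IdeleMod

namespace Groth.Agent.S16344

/-- Let (G_i) be an inverse system, indexed by a directed preorder, of compact Hausdorff topological
abelian groups with continuous surjective transition maps, let G be its limit (the group of
compatible families) and let m be a natural number. Then the canonical map G/mG → lim G_i/mG_i is
bijective: a compatible family that lies in mG_i at every index is m times a compatible family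
(injectivity), and every family that is compatible modulo m agrees modulo m, index by index, with a
compatible family (surjectivity). -/
theorem result
    {ι : Type u} [Preorder ι] [IsDirected ι (· ≤ ·)]
    (G : ι → Type v) [∀ i, AddCommGroup (G i)] [∀ i, TopologicalSpace (G i)]
    [∀ i, IsTopologicalAddGroup (G i)] [∀ i, CompactSpace (G i)] [∀ i, T2Space (G i)]
    (f : ∀ ⦃i j : ι⦄, i ≤ j → (G j →+ G i)) (hf : ∀ i j (h : i ≤ j), Continuous (f h))
    (hid : ∀ i (x : G i), f (le_refl i) x = x)
    (hcomp : ∀ i j k (hij : i ≤ j) (hjk : j ≤ k) (x : G k), f hij (f hjk x) = f (hij.trans hjk) x)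
    (hsurj : ∀ i j (h : i ≤ j), Function.Surjective (f h)) (m : ℕ) :
    (∀ x : ∀ i, G i, (∀ i j (h : i ≤ j), f h (x j) = x i) → (∀ i, ∃ y : G i, m • y = x i) →
        ∃ z : ∀ i, G i, (∀ i j (h : i ≤ j), f h (z j) = z i) ∧ ∀ i, m • z i = x i) ∧
    (∀ y : ∀ i, G i, (∀ i j (h : i ≤ j), ∃ w : G i, f h (y j) - y i = m • w) →
        ∃ x : ∀ i, G i, (∀ i j (h : i ≤ j), f h (x j) = x i) ∧ ∀ i, ∃ w : G i, x i - y i = m • w) := by

  rcases isEmpty_or_nonempty ι with hι | hι
  · exact ⟨fun x _ _ => ⟨x, fun i => isEmptyElim i, fun i => isEmptyElim i⟩,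
      fun y _ => ⟨y, fun i => isEmptyElim i, fun i => isEmptyElim i⟩⟩
  classical
  have key : ∀ C : ∀ i, Set (G i), (∀ i, IsClosed (C i)) → (∀ i, (C i).Nonempty) →
      (∀ i j (h : i ≤ j), ∀ w ∈ C j, f h w ∈ C i) →
      ∃ z : ∀ i, G i, (∀ i j (h : i ≤ j), f h (z j) = z i) ∧ ∀ i, z i ∈ C i := by
    intro C hC hne hmap
    let K : ι → Set (∀ i, G i) := fun j => {z | z j ∈ C j ∧ ∀ i (h : i ≤ j), f h (z j) = z i}
    have hKc : ∀ j, IsClosed (K j) := fun j => by
      have e : K j = ((fun z : ∀ i, G i => z j) ⁻¹' C j) ∩ ⋂ i, ⋂ (h : i ≤ j), {z : ∀ i, G i | f h (z j) = z i} := by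
        ext z; simp [K]
      rw [e]
      exact ((hC j).preimage (continuous_apply j)).inter (isClosed_iInter fun i => isClosed_iInter
        fun h => isClosed_eq ((hf i j h).comp (continuous_apply j)) (continuous_apply i))
    have hmono : ∀ j k, j ≤ k → K k ⊆ K j := by
      rintro j k hjk z ⟨hz, hz'⟩
      refine ⟨hz' j hjk ▸ hmap j k hjk _ hz, fun i hij => ?_⟩
      rw [← hz' j hjk, hcomp i j k hij hjk, hz' i (hij.trans hjk)]
    have hdir : Directed (· ⊇ ·) K := fun a b => by
      obtain ⟨c, hac, hbc⟩ := exists_ge_ge a b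
      exact ⟨c, hmono a c hac, hmono b c hbc⟩
    have hKne : ∀ j, (K j).Nonempty := fun j => by
      obtain ⟨w, hw⟩ := hne j
      refine ⟨fun i => if h : i ≤ j then f h w else 0, ?_, fun i h => ?_⟩
      · simp only [le_refl, dite_true, hid]; exact hw
      · simp only [le_refl, h, dite_true, hid]
    obtain ⟨z, hz⟩ := IsCompact.nonempty_iInter_of_directed_nonempty_isCompact_isClosed K hdir hKne
      (fun j => (hKc j).isCompact) hKc
    rw [Set.mem_iInter] at hz
    exact ⟨z, fun i j h => (hz j).2 i h, fun i => (hz i).1⟩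
  refine ⟨fun x hx hxm => ?_, fun y hy => ?_⟩
  · refine key (fun i => {w | m • w = x i}) (fun i => isClosed_eq (continuous_nsmul m) continuous_const)
      hxm (fun i j h w hw => ?_)
    rw [Set.mem_setOf_eq] at hw ⊢
    rw [← map_nsmul, hw, hx i j h]
  · refine key (fun i => {x | ∃ w : G i, x - y i = m • w}) (fun i => ?_)
      (fun i => ⟨y i, 0, by simp⟩) (fun i j h x hx => ?_)
    · have e : {x | ∃ w : G i, x - y i = m • w} = (fun x => x - y i) ⁻¹' Set.range (fun w : G i => m • w) := by
        ext x; simp [eq_comm]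
      rw [e]
      exact (isCompact_range (continuous_nsmul m)).isClosed.preimage (continuous_sub_right _)
    · obtain ⟨w, hw⟩ := hx
      obtain ⟨w', hw'⟩ := hy i j h
      exact ⟨f h w + w', by rw [smul_add, ← map_nsmul, ← hw, ← hw', map_sub]; abel⟩

end Groth.Agent.S16344
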