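import Groth.Statements.S16345
import Groth.Agent.AffineCompl.Main
import Groth.Agent.SmoothWeil.Geom
import Groth.Agent.FibreDim.Smooth

set_option autoImplicit false
universe u
open KatoHom

namespace Groth.Agent.S16345

open AlgebraicGeometry CategoryTheory in
/-- Let X be a connected scheme, proper and smooth of relative dimension d ≥ 2 over a field L, and let D
⊆ X be a closed subscheme, smooth of relative dimension d − 1 over L (a smooth divisor), whose
complement in X is an affine open subset. Then D is connected (in particular non-empty). -/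
theorem result
    {L : Type u} [Field L] {X D : Scheme.{u}} (f : X ⟶ Spec (CommRingCat.of L)) (i : D ⟶ X)
    [IsProper f] (d : ℕ) (hd : 1 < d) [SmoothOfRelativeDimension d f]
    [IsClosedImmersion i] [SmoothOfRelativeDimension (d - 1) (i ≫ f)]
    [ConnectedSpace X] (U : X.Opens) (hU : IsAffineOpen U)
    (hDU : Set.range i.base = (U : Set X)ᶜ) : ConnectedSpace D := by
  suffices h : _root_.IsConnected ((U : Set X)ᶜ) by
    rw [← hDU, ← Set.image_univ] at h
    refine connectedSpace_iff_univ.2 ⟨?_, i.isClosedEmbedding.isInducing.isPreconnected_image.1 h.2⟩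
    obtain ⟨_, z, -, -⟩ := h.1
    exact ⟨z, trivial⟩
  rcases (U : Set X).eq_empty_or_nonempty with h | h
  · rw [h, Set.compl_empty]
    exact isConnected_univ
  letI : X.Over (Spec (CommRingCat.of L)) := ⟨f⟩
  haveI : Smooth f := SmoothOfRelativeDimension.smooth d f
  haveI : Smooth (X ↘ Spec (CommRingCat.of L)) := inferInstanceAs (Smooth f)
  haveI : IsNoetherianRing (CommRingCat.of L) := inferInstanceAs (IsNoetherianRing L)
  haveI : IsLocallyNoetherian X := LocallyOfFiniteType.isLocallyNoetherian f
  haveI : IrreducibleSpace X := Groth.SmoothWeil.irreducibleSpace_of_connected X fun z =>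
    haveI := Groth.VarietyBC.isRegularLocalRing_of_mem_smoothLocus (k := L) (X := X) (x := z)
      (by rw [show (X ↘ Spec (CommRingCat.of L)).smoothLocus = ⊤ from Scheme.Hom.smoothLocus_eq_top _]; trivial)
    Groth.Ega4Algebra1.isDomain_of_isRegularLocalRing _
  refine Groth.AffineCompl.isConnected_compl f ?_ hU h
  obtain ⟨x, -⟩ := h
  have h1 := Groth.FibreDim.fibreDimAt_eq_of_smoothOfRelativeDimension d f x
  have h2 : FlatMor.fibreDimAt f x ≤ topologicalKrullDim X :=
    (Groth.SpectralTopology.localDim_le_dim _).trans
      (f.fiberι (f.base x)).isEmbedding.isInducing.topologicalKrullDim_le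
  rw [h1] at h2
  exact le_trans (by exact_mod_cast hd) h2

end Groth.Agent.S16345
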