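import Groth.Statements.S16346
import Mathlib

set_option autoImplicit false
universe u v
open KatoHom

namespace Groth.Agent.S16346

/-- Let P be a set of primes and I_P the set of positive integers all of whose prime factors lie in P.
Let A be an abelian group, (B_n)_{n ∈ I_P} an inverse system of abelian groups with transition maps
B_n → B_m for m ∣ n, and φ_n : A → B_n homomorphisms vanishing on nA and compatible with the
transition maps, so that they induce φ̂ : Â → B̂ on the limits Â = lim A/nA and B̂ = lim B_n (limits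
taken as compatible families). Suppose some N ∈ I_P kills the torsion subgroup of B̂ and kills the
kernel of φ̂ (the latter meaning: a compatible family of residues (a_n) with φ_n(a_n) = 0 for all n
has N a_n ∈ nA for all n). Then the subgroup ⋂_{n ∈ I_P} nA is ℓ-divisible for every ℓ ∈ P, and it
contains every subgroup of A that is ℓ-divisible for all ℓ ∈ P; that is, it is the largest
P-divisible subgroup of A. -/
theorem result
    {A : Type u} [AddCommGroup A] (P : Set ℕ) (hP : ∀ p ∈ P, p.Prime)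
    (IP : Set ℕ) (hIP : ∀ n, n ∈ IP ↔ 0 < n ∧ ∀ p : ℕ, p.Prime → p ∣ n → p ∈ P)
    (B : IP → Type v) [∀ n, AddCommGroup (B n)]
    (g : ∀ ⦃m n : IP⦄, (m : ℕ) ∣ (n : ℕ) → (B n →+ B m))
    (hgid : ∀ (n : IP) (b : B n), g (dvd_refl (n : ℕ)) b = b)
    (hgcomp : ∀ (k m n : IP) (hkm : (k : ℕ) ∣ (m : ℕ)) (hmn : (m : ℕ) ∣ (n : ℕ)) (b : B n),
      g hkm (g hmn b) = g (hkm.trans hmn) b)
    (φ : ∀ n : IP, A →+ B n) (hφ : ∀ (n : IP) (a : A), φ n ((n : ℕ) • a) = 0)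
    (hφg : ∀ (m n : IP) (h : (m : ℕ) ∣ (n : ℕ)) (a : A), g h (φ n a) = φ m a)
    (N : ℕ) (hN : N ∈ IP)
    (htor : ∀ b : ∀ n : IP, B n, (∀ (m n : IP) (h : (m : ℕ) ∣ (n : ℕ)), g h (b n) = b m) →
      (∃ k : ℕ, 0 < k ∧ ∀ n, k • b n = 0) → ∀ n, N • b n = 0)
    (hker : ∀ a : IP → A, (∀ m n : IP, (m : ℕ) ∣ (n : ℕ) → ∃ c : A, a n - a m = (m : ℕ) • c) →
      (∀ n, φ n (a n) = 0) → ∀ n : IP, ∃ c : A, N • a n = (n : ℕ) • c) :
    (∀ ℓ ∈ P, ∀ x : A, (∀ n ∈ IP, ∃ y : A, x = n • y) →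
        ∃ y : A, (∀ n ∈ IP, ∃ z : A, y = n • z) ∧ ℓ • y = x) ∧
    (∀ H : AddSubgroup A, (∀ ℓ ∈ P, ∀ x ∈ H, ∃ y ∈ H, ℓ • y = x) →
        ∀ x ∈ H, ∀ n ∈ IP, ∃ y : A, x = n • y) := by

  have hmul : ∀ {a b : ℕ}, a ∈ IP → b ∈ IP → a * b ∈ IP := fun {a b} ha hb => by
    rw [hIP] at ha hb ⊢
    exact ⟨Nat.mul_pos ha.1 hb.1, fun p hp hd => (hp.dvd_mul.1 hd).elim (ha.2 p hp) (hb.2 p hp)⟩
  refine ⟨fun ℓ hℓ x hx => ?_, fun H hH x hx n hn => ?_⟩
  · have hℓI : ℓ ∈ IP := (hIP ℓ).2 ⟨(hP ℓ hℓ).pos, fun p hp hd =>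
      ((Nat.prime_dvd_prime_iff_eq hp (hP ℓ hℓ)).1 hd).symm ▸ hℓ⟩
    have hM : N * N * ℓ ∈ IP := hmul (hmul hN hN) hℓI
    choose u hu using fun n : IP => hx n.1 n.2
    refine ⟨(N * N) • u ⟨_, hM⟩, fun n hn => ?_, ?_⟩
    · have hMn : N * N * ℓ * n ∈ IP := hmul hM hn
      set w := u ⟨_, hM⟩ - n • u ⟨_, hMn⟩ with hw
      have hw0 : (N * N * ℓ) • w = 0 := by
        rw [hw, smul_sub, ← hu ⟨_, hM⟩, ← mul_smul, ← hu ⟨_, hMn⟩, sub_self]
      have hpos : 0 < N * N * ℓ := ((hIP _).1 hM).1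
      have h1 := htor (fun q => φ q w) (fun q r h => hφg q r h w)
        ⟨_, hpos, fun q => by rw [← map_nsmul, hw0, map_zero]⟩
      obtain ⟨c, hc⟩ := hker (fun _ => N • w) (fun q r _ => ⟨0, by simp⟩)
        (fun q => by rw [map_nsmul]; exact h1 q) ⟨n, hn⟩
      refine ⟨(N * N) • u ⟨_, hMn⟩ + c, ?_⟩
      have e : u ⟨_, hM⟩ = n • u ⟨_, hMn⟩ + w := by rw [hw]; abel
      rw [e, smul_add, mul_smul N N w, hc, smul_comm (N * N) n, ← smul_add]
    · rw [← mul_smul, mul_comm, ← hu ⟨_, hM⟩]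
  · induction n using Nat.strong_induction_on generalizing x with
    | _ n ih =>
      obtain ⟨hn0, hnP⟩ := (hIP n).1 hn
      by_cases h1 : n = 1
      · exact ⟨x, by rw [h1, one_smul]⟩
      · obtain ⟨p, hp, q, rfl⟩ := Nat.exists_prime_and_dvd h1
        obtain ⟨y, hy, hyx⟩ := hH p (hnP p hp (dvd_mul_right p q)) x hx
        have hq0 : 0 < q := Nat.pos_of_mul_pos_left hn0
        obtain ⟨z, rfl⟩ := ih q (lt_mul_of_one_lt_left hq0 hp.one_lt) y hy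
          ((hIP q).2 ⟨hq0, fun r hr hd => hnP r hr (hd.mul_left p)⟩)
        exact ⟨z, by rw [mul_smul]; exact hyx.symm⟩

end Groth.Agent.S16346
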