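import Groth.Statements.S16347
import Groth.Agent.CubicGeom.SingularLines

set_option autoImplicit false
universe u
open Cubic

namespace Groth.Agent.S16347

/-- Let K be an algebraically closed field of characteristic zero and S = V(F) ⊂ P^3_K a cubic surface,
F a homogeneous cubic in four variables which is irreducible and not a cone (there is no nonzero
vector v with Σ_i v_i ∂F/∂x_i = 0). If a is a singular point of S (a nonzero vector with F(a) = 0
and every ∂F/∂x_i(a) = 0), then at most six lines through a lie on S; here a line through a on S is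
a 2-dimensional subspace of K^4 containing a on which F vanishes identically. -/
theorem result (K : Type u) [Field K] [IsAlgClosed K] [CharZero K]
    (F : MvPolynomial (Fin 4) K) (hF : F.IsHomogeneous 3) (hirr : Irreducible F)
    (hcone : ¬ ∃ v : Fin 4 → K, v ≠ 0 ∧ ∑ i : Fin 4, v i • MvPolynomial.pderiv i F = 0)
    (a : Fin 4 → K) (ha : a ≠ 0) (hFa : MvPolynomial.eval a F = 0)
    (hsing : ∀ i : Fin 4, MvPolynomial.eval a (MvPolynomial.pderiv i F) = 0) :
    {U : Submodule K (Fin 4 → K) | a ∈ U ∧ Module.finrank K ↥U = 2 ∧ ∀ u ∈ U, MvPolynomial.eval u F = 0}.encard ≤ 6 := by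
  classical
  set T := Groth.CubicGeom.ofPoly F with hT
  have haa : ∀ x, T.tri a a x = 0 := fun x => by
    rw [hT, Groth.CubicGeom.ofPoly_self_self hF]; simp [hsing]
  have hz : ∀ u, T.tri u u u = 0 ↔ MvPolynomial.eval u F = 0 :=
    Groth.CubicGeom.ofPoly_self_eq_zero hF
  have hax : ∀ x, T.tri a x x = 2 * MvPolynomial.eval x (∑ i, a i • MvPolynomial.pderiv i F) := fun x => by
    rw [T.rot, hT, Groth.CubicGeom.ofPoly_self_self hF, map_sum]
    simp [mul_comm]
  have hnu : ∀ G : MvPolynomial (Fin 4) K, G.IsHomogeneous 1 → ¬ IsUnit G := fun G hG h => by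
    have := h.map (MvPolynomial.eval (0 : Fin 4 → K))
    rw [MvPolynomial.eval_zero, MvPolynomial.constantCoeff_eq, hG.coeff_eq_zero (d := 0) (by simp)] at this
    exact not_isUnit_zero this
  have key := Groth.CubicGeom.Form.encard_lines_through_singular_le_six (T := T) (by simp) ha haa ?_ ?_ ?_
  · refine le_of_eq_of_le ?_ key
    congr 1; ext U
    simp [Groth.CubicGeom.Form.IsLine, Groth.CubicGeom.Form.OnSurf, hz]
  · by_contra hq
    push Not at hq
    refine hcone ⟨a, ha, MvPolynomial.funext fun x => ?_⟩
    have := hq x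
    rw [hax] at this
    simpa using this
  · intro φ hφ
    by_contra hc
    push Not at hc
    obtain ⟨G, hG⟩ := Groth.CubicGeom.linPoly_dvd_of_forall' φ hφ F fun x hx => (hz x).1 (hc x hx)
    rcases hirr.isUnit_or_isUnit hG with h | h
    · exact hnu _ (Groth.CubicGeom.isHomogeneous_linPoly φ) h
    · obtain ⟨c, -, rfl⟩ := MvPolynomial.isUnit_iff_eq_C_of_isReduced.1 h
      have h1 : F.IsHomogeneous 1 := by
        rw [hG]; simpa using (Groth.CubicGeom.isHomogeneous_linPoly φ).mul (MvPolynomial.isHomogeneous_C _ c)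
      exact absurd (h1.inj_right hF hirr.ne_zero) (by norm_num)
  · rintro ⟨L, hL⟩
    have hF' : F = (MvPolynomial.C (1 / 3 : K) * ∑ i, a i • MvPolynomial.pderiv i F) *
        Groth.CubicGeom.linPoly L := MvPolynomial.funext fun x => by
      have := hL x
      rw [hax, hT, Groth.CubicGeom.ofPoly_self hF] at this
      simp only [map_mul, MvPolynomial.eval_C, Groth.CubicGeom.eval_linPoly]
      linear_combination (1 / 6 : K) * this
    rcases hirr.isUnit_or_isUnit hF' with h | h
    · rw [IsUnit.mul_iff] at h
      obtain ⟨c, -, hc⟩ := MvPolynomial.isUnit_iff_eq_C_of_isReduced.1 h.2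
      have h1 : F.IsHomogeneous 1 := by
        rw [hF', hc]
        simpa using ((MvPolynomial.isHomogeneous_C _ (1 / 3 : K)).mul (MvPolynomial.isHomogeneous_C _ c)).mul
          (Groth.CubicGeom.isHomogeneous_linPoly L)
      exact absurd (h1.inj_right hF hirr.ne_zero) (by norm_num)
    · exact hnu _ (Groth.CubicGeom.isHomogeneous_linPoly L) h

end Groth.Agent.S16347
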