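import Groth.Statements.S16348
import Groth.Agent.CubicPfaff.Setup

set_option autoImplicit false
universe u
open Cubic

namespace Groth.Agent.S16348

/-- Let k be a field of characteristic zero and S = V(F) ⊂ P^3 the cubic surface of a homogeneous cubic
F ∈ k[x_0, …, x_3] which is geometrically irreducible and not a cone, and let a be a k-rational
point of S which is not a T-point. Then S has five k-rational points in general position (no four of
them coplanar, i.e. any four representing vectors linearly independent), one of which is a. Here ℓ =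
Σ_i ∂F/∂x_i(a) · x_i is the linear form of the tangent plane at a (zero when a is singular), and a
is called a T-point when a is a smooth point of S and the plane cubic T_a S ∩ S is set-theoretically
a union of lines, i.e. when F agrees modulo ℓ with a product of three linear forms over the
algebraic closure; the hypothesis is that a is not a T-point (automatic for a singular point, F
being irreducible). S is not a cone: no nonzero vector v has Σ_i v_i ∂F/∂x_i = 0. -/
theorem result (k : Type u) [Field k] [CharZero k]
    (F : MvPolynomial (Fin 4) k) (hF : F.IsHomogeneous 3)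
    (hirr : Irreducible (MvPolynomial.map (algebraMap k (AlgebraicClosure k)) F))
    (hcone : ¬ ∃ v : Fin 4 → k, v ≠ 0 ∧ ∑ i : Fin 4, v i • MvPolynomial.pderiv i F = 0)
    (a : Fin 4 → k) (ha : a ≠ 0) (hFa : MvPolynomial.eval a F = 0)
    (ℓ : MvPolynomial (Fin 4) (AlgebraicClosure k))
    (hℓ : ℓ = ∑ i : Fin 4, MvPolynomial.C (algebraMap k (AlgebraicClosure k) (MvPolynomial.eval a (MvPolynomial.pderiv i F))) * MvPolynomial.X i)
    (hT : ¬ ∃ L₁ L₂ L₃ : MvPolynomial (Fin 4) (AlgebraicClosure k), L₁.IsHomogeneous 1 ∧ L₂.IsHomogeneous 1 ∧ L₃.IsHomogeneous 1 ∧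
      MvPolynomial.map (algebraMap k (AlgebraicClosure k)) F - L₁ * L₂ * L₃ ∈ Ideal.span {ℓ}) :
    ∃ p : Fin 5 → (Fin 4 → k), p 0 = a ∧ (∀ j : Fin 5, MvPolynomial.eval (p j) F = 0) ∧
      ∀ j : Fin 5, LinearIndependent k (fun i : Fin 4 => p (j.succAbove i)) := by
  exact Groth.CubicPfaff.exists_five_points (algebraMap k (AlgebraicClosure k)) hF hirr
    (Groth.CubicPfaff.ncone_map _ hF hcone) ha hFa (Groth.CubicPfaff.not_isTPt_map _ hF ℓ hℓ hT)

end Groth.Agent.S16348
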