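import Groth.Statements.S1635
import Groth.Agent.Curves1.RR.Numerics

set_option autoImplicit false
universe u
open CategoryTheory CategoryTheory.Limits AlgebraicGeometry
open Curves

namespace Groth.Agent.S1635

/-- Let X be a proper curve over k with global functions k and genus 0, and L an invertible module of
degree d > 0. Then H^0(X, L) has dimension d + 1 and H^1(X, L) = 0. -/
theorem result (k : Type u) [Field k] (X : Scheme.{u}) [X.Over (Spec (CommRingCat.of k))]
    [IsIntegral X] [IsProper (X ↘ (Spec (CommRingCat.of k)))] (hdim : topologicalKrullDim X = 1)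
    (h0 : Module.finrank k (Coh.HH X (Coh.structureModule X) 0) = 1) (hg : Curv2.genus k X = 0)
    (L : X.Modules) (hL : PicF.IsInvertible L) (d : ℕ) (hd : 0 < d) (hdeg : Curv2.deg k X L 1 = d) :
    Module.finrank k (Coh.HH X L 0) = d + 1 ∧ Subsingleton (Coh.HH X L 1) := by
  have h1 : Subsingleton (Coh.HH X L 1) :=
    Groth.Curves1.RR.subsingleton_h1_of_deg_ge k hdim.le h0 hL (by omega)
  refine ⟨?_, h1⟩
  have e := Groth.EulerDeg.euler_eq_h0_sub_h1 k X hdim.le L
  rw [Groth.EulerDeg.finrank_eq_zero_of_subsingleton (k := k) h1,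
    Groth.Curves1.RR.euler_eq k hdim.le h0] at e
  omega

end Groth.Agent.S1635
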