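import Groth.Statements.S16350
import Groth.Agent.CubicPfaff.Master

set_option autoImplicit false
universe u
open Cubic

namespace Groth.Agent.S16350

/-- Let k be a field of characteristic zero with algebraic closure K and S = V(F) ⊂ P^3 the cubic
surface of a homogeneous cubic F ∈ k[x_0, …, x_3] which is geometrically irreducible and not a cone
(no nonzero vector v has Σ_i v_i ∂F/∂x_i = 0). Then S admits a linear Pfaffian representation over
some intermediate field k ⊆ E ⊆ K of degree [E : k] ≤ 3. A linear Pfaffian representation over E is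
a 6 × 6 alternating matrix M of linear forms in E[x_0, …, x_3] whose Pfaffian is a nonzero constant
multiple of F; since the determinant of an alternating matrix is the square of its Pfaffian and the
polynomial ring is factorial with no nonconstant units, this is the same as det M = c · F^2 for a
nonzero constant c, which is how it is written here. (The published statement adds that E may be
taken inside the reals when k is a subfield of the reals; that clause is not part of this row.) -/
theorem result (k : Type u) [Field k] [CharZero k]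
    (F : MvPolynomial (Fin 4) k) (hF : F.IsHomogeneous 3)
    (hirr : Irreducible (MvPolynomial.map (algebraMap k (AlgebraicClosure k)) F))
    (hcone : ¬ ∃ v : Fin 4 → k, v ≠ 0 ∧ ∑ i : Fin 4, v i • MvPolynomial.pderiv i F = 0) :
    ∃ E : IntermediateField k (AlgebraicClosure k), FiniteDimensional k ↥E ∧ Module.finrank k ↥E ≤ 3 ∧
      ∃ M : Matrix (Fin 6) (Fin 6) (MvPolynomial (Fin 4) ↥E), (∀ i j, (M i j).IsHomogeneous 1) ∧ M.transpose = -M ∧ (∀ i, M i i = 0) ∧
        ∃ c : ↥E, c ≠ 0 ∧ M.det = MvPolynomial.C c * (MvPolynomial.map (algebraMap k ↥E) F) ^ 2 := by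
  obtain ⟨x, y, hy, hgood⟩ := Groth.CubicPfaff.exists_line (algebraMap k (AlgebraicClosure k)) hF hirr
    (Groth.CubicPfaff.ncone_map _ hF hcone)
  obtain ⟨P, hP, hroot⟩ := Groth.CubicPfaff.exists_linePoly hF (x := x) hy
  obtain ⟨t₀, ht₀⟩ := IsAlgClosed.exists_aeval_eq_zero (AlgebraicClosure k) P (by
    rw [Polynomial.degree_eq_natDegree (fun h => by simp [h] at hP), hP]; decide)
  have hP0 : P ≠ 0 := fun h => by simp [h] at hP
  have hint : IsIntegral k t₀ := Algebra.IsIntegral.isIntegral t₀
  set E := IntermediateField.adjoin k {t₀}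
  haveI : FiniteDimensional k ↥E := IntermediateField.adjoin.finiteDimensional hint
  refine ⟨E, inferInstance, ?_, ?_⟩
  · rw [IntermediateField.adjoin.finrank hint]
    exact (Polynomial.natDegree_le_of_dvd (minpoly.dvd k t₀ ht₀) hP0).trans hP.le
  let t : ↥E := ⟨t₀, IntermediateField.mem_adjoin_simple_self k t₀⟩
  have hcomp : (algebraMap ↥E (AlgebraicClosure k)).comp (algebraMap k ↥E) = algebraMap k (AlgebraicClosure k) :=
    (IsScalarTower.algebraMap_eq k ↥E (AlgebraicClosure k)).symm
  have ht : Polynomial.eval₂ (algebraMap k ↥E) t P = 0 := by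
    apply (algebraMap ↥E (AlgebraicClosure k)).injective
    rw [Polynomial.hom_eval₂, hcomp, map_zero]
    exact ht₀
  exact Groth.CubicPfaff.exists_rep_over (algebraMap k ↥E) (algebraMap ↥E (AlgebraicClosure k)) hF
    (hcomp ▸ hirr) (hcomp.symm ▸ Groth.CubicPfaff.ncone_map _ hF hcone) (x := x) (y := y) t
    (hroot _ t ht) (by rw [hcomp]; exact hgood _)

end Groth.Agent.S16350
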