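import Groth.Statements.S16351
-- import your own Groth.Agent.* helpers here

set_option autoImplicit false
universe u
open Cubic

namespace Groth.Agent.S16351

/-- Let K be a field of characteristic zero and S = V(F) ⊂ P^3_K a cone over a plane cubic curve C,
normalised so that the vertex is [1 : 0 : 0 : 0], i.e. F is a homogeneous cubic in K[x_0, …, x_3]
not involving x_0 and C = V(F) in the plane P^2 of the coordinates x_1, x_2, x_3. If C has five
K-rational points no three of which are collinear, then S has five K-rational points in general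
position (no four coplanar: any four representing vectors linearly independent). -/
theorem result (K : Type u) [Field K] [CharZero K]
    (G : MvPolynomial (Fin 3) K) (hG : G.IsHomogeneous 3) (F : MvPolynomial (Fin 4) K)
    (hF : F = MvPolynomial.rename Fin.succ G)
    (b : Fin 5 → (Fin 3 → K)) (hb : ∀ j : Fin 5, MvPolynomial.eval (b j) G = 0)
    (h3 : ∀ i j l : Fin 5, i ≠ j → j ≠ l → i ≠ l → LinearIndependent K ![b i, b j, b l]) :
    ∃ p : Fin 5 → (Fin 4 → K), (∀ j : Fin 5, MvPolynomial.eval (p j) F = 0) ∧
      ∀ j : Fin 5, LinearIndependent K (fun i : Fin 4 => p (j.succAbove i)) := by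
  classical
  subst hF
  -- relation coefficients between four of the plane points
  have rel : ∀ j : Fin 5, j ≠ 0 → j ≠ 1 → ∃ r : K, ∀ g : Fin 5 → K, g j = 0 → ∑ i, g i • b i = 0 →
      g 0 = r * g 1 := by
    intro j hj0 hj1
    have hex : ∀ i : Fin 5, ∃ l : Fin 5, l ≠ i := fun i => ⟨i + 1, by simp⟩
    obtain ⟨m, n, hm0, hm1, hn0, hn1, hmn, hmj, hnj⟩ : ∃ m n : Fin 5,
        m ≠ 0 ∧ m ≠ 1 ∧ n ≠ 0 ∧ n ≠ 1 ∧ m ≠ n ∧ m ≠ j ∧ n ≠ j := by
      revert hj0 hj1; revert j; decide
    have hli := h3 1 m n hm1.symm hmn hn1.symm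
    have hspan : b 0 ∈ Submodule.span K (Set.range ![b 1, b m, b n]) := by
      rw [hli.span_eq_top_of_card_eq_finrank (by simp)]; trivial
    obtain ⟨c, hc⟩ := (Submodule.mem_span_range_iff_exists_fun K).1 hspan
    rw [Fin.sum_univ_three] at hc
    simp only [Matrix.cons_val_zero, Matrix.cons_val_one, Matrix.cons_val] at hc
    have hc0 : c 0 ≠ 0 := fun h => by
      have hli0 := h3 0 m n hm0.symm hmn hn0.symm
      have := Fintype.linearIndependent_iff.1 hli0 ![-1, c 1, c 2] (by
        simp [Fin.sum_univ_three]; rw [← hc, h]; module) 0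
      simp at this
    refine ⟨-1 / c 0, fun g hg hsum => ?_⟩
    have huniv : (Finset.univ : Finset (Fin 5)) = {0, 1, m, n, j} :=
      (by decide : ∀ m n j : Fin 5, m ≠ 0 → m ≠ 1 → n ≠ 0 → n ≠ 1 → j ≠ 0 → j ≠ 1 → m ≠ n → m ≠ j →
        n ≠ j → (Finset.univ : Finset (Fin 5)) = {0, 1, m, n, j}) m n j hm0 hm1 hn0 hn1 hj0 hj1 hmn hmj hnj
    rw [huniv] at hsum
    rw [Finset.sum_insert (by simp [hm0.symm, hn0.symm, hj0.symm]),
      Finset.sum_insert (by simp [hm1.symm, hn1.symm, hj1.symm]),
      Finset.sum_insert (by simp [hmn, hmj]), Finset.sum_insert (by simp [hnj]),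
      Finset.sum_singleton, hg, zero_smul, add_zero] at hsum
    rw [← hc] at hsum
    have := Fintype.linearIndependent_iff.1 hli ![g 0 * c 0 + g 1, g 0 * c 1 + g m, g 0 * c 2 + g n] (by
      simp [Fin.sum_univ_three]; rw [← hsum]; module) 0
    simp at this
    field_simp
    linear_combination this
  choose r hr using rel
  haveI : Infinite K := Infinite.of_injective ((↑) : ℕ → K) Nat.cast_injective
  obtain ⟨s, hs⟩ := ((Set.finite_singleton (0 : K)).union
    (Set.finite_range fun j : {j : Fin 5 // j ≠ 0 ∧ j ≠ 1} => -r j.1 j.2.1 j.2.2)).infinite_compl.nonempty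
  simp only [Set.mem_compl_iff, Set.mem_union, Set.mem_singleton_iff, Set.mem_range, not_or,
    not_exists] at hs
  let t : Fin 5 → K := fun i => if i = 0 then 1 else if i = 1 then s else 0
  refine ⟨fun i => Fin.cons (t i) (b i), fun j => ?_, fun j => ?_⟩
  · rw [MvPolynomial.eval_rename]
    exact hb j
  · rw [Fintype.linearIndependent_iff]
    intro g hg
    let G : Fin 5 → K := j.insertNth 0 g
    have hGj : G j = 0 := by simp [G]
    have hG : ∀ i, G (j.succAbove i) = g i := fun i => by simp [G]
    have hsum : ∑ i, G i • (Fin.cons (t i) (b i) : Fin 4 → K) = 0 := by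
      rw [Fin.sum_univ_succAbove _ j, hGj, zero_smul, zero_add]
      simpa [hG] using hg
    have h0 : ∑ i, G i * t i = 0 := by
      have := congrFun hsum 0
      simpa using this
    have hbs : ∑ i, G i • b i = 0 := by
      ext c
      have := congrFun hsum c.succ
      simpa using this
    have htail : G 0 = 0 ∧ G 1 = 0 := by
      have e : G 0 + G 1 * s = 0 := by
        simpa [Fin.sum_univ_five, t] using h0
      by_cases hj0 : j = 0
      · subst hj0
        rw [hGj, zero_add] at e
        exact ⟨hGj, (mul_eq_zero.1 e).resolve_right hs.1⟩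
      by_cases hj1 : j = 1
      · subst hj1
        rw [hGj, zero_mul, add_zero] at e
        exact ⟨e, hGj⟩
      have hr' := hr j hj0 hj1 G hGj hbs
      rw [hr'] at e
      have hne : r j hj0 hj1 + s ≠ 0 := fun h => hs.2 ⟨j, hj0, hj1⟩ (by linear_combination -h)
      have h1 : G 1 = 0 := (mul_eq_zero.1 (by linear_combination e : G 1 * (r j hj0 hj1 + s) = 0)).resolve_right hne
      exact ⟨by rw [hr', h1, mul_zero], h1⟩
    have hall : ∀ i, G i = 0 := by
      rw [Fin.sum_univ_five, htail.1, htail.2, zero_smul, zero_smul, zero_add, zero_add] at hbs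
      have hli := h3 2 3 4 (by decide) (by decide) (by decide)
      have := Fintype.linearIndependent_iff.1 hli ![G 2, G 3, G 4] (by simpa [Fin.sum_univ_three] using hbs)
      intro i
      fin_cases i
      exacts [htail.1, htail.2, this 0, this 1, this 2]
    intro i
    rw [← hG]; exact hall _

end Groth.Agent.S16351
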