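import Groth.Statements.S16353
import Mathlib

set_option autoImplicit false
universe u
open DegLoci

namespace Groth.Agent.S16353

open MvPolynomial

variable {k : Type u} [Field k] {m : ℕ}

/-- the product of the falling factorials -/
def P (a b : Fin m →₀ ℕ) : ℕ := ∏ i, Nat.descFactorial (b i) (a i)

/-- contraction as a bilinear map -/
noncomputable def L : MvPolynomial (Fin m) k →ₗ[k] MvPolynomial (Fin m) k →ₗ[k] MvPolynomial (Fin m) k :=
  (basisMonomials (Fin m) k).constr k fun a =>
    (basisMonomials (Fin m) k).constr k fun b => monomial (b - a) (P a b : k)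

lemma L_monomial (a b : Fin m →₀ ℕ) (c d : k) :
    L (monomial a c) (monomial b d) = monomial (b - a) (c * d * P a b) := by
  have ea : monomial a c = c • basisMonomials (Fin m) k a := by simp [smul_monomial]
  have eb : monomial b d = d • basisMonomials (Fin m) k b := by simp [smul_monomial]
  rw [ea, eb]
  simp only [map_smul, LinearMap.smul_apply, L, Module.Basis.constr_basis, smul_monomial, smul_eq_mul]
  congr 1
  ring

lemma P_eq_zero {a b : Fin m →₀ ℕ} (h : ¬ a ≤ b) : P a b = 0 := by
  rw [Finsupp.le_def] at h
  push Not at h
  obtain ⟨i, hi⟩ := h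
  exact Finset.prod_eq_zero (Finset.mem_univ i) (Nat.descFactorial_eq_zero_iff_lt.2 hi)

lemma contract_eq (D G : MvPolynomial (Fin m) k) : W4c3degenlocivb.contract D G = L D G := by
  conv_rhs => rw [D.as_sum, G.as_sum]
  simp only [map_sum, LinearMap.sum_apply, L_monomial]
  rw [Finset.sum_comm]
  refine Finset.sum_congr rfl fun a _ => ?_
  refine Finset.sum_congr rfl fun b _ => ?_
  split_ifs with h
  · have e : (b.support.prod fun i => Nat.descFactorial (b i) (a i)) = P a b := by
      refine Finset.prod_subset (Finset.subset_univ _) fun i _ hi => ?_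
      have hb : b i = 0 := Finsupp.notMem_support_iff.1 hi
      have ha : a i = 0 := Nat.le_zero.1 (hb ▸ h i)
      rw [hb, ha, Nat.descFactorial_zero]
    rw [e]
  · rw [P_eq_zero h, Nat.cast_zero, mul_zero, map_zero]

lemma P_mul (a b c : Fin m →₀ ℕ) : P b c * P a (c - b) = P (a + b) c := by
  rw [P, P, P, ← Finset.prod_mul_distrib]
  refine Finset.prod_congr rfl fun i _ => ?_
  rw [Finsupp.tsub_apply, Finsupp.add_apply, mul_comm,
    ← Nat.descFactorial_mul_descFactorial (Nat.le_add_left (b i) (a i)), Nat.add_sub_cancel]

lemma L_assoc (p q F : MvPolynomial (Fin m) k) : L p (L q F) = L (p * q) F := by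
  induction p using MvPolynomial.induction_on' with
  | monomial a x =>
    induction q using MvPolynomial.induction_on' with
    | monomial b y =>
      induction F using MvPolynomial.induction_on' with
      | monomial c z =>
        rw [monomial_mul, L_monomial, L_monomial, L_monomial, tsub_tsub, add_comm b a, ← P_mul a b c,
          Nat.cast_mul]
        congr 1
        ring
      | add F1 F2 h1 h2 => simp only [map_add, h1, h2]
    | add q1 q2 h1 h2 => simp only [map_add, LinearMap.add_apply, mul_add, h1, h2]
  | add p1 p2 h1 h2 => simp only [map_add, LinearMap.add_apply, add_mul, h1, h2]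

lemma coeff_zero_L (α : Fin m →₀ ℕ) (G : MvPolynomial (Fin m) k) :
    coeff 0 (L (monomial α 1) G) = coeff α G * P α α := by
  induction G using MvPolynomial.induction_on' with
  | monomial b y =>
    rw [L_monomial, one_mul]
    by_cases h : b = α
    · subst h; rw [tsub_self, coeff_monomial, if_pos rfl, coeff_monomial, if_pos rfl]
    · by_cases h' : α ≤ b
      · have hne : b - α ≠ 0 := fun e => h (le_antisymm (tsub_eq_zero_iff_le.1 e) h')
        rw [coeff_monomial, if_neg hne, coeff_monomial, if_neg h, zero_mul]
      · rw [P_eq_zero h', Nat.cast_zero, mul_zero, map_zero, coeff_monomial, if_neg h, zero_mul, coeff_zero]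
  | add G1 G2 h1 h2 => rw [map_add, coeff_add, h1, h2, coeff_add, add_mul]

lemma isHomogeneous_L {D F : MvPolynomial (Fin m) k} {d e : ℕ} (hD : D.IsHomogeneous d)
    (hF : F.IsHomogeneous e) : (L D F).IsHomogeneous (e - d) := by
  rw [← mem_homogeneousSubmodule, D.as_sum, F.as_sum]
  simp only [map_sum, LinearMap.sum_apply, L_monomial]
  refine Submodule.sum_mem _ fun b hb => Submodule.sum_mem _ fun a ha => ?_
  by_cases h : a ≤ b
  · rw [mem_homogeneousSubmodule]
    refine isHomogeneous_monomial _ ?_
    have h1 : a.degree = d := by
      rw [← hD (mem_support_iff.1 ha), Finsupp.weight_apply]; simp [Finsupp.degree_apply, Finsupp.sum]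
    have h2 : b.degree = e := by
      rw [← hF (mem_support_iff.1 hb), Finsupp.weight_apply]; simp [Finsupp.degree_apply, Finsupp.sum]
    have h3 : (b - a).degree + a.degree = b.degree := by
      rw [← map_add, tsub_add_cancel_of_le h]
    omega
  · rw [P_eq_zero h, Nat.cast_zero, mul_zero, map_zero]
    exact Submodule.zero_mem _

/-- Let k be a field of characteristic zero, R = k[y_0, …, y_{m−1}] acting on S = k[∂_0, …, ∂_{m−1}] by
apolarity (y_i acts as the derivative with respect to ∂_i), F ∈ S homogeneous of degree e and d ≤ e.
Then the degree-d part of the apolar ideal of F is the orthogonal complement of the partial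
derivatives of F of order e − d: a homogeneous D ∈ R_d satisfies D(F) = 0 if and only if D(y^α(F)) =
0 for every multi-index α with |α| = e − d (each D(y^α(F)) being a constant, the value of the
apolarity pairing of D with y^α(F)). -/
theorem result (k : Type u) [Field k] [CharZero k] (m : ℕ)
    (F : MvPolynomial (Fin m) k) (e : ℕ) (hF : F.IsHomogeneous e) (d : ℕ) (hd : d ≤ e)
    (D : MvPolynomial (Fin m) k) (hD : D.IsHomogeneous d) :
    W4c3degenlocivb.contract D F = 0 ↔
      ∀ α : Fin m →₀ ℕ, α.degree = e - d → W4c3degenlocivb.contract D (W4c3degenlocivb.contract (MvPolynomial.monomial α 1) F) = 0 := by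

  simp only [contract_eq]
  constructor
  · intro h α _
    rw [L_assoc, mul_comm, ← L_assoc, h, map_zero]
  · intro h
    refine MvPolynomial.ext _ _ fun α => ?_
    rw [MvPolynomial.coeff_zero]
    by_cases hα : α.degree = e - d
    · have h0 := h α hα
      rw [L_assoc, mul_comm, ← L_assoc] at h0
      have h1 := congrArg (MvPolynomial.coeff 0) h0
      rw [coeff_zero_L, MvPolynomial.coeff_zero] at h1
      refine (mul_eq_zero.1 h1).resolve_right (Nat.cast_ne_zero.2 ?_)
      refine Finset.prod_ne_zero_iff.2 fun i _ => ?_
      rw [Nat.descFactorial_self]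
      exact Nat.factorial_ne_zero _
    · exact (isHomogeneous_L hD hF).coeff_eq_zero hα

end Groth.Agent.S16353
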