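import Groth.Statements.S16354
import Groth.Agent.CubicPfaff.Master

set_option autoImplicit false
universe u
open Cubic

namespace Groth.Agent.S16354

/-- A real cubic polynomial has a root. -/
theorem exists_real_root (P : Polynomial ℝ) (hP : P.natDegree = 3) : ∃ t : ℝ, P.eval t = 0 := by
  have hlc : P.coeff 3 ≠ 0 := by
    rw [← hP]; exact Polynomial.leadingCoeff_ne_zero.2 fun h => by simp [h] at hP
  have hev : ∀ s, P.eval s = P.coeff 3 * (s ^ 3 + P.coeff 2 / P.coeff 3 * s ^ 2 + P.coeff 1 / P.coeff 3 * s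
      + P.coeff 0 / P.coeff 3) := fun s => by
    rw [Polynomial.eval_eq_sum_range, hP]
    simp only [Finset.sum_range_succ, Finset.sum_range_zero]
    field_simp
    ring
  set a := P.coeff 2 / P.coeff 3
  set b := P.coeff 1 / P.coeff 3
  set c := P.coeff 0 / P.coeff 3
  set f : ℝ → ℝ := fun s => s ^ 3 + a * s ^ 2 + b * s + c with hf
  set M := 1 + |a| + |b| + |c| with hM
  have hM1 : 1 ≤ M := by rw [hM]; linarith [abs_nonneg a, abs_nonneg b, abs_nonneg c]
  have hM2 : 1 ≤ M ^ 2 := one_le_pow₀ hM1
  have key : |a| * M ^ 2 + |b| * M + |c| ≤ M ^ 3 := by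
    have h1 : |b| * M ≤ |b| * M ^ 2 := mul_le_mul_of_nonneg_left (by nlinarith) (abs_nonneg b)
    have h2 : |c| ≤ |c| * M ^ 2 := le_mul_of_one_le_right (abs_nonneg c) hM2
    nlinarith [hM2]
  have hpos : 0 ≤ f M := by
    simp only [hf]
    nlinarith [neg_abs_le a, neg_abs_le b, neg_abs_le c, hM1, hM2]
  have hneg : f (-M) ≤ 0 := by
    simp only [hf]
    nlinarith [le_abs_self a, le_abs_self c, neg_abs_le b, hM1, hM2]
  have hcont : Continuous f := by rw [hf]; fun_prop
  obtain ⟨t, -, ht⟩ := intermediate_value_Icc (by linarith : -M ≤ M) hcont.continuousOn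
    (show (0 : ℝ) ∈ Set.Icc (f (-M)) (f M) from ⟨hneg, hpos⟩)
  exact ⟨t, by rw [hev, show t ^ 3 + a * t ^ 2 + b * t + c = 0 from ht, mul_zero]⟩

/-- Let k be a subfield of ℝ (a field equipped with an embedding into the reals) and S = V(F) ⊂ P^3 the
cubic surface of a homogeneous cubic F ∈ k[x_0, …, x_3] which is geometrically irreducible and not a
cone (no nonzero vector v has Σ_i v_i ∂F/∂x_i = 0). Then S admits a linear Pfaffian representation
over a real intermediate field k ⊆ E ⊆ ℝ of degree [E : k] ≤ 3. A linear Pfaffian representation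
over E is a 6 × 6 alternating matrix M of linear forms in E[x_0, …, x_3] whose Pfaffian is a nonzero
constant multiple of F; since the determinant of an alternating matrix is the square of its Pfaffian
and the polynomial ring is factorial with no nonconstant units, this is the same as det M = c · F^2
for a nonzero constant c, which is how it is written here. -/
theorem result (k : Type u) [Field k] [Algebra k ℝ]
    (F : MvPolynomial (Fin 4) k) (hF : F.IsHomogeneous 3)
    (hirr : Irreducible (MvPolynomial.map (algebraMap k (AlgebraicClosure k)) F))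
    (hcone : ¬ ∃ v : Fin 4 → k, v ≠ 0 ∧ ∑ i : Fin 4, v i • MvPolynomial.pderiv i F = 0) :
    ∃ E : IntermediateField k ℝ, FiniteDimensional k ↥E ∧ Module.finrank k ↥E ≤ 3 ∧
      ∃ M : Matrix (Fin 6) (Fin 6) (MvPolynomial (Fin 4) ↥E), (∀ i j, (M i j).IsHomogeneous 1) ∧ M.transpose = -M ∧ (∀ i, M i i = 0) ∧
        ∃ c : ↥E, c ≠ 0 ∧ M.det = MvPolynomial.C c * (MvPolynomial.map (algebraMap k ↥E) F) ^ 2 := by
  haveI : CharZero k := (RingHom.charZero_iff (algebraMap k ℝ).injective).2 inferInstance
  haveI : CharZero (AlgebraicClosure k) := charZero_of_injective_algebraMap (algebraMap k (AlgebraicClosure k)).injective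
  obtain ⟨x, y, hy, hgood⟩ := Groth.CubicPfaff.exists_line (algebraMap k (AlgebraicClosure k)) hF hirr
    (Groth.CubicPfaff.ncone_map _ hF hcone)
  obtain ⟨P, hP, hroot⟩ := Groth.CubicPfaff.exists_linePoly hF (x := x) hy
  have hP0 : P ≠ 0 := fun h => by simp [h] at hP
  obtain ⟨t₀, ht₀'⟩ := exists_real_root (P.map (algebraMap k ℝ))
    (by rw [Polynomial.natDegree_map, hP])
  have ht₀ : Polynomial.aeval t₀ P = 0 := by
    rw [Polynomial.aeval_def, ← Polynomial.eval_map]; exact ht₀'
  have hint : IsIntegral k t₀ := IsAlgebraic.isIntegral ⟨P, hP0, ht₀⟩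
  set E := IntermediateField.adjoin k {t₀}
  haveI : FiniteDimensional k ↥E := IntermediateField.adjoin.finiteDimensional hint
  refine ⟨E, inferInstance, ?_, ?_⟩
  · rw [IntermediateField.adjoin.finrank hint]
    exact (Polynomial.natDegree_le_of_dvd (minpoly.dvd k t₀ ht₀) hP0).trans hP.le
  let φ : ↥E →ₐ[k] AlgebraicClosure k := IsAlgClosed.lift
  let t : ↥E := ⟨t₀, IntermediateField.mem_adjoin_simple_self k t₀⟩
  have hcomp : φ.toRingHom.comp (algebraMap k ↥E) = algebraMap k (AlgebraicClosure k) := φ.comp_algebraMap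
  have ht : Polynomial.eval₂ (algebraMap k ↥E) t P = 0 := by
    apply (algebraMap ↥E ℝ).injective
    rw [Polynomial.hom_eval₂, ← IsScalarTower.algebraMap_eq k ↥E ℝ, map_zero]
    exact ht₀
  exact Groth.CubicPfaff.exists_rep_over (algebraMap k ↥E) φ.toRingHom hF
    (hcomp ▸ hirr) (hcomp.symm ▸ Groth.CubicPfaff.ncone_map _ hF hcone) (x := x) (y := y) t
    (hroot _ t ht) (by rw [hcomp]; exact hgood _)

end Groth.Agent.S16354
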