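import Groth.Statements.S16355
import Mathlib
import Groth.Agent.Pencil.Basic
import Groth.Agent.BinForms.Basic

set_option autoImplicit false
universe u
open DegLoci

namespace Groth.Agent.S16355

/-- Let k be an algebraically closed field of characteristic zero and n = 2r + 1 ≥ 3 odd. For a general
n × n alternating matrix N of linear forms in k[y_0, y_1], the n principal sub-Pfaffians of size n −
1 (delete row i and column i, take the Pfaffian) span the whole space k[y_0, y_1]_r of binary forms
of degree r. Here such matrices are parametrised by antisymmetric coefficient arrays c (entry (i, j)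
of N is Σ_l c_{i j l} y_l with c_{j i l} = −c_{i j l}), and 'general' means: outside the zero set of
some polynomial Φ in the coefficients which does not vanish at every antisymmetric array. -/
theorem result (k : Type u) [Field k] [IsAlgClosed k] [CharZero k]
    (r : ℕ) (hr : 1 ≤ r) :
    ∃ Φ : MvPolynomial (Fin (2 * r + 1) × Fin (2 * r + 1) × Fin 2) k,
      (∃ c : Fin (2 * r + 1) → Fin (2 * r + 1) → Fin 2 → k, (∀ i j l, c j i l = -c i j l) ∧
        MvPolynomial.eval (fun p => c p.1 p.2.1 p.2.2) Φ ≠ 0) ∧
      ∀ c : Fin (2 * r + 1) → Fin (2 * r + 1) → Fin 2 → k, (∀ i j l, c j i l = -c i j l) →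
        MvPolynomial.eval (fun p => c p.1 p.2.1 p.2.2) Φ ≠ 0 →
        Submodule.span k (Set.range fun i : Fin (2 * r + 1) =>
            W4c3degenlocivb.pf (2 * r) ((Matrix.of fun a b => ∑ l : Fin 2, MvPolynomial.C (c a b l) * MvPolynomial.X l).submatrix i.succAbove i.succAbove)) =
          MvPolynomial.homogeneousSubmodule (Fin 2) k r := by
  classical
  let n := 2 * r + 1
  let cg : Fin n → Fin n → Fin 2 → MvPolynomial (Fin n × Fin n × Fin 2) k :=
    fun a b l => MvPolynomial.X (a, b, l)
  let M : Matrix (Fin (r + 1)) (Fin (r + 1)) (MvPolynomial (Fin n × Fin n × Fin 2) k) :=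
    Matrix.of fun j l => MvPolynomial.coeff (Groth.Pencil.mon r l) (Groth.Pencil.subPf r cg (Groth.Pencil.even r j))
  have hM : ∀ c : Fin n → Fin n → Fin 2 → k, MvPolynomial.eval (fun p => c p.1 p.2.1 p.2.2) M.det =
      (Matrix.of fun j l : Fin (r + 1) =>
        MvPolynomial.coeff (Groth.Pencil.mon r l) (Groth.Pencil.subPf r c (Groth.Pencil.even r j))).det := by
    intro c
    rw [RingHom.map_det]
    congr 1
    ext j l
    simp only [RingHom.mapMatrix_apply, Matrix.map_apply, M, Matrix.of_apply]
    rw [← MvPolynomial.coeff_map, Groth.Pencil.map_subPf]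
    simp [cg]
  refine ⟨M.det, ⟨Groth.Pencil.c₀ r, fun i j l => Groth.Pencil.c₀_antisymm r i j l, ?_⟩, fun c _ hc => ?_⟩
  · rw [hM]
    have : (Matrix.of fun j l : Fin (r + 1) => MvPolynomial.coeff (Groth.Pencil.mon r l)
        (Groth.Pencil.subPf r (Groth.Pencil.c₀ (k := k) r) (Groth.Pencil.even r j))) = 1 := by
      ext j l
      simp [Groth.Pencil.coeff_subPf_c₀, Matrix.one_apply]
    rw [this, Matrix.det_one]
    exact one_ne_zero
  · rw [hM] at hc
    have hle : Submodule.span k (Set.range fun i => Groth.Pencil.subPf r c i) ≤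
        MvPolynomial.homogeneousSubmodule (Fin 2) k r := by
      rw [Submodule.span_le]
      rintro _ ⟨i, rfl⟩
      exact Groth.Pencil.subPf_homogeneous r c i
    have hli : LinearIndependent k fun j => Groth.Pencil.subPf r c (Groth.Pencil.even r j) := by
      let T : MvPolynomial (Fin 2) k →ₗ[k] (Fin (r + 1) → k) :=
        LinearMap.pi fun l => MvPolynomial.lcoeff k (Groth.Pencil.mon r l)
      exact LinearIndependent.of_comp T (Matrix.linearIndependent_rows_of_det_ne_zero hc)
    change Submodule.span k (Set.range fun i => Groth.Pencil.subPf r c i) = _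
    refine Submodule.eq_of_le_of_finrank_le hle ?_
    rw [Groth.BinForms.finrank_homogeneous]
    have : Module.Finite k (Submodule.span k (Set.range fun i => Groth.Pencil.subPf r c i)) :=
      Module.Finite.span_of_finite k (Set.finite_range _)
    refine le_trans (le_of_eq ?_) (Submodule.finrank_mono (Submodule.span_mono ?_ :
      Submodule.span k (Set.range fun j => Groth.Pencil.subPf r c (Groth.Pencil.even r j)) ≤ _))
    · rw [finrank_span_eq_card hli, Fintype.card_fin]
    · rintro _ ⟨j, rfl⟩
      exact ⟨_, rfl⟩

end Groth.Agent.S16355
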