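import Groth.Statements.S16356
import Mathlib

set_option autoImplicit false
universe u
open OrdAV

namespace Groth.Agent.S16356

/-- For an odd prime p and a perfect field k of characteristic p, a root of unity in the ring of Witt
vectors W(k) whose residue in k is 1 is itself 1: if x ^ n = 1 with n ≥ 1 and the zeroth Witt
component of x is 1, then x = 1. (For p = 2 this fails: -1 in W(F_2).) -/
theorem result (p : ℕ) [Fact p.Prime] (hp : p ≠ 2)
    (k : Type u) [Field k] [CharP k p] [PerfectRing k p]
    (x : WittVector p k) (n : ℕ) (hn : 0 < n) (hx : x ^ n = 1) (h0 : x.coeff 0 = 1) : x = 1 := by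

  have hp' : p.Prime := Fact.out
  have hdom : IsDomain (WittVector p k) := inferInstance
  have hchar : ∀ j : ℕ, WittVector.constantCoeff (j : WittVector p k) = (j : k) := fun j => map_natCast _ j
  have key : ∀ (q : ℕ), q.Prime → ∀ y : WittVector p k, y.coeff 0 = 1 → y ^ q = 1 → y = 1 := by
    intro q hq y hy0 hy
    by_contra hne
    have hgs : ∑ i ∈ Finset.range q, y ^ i = 0 := by
      have := geom_sum_mul y q
      rw [hy, sub_self] at this
      exact (mul_eq_zero.1 this).resolve_right (sub_ne_zero.2 hne)
    have hcc : WittVector.constantCoeff y = 1 := hy0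
    by_cases hqp : q = p
    · subst hqp
      obtain ⟨z, hz⟩ : ∃ z, y - 1 = (q : WittVector q k) * z := by
        have : y - 1 ∈ Ideal.span {(q : WittVector q k)} := by
          rw [WittVector.mem_span_p_iff_coeff_zero_eq_zero]
          change WittVector.constantCoeff (y - 1) = 0
          rw [map_sub, hcc, map_one, sub_self]
        exact Ideal.mem_span_singleton.1 this
      have hy' : y = 1 + (q : WittVector q k) * z := by rw [← hz]; ring
      have hstep : ∀ i : ℕ, ∃ w : WittVector q k,
          y ^ i = 1 + (i : WittVector q k) * ((q : WittVector q k) * z) + (q : WittVector q k) ^ 2 * w := by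
        intro i
        induction i with
        | zero => exact ⟨0, by simp⟩
        | succ i ih =>
          obtain ⟨w, hw⟩ := ih
          refine ⟨w + (i : WittVector q k) * z ^ 2 + (q : WittVector q k) * z * w, ?_⟩
          rw [pow_succ, hw, hy', Nat.cast_succ]
          ring
      choose w hw using hstep
      obtain ⟨c, hc⟩ : ∃ c, q = 2 * c + 1 := (hq.odd_of_ne_two hp)
      have hsum : ∑ i ∈ Finset.range q, (i : WittVector q k) = (q : WittVector q k) * (c : WittVector q k) := by
        have h2 : (∑ i ∈ Finset.range q, i) = q * c := by
          have := Finset.sum_range_id_mul_two q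
          have hq1 : q - 1 = 2 * c := by omega
          rw [hq1] at this
          linarith
        rw [← Nat.cast_sum, h2, Nat.cast_mul]
      have h3 : ∑ i ∈ Finset.range q, y ^ i =
          (q : WittVector q k) * (1 + (q : WittVector q k) * ((c : WittVector q k) * z + ∑ i ∈ Finset.range q, w i)) := by
        simp only [hw, Finset.sum_add_distrib, ← Finset.sum_mul, ← Finset.mul_sum, hsum, Finset.sum_const,
          Finset.card_range, nsmul_eq_mul, mul_one]
        ring
      rw [hgs] at h3
      rcases mul_eq_zero.1 h3.symm with h | h
      · exact WittVector.p_nonzero q k h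
      · have := congrArg WittVector.constantCoeff h
        rw [map_add, map_one, map_mul, hchar, CharP.cast_eq_zero, zero_mul, add_zero, map_zero] at this
        exact one_ne_zero this
    · have := congrArg WittVector.constantCoeff hgs
      simp only [map_sum, map_pow, hcc, one_pow, Finset.sum_const, Finset.card_range, nsmul_eq_mul, mul_one,
        map_zero] at this
      rw [CharP.cast_eq_zero_iff k p] at this
      exact hqp ((Nat.prime_dvd_prime_iff_eq hp' hq).1 this).symm
  induction n using Nat.strong_induction_on generalizing x with
  | _ n ih =>
    by_cases h1 : n = 1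
    · rwa [h1, pow_one] at hx
    · obtain ⟨q, hq, r, rfl⟩ := Nat.exists_prime_and_dvd h1
      have hr : 0 < r := Nat.pos_of_mul_pos_left hn
      refine ih r (lt_mul_of_one_lt_left hr hq.one_lt) x hr ?_ h0
      refine key q hq _ ?_ (by rw [← pow_mul, mul_comm]; exact hx)
      change WittVector.constantCoeff (x ^ r) = 1
      rw [map_pow]
      change (x.coeff 0) ^ r = 1
      rw [h0, one_pow]

end Groth.Agent.S16356
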