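import Groth.Statements.S16357
import Mathlib

set_option autoImplicit false
universe u
open OrdAV

namespace Groth.Agent.S16357

open scoped TensorProduct

/-- Over a field L of characteristic zero, a monic polynomial h whose square has rational coefficients
has rational coefficients itself. -/
theorem result (L : Type u) [Field L] [CharZero L]
    (h : Polynomial L) (hm : h.Monic) (f : Polynomial ℚ)
    (hf : h ^ 2 = Polynomial.map (algebraMap ℚ L) f) :
    ∃ g : Polynomial ℚ, Polynomial.map (algebraMap ℚ L) g = h := by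
  classical
  let S := TensorProduct ℚ L L
  let l : L →ₐ[ℚ] S := Algebra.TensorProduct.includeLeft
  let r : L →ₐ[ℚ] S := Algebra.TensorProduct.includeRight
  have hlr : h.map (l : L →+* S) = h.map (r : L →+* S) := by
    have h1 : ∀ φ : L →ₐ[ℚ] S, (h.map (φ : L →+* S)) ^ 2 = f.map (algebraMap ℚ S) := fun φ => by
      rw [← Polynomial.map_pow, hf, Polynomial.map_map, φ.comp_algebraMap]
    have h2 : (h.map (l : L →+* S) - h.map (r : L →+* S)) *
        (h.map (l : L →+* S) + h.map (r : L →+* S)) = 0 := by
      have := (h1 l).trans (h1 r).symm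
      linear_combination this
    refine sub_eq_zero.1 ((mem_nonZeroDivisors_iff_right.1
      (Polynomial.mem_nonzeroDivisors_of_coeff_mem h.natDegree ?_)) _ h2)
    rw [Polynomial.coeff_add, Polynomial.coeff_map, Polynomial.coeff_map, hm.coeff_natDegree, map_one,
      map_one]
    have hu : IsUnit (1 + 1 : S) := by
      have : IsUnit ((2 : L)) := isUnit_iff_ne_zero.2 two_ne_zero
      have := this.map (l : L →+* S)
      rwa [map_ofNat, ← one_add_one_eq_two] at this
    exact hu.mem_nonZeroDivisors
  obtain ⟨ℓ, hℓ⟩ := LinearMap.exists_leftInverse_of_injective (Algebra.linearMap ℚ L)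
    (LinearMap.ker_eq_bot.2 (algebraMap ℚ L).injective)
  have h1 : ℓ 1 = 1 := by simpa using LinearMap.congr_fun hℓ 1
  have hmem : h ∈ Polynomial.lifts (algebraMap ℚ L) := by
    refine (Polynomial.lifts_iff_coeff_lifts h).2 fun i => ⟨ℓ (h.coeff i), ?_⟩
    have e := congrArg (Polynomial.coeff · i) hlr
    simp only [Polynomial.coeff_map] at e
    change (h.coeff i) ⊗ₜ[ℚ] (1 : L) = (1 : L) ⊗ₜ[ℚ] (h.coeff i) at e
    have e2 := congrArg (fun z => TensorProduct.rid ℚ L (LinearMap.lTensor L ℓ z)) e
    simp [h1, Algebra.smul_def] at e2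
    simpa using e2.symm
  exact (Polynomial.mem_lifts h).1 hmem

end Groth.Agent.S16357
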