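import Groth.Statements.S16358
import Mathlib

set_option autoImplicit false
universe u v w
open OrdAV

namespace Groth.Agent.S16358

/-- Let k be a perfect field of characteristic p > 0 and W = W(k); let M be a finitely generated free
W-module on which a finite group G acts W-linearly, with invariant submodule M^G. Then the map
(W/pW) ⊗ M^G → (W/pW) ⊗ M induced by the inclusion is injective. Since M^G is free, this implies
rank_W M^G ≤ dim_k (M/pM)^G; the published statement is that inequality, and this row states the
stronger injectivity. -/
theorem result (p : ℕ) [Fact p.Prime]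
    (k : Type u) [Field k] [CharP k p] [PerfectRing k p]
    (M : Type v) [AddCommGroup M] [Module (WittVector p k) M]
    [Module.Free (WittVector p k) M] [Module.Finite (WittVector p k) M]
    (G : Type w) [Group G] [Finite G] (ρ : Representation (WittVector p k) G M) :
    Function.Injective
      (LinearMap.lTensor (WittVector p k ⧸ Ideal.span {(p : WittVector p k)}) ρ.invariants.subtype) := by
  classical
  let W := WittVector p k
  have hp0 : (p : W) ≠ 0 := WittVector.p_nonzero p k
  rw [injective_iff_map_eq_zero]
  intro z hz
  obtain ⟨x, rfl⟩ : ∃ x : ρ.invariants, (1 : W ⧸ Ideal.span {(p : W)}) ⊗ₜ[W] x = z :=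
    TensorProduct.mk_surjective W ρ.invariants _ Ideal.Quotient.mk_surjective z
  rw [LinearMap.lTensor_tmul] at hz
  have h1 := congrArg (TensorProduct.quotTensorEquivQuotSMul M (Ideal.span {(p : W)})) hz
  rw [map_zero, ← map_one (Ideal.Quotient.mk _), TensorProduct.quotTensorEquivQuotSMul_mk_tmul,
    one_smul, Submodule.Quotient.mk_eq_zero, Submodule.ideal_span_singleton_smul,
    Submodule.mem_smul_pointwise_iff_exists] at h1
  obtain ⟨y, -, hy⟩ := h1
  have hyi : y ∈ ρ.invariants := fun g => by
    have hx := x.2 g
    rw [Submodule.coe_subtype] at hy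
    rw [← hy, map_smul] at hx
    exact smul_right_injective M hp0 hx
  have hx : x = (p : W) • (⟨y, hyi⟩ : ρ.invariants) := Subtype.ext hy.symm
  rw [hx, TensorProduct.tmul_smul, TensorProduct.smul_tmul', Algebra.smul_def, mul_one,
    Ideal.Quotient.algebraMap_eq, Ideal.Quotient.eq_zero_iff_mem.2 (Ideal.mem_span_singleton_self _),
    TensorProduct.zero_tmul]

end Groth.Agent.S16358
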