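import Groth.Statements.S16360
import Mathlib
import Groth.Agent.PerfDVR.Closure

set_option autoImplicit false
universe u
open Hensel

namespace Groth.Agent.S16360

/-- Let R be a discrete valuation ring that is Henselian and excellent, write k for its residue field
and p for the characteristic exponent of k. There is a Henselian discrete valuation ring R' and an
injective ring map R → R' such that the maximal ideal of R generates that of R' (so a uniformizer of
R is a uniformizer of R'), R' is the directed union of R-subalgebras that are finite free R-modules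
of rank a power of p, and the residue field k' of R' is a perfect closure of k: every element of k'
is a p-th power in k', and some p-power-th power of it lies in the image of k. (The published
statement also asserts that R' is excellent; that is not asserted here.) -/
theorem result (R : Type u) [CommRing R] [IsDomain R]
    [IsDiscreteValuationRing R] [HenselianLocalRing R] (hR : EGA4.IsExcellent R) :
    ∃ (R' : Type u) (_ : CommRing R') (_ : IsDomain R') (_ : IsDiscreteValuationRing R')
      (_ : HenselianLocalRing R') (_ : Algebra R R'),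
      Function.Injective (algebraMap R R') ∧
      Ideal.map (algebraMap R R') (IsLocalRing.maximalIdeal R) = IsLocalRing.maximalIdeal R' ∧
      (∀ s : Finset R', ∃ S : Subalgebra R R', (↑s : Set R') ⊆ ↑S ∧ Module.Finite R S ∧ Module.Free R S ∧
        ∃ m : ℕ, Module.finrank R S = ringExpChar (IsLocalRing.ResidueField R) ^ m) ∧
      (∀ y : R', ∃ z : R', z ^ ringExpChar (IsLocalRing.ResidueField R) - y ∈ IsLocalRing.maximalIdeal R') ∧
      (∀ y : R', ∃ (m : ℕ) (z : R),
        algebraMap R R' z - y ^ (ringExpChar (IsLocalRing.ResidueField R) ^ m) ∈ IsLocalRing.maximalIdeal R') := by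
  classical
  rcases (CharP.char_is_prime_or_zero (IsLocalRing.ResidueField R)
    (ringChar (IsLocalRing.ResidueField R))).imp
      (fun h => (show ringExpChar (IsLocalRing.ResidueField R) = ringChar (IsLocalRing.ResidueField R)
        from max_eq_left h.one_lt.le))
      (fun h => (show ringExpChar (IsLocalRing.ResidueField R) = 1 by rw [ringExpChar, h]; rfl))
    with heq | hone
  · -- positive residue characteristic
    rcases CharP.char_is_prime_or_zero (IsLocalRing.ResidueField R)
        (ringChar (IsLocalRing.ResidueField R)) with hp | hp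
    swap
    · exfalso
      rw [ringExpChar, hp] at heq
      exact one_ne_zero heq
    haveI : Fact (ringExpChar (IsLocalRing.ResidueField R)).Prime := ⟨heq ▸ hp⟩
    haveI : CharP (IsLocalRing.ResidueField R) (ringExpChar (IsLocalRing.ResidueField R)) :=
      heq ▸ inferInstance
    set p := ringExpChar (IsLocalRing.ResidueField R) with hpdef
    obtain ⟨ϖ, hϖ⟩ := IsDiscreteValuationRing.exists_irreducible R
    have hm : IsLocalRing.maximalIdeal R = Ideal.span {ϖ} := hϖ.maximalIdeal_eq
    have hdiv : ∀ a : R, ¬ IsUnit a → ϖ ∣ a := fun a ha =>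
      Ideal.mem_span_singleton.1 (hm ▸ (IsLocalRing.mem_maximalIdeal _).2 ha)
    have hpR : ϖ ∣ (p : R) := by
      refine Ideal.mem_span_singleton.1 (hm ▸ ?_)
      rw [← IsLocalRing.residue_eq_zero_iff, map_natCast, CharP.cast_eq_zero]
    let L := AlgebraicClosure (FractionRing R)
    haveI : FaithfulSMul R L := (faithfulSMul_iff_algebraMap_injective R L).2 (by
      rw [IsScalarTower.algebraMap_eq R (FractionRing R) L]
      exact (algebraMap (FractionRing R) L).injective.comp (IsFractionRing.injective R _))
    obtain ⟨S, hS⟩ := Groth.PerfDVR.exists_maximal_good (q := p) L hdiv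
    haveI hint := hS.1.isIntegral
    haveI := hS.1.isLocalRing
    have hmax : IsLocalRing.maximalIdeal S = Ideal.span {algebraMap R S ϖ} := le_antisymm
      (fun c hc => Ideal.mem_span_singleton.2 (hS.1.dvd c hc))
      ((Ideal.span_singleton_le_iff_mem _).2 (hS.1.not_isUnit hϖ))
    haveI : IsDiscreteValuationRing S := by
      refine IsDiscreteValuationRing.ofHasUnitMulPowIrreducibleFactorization
        ⟨algebraMap R S ϖ, ⟨hS.1.not_isUnit hϖ, fun a b hab => ?_⟩, fun {c} hc => ?_⟩
      · by_contra hcon
        push Not at hcon
        obtain ⟨a', rfl⟩ := hS.1.dvd a hcon.1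
        obtain ⟨b', rfl⟩ := hS.1.dvd b hcon.2
        have h1 : algebraMap R S ϖ * (1 - algebraMap R S ϖ * (a' * b')) = 0 := by
          linear_combination hab
        refine hS.1.not_isUnit hϖ (IsUnit.of_mul_eq_one (a' * b') ?_)
        exact (sub_eq_zero.1 ((mul_eq_zero.1 h1).resolve_left fun h0 =>
          hϖ.ne_zero (FaithfulSMul.algebraMap_injective R S (h0.trans (map_zero _).symm)))).symm
      · obtain ⟨n, v, hv⟩ := hS.1.eq_pow_mul hϖ hc
        exact ⟨n, ⟨v, hv.symm⟩⟩
    haveI : HenselianLocalRing S := Groth.EtaleAlgebra.henselianLocalRing_of_isIntegral R S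
    refine ⟨S, inferInstance, inferInstance, inferInstance, inferInstance, inferInstance,
      FaithfulSMul.algebraMap_injective R S, ?_, fun s => ?_, fun y => ?_, fun y => ?_⟩
    · rw [hm, Ideal.map_span, Set.image_singleton, hmax]
    · obtain ⟨T, hTS, hsT, hfin, hfree, m, hrank⟩ := hS.1.finite (s.image Subtype.val) (by
        intro a ha
        obtain ⟨b, -, rfl⟩ := Finset.mem_image.1 ha
        exact b.2)
      let e : T ≃ₗ[R] T.comap S.val :=
        { toFun := fun t => ⟨⟨t.1, hTS t.2⟩, t.2⟩
          invFun := fun t => ⟨t.1.1, t.2⟩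
          map_add' := fun _ _ => rfl
          map_smul' := fun _ _ => rfl
          left_inv := fun _ => rfl
          right_inv := fun _ => rfl }
      exact ⟨T.comap S.val, fun b hb => hsT (Finset.mem_image.2 ⟨b, hb, rfl⟩),
        Module.Finite.equiv e, Module.Free.of_equiv e, m, by rw [← e.finrank_eq, hrank]⟩
    · obtain ⟨z, hz⟩ := Groth.PerfDVR.exists_pow_of_maximal hϖ hpR hS y
      exact ⟨z, hmax ▸ Ideal.mem_span_singleton.2 hz⟩
    · obtain ⟨m, z, hz⟩ := hS.1.radicial y
      exact ⟨m, z, hmax ▸ Ideal.mem_span_singleton.2 hz⟩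
  · -- residue characteristic zero
    refine ⟨R, inferInstance, inferInstance, inferInstance, inferInstance, Algebra.id R,
      fun a b h => h, Ideal.map_id _, fun s => ⟨⊤, fun a _ => Algebra.mem_top, ?_, ?_, 0, ?_⟩,
      fun y => ⟨y, by rw [hone, pow_one, sub_self]; exact Ideal.zero_mem _⟩,
      fun y => ⟨0, y, by simp⟩⟩
    · exact Module.Finite.equiv (Subalgebra.topEquiv : (⊤ : Subalgebra R R) ≃ₐ[R] R).toLinearEquiv.symm
    · exact Module.Free.of_equiv (Subalgebra.topEquiv : (⊤ : Subalgebra R R) ≃ₐ[R] R).toLinearEquiv.symm
    · rw [(Subalgebra.topEquiv : (⊤ : Subalgebra R R) ≃ₐ[R] R).toLinearEquiv.finrank_eq,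
        Module.finrank_self, pow_zero]

end Groth.Agent.S16360
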