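import Groth.Statements.S16361
import Groth.Agent.CategoryFibred.Comp
import Groth.Agent.StkBase.Basic

set_option autoImplicit false
universe v u
open CategoryTheory CategoryTheory.Limits
open FibCat

namespace Groth.Agent.S16361
set_option backward.isDefEq.respectTransparency false
set_option backward.isDefEq.respectTransparency.types false


/-- Let S be a category, π_X : X ⥤ S and π_Y : Y ⥤ S be fibred in groupoids, and F : Y ⥤ X a functor
with F ⋙ π_X = π_Y. Consider the category of triples (y, x, φ) with φ : F y ≅ x an arbitrary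
isomorphism of X and morphisms the compatible pairs of morphisms (the categorical pullback of F and
the identity of X; the isomorphism φ is not required to lie over an identity of S). Its projection
to X is fibred in groupoids over X, and the composite of that projection with π_X is fibred in
groupoids over S. (The published statement also asserts that y ↦ (y, F y, id) and (y, x, φ) ↦ y form
an equivalence over S; that is not asserted here.) -/
theorem result {S : Type u} [Category.{v} S] {X : Type u} [Category.{v} X]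
    {Y : Type u} [Category.{v} Y] (πX : X ⥤ S) (πY : Y ⥤ S) (hX : FibCat.IsFibGrpd πX) (hY : FibCat.IsFibGrpd πY)
    (F : Y ⥤ X) (hF : F ⋙ πX = πY) :
    FibCat.IsFibGrpd (CategoricalPullback.π₂ F (𝟭 X)) ∧
      FibCat.IsFibGrpd (CategoricalPullback.π₂ F (𝟭 X) ⋙ πX) := by
  let 𝒳 : BasedCategory.{v, u} S := BasedCategory.ofFunctor πX
  let 𝒴 : BasedCategory.{v, u} S := BasedCategory.ofFunctor πY
  let G : 𝒴 ⥤ᵇ 𝒳 := ⟨F, hF⟩
  have key : FibCat.IsFibGrpd (CategoricalPullback.π₂ F (𝟭 X)) := by
    refine ⟨fun {x x'} g => ?_, fun {x' x} φ => ?_⟩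
    · let k : x' ⟶ G.toFunctor.obj x.fst := g ≫ x.iso.inv
      let f : πX.obj x' ⟶ πY.obj x.fst := πX.map k ≫ eqToHom (G.w_obj x.fst)
      have hk : 𝒳.p.IsHomLift f k :=
        inferInstanceAs (𝒳.p.IsHomLift (𝒳.p.map k ≫ eqToHom (G.w_obj x.fst)) k)
      obtain ⟨y', b, hb⟩ := hY.exists_lift (x := x.fst) f
      have : 𝒴.p.IsHomLift f b := hb
      have := Groth.CatFib.stronglyCartesian_of_isHomLift (p := 𝒳.p) hX f k
      have : 𝒳.p.IsHomLift f (G.toFunctor.map b) := BasedFunctor.preserves_isHomLift G f b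
      have := Groth.CatFib.stronglyCartesian_of_isHomLift (p := 𝒳.p) hX f (G.toFunctor.map b)
      let i := Functor.IsCartesian.domainUniqueUpToIso 𝒳.p f k (G.toFunctor.map b)
      let y : CategoricalPullback F (𝟭 X) := ⟨y', x', i⟩
      have hi : i.hom ≫ g ≫ x.iso.inv = F.map b :=
        Functor.IsCartesian.fac 𝒳.p f k (G.toFunctor.map b)
      let m : y ⟶ x := ⟨b, g, by
        change F.map b ≫ x.iso.hom = i.hom ≫ g
        rw [← hi, Category.assoc, Category.assoc]
        erw [x.iso.inv_hom_id, Category.comp_id]⟩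
      exact ⟨y, m, IsHomLift.map (CategoricalPullback.π₂ F (𝟭 X)) m⟩
    · refine { universal_property' := fun {z} g ψ hψ => ?_ }
      have he : g ≫ φ.snd = ψ.snd := IsHomLift.eq_of_isHomLift (CategoricalPullback.π₂ F (𝟭 X)) (g ≫ (CategoricalPullback.π₂ F (𝟭 X)).map φ) ψ
      let k : G.toFunctor.obj z.fst ⟶ G.toFunctor.obj x'.fst := z.iso.hom ≫ g ≫ x'.iso.inv
      let g0 : πY.obj z.fst ⟶ πY.obj x'.fst :=
        eqToHom (G.w_obj z.fst).symm ≫ πX.map k ≫ eqToHom (G.w_obj x'.fst)
      have hkF : k ≫ G.toFunctor.map φ.fst = G.toFunctor.map ψ.fst := by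
        have w1 : F.map φ.fst ≫ x.iso.hom = x'.iso.hom ≫ φ.snd := φ.w
        have w2 : F.map ψ.fst ≫ x.iso.hom = z.iso.hom ≫ ψ.snd := ψ.w
        rw [← he] at w2
        change (z.iso.hom ≫ g ≫ x'.iso.inv) ≫ F.map φ.fst = F.map ψ.fst
        rw [← cancel_mono x.iso.hom, w2]
        simp only [Category.assoc]
        erw [w1, x'.iso.inv_hom_id_assoc]
      have hg : g0 ≫ πY.map φ.fst = πY.map ψ.fst := by
        have h1 : πX.map (G.toFunctor.map φ.fst) = _ := Groth.StkBase.map_map G φ.fst
        have h2 : πX.map (G.toFunctor.map ψ.fst) = _ := Groth.StkBase.map_map G ψ.fst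
        rw [← hkF, Functor.map_comp] at h2
        rw [h1] at h2
        have := congrArg (fun t => eqToHom (G.w_obj z.fst).symm ≫ t ≫ eqToHom (G.w_obj x.fst)) h2
        simp at this
        simp [g0]
        exact this
      obtain ⟨c, ⟨hc, ec⟩, hu⟩ := Groth.StkBase.factor_unique hY φ.fst ψ.fst g0 hg
      have eF : G.toFunctor.map c = k := by
        apply Groth.StkBase.hom_eq_of_comp_eq hX (G.toFunctor.map φ.fst)
        · have h3 : πX.map (G.toFunctor.map c) = _ := Groth.StkBase.map_map G c
          rw [h3]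
          change eqToHom _ ≫ πY.map c ≫ eqToHom _ = _
          rw [hc]
          simp [g0]
        · rw [← G.toFunctor.map_comp, ec]
          exact hkF.symm
      let χ : z ⟶ x' := ⟨c, g, by
        change F.map c ≫ x'.iso.hom = z.iso.hom ≫ g
        rw [show F.map c = z.iso.hom ≫ g ≫ x'.iso.inv from eF]
        simp only [Category.assoc]
        erw [x'.iso.inv_hom_id, Category.comp_id]⟩
      refine ⟨χ, ⟨IsHomLift.map (CategoricalPullback.π₂ F (𝟭 X)) χ, CategoricalPullback.hom_ext ec he⟩, ?_⟩
      rintro τ ⟨hτ, hτ'⟩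
      have e2 : g = τ.snd := IsHomLift.eq_of_isHomLift (CategoricalPullback.π₂ F (𝟭 X)) g τ
      refine CategoricalPullback.hom_ext (hu τ.fst ⟨?_, congrArg (fun t => t.fst) hτ'⟩) e2.symm
      have w : F.map τ.fst ≫ x'.iso.hom = z.iso.hom ≫ τ.snd := τ.w
      have ek : G.toFunctor.map τ.fst = k := by
        change F.map τ.fst = z.iso.hom ≫ g ≫ x'.iso.inv
        rw [e2]
        erw [← reassoc_of% w, x'.iso.hom_inv_id, Category.comp_id]
      have h4 : πX.map (G.toFunctor.map τ.fst) = _ := Groth.StkBase.map_map G τ.fst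
      simp [g0, ← ek, h4]
      rfl
  exact ⟨key, Groth.CatFib.isFibGrpd_comp key hX⟩

end Groth.Agent.S16361
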