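import Groth.Statements.S16362
import Mathlib.RingTheory.Localization.FractionRing
import Mathlib.RingTheory.IntegralClosure.IsIntegral.Basic
import Mathlib.Algebra.Polynomial.Degree.Lemmas
import Mathlib.Tactic

set_option autoImplicit false
universe u
open MovLem

namespace Groth.Agent.S16362

/-- Let A be a commutative ring, p a prime ideal of A, and ζ, u elements of A with u not in p. Then the
quotient of the classes of ζ and u in the fraction field of the domain A ⧸ p is integral over A ⧸ p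
if and only if there exist a natural number N and elements a_1, …, a_N of A such that ζ^N + a_1
ζ^(N-1) u + ⋯ + a_N u^N lies in p; equivalently, some binary form of degree N with coefficients in
A, monic in the first variable, evaluated at (ζ, u), lies in p. -/
theorem result
    {A : Type u} [CommRing A] (p : Ideal A) [p.IsPrime] (ζ u : A) (hu : u ∉ p) :
    IsIntegral (A ⧸ p)
        (algebraMap (A ⧸ p) (FractionRing (A ⧸ p)) (Ideal.Quotient.mk p ζ) /
          algebraMap (A ⧸ p) (FractionRing (A ⧸ p)) (Ideal.Quotient.mk p u)) ↔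
      ∃ (N : ℕ) (a : ℕ → A),
        ζ ^ N + ∑ i ∈ Finset.Icc 1 N, a i * ζ ^ (N - i) * u ^ i ∈ p := by
  classical
  set R := A ⧸ p
  set φ : A →+* R := Ideal.Quotient.mk p
  set ψ : R →+* FractionRing R := algebraMap R (FractionRing R)
  have hu0 : ψ (φ u) ≠ 0 := by
    rw [map_ne_zero_iff _ (IsFractionRing.injective R (FractionRing R))]
    exact mt Ideal.Quotient.eq_zero_iff_mem.mp hu
  have hcalc : ∀ (N : ℕ) (a : ℕ → A),
      (ψ (φ ζ) / ψ (φ u)) ^ N + ∑ i ∈ Finset.Icc 1 N, ψ (φ (a i)) * (ψ (φ ζ) / ψ (φ u)) ^ (N - i) = 0 ↔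
      ζ ^ N + ∑ i ∈ Finset.Icc 1 N, a i * ζ ^ (N - i) * u ^ i ∈ p := by
    intro N a
    rw [← Ideal.Quotient.eq_zero_iff_mem, ← map_eq_zero_iff ψ (IsFractionRing.injective R (FractionRing R))]
    have key : (ψ (φ ζ) / ψ (φ u)) ^ N + ∑ i ∈ Finset.Icc 1 N, ψ (φ (a i)) * (ψ (φ ζ) / ψ (φ u)) ^ (N - i) =
        ψ (φ (ζ ^ N + ∑ i ∈ Finset.Icc 1 N, a i * ζ ^ (N - i) * u ^ i)) / ψ (φ u) ^ N := by
      simp only [map_add, map_sum, map_mul, map_pow, add_div, Finset.sum_div, div_pow]
      congr 1
      refine Finset.sum_congr rfl fun i hi => ?_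
      rw [Finset.mem_Icc] at hi
      have e : ψ (φ u) ^ N = ψ (φ u) ^ (N - i) * ψ (φ u) ^ i := by rw [← pow_add, Nat.sub_add_cancel hi.2]
      rw [e, mul_div_mul_right _ _ (pow_ne_zero i hu0), mul_div_assoc]
    rw [key, div_eq_zero_iff]
    simp [hu0]
    exact Iff.rfl
  constructor
  · rintro ⟨P, hP, hev⟩
    choose g hg using fun x : R => Ideal.Quotient.mk_surjective (I := p) x
    refine ⟨P.natDegree, fun i => g (P.coeff (P.natDegree - i)), (hcalc _ _).mp ?_⟩
    rw [Polynomial.eval₂_eq_sum_range, Finset.sum_range_succ, hP.coeff_natDegree, map_one, one_mul, add_comm] at hev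
    refine Eq.trans ?_ hev
    congr 1
    refine Finset.sum_nbij' (fun i => P.natDegree - i) (fun i => P.natDegree - i) ?_ ?_ ?_ ?_ ?_
    all_goals intro i hi
    all_goals simp only [Finset.coe_Icc, Finset.coe_range, Set.mem_Icc, Set.mem_Iio, Finset.mem_Icc, Finset.mem_range] at hi ⊢
    any_goals omega
    simp only [φ, hg]
    rfl
  · rintro ⟨N, a, h⟩
    refine ⟨Polynomial.X ^ N + ∑ i ∈ Finset.Icc 1 N, Polynomial.C (φ (a i)) * Polynomial.X ^ (N - i), ?_, ?_⟩
    · refine Polynomial.monic_X_pow_add ?_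
      refine (Polynomial.degree_sum_le _ _).trans_lt ((Finset.sup_lt_iff (by exact WithBot.bot_lt_coe N)).mpr fun i hi => ?_)
      refine (Polynomial.degree_C_mul_X_pow_le _ _).trans_lt ?_
      rw [Finset.mem_Icc] at hi
      exact_mod_cast (show N - i < N by omega)
    · simp only [Polynomial.eval₂_add, Polynomial.eval₂_finsetSum, Polynomial.eval₂_mul, Polynomial.eval₂_C,
        Polynomial.eval₂_X_pow]
      exact (hcalc N a).mpr h

end Groth.Agent.S16362
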