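import Groth.Statements.S16363
import Groth.Agent.Misc8.AlgPointsOpen
import Mathlib.Algebra.Category.Ring.Constructions
import Mathlib.AlgebraicGeometry.Morphisms.OpenImmersion

set_option autoImplicit false
set_option linter.style.haveILetI false
universe u
open CategoryTheory Limits
open MovLem

namespace Groth.Agent.S16363

open AlgebraicGeometry Algebra TensorProduct CategoryTheory Limits in
/-- Every nonempty open contains a nonempty open of good points. -/
theorem exists_good
    {k K : Type u} [Field k] [Field K] [Algebra k K]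
    (X : Scheme.{u}) (f : X ⟶ Spec (CommRingCat.of k)) [LocallyOfFiniteType f]
    (U' : (pullback f (Spec.map (CommRingCat.ofHom (algebraMap k K)))).Opens)
    (hU' : Dense (U' : Set ↥(pullback f (Spec.map (CommRingCat.ofHom (algebraMap k K))))))
    (O : X.Opens) (hO : (O : Set X).Nonempty) :
    ∃ V : X.Opens, V ≤ O ∧ (V : Set X).Nonempty ∧
      ∀ (kb Ω : Type u) [Field kb] [Algebra k kb] [IsAlgClosure k kb]
        [Field Ω] [Algebra k Ω] [Algebra kb Ω] [Algebra K Ω] [IsScalarTower k kb Ω] [IsScalarTower k K Ω]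
        (x : Spec (CommRingCat.of kb) ⟶ X),
        x ≫ f = Spec.map (CommRingCat.ofHom (algebraMap k kb)) →
        (∀ t : ↥(Spec (CommRingCat.of kb)), x.base t ∈ V) →
        ∀ (y : Spec (CommRingCat.of Ω) ⟶ pullback f (Spec.map (CommRingCat.ofHom (algebraMap k K)))),
          y ≫ pullback.fst f (Spec.map (CommRingCat.ofHom (algebraMap k K))) =
              Spec.map (CommRingCat.ofHom (algebraMap kb Ω)) ≫ x →
          y ≫ pullback.snd f (Spec.map (CommRingCat.ofHom (algebraMap k K))) =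
              Spec.map (CommRingCat.ofHom (algebraMap K Ω)) →
          ∀ t : ↥(Spec (CommRingCat.of Ω)), y.base t ∈ U' := by
  classical
  obtain ⟨x₀, hx₀⟩ := hO
  obtain ⟨W, hW, hxW, hWO⟩ := exists_isAffineOpen_mem_and_subset hx₀
  let R : CommRingCat.of k ⟶ Γ(X, W) := Spec.preimage (hW.fromSpec ≫ f)
  letI : Algebra k Γ(X, W) := R.hom.toAlgebra
  have hR : hW.fromSpec ≫ f = Spec.map (CommRingCat.ofHom (algebraMap k Γ(X, W))) :=
    (Spec.map_preimage _).symm
  haveI : Algebra.FiniteType k Γ(X, W) := by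
    have : LocallyOfFiniteType (hW.fromSpec ≫ f) := inferInstance
    rw [hR] at this
    exact (HasRingHomProperty.Spec_iff (P := @LocallyOfFiniteType)).mp this
  haveI : Nonempty (Spec Γ(X, W)) := by
    obtain ⟨w, -⟩ : x₀ ∈ Set.range hW.fromSpec.base := by rw [hW.range_fromSpec]; exact hxW
    exact ⟨w⟩
  haveI : IsNoetherianRing Γ(X, W) := Algebra.FiniteType.isNoetherianRing k _
  let J : Spec (CommRingCat.of (K ⊗[k] Γ(X, W))) ⟶ pullback f (Spec.map (CommRingCat.ofHom (algebraMap k K))) :=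
    pullback.lift (Spec.map (CommRingCat.ofHom (Algebra.TensorProduct.includeRight : Γ(X, W) →ₐ[k] K ⊗[k] Γ(X, W)).toRingHom) ≫ hW.fromSpec)
      (Spec.map (CommRingCat.ofHom Algebra.TensorProduct.includeLeftRingHom))
      (by rw [Category.assoc, hR, ← Spec.map_comp, ← Spec.map_comp]; congr 1; ext c
          exact (Algebra.TensorProduct.tmul_one_eq_one_tmul c).symm)
  haveI : IsOpenImmersion J := by
    refine MorphismProperty.of_isPullback (P := @IsOpenImmersion) (f := pullback.fst f _) (g := hW.fromSpec)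
      (f' := Spec.map (CommRingCat.ofHom (Algebra.TensorProduct.includeRight : Γ(X, W) →ₐ[k] K ⊗[k] Γ(X, W)).toRingHom))
      (g' := J) (IsPullback.flip ?_) inferInstance
    refine IsPullback.of_right ?_ (pullback.lift_fst _ _ _) (IsPullback.of_hasPullback f _).flip
    rw [show J ≫ pullback.snd f _ = _ from pullback.lift_snd _ _ _, hR]
    exact isPullback_SpecMap_of_isPushout _ _ _ _ (CommRingCat.isPushout_tensorProduct k K Γ(X, W))
  obtain ⟨Z, hZ⟩ := (PrimeSpectrum.isClosed_iff_zeroLocus_ideal _).mp (J ⁻¹ᵁ U').2.isClosed_compl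
  have hdense : Dense (J.base ⁻¹' (U' : Set _)) := hU'.preimage J.isOpenEmbedding.isOpenMap
  haveI : IsNoetherianRing (K ⊗[k] Γ(X, W)) := Algebra.FiniteType.isNoetherianRing K _
  have hI : ∀ q ∈ minimalPrimes (K ⊗[k] Γ(X, W)), ¬ Z ≤ q := fun q hq hle => by
    haveI := hq.1.1
    let others := ((minimalPrimes.finite_of_isNoetherianRing (K ⊗[k] Γ(X, W))).toFinset.erase q)
    have hnot : ¬ (⨅ q' ∈ others, q') ≤ q := by
      intro h
      obtain ⟨q', hq', hle'⟩ := (Ideal.IsPrime.inf_le' ‹q.IsPrime›).mp (by rwa [Finset.inf_eq_iInf] : others.inf id ≤ q)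
      have hm := Finset.mem_erase.mp hq'
      exact hm.1 (le_antisymm hle' (hq.2 ((Set.Finite.mem_toFinset _).mp hm.2).1 hle'))
    obtain ⟨a, ha, haq⟩ := SetLike.not_le_iff_exists.mp hnot
    obtain ⟨r, hra, hrU⟩ := hdense.inter_open_nonempty _ (PrimeSpectrum.basicOpen a).2
      ⟨(⟨q, inferInstance⟩ : PrimeSpectrum _), haq⟩
    obtain ⟨q', hq', hq'r⟩ := Ideal.exists_minimalPrimes_le (I := (⊥ : Ideal (K ⊗[k] Γ(X, W)))) (J := r.asIdeal) bot_le
    have : q' = q := by
      by_contra hne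
      refine hra (hq'r ?_)
      simp only [Submodule.mem_iInf] at ha
      exact ha q' (Finset.mem_erase.mpr ⟨hne, (Set.Finite.mem_toFinset _).mpr hq'⟩)
    subst this
    have hmem : r ∈ PrimeSpectrum.zeroLocus (Z : Set (K ⊗[k] Γ(X, W))) := le_trans hle hq'r
    rw [← hZ] at hmem
    exact hmem hrU
  haveI : Nontrivial Γ(X, W) := by
    obtain ⟨w⟩ := ‹Nonempty (Spec Γ(X, W))›
    exact PrimeSpectrum.nonempty_iff_nontrivial.mp ⟨w⟩
  obtain ⟨m, hm⟩ := Ideal.exists_maximal Γ(X, W)
  obtain ⟨P, hP, -⟩ := Ideal.exists_minimalPrimes_le (I := (⊥ : Ideal Γ(X, W))) (J := m) bot_le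
  haveI := hP.1.1
  obtain ⟨h, hhP, hgood⟩ := Groth.Misc8.AlgPointsOpen.exists_notMem Z P hP hI
  let others := ((minimalPrimes.finite_of_isNoetherianRing Γ(X, W)).toFinset.erase P)
  have hnot : ¬ (⨅ q' ∈ others, q') ≤ P := by
    intro h'
    obtain ⟨q', hq', hle'⟩ := (Ideal.IsPrime.inf_le' ‹P.IsPrime›).mp (by rwa [Finset.inf_eq_iInf] : others.inf id ≤ P)
    have hm := Finset.mem_erase.mp hq'
    exact hm.1 (le_antisymm hle' (hP.2 ((Set.Finite.mem_toFinset _).mp hm.2).1 hle'))
  obtain ⟨c, hc, hcP⟩ := SetLike.not_le_iff_exists.mp hnot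
  let D : (Spec Γ(X, W)).Opens := PrimeSpectrum.basicOpen (c * h)
  refine ⟨hW.fromSpec ''ᵁ D, ?_, ⟨_, ⟨P, hP.1.1⟩, (‹P.IsPrime›.mul_notMem hcP hhP : c * h ∉ P), rfl⟩, ?_⟩
  · rintro _ ⟨z, -, rfl⟩
    exact hWO (hW.range_fromSpec.le ⟨z, rfl⟩)
  intro kb Ω _ _ _ _ _ _ _ _ _ x hx hxV y hy₁ hy₂ t
  have hrange : Set.range x.base ⊆ Set.range hW.fromSpec.base := by
    rintro _ ⟨s, rfl⟩
    obtain ⟨z, -, hz⟩ := hxV s
    exact ⟨z, hz⟩
  let x' := IsOpenImmersion.lift hW.fromSpec x hrange
  have hx' : x' ≫ hW.fromSpec = x := IsOpenImmersion.lift_fac _ _ _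
  let a₀ : Γ(X, W) ⟶ CommRingCat.of kb := Spec.preimage x'
  have ha₀ : Spec.map a₀ = x' := Spec.map_preimage _
  have hcomm : CommRingCat.ofHom (algebraMap k Γ(X, W)) ≫ a₀ = CommRingCat.ofHom (algebraMap k kb) := by
    apply Spec.map_injective
    rw [Spec.map_comp, ha₀, ← hR, ← Category.assoc, hx', hx]
  let a : Γ(X, W) →ₐ[k] kb := { a₀.hom with commutes' := fun r => RingHom.congr_fun (congrArg CommRingCat.Hom.hom hcomm) r }
  have hD : (RingHom.ker a.toRingHom) ∈ {I : Ideal Γ(X, W) | c * h ∉ I} := by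
    obtain ⟨z, hz, hzx⟩ := hxV (IsLocalRing.closedPoint kb)
    have : z = x'.base (IsLocalRing.closedPoint kb) := hW.fromSpec.isOpenEmbedding.injective (by
      rw [← Scheme.Hom.comp_apply, hx']; exact hzx)
    subst this
    rw [← ha₀] at hz
    show a (c * h) ≠ 0
    exact fun h0 => hz (by
      show a₀.hom (c * h) ∈ IsLocalRing.maximalIdeal kb
      rw [show a₀.hom (c * h) = 0 from h0]; exact zero_mem _)
  have hah : a h ≠ 0 := fun h0 => hD (show a (c * h) = 0 by rw [map_mul, h0, mul_zero])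
  have haP : ∀ b ∈ P, a b = 0 := fun b hb => by
    haveI : (RingHom.ker a.toRingHom).IsPrime := RingHom.ker_isPrime _
    obtain ⟨q', hq', hq'le⟩ := Ideal.exists_minimalPrimes_le (I := (⊥ : Ideal Γ(X, W))) (J := RingHom.ker a.toRingHom) bot_le
    have : q' = P := by
      by_contra hne
      simp only [Submodule.mem_iInf] at hc
      exact hD (Ideal.mul_mem_right _ _ (hq'le (hc q' (Finset.mem_erase.mpr ⟨hne, (Set.Finite.mem_toFinset _).mpr hq'⟩))))
    subst this
    exact hq'le hb
  haveI : Algebra.IsAlgebraic k kb := IsAlgClosure.isAlgebraic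
  obtain ⟨z, hzZ, hz⟩ := hgood kb Ω (IsScalarTower.toAlgHom k kb Ω) (IsScalarTower.toAlgHom k K Ω) a haP hah
  let μ : K ⊗[k] Γ(X, W) →ₐ[k] Ω :=
    Algebra.TensorProduct.lift (IsScalarTower.toAlgHom k K Ω) ((IsScalarTower.toAlgHom k kb Ω).comp a) fun _ _ => .all _ _
  have hy : y = Spec.map (CommRingCat.ofHom μ.toRingHom) ≫ J := by
    apply pullback.hom_ext
    · rw [hy₁, Category.assoc, show J ≫ pullback.fst f _ = _ from pullback.lift_fst _ _ _, ← Category.assoc,
        ← Spec.map_comp, ← hx', ← ha₀, ← Category.assoc, ← Spec.map_comp]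
      congr 2
      ext b
      show algebraMap kb Ω (a b) = μ ((1 : K) ⊗ₜ[k] b)
      simp [μ]
    · rw [hy₂, Category.assoc, show J ≫ pullback.snd f _ = _ from pullback.lift_snd _ _ _, ← Spec.map_comp]
      congr 1
      ext b
      show algebraMap K Ω b = μ (b ⊗ₜ[k] (1 : Γ(X, W)))
      simp [μ]
  rw [hy, Scheme.Hom.comp_apply]
  by_contra hnU
  have hmem : (Spec.map (CommRingCat.ofHom μ.toRingHom)).base t ∈ PrimeSpectrum.zeroLocus (Z : Set (K ⊗[k] Γ(X, W))) :=
    hZ ▸ hnU
  have h2 : μ z ∈ t.asIdeal := hmem hzZ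
  exact t.isPrime.ne_top (Ideal.eq_top_of_isUnit_mem _ h2 (isUnit_iff_ne_zero.mpr hz))

open AlgebraicGeometry in
/-- Let k be a field, X a k-scheme of finite type, K an extension field of k and U' ⊆ X_K = X ×_k Spec K
a dense open subset. There exists a dense open U ⊆ X with the following property: for every
algebraic closure k̄ of k, every field Ω that is simultaneously a k̄-algebra and a K-algebra
compatibly with k, and every k-morphism x : Spec k̄ → X whose image point lies in U, every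
K-morphism y : Spec Ω → X_K whose composite with the projection X_K → X is the composite Spec Ω →
Spec k̄ → X has image point in U'. (In words: the k̄-points of U, viewed as Ω-points of X_K, lie in
U'.) -/
theorem result
    {k K : Type u} [Field k] [Field K] [Algebra k K]
    (X : Scheme.{u}) (f : X ⟶ Spec (CommRingCat.of k)) [LocallyOfFiniteType f] [QuasiCompact f]
    (U' : (pullback f (Spec.map (CommRingCat.ofHom (algebraMap k K)))).Opens)
    (hU' : Dense (U' : Set ↥(pullback f (Spec.map (CommRingCat.ofHom (algebraMap k K)))))) :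
    ∃ U : X.Opens, Dense (U : Set ↥X) ∧
      ∀ (kb Ω : Type u) [Field kb] [Algebra k kb] [IsAlgClosure k kb]
        [Field Ω] [Algebra k Ω] [Algebra kb Ω] [Algebra K Ω] [IsScalarTower k kb Ω] [IsScalarTower k K Ω]
        (x : Spec (CommRingCat.of kb) ⟶ X),
        x ≫ f = Spec.map (CommRingCat.ofHom (algebraMap k kb)) →
        (∀ t : ↥(Spec (CommRingCat.of kb)), x.base t ∈ U) →
        ∀ (y : Spec (CommRingCat.of Ω) ⟶ pullback f (Spec.map (CommRingCat.ofHom (algebraMap k K)))),
          y ≫ pullback.fst f (Spec.map (CommRingCat.ofHom (algebraMap k K))) =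
              Spec.map (CommRingCat.ofHom (algebraMap kb Ω)) ≫ x →
          y ≫ pullback.snd f (Spec.map (CommRingCat.ofHom (algebraMap k K))) =
              Spec.map (CommRingCat.ofHom (algebraMap K Ω)) →
          ∀ t : ↥(Spec (CommRingCat.of Ω)), y.base t ∈ U' := by
  classical
  let G : Set X.Opens := {V | ∀ (kb Ω : Type u) [Field kb] [Algebra k kb] [IsAlgClosure k kb]
        [Field Ω] [Algebra k Ω] [Algebra kb Ω] [Algebra K Ω] [IsScalarTower k kb Ω] [IsScalarTower k K Ω]
        (x : Spec (CommRingCat.of kb) ⟶ X),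
        x ≫ f = Spec.map (CommRingCat.ofHom (algebraMap k kb)) →
        (∀ t : ↥(Spec (CommRingCat.of kb)), x.base t ∈ V) →
        ∀ (y : Spec (CommRingCat.of Ω) ⟶ pullback f (Spec.map (CommRingCat.ofHom (algebraMap k K)))),
          y ≫ pullback.fst f (Spec.map (CommRingCat.ofHom (algebraMap k K))) =
              Spec.map (CommRingCat.ofHom (algebraMap kb Ω)) ≫ x →
          y ≫ pullback.snd f (Spec.map (CommRingCat.ofHom (algebraMap k K))) =
              Spec.map (CommRingCat.ofHom (algebraMap K Ω)) →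
          ∀ t : ↥(Spec (CommRingCat.of Ω)), y.base t ∈ U'}
  refine ⟨sSup G, dense_iff_inter_open.mpr fun O hO hne => ?_, ?_⟩
  · obtain ⟨V, hVO, ⟨v, hv⟩, hV⟩ := exists_good X f U' hU' ⟨O, hO⟩ hne
    exact ⟨v, hVO hv, (le_sSup (s := G) hV) hv⟩
  · intro kb Ω _ _ _ _ _ _ _ _ _ x hx hxU y hy₁ hy₂ t
    obtain ⟨V, hV, hmem⟩ := TopologicalSpace.Opens.mem_sSup.mp (hxU (IsLocalRing.closedPoint kb))
    exact hV kb Ω x hx (fun s => by
      rw [Subsingleton.elim (α := PrimeSpectrum kb) s (IsLocalRing.closedPoint kb)]; exact hmem) y hy₁ hy₂ t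

end Groth.Agent.S16363
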