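import Groth.Statements.S16365
import Groth.Agent.MovLem.CoordMorphism

set_option autoImplicit false
universe u
open CategoryTheory Limits
open MovLem

namespace Groth.Agent.S16365

open CategoryTheory AlgebraicGeometry Groth.MovLem.GenCoord

open AlgebraicGeometry in
/-- Let k be an infinite field, X a scheme of finite type over k, U an open subscheme of X which is
smooth over k, and x a point of X. Assume that if x lies in U then x is not an isolated point of X.
Then there exist an open neighbourhood V of x in X and a k-morphism v from V to the multiplicative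
group Spec k[T, T⁻¹] whose restriction to V ∩ U is a smooth morphism. (The published statement has
no hypothesis on x; when x is an isolated point of X lying in U the conclusion fails, since a
zero-dimensional scheme admits no smooth morphism to a curve, and in every other case an isolated
point can be discarded, so that case is excluded here.) -/
theorem result
    {k : Type u} [Field k] [Infinite k]
    (X : Scheme.{u}) (f : X ⟶ Spec (CommRingCat.of k)) [LocallyOfFiniteType f] [QuasiCompact f]
    (U : X.Opens) [Smooth (U.ι ≫ f)] (x : ↥X) (hx : x ∈ U → ¬ IsOpen ({x} : Set ↥X)) :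
    ∃ (V : X.Opens) (v : (↑V : Scheme.{u}) ⟶ Spec (CommRingCat.of (LaurentPolynomial k))),
      x ∈ V ∧
      v ≫ Spec.map (CommRingCat.ofHom (algebraMap k (LaurentPolynomial k))) = V.ι ≫ f ∧
      Smooth (X.homOfLE (inf_le_left : V ⊓ U ≤ V) ≫ v) := by
  classical
  have : LocallyOfFinitePresentation f := inferInstance
  obtain ⟨V₀, hV, hxV, -⟩ := exists_isAffineOpen_mem_and_subset (x := x) (U := ⊤) trivial
  obtain ⟨_, hψ⟩ := exists_algebra_fromSpec f hV
  let A : Type u := Γ(X, V₀)
  have hfin := finiteType_of_fromSpec f hV hψ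
  have : Algebra.FinitePresentation k Γ(X, V₀) :=
    (Algebra.FinitePresentation.of_finiteType (R := k)).1 hfin
  have : IsNoetherianRing Γ(X, V₀) := Algebra.FiniteType.isNoetherianRing k Γ(X, V₀)
  obtain ⟨N, φ, hφ⟩ := Algebra.FiniteType.iff_quotient_mvPolynomial''.1 hfin
  let a : Fin N → Γ(X, V₀) := fun j => φ (MvPolynomial.X j)
  have ha : Algebra.adjoin k (Set.range a) = ⊤ := by
    rw [show Set.range a = φ '' Set.range MvPolynomial.X from (Set.range_comp φ MvPolynomial.X),
      ← AlgHom.map_adjoin, MvPolynomial.adjoin_range_X, Algebra.map_top, AlgHom.range_eq_top]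
    exact hφ
  have hsm : ∀ y ∈ U, y ∈ f.smoothLocus := fun y hy => by
    have h := Scheme.Hom.smoothLocus_eq_top (U.ι ≫ f)
    rw [← Scheme.Hom.preimage_smoothLocus_eq] at h
    exact (h.ge (Set.mem_univ (⟨y, hy⟩ : U)) :)
  let U' : Set (PrimeSpectrum Γ(X, V₀)) := hV.fromSpec ⁻¹' (U : Set X)
  let I := {h : Γ(X, V₀) // (PrimeSpectrum.basicOpen h : Set (PrimeSpectrum Γ(X, V₀))) ⊆ U'}
  obtain ⟨s, hs⟩ := (TopologicalSpace.NoetherianSpace.isCompact U').elim_finite_subcover
    (fun h : I => (PrimeSpectrum.basicOpen h.1 : Set (PrimeSpectrum Γ(X, V₀))))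
    (fun h => (PrimeSpectrum.basicOpen h.1).2) (by
      intro p hp
      obtain ⟨_, ⟨_, ⟨h, rfl⟩, rfl⟩, hph, hsub⟩ :=
        PrimeSpectrum.isBasis_basic_opens.exists_subset_of_mem_open hp (U.2.preimage hV.fromSpec.continuous)
      exact Set.mem_iUnion.2 ⟨⟨h, hsub⟩, hph⟩)
  let B : I → Type u := fun h => Localization.Away h.1
  have hBsm : ∀ h : I, Algebra.Smooth k (Localization.Away h.1) := fun h =>
    Algebra.basicOpen_subset_smoothLocus_iff_smooth.1 fun p hp =>
      isSmoothAt_of_mem_smoothLocus f hV hψ p (hsm _ (h.2 hp))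
  have hdet : ∀ h : I, ∀ (q : Ideal (Localization.Away h.1)) [q.IsPrime]
      (D : Derivation k (Localization.Away h.1) q.ResidueField),
      (∀ j, D (algebraMap Γ(X, V₀) (Localization.Away h.1) (a j)) = 0) → D = 0 := by
    intro h q _ D hD
    have h0 : D.compAlgebraMap Γ(X, V₀) = 0 := Derivation.ext_of_adjoin_eq_top _ ha (by
      rintro _ ⟨j, rfl⟩
      exact hD j)
    ext z
    obtain ⟨⟨b, t⟩, rfl⟩ := IsLocalization.mk'_surjective (Submonoid.powers h.1) z
    have hb : D (algebraMap Γ(X, V₀) _ b) = 0 := DFunLike.congr_fun h0 b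
    have ht : D (algebraMap Γ(X, V₀) (Localization.Away h.1) t) = 0 := DFunLike.congr_fun h0 t.1
    have e := congrArg D (IsLocalization.mk'_spec (Localization.Away h.1) b t)
    rw [D.leibniz, hb, ht, smul_zero, zero_add] at e
    exact (IsLocalization.map_units (Localization.Away h.1) t).smul_eq_zero.mp e
  choose H hH0 hH using fun h : I =>
    haveI := hBsm h
    exists_crit_finite (fun j => algebraMap Γ(X, V₀) (Localization.Away h.1) (a j)) (hdet h)
  let yx : V₀ := ⟨x, hxV⟩
  let px := hV.isoSpec.hom yx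
  have hP : ∃ P : MvPolynomial (Fin N) k, P ≠ 0 ∧ (x ∈ U → ∀ c : Fin N → k,
      MvPolynomial.eval c P ≠ 0 → ∃ D : Derivation k Γ(X, V₀) px.asIdeal.ResidueField,
        D (∑ j, c j • a j) ≠ 0) := by
    by_cases hxU : x ∈ U
    swap
    · exact ⟨1, one_ne_zero, fun h => absurd h hxU⟩
    obtain ⟨D, hD⟩ : ∃ D : Derivation k Γ(X, V₀) px.asIdeal.ResidueField, D ≠ 0 := by
      by_contra hall
      push Not at hall
      obtain ⟨-, b, hb, hiso⟩ := isolated_of_derivation_eq_zero px.asIdeal hall
      refine hx hxU ?_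
      have heq : ({x} : Set X) = (X.basicOpen b : Set X) := by
        refine Set.Subset.antisymm (Set.singleton_subset_iff.2 ((mem_basicOpen_iff hV b yx).2 hb)) ?_
        intro y hy
        have hyV : y ∈ V₀ := X.basicOpen_le b hy
        have h1 := hiso (hV.isoSpec.hom ⟨y, hyV⟩).asIdeal (hV.isoSpec.hom ⟨y, hyV⟩).isPrime
          ((mem_basicOpen_iff hV b ⟨y, hyV⟩).1 hy)
        have h2 : hV.isoSpec.hom ⟨y, hyV⟩ = px := PrimeSpectrum.ext h1
        have h3 := congrArg (fun q => hV.fromSpec q) h2
        simp only [px, fromSpec_isoSpec_hom] at h3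
        exact h3
      rw [heq]
      exact (X.basicOpen b).2
    obtain ⟨j, hj⟩ : ∃ j, D (a j) ≠ 0 := by
      by_contra h0
      push Not at h0
      exact hD (Derivation.ext_of_adjoin_eq_top _ ha (by rintro _ ⟨j, rfl⟩; exact h0 j))
    obtain ⟨P, hP0, hP⟩ := exists_poly_affine (k := k) 0 (fun j => D (a j)) (Pi.single j 1) (by
      rw [zero_add, Finset.sum_eq_single j (fun l _ hl => by rw [Pi.single_eq_of_ne hl, zero_smul])
        (fun h => absurd (Finset.mem_univ j) h), Pi.single_eq_same, one_smul]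
      exact hj)
    refine ⟨P, hP0, fun _ c hc => ⟨D, ?_⟩⟩
    have := hP c hc
    rw [zero_add] at this
    simpa only [map_sum, Derivation.map_smul] using this
  obtain ⟨P, hP0, hP⟩ := hP
  obtain ⟨c, hc⟩ := exists_forall_eval_ne_zero (fun o : Option {h // h ∈ s} => o.elim P fun h => H h.1)
    (fun o => by cases o <;> simp [hP0, hH0])
  let l : Γ(X, V₀) := ∑ j, c j • a j
  let Crit : Set (Ideal Γ(X, V₀)) := {p | ∃ _ : p.IsPrime, ∃ h ∈ s, h.1 ∉ p ∧
    ∀ D : Derivation k Γ(X, V₀) p.ResidueField, D l = 0}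
  have htrans : ∀ p ∈ Crit, ∃ h ∈ s, ∃ q : Ideal (Localization.Away h.1), q.IsPrime ∧
      q.comap (algebraMap Γ(X, V₀) (Localization.Away h.1)) = p ∧
      IsCrit k (∑ j, c j • algebraMap Γ(X, V₀) (Localization.Away h.1) (a j)) q := by
    rintro p ⟨_, h, hhs, hhp, hD⟩
    let K := p.ResidueField
    have hu : IsUnit (algebraMap Γ(X, V₀) K h.1) :=
      isUnit_iff_ne_zero.2 fun h0 => hhp (Ideal.algebraMap_residueField_eq_zero.1 h0)
    let χ : Localization.Away h.1 →+* K := IsLocalization.Away.lift h.1 hu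
    have hχ : ∀ z, χ (algebraMap Γ(X, V₀) _ z) = algebraMap Γ(X, V₀) K z :=
      fun z => IsLocalization.Away.lift_eq h.1 hu z
    letI : Algebra (Localization.Away h.1) K := χ.toAlgebra
    have : IsScalarTower k (Localization.Away h.1) K := IsScalarTower.of_algebraMap_eq fun r => by
      show _ = χ _
      rw [IsScalarTower.algebraMap_apply k Γ(X, V₀) (Localization.Away h.1), hχ,
        ← IsScalarTower.algebraMap_apply]
    have : IsScalarTower Γ(X, V₀) (Localization.Away h.1) K :=
      IsScalarTower.of_algebraMap_eq fun r => (hχ r).symm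
    refine ⟨h, hhs, RingHom.ker χ, RingHom.ker_isPrime χ, ?_,
      K, inferInstance, inferInstance, inferInstance, inferInstance, rfl, fun D => ?_⟩
    · ext z
      show χ (algebraMap Γ(X, V₀) _ z) = 0 ↔ _
      rw [hχ, Ideal.algebraMap_residueField_eq_zero]
    · refine Eq.trans (congrArg D ?_) (hD (D.compAlgebraMap Γ(X, V₀)))
      rw [map_sum]
      exact Finset.sum_congr rfl fun j _ =>
        (map_smul (IsScalarTower.toAlgHom k Γ(X, V₀) (Localization.Away h.1)) (c j) (a j)).symm
  have hCritfin : Crit.Finite := by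
    refine (s.finite_toSet.biUnion fun h hh =>
      ((hH h c (hc (some ⟨h, hh⟩))).1.image fun q => q.comap (algebraMap Γ(X, V₀) (Localization.Away h.1)))).subset ?_
    intro p hp
    obtain ⟨h, hhs, q, hq, hqp, hcrit⟩ := htrans p hp
    exact Set.mem_iUnion₂.2 ⟨h, hhs, q, ⟨hq, hcrit⟩, hqp⟩
  have hCritmax : ∀ p ∈ Crit, p.IsMaximal := by
    intro p hp
    obtain ⟨h, hhs, q, hq, hqp, hcrit⟩ := htrans p hp
    have := (hH h c (hc (some ⟨h, hhs⟩))).2 q hq hcrit
    have := hBsm h
    have : Algebra.FiniteType k (Localization.Away h.1) := inferInstance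
    rw [← hqp]
    exact comap_isMaximal (k := k) (IsScalarTower.toAlgHom k Γ(X, V₀) (Localization.Away h.1)) q
  have hxCrit : px.asIdeal ∉ Crit := by
    rintro ⟨_, h, hhs, hhp, hD⟩
    have hxU : x ∈ U := by
      have h1 : hV.fromSpec px ∈ U := h.2 hhp
      rwa [fromSpec_isoSpec_hom] at h1
    obtain ⟨D, hD'⟩ := hP hxU c (hc none)
    exact hD' (hD D)
  have hex : ∀ p ∈ hCritfin.toFinset, ∃ b ∈ p, b ∉ px.asIdeal := by
    intro p hp
    rw [Set.Finite.mem_toFinset] at hp
    by_contra hall
    push Not at hall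
    exact hxCrit ((hCritmax p hp).eq_of_le px.isPrime.ne_top hall ▸ hp)
  choose b hb hbx using hex
  let t : Γ(X, V₀) := ∏ p : {p // p ∈ hCritfin.toFinset}, b p.1 p.2
  obtain ⟨δ, hδ⟩ : ∃ δ : k, l + algebraMap k Γ(X, V₀) δ ∉ px.asIdeal := by
    by_cases hl : l ∈ px.asIdeal
    · refine ⟨1, fun h => px.isPrime.ne_top ((Ideal.eq_top_iff_one _).2 ?_)⟩
      rw [map_one] at h
      exact (Ideal.add_mem_iff_right _ hl).1 h
    · exact ⟨0, by rwa [map_zero, add_zero]⟩
  let g : Γ(X, V₀) := l + algebraMap k Γ(X, V₀) δ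
  have := locallyOfFinitePresentation_coordMor f hV hψ g
  have hle : X.basicOpen (g * t) ≤ V₀ := X.basicOpen_le _
  let j : Spec (CommRingCat.of (LaurentPolynomial k)) ⟶ Spec (CommRingCat.of (Polynomial k)) :=
    Spec.map (CommRingCat.ofHom (algebraMap (Polynomial k) (LaurentPolynomial k)))
  have : IsOpenImmersion j := IsOpenImmersion.of_isLocalization (Polynomial.X : Polynomial k)
  let w := X.homOfLE hle ≫ coordMor (k := k) hV g
  have hrange : Set.range w ⊆ Set.range j := by
    rintro _ ⟨y, rfl⟩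
    refine (PrimeSpectrum.localization_away_comap_range (LaurentPolynomial k) (Polynomial.X : Polynomial k)).ge ?_
    show Polynomial.X ∉ (coordMor (k := k) hV g (X.homOfLE hle y)).asIdeal
    rw [coordMor_apply_mem_iff, ← mem_basicOpen_iff, show Subtype.val (p := fun z : X => z ∈ V₀) (X.homOfLE hle y) = y.1 from by
      show V₀.ι (X.homOfLE hle y) = y.1
      rw [← Scheme.Hom.comp_apply, Scheme.homOfLE_ι]; rfl]
    have h : (Subtype.val (p := fun z : X => z ∈ X.basicOpen (g * t)) y) ∈ X.basicOpen g ⊓ X.basicOpen t := by rw [← Scheme.basicOpen_mul]; exact y.2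
    exact h.1
  refine ⟨X.basicOpen (g * t), IsOpenImmersion.lift j w hrange, ?_, ?_, ?_⟩
  · refine (mem_basicOpen_iff hV (g * t) yx).2 fun h => ?_
    rcases px.isPrime.mem_or_mem h with h | h
    · exact hδ h
    · obtain ⟨p, -, hp⟩ := (Ideal.IsPrime.prod_mem_iff).1 h
      exact hbx p.1 p.2 hp
  · have hC : CommRingCat.ofHom (algebraMap k (LaurentPolynomial k)) =
        CommRingCat.ofHom (Polynomial.C : k →+* Polynomial k) ≫
          CommRingCat.ofHom (algebraMap (Polynomial k) (LaurentPolynomial k)) := by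
      rw [← CommRingCat.ofHom_comp]
      refine congrArg _ (RingHom.ext fun r => ?_)
      simp [LaurentPolynomial.algebraMap_apply, Polynomial.toLaurent_C]
    rw [hC, Spec.map_comp, ← Category.assoc, IsOpenImmersion.lift_fac, Category.assoc,
      coordMor_comp f hV hψ, ← Category.assoc, Scheme.homOfLE_ι]
  · generalize hv : IsOpenImmersion.lift j w hrange = v
    have hvw : v ≫ j = w := hv ▸ IsOpenImmersion.lift_fac j w hrange
    have hW : X.basicOpen (g * t) ⊓ U ≤ V₀ := inf_le_left.trans hle
    let e : (↑(X.basicOpen (g * t) ⊓ U) : Scheme.{u}) ⟶ Spec (CommRingCat.of (LaurentPolynomial k)) :=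
      X.homOfLE inf_le_left ≫ v
    have hsmooth : Smooth (e ≫ j) := by
      rw [Category.assoc, hvw, ← Category.assoc, Scheme.homOfLE_homOfLE,
        ← Scheme.Hom.smoothLocus_eq_top_iff, ← Scheme.Hom.preimage_smoothLocus_eq, eq_top_iff]
      rintro z -
      let y : V₀ := X.homOfLE hW z
      have hyz : y.1 = z.1 := by
        show V₀.ι (X.homOfLE hW z) = z.1
        rw [← Scheme.Hom.comp_apply, Scheme.homOfLE_ι]; rfl
      let p := hV.isoSpec.hom y
      have hzt : z.1 ∈ X.basicOpen g ⊓ X.basicOpen t := by rw [← Scheme.basicOpen_mul]; exact z.2.1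
      obtain ⟨D, hD⟩ : ∃ D : Derivation k Γ(X, V₀) p.asIdeal.ResidueField, D g ≠ 0 := by
        by_contra hall
        push Not at hall
        have hpU : p ∈ U' := by
          show hV.fromSpec p ∈ U
          rw [fromSpec_isoSpec_hom, hyz]
          exact z.2.2
        obtain ⟨h, hhs, hph⟩ := Set.mem_iUnion₂.1 (hs hpU)
        have hcrit : p.asIdeal ∈ Crit := ⟨p.isPrime, h, hhs, hph, fun D => by
          simpa [g] using hall D⟩
        have htp : t ∈ p.asIdeal := (Ideal.IsPrime.prod_mem_iff).2
          ⟨⟨p.asIdeal, hCritfin.mem_toFinset.2 hcrit⟩, Finset.mem_univ _, hb _ _⟩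
        exact (mem_basicOpen_iff hV t y).1 (hyz ▸ hzt.2) htp
      exact mem_smoothLocus_coordMor f hV hψ g y (hyz ▸ hsm _ z.2.2) D hD
    have hpb : IsPullback (𝟙 _) e (e ≫ j) j :=
      IsPullback.of_horiz_isIso_mono ⟨by rw [Category.id_comp]⟩
    exact MorphismProperty.of_isPullback hpb hsmooth

end Groth.Agent.S16365
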