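import Groth.Statements.S16366
import Groth.Agent.MovLem.CoordMorphism

set_option autoImplicit false
universe u
open CategoryTheory Limits Opposite
open MovLem

namespace Groth.Agent.S16366

open CategoryTheory AlgebraicGeometry Groth.MovLem.GenCoord

open AlgebraicGeometry in
/-- Let k be an infinite field, X a scheme of finite type over k and u a global function on X such that
the open subscheme X_u where u is invertible is smooth over k. Let x be a point of X at which u is
not invertible, and let x'_1, …, x'_n be finitely many points of X_u, each of which specializes to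
x. Then there exist an open neighbourhood X' of x, a unit e among the functions on X', and the
k-morphism g : X' → A^1_k = Spec k[T] whose pulled-back coordinate T is e·u restricted to X', such
that g is smooth on some open neighbourhood of each x'_i. (Equivalently: after shrinking X around x,
the equation u of the principal divisor D = (u) is replaced by another equation e·u of the same
divisor that is smooth at the chosen points. The published statement takes D an effective Cartier
divisor, i.e. u a non-zero-divisor; that is not assumed here, and the argument does not need it.) -/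
theorem result
    {k : Type u} [Field k] [Infinite k]
    (X : Scheme.{u}) (f : X ⟶ Spec (CommRingCat.of k)) [LocallyOfFiniteType f] [QuasiCompact f]
    (u : Γ(X, ⊤)) [Smooth ((X.basicOpen u).ι ≫ f)]
    (x : ↥X) (hx : x ∉ X.basicOpen u)
    {ι : Type} [Finite ι] (x' : ι → ↥X) (hx' : ∀ i, x' i ∈ X.basicOpen u) (hgen : ∀ i, x' i ⤳ x) :
    ∃ (X' : X.Opens) (e : Γ(X, X')) (g : (↑X' : Scheme.{u}) ⟶ Spec (CommRingCat.of (Polynomial k))),
      x ∈ X' ∧ IsUnit e ∧
      g ≫ Spec.map (CommRingCat.ofHom (Polynomial.C : k →+* Polynomial k)) = X'.ι ≫ f ∧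
      X'.topIso.hom (g.appTop ((Scheme.ΓSpecIso (CommRingCat.of (Polynomial k))).inv Polynomial.X)) =
        e * X.presheaf.map (homOfLE le_top).op u ∧
      ∀ i, ∃ (W : X.Opens) (hW : W ≤ X'), x' i ∈ W ∧ Smooth (X.homOfLE hW ≫ g) := by
  classical
  have : LocallyOfFinitePresentation f := inferInstance
  obtain ⟨V₀, hV, hxV, -⟩ := exists_isAffineOpen_mem_and_subset (x := x) (U := ⊤) trivial
  obtain ⟨_, hψ⟩ := exists_algebra_fromSpec f hV
  have hfin := finiteType_of_fromSpec f hV hψ
  obtain ⟨N, φ, hφ⟩ := Algebra.FiniteType.iff_quotient_mvPolynomial''.1 hfin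
  let a : Fin N → Γ(X, V₀) := fun j => φ (MvPolynomial.X j)
  have ha : Algebra.adjoin k (Set.range a) = ⊤ := by
    rw [show Set.range a = φ '' Set.range MvPolynomial.X from (Set.range_comp φ MvPolynomial.X),
      ← AlgHom.map_adjoin, MvPolynomial.adjoin_range_X, Algebra.map_top, AlgHom.range_eq_top]
    exact hφ
  let u₀ : Γ(X, V₀) := X.presheaf.map (homOfLE le_top).op u
  have hmem : ∀ y : V₀, y.1 ∈ X.basicOpen u ↔ u₀ ∉ (hV.isoSpec.hom y).asIdeal := fun y => by
    rw [← mem_basicOpen_iff hV, Scheme.basicOpen_res]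
    exact ⟨fun h => ⟨y.2, h⟩, fun h => h.2⟩
  have hsm : ∀ y ∈ X.basicOpen u, y ∈ f.smoothLocus := fun y hy => by
    have h := Scheme.Hom.smoothLocus_eq_top ((X.basicOpen u).ι ≫ f)
    rw [← Scheme.Hom.preimage_smoothLocus_eq] at h
    exact (h.ge (Set.mem_univ (⟨y, hy⟩ : X.basicOpen u)) :)
  let yx : V₀ := ⟨x, hxV⟩
  let px := hV.isoSpec.hom yx
  have hy' : ∀ i, x' i ∈ V₀ := fun i => (hgen i).mem_open V₀.2 hxV
  let p : ι → Spec Γ(X, V₀) := fun i => hV.isoSpec.hom ⟨x' i, hy' i⟩
  have hsp : ∀ i, p i ⤳ px := fun i =>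
    Specializes.map (f := fun z : V₀ => hV.isoSpec.hom z)
      ((Topology.IsInducing.subtypeVal.specializes_iff).1 (hgen i) : (⟨x' i, hy' i⟩ : V₀) ⤳ yx)
      hV.isoSpec.hom.continuous
  have hD : ∀ i, ∃ D : Derivation k Γ(X, V₀) (p i).asIdeal.ResidueField, D ≠ 0 := by
    intro i
    by_contra hall
    push Not at hall
    have hmax := (isolated_of_derivation_eq_zero (p i).asIdeal hall).1
    have hle : (p i).asIdeal ≤ px.asIdeal := (PrimeSpectrum.le_iff_specializes (p i) px).2 (hsp i)
    have heq := hmax.eq_of_le px.isPrime.ne_top hle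
    exact (hmem ⟨x' i, hy' i⟩).1 (hx' i)
      (heq ▸ not_not.1 (mt (hmem yx).2 hx) : u₀ ∈ (p i).asIdeal)
  choose D hD using hD
  have hP : ∀ i, ∃ P : MvPolynomial (Fin N) k, P ≠ 0 ∧
      ∀ c : Fin N → k, MvPolynomial.eval c P ≠ 0 → D i u₀ + ∑ j, c j • D i (a j * u₀) ≠ 0 := by
    intro i
    by_cases hu : D i u₀ = 0
    · obtain ⟨j, hj⟩ : ∃ j, D i (a j) ≠ 0 := by
        by_contra hall
        push Not at hall
        refine hD i (Derivation.ext_of_adjoin_eq_top _ ha ?_)
        rintro _ ⟨j, rfl⟩
        exact hall j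
      refine exists_poly_affine _ _ (Pi.single j 1) ?_
      rw [hu, zero_add, Finset.sum_eq_single j (fun l _ hl => by rw [Pi.single_eq_of_ne hl, zero_smul])
        (fun h => absurd (Finset.mem_univ j) h), Pi.single_eq_same, one_smul, Derivation.leibniz, hu,
        smul_zero, zero_add, Algebra.smul_def]
      refine mul_ne_zero (fun h0 => ?_) hj
      exact (hmem ⟨x' i, hy' i⟩).1 (hx' i) (Ideal.algebraMap_residueField_eq_zero.1 h0)
    · exact exists_poly_affine _ _ 0 (by simpa using hu)
  choose P hP0 hP using hP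
  obtain ⟨P₀, hP₀0, hP₀⟩ := exists_poly_affine (k := k) (1 : px.asIdeal.ResidueField)
    (fun j => algebraMap Γ(X, V₀) _ (a j)) 0 (by simp)
  have := Fintype.ofFinite ι
  obtain ⟨c, hc⟩ := exists_forall_eval_ne_zero (fun o : Option ι => o.elim P₀ P)
    (fun o => by cases o <;> simp [hP0, hP₀0])
  let e₀ : Γ(X, V₀) := 1 + ∑ j, c j • a j
  let g : Γ(X, V₀) := e₀ * u₀
  have := locallyOfFinitePresentation_coordMor f hV hψ g
  have hle : X.basicOpen e₀ ≤ V₀ := X.basicOpen_le e₀
  refine ⟨X.basicOpen e₀, X.presheaf.map (homOfLE hle).op e₀, X.homOfLE hle ≫ coordMor (k := k) hV g,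
    ?_, RingedSpace.isUnit_res_basicOpen _ e₀, ?_, ?_, fun i => ?_⟩
  · refine (mem_basicOpen_iff hV e₀ yx).2 fun h0 => hP₀ c (hc none) ?_
    have h1 := Ideal.algebraMap_residueField_eq_zero.2 h0
    rw [map_add, map_one, map_sum] at h1
    refine Eq.trans ?_ h1
    exact congrArg _ (Finset.sum_congr rfl fun j _ => (map_smul (IsScalarTower.toAlgHom k Γ(X, V₀) px.asIdeal.ResidueField) (c j) (a j)).symm)
  · rw [Category.assoc, coordMor_comp f hV hψ, ← Category.assoc, Scheme.homOfLE_ι]
  · rw [Scheme.Hom.comp_appTop, CategoryTheory.comp_apply]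
    have h1 := coordMor_appTop (k := k) hV g
    generalize (coordMor (k := k) hV g).appTop
      ((Scheme.ΓSpecIso (CommRingCat.of (Polynomial k))).inv Polynomial.X) = z at h1 ⊢
    have h2 : (X.basicOpen e₀).topIso.hom ((X.homOfLE hle).appTop z) =
        X.presheaf.map (homOfLE hle).op (V₀.topIso.hom z) := by
      rw [← CategoryTheory.comp_apply, ← CategoryTheory.comp_apply]
      congr 2
      simp only [Scheme.homOfLE_appTop, Scheme.Opens.topIso_hom, ← Functor.map_comp]
      exact ((X.presheaf.map_comp _ _).symm.trans (congrArg X.presheaf.map (Subsingleton.elim _ _))).trans (X.presheaf.map_comp _ _)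
    rw [h2, h1]
    show X.presheaf.map (homOfLE hle).op (e₀ * u₀) = _
    rw [map_mul]
    congr 1
    show (X.presheaf.map (homOfLE le_top).op ≫ X.presheaf.map (homOfLE hle).op) u = _
    rw [← Functor.map_comp]
    rfl
  · let y : V₀ := ⟨x' i, hy' i⟩
    have hDg : D i g ≠ 0 := by
      intro h0
      refine hP i c (hc (some i)) (Eq.trans ?_ h0)
      show _ = D i ((1 + ∑ j, c j • a j) * u₀)
      simp only [add_mul, one_mul, Finset.sum_mul, smul_mul_assoc, map_add, map_sum, Derivation.map_smul]
    have hyS : y ∈ (coordMor (k := k) hV g).smoothLocus :=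
      mem_smoothLocus_coordMor f hV hψ g y (hsm _ (hx' i)) (D i) hDg
    have hye : x' i ∈ X.basicOpen e₀ := by
      refine (mem_basicOpen_iff hV e₀ y).2 fun h0 => hDg ?_
      refine False.elim (hP₀ c (hc none) ?_)
      have h0' : e₀ ∈ px.asIdeal := (PrimeSpectrum.le_iff_specializes (p i) px).2 (hsp i) h0
      have h1 := Ideal.algebraMap_residueField_eq_zero.2 h0'
      rw [map_add, map_one, map_sum] at h1
      refine Eq.trans ?_ h1
      exact congrArg _ (Finset.sum_congr rfl fun j _ => (map_smul (IsScalarTower.toAlgHom k Γ(X, V₀) px.asIdeal.ResidueField) (c j) (a j)).symm)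
    refine ⟨X.basicOpen e₀ ⊓ V₀.ι ''ᵁ (coordMor (k := k) hV g).smoothLocus, inf_le_left,
      ⟨hye, ⟨y, hyS, rfl⟩⟩, ?_⟩
    have hW : X.basicOpen e₀ ⊓ V₀.ι ''ᵁ (coordMor (k := k) hV g).smoothLocus ≤ V₀ := inf_le_left.trans hle
    rw [← Category.assoc, Scheme.homOfLE_homOfLE]
    have := locallyOfFinitePresentation_coordMor f hV hψ g
    rw [← Scheme.Hom.smoothLocus_eq_top_iff, ← Scheme.Hom.preimage_smoothLocus_eq, eq_top_iff]
    rintro z -
    obtain ⟨w, hw, hwz⟩ := z.2.2
    have hz : X.homOfLE hW z = w := V₀.ι.isOpenEmbedding.injective (by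
      rw [← Scheme.Hom.comp_apply, Scheme.homOfLE_ι]
      exact hwz.symm)
    refine show X.homOfLE hW z ∈ (coordMor (k := k) hV g).smoothLocus from ?_
    rw [hz]
    exact hw

end Groth.Agent.S16366
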