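import Groth.Statements.S16367
import Groth.Agent.Misc8.ChartShift

set_option autoImplicit false
universe u
open MovLem

namespace Groth.Agent.S16367

/-- The chart computation of its proof: let k be a commutative ring, P = k[x_1, …, x_d, w_1, …, w_n] a
polynomial ring in two groups of variables, u a polynomial in the x-variables alone, v a vector in
k^d, J a set of indices among the w-variables with ζ = ∏_{j ∈ J} w_j, and N ≤ s natural numbers. Let
(f_λ) be a finite family of elements of P, each of total degree at most N in the x-variables, and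
assume that ζ^N + c_1 ζ^(N-1) u + ⋯ + c_N u^N lies in the ideal generated by the f_λ for some c_1,
…, c_N ∈ P. For each λ let φ_λ ∈ P[τ] be the polynomial τ^N · f_λ(x + u^s v/τ, w), written out
monomial by monomial: a monomial a·x^m·w^m' of x-degree e = |m| contributes a · τ^(N-e) · ∏_i (τ x_i
+ u^s v_i)^(m_i) · w^m'. Then there are c'_1, …, c'_N ∈ P[τ] with (τζ)^N + c'_1 (τζ)^(N-1) u + ⋯ +
c'_N u^N in the ideal of P[τ] generated by the φ_λ. (This identity is what shows that translating a
cycle by t·u^s·v preserves the modulus condition on the chart whose coordinates are the z_i and the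
1/z_j, with τ = 1/t; integrality of ζ/u, resp. τζ/u, is expressed by such monic binary forms.) -/
theorem result
    {k : Type u} [CommRing k] (d n : ℕ) (u : MvPolynomial (Fin d) k) (v : Fin d → k)
    (J : Finset (Fin n)) (N s : ℕ) (hs : N ≤ s)
    {Λ : Type u} [Fintype Λ] (f : Λ → MvPolynomial (Fin d ⊕ Fin n) k)
    (hdeg : ∀ l, ∀ m ∈ (f l).support, ∑ i : Fin d, m (Sum.inl i) ≤ N)
    (c : ℕ → MvPolynomial (Fin d ⊕ Fin n) k)
    (hE : (∏ j ∈ J, MvPolynomial.X (Sum.inr j)) ^ N +
        ∑ i ∈ Finset.Icc 1 N, c i * (∏ j ∈ J, MvPolynomial.X (Sum.inr j)) ^ (N - i) *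
          MvPolynomial.rename Sum.inl u ^ i ∈ Ideal.span (Set.range f)) :
    ∃ c' : ℕ → Polynomial (MvPolynomial (Fin d ⊕ Fin n) k),
      (Polynomial.X * Polynomial.C (∏ j ∈ J, MvPolynomial.X (Sum.inr j))) ^ N +
        ∑ i ∈ Finset.Icc 1 N, c' i *
          (Polynomial.X * Polynomial.C (∏ j ∈ J, MvPolynomial.X (Sum.inr j))) ^ (N - i) *
            Polynomial.C (MvPolynomial.rename Sum.inl u) ^ i ∈
      Ideal.span (Set.range fun l : Λ =>
        ∑ m ∈ (f l).support,
          Polynomial.C (MvPolynomial.C (MvPolynomial.coeff m (f l))) *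
            Polynomial.X ^ (N - ∑ i : Fin d, m (Sum.inl i)) *
            (∏ i : Fin d, (Polynomial.X * Polynomial.C (MvPolynomial.X (Sum.inl i)) +
                Polynomial.C (MvPolynomial.rename Sum.inl u ^ s * MvPolynomial.C (v i))) ^ m (Sum.inl i)) *
            ∏ j : Fin n, Polynomial.C (MvPolynomial.X (Sum.inr j)) ^ m (Sum.inr j)) := by
  exact Groth.Misc8.ChartShift.exists_monic_form u v N s hs f hdeg _ c hE

end Groth.Agent.S16367
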