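import Groth.Statements.S16368
import Mathlib

set_option autoImplicit false
universe u v
open TensorProduct
open FrobAlg

namespace Groth.Agent.S16368

/-- Let R be a local ring of prime characteristic p and M a finitely presented R-module. Write R' for R
regarded as an R-algebra through its Frobenius a ↦ a^p, so that R' ⊗_R M is the pull-back of M along
the absolute Frobenius of Spec R, an R'-module. If this pull-back is isomorphic to M — there is a
bijective map e : R' ⊗_R M → M, additive and semilinear for the identification R' = R — then M is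
free. -/
theorem result
    (p : ℕ) [Fact p.Prime] (R : Type u) [CommRing R] [IsLocalRing R] [CharP R p]
    (M : Type v) [AddCommGroup M] [Module R M] [Module.FinitePresentation R M]
    (e : (FrobAlg.Twist p R ⊗[R] M) →ₛₗ[((FrobAlg.toTwist p R).symm : FrobAlg.Twist p R →+* R)] M)
    (he : Function.Bijective e) :
    Module.Free R M := by
  classical
  have hp := (Fact.out : p.Prime)
  let k := IsLocalRing.ResidueField R
  let b := Module.finBasis k (k ⊗[R] M)
  set n := Module.finrank k (k ⊗[R] M)
  choose x hx using fun i => TensorProduct.mk_surjective R M k IsLocalRing.residue_surjective (b i)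
  have hspan : Submodule.span R (Set.range x) = ⊤ := IsLocalRing.span_eq_top_of_tmul_eq_basis x b hx
  let f := Fintype.linearCombination R x
  have hf : Function.Surjective f := by
    rw [← LinearMap.range_eq_top, Fintype.range_linearCombination, hspan]
  have hmin : ∀ v, f v = 0 → ∀ i, v i ∈ IsLocalRing.maximalIdeal R := by
    intro v hv
    have h0 : ∑ i, algebraMap R k (v i) • b i = 0 := by
      simp only [← hx, TensorProduct.mk_apply, algebraMap_smul, ← TensorProduct.tmul_smul, ← TensorProduct.tmul_sum]
      rw [show ∑ i, v i • x i = f v from (Fintype.linearCombination_apply R x v).symm, hv, TensorProduct.tmul_zero]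
    intro i
    exact (IsLocalRing.residue_eq_zero_iff _).mp (Fintype.linearIndependent_iff.mp b.linearIndependent _ h0 i)
  obtain ⟨S, hS⟩ := Module.FinitePresentation.fg_ker f hf
  let I : Ideal R := Ideal.span (Set.range fun q : S × Fin n => (q.1 : Fin n → R) q.2)
  have hI : ∀ v, f v = 0 → ∀ i, v i ∈ I := by
    intro v hv
    rw [← LinearMap.mem_ker, ← hS] at hv
    induction hv using Submodule.span_induction with
    | mem y hy => exact fun i => Ideal.subset_span ⟨(⟨y, hy⟩, i), rfl⟩
    | zero => exact fun i => I.zero_mem
    | add a b _ _ ha hb => exact fun i => I.add_mem (ha i) (hb i)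
    | smul r a _ ha => exact fun i => I.mul_mem_left r (ha i)
  have hIm : I ≤ IsLocalRing.maximalIdeal R := by
    rw [Ideal.span_le]
    rintro _ ⟨⟨⟨y, hy⟩, i⟩, rfl⟩
    exact hmin y (LinearMap.mem_ker.mp (hS ▸ Submodule.subset_span hy)) i
  let T := FrobAlg.Twist p R
  let F := Fintype.linearCombination T (fun i => (1 : T) ⊗ₜ[R] x i)
  let P := TensorProduct.piScalarRight R T T (Fin n)
  have hFP : ∀ z, F (P z) = f.lTensor T z := by
    intro z
    induction z using TensorProduct.induction_on with
    | zero => simp
    | add a b ha hb => simp only [map_add, ha, hb]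
    | tmul t v =>
      rw [LinearMap.lTensor_tmul, TensorProduct.piScalarRight_apply, TensorProduct.piScalarRightHom_tmul]
      simp only [F, f, Fintype.linearCombination_apply, TensorProduct.tmul_sum]
      refine Finset.sum_congr rfl fun i _ => ?_
      rw [TensorProduct.smul_tmul', smul_eq_mul, mul_one, ← TensorProduct.smul_tmul]
  have hFsurj : Function.Surjective F := fun y => by
    obtain ⟨z, hz⟩ := LinearMap.lTensor_surjective T hf y
    exact ⟨P z, (hFP z).trans hz⟩
  have hFker : ∀ w, F w = 0 → ∀ i, w i ∈ I.map (algebraMap R T) := by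
    intro w hw
    obtain ⟨z, rfl⟩ := P.surjective w
    rw [hFP] at hw
    obtain ⟨z, rfl⟩ := (lTensor_exact T (LinearMap.exact_subtype_ker_map f) hf z).mp hw
    induction z using TensorProduct.induction_on with
    | zero => intro i; simp
    | add a b ha hb =>
      intro i
      rw [map_add, map_add, Pi.add_apply]
      refine Ideal.add_mem _ (ha ?_ i) (hb ?_ i) <;>
      · rw [← LinearMap.comp_apply, ← LinearMap.lTensor_comp, LinearMap.comp_ker_subtype, LinearMap.lTensor_zero,
          LinearMap.zero_apply]
    | tmul t v =>
      intro i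
      rw [LinearMap.lTensor_tmul, TensorProduct.piScalarRight_apply, TensorProduct.piScalarRightHom_tmul]
      show (v : Fin n → R) i • t ∈ _
      rw [Algebra.smul_def]
      exact Ideal.mul_mem_right _ _ (Ideal.mem_map_of_mem _ (hI _ v.2 i))
  have htw : I.map (algebraMap R T) ≤
      (IsLocalRing.maximalIdeal R * I).comap ((FrobAlg.toTwist p R).symm : T →+* R) := by
    rw [Ideal.map_le_iff_le_comap]
    intro a ha
    rw [Ideal.mem_comap, Ideal.mem_comap, FrobAlg.algebraMap_twist]
    show a ^ p ∈ _
    have h2 : a ^ p = a ^ (p - 1) * a := by rw [← pow_succ, Nat.sub_add_cancel hp.one_le]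
    rw [h2]
    exact Ideal.mul_mem_mul (Ideal.pow_mem_of_mem _ (hIm ha) _ (by have := hp.two_le; omega)) ha
  let h : (Fin n → R) →ₗ[R] M :=
    { toFun := fun v => e (F fun i => FrobAlg.toTwist p R (v i))
      map_add' := fun v w => by
        rw [← map_add e, ← map_add F]
        rfl
      map_smul' := fun r v => by
        rw [show (fun i => FrobAlg.toTwist p R ((r • v) i)) =
          FrobAlg.toTwist p R r • fun i => FrobAlg.toTwist p R (v i) from funext fun i => map_mul _ _ _,
          map_smul, map_smulₛₗ]
        all_goals rfl }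
  have hh : Function.Surjective h := fun y => by
    obtain ⟨z, hz⟩ := he.2 y
    obtain ⟨w, hw⟩ := hFsurj z
    exact ⟨fun i => (FrobAlg.toTwist p R).symm (w i), by
      show e (F fun i => FrobAlg.toTwist p R ((FrobAlg.toTwist p R).symm (w i))) = y
      simp only [RingEquiv.apply_symm_apply]
      rw [hw, hz]⟩
  obtain ⟨g, hg⟩ := Module.projective_lifting_property f h hf
  have hgs : Function.Surjective g := by
    rw [← LinearMap.range_eq_top, ← top_le_iff]
    refine Submodule.le_of_le_smul_of_le_jacobson_bot (I := IsLocalRing.maximalIdeal R) Module.Finite.fg_top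
      (IsLocalRing.maximalIdeal_le_jacobson ⊥) fun v _ => ?_
    obtain ⟨w, hw⟩ := hh (f v)
    have h1 : f (v - g w) = 0 := by rw [map_sub, ← LinearMap.comp_apply f g, hg, hw, sub_self]
    rw [show v = g w + (v - g w) from (add_sub_cancel _ _).symm]
    refine Submodule.add_mem_sup (LinearMap.mem_range_self g w) ?_
    have h2 := hmin _ h1
    rw [show v - g w = ∑ i, (v - g w) i • (Pi.single i (1 : R) : Fin n → R) from pi_eq_sum_univ' _]
    exact Submodule.sum_mem _ fun i _ => Submodule.smul_mem_smul (h2 i) Submodule.mem_top
  have hle : I ≤ IsLocalRing.maximalIdeal R * I := by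
    rw [Ideal.span_le]
    rintro _ ⟨⟨⟨y, hy⟩, i⟩, rfl⟩
    obtain ⟨v, rfl⟩ := hgs y
    have hy0 : f (g v) = 0 := LinearMap.mem_ker.mp (hS ▸ Submodule.subset_span hy)
    rw [← LinearMap.comp_apply, hg] at hy0
    have hv := hFker _ ((map_eq_zero_iff e he.1).mp hy0)
    show g v i ∈ IsLocalRing.maximalIdeal R * I
    rw [pi_eq_sum_univ' v, map_sum, Finset.sum_apply]
    refine Ideal.sum_mem _ fun j _ => ?_
    rw [map_smul, Pi.smul_apply, smul_eq_mul]
    refine Ideal.mul_mem_right _ _ ?_
    have hj := htw (hv j)
    rw [Ideal.mem_comap] at hj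
    exact hj
  have hbot : I = ⊥ := Submodule.eq_bot_of_le_smul_of_le_jacobson_bot _ I ⟨(Set.finite_range _).toFinset, by
    rw [Set.Finite.coe_toFinset]⟩ hle (IsLocalRing.maximalIdeal_le_jacobson ⊥)
  have hinj : Function.Injective f := (injective_iff_map_eq_zero f).mpr fun v hv =>
    funext fun i => by simpa [hbot] using hI v hv i
  exact Module.Free.of_equiv (LinearEquiv.ofBijective f ⟨hinj, hf⟩)

end Groth.Agent.S16368
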