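import Groth.Statements.S16369
import Groth.Agent.CohC3.ProperHelpers
import Groth.Agent.QCohMod.Coherent


set_option autoImplicit false
universe u
open CategoryTheory AlgebraicGeometry Opposite
open FrobSch

namespace Groth.Agent.S16369

open CategoryTheory AlgebraicGeometry Opposite in
theorem smulAb_comp_pow (p : ℕ) {X : Scheme.{u}}
    (φ : Coh.toAb (Coh.structureModule X) ⟶ Coh.toAb (Coh.structureModule X))
    (hφ : ∀ (U : X.Opens) (t : Γ(X, U)), φ.hom.app (op U) t = t ^ p) (r : Coh.Γtop X) :
    Coh.smulAb (Coh.structureModule X) r ≫ φ = φ ≫ Coh.smulAb (Coh.structureModule X) (r ^ p) := by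
  ext U x
  change φ.hom.app U ((Coh.smulAb (Coh.structureModule X) r).hom.app U x) =
    (Coh.smulAb (Coh.structureModule X) (r ^ p)).hom.app U (φ.hom.app U x)
  rw [Coh.smulAb_app, Coh.smulAb_app]
  let a : Γ(X, U.unop) := Coh.resTop X U r
  let b : Γ(X, U.unop) := x
  refine (hφ U.unop (a * b)).trans ?_
  have h1 : φ.hom.app U x = b ^ p := hφ U.unop b
  rw [h1, map_pow]
  exact mul_pow a b p

open CategoryTheory AlgebraicGeometry in
theorem H_map_semilinear {X : Scheme.{u}}
    {A : Sheaf (Opens.grothendieckTopology X) AddCommGrpCat.{u}} (φ a b : A ⟶ A) (h : a ≫ φ = φ ≫ b)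
    (i : ℕ) (x : Sheaf.H A i) : Sheaf.H.map φ i (Sheaf.H.map a i x) = Sheaf.H.map b i (Sheaf.H.map φ i x) := by
  rw [← Sheaf.H.map_comp_apply, ← Sheaf.H.map_comp_apply, h]

open CategoryTheory AlgebraicGeometry in
theorem H_retract {X : Scheme.{u}}
    {A : Sheaf (Opens.grothendieckTopology X) AddCommGrpCat.{u}} (φ s : A ⟶ A) (h : φ ≫ s = 𝟙 A)
    (i : ℕ) (x : Sheaf.H A i) : Sheaf.H.map s i (Sheaf.H.map φ i x) = x := by
  rw [← Sheaf.H.map_comp_apply, h, Sheaf.H.map_id_apply]



/-- (i) ⇒ (ii): let k be a perfect field of characteristic p and X a scheme proper over k. Let φ be the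
p-th power map on the sheaf of additive groups underlying O_X and B its cokernel in abelian sheaves
(for X smooth over k this is the sheaf B¹ of locally exact one-forms, pushed down along Frobenius).
If X is Frobenius split — φ admits a retraction s, an additive endomorphism of O_X with s(t^p) = t
and s(a^p·b) = a·s(b) on every open — then H^i(X, B) = 0 for every i. (The source states this for X
normal; normality is not used for this implication, and a split X is reduced anyway.) -/
theorem result
    (p : ℕ) [Fact p.Prime] (k : Type u) [Field k] [CharP k p] [PerfectField k]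
    (X : Scheme.{u}) [X.Over (Spec (CommRingCat.of k))] [IsProper (X ↘ Spec (CommRingCat.of k))]
    (φ : Coh.toAb (Coh.structureModule X) ⟶ Coh.toAb (Coh.structureModule X))
    (hφ : ∀ (U : X.Opens) (t : Γ(X, U)), φ.hom.app (op U) t = t ^ p)
    (s : Coh.toAb (Coh.structureModule X) ⟶ Coh.toAb (Coh.structureModule X))
    (hs : φ ≫ s = 𝟙 _)
    (hlin : ∀ (U : X.Opens) (a b : Γ(X, U)),
      s.hom.app (op U) (a ^ p * b) = a * @id Γ(X, U) (s.hom.app (op U) b))
    (i : ℕ) : Subsingleton (Sheaf.H (Limits.cokernel φ) i) := by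
  have : IsLocallyNoetherian X :=
    LocallyOfFiniteType.isLocallyNoetherian (X ↘ Spec (CommRingCat.of k))
  have hfin : Module.Finite k (Coh.HH X (Coh.structureModule X) i) :=
    Groth.CohC3.finite_HH_of_proper k X Groth.QCohMod.isCoh_unit i
  have : PerfectRing k p := PerfectField.toPerfectRing p
  let V := Coh.HH X (Coh.structureModule X) i
  let F : V →+ V := Sheaf.H.map φ i
  have hcomm := fun r => smulAb_comp_pow p φ hφ r
  have hsemi : ∀ (c : k) (x : V), F (c • x) = c ^ p • F x := fun c x =>
    (H_map_semilinear φ _ _ (hcomm (Coh.toGlobal (X ↘ Spec (CommRingCat.of k)) c)) i x).trans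
      (congrArg (fun r => Sheaf.H.map (Coh.smulAb (Coh.structureModule X) r) i (F x))
        (map_pow (Coh.toGlobal (X ↘ Spec (CommRingCat.of k))) c p).symm)
  have hinj : Function.Injective F := fun x y h => by
    have h' := congrArg (Sheaf.H.map s i) h
    exact (H_retract φ s hs i x).symm.trans (h'.trans (H_retract φ s hs i y))
  have hsurj : Function.Surjective F := by
    let b := Module.finBasis k V
    have hli : LinearIndependent k (fun j => F (b j)) := by
      rw [Fintype.linearIndependent_iff]
      intro g hg j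
      choose d hd using fun j => surjective_frobenius k p (g j)
      have h0 : F (∑ j, d j • b j) = 0 := by
        rw [map_sum, ← hg]
        refine Finset.sum_congr rfl fun j _ => ?_
        rw [hsemi, ← hd j, frobenius_def]
      have := Fintype.linearIndependent_iff.1 b.linearIndependent d (hinj (h0.trans (map_zero F).symm)) j
      rw [← hd j, this, map_zero]
    intro y
    have hsp := hli.span_eq_top_of_card_eq_finrank' (Fintype.card_fin _)
    obtain ⟨g, hg⟩ := (Submodule.mem_span_range_iff_exists_fun k).1
      (hsp ▸ Submodule.mem_top : y ∈ Submodule.span k (Set.range fun j => F (b j)))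
    choose d hd using fun j => surjective_frobenius k p (g j)
    refine ⟨∑ j, d j • b j, ?_⟩
    rw [map_sum, ← hg]
    refine Finset.sum_congr rfl fun j _ => ?_
    rw [hsemi, ← hd j, frobenius_def]
  let t : Limits.cokernel φ ⟶ Coh.toAb (Coh.structureModule X) :=
    Limits.cokernel.desc φ (𝟙 _ - s ≫ φ)
      (by rw [Preadditive.comp_sub, ← Category.assoc, hs, Category.id_comp, Category.comp_id, sub_self])
  have ht : t ≫ Limits.cokernel.π φ = 𝟙 _ := by
    rw [← cancel_epi (Limits.cokernel.π φ), Limits.cokernel.π_desc_assoc, Category.comp_id,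
      Preadditive.sub_comp, Category.id_comp, Category.assoc, Limits.cokernel.condition,
      Limits.comp_zero, sub_zero]
  refine ⟨fun a b => ?_⟩
  have key : ∀ a : Sheaf.H (Limits.cokernel φ) i, a = 0 := fun a => by
    obtain ⟨w, hw⟩ := hsurj (Sheaf.H.map t i a)
    have e : Sheaf.H.map (Limits.cokernel.π φ) i (Sheaf.H.map t i a) = a := by
      rw [← Sheaf.H.map_comp_apply, ht, Sheaf.H.map_id_apply]
    rw [← e, ← hw]
    change Sheaf.H.map (Limits.cokernel.π φ) i (Sheaf.H.map φ i w) = 0
    rw [← Sheaf.H.map_comp_apply, Limits.cokernel.condition]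
    change ((Sheaf.functorH _ i).map (0 : _ ⟶ _)).hom w = 0
    rw [Functor.map_zero]
    rfl
  rw [key a, key b]

end Groth.Agent.S16369
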