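import Groth.Statements.S1637
import Groth.Agent.PlaneCurve.NodeNormal.Local
import Groth.Agent.PlaneCurve.NodeNormal.NodalBase

set_option autoImplicit false
universe u
open CategoryTheory CategoryTheory.Limits AlgebraicGeometry
open Curves

namespace Groth.Agent.S1637

attribute [local instance] Curv2.resAlgebra Curv2.stalkAlgebra

/-- Let f : X → S be at-worst-nodal of relative dimension one and x a point of X which is a node of its
fibre. Then there are étale morphisms U → X and V → S, a morphism U → V compatible with f, a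
morphism V → Spec ℤ[a], and an étale morphism U → W over V where W → V is the base change of Spec
ℤ[u, v, a]/(uv - a) → Spec ℤ[a] along V → Spec ℤ[a], such that x is in the image of U. -/
theorem result {X S : Scheme.{u}} (f : X ⟶ S) (hf : Curv2.IsNodalFamily f)
    (x : X) (hx : @Curv2.IsNode (S.residueField (f.base x)) _ (f.fiber (f.base x)) ⟨f.fiberToSpecResidueField (f.base x)⟩ (f.asFiber x)) :
    ∃ (U V W : Scheme.{u}) (gU : U ⟶ X) (gV : V ⟶ S) (p : U ⟶ V) (e : U ⟶ W) (q : W ⟶ V)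
      (h : V ⟶ Spec (CommRingCat.of (MvPolynomial (Fin 1) (ULift.{u} ℤ)))) (r : W ⟶ Spec (CommRingCat.of (MvPolynomial (Fin 3) (ULift.{u} ℤ) ⧸ Ideal.span {(MvPolynomial.X 0 * MvPolynomial.X 1 - MvPolynomial.X 2 : MvPolynomial (Fin 3) (ULift.{u} ℤ))}))),
      Etale gU ∧ Etale gV ∧ Etale e ∧ gU ≫ f = p ≫ gV ∧ e ≫ q = p ∧
      IsPullback r q (Spec.map (CommRingCat.ofHom ((Ideal.Quotient.mk _).comp (MvPolynomial.aeval (fun _ : Fin 1 => (MvPolynomial.X 2 : MvPolynomial (Fin 3) (ULift.{u} ℤ)))).toRingHom))) h ∧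
      x ∈ Set.range gU.base := by
  classical
  obtain ⟨hflat, hlfp, -⟩ := hf
  replace hx := (Groth.Curves1.Node.isNode_asFiber_iff f x).1 hx
  obtain ⟨_, ⟨V, hV : IsAffineOpen V, rfl⟩, hxV, -⟩ :=
    S.isBasis_affineOpens.exists_subset_of_mem_open (Set.mem_univ (f x)) isOpen_univ
  obtain ⟨_, ⟨U, hU : IsAffineOpen U, rfl⟩, hxU, e⟩ :=
    X.isBasis_affineOpens.exists_subset_of_mem_open (show x ∈ (f ⁻¹ᵁ V : Set X) from hxV) (f ⁻¹ᵁ V).2
  replace e : U ≤ f ⁻¹ᵁ V := e
  let := (f.appLE V U e).hom.toAlgebra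
  have : Module.Flat Γ(S, V) Γ(X, U) := f.flat_appLE hV hU e
  have : Algebra.FinitePresentation Γ(S, V) Γ(X, U) := f.finitePresentation_appLE hV hU e
  let : (f.fiber (f x)).Over (Spec (CommRingCat.of (S.residueField (f x)))) :=
    ⟨f.fiberToSpecResidueField (f x)⟩
  have hw : f.fiberι (f x) (f.asFiber x) ∈ U := by rwa [f.fiberι_asFiber]
  have hlft : LocallyOfFiniteType ((f.fiber (f x)) ↘ (Spec (CommRingCat.of (S.residueField (f x))))) :=
    inferInstanceAs (LocallyOfFiniteType (pullback.snd f (S.fromSpecResidueField (f x))))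
  have : IsNoetherianRing ((f.fiber (f x)).presheaf.stalk (f.asFiber x)) :=
    Groth.Curves1.Node.isNoetherianRing_stalk (k := S.residueField (f x)) (f.asFiber x)
  obtain ⟨R', X', a, gV, gU, e', hgV, hgU, he, hcomm, z, hz⟩ :=
    Groth.PlaneCurve.NodeNormal.exists_normalForm
      (Groth.Curves1.Node.isFibreLocal_toFibreStalk f hV hU e hxV _ hw)
      ((Groth.Curves1.Node.isFibreNode_iff_isNodeRing f _).1 hx)
  refine ⟨Spec X', Spec R', Spec (CommRingCat.of (Groth.PlaneCurve.NodeNormal.NodalRing a)),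
    Spec.map (CommRingCat.ofHom gU) ≫ hU.fromSpec, Spec.map (CommRingCat.ofHom gV) ≫ hV.fromSpec,
    Spec.map (CommRingCat.ofHom (e'.comp (algebraMap R' (Groth.PlaneCurve.NodeNormal.NodalRing a)))),
    Spec.map (CommRingCat.ofHom e'),
    Spec.map (CommRingCat.ofHom (algebraMap R' (Groth.PlaneCurve.NodeNormal.NodalRing a))),
    Spec.map (CommRingCat.ofHom (Groth.PlaneCurve.NodeNormal.paramHom a)),
    Spec.map (CommRingCat.ofHom (Groth.PlaneCurve.NodeNormal.univHom a)), ?_, ?_, ?_, ?_, ?_,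
    isPullback_SpecMap_of_isPushout _ _ _ _ (Groth.PlaneCurve.NodeNormal.isPushout_nodal a), ?_⟩
  · have : Etale (Spec.map (CommRingCat.ofHom gU)) := HasRingHomProperty.Spec_iff.2 hgU
    infer_instance
  · have : Etale (Spec.map (CommRingCat.ofHom gV)) := HasRingHomProperty.Spec_iff.2 hgV
    infer_instance
  · exact HasRingHomProperty.Spec_iff.2 he
  · rw [Category.assoc, ← hV.SpecMap_appLE_fromSpec f hU e, ← Category.assoc, ← Category.assoc,
      ← Spec.map_comp, ← Spec.map_comp]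
    exact congrArg (fun φ => Spec.map φ ≫ hV.fromSpec) (CommRingCat.hom_ext (RingHom.ext hcomm))
  · rw [← Spec.map_comp]; rfl
  · refine ⟨z, ?_⟩
    have h1 : Spec.map (CommRingCat.ofHom gU) z = hU.primeIdealOf ⟨_, hw⟩ := by
      refine PrimeSpectrum.ext (hz.trans ?_)
      rw [hU.primeIdealOf_eq_map_closedPoint]
      show Ideal.comap _ _ = Ideal.comap _ _
      rw [Groth.Curves1.Node.toFibreStalk, CommRingCat.hom_comp, ← Ideal.comap_comap]
      congr 1
      have : IsLocalHom ((f.fiberι (f x)).stalkMap (f.asFiber x)).hom := inferInstance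
      exact ((IsLocalRing.local_hom_TFAE ((f.fiberι (f x)).stalkMap (f.asFiber x)).hom).out 0 4).1 this
    show hU.fromSpec (Spec.map (CommRingCat.ofHom gU) z) = x
    rw [h1]
    exact (hU.fromSpec_primeIdealOf ⟨_, hw⟩).trans (f.fiberι_asFiber x)

end Groth.Agent.S1637
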