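import Groth.Statements.S16370
import Groth.Agent.PicAux.AbLES
-- import your own Groth.Agent.* helpers here

set_option autoImplicit false
universe u
open CategoryTheory AlgebraicGeometry Opposite
open FrobSch

namespace Groth.Agent.S16370

/-- (ii) ⇒ (iii): let X be a reduced scheme of prime characteristic p, φ the p-th power map on the sheaf
of additive groups underlying O_X (a monomorphism, X being reduced) and B its cokernel in abelian
sheaves. If H^i(X, B) = 0 for all i ≥ 0, then the endomorphism of H^i(X, O_X) induced by φ — the
Hasse–Witt operation — is bijective for all i. (The source has X normal and proper over a perfect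
field; only reducedness enters this implication.) -/
theorem result
    (p : ℕ) [Fact p.Prime] (X : Scheme.{u}) [IsReduced X] (hp : (p : Γ(X, ⊤)) = 0)
    (φ : Coh.toAb (Coh.structureModule X) ⟶ Coh.toAb (Coh.structureModule X))
    (hφ : ∀ (U : X.Opens) (t : Γ(X, U)), φ.hom.app (op U) t = t ^ p)
    (hB : ∀ i : ℕ, Subsingleton (Sheaf.H (Limits.cokernel φ) i))
    (i : ℕ) : Function.Bijective (Sheaf.H.map φ i) := by
  open Groth Groth.PicAux in
  haveI : Mono φ := by
    refine (sheafToPresheaf _ _).mono_of_mono_map (f := φ) ?_
    refine (NatTrans.mono_iff_mono_app _).mpr fun U => (AddCommGrpCat.mono_iff_injective _).mpr ?_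
    refine (injective_iff_map_eq_zero _).mpr fun t ht => ?_
    have h : (show Γ(X, U.unop) from t) ^ p = 0 := (hφ U.unop t).symm.trans ht
    exact (IsReduced.component_reduced U.unop).eq_zero _ ⟨p, h⟩
  let T : ShortComplex (CohBase.AbSheaf X.toTopCat) := ShortComplex.mk φ (Limits.cokernel.π φ) (Limits.cokernel.condition φ)
  have hT : T.ShortExact :=
    { exact := ShortComplex.exact_of_g_is_cokernel _ (Limits.cokernelIsCokernel φ)
      mono_f := inferInstanceAs (Mono φ)
      epi_g := inferInstanceAs (Epi (Limits.cokernel.π φ)) }
  refine ⟨?_, fun x => AbLES.exists_of_hmap_g_eq_zero (S := T) hT i ((hB i).elim _ _)⟩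
  cases i with
  | zero => exact AbLES.hmap_f_zero_injective (S := T) hT
  | succ n =>
    refine (injective_iff_map_eq_zero _).mpr fun x hx => ?_
    obtain ⟨y, rfl⟩ := AbLES.exists_of_hmap_f_eq_zero (S := T) hT n hx
    rw [(hB n).elim y 0, map_zero]

end Groth.Agent.S16370
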