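import Groth.Statements.S16371
import Mathlib.RingTheory.Adjoin.Basic
import Mathlib.Tactic
import Mathlib.Algebra.CharP.Lemmas

set_option autoImplicit false
universe u v w
open FrobAlg

namespace Groth.Agent.S16371

/-- Let p be a prime, A a commutative ring and B, C commutative A-algebras with p² = 0 in B. If two
A-algebra maps g₁, g₂ : C → B agree modulo p, then they agree on every element of C which is
congruent modulo p to an element of the A-subalgebra generated by the p-th powers. (The source
states this for liftings over a flat ℤ/p²-thickening of two smooth schemes and the subsheaf of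
functions whose reduction lies in the image of the relative Frobenius; the smoothness and lifting
hypotheses are not needed for the identity.) -/
theorem result
    (p : ℕ) [Fact p.Prime] (A : Type u) [CommRing A] (B : Type v) [CommRing B] [Algebra A B]
    (C : Type w) [CommRing C] [Algebra A C] (hp : (p : B) ^ 2 = 0)
    (g₁ g₂ : C →ₐ[A] B) (hg : ∀ x : C, g₁ x - g₂ x ∈ Ideal.span ({(p : B)} : Set B))
    (x y : C) (hy : y ∈ Algebra.adjoin A (Set.range fun c : C => c ^ p))
    (hxy : x - y ∈ Ideal.span ({(p : C)} : Set C)) :
    g₁ x = g₂ x := by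
  have hprime : p.Prime := Fact.out
  have hpow : ∀ c : C, g₁ (c ^ p) = g₂ (c ^ p) := fun c => by
    obtain ⟨t, ht⟩ := Ideal.mem_span_singleton.1 (hg c)
    obtain ⟨r, hr⟩ := exists_add_pow_prime_eq hprime (g₂ c) ((p : B) * t)
    rw [map_pow, map_pow, show g₁ c = g₂ c + (p : B) * t by rw [← ht]; ring, hr, mul_pow,
      pow_eq_zero_of_le hprime.two_le hp]
    linear_combination (g₂ c * t * r) * hp
  obtain ⟨z, hz⟩ := Ideal.mem_span_singleton.1 hxy
  obtain ⟨t, ht⟩ := Ideal.mem_span_singleton.1 (hg z)
  have hy' : g₁ y = g₂ y := by
    refine (AlgHom.adjoin_le_equalizer g₁ g₂ ?_) hy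
    rintro _ ⟨c, rfl⟩
    exact hpow c
  rw [show x = y + (p : C) * z by rw [← hz]; ring, map_add, map_add, map_mul, map_mul, map_natCast, map_natCast,
    hy', show g₁ z = g₂ z + (p : B) * t by rw [← ht]; ring]
  linear_combination t * hp

end Groth.Agent.S16371
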