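import Groth.Statements.S16373
import Groth.Agent.S16372
import Mathlib.RingTheory.WittVector.Teichmuller

set_option autoImplicit false
universe u
open FrobAlg

namespace Groth.Agent.S16373

/-- Let p be a prime, m ≥ 1, R a commutative ring with p = 0 in R and σ : W_m(R) → R a quasi-F-splitting
of level m (additive, σ(1) = 1, σ(F(x)·y) = x₀·σ(y) with F the componentwise p-th power). Let I ⊆
W_{m+1}(R) be the ideal generated by the shifts V(x) of the x with σ(x) = 0, and Q = W_{m+1}(R)/I.
Then Q is a flat lifting of R modulo p²: an element of Q lies in pQ exactly when the first Witt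
component of a representative vanishes (so Q/pQ is R through the first component), and an element of
Q is killed by p exactly when it lies in pQ. (Stated for a ring; the source has a scheme over the
prime field. For m = 1 this is the lifting attached to a Frobenius splitting.) -/
theorem result
    (p : ℕ) [Fact p.Prime] (m : ℕ) (hm : 0 < m) (R : Type u) [CommRing R] (hp : (p : R) = 0)
    (σ : TruncatedWittVector p m R →+ R) (h1 : σ 1 = 1)
    (hF : ∀ x y : TruncatedWittVector p m R, σ (WittGrp.frob p m hp x * y) = x.coeff ⟨0, hm⟩ * σ y)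
    (I : Ideal (TruncatedWittVector p (m + 1) R))
    (hI : I = Ideal.span (WittGrp.shift p (Nat.le_succ m) '' {x : TruncatedWittVector p m R | σ x = 0})) :
    (∀ w : TruncatedWittVector p (m + 1) R,
        Ideal.Quotient.mk I w ∈ Ideal.span ({(p : TruncatedWittVector p (m + 1) R ⧸ I)} : Set _) ↔
          w.coeff 0 = 0) ∧
    (∀ q : TruncatedWittVector p (m + 1) R ⧸ I,
        (p : TruncatedWittVector p (m + 1) R ⧸ I) * q = 0 ↔
          q ∈ Ideal.span ({(p : TruncatedWittVector p (m + 1) R ⧸ I)} : Set _)) := by
  have hmem : ∀ w, w ∈ I ↔ ∃ x, σ x = 0 ∧ WittGrp.shift p (Nat.le_succ m) x = w := by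
    subst hI
    refine fun w => ⟨fun hw => ?_, fun ⟨x, hx, e⟩ => Ideal.subset_span ⟨x, hx, e⟩⟩
    induction hw using Submodule.span_induction with
    | mem w hw => obtain ⟨x, hx, rfl⟩ := hw; exact ⟨x, hx, rfl⟩
    | zero => exact ⟨0, map_zero σ, map_zero _⟩
    | add a b _ _ ha hb =>
      obtain ⟨x, hx, rfl⟩ := ha; obtain ⟨z, hz, rfl⟩ := hb
      exact ⟨x + z, by rw [map_add, hx, hz, add_zero], map_add _ _ _⟩
    | smul c a _ ha =>
      obtain ⟨x, hx, rfl⟩ := ha
      exact ⟨_, by rw [hF, hx, mul_zero], (Groth.Agent.S16372.shift_mul hp c x).symm⟩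
  have hp' : ∀ w : TruncatedWittVector p (m + 1) R, (p : TruncatedWittVector p (m + 1) R) * w =
      WittGrp.shift p (Nat.le_succ m)
        (WittGrp.frob p m hp (TruncatedWittVector.truncate (Nat.le_succ m) w)) := fun w => by
    rcases subsingleton_or_nontrivial R with h | h
    · exact TruncatedWittVector.ext fun i => Subsingleton.elim _ _
    have : CharP R p := (CharP.charP_iff_prime_eq_zero Fact.out).mpr hp
    obtain ⟨W, rfl⟩ := WittVector.truncate_surjective p (m + 1) R w
    rw [TruncatedWittVector.truncate_wittVector_truncate, WittGrp.frob_truncate, WittGrp.shift_truncate,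
      ← map_natCast (WittVector.truncate (p := p) (R := R) (m + 1)), ← map_mul]
    simp only [Nat.succ_sub (le_refl m), Nat.sub_self, Function.iterate_succ, Function.iterate_zero,
      Function.comp_apply, id_eq]
    rw [WittVector.verschiebung_frobenius, mul_comm]
  have h0 : ∀ x : TruncatedWittVector p m R, (WittGrp.shift p (Nat.le_succ m) x).coeff 0 = 0 := fun x => by
    rw [WittGrp.coeff_shift, dif_neg]
    simp only [Fin.val_zero]
    omega
  have hinj : Function.Injective (WittGrp.shift p (R := R) (Nat.le_succ m)) := fun a b e => by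
    refine TruncatedWittVector.ext fun i => ?_
    have := congrArg (fun z => TruncatedWittVector.coeff (⟨i + 1, by omega⟩ : Fin (m + 1)) z) e
    simp only [WittGrp.coeff_shift] at this
    rw [dif_pos (by omega), dif_pos (by omega)] at this
    have hi : (⟨(i : ℕ) + 1 - (m + 1 - m), by omega⟩ : Fin m) = i := Fin.ext (by simp)
    rwa [hi] at this
  have hσF : ∀ x, σ (WittGrp.frob p m hp x) = x.coeff ⟨0, hm⟩ := fun x => by
    have := hF x 1
    rwa [mul_one, h1, mul_one] at this
  have hback : ∀ w : TruncatedWittVector p (m + 1) R, w.coeff 0 = 0 →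
      Ideal.Quotient.mk I w ∈ Ideal.span {(p : TruncatedWittVector p (m + 1) R ⧸ I)} := by
    intro w hw
    obtain ⟨a, rfl⟩ : ∃ a, WittGrp.shift p (Nat.le_succ m) a = w := by
      refine ⟨TruncatedWittVector.mk p fun i => w.coeff ⟨i + 1, by omega⟩,
        TruncatedWittVector.ext fun i => ?_⟩
      rw [WittGrp.coeff_shift]
      split_ifs with hi
      · rw [TruncatedWittVector.coeff_mk]
        congr 1
        exact Fin.ext (by simp; omega)
      · have : i = 0 := Fin.ext (by rw [Fin.val_zero]; omega)
        rw [this, hw]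
    set v : TruncatedWittVector p (m + 1) R :=
      WittVector.truncate (m + 1) (WittVector.teichmuller p (σ a))
    refine Ideal.mem_span_singleton.2 ⟨Ideal.Quotient.mk I v, ?_⟩
    rw [← map_natCast (Ideal.Quotient.mk I), ← map_mul, Ideal.Quotient.eq, hmem]
    refine ⟨a - WittGrp.frob p m hp (TruncatedWittVector.truncate (Nat.le_succ m) v), ?_, ?_⟩
    · rw [map_sub, hσF, TruncatedWittVector.truncate_wittVector_truncate, WittVector.coeff_truncate,
        WittVector.teichmuller_coeff_zero, sub_self]
    · rw [map_sub, hp']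
  have htr : ∀ w : TruncatedWittVector p (m + 1) R,
      σ (WittGrp.frob p m hp (TruncatedWittVector.truncate (Nat.le_succ m) w)) = w.coeff 0 := fun w => by
    rw [hσF, TruncatedWittVector.coeff_truncate]
    exact congrArg (fun i => TruncatedWittVector.coeff i w) (Fin.ext rfl)
  constructor
  · refine fun w => ⟨fun hw => ?_, hback w⟩
    obtain ⟨q, hq⟩ := Ideal.mem_span_singleton.1 hw
    obtain ⟨v, rfl⟩ := Ideal.Quotient.mk_surjective q
    rw [← map_natCast (Ideal.Quotient.mk I), ← map_mul, Ideal.Quotient.eq, hmem] at hq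
    obtain ⟨x, -, hx⟩ := hq
    have : w = WittGrp.shift p (Nat.le_succ m)
        (x + WittGrp.frob p m hp (TruncatedWittVector.truncate (Nat.le_succ m) v)) := by
      rw [map_add, hx, ← hp', sub_add_cancel]
    rw [this, h0]
  · refine fun q => ⟨fun hq => ?_, fun hq => ?_⟩
    · obtain ⟨w, rfl⟩ := Ideal.Quotient.mk_surjective q
      rw [← map_natCast (Ideal.Quotient.mk I), ← map_mul, Ideal.Quotient.eq_zero_iff_mem, hmem] at hq
      obtain ⟨x, hx, hxe⟩ := hq
      rw [hp'] at hxe
      rw [hinj hxe, htr] at hx
      exact hback w hx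
    · obtain ⟨r, rfl⟩ := Ideal.mem_span_singleton.1 hq
      obtain ⟨v, rfl⟩ := Ideal.Quotient.mk_surjective r
      rw [← map_natCast (Ideal.Quotient.mk I), ← map_mul, ← map_mul, Ideal.Quotient.eq_zero_iff_mem, hmem]
      refine ⟨_, ?_, (hp' _).symm⟩
      rw [htr, hp', h0]

end Groth.Agent.S16373
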