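import Groth.Statements.S16374
import Mathlib.RingTheory.Adjoin.Basic
import Mathlib.RingTheory.Kaehler.Basic

set_option autoImplicit false
universe u v w
open FrobAlg

namespace Groth.Agent.S16374

/-- Let p be a prime, A a commutative ring, B and C commutative A-algebras with p² = 0 in B, and g : C →
B an A-algebra map such that every g(c) is congruent modulo p to an element of the A-subalgebra of B
generated by the p-th powers (g lifts a relative Frobenius). Then d(g(x)) = 0 in the module of
Kähler differentials of B over A for every x ∈ C that is congruent modulo p to an element of the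
A-subalgebra of C generated by the p-th powers. (The source works with a lifting of the relative
Frobenius of a smooth scheme over a ℤ/p²-thickening and the subsheaf of functions whose reduction
comes from the Frobenius twist; smoothness is not needed for this vanishing.) -/
theorem result
    (p : ℕ) [Fact p.Prime] (A : Type u) [CommRing A] (B : Type v) [CommRing B] [Algebra A B]
    (C : Type w) [CommRing C] [Algebra A C] (hp : (p : B) ^ 2 = 0)
    (g : C →ₐ[A] B)
    (hg : ∀ c : C, ∃ u ∈ Algebra.adjoin A (Set.range fun b : B => b ^ p),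
      g c - u ∈ Ideal.span ({(p : B)} : Set B))
    (x y : C) (hy : y ∈ Algebra.adjoin A (Set.range fun c : C => c ^ p))
    (hxy : x - y ∈ Ideal.span ({(p : C)} : Set C)) :
    KaehlerDifferential.D A B (g x) = 0 := by
  have hprime : p.Prime := Fact.out
  have hadj : ∀ u ∈ Algebra.adjoin A (Set.range fun b : B => b ^ p),
      ∃ ω, KaehlerDifferential.D A B u = (p : B) • ω := by
    intro u hu
    induction hu using Algebra.adjoin_induction with
    | mem b hb =>
      obtain ⟨b, rfl⟩ := hb
      exact ⟨b ^ (p - 1) • KaehlerDifferential.D A B b, by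
        rw [Derivation.leibniz_pow, Nat.cast_smul_eq_nsmul]⟩
    | algebraMap a => exact ⟨0, by simp⟩
    | add a b _ _ ha hb =>
      obtain ⟨α, hα⟩ := ha; obtain ⟨β, hβ⟩ := hb
      exact ⟨α + β, by rw [map_add, hα, hβ, smul_add]⟩
    | mul a b _ _ ha hb =>
      obtain ⟨α, hα⟩ := ha; obtain ⟨β, hβ⟩ := hb
      exact ⟨a • β + b • α, by rw [Derivation.leibniz, hα, hβ, smul_add, smul_comm a, smul_comm b]⟩
  have hgp : ∀ c, ∃ ω, KaehlerDifferential.D A B (g c) = (p : B) • ω := fun c => by
    obtain ⟨v, hv, hgv⟩ := hg c
    obtain ⟨w, hw⟩ := Ideal.mem_span_singleton.1 hgv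
    obtain ⟨ω, hω⟩ := hadj v hv
    refine ⟨ω + KaehlerDifferential.D A B w, ?_⟩
    rw [show g c = v + (p : B) * w by rw [← hw]; ring, map_add, hω, Derivation.leibniz,
      Derivation.map_natCast, smul_zero, add_zero, smul_add]
  have hp2 : ∀ ω : KaehlerDifferential A B, (p : B) • (p : B) • ω = 0 := fun ω => by
    rw [smul_smul, ← sq, hp, zero_smul]
  have hy' : KaehlerDifferential.D A B (g y) = 0 := by
    clear hxy
    induction hy using Algebra.adjoin_induction with
    | mem b hb =>
      obtain ⟨b, rfl⟩ := hb
      obtain ⟨ω, hω⟩ := hgp b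
      rw [map_pow, Derivation.leibniz_pow, hω, ← Nat.cast_smul_eq_nsmul B, smul_comm ((g b) ^ (p - 1)),
        hp2]
    | algebraMap a => rw [AlgHom.commutes, Derivation.map_algebraMap]
    | add a b _ _ ha hb => rw [map_add, map_add, ha, hb, add_zero]
    | mul a b _ _ ha hb => rw [map_mul, Derivation.leibniz, ha, hb, smul_zero, smul_zero, add_zero]
  obtain ⟨z, hz⟩ := Ideal.mem_span_singleton.1 hxy
  obtain ⟨ω, hω⟩ := hgp z
  rw [show x = y + (p : C) * z by rw [← hz]; ring, map_add, map_mul, map_natCast, map_add, hy',
    Derivation.leibniz, Derivation.map_natCast, smul_zero, add_zero, hω, hp2, add_zero]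

end Groth.Agent.S16374
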