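import Groth.Statements.S1638
import Mathlib.Algebra.Algebra.Subalgebra.Centralizer
import Mathlib.LinearAlgebra.Basis.VectorSpace
-- import your own Groth.Agent.* helpers here

set_option autoImplicit false
universe u
open Brauer

namespace Groth.Agent.S1638

/-- Let A and A' be algebras over a field k with subalgebras B ⊆ A and B' ⊆ A' having centralizers C and
C'. Then the centralizer of the image of B ⊗ B' in A ⊗_k A' is the image of C ⊗_k C'. -/
theorem result (k : Type u) [Field k] (A A' : Type u) [Ring A] [Ring A'] [Algebra k A] [Algebra k A']
    (B : Subalgebra k A) (B' : Subalgebra k A') :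
    Subalgebra.centralizer k ((Algebra.TensorProduct.map B.val B'.val).range : Set (TensorProduct k A A')) =
      (Algebra.TensorProduct.map (Subalgebra.centralizer k (B : Set A)).val (Subalgebra.centralizer k (B' : Set A')).val).range := by
  apply le_antisymm
  · intro w hw
    rw [Algebra.TensorProduct.map_range, Subalgebra.centralizer_coe_sup] at hw
    obtain ⟨hw1, hw2⟩ := hw
    rw [AlgHom.range_comp, Subalgebra.range_val] at hw1 hw2
    rw [SetLike.mem_coe, Subalgebra.centralizer_coe_map_includeLeft_eq_center_tensorProduct] at hw1
    rw [SetLike.mem_coe, Subalgebra.centralizer_coe_map_includeRight_eq_center_tensorProduct] at hw2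
    set C := Subalgebra.centralizer k (B : Set A)
    set C' := Subalgebra.centralizer k (B' : Set A')
    obtain ⟨y, rfl⟩ := hw1
    obtain ⟨z, hz⟩ := hw2
    obtain ⟨p, hp⟩ := C'.val.toLinearMap.exists_leftInverse_of_injective
      (LinearMap.ker_eq_bot.2 Subtype.val_injective)
    have hp' : ∀ c : C', p c = c := fun c => LinearMap.congr_fun hp c
    let q : A' →ₗ[k] A' := C'.val.toLinearMap ∘ₗ p
    have h1 : ∀ z, TensorProduct.map LinearMap.id q (Algebra.TensorProduct.map (AlgHom.id k A) C'.val z)
        = Algebra.TensorProduct.map (AlgHom.id k A) C'.val z := by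
      intro z
      induction z using TensorProduct.induction_on with
      | zero => simp
      | tmul a c => simp [q, hp']
      | add a b ha hb => simp only [map_add, ha, hb]
    have h2 : ∀ y, TensorProduct.map LinearMap.id q (Algebra.TensorProduct.map C.val (AlgHom.id k A') y)
        ∈ (Algebra.TensorProduct.map C.val C'.val).range := by
      intro y
      induction y using TensorProduct.induction_on with
      | zero => simp
      | tmul c a => exact ⟨c ⊗ₜ p a, by simp [q]⟩
      | add a b ha hb => simp only [map_add]; exact add_mem ha hb
    have hz' : Algebra.TensorProduct.map (AlgHom.id k A) C'.val z =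
        Algebra.TensorProduct.map C.val (AlgHom.id k A') y := hz
    have := h2 y
    rw [← hz', h1, hz'] at this
    exact this
  · rintro _ ⟨w, rfl⟩
    rw [Subalgebra.mem_centralizer_iff]
    rintro _ ⟨b, rfl⟩
    induction w using TensorProduct.induction_on with
    | zero => simp
    | add x y hx hy => rw [map_add, mul_add, add_mul, hx, hy]
    | tmul c c' =>
      induction b using TensorProduct.induction_on with
      | zero => simp
      | add x y hx hy => rw [map_add, mul_add, add_mul, hx, hy]
      | tmul x x' =>
        show ((x : A) ⊗ₜ[k] (x' : A')) * ((c : A) ⊗ₜ[k] (c' : A')) = ((c : A) ⊗ₜ[k] (c' : A')) * ((x : A) ⊗ₜ[k] (x' : A'))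
        simp only [Algebra.TensorProduct.tmul_mul_tmul]
        rw [(Subalgebra.mem_centralizer_iff _).1 c.2 _ x.2, (Subalgebra.mem_centralizer_iff _).1 c'.2 _ x'.2]

end Groth.Agent.S1638
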