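import Groth.Statements.S16387
import Groth.Agent.AbVarMul.IsogenyPts
import Groth.Agent.FBaseGeom.Dim
import Groth.Agent.FibreDim.GroupScheme

set_option autoImplicit false
universe u
open CategoryTheory MonoidalCategory CartesianMonoidalCategory MonObj GrpObj AlgebraicGeometry
open AbVar

namespace Groth.Agent.S16387

/-- Let k be a finite field with algebraic closure Ω, l a prime number invertible in k, and A, B abelian
varieties over k (proper, geometrically integral commutative group schemes over k). If the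
homomorphism i : A → B is injective (a closed immersion), then the induced ℤ_l-linear map between
the l-adic Tate modules of Ω-points T_l(i) : T_l A → T_l B is injective with torsion-free, hence
free, cokernel: the quotient of T_l B by the image of T_l A is a free ℤ_l-module. -/
theorem result (k Ω : Type u) [Field k] [Finite k]
    [Field Ω] [Algebra k Ω] [IsAlgClosure k Ω] (l : ℕ) [Fact l.Prime] (hl : (l : k) ≠ 0)
    (A B : Over (Spec (CommRingCat.of k))) [GrpObj A] [IsCommMonObj A] [IsProper A.hom] [GeometricallyIntegral A.hom]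
    [GrpObj B] [IsCommMonObj B] [IsProper B.hom] [GeometricallyIntegral B.hom]
    (i : A ⟶ B) [IsMonHom i] [IsClosedImmersion i.left] :
    Function.Injective (AbDual.tateMapₗ (l := l) (T := SGA7.pt Ω) i) ∧
      Module.Free ℤ_[l] (AbDual.TateMod B l (SGA7.pt Ω) ⧸
        LinearMap.range (AbDual.tateMapₗ (l := l) (T := SGA7.pt Ω) i)) := by
  have : IsAlgClosed Ω := IsAlgClosure.isAlgClosed k
  have hlΩ : (l : Ω) ≠ 0 := fun h => hl ((algebraMap k Ω).injective (by rw [map_natCast, h, map_zero]))
  have hinj := Groth.AbVarMul.tateMapₗ_injective_of_finite (l := l) i (Groth.AbVarMul.finite_ker_bc Ω i)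
  have hmono : Mono i := Over.mono_of_mono_left i
  refine ⟨hinj, ?_⟩
  have : IsProper ((Groth.AbVarMul.bcF Ω).obj B).hom := Groth.AbVarMul.isProper_bcF Ω B
  obtain ⟨g, hg⟩ := Groth.FibreDim.exists_dim_eq_nat B
  obtain ⟨E⟩ := Groth.AbVarMul.nonempty_tateMod_bc (A := B) Ω (g := g)
    ((Groth.FBaseGeom.dim_bc B.hom Ω).trans hg) hlΩ
  have : Module.Finite ℤ_[l] (AbDual.TateMod B l (SGA7.pt Ω)) := Module.Finite.equiv E
  have : Module.IsTorsionFree ℤ_[l] (AbDual.TateMod B l (SGA7.pt Ω)) :=
    E.symm.injective.moduleIsTorsionFree E.symm (map_smul E.symm)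
  set R := LinearMap.range (AbDual.tateMapₗ (l := l) (T := SGA7.pt Ω) i)
  have hdiv : ∀ y : AbDual.TateMod B l (SGA7.pt Ω), (l : ℤ_[l]) • y ∈ R → y ∈ R := by
    rintro y ⟨x, hx⟩
    have h1 : (x : ℕ → Additive (SGA7.pt Ω ⟶ A)) 1 = 0 := by
      refine congrArg Additive.ofMul (?_ : ((x : ℕ → Additive (SGA7.pt Ω ⟶ A)) 1).toMul = 1)
      rw [← cancel_mono i, MonObj.one_comp]
      refine (congrArg (fun w : AbDual.TateMod B l (SGA7.pt Ω) =>
        ((w : ℕ → Additive (SGA7.pt Ω ⟶ B)) 1).toMul) hx).trans ?_
      refine congrArg Additive.toMul ((Groth.AbVarMul.component_natCast_smul l y 1).trans ?_)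
      have h := y.torsion 1; rw [pow_one] at h; exact h
    obtain ⟨x', rfl⟩ := Groth.AbVarMul.exists_eq_smul x h1
    rw [← Nat.cast_smul_eq_nsmul ℤ_[l], map_smul] at hx
    exact ⟨x', smul_right_injective _ (by exact_mod_cast (Fact.out : l.Prime).ne_zero : (l : ℤ_[l]) ≠ 0) hx⟩
  have htf : Module.IsTorsionFree ℤ_[l] (AbDual.TateMod B l (SGA7.pt Ω) ⧸ R) := by
    refine Module.IsTorsionFree.of_smul_eq_zero fun c q hcq => ?_
    by_cases hc : c = 0
    · exact Or.inl hc
    refine Or.inr ?_
    obtain ⟨y, rfl⟩ := Submodule.Quotient.mk_surjective R q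
    rw [← Submodule.Quotient.mk_smul, Submodule.Quotient.mk_eq_zero] at hcq
    rw [Submodule.Quotient.mk_eq_zero]
    rw [PadicInt.unitCoeff_spec hc, mul_smul] at hcq
    have := (Submodule.smul_mem_iff' _ (PadicInt.unitCoeff hc)).1 hcq
    clear hcq
    generalize c.valuation = m at this
    induction m with
    | zero => simpa using this
    | succ m ih =>
      rw [pow_succ', mul_smul] at this
      exact ih (hdiv _ this)
  exact Module.free_of_finite_type_torsion_free'


end Groth.Agent.S16387
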