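import Groth.Statements.S1639
import Groth.Agent.RefRank.Norm.Ample
import Groth.Agent.RefRank.Norm.Normal
import Groth.Agent.RefRank.Norm.Component
import Groth.Agent.Chow.VeryAmplePn
-- import your own Groth.Agent.* helpers here

set_option autoImplicit false
universe u
open CategoryTheory CategoryTheory.Limits AlgebraicGeometry
open Divisors

namespace Groth.Agent.S1639

/-- Let π : X → Y be finite and surjective, with Y integral and normal. If X has an ample invertible
module then so does Y. -/
theorem result {X Y : Scheme.{u}} (π : X ⟶ Y) [IsFinite π] [Surjective π]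
    [IsIntegral Y] (hY : Pi1.IsNormalScheme Y) (L : X.Modules) (hL : CohB1.IsAmple L) :
    ∃ M : Y.Modules, CohB1.IsAmple M := by
  obtain ⟨X', i, hi, hX', hs⟩ := Groth.RefRank.exists_integral_closed_surjective π
  exact (Groth.RefRank.normalPreNorm (i ≫ π) hY).exists_isAmple
    (Groth.Chow.isAmple_pullback_of_isAffineHom i hL)

end Groth.Agent.S1639
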