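import Groth.Statements.S16390
import Mathlib

set_option autoImplicit false
open AbVar

namespace Groth.Agent.S16390

/-- Let p be a prime number, r > 2 and q = p^r. The polynomial x² − p x + q is irreducible over ℚ, each
of its complex roots has absolute value √q (so its roots are Weil q-numbers), and it has two
distinct roots in ℚ_p, of p-adic valuations 1 and r − 1. The published lemma also computes the index
of the endomorphism algebra of the simple abelian variety attached to a root; this row does not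
state that part. -/
theorem result (p r : ℕ) [Fact p.Prime] (hr : 2 < r) :
    Irreducible (Polynomial.X ^ 2 - Polynomial.C (p : ℚ) * Polynomial.X + Polynomial.C ((p : ℚ) ^ r)) ∧
      (∀ π : ℂ, π ^ 2 - (p : ℂ) * π + (p : ℂ) ^ r = 0 → ‖π‖ = Real.sqrt ((p : ℝ) ^ r)) ∧
      ∃ a b : ℚ_[p], a ≠ b ∧ a ^ 2 - (p : ℚ_[p]) * a + (p : ℚ_[p]) ^ r = 0 ∧
        b ^ 2 - (p : ℚ_[p]) * b + (p : ℚ_[p]) ^ r = 0 ∧ a.valuation = 1 ∧ b.valuation = (r : ℤ) - 1 := by
  obtain ⟨s, hs⟩ : ∃ s : ℕ, r = s + 3 := ⟨r - 3, by omega⟩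
  subst hs
  have hp : p.Prime := Fact.out
  have hp2 := hp.two_le
  have hp0 : (0 : ℝ) < p := by exact_mod_cast hp.pos
  have hdisc : (p : ℝ) ^ 2 < 4 * (p : ℝ) ^ (s + 3) := by
    have h1 : (p : ℝ) ^ 2 ≤ (p : ℝ) ^ (s + 3) := pow_le_pow_right₀ (by exact_mod_cast hp.one_le) (by omega)
    nlinarith [pow_pos hp0 (s + 3)]
  refine ⟨?_, ?_, ?_⟩
  · have hd : (Polynomial.X ^ 2 - Polynomial.C (p : ℚ) * Polynomial.X +
        Polynomial.C ((p : ℚ) ^ (s + 3))).natDegree = 2 := by compute_degree!
    rw [Polynomial.irreducible_iff_roots_eq_zero_of_degree_le_three (by omega) (by omega),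
      Multiset.eq_zero_iff_forall_notMem]
    intro x hx
    have hroot := (Polynomial.mem_roots'.mp hx).2
    simp only [Polynomial.IsRoot.def, Polynomial.eval_add, Polynomial.eval_sub, Polynomial.eval_mul,
      Polynomial.eval_pow, Polynomial.eval_X, Polynomial.eval_C] at hroot
    have hr' : (x : ℝ) ^ 2 - p * x + (p : ℝ) ^ (s + 3) = 0 := by exact_mod_cast hroot
    nlinarith [sq_nonneg ((x : ℝ) - p / 2)]
  · intro π hπ
    have him : π.im ≠ 0 := by
      intro h0
      have h1 := congrArg Complex.re hπ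
      simp [sq, h0] at h1
      norm_cast at h1
      push_cast at h1
      nlinarith [sq_nonneg (π.re - (p : ℝ) / 2)]
    obtain ⟨h1, h2⟩ := Complex.ext_iff.mp hπ
    have e : ((p : ℂ) ^ (s + 3)) = (((p : ℝ) ^ (s + 3) : ℝ) : ℂ) := by push_cast; ring
    rw [e] at h1 h2
    simp only [sq, Complex.ofReal_re, Complex.ofReal_im, Complex.add_re, Complex.add_im, Complex.sub_re, Complex.sub_im, Complex.mul_re, Complex.mul_im, Complex.natCast_re, Complex.natCast_im, Complex.zero_re, Complex.zero_im, zero_mul, sub_zero, add_zero] at h1 h2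
    have hre : 2 * π.re = p := by
      have : π.im * (2 * π.re - p) = 0 := by linear_combination h2
      linarith [(mul_eq_zero.mp this).resolve_left him]
    rw [Complex.norm_def, Complex.normSq_apply]
    congr 1
    nlinarith
  · set T : Polynomial ℤ_[p] := Polynomial.X ^ 2 - Polynomial.X + Polynomial.C ((p : ℤ_[p]) ^ (s + 1)) with hT
    have hn : ‖Polynomial.aeval (1 : ℤ_[p]) T‖ < ‖Polynomial.aeval (1 : ℤ_[p]) (Polynomial.derivative T)‖ ^ 2 := by
      have e1 : Polynomial.aeval (1 : ℤ_[p]) T = (p : ℤ_[p]) ^ (s + 1) := by simp [hT]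
      have e2 : Polynomial.aeval (1 : ℤ_[p]) (Polynomial.derivative T) = 1 := by
        rw [hT, Polynomial.derivative_add, Polynomial.derivative_C, add_zero]
        norm_num [Polynomial.derivative_X_pow]
      rw [e1, e2, norm_one, one_pow, norm_pow, PadicInt.norm_p]
      exact pow_lt_one₀ (inv_nonneg.mpr (Nat.cast_nonneg _))
        (inv_lt_one_of_one_lt₀ (by exact_mod_cast hp.one_lt)) (Nat.succ_ne_zero s)
    obtain ⟨t, ht, htclose, -, -⟩ := hensels_lemma hn
    have e2 : Polynomial.aeval (1 : ℤ_[p]) (Polynomial.derivative T) = 1 := by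
        rw [hT, Polynomial.derivative_add, Polynomial.derivative_C, add_zero]
        norm_num [Polynomial.derivative_X_pow]
    rw [e2, norm_one] at htclose
    have ht1 : ‖t‖ = 1 := by
      have := PadicInt.norm_add_eq_max_of_ne (q := t - 1) (r := 1) (by rw [norm_one]; exact htclose.ne)
      rw [sub_add_cancel, norm_one, max_eq_right htclose.le] at this
      exact this
    have hteq : (t : ℚ_[p]) ^ 2 - t + (p : ℚ_[p]) ^ (s + 1) = 0 := by
      have : t ^ 2 - t + (p : ℤ_[p]) ^ (s + 1) = 0 := by simpa [hT] using ht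
      have h' := congrArg (fun x : ℤ_[p] => (x : ℚ_[p])) this
      push_cast at h'
      exact h'
    have htn : ‖(t : ℚ_[p])‖ = 1 := ht1
    have ht0 : (t : ℚ_[p]) ≠ 0 := norm_ne_zero_iff.mp (by rw [htn]; exact one_ne_zero)
    have hpq : (p : ℚ_[p]) ≠ 0 := Nat.cast_ne_zero.mpr hp.ne_zero
    have hvt : (t : ℚ_[p]).valuation = 0 := by
      have := Padic.norm_eq_zpow_neg_valuation ht0
      rw [htn] at this
      have h1 : ((p : ℝ)) ^ (-(t : ℚ_[p]).valuation) = (p : ℝ) ^ (0 : ℤ) := by rw [zpow_zero]; exact this.symm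
      have := zpow_right_injective₀ hp0 (by exact_mod_cast hp.one_lt.ne') h1
      omega
    refine ⟨p * t, (p : ℚ_[p]) ^ (s + 2) / t, ?_, ?_, ?_, ?_, ?_⟩
    · intro h
      have := congrArg Padic.valuation h
      rw [Padic.valuation_mul hpq ht0, div_eq_mul_inv,
        Padic.valuation_mul (pow_ne_zero _ hpq) (inv_ne_zero ht0), Padic.valuation_inv,
        Padic.valuation_pow, Padic.valuation_p, hvt] at this
      push_cast at this
      omega
    · linear_combination (p : ℚ_[p]) ^ 2 * hteq
    · field_simp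
      linear_combination (p : ℚ_[p]) ^ (s + 3) * hteq
    · rw [Padic.valuation_mul hpq ht0, Padic.valuation_p, hvt]; rfl
    · rw [div_eq_mul_inv, Padic.valuation_mul (pow_ne_zero _ hpq) (inv_ne_zero ht0), Padic.valuation_inv,
        Padic.valuation_pow, Padic.valuation_p, hvt]
      push_cast
      omega

end Groth.Agent.S16390
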