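import Groth.Statements.S16394
import Mathlib
import Groth.Agent.AlgGrp1.Sub
import Groth.Agent.PropsBasic2.NoethScheme

set_option autoImplicit false
universe u
open CategoryTheory MonoidalCategory CartesianMonoidalCategory MonObj GrpObj AlgebraicGeometry
open AbVar

namespace Groth.Agent.S16394

/-- (b₁) ⇒ (c₁): let k be a finite field and X, A abelian varieties over k (proper, geometrically
integral commutative group schemes over k). Suppose the common kernel of all homomorphisms X → A is
trivial: every T-valued point of X over k that is sent to the unit by every homomorphism X → A is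
the unit point (this is condition (b₁) for the trivial subgroup). Then there are finitely many
homomorphisms ψ_1, …, ψ_n : X → A which are jointly monomorphic on T-valued points — two T-valued
points of X with the same image under every ψ_i are equal — so that (ψ_i) is an injective
homomorphism X → A^n. The published statement restricts X and A to abelian varieties whose Frobenius
is killed by a fixed polynomial; this row has no such restriction. -/
theorem result
    (k : Type u) [Field k] [Finite k] (X A : Over (Spec (CommRingCat.of k))) [GrpObj X] [IsCommMonObj X] [IsProper X.hom] [GeometricallyIntegral X.hom]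
    [GrpObj A] [IsCommMonObj A] [IsProper A.hom] [GeometricallyIntegral A.hom]
    (hsep : ∀ (T : Over (Spec (CommRingCat.of k))) (x : T ⟶ X), (∀ f : EndAV.Hom X A, x ≫ f.toHom = 1) → x = 1) :
    ∃ (n : ℕ) (ψ : Fin n → EndAV.Hom X A), ∀ (T : Over (Spec (CommRingCat.of k))) (x y : T ⟶ X),
      (∀ i, x ≫ (ψ i).toHom = y ≫ (ψ i).toHom) → x = y := by
  classical
  haveI : IsLocallyNoetherian X.left := LocallyOfFiniteType.isLocallyNoetherian X.hom
  haveI : CompactSpace X.left := QuasiCompact.compactSpace_of_compactSpace X.hom
  haveI : IsNoetherian X.left := {}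
  haveI hwf := Groth.PropsBasic2.wellFoundedGT_idealSheafData X.left
  choose Z c hc hfac using fun f : EndAV.Hom X A => Groth.AlgGrp1.exists_equalizer f.toHom (1 : X ⟶ A)
  let I : EndAV.Hom X A → X.left.IdealSheafData := fun f => (c f).left.ker
  have key : ∀ (T : Over (Spec (CommRingCat.of k))) (x : T ⟶ X) (f : EndAV.Hom X A),
      x ≫ f.toHom = 1 ↔ I f ≤ x.left.ker := by
    intro T x f
    rw [← MonObj.comp_one (M := A) x, ← hfac f T x]
    constructor
    · rintro ⟨z, rfl⟩
      exact Scheme.Hom.le_ker_comp z.left (c f).left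
    · intro h
      haveI := hc f
      refine ⟨Over.homMk (IsClosedImmersion.lift (c f).left x.left h) ?_, ?_⟩
      · rw [← Over.w (c f), ← Category.assoc, IsClosedImmersion.lift_fac, Over.w x]
      · ext1
        exact IsClosedImmersion.lift_fac _ _ _
  obtain ⟨_, ⟨F, rfl⟩, hF⟩ := hwf.wf.has_min
    (Set.range fun F : Finset (EndAV.Hom X A) => ⨆ f ∈ F, I f) ⟨_, ∅, rfl⟩
  have all : ∀ (T : Over (Spec (CommRingCat.of k))) (x : T ⟶ X),
      (∀ f ∈ F, x ≫ f.toHom = 1) → x = 1 := by
    intro T x hx
    refine hsep T x fun g => (key T x g).2 ?_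
    have hle : (⨆ f ∈ F, I f) ≤ ⨆ f ∈ insert g F, I f :=
      iSup₂_le fun f hf => le_iSup₂ (f := fun f (_ : f ∈ insert g F) => I f) f (Finset.mem_insert_of_mem hf)
    have heq : (⨆ f ∈ F, I f) = ⨆ f ∈ insert g F, I f :=
      hle.eq_of_not_lt fun hlt => hF _ ⟨_, rfl⟩ hlt
    refine le_trans ?_ (iSup₂_le fun f hf => (key T x f).1 (hx f hf))
    rw [heq]
    exact le_iSup₂ (f := fun f (_ : f ∈ insert g F) => I f) g (Finset.mem_insert_self g F)
  refine ⟨F.card, fun i => (F.equivFin.symm i).1, fun T x y hxy => ?_⟩
  refine div_eq_one.mp (all T (x / y) fun f hf => ?_)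
  have h := hxy (F.equivFin ⟨f, hf⟩)
  simp only [Equiv.symm_apply_apply] at h
  rw [GrpObj.div_comp, h, div_self']

end Groth.Agent.S16394
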