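import Groth.Statements.S16396
import Mathlib
-- import your own Groth.Agent.* helpers here

set_option autoImplicit false
universe u
open CAlg

namespace Groth.Agent.S16396

open Polynomial in
theorem coeff_mem_of_mem (A : Type u) [CommRing A] [Algebra ℚ A] (B : Subalgebra ℚ A[X])
    (hX : (X : A[X]) ∈ B) (hD : ∀ P ∈ B, Polynomial.derivative P ∈ B) :
    ∀ (d : ℕ) (Q : A[X]), Q ∈ B → Q.natDegree ≤ d → ∀ i, C (Q.coeff i) ∈ B := by
  intro d
  induction d with
  | zero =>
    intro Q hQ hd i
    cases i with
    | zero => rwa [← eq_C_of_natDegree_le_zero hd]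
    | succ i => rw [coeff_eq_zero_of_natDegree_lt (by omega), map_zero]; exact zero_mem _
  | succ d ih =>
    intro Q hQ hd
    have hpos : ∀ i, C (Q.coeff (i + 1)) ∈ B := by
      intro i
      have h1 := ih _ (hD Q hQ) (le_trans (natDegree_derivative_le Q) (by omega)) i
      rw [coeff_derivative] at h1
      have h2 := B.smul_mem h1 ((i + 1 : ℚ)⁻¹)
      have hne : (i + 1 : ℚ) ≠ 0 := by positivity
      convert h2 using 1
      rw [smul_C, Algebra.smul_def, mul_comm (Q.coeff (i + 1)), ← mul_assoc,
        show ((i : A) + 1) = algebraMap ℚ A ((i : ℚ) + 1) by simp, ← map_mul,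
        inv_mul_cancel₀ hne, map_one, one_mul]
    intro i
    cases i with
    | succ i => exact hpos i
    | zero =>
      have h0 : C (Q.coeff 0) = Q - ∑ j ∈ Finset.range Q.natDegree, C (Q.coeff (j+1)) * X ^ (j+1) := by
        rw [eq_sub_iff_add_eq']
        conv_rhs => rw [Q.as_sum_range_C_mul_X_pow, Finset.sum_range_succ']
        simp
      rw [h0]
      exact sub_mem hQ (sum_mem fun j _ => mul_mem (hpos j) (pow_mem hX _))


open Polynomial in
/-- For a commutative ℚ-algebra A, a ℚ-subalgebra B of the polynomial algebra A[X] that contains X and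
is closed under d/dX consists exactly of the polynomials each of whose coefficients is the value at
0 of some element of B; in other words B = ev(B)[X], with ev the evaluation at 0. -/
theorem result
    (A : Type u) [CommRing A] [Algebra ℚ A] (B : Subalgebra ℚ A[X])
    (hX : (X : A[X]) ∈ B) (hD : ∀ P ∈ B, Polynomial.derivative P ∈ B) (P : A[X]) :
    P ∈ B ↔ ∀ i : ℕ, ∃ Q ∈ B, Polynomial.eval 0 Q = P.coeff i := by
  constructor
  · intro hP i
    exact ⟨Polynomial.C (P.coeff i), coeff_mem_of_mem A B hX hD _ P hP le_rfl i, Polynomial.eval_C⟩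
  · intro h
    rw [Polynomial.as_sum_range_C_mul_X_pow P]
    refine sum_mem fun j _ => mul_mem ?_ (pow_mem hX _)
    obtain ⟨Q, hQ, hQ0⟩ := h j
    rw [← hQ0, ← Polynomial.coeff_zero_eq_eval_zero]
    exact coeff_mem_of_mem A B hX hD _ Q hQ le_rfl 0

end Groth.Agent.S16396
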