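import Groth.Statements.S16399
import Mathlib
import Groth.Agent.TautJac.Basic

set_option autoImplicit false
open W4c3tautjacobian

namespace Groth.Agent.S16399

open MvPolynomial W4c3tautjacobian Groth.TautJac

variable {g : ℕ}

/-- no monomial carries a negative coefficient -/
def NN (P : RelRing g) : Prop := ∀ d, 0 ≤ coeff d P

theorem NN.zero : NN (0 : RelRing g) := fun d => by simp

theorem NN.add {P Q : RelRing g} (hP : NN P) (hQ : NN Q) : NN (P + Q) := fun d => by
  rw [coeff_add]; exact add_nonneg (hP d) (hQ d)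

theorem NN.sum {ι : Type*} (s : Finset ι) (f : ι → RelRing g) (h : ∀ i ∈ s, NN (f i)) : NN (∑ i ∈ s, f i) :=
  fun d => by rw [coeff_sum]; exact Finset.sum_nonneg fun i hi => h i hi d

theorem NN.mul {P Q : RelRing g} (hP : NN P) (hQ : NN Q) : NN (P * Q) := fun d => by
  classical
  rw [coeff_mul]; exact Finset.sum_nonneg fun x _ => mul_nonneg (hP _) (hQ _)

theorem NN.smul {P : RelRing g} {c : ℚ} (hc : 0 ≤ c) (hP : NN P) : NN (c • P) := fun d => by
  rw [coeff_smul]; exact mul_nonneg hc (hP d)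

theorem NN.nat (n : ℕ) : NN (n : RelRing g) := fun d => by
  classical
  rw [← map_natCast (C : ℚ →+* RelRing g), coeff_C]
  split_ifs
  · exact Nat.cast_nonneg n
  · exact le_rfl

theorem NN.X (v : Var g) : NN (MvPolynomial.X v : RelRing g) := fun d => by
  classical
  rw [coeff_X']
  split_ifs
  · exact zero_le_one
  · exact le_rfl

theorem NN.one : NN (1 : RelRing g) := by simpa using (NN.nat 1 : NN ((1 : ℕ) : RelRing g))

theorem NN.pow {P : RelRing g} (hP : NN P) (n : ℕ) : NN (P ^ n) := by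
  induction n with
  | zero => simpa using NN.one
  | succ n ih => rw [pow_succ]; exact ih.mul hP

theorem NN.xv (i j : ℤ) : NN (xv g i j) := by
  unfold W4c3tautjacobian.xv
  split_ifs
  · exact NN.nat g
  · exact NN.X _
  · exact NN.zero

theorem NN.dv {P : RelRing g} (hP : NN P) (p : ℕ × ℕ) : NN (dv g p P) := by
  classical
  unfold W4c3tautjacobian.dv
  split_ifs with h
  · intro d
    rw [coeff_pderiv, mul_comm]
    exact mul_nonneg (by positivity) (hP _)
  · exact NN.zero

theorem dv_X {p : ℕ × ℕ} (h : Valid g p) (q : ℕ × ℕ) :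
    dv g q (X (some ⟨p, h⟩) : RelRing g) = if q = p then 1 else 0 := by
  classical
  unfold dv
  split_ifs with h1 h2 h2
  · subst h2; simp
  · rw [pderiv_X_of_ne]; simpa using Ne.symm h2
  · subst h2; exact absurd h h1
  · rfl

theorem dv_C (q : ℕ × ℕ) (c : ℚ) : dv g q (C c : RelRing g) = 0 := by
  unfold dv; split_ifs <;> simp

theorem dv_Xnone (q : ℕ × ℕ) : dv g q (X none : RelRing g) = 0 := by
  classical
  unfold dv; split_ifs
  · exact pderiv_X_of_ne (by simp)
  · rfl

/-- kill `y` and change the sign of every other variable -/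
noncomputable def ψ (g : ℕ) : RelRing g →ₐ[ℚ] RelRing g :=
  aeval fun v => v.elim 0 fun p => -X (some p)

theorem ψ_dv (q : ℕ × ℕ) (P : RelRing g) : dv g q (ψ g P) = -ψ g (dv g q P) := by
  induction P using MvPolynomial.induction_on with
  | C c => rw [show ψ g (C c) = C c from aeval_C _ _, dv_C, map_zero, neg_zero]
  | add P Q hP hQ => rw [map_add, dv_add, dv_add, map_add, hP, hQ, neg_add]
  | mul_X P v hP =>
    rw [map_mul, dv_mul, dv_mul, map_add, map_mul, map_mul, hP]
    rcases v with _ | ⟨p, hp⟩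
    · rw [show ψ g (X none) = 0 by simp [ψ], show dv g q (0 : RelRing g) = 0 by unfold dv; split_ifs <;> simp,
        dv_Xnone, map_zero]
      ring
    · rw [show ψ g (X (some ⟨p, hp⟩)) = -X (some ⟨p, hp⟩) by simp [ψ],
        show dv g q (-X (some ⟨p, hp⟩) : RelRing g) = -(if q = p then 1 else 0) by
          rw [← neg_one_smul ℚ (X (some ⟨p, hp⟩) : RelRing g), dv_smul, dv_X hp, neg_one_smul],
        dv_X hp]
      split_ifs <;> simp <;> ring

theorem ψ_xv {i j : ℤ} (h : ¬(i = 0 ∧ j = 0)) : ψ g (xv g i j) = -xv g i j := by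
  unfold W4c3tautjacobian.xv
  rw [if_neg h]
  split_ifs
  · simp [ψ]
  · simp

/-- the operator with positive merging -/
noncomputable def G (g : ℕ) (Q : RelRing g) : RelRing g :=
  (1 / 2 : ℚ) • (∑ p ∈ idx g, ∑ q ∈ idx g,
      ((mergeCoeff p.1 q.1 : RelRing g) * xv g ((p.1 : ℤ) + q.1 - 2) ((p.2 : ℤ) + q.2)) * dv g p (dv g q Q))
    + ∑ p ∈ idx g, (if p = (2, 0) then 0 else xv g ((p.1 : ℤ) - 2) (p.2 : ℤ)) * dv g p Q

theorem G_add (P Q : RelRing g) : G g (P + Q) = G g P + G g Q := by
  simp only [G, dv_add, mul_add, Finset.sum_add_distrib, smul_add]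
  abel

theorem G_smul (c : ℚ) (P : RelRing g) : G g (c • P) = c • G g P := by
  simp only [G, dv_smul, mul_smul_comm, ← Finset.smul_sum, smul_add, smul_comm c (1 / 2 : ℚ)]

theorem G_nn {Q : RelRing g} (h : NN Q) : NN (G g Q) := by
  refine NN.add (NN.smul (by norm_num) (NN.sum _ _ fun p _ => NN.sum _ _ fun q _ =>
    ((NN.nat _).mul (NN.xv _ _)).mul ((h.dv q).dv p))) (NN.sum _ _ fun p _ => NN.mul ?_ (h.dv p))
  split_ifs
  · exact NN.zero
  · exact NN.xv _ _

theorem dv_xv {i j : ℤ} (q : ℕ × ℕ) (h : ¬(i = (q.1 : ℤ) ∧ j = (q.2 : ℤ))) : dv g q (xv g i j) = 0 := by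
  unfold W4c3tautjacobian.xv
  split_ifs with h1 h2
  · rw [← map_natCast (C : ℚ →+* RelRing g), dv_C]
  · rw [dv_X h2.2.2, if_neg]
    rintro rfl
    exact h ⟨(Int.toNat_of_nonneg h2.1).symm, (Int.toNat_of_nonneg h2.2.1).symm⟩
  · unfold dv; split_ifs <;> simp

theorem valid_of_dv_ne {p : ℕ × ℕ} {Q : RelRing g} (h : dv g p Q ≠ 0) : Valid g p := by
  by_contra hv; exact h (by rw [dv, dif_neg hv])

theorem dv_comm (p q : ℕ × ℕ) (Q : RelRing g) : dv g p (dv g q Q) = dv g q (dv g p Q) := by
  induction Q using MvPolynomial.induction_on with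
  | C c => simp [dv_C, show ∀ q, dv g q (0 : RelRing g) = 0 from fun q => by unfold dv; split_ifs <;> simp]
  | add P R hP hR => rw [dv_add, dv_add, dv_add, dv_add, hP, hR]
  | mul_X P v hP =>
    have h0 : ∀ q, dv g q (0 : RelRing g) = 0 := fun q => by unfold dv; split_ifs <;> simp
    have h1 : ∀ q, dv g q (1 : RelRing g) = 0 := fun q => by rw [← C_1, dv_C]
    have hv : ∀ a b, dv g a (dv g b (X v : RelRing g)) = 0 := fun a b => by
      rcases v with _ | ⟨w, hw⟩
      · rw [dv_Xnone, h0]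
      · rw [dv_X hw]; split_ifs <;> simp [h0, h1]
    simp only [dv_mul, dv_add, hv, hP]
    ring

theorem dv_zero' (q : ℕ × ℕ) : dv g q (0 : RelRing g) = 0 := by unfold dv; split_ifs <;> simp

theorem dv_sum {ι : Type*} (s : Finset ι) (f : ι → RelRing g) (q : ℕ × ℕ) :
    dv g q (∑ i ∈ s, f i) = ∑ i ∈ s, dv g q (f i) := by
  classical
  induction s using Finset.induction_on with
  | empty => simp [dv_zero']
  | insert a s ha ih => rw [Finset.sum_insert ha, Finset.sum_insert ha, dv_add, ih]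

theorem valid_zero_snd {p : ℕ × ℕ} (h : Valid g p) (h2 : p.2 = 0) : p = (2, 0) := by
  obtain ⟨h1, -, h3, h4⟩ := h
  obtain ⟨a, b⟩ := p
  simp only at h1 h3 h2
  subst h2
  obtain ⟨c, hc⟩ := h3
  simp only [ne_eq, Prod.mk.injEq, and_true] at h4 ⊢
  omega

theorem G_free {Q : RelRing g} (h : dv g (2, 0) Q = 0) : dv g (2, 0) (G g Q) = 0 := by
  have h2 : ∀ p, dv g (2, 0) (dv g p Q) = 0 := fun p => by rw [dv_comm, h, dv_zero']
  simp only [G, dv_add, dv_smul, dv_sum]
  rw [Finset.sum_eq_zero, Finset.sum_eq_zero, smul_zero, add_zero]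
  · intro p _
    rw [dv_mul, h2, mul_zero, add_zero]
    by_cases hp : dv g p Q = 0
    · rw [hp, mul_zero]
    · split_ifs with he
      · rw [dv_zero', zero_mul]
      · rw [dv_xv, zero_mul]
        rintro ⟨e1, e2⟩
        exact he (valid_zero_snd (valid_of_dv_ne hp) (by simpa using e2))
  · intro p _
    refine Finset.sum_eq_zero fun q _ => ?_
    rw [dv_mul, dv_comm (2, 0) p, h2, dv_zero', mul_zero, add_zero]
    by_cases hp : dv g p (dv g q Q) = 0
    · rw [hp, mul_zero]
    · rw [dv_mul, show dv g (2, 0) (mergeCoeff p.1 q.1 : RelRing g) = 0 by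
        rw [← map_natCast (C : ℚ →+* RelRing g), dv_C], zero_mul, zero_add, dv_xv, mul_zero, zero_mul]
      rintro ⟨-, e2⟩
      simp at e2
      have hq : q = (2, 0) := valid_zero_snd (valid_of_dv_ne fun e => hp (by rw [e, dv_zero'])) (by omega)
      subst hq
      exact hp (by rw [h, dv_zero'])

theorem ψ_F {P : RelRing g} (h : dv g (2, 0) (ψ g P) = 0) : ψ g (F g P) = G g (ψ g P) := by
  have hd : ∀ p q, ψ g (dv g p (dv g q P)) = dv g p (dv g q (ψ g P)) := fun p q => by
    rw [ψ_dv q P, show dv g p (-ψ g (dv g q P)) = -dv g p (ψ g (dv g q P)) by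
      rw [← neg_one_smul ℚ (ψ g (dv g q P)), dv_smul, neg_one_smul], ψ_dv p, neg_neg]
  simp only [F, G, map_add, map_smul, map_sum]
  congr 1
  · congr 1
    refine Finset.sum_congr rfl fun p _ => Finset.sum_congr rfl fun q _ => ?_
    rw [map_mul, hd]
    by_cases hp : dv g p (dv g q (ψ g P)) = 0
    · rw [hp, mul_zero, mul_zero]
    · congr 1
      rw [map_sub, map_mul, map_mul, map_mul, show ψ g (X none) = 0 by simp [ψ], zero_mul, zero_mul, zero_sub,
        map_natCast, ψ_xv, mul_neg, neg_neg]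
      rintro ⟨-, e2⟩
      have hq : q = (2, 0) := valid_zero_snd (valid_of_dv_ne fun e => hp (by rw [e, dv_zero'])) (by omega)
      subst hq
      exact hp (by rw [h, dv_zero'])
  · refine Finset.sum_congr rfl fun p _ => ?_
    rw [map_mul, show ψ g (dv g p P) = -dv g p (ψ g P) by rw [ψ_dv, neg_neg]]
    by_cases hp : dv g p (ψ g P) = 0
    · rw [hp, neg_zero, mul_zero, mul_zero]
    · split_ifs with he
      · subst he; exact absurd h hp
      · rw [ψ_xv, neg_mul_neg]
        rintro ⟨e1, e2⟩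
        exact he (valid_zero_snd (valid_of_dv_ne hp) (by simpa using e2))

theorem iterate_ψ {P : RelRing g} (h : dv g (2, 0) (ψ g P) = 0) (n : ℕ) :
    ψ g ((F g)^[n] P) = (G g)^[n] (ψ g P) ∧ dv g (2, 0) ((G g)^[n] (ψ g P)) = 0 := by
  induction n with
  | zero => exact ⟨rfl, h⟩
  | succ n ih =>
    rw [Function.iterate_succ_apply', Function.iterate_succ_apply']
    refine ⟨?_, G_free ih.2⟩
    rw [ψ_F (by rw [ih.1]; exact ih.2), ih.1]

/-- `Q` dominates a positive multiple of `M` -/
def Dom (Q M : RelRing g) : Prop := ∃ c : ℚ, 0 < c ∧ NN (Q - c • M)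

theorem Dom.refl (M : RelRing g) : Dom M M := ⟨1, one_pos, by simpa using NN.zero⟩

theorem Dom.trans {Q M M' : RelRing g} (h : Dom Q M) (h' : Dom M M') : Dom Q M' := by
  obtain ⟨a, ha, h1⟩ := h
  obtain ⟨b, hb, h2⟩ := h'
  refine ⟨a * b, mul_pos ha hb, ?_⟩
  have e : Q - (a * b) • M' = (Q - a • M) + a • (M - b • M') := by rw [smul_sub, ← mul_smul]; abel
  rw [e]; exact h1.add (h2.smul ha.le)

theorem Dom.map {Q M : RelRing g} (h : Dom Q M) : Dom (G g Q) (G g M) := by
  obtain ⟨a, ha, h1⟩ := h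
  refine ⟨a, ha, ?_⟩
  have e : G g Q = G g (Q - a • M) + a • G g M := by rw [← G_smul, ← G_add, sub_add_cancel]
  rw [e, add_sub_cancel_right]
  exact G_nn h1

theorem Dom.mul_left {Q M : RelRing g} (h : Dom Q M) {R : RelRing g} (hR : NN R) : Dom (R * Q) (R * M) := by
  obtain ⟨a, ha, h1⟩ := h
  exact ⟨a, ha, by rw [← mul_smul_comm, ← mul_sub]; exact hR.mul h1⟩

theorem Dom.sum {ι : Type*} [DecidableEq ι] {s : Finset ι} {f : ι → RelRing g} (h : ∀ i ∈ s, NN (f i)) {a : ι}
    (ha : a ∈ s) : Dom (∑ i ∈ s, f i) (f a) := by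
  refine ⟨1, one_pos, ?_⟩
  rw [one_smul, ← Finset.sum_erase_eq_sub ha]
  exact NN.sum _ _ fun i hi => h i (Finset.mem_of_mem_erase hi)

theorem Dom.smul_self {c : ℚ} (hc : 0 < c) (M : RelRing g) : Dom (c • M) M := ⟨c, hc, by simpa using NN.zero⟩

theorem Dom.of_left {A B : RelRing g} (hB : NN B) : Dom (A + B) A := ⟨1, one_pos, by simpa using hB⟩

theorem merge_dom {p q : ℕ × ℕ} (hp : Valid g p) (hq : Valid g q) (hc : 0 < mergeCoeff p.1 q.1)
    {Q : RelRing g} (hQ : NN Q) :
    Dom (G g Q) (xv g ((p.1 : ℤ) + q.1 - 2) ((p.2 : ℤ) + q.2) * dv g p (dv g q Q)) := by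
  have hlow : NN (∑ p ∈ idx g, (if p = (2, 0) then 0 else xv g ((p.1 : ℤ) - 2) (p.2 : ℤ)) * dv g p Q) :=
    NN.sum _ _ fun p _ => NN.mul (by split_ifs <;> [exact NN.zero; exact NN.xv _ _]) (hQ.dv p)
  refine (Dom.of_left hlow).trans ((Dom.smul_self (by norm_num : (0 : ℚ) < 1 / 2) _).trans ?_)
  refine (Dom.sum (fun i _ => NN.sum _ _ fun j _ => ((NN.nat _).mul (NN.xv _ _)).mul ((hQ.dv j).dv i))
    (valid_mem_idx hp)).trans ?_
  refine (Dom.sum (fun j _ => ((NN.nat _).mul (NN.xv _ _)).mul ((hQ.dv j).dv p)) (valid_mem_idx hq)).trans ?_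
  refine ⟨(mergeCoeff p.1 q.1 : ℚ), by exact_mod_cast hc, ?_⟩
  rw [MvPolynomial.smul_eq_C_mul, map_natCast, mul_assoc, sub_self]
  exact NN.zero

theorem lower_dom {p : ℕ × ℕ} (hp : Valid g p) (hne : p ≠ (2, 0)) {Q : RelRing g} (hQ : NN Q) :
    Dom (G g Q) (xv g ((p.1 : ℤ) - 2) (p.2 : ℤ) * dv g p Q) := by
  refine Dom.trans (M := ∑ p ∈ idx g, (if p = (2, 0) then 0 else xv g ((p.1 : ℤ) - 2) (p.2 : ℤ)) * dv g p Q) ?_ ?_
  · rw [G, add_comm]
    exact Dom.of_left (NN.smul (by norm_num) (NN.sum _ _ fun p _ => NN.sum _ _ fun q _ =>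
      ((NN.nat _).mul (NN.xv _ _)).mul ((hQ.dv q).dv p)))
  · have := Dom.sum (f := fun p : ℕ × ℕ => (if p = (2, 0) then 0 else xv g ((p.1 : ℤ) - 2) (p.2 : ℤ)) * dv g p Q)
      (fun i _ => NN.mul (by split_ifs <;> [exact NN.zero; exact NN.xv _ _]) (hQ.dv i)) (valid_mem_idx hp)
    simpa only [if_neg hne] using this

theorem coeff_ψ_single {p : {p : ℕ × ℕ // Valid g p}} (Q : RelRing g) :
    coeff (Finsupp.single (some p) 1) (ψ g Q) = -coeff (Finsupp.single (some p) 1) Q := by
  classical
  induction Q using MvPolynomial.induction_on' with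
  | add P R hP hR => rw [map_add, coeff_add, coeff_add, hP, hR, neg_add]
  | monomial d c =>
    rw [ψ, aeval_monomial, algebraMap_eq, coeff_C_mul, coeff_monomial]
    by_cases hy : d none = 0
    · have : (d.prod fun v k => ((v : Option _).elim (0 : RelRing g) fun p => -X (some p)) ^ k) =
          C ((-1 : ℚ) ^ d.degree) * monomial d 1 := by
        rw [monomial_eq, C_1, one_mul, Finsupp.degree_apply, ← Finset.prod_pow_eq_pow_sum, map_prod]
        simp only [Finsupp.prod, ← Finset.prod_mul_distrib]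
        refine Finset.prod_congr rfl fun v hv => ?_
        rcases v with _ | v
        · exact absurd hy (Finsupp.mem_support_iff.1 hv)
        · simp only [Option.elim_some, map_pow, map_neg, map_one, map_mul, one_pow, mul_one]
          exact neg_pow _ _
      rw [this, coeff_C_mul, coeff_monomial]
      split_ifs with h
      · subst h; simp
      · simp
    · rw [show (d.prod fun v k => ((v : Option _).elim (0 : RelRing g) fun p => -X (some p)) ^ k) = 0 from
        Finset.prod_eq_zero (Finsupp.mem_support_iff.2 hy) (by simp [zero_pow hy]), coeff_zero, mul_zero, if_neg, neg_zero]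
      rintro rfl
      exact hy (by simp)

theorem exists_relation (i : ℕ) (hi : 1 ≤ i) (hi2 : g < 3 * i) (hv : Valid g (0, 2 * i)) :
    ∃ R ∈ relIdeal g, IsWeightedHomogeneous (wz g) R ((0 : ℤ), ((2 * i : ℕ) : ℤ)) ∧
      coeff (Finsupp.single (some ⟨(0, 2 * i), hv⟩) 1) R ≠ 0 := by
  classical
  have hg2 : 2 * i + 2 ≤ 2 * g := hv.2.1
  have hB : Valid g (3, 1) := ⟨by simp, by simp; omega, ⟨2, rfl⟩, by simp⟩
  let B : Var g := some ⟨(3, 1), hB⟩
  let P : RelRing g := monomial (Finsupp.single B (2 * i)) 1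
  have hP : P = X B ^ (2 * i) := X_pow_eq_monomial.symm
  have hψP : ψ g P = X B ^ (2 * i) := by
    rw [hP, map_pow, show ψ g (X B) = -X B by simp [ψ, B], (Even.neg_pow ⟨i, by ring⟩)]
  have hdv0 : ∀ m : ℕ, dv g (2, 0) (X B ^ m : RelRing g) = 0 := by
    intro m
    induction m with
    | zero => rw [pow_zero, ← C_1, dv_C]
    | succ m ih => rw [pow_succ, dv_mul, ih, zero_mul, zero_add, dv_X hB, if_neg (by simp), mul_zero]
  have hdvB : ∀ m : ℕ, Dom (dv g (3, 1) (X B ^ (m + 1) : RelRing g)) (X B ^ m) := by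
    intro m
    rw [pow_succ', dv_mul, dv_X hB, if_pos rfl, one_mul]
    exact Dom.of_left ((NN.X B).mul (((NN.X B).pow m).dv _))
  have hW : ∀ s, s + 1 ≤ 2 * i → Valid g (s + 3, s + 1) := fun s hs =>
    ⟨by simp, by simp; omega, ⟨s + 2, by simp; ring⟩, by simp⟩
  have merge : ∀ s, (hs : s + 1 ≤ 2 * i) → Dom ((G g)^[s] (X B ^ (2 * i)))
      (X (some ⟨(s + 3, s + 1), hW s hs⟩) * X B ^ (2 * i - 1 - s)) := by
    intro s
    induction s with
    | zero =>
      intro hs
      have : X B ^ (2 * i) = (X (some ⟨(0 + 3, 0 + 1), hW 0 hs⟩) : RelRing g) * X B ^ (2 * i - 1 - 0) := by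
        rw [show (X (some ⟨(0 + 3, 0 + 1), hW 0 hs⟩) : RelRing g) = X B from rfl, ← pow_succ']
        congr 1; omega
      rw [Function.iterate_zero_apply, this]
      exact Dom.refl _
    | succ s ih =>
      intro hs
      have hs' : s + 1 ≤ 2 * i := by omega
      obtain ⟨m, hm⟩ : ∃ m, 2 * i - 1 - s = m + 1 := ⟨2 * i - 1 - s - 1, by omega⟩
      rw [Function.iterate_succ_apply', show 2 * i - 1 - (s + 1) = m by omega]
      refine (ih hs').map.trans ?_
      rw [hm]
      refine (merge_dom (hW s hs') hB ?_ ((NN.X _).mul ((NN.X _).pow _))).trans ?_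
      · simp only [mergeCoeff]
        rw [if_neg (by omega)]
        exact Nat.choose_pos (by omega)
      have hxv : xv g (((s + 3, s + 1) : ℕ × ℕ).1 + ((3, 1) : ℕ × ℕ).1 - 2 : ℤ)
          (((s + 3, s + 1) : ℕ × ℕ).2 + ((3, 1) : ℕ × ℕ).2 : ℤ) =
          (X (some ⟨(s + 1 + 3, s + 1 + 1), hW (s + 1) hs⟩) : RelRing g) := by
        rw [← xv_of_valid (hW (s + 1) hs)]
        congr 1 <;> simp <;> ring
      rw [hxv]
      refine Dom.mul_left ?_ (NN.X _)
      rw [dv_mul, dv_add, add_comm]
      refine (Dom.of_left ?_).trans ?_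
      · exact ((((NN.X _).dv _).mul ((NN.X _).pow _)).dv _)
      rw [dv_mul, dv_X (hW s hs'), if_pos rfl, one_mul]
      exact (Dom.of_left ((NN.X _).mul ((((NN.X B).pow _).dv _).dv _))).trans (hdvB m)
  have hV : ∀ r, r ≤ i + 1 → Valid g (2 * i + 2 - 2 * r, 2 * i) := fun r hr =>
    ⟨by simp, by simp; omega, ⟨2 * i + 1 - r, by simp; omega⟩, by simp; omega⟩
  have lower : ∀ r, (hr : r ≤ i + 1) → Dom ((G g)^[r + (2 * i - 1)] (X B ^ (2 * i)))
      (X (some ⟨(2 * i + 2 - 2 * r, 2 * i), hV r hr⟩)) := by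
    intro r
    induction r with
    | zero =>
      intro hr
      have := merge (2 * i - 1) (by omega)
      rw [Nat.sub_self, pow_zero, mul_one] at this
      rw [Nat.zero_add]
      convert this using 3
      simp only [Option.some.injEq, Subtype.mk.injEq, Prod.mk.injEq]
      omega
    | succ r ih =>
      intro hr
      rw [Nat.succ_add, Function.iterate_succ_apply']
      refine (ih (by omega)).map.trans ((lower_dom (hV r (by omega)) (by simp; omega) (NN.X _)).trans ?_)
      rw [dv_X (hV r (by omega)), if_pos rfl, mul_one, ← xv_of_valid (hV (r + 1) hr)]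
      convert Dom.refl _ using 2 <;> simp <;> omega
  have hfin := lower (i + 1) le_rfl
  rw [show i + 1 + (2 * i - 1) = 3 * i by omega] at hfin
  refine ⟨(F g)^[3 * i] P, Ideal.subset_span ⟨_, 3 * i, ?_, rfl⟩, ?_, ?_⟩
  · rw [Finsupp.weight_single]; simp [B, wt]; omega
  · have hw : IsWeightedHomogeneous (wt g) P (6 * i, 2 * i) :=
      isWeightedHomogeneous_monomial _ _ _ (by rw [Finsupp.weight_single]; simp [B, wt]; ring)
    convert isHom_iterate (isHom_of_wt hw) (3 * i) using 1
    ext <;> simp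
    ring
  · intro h0
    obtain ⟨c, hc, hnn⟩ := hfin
    have h1 := hnn (Finsupp.single (some ⟨(0, 2 * i), hv⟩) 1)
    have h2 := (iterate_ψ (P := P) (by rw [hψP]; exact hdv0 _) (3 * i)).1
    rw [hψP] at h2
    rw [coeff_sub, coeff_smul, ← h2, coeff_ψ_single, h0, neg_zero, zero_sub, coeff_X', if_pos, smul_eq_mul, mul_one] at h1
    · linarith
    · congr 2
      exact Subtype.ext (Prod.ext (by simp; omega) rfl)

/-- In the formal relation ring of genus g ≥ 1, every symbol x 0 (2i) is congruent modulo the relation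
ideal to a polynomial in y and the symbols x 0 (2j) with 1 ≤ j and 3j ≤ g; so these low symbols
together with y generate the first-degree-0 part modulo the relations. -/
theorem result
    (g : ℕ) (hg : 1 ≤ g) (i : ℕ) :
    ∃ q ∈ Algebra.adjoin ℚ (W4c3tautjacobian.lowGens g),
      W4c3tautjacobian.xv g 0 (2 * (i : ℤ)) - q ∈ W4c3tautjacobian.relIdeal g := by

  classical
  let A := Algebra.adjoin ℚ (W4c3tautjacobian.lowGens g)
  let S : Subalgebra ℚ (W4c3tautjacobian.RelRing g) :=
    (A.map (Ideal.Quotient.mkₐ ℚ (W4c3tautjacobian.relIdeal g))).comap (Ideal.Quotient.mkₐ ℚ (W4c3tautjacobian.relIdeal g))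
  suffices h : W4c3tautjacobian.xv g 0 (2 * (i : ℤ)) ∈ S by
    obtain ⟨q, hq, he⟩ := h
    refine ⟨q, hq, (Ideal.Quotient.eq).1 ?_⟩
    exact he.symm
  have hsub : ∀ q ∈ A, q ∈ S := fun q hq => ⟨q, hq, rfl⟩
  induction i using Nat.strong_induction_on with
  | _ i IH =>
    rcases Nat.eq_zero_or_pos i with rfl | hi
    · simp only [Nat.cast_zero, mul_zero, W4c3tautjacobian.xv, and_self, if_true]
      exact natCast_mem S g
    by_cases hlow : 3 * i ≤ g
    · exact hsub _ (Algebra.subset_adjoin (Or.inr ⟨i, hi, hlow, rfl⟩))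
    by_cases hv : W4c3tautjacobian.Valid g (0, 2 * i)
    swap
    · rw [W4c3tautjacobian.xv, if_neg (by omega), dif_neg]
      · exact zero_mem S
      · rintro ⟨-, -, h⟩
        refine hv ?_
        rwa [show ((2 * (i : ℤ)).toNat) = 2 * i by omega] at h
    obtain ⟨R, hR, hhom, hc⟩ := exists_relation i hi (by omega) hv
    set d0 : Var g →₀ ℕ := Finsupp.single (some ⟨(0, 2 * i), hv⟩) 1
    have hX : W4c3tautjacobian.xv g 0 (2 * (i : ℤ)) = X (some ⟨(0, 2 * i), hv⟩) := by
      rw [← xv_of_valid hv]; push_cast; rfl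
    have hRS : R ∈ S := ⟨0, zero_mem _, by
      change Ideal.Quotient.mk _ 0 = Ideal.Quotient.mk _ R
      rw [map_zero]; exact (Ideal.Quotient.eq_zero_iff_mem.2 hR).symm⟩
    have hrest : ∀ d ∈ R.support.erase d0, monomial d (coeff d R) ∈ S := by
      intro d hd
      obtain ⟨hne, hsupp⟩ := Finset.mem_erase.1 hd
      have hw := hhom (mem_support_iff.1 hsupp)
      rw [weight_wz] at hw
      have e1 := congrArg Prod.fst hw
      have e2 := congrArg Prod.snd hw
      simp only [Nat.cast_inj, Nat.cast_eq_zero] at e1 e2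
      rw [monomial_eq]
      refine mul_mem (S.algebraMap_mem _) (Submonoid.prod_mem _ fun v hv' => pow_mem ?_ _)
      have hsplit : d = Finsupp.single v 1 + (d - Finsupp.single v 1) :=
        (add_tsub_cancel_of_le (Finsupp.single_le_iff.2 (Nat.pos_of_ne_zero (Finsupp.mem_support_iff.1 hv')))).symm
      set d' := d - Finsupp.single v 1
      have hsum : Finsupp.weight (wt g) d = wt g v + Finsupp.weight (wt g) d' := by
        rw [hsplit, map_add]; simp [Finsupp.weight_apply]
      rw [hsum] at e1 e2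
      simp only [Prod.fst_add, Prod.snd_add] at e1 e2
      rcases v with _ | ⟨⟨a, b⟩, hp⟩
      · exact hsub _ (Algebra.subset_adjoin (Or.inl rfl))
      · simp only [wt] at e1 e2
        have ha : a = 0 := by omega
        subst ha
        obtain ⟨l, hl⟩ := hp.2.2.1
        have hb : b = 2 * l := by simp at hl; omega
        subst hb
        have hli : l < i := by
          rcases lt_or_eq_of_le (show l ≤ i by omega) with h | h
          · exact h
          subst h
          refine absurd ?_ hne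
          have hd' : d' = 0 := by
            by_contra hz
            obtain ⟨w, hw'⟩ := Finsupp.support_nonempty_iff.2 hz
            have hw0 : Finsupp.weight (wt g) d' = 0 := Prod.ext (by simp; omega) (by simp; omega)
            have hspl : d' = Finsupp.single w 1 + (d' - Finsupp.single w 1) :=
              (add_tsub_cancel_of_le (Finsupp.single_le_iff.2 (Nat.pos_of_ne_zero (Finsupp.mem_support_iff.1 hw')))).symm
            rw [hspl, map_add, add_eq_zero] at hw0
            have := hw0.1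
            simp [Finsupp.weight_apply] at this
            rcases w with _ | ⟨p, hp'⟩
            · simp [wt] at this
            · exact hp'.2.2.2 this
          rw [hsplit, hd', add_zero]
        have := IH l hli
        rwa [show W4c3tautjacobian.xv g 0 (2 * (l : ℤ)) = X (some ⟨(0, 2 * l), hp⟩) by
          rw [← xv_of_valid hp]; push_cast; rfl] at this
    have e : R = monomial d0 (coeff d0 R) + ∑ d ∈ R.support.erase d0, monomial d (coeff d R) := by
      conv_lhs => rw [R.as_sum, ← Finset.add_sum_erase _ _ (mem_support_iff.2 hc)]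
    have hmono : monomial d0 (coeff d0 R) ∈ S := by
      have := sub_mem hRS (sum_mem hrest)
      rwa [sub_eq_of_eq_add e] at this
    have := S.smul_mem hmono (coeff d0 R)⁻¹
    rw [smul_monomial, smul_eq_mul, inv_mul_cancel₀ hc] at this
    rw [hX]
    exact this

end Groth.Agent.S16399
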