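import Groth.Statements.S16400
import Mathlib

set_option autoImplicit false
universe u v
open CAlgX

namespace Groth.Agent.S16400

/-- Let K be a field, N a finite index set and A a square matrix over K indexed by N whose linear map on
column vectors has kernel equal to its range (so A composed with A is zero and the three-term
sequence it defines is exact in the middle). Then there are subsets N₁₂, N₂₁, N₃₁ of N such that the
block of A with rows in N₃₁ and columns in N₂₁, and the block of A with rows outside N₂₁ and columns
in N₁₂, both act bijectively on column vectors. (In the original setting K is the prime field and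
middle exactness is supplied by the Cartier isomorphism; here exactness is the hypothesis and K is
any field.) -/
theorem result
    {K : Type u} [Field K] {N : Type v} [Fintype N] [DecidableEq N]
    (A : Matrix N N K)
    (hA : LinearMap.ker A.mulVecLin = LinearMap.range A.mulVecLin) :
    ∃ N₁₂ N₂₁ N₃₁ : Finset N,
      Function.Bijective (A.submatrix (Subtype.val : ↥N₃₁ → N) (Subtype.val : ↥N₂₁ → N)).mulVecLin ∧
      Function.Bijective
        (A.submatrix (Subtype.val : {x : N // x ∉ N₂₁} → N) (Subtype.val : ↥N₁₂ → N)).mulVecLin := by
  classical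
  obtain ⟨κ, a, ha, hspan, hli⟩ := exists_linearIndependent' K A.col
  have : Fintype κ := Fintype.ofInjective a ha
  set S : Finset N := Finset.univ.image a with hS
  let B : Matrix N ↥S K := A.submatrix id Subtype.val
  let e : κ ≃ ↥S := Equiv.ofBijective (fun i => ⟨a i, by simp [hS]⟩)
    ⟨fun i j h => ha (congrArg Subtype.val h), fun ⟨x, hx⟩ => by
      obtain ⟨i, -, rfl⟩ := Finset.mem_image.1 hx
      exact ⟨i, rfl⟩⟩
  have hcolB : LinearIndependent K B.col := by
    rw [← linearIndependent_equiv e]
    exact hli
  have hBinj : Function.Injective B.mulVec := Matrix.mulVec_injective_iff.2 hcolB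
  have hrange : LinearMap.range B.mulVecLin = LinearMap.range A.mulVecLin := by
    rw [Matrix.range_mulVecLin, Matrix.range_mulVecLin, ← hspan]
    congr 1
    ext v
    constructor
    · rintro ⟨i, rfl⟩
      exact ⟨e.symm i, congrArg A.col (congrArg Subtype.val (e.apply_symm_apply i))⟩
    · rintro ⟨i, rfl⟩
      exact ⟨e i, rfl⟩
  have hrk : Module.finrank K (LinearMap.range A.mulVecLin) = S.card := by
    rw [← hrange, LinearMap.finrank_range_of_inj hBinj, Module.finrank_fintype_fun_eq_card, Fintype.card_coe]
  -- rows
  obtain ⟨κ', b, hb, hspan', hli'⟩ := exists_linearIndependent' K B.row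
  have : Fintype κ' := Fintype.ofInjective b hb
  set T : Finset N := Finset.univ.image b with hT
  let e' : κ' ≃ ↥T := Equiv.ofBijective (fun i => ⟨b i, by simp [hT]⟩)
    ⟨fun i j h => hb (congrArg Subtype.val h), fun ⟨x, hx⟩ => by
      obtain ⟨i, -, rfl⟩ := Finset.mem_image.1 hx
      exact ⟨i, rfl⟩⟩
  have htop : Submodule.span K (Set.range B.row) = ⊤ := by
    by_contra hne
    obtain ⟨f, hf0, hf⟩ := Submodule.exists_le_ker_of_lt_top _ (lt_top_iff_ne_top.2 hne)
    apply hf0
    have hv : B.mulVec (fun j => f (Pi.single j 1)) = 0 := by
      funext i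
      have h1 : f (B.row i) = 0 := hf (Submodule.subset_span ⟨i, rfl⟩)
      rw [pi_eq_sum_univ' (B.row i), map_sum] at h1
      simpa [Matrix.mulVec, dotProduct, Matrix.row] using h1
    have h2 : (fun j => f (Pi.single j 1)) = 0 := hBinj (by rw [hv, Matrix.mulVec_zero])
    exact LinearMap.pi_ext' fun j => LinearMap.ext_ring (congrFun h2 j)
  have hcard : T.card = S.card := by
    let bas : Module.Basis κ' K (↥S → K) := Module.Basis.mk hli' (by rw [hspan', htop])
    rw [← Fintype.card_coe T, ← Fintype.card_congr e', ← Module.finrank_eq_card_basis bas,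
      Module.finrank_fintype_fun_eq_card, Fintype.card_coe]
  refine ⟨S, S, T, ?_, ?_⟩
  · have hinj : Function.Injective (A.submatrix (Subtype.val : ↥T → N) (Subtype.val : ↥S → N)).mulVecLin := by
      rw [← LinearMap.ker_eq_bot, LinearMap.ker_eq_bot']
      intro v hv
      let φ : (↥S → K) →ₗ[K] K := ∑ j, v j • LinearMap.proj j
      have hφ : ∀ w, φ w = ∑ j, w j * v j := fun w => by simp [φ, mul_comm]
      have hle : Submodule.span K (Set.range B.row) ≤ LinearMap.ker φ := by
        rw [← hspan', Submodule.span_le]
        rintro _ ⟨i, rfl⟩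
        rw [SetLike.mem_coe, LinearMap.mem_ker, hφ]
        exact congrFun hv (e' i)
      apply hBinj
      rw [Matrix.mulVec_zero]
      funext i
      have := hle (Submodule.subset_span ⟨i, rfl⟩)
      rw [LinearMap.mem_ker, hφ] at this
      exact this
    exact ⟨hinj, (LinearMap.injective_iff_surjective_of_finrank_eq_finrank
      (by simp [hcard])).1 hinj⟩
  · have hinj : Function.Injective
        (A.submatrix (Subtype.val : {x : N // x ∉ S} → N) (Subtype.val : ↥S → N)).mulVecLin := by
      rw [← LinearMap.ker_eq_bot, LinearMap.ker_eq_bot']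
      intro v hv
      have hw : B.mulVec v ∈ LinearMap.ker A.mulVecLin := by
        rw [hA, ← hrange]
        exact ⟨v, rfl⟩
      have h0 : ∀ i, i ∉ S → B.mulVec v i = 0 := fun i hi => congrFun hv ⟨i, hi⟩
      have hzero : B.mulVec (fun j : ↥S => B.mulVec v j) = 0 := by
        funext i
        have h1 := congrFun (LinearMap.mem_ker.1 hw) i
        simp only [Matrix.mulVecLin_apply, Matrix.mulVec, dotProduct, Pi.zero_apply] at h1 ⊢
        rw [← h1]
        refine Eq.trans ?_ (Finset.sum_subset (Finset.subset_univ S) fun j _ hj => ?_)
        · exact Finset.sum_coe_sort S fun j => A i j * B.mulVec v j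
        · have := h0 j hj
          simp only [Matrix.mulVec, dotProduct] at this
          rw [this, mul_zero]
      have h2 : (fun j : ↥S => B.mulVec v j) = 0 := hBinj (by rw [hzero, Matrix.mulVec_zero])
      apply hBinj
      rw [Matrix.mulVec_zero]
      funext i
      by_cases hi : i ∈ S
      · exact congrFun h2 ⟨i, hi⟩
      · exact h0 i hi
    refine ⟨hinj, (LinearMap.injective_iff_surjective_of_finrank_eq_finrank ?_).1 hinj⟩
    have h3 := LinearMap.finrank_range_add_finrank_ker A.mulVecLin
    rw [hA, hrk, Module.finrank_fintype_fun_eq_card] at h3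
    rw [Module.finrank_fintype_fun_eq_card, Module.finrank_fintype_fun_eq_card, Fintype.card_subtype_compl,
      Fintype.card_coe]
    have : Fintype.card {x // x ∈ S} = S.card := Fintype.card_coe S
    omega

end Groth.Agent.S16400
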