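import Groth.Statements.S16401
import Mathlib

set_option autoImplicit false
universe u v
open CAlgX

namespace Groth.Agent.S16401

/-- Let R be a commutative ring and (E_a), a ∈ ι, a family of additive subgroups of R indexed by an
additive commutative group ι, with E_0 = R and E_a · E_b ⊆ E_{a+b}. Let β, γ : Fin r → ι be weight
vectors with Σ_j β_j = Σ_i γ_i, and let ϑ be an r × r matrix over R with ϑ_{ij} ∈ E_{γ_i − β_j} for
all i, j and with unit determinant. Then a column vector u satisfies u_j ∈ E_{β_j} for every j if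
and only if (ϑ u)_i ∈ E_{γ_i} for every i; since ϑ is invertible this says that ϑ maps the box Π_j
E_{β_j} bijectively onto the box Π_i E_{γ_i}. -/
theorem result
    {R : Type u} [CommRing R] {ι : Type v} [AddCommGroup ι]
    (E : ι → AddSubgroup R) (h0 : E 0 = ⊤)
    (hmul : ∀ a b : ι, ∀ x ∈ E a, ∀ y ∈ E b, x * y ∈ E (a + b))
    {r : ℕ} (wβ wγ : Fin r → ι) (hsum : ∑ j, wβ j = ∑ i, wγ i)
    (ϑ : Matrix (Fin r) (Fin r) R) (hϑ : ∀ i j, ϑ i j ∈ E (wγ i - wβ j))
    (hdet : IsUnit ϑ.det) (u : Fin r → R) :
    (∀ j, u j ∈ E (wβ j)) ↔ ∀ i, ϑ.mulVec u i ∈ E (wγ i) := by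
  classical
  have hsum' : ∀ {κ : Type} (s : Finset κ) (e : κ → ι) (x : κ → R), (∀ k ∈ s, x k ∈ E (e k)) →
      ∏ k ∈ s, x k ∈ E (∑ k ∈ s, e k) := by
    intro κ s e x
    induction s using Finset.induction_on with
    | empty => simp [h0]
    | insert a s ha ih =>
      intro hx
      rw [Finset.prod_insert ha, Finset.sum_insert ha]
      exact hmul _ _ _ (hx a (Finset.mem_insert_self a s)) _
        (ih fun k hk => hx k (Finset.mem_insert_of_mem hk))
  have hdet' : ∀ (M : Matrix (Fin r) (Fin r) R) (g : Fin r → ι),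
      (∀ i j, M i j ∈ E (g i - wβ j)) → M.det ∈ E (∑ i, g i - ∑ j, wβ j) := by
    intro M g hM
    rw [Matrix.det_apply]
    refine sum_mem fun σ _ => ?_
    rw [Units.smul_def]
    refine zsmul_mem ?_ _
    have := hsum' Finset.univ (fun i => g (σ i) - wβ i) (fun i => M (σ i) i) (fun i _ => hM _ _)
    rwa [Finset.sum_sub_distrib, Equiv.sum_comp σ g] at this
  have hadj : ∀ i j, ϑ.adjugate j i ∈ E (wβ j - wγ i) := by
    intro i j
    rw [Matrix.adjugate_apply]
    have := hdet' (ϑ.updateRow i (Pi.single j 1)) (Function.update wγ i (wβ j)) (fun k l => by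
      rcases eq_or_ne k i with rfl | hk
      · rw [Matrix.updateRow_self, Function.update_self]
        rcases eq_or_ne l j with rfl | hl
        · simp [h0]
        · simp [hl]
      · rw [Matrix.updateRow_ne hk, Function.update_of_ne hk]
        exact hϑ k l)
    have he : ∑ k, Function.update wγ i (wβ j) k - ∑ l, wβ l = wβ j - wγ i := by
      rw [Finset.sum_update_of_mem (Finset.mem_univ i), hsum,
        ← Finset.add_sum_erase Finset.univ wγ (Finset.mem_univ i),
        Finset.sdiff_singleton_eq_erase]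
      abel
    rwa [he] at this
  constructor
  · intro hu i
    rw [Matrix.mulVec, dotProduct]
    refine sum_mem fun j _ => ?_
    have := hmul _ _ _ (hϑ i j) _ (hu j)
    rwa [sub_add_cancel] at this
  · intro hu j
    have h1 : ϑ.det • u = ϑ.adjugate.mulVec (ϑ.mulVec u) := by
      rw [Matrix.mulVec_mulVec, Matrix.adjugate_mul, Matrix.smul_mulVec, Matrix.one_mulVec]
    have h2 : ϑ.det * u j ∈ E (wβ j) := by
      have := congrFun h1 j
      rw [Pi.smul_apply, smul_eq_mul] at this
      rw [this, Matrix.mulVec, dotProduct]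
      refine sum_mem fun i _ => ?_
      have := hmul _ _ _ (hadj i j) _ (hu i)
      rwa [sub_add_cancel] at this
    obtain ⟨d, hd⟩ := hdet.exists_left_inv
    have := hmul 0 (wβ j) d (by simp [h0]) _ h2
    rwa [zero_add, ← mul_assoc, hd, one_mul] at this

end Groth.Agent.S16401
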