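import Groth.Statements.S16402
import Mathlib
import Groth.Agent.SplitAlg.Basic

set_option autoImplicit false
open SymBasis

namespace Groth.Agent.S16402

open Groth.SplitAlg

/-- For n ≥ 2, the polynomial ring ℤ[t_1, …, t_n] is a free module of rank n! over ℤ[c_1, …, c_n] acting
through c_i ↦ e_i(t), the i-th elementary symmetric polynomial in the t_j, and the monomials
t_1^{d_1} ⋯ t_n^{d_n} with 0 ≤ d_i ≤ n − i form a basis: every polynomial is in exactly one way a
sum Σ_d f(p_d) · t^d with p_d ∈ ℤ[c_1, …, c_n], f the substitution c_i ↦ e_i(t). The published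
statement is phrased for the Chow ring of the classifying stack of the diagonal torus as a module
over that of the classifying stack of GL_n, identified with ℤ[t_1, …, t_n] ⊇ ℤ[c_1, …, c_n] in this
way. -/
theorem result (n : ℕ) (hn : 2 ≤ n) :
    Function.Bijective (fun p : (Π i : Fin n, Fin (n - (i : ℕ))) → MvPolynomial (Fin n) ℤ =>
      ∑ d : (Π i : Fin n, Fin (n - (i : ℕ))),
        (MvPolynomial.aeval (fun i : Fin n => MvPolynomial.esymm (Fin n) ℤ ((i : ℕ) + 1))) (p d) *
          ∏ i : Fin n, MvPolynomial.X i ^ ((d i : ℕ))) := by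

  classical
  let σ : MvPolynomial (Fin n) ℤ →ₐ[ℤ] MvPolynomial (Fin n) ℤ :=
    MvPolynomial.aeval fun i : Fin n => MvPolynomial.esymm (Fin n) ℤ ((i : ℕ) + 1)
  constructor
  · intro p q hpq
    obtain ⟨A, _, _, τ, hτ, hli⟩ := exists_point (fun i : Fin n => (MvPolynomial.X i : MvPolynomial (Fin n) ℤ))
    let φ : MvPolynomial (Fin n) ℤ →+* A := MvPolynomial.eval₂Hom (Int.castRingHom A) τ
    have hφ : φ.comp σ.toRingHom = algebraMap (MvPolynomial (Fin n) ℤ) A := by
      refine MvPolynomial.ringHom_ext (fun z => ?_) fun i => ?_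
      · simp [eq_intCast]
      · rw [RingHom.comp_apply, AlgHom.toRingHom_eq_coe, RingHom.coe_coe, MvPolynomial.aeval_X, ← hτ i,
          MvPolynomial.aeval_def, ← MvPolynomial.eval_map, MvPolynomial.map_esymm, MvPolynomial.coe_eval₂Hom,
          ← MvPolynomial.eval_map, MvPolynomial.map_esymm]
    have h1 : ∀ r : (Π i : Fin n, Fin (n - (i : ℕ))) → MvPolynomial (Fin n) ℤ,
        φ (∑ d, σ (r d) * ∏ i : Fin n, MvPolynomial.X i ^ ((d i : ℕ))) = ∑ d, r d • mon τ d := fun r => by
      rw [map_sum]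
      refine Finset.sum_congr rfl fun d _ => ?_
      rw [map_mul, Algebra.smul_def, ← DFunLike.congr_fun hφ (r d), map_prod]
      congr 1
      simp [φ, mon]
    have h2 : ∑ d, (p d - q d) • mon τ d = 0 := by
      simp only [sub_smul, Finset.sum_sub_distrib, ← h1]
      rw [show (∑ d, σ (p d) * ∏ i : Fin n, MvPolynomial.X i ^ ((d i : ℕ))) =
        ∑ d, σ (q d) * ∏ i : Fin n, MvPolynomial.X i ^ ((d i : ℕ)) from hpq, sub_self]
    funext d
    exact sub_eq_zero.1 (Fintype.linearIndependent_iff.1 hli _ h2 d)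
  · intro x
    let ι : MvPolynomial (Fin n) ℤ →+* MvPolynomial (Fin n) (MvPolynomial (Fin n) ℤ) :=
      MvPolynomial.map (MvPolynomial.C : ℤ →+* MvPolynomial (Fin n) ℤ)
    let ψ : MvPolynomial (Fin n) (MvPolynomial (Fin n) ℤ) →+* MvPolynomial (Fin n) ℤ :=
      MvPolynomial.eval₂Hom σ.toRingHom MvPolynomial.X
    obtain ⟨c, hc⟩ := quotient_span (fun i : Fin n => (MvPolynomial.X i : MvPolynomial (Fin n) ℤ)) (ι x)
    have hker : Ideal.span (Set.range fun i : Fin n => MvPolynomial.esymm (Fin n) (MvPolynomial (Fin n) ℤ) ((i : ℕ) + 1) -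
        MvPolynomial.C (MvPolynomial.X i : MvPolynomial (Fin n) ℤ)) ≤ RingHom.ker ψ := by
      refine Ideal.span_le.2 ?_
      rintro _ ⟨i, rfl⟩
      show ψ _ = 0
      rw [map_sub, sub_eq_zero]
      simp only [ψ, MvPolynomial.coe_eval₂Hom, MvPolynomial.eval₂_C, AlgHom.toRingHom_eq_coe, RingHom.coe_coe, σ,
        MvPolynomial.aeval_X]
      rw [← MvPolynomial.map_esymm (Fin n) ℤ _ MvPolynomial.C, MvPolynomial.eval₂_map]
      rw [show ((MvPolynomial.aeval fun i : Fin n => MvPolynomial.esymm (Fin n) ℤ ((i : ℕ) + 1) :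
          MvPolynomial (Fin n) ℤ →ₐ[ℤ] MvPolynomial (Fin n) ℤ) : MvPolynomial (Fin n) ℤ →+* MvPolynomial (Fin n) ℤ).comp
          MvPolynomial.C = MvPolynomial.C from RingHom.ext fun z => by simp]
      exact MvPolynomial.eval₂_eta _
    have h1 : ψ (ι x) = x := by
      have : ψ.comp ι = RingHom.id _ := by
        refine MvPolynomial.ringHom_ext (fun z => ?_) fun i => ?_ <;> simp [ψ, ι, σ]
      exact DFunLike.congr_fun this x
    refine ⟨c, ?_⟩
    have h2 := hker hc
    rw [RingHom.mem_ker, map_sub, h1, sub_eq_zero] at h2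
    rw [h2, map_sum]
    refine Finset.sum_congr rfl fun d _ => ?_
    simp [ψ, σ]

end Groth.Agent.S16402
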