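import Groth.Statements.S16403
import Mathlib
import Groth.Agent.SplitAlg.Basic

set_option autoImplicit false
universe u
open SymBasis

namespace Groth.Agent.S16403

open Groth.SplitAlg

/-- Let R be a commutative ring and a_1, …, a_n ∈ R with n ≥ 2, making R an algebra over ℤ[c_1, …, c_n]
by c_i ↦ a_i. The base change R ⊗ ℤ[t_1, …, t_n] over ℤ[c_1, …, c_n], where c_i ↦ e_i(t) is the i-th
elementary symmetric polynomial, is R[t_1, …, t_n]/I with I the ideal generated by the elements
e_i(t) − a_i, and the extension of an ideal J of R to it is (I + J·R[t])/I. For families (α_d),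
(β_d) of elements of R indexed by the exponent vectors d with 0 ≤ d_i ≤ n − i, the sums Σ_d α_d t^d
and Σ_d β_d t^d agree modulo I + J·R[t] if and only if α_d ≡ β_d mod J for every d. The published
statement takes R positively graded over ℤ[c_1, …, c_n] and each α_d homogeneous of degree k − |d|
for a fixed integer k ≥ 0; this row assumes neither. -/
theorem result {R : Type u} [CommRing R] (n : ℕ) (hn : 2 ≤ n)
    (a : Fin n → R) (J : Ideal R) (α β : (Π i : Fin n, Fin (n - (i : ℕ))) → R) :
    (∑ d : (Π i : Fin n, Fin (n - (i : ℕ))), MvPolynomial.C (α d) * ∏ i : Fin n, MvPolynomial.X i ^ ((d i : ℕ))) -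
        (∑ d : (Π i : Fin n, Fin (n - (i : ℕ))), MvPolynomial.C (β d) * ∏ i : Fin n, MvPolynomial.X i ^ ((d i : ℕ)))
      ∈ Ideal.span (Set.range fun i : Fin n => MvPolynomial.esymm (Fin n) R ((i : ℕ) + 1) - MvPolynomial.C (a i))
        ⊔ Ideal.map (MvPolynomial.C : R →+* MvPolynomial (Fin n) R) J
    ↔ ∀ d : (Π i : Fin n, Fin (n - (i : ℕ))), α d - β d ∈ J := by

  classical
  constructor
  · intro h d
    by_cases hJ : J = ⊤
    · rw [hJ]; trivial
    have : Nontrivial (R ⧸ J) := Ideal.Quotient.nontrivial_iff.2 hJ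
    obtain ⟨A, _, _, τ, hτ, hli⟩ := exists_point (fun i => Ideal.Quotient.mk J (a i))
    let φ : MvPolynomial (Fin n) R →+* A := MvPolynomial.eval₂Hom ((algebraMap (R ⧸ J) A).comp (Ideal.Quotient.mk J)) τ
    have hker : Ideal.span (Set.range fun i : Fin n => MvPolynomial.esymm (Fin n) R ((i : ℕ) + 1) - MvPolynomial.C (a i))
        ⊔ Ideal.map (MvPolynomial.C : R →+* MvPolynomial (Fin n) R) J ≤ RingHom.ker φ := by
      refine sup_le (Ideal.span_le.2 ?_) (Ideal.map_le_iff_le_comap.2 fun j hj => ?_)
      · rintro _ ⟨i, rfl⟩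
        show φ _ = 0
        rw [map_sub, sub_eq_zero]
        simp only [φ, MvPolynomial.coe_eval₂Hom, MvPolynomial.eval₂_C, RingHom.comp_apply]
        rw [← hτ i, MvPolynomial.aeval_def, ← MvPolynomial.eval_map, ← MvPolynomial.eval_map, MvPolynomial.map_esymm,
          MvPolynomial.map_esymm]
      · show φ (MvPolynomial.C j) = 0
        simp [φ, Ideal.Quotient.eq_zero_iff_mem.2 hj]
    have h1 := hker h
    rw [RingHom.mem_ker, map_sub, map_sum, map_sum, sub_eq_zero] at h1
    have h2 : ∑ e, (Ideal.Quotient.mk J (α e) - Ideal.Quotient.mk J (β e)) • mon τ e = 0 := by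
      simp only [sub_smul, Finset.sum_sub_distrib]
      rw [sub_eq_zero]
      simp only [Algebra.smul_def]
      simpa [φ, mon] using h1
    exact Ideal.Quotient.eq.1 (sub_eq_zero.1 (Fintype.linearIndependent_iff.1 hli _ h2 d))
  · intro h
    rw [← Finset.sum_sub_distrib]
    refine Submodule.mem_sup_right (Ideal.sum_mem _ fun d _ => ?_)
    rw [← sub_mul, ← map_sub]
    exact Ideal.mul_mem_right _ _ (Ideal.mem_map_of_mem _ (h d))

end Groth.Agent.S16403
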