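import Groth.Statements.S16404
import Mathlib
import Groth.Agent.SplitAlg.Basic

set_option autoImplicit false
universe u
open SymBasis

namespace Groth.Agent.S16404

open Groth.SplitAlg

/-- Let R be a commutative ring and a_1, …, a_n ∈ R with n ≥ 2; write I for the ideal of R[t_1, …, t_n]
generated by the elements e_i(t) − a_i (e_i the i-th elementary symmetric polynomial), so that
R[t_1, …, t_n]/I is the base change R ⊗ ℤ[t_1, …, t_n] over ℤ[c_1, …, c_n] (c_i ↦ a_i on one side,
c_i ↦ e_i(t) on the other). For an ideal J of R, a polynomial x lies in I + J·R[t], i.e. its class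
lies in the extension of J to R[t]/I, if and only if x ≡ Σ_d j_d t^d mod I for some family (j_d) of
elements of J indexed by the exponent vectors d with 0 ≤ d_i ≤ n − i. With the companion uniqueness
statement this says the extension of J is the direct sum of the submodules t^d · J. The published
statement takes R positively graded over ℤ[c_1, …, c_n]; this row takes any commutative ring R with
chosen elements a_1, …, a_n. -/
theorem result {R : Type u} [CommRing R] (n : ℕ) (hn : 2 ≤ n)
    (a : Fin n → R) (J : Ideal R) (x : MvPolynomial (Fin n) R) :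
    x ∈ Ideal.span (Set.range fun i : Fin n => MvPolynomial.esymm (Fin n) R ((i : ℕ) + 1) - MvPolynomial.C (a i))
        ⊔ Ideal.map (MvPolynomial.C : R →+* MvPolynomial (Fin n) R) J
    ↔ ∃ j : (Π i : Fin n, Fin (n - (i : ℕ))) → R, (∀ d : (Π i : Fin n, Fin (n - (i : ℕ))), j d ∈ J) ∧
        x - (∑ d : (Π i : Fin n, Fin (n - (i : ℕ))), MvPolynomial.C (j d) * ∏ i : Fin n, MvPolynomial.X i ^ ((d i : ℕ)))
          ∈ Ideal.span (Set.range fun i : Fin n => MvPolynomial.esymm (Fin n) R ((i : ℕ) + 1) - MvPolynomial.C (a i)) := by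

  classical
  set I := Ideal.span (Set.range fun i : Fin n => MvPolynomial.esymm (Fin n) R ((i : ℕ) + 1) - MvPolynomial.C (a i)) with hI
  constructor
  · intro hx
    obtain ⟨y, hy, z, hz, rfl⟩ := Submodule.mem_sup.1 hx
    suffices key : ∀ w ∈ Ideal.map (MvPolynomial.C : R →+* MvPolynomial (Fin n) R) J,
        ∃ j : (Π i : Fin n, Fin (n - (i : ℕ))) → R, (∀ d, j d ∈ J) ∧
          w - (∑ d, MvPolynomial.C (j d) * ∏ i : Fin n, MvPolynomial.X i ^ ((d i : ℕ))) ∈ I by
      obtain ⟨j, hj, hjz⟩ := key z hz
      exact ⟨j, hj, by rw [add_sub_assoc]; exact I.add_mem hy hjz⟩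
    clear hx hy hz
    intro w hw
    have hw' : w ∈ Submodule.span (MvPolynomial (Fin n) R) (MvPolynomial.C '' (J : Set R)) := hw
    clear hw
    induction hw' using Submodule.span_induction with
    | mem w hw =>
      obtain ⟨r, hr, rfl⟩ := hw
      obtain ⟨c, hc⟩ := quotient_span a (1 : MvPolynomial (Fin n) R)
      refine ⟨fun d => r * c d, fun d => J.mul_mem_right _ hr, ?_⟩
      have := I.mul_mem_left (MvPolynomial.C r) hc
      rw [mul_sub, mul_one, Finset.mul_sum] at this
      simpa only [map_mul, mul_assoc] using this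
    | zero => exact ⟨0, fun d => J.zero_mem, by simp⟩
    | add u v _ _ ihu ihv =>
      obtain ⟨j₁, hj₁, h₁⟩ := ihu
      obtain ⟨j₂, hj₂, h₂⟩ := ihv
      refine ⟨j₁ + j₂, fun d => J.add_mem (hj₁ d) (hj₂ d), ?_⟩
      convert I.add_mem h₁ h₂ using 1
      simp only [Pi.add_apply, map_add, add_mul, Finset.sum_add_distrib]
      abel
    | smul p u _ ih =>
      obtain ⟨j, hj, h⟩ := ih
      choose c hc using fun d : (Π i : Fin n, Fin (n - (i : ℕ))) =>
        quotient_span a (p * ∏ i : Fin n, MvPolynomial.X i ^ ((d i : ℕ)))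
      refine ⟨fun e => ∑ d, j d * c d e, fun e => J.sum_mem fun d _ => J.mul_mem_right _ (hj d), ?_⟩
      have h1 := I.add_mem (I.mul_mem_left p h) (I.sum_mem (t := Finset.univ) fun d _ => I.mul_mem_left (MvPolynomial.C (j d)) (hc d))
      convert h1 using 1
      simp only [smul_eq_mul, map_sum, map_mul, Finset.sum_mul, mul_sub, Finset.mul_sum, Finset.sum_sub_distrib, mul_assoc,
        mul_left_comm p]
      rw [Finset.sum_comm]
      abel
  · rintro ⟨j, hj, h⟩
    rw [← sub_add_cancel x (∑ d, MvPolynomial.C (j d) * ∏ i : Fin n, MvPolynomial.X i ^ ((d i : ℕ)))]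
    exact Submodule.add_mem_sup h (Ideal.sum_mem _ fun d _ => Ideal.mul_mem_right _ _ (Ideal.mem_map_of_mem _ (hj d)))

end Groth.Agent.S16404
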