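import Groth.Statements.S16405
-- import your own Groth.Agent.* helpers here

set_option autoImplicit false
universe u v
open InvQ

namespace Groth.Agent.S16405

/-- In weight form. Let b : L → ℤ^r be an injective homomorphism of abelian groups (the case in view: L
the character group of a maximal torus T of a semisimple group over ℂ and b the map dual to the
surjection of the rank-r split torus T' onto T that sends the i-th coordinate cocharacter to the
primitive generator of the i-th ray of the Weyl chamber; only the injectivity of b is used, and ℂ is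
replaced by any commutative ring k). Grade the monoid algebra k[L × ℕ^r] (the coordinate ring of T ×
𝔸^r) by ℤ^r, the monomial (w, n) having weight b(w) + n (the weights of the T'-action u·(t, v) =
(b^∨(u) t, u v)), and grade k[ℕ^r] by ℤ^r/b(L), the monomial n having weight the class of n (the
weights of the action on 𝔸^r of the diagonalizable kernel Z of T' → T, a finite group in the case in
view). For a diagonalizable group acting on an affine scheme the ring of invariants is the
weight-zero part, so the two weight-zero parts are the coordinate rings of the quotients (T ×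
𝔸^r)//T' and 𝔸^r//Z. The statement: the algebra map k[L × ℕ^r] → k[ℕ^r] induced by the projection L
× ℕ^r → ℕ^r (restriction to the slice 1 × 𝔸^r) maps the weight-zero part of k[L × ℕ^r] bijectively
onto the weight-zero part of k[ℕ^r]; hence it induces an isomorphism of k-algebras between them. -/
theorem result
    (k : Type u) [CommRing k] (r : ℕ) (L : Type v) [AddCommGroup L]
    (b : L →+ (Fin r → ℤ)) (hb : Function.Injective b) :
    Set.BijOn
      (AddMonoidAlgebra.mapDomainAlgHom k k (AddMonoidHom.snd L (Fin r → ℕ)))
      (AddMonoidAlgebra.gradeBy k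
        (b.comp (AddMonoidHom.fst L (Fin r → ℕ)) +
          (AddMonoidHom.compLeft (Nat.castAddMonoidHom ℤ) (Fin r)).comp (AddMonoidHom.snd L (Fin r → ℕ))) 0 :
        Set (AddMonoidAlgebra k (L × (Fin r → ℕ))))
      (AddMonoidAlgebra.gradeBy k
        ((QuotientAddGroup.mk' b.range).comp (AddMonoidHom.compLeft (Nat.castAddMonoidHom ℤ) (Fin r))) 0 :
        Set (AddMonoidAlgebra k (Fin r → ℕ))) := by
  classical
  let M := L × (Fin r → ℕ)
  let c : (Fin r → ℕ) →+ (Fin r → ℤ) := (Nat.castAddMonoidHom ℤ).compLeft (Fin r)
  let w : M →+ (Fin r → ℤ) := b.comp (AddMonoidHom.fst L (Fin r → ℕ)) + c.comp (AddMonoidHom.snd L (Fin r → ℕ))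
  let q : (Fin r → ℕ) →+ _ := (QuotientAddGroup.mk' b.range).comp c
  have hinj : Set.InjOn (AddMonoidHom.snd L (Fin r → ℕ)) (w ⁻¹' {0}) := by
    rintro ⟨l, m⟩ hx ⟨l', m'⟩ hy h
    simp only [AddMonoidHom.coe_snd] at h
    subst h
    have e1 : b l + c m = 0 := hx
    have e2 : b l' + c m = 0 := hy
    rw [hb (add_right_cancel (e1.trans e2.symm))]
  have hto : ∀ x : M, w x = 0 → q x.2 = 0 := by
    rintro ⟨l, m⟩ hx
    simp only [q, AddMonoidHom.comp_apply, QuotientAddGroup.mk'_apply, QuotientAddGroup.eq_zero_iff]
    refine ⟨-l, ?_⟩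
    rw [map_neg]
    exact (eq_neg_of_add_eq_zero_right hx).symm
  refine ⟨?_, ?_, ?_⟩
  · intro f hf
    change _ ⊆ (_ : Set _) at hf
    change _ ⊆ (_ : Set _)
    simp only [AddMonoidAlgebra.mapDomainAlgHom_apply, AddMonoidAlgebra.coeff_mapDomain]
    intro m hm
    obtain ⟨x, hx, rfl⟩ := Finset.mem_image.mp (Finsupp.mapDomain_support hm)
    exact hto x (hf hx)
  · intro f hf g hg h
    simp only [AddMonoidAlgebra.mapDomainAlgHom_apply] at h
    have h' := congrArg AddMonoidAlgebra.coeff h
    simp only [AddMonoidAlgebra.coeff_mapDomain] at h'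
    exact AddMonoidAlgebra.coeff_injective (Finsupp.mapDomain_injOn _ hinj hf hg h')
  · intro g hg
    have hpre : ∀ m : g.coeff.support, ∃ l : L, w (l, (m : Fin r → ℕ)) = 0 := by
      intro m
      have hq : q (m : Fin r → ℕ) = 0 := ((AddMonoidAlgebra.mem_gradeBy_iff _ _ _ g).mp hg) (Finset.mem_coe.mpr m.2)
      obtain ⟨l, hl⟩ := (QuotientAddGroup.eq_zero_iff _).mp hq
      refine ⟨-l, ?_⟩
      change b (-l) + c m = 0
      rw [map_neg, hl]
      exact neg_add_cancel _
    choose l hl using hpre
    let s : (Fin r → ℕ) → M := fun m => if h : m ∈ g.coeff.support then (l ⟨m, h⟩, m) else (0, m)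
    refine ⟨AddMonoidAlgebra.mapDomain s g, ?_, ?_⟩
    · change _ ⊆ (_ : Set _)
      simp only [AddMonoidAlgebra.coeff_mapDomain]
      intro x hx
      obtain ⟨m, hm, rfl⟩ := Finset.mem_image.mp (Finsupp.mapDomain_support hx)
      simp only [s, dif_pos hm]
      exact hl ⟨m, hm⟩
    · apply AddMonoidAlgebra.coeff_injective
      simp only [AddMonoidAlgebra.mapDomainAlgHom_apply, AddMonoidAlgebra.coeff_mapDomain, ← Finsupp.mapDomain_comp]
      conv_rhs => rw [← Finsupp.mapDomain_id (v := g.coeff)]
      apply Finsupp.mapDomain_congr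
      intro m hm
      simp only [Function.comp_apply, s]
      split_ifs <;> rfl

end Groth.Agent.S16405
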