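import Groth.Statements.S16414
import Mathlib.Tactic

set_option autoImplicit false
open Dieud

namespace Groth.Agent.S16414

/-- Let μ be a rational number with 0 < μ ≤ 1 and i an integer, and put f(i,j) = max(−i−j, −j, 0) for
integers j. Then min over all integers j of f(i,j) + jμ exists and equals max(−iμ, 0). -/
theorem result (μ : ℚ) (hμ0 : 0 < μ) (hμ1 : μ ≤ 1) (i : ℤ) :
    IsLeast (Set.range fun j : ℤ => ((max (max (-i - j) (-j)) 0 : ℤ) : ℚ) + (j : ℚ) * μ)
      (max (-(i : ℚ) * μ) 0) := by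
  refine ⟨⟨max (-i) 0, ?_⟩, ?_⟩
  · dsimp only
    rcases le_total 0 i with h | h
    · have h0 : max (-i) 0 = 0 := by omega
      have h1 : max (max (-i - 0) (-0)) 0 = (0 : ℤ) := by omega
      have h2 : (0:ℚ) ≤ (i:ℚ) * μ := mul_nonneg (by exact_mod_cast h) hμ0.le
      rw [h0, h1, max_eq_right (by linarith : -(i:ℚ) * μ ≤ 0)]
      simp
    · have h0 : max (-i) 0 = -i := by omega
      have h1 : max (max (-i - -i) (- -i)) 0 = (0 : ℤ) := by omega
      have h2 : (i:ℚ) * μ ≤ 0 := mul_nonpos_of_nonpos_of_nonneg (by exact_mod_cast h) hμ0.le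
      rw [h0, h1, max_eq_left (by linarith : 0 ≤ -(i:ℚ) * μ)]
      push_cast; ring
  · rintro x ⟨j, rfl⟩
    dsimp only
    set m : ℤ := max (max (-i - j) (-j)) 0 with hm
    have h1 : 0 ≤ (m:ℚ) := by exact_mod_cast (by omega : 0 ≤ m)
    have h2 : 0 ≤ (m:ℚ) + j := by exact_mod_cast (by omega : 0 ≤ m + j)
    have h3 : 0 ≤ (m:ℚ) + j + i := by exact_mod_cast (by omega : 0 ≤ m + j + i)
    refine max_le ?_ ?_
    · nlinarith [mul_nonneg h3 hμ0.le, mul_nonneg h1 (sub_nonneg.2 hμ1)]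
    · nlinarith [mul_nonneg h2 hμ0.le, mul_nonneg h1 (sub_nonneg.2 hμ1)]

end Groth.Agent.S16414
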