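import Groth.Statements.S16416
import Mathlib.RingTheory.WittVector.Frobenius
import Mathlib.LinearAlgebra.Span.Basic
-- import your own Groth.Agent.* helpers here

set_option autoImplicit false
universe u v w
open Dieud

namespace Groth.Agent.S16416

/-- For a prime p and a perfect field k of characteristic p, write W = W(k) for the ring of Witt vectors
and σ for its Frobenius; let M and N be free W-modules of finite rank, each with additive maps F
(σ-semilinear) and V (with V(σ(a)m) = aV(m)) satisfying FV = VF = p, and H = Hom_W(M, N). On H the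
operator F acts through h ↦ F ∘ h ∘ V, and V acts partially: V·h is the W-linear map h' with h'(V m)
= V(h(m)) for all m, when it exists. Let H₁ be the largest W-submodule of H stable under both (it
contains every submodule stable under both). Then H₁ ∩ V·H = V·H₁: if y ∈ H and V·y exists and lies
in H₁, then y ∈ H₁, so that H₁/VH₁ → H/(H ∩ VH) is injective. (The published statement is for the
Cartier modules of two p-divisible formal groups over k, every slope of the first below every slope
of the second; only the structure just listed is used, so connectedness and the slope condition are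
not assumed.) -/
theorem result
    (p : ℕ) [Fact p.Prime] (k : Type u) [Field k] [CharP k p] [PerfectRing k p]
    (M : Type v) [AddCommGroup M] [Module (WittVector p k) M]
    [Module.Free (WittVector p k) M] [Module.Finite (WittVector p k) M]
    (N : Type w) [AddCommGroup N] [Module (WittVector p k) N]
    [Module.Free (WittVector p k) N] [Module.Finite (WittVector p k) N]
    (FM VM : M →+ M) (FN VN : N →+ N)
    (hFM : ∀ (a : WittVector p k) (m : M), FM (a • m) = WittVector.frobenius a • FM m)
    (hVM : ∀ (a : WittVector p k) (m : M), VM (WittVector.frobenius a • m) = a • VM m)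
    (hFVM : ∀ m : M, FM (VM m) = (p : WittVector p k) • m)
    (hVFM : ∀ m : M, VM (FM m) = (p : WittVector p k) • m)
    (hFN : ∀ (a : WittVector p k) (n : N), FN (a • n) = WittVector.frobenius a • FN n)
    (hVN : ∀ (a : WittVector p k) (n : N), VN (WittVector.frobenius a • n) = a • VN n)
    (hFVN : ∀ n : N, FN (VN n) = (p : WittVector p k) • n)
    (hVFN : ∀ n : N, VN (FN n) = (p : WittVector p k) • n)
    (H₁ : Submodule (WittVector p k) (M →ₗ[WittVector p k] N))
    (hF : ∀ h ∈ H₁, ∃ h' ∈ H₁, ∀ m : M, h' m = FN (h (VM m)))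
    (hV : ∀ h ∈ H₁, ∃ h' ∈ H₁, ∀ m : M, h' (VM m) = VN (h m))
    (hmax : ∀ S : Submodule (WittVector p k) (M →ₗ[WittVector p k] N),
      (∀ h ∈ S, ∃ h' ∈ S, ∀ m : M, h' m = FN (h (VM m))) →
      (∀ h ∈ S, ∃ h' ∈ S, ∀ m : M, h' (VM m) = VN (h m)) → S ≤ H₁)
    (y : M →ₗ[WittVector p k] N) (x : M →ₗ[WittVector p k] N) (hx : x ∈ H₁)
    (hxy : ∀ m : M, x (VM m) = VN (y m)) :
    y ∈ H₁ := by
  have hbij : Function.Bijective (WittVector.frobenius : WittVector p k →+* WittVector p k) :=
    WittVector.frobenius_bijective p k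
  have hex : ∀ h : M →ₗ[WittVector p k] N, ∃ h' : M →ₗ[WittVector p k] N,
      ∀ m, h' m = FN (h (VM m)) := fun h =>
    ⟨{ toFun := fun m => FN (h (VM m))
       map_add' := fun a b => by simp [map_add]
       map_smul' := fun a m => by
         obtain ⟨b, rfl⟩ := hbij.2 a
         rw [hVM, map_smul, hFN, RingHom.id_apply] }, fun m => rfl⟩
  choose Φ hΦ using hex
  let S : Submodule (WittVector p k) (M →ₗ[WittVector p k] N) :=
    H₁ ⊔ Submodule.span _ (Set.range fun j : ℕ => Φ^[j] y)
  have hyS : ∀ j, Φ^[j] y ∈ S := fun j => Submodule.mem_sup_right (Submodule.subset_span ⟨j, rfl⟩)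
  have hΦ0 : Φ 0 = 0 := LinearMap.ext fun m => by simp [hΦ]
  have hΦadd : ∀ a b, Φ (a + b) = Φ a + Φ b := fun a b => LinearMap.ext fun m => by simp [hΦ, map_add]
  have hΦsmul : ∀ (c : WittVector p k) a, Φ (c • a) = WittVector.frobenius c • Φ a :=
    fun c a => LinearMap.ext fun m => by simp [hΦ, hFN]
  let P : (M →ₗ[WittVector p k] N) → Prop := fun h => ∃ h' ∈ S, ∀ m : M, h' (VM m) = VN (h m)
  have hspan : ∀ b ∈ Submodule.span (WittVector p k) (Set.range fun j : ℕ => Φ^[j] y), Φ b ∈ S ∧ P b := by
    intro b hb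
    induction hb using Submodule.span_induction with
    | mem z hz =>
      obtain ⟨j, rfl⟩ := hz
      dsimp only
      refine ⟨?_, ?_⟩
      · rw [← Function.iterate_succ_apply' Φ j y]
        exact hyS (j + 1)
      · rcases j with - | j
        · exact ⟨x, Submodule.mem_sup_left hx, hxy⟩
        · refine ⟨(p : WittVector p k) • Φ^[j] y, S.smul_mem _ (hyS j), fun m => ?_⟩
          rw [Function.iterate_succ_apply', hΦ, hVFN]
          rfl
    | zero => exact ⟨by rw [hΦ0]; exact zero_mem _, 0, zero_mem _, fun m => by simp⟩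
    | add u v _ _ hu hv =>
      obtain ⟨hu1, u', hu', hu''⟩ := hu
      obtain ⟨hv1, v', hv', hv''⟩ := hv
      exact ⟨by rw [hΦadd]; exact add_mem hu1 hv1, u' + v', add_mem hu' hv',
        fun m => by simp [hu'', hv'', map_add]⟩
    | smul c u _ hu =>
      obtain ⟨hu1, u', hu', hu''⟩ := hu
      obtain ⟨d, rfl⟩ := hbij.2 c
      exact ⟨by rw [hΦsmul]; exact S.smul_mem _ hu1, d • u', S.smul_mem _ hu', fun m => by
        rw [LinearMap.smul_apply, hu'', LinearMap.smul_apply, hVN]⟩
  have hFS : ∀ h ∈ S, Φ h ∈ S := by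
    intro h hh
    obtain ⟨a, ha, b, hb, rfl⟩ := Submodule.mem_sup.1 hh
    obtain ⟨h', hh', he⟩ := hF a ha
    rw [hΦadd, show Φ a = h' from LinearMap.ext fun m => by rw [hΦ, he]]
    exact add_mem (Submodule.mem_sup_left hh') (hspan b hb).1
  have hVS : ∀ h ∈ S, P h := by
    intro h hh
    obtain ⟨a, ha, b, hb, rfl⟩ := Submodule.mem_sup.1 hh
    obtain ⟨a', ha', ha''⟩ := hV a ha
    obtain ⟨b', hb', hb''⟩ := (hspan b hb).2
    exact ⟨a' + b', add_mem (Submodule.mem_sup_left ha') hb', fun m => by simp [ha'', hb'', map_add]⟩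
  exact hmax S (fun h hh => ⟨Φ h, hFS h hh, hΦ h⟩) hVS (hyS 0)

end Groth.Agent.S16416
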