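import Groth.Statements.S16417
import Groth.Agent.Dieud71.HomQuot

set_option autoImplicit false
universe u v w
open Dieud

namespace Groth.Agent.S16417

/-- For a prime p and a perfect field k of characteristic p, write W = W(k) for the ring of Witt vectors
and σ for its Frobenius; let M and N be free W-modules of finite rank, each with additive maps F
(σ-semilinear) and V (with V(σ(a)m) = aV(m)) satisfying FV = VF = p, and H = Hom_W(M, N); write VM ⊆
M and VN ⊆ N for the images of V. (a) A W-linear h : M → N maps VM into VN if and only if h(V m) =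
V(h'(m)) for all m for some W-linear h' : M → N (so the maps with this property form H ∩ V·H). (b)
The natural map from H to the W-linear maps VM → N/VN has image exactly the maps vanishing on pM =
V(FM): every such map is induced by some h ∈ H. (c) The W-length of H/(H ∩ V·H) is r₂ s₁, where r₂
is the length of N/VN and s₁ = rank M − length(M/VM) is the length of VM/pM. (The published
statement is for the Cartier modules of two p-divisible formal groups over k, every slope of the
first below every slope of the second, and phrases (b), (c) as an isomorphism of H/(H ∩ VH) with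
Hom_k(VM/pM, N/VN); only the structure listed is used, so connectedness and the slope condition are
not assumed.) -/
theorem result
    (p : ℕ) [Fact p.Prime] (k : Type u) [Field k] [CharP k p] [PerfectRing k p]
    (M : Type v) [AddCommGroup M] [Module (WittVector p k) M]
    [Module.Free (WittVector p k) M] [Module.Finite (WittVector p k) M]
    (N : Type w) [AddCommGroup N] [Module (WittVector p k) N]
    [Module.Free (WittVector p k) N] [Module.Finite (WittVector p k) N]
    (FM VM : M →+ M) (FN VN : N →+ N)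
    (hFM : ∀ (a : WittVector p k) (m : M), FM (a • m) = WittVector.frobenius a • FM m)
    (hVM : ∀ (a : WittVector p k) (m : M), VM (WittVector.frobenius a • m) = a • VM m)
    (hFVM : ∀ m : M, FM (VM m) = (p : WittVector p k) • m)
    (hVFM : ∀ m : M, VM (FM m) = (p : WittVector p k) • m)
    (hFN : ∀ (a : WittVector p k) (n : N), FN (a • n) = WittVector.frobenius a • FN n)
    (hVN : ∀ (a : WittVector p k) (n : N), VN (WittVector.frobenius a • n) = a • VN n)
    (hFVN : ∀ n : N, FN (VN n) = (p : WittVector p k) • n)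
    (hVFN : ∀ n : N, VN (FN n) = (p : WittVector p k) • n)
    (r₂ s₁ : ℕ)
    (hr₂ : Module.length (WittVector p k) (N ⧸ Submodule.span (WittVector p k) (Set.range VN)) = r₂)
    (hs₁ : (Module.finrank (WittVector p k) M : ℕ∞) =
      Module.length (WittVector p k) (M ⧸ Submodule.span (WittVector p k) (Set.range VM)) + s₁) :
    (∀ h : M →ₗ[WittVector p k] N,
      (∀ m : M, h (VM m) ∈ Submodule.span (WittVector p k) (Set.range VN)) ↔
        ∃ h' : M →ₗ[WittVector p k] N, ∀ m : M, h (VM m) = VN (h' m)) ∧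
    (∀ g : Submodule.span (WittVector p k) (Set.range VM) →ₗ[WittVector p k]
        N ⧸ Submodule.span (WittVector p k) (Set.range VN),
      (∀ m : M, g ⟨VM (FM m), Submodule.subset_span ⟨FM m, rfl⟩⟩ = 0) →
      ∃ h : M →ₗ[WittVector p k] N, ∀ x : Submodule.span (WittVector p k) (Set.range VM),
        (Submodule.span (WittVector p k) (Set.range VN)).mkQ (h x) = g x) ∧
    Module.length (WittVector p k) ((M →ₗ[WittVector p k] N) ⧸
      ⨅ m : M, (Submodule.span (WittVector p k) (Set.range VN)).comap
        (LinearMap.applyₗ (VM m) : (M →ₗ[WittVector p k] N) →ₗ[WittVector p k] N)) = (r₂ * s₁ : ℕ) := by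
  classical
  let W := WittVector p k
  let σ := WittVector.frobeniusEquiv p k
  have hσ : ∀ a : W, WittVector.frobenius (σ.symm a) = a := fun a => σ.apply_symm_apply a
  let SM := Submodule.span W (Set.range VM)
  let SN := Submodule.span W (Set.range VN)
  have hVMa : ∀ (a : W) (m : M), VM (a • m) = σ.symm a • VM m := fun a m => by
    conv_lhs => rw [← hσ a]
    exact hVM _ _
  have hVNa : ∀ (a : W) (n : N), VN (a • n) = σ.symm a • VN n := fun a n => by
    conv_lhs => rw [← hσ a]
    exact hVN _ _
  have hpirr : Irreducible (p : W) := WittVector.irreducible p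
  have hVNinj : Function.Injective VN := fun x y h => by
    have := congrArg FN h
    rw [hFVN, hFVN] at this
    exact smul_right_injective N hpirr.ne_zero this
  have hrange : ∀ n, n ∈ SN → ∃ x, VN x = n := fun n hn => by
    induction hn using Submodule.span_induction with
    | mem x hx => exact hx
    | zero => exact ⟨0, map_zero _⟩
    | add a b _ _ ha hb => obtain ⟨x, rfl⟩ := ha; obtain ⟨y, rfl⟩ := hb; exact ⟨x + y, map_add _ _ _⟩
    | smul c a _ ha => obtain ⟨x, rfl⟩ := ha; exact ⟨WittVector.frobenius c • x, hVN c x⟩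
  let I : Ideal W := Ideal.span {(p : W)}
  haveI : I.IsMaximal := PrincipalIdealRing.isMaximal_of_irreducible hpirr
  -- reduction modulo p
  let P := M ⧸ (I • (⊤ : Submodule W M))
  let red : M →ₗ[W] P := Submodule.mkQ _
  have hP : Module.IsTorsionBySet W P I := fun x a => by
    obtain ⟨x, rfl⟩ := Submodule.mkQ_surjective _ x
    rw [← map_smul, Submodule.mkQ_apply, Submodule.Quotient.mk_eq_zero]
    exact Submodule.smul_mem_smul a.2 trivial
  let Q := N ⧸ SN
  have hQ : Module.IsTorsionBySet W Q I := fun x a => by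
    obtain ⟨n, rfl⟩ := Submodule.mkQ_surjective _ x
    obtain ⟨c, hc⟩ := Ideal.mem_span_singleton'.1 a.2
    rw [← map_smul, Submodule.mkQ_apply, Submodule.Quotient.mk_eq_zero]
    show (a : W) • n ∈ SN
    rw [← hc, mul_smul, ← hVFN]
    exact SN.smul_mem _ (Submodule.subset_span ⟨_, rfl⟩)
  let U : Submodule W P := SM.map red
  have hU : Module.IsTorsionBySet W U I := fun x a => Subtype.ext (@hP (x : P) a)
  have hpM : ∀ x, red x = 0 → ∃ m, x = VM (FM m) := fun x hx => by
    rw [Submodule.mkQ_apply, Submodule.Quotient.mk_eq_zero, Submodule.ideal_span_singleton_smul] at hx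
    obtain ⟨m, -, rfl⟩ := (Submodule.mem_smul_pointwise_iff_exists _ _ _).1 hx
    exact ⟨m, (hVFM m).symm⟩
  have hb : ∀ g : SM →ₗ[W] Q, (∀ m : M, g ⟨VM (FM m), Submodule.subset_span ⟨FM m, rfl⟩⟩ = 0) →
      ∃ h : M →ₗ[W] N, ∀ x : SM, SN.mkQ (h x) = g x := fun g hg => by
    let π : SM →ₗ[W] U := (red.comp SM.subtype).codRestrict U fun x => ⟨x, x.2, rfl⟩
    have hπ : Function.Surjective π := fun ⟨y, hy⟩ => by
      obtain ⟨x, hx, rfl⟩ := hy
      exact ⟨⟨x, hx⟩, rfl⟩
    have hker : LinearMap.ker π ≤ LinearMap.ker g := fun x hx => by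
      obtain ⟨m, hm⟩ := hpM x (congrArg Subtype.val hx)
      rw [LinearMap.mem_ker, ← hg m]
      exact congrArg g (Subtype.ext hm)
    let f : U →ₗ[W] Q := (LinearMap.ker π).liftQ g hker ∘ₗ (π.quotKerEquivOfSurjective hπ).symm.toLinearMap
    have hf : ∀ x, f (π x) = g x := fun x => by
      have : (π.quotKerEquivOfSurjective hπ).symm (π x) = Submodule.Quotient.mk x := (LinearEquiv.symm_apply_eq _).2 rfl
      simp only [f, LinearMap.comp_apply, LinearEquiv.coe_coe, this, Submodule.liftQ_apply]
    obtain ⟨G, hG⟩ := Groth.Dieud71.exists_extend hP U f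
    obtain ⟨h, hh⟩ := Module.projective_lifting_property SN.mkQ (G.comp red) (Submodule.mkQ_surjective _)
    exact ⟨h, fun x => (LinearMap.congr_fun hh x).trans ((LinearMap.congr_fun hG (π x)).trans (hf x))⟩
  refine ⟨fun h => ⟨fun hm => ?_, fun ⟨h', hh'⟩ m => hh' m ▸ Submodule.subset_span ⟨_, rfl⟩⟩, hb, ?_⟩
  · choose h' hh' using fun m => hrange _ (hm m)
    refine ⟨{ toFun := h', map_add' := fun a b => hVNinj ?_, map_smul' := fun c a => hVNinj ?_ }, fun m => (hh' m).symm⟩
    · rw [hh', map_add, map_add, map_add, hh', hh']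
    · rw [hh', hVMa, map_smul, RingHom.id_apply, hVNa, hh']
  let SK := ⨅ m : M, SN.comap (LinearMap.applyₗ (VM m) : (M →ₗ[W] N) →ₗ[W] N)
  let π : SM →ₗ[W] U := (red.comp SM.subtype).codRestrict U fun x => ⟨x, x.2, rfl⟩
  have hπ : Function.Surjective π := fun ⟨y, hy⟩ => by
    obtain ⟨x, hx, rfl⟩ := hy
    exact ⟨⟨x, hx⟩, rfl⟩
  have hdesc : ∀ h : M →ₗ[W] N, ∀ x : M, red x = 0 → SN.mkQ (h x) = 0 := fun h x hx => by
    obtain ⟨m, rfl⟩ := hpM x hx
    rw [hVFM, map_smul, map_smul]
    exact @hQ (SN.mkQ (h m)) ⟨(p : W), Ideal.mem_span_singleton_self _⟩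
  let Φ : (M →ₗ[W] N) →ₗ[W] (U →ₗ[W] Q) :=
    { toFun := fun h => ((I • (⊤ : Submodule W M)).liftQ (SN.mkQ ∘ₗ h) (fun x hx => hdesc h x ((Submodule.Quotient.mk_eq_zero _).2 hx))) ∘ₗ U.subtype
      map_add' := fun a b => LinearMap.ext fun u => by
        obtain ⟨x, rfl⟩ := hπ u
        change SN.mkQ ((a + b) x) = SN.mkQ (a x) + SN.mkQ (b x)
        rw [LinearMap.add_apply, map_add]
      map_smul' := fun c a => LinearMap.ext fun u => by
        obtain ⟨x, rfl⟩ := hπ u
        change SN.mkQ ((c • a) x) = c • SN.mkQ (a x)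
        rw [LinearMap.smul_apply, map_smul] }
  have hΦ : ∀ h x, Φ h (π x) = SN.mkQ (h x) := fun h x => rfl
  have hsurj : Function.Surjective Φ := fun f => by
    obtain ⟨h, hh⟩ := hb (f.comp π) fun m => by
      have : π ⟨VM (FM m), Submodule.subset_span ⟨FM m, rfl⟩⟩ = 0 := Subtype.ext (by
        show red (VM (FM m)) = 0
        rw [hVFM, map_smul]
        exact @hP (red m) ⟨(p : W), Ideal.mem_span_singleton_self _⟩)
      rw [LinearMap.comp_apply, this, map_zero]
    refine ⟨h, LinearMap.ext fun u => ?_⟩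
    obtain ⟨x, rfl⟩ := hπ u
    exact (hΦ h x).trans (hh x)
  have hkerΦ : LinearMap.ker Φ = SK := by
    ext h
    simp only [SK, LinearMap.mem_ker, Submodule.mem_iInf, Submodule.mem_comap]
    refine ⟨fun h0 m => ?_, fun h0 => LinearMap.ext fun u => ?_⟩
    · have := LinearMap.congr_fun h0 (π ⟨VM m, Submodule.subset_span ⟨m, rfl⟩⟩)
      rw [hΦ, LinearMap.zero_apply, Submodule.mkQ_apply, Submodule.Quotient.mk_eq_zero] at this
      exact this
    · obtain ⟨⟨x, hx⟩, rfl⟩ := hπ u
      rw [hΦ, LinearMap.zero_apply, Submodule.mkQ_apply, Submodule.Quotient.mk_eq_zero]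
      show x ∈ SN.comap h
      exact (Submodule.span_le.2 (by rintro _ ⟨m, rfl⟩; exact h0 m) : SM ≤ SN.comap h) hx
  -- lengths
  let b := Module.Free.chooseBasis W M
  have hlP : Module.length W P = Module.finrank W M := by
    let e : P ≃ₗ[W] (Module.Free.ChooseBasisIndex W M → W ⧸ I) :=
      (Submodule.quotEquivOfEq _ _ (by rfl)).trans ((TensorProduct.quotTensorEquivQuotSMul M I).symm.trans
        ((TensorProduct.congr (LinearEquiv.refl W _) b.equivFun).trans (TensorProduct.piScalarRight W W (W ⧸ I) _)))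
    rw [e.length_eq, Module.length_pi_of_fintype, Finset.sum_congr rfl (fun _ _ => (?_ : Module.length W (W ⧸ I) = 1)),
      Finset.sum_const, nsmul_one, Module.finrank_eq_card_basis b]
    · rfl
    · haveI : IsSimpleModule W (W ⧸ I) := by rw [isSimpleModule_iff_isCoatom]; exact Ideal.isMaximal_def.1 inferInstance
      exact Module.length_eq_one W _
  have hlU : Module.length W U = s₁ := by
    let ρ : P →ₗ[W] M ⧸ SM := (I • (⊤ : Submodule W M)).liftQ SM.mkQ (fun x hx => by
      obtain ⟨m, rfl⟩ := hpM x ((Submodule.Quotient.mk_eq_zero _).2 hx)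
      rw [LinearMap.mem_ker, Submodule.mkQ_apply, Submodule.Quotient.mk_eq_zero]
      exact Submodule.subset_span ⟨_, rfl⟩)
    have hρ : Function.Surjective ρ := fun y => by
      obtain ⟨y, rfl⟩ := Submodule.mkQ_surjective _ y
      exact ⟨red y, rfl⟩
    have hex : Function.Exact U.subtype ρ := fun y => by
      obtain ⟨y, rfl⟩ := Submodule.mkQ_surjective _ y
      refine ⟨fun hy => ⟨⟨red y, y, (Submodule.Quotient.mk_eq_zero _).1 hy, rfl⟩, rfl⟩, ?_⟩
      rintro ⟨⟨_, x, hx, rfl⟩, hxy⟩
      rw [← hxy]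
      exact (Submodule.Quotient.mk_eq_zero _).2 hx
    have h := Module.length_eq_add_of_exact U.subtype ρ Subtype.val_injective hρ hex
    rw [hlP, hs₁, add_comm (Module.length W U)] at h
    refine ((WithTop.add_left_inj ?_).1 h).symm
    intro htop
    have h' : ((Module.finrank (WittVector p k) M : ℕ) : ℕ∞) = (⊤ : ℕ∞) + (s₁ : ℕ∞) := hs₁.trans (congrArg (· + (s₁ : ℕ∞)) htop)
    exact ENat.natCast_ne_top _ (h'.trans (top_add _))
  rw [(Submodule.quotEquivOfEq SK _ hkerΦ.symm |>.trans (Φ.quotKerEquivOfSurjective hsurj)).length_eq]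
  exact Groth.Dieud71.length_hom hU hQ s₁ r₂ hlU hr₂

end Groth.Agent.S16417
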