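import Groth.Statements.S16418
import Mathlib.RingTheory.WittVector.DiscreteValuationRing
import Mathlib.RingTheory.PrincipalIdealDomain
import Mathlib.RingTheory.Finiteness.Basic
-- import your own Groth.Agent.* helpers here

set_option autoImplicit false
universe u v
open Dieud

namespace Groth.Agent.S16418

/-- Step of the proof: for a prime p and a perfect field k of characteristic p, write W = W(k) and σ for
its Frobenius; let M be a W-module with additive maps F (σ-semilinear) and V (with V(σ(a)m) = aV(m))
such that FV = VF = p, V is injective, ⋂_n V^n M = 0 and M/VM is finitely generated over W. Put M₁ =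
{x ∈ M : for every n there is m with V^m x ∈ F^n M} and M₂ = {x ∈ M : F^n x = 0 for some n}. Then M₂
is killed by a single power of F, and F is injective on M₁. (The published text makes these
assertions inside a proof, for the V-reduced Cartier module of a connected smooth formal group of
finite dimension over k; only the listed structure is used, and V-adic completeness is not needed.) -/
theorem result
    (p : ℕ) [Fact p.Prime] (k : Type u) [Field k] [CharP k p] [PerfectRing k p]
    (M : Type v) [AddCommGroup M] [Module (WittVector p k) M]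
    (F V : M →+ M)
    (hF : ∀ (a : WittVector p k) (m : M), F (a • m) = WittVector.frobenius a • F m)
    (hV : ∀ (a : WittVector p k) (m : M), V (WittVector.frobenius a • m) = a • V m)
    (hFV : ∀ m : M, F (V m) = (p : WittVector p k) • m)
    (hVF : ∀ m : M, V (F m) = (p : WittVector p k) • m)
    (hVinj : Function.Injective V)
    (hsep : ∀ x : M, (∀ n : ℕ, ∃ y : M, x = (⇑V)^[n] y) → x = 0)
    (hfin : Module.Finite (WittVector p k) (M ⧸ Submodule.span (WittVector p k) (Set.range V))) :
    (∃ c : ℕ, ∀ x : M, (∃ n : ℕ, (⇑F)^[n] x = 0) → (⇑F)^[c] x = 0) ∧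
    (∀ x : M, (∀ n : ℕ, ∃ (m : ℕ) (y : M), (⇑V)^[m] x = (⇑F)^[n] y) → F x = 0 → x = 0) := by
  let N : ℕ → Submodule (WittVector p k) M := fun n =>
    { carrier := {x | (⇑F)^[n] x = 0}
      add_mem' := fun {x y} hx hy => by
        simp only [Set.mem_setOf_eq] at hx hy ⊢
        rw [iterate_map_add, hx, hy, add_zero]
      zero_mem' := iterate_map_zero F n
      smul_mem' := fun a x hx => by
        simp only [Set.mem_setOf_eq] at hx ⊢
        have : ∀ (j : ℕ) (b : WittVector p k), ∃ b' : WittVector p k, (⇑F)^[j] (b • x) = b' • (⇑F)^[j] x := by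
          intro j
          induction j with
          | zero => exact fun b => ⟨b, rfl⟩
          | succ j ih =>
            intro b
            obtain ⟨b', hb'⟩ := ih b
            exact ⟨WittVector.frobenius b', by
              rw [Function.iterate_succ_apply', Function.iterate_succ_apply', hb', hF]⟩
        obtain ⟨b', hb'⟩ := this n a
        rw [hb', hx, smul_zero] }
  have hmem : ∀ n x, x ∈ N n ↔ (⇑F)^[n] x = 0 := fun n x => Iff.rfl
  have hmono : Monotone N := monotone_nat_of_le_succ fun n x hx => by
    rw [hmem] at hx ⊢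
    rw [Function.iterate_succ_apply', hx, map_zero]
  have hcomm : ∀ (n : ℕ) (x : M), (⇑F)^[n] (V x) = V ((⇑F)^[n] x) := by
    intro n
    induction n with
    | zero => exact fun x => rfl
    | succ n ih =>
      intro x
      rw [Function.iterate_succ_apply', Function.iterate_succ_apply', ih, hFV, hVF]
  have hcommV : ∀ (n j : ℕ) (x : M), (⇑F)^[n] ((⇑V)^[j] x) = (⇑V)^[j] ((⇑F)^[n] x) := by
    intro n j
    induction j with
    | zero => exact fun x => rfl
    | succ j ih =>
      intro x
      rw [Function.iterate_succ_apply', hcomm, ih, Function.iterate_succ_apply']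
  let VM : Submodule (WittVector p k) M := Submodule.span (WittVector p k) (Set.range V)
  have hVM : ∀ x ∈ VM, ∃ y, V y = x := by
    intro x hx
    induction hx using Submodule.span_induction with
    | mem x hx => exact hx
    | zero => exact ⟨0, map_zero V⟩
    | add x y _ _ hx hy =>
      obtain ⟨a, rfl⟩ := hx
      obtain ⟨b, rfl⟩ := hy
      exact ⟨a + b, map_add V a b⟩
    | smul a x _ hx =>
      obtain ⟨y, rfl⟩ := hx
      exact ⟨WittVector.frobenius a • y, hV a y⟩
  have : IsNoetherian (WittVector p k) (M ⧸ VM) := isNoetherian_of_isNoetherianRing_of_finite _ _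
  obtain ⟨c, hc⟩ := monotone_stabilizes_iff_noetherian.2 this
    ⟨fun n => (N n).map VM.mkQ, fun i j hij => Submodule.map_mono (hmono hij)⟩
  have hstep : ∀ n, c ≤ n → ∀ x ∈ N n, ∃ z ∈ N c, ∃ y ∈ N n, x = z + V y := by
    intro n hn x hx
    have h1 : VM.mkQ x ∈ (N c).map VM.mkQ := by
      have h2 : (N c).map VM.mkQ = (N n).map VM.mkQ := hc n hn
      rw [h2]
      exact Submodule.mem_map_of_mem hx
    obtain ⟨z, hz, hzx⟩ := h1
    obtain ⟨y, hy⟩ := hVM (x - z) ((Submodule.Quotient.eq VM).1 hzx.symm)
    refine ⟨z, hz, y, ?_, by rw [hy, add_sub_cancel]⟩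
    have h3 : V y ∈ N n := hy ▸ sub_mem hx (hmono hn hz)
    rw [hmem, hcomm] at h3
    exact (hmem n y).2 (hVinj (h3.trans (map_zero V).symm))
  have hiter : ∀ n, c ≤ n → ∀ j : ℕ, ∀ x ∈ N n, ∃ z ∈ N c, ∃ y, x = z + (⇑V)^[j] y := by
    intro n hn j
    induction j with
    | zero => exact fun x _ => ⟨0, zero_mem _, x, by simp⟩
    | succ j ih =>
      intro x hx
      obtain ⟨z, hz, y, hy, rfl⟩ := hstep n hn x hx
      obtain ⟨z', hz', y', rfl⟩ := ih y hy
      refine ⟨z + V z', add_mem hz ?_, y', ?_⟩
      · rw [hmem, hcomm, (hmem c z').1 hz', map_zero]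
      · rw [map_add, Function.iterate_succ_apply', add_assoc]
  have hstab : ∀ x : M, (∃ n : ℕ, (⇑F)^[n] x = 0) → (⇑F)^[c] x = 0 := by
    rintro x ⟨n, hn⟩
    have hx : x ∈ N (max n c) := hmono (le_max_left _ _) ((hmem n x).2 hn)
    refine hsep _ fun j => ?_
    obtain ⟨z, hz, y, rfl⟩ := hiter _ (le_max_right _ _) j x hx
    exact ⟨(⇑F)^[c] y, by rw [iterate_map_add, (hmem c z).1 hz, zero_add, hcommV]⟩
  refine ⟨⟨c, hstab⟩, fun x hx hFx => ?_⟩
  obtain ⟨j, y, hy⟩ := hx c
  have h1 : (⇑F)^[c + 1] y = 0 := by
    rw [Function.iterate_succ_apply', ← hy]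
    have h2 := hcommV 1 j x
    simp only [Function.iterate_one] at h2
    rw [h2, hFx, iterate_map_zero]
  rw [hstab y ⟨c + 1, h1⟩] at hy
  have hinj : Function.Injective ((⇑V)^[j]) := hVinj.iterate j
  exact hinj (hy.trans (iterate_map_zero V j).symm)

end Groth.Agent.S16418
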