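import Groth.Statements.S16420
import Mathlib
import Groth.Agent.Calg7.SummandLift
-- import your own Groth.Agent.* helpers here

set_option autoImplicit false
universe u v
open CAlg

namespace Groth.Agent.S16420

open TensorProduct in
/-- For a commutative local Artinian ring R and an exact sequence 0 → H₁ → H → H₂ → 0 of finite free
R-modules, let F₁ ⊆ H₁ and F₂ ⊆ H₂ be submodules with free quotients, 𝔫 an ideal of R of square
zero, R̄ = R/𝔫, and F̄ ⊆ H̄ = R̄ ⊗ H an R̄-submodule with free quotient meeting the image of R̄ ⊗ H₁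
in the image of R̄ ⊗ F₁ and mapping onto the image of R̄ ⊗ F₂; let L be the set of direct summands F
of H with F ∩ H₁ = F₁, with image F̄ in H̄ and with image F₂ in H₂. Then L is a torsor under
Hom_R(F₂, 𝔫(H₁/F₁)), acting as follows: an R-linear u : H₂ → H₁ with u(H₂) ⊆ 𝔫H₁ moves F ∈ L to the
image of F under x ↦ x + f(u(g(x))). Precisely, for F ∈ L: (1) that image again lies in L; (2) it
equals F if and only if u(F₂) ⊆ 𝔫F₁; (3) every F' ∈ L is obtained from F in this way for some such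
u. (The published statement phrases the torsor under the R̄-linear maps from F̄₂ to 𝔫 ⊗ (H̄₁/F̄₁), a
group identified with the maps u as above modulo those with u(F₂) ⊆ 𝔫F₁, and describes the action
through a lift F₂ → 𝔫 ⊗ H₁ composed with F → F/F₁ ≅ F₂; restricted to F this is x ↦ f(u(g(x))).) -/
theorem result
    (R : Type u) [CommRing R] [IsArtinianRing R] [IsLocalRing R]
    (H₁ : Type v) (H : Type v) (H₂ : Type v)
    [AddCommGroup H₁] [Module R H₁] [AddCommGroup H] [Module R H] [AddCommGroup H₂] [Module R H₂]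
    [Module.Free R H₁] [Module.Finite R H₁] [Module.Free R H] [Module.Finite R H]
    [Module.Free R H₂] [Module.Finite R H₂]
    (f : H₁ →ₗ[R] H) (g : H →ₗ[R] H₂) (hf : Function.Injective f) (hg : Function.Surjective g)
    (hfg : Function.Exact f g)
    (F₁ : Submodule R H₁) (F₂ : Submodule R H₂) [Module.Free R (H₁ ⧸ F₁)] [Module.Free R (H₂ ⧸ F₂)]
    (𝔫 : Ideal R) (hn : 𝔫 * 𝔫 = ⊥)
    (Fb : Submodule (R ⧸ 𝔫) ((R ⧸ 𝔫) ⊗[R] H))
    [Module.Free (R ⧸ 𝔫) (((R ⧸ 𝔫) ⊗[R] H) ⧸ Fb)]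
    (h1 : Fb ⊓ LinearMap.range (f.baseChange (R ⧸ 𝔫)) =
      Submodule.map (f.baseChange (R ⧸ 𝔫)) (F₁.baseChange (R ⧸ 𝔫)))
    (h2 : Submodule.map (g.baseChange (R ⧸ 𝔫)) Fb = F₂.baseChange (R ⧸ 𝔫))
    (F F' : Submodule R H)
    (hF : (∃ C : Submodule R H, IsCompl (F) C) ∧
      (F) ⊓ LinearMap.range f = Submodule.map f F₁ ∧
      Submodule.baseChange (R ⧸ 𝔫) (F) = Fb ∧ Submodule.map g (F) = F₂)
    (hF' : (∃ C : Submodule R H, IsCompl (F') C) ∧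
      (F') ⊓ LinearMap.range f = Submodule.map f F₁ ∧
      Submodule.baseChange (R ⧸ 𝔫) (F') = Fb ∧ Submodule.map g (F') = F₂) :
    (∀ u : H₂ →ₗ[R] H₁, (∀ y : H₂, u y ∈ 𝔫 • (⊤ : Submodule R H₁)) →
      (∃ C : Submodule R H, IsCompl (Submodule.map (LinearMap.id + f ∘ₗ u ∘ₗ g) F) C) ∧
      (Submodule.map (LinearMap.id + f ∘ₗ u ∘ₗ g) F) ⊓ LinearMap.range f = Submodule.map f F₁ ∧
      Submodule.baseChange (R ⧸ 𝔫) (Submodule.map (LinearMap.id + f ∘ₗ u ∘ₗ g) F) = Fb ∧ Submodule.map g (Submodule.map (LinearMap.id + f ∘ₗ u ∘ₗ g) F) = F₂) ∧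
    (∀ u : H₂ →ₗ[R] H₁, (∀ y : H₂, u y ∈ 𝔫 • (⊤ : Submodule R H₁)) →
      (Submodule.map (LinearMap.id + f ∘ₗ u ∘ₗ g) F = F ↔ ∀ y ∈ F₂, u y ∈ 𝔫 • F₁)) ∧
    (∃ u : H₂ →ₗ[R] H₁, (∀ y : H₂, u y ∈ 𝔫 • (⊤ : Submodule R H₁)) ∧
      F' = Submodule.map (LinearMap.id + f ∘ₗ u ∘ₗ g) F) := by
  obtain ⟨π₂, hπ₂⟩ := Groth.Calg7.SummandLift.exists_proj F₂
  haveI : Module.Projective R F₂ := Module.Projective.of_split F₂.subtype π₂ (LinearMap.ext hπ₂)
  haveI : Module.Projective R (H ⧸ LinearMap.range f) :=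
    Module.Projective.of_equiv (Submodule.quotEquivOfEq _ _ hfg.linearMap_ker_eq.symm ≪≫ₗ LinearMap.quotKerEquivOfSurjective g hg).symm
  obtain ⟨π₁, hπ₁⟩ := Groth.Calg7.SummandLift.exists_proj F₁
  refine ⟨fun u hu => ⟨Groth.Calg7.SummandLift.shear_isCompl hfg u F hF.1,
    Groth.Calg7.SummandLift.shear_inter hfg u F hF.2.1,
    (Groth.Calg7.SummandLift.shear_baseChange 𝔫 u hu F).trans hF.2.2.1,
    Groth.Calg7.SummandLift.shear_map hfg u F hF.2.2.2⟩, fun u hu => ?_, ?_⟩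
  · constructor
    · intro h y hy
      obtain ⟨x, hx, rfl⟩ := hF.2.2.2.ge hy
      have h1 : f (u (g x)) ∈ Submodule.map f F₁ := by
        rw [← hF.2.1]
        refine ⟨?_, _, rfl⟩
        have h2 : x + f (u (g x)) ∈ F := h.le ⟨x, hx, rfl⟩
        simpa using sub_mem h2 hx
      obtain ⟨a, ha, hax⟩ := h1
      obtain rfl := hf hax
      have := Groth.Calg7.SummandLift.proj_mem_smul (π := π₁) (hu (g x))
      rwa [hπ₁ ⟨_, ha⟩] at this
    · intro h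
      obtain ⟨σ, σ', δ, -, -, -, hstep⟩ := Groth.Calg7.SummandLift.exists_shear hf hfg
        (F := F) (F' := F) ⟨hF.2.1, hF.2.2.2⟩ ⟨hF.2.1, hF.2.2.2⟩
      have h0 : ∀ x ∈ F, f (u (g x)) ∈ F := fun x hx =>
        (hF.2.1.ge ⟨_, Submodule.smul_le_right (h _ (hF.2.2.2.le ⟨x, hx, rfl⟩)), rfl⟩).1
      refine le_antisymm ?_ fun x hx => ⟨x - f (u (g x)), sub_mem hx (h0 x hx), ?_⟩
      · rintro _ ⟨x, hx, rfl⟩
        exact add_mem hx (h0 x hx)
      · simp only [LinearMap.add_apply, LinearMap.id_apply, LinearMap.comp_apply, map_sub,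
          Groth.Calg7.SummandLift.g_f hfg, map_zero, sub_zero, sub_add_cancel, add_zero]
        abel
  · obtain ⟨σ, σ', δ, hσ, hσ', hδ, hstep⟩ := Groth.Calg7.SummandLift.exists_shear hf hfg
      (F := F) (F' := F') ⟨hF.2.1, hF.2.2.2⟩ ⟨hF'.2.1, hF'.2.2.2⟩
    let u : H₂ →ₗ[R] H₁ := (LinearMap.id - F₁.subtype ∘ₗ π₁) ∘ₗ δ ∘ₗ (F₂.subtype ∘ₗ π₂)
    refine ⟨u, fun y => ?_, (hstep u fun y hy => ?_).symm⟩
    · obtain ⟨y', hy'⟩ : ∃ y' : F₂, y' = π₂ y := ⟨_, rfl⟩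
      have h3 : (1 : R ⧸ 𝔫) ⊗ₜ[R] f (δ y') ∈ Fb ⊓ LinearMap.range (f.baseChange (R ⧸ 𝔫)) := by
        refine ⟨?_, (1 : R ⧸ 𝔫) ⊗ₜ[R] δ y', rfl⟩
        rw [hδ, TensorProduct.tmul_sub]
        refine sub_mem ?_ ?_
        · rw [← hF'.2.2.1]; exact Submodule.tmul_mem_baseChange_of_mem 1 (hσ' y').1
        · rw [← hF.2.2.1]; exact Submodule.tmul_mem_baseChange_of_mem 1 (hσ y').1
      rw [h1] at h3
      obtain ⟨t, ht, ht'⟩ := h3
      have h4 : t = (1 : R ⧸ 𝔫) ⊗ₜ[R] δ y' := Groth.Calg7.SummandLift.baseChange_inj hf _ ht'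
      rw [h4] at ht
      have h5 : (1 : R ⧸ 𝔫) ⊗ₜ[R] ((LinearMap.id - F₁.subtype ∘ₗ π₁ : H₁ →ₗ[R] H₁) (δ y')) = 0 := by
        obtain ⟨w, hw⟩ := ht
        rw [← LinearMap.baseChange_tmul, ← hw, ← LinearMap.comp_apply, ← LinearMap.baseChange_comp,
          show (LinearMap.id - F₁.subtype ∘ₗ π₁ : H₁ →ₗ[R] H₁) ∘ₗ F₁.subtype = 0 from LinearMap.ext fun x => by simp [hπ₁],
          LinearMap.baseChange_zero, LinearMap.zero_apply]
      have h6 := (Groth.Calg7.SummandLift.tmul_eq_zero_iff 𝔫 _).1 h5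
      rw [hy'] at h6
      exact h6
    · show δ (π₂ y : H₂) - (π₁ (δ (π₂ y : H₂)) : H₁) - δ y ∈ F₁
      rw [hπ₂ ⟨y, hy⟩, sub_sub, add_comm, ← sub_sub, sub_self, zero_sub]
      exact neg_mem (π₁ _).2

end Groth.Agent.S16420
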