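import Groth.Statements.S16421
import Mathlib

set_option autoImplicit false
set_option linter.style.haveILetI false
universe u
open FrobAlg

namespace Groth.Agent.S16421

theorem flat_of_bijective_sum {A S : Type u} [CommRing A] [CommRing S] (f : A →+* S) {κ : Type u} (m : κ → S)
    (h : Function.Bijective fun c : κ →₀ A => c.sum fun e r => f r * m e) : f.Flat := by
  algebraize [f]
  have : Function.Bijective (Finsupp.linearCombination A m) := by
    convert h using 1
    funext c
    simp [Finsupp.linearCombination_apply, Algebra.smul_def, RingHom.algebraMap_toAlgebra]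
  haveI : Module.Free A S := Module.Free.of_equiv (LinearEquiv.ofBijective _ this)
  exact inferInstanceAs (Module.Flat A S)

theorem exists_trivial_relation {A S : Type u} [CommRing A] [CommRing S] {f : A →+* S} (hf : f.Flat) {l : ℕ}
    (c : Fin l → A) (z : Fin l → S) (h : ∑ i, f (c i) * z i = 0) :
    ∃ (k : ℕ) (a : Fin l → Fin k → A) (w : Fin k → S),
      (∀ i, z i = ∑ j, f (a i j) * w j) ∧ ∀ j, ∑ i, c i * a i j = 0 := by
  algebraize [f]
  haveI : Module.Flat A S := hf
  obtain ⟨k, a, w, h1, h2⟩ := Module.Flat.iff_forall_isTrivialRelation.mp ‹Module.Flat A S› (f := c) (x := z)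
    (by simpa [Algebra.smul_def, RingHom.algebraMap_toAlgebra] using h)
  exact ⟨k, a, w, fun i => (h1 i).trans (by simp [Algebra.smul_def, RingHom.algebraMap_toAlgebra]), h2⟩

/-- Let p be a prime and R a commutative ring of characteristic p with a p-basis (x_i), meaning that the
monomials ∏ x_i^(e i) with every exponent e i < p form a basis of R as a module over itself through
the Frobenius, i.e. the map sending a finitely supported family of coefficients c to ∑_e (c e)^p · ∏
x_i^(e i) is a bijection onto R. Then the canonical ring map from R to its perfect closure is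
faithfully flat. -/
theorem result (p : ℕ) [Fact p.Prime]
    (R : Type u) [CommRing R] [CharP R p] (ι : Type u) (x : ι → R)
    (hx : Function.Bijective
      (fun c : {e : ι →₀ ℕ // ∀ i, e i < p} →₀ R =>
        c.sum (fun e r => r ^ p * e.1.prod (fun i n => x i ^ n)))) :
    (PerfectClosure.of R p).FaithfullyFlat := by
  classical
  let F := fun n => iterateFrobenius R p n
  have hF1 : (frobenius R p).Flat :=
    flat_of_bijective_sum (frobenius R p)
      (fun e : {e : ι →₀ ℕ // ∀ i, e i < p} => e.1.prod fun i n => x i ^ n)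
      (by simpa only [frobenius_def] using hx)
  have hF : ∀ n, (F n).Flat := by
    intro n
    induction n with
    | zero =>
      rw [show F 0 = RingHom.id R from RingHom.ext fun a => by simp [F, iterateFrobenius_def]]
      exact RingHom.Flat.id R
    | succ n ih =>
      rw [show F (n + 1) = (F n).comp (frobenius R p) from RingHom.ext fun a => by
        simp [F, iterateFrobenius_def, frobenius_def, pow_succ', pow_mul]]
      exact RingHom.Flat.comp hF1 ih
  let P := PerfectClosure R p
  have hraise : ∀ (n d : ℕ) (a : R), PerfectClosure.mk R p (n, a) = PerfectClosure.mk R p (d + n, F d a) :=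
    fun n d a => PerfectClosure.R.sound R p d n a (F d a) (by
      simp only [F, iterateFrobenius_def]
      rw [← coe_iterateFrobenius, iterateFrobenius_def])
  have hzero : ∀ (n : ℕ) (a : R), PerfectClosure.mk R p (n, a) = 0 → ∃ d, F d a = 0 := by
    intro n a h
    rw [PerfectClosure.zero_def, PerfectClosure.mk_eq_iff] at h
    obtain ⟨z, hz⟩ := h
    exact ⟨0 + z, by simpa [F, ← coe_iterateFrobenius] using hz⟩
  have hof : ∀ (n : ℕ) (a b : R), PerfectClosure.of R p a * PerfectClosure.mk R p (n, b) =
      PerfectClosure.mk R p (n, F n a * b) := by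
    intro n a b
    rw [PerfectClosure.of_apply, PerfectClosure.mk_mul_mk]
    simp [F, ← coe_iterateFrobenius]
  algebraize [PerfectClosure.of R p]
  have hadd : ∀ (n : ℕ) (a b : R),
      PerfectClosure.mk R p (n, a) + PerfectClosure.mk R p (n, b) = PerfectClosure.mk R p (n, a + b) := by
    intro n a b
    rw [PerfectClosure.mk_add_mk]
    refine ((hraise n n (a + b)).trans ?_).symm
    simp [F, ← coe_iterateFrobenius, map_add]
  have hsum : ∀ {m : Type} (s : Finset m) (n : ℕ) (a : m → R),
      ∑ i ∈ s, PerfectClosure.mk R p (n, a i) = PerfectClosure.mk R p (n, ∑ i ∈ s, a i) := by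
    intro m s n a
    induction s using Finset.induction_on with
    | empty => simp [PerfectClosure.mk_zero_right]
    | insert i s hi ih => rw [Finset.sum_insert hi, Finset.sum_insert hi, ih, hadd]
  haveI : Module.Flat R P := by
    rw [Module.Flat.iff_forall_isTrivialRelation]
    intro l f z hz
    choose y hy using fun i => PerfectClosure.mk_surjective R p (z i)
    let N := ∑ i, (y i).1
    let Y : Fin l → R := fun i => F (N - (y i).1) (y i).2
    have hY : ∀ i, z i = PerfectClosure.mk R p (N, Y i) := by
      intro i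
      have hi : (y i).1 ≤ N := Finset.single_le_sum (f := fun i => (y i).1) (fun j _ => Nat.zero_le _) (Finset.mem_univ i)
      rw [← hy i]
      refine (hraise (y i).1 (N - (y i).1) (y i).2).trans ?_
      rw [Nat.sub_add_cancel hi]
    have h0 : PerfectClosure.mk R p (N, ∑ i, F N (f i) * Y i) = 0 := by
      rw [← hsum, ← hz]
      refine Finset.sum_congr rfl fun i _ => ?_
      rw [hY, Algebra.smul_def, RingHom.algebraMap_toAlgebra, hof]
    obtain ⟨d, hd⟩ := hzero _ _ h0
    let M := d + N
    have hcomp : ∀ a, F d (F N a) = F M a := fun a => by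
      simp [F, M, iterateFrobenius_def, pow_add, ← pow_mul, mul_comm]
    have hrel : ∑ i, F M (f i) * F d (Y i) = 0 := by
      rw [← hd, map_sum]
      exact Finset.sum_congr rfl fun i _ => by rw [map_mul, hcomp]
    obtain ⟨k, a, w, hw, ha⟩ := exists_trivial_relation (hF M) f _ hrel
    refine ⟨k, a, fun j => PerfectClosure.mk R p (M, w j), fun i => ?_, ha⟩
    rw [hY i, hraise N d (Y i), hw i, ← hsum]
    refine Finset.sum_congr rfl fun j _ => ?_
    rw [Algebra.smul_def, RingHom.algebraMap_toAlgebra, hof]
  refine ⟨fun {m} hm htop => ?_⟩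
  have hmem : ∀ z ∈ m • (⊤ : Submodule R P), ∃ (n : ℕ) (a : R), a ∈ m ∧ z = PerfectClosure.mk R p (n, a) := by
    have hFm : ∀ (d : ℕ) (a : R), a ∈ m → F d a ∈ m := fun d a ha => by
      simp only [F, iterateFrobenius_def]
      exact Ideal.pow_mem_of_mem m ha _ (pow_pos (Nat.Prime.pos Fact.out) d)
    intro z hz
    refine Submodule.smul_induction_on hz (fun r hr t _ => ?_) ?_
    · obtain ⟨⟨n, b⟩, rfl⟩ := PerfectClosure.mk_surjective R p t
      exact ⟨n, F n r * b, m.mul_mem_right _ (hFm n r hr), by rw [Algebra.smul_def, RingHom.algebraMap_toAlgebra, hof]⟩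
    · rintro _ _ ⟨n, a, ha, rfl⟩ ⟨n', a', ha', rfl⟩
      refine ⟨n' + n, F n' a + F n a', add_mem (hFm _ _ ha) (hFm _ _ ha'), ?_⟩
      rw [hraise n n' a, hraise n' n a', add_comm n n', hadd]
  obtain ⟨n, a, ha, h1⟩ := hmem 1 (htop.ge Submodule.mem_top)
  rw [PerfectClosure.one_def, PerfectClosure.mk_eq_iff] at h1
  obtain ⟨w, hw⟩ := h1
  refine hm.ne_top ((Ideal.eq_top_iff_one m).mpr ?_)
  rw [iterate_map_one] at hw
  rw [hw, ← coe_iterateFrobenius, iterateFrobenius_def]
  exact Ideal.pow_mem_of_mem m ha _ (pow_pos (Nat.Prime.pos Fact.out) _)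

end Groth.Agent.S16421
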