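import Groth.Statements.S16422


set_option autoImplicit false
universe u
open GrMod

namespace Groth.Agent.S16422

/-- Let S be a commutative ring graded by ℤ with pieces 𝒜 n, and V a decreasing sequence of homogeneous
ideals for which S is graded-complete, i.e. for each degree n the map from 𝒜 n to the inverse limit
of the quotients 𝒜 n / (𝒜 n ∩ V m) is bijective (stated as: a degree-n element in every V m
vanishes, and every sequence in 𝒜 n whose consecutive differences lie in the V m has a limit in 𝒜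
n). Then every graded S-module M which is finitely generated and projective as an S-module is
graded-complete in the same sense for the submodules V m · M: for each n the map from ℳ n to the
inverse limit of ℳ n / (ℳ n ∩ V m · M) is bijective. -/
theorem result
    (S : Type u) [CommRing S] (𝒜 : ℤ → AddSubgroup S) [GradedRing 𝒜]
    (V : ℕ → HomogeneousIdeal 𝒜) (hV : ∀ m, (V (m + 1)).toIdeal ≤ (V m).toIdeal)
    (hsep : ∀ (n : ℤ) (s : S), s ∈ 𝒜 n → (∀ m, s ∈ (V m).toIdeal) → s = 0)
    (hcpl : ∀ (n : ℤ) (f : ℕ → S), (∀ m, f m ∈ 𝒜 n) →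
      (∀ m, f (m + 1) - f m ∈ (V m).toIdeal) → ∃ s ∈ 𝒜 n, ∀ m, s - f m ∈ (V m).toIdeal)
    (M : Type u) [AddCommGroup M] [Module S M] (ℳ : ℤ → AddSubgroup M)
    [DirectSum.Decomposition ℳ] [SetLike.GradedSMul 𝒜 ℳ]
    [Module.Finite S M] [Module.Projective S M] :
    (∀ (n : ℤ) (x : M), x ∈ ℳ n → (∀ m, x ∈ (V m).toIdeal • (⊤ : Submodule S M)) → x = 0) ∧
    (∀ (n : ℤ) (g : ℕ → M), (∀ m, g m ∈ ℳ n) →
      (∀ m, g (m + 1) - g m ∈ (V m).toIdeal • (⊤ : Submodule S M)) →
      ∃ x ∈ ℳ n, ∀ m, x - g m ∈ (V m).toIdeal • (⊤ : Submodule S M)) := by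
  classical
  have hcomp : ∀ (d j : ℤ) (x : M), x ∈ ℳ d → ∀ s : S,
      (DirectSum.decompose ℳ (s • x) (j + d) : M) = (DirectSum.decompose 𝒜 s j : S) • x := by
    intro d j x hx s
    induction s using DirectSum.Decomposition.inductionOn 𝒜 with
    | zero => simp
    | @homogeneous e s =>
      have h1 : (s : S) • x ∈ ℳ (e + d) := SetLike.GradedSMul.smul_mem (A := 𝒜) s.2 hx
      rcases eq_or_ne e j with rfl | hne
      · rw [DirectSum.decompose_of_mem_same ℳ h1, DirectSum.decompose_of_mem_same 𝒜 s.2]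
      · rw [DirectSum.decompose_of_mem_ne ℳ h1 (fun h => hne (add_right_cancel h)),
          DirectSum.decompose_of_mem_ne 𝒜 s.2 hne, zero_smul]
    | add a b ha hb =>
      rw [add_smul, DirectSum.decompose_add, DirectSum.add_apply, AddSubgroup.coe_add, ha, hb,
        DirectSum.decompose_add, DirectSum.add_apply, AddSubgroup.coe_add, add_smul]
  -- homogeneous generators
  obtain ⟨T, hT⟩ := Module.Finite.fg_top (R := S) (M := M)
  let U : Finset (ℤ × M) := T.biUnion fun t =>
    (DirectSum.decompose ℳ t).support.image fun i => (i, (DirectSum.decompose ℳ t i : M))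
  let ι := {u // u ∈ U}
  let d : ι → ℤ := fun u => u.1.1
  let x : ι → M := fun u => u.1.2
  have hx : ∀ u : ι, x u ∈ ℳ (d u) := by
    rintro ⟨u, hu⟩
    simp only [U, Finset.mem_biUnion, Finset.mem_image] at hu
    obtain ⟨t, -, i, -, rfl⟩ := hu
    exact (DirectSum.decompose ℳ t i).2
  let π : (ι → S) →ₗ[S] M := Fintype.linearCombination S x
  have hπ : Function.Surjective π := by
    rw [← LinearMap.range_eq_top, eq_top_iff, ← hT, Submodule.span_le]
    intro t ht
    rw [Fintype.range_linearCombination, SetLike.mem_coe, ← DirectSum.sum_support_decompose ℳ t]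
    refine Submodule.sum_mem _ fun i hi => Submodule.subset_span ?_
    exact ⟨⟨(i, (DirectSum.decompose ℳ t i : M)),
      Finset.mem_biUnion.2 ⟨t, ht, Finset.mem_image.2 ⟨i, hi, rfl⟩⟩⟩, rfl⟩
  obtain ⟨σ, hσ⟩ := Module.projective_lifting_property π LinearMap.id hπ
  let c : ℤ → M → ι → S := fun n z u => (DirectSum.decompose 𝒜 (σ z u) (n - d u) : S)
  have hsum : ∀ (n : ℤ) (z : M), z ∈ ℳ n → ∑ u, c n z u • x u = z := by
    intro n z hz
    have h1 : ∑ u, σ z u • x u = z := LinearMap.congr_fun hσ z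
    conv_rhs => rw [← DirectSum.decompose_of_mem_same ℳ hz, ← h1]
    rw [DirectSum.decompose_sum, DFinsupp.finsetSum_apply, AddSubmonoidClass.coe_finsetSum]
    refine Finset.sum_congr rfl fun u _ => ?_
    rw [← hcomp (d u) (n - d u) (x u) (hx u), sub_add_cancel]
  have hmem : ∀ (n : ℤ) (m : ℕ) (z : M), z ∈ (V m).toIdeal • (⊤ : Submodule S M) →
      ∀ u, c n z u ∈ (V m).toIdeal := by
    intro n m z hz u
    refine (V m).isHomogeneous _ ?_
    refine Submodule.smul_induction_on hz (fun r hr y _ => ?_) (fun y y' hy hy' => ?_)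
    · rw [map_smul]
      exact (V m).toIdeal.mul_mem_right _ hr
    · rw [map_add]
      exact (V m).toIdeal.add_mem hy hy'
  refine ⟨fun n z hz hm => ?_, fun n g hg hd => ?_⟩
  · rw [← hsum n z hz]
    refine Finset.sum_eq_zero fun u _ => ?_
    rw [hsep (n - d u) (c n z u) (DirectSum.decompose 𝒜 (σ z u) (n - d u)).2
      (fun m => hmem n m z (hm m) u), zero_smul]
  · have hlim : ∀ u : ι, ∃ s ∈ 𝒜 (n - d u), ∀ m, s - c n (g m) u ∈ (V m).toIdeal := fun u => by
      refine hcpl (n - d u) (fun m => c n (g m) u)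
        (fun m => (DirectSum.decompose 𝒜 (σ (g m) u) (n - d u)).2) fun m => ?_
      have h1 : c n (g (m + 1)) u - c n (g m) u = c n (g (m + 1) - g m) u := by
        simp only [c, map_sub, Pi.sub_apply, DirectSum.decompose_sub, DirectSum.sub_apply,
          AddSubgroup.coe_sub]
      rw [h1]
      exact hmem n m _ (hd m) u
    choose s hs hs' using hlim
    refine ⟨∑ u, s u • x u, sum_mem fun u _ => ?_, fun m => ?_⟩
    · have := SetLike.GradedSMul.smul_mem (A := 𝒜) (B := ℳ) (hs u) (hx u)
      rwa [vadd_eq_add, sub_add_cancel] at this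
    · rw [show ∑ u, s u • x u - g m = ∑ u, (s u - c n (g m) u) • x u by
        simp [sub_smul, Finset.sum_sub_distrib, hsum n (g m) (hg m)]]
      exact Submodule.sum_mem _ fun u _ => Submodule.smul_mem_smul (hs' u m) trivial

end Groth.Agent.S16422
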