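import Groth.Statements.S16424
import Mathlib
import Groth.Agent.FlatMor2.FibCrit.FreeNear
import Groth.Agent.FlatMor2.FibCrit.Fibre
import Groth.Agent.QCohMod.Pullback
import Groth.Agent.Ega4Algebra2.SmoothCodim
import Groth.Agent.Ega4Algebra1.RegularLocal
import Groth.Agent.Flatmor4.FlatDedekind
-- import your own Groth.Agent.* helpers here

set_option autoImplicit false
universe u
open CategoryTheory CategoryTheory.Limits AlgebraicGeometry TopologicalSpace
open RhoSh

namespace Groth.Agent.S16424

open TensorProduct IsLocalRing in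
/-- a module over a quotient which is torsion-free over a regular local ring of dimension at most one is flat -/
theorem flat_quot_of_tensor {R R' M N : Type u} [CommRing R] [CommRing R'] [Algebra R R'] [IsRegularLocalRing R']
    (hd : ringKrullDim R' ≤ 1) (hs : Function.Surjective (algebraMap R R')) (I : Ideal R)
    (hI : RingHom.ker (algebraMap R R') = I)
    [AddCommGroup M] [Module R M] [AddCommGroup N] [Module R' N] [Module.IsTorsionFree R' N]
    (e : R' ⊗[R] M ≃ₗ[R'] N) :
    Module.Flat (R ⧸ I) (M ⧸ (I • (⊤ : Submodule R M))) := by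
  subst hI
  haveI : IsDomain R' := Groth.Ega4Algebra1.isDomain_of_isRegularLocalRing R'
  haveI := Groth.Flatmor4.isBezout_of_regular_dim_le_one hd
  haveI : IsPrincipalIdealRing R' := inferInstance
  let ρ : (R ⧸ RingHom.ker (algebraMap R R')) ≃ₐ[R] R' :=
    Ideal.quotientKerAlgEquivOfSurjective (f := Algebra.ofId R R') hs
  let σ := ρ.toRingEquiv
  let ψ : (M ⧸ (RingHom.ker (algebraMap R R') • (⊤ : Submodule R M))) ≃ₗ[R] R' ⊗[R] M :=
    (TensorProduct.quotTensorEquivQuotSMul M _).symm.trans (TensorProduct.congr ρ.toLinearEquiv (LinearEquiv.refl R M))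
  let ε := ψ.toAddEquiv.trans e.toAddEquiv
  have hε : ∀ z m, ε (z • m) = σ z • ε m := by
    intro z m
    obtain ⟨r, rfl⟩ := Ideal.Quotient.mk_surjective z
    have h1 : ψ (Ideal.Quotient.mk (RingHom.ker (algebraMap R R')) r • m) = algebraMap R R' r • ψ m := by
      rw [algebraMap_smul, ← map_smul]; rfl
    show e (ψ (Ideal.Quotient.mk (RingHom.ker (algebraMap R R')) r • m)) = _
    rw [h1, map_smul]
    rfl
  haveI : IsDomain (R ⧸ RingHom.ker (algebraMap R R')) := σ.toMulEquiv.isDomain R'
  haveI : IsPrincipalIdealRing (R ⧸ RingHom.ker (algebraMap R R')) :=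
    IsPrincipalIdealRing.of_surjective σ.symm.toRingHom σ.symm.surjective
  haveI : Module.IsTorsionFree (R ⧸ RingHom.ker (algebraMap R R')) (M ⧸ (RingHom.ker (algebraMap R R') • (⊤ : Submodule R M))) := by
    refine ⟨fun r hr a b hab => ε.injective ?_⟩
    have hr' : IsRegular (σ r) :=
      isRegular_iff_ne_zero.mpr fun h0 => isRegular_iff_ne_zero.mp hr (σ.map_eq_zero_iff.mp h0)
    refine hr'.isSMulRegular ?_
    show σ r • ε a = σ r • ε b
    rw [← hε, ← hε]
    exact congrArg ε hab
  infer_instance

open IsLocalRing in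
theorem flat_fibre_of_torsionFree {X S : Scheme.{u}} (f : X ⟶ S) (F : X.Modules) (s : S) (w : ↥(f.fiber s))
    [IsRegularLocalRing ((f.fiber s).presheaf.stalk w)]
    (hd : ringKrullDim ((f.fiber s).presheaf.stalk w) ≤ 1)
    (htf : TorSh.IsTorsionFree ((Scheme.Modules.pullback (f.fiberι s)).obj F))
    (y : X) (hy : f.fiberι s w = y) :
    Module.Flat (↑(X.presheaf.stalk y) ⧸ Ideal.map (f.stalkMap y).hom (maximalIdeal ↑(S.presheaf.stalk (f y))))
      (↑(F.presheaf.stalk y) ⧸ (Ideal.map (f.stalkMap y).hom (maximalIdeal ↑(S.presheaf.stalk (f y))) •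
        (⊤ : Submodule ↑(X.presheaf.stalk y) ↑(F.presheaf.stalk y)))) := by
  subst hy
  obtain ⟨h1, h2⟩ := Groth.Agent.S9501.result f s w
  letI := Groth.QCohMod.stalkAlg (f.fiberι s) w
  haveI := htf w
  exact flat_quot_of_tensor hd h1 _ h2 (Groth.QCohMod.pullStalkEquiv (f.fiberι s) F w)

/-- Let X be a smooth, proper, geometrically irreducible scheme over a field k admitting an ample
invertible sheaf, S a k-scheme, and F a finitely presented quasi-coherent module on X ×_k S which is
flat over S and whose pullback to every fibre (X ×_k S)_s is torsion-free. Then F is free of finite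
rank on some open neighbourhood of every point x whose local ring in its fibre has Krull dimension
at most 1. In particular F is locally free on a big open subset of X ×_k S. -/
theorem result
    (k : Type u) [Field k] (X S : Scheme.{u})
    (a : X ⟶ Spec (CommRingCat.of k)) (b : S ⟶ Spec (CommRingCat.of k))
    [Smooth a] [IsProper a] [GeometricallyIrreducible a]
    (hproj : ∃ H : X.Modules, CohB1.IsAmple H)
    (F : (pullback a b).Modules) (hfp : CohB1.IsFP F)
    (hfl : FlatMod.IsFlatOver (pullback.snd a b) F)
    (htf : ∀ s : ↥S, TorSh.IsTorsionFree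
      ((Scheme.Modules.pullback ((pullback.snd a b).fiberι s)).obj F))
    (x : ↥(pullback a b))
    (hx : ringKrullDim ↑(CInt.fiberStalk (pullback.snd a b) x) ≤ 1) :
    ∃ (V : (pullback a b).Opens) (n : ℕ), x ∈ V ∧
      Nonempty (F.restrict V.ι ≅ FlatMod.freeMod (↑V) n) := by
  haveI : Smooth (pullback.snd a b) := inferInstance
  haveI : SheafOfModules.IsFinitePresentation (R := (pullback a b).ringCatSheaf) F := hfp
  haveI : F.IsQuasicoherent := inferInstance
  haveI : IsRegularLocalRing ↑(CInt.fiberStalk (pullback.snd a b) x) := Groth.Ega4b.isRegularLocalRing_fiberStalk _ x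
  exact Groth.FlatMor2.FibCrit.exists_free_near (pullback.snd a b) F hfp x (hfl x)
    (flat_fibre_of_torsionFree (pullback.snd a b) F _ ((pullback.snd a b).asFiber x) hx (htf _) x
      (Scheme.Hom.fiberι_asFiber (pullback.snd a b) x))

end Groth.Agent.S16424
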