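import Groth.Statements.S16425
import Groth.Agent.RhoShLib.ChartIdeal
import Groth.Agent.RefRank.RelDivBC
import Groth.Agent.AlgGrp1.SmoothReduced

set_option autoImplicit false
universe u
open CategoryTheory CategoryTheory.Limits AlgebraicGeometry TopologicalSpace
open RhoSh

namespace Groth.Agent.S16425

open Groth.RhoShLib

/-- Let X be a smooth, proper, geometrically irreducible scheme over a field k with an ample invertible
sheaf L, let S be a k-scheme, p : Y ⟶ X ×_k S an affine morphism of finite presentation, D ⊂ X ×_k S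
an effective Cartier divisor (given by its ideal sheaf I) which is flat over S, Q the open
complement of D, and s a section of p defined over Q. Then the functor sending an affine S-scheme T
to the set of sections of the base change p_T over X ×_k T whose restriction to the preimage of Q is
the base change of s is represented by a closed subscheme Z of S: a morphism g : T ⟶ S from an
affine scheme factors through Z if and only if such a section exists over X ×_k T (such a section is
unique when it exists). -/
theorem result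
    (k : Type u) [Field k] (X S Y : Scheme.{u})
    (a : X ⟶ Spec (CommRingCat.of k)) (b : S ⟶ Spec (CommRingCat.of k))
    [Smooth a] [IsProper a] [GeometricallyIrreducible a]
    (L : X.Modules) (hL : CohB1.IsAmple L)
    (p : Y ⟶ pullback a b) [IsAffineHom p] [LocallyOfFinitePresentation p]
    (I : (pullback a b).IdealSheafData) (hI : FGA.IsEffCartier I)
    [Flat (I.subschemeι ≫ pullback.snd a b)]
    (Q : (pullback a b).Opens) (hQ : Q = I.support.compl)
    (s : (Q : Scheme.{u}) ⟶ Y) (hs : s ≫ p = Q.ι) :
    ∃ (Z : Scheme.{u}) (i : Z ⟶ S), IsClosedImmersion i ∧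
      ∀ (T : Scheme.{u}) (g : T ⟶ S), IsAffine T →
        ((∃ h : T ⟶ Z, h ≫ i = g) ↔
          ∃ f : pullback (pullback.snd a b) g ⟶ Y,
            f ≫ p = pullback.fst (pullback.snd a b) g ∧
            ((pullback.fst (pullback.snd a b) g) ⁻¹ᵁ Q).ι ≫ f =
              ((pullback.fst (pullback.snd a b) g) ∣_ Q) ≫ s) := by
  have hI' : BlowUp.IsEffCartierIdeal I := hI
  have hIT : ∀ (T : Scheme.{u}) (g : T ⟶ S),
      BlowUp.IsEffCartierIdeal (I.comap (pullback.fst (pullback.snd a b) g)) :=
    fun T g => Groth.RefRank.RelDiv.isEffCartierIdeal_comap_fst (pullback.snd a b) I hI' g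
  have hQT : ∀ (T : Scheme.{u}) (g : T ⟶ S), pullback.fst (pullback.snd a b) g ⁻¹ᵁ Q =
      (I.comap (pullback.fst (pullback.snd a b) g)).support.compl := by
    intro T g
    subst hQ
    ext z
    simp [TopologicalSpace.Closeds.compl, Scheme.IdealSheafData.support_comap]
  haveI := Groth.AlgGrp1.geometricallyReduced_of_smooth a
  haveI : GeometricallyIntegral a := GeometricallyIntegral.of_geometricallyReduced_of_geometricallyIrreducible a
  haveI : IsIntegral X := GeometricallyIntegral.isIntegral_of_subsingleton a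
  have hK : IsField Γ(Spec (CommRingCat.of k), ⊤) :=
    MulEquiv.isField (Field.toIsField k) (Scheme.ΓSpecIso (CommRingCat.of k)).commRingCatIsoToRingEquiv.toMulEquiv
  choose n s' hxW hWa using hL.2.2
  have hchart : ∀ (U : S.affineOpens) (x : X), ∃ J : Ideal Γ(S, U.1), ∀ (T : Scheme.{u}) (g : T ⟶ S), IsAffine T →
      ∀ (hg : ⊤ ≤ g ⁻¹ᵁ U.1),
      ((∃ f, IsExtension p s (pullback.fst (pullback.snd a b) g) f) → J ≤ RingHom.ker (g.appLE U.1 ⊤ hg).hom) ∧
      (J ≤ RingHom.ker (g.appLE U.1 ⊤ hg).hom →
        ∃ f, IsExtension p s ((OT a b g (CohB1.genLocus _ (s' x))).ι ≫ pullback.fst (pullback.snd a b) g) f) :=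
    fun U x => exists_ideal_gloc k hK p I hI' hIT hQ s hs (Groth.PicAux.isInvertible_tensorPow hL.1 _) _
      (Groth.PropsBasic.Ample.genLocus_eq_gloc (s' x)) (hWa x) ⟨x, hxW x⟩ U
  choose J hJ using hchart
  suffices h : ∃ (Z : Scheme.{u}) (i : Z ⟶ S), IsClosedImmersion i ∧ ∀ (T : Scheme.{u}) (g : T ⟶ S), IsAffine T →
      ((∃ h : T ⟶ Z, h ≫ i = g) ↔ ∃ f, IsExtension p s (pullback.fst (pullback.snd a b) g) f) by
    obtain ⟨Z, i, hi, hrep⟩ := h
    exact ⟨Z, i, hi, fun T g hT => (hrep T g hT).trans (exists_congr fun f => isExtension_iff p s _ f)⟩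
  refine exists_closed_representing (fun T g => ∃ f, IsExtension p s (pullback.fst (pullback.snd a b) g) f) ?_ ?_ ?_
  · intro T g hT t ht hf
    let O : T → (pullback (pullback.snd a b) g).Opens := fun x => pullback.snd (pullback.snd a b) g ⁻¹ᵁ T.basicOpen (t x)
    refine exists_extension_of_cover p s _ (hIT T g) (hQT T g) (ι := ↥(pullback (pullback.snd a b) g))
      (fun z => O (pullback.snd (pullback.snd a b) g z)) (fun z => ⟨z, ht (pullback.snd (pullback.snd a b) g z)⟩) fun z => ?_
    set x := pullback.snd (pullback.snd a b) g z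
    obtain ⟨f, hfx⟩ := hf x
    let j : (O x : Scheme.{u}) ⟶ pullback (pullback.snd a b) ((T.basicOpen (t x)).ι ≫ g) :=
      pullback.lift ((O x).ι ≫ pullback.fst _ _) (pullback.snd (pullback.snd a b) g ∣_ T.basicOpen (t x))
        (by rw [morphismRestrict_ι_assoc, Category.assoc, pullback.condition])
    refine ⟨j ≫ f, ?_⟩
    have := hfx.comp p s j
    rwa [pullback.lift_fst] at this
  · rintro T T' g h _ _ ⟨f, hf⟩
    refine ⟨pullback.lift (pullback.fst _ _) (pullback.snd (pullback.snd a b) (h ≫ g) ≫ h)
      (by rw [Category.assoc, pullback.condition]) ≫ f, ?_⟩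
    have := hf.comp p s (pullback.lift (pullback.fst _ _) (pullback.snd (pullback.snd a b) (h ≫ g) ≫ h)
      (by rw [Category.assoc, pullback.condition]))
    rwa [pullback.lift_fst] at this
  · intro U
    refine ⟨⨆ x, J U x, fun T g hT hg => ⟨fun hf => iSup_le fun x => (hJ U x T g hT hg).1 hf, fun hk => ?_⟩⟩
    refine exists_extension_of_cover p s _ (hIT T g) (hQT T g) (ι := X)
      (fun x => OT a b g (CohB1.genLocus _ (s' x))) (fun z => ⟨qT a b g z, hxW _, trivial⟩)
      fun x => (hJ U x T g hT hg).2 ((le_iSup (J U) x).trans hk)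

end Groth.Agent.S16425
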