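import Groth.Statements.S16427
import Mathlib
import Groth.Agent.RhoShLib.Extend
-- import your own Groth.Agent.* helpers here

set_option autoImplicit false
universe u
open CategoryTheory CategoryTheory.Limits AlgebraicGeometry TopologicalSpace
open RhoSh

namespace Groth.Agent.S16427

/-- Let X be a smooth, proper, geometrically irreducible scheme over a field k admitting an ample
invertible sheaf, S a k-scheme, and U a big open subset of X ×_k S, i.e. at every point outside U
the local ring of the fibre over S has Krull dimension at least 2. Let p : Y ⟶ X ×_k S be affine and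
of finite type. Then any section s of p over U is the restriction of exactly one section of p over
the whole of X ×_k S. -/
theorem result
    (k : Type u) [Field k] (X S Y : Scheme.{u})
    (a : X ⟶ Spec (CommRingCat.of k)) (b : S ⟶ Spec (CommRingCat.of k))
    [Smooth a] [IsProper a] [GeometricallyIrreducible a]
    (hproj : ∃ H : X.Modules, CohB1.IsAmple H)
    (U : (pullback a b).Opens)
    (hU : ∀ x : ↥(pullback a b), x ∉ U →
      (2 : WithBot ℕ∞) ≤ ringKrullDim ↑(CInt.fiberStalk (pullback.snd a b) x))
    (p : Y ⟶ pullback a b) [IsAffineHom p] [LocallyOfFiniteType p]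
    (s : (U : Scheme.{u}) ⟶ Y) (hs : s ≫ p = U.ι) :
    ∃! t : pullback a b ⟶ Y, t ≫ p = 𝟙 (pullback a b) ∧ U.ι ≫ t = s := by
  exact Groth.RhoShLib.existsUnique_section (pullback.snd a b) p U hU s hs

end Groth.Agent.S16427
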