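import Groth.Statements.S1643
import Groth.Agent.Quot.RegularFree

set_option autoImplicit false
universe u
open CategoryTheory CategoryTheory.Limits AlgebraicGeometry
open Variety

namespace Groth.Agent.S1643

/-- Fix n ≥ 0, r ≥ 1 and a rational polynomial P. There is an integer m, depending only on n, r and P,
such that for every field k and every epimorphism from the free module of rank r on P^n_k onto a
coherent module F whose Euler characteristics χ(F(t)) are given by P for all integers t, the kernel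
is m-regular. -/
theorem result (n r : ℕ) (hr : 1 ≤ r) (P : Polynomial ℚ) :
    ∃ m : ℤ, ∀ (k : Type u) [Field k] (F : (CohB1.ProjSpace n k).Modules) (φ : FlatMod.freeMod (CohB1.ProjSpace n k) r ⟶ F), Coh.IsCoh F → Epi φ →
      (∀ t : ℤ, (Curv2.euler k (CohB1.ProjSpace n k) (CohB1.tensorMod F (Twist.twistProjSpace n k t)) : ℚ) = P.eval (t : ℚ)) →
      Curv2.IsMRegular k n (kernel φ) m := by
  refine ⟨Groth.Quot.regBound r n fun t : ℤ =>
    (r : ℤ) * Ring.choose (t + (n : ℤ)) n - ⌊P.eval (t : ℚ)⌋, fun k _ F φ hF hφ hP => ?_⟩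
  have := Groth.PnCoh.isLocallyNoetherian_projSpace n k
  have := hF.1
  have hfree := Groth.Quot.isCoh_freeMod (n := n) (k := k) r
  have hK : Coh.IsCoh (kernel φ) := Groth.QCohMod.isCoh_kernel φ hfree
  have h := Groth.Quot.mReg_of_sub_free r hK (kernel.ι φ)
  have hχ : Groth.Quot.chiT (kernel φ) = fun t : ℤ =>
      (r : ℤ) * Ring.choose (t + (n : ℤ)) n - ⌊P.eval (t : ℚ)⌋ := funext fun t => by
    have h1 := Groth.EulerDeg.euler_add (k := k)
      (Groth.Variety2.Reg.shortExact_fT (Groth.Variety2.Reg.kernel_shortExact φ) t)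
      (Groth.Quot.finCoh_fT hK t) (Groth.Quot.finCoh_fT hF t)
    change Groth.Quot.chiT (FlatMod.freeMod _ r) t =
      Groth.Quot.chiT (kernel φ) t + Groth.Quot.chiT F t at h1
    rw [Groth.Quot.chiT_freeMod] at h1
    rw [show ⌊P.eval (t : ℚ)⌋ = Groth.Quot.chiT F t by rw [← hP t]; exact Int.floor_intCast _]
    omega
  rwa [hχ] at h

end Groth.Agent.S1643
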