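import Groth.Statements.S16430
import Groth.Agent.S17979
import Groth.Agent.HensPair.Basic
import Mathlib.FieldTheory.PrimitiveElement
import Mathlib.RingTheory.Etale.StandardEtale

set_option autoImplicit false
universe u
open Hensel

namespace Groth.Agent.S16430

/-- For a Noetherian local ring A with residue field k and a finite separable field extension l of k,
there is a local ring E, finite and etale over A with local structure map, whose residue field is
k-isomorphic to l. -/
theorem result (A : Type u)
    [CommRing A] [IsLocalRing A] [IsNoetherianRing A] (l : Type u) [Field l]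
    [Algebra (IsLocalRing.ResidueField A) l] [FiniteDimensional (IsLocalRing.ResidueField A) l]
    [Algebra.IsSeparable (IsLocalRing.ResidueField A) l] :
    ∃ (E : Type u) (_ : CommRing E) (_ : IsLocalRing E) (_ : Algebra A E)
      (_ : IsLocalHom (algebraMap A E)),
      Module.Finite A E ∧ Algebra.Etale A E ∧
        Nonempty (IsLocalRing.ResidueField E ≃ₐ[IsLocalRing.ResidueField A] l) := by
  classical
  set k := IsLocalRing.ResidueField A
  let _ : Algebra A l := ((algebraMap k l).comp (IsLocalRing.residue A)).toAlgebra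
  obtain ⟨α, hα⟩ := Field.exists_primitive_element k l
  have hint : IsIntegral k α := Algebra.IsIntegral.isIntegral α
  obtain ⟨f, hf, hfd, hfm⟩ := Polynomial.lifts_and_degree_eq_and_monic
    ((Polynomial.lifts_iff_coeff_lifts (minpoly k α)).2 fun n => IsLocalRing.residue_surjective (R := A) _)
    (minpoly.monic hint)
  have hsep : (minpoly k α).Separable := Algebra.IsSeparable.isSeparable k α
  have hcop : IsCoprime f (Polynomial.derivative f) := Groth.Agent.S17979.result A f _ hfm (by
    rw [← Polynomial.derivative_map, hf]; exact hsep)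
  obtain ⟨a, b, hab⟩ := hcop
  let P : StandardEtalePair A :=
    { f := f, monic_f := hfm, g := 1, cond := ⟨b, a, 0, by rw [pow_zero, ← hab]; ring⟩ }
  have hone : IsUnit (AdjoinRoot.mk P.f P.g) := by simp [P]
  have het : Algebra.Etale A (AdjoinRoot f) :=
    Algebra.Etale.of_equiv (P.equivAwayAdjoinRoot.trans
      ((IsLocalization.atUnit (AdjoinRoot P.f) (Localization.Away (AdjoinRoot.mk P.f P.g)) _ hone).symm.restrictScalars A))
  have : Module.Finite A (AdjoinRoot f) := hfm.finite_adjoinRoot
  have hev : ∀ g : Polynomial A, Polynomial.aeval α g = Polynomial.aeval α (g.map (IsLocalRing.residue A)) :=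
    fun g => (Polynomial.eval₂_map _ _ _).symm
  let ψ : AdjoinRoot f →ₐ[A] l := AdjoinRoot.liftAlgHom f (Algebra.ofId A l) α (by
    change Polynomial.aeval α f = 0
    rw [hev, hf, minpoly.aeval])
  have hψ : ∀ g : Polynomial A, ψ (AdjoinRoot.mk f g) = Polynomial.aeval α g := fun g =>
    AdjoinRoot.liftAlgHom_mk _ _ _ _ g
  have hsurj : Function.Surjective ψ := fun y => by
    have hy : y ∈ Algebra.adjoin k {α} := by
      rw [← IntermediateField.adjoin_simple_toSubalgebra_of_isAlgebraic hint.isAlgebraic, hα]
      trivial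
    rw [Algebra.adjoin_singleton_eq_range_aeval] at hy
    obtain ⟨g, rfl⟩ := hy
    obtain ⟨g, rfl⟩ := Polynomial.map_surjective _ IsLocalRing.residue_surjective g
    exact ⟨AdjoinRoot.mk f g, (hψ g).trans (hev g)⟩
  have hker : RingHom.ker ψ.toRingHom ≤ (IsLocalRing.maximalIdeal A).map (algebraMap A (AdjoinRoot f)) := by
    intro x hx
    obtain ⟨g, rfl⟩ := AdjoinRoot.mk_surjective x
    have h0 : Polynomial.aeval α (g.map (IsLocalRing.residue A)) = 0 := by
      rw [← hev, ← hψ]; exact hx
    obtain ⟨c, hc⟩ := minpoly.dvd k α h0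
    obtain ⟨c, rfl⟩ := Polynomial.map_surjective _ IsLocalRing.residue_surjective c
    have h1 : g - f * c ∈ (IsLocalRing.maximalIdeal A).map Polynomial.C := by
      rw [← IsLocalRing.ker_residue, ← Polynomial.ker_mapRingHom, RingHom.mem_ker,
        Polynomial.coe_mapRingHom, Polynomial.map_sub, Polynomial.map_mul, hc, hf, sub_self]
    have h2 := Ideal.mem_map_of_mem (AdjoinRoot.mk f) h1
    rw [Ideal.map_map, map_sub, map_mul, AdjoinRoot.mk_self, zero_mul, sub_zero] at h2
    exact h2
  have hmax : (RingHom.ker ψ.toRingHom).IsMaximal := RingHom.ker_isMaximal_of_surjective _ hsurj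
  have hjac := Groth.HensPair.map_le_jacobson_bot (B := AdjoinRoot f) (IsLocalRing.maximalIdeal_le_jacobson (R := A) ⊥)
  have hloc : IsLocalRing (AdjoinRoot f) := IsLocalRing.of_unique_max_ideal ⟨_, hmax, fun M hM =>
    (hmax.eq_of_le hM.ne_top ((hker.trans hjac).trans (sInf_le ⟨bot_le, hM⟩))).symm⟩
  have hmeq : IsLocalRing.maximalIdeal (AdjoinRoot f) = RingHom.ker ψ.toRingHom :=
    (IsLocalRing.eq_maximalIdeal hmax).symm
  have hlh : IsLocalHom (algebraMap A (AdjoinRoot f)) := ⟨fun x hx => by
    by_contra hn
    have : algebraMap A (AdjoinRoot f) x ∈ IsLocalRing.maximalIdeal (AdjoinRoot f) := by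
      rw [hmeq, RingHom.mem_ker]
      show ψ (algebraMap A _ x) = 0
      rw [AlgHom.commutes]
      change algebraMap k l (IsLocalRing.residue A x) = 0
      rw [(IsLocalRing.residue_eq_zero_iff x).2 hn, map_zero]
    exact this hx⟩
  refine ⟨AdjoinRoot f, inferInstance, hloc, inferInstance, hlh, inferInstance, het, ?_⟩
  let e : IsLocalRing.ResidueField (AdjoinRoot f) ≃+* l :=
    (Ideal.quotEquivOfEq hmeq).trans (RingHom.quotientKerEquivOfSurjective hsurj)
  refine ⟨AlgEquiv.ofRingEquiv (f := e) fun x => ?_⟩
  obtain ⟨x, rfl⟩ := IsLocalRing.residue_surjective x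
  change e (Ideal.Quotient.mk _ (algebraMap A (AdjoinRoot f) x)) = _
  exact (RingHom.quotientKerEquivOfSurjective_apply_mk hsurj _).trans (ψ.commutes x)

end Groth.Agent.S16430
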