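import Groth.Statements.S16432
import Groth.Agent.S16438
import Groth.Agent.Ega4Algebra2.StrictStage
import Groth.Agent.Ega4Algebra2.EssEtNormalization
import Groth.Agent.Hensel1.Normal
import Groth.Agent.Hensel1.EtaleTransfer
import Mathlib
-- import your own Groth.Agent.* helpers here

set_option autoImplicit false
universe u
open EGA4loc

namespace Groth.Agent.S16432

open IsLocalRing Groth.Ega4Algebra2

/-- A strict henselization of a Noetherian normal local domain of dimension at most that of the base,
dominated by a strict henselization of the base, agrees with the latter. -/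
theorem map_maximalIdeal_of_dim_le {A S : Type u} [CommRing A] [IsLocalRing A] [IsNoetherianRing A]
    [CommRing S] [IsLocalRing S] [IsDomain S] [Algebra A S] [IsLocalHom (algebraMap A S)]
    [Hensel.IsStrictHenselization A S] (D : Subalgebra A S) [IsLocalRing D] [IsNoetherianRing D]
    [IsLocalHom (algebraMap D S)] [IsIntegrallyClosed D] (hdim : ringKrullDim D ≤ ringKrullDim A) :
    (maximalIdeal A).map (algebraMap A D) = maximalIdeal D := by
  obtain ⟨T, _, _, _, _, hT⟩ := Groth.Hensel1.exists_isStrictHenselization D
  obtain ⟨MT⟩ := Groth.Hensel1.hensModel_of_isStrictHenselization (R := D) (S := T)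
  obtain ⟨MS⟩ := Groth.Hensel1.hensModel_of_isStrictHenselization (R := A) (S := S)
  haveI := MT.isNoetherianRing_iff.1 inferInstance
  obtain ⟨hTdom, -⟩ := MT.normal_iff.1 ⟨inferInstance, inferInstance⟩
  haveI := hTdom
  haveI hlocA : IsLocalHom (algebraMap A D) := ⟨fun a ha => by
    have h1 := ha.map (algebraMap D S)
    rw [← IsScalarTower.algebraMap_apply] at h1
    exact isUnit_of_map_unit (algebraMap A S) a h1⟩
  have hS := (inferInstance : Hensel.IsStrictHenselization A S)
  haveI := hS.henselian
  haveI := hT.henselian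
  haveI := hS.isSepClosure.sep_closed
  haveI := hT.isSepClosure.sep_closed
  haveI := hS.isSepClosure.separable
  haveI := hT.isSepClosure.separable
  haveI : IsScalarTower (ResidueField A) (ResidueField D) (ResidueField S) := by
    refine IsScalarTower.of_algebraMap_eq fun z => ?_
    obtain ⟨z, rfl⟩ := residue_surjective z
    exact congrArg (residue S) (IsScalarTower.algebraMap_apply A D S z)
  haveI : Algebra.IsSeparable (ResidueField D) (ResidueField S) :=
    Algebra.isSeparable_tower_top_of_isSeparable (ResidueField A) _ _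
  let τ : ResidueField T →ₐ[ResidueField D] ResidueField S := IsSepClosed.lift
  -- `τ` is bijective
  have hτ : Function.Bijective τ := by
    letI : Algebra (ResidueField T) (ResidueField S) := τ.toRingHom.toAlgebra
    haveI : IsScalarTower (ResidueField D) (ResidueField T) (ResidueField S) :=
      IsScalarTower.of_algebraMap_eq fun z => (τ.commutes z).symm
    haveI : Algebra.IsSeparable (ResidueField T) (ResidueField S) :=
      Algebra.isSeparable_tower_top_of_isSeparable (ResidueField D) _ _
    exact ⟨τ.toRingHom.injective, IsSepClosed.algebraMap_surjective (ResidueField T) (ResidueField S)⟩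
  let eτ := AlgEquiv.ofBijective τ hτ
  obtain ⟨g, ⟨hg, hgr⟩, -⟩ := hT.universal S (algebraMap D S) τ.toRingHom (RingHom.ext fun z => τ.commutes z)
  let φA : A →+* T := (algebraMap D T).comp (algebraMap A D)
  haveI : IsLocalHom φA := RingHom.isLocalHom_comp _ _
  have hσ : (eτ.symm.toRingEquiv.toRingHom).comp (ResidueField.map (algebraMap A S)) = ResidueField.map φA := by
    refine RingHom.ext fun z => ?_
    obtain ⟨z, rfl⟩ := residue_surjective z
    show eτ.symm (residue S (algebraMap A S z)) = residue T (algebraMap D T (algebraMap A D z))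
    rw [IsScalarTower.algebraMap_apply A D S]
    exact eτ.symm.commutes (residue D (algebraMap A D z))
  obtain ⟨h, ⟨hh, hhr⟩, -⟩ := hS.universal T φA eτ.symm.toRingEquiv.toRingHom hσ
  obtain ⟨i, -, hi⟩ := hS.universal S (algebraMap A S) (RingHom.id _) (RingHom.ext fun z => by
    obtain ⟨z, rfl⟩ := residue_surjective z
    rfl)
  have hgh : g.comp h = RingHom.id S := by
    rw [hi (g.comp h) ⟨?_, fun x => ?_⟩, ← hi (RingHom.id S) ⟨RingHom.id_comp _, fun x => rfl⟩]
    · rw [RingHom.comp_assoc, hh, ← RingHom.comp_assoc, hg, ← IsScalarTower.algebraMap_eq]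
    · show residue S (g (h x)) = _
      rw [hgr, hhr]
      exact eτ.apply_symm_apply _
  have hsurj : Function.Surjective g := fun x => ⟨h x, RingHom.congr_fun hgh x⟩
  have hinj : Function.Injective g := by
    rw [injective_iff_map_eq_zero]
    intro x hx
    by_contra hx0
    have h1 : ringKrullDim (T ⧸ Ideal.span {x}) + 1 ≤ ringKrullDim T :=
      ringKrullDim_quotient_succ_le_of_nonZeroDivisor (mem_nonZeroDivisors_of_ne_zero hx0)
    have h2 : ringKrullDim S ≤ ringKrullDim (T ⧸ Ideal.span {x}) :=
      ringKrullDim_le_of_surjective (Ideal.Quotient.lift (Ideal.span {x}) g fun y hy => by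
        obtain ⟨c, rfl⟩ := Ideal.mem_span_singleton'.1 hy
        rw [map_mul, hx, mul_zero]) fun y => by
        obtain ⟨z, rfl⟩ := hsurj y
        exact ⟨Ideal.Quotient.mk _ z, rfl⟩
    rw [MT.ringKrullDim_eq] at h1
    rw [MS.ringKrullDim_eq] at h2
    have h3 : ringKrullDim A + 1 ≤ ringKrullDim A :=
      ((add_le_add_left h2 1).trans h1).trans hdim
    obtain ⟨n, hn⟩ : ∃ n : ℕ, ringKrullDim A = n :=
      ⟨(ringKrullDim A).unbotD 0 |>.toNat, by
        have htop : ringKrullDim A ≠ ⊤ := ringKrullDim_ne_top
        have hbot : ringKrullDim A ≠ ⊥ := ringKrullDim_ne_bot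
        revert htop hbot
        generalize ringKrullDim A = d
        intro htop hbot
        induction d with
        | bot => exact absurd rfl hbot
        | coe d =>
          induction d with
          | top => exact absurd rfl htop
          | coe d => rfl⟩
    rw [hn] at h3
    have : (n + 1 : ℕ) ≤ n := by exact_mod_cast h3
    omega
  haveI : Module.FaithfullyFlat D T := MT.faithfullyFlat
  let eg : T ≃ₐ[D] S := AlgEquiv.ofBijective
    { g with commutes' := fun d => RingHom.congr_fun hg d } ⟨hinj, hsurj⟩
  haveI : Module.FaithfullyFlat D S := Module.FaithfullyFlat.of_linearEquiv D T eg.symm.toLinearEquiv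
  refine le_antisymm (((local_hom_TFAE (algebraMap A D)).out 0 2 rfl rfl).mp hlocA) fun x hx => ?_
  rw [← Ideal.comap_map_eq_self_of_faithfullyFlat (A := D) (B := S) ((maximalIdeal A).map (algebraMap A D)),
    Ideal.mem_comap, Ideal.map_map, ← IsScalarTower.algebraMap_eq, MS.map_maximalIdeal]
  exact map_nonunit (algebraMap D S) x hx

/-- Let A be an excellent normal local domain and S a strict henselization of A; let D be an
A-subalgebra of S which is a local ring dominated by S (the inclusion is a local homomorphism), an
integrally closed domain, and whose fraction field is generated as a field over the image of A by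
finitely many elements of D. Then D is an essentially etale local A-algebra: A-isomorphic to the
localization of an etale A-algebra at a prime ideal over the maximal ideal of A. -/
theorem result
    (A S : Type u) [CommRing A] [IsLocalRing A] [IsDomain A] [IsIntegrallyClosed A]
    (hA : EGA4.IsExcellent A) [CommRing S] [IsLocalRing S] [Algebra A S] [IsLocalHom (algebraMap A S)]
    [Hensel.IsStrictHenselization A S] (D : Subalgebra A S) [IsLocalRing D]
    [IsLocalHom (algebraMap D S)] [IsDomain D] [IsIntegrallyClosed D]
    (hfg : ∃ s : Finset D, Subfield.closure (Set.range (algebraMap A (FractionRing D)) ∪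
        (algebraMap D (FractionRing D)) '' (s : Set D)) = ⊤) :
    EGA4loc.IsEssentiallyEtale A D := by
  classical
  haveI : IsNoetherianRing A := hA.1
  obtain ⟨MS⟩ := Groth.Hensel1.hensModel_of_isStrictHenselization (R := A) (S := S)
  obtain ⟨hSdom, -⟩ := MS.normal_iff.1 ⟨inferInstance, inferInstance⟩
  haveI := hSdom
  have hmin : (minimalPrimes A).Finite := minimalPrimes.finite_of_isNoetherianRing A
  obtain ⟨s, hs⟩ := hfg
  obtain ⟨E, hsE, hEst⟩ := StrictStage.exists_stage (A := A) (s.image fun d : D => (d : S))
  haveI := hEst.isLocalRing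
  haveI := hEst.isLocalHom
  haveI := hEst.faithfullyFlat
  have hE := hEst.essEt hEst.isLocalRing
  haveI : IsLocalHom (algebraMap A E) := ⟨fun a ha => by
    have h1 := ha.map (algebraMap E S)
    rw [← IsScalarTower.algebraMap_apply] at h1
    exact isUnit_of_map_unit (algebraMap A S) a h1⟩
  have hDE : D ≤ E := by
    intro x hx
    let B : Subring D :=
      { carrier := {d | (d : S) ∈ E}
        mul_mem' := fun ha hb => E.mul_mem ha hb
        one_mem' := E.one_mem
        add_mem' := fun ha hb => E.add_mem ha hb
        zero_mem' := E.zero_mem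
        neg_mem' := fun ha => E.neg_mem ha }
    have hgen : Subring.closure (Set.range (algebraMap A (FractionRing D)) ∪ (algebraMap D (FractionRing D)) '' (s : Set D))
        ≤ B.map (algebraMap D (FractionRing D)) := by
      refine Subring.closure_le.2 (Set.union_subset ?_ ?_)
      · rintro _ ⟨a, rfl⟩
        exact ⟨algebraMap A D a, E.algebraMap_mem a, (IsScalarTower.algebraMap_apply A D (FractionRing D) a).symm⟩
      · rintro _ ⟨d, hd, rfl⟩
        exact ⟨d, hsE (Finset.mem_image.2 ⟨d, hd, rfl⟩), rfl⟩
    have hx' : algebraMap D (FractionRing D) ⟨x, hx⟩ ∈ Subfield.closure (Set.range (algebraMap A (FractionRing D)) ∪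
        (algebraMap D (FractionRing D)) '' (s : Set D)) := hs ▸ Subfield.mem_top _
    rw [Subfield.mem_closure_iff] at hx'
    obtain ⟨y, hy, z, hz, hxyz⟩ := hx'
    obtain ⟨a, ha, rfl⟩ := hgen hy
    obtain ⟨b, hb, rfl⟩ := hgen hz
    by_cases hb0 : b = 0
    · rw [hb0, map_zero, div_zero] at hxyz
      have h0 : (⟨x, hx⟩ : D) = 0 := IsFractionRing.injective D (FractionRing D) (by rw [← hxyz, map_zero])
      rw [show x = 0 from congrArg Subtype.val h0]
      exact E.zero_mem
    rw [div_eq_iff ((map_ne_zero_iff _ (IsFractionRing.injective D (FractionRing D))).2 hb0), ← map_mul] at hxyz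
    have h1 : (a : S) = x * (b : S) := congrArg Subtype.val (IsFractionRing.injective D (FractionRing D) hxyz)
    have h2 : (⟨a, ha⟩ : E) ∈ ((Ideal.span {(⟨b, hb⟩ : E)}).map (algebraMap E S)).comap (algebraMap E S) := by
      rw [Ideal.mem_comap, Ideal.map_span, Set.image_singleton, Ideal.mem_span_singleton']
      exact ⟨x, h1.symm⟩
    rw [Ideal.comap_map_eq_self_of_faithfullyFlat, Ideal.mem_span_singleton'] at h2
    obtain ⟨e, he⟩ := h2
    have hb0' : (b : S) ≠ 0 := fun h => hb0 (Subtype.ext h)
    rw [show x = (e : S) from mul_right_cancel₀ hb0' (h1.symm.trans (congrArg Subtype.val he).symm)]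
    exact e.2
  -- `D` inside `E`
  let D₁ : Subalgebra A E := D.comap E.val
  let eD : D ≃ₐ[A] D₁ :=
    { toFun := fun d => ⟨⟨d, hDE d.2⟩, d.2⟩
      invFun := fun d => ⟨((d : E) : S), d.2⟩
      left_inv := fun _ => rfl
      right_inv := fun _ => rfl
      map_mul' := fun _ _ => rfl
      map_add' := fun _ _ => rfl
      commutes' := fun _ => rfl }
  haveI : IsLocalRing D₁ := eD.toRingEquiv.isLocalRing
  haveI hD₁E : IsLocalHom (algebraMap D₁ E) := ⟨fun d hd => by
    have h1 : IsUnit (eD.symm d) := isUnit_of_map_unit (algebraMap D S) _ (hd.map (algebraMap E S))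
    simpa using h1.map eD⟩
  let K := FractionRing E
  let j : D →ₐ[A] K := ((IsScalarTower.toAlgHom A E K).comp D₁.val).comp eD.toAlgHom
  have hj : Function.Injective j := ((IsFractionRing.injective E K).comp Subtype.val_injective).comp eD.injective
  let φ : FractionRing D →ₐ[A] K := IsLocalization.liftAlgHom (M := nonZeroDivisors D) (f := j) fun u =>
    isUnit_iff_ne_zero.2 ((map_ne_zero_iff _ hj).2 (nonZeroDivisors.ne_zero u.2))
  have hφD : ∀ d, φ (algebraMap D (FractionRing D) d) = j d := fun d => IsLocalization.lift_eq _ d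
  have hφ : Function.Injective φ := φ.toRingHom.injective
  -- units
  have hclosed : ∀ y : FractionRing D, IsIntegral A (φ y) → ∃ d : D, IsIntegral A d ∧ φ y = j d := by
    intro y hy
    rw [isIntegral_algHom_iff φ hφ] at hy
    obtain ⟨d, rfl⟩ := IsIntegrallyClosed.isIntegral_iff.1 (hy.tower_top (A := D) :)
    exact ⟨d, (isIntegral_algHom_iff (IsScalarTower.toAlgHom A D (FractionRing D))
      (IsFractionRing.injective D (FractionRing D))).1 hy, hφD d⟩
  have hunitE : ∀ d : D, (∃ w : K, IsIntegral E w ∧ j d * w = 1) → IsUnit d := by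
    rintro d ⟨w, hw, hdw⟩
    have h1 : IsUnit (algebraMap E (integralClosure E K) (eD d : E)) :=
      IsUnit.of_mul_eq_one ⟨w, hw⟩ (Subtype.ext hdw)
    haveI : FaithfulSMul E (integralClosure E K) := (faithfulSMul_iff_algebraMap_injective _ _).2
      fun a b h => IsFractionRing.injective E K (congrArg Subtype.val h)
    have h2 : IsUnit ((eD d : D₁) : E) := isUnit_of_map_unit (algebraMap E (integralClosure E K)) _ h1
    simpa using (isUnit_of_map_unit (algebraMap D₁ E) (eD d) h2).map eD.symm
  haveI hEFT : Algebra.EssFiniteType A D₁ := by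
    refine Groth.Ega4Algebra2.EssEtNorm.essFiniteType_of_units A E hA hE D₁ fun y w hy hint hwE hyw => ?_
    obtain ⟨a, ha, d, hd, had⟩ := hy
    have ha0 : algebraMap A (FractionRing D) a ≠ 0 := fun h => by
      have h1 := congrArg φ h
      rw [AlgHom.commutes, map_zero] at h1
      rw [h1, zero_mul] at had
      have h2 := congrArg φ h
      rw [AlgHom.commutes, map_zero] at h2
      have h3 : algebraMap A S a = 0 := congrArg (Subtype.val : E → S) (IsFractionRing.injective E K (by
        rw [← IsScalarTower.algebraMap_apply, map_zero, h2]) : algebraMap A E a = 0)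
      haveI := MS.faithfullyFlat
      exact nonZeroDivisors.ne_zero ha (FaithfulSMul.algebraMap_injective A S (by rw [h3, map_zero]))
    let y₀ : FractionRing D := algebraMap D (FractionRing D) (eD.symm ⟨d, hd⟩) / algebraMap A (FractionRing D) a
    have hy₀ : φ y₀ = y := by
      rw [map_div₀, hφD, AlgHom.commutes, div_eq_iff (fun h => ha0 (hφ (by rw [AlgHom.commutes, h, map_zero]))),
        mul_comm, had]
      rfl
    obtain ⟨d', -, hd'⟩ := hclosed y₀ (hy₀.symm ▸ hint)
    rw [hy₀] at hd'
    obtain ⟨v, hv⟩ := (hunitE d' ⟨w, hwE, hd' ▸ hyw⟩).exists_right_inv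
    have hvw : w = algebraMap D₁ K (eD v) := by
      have h1 : j d' * j v = 1 := by rw [← map_mul, hv, map_one]
      calc w = w * (j d' * j v) := by rw [h1, mul_one]
        _ = j v := by rw [← mul_assoc, mul_comm w, ← hd', hyw, one_mul]
        _ = _ := rfl
    rw [hvw]
    exact isIntegral_algebraMap
  haveI : Algebra.EssFiniteType A D := Algebra.EssFiniteType.of_surjective eD.symm.toAlgHom eD.symm.surjective
  haveI : IsNoetherianRing D := Algebra.EssFiniteType.isNoetherianRing A D
  -- dimension
  have hden : ∀ x : D, ∃ z : D, IsIntegral A z ∧ IsUnit z ∧ IsIntegral A (z * x) := by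
    intro x
    obtain ⟨a, b, ha, hb, hbu, hbx⟩ := Groth.Ega4Algebra2.EssEtNorm.exists_integral_fraction A E hE (eD x : E)
    let L : Subalgebra A K := φ.range
    let eL : FractionRing D ≃ₐ[A] L := AlgEquiv.ofInjective φ hφ
    haveI : IsArtinianRing L := eL.toRingEquiv.surjective.isArtinianRing
    haveI : IsReduced L := isReduced_of_injective L.val Subtype.val_injective
    let G : Subalgebra A K := (integralClosure E K).restrictScalars A
    have hinjG : Function.Injective (algebraMap E (integralClosure E K)) := fun a b h =>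
      IsFractionRing.injective E K (congrArg Subtype.val h)
    obtain ⟨M, hM⟩ := Ideal.exists_maximal G
    haveI := hM
    have hME : ∀ e : E, algebraMap E (integralClosure E K) e ∈ (M : Ideal (integralClosure E K)) ↔ e ∈ IsLocalRing.maximalIdeal E := fun e => by
      let M₀ : Ideal (integralClosure E K) := M
      haveI : M₀.IsMaximal := hM
      rw [← IsLocalRing.eq_maximalIdeal (Ideal.isMaximal_comap_of_isIntegral_of_isMaximal (R := E) M₀)]
      rfl
    haveI : (⊥ : Ideal K).IsMaximal := Ideal.bot_isMaximal
    obtain ⟨z, hz, ⟨z₀, hz₀⟩, hzx, hzM⟩ := Groth.Ega4Algebra2.EssEtNorm.descend L G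
      (fun z hz => (hz.tower_top (A := E) :)) M ⊥
      (fun g hg => by rw [Ideal.mem_comap, Ideal.mem_bot] at hg; rw [show g = 0 from Subtype.ext hg]; exact M.zero_mem)
      (j x) ⟨algebraMap D (FractionRing D) x, hφD x⟩ (algebraMap E K a) (algebraMap E K b)
      (ha.map (IsScalarTower.toAlgHom A E K)) (hb.map (IsScalarTower.toAlgHom A E K))
      (by rw [show j x = algebraMap E K (eD x : E) from rfl, ← map_mul, hbx])
      (fun h => hM.ne_top (Ideal.eq_top_of_isUnit_mem _ h
        (hbu.map (algebraMap E (integralClosure E K)))))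
    obtain ⟨d, hd, hdz⟩ := hclosed z₀ (hz₀.symm ▸ hz)
    have hzd : z = j d := hz₀.symm.trans hdz
    refine ⟨d, hd, ?_, ?_⟩
    · have h2 : IsUnit ((eD d : D₁) : E) := by
        by_contra hnu
        have h3 := (hME _).2 (show ((eD d : D₁) : E) ∈ IsLocalRing.maximalIdeal E from hnu)
        refine hzM ?_
        rw [show (⟨z, (hz.tower_top (A := E) :)⟩ : G) = (algebraMap E (integralClosure E K) ((eD d : D₁) : E) : G) from Subtype.ext hzd]
        exact h3
      simpa using (isUnit_of_map_unit (algebraMap D₁ E) (eD d) h2).map eD.symm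
    · rw [← isIntegral_algHom_iff j hj, map_mul, ← hzd]
      exact hzx
  have hdim : ringKrullDim D ≤ ringKrullDim A := by
    let Fd := integralClosure A D
    have h1 : ringKrullDim Fd ≤ ringKrullDim A :=
      Order.krullDim_le_of_strictMono (PrimeSpectrum.comap (algebraMap A Fd)) fun x y hxy => by
        haveI := x.isPrime
        exact Ideal.IsIntegral.comap_lt_comap (R := A) (I := x.asIdeal) (J := y.asIdeal) hxy
    refine le_trans (Order.krullDim_le_of_strictMono (PrimeSpectrum.comap (algebraMap Fd D)) fun P Q hPQ => ?_) h1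
    refine lt_of_le_not_ge (Ideal.comap_mono hPQ.le) fun hge => hPQ.not_ge fun x hx => ?_
    obtain ⟨z, hz, hzu, hzx⟩ := hden x
    have h2 : (⟨z * x, hzx⟩ : Fd) ∈ P.asIdeal.comap (algebraMap Fd D) := hge (Q.asIdeal.mul_mem_left z hx)
    exact (P.isPrime.mem_or_mem h2).resolve_left fun h => P.isPrime.ne_top (Ideal.eq_top_of_isUnit_mem _ h hzu)
  exact Groth.Agent.S16438.result A S D (map_maximalIdeal_of_dim_le D hdim)

end Groth.Agent.S16432
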