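import Groth.Statements.S16433
import Groth.Agent.S16432
import Mathlib
-- import your own Groth.Agent.* helpers here

set_option autoImplicit false
universe u
open EGA4loc

namespace Groth.Agent.S16433

/-- Let A be an excellent normal local domain and S a strict henselization of A; let D be an
A-subalgebra of S which is a local ring dominated by S (the inclusion is a local homomorphism) and
an integrally closed domain. Then D is a directed union of local etale extensions of A: every finite
subset of D is contained in an A-subalgebra D' of S with D' contained in D, D' a local ring whose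
inclusion into S is local, and D' an essentially etale local A-algebra (a localization of an etale
A-algebra at a prime over the maximal ideal). -/
theorem result
    (A S : Type u) [CommRing A] [IsLocalRing A] [IsDomain A] [IsIntegrallyClosed A]
    (hA : EGA4.IsExcellent A) [CommRing S] [IsLocalRing S] [Algebra A S] [IsLocalHom (algebraMap A S)]
    [Hensel.IsStrictHenselization A S] (D : Subalgebra A S) [IsLocalRing D]
    [IsLocalHom (algebraMap D S)] [IsDomain D] [IsIntegrallyClosed D]
    (s : Finset S) (hs : (s : Set S) ⊆ (D : Set S)) :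
    ∃ D' : Subalgebra A S, D' ≤ D ∧ (s : Set S) ⊆ (D' : Set S) ∧
      ∃ _ : IsLocalRing D', IsLocalHom (algebraMap D' S) ∧ EGA4loc.IsEssentiallyEtale A D' := by
  classical
  haveI : IsNoetherianRing A := hA.1
  obtain ⟨MS⟩ := Groth.Hensel1.hensModel_of_isStrictHenselization (R := A) (S := S)
  obtain ⟨hSdom, -⟩ := MS.normal_iff.1 ⟨inferInstance, inferInstance⟩
  haveI := hSdom
  let K := FractionRing S
  let L := Subfield.closure (Set.range (algebraMap A K) ∪ (algebraMap S K) '' (s : Set S))
  let D' : Subalgebra A S :=
    { (D.toSubsemiring ⊓ (L.toSubring.comap (algebraMap S K)).toSubsemiring) with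
      algebraMap_mem' := fun a => ⟨D.algebraMap_mem a, Subfield.subset_closure (Or.inl ⟨a, IsScalarTower.algebraMap_apply A S K a⟩)⟩ }
  have hle : D' ≤ D := fun x hx => hx.1
  have hsD : (s : Set S) ⊆ (D' : Set S) := fun x hx => ⟨hs hx, Subfield.subset_closure (Or.inr ⟨x, hx, rfl⟩)⟩
  have hinj : Function.Injective (algebraMap S K) := IsFractionRing.injective S K
  have hunit : ∀ x : D', IsUnit (x : S) → IsUnit x := by
    intro x hx
    obtain ⟨u, hu⟩ := (isUnit_of_map_unit (algebraMap D S) ⟨(x : S), x.2.1⟩ hx).exists_right_inv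
    have hu' : (x : S) * (u : S) = 1 := congrArg Subtype.val hu
    refine IsUnit.of_mul_eq_one ⟨(u : S), u.2, ?_⟩ (Subtype.ext hu')
    show algebraMap S K (u : S) ∈ L
    rw [eq_inv_of_mul_eq_one_right (show algebraMap S K (x : S) * algebraMap S K (u : S) = 1 by rw [← map_mul, hu', map_one])]
    exact L.inv_mem x.2.2
  haveI : IsLocalRing D' := IsLocalRing.of_isUnit_or_isUnit_one_sub_self fun x =>
    (IsLocalRing.isUnit_or_isUnit_one_sub_self (x : S)).imp (hunit x) (hunit (1 - x))
  haveI hloc : IsLocalHom (algebraMap D' S) := ⟨fun x hx => hunit x hx⟩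
  -- the fraction field of `D'` inside `K`
  let φ : FractionRing D' →+* K := IsFractionRing.lift (A := D') (g := (algebraMap S K).comp (algebraMap D' S))
    (hinj.comp Subtype.val_injective)
  have hφ : ∀ x : D', φ (algebraMap D' (FractionRing D') x) = algebraMap S K x := fun x =>
    IsFractionRing.lift_algebraMap _ x
  haveI : IsIntegrallyClosed D' := by
    refine (isIntegrallyClosed_iff (FractionRing D')).2 fun {x} hx => ?_
    obtain ⟨a, b, hb, rfl⟩ := IsFractionRing.div_surjective (A := D') x
    have hb0 : algebraMap D' (FractionRing D') b ≠ 0 := (map_ne_zero_iff _ (IsFractionRing.injective D' (FractionRing D'))).2 (nonZeroDivisors.ne_zero hb)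
    let jD : D →+* K := (algebraMap S K).comp (algebraMap D S)
    letI : Algebra D K := jD.toAlgebra
    have hbK : algebraMap S K b ≠ 0 := (map_ne_zero_iff _ hinj).2 fun h => nonZeroDivisors.ne_zero hb (Subtype.ext h)
    obtain ⟨p, hp, hpx⟩ := hx
    have hint : IsIntegral D (φ (algebraMap D' (FractionRing D') a / algebraMap D' (FractionRing D') b)) := by
      refine ⟨p.map (Subalgebra.inclusion hle).toRingHom, hp.map _, ?_⟩
      rw [Polynomial.eval₂_map, show (algebraMap D K).comp (Subalgebra.inclusion hle).toRingHom =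
        φ.comp (algebraMap D' (FractionRing D')) from RingHom.ext fun z => (hφ z).symm,
        ← Polynomial.hom_eval₂, hpx, map_zero]
    let jF : FractionRing D →+* K := IsFractionRing.lift (A := D) (g := jD) (hinj.comp Subtype.val_injective)
    have hjF : ∀ x : D, jF (algebraMap D (FractionRing D) x) = algebraMap S K x := fun x => IsFractionRing.lift_algebraMap _ x
    let z : FractionRing D := algebraMap D _ ⟨a, hle a.2⟩ / algebraMap D _ ⟨b, hle b.2⟩
    have hz : jF z = φ (algebraMap D' (FractionRing D') a / algebraMap D' (FractionRing D') b) := by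
      rw [map_div₀, map_div₀, hjF, hjF, hφ, hφ]
    let jA : FractionRing D →ₐ[D] K := { jF with commutes' := hjF }
    rw [← hz, show jF z = jA z from rfl, isIntegral_algHom_iff jA jA.toRingHom.injective] at hint
    obtain ⟨d, hd⟩ := IsIntegrallyClosed.isIntegral_iff.1 hint
    have hdK : algebraMap S K (d : S) = algebraMap S K a / algebraMap S K b := by
      rw [← hjF, hd, map_div₀, hjF, hjF]
    refine ⟨⟨(d : S), d.2, ?_⟩, φ.injective ?_⟩
    · show algebraMap S K (d : S) ∈ L
      rw [hdK]
      exact div_mem a.2.2 b.2.2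
    · rw [hφ, map_div₀, hφ, hφ]
      exact hdK
  refine ⟨D', hle, hsD, inferInstance, hloc, Groth.Agent.S16432.result A S hA D'
    ⟨s.attach.image fun x => ⟨x.1, hsD x.2⟩, ?_⟩⟩
  suffices h : (Subfield.closure (Set.range (algebraMap A (FractionRing D')) ∪ (algebraMap D' (FractionRing D')) ''
      ((s.attach.image fun x => (⟨x.1, hsD x.2⟩ : D') : Finset D') : Set D'))).map φ = (⊤ : Subfield (FractionRing D')).map φ by
    refine eq_top_iff.2 fun x _ => ?_
    obtain ⟨y, hy, hyx⟩ := h.ge (⟨x, trivial, rfl⟩ : φ x ∈ (⊤ : Subfield (FractionRing D')).map φ)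
    exact φ.injective hyx ▸ hy
  rw [RingHom.map_field_closure, Set.image_union, ← Set.range_comp, Set.image_image]
  refine le_antisymm ?_ fun y hy => ?_
  · rw [Subfield.closure_le]
    rintro _ (⟨a, rfl⟩ | ⟨d, -, rfl⟩)
    · exact ⟨algebraMap A _ a, trivial, rfl⟩
    · exact ⟨algebraMap D' _ d, trivial, rfl⟩
  · obtain ⟨x, -, rfl⟩ := hy
    obtain ⟨a, b, -, rfl⟩ := IsFractionRing.div_surjective (A := D') x
    rw [map_div₀, hφ, hφ]
    have hL : L ≤ Subfield.closure (Set.range (φ ∘ algebraMap A (FractionRing D')) ∪
        (fun x => φ (algebraMap D' (FractionRing D') x)) '' ((s.attach.image fun x => (⟨x.1, hsD x.2⟩ : D') : Finset D') : Set D')) := by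
      rw [Subfield.closure_le]
      rintro _ (⟨r, rfl⟩ | ⟨z, hz, rfl⟩)
      · refine Subfield.subset_closure (Or.inl ⟨r, ?_⟩)
        rw [Function.comp_apply, IsScalarTower.algebraMap_apply A D' (FractionRing D'), hφ]
        exact (IsScalarTower.algebraMap_apply A S K r).symm
      · exact Subfield.subset_closure (Or.inr ⟨⟨z, hsD hz⟩, Finset.mem_image.2 ⟨⟨z, hz⟩, Finset.mem_attach _ _, rfl⟩, hφ _⟩)
    exact div_mem (hL a.2.2) (hL b.2.2)

end Groth.Agent.S16433
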