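import Groth.Statements.S16446
import Groth.Agent.Ega4Algebra2.StrictStage
import Mathlib
-- import your own Groth.Agent.* helpers here

set_option autoImplicit false
universe u
open Hensel

namespace Groth.Agent.S16446

open Groth.Ega4Algebra2

/-- A stage adapted to a finitely generated subfield of the fraction field of `S/Q`. -/
theorem exists_adapted
    (A S : Type u) [CommRing A] [IsLocalRing A] [IsNoetherianRing A]
    [CommRing S] [IsLocalRing S] [Algebra A S] [IsLocalHom (algebraMap A S)]
    [Hensel.IsStrictHenselization A S] (Q : Ideal S) (hQ : Q ∈ minimalPrimes S) [Q.IsPrime]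
    (t : Finset (FractionRing (S ⧸ Q))) :
    ∃ E : Subalgebra A S, StrictStage.IsStage E ∧
      (∀ Q' ∈ ((Q.comap (algebraMap A S)).map (algebraMap A S)).minimalPrimes,
        Q' = Ideal.map (algebraMap E S) (Q'.comap (algebraMap E S))) ∧
      (Subfield.closure (Set.range (algebraMap A (FractionRing (S ⧸ Q))) ∪
            (t : Set (FractionRing (S ⧸ Q)))) ≤
        Subfield.closure ((fun e : S => algebraMap (S ⧸ Q) (FractionRing (S ⧸ Q)) (Ideal.Quotient.mk Q e)) '' (E : Set S))) ∧
      ∀ x : S, algebraMap (S ⧸ Q) (FractionRing (S ⧸ Q)) (Ideal.Quotient.mk Q x) ∈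
          Subfield.closure (Set.range (algebraMap A (FractionRing (S ⧸ Q))) ∪
            (t : Set (FractionRing (S ⧸ Q)))) →
        ∃ e ∈ E, Ideal.Quotient.mk Q e = Ideal.Quotient.mk Q x := by
  classical
  obtain ⟨M⟩ := Groth.Hensel1.hensModel_of_isStrictHenselization (R := A) (S := S)
  haveI : IsNoetherianRing S := M.isNoetherianRing_iff.1 inferInstance
  haveI : Module.Flat A S := M.flat
  haveI := Algebra.HasGoingDown.of_flat (R := A) (S := S)
  obtain ⟨s₀, hs₀⟩ := StrictStage.exists_separating (A := A) (minimalPrimes S)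
    (minimalPrimes.finite_of_isNoetherianRing S) (fun P hP P' hP' hle =>
      le_antisymm hle (hP'.2 ⟨hP.1.1, bot_le⟩ hle))
  have hfrac : ∀ z : FractionRing (S ⧸ Q), ∃ a b : S,
      z = algebraMap (S ⧸ Q) (FractionRing (S ⧸ Q)) (Ideal.Quotient.mk Q a) / algebraMap _ _ (Ideal.Quotient.mk Q b) := by
    intro z
    obtain ⟨a, b, -, hab⟩ := IsFractionRing.div_surjective (A := S ⧸ Q) z
    obtain ⟨a, rfl⟩ := Ideal.Quotient.mk_surjective a
    obtain ⟨b, rfl⟩ := Ideal.Quotient.mk_surjective b
    exact ⟨a, b, hab.symm⟩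
  choose a b hab using hfrac
  obtain ⟨E, hsE, hE⟩ := StrictStage.exists_stage (A := A) (s₀ ∪ t.image a ∪ t.image b)
  simp only [Finset.coe_union, Finset.coe_image, Set.union_subset_iff] at hsE
  have hle : Subfield.closure (Set.range (algebraMap A (FractionRing (S ⧸ Q))) ∪
            (t : Set (FractionRing (S ⧸ Q)))) ≤
      Subfield.closure ((fun e : S => algebraMap (S ⧸ Q) (FractionRing (S ⧸ Q)) (Ideal.Quotient.mk Q e)) '' (E : Set S)) := by
    refine Subfield.closure_le.2 (Set.union_subset ?_ fun z hz => ?_)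
    · rintro _ ⟨r, rfl⟩
      refine Subfield.subset_closure ⟨algebraMap A S r, E.algebraMap_mem r, ?_⟩
      show algebraMap (S ⧸ Q) (FractionRing (S ⧸ Q)) (algebraMap A (S ⧸ Q) r) = _
      rw [← IsScalarTower.algebraMap_apply]
    · rw [hab z]
      exact div_mem (Subfield.subset_closure ⟨a z, hsE.1.2 ⟨z, hz, rfl⟩, rfl⟩)
        (Subfield.subset_closure ⟨b z, hsE.2 ⟨z, hz, rfl⟩, rfl⟩)
  have hmin : ∀ Q' ∈ ((Q.comap (algebraMap A S)).map (algebraMap A S)).minimalPrimes, Q' ∈ minimalPrimes S := by
    intro Q' hQ'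
    haveI := hQ'.1.1
    set q := Q.comap (algebraMap A S)
    haveI : q.IsPrime := Ideal.IsPrime.comap _
    have hge : q ≤ Q'.comap (algebraMap A S) := Ideal.map_le_iff_le_comap.1 hQ'.1.2
    have hqmin : ∀ p' : Ideal A, p'.IsPrime → p' ≤ q → p' = q := fun p' hp' hle => by
      haveI : Q.LiesOver q := ⟨rfl⟩
      obtain ⟨P', hP', _, hP'o⟩ := Ideal.exists_ideal_le_liesOver_of_le (S := S) Q hle
      rw [hP'o.over, le_antisymm hP' (hQ.2 ⟨‹_›, bot_le⟩ hP')]
    have heq : Q'.comap (algebraMap A S) = q := by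
      refine le_antisymm ?_ hge
      haveI : Q'.LiesOver (Q'.comap (algebraMap A S)) := ⟨rfl⟩
      obtain ⟨P', hP', hP'p, hP'o⟩ := Ideal.exists_ideal_le_liesOver_of_le (S := S) Q' hge
      exact (Ideal.comap_mono (hQ'.2 ⟨hP'p, Ideal.map_le_iff_le_comap.2 hP'o.over.le⟩ hP')).trans hP'o.over.ge
    refine ⟨⟨inferInstance, bot_le⟩, fun P' hP'' hle => hQ'.2 ⟨hP''.1, Ideal.map_le_iff_le_comap.2 (le_of_eq ?_)⟩ hle⟩
    haveI := hP''.1
    exact (hqmin _ (Ideal.IsPrime.comap _) ((Ideal.comap_mono hle).trans heq.le)).symm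
  have hext : ∀ P ∈ minimalPrimes S, P = Ideal.map (algebraMap E S) (P.comap (algebraMap E S)) := fun P hP =>
    StrictStage.eq_map_comap hE P hP fun P' hP' h => hs₀ E hsE.1.1 P' hP' P hP h
  exact ⟨E, hE, fun Q' hQ' => hext Q' (hmin Q' hQ'), hle, fun x hx =>
    StrictStage.mem_of_fraction hE Q (hext Q hQ) (FractionRing (S ⧸ Q)) x (hle hx)⟩

/-- Let A be an excellent henselian reduced local ring, S a strict henselization of A and Q a minimal
prime ideal of S with contraction q to A; let K be the fraction field of S/Q and L the subfield of K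
generated over the image of A by a finite subset t of K. Then there is an A-subalgebra E of S, a
local ring and an essentially etale local A-algebra, such that (i) every minimal prime ideal of S
over the ideal qS is generated by its contraction to E, and (ii) every element of S/Q whose image in
K lies in L is the class of an element of E — so that the intersection of L with S/Q equals its
intersection with the image of E. -/
theorem result
    (A S : Type u) [CommRing A] [HenselianLocalRing A] [IsReduced A] (hA : EGA4.IsExcellent A)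
    [CommRing S] [IsLocalRing S] [Algebra A S] [IsLocalHom (algebraMap A S)]
    [Hensel.IsStrictHenselization A S] (Q : Ideal S) (hQ : Q ∈ minimalPrimes S) [Q.IsPrime]
    (t : Finset (FractionRing (S ⧸ Q))) :
    ∃ E : Subalgebra A S, ∃ _ : IsLocalRing E, EGA4loc.IsEssentiallyEtale A E ∧
      (∀ Q' ∈ ((Q.comap (algebraMap A S)).map (algebraMap A S)).minimalPrimes,
        Q' = Ideal.map (algebraMap E S) (Q'.comap (algebraMap E S))) ∧
      ∀ x : S, algebraMap (S ⧸ Q) (FractionRing (S ⧸ Q)) (Ideal.Quotient.mk Q x) ∈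
          Subfield.closure (Set.range (algebraMap A (FractionRing (S ⧸ Q))) ∪
            (t : Set (FractionRing (S ⧸ Q)))) →
        ∃ e ∈ E, Ideal.Quotient.mk Q e = Ideal.Quotient.mk Q x := by
  haveI : IsNoetherianRing A := hA.1
  obtain ⟨E, hE, h1, -, h2⟩ := exists_adapted A S Q hQ t
  exact ⟨E, hE.isLocalRing, hE.essEt hE.isLocalRing, h1, h2⟩

end Groth.Agent.S16446
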