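import Groth.Statements.S16440
import Groth.Agent.S16446
import Groth.Agent.Ega4Algebra2.StrictInvariants
import Mathlib
-- import your own Groth.Agent.* helpers here

set_option autoImplicit false
universe u
open Hensel

namespace Groth.Agent.S16440

open Groth.Ega4Algebra2

/-- The intersection of a finitely generated subfield with `S/Q`. -/
theorem core
    (A S : Type u) [CommRing A] [HenselianLocalRing A] [IsNoetherianRing A]
    [CommRing S] [IsLocalRing S] [Algebra A S] [IsLocalHom (algebraMap A S)]
    [Hensel.IsStrictHenselization A S] (Q : Ideal S) (hQ : Q ∈ minimalPrimes S) [Q.IsPrime]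
    (t : Finset (FractionRing (S ⧸ Q))) :
    ∃ D' : Subalgebra A (S ⧸ Q), (D' : Set (S ⧸ Q)) = (algebraMap (S ⧸ Q) (FractionRing (S ⧸ Q))) ⁻¹'
        (Subfield.closure (Set.range (algebraMap A (FractionRing (S ⧸ Q))) ∪
          (t : Set (FractionRing (S ⧸ Q)))) : Set (FractionRing (S ⧸ Q))) ∧
      Module.Finite A D' ∧ Algebra.FormallyUnramified A D' ∧ IsLocalRing D' ∧
      (∀ l ∈ Subfield.closure (Set.range (algebraMap A (FractionRing (S ⧸ Q))) ∪
            (t : Set (FractionRing (S ⧸ Q)))),
          ∃ a ∈ D', ∃ b ∈ D', algebraMap (S ⧸ Q) (FractionRing (S ⧸ Q)) b ≠ 0 ∧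
            l * algebraMap (S ⧸ Q) (FractionRing (S ⧸ Q)) b =
              algebraMap (S ⧸ Q) (FractionRing (S ⧸ Q)) a) ∧
      (Q = ⊥ → Module.Flat A D') := by
  classical
  set L := Subfield.closure (Set.range (algebraMap A (FractionRing (S ⧸ Q))) ∪
          (t : Set (FractionRing (S ⧸ Q))))
  obtain ⟨E₀, hE₀, -, hle, hmem⟩ := Groth.Agent.S16446.exists_adapted A S Q hQ t
  haveI := hE₀.finite inferInstance
  obtain ⟨T, hT⟩ := (Module.Finite.fg_top (R := A) (M := E₀))
  obtain ⟨f, R, E, hE, hTE⟩ := GaloisStage.exists_galoisStage (A := A) (T.image fun e : E₀ => (e : S))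
  have hE₀E : E₀ ≤ E := by
    intro x hx
    have he : (⟨x, hx⟩ : E₀) ∈ Submodule.span A (T : Set E₀) := hT ▸ Submodule.mem_top
    have h1 := Submodule.mem_map_of_mem (f := E₀.val.toLinearMap) he
    rw [Submodule.map_span] at h1
    exact (Submodule.span_le (p := Subalgebra.toSubmodule E)).2 (by
      rintro _ ⟨e, he', rfl⟩
      exact hTE (Finset.mem_image.2 ⟨e, he', rfl⟩)) h1
  have hAL : ∀ a, algebraMap A (FractionRing (S ⧸ Q)) a ∈ L :=
    fun a => Subfield.subset_closure (Or.inl ⟨a, rfl⟩)
  let D' : Subalgebra A (S ⧸ Q) :=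
    { (L.toSubring.comap (algebraMap (S ⧸ Q) (FractionRing (S ⧸ Q)))).toSubsemiring with
      algebraMap_mem' := fun a => by
        show algebraMap (S ⧸ Q) (FractionRing (S ⧸ Q)) (algebraMap A (S ⧸ Q) a) ∈ L
        rw [← IsScalarTower.algebraMap_apply]
        exact hAL a }
  obtain ⟨h1, h2, h3, h4, h5⟩ := GaloisStage.invariants hE Q (FractionRing (S ⧸ Q)) L hAL D' (fun x => Iff.rfl)
    (fun x hx => by
      obtain ⟨x, rfl⟩ := Ideal.Quotient.mk_surjective x
      obtain ⟨e, he, hex⟩ := hmem x hx
      exact ⟨e, hE₀E he, hex⟩)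
  exact ⟨D', rfl, h1, h2, h3, fun l hl => h4 l hl
    (Subfield.closure_mono (Set.image_mono (SetLike.coe_subset_coe.2 hE₀E)) (hle hl)), h5⟩

/-- Let A be an excellent henselian reduced local ring, S a strict henselization of A and Q a minimal
prime ideal of S; let K be the fraction field of the domain S/Q and L the subfield of K generated
over the image of A by a finite subset t of K (an intermediate field between the fraction field of
A/(Q ∩ A) and K, finitely generated over the former). Then the intersection of L with S/Q is (the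
underlying set of) an A-subalgebra D' of S/Q which is a finitely generated A-module and formally
unramified over A. (The source adds that S/Q is a strict henselization of D'; that assertion is not
stated here.) -/
theorem result
    (A S : Type u) [CommRing A] [HenselianLocalRing A] [IsReduced A] (hA : EGA4.IsExcellent A)
    [CommRing S] [IsLocalRing S] [Algebra A S] [IsLocalHom (algebraMap A S)]
    [Hensel.IsStrictHenselization A S] (Q : Ideal S) (hQ : Q ∈ minimalPrimes S) [Q.IsPrime]
    (t : Finset (FractionRing (S ⧸ Q))) :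
    ∃ D' : Subalgebra A (S ⧸ Q), (D' : Set (S ⧸ Q)) = (algebraMap (S ⧸ Q) (FractionRing (S ⧸ Q))) ⁻¹'
        (Subfield.closure (Set.range (algebraMap A (FractionRing (S ⧸ Q))) ∪
          (t : Set (FractionRing (S ⧸ Q)))) : Set (FractionRing (S ⧸ Q))) ∧
      Module.Finite A D' ∧ Algebra.FormallyUnramified A D' := by
  haveI : IsNoetherianRing A := hA.1
  obtain ⟨D', h0, h1, h2, -⟩ := core A S Q hQ t
  exact ⟨D', h0, h1, h2⟩

end Groth.Agent.S16440
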