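import Groth.Statements.S16434
import Groth.Agent.S16440
import Groth.Agent.S16438
import Mathlib
-- import your own Groth.Agent.* helpers here

set_option autoImplicit false
universe u
open EGA4loc

namespace Groth.Agent.S16434

/-- Let A be an excellent henselian local domain such that a strict henselization S of A is again a
domain, let K be the fraction field of S, and let L be the subfield of K generated over the image of
A by a finite subset t of K (so L is an intermediate field between the fraction fields of A and of
S, finitely generated over the former). Then the intersection of L with S is (the underlying set of)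
an A-subalgebra D of S which is a local ring with local inclusion into S and which is an essentially
etale local A-algebra: A-isomorphic to the localization of an etale A-algebra at a prime over the
maximal ideal. -/
theorem result
    (A S : Type u) [CommRing A] [HenselianLocalRing A] [IsDomain A] (hA : EGA4.IsExcellent A)
    [CommRing S] [IsLocalRing S] [Algebra A S] [IsLocalHom (algebraMap A S)]
    [Hensel.IsStrictHenselization A S] [IsDomain S] (t : Finset (FractionRing S)) :
    ∃ D : Subalgebra A S, (D : Set S) = (algebraMap S (FractionRing S)) ⁻¹'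
        (Subfield.closure (Set.range (algebraMap A (FractionRing S)) ∪ (t : Set (FractionRing S))) :
          Set (FractionRing S)) ∧
      ∃ _ : IsLocalRing D, IsLocalHom (algebraMap D S) ∧ EGA4loc.IsEssentiallyEtale A D := by
  classical
  haveI : IsNoetherianRing A := hA.1
  haveI : (⊥ : Ideal S).IsPrime := Ideal.isPrime_bot
  have hQ : (⊥ : Ideal S) ∈ minimalPrimes S := ⟨⟨inferInstance, le_rfl⟩, fun _ _ _ => bot_le⟩
  let e : (S ⧸ (⊥ : Ideal S)) ≃ₐ[A] S :=
    (AlgEquiv.ofBijective (Ideal.Quotient.mkₐ A (⊥ : Ideal S))
      ⟨fun x y h => sub_eq_zero.1 ((Ideal.mem_bot (R := S)).1 (Ideal.Quotient.eq.1 h)), Ideal.Quotient.mk_surjective⟩).symm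
  let EF : FractionRing (S ⧸ (⊥ : Ideal S)) ≃+* FractionRing S := IsFractionRing.ringEquivOfRingEquiv e.toRingEquiv
  have hEF : ∀ x, EF (algebraMap _ _ x) = algebraMap S (FractionRing S) (e x) := fun x =>
    IsFractionRing.ringEquivOfRingEquiv_algebraMap _ x
  obtain ⟨D', h0, hfin, hunr, hloc, -, -⟩ := Groth.Agent.S16440.core A S ⊥ hQ (t.image EF.symm)
  haveI := hfin
  haveI := hunr
  haveI := hloc
  have hcl : (Subfield.closure (Set.range (algebraMap A (FractionRing S)) ∪ (t : Set (FractionRing S)))) =
      (Subfield.closure (Set.range (algebraMap A (FractionRing (S ⧸ (⊥ : Ideal S)))) ∪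
        ((t.image EF.symm : Finset _) : Set (FractionRing (S ⧸ (⊥ : Ideal S)))))).map EF.toRingHom := by
    rw [RingHom.map_field_closure, Set.image_union, Finset.coe_image, Set.image_image]
    congr 2
    · rw [← Set.range_comp]
      refine congrArg Set.range (funext fun a => ?_)
      show _ = EF (algebraMap A _ a)
      rw [IsScalarTower.algebraMap_apply A (S ⧸ (⊥ : Ideal S)) (FractionRing (S ⧸ (⊥ : Ideal S))), hEF, e.commutes, ← IsScalarTower.algebraMap_apply]
    · simp
  let D : Subalgebra A S := D'.map e.toAlgHom
  let eD : D' ≃ₐ[A] D := D'.equivMapOfInjective e.toAlgHom e.injective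
  haveI : Module.Finite A D := Module.Finite.equiv eD.toLinearEquiv
  haveI : Algebra.FormallyUnramified A D := Algebra.FormallyUnramified.of_equiv eD
  haveI : IsLocalRing D := eD.toRingEquiv.isLocalRing
  haveI : Algebra.IsIntegral A D := Algebra.IsIntegral.of_finite A D
  obtain ⟨-, hlocD⟩ := Groth.Hensel1.henselian_of_isIntegral_subalgebra A S D
  haveI hlocD' : IsLocalHom (algebraMap D S) := hlocD
  haveI : IsLocalHom (algebraMap A D) := ⟨fun a ha => by
    have h1 := ha.map (algebraMap D S)
    rw [← IsScalarTower.algebraMap_apply] at h1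
    exact isUnit_of_map_unit (algebraMap A S) a h1⟩
  refine ⟨D, ?_, inferInstance, hlocD',
    Groth.Agent.S16438.result A S D Algebra.FormallyUnramified.map_maximalIdeal⟩
  ext x
  rw [Set.mem_preimage, hcl]
  constructor
  · rintro ⟨y, hy, rfl⟩
    exact ⟨_, (Set.ext_iff.1 h0 y).1 hy, hEF y⟩
  · rintro ⟨z, hz, hzx⟩
    refine ⟨e.symm x, (Set.ext_iff.1 h0 _).2 ?_, e.apply_symm_apply x⟩
    rwa [Set.mem_preimage, show algebraMap _ _ (e.symm x) = z from EF.injective (by
      rw [hEF, e.apply_symm_apply]; exact hzx.symm)]

end Groth.Agent.S16434
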