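import Groth.Statements.S16436
import Groth.Agent.Ega4Algebra2.StrictResidueField
import Mathlib
-- import your own Groth.Agent.* helpers here

set_option autoImplicit false
universe u
open Hensel

namespace Groth.Agent.S16436

/-- Let A be an excellent henselian reduced local ring, S a strict henselization of A and D an
A-subalgebra of S which is finitely generated as an A-module. Write D' for the integral closure of D
in its total ring of fractions. Then D is etale over A and every minimal prime ideal of S is
generated by its contraction to D, if and only if, for every maximal ideal M of D' with residue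
field l, writing k_0 for the subfield of l generated by the image of D (the image itself, a copy of
the residue field of D), k_0 is separably closed in l: every element of l separable over k_0 lies in
k_0. -/
theorem result
    (A S : Type u) [CommRing A] [HenselianLocalRing A] [IsReduced A] (hA : EGA4.IsExcellent A)
    [CommRing S] [IsLocalRing S] [Algebra A S] [IsLocalHom (algebraMap A S)]
    [Hensel.IsStrictHenselization A S] (D : Subalgebra A S) [Module.Finite A D] :
    (Algebra.Etale A D ∧
        ∀ Q ∈ minimalPrimes S, Q = Ideal.map (algebraMap D S) (Q.comap (algebraMap D S))) ↔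
      ∀ (M : Ideal (integralClosure D (FractionRing D))) [M.IsMaximal],
        separableClosure (Subfield.closure (Set.range ((algebraMap (integralClosure D (FractionRing D)) M.ResidueField).comp (algebraMap D (integralClosure D (FractionRing D)))))) M.ResidueField = ⊥ := by
  classical
  haveI : IsNoetherianRing A := hA.1
  constructor
  · rintro ⟨hEt, hsep⟩ M hM
    haveI := hEt
    have hst := Groth.Ega4Algebra2.StrictBranch.isStage_of_etale D
    rw [Groth.Ega4Algebra2.StrictBranch.map_comap_iff_separated hst] at hsep
    rw [eq_bot_iff]
    intro r hr
    exact IntermediateField.mem_bot.2 ⟨⟨r, Groth.Ega4Algebra2.StrictResidueField.mem_k0_of_separated D hst hsep M r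
      (mem_separableClosure_iff.1 hr)⟩, rfl⟩
  · intro h
    have H := Groth.Ega4Algebra2.StrictResidueField.residues_of_mem_k0 D fun M hM r hr => by
      obtain ⟨a, ha⟩ := IntermediateField.mem_bot.1 ((h M) ▸ mem_separableClosure_iff.2 hr)
      exact ha ▸ a.2
    haveI := Groth.Ega4Algebra2.StrictResidueField.etale_of_residues D H
    have hst := Groth.Ega4Algebra2.StrictBranch.isStage_of_etale D
    refine ⟨inferInstance, ?_⟩
    rw [Groth.Ega4Algebra2.StrictBranch.map_comap_iff_separated hst]
    intro P hP Q hQ
    refine Groth.Ega4Algebra2.StrictBranch.separated_of_residue D ?_ P Q hP hQ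
    intro K _ _ π hπ y c hc hy
    refine H K π hπ y c ?_ hy
    refine (Subfield.closure_le.2 ?_) hc
    rintro _ ⟨a, rfl⟩
    exact Subfield.subset_closure ⟨algebraMap A S a, D.algebraMap_mem a, π.commutes a⟩


end Groth.Agent.S16436
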