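import Groth.Statements.S16437
import Groth.Agent.Ega4Algebra2.StrictBranch
import Groth.Agent.Ega4Algebra2.EssEtHenselFinite
import Groth.Agent.S2654
import Groth.Agent.Calg4.Japanese
import Groth.Agent.Calg2.CompleteNagata
import Mathlib
-- import your own Groth.Agent.* helpers here

set_option autoImplicit false
universe u
open Hensel

namespace Groth.Agent.S16437

open IsLocalRing in
/-- Let A be an excellent henselian local domain with residue field k, whose integral closure A' in its
fraction field is a local ring (as it is, A being henselian) with local inclusion A → A' and residue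
field k'; let k^s be the separable closure of k in k', S a strict henselization of A, and E a local
ring which is an essentially etale local A-algebra with local structure map, together with an
A-algebra map E → S. Then every minimal prime ideal of S is generated by its contraction to E if and
only if the number of k-algebra maps from k^s to the residue field of E equals the degree [k^s : k];
equivalently, the minimal polynomial of a primitive element of k^s over k splits into linear factors
over the residue field of E. -/
theorem result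
    (A S E : Type u) [CommRing A] [HenselianLocalRing A] [IsDomain A] (hA : EGA4.IsExcellent A)
    [IsLocalRing (integralClosure A (FractionRing A))] [IsLocalHom (algebraMap A (integralClosure A (FractionRing A)))]
    [CommRing S] [IsLocalRing S] [Algebra A S] [IsLocalHom (algebraMap A S)]
    [Hensel.IsStrictHenselization A S]
    [CommRing E] [IsLocalRing E] [Algebra A E] [IsLocalHom (algebraMap A E)]
    (hE : EGA4loc.IsEssentiallyEtale A E) [Algebra E S] [IsScalarTower A E S] :
    (∀ Q ∈ minimalPrimes S, Q = Ideal.map (algebraMap E S) (Q.comap (algebraMap E S))) ↔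
      Nat.card (separableClosure (ResidueField A) (ResidueField (integralClosure A (FractionRing A))) →ₐ[ResidueField A]
          ResidueField E) =
        Module.finrank (ResidueField A)
          (separableClosure (ResidueField A) (ResidueField (integralClosure A (FractionRing A)))) := by
  classical
  haveI : IsNoetherianRing A := hA.1
  haveI : Module.Finite A E := Groth.Ega4Algebra2.finite_of_isEssentiallyEtale hE
  haveI : Algebra.IsIntegral A E := Algebra.IsIntegral.of_finite A E
  haveI := Groth.Ega4Algebra2.StrictResidue.isIntegral (A := A) (S := S)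
  haveI : Algebra.Etale A E := by
    obtain ⟨C, _, _, q, _, _, -, ⟨e⟩⟩ := hE
    haveI : Algebra.FormallyEtale C (Localization.AtPrime q) := .of_isLocalization q.primeCompl
    haveI : Algebra.FormallyEtale A (Localization.AtPrime q) := .comp A C _
    haveI : Algebra.FormallyEtale A E := Algebra.FormallyEtale.of_equiv e.symm
    exact { finitePresentation := Algebra.FinitePresentation.of_finiteType.1 inferInstance }
  let φE : E →ₐ[A] S := IsScalarTower.toAlgHom A E S
  haveI hφloc : IsLocalHom φE.toRingHom := Groth.Ega4Algebra2.StrictResidue.isLocalHom_algHom φE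
  haveI : IsLocalHom (algebraMap E S) := hφloc
  have hinj : Function.Injective φE := by
    haveI := Groth.Ega4Algebra2.StrictStage.weaklyEtale (A := A) (S := S)
    haveI : Algebra.WeaklyEtale E S := Groth.EtaleAlgebra.weaklyEtale_of_tower A E S
    haveI : Module.FaithfullyFlat E S := Module.FaithfullyFlat.of_flat_of_isLocalHom
    exact FaithfulSMul.algebraMap_injective E S
  let D : Subalgebra A S := φE.range
  let eD : E ≃ₐ[A] D := AlgEquiv.ofInjective φE hinj
  haveI : Algebra.Etale A D := Algebra.Etale.of_equiv eD
  haveI : Module.Finite A D := Module.Finite.equiv eD.toLinearEquiv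
  have hD := Groth.Ega4Algebra2.StrictBranch.isStage_of_etale D
  -- transfer of the separation condition
  have htrans : (∀ Q ∈ minimalPrimes S, Q = Ideal.map (algebraMap E S) (Q.comap (algebraMap E S))) ↔
      ∀ Q ∈ minimalPrimes S, Q = Ideal.map (algebraMap D S) (Q.comap (algebraMap D S)) := by
    refine forall₂_congr fun Q _ => ?_
    have hmap : algebraMap E S = (algebraMap D S).comp eD.toRingEquiv.toRingHom := RingHom.ext fun x => rfl
    rw [hmap, ← Ideal.comap_comap, ← Ideal.map_map,
      Ideal.map_comap_of_surjective eD.toRingEquiv.toRingHom eD.toRingEquiv.surjective]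
  rw [htrans, Groth.Ega4Algebra2.StrictBranch.map_comap_iff_separated hD]
  -- residue fields
  set A' := integralClosure A (FractionRing A) with hA'def
  set ks := separableClosure (ResidueField A) (ResidueField A') with hksdef
  haveI : Module.Finite A A' := by
    have hNagA : CAlg.IsNagata A := Groth.Agent.S2654.result A ⟨hA.1, hA.2.2.1, hA.2.2.2⟩
    exact Groth.Calg4.finite_ic_of_isN2
      (Groth.Calg2.CompleteNagata.isN2_of_ringEquiv (RingEquiv.quotientBot A) (hNagA.2 ⊥))
      (FractionRing A) (FractionRing A)
  haveI : Module.Finite (ResidueField A) (ResidueField A') := Module.Finite.of_restrictScalars_finite A _ _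
  haveI : Algebra.IsSeparable (ResidueField A) ks := separableClosure.isSeparable _ _
  let pb := Field.powerBasisOfFiniteOfSeparable (ResidueField A) ks
  let P := minpoly (ResidueField A) pb.gen
  have hPm : P.Monic := minpoly.monic (Algebra.IsIntegral.isIntegral _)
  have hPs : P.Separable := Algebra.IsSeparable.isSeparable (ResidueField A) pb.gen
  let γ : ResidueField E →ₐ[ResidueField A] ResidueField S :=
    { ResidueField.map φE.toRingHom with
      commutes' := fun z => by
        obtain ⟨a, rfl⟩ := residue_surjective z
        exact congrArg (residue S) (φE.commutes a) }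
  have hres : ∀ y, y ∈ Groth.Ega4Algebra2.StrictBranch.resField D ↔ ∃ z, γ z = y := by
    intro y
    rw [Groth.Ega4Algebra2.StrictBranch.mem_resField]
    constructor
    · rintro ⟨_, ⟨e, rfl⟩, rfl⟩; exact ⟨residue E e, rfl⟩
    · rintro ⟨z, rfl⟩
      obtain ⟨e, rfl⟩ := residue_surjective z
      exact ⟨φE e, ⟨e, rfl⟩, rfl⟩
  haveI := (inferInstance : Hensel.IsStrictHenselization A S).isSepClosure.sep_closed
  -- the count of the embeddings
  have hcount : Nat.card (ks →ₐ[ResidueField A] ResidueField E) = Module.finrank (ResidueField A) ks ↔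
      ∀ y : ResidueField S, Polynomial.aeval y P = 0 → y ∈ Groth.Ega4Algebra2.StrictBranch.resField D := by
    have hdeg : Module.finrank (ResidueField A) ks = P.natDegree := by
      rw [pb.finrank, ← pb.natDegree_minpoly]
    have hc : Nat.card (ks →ₐ[ResidueField A] ResidueField E) = (P.aroots (ResidueField E)).card := by
      rw [Nat.card_congr pb.liftEquiv, ← Multiset.toFinset_card_of_nodup (Polynomial.nodup_roots hPs.map),
        ← Nat.card_eq_finsetCard]
      refine Nat.card_congr (Equiv.subtypeEquivRight fun z => ?_)
      rw [Multiset.mem_toFinset, Polynomial.mem_aroots]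
      exact ⟨fun h => ⟨hPm.ne_zero, h⟩, fun h => h.2⟩
    rw [hc, hdeg]
    constructor
    · intro hcard y hy
      have hspl : (P.map (algebraMap (ResidueField A) (ResidueField E))).Splits := by
        rw [Polynomial.splits_iff_card_roots]
        rwa [Polynomial.natDegree_map]
      rw [hres]
      have h1 : y ∈ P.aroots (ResidueField S) := Polynomial.mem_aroots.2 ⟨hPm.ne_zero, hy⟩
      have h2 : P.aroots (ResidueField S) = (P.aroots (ResidueField E)).map γ := by
        rw [Polynomial.aroots, Polynomial.aroots, ← γ.comp_algebraMap, ← Polynomial.map_map,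
          hspl.roots_map]
        rfl
      rw [h2, Multiset.mem_map] at h1
      obtain ⟨z, -, hz⟩ := h1
      exact ⟨z, hz⟩
    · intro h
      have hsplS : (P.map (algebraMap (ResidueField A) (ResidueField S))).Splits :=
        IsSepClosed.splits_of_separable _ hPs.map
      have hspl : (P.map (algebraMap (ResidueField A) (ResidueField E))).Splits := by
        refine Polynomial.Splits.of_splits_map γ.toRingHom ?_ fun y hy => ?_
        · rw [Polynomial.map_map]
          exact (show γ.toRingHom.comp (algebraMap _ _) = algebraMap _ _ from γ.comp_algebraMap) ▸ hsplS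
        · rw [Polynomial.map_map, show γ.toRingHom.comp (algebraMap _ _) = algebraMap _ _ from γ.comp_algebraMap] at hy
          obtain ⟨z, hz⟩ := (hres y).1 (h y (Polynomial.mem_aroots.1 hy).2)
          exact ⟨z, hz⟩
      rw [Polynomial.splits_iff_card_roots] at hspl
      rwa [Polynomial.natDegree_map] at hspl
  rw [hcount]
  -- integral elements of the fraction field
  have hinjπ : ∀ {K : Type u} [Field K] [Algebra A K] (π : S →ₐ[A] K), RingHom.ker π ∈ minimalPrimes S →
      Function.Injective (algebraMap A K) := by
    intro K _ _ π hπ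
    have h1 := Groth.Ega4Algebra2.StrictResidue.comap_mem_minimalPrimes (A := A) hπ
    rw [IsDomain.minimalPrimes_eq_singleton_bot] at h1
    rw [injective_iff_map_eq_zero]
    intro a ha
    have h2 : a ∈ (RingHom.ker π).comap (algebraMap A S) := by
      show π (algebraMap A S a) = 0
      rw [π.commutes]; exact ha
    rw [Set.mem_singleton_iff] at h1
    rwa [h1] at h2
  obtain ⟨θ', hθ'⟩ := residue_surjective (pb.gen : ResidueField A')
  obtain ⟨Pl, hPl, -, -⟩ := Polynomial.lifts_and_degree_eq_and_monic
    (show P ∈ Polynomial.lifts (residue A) from Polynomial.map_surjective (residue A) residue_surjective P) hPm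
  have hbarA' : ∀ (p : Polynomial A) (x : A'), residue A' (Polynomial.aeval x p) =
      Polynomial.aeval (residue A' x) (p.map (residue A)) := fun p x => by
    rw [Polynomial.aeval_def, Polynomial.hom_eval₂, Polynomial.aeval_def, Polynomial.eval₂_map]
    rfl
  have hbarS : ∀ (p : Polynomial A) (x : S), residue S (Polynomial.aeval x p) =
      Polynomial.aeval (residue S x) (p.map (residue A)) := fun p x => by
    rw [Polynomial.aeval_def, Polynomial.hom_eval₂, Polynomial.aeval_def, Polynomial.eval₂_map]
    rfl
  haveI : Algebra.IsIntegral A A' := Algebra.IsIntegral.of_finite A A'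
  constructor
  · intro hsep y hy
    obtain ⟨Q, hQ⟩ : ∃ Q, Q ∈ minimalPrimes S := by
      obtain ⟨Q, hQ, -⟩ := Ideal.exists_minimalPrimes_le (bot_le (a := maximalIdeal S))
      exact ⟨Q, hQ⟩
    haveI := Ideal.minimalPrimes_isPrime hQ
    let π : S →ₐ[A] FractionRing (S ⧸ Q) :=
      (IsScalarTower.toAlgHom A (S ⧸ Q) (FractionRing (S ⧸ Q))).comp (Ideal.Quotient.mkₐ A Q)
    have hπ : RingHom.ker π ∈ minimalPrimes S :=
      (Groth.Ega4Algebra2.StrictResidue.ker_toAlgHom_quotient (A := A) Q).symm ▸ hQ
    let ψ : FractionRing A →ₐ[A] FractionRing (S ⧸ Q) :=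
      IsFractionRing.liftAlgHom (g := Algebra.ofId A _) (hinjπ π hπ)
    have hsmall : Groth.Ega4Algebra2.IsSmallElem A (Polynomial.aeval (ψ (θ' : FractionRing A)) Pl) := by
      rw [show Polynomial.aeval (ψ (θ' : FractionRing A)) Pl = (ψ.comp A'.val) (Polynomial.aeval θ' Pl) from
        Polynomial.aeval_algHom_apply (ψ.comp A'.val) θ' Pl]
      refine Groth.Ega4Algebra2.StrictResidue.isSmallElem_of_not_isUnit _ fun hu => ?_
      refine (residue_ne_zero_iff_isUnit _).2 hu ?_
      rw [hbarA', hθ', hPl]
      exact (Polynomial.aeval_algHom_apply ks.val pb.gen P).trans (by rw [minpoly.aeval, map_zero])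
    obtain ⟨y₀, hy₀⟩ := Groth.Ega4Algebra2.StrictResidue.exists_agree_of_separable π (ψ (θ' : FractionRing A))
      ((θ'.2 : IsIntegral A (θ' : FractionRing A)).map ψ) Pl (hPl ▸ hPs) hsmall
    obtain ⟨s₀, rfl⟩ := residue_surjective y₀
    have hy0 : Polynomial.aeval (residue S s₀) P = 0 := by
      have h1 := Groth.Ega4Algebra2.StrictResidue.agree_aeval π hy₀ Pl
      have h2 := (Groth.Ega4Algebra2.StrictResidue.agree_zero_iff π).2 hsmall
      rw [← hPl, ← hbarS]
      exact Groth.Ega4Algebra2.StrictResidue.Agree.unique π h1 h2
    obtain ⟨s₁, rfl⟩ := residue_surjective y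
    obtain ⟨f, R, G, hG, hsG⟩ := Groth.Ega4Algebra2.GaloisStage.exists_galoisStage (A := A)
      ({s₀, s₁} ∪ (Module.Finite.fg_top (R := A) (M := D)).choose.image (fun d : D => (d : S)))
    haveI := hG.isLocalRing
    haveI := hG.isLocalHom
    haveI := hG.isLocalHom_algebraMap inferInstance
    have hDG : D ≤ G := by
      intro d hd
      have hd' : (⟨d, hd⟩ : D) ∈ Submodule.span A ((Module.Finite.fg_top (R := A) (M := D)).choose : Set D) :=
        (Module.Finite.fg_top (R := A) (M := D)).choose_spec.symm ▸ Submodule.mem_top
      have h3 := Submodule.mem_map_of_mem (f := D.val.toLinearMap) hd'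
      rw [Submodule.map_span] at h3
      refine (Submodule.span_le (p := Subalgebra.toSubmodule G)).2 ?_ h3
      rintro _ ⟨d', hd'', rfl⟩
      exact hsG (Finset.mem_union_right _ (Finset.mem_image_of_mem _ hd''))
    let e₀ : G := ⟨s₀, hsG (by simp)⟩
    let e₁ : G := ⟨s₁, hsG (by simp)⟩
    haveI := (Groth.Ega4Algebra2.GaloisStage.isGalois hG).1
    haveI := (Groth.Ega4Algebra2.GaloisStage.isGalois hG).2
    let γG : ResidueField G →ₐ[ResidueField A] ResidueField S :=
      { ResidueField.map (algebraMap G S) with
        commutes' := fun z => by obtain ⟨a, rfl⟩ := residue_surjective z; rfl }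
    have hconj : IsConjRoot (ResidueField A) (residue G e₀) (residue G e₁) := by
      have hirr : Irreducible P := minpoly.irreducible (Algebra.IsIntegral.isIntegral _)
      have hm : ∀ z : ResidueField G, Polynomial.aeval (γG z) P = 0 → P = minpoly (ResidueField A) z := fun z hz =>
        minpoly.eq_of_irreducible_of_monic hirr ((map_eq_zero γG.toRingHom).1 ((Polynomial.aeval_algHom_apply γG z P).symm.trans hz)) hPm
      exact (hm (residue G e₀) hy0).symm.trans (hm (residue G e₁) hy)
    obtain ⟨σ, hσ⟩ := hconj.exists_algEquiv
    obtain ⟨g, hg⟩ := Groth.Ega4Algebra2.GaloisStage.exists_lift hG σ.symm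
    have hge : residue G (g e₀) = residue G e₁ := by
      rw [hg, ← hσ, σ.symm_apply_apply]
    obtain ⟨⟨a, b⟩, hab⟩ := IsLocalization.surj (nonZeroDivisors A) (θ' : FractionRing A)
    have hb0 : algebraMap A (FractionRing (S ⧸ Q)) b ≠ 0 := (map_ne_zero_iff _ (hinjπ π hπ)).2 (nonZeroDivisors.ne_zero b.2)
    have h4 := Groth.Ega4Algebra2.StrictBranch.residue_mem_of_separated hG D hDG
      (Groth.Ega4Algebra2.StrictBranch.rigid_of_isStage hD) hsep π hπ
      (algebraMap A G a) (algebraMap A G b) (D.algebraMap_mem a) (D.algebraMap_mem (b : A))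
      (by show π (algebraMap A S b) ≠ 0; rw [π.commutes]; exact hb0) (ψ (θ' : FractionRing A))
      (by
        show _ * π (algebraMap A S b) = π (algebraMap A S a)
        rw [π.commutes, π.commutes, ← ψ.commutes, ← map_mul, hab, ψ.commutes])
      g (g.commutes a) (g.commutes (b : A)) e₀ hy₀
    rwa [show residue S ((g e₀ : G) : S) = residue S s₁ from congrArg γG hge] at h4
  · intro hroots
    refine fun P' hP' Q hQ => Groth.Ega4Algebra2.StrictBranch.separated_of_residue D ?_ P' Q hP' hQ
    intro K _ _ π hπ y c hc hy
    let ψ : FractionRing A →ₐ[A] K := IsFractionRing.liftAlgHom (g := Algebra.ofId A _) (hinjπ π hπ)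
    obtain ⟨z, rfl⟩ : ∃ z : FractionRing A, ψ z = c := by
      have hle : Subfield.closure (Set.range (algebraMap A K)) ≤ ψ.toRingHom.fieldRange :=
        Subfield.closure_le.2 (by rintro _ ⟨a, rfl⟩; exact ⟨algebraMap A _ a, ψ.commutes a⟩)
      exact hle hc
    have hz : IsIntegral A z := (isIntegral_algHom_iff ψ ψ.toRingHom.injective).1 (Groth.Ega4Algebra2.StrictResidue.Agree.isIntegral π hy)
    let z' : A' := ⟨z, hz⟩
    haveI := (inferInstance : Hensel.IsStrictHenselization A S).isSepClosure.separable
    obtain ⟨s, rfl⟩ := residue_surjective y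
    have hyi : IsIntegral (ResidueField A) (residue S s) := Algebra.IsSeparable.isIntegral _ _
    obtain ⟨M, hM, -, hMm⟩ := Polynomial.lifts_and_degree_eq_and_monic
      (show minpoly (ResidueField A) (residue S s) ∈ Polynomial.lifts (residue A) from
        Polynomial.map_surjective (residue A) residue_surjective _) (minpoly.monic hyi)
    -- the residue of `z'` is separable
    have hzsep : residue A' z' ∈ ks := by
      refine mem_separableClosure_iff.2 ?_
      refine Polynomial.Separable.of_dvd (f := (M.map (residue A))) (hM ▸ Algebra.IsSeparable.isSeparable (ResidueField A) (residue S s)) (minpoly.dvd _ _ ?_)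
      rw [← hbarA', residue_eq_zero_iff]
      intro hu
      have h1 := Groth.Ega4Algebra2.StrictResidue.agree_aeval π hy M
      rw [hbarS, hM, minpoly.aeval] at h1
      have h2 : Groth.Ega4Algebra2.IsSmallElem A ((ψ.comp A'.val) (Polynomial.aeval z' M)) := by
        rw [← Polynomial.aeval_algHom_apply]
        exact (Groth.Ega4Algebra2.StrictResidue.agree_zero_iff π).1 h1
      exact Groth.Ega4Algebra2.StrictResidue.not_isUnit_of_isSmallElem (ψ.comp A'.val) h2 hu
    obtain ⟨p, hp⟩ := pb.exists_eq_aeval' (⟨_, hzsep⟩ : ks)
    obtain ⟨Pp, hPp⟩ := Polynomial.map_surjective (residue A) residue_surjective p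
    have hsmall : Groth.Ega4Algebra2.IsSmallElem A (Polynomial.aeval (ψ (θ' : FractionRing A)) Pl) := by
      rw [show Polynomial.aeval (ψ (θ' : FractionRing A)) Pl = (ψ.comp A'.val) (Polynomial.aeval θ' Pl) from
        Polynomial.aeval_algHom_apply (ψ.comp A'.val) θ' Pl]
      refine Groth.Ega4Algebra2.StrictResidue.isSmallElem_of_not_isUnit _ fun hu => ?_
      refine (residue_ne_zero_iff_isUnit _).2 hu ?_
      rw [hbarA', hθ', hPl]
      exact (Polynomial.aeval_algHom_apply ks.val pb.gen P).trans (by rw [minpoly.aeval, map_zero])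
    obtain ⟨y₀, hy₀⟩ := Groth.Ega4Algebra2.StrictResidue.exists_agree_of_separable π (ψ (θ' : FractionRing A))
      ((θ'.2 : IsIntegral A (θ' : FractionRing A)).map ψ) Pl (hPl ▸ hPs) hsmall
    obtain ⟨s₀, rfl⟩ := residue_surjective y₀
    have hy0 : Polynomial.aeval (residue S s₀) P = 0 := by
      rw [← hPl, ← hbarS]
      exact Groth.Ega4Algebra2.StrictResidue.Agree.unique π
        (Groth.Ega4Algebra2.StrictResidue.agree_aeval π hy₀ Pl)
        ((Groth.Ega4Algebra2.StrictResidue.agree_zero_iff π).2 hsmall)
    have h0 := hroots _ hy0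
    have hmem : residue S (Polynomial.aeval s₀ Pp) ∈ Groth.Ega4Algebra2.StrictBranch.resField D := by
      rw [hbarS]
      have := Polynomial.aeval_algHom_apply (Groth.Ega4Algebra2.StrictBranch.resField D).val
        (⟨_, h0⟩ : Groth.Ega4Algebra2.StrictBranch.resField D) (Pp.map (residue A))
      exact this.symm ▸ Subtype.mem _
    have hdiff : Groth.Ega4Algebra2.IsSmallElem A ((ψ.comp A'.val) (Polynomial.aeval θ' Pp - z')) := by
      refine Groth.Ega4Algebra2.StrictResidue.isSmallElem_of_not_isUnit _ fun hu => ?_
      refine (residue_ne_zero_iff_isUnit _).2 hu ?_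
      rw [map_sub, hbarA', hθ', hPp, sub_eq_zero]
      have h5 := congrArg ks.val hp
      rw [← Polynomial.aeval_algHom_apply] at h5
      exact h5.symm
    rw [map_sub, ← Polynomial.aeval_algHom_apply] at hdiff
    rwa [Groth.Ega4Algebra2.StrictResidue.Agree.unique π hy
      ((Groth.Ega4Algebra2.StrictResidue.agree_aeval π hy₀ Pp).congr π hdiff)]


end Groth.Agent.S16437
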