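import Groth.Statements.S16439
import Groth.Agent.S16441
import Groth.Agent.S16438
import Groth.Agent.S16430
import Groth.Agent.Hensel1.Pairs
import Groth.Agent.Hensel1.EssEt
import Groth.Agent.Ega4Algebra2.EssEtNormalization
import Mathlib
-- import your own Groth.Agent.* helpers here

set_option autoImplicit false
universe u
open EGA4loc

namespace Groth.Agent.S16439

open IsLocalRing

/-- An ideal of a Noetherian intermediate ring with unramified maximal ideal is contracted. -/
theorem comap_map_le {A E : Type u} [CommRing A] [IsLocalRing A] [CommRing E] [IsLocalRing E] [Algebra A E]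
    [IsLocalHom (algebraMap A E)] (hE : EGA4loc.IsEssentiallyEtale A E)
    (D : Type u) [CommRing D] [IsLocalRing D] [IsNoetherianRing D] [Algebra A D] [Algebra D E] [IsScalarTower A D E]
    [IsLocalHom (algebraMap A D)] [IsLocalHom (algebraMap D E)]
    (hm : (maximalIdeal A).map (algebraMap A D) = maximalIdeal D) (I : Ideal D) :
    (I.map (algebraMap D E)).comap (algebraMap D E) ≤ I := by
  classical
  have hfin : Algebra.IsSeparable (ResidueField A) (ResidueField E) ∧
      Module.Finite (ResidueField A) (ResidueField E) := by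
    obtain ⟨C, _, _, q, _, _, -, ⟨e⟩⟩ := hE
    have : Algebra.FormallyUnramified C (Localization.AtPrime q) := .of_isLocalization q.primeCompl
    have : Algebra.FormallyUnramified A (Localization.AtPrime q) := .comp A C _
    have : Algebra.EssFiniteType C (Localization.AtPrime q) := .of_isLocalization _ q.primeCompl
    have : Algebra.EssFiniteType A (Localization.AtPrime q) := .comp A C _
    have : Algebra.FormallyUnramified A E := Algebra.FormallyUnramified.of_equiv e.symm
    have : Algebra.EssFiniteType A E := Algebra.EssFiniteType.of_surjective e.symm.toAlgHom e.symm.surjective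
    exact ⟨inferInstance, inferInstance⟩
  obtain ⟨hsepE, hfinE⟩ := hfin
  haveI : IsScalarTower (ResidueField A) (ResidueField D) (ResidueField E) := by
    refine IsScalarTower.of_algebraMap_eq fun z => ?_
    obtain ⟨z, rfl⟩ := residue_surjective z
    exact congrArg (residue E) (IsScalarTower.algebraMap_apply A D E z)
  haveI : Algebra.IsSeparable (ResidueField A) (ResidueField D) :=
    Algebra.isSeparable_tower_bot_of_isSeparable (ResidueField A) (ResidueField D) (ResidueField E)
  haveI : Algebra.IsSeparable (ResidueField D) (ResidueField E) :=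
    Algebra.isSeparable_tower_top_of_isSeparable (ResidueField A) _ _
  haveI : Module.Finite (ResidueField D) (ResidueField E) :=
    Module.Finite.of_restrictScalars_finite (ResidueField A) _ _
  haveI : Module.Finite (ResidueField A) (ResidueField D) :=
    Module.Finite.of_injective (IsScalarTower.toAlgHom (ResidueField A) (ResidueField D) (ResidueField E)).toLinearMap
      (algebraMap (ResidueField D) (ResidueField E)).injective
  obtain ⟨D₁, _, _, _, _, hD₁fin, hD₁et, ⟨e⟩⟩ := Groth.Agent.S16430.result D (ResidueField E)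
  haveI := hD₁fin
  haveI := hD₁et
  haveI : Algebra.FormallyUnramified D D₁ := inferInstance
  have hD₁m : (maximalIdeal D).map (algebraMap D D₁) = maximalIdeal D₁ :=
    Algebra.FormallyUnramified.map_maximalIdeal
  haveI : Module.FaithfullyFlat D D₁ := Module.FaithfullyFlat.of_flat_of_isLocalHom
  intro x hx
  -- reduction modulo powers of the maximal ideal
  suffices hk : ∀ n : ℕ, x ∈ I ⊔ maximalIdeal D ^ (n + 1) by
    by_contra hxI
    have hne : I ≠ ⊤ := fun h => hxI (h ▸ Submodule.mem_top)
    haveI : Nontrivial (D ⧸ I) := Ideal.Quotient.nontrivial_iff.2 hne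
    haveI : IsLocalRing (D ⧸ I) := IsLocalRing.of_surjective' (Ideal.Quotient.mk I) Ideal.Quotient.mk_surjective
    have h0 : Ideal.Quotient.mk I x ∈ ⨅ n : ℕ, maximalIdeal (D ⧸ I) ^ n := by
      rw [Submodule.mem_iInf]
      intro n
      obtain ⟨i, hi, j, hj, rfl⟩ := Submodule.mem_sup.1 (hk n)
      rw [map_add, Ideal.Quotient.eq_zero_iff_mem.2 hi, zero_add,
        ← IsLocalRing.map_maximalIdeal_of_surjective (Ideal.Quotient.mk I) Ideal.Quotient.mk_surjective, ← Ideal.map_pow]
      exact Ideal.mem_map_of_mem _ (Ideal.pow_le_pow_right (Nat.le_succ n) hj)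
    rw [Ideal.iInf_pow_eq_bot_of_isLocalRing _ (maximalIdeal.isMaximal _).ne_top, Ideal.mem_bot,
      Ideal.Quotient.eq_zero_iff_mem] at h0
    exact hxI h0
  intro n
  let J : Ideal D₁ := maximalIdeal D₁ ^ (n + 1)
  have hJne : J ≠ ⊤ := fun h => (maximalIdeal.isMaximal D₁).ne_top (top_le_iff.1 (h ▸ Ideal.pow_le_self (Nat.succ_ne_zero n)))
  haveI : Nontrivial (D₁ ⧸ J) := Ideal.Quotient.nontrivial_iff.2 hJne
  haveI : IsLocalRing (D₁ ⧸ J) := IsLocalRing.of_surjective' (Ideal.Quotient.mk J) Ideal.Quotient.mk_surjective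
  haveI : HenselianRing (D₁ ⧸ J) (maximalIdeal (D₁ ⧸ J)) := by
    refine Groth.Hensel1.henselianRing_of_forall_isNilpotent fun z hz => ⟨n + 1, ?_⟩
    rw [← IsLocalRing.map_maximalIdeal_of_surjective (Ideal.Quotient.mk J) Ideal.Quotient.mk_surjective] at hz
    have h1 := Ideal.pow_mem_pow hz (n + 1)
    rwa [← Ideal.map_pow, Ideal.map_quotient_self, Ideal.mem_bot] at h1
  haveI : HenselianLocalRing (D₁ ⧸ J) := Groth.Hensel1.henselianLocalRing_of_henselianRing
  haveI : IsLocalHom (Ideal.Quotient.mk J) := IsLocalHom.of_surjective _ Ideal.Quotient.mk_surjective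
  let g₁ : D →+* D₁ ⧸ J := (Ideal.Quotient.mk J).comp (algebraMap D D₁)
  let α : ResidueField E →+* ResidueField (D₁ ⧸ J) :=
    (ResidueField.map (Ideal.Quotient.mk J)).comp e.symm.toRingEquiv.toRingHom
  have hα : ∀ d : D, α (residue E (algebraMap D E d)) = residue (D₁ ⧸ J) (g₁ d) := fun d => by
    show ResidueField.map (Ideal.Quotient.mk J) (e.symm (algebraMap (ResidueField D) (ResidueField E) (residue D d))) = _
    rw [e.symm.commutes]
    rfl
  obtain ⟨ψ, ⟨hψA, hψr⟩, -⟩ := Groth.Hensel1.existsUnique_ringHom_of_essentiallyEtale hE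
    (g₁.comp (algebraMap A D)) α (fun a => by
      rw [IsScalarTower.algebraMap_apply A D E a]; exact hα _)
  -- the two maps agree on `D`
  let K : Ideal D := maximalIdeal D ^ (n + 1)
  have hKne : K ≠ ⊤ := fun h => (maximalIdeal.isMaximal D).ne_top (top_le_iff.1 (h ▸ Ideal.pow_le_self (Nat.succ_ne_zero n)))
  haveI : Nontrivial (D ⧸ K) := Ideal.Quotient.nontrivial_iff.2 hKne
  haveI : IsLocalRing (D ⧸ K) := IsLocalRing.of_surjective' (Ideal.Quotient.mk K) Ideal.Quotient.mk_surjective
  haveI : IsLocalHom (Ideal.Quotient.mk K) := IsLocalHom.of_surjective _ Ideal.Quotient.mk_surjective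
  haveI hlocK : IsLocalHom (algebraMap A (D ⧸ K)) := RingHom.isLocalHom_comp (Ideal.Quotient.mk K) (algebraMap A D)
  have hKm : (maximalIdeal A).map (algebraMap A (D ⧸ K)) = maximalIdeal (D ⧸ K) := by
    rw [show algebraMap A (D ⧸ K) = (Ideal.Quotient.mk K).comp (algebraMap A D) from rfl, ← Ideal.map_map, hm]
    exact IsLocalRing.map_maximalIdeal_of_surjective _ Ideal.Quotient.mk_surjective
  haveI : Module.Finite A (D ⧸ K) := by
    haveI : Module.Finite A (ResidueField A) :=
      Module.Finite.of_surjective (Algebra.linearMap A (ResidueField A)) residue_surjective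
    haveI : Module.Finite A (ResidueField D) := Module.Finite.trans (ResidueField A) _
    obtain ⟨T, hT⟩ := (Module.Finite.fg_top (R := A) (M := ResidueField D))
    choose g hg using residue_surjective (R := D)
    let N : Submodule A D := Submodule.span A (g '' (T : Set (ResidueField D)))
    have hN : ∀ d : D, ∃ a ∈ N, d - a ∈ maximalIdeal D := fun d => by
      have h1 : residue D d ∈ Submodule.map (IsScalarTower.toAlgHom A D (ResidueField D)).toLinearMap N := by
        rw [Submodule.map_span, Set.image_image]
        rw [show (fun x => (IsScalarTower.toAlgHom A D (ResidueField D)).toLinearMap (g x)) = id from funext hg, Set.image_id, hT]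
        exact Submodule.mem_top
      obtain ⟨a, ha, hae⟩ := h1
      exact ⟨a, ha, Ideal.Quotient.eq.1 hae.symm⟩
    have hstep : ∀ k : ℕ, ∀ d : D, ∃ a ∈ N, d - a ∈ maximalIdeal D ^ k := by
      intro k
      induction k with
      | zero => exact fun d => ⟨0, N.zero_mem, by simp⟩
      | succ k ih =>
        have hkey : ∀ z ∈ maximalIdeal D ^ k, ∃ a ∈ N, z - a ∈ maximalIdeal D ^ (k + 1) := by
          intro z hz
          rw [← hm, ← Ideal.map_pow, Ideal.map] at hz
          induction hz using Submodule.span_induction with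
          | mem y hy =>
            obtain ⟨r, hr, rfl⟩ := hy
            obtain ⟨a, ha, had⟩ := hN 1
            refine ⟨r • a, N.smul_mem r ha, ?_⟩
            rw [Algebra.smul_def, show algebraMap A D r - algebraMap A D r * a = algebraMap A D r * (1 - a) by ring, pow_succ]
            refine Ideal.mul_mem_mul ?_ had
            rw [← hm, ← Ideal.map_pow]
            exact Ideal.mem_map_of_mem _ hr
          | zero => exact ⟨0, N.zero_mem, by simp⟩
          | add y z _ _ hy hz =>
            obtain ⟨a, ha, hay⟩ := hy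
            obtain ⟨b, hb, hbz⟩ := hz
            exact ⟨a + b, N.add_mem ha hb, by rw [show y + z - (a + b) = (y - a) + (z - b) by ring]; exact add_mem hay hbz⟩
          | smul c y hy _ =>
            -- split `c` and use that `y` comes from the base
            suffices h : ∀ c : D, ∀ y ∈ Submodule.span D ((algebraMap A D) '' ((maximalIdeal A ^ k : Ideal A) : Set A)),
                ∃ a ∈ N, c * y - a ∈ maximalIdeal D ^ (k + 1) from h c y hy
            intro c y hy
            induction hy using Submodule.span_induction generalizing c with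
            | mem y hy =>
              obtain ⟨r, hr, rfl⟩ := hy
              obtain ⟨a, ha, had⟩ := hN c
              refine ⟨r • a, N.smul_mem r ha, ?_⟩
              rw [Algebra.smul_def, show c * algebraMap A D r - algebraMap A D r * a = algebraMap A D r * (c - a) by ring, pow_succ]
              refine Ideal.mul_mem_mul ?_ had
              rw [← hm, ← Ideal.map_pow]
              exact Ideal.mem_map_of_mem _ hr
            | zero => exact ⟨0, N.zero_mem, by simp⟩
            | add y z _ _ hy hz =>
              obtain ⟨a, ha, hay⟩ := hy c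
              obtain ⟨b, hb, hbz⟩ := hz c
              exact ⟨a + b, N.add_mem ha hb, by rw [show c * (y + z) - (a + b) = (c * y - a) + (c * z - b) by ring]; exact add_mem hay hbz⟩
            | smul c' y _ hy =>
              rw [smul_eq_mul, ← mul_assoc]
              exact hy (c * c')
        intro d
        obtain ⟨a, ha, had⟩ := ih d
        obtain ⟨b, hb, hbd⟩ := hkey _ had
        exact ⟨a + b, N.add_mem ha hb, by rw [← sub_sub]; exact hbd⟩
    refine ⟨⟨T.image fun t => Ideal.Quotient.mk K (g t), top_le_iff.1 fun z _ => ?_⟩⟩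
    obtain ⟨d, rfl⟩ := Ideal.Quotient.mk_surjective z
    obtain ⟨a, ha, had⟩ := hstep (n + 1) d
    rw [Ideal.Quotient.eq.2 had]
    have h2 := Submodule.mem_map_of_mem (f := (Ideal.Quotient.mkₐ A K).toLinearMap) ha
    rw [Submodule.map_span, Set.image_image] at h2
    rw [Finset.coe_image]
    exact h2
  haveI : IsScalarTower (ResidueField A) (ResidueField D) (ResidueField (D ⧸ K)) := by
    refine IsScalarTower.of_algebraMap_eq fun z => ?_
    obtain ⟨z, rfl⟩ := residue_surjective z
    rfl
  haveI : Algebra.IsSeparable (ResidueField A) (ResidueField (D ⧸ K)) :=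
    Algebra.IsSeparable.of_equiv_equiv (RingEquiv.refl (ResidueField A))
      (RingEquiv.ofBijective (ResidueField.map (Ideal.Quotient.mk K)) ⟨(ResidueField.map (Ideal.Quotient.mk K)).injective, fun z => by
        obtain ⟨z, rfl⟩ := residue_surjective z
        obtain ⟨z, rfl⟩ := Ideal.Quotient.mk_surjective z
        exact ⟨residue D z, rfl⟩⟩) (RingHom.ext fun z => by
        obtain ⟨z, rfl⟩ := residue_surjective z
        rfl)
  haveI : Algebra.FormallyUnramified A (D ⧸ K) := Algebra.FormallyUnramified.of_map_maximalIdeal hKm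
  let g₂ : D →+* D₁ ⧸ J := ψ.comp (algebraMap D E)
  have hres : ∀ d, residue (D₁ ⧸ J) (g₂ d) = residue (D₁ ⧸ J) (g₁ d) := fun d => (hψr _).trans (hα d)
  have hg₁ : K ≤ RingHom.ker g₁ := by
    intro d hd
    rw [RingHom.mem_ker]
    show Ideal.Quotient.mk J (algebraMap D D₁ d) = 0
    rw [Ideal.Quotient.eq_zero_iff_mem]
    show _ ∈ maximalIdeal D₁ ^ (n + 1)
    rw [← hD₁m, ← Ideal.map_pow]
    exact Ideal.mem_map_of_mem _ hd
  have hg₂ : K ≤ RingHom.ker g₂ := by
    show maximalIdeal D ^ (n + 1) ≤ _
    rw [← hm, ← Ideal.map_pow, Ideal.map_le_iff_le_comap]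
    intro a ha
    rw [Ideal.mem_comap, RingHom.mem_ker]
    show ψ (algebraMap D E (algebraMap A D a)) = 0
    rw [← IsScalarTower.algebraMap_apply, show ψ (algebraMap A E a) = g₁ (algebraMap A D a) from RingHom.congr_fun hψA a]
    exact hg₁ (by show _ ∈ maximalIdeal D ^ (n + 1); rw [← hm, ← Ideal.map_pow]; exact Ideal.mem_map_of_mem _ ha)
  letI : Algebra A (D₁ ⧸ J) := (g₁.comp (algebraMap A D)).toAlgebra
  let f₁ : D ⧸ K →ₐ[A] D₁ ⧸ J := { Ideal.Quotient.lift K g₁ hg₁ with commutes' := fun a => rfl }
  have hA2 : ∀ a, ψ (algebraMap D E (algebraMap A D a)) = g₁ (algebraMap A D a) := fun a => by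
    rw [← IsScalarTower.algebraMap_apply]
    exact RingHom.congr_fun hψA a
  let f₂ : D ⧸ K →ₐ[A] D₁ ⧸ J := { Ideal.Quotient.lift K g₂ hg₂ with commutes' := hA2 }
  have hf : f₂ = f₁ := Groth.Hensel1.algHom_eq_of_residue_eq fun z => by
    obtain ⟨z, rfl⟩ := Ideal.Quotient.mk_surjective z
    exact hres z
  -- conclusion
  have h1 : g₁ x ∈ I.map g₁ := by
    have hxg : g₂ x = g₁ x := AlgHom.congr_fun hf (Ideal.Quotient.mk K x)
    rw [← hxg]
    have h2 : I.map g₂ ≤ I.map g₁ := Ideal.map_le_iff_le_comap.2 fun i hi => by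
      rw [Ideal.mem_comap, show g₂ i = g₁ i from AlgHom.congr_fun hf (Ideal.Quotient.mk K i)]
      exact Ideal.mem_map_of_mem _ hi
    refine h2 ?_
    rw [show g₂ = ψ.comp (algebraMap D E) from rfl, ← Ideal.map_map]
    exact Ideal.mem_map_of_mem ψ hx
  rw [show g₁ = (Ideal.Quotient.mk J).comp (algebraMap D D₁) from rfl, ← Ideal.map_map, RingHom.comp_apply] at h1
  have h3 : algebraMap D D₁ x ∈ (I ⊔ maximalIdeal D ^ (n + 1)).map (algebraMap D D₁) := by
    rw [Ideal.map_sup, Ideal.map_pow, hD₁m]
    have h4 : algebraMap D D₁ x ∈ ((I.map (algebraMap D D₁)).map (Ideal.Quotient.mk J)).comap (Ideal.Quotient.mk J) := h1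
    rwa [Ideal.comap_map_of_surjective _ Ideal.Quotient.mk_surjective, ← RingHom.ker_eq_comap_bot, Ideal.mk_ker] at h4
  have h5 : x ∈ ((I ⊔ maximalIdeal D ^ (n + 1)).map (algebraMap D D₁)).comap (algebraMap D D₁) := h3
  rwa [Ideal.comap_map_eq_self_of_faithfullyFlat] at h5

open IsLocalRing in
/-- Let A be an excellent reduced local ring with maximal ideal m, S a strict henselization of A, and D
an A-subalgebra of S which is a Noetherian local ring dominated by S (the inclusion is local), whose
total ring of fractions K_D is finitely generated over that of A — there is a finite subset t of K_D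
such that every element of K_D, after multiplication by (the image of) a non-zero-divisor of A, is a
polynomial expression in t with coefficients from A — and such that m D is the maximal ideal of D.
Then D is an essentially etale local A-algebra: A-isomorphic to the localization of an etale
A-algebra at a prime over m. -/
theorem result
    (A S : Type u) [CommRing A] [IsLocalRing A] [IsReduced A] (hA : EGA4.IsExcellent A)
    [CommRing S] [IsLocalRing S] [Algebra A S] [IsLocalHom (algebraMap A S)]
    [Hensel.IsStrictHenselization A S] (D : Subalgebra A S) [IsLocalRing D]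
    [IsLocalHom (algebraMap D S)] [IsNoetherianRing D]
    (hfg : ∃ t : Finset (FractionRing D), ∀ x : FractionRing D, ∃ a ∈ nonZeroDivisors A,
      algebraMap A (FractionRing D) a * x ∈ Algebra.adjoin A (t : Set (FractionRing D)))
    (hm : Ideal.map (algebraMap A D) (maximalIdeal A) = maximalIdeal D) :
    EGA4loc.IsEssentiallyEtale A D := by
  classical
  haveI : IsNoetherianRing A := hA.1
  have hmin : (minimalPrimes A).Finite := minimalPrimes.finite_of_isNoetherianRing A
  obtain ⟨E, hDE, hEl, hE⟩ := (Groth.Agent.S16441.result A S hmin D).1 hfg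
  haveI := hEl
  have hloc : ∀ F : Subalgebra A S, IsLocalHom (algebraMap A F) := fun F => ⟨fun a ha => by
    have h1 := ha.map (algebraMap F S)
    rw [← IsScalarTower.algebraMap_apply] at h1
    exact isUnit_of_map_unit (algebraMap A S) a h1⟩
  haveI := hloc E
  haveI := hloc D
  let D₁ : Subalgebra A E := D.comap E.val
  let eD : D ≃ₐ[A] D₁ :=
    { toFun := fun d => ⟨⟨d, hDE d.2⟩, d.2⟩
      invFun := fun d => ⟨((d : E) : S), d.2⟩
      left_inv := fun _ => rfl
      right_inv := fun _ => rfl
      map_mul' := fun _ _ => rfl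
      map_add' := fun _ _ => rfl
      commutes' := fun _ => rfl }
  haveI : IsLocalRing D₁ := eD.toRingEquiv.isLocalRing
  haveI hD₁E : IsLocalHom (algebraMap D₁ E) := ⟨fun d hd => by
    have h1 : IsUnit (eD.symm d) := isUnit_of_map_unit (algebraMap D S) _ (hd.map (algebraMap E S))
    simpa using h1.map eD⟩
  haveI : IsNoetherianRing D₁ := isNoetherianRing_of_ringEquiv D eD.toRingEquiv
  haveI hloc₁ : IsLocalHom (algebraMap A D₁) := ⟨fun a ha => by
    have h1 := ha.map eD.symm
    rw [AlgEquiv.commutes] at h1
    exact isUnit_of_map_unit (algebraMap A D) a h1⟩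
  have hm₁ : (IsLocalRing.maximalIdeal A).map (algebraMap A D₁) = IsLocalRing.maximalIdeal D₁ := by
    rw [← eD.toAlgHom.comp_algebraMap, ← Ideal.map_map, hm]
    exact IsLocalRing.map_maximalIdeal_of_surjective _ eD.surjective
  haveI : Algebra.EssFiniteType A D₁ := by
    refine Groth.Ega4Algebra2.EssEtNorm.essFiniteType_of_units A E hA hE D₁ fun y w hy _ hwE hyw => ?_
    obtain ⟨s, hs, d, hd, hsd⟩ := hy
    obtain ⟨hlocal, -⟩ := Groth.Agent.S16448.result A E hmin hE
    have hu : ∀ s ∈ nonZeroDivisors A, IsUnit (algebraMap A (FractionRing E) s) := fun s hs => by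
      rw [IsScalarTower.algebraMap_apply A E (FractionRing E)]
      exact IsLocalization.map_units (FractionRing E) (⟨_, Submonoid.mem_map_of_mem _ hs⟩ : (nonZeroDivisors A).map (algebraMap A E))
    have hinj : Function.Injective (algebraMap E (FractionRing E)) := IsFractionRing.injective _ _
    have hdu : IsUnit (algebraMap E (FractionRing E) d) := hsd ▸ (hu s hs).mul (IsUnit.of_mul_eq_one w hyw)
    let dD : D := ⟨(d : S), hd⟩
    have hdnzd : dD ∈ nonZeroDivisors D := mem_nonZeroDivisors_iff_right.2 fun z hz => by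
      have h1 : (⟨(z : S), hDE z.2⟩ : E) * d = 0 := Subtype.ext (congrArg (Subtype.val : D → S) hz :)
      have h2 : (⟨(z : S), hDE z.2⟩ : E) = 0 := hinj (by
        rw [map_zero]
        exact hdu.mul_left_eq_zero.1 (by rw [← map_mul, h1, map_zero]))
      exact Subtype.ext (congrArg (Subtype.val : E → S) h2)
    obtain ⟨v, s₀, hs₀, hv⟩ := Groth.Agent.S16441.exists_mul_eq hmin D E hE dD hdnzd d.2
    -- `s₀ w` lies in `D`
    let c : E := algebraMap A E s * ⟨(v : S), hDE v.2⟩
    have hc : c ∈ D₁ := D₁.mul_mem (D₁.algebraMap_mem s) v.2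
    have hsw : algebraMap A (FractionRing E) s₀ * w = algebraMap E (FractionRing E) c := by
      have h1 : d * ⟨(v : S), hDE v.2⟩ = algebraMap A E s₀ := Subtype.ext (congrArg Subtype.val hv :)
      rw [IsScalarTower.algebraMap_apply A E (FractionRing E) s₀, ← h1, map_mul, map_mul,
        ← IsScalarTower.algebraMap_apply, ← hsd]
      linear_combination (algebraMap A (FractionRing E) s * algebraMap E (FractionRing E) ⟨(v : S), hDE v.2⟩) * hyw
    obtain ⟨p, hp, hpw⟩ := hwE
    let cD : D₁ := ⟨c, hc⟩
    let I : Ideal D₁ := Ideal.span (Set.range fun i : Fin p.natDegree => cD ^ (i : ℕ) * algebraMap A D₁ s₀ ^ (p.natDegree - i))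
    have hmem : cD ^ p.natDegree ∈ (I.map (algebraMap D₁ E)).comap (algebraMap D₁ E) := by
      rw [Ideal.mem_comap, map_pow]
      show c ^ p.natDegree ∈ _
      have h1 : c ^ p.natDegree + ∑ i ∈ Finset.range p.natDegree, p.coeff i * (c ^ i * algebraMap A E s₀ ^ (p.natDegree - i)) = 0 := hinj (by
        rw [map_zero, map_add, map_sum]
        simp only [map_mul, map_pow, ← hsw, ← IsScalarTower.algebraMap_apply]
        rw [hp.as_sum, Polynomial.eval₂_add, Polynomial.eval₂_X_pow, Polynomial.eval₂_finsetSum] at hpw
        simp only [Polynomial.eval₂_mul, Polynomial.eval₂_C, Polynomial.eval₂_X_pow] at hpw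
        have h2 := congrArg (algebraMap A (FractionRing E) s₀ ^ p.natDegree * ·) hpw
        simp only [mul_zero, mul_add, Finset.mul_sum] at h2
        refine Eq.trans ?_ h2
        rw [mul_pow]
        refine congrArg₂ (· + ·) rfl (Finset.sum_congr rfl fun i hi => ?_)
        rw [Finset.mem_range] at hi
        rw [show algebraMap A (FractionRing E) s₀ ^ p.natDegree =
          algebraMap A (FractionRing E) s₀ ^ i * algebraMap A (FractionRing E) s₀ ^ (p.natDegree - i) by
            rw [← pow_add, Nat.add_sub_cancel' hi.le]]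
        ring)
      rw [eq_neg_of_add_eq_zero_left h1]
      refine neg_mem (Ideal.sum_mem _ fun i hi => Ideal.mul_mem_left _ _ ?_)
      exact Ideal.mem_map_of_mem (algebraMap D₁ E) (Ideal.subset_span ⟨⟨i, Finset.mem_range.1 hi⟩, rfl⟩ :
        cD ^ i * algebraMap A D₁ s₀ ^ (p.natDegree - i) ∈ I)
    obtain ⟨b, hb⟩ := (Ideal.mem_span_range_iff_exists_fun).1 (comap_map_le hE D₁ hm₁ I hmem)
    refine ⟨Polynomial.X ^ p.natDegree - ∑ i : Fin p.natDegree, Polynomial.C (b i) * Polynomial.X ^ (i : ℕ),
      Polynomial.monic_X_pow_sub ?_, ?_⟩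
    · refine lt_of_le_of_lt (Polynomial.degree_sum_le _ _) ((Finset.sup_lt_iff (WithBot.bot_lt_coe _)).2 fun i _ => ?_)
      exact lt_of_le_of_lt (Polynomial.degree_C_mul_X_pow_le _ _) (WithBot.coe_lt_coe.2 i.2)
    · rw [Polynomial.eval₂_sub, Polynomial.eval₂_X_pow, Polynomial.eval₂_finsetSum]
      simp only [Polynomial.eval₂_mul, Polynomial.eval₂_C, Polynomial.eval₂_X_pow]
      refine ((hu s₀ hs₀).pow p.natDegree).mul_right_eq_zero.1 ?_
      have h3 := congrArg (fun z : D₁ => algebraMap E (FractionRing E) (z : E)) hb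
      simp only [AddSubmonoidClass.coe_finsetSum, MulMemClass.coe_mul, SubmonoidClass.coe_pow, map_sum, map_mul, map_pow] at h3
      rw [mul_sub, Finset.mul_sum, sub_eq_zero, ← mul_pow, hsw]
      refine Eq.trans h3.symm (Finset.sum_congr rfl fun i _ => ?_)
      show algebraMap E (FractionRing E) (b i : E) * ((algebraMap E (FractionRing E) c) ^ (i : ℕ) *
        algebraMap E (FractionRing E) (algebraMap A E s₀) ^ (p.natDegree - i)) = _
      rw [← hsw, ← IsScalarTower.algebraMap_apply, IsScalarTower.algebraMap_apply D₁ E (FractionRing E)]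
      rw [show algebraMap A (FractionRing E) s₀ ^ p.natDegree =
          algebraMap A (FractionRing E) s₀ ^ (i : ℕ) * algebraMap A (FractionRing E) s₀ ^ (p.natDegree - i) by
            rw [← pow_add, Nat.add_sub_cancel' i.2.le]]
      show algebraMap E (FractionRing E) (algebraMap D₁ E (b i)) * _ = _
      ring
  haveI : Algebra.EssFiniteType A D := Algebra.EssFiniteType.of_surjective eD.symm.toAlgHom eD.symm.surjective
  exact Groth.Agent.S16438.result A S D hm

end Groth.Agent.S16439
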