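import Groth.Statements.S16442
import Groth.Agent.Ega4Algebra2.StrictStage
import Mathlib
-- import your own Groth.Agent.* helpers here

set_option autoImplicit false
universe u
open EGA4loc

namespace Groth.Agent.S16442

/-- Let A be a reduced local ring with finitely many minimal prime ideals, S a strict henselization of
A, and D an A-subalgebra of S which is a local ring dominated by S (local inclusion) and essentially
of finite type over A. Then D is contained in some A-subalgebra E of S which is a local ring and an
essentially etale local A-algebra. -/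
theorem result
    (A S : Type u) [CommRing A] [IsLocalRing A] [IsReduced A] (hmin : (minimalPrimes A).Finite)
    [CommRing S] [IsLocalRing S] [Algebra A S] [IsLocalHom (algebraMap A S)]
    [Hensel.IsStrictHenselization A S] (D : Subalgebra A S) [IsLocalRing D]
    [IsLocalHom (algebraMap D S)] [Algebra.EssFiniteType A D] :
    ∃ E : Subalgebra A S, D ≤ E ∧ ∃ _ : IsLocalRing E, EGA4loc.IsEssentiallyEtale A E := by
  classical
  let B := Algebra.EssFiniteType.subalgebra A D
  obtain ⟨T, hT⟩ := Algebra.FiniteType.out (R := A) (A := B)
  obtain ⟨E, hTE, hE⟩ := Groth.Ega4Algebra2.StrictStage.exists_stage (A := A) (T.image fun b : B => ((b : D) : S))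
  haveI := hE.isLocalRing
  refine ⟨E, fun x hx => ?_, hE.isLocalRing, hE.essEt hE.isLocalRing⟩
  have hB : ∀ b : B, ((b : D) : S) ∈ E := fun b => by
    have hb : b ∈ Algebra.adjoin A (T : Set B) := hT ▸ Algebra.mem_top
    induction hb using Algebra.adjoin_induction with
    | mem y hy => exact hTE (Finset.mem_image.2 ⟨y, hy, rfl⟩)
    | algebraMap r => exact E.algebraMap_mem r
    | add y z _ _ hy hz => exact E.add_mem hy hz
    | mul y z _ _ hy hz => exact E.mul_mem hy hz
  obtain ⟨b, u, hbu⟩ := IsLocalization.exists_mk'_eq (Algebra.EssFiniteType.submonoid A D) (⟨x, hx⟩ : D)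
  have h1 := IsLocalization.mk'_spec D b u
  rw [hbu] at h1
  have hu : IsUnit (⟨((u : B) : D), hB u⟩ : E) := hE.isLocalHom.map_nonunit _
    ((IsLocalization.map_units D u).map D.val)
  obtain ⟨v, hv⟩ := hu.exists_right_inv
  have hv' : ((u : B) : D).1 * (v : S) = 1 := congrArg Subtype.val hv
  have h2 : x * ((u : B) : D).1 = ((b : D) : S) := congrArg Subtype.val h1
  rw [← mul_one x, ← hv', ← mul_assoc, h2]
  exact E.mul_mem (hB b) v.2

end Groth.Agent.S16442
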