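import Groth.Statements.S16444
import Groth.Agent.S16430
import Groth.Agent.HensPair.StdLocal
import Groth.Agent.Hensel1.EssEt
import Groth.Agent.Hensel1.Finite
import Groth.Agent.Ega4Algebra2.EssEtHenselFinite
import Mathlib
-- import your own Groth.Agent.* helpers here

set_option autoImplicit false
universe u
open scoped TensorProduct
open Hensel IsLocalRing

namespace Groth.Agent.S16444

open IsLocalRing in
/-- Let A be a complete Noetherian local ring and R → A a local homomorphism from a henselian Noetherian
local ring R inducing a bijection on residue fields. Then every local ring E which is an essentially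
etale local A-algebra with local structure map is A-isomorphic to A ⊗_R S for some local ring S
which is a finite etale R-algebra (its residue field is then that of E). (The published statement
takes R to be a coefficient ring of A, that is a field or an image of a complete p-ring with the
same residue field; its proof uses only that R is henselian with the same residue field as A, which
is the hypothesis made here.) -/
theorem result
    (R A E : Type u) [CommRing R] [HenselianLocalRing R] [IsNoetherianRing R]
    [CommRing A] [IsLocalRing A] [IsNoetherianRing A] [IsAdicComplete (maximalIdeal A) A]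
    [Algebra R A] [IsLocalHom (algebraMap R A)]
    (hres : Function.Bijective (ResidueField.map (algebraMap R A)))
    [CommRing E] [IsLocalRing E] [Algebra A E] [IsLocalHom (algebraMap A E)]
    (hE : EGA4loc.IsEssentiallyEtale A E) :
    ∃ (S : Type u) (_ : CommRing S) (_ : IsLocalRing S) (_ : Algebra R S),
      Module.Finite R S ∧ Algebra.Etale R S ∧ Nonempty (E ≃ₐ[A] A ⊗[R] S) := by
  classical
  haveI : HenselianRing A (maximalIdeal A) := inferInstance
  haveI : HenselianLocalRing A := Groth.Hensel1.henselianLocalRing_of_henselianRing
  haveI := Groth.Ega4Algebra2.finite_of_isEssentiallyEtale hE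
  haveI : IsNoetherianRing E := IsNoetherianRing.of_finite A E
  have hEm := Groth.Hensel1.map_maximalIdeal_of_essentiallyEtale hE
  haveI : Module.Flat A E := by
    obtain ⟨C, _, _, q, _, _, -, ⟨e⟩⟩ := hE
    haveI : Module.Flat C (Localization.AtPrime q) := IsLocalization.flat _ q.primeCompl
    haveI : Module.Flat A (Localization.AtPrime q) := Module.Flat.trans A C _
    exact Module.Flat.of_linearEquiv e.toLinearEquiv
  haveI : Algebra.IsSeparable (IsLocalRing.ResidueField A) (IsLocalRing.ResidueField E) := by
    obtain ⟨C, _, _, q, _, _, -, ⟨e⟩⟩ := hE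
    have : Algebra.FormallyUnramified C (Localization.AtPrime q) := .of_isLocalization q.primeCompl
    have : Algebra.FormallyUnramified A (Localization.AtPrime q) := .comp A C _
    have : Algebra.FormallyUnramified A E := Algebra.FormallyUnramified.of_equiv e.symm
    infer_instance
  haveI : Module.Finite (IsLocalRing.ResidueField A) (IsLocalRing.ResidueField E) := by
    haveI : Module.Finite A (IsLocalRing.ResidueField E) :=
      Module.Finite.of_surjective (IsScalarTower.toAlgHom A E (IsLocalRing.ResidueField E)).toLinearMap IsLocalRing.residue_surjective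
    exact Module.Finite.of_restrictScalars_finite A _ _
  -- the residue field of `E` over that of `R`
  let ρ : ResidueField R →+* ResidueField A := ResidueField.map (algebraMap R A)
  letI : Algebra (ResidueField R) (ResidueField E) := ((algebraMap (ResidueField A) (ResidueField E)).comp ρ).toAlgebra
  haveI : Algebra.IsSeparable (ResidueField R) (ResidueField E) :=
    Algebra.IsSeparable.of_equiv_equiv (RingEquiv.ofBijective ρ hres).symm (RingEquiv.refl (ResidueField E))
      (RingHom.ext fun z => by
        obtain ⟨y, rfl⟩ := hres.2 z
        show algebraMap (ResidueField A) (ResidueField E) (ρ ((RingEquiv.ofBijective ρ hres).symm (ρ y))) = algebraMap (ResidueField A) (ResidueField E) (ρ y)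
        rw [show (RingEquiv.ofBijective ρ hres).symm (ρ y) = y from (RingEquiv.ofBijective ρ hres).symm_apply_apply y])
  haveI : Module.Finite (ResidueField R) (ResidueField E) := by
    obtain ⟨T, hT⟩ := (Module.Finite.fg_top (R := ResidueField A) (M := ResidueField E))
    refine ⟨⟨T, top_le_iff.1 fun x _ => ?_⟩⟩
    have hx : x ∈ Submodule.span (ResidueField A) (T : Set (ResidueField E)) := hT ▸ Submodule.mem_top
    induction hx using Submodule.span_induction with
    | mem y hy => exact Submodule.subset_span hy
    | zero => exact zero_mem _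
    | add y z _ _ hy hz => exact add_mem (hy trivial) (hz trivial)
    | smul c y _ hy =>
      obtain ⟨c, rfl⟩ := hres.2 c
      rw [show ρ c • y = c • y by rw [Algebra.smul_def, Algebra.smul_def]; rfl]
      exact Submodule.smul_mem _ c (hy trivial)
  obtain ⟨S, _, _, _, _, hSfin, hSet, ⟨e⟩⟩ := Groth.Agent.S16430.result R (ResidueField E)
  haveI := hSfin
  haveI := hSet
  have hSm : (maximalIdeal R).map (algebraMap R S) = maximalIdeal S := Algebra.FormallyUnramified.map_maximalIdeal
  -- the tensor product is local
  let T := A ⊗[R] S
  haveI : Module.Finite A T := inferInstance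
  haveI : Algebra.Etale A T := inferInstance
  haveI hTnt : Nontrivial T := by
    letI : Algebra R (ResidueField E) := ((algebraMap A (ResidueField E)).comp (algebraMap R A)).toAlgebra
    haveI : IsScalarTower R A (ResidueField E) := IsScalarTower.of_algebraMap_eq fun _ => rfl
    let f : S →ₐ[R] ResidueField E :=
      { e.toRingEquiv.toRingHom.comp (residue S) with
        commutes' := fun r => by
          show e (algebraMap (ResidueField R) (ResidueField S) (residue R r)) = _
          rw [e.commutes]
          rfl }
    exact (Algebra.TensorProduct.productMap (IsScalarTower.toAlgHom R A (ResidueField E)) f).toRingHom.domain_nontrivial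
  let mT : Ideal T := (maximalIdeal A).map (algebraMap A T)
  let σ : S →+* T ⧸ mT := (Ideal.Quotient.mk mT).comp (Algebra.TensorProduct.includeRight : S →ₐ[R] T).toRingHom
  have hσA : ∀ a : A, ∃ r : R, Ideal.Quotient.mk mT (algebraMap A T a) = σ (algebraMap R S r) := by
    intro a
    obtain ⟨z, hz⟩ := hres.2 (residue A a)
    obtain ⟨r, rfl⟩ := residue_surjective z
    refine ⟨r, ?_⟩
    show _ = Ideal.Quotient.mk mT ((Algebra.TensorProduct.includeRight : S →ₐ[R] T) (algebraMap R S r))
    rw [AlgHom.commutes, IsScalarTower.algebraMap_apply R A T, Ideal.Quotient.eq, ← map_sub]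
    exact Ideal.mem_map_of_mem _ (Ideal.Quotient.eq.1 hz.symm)
  have hσsurj : Function.Surjective σ := by
    intro z
    obtain ⟨t, rfl⟩ := Ideal.Quotient.mk_surjective z
    induction t using TensorProduct.induction_on with
    | zero => exact ⟨0, by simp⟩
    | tmul a s =>
      obtain ⟨r, hr⟩ := hσA a
      refine ⟨algebraMap R S r * s, ?_⟩
      rw [map_mul, ← hr, show a ⊗ₜ[R] s = algebraMap A T a * (1 : A) ⊗ₜ[R] s by simp [T], map_mul]
      rfl
    | add x y hx hy =>
      obtain ⟨u, hu⟩ := hx
      obtain ⟨v, hv⟩ := hy
      exact ⟨u + v, by rw [map_add, map_add, hu, hv]⟩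
  haveI : Algebra.IsIntegral A T := Algebra.IsIntegral.of_finite A T
  have hmTne : mT ≠ ⊤ := by
    obtain ⟨M, hM⟩ := Ideal.exists_maximal T
    haveI := hM
    exact ne_top_of_le_ne_top hM.ne_top (Ideal.map_le_iff_le_comap.2
      (IsLocalRing.eq_maximalIdeal (Ideal.isMaximal_comap_of_isIntegral_of_isMaximal (R := A) M)).ge)
  have hσker : maximalIdeal S ≤ RingHom.ker σ := by
    rw [← hSm, Ideal.map_le_iff_le_comap]
    intro r hr
    show σ (algebraMap R S r) = 0
    show Ideal.Quotient.mk mT ((Algebra.TensorProduct.includeRight : S →ₐ[R] T) (algebraMap R S r)) = 0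
    rw [AlgHom.commutes, IsScalarTower.algebraMap_apply R A T, Ideal.Quotient.eq_zero_iff_mem]
    exact Ideal.mem_map_of_mem _ (map_nonunit (algebraMap R A) r hr)
  let σ' : ResidueField S →+* T ⧸ mT := Ideal.Quotient.lift _ σ hσker
  haveI : Nontrivial (T ⧸ mT) := Ideal.Quotient.nontrivial_iff.2 hmTne
  have hσ' : Function.Bijective σ' := ⟨RingHom.injective _, fun z => by
    obtain ⟨s, rfl⟩ := hσsurj z
    exact ⟨residue S s, rfl⟩⟩
  have hmTmax : mT.IsMaximal := Ideal.Quotient.maximal_of_isField _
    ((RingEquiv.ofBijective σ' hσ').symm.toMulEquiv.isField (Field.toIsField (ResidueField S)))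
  haveI hTloc : IsLocalRing T := IsLocalRing.of_unique_max_ideal ⟨mT, hmTmax, fun M hM => by
    haveI := hM
    exact (hmTmax.eq_of_le hM.ne_top (Ideal.map_le_iff_le_comap.2
      (IsLocalRing.eq_maximalIdeal (Ideal.isMaximal_comap_of_isIntegral_of_isMaximal (R := A) M)).ge)).symm⟩
  have hmT : mT = maximalIdeal T := IsLocalRing.eq_maximalIdeal hmTmax
  haveI : HenselianLocalRing T := Groth.Hensel1.henselianLocalRing_of_finite A T
  -- the comparison map
  let eT : T ⧸ mT ≃+* ResidueField T := Ideal.quotEquivOfEq hmT
  let α : ResidueField E →+* ResidueField T :=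
    eT.toRingHom.comp (σ'.comp e.symm.toRingEquiv.toRingHom)
  have hα : ∀ a : A, α (residue E (algebraMap A E a)) = residue T (algebraMap A T a) := fun a => by
    obtain ⟨z, hz⟩ := hres.2 (residue A a)
    obtain ⟨r, rfl⟩ := residue_surjective z
    have h1 : residue E (algebraMap A E a) = algebraMap (ResidueField R) (ResidueField E) (residue R r) := by
      show algebraMap (ResidueField A) (ResidueField E) (residue A a) = _
      rw [← hz]; rfl
    show eT (σ' (e.symm (residue E (algebraMap A E a)))) = _
    rw [h1, e.symm.commutes]
    show eT (σ (algebraMap R S r)) = residue T (algebraMap A T a)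
    show residue T ((Algebra.TensorProduct.includeRight : S →ₐ[R] T) (algebraMap R S r)) = residue T (algebraMap A T a)
    rw [AlgHom.commutes, IsScalarTower.algebraMap_apply R A T, ← sub_eq_zero, ← map_sub, residue_eq_zero_iff,
      ← map_sub, ← hmT]
    exact Ideal.mem_map_of_mem _ (Ideal.Quotient.eq.1 hz)
  haveI : IsLocalHom (algebraMap A E) := inferInstance
  obtain ⟨φ₀, ⟨hφA, hφr⟩, -⟩ := Groth.Hensel1.existsUnique_ringHom_of_essentiallyEtale hE (algebraMap A T) α hα
  let φ : E →ₐ[A] T := { φ₀ with commutes' := fun a => RingHom.congr_fun hφA a }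
  have hsurj : Function.Surjective φ := by
    have htop : (LinearMap.range φ.toLinearMap) = ⊤ := by
      have hαs : Function.Surjective α :=
        eT.surjective.comp (hσ'.2.comp e.symm.surjective)
      have h : (⊤ : Submodule A T) ≤ LinearMap.range φ.toLinearMap ⊔ maximalIdeal A • ⊤ := by
        intro t _
        obtain ⟨z, hz⟩ := hαs (residue T t)
        obtain ⟨x, rfl⟩ := residue_surjective z
        have h1 : residue T (φ x) = α (residue E x) := hφr x
        have h2 : t - φ x ∈ mT := by
          rw [hmT, ← residue_eq_zero_iff, map_sub, h1, hz, sub_self]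
        rw [show t = φ x + (t - φ x) by abel]
        refine Submodule.add_mem_sup ⟨x, rfl⟩ ?_
        rw [Ideal.smul_top_eq_map]
        exact h2
      exact top_le_iff.1 (Submodule.le_of_le_smul_of_le_jacobson_bot Module.Finite.fg_top
        (maximalIdeal_le_jacobson _) h)
    exact LinearMap.range_eq_top.1 htop
  exact ⟨S, inferInstance, inferInstance, inferInstance, hSfin, hSet,
    ⟨AlgEquiv.ofBijective φ ⟨Groth.HensPair.injective_of_surjective_of_flat _ hEm φ hsurj, hsurj⟩⟩⟩

end Groth.Agent.S16444
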