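import Groth.Statements.S16447
import Groth.Agent.S16443
import Groth.Agent.Ega4Algebra2.SemilocalNormalization
import Groth.Agent.EtaleAlgebra.AbsFlat
import Mathlib
-- import your own Groth.Agent.* helpers here

set_option autoImplicit false
universe u
open EGA4loc

namespace Groth.Agent.S16447

/-- Let A be a Noetherian reduced local ring, E a local ring which is an essentially etale local
A-algebra with local structure map, K_E the total ring of fractions of E, E' the integral closure of
E in K_E (viewed as an A-subalgebra of K_E), and L an A-subalgebra of K_E containing an inverse of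
the image of every non-zero-divisor of A. Let C be the A-subalgebra L ⊓ E' of K_E. Then C is
integrally closed in L, C has only finitely many maximal ideals, the maximal ideals of C are exactly
the contractions of the maximal ideals of E', and every element of L is an element of C times the
inverse of the image of a non-zero-divisor of A. (The published statement assumes only that A is
reduced; its proof uses that the integral closure of E in K_E has finitely many maximal ideals,
which holds when A is Noetherian and can fail otherwise, so A is taken Noetherian here.) -/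
theorem result
    (A E : Type u) [CommRing A] [IsLocalRing A] [IsReduced A] [IsNoetherianRing A]
    [CommRing E] [IsLocalRing E] [Algebra A E] [IsLocalHom (algebraMap A E)]
    (hE : EGA4loc.IsEssentiallyEtale A E) (L : Subalgebra A (FractionRing E))
    (hL : ∀ s ∈ nonZeroDivisors A, ∃ y ∈ L, algebraMap A (FractionRing E) s * y = 1)
    (C : Subalgebra A (FractionRing E))
    (hC : C = L ⊓ (integralClosure E (FractionRing E)).restrictScalars A) :
    (∀ x ∈ L, IsIntegral C x → x ∈ C) ∧
      {N : Ideal C | N.IsMaximal}.Finite ∧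
      (∀ N : Ideal C, N.IsMaximal ↔ ∃ M : Ideal ((integralClosure E (FractionRing E)).restrictScalars A),
          M.IsMaximal ∧ N = M.comap (Subalgebra.inclusion (hC.trans_le inf_le_right))) ∧
      ∀ l ∈ L, ∃ c ∈ C, ∃ s ∈ nonZeroDivisors A, ∃ y ∈ L,
        algebraMap A (FractionRing E) s * y = 1 ∧ l = c * y := by
  classical
  have hmin : (minimalPrimes A).Finite := minimalPrimes.finite_of_isNoetherianRing A
  obtain ⟨C₀, _, _, q, _, hC₀, -, ⟨ee⟩⟩ := hE
  haveI : Algebra.QuasiFinite A E := by
    haveI : Algebra.QuasiFinite A C₀ := inferInstance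
    haveI : Algebra.QuasiFinite A (Localization.AtPrime q) := Algebra.QuasiFinite.of_isLocalization (S := C₀) q.primeCompl
    exact Algebra.QuasiFinite.of_surjective_algHom ee.symm.toAlgHom ee.symm.surjective
  haveI : IsNoetherianRing C₀ := Algebra.FiniteType.isNoetherianRing A C₀
  haveI : IsNoetherianRing (Localization.AtPrime q) := IsLocalization.isNoetherianRing q.primeCompl _ inferInstance
  haveI : IsNoetherianRing E := isNoetherianRing_of_ringEquiv (Localization.AtPrime q) ee.symm.toRingEquiv
  haveI : IsReduced C₀ := Groth.EtaleAlgebra.isReduced_of_weaklyEtale A C₀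
  haveI : IsReduced E := isReduced_of_injective ee.toRingEquiv ee.injective
  set E' := (integralClosure E (FractionRing E)).restrictScalars A with hE'def
  have hCle : C ≤ E' := hC.trans_le inf_le_right
  let ι := Subalgebra.inclusion hCle
  have hinE' : ∀ e : E, algebraMap E (FractionRing E) e ∈ E' := fun e =>
    (integralClosure E (FractionRing E)).algebraMap_mem e
  have hfin : {M : Ideal E' | M.IsMaximal}.Finite := Groth.Ega4Algebra2.finite_maximal_integralClosure E
  -- residue fields of `E'` are algebraic over that of `A`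
  have hmax : ∀ M : Ideal E', M.IsMaximal → (M.comap ι).IsMaximal := by
    intro M hM
    let M₀ : Ideal (integralClosure E (FractionRing E)) := M
    haveI : M₀.IsMaximal := hM
    have hM₀ : M₀.comap (algebraMap E _) = IsLocalRing.maximalIdeal E :=
      IsLocalRing.eq_maximalIdeal (Ideal.isMaximal_comap_of_isIntegral_of_isMaximal M₀)
    let k := E ⧸ IsLocalRing.maximalIdeal E
    haveI : Module.Finite A k := by
      let m := IsLocalRing.maximalIdeal A
      haveI hle : m ≤ (IsLocalRing.maximalIdeal E).comap (algebraMap A E) :=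
        fun a ha => map_nonunit (algebraMap A E) a ha
      letI : Algebra (A ⧸ m) k := (Ideal.quotientMap (IsLocalRing.maximalIdeal E) (algebraMap A E) hle).toAlgebra
      haveI : IsScalarTower A (A ⧸ m) k := IsScalarTower.of_algebraMap_eq fun a => rfl
      haveI : Algebra.QuasiFinite A k :=
        Algebra.QuasiFinite.of_surjective_algHom (Ideal.Quotient.mkₐ A (IsLocalRing.maximalIdeal E)) Ideal.Quotient.mk_surjective
      haveI : Algebra.QuasiFinite (A ⧸ m) k := Algebra.QuasiFinite.of_restrictScalars (R := A) (S := A ⧸ m) (T := k)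
      letI : Field (A ⧸ m) := Ideal.Quotient.field m
      haveI : Module.Finite (A ⧸ m) k := Module.Finite.of_quasiFinite
      exact Module.Finite.trans (A ⧸ m) k
    letI : Algebra k (integralClosure E (FractionRing E) ⧸ M₀) :=
      RingHom.toAlgebra (R := k) (S := integralClosure E (FractionRing E) ⧸ M₀) (Ideal.quotientMap M₀ (algebraMap E _) hM₀.ge)
    haveI : IsScalarTower A k (integralClosure E (FractionRing E) ⧸ M₀) := IsScalarTower.of_algebraMap_eq fun a => rfl
    haveI : IsScalarTower E k (integralClosure E (FractionRing E) ⧸ M₀) := IsScalarTower.of_algebraMap_eq fun a => rfl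
    haveI : Algebra.IsIntegral E (integralClosure E (FractionRing E) ⧸ M₀) := inferInstance
    haveI : Algebra.IsIntegral k (integralClosure E (FractionRing E) ⧸ M₀)  := ⟨fun x => IsIntegral.tower_top (R := E) (Algebra.IsIntegral.isIntegral x)⟩
    have hint : ∀ x : integralClosure E (FractionRing E) ⧸ M₀, IsIntegral A x := fun x =>
      isIntegral_trans (R := A) (A := k) x (Algebra.IsIntegral.isIntegral x)
    haveI : (M.comap ι).IsPrime := Ideal.IsPrime.comap _
    let j : (C ⧸ M.comap ι) →ₐ[A] (E' ⧸ M) := Ideal.quotientMapₐ M ι le_rfl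
    have hj : Function.Injective j := Ideal.quotientMap_injective
    haveI : Algebra.IsIntegral A (C ⧸ M.comap ι) :=
      ⟨fun x => (isIntegral_algHom_iff j hj).1 (hint (j x))⟩
    have hcomap : (⊥ : Ideal (C ⧸ M.comap ι)).comap (algebraMap A (C ⧸ M.comap ι)) = IsLocalRing.maximalIdeal A := by
      refine le_antisymm (IsLocalRing.le_maximalIdeal (Ideal.IsPrime.comap _ (hK := Ideal.isPrime_bot)).ne_top) fun a ha => ?_
      rw [Ideal.mem_comap, Ideal.mem_bot, ← Ideal.Quotient.mk_algebraMap, Ideal.Quotient.eq_zero_iff_mem, Ideal.mem_comap]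
      have h1 : algebraMap A E a ∈ M₀.comap (algebraMap E _) := by
        rw [hM₀]; exact map_nonunit (algebraMap A E) a ha
      exact h1
    have hbot : (⊥ : Ideal (C ⧸ M.comap ι)).IsMaximal :=
      haveI : (⊥ : Ideal (C ⧸ M.comap ι)).IsPrime := Ideal.isPrime_bot
      Ideal.isMaximal_of_isIntegral_of_isMaximal_comap (R := A) (S := C ⧸ M.comap ι) ⊥ (hcomap ▸ IsLocalRing.maximalIdeal.isMaximal A)
    exact (Ideal.bot_quotient_isMaximal_iff _).1 hbot
  -- inverses
  let φ : FractionRing A →+* FractionRing E := IsLocalization.lift (M := nonZeroDivisors A)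
    (g := algebraMap A (FractionRing E)) (fun s => by
      obtain ⟨y, -, hy⟩ := hL s s.2
      exact IsUnit.of_mul_eq_one _ hy)
  letI : Algebra (FractionRing A) (FractionRing E) := φ.toAlgebra
  haveI : IsScalarTower A (FractionRing A) (FractionRing E) :=
    IsScalarTower.of_algebraMap_eq fun a => (IsLocalization.lift_eq _ a).symm
  haveI : Algebra.QuasiFinite A (FractionRing E) := Algebra.QuasiFinite.of_isLocalization (S := E) (nonZeroDivisors E)
  haveI : Algebra.QuasiFinite (FractionRing A) (FractionRing E) := Algebra.QuasiFinite.of_restrictScalars (R := A) (S := FractionRing A) (T := FractionRing E)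
  haveI : IsArtinianRing (FractionRing A) := Groth.Agent.S16443.isArtinianRing_fractionRing hmin
  haveI : Module.Finite (FractionRing A) (FractionRing E) := Module.Finite.of_quasiFinite
  let L' : Subalgebra (FractionRing A) (FractionRing E) :=
    { L.toSubsemiring with
      algebraMap_mem' := fun r => by
        obtain ⟨a, s, rfl⟩ := IsLocalization.exists_mk'_eq (nonZeroDivisors A) r
        obtain ⟨y, hy, hsy⟩ := hL s s.2
        have h1 := congrArg φ (IsLocalization.mk'_spec (FractionRing A) a s)
        rw [map_mul, IsLocalization.lift_eq, IsLocalization.lift_eq] at h1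
        show φ (IsLocalization.mk' (FractionRing A) a s) ∈ L
        have h2 : φ (IsLocalization.mk' (FractionRing A) a s) = algebraMap A (FractionRing E) a * y := by
          rw [← h1, mul_assoc, hsy, mul_one]
        rw [h2]
        exact L.mul_mem (L.algebraMap_mem a) hy }
  have hmemC : ∀ x, x ∈ C ↔ x ∈ L ∧ x ∈ E' := fun x => by rw [hC]; rfl
  have hunit : ∀ x : C, IsUnit (ι x) → IsUnit x := by
    intro x hx
    obtain ⟨y, hy⟩ := hx.exists_right_inv
    have hy' : (x : FractionRing E) * (y : FractionRing E) = 1 := congrArg Subtype.val hy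
    exact IsUnit.of_mul_eq_one ⟨(y : FractionRing E),
      (hmemC _).2 ⟨Groth.Agent.S16443.inv_mem_of_finite L' ((hmemC _).1 x.2).1 hy', y.2⟩⟩ (Subtype.ext hy')
  have hiff : ∀ N : Ideal C, N.IsMaximal ↔ ∃ M : Ideal E', M.IsMaximal ∧ N = M.comap ι := by
    refine fun N => ⟨fun hN => ?_, fun ⟨M, hM, hNM⟩ => hNM ▸ hmax M hM⟩
    have hsub : (N : Set C) ⊆ ⋃ M ∈ (hfin.toFinset : Set (Ideal E')), (M.comap ι : Set C) := by
      intro x hx
      obtain ⟨M, hM, hxM⟩ := exists_max_ideal_of_mem_nonunits
        (show ι x ∈ nonunits E' from fun hu => hN.ne_top (Ideal.eq_top_of_isUnit_mem _ hx (hunit x hu)))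
      exact Set.mem_iUnion₂.2 ⟨M, hfin.mem_toFinset.2 hM, hxM⟩
    obtain ⟨M, hM, hle⟩ := (Ideal.subset_union_prime (f := fun M : Ideal E' => M.comap ι) ⊥ ⊥
      fun M hM _ _ => haveI := (hfin.mem_toFinset.1 hM).isPrime; Ideal.IsPrime.comap _).1 hsub
    exact ⟨M, hfin.mem_toFinset.1 hM, hN.eq_of_le (hmax M (hfin.mem_toFinset.1 hM)).ne_top hle⟩
  refine ⟨fun x hxL hx => (hmemC x).2 ⟨hxL, ?_⟩, ?_, hiff, fun l hl => ?_⟩
  · obtain ⟨p, hp, hpx⟩ := hx
    have hx' : IsIntegral (integralClosure E (FractionRing E)) x :=
      ⟨p.map ι.toRingHom, hp.map _, by rw [Polynomial.eval₂_map]; exact hpx⟩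
    exact (isIntegral_trans (R := E) x hx' : IsIntegral E x)
  · exact (hfin.image (Ideal.comap ι)).subset fun N hN => by
      obtain ⟨M, hM, rfl⟩ := (hiff N).1 hN
      exact ⟨M, hM, rfl⟩
  · obtain ⟨e, u, rfl⟩ := IsLocalization.exists_mk'_eq (nonZeroDivisors E) l
    obtain ⟨s, hs, v, hv⟩ := Groth.Agent.S16443.exists_dvd_nonZeroDivisor hmin (u : E) u.2
    obtain ⟨y, hy, hsy⟩ := hL s hs
    refine ⟨IsLocalization.mk' (FractionRing E) e u * algebraMap A (FractionRing E) s,
      (hmemC _).2 ⟨L.mul_mem hl (L.algebraMap_mem s), ?_⟩, s, hs, y, hy, hsy, by rw [mul_assoc, hsy, mul_one]⟩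
    rw [IsScalarTower.algebraMap_apply A E (FractionRing E), hv, map_mul, ← mul_assoc,
      IsLocalization.mk'_spec, ← map_mul]
    exact hinE' _

end Groth.Agent.S16447
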