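import Groth.Statements.S1645
import Groth.Agent.VarietyBC.PicGlue
import Groth.Agent.S7669
import Groth.Agent.GlueRings.TwoSemilocal
import Groth.Agent.PropsBasic2.SepGen
import Groth.Agent.Chow.AmpleTwist
-- import your own Groth.Agent.* helpers here

set_option autoImplicit false
universe u
open CategoryTheory CategoryTheory.Limits AlgebraicGeometry
open Variety


namespace Groth.Agent.S1645
open CategoryTheory AlgebraicGeometry TopologicalSpace Groth.PicAux Groth.VarietyBC

section
variable {X : Scheme.{u}} [IsIntegral X]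

/-- Sections seen in the function field. -/
noncomputable def φ {V : X.Opens} (hV : genericPoint X ∈ V) : Γ(X, V) →+* X.functionField :=
  (X.presheaf.germ V (genericPoint X) hV).hom

theorem φ_res {U V : X.Opens} (h : V ≤ U) (hV : genericPoint X ∈ V) (r : Γ(X, U)) :
    φ hV (resX X h r) = φ (h hV) r :=
  X.presheaf.germ_res_apply (homOfLE h) _ hV r

theorem φ_injective {V : X.Opens} (hV : genericPoint X ∈ V) : Function.Injective (φ hV) := by
  haveI : Nonempty V := ⟨⟨_, hV⟩⟩
  exact X.germToFunctionField_injective V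

theorem genericPoint_mem {V : X.Opens} (x : X) (hx : x ∈ V) : genericPoint X ∈ V :=
  ((genericPoint_spec X).mem_open_set_iff V.isOpen).2 ⟨x, trivial, hx⟩

/-- The local ring as a subring of the function field. -/
noncomputable def sub (x : X) : Subring X.functionField :=
  (algebraMap (X.presheaf.stalk x) X.functionField).range

noncomputable def equivSub (x : X) : X.presheaf.stalk x ≃+* sub x :=
  RingEquiv.ofBijective (algebraMap (X.presheaf.stalk x) X.functionField).rangeRestrict
    ⟨fun a b h => IsFractionRing.injective (X.presheaf.stalk x) X.functionField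
      (congrArg Subtype.val h), RingHom.rangeRestrict_surjective _⟩

instance (x : X) : IsFractionRing (sub x) X.functionField := by
  have h := IsLocalization.isLocalization_of_base_ringEquiv (nonZeroDivisors (X.presheaf.stalk x))
    X.functionField (equivSub x)
  have e : ((algebraMap (X.presheaf.stalk x) X.functionField).comp (equivSub x).symm.toRingHom).toAlgebra =
      (inferInstance : Algebra (sub x) X.functionField) := by
    refine Algebra.algebra_ext _ _ fun r => ?_
    exact congrArg Subtype.val ((equivSub x).apply_symm_apply r)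
  rw [MulEquivClass.map_nonZeroDivisors, e] at h
  exact h

theorem germ_mem_sub (x : X) {W : X.Opens} (hx : x ∈ W) (r : Γ(X, W)) :
    φ (genericPoint_mem x hx) r ∈ sub x := by
  haveI : Nonempty W := ⟨⟨x, hx⟩⟩
  exact ⟨_, X.algebraMap_germ_eq_germToFunctionField hx r⟩

end

theorem closure_inf_eq_top {X : Scheme.{u}} [X.IsSeparated] {U V : X.Opens} (hU : IsAffineOpen U)
    (hV : IsAffineOpen V) : IsAffineOpen (U ⊓ V) ∧
      Subring.closure (Set.range (resX X (inf_le_left : U ⊓ V ≤ U)) ∪
        Set.range (resX X (inf_le_right : U ⊓ V ≤ V))) = ⊤ :=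
  (Groth.PropsBasic2.SepGen.key (Limits.terminal.from X) hU hV).1
    (MorphismProperty.of_isPullback
      (Groth.PropsBasic2.SepGen.isPullback_diag (Limits.terminal.from X) U V).flip inferInstance)

end Groth.Agent.S1645

namespace Groth.Agent.S1645

open TopologicalSpace Groth.PicAux Groth.VarietyBC

/-- Let X be integral and separated and U a nonempty affine open outside of which there are only
finitely many points, each with a one-dimensional Noetherian local ring. Then there are a globally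
generated invertible module L and a global section s with U equal to the locus where s generates L. -/
theorem result (X : Scheme.{u}) [IsIntegral X] [X.IsSeparated]
    (U : X.Opens) (hU : IsAffineOpen U) (hne : (U : Set X).Nonempty) (hfin : ((U : Set X)ᶜ).Finite)
    (hloc : ∀ x : X, x ∉ U → IsNoetherianRing (X.presheaf.stalk x) ∧ ringKrullDim (X.presheaf.stalk x) = 1) :
    ∃ (L : X.Modules) (s : Coh.structureModule X ⟶ L), PicF.IsInvertible L ∧ Curv2.IsGloballyGenerated L ∧
      CohB1.genLocus L s = U := by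
  classical
  let η := genericPoint X
  have hηU : η ∈ U := genericPoint_mem hne.some hne.some_mem
  let A : Subring X.functionField := (φ hηU).range
  have hgenz : ∀ x : X, x ∉ U → ∀ z : X, z ⤳ x → z ≠ x → z = η := fun x hx z hz hzx => by
    haveI := (hloc x hx).1
    exact ((Groth.Agent.S7669.generalisations x (hloc x hx).2.le).2 η z
      ((genericPoint_specializes z).trans hz) (fun h => hx (h ▸ hηU)) hz hzx
      (genericPoint_specializes z)).symm
  have hW0 : ∀ x : {x : X // x ∉ U}, ∃ W : X.Opens, x.1 ∈ W ∧ ∀ z ∈ W, z ∉ U → z = x.1 := fun x => by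
    refine ⟨⟨(⋃ z ∈ ((U : Set X)ᶜ \ {x.1}), closure {z})ᶜ,
      ((hfin.subset Set.diff_subset).isClosed_biUnion fun _ _ => isClosed_closure).isOpen_compl⟩,
      fun h => ?_, fun z hz hzU => not_not.1 fun hne => hz (Set.mem_biUnion ⟨hzU, hne⟩
        (subset_closure rfl))⟩
    obtain ⟨z, ⟨hzU, hzne⟩, hxz⟩ := Set.mem_iUnion₂.1 h
    exact hzU ((hgenz x.1 x.2 z (specializes_iff_mem_closure.2 hxz) hzne).symm ▸ hηU)
  choose W₀ hxW₀ hW₀ using hW0
  -- functions vanishing only at the point
  have shrink : ∀ (x : {x : X // x ∉ U}) (W : X.Opens) (hx : x.1 ∈ W) (h : Γ(X, W)),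
      x.1 ∉ X.basicOpen h → φ (genericPoint_mem x.1 hx) h ≠ 0 →
      ∃ (W' : X.Opens) (hle : W' ≤ W), IsAffineOpen W' ∧ x.1 ∈ W' ∧ W' ≤ W₀ x ∧
        X.basicOpen (resX X hle h) = W' ⊓ U := by
    intro x W hx h hxh hh
    obtain ⟨W1, hW1, hxW1, hW1le⟩ := exists_isAffineOpen_mem_and_subset
      (show x.1 ∈ W ⊓ W₀ x from ⟨hx, hxW₀ x⟩)
    have hle1 : W1 ≤ W := fun z hz => (hW1le hz).1
    have hηh : η ∈ X.basicOpen (resX X hle1 h) := by
      rw [Scheme.mem_basicOpen _ _ _ (genericPoint_mem x.1 hxW1)]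
      refine IsUnit.mk0 _ ?_
      change φ (genericPoint_mem x.1 hxW1) (resX X hle1 h) ≠ 0
      rwa [φ_res]
    obtain ⟨g, hxg, hg⟩ := PicGlue.exists_basicOpen_avoid hW1 hxW1 (W1 ⊓ U) inf_le_left
      (closure_inf_eq_top hW1 hU).1.isCompact _
      (X.basicOpen (resX X hle1 h)).isOpen.isClosed_compl fun z hz hzU hzC => by
        have e := hgenz x.1 x.2 z hz fun e => x.2 (e ▸ hzU.2)
        exact hzC (e ▸ hηh)
    refine ⟨X.basicOpen g, (X.basicOpen_le g).trans hle1, hW1.basicOpen g, hxg,
      fun z hz => (hW1le (X.basicOpen_le g hz)).2, ?_⟩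
    rw [resX, Scheme.basicOpen_res]
    refine le_antisymm (le_inf inf_le_left fun z hz => ?_) (le_inf inf_le_left fun z hz => ?_)
    · by_contra hzU
      exact hxh (hW₀ x z (hW1le (X.basicOpen_le g hz.1)).2 hzU ▸ hz.2)
    · have h1 := not_not.1 (hg z hz.1 ⟨X.basicOpen_le g hz.1, hz.2⟩)
      rw [resX, Scheme.basicOpen_res] at h1
      exact h1.2
  -- the valuation rings over the missing points
  have hval : ∀ x : {x : X // x ∉ U}, ∃ (ι : Type u) (_ : Fintype ι)
      (V : ι → ValuationSubring X.functionField), (∀ i, IsDiscreteValuationRing (V i)) ∧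
      (∀ i, ∃ a ∈ A, a ∉ V i) ∧
      ∀ w : X.functionField, (∀ i, w ∈ (V i).nonunits) → ∃ N : ℕ, ∀ n, N ≤ n →
        ∃ (W : X.Opens) (hx : x.1 ∈ W) (h : Γ(X, W)),
          x.1 ∉ X.basicOpen h ∧ φ (genericPoint_mem x.1 hx) h = w ^ n := by
    intro x
    haveI := (hloc x.1 x.2).1
    haveI : IsNoetherianRing (sub x.1) := isNoetherianRing_of_ringEquiv _ (equivSub x.1)
    haveI : IsLocalRing (sub x.1) := (equivSub x.1).isLocalRing
    haveI : Finite (MaximalSpectrum (sub x.1)) := Finite.of_injective (fun _ => PUnit.unit.{1})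
      fun M N _ => MaximalSpectrum.ext ((IsLocalRing.eq_maximalIdeal M.isMaximal).trans
        (IsLocalRing.eq_maximalIdeal N.isMaximal).symm)
    have hd : ringKrullDim (sub x.1) = 1 :=
      (ringKrullDim_eq_of_ringEquiv (equivSub x.1)).symm.trans (hloc x.1 x.2).2
    obtain ⟨ι, _, V, hdvr, hBV, hdesc⟩ := Groth.GlueRings.exists_valuations (sub x.1) hd
    refine ⟨ι, inferInstance, V, hdvr, fun i => ?_, fun w hw => ?_⟩
    · by_contra! hcon
      haveI := hdvr i
      have hall : ∀ z : X.functionField, z ∈ V i := by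
        intro z
        obtain ⟨a, b, hb, rfl⟩ := IsFractionRing.div_surjective (A := X.presheaf.stalk x.1) z
        refine div_eq_mul_inv (algebraMap (X.presheaf.stalk x.1) X.functionField a) _ ▸
          mul_mem (hBV i ⟨a, rfl⟩) ?_
        obtain ⟨W, hxW, h, rfl⟩ := TopCat.Presheaf.exists_germ_eq X.presheaf b
        haveI : Nonempty W := ⟨⟨x.1, hxW⟩⟩
        rw [X.algebraMap_germ_eq_germToFunctionField hxW h]
        change (φ (genericPoint_mem x.1 hxW) h)⁻¹ ∈ V i
        by_cases hxh : x.1 ∈ X.basicOpen h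
        · obtain ⟨u, hu⟩ := (Scheme.mem_basicOpen _ _ _ hxW).1 hxh
          have e : φ (genericPoint_mem x.1 hxW) h =
              algebraMap (X.presheaf.stalk x.1) X.functionField u := by
            rw [hu]; exact (X.algebraMap_germ_eq_germToFunctionField hxW h).symm
          rw [e, ← map_units_inv]
          exact hBV i ⟨_, rfl⟩
        have hne0 : φ (genericPoint_mem x.1 hxW) h ≠ 0 := fun h0 =>
          nonZeroDivisors.ne_zero hb (IsFractionRing.injective (X.presheaf.stalk x.1) X.functionField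
            (((X.algebraMap_germ_eq_germToFunctionField hxW h).trans h0).trans (map_zero _).symm))
        obtain ⟨W', hle, hW', hxW', -, hbo⟩ := shrink x W hxW h hxh hne0
        obtain ⟨-, hcl⟩ := closure_inf_eq_top hW' hU
        have hηi : η ∈ W' ⊓ U := ⟨genericPoint_mem x.1 hxW', hηU⟩
        have hsub : ∀ r : Γ(X, W' ⊓ U), φ hηi r ∈ V i := by
          intro r
          have hr : r ∈ Subring.closure (Set.range (resX X (inf_le_left : W' ⊓ U ≤ W')) ∪
              Set.range (resX X (inf_le_right : W' ⊓ U ≤ U))) := hcl ▸ trivial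
          refine (Subring.closure_le (t := (V i).toSubring.comap (φ hηi))).2 ?_ hr
          rintro _ (⟨s, rfl⟩ | ⟨s, rfl⟩)
          · change φ hηi (resX X _ s) ∈ V i
            rw [φ_res]
            exact hBV i (germ_mem_sub x.1 hxW' s)
          · change φ hηi (resX X _ s) ∈ V i
            rw [φ_res]
            exact hcon _ ⟨s, rfl⟩
        obtain ⟨u, hu⟩ := Groth.Agent.S7669.isUnit_resX_basicOpen (resX X hle h)
          (inf_le_left : W' ⊓ U ≤ W') hbo.ge
        have h1 := hsub (u⁻¹ : Γ(X, W' ⊓ U)ˣ).1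
        rw [map_units_inv, hu, φ_res, φ_res] at h1
        exact h1
      refine IsDiscreteValuationRing.not_isField (V i)
        ⟨⟨0, 1, zero_ne_one⟩, mul_comm, fun {a} ha => ⟨⟨(a : X.functionField)⁻¹, hall _⟩, Subtype.ext ?_⟩⟩
      exact mul_inv_cancel₀ fun h0 => ha (Subtype.ext h0)
    · obtain ⟨N, hN⟩ := hdesc w hw
      refine ⟨N, fun n hn => ?_⟩
      obtain ⟨hmem, hM⟩ := hN n hn
      obtain ⟨b, hb⟩ := id hmem
      obtain ⟨W, hxW, h, rfl⟩ := TopCat.Presheaf.exists_germ_eq X.presheaf b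
      haveI : Nonempty W := ⟨⟨x.1, hxW⟩⟩
      refine ⟨W, hxW, h, fun hxh => ?_, ?_⟩
      · have hu := ((Scheme.mem_basicOpen _ _ _ hxW).1 hxh).map (equivSub x.1)
        have e : equivSub x.1 (X.presheaf.germ W x.1 hxW h) = ⟨w ^ n, hmem⟩ := Subtype.ext hb
        rw [e] at hu
        exact (IsLocalRing.maximalIdeal.isMaximal (sub x.1)).ne_top
          (Ideal.eq_top_of_isUnit_mem _ (hM _ (IsLocalRing.maximalIdeal.isMaximal (sub x.1))) hu)
      · exact (X.algebraMap_germ_eq_germToFunctionField hxW h).symm.trans hb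
  choose ι hιfin V hdvr hAV hdesc using hval
  haveI : Finite {x : X // x ∉ U} := hfin.to_subtype
  haveI : Fintype {x : X // x ∉ U} := Fintype.ofFinite _
  haveI : ∀ x, Fintype (ι x) := hιfin
  haveI : ∀ v : Σ x : {x : X // x ∉ U}, ι x, IsDiscreteValuationRing (V v.1 v.2) :=
    fun v => hdvr v.1 v.2
  obtain ⟨a, haA, ha⟩ := Groth.GlueRings.exists_mul_not_mem A
    (fun v : Σ x : {x : X // x ∉ U}, ι x => V v.1 v.2) (fun v => hAV v.1 v.2) Finset.univ {1}
    (by simp)
  by_cases hempty : IsEmpty {x : X // x ∉ U}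
  · -- nothing is missing
    refine ⟨Coh.structureModule X, homOfSection (oneSec X ⊤),
      (isInvertible_iff_exists_gen _).2 fun x => ⟨⊤, oneSec X ⊤, trivial, gen_oneSec ⊤⟩, ?_, ?_⟩
    · exact Groth.Chow.isGloballyGenerated_of_cover (ι := PUnit.{u + 1}) (fun _ => oneSec X ⊤)
        (eq_top_iff.2 fun z _ => Opens.mem_iSup.2 ⟨PUnit.unit,
          Groth.PropsBasic.Ample.le_gloc (V := ⊤) (by rw [res_self]; exact gen_oneSec ⊤) trivial⟩)
    · refine (top_le_iff.1 (Groth.PropsBasic.Ample.le_gloc (V := ⊤)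
        (by rw [res_self]; exact gen_oneSec ⊤))).trans (top_le_iff.1 fun z _ => ?_).symm
      exact not_not.1 fun hz => hempty.false ⟨z, hz⟩
  have hne' : Nonempty {x : X // x ∉ U} := not_isEmpty_iff.1 hempty
  have ha0 : a ≠ 0 := by
    intro h0
    obtain ⟨x⟩ := hne'
    by_cases hι : IsEmpty (ι x)
    · -- no valuation ring: every element would be in the maximal ideal
      obtain ⟨N, hN⟩ := hdesc x 1 fun i => hι.elim i
      obtain ⟨W, hxW, h, hxh, hh⟩ := hN N le_rfl
      rw [one_pow, ← map_one (φ (genericPoint_mem x.1 hxW))] at hh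
      exact hxh (φ_injective _ hh ▸ by rw [Scheme.basicOpen_of_isUnit _ isUnit_one]; exact hxW)
    · obtain ⟨i⟩ := not_isEmpty_iff.1 hι
      exact ha ⟨x, i⟩ (Finset.mem_univ _) 1 (Finset.mem_singleton_self _) (by rw [h0, zero_mul]; exact zero_mem _)
  have hnu : ∀ x i, a⁻¹ ∈ (V x i).nonunits := fun x i => by
    haveI := hdvr x i
    refine Groth.GlueRings.mem_max_of_not_mem (V x i) fun h => ?_
    exact ha ⟨x, i⟩ (Finset.mem_univ _) 1 (Finset.mem_singleton_self _) (by rwa [mul_one])
  choose N hN using fun x => hdesc x a⁻¹ (hnu x)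
  let n := Finset.univ.sup N
  choose W₁ hxW₁ h₁ hxh₁ hh₁ using fun x => hN x n (Finset.le_sup (Finset.mem_univ x))
  choose W hle hWaff hxW hWle hWh using fun x => shrink x (W₁ x) (hxW₁ x) (h₁ x) (hxh₁ x)
    (by rw [hh₁]; exact pow_ne_zero _ (inv_ne_zero ha0))
  obtain ⟨a', ha'⟩ := id haA
  -- the invertible module
  have hover : ∀ x y, x ≠ y → W x ⊓ W y ≤ U := fun x y hxy z hz => by
    by_contra hzU
    exact hxy (Subtype.ext ((hW₀ x z (hWle x hz.1) hzU).symm.trans (hW₀ y z (hWle y hz.2) hzU)))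
  let O : Option {x : X // x ∉ U} → X.Opens := fun a => a.elim U W
  have hO : iSup O = ⊤ := top_le_iff.1 fun z _ => by
    by_cases hz : z ∈ U
    · exact Opens.mem_iSup.2 ⟨none, hz⟩
    · exact Opens.mem_iSup.2 ⟨some ⟨z, hz⟩, hxW _⟩
  let c : ∀ o, Γ(X, O o) := fun o => match o with
    | none => 1
    | some x => resX X (hle x) (h₁ x)
  let d : ∀ o, Γ(X, O o) := fun o => match o with
    | none => a' ^ n
    | some _ => 1
  have hc : ∀ o, X.basicOpen (c o) = O o ⊓ U := by
    intro o
    cases o with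
    | none => exact (Scheme.basicOpen_of_isUnit _ isUnit_one).trans (inf_idem _).symm
    | some x => exact hWh x
  have hcd : ∀ o, resX X (inf_le_left : O o ⊓ U ≤ O o) (d o) =
      resX X (inf_le_right : O o ⊓ U ≤ U) (a' ^ n) * resX X inf_le_left (c o) := by
    intro o
    cases o with
    | none => exact (mul_one _).symm.trans (congrArg _ (map_one _).symm)
    | some x =>
      have hηi : η ∈ W x ⊓ U := ⟨genericPoint_mem x.1 (hxW x), hηU⟩
      refine φ_injective hηi ?_
      change φ hηi (resX X (inf_le_left : W x ⊓ U ≤ W x) 1) =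
        φ hηi (resX X (inf_le_right : W x ⊓ U ≤ U) (a' ^ n) *
          resX X (inf_le_left : W x ⊓ U ≤ W x) (resX X (hle x) (h₁ x)))
      rw [map_one, map_one, map_mul, φ_res, φ_res, φ_res, map_pow, ha', hh₁, ← mul_pow,
        mul_inv_cancel₀ ha0, one_pow]
  have hover' : ∀ o o', o ≠ o' → O o ⊓ O o' ≤ U := by
    intro o o' hab
    cases o with
    | none => exact inf_le_left
    | some x =>
      cases o' with
      | none => exact inf_le_right
      | some y => exact hover x y fun h => hab (h ▸ rfl)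
  have hu : ∀ (o : Option {x : X // x ∉ U}) (V : X.Opens) (h : V ≤ O o), V ≤ U →
      IsUnit (resX X h (c o)) := fun o V h hVU =>
    Groth.Agent.S7669.isUnit_resX_basicOpen _ h ((hc o).symm ▸ le_inf h hVU)
  have hex : ∀ o o', ∃ e : Γ(X, O o ⊓ O o'), IsUnit e ∧ (o = o' → e = 1) ∧
      resX X inf_le_left (c o) * e = resX X inf_le_right (c o') ∧
      resX X inf_le_left (d o) * e = resX X inf_le_right (d o') := by
    intro o o'
    by_cases hab : o = o'
    · subst hab
      exact ⟨1, isUnit_one, fun _ => rfl, mul_one _, mul_one _⟩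
    · obtain ⟨u₁, hu₁⟩ := hu o _ inf_le_left (hover' o o' hab)
      obtain ⟨u₂, hu₂⟩ := hu o' _ inf_le_right (hover' o o' hab)
      have h0 := hover' o o' hab
      have e1 := congrArg (resX X (le_inf inf_le_left h0 : O o ⊓ O o' ≤ O o ⊓ U)) (hcd o)
      have e2 := congrArg (resX X (le_inf inf_le_right h0 : O o ⊓ O o' ≤ O o' ⊓ U)) (hcd o')
      simp only [map_mul, resX_resX] at e1 e2
      refine ⟨↑(u₁⁻¹ * u₂), Units.isUnit _, fun h => absurd h hab, ?_, ?_⟩
      · rw [← hu₁, ← hu₂, ← Units.val_mul, mul_inv_cancel_left]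
      · rw [e1, e2, ← hu₁, ← hu₂, mul_assoc, ← Units.val_mul, mul_inv_cancel_left]
  choose e heu he1 hec hed using hex
  obtain ⟨L, s, hs, hinv, hrel⟩ := exists_module_of_cocycle O e hO heu fun o p q => by
    by_cases hab : o = p
    · subst hab
      rw [he1 o o rfl, map_one, one_mul]
    have hVa : O o ⊓ O p ⊓ O q ≤ O o := inf_le_left.trans inf_le_left
    refine (hu o _ hVa (inf_le_left.trans (hover' o p hab))).mul_left_cancel ?_
    have h1 := congrArg (resX X
      (inf_le_inf_right (O q) inf_le_left : O o ⊓ O p ⊓ O q ≤ O o ⊓ O q)) (hec o q)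
    have h2 := congrArg (resX X (inf_le_left : O o ⊓ O p ⊓ O q ≤ O o ⊓ O p)) (hec o p)
    have h3 := congrArg (resX X
      (inf_le_inf_right (O q) inf_le_right : O o ⊓ O p ⊓ O q ≤ O p ⊓ O q)) (hec p q)
    simp only [map_mul, resX_resX] at h1 h2 h3
    rw [← mul_assoc, h1, h2, h3]
  obtain ⟨S, hS, -⟩ := res_glue (M := L) O (fun _ => le_top) hO.ge (fun o => c o • s o) fun o p => by
    rw [res_smul, res_smul, hrel, smul_smul, hec]
  obtain ⟨T, hT, -⟩ := res_glue (M := L) O (fun _ => le_top) hO.ge (fun o => d o • s o) fun o p => by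
    rw [res_smul, res_smul, hrel, smul_smul, hed]
  have hloc' : ∀ o, CohB1.genLocus L (homOfSection S) ⊓ O o = O o ⊓ U := fun o => by
    rw [genLocus_inf_eq_basicOpen (hs o) (c := c o) (by rw [gsec_homOfSection]; exact hS o), hc]
  have hSU : CohB1.genLocus L (homOfSection S) = U := by
    refine le_antisymm (fun z hz => ?_) (fun z hz => ?_)
    · obtain ⟨o, ho⟩ := Opens.mem_iSup.1 (hO.ge (Opens.mem_top z))
      exact ((hloc' o).le ⟨hz, ho⟩).2
    · obtain ⟨o, ho⟩ := Opens.mem_iSup.1 (hO.ge (Opens.mem_top z))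
      exact ((hloc' o).ge ⟨ho, hz⟩).1
  refine ⟨L, homOfSection S, hinv, ?_, hSU⟩
  refine Groth.Chow.isGloballyGenerated_of_cover (ι := ULift.{u} Bool)
    (fun b => if b.down then S else T) (eq_top_iff.2 fun z _ => ?_)
  by_cases hz : z ∈ U
  · exact Opens.mem_iSup.2 ⟨⟨true⟩, hSU.ge hz⟩
  · refine Opens.mem_iSup.2 ⟨⟨false⟩, ?_⟩
    have hg := Groth.PropsBasic.Ample.gloc_inf_eq_basicOpen (hs (some ⟨z, hz⟩)) (c := (1 : Γ(X, W ⟨z, hz⟩)))
      (hT (some ⟨z, hz⟩))
    exact (hg.ge (show z ∈ X.basicOpen (1 : Γ(X, W ⟨z, hz⟩)) by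
      rw [Scheme.basicOpen_of_isUnit _ isUnit_one]; exact hxW ⟨z, hz⟩)).1

end Groth.Agent.S1645
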