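import Groth.Statements.S16451
import Groth.Agent.Ega4Algebra2.ResidualMain
import Mathlib

set_option autoImplicit false
universe u
open scoped TensorProduct
open EGA4loc

namespace Groth.Agent.S16451

open IsLocalRing in
/-- Let A be an excellent reduced local ring with maximal ideal m and residue field k, S a strict
henselization of A with total ring of fractions K, and D an A-subalgebra of S which is a local ring
dominated by S (local inclusion); let D^h be a henselization of D and θ : D^h → S the D-algebra map
to S (the unique one, S being henselian). Inside K, let A' and D' be the normalizations of A and of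
D — the elements of K integral over A (resp. over D) and carried into A (resp. into D) by the image
of some non-zero-divisor of A — so A' ⊆ D', and let ι : D → D' be the inclusion. Then θ is injective
and its image is a directed union of A-subalgebras of S which are local rings and essentially etale
local A-algebras (that is, D^h is a direct limit of local etale extensions of A) if and only if D'
has finitely many maximal ideals and the canonical map A' ⊗_A D → D'/Rad(D') is surjective with
kernel the ideal generated by Rad(A') ⊗ D and A' ⊗ m_D (the residual field products satisfy (A'/Rad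
A') ⊗_k (D/m_D) ≅ D'/Rad(D')). -/
theorem result
    (A S : Type u) [CommRing A] [IsLocalRing A] [IsReduced A] (hA : EGA4.IsExcellent A)
    [CommRing S] [IsLocalRing S] [Algebra A S] [IsLocalHom (algebraMap A S)]
    [Hensel.IsStrictHenselization A S] (D : Subalgebra A S) [IsLocalRing D]
    [IsLocalHom (algebraMap D S)]
    (Dh : Type u) [CommRing Dh] [IsLocalRing Dh] [Algebra D Dh] [IsLocalHom (algebraMap D Dh)]
    [Hensel.IsHenselization D Dh] [Algebra Dh S] [IsScalarTower D Dh S]
    (A' D' : Subalgebra A (FractionRing S))
    (hA' : ∀ x : (FractionRing S), x ∈ A' ↔ (IsIntegral A x ∧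
      ∃ a ∈ nonZeroDivisors A, ∃ b : A, algebraMap A (FractionRing S) a * x = algebraMap A (FractionRing S) b))
    (hD' : ∀ x : (FractionRing S), x ∈ D' ↔ (IsIntegral D x ∧
      ∃ a ∈ nonZeroDivisors A, ∃ d ∈ D, algebraMap A (FractionRing S) a * x = algebraMap S (FractionRing S) d))
    (hle : A' ≤ D') (ι : D →ₐ[A] D') (hι : ∀ d : D, (ι d : (FractionRing S)) = algebraMap S (FractionRing S) d) :
    (Function.Injective (algebraMap Dh S) ∧
        ∀ s : Finset S, (s : Set S) ⊆ Set.range (algebraMap Dh S) →
          ∃ E : Subalgebra A S, (s : Set S) ⊆ (E : Set S) ∧ (E : Set S) ⊆ Set.range (algebraMap Dh S) ∧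
            ∃ _ : IsLocalRing E, EGA4loc.IsEssentiallyEtale A E) ↔
      ({N : Ideal D' | N.IsMaximal}.Finite ∧
        Function.Surjective ((Ideal.Quotient.mkₐ A (Ideal.jacobson (⊥ : Ideal D'))).comp
          (Algebra.TensorProduct.productMap (Subalgebra.inclusion hle) ι)) ∧
        RingHom.ker ((Ideal.Quotient.mkₐ A (Ideal.jacobson (⊥ : Ideal D'))).comp
          (Algebra.TensorProduct.productMap (Subalgebra.inclusion hle) ι)) =
          (Ideal.jacobson (⊥ : Ideal A')).map
              (Algebra.TensorProduct.includeLeft : A' →ₐ[A] A' ⊗[A] D) ⊔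
            (maximalIdeal D).map
              (Algebra.TensorProduct.includeRight : D →ₐ[A] A' ⊗[A] D)) := by
  classical
  haveI : IsNoetherianRing A := hA.1
  have hN : Groth.Ega4Algebra2.Residual.IsNormalisation (⊥ : Subalgebra A S) A' :=
    Groth.Ega4Algebra2.Residual.isNormalisation_bot hA'
  have hN' : Groth.Ega4Algebra2.Residual.IsNormalisation D D' := hD'
  obtain ⟨H, _, _, _, _, hH⟩ := Groth.Ega4Algebra2.Residual.exists_base D
  let θ : Dh →+* S := algebraMap Dh S
  have hθ : ∀ d : D, θ (algebraMap D Dh d) = (d : S) := fun d => (IsScalarTower.algebraMap_apply D Dh S d).symm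
  constructor
  · rintro ⟨hinj, hst⟩
    have hG := Groth.Ega4Algebra2.Residual.hensRange_props Dh θ hθ
    obtain ⟨hfin, hsurj⟩ := Groth.Ega4Algebra2.Residual.core_forward H hN hN' hle ι hι
      (Groth.Ega4Algebra2.Residual.hensRange Dh θ hθ)
      (Groth.Ega4Algebra2.Residual.le_hensRange H Dh θ hθ hH) hG.1 hG.2
      (fun I x hx => by
        obtain ⟨M⟩ := Groth.Hensel1.hensModel_of_isHenselization (R := D) (S := Dh)
        haveI := M.faithfullyFlat
        rw [← Ideal.comap_map_eq_self_of_faithfullyFlat (B := Dh) I, Ideal.mem_comap]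
        let ψ : Dh →+* Groth.Ega4Algebra2.Residual.hensRange Dh θ hθ := θ.codRestrict _ fun y => ⟨y, rfl⟩
        have hψi : Function.Injective ψ := fun a b h => hinj (congrArg Subtype.val h)
        have hψs : Function.Surjective ψ := fun g => by
          obtain ⟨y, hy⟩ := g.2
          exact ⟨y, Subtype.ext hy⟩
        have hcomp : ψ.comp (algebraMap D Dh) = (Subalgebra.inclusion hG.1).toRingHom :=
          RingHom.ext fun d => Subtype.ext (hθ d)
        rw [← Ideal.comap_map_of_bijective ψ ⟨hψi, hψs⟩ (I := I.map (algebraMap D Dh)), Ideal.mem_comap,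
          Ideal.map_map, hcomp, ← RingHom.comp_apply, hcomp]
        exact hx)
      (fun s hs => by
        obtain ⟨E, hsE, hEG, hloc, hE⟩ := hst s hs
        exact ⟨E, hEG, hsE, hloc, hE⟩)
    exact ⟨hfin, hsurj, Groth.Ega4Algebra2.Residual.kernel_eq H hN hN' hle ι hι⟩
  · rintro ⟨-, hsurj, -⟩
    obtain ⟨hinj, hle'⟩ := Groth.Ega4Algebra2.Residual.core_backward H hN hN' hle ι hι Dh θ hθ hH hsurj
    refine ⟨hinj, fun s hs => ?_⟩
    obtain ⟨E, hEH, hsE, hloc, hE⟩ := hH.stage s fun x hx => hle' (hs hx)
    exact ⟨E, hsE, fun x hx => Groth.Ega4Algebra2.Residual.le_hensRange H Dh θ hθ hH (hEH hx), hloc, hE⟩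

end Groth.Agent.S16451
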