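import Groth.Statements.S16450
import Groth.Agent.Ega4Algebra2.ResidualFinite
import Groth.Agent.Ega4Algebra2.EssEtComp
import Groth.Agent.S16451
import Groth.Agent.S0506
import Mathlib

set_option autoImplicit false
universe u
open scoped TensorProduct
open EGA4loc

namespace Groth.Agent.S16450

open IsLocalRing in
/-- Let A be an excellent reduced local ring with maximal ideal m and residue field k, S a strict
henselization of A with total ring of fractions K, and D an A-subalgebra of S which is a local ring
dominated by S (local inclusion) and whose total ring of fractions is finitely generated over that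
of A. Inside K, let A' and D' be the normalizations of A and of D: the elements of K integral over A
(resp. over D) which are carried into A (resp. into D) by the image of some non-zero-divisor of A;
so A' ⊆ D', and let ι : D → D' be the inclusion. Then D is an essentially etale local A-algebra if
and only if D' has finitely many maximal ideals and the canonical map A' ⊗_A D → D'/Rad(D') is
surjective with kernel the ideal generated by Rad(A') ⊗ D and A' ⊗ m_D — in other words the residual
field products satisfy (A'/Rad A') ⊗_k (D/m_D) ≅ D'/Rad(D') via the canonical maps. -/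
theorem result
    (A S : Type u) [CommRing A] [IsLocalRing A] [IsReduced A] (hA : EGA4.IsExcellent A)
    [CommRing S] [IsLocalRing S] [Algebra A S] [IsLocalHom (algebraMap A S)]
    [Hensel.IsStrictHenselization A S] (D : Subalgebra A S) [IsLocalRing D]
    [IsLocalHom (algebraMap D S)]
    (hfg : ∃ t : Finset (FractionRing D), ∀ x : FractionRing D, ∃ a ∈ nonZeroDivisors A,
      algebraMap A (FractionRing D) a * x ∈ Algebra.adjoin A (t : Set (FractionRing D)))
    (A' D' : Subalgebra A (FractionRing S))
    (hA' : ∀ x : (FractionRing S), x ∈ A' ↔ (IsIntegral A x ∧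
      ∃ a ∈ nonZeroDivisors A, ∃ b : A, algebraMap A (FractionRing S) a * x = algebraMap A (FractionRing S) b))
    (hD' : ∀ x : (FractionRing S), x ∈ D' ↔ (IsIntegral D x ∧
      ∃ a ∈ nonZeroDivisors A, ∃ d ∈ D, algebraMap A (FractionRing S) a * x = algebraMap S (FractionRing S) d))
    (hle : A' ≤ D') (ι : D →ₐ[A] D') (hι : ∀ d : D, (ι d : (FractionRing S)) = algebraMap S (FractionRing S) d) :
    EGA4loc.IsEssentiallyEtale A D ↔
      ({N : Ideal D' | N.IsMaximal}.Finite ∧
        Function.Surjective ((Ideal.Quotient.mkₐ A (Ideal.jacobson (⊥ : Ideal D'))).comp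
          (Algebra.TensorProduct.productMap (Subalgebra.inclusion hle) ι)) ∧
        RingHom.ker ((Ideal.Quotient.mkₐ A (Ideal.jacobson (⊥ : Ideal D'))).comp
          (Algebra.TensorProduct.productMap (Subalgebra.inclusion hle) ι)) =
          (Ideal.jacobson (⊥ : Ideal A')).map
              (Algebra.TensorProduct.includeLeft : A' →ₐ[A] A' ⊗[A] D) ⊔
            (maximalIdeal D).map
              (Algebra.TensorProduct.includeRight : D →ₐ[A] A' ⊗[A] D)) := by
  classical
  haveI : IsNoetherianRing A := hA.1
  obtain ⟨Dh, _, _, _, _, hDh⟩ := Groth.Agent.S0506.result D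
  haveI := (inferInstance : Hensel.IsStrictHenselization A S).henselian
  obtain ⟨θ, hθc, -⟩ := hDh.universal S (algebraMap D S) inferInstance
  have hθ : ∀ d : D, θ (algebraMap D Dh d) = (d : S) := fun d => RingHom.congr_fun hθc d
  letI : Algebra Dh S := θ.toAlgebra
  haveI : IsScalarTower D Dh S := IsScalarTower.of_algebraMap_eq fun d => (hθ d).symm
  have h451 := Groth.Agent.S16451.result A S hA D Dh A' D' hA' hD' hle ι hι
  haveI : IsLocalHom (θ.comp (algebraMap D Dh)) := by rw [hθc]; infer_instance
  haveI := Groth.Ega4Algebra2.Residual.hens_isLocalHom D Dh θ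
  haveI := Groth.Ega4Algebra2.Residual.isLocalHom_algebraMap' D
  constructor
  · intro hD
    letI : Algebra A Dh := ((algebraMap D Dh).comp (algebraMap A D)).toAlgebra
    let θA : Dh →ₐ[A] S := { θ with commutes' := fun a => (hθ (algebraMap A D a)).trans rfl }
    have key : ∀ (n : ℕ) (y : Fin n → Dh), ∃ (E : Type u) (_ : CommRing E) (_ : IsLocalRing E) (_ : Algebra A E)
        (k : E →ₐ[A] S), IsEssentiallyEtale A E ∧ Function.Injective k ∧ (∀ i, ∃ c, k c = θ (y i)) ∧
          (∀ c, ∃ z, θ z = k c) ∧ ∃ j : E →+* Dh, (∀ i, ∃ c, j c = y i) ∧ ∀ c, θ (j c) = k c := by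
      intro n y
      obtain ⟨E, _, _, _, j, hE, hjl, -, hy⟩ := Groth.Ega4Algebra2.Residual.hens_stage D Dh y
      letI : Algebra A E := ((algebraMap D E).comp (algebraMap A D)).toAlgebra
      haveI : IsScalarTower A D E := IsScalarTower.of_algebraMap_eq fun _ => rfl
      let k : E →ₐ[A] S :=
        { θ.comp j.toRingHom with
          commutes' := fun a => by
            show θ (j (algebraMap D E (algebraMap A D a))) = _
            rw [j.commutes, hθ]
            rfl }
      have hAE := Groth.Ega4b.isEssentiallyEtale_trans A D E hD hE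
      refine ⟨E, inferInstance, inferInstance, inferInstance, k, hAE,
        Groth.Ega4Algebra2.Residual.injective_of_essEt hAE k, fun i => ?_, fun c => ⟨j c, rfl⟩, j.toRingHom, fun i => ?_, fun c => rfl⟩
      · obtain ⟨c, hc⟩ := hy i
        exact ⟨c, congrArg θ hc⟩
      · obtain ⟨c, hc⟩ := hy i
        exact ⟨c, hc⟩
    refine h451.1 ⟨(injective_iff_map_eq_zero _).2 fun y hy => ?_, fun s hs => ?_⟩
    · obtain ⟨E, _, _, _, k, -, hk, -, -, j, hj, hjk⟩ := key 1 fun _ => y
      obtain ⟨c, hc⟩ := hj 0
      have h1 : k c = 0 := by rw [← hjk, hc]; exact hy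
      rw [← hc, hk (h1.trans (map_zero k).symm), map_zero]
    · choose y hy using fun x : s => hs x.2
      obtain ⟨n, ⟨e⟩⟩ : ∃ n, Nonempty (s ≃ Fin n) := ⟨_, ⟨s.equivFin⟩⟩
      obtain ⟨E, _, _, _, k, hE, hk, hky, hkr, -⟩ := key n fun i => y (e.symm i)
      let eE : E ≃ₐ[A] k.range := AlgEquiv.ofInjective k hk
      refine ⟨k.range, fun x hx => ?_, ?_, IsLocalRing.of_surjective' eE.toAlgHom.toRingHom eE.surjective, ?_⟩
      · obtain ⟨c, hc⟩ := hky (e ⟨x, hx⟩)
        rw [Equiv.symm_apply_apply] at hc
        exact ⟨c, hc.trans (hy ⟨x, hx⟩)⟩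
      · rintro _ ⟨c, rfl⟩
        exact hkr c
      · obtain ⟨C, _, _, q, _, hC, hq, ⟨f⟩⟩ := hE
        exact ⟨C, inferInstance, inferInstance, q, inferInstance, hC, hq, ⟨eE.symm.trans f⟩⟩
  · rintro ⟨hfin, hsurj, -⟩
    have hN := Groth.Ega4Algebra2.Residual.isNormalisation_bot hA'
    have hN' : Groth.Ega4Algebra2.Residual.IsNormalisation D D' := hD'
    obtain ⟨H, _, _, _, _, hH⟩ := Groth.Ega4Algebra2.Residual.exists_base D
    obtain ⟨hinj, hGH⟩ := Groth.Ega4Algebra2.Residual.core_backward H hN hN' hle ι hι Dh θ hθ hH hsurj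
    obtain ⟨E, hDE, hEl, hE⟩ := (Groth.Agent.S16441.result A S (minimalPrimes.finite_of_isNoetherianRing A) D).1 hfg
    haveI := Groth.Ega4Algebra2.Residual.essFiniteType_of_residual H hN hN' hle ι hι hsurj hA hfin E hE hDE
    refine Groth.Agent.S16438.result A S D (le_antisymm
      (((local_hom_TFAE (algebraMap A D)).out 0 2 rfl rfl).1 inferInstance) fun x hx => ?_)
    have hxH : (x : S) ∈ H := hGH ⟨algebraMap D Dh x, hθ x⟩
    have hres : residue S (x : S) = 0 := by
      rw [residue_eq_zero_iff, mem_maximalIdeal, mem_nonunits_iff]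
      exact fun hu => hx (isUnit_of_map_unit (algebraMap D S) x hu)
    obtain ⟨n, a, v, ha, hv, hxsum⟩ := hH.map_maximalIdeal _ hxH hres
    choose y hy using fun i => (Groth.Ega4Algebra2.Residual.mem_hensRange Dh θ hθ).1
      (Groth.Ega4Algebra2.Residual.le_hensRange H Dh θ hθ hH (hv i))
    obtain ⟨M⟩ := Groth.Hensel1.hensModel_of_isHenselization (R := D) (S := Dh)
    haveI := M.faithfullyFlat
    rw [← Ideal.comap_map_eq_self_of_faithfullyFlat (B := Dh) ((maximalIdeal A).map (algebraMap A D)), Ideal.mem_comap,
      show algebraMap D Dh x = ∑ i, algebraMap D Dh (algebraMap A D (a i)) * y i from hinj (by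
        rw [map_sum, hθ, hxsum]
        refine Finset.sum_congr rfl fun i _ => ?_
        rw [map_mul, hθ, hy]
        rfl)]
    exact Ideal.sum_mem _ fun i _ => Ideal.mul_mem_right _ _
      (Ideal.mem_map_of_mem _ (Ideal.mem_map_of_mem _ (ha i)))

end Groth.Agent.S16450
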