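import Groth.Statements.S9428
import Mathlib

set_option autoImplicit false
universe u
open CAlg

namespace Groth.Agent.S9428

/-- If R → S is formally étale and J ⊆ S is an ideal with R → S/J surjective, I ⊆ R its kernel (the
preimage of J), then R/I^n → S/J^n is bijective for all n. (The published statement adds that the
associated graded rings are then isomorphic, which follows from these bijections.) -/
theorem result (R : Type u) [CommRing R] (S : Type u)
    [CommRing S] [Algebra R S] [Algebra.FormallyEtale R S] (J : Ideal S)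
    (hJ : Function.Surjective (algebraMap R (S ⧸ J))) (n : ℕ) :
    Function.Bijective (Ideal.quotientMap (J ^ n) (algebraMap R S)
      (le_of_le_of_eq (Ideal.le_comap_pow (algebraMap R S) n) rfl :
        (J.comap (algebraMap R S)) ^ n ≤ (J ^ n).comap (algebraMap R S))) := by
  set I := J.comap (algebraMap R S) with hI
  have hle : I ^ n ≤ (J ^ n).comap (algebraMap R S) := le_of_le_of_eq (Ideal.le_comap_pow _ n) rfl
  rcases Nat.eq_zero_or_pos n with rfl | hn
  · have h1 : Subsingleton (R ⧸ I ^ 0) := Ideal.Quotient.subsingleton_iff.2 (by simp)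
    have h2 : Subsingleton (S ⧸ J ^ 0) := Ideal.Quotient.subsingleton_iff.2 (by simp)
    exact ⟨fun a b _ => Subsingleton.elim _ _, fun y => ⟨0, Subsingleton.elim _ _⟩⟩
  let N : Ideal (R ⧸ I ^ n) := I.map (Ideal.Quotient.mk (I ^ n))
  have hN : IsNilpotent N := ⟨n, by
    rw [← Ideal.map_pow, Ideal.map_quotient_self]; rfl⟩
  let q₀ : (R ⧸ I) →ₐ[R] S ⧸ J := Ideal.quotientMapₐ (I := I) J (Algebra.ofId R S) le_rfl
  have hq₀ : Function.Bijective q₀ := by
    refine ⟨Ideal.quotientMap_injective (f := algebraMap R S), fun y => ?_⟩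
    obtain ⟨a, rfl⟩ := hJ y
    exact ⟨Ideal.Quotient.mk I a, rfl⟩
  let e₀ := AlgEquiv.ofBijective q₀ hq₀
  let p₀ : (R ⧸ I) →ₐ[R] (R ⧸ I ^ n) ⧸ N :=
    Ideal.Quotient.liftₐ I ((Ideal.Quotient.mkₐ R N).comp (Ideal.Quotient.mkₐ R (I ^ n))) fun a ha =>
      Ideal.Quotient.eq_zero_iff_mem.2 (Ideal.mem_map_of_mem _ ha)
  let g₀ : S →ₐ[R] (R ⧸ I ^ n) ⧸ N :=
    p₀.comp (e₀.symm.toAlgHom.comp (Ideal.Quotient.mkₐ R J))
  let φ : S →ₐ[R] R ⧸ I ^ n := Algebra.FormallySmooth.lift N hN g₀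
  have hφ : ∀ s, Ideal.Quotient.mk N (φ s) = g₀ s := Algebra.FormallySmooth.mk_lift N hN g₀
  have hφJ : J.map φ.toRingHom ≤ N := Ideal.map_le_iff_le_comap.2 fun s hs => by
    rw [Ideal.mem_comap, ← Ideal.Quotient.eq_zero_iff_mem, show φ.toRingHom s = φ s from rfl, hφ]
    show p₀ (e₀.symm (Ideal.Quotient.mk J s)) = 0
    rw [Ideal.Quotient.eq_zero_iff_mem.2 hs, map_zero, map_zero]
  have hφn : ∀ s ∈ J ^ n, φ s = 0 := fun s hs => by
    have h1 := Ideal.pow_right_mono hφJ n (Ideal.map_pow φ.toRingHom J n ▸ Ideal.mem_map_of_mem _ hs)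
    rwa [← Ideal.map_pow, Ideal.map_quotient_self, Ideal.mem_bot] at h1
  let ψ : (S ⧸ J ^ n) →ₐ[R] R ⧸ I ^ n := Ideal.Quotient.liftₐ (J ^ n) φ hφn
  let q : (R ⧸ I ^ n) →ₐ[R] S ⧸ J ^ n := Ideal.quotientMapₐ (I := I ^ n) (J ^ n) (Algebra.ofId R S) hle
  have hψq : ∀ x, ψ (q x) = x := fun x => by
    obtain ⟨a, rfl⟩ := Ideal.Quotient.mk_surjective x
    show φ (algebraMap R S a) = _
    rw [φ.commutes]; rfl
  let M : Ideal (S ⧸ J ^ n) := J.map (Ideal.Quotient.mk (J ^ n))
  have hM : IsNilpotent M := ⟨n, by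
    rw [← Ideal.map_pow, Ideal.map_quotient_self]; rfl⟩
  have hqN : N.map q.toRingHom ≤ M := by
    rw [Ideal.map_le_iff_le_comap, Ideal.map_le_iff_le_comap]
    intro a ha
    show Ideal.Quotient.mk (J ^ n) (algebraMap R S a) ∈ M
    exact Ideal.mem_map_of_mem _ ha
  have huniq : q.comp φ = Ideal.Quotient.mkₐ R (J ^ n) := by
    refine Algebra.FormallyUnramified.lift_unique M hM _ _ (AlgHom.ext fun s => ?_)
    obtain ⟨a, ha⟩ := hJ (Ideal.Quotient.mk J s)
    have hsa : s - algebraMap R S a ∈ J := Ideal.Quotient.eq.1 ha.symm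
    have h1 : φ (s - algebraMap R S a) ∈ N := hφJ (Ideal.mem_map_of_mem _ hsa)
    show Ideal.Quotient.mk M (q (φ s)) = Ideal.Quotient.mk M (Ideal.Quotient.mk _ s)
    have h2 : q (φ s) = q (φ (s - algebraMap R S a)) + algebraMap R (S ⧸ J ^ n) a := by
      rw [map_sub, map_sub, φ.commutes, q.commutes, sub_add_cancel]
    rw [Ideal.Quotient.eq, h2, add_sub_assoc]
    refine add_mem (hqN (Ideal.mem_map_of_mem _ h1)) ?_
    rw [show algebraMap R (S ⧸ J ^ n) a = Ideal.Quotient.mk _ (algebraMap R S a) from rfl, ← map_sub, ← neg_sub,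
      map_neg]
    exact neg_mem (Ideal.mem_map_of_mem _ hsa)
  refine ⟨fun x y hxy => ?_, fun y => ?_⟩
  · have h : q x = q y := hxy
    rw [← hψq x, ← hψq y, h]
  · obtain ⟨s, rfl⟩ := Ideal.Quotient.mk_surjective y
    exact ⟨φ s, AlgHom.congr_fun huniq s⟩

end Groth.Agent.S9428
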