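import Groth.Statements.S16452
import Groth.Agent.S9428

set_option autoImplicit false
universe u
open CAlg

namespace Groth.Agent.S16452

/-- Let R → S be formally étale and J an ideal of S such that the composite R → S → S/J is surjective;
let I ⊆ R be its kernel, the preimage of J in R. Then the homomorphism of associated graded rings ⊕ₙ
Iⁿ/Iⁿ⁺¹ → ⊕ₙ Jⁿ/Jⁿ⁺¹ induced by R → S (which carries I into J) is bijective. -/
theorem result (R : Type u) [CommRing R] (S : Type u)
    [CommRing S] [Algebra R S] [Algebra.FormallyEtale R S] (J : Ideal S)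
    (hJ : Function.Surjective (algebraMap R (S ⧸ J))) :
    Function.Bijective (AssocGr.map (AssocGr.IsFiltHom.adic
      (Ideal.map_comap_le : (J.comap (algebraMap R S)).map (algebraMap R S) ≤ J))) := by
  set I := J.comap (algebraMap R S) with hI
  have key := fun n => Groth.Agent.S9428.result R S J hJ n
  have hker : ∀ n (a : R), algebraMap R S a ∈ J ^ n → a ∈ I ^ n := fun n a ha => by
    rw [← Ideal.Quotient.eq_zero_iff_mem]
    apply (key n).1
    rw [map_zero, Ideal.quotientMap_mk, Ideal.Quotient.eq_zero_iff_mem]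
    exact ha
  refine ⟨(injective_iff_map_eq_zero _).mpr fun x hx => ?_, fun z => ?_⟩
  · obtain ⟨f, rfl⟩ := AssocGr.mkG_surjective _ x
    rw [AssocGr.map_mkG, AssocGr.mkG_eq_zero_iff] at hx
    rw [AssocGr.mkG_eq_zero_iff]
    intro n
    refine hker (n + 1) _ ?_
    have := hx n
    rwa [AssocGr.coe_reesMap, Polynomial.coeff_map] at this
  · obtain ⟨f, rfl⟩ := AssocGr.mkG_surjective _ z
    rw [← AssocGr.sum_term _ f, map_sum]
    have hr : ∀ n, AssocGr.mkG _ (AssocGr.term _ f n) ∈ Set.range (AssocGr.map (AssocGr.IsFiltHom.adic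
      (Ideal.map_comap_le : (J.comap (algebraMap R S)).map (algebraMap R S) ≤ J))) := by
      intro n
      rw [AssocGr.mkG_term]
      set b : S := (f : Polynomial S).coeff n with hb
      obtain ⟨y, hy⟩ := (key (n + 1)).2 (Ideal.Quotient.mk _ b)
      obtain ⟨a, rfl⟩ := Ideal.Quotient.mk_surjective y
      rw [Ideal.quotientMap_mk, Ideal.Quotient.eq] at hy
      have hbn : b ∈ J ^ n := f.2 n
      have han : a ∈ I ^ n := hker n a (by
        have := Ideal.add_mem _ (Ideal.pow_le_pow_right (Nat.le_succ n) hy) hbn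
        simpa using this)
      refine ⟨(AssocGr.inDeg (FiltBl.IdealFiltration.adic I) n ⟨a, han⟩ : AssocGr.GrRing _), ?_⟩
      rw [AssocGr.map_inDeg, SetLike.coe_eq_coe, ← sub_eq_zero, ← map_sub, AssocGr.inDeg_eq_zero_iff]
      exact hy
    choose g hg using hr
    exact ⟨∑ n ∈ (f : Polynomial S).support, g n, by rw [map_sum]; simp only [hg]⟩

end Groth.Agent.S16452
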