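import Groth.Statements.S16453


set_option autoImplicit false
universe u
open AdicGr

namespace Groth.Agent.S16453

/-- Let A be a commutative ring, I an ideal and Â the I-adic completion, filtered by the kernels Âₙ of
the projections Â → A/Iⁿ. Then the homomorphism of associated graded rings ⊕ₙ Iⁿ/Iⁿ⁺¹ → ⊕ₙ Âₙ/Âₙ₊₁
induced by the canonical map A → Â is bijective. No hypothesis on A or I is needed. (The published
statement is for an arbitrary filtered ring and also asserts the analogous isomorphism for a
compatibly filtered module; this row is the ring assertion for the filtration by the powers of one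
ideal.) -/
theorem result (A : Type u) [CommRing A] (I : Ideal A) :
    Function.Bijective (AssocGr.map (AssocGr.isFiltHom_kerFilt I)) := by
  have hker : ∀ n (a : A), algebraMap A (AdicCompletion I A) a ∈ (AssocGr.kerFilt I).F n → a ∈ I ^ n := by
    intro n a ha
    rw [AssocGr.mem_kerFilt_iff_val, AdicCompletion.algebraMap_apply, Algebra.algebraMap_self,
      RingHom.id_apply, AdicCompletion.of_apply, Submodule.mkQ_apply, Submodule.Quotient.mk_eq_zero] at ha
    change a ∈ (I ^ n • ⊤ : Ideal A) at ha
    rwa [AssocGr.pow_smul_top] at ha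
  refine ⟨(injective_iff_map_eq_zero _).mpr fun x hx => ?_, fun z => ?_⟩
  · obtain ⟨f, rfl⟩ := AssocGr.mkG_surjective _ x
    rw [AssocGr.map_mkG, AssocGr.mkG_eq_zero_iff] at hx
    rw [AssocGr.mkG_eq_zero_iff]
    intro n
    refine hker (n + 1) _ ?_
    have := hx n
    rwa [AssocGr.coe_reesMap, Polynomial.coeff_map] at this
  · obtain ⟨f, rfl⟩ := AssocGr.mkG_surjective _ z
    rw [← AssocGr.sum_term _ f, map_sum]
    have hr : ∀ n, AssocGr.mkG _ (AssocGr.term _ f n) ∈ Set.range (AssocGr.map (AssocGr.isFiltHom_kerFilt I)) := by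
      intro n
      rw [AssocGr.mkG_term]
      set x : AdicCompletion I A := (f : Polynomial (AdicCompletion I A)).coeff n with hx
      obtain ⟨a, ha⟩ := Ideal.Quotient.mk_surjective (x.val (n + 1))
      have hxn : x ∈ (AssocGr.kerFilt I).F n := f.2 n
      have hd : x - algebraMap A (AdicCompletion I A) a ∈ (AssocGr.kerFilt I).F (n + 1) := by
        rw [AssocGr.mem_kerFilt_iff_val, AdicCompletion.algebraMap_apply, Algebra.algebraMap_self,
          RingHom.id_apply]
        show x.val (n + 1) - (AdicCompletion.of I A a).val (n + 1) = 0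
        rw [sub_eq_zero]
        exact ha.symm
      have han : a ∈ I ^ n := hker n a (by
        have := Ideal.sub_mem _ hxn ((AssocGr.kerFilt I).antitone (Nat.le_succ n) hd)
        simpa using this)
      refine ⟨(AssocGr.inDeg (FiltBl.IdealFiltration.adic I) n ⟨a, han⟩ : AssocGr.GrRing _), ?_⟩
      rw [AssocGr.map_inDeg, SetLike.coe_eq_coe, eq_comm, ← sub_eq_zero, ← map_sub, AssocGr.inDeg_eq_zero_iff]
      exact hd
    choose g hg using hr
    exact ⟨∑ n ∈ (f : Polynomial (AdicCompletion I A)).support, g n, by rw [map_sum]; simp only [hg]⟩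

end Groth.Agent.S16453
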