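import Groth.Statements.S16454
import Groth.Agent.EGA43Flat.Nilpotent
import Mathlib.LinearAlgebra.TensorProduct.Finiteness

set_option autoImplicit false
universe u
open TensorProduct
open EGA43

namespace Groth.Agent.S16454

/-- Let A be a commutative ring, I a nilpotent ideal of A and M an A-module, and form the associated
graded ring G = ⊕ₙ Iⁿ/Iⁿ⁺¹ and the associated graded G-module gr_I(M) = ⊕ₙ IⁿM/Iⁿ⁺¹M. Assume that
M/IM is flat over A/I and that the canonical homomorphism (M/IM) ⊗ G → gr_I(M), [x] ⊗ [a] ↦ [a·x],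
is injective: degree by degree, whenever elements a_i ∈ Iⁿ and x_i ∈ M satisfy Σ_i [a_i]·[x_i] = 0
in gr_I(M) (that is Σ a_i x_i ∈ Iⁿ⁺¹M), the element Σ_i [a_i] ⊗ [x_i] of (Iⁿ/Iⁿ⁺¹) ⊗ (M/IM) is zero.
Then M is a flat A-module. (The published lemma is stated for any finite decreasing multiplicative
filtration A = J₀ ⊇ J₁ ⊇ … ⊇ J_N₊₁ = 0 of A with M filtered by the submodules JₙM; this row is its
case Jₙ = Iⁿ.) -/
theorem result (A : Type u) [CommRing A] (I : Ideal A)
    (hI : IsNilpotent I) (M : Type u) [AddCommGroup M] [Module A M]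
    (hflat : Module.Flat (A ⧸ I) (M ⧸ (I • (⊤ : Submodule A M))))
    (hinj : ∀ (n k : ℕ) (a : Fin k → ↥((FiltBl.IdealFiltration.adic I).F n))
      (x : Fin k → ↥((Rees.powFilt I M).N 0)),
      (∑ i, (AssocGr.inDeg (FiltBl.IdealFiltration.adic I) n (a i) :
          AssocGr.GrRing (FiltBl.IdealFiltration.adic I)) •
        (AssocGr.inDegM (Rees.powFilt I M) 0 (x i) : AssocGr.GrMod (Rees.powFilt I M))) = 0 →
      (∑ i, (AssocGr.inDeg (FiltBl.IdealFiltration.adic I) n (a i)) ⊗ₜ[A]
          (Submodule.Quotient.mk (x i : M)) :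
        ↥(AssocGr.gr (FiltBl.IdealFiltration.adic I) n) ⊗[A] (M ⧸ (I • (⊤ : Submodule A M)))) = 0) :
    Module.Flat A M := by
  let e : ((A ⧸ I) ⊗[A] M) ≃ₗ[A] M ⧸ (I • (⊤ : Submodule A M)) := quotTensorEquivQuotSMul M I
  haveI : Module.Flat (A ⧸ I) ((A ⧸ I) ⊗[A] M) := by
    haveI := hflat
    exact Module.Flat.of_linearEquiv
      (LinearEquiv.extendScalarsOfSurjective (R := A) (S := A ⧸ I) Ideal.Quotient.mk_surjective e)
  obtain ⟨N, hN⟩ := hI
  suffices key : ∀ d n : ℕ, N ≤ n + d → Function.Injective ((I ^ n).subtype.rTensor M) by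
    refine Groth.EGA43Flat.flat_of_flat_quotient_of_rTensor_injective ⟨N, hN⟩ ?_
    have h1 := key N 1 (Nat.le_add_left _ _)
    rwa [pow_one] at h1
  intro d
  induction d with
  | zero =>
    intro n hn z z' _
    have h0 : I ^ n = ⊥ := le_bot_iff.1 ((Ideal.pow_le_pow_right (by omega : N ≤ n)).trans
      (by rw [hN, Ideal.zero_eq_bot]))
    have : ∀ w : ↥(I ^ n) ⊗[A] M, w = 0 := by
      intro w
      induction w with
      | zero => rfl
      | tmul a m =>
        rw [show a = 0 from Subtype.ext ((Submodule.eq_bot_iff _).1 h0 a a.2), zero_tmul]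
      | add x y hx hy => rw [hx, hy, add_zero]
    rw [this z, this z']
  | succ d ih =>
    intro n hn
    rw [injective_iff_map_eq_zero]
    intro t ht
    let 𝓕 := FiltBl.IdealFiltration.adic I
    let P := Rees.powFilt I M
    let π : ↥(I ^ n) →ₗ[A] ↥(AssocGr.gr 𝓕 n) := AssocGr.inDeg 𝓕 n
    let ι : ↥(I ^ (n + 1)) →ₗ[A] ↥(I ^ n) :=
      Submodule.inclusion (Ideal.pow_le_pow_right n.le_succ)
    have hex : Function.Exact ι π := by
      intro a
      refine (AssocGr.inDeg_eq_zero_iff 𝓕 n a).trans ⟨fun h => ⟨⟨a, h⟩, rfl⟩, ?_⟩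
      rintro ⟨b, rfl⟩
      exact b.2
    have hπ : Function.Surjective π := AssocGr.inDeg_surjective 𝓕 n
    -- the image of `t` in `gr n ⊗ (M / I M)` vanishes
    have hzero : ((I • (⊤ : Submodule A M)).mkQ.lTensor _) (π.rTensor M t) = 0 := by
      obtain ⟨k, a, x, rfl⟩ := TensorProduct.exists_sum_tmul_eq t
      have hx0 : ∀ i, x i ∈ P.N 0 := fun i => by simp [P, Rees.powFilt]
      have hsum : ∑ i, (a i : A) • x i = 0 := by
        have := congrArg (TensorProduct.lid A M) ht
        simpa [map_sum] using this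
      have h := hinj n k a (fun i => ⟨x i, hx0 i⟩) (by
        simp only [AssocGr.inDeg_smul_inDegM]
        refine (AddSubmonoidClass.coe_finsetSum _ _).symm.trans ?_
        rw [← map_sum]
        have hs0 : ∀ (hm : ∀ i, (a i : A) • x i ∈ P.N (n + 0)),
            ∑ i, (⟨(a i : A) • x i, hm i⟩ : P.N (n + 0)) = 0 :=
          fun hm => Subtype.ext ((AddSubmonoidClass.coe_finsetSum _ _).trans hsum)
        erw [hs0]
        rw [map_zero]
        rfl)
      simp only [map_sum, LinearMap.rTensor_tmul, LinearMap.lTensor_tmul]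
      exact h
    have hkill : ∀ (c : A), c ∈ I → ∀ g : ↥(AssocGr.gr 𝓕 n), c • g = 0 := by
      intro c hc g
      obtain ⟨b, rfl⟩ := AssocGr.inDeg_surjective 𝓕 n g
      rw [← map_smul]
      refine (AssocGr.inDeg_eq_zero_iff 𝓕 n _).2 ?_
      show c * (b : A) ∈ I ^ (n + 1)
      rw [pow_succ']
      exact Ideal.mul_mem_mul hc b.2
    obtain ⟨w, hw⟩ := (lTensor_exact _ (LinearMap.exact_subtype_mkQ _)
      (Submodule.mkQ_surjective _) _).1 hzero
    have hw0 : ∀ w : ↥(AssocGr.gr 𝓕 n) ⊗[A] ↥(I • (⊤ : Submodule A M)),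
        (I • (⊤ : Submodule A M)).subtype.lTensor _ w = 0 := by
      intro w
      induction w with
      | zero => simp
      | tmul g m =>
        simp only [LinearMap.lTensor_tmul, Submodule.subtype_apply]
        exact Submodule.smul_induction_on (p := fun y => g ⊗ₜ[A] y = 0) m.2
          (fun c hc y _ => by rw [← smul_tmul, hkill c hc, zero_tmul])
          (fun x y hx hy => by rw [tmul_add, hx, hy, add_zero])
      | add x y hx hy => rw [map_add, hx, hy, add_zero]
    rw [hw0] at hw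
    obtain ⟨s, rfl⟩ := (rTensor_exact M hex hπ t).1 hw.symm
    rw [← LinearMap.rTensor_comp_apply] at ht
    have hs : s = 0 := ih (n + 1) (by omega) (ht.trans (map_zero _).symm)
    rw [hs, map_zero]

end Groth.Agent.S16454
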