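import Groth.Statements.S16455

set_option autoImplicit false
universe u
open EGA4

namespace Groth.Agent.S16455

open scoped DirectSum

section
variable {A : Type u} [CommRing A] (I : Ideal A) (M : Type u) [AddCommGroup M] [Module A M]

abbrev Piece (n : ℕ) : Type u :=
  ↥(I ^ n • (⊤ : Submodule A M)) ⧸ (I • (⊤ : Submodule A ↥(I ^ n • (⊤ : Submodule A M))))

lemma val_mem {n : ℕ} {x : ↥(I ^ n • (⊤ : Submodule A M))} :
    x ∈ I • (⊤ : Submodule A ↥(I ^ n • (⊤ : Submodule A M))) ↔
      (x : M) ∈ I ^ (n + 1) • (⊤ : Submodule A M) := by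
  rw [← SetLike.mem_coe, ← (Submodule.injective_subtype _).mem_set_image, ← Submodule.map_coe,
    SetLike.mem_coe, Submodule.map_smul'',
    Submodule.map_top, Submodule.range_subtype, ← mul_smul, ← pow_succ']
  rfl

/-- cast into the piece of the filtration -/
def toN {n : ℕ} (x : ↥(I ^ n • (⊤ : Submodule A M))) : (Rees.powFilt I M).N n := ⟨x.1, x.2⟩

noncomputable def inMon (n : ℕ) :
    ↥(I ^ n • (⊤ : Submodule A M)) →ₗ[A] AssocGr.GrMod (Rees.powFilt I M) where
  toFun x := AssocGr.mkGM _ (AssocGr.monomM (Rees.powFilt I M) n (toN I M x))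
  map_add' x y := by
    rw [← map_add]; congr 1
    refine AssocGr.ReesM.ext _ fun m => ?_
    rw [AssocGr.ReesM.coeff_add, AssocGr.ReesM.coeff_monomM, AssocGr.ReesM.coeff_monomM,
      AssocGr.ReesM.coeff_monomM]
    split_ifs
    · rfl
    · rw [add_zero]
  map_smul' a x := by
    rw [RingHom.id_apply, ← map_smul]; congr 1
    refine AssocGr.ReesM.ext _ fun m => ?_
    rw [AssocGr.ReesM.coeff_smul_base, AssocGr.ReesM.coeff_monomM, AssocGr.ReesM.coeff_monomM]
    split_ifs
    · rfl
    · rw [smul_zero]

lemma inMon_eq_zero {n : ℕ} {x : ↥(I ^ n • (⊤ : Submodule A M))} :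
    inMon I M n x = 0 ↔ x ∈ I • (⊤ : Submodule A ↥(I ^ n • (⊤ : Submodule A M))) := by
  rw [val_mem]
  show AssocGr.mkGM _ _ = 0 ↔ _
  rw [AssocGr.mkGM_eq_zero_iff, AssocGr.mem_succMod_iff]
  constructor
  · intro h
    have := h n
    rwa [AssocGr.ReesM.coeff_monomM, if_pos rfl] at this
  · intro h m
    rw [AssocGr.ReesM.coeff_monomM]
    split_ifs with hm
    · subst hm; exact h
    · exact zero_mem _

noncomputable def pieceIn (n : ℕ) : Piece I M n →ₗ[A] AssocGr.GrMod (Rees.powFilt I M) :=
  Submodule.liftQ _ (inMon I M n) fun _ hx => LinearMap.mem_ker.mpr ((inMon_eq_zero I M).mpr hx)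

/-- degree-`n` projection -/
noncomputable def coeffPiece (n : ℕ) : AssocGr.ReesM (Rees.powFilt I M) →+ Piece I M n :=
  AddMonoidHom.mk' (fun y => Submodule.Quotient.mk
    (⟨AssocGr.ReesM.coeff _ y n, AssocGr.ReesM.coeff_mem _ y n⟩ : ↥(I ^ n • (⊤ : Submodule A M))))
    fun y y' => by
      rw [← Submodule.Quotient.mk_add]
      exact congrArg Submodule.Quotient.mk (Subtype.ext (AssocGr.ReesM.coeff_add _ y y' n))

lemma bijective_toModule :
    Function.Bijective (DirectSum.toModule A ℕ _ (fun n => pieceIn I M n)) := by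
  constructor
  · refine (injective_iff_map_eq_zero _).mpr fun z hz => ?_
    classical
    obtain ⟨y, hy, hy'⟩ : ∃ y : AssocGr.ReesM (Rees.powFilt I M),
        AssocGr.mkGM _ y = DirectSum.toModule A ℕ _ (fun n => pieceIn I M n) z ∧
          ∀ n, coeffPiece I M n y = z n := by
      clear hz
      induction z using DirectSum.induction_on with
      | zero => exact ⟨0, by rw [map_zero, map_zero], fun n => by rw [map_zero]; rfl⟩
      | of i x =>
        obtain ⟨x, rfl⟩ := Submodule.Quotient.mk_surjective _ x
        refine ⟨AssocGr.monomM _ i (toN I M x), ?_, fun n => ?_⟩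
        · rw [← DirectSum.lof_eq_of A, DirectSum.toModule_lof]; rfl
        · rcases eq_or_ne i n with rfl | h
          · rw [DirectSum.of_eq_same]
            exact congrArg Submodule.Quotient.mk (Subtype.ext (by
              show AssocGr.ReesM.coeff _ _ i = _
              rw [AssocGr.ReesM.coeff_monomM, if_pos rfl]
              rfl))
          · rw [DirectSum.of_eq_of_ne _ _ _ h.symm]
            exact (Submodule.Quotient.mk_eq_zero _).mpr ((val_mem I M).mpr (by
              show AssocGr.ReesM.coeff _ _ n ∈ _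
              rw [AssocGr.ReesM.coeff_monomM, if_neg h]; exact zero_mem _))
      | add a b ha hb =>
        obtain ⟨ya, ha1, ha2⟩ := ha
        obtain ⟨yb, hb1, hb2⟩ := hb
        exact ⟨ya + yb, by rw [map_add, map_add, ha1, hb1],
          fun n => by rw [map_add, ha2, hb2]; rfl⟩
    rw [hz, AssocGr.mkGM_eq_zero_iff, AssocGr.mem_succMod_iff] at hy
    ext n
    rw [← hy' n]
    exact (Submodule.Quotient.mk_eq_zero _).mpr ((val_mem I M).mpr (hy n))
  · intro g
    obtain ⟨y, rfl⟩ := AssocGr.mkGM_surjective _ g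
    rw [← LinearMap.mem_range, ← AssocGr.sum_termM _ y, map_sum]
    exact sum_mem fun n _ => ⟨DirectSum.lof A ℕ (Piece I M) n
      (Submodule.Quotient.mk ⟨AssocGr.ReesM.coeff _ y n, AssocGr.ReesM.coeff_mem _ y n⟩),
      by rw [DirectSum.toModule_lof]; rfl⟩

end

/-- For a commutative ring A, an ideal I of A and an A-module M, the following are equivalent: every
quotient IⁿM/Iⁿ⁺¹M (n ≥ 0) is a flat A/I-module; the associated graded module gr_I(M) = ⊕ₙ
IⁿM/Iⁿ⁺¹M, as one module over A/I, is flat. Either condition says that M is normally flat along I.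
(The source defines normal flatness for a coherent module on a locally Noetherian scheme through the
second condition and notes it amounts to the first; the equivalence holds for every ring and
module.) -/
theorem result (A : Type u) [CommRing A] (I : Ideal A) (M : Type u)
    [AddCommGroup M] [Module A M] :
    EGA4.IsNormallyFlat I M ↔ Module.Flat (A ⧸ I) (AssocGr.GrMod (Rees.powFilt I M)) := by
  let Φ := DirectSum.toModule A ℕ _ (fun n => pieceIn I M n)
  let Ψ : (⨁ n, Piece I M n) →ₗ[A ⧸ I] AssocGr.GrMod (Rees.powFilt I M) :=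
    { toFun := Φ
      map_add' := map_add Φ
      map_smul' := fun c x => by
        obtain ⟨a, rfl⟩ := Ideal.Quotient.mk_surjective c
        rw [RingHom.id_apply, ← Ideal.Quotient.algebraMap_eq, algebraMap_smul, algebraMap_smul,
          map_smul] }
  rw [← Module.Flat.equiv_iff (LinearEquiv.ofBijective Ψ (bijective_toModule I M)),
    Module.Flat.directSum_iff]
  rfl

end Groth.Agent.S16455
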