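import Groth.Statements.S16456
import Groth.Agent.AdicLinTop.GrComplete

set_option autoImplicit false
universe u
open AdicGr

namespace Groth.Agent.S16456

/-- Let φ : A → B be a ring homomorphism, I ⊆ A and J ⊆ B ideals with φ(I)B ⊆ J, so that φ is a
homomorphism of filtered rings for the I-adic and J-adic filtrations. Assume that A is I-adically
complete in the sense that every I-adically Cauchy sequence has a limit, that B is J-adically
separated, and that the induced homomorphism of associated graded rings ⊕ₙ Iⁿ/Iⁿ⁺¹ → ⊕ₙ Jⁿ/Jⁿ⁺¹ is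
surjective. Then φ is surjective, φ is strict (Jⁿ = φ(Iⁿ)B for all n, that is J = φ(I)B), and B is
J-adically separated and complete. (The published statement is for a homomorphism of filtered
modules over a filtered ring, with arbitrary compatible filtrations; this row is its case of a ring
homomorphism with adic filtrations.) -/
theorem result (A : Type u) [CommRing A] (B : Type u)
    [CommRing B] (φ : A →+* B) (I : Ideal A) (J : Ideal B) (hIJ : I.map φ ≤ J)
    [IsPrecomplete I A] [IsHausdorff J B]
    (h : Function.Surjective (AssocGr.map (AssocGr.IsFiltHom.adic hIJ))) :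
    Function.Surjective φ ∧ I.map φ = J ∧ IsAdicComplete J B := by
  have happ : ∀ m, ∀ b ∈ J ^ m, ∃ a ∈ I ^ m, b - φ a ∈ J ^ (m + 1) := by
    intro m b hb
    obtain ⟨x, hx⟩ := h (AssocGr.inDeg (FiltBl.IdealFiltration.adic J) m ⟨b, hb⟩)
    obtain ⟨f, rfl⟩ := AssocGr.mkG_surjective _ x
    refine ⟨(f : Polynomial A).coeff m, f.2 m, ?_⟩
    rw [AssocGr.map_mkG, AssocGr.coe_inDeg, eq_comm, ← sub_eq_zero, ← map_sub, AssocGr.mkG_eq_zero_iff] at hx
    have h1 := hx m
    rw [Subalgebra.coe_sub, Polynomial.coeff_sub, AssocGr.coe_reesMap, Polynomial.coeff_map,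
      AssocGr.coe_coe_monom, Polynomial.coeff_monomial, if_pos rfl] at h1
    exact h1
  letI : Algebra A B := φ.toAlgebra
  have hsum : ∀ c : Fin 1 → A, ∑ i, c i • (1 : B) = φ (c 0) := fun c => by
    rw [Fin.sum_univ_one, Algebra.smul_def, mul_one]; rfl
  have key : ∀ m, ∀ b ∈ J ^ m, ∃ a ∈ I ^ m, φ a = b := by
    intro m b hb
    obtain ⟨c, hc, hc'⟩ := Groth.AdicLinTop.GrComplete.exists_eq_sum I (fun n => (J ^ n).restrictScalars A)
      (fun _ _ hab => Ideal.pow_le_pow_right hab)
      (fun a b r hr y hy => by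
        show r • y ∈ J ^ (a + b)
        rw [Algebra.smul_def, pow_add]
        exact Ideal.mul_mem_mul (AssocGr.IsFiltHom.adic hIJ a hr) hy)
      (fun y hy => IsHausdorff.haus' (I := J) y fun n => by
        rw [SModEq.zero, smul_eq_mul, Ideal.mul_top]; exact hy n)
      (fun _ : Fin 1 => 0) (fun _ => (1 : B)) (fun _ => by simp) ⊤ (fun _ => trivial)
      (fun m y _ hy => by
        obtain ⟨a, ha, ha'⟩ := happ m y hy
        exact ⟨fun _ => a, fun _ => ha, by simp only [hsum]; exact ha'⟩) m b trivial hb
    exact ⟨c 0, hc 0, (hsum c).symm.trans hc'⟩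
  have hsurj : Function.Surjective φ := fun b => by
    obtain ⟨a, -, ha⟩ := key 0 b (by simp)
    exact ⟨a, ha⟩
  refine ⟨hsurj, le_antisymm hIJ fun b hb => ?_, ?_⟩
  · obtain ⟨a, ha, rfl⟩ := key 1 b (by simpa using hb)
    exact Ideal.mem_map_of_mem φ (by simpa using ha)
  · haveI : IsPrecomplete J B := ⟨fun f hf => by
      have hstep : ∀ n, ∃ a ∈ I ^ n, φ a = f (n + 1) - f n := fun n => key n _ (by
        have := hf (Nat.le_succ n)
        rw [SModEq.sub_mem, smul_eq_mul, Ideal.mul_top] at this
        rw [← neg_sub]; exact neg_mem this)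
      choose d hd hd' using hstep
      obtain ⟨a0, ha0⟩ := hsurj (f 0)
      obtain ⟨L, hL⟩ := IsPrecomplete.prec (I := I) (M := A) inferInstance
        (f := fun n => a0 + ∑ j ∈ Finset.range n, d j) (fun {p q} hpq => by
          rw [SModEq.sub_mem, smul_eq_mul, Ideal.mul_top]
          rw [← neg_sub, add_sub_add_left_eq_sub, ← Finset.sum_Ico_eq_sub _ hpq]
          exact neg_mem (Ideal.sum_mem _ fun j hj => Ideal.pow_le_pow_right (Finset.mem_Ico.mp hj).1 (hd j)))
      refine ⟨φ L, fun n => ?_⟩
      have h1 := hL n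
      rw [SModEq.sub_mem, smul_eq_mul, Ideal.mul_top] at h1 ⊢
      have h2 : φ (a0 + ∑ j ∈ Finset.range n, d j) = f n := by
        rw [map_add, map_sum, ha0]
        simp only [hd']
        rw [Finset.sum_range_sub f]
        abel
      rw [← h2, ← map_sub]
      exact AssocGr.IsFiltHom.adic hIJ n h1⟩
    exact ⟨⟩

end Groth.Agent.S16456
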