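import Groth.Statements.S16459
import Groth.Agent.AdicLinTop.GrComplete

set_option autoImplicit false
universe u
open AdicGr

namespace Groth.Agent.S16459

/-- Let A be a commutative ring and I an ideal such that every I-adically Cauchy sequence in A has a
limit, and let M be an A-module with an I-filtration M = N₀ ⊇ N₁ ⊇ … (I·Nₙ ⊆ Nₙ₊₁) which is
separated, ⋂ₙ Nₙ = 0. If the associated graded module gr(M) = ⊕ₙ Nₙ/Nₙ₊₁ is a Noetherian module over
the associated graded ring ⊕ₙ Iⁿ/Iⁿ⁺¹, then M is a Noetherian A-module and every submodule M' of M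
is closed for the topology defined by the filtration, that is ⋂ₙ (M' + Nₙ) = M'. (The published
statement allows any complete filtered ring; this row takes the I-adic filtration on A.) -/
theorem result (A : Type u) [CommRing A]
    (I : Ideal A) [IsPrecomplete I A] (M : Type u) [AddCommGroup M] [Module A M] (F : I.Filtration M)
    (h0 : F.N 0 = ⊤) (hsep : ⨅ n, F.N n = ⊥)
    [IsNoetherian (AssocGr.GrRing (FiltBl.IdealFiltration.adic I)) (AssocGr.GrMod F)] :
    IsNoetherian A M ∧ ∀ M' : Submodule A M, ⨅ n, M' ⊔ F.N n = M' := by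
  have key : ∀ M' : Submodule A M, M'.FG ∧ ⨅ n, M' ⊔ F.N n = M' := fun M' => by
    obtain ⟨k, p, hps, hp⟩ := Groth.AdicLinTop.GrComplete.exists_fin_gens F {q | (q.2 : M) ∈ M'}
      (IsNoetherian.noetherian _)
    have hle : Submodule.span A (Set.range fun i => ((p i).2 : M)) ≤ M' :=
      Submodule.span_le.mpr (by rintro _ ⟨i, rfl⟩; exact hps i)
    have hall : ∀ y ∈ ⨅ n, M' ⊔ F.N n, y ∈ Submodule.span A (Set.range fun i => ((p i).2 : M)) := by
      intro y hy
      refine Groth.AdicLinTop.GrComplete.exists_eq_sum_of_span F hsep (fun i => (p i).1) (fun i => (p i).2)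
        (⨅ n, M' ⊔ F.N n) (fun i => Submodule.mem_iInf _ |>.mpr fun n => Submodule.mem_sup_left (hps i))
        (fun m z hz => ?_) 0 y hy (h0 ▸ Submodule.mem_top)
      obtain ⟨u, hu, v, hv, huv⟩ := Submodule.mem_sup.mp ((Submodule.mem_iInf _).mp hz (m + 1))
      have hum : u ∈ F.N m := by
        rw [eq_sub_of_add_eq huv]
        exact Submodule.sub_mem _ z.2 (F.antitone (Nat.le_succ m) hv)
      have he : AssocGr.inDegM F m z = AssocGr.inDegM F m ⟨u, hum⟩ := by
        rw [← sub_eq_zero, ← map_sub, AssocGr.inDegM_eq_zero_iff]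
        simpa [← huv] using hv
      rw [he]
      exact hp ⟨m, ⟨u, hum⟩⟩ hu
    have heq : M' = Submodule.span A (Set.range fun i => ((p i).2 : M)) :=
      le_antisymm (fun y hy => hall y (Submodule.mem_iInf _ |>.mpr fun n => Submodule.mem_sup_left hy)) hle
    refine ⟨heq ▸ Submodule.fg_span (Set.finite_range _), le_antisymm (fun y hy => hle (hall y hy)) ?_⟩
    exact le_iInf fun n => le_sup_left
  exact ⟨⟨fun M' => (key M').1⟩, fun M' => (key M').2⟩

end Groth.Agent.S16459
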