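import Groth.Statements.S16460


set_option autoImplicit false
universe u
open AdicGr

namespace Groth.Agent.S16460

/-- Let A be a commutative ring with a decreasing filtration by ideals A = F₀ ⊇ F₁ ⊇ F₂ ⊇ … satisfying
F_m·F_n ⊆ F_{m+n}, and assume the filtration is separated, ⋂ₙ Fₙ = 0. If the associated graded ring
⊕ₙ Fₙ/Fₙ₊₁ is an integral domain, then A is an integral domain. -/
theorem result (A : Type u) [CommRing A]
    (𝓕 : FiltBl.IdealFiltration A) (hsep : ⨅ n, 𝓕.F n = ⊥) [IsDomain (AssocGr.GrRing 𝓕)] :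
    IsDomain A := by
  classical
  haveI : Nontrivial A := by
    by_contra hn
    haveI : Subsingleton A := not_nontrivial_iff_subsingleton.mp hn
    haveI : Subsingleton (AssocGr.GrRing 𝓕) := (AssocGr.mkG_surjective 𝓕).subsingleton
    exact not_subsingleton (AssocGr.GrRing 𝓕) inferInstance
  have hdeg : ∀ a : A, a ≠ 0 → ∃ m, ∃ h : a ∈ 𝓕.F m, AssocGr.inDeg 𝓕 m ⟨a, h⟩ ≠ 0 := fun a ha => by
    have hex : ∃ n, a ∉ 𝓕.F n := by
      by_contra hc
      push Not at hc
      exact ha ((Submodule.mem_bot A).mp (hsep ▸ (Submodule.mem_iInf _).mpr hc))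
    rcases Nat.eq_zero_or_pos (Nat.find hex) with h | h
    · exact ((Nat.find_spec hex) (by rw [h, 𝓕.zero_eq]; trivial)).elim
    · obtain ⟨m, hm⟩ := Nat.exists_eq_succ_of_ne_zero h.ne'
      refine ⟨m, not_not.mp (Nat.find_min hex (hm ▸ Nat.lt_succ_self m)), ?_⟩
      rw [Ne, AssocGr.inDeg_eq_zero_iff]
      exact fun h' => Nat.find_spec hex (hm ▸ h')
  haveI : NoZeroDivisors A := ⟨fun {a b} hab => by
    by_contra hc
    push Not at hc
    obtain ⟨m, ha, ha'⟩ := hdeg a hc.1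
    obtain ⟨n, hb, hb'⟩ := hdeg b hc.2
    have h := mul_ne_zero (Subtype.coe_ne_coe.mpr ha') (Subtype.coe_ne_coe.mpr hb')
    rw [AssocGr.coe_inDeg_mul] at h
    refine h (ZeroMemClass.coe_eq_zero.mpr ((AssocGr.inDeg_eq_zero_iff 𝓕 _ _).mpr ?_))
    show a * b ∈ _
    rw [hab]
    exact zero_mem _⟩
  exact NoZeroDivisors.to_isDomain A

end Groth.Agent.S16460
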