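import Groth.Statements.S16461
import Groth.Agent.CohBase.FlatBCMap

set_option autoImplicit false
universe u
open Coherent

namespace Groth.Agent.S16461

open CategoryTheory AlgebraicGeometry AlgebraicGeometry.Scheme.Modules in
/-- Part (1): (flat base change, with the base change morphism named): let X' = X ×_S S' be a cartesian
square of schemes with f : X → S quasi-compact and quasi-separated and g : S' → S flat, with
projections f' : X' → S' and g' : X' → X, and let M be a quasi-coherent O_X-module. Then for every i
≥ 0 the base change morphism g^*(R^i f_* M) → R^i f'_*(g'^* M) is an isomorphism, the higher direct
images being the right derived functors of direct image on O-modules. (The exactness of the inverse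
image g'^* on O-modules, which holds because g' is flat as a base change of g, is carried as an
instance argument: it is what the construction of the base change morphism uses and it is not
derivable from flatness at this level of generality here.) -/
theorem result {X S X' S' : Scheme.{u}} (f : X ⟶ S) (g : S' ⟶ S)
    (g' : X' ⟶ X) (f' : X' ⟶ S') (h : IsPullback g' f' f g) [QuasiCompact f] [QuasiSeparated f]
    [Flat g] [HasInjectiveResolutions X.Modules] [HasInjectiveResolutions X'.Modules]
    [Limits.PreservesFiniteLimits (pullback g')] (M : X.Modules) [Coh.IsQCoh M] (i : ℕ) :
    IsIso (CohBC.bcQ f g f' g' h.w i M) := by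
  haveI : M.IsQuasicoherent := ‹Coh.IsQCoh M›
  exact Groth.CohBase.FlatBCMap.isIso_bcQ f g f' g' h M i

end Groth.Agent.S16461
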