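import Groth.Statements.S16462
import Groth.Agent.CohDev.LerayAffine
-- import your own Groth.Agent.* helpers here

set_option autoImplicit false
universe u
open Coherent

namespace Groth.Agent.S16462

open CategoryTheory AlgebraicGeometry AlgebraicGeometry.Scheme.Modules in
/-- Let f : X → Y be a quasi-compact quasi-separated morphism of schemes, g : Y → Z an affine morphism
and M a quasi-coherent O_X-module. Then for every p ≥ 0 the canonical edge morphism R^p (g ∘ f)_* M
→ g_*(R^p f_* M) is an isomorphism (higher direct images as right derived functors of direct image
on O-modules). (The published statement assumes f separated; this row assumes only f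
quasi-separated.) -/
theorem result {X Y Z : Scheme.{u}} (f : X ⟶ Y) (g : Y ⟶ Z)
    [QuasiCompact f] [QuasiSeparated f] [IsAffineHom g] [HasInjectiveResolutions X.Modules]
    (M : X.Modules) [Coh.IsQCoh M] (p : ℕ) :
    IsIso (CohBC.lerayEdgeOut f g p M) := by
  exact Groth.CohDev.LerayAffine.isIso_lerayEdgeOut f g p

end Groth.Agent.S16462
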