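import Groth.Statements.S6773
import Mathlib.CategoryTheory.Abelian.Exact
import Mathlib.CategoryTheory.Abelian.Refinements
import Mathlib.CategoryTheory.Limits.FunctorCategory.EpiMono
import Mathlib.CategoryTheory.Abelian.FunctorCategory
-- import your own Groth.Agent.* helpers here

set_option autoImplicit false
open CategoryTheory
universe v u v' u'
open DeltaF

namespace Groth.Agent.S6773

open Limits

variable {A : Type u} [Category.{v} A] [Abelian A] {B : Type u'} [Category.{v'} B] [Abelian B]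

/-- the short exact sequence starting with a monomorphism -/
noncomputable abbrev monoSES {X Y : A} (u : X ⟶ Y) : ShortComplex A :=
  ShortComplex.mk u (cokernel.π u) (cokernel.condition u)

theorem monoSES_shortExact {X Y : A} (u : X ⟶ Y) [Mono u] : (monoSES u).ShortExact :=
  { exact := ShortComplex.exact_cokernel u }

/-- morphism of `monoSES` from a commutative square -/
noncomputable def monoSESMap {X Y X' Y' : A} (u : X ⟶ Y) (u' : X' ⟶ Y') (f : X ⟶ X') (g : Y ⟶ Y')
    (w : f ≫ u' = u ≫ g) : monoSES u ⟶ monoSES u' where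
  τ₁ := f
  τ₂ := g
  τ₃ := cokernel.map u u' f g w.symm
  comm₁₂ := w
  comm₂₃ := by simp [monoSES]

variable (T : CohDeltaFunctor A B ℕ) (hT : T.IsEffaceable)

noncomputable def effY (n : ℕ) (X : A) : A := (hT n X).choose
noncomputable def effU (n : ℕ) (X : A) : X ⟶ effY T hT n X := (hT n X).choose_spec.choose
instance effU_mono (n : ℕ) (X : A) : Mono (effU T hT n X) := (hT n X).choose_spec.choose_spec.1
theorem effU_zero (n : ℕ) (X : A) : (T.F (n + 1)).map (effU T hT n X) = 0 :=
  (hT n X).choose_spec.choose_spec.2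

theorem effSES_shortExact (n : ℕ) (X : A) : (monoSES (effU T hT n X)).ShortExact :=
  monoSES_shortExact _

theorem epi_δ_eff (n : ℕ) (X : A) :
    Epi (T.δ (monoSES (effU T hT n X)) (effSES_shortExact T hT n X) n (n + 1) rfl) :=
  (T.exact₁ (monoSES (effU T hT n X)) (effSES_shortExact T hT n X) n (n + 1) rfl).epi_f
    (effU_zero T hT n X)

include hT in
theorem exists_step (T' : CohDeltaFunctor A B ℕ) (n : ℕ) (τ : T.F n ⟶ T'.F n) :
    ∃ σ : T.F (n + 1) ⟶ T'.F (n + 1), ∀ (S : ShortComplex A) (hS : S.ShortExact),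
      T.δ S hS n (n + 1) rfl ≫ σ.app S.X₁ = τ.app S.X₃ ≫ T'.δ S hS n (n + 1) rfl := by
  have key : ∀ (X Y : A) (u : X ⟶ Y) [Mono u], (T.F (n + 1)).map u = 0 →
      ∃ c : (T.F (n + 1)).obj X ⟶ (T'.F (n + 1)).obj X,
        T.δ (monoSES u) (monoSES_shortExact u) n (n + 1) rfl ≫ c
          = τ.app _ ≫ T'.δ (monoSES u) (monoSES_shortExact u) n (n + 1) rfl := by
    intro X Y u hu h0
    have hS := monoSES_shortExact u
    haveI : Epi (T.δ (monoSES u) hS n (n + 1) rfl) :=
      (T.exact₁ (monoSES u) hS n (n + 1) rfl).epi_f h0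
    refine ⟨(T.exact₃ (monoSES u) hS n (n + 1) rfl).desc (τ.app _ ≫ T'.δ (monoSES u) hS n (n + 1) rfl) ?_,
      (T.exact₃ (monoSES u) hS n (n + 1) rfl).g_desc _ ?_⟩
    all_goals
      show (T.F n).map (monoSES u).g ≫ τ.app (monoSES u).X₃ ≫ T'.δ (monoSES u) hS n (n + 1) rfl = 0
      rw [τ.naturality_assoc, T'.comp_δ (monoSES u) hS n (n + 1) rfl, comp_zero]
  choose c hc using key
  let e : ∀ X, (T.F (n + 1)).obj X ⟶ (T'.F (n + 1)).obj X :=
    fun X => c X _ (effU T hT n X) (effU_zero T hT n X)
  have he : ∀ (X : A) (S : ShortComplex A) (hS : S.ShortExact) (f : S.X₁ = X),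
      T.δ S hS n (n + 1) rfl ≫ eqToHom (by rw [f]) ≫ e X
        = τ.app S.X₃ ≫ T'.δ S hS n (n + 1) rfl ≫ eqToHom (by rw [f]) := by
    intro X S hS f
    subst f
    simp only [eqToHom_refl, Category.id_comp, Category.comp_id]
    haveI := hS.mono_f
    let v := effU T hT n S.X₁
    let w : S.X₁ ⟶ pushout S.f v := S.f ≫ pushout.inl S.f v
    haveI : Mono (pushout.inl S.f v) := inferInstance
    haveI : Mono w := mono_comp _ _
    have hw : (T.F (n + 1)).map w = 0 := by
      rw [show w = v ≫ pushout.inr S.f v from pushout.condition, Functor.map_comp,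
        effU_zero T hT n S.X₁, zero_comp]
    let φ : monoSES v ⟶ monoSES w :=
      monoSESMap v w (𝟙 _) (pushout.inr S.f v) (by simp [w, pushout.condition])
    have hv := monoSES_shortExact v
    have hw' := monoSES_shortExact w
    have h1 : c S.X₁ _ w hw = e S.X₁ := by
      haveI := epi_δ_eff T hT n S.X₁
      rw [← cancel_epi (T.δ (monoSES v) (effSES_shortExact T hT n S.X₁) n (n + 1) rfl)]
      have a1 := T.δ_natural hv hw' φ n (n + 1) rfl
      have a2 := T'.δ_natural hv hw' φ n (n + 1) rfl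
      simp only [φ, monoSESMap, CategoryTheory.Functor.map_id] at a1 a2
      erw [Category.comp_id] at a1 a2
      refine Eq.trans ?_ (hc _ _ v (effU_zero T hT n S.X₁)).symm
      erw [← a1, Category.assoc, hc _ _ w hw, τ.naturality_assoc, a2]
    haveI := hS.epi_g
    let ψ : S ⟶ monoSES w :=
      { τ₁ := 𝟙 _
        τ₂ := pushout.inl S.f v
        τ₃ := hS.exact.desc (pushout.inl S.f v ≫ cokernel.π w)
          (by rw [← Category.assoc]; exact cokernel.condition w)
        comm₁₂ := by simp [monoSES, w]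
        comm₂₃ := (hS.exact.g_desc _ _).symm }
    have b1 := T.δ_natural hS hw' ψ n (n + 1) rfl
    have b2 := T'.δ_natural hS hw' ψ n (n + 1) rfl
    simp only [ψ, CategoryTheory.Functor.map_id] at b1 b2
    erw [Category.comp_id] at b1 b2
    rw [← h1, ← b1, ← b2, Category.assoc]
    erw [hc _ _ w hw, τ.naturality_assoc]
  have he' : ∀ (S : ShortComplex A) (hS : S.ShortExact),
      T.δ S hS n (n + 1) rfl ≫ e S.X₁ = τ.app S.X₃ ≫ T'.δ S hS n (n + 1) rfl := by
    intro S hS
    simpa using he S.X₁ S hS rfl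
  refine ⟨{ app := e, naturality := ?_ }, he'⟩
  intro X X' f
  let v := effU T hT n X
  let v' := effU T hT n X'
  let w : X' ⟶ pushout v (f ≫ v') := v' ≫ pushout.inr v (f ≫ v')
  haveI : Mono (pushout.inr v (f ≫ v')) := inferInstance
  haveI : Mono w := mono_comp _ _
  let φ : monoSES v ⟶ monoSES w :=
    monoSESMap v w f (pushout.inl v (f ≫ v'))
      (by simp only [w, ← Category.assoc]; exact pushout.condition.symm)
  have hv := monoSES_shortExact v
  have hw' := monoSES_shortExact w
  haveI := epi_δ_eff T hT n X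
  rw [← cancel_epi (T.δ (monoSES v) (effSES_shortExact T hT n X) n (n + 1) rfl)]
  have a1 := T.δ_natural hv hw' φ n (n + 1) rfl
  have a2 := T'.δ_natural hv hw' φ n (n + 1) rfl
  have c1 := he' (monoSES v) hv
  have c2 := he' (monoSES w) hw'
  calc T.δ (monoSES v) hv n (n + 1) rfl ≫ (T.F (n + 1)).map f ≫ e X'
      = ((T.F n).map φ.τ₃ ≫ T.δ (monoSES w) hw' n (n + 1) rfl) ≫ e X' := by
        rw [a1, Category.assoc]; rfl
    _ = (T.F n).map φ.τ₃ ≫ τ.app _ ≫ T'.δ (monoSES w) hw' n (n + 1) rfl := by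
        rw [Category.assoc]; exact congrArg _ c2
    _ = τ.app _ ≫ T'.δ (monoSES v) hv n (n + 1) rfl ≫ (T'.F (n + 1)).map f := by
        rw [τ.naturality_assoc, a2]; rfl
    _ = T.δ (monoSES v) hv n (n + 1) rfl ≫ e X ≫ (T'.F (n + 1)).map f := by
        rw [← Category.assoc, ← c1, Category.assoc]

include hT in
theorem exists_ext : ∃ τ : ∀ (T' : CohDeltaFunctor A B ℕ), (T.F 0 ⟶ T'.F 0) → ∀ n, (T.F n ⟶ T'.F n),
    (∀ T' t, τ T' t 0 = t) ∧ ∀ T' t (S : ShortComplex A) (hS : S.ShortExact) (n : ℕ),
      T.δ S hS n (n + 1) rfl ≫ (τ T' t (n + 1)).app S.X₁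
        = (τ T' t n).app S.X₃ ≫ T'.δ S hS n (n + 1) rfl := by
  refine ⟨fun T' t n => Nat.rec (motive := fun n => T.F n ⟶ T'.F n) t
    (fun m σ => (exists_step T hT T' m σ).choose) n, fun T' t => rfl, ?_⟩
  intro T' t S hS n
  exact (exists_step T hT T' n _).choose_spec S hS


/-- An effaceable cohomological delta-functor (for every degree `n + 1 ≥ 1` and every object `X` there
is a monomorphism out of `X` killed by the functor in that degree) is universal. Delta-functors here
are indexed by `ℕ` and are not required to be left exact in degree `0`; universality is tested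
against all such delta-functors. -/
theorem result {A : Type u} [Category.{v} A] [Abelian A] {B : Type u'} [Category.{v'} B] [Abelian B] (T : DeltaF.CohDeltaFunctor A B ℕ) (hT : T.IsEffaceable) : T.IsUniversal := by
  obtain ⟨τ, h0, hc⟩ := exists_ext T hT
  intro T' t
  refine ⟨⟨τ T' t, fun S hS n₀ n₁ h => by subst h; exact hc T' t S hS n₀⟩, h0 T' t, ?_⟩
  intro σ hσ
  apply CohDeltaFunctor.hom_ext
  intro n
  induction n with
  | zero => exact hσ.trans (h0 T' t).symm
  | succ n ih =>
    apply NatTrans.ext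
    funext X
    haveI := epi_δ_eff T hT n X
    rw [← cancel_epi (T.δ _ (effSES_shortExact T hT n X) n (n + 1) rfl)]
    exact (σ.comm _ (effSES_shortExact T hT n X) n (n + 1) rfl).trans
      ((by rw [ih] : _ = _).trans (hc T' t _ (effSES_shortExact T hT n X) n).symm)

end Groth.Agent.S6773
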