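import Groth.Statements.S16466
import Groth.Agent.Limits.BC0.RankStratumSquare
import Groth.Agent.LocFree.Basic
import Groth.Agent.Abvar.Seesaw.Core
import Groth.Agent.PropsBasic.LocFree

set_option autoImplicit false
universe u
open PicF

namespace Groth.Agent.S16466

open CategoryTheory AlgebraicGeometry AlgebraicGeometry.Scheme.Modules in
/-- Suppose f : X → S is a proper, flat morphism between Noetherian schemes, and L is an invertible
O_X-module. Then there is a locally closed subscheme Z of S (an immersion i : Z → S) with the
following universal property: a morphism t : T → S factors through i if and only if, for a cartesian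
square X_T = X ×_S T with projections f_T and g_T, the direct image (f_T)_*(g_T^* L) is an
invertible O_T-module whose formation commutes with every further base change T' → T (the
degree-zero base change morphism is an isomorphism for every cartesian square over T' → T). In
particular Z is unique and (f_Z)_*(L_Z) is invertible of formation compatible with base change.
(Characterising the factorisation by invertibility of the direct image alone is not correct: for a
genus-two curve C over a field, p a point of C and S the spectrum of the local ring of C at the
hyperelliptic conjugate of p, the family C × S → S with L = O(p + q), q the tautological point, has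
direct image free of rank one while the closed fibre has a two-dimensional space of sections, so S →
S does not factor through Z.) -/
theorem result {X S : Scheme.{u}} (f : X ⟶ S) [IsProper f] [Flat f]
    [IsNoetherian S] [IsNoetherian X] (L : X.Modules) (hL : PicF.IsInvertible L) :
    ∃ (Z : Scheme.{u}) (i : Z ⟶ S), IsImmersion i ∧
      ∀ (T : Scheme.{u}) (t : T ⟶ S) (XT : Scheme.{u}) (fT : XT ⟶ T) (gT : XT ⟶ X)
        (hT : IsPullback gT fT f t),
        (∃ z : T ⟶ Z, z ≫ i = t) ↔
          (PicF.IsInvertible ((pushforward fT).obj ((pullback gT).obj L)) ∧
            ∀ (T' : Scheme.{u}) (u : T' ⟶ T) (XT' : Scheme.{u}) (fT' : XT' ⟶ T') (u' : XT' ⟶ XT)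
              (hT' : IsPullback u' fT' fT u),
              IsIso (CohBC.bc0 fT u fT' u' hT'.w ((pullback gT).obj L))) := by
  haveI : LocallyOfFinitePresentation f := by
    rw [HasRingHomProperty.iff_appLE (P := @LocallyOfFinitePresentation)]
    intro U V e
    have := IsLocallyNoetherian.component_noetherian U
    exact RingHom.FinitePresentation.of_finiteType.1 (f.finiteType_appLE U.2 V.2 e)
  haveI : L.IsQuasicoherent := Groth.PicAux.isQCoh_of_isInvertible hL
  have hfp : CohB1.IsFP L := Groth.PropsBasic.LocFree.isFP_of_isFinLocFree L
    (Groth.LocFree.isFinLocFree_of_rank (Groth.LocFree.isInvertible_iff_ofRank_one.1 hL))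
  have hfl := Groth.Abvar.Seesaw.isFlatOver_of_isInvertible f hL
  obtain ⟨Z, i, h1, -, -, huniv, -⟩ :=
    Groth.Limits.BC0.exists_rank_stratum (f := f) (F := L) (r := 1) hfp hfl
  refine ⟨Z, i, h1, fun T t XT fT gT hT => (huniv T t).trans
    ((Groth.Limits.BC0.cond_iff_of_isPullback hfp hfl hT).trans ?_)⟩
  rw [← Groth.LocFree.isInvertible_iff_ofRank_one]
  exact and_congr_right' ⟨fun h T' u XT' fT' u' hT' => h u' fT' u hT',
    fun h X'' T' v' f'' u' hh => h T' u' X'' f'' v' hh⟩

end Groth.Agent.S16466
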