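import Groth.Statements.S16469
import Groth.Agent.VBCurves.Quot

set_option autoImplicit false
universe u
open CategoryTheory CategoryTheory.Limits AlgebraicGeometry
open VBCurve

open Groth.VBCurves

namespace Groth.Agent.S16469

/-- Let X be a smooth proper integral curve (integral, smooth and proper of dimension one) over an
algebraically closed field k, and let E, F be finite locally free O_X-modules of ranks r ≥ 1, s ≥ 1,
both slope-semistable (deg G · rank ≤ deg · rank G on finite locally free submodules G of positive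
rank; degree = χ − rank·χ(O_X)) and of the same slope μ: deg E · s = deg F · r. Then for every
homomorphism f : E → F the kernel and the cokernel of f, taken in the abelian category of
O_X-modules, are finite locally free of some ranks r₀ and s₀, have slope μ when nonzero (deg(ker f)
· r = deg E · r₀ and deg(coker f) · s = deg F · s₀) and are slope-semistable: deg G · r₀ ≤ deg(ker
f) · n for every finite locally free submodule G ⊂ ker f of rank n ≥ 1, and likewise for coker f
with s₀. In other words the semistable bundles of slope μ form an abelian subcategory, and the image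
of f is a sub-bundle of F. -/
theorem result (k : Type u) [Field k] [IsAlgClosed k] (X : Scheme.{u}) [X.Over (Spec (CommRingCat.of k))]
    [IsIntegral X] [IsProper (X ↘ Spec (CommRingCat.of k))] [Smooth (X ↘ Spec (CommRingCat.of k))]
    (hdim : topologicalKrullDim X = 1)
    (r s : ℕ) (hr : 0 < r) (hs : 0 < s) (E F : X.Modules)
    (hE : FlatMod.IsFinLocFreeOfRank r E) (hF : FlatMod.IsFinLocFreeOfRank s F)
    (hEss : ModFun.IsSlopeSemistable k X E r) (hFss : ModFun.IsSlopeSemistable k X F s)
    (hμ : Curv2.deg k X E r * (s : ℤ) = Curv2.deg k X F s * (r : ℤ)) (f : E ⟶ F) :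
    (∃ r₀ : ℕ, FlatMod.IsFinLocFreeOfRank r₀ (kernel f) ∧
        Curv2.deg k X (kernel f) r₀ * (r : ℤ) = Curv2.deg k X E r * (r₀ : ℤ) ∧
        ∀ (G : X.Modules) (n : ℕ) (j : G ⟶ kernel f), Mono j → 0 < n → FlatMod.IsFinLocFreeOfRank n G →
          Curv2.deg k X G n * (r₀ : ℤ) ≤ Curv2.deg k X (kernel f) r₀ * (n : ℤ)) ∧
      (∃ s₀ : ℕ, FlatMod.IsFinLocFreeOfRank s₀ (cokernel f) ∧
        Curv2.deg k X (cokernel f) s₀ * (s : ℤ) = Curv2.deg k X F s * (s₀ : ℤ) ∧
        ∀ (G : X.Modules) (n : ℕ) (j : G ⟶ cokernel f), Mono j → 0 < n → FlatMod.IsFinLocFreeOfRank n G →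
          Curv2.deg k X G n * (s₀ : ℤ) ≤ Curv2.deg k X (cokernel f) s₀ * (n : ℤ)) := by
  have hc := IsVBCurve.of_smooth k hdim
  have hE' := Groth.LocFree.isFinLocFree_of_rank hE
  have hF' := Groth.LocFree.isFinLocFree_of_rank hF
  have eE := rk_eq hE
  have eF := rk_eq hF
  have hEs := ss_of hE hEss
  have hFs := ss_of hF hFss
  obtain ⟨K, I, i, p, j, w, hS, hi, hp, hj, hfac, -, hK, hI, hr', -, hKd, hId⟩ :=
    slope_image hc hE' hF' hEs hFs (by rw [eE, eF, ← dg_eq k hE, ← dg_eq k hF, hμ])
      (by rwa [eF]) f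
  have hEd := dg_eq k hE
  have hFd := dg_eq k hF
  refine ⟨?_, ?_⟩
  · have e : K ≅ kernel f :=
      IsLimit.conePointUniqueUpToIso hS.fIsKernel (kernelIsKernel p) ≪≫
        (kernelCompMono p j).symm ≪≫ kernelIsoOfEq hfac
    refine ⟨rk K, Groth.LocFree.isFinLocFreeOfRank_of_iso e (isFinLocFreeOfRank_rk hK), ?_, ?_⟩
    · rw [← Groth.EulerDeg.deg_congr k e, hEd, ← eE]
      exact hKd
    · intro G n g hg hn hG
      rw [← Groth.EulerDeg.deg_congr k e, dg_eq k hG]
      have h := hEs G (g ≫ e.inv ≫ i) inferInstance (Groth.LocFree.isFinLocFree_of_rank hG)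
        (by rwa [rk_eq hG])
      rw [rk_eq hG] at h
      change _ ≤ dg k K * (n : ℤ)
      refine le_of_mul_le_mul_right ?_ (show (0 : ℤ) < rk E by rw [eE]; exact_mod_cast hr)
      calc dg k G * (rk K : ℤ) * (rk E : ℤ) = dg k G * (rk E : ℤ) * (rk K : ℤ) := by ring
        _ ≤ dg k E * (n : ℤ) * (rk K : ℤ) :=
          mul_le_mul_of_nonneg_right h (Int.natCast_nonneg _)
        _ = dg k K * (n : ℤ) * (rk E : ℤ) := by
          linear_combination (-(n : ℤ)) * hKd
  · have e : cokernel j ≅ cokernel f :=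
      (cokernelEpiComp p j).symm ≪≫ cokernelIsoOfEq hfac
    have hC : FlatMod.IsFinLocFree (cokernel j) := by
      rcases Nat.eq_zero_or_pos (rk I) with h0 | h0
      · have hj0 : j = 0 := (isZero_of_rk_eq_zero hI h0).eq_of_src j 0
        exact Groth.KTheory.LocFree.isFinLocFree_of_iso
          (cokernelZeroIsoTarget.symm ≪≫ cokernelIsoOfEq hj0.symm) hF'
      · refine isFinLocFree_cokernel_of_max hc hF' hI j h0 fun G g hg hG hG0 => ?_
        have h := hFs G g hg hG hG0
        refine le_of_mul_le_mul_right ?_ (show (0 : ℤ) < rk F by rw [eF]; exact_mod_cast hs)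
        calc dg k G * (rk I : ℤ) * (rk F : ℤ) = dg k G * (rk F : ℤ) * (rk I : ℤ) := by ring
          _ ≤ dg k F * (rk G : ℤ) * (rk I : ℤ) :=
            mul_le_mul_of_nonneg_right h (Int.natCast_nonneg _)
          _ = dg k I * (rk G : ℤ) * (rk F : ℤ) := by
            linear_combination (-(rk G : ℤ)) * hId
    obtain ⟨hrC, hdC⟩ := cokernel_numerics (k := k) j hI hC
    have hrC' : (rk F : ℤ) = rk I + rk (cokernel j) := by exact_mod_cast hrC
    have hslope : dg k (cokernel j) * (rk F : ℤ) = dg k F * (rk (cokernel j) : ℤ) := by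
      linear_combination (-(rk F : ℤ)) * hdC + (dg k F) * hrC' - hId
    refine ⟨rk (cokernel j), Groth.LocFree.isFinLocFreeOfRank_of_iso e (isFinLocFreeOfRank_rk hC),
      ?_, ?_⟩
    · rw [← Groth.EulerDeg.deg_congr k e, hFd, ← eF]
      exact hslope
    · intro G n g hg hn hG
      rw [← Groth.EulerDeg.deg_congr k e, dg_eq k hG]
      have h := Bnd.quot j hI hId hFs G (g ≫ e.inv) inferInstance
        (Groth.LocFree.isFinLocFree_of_rank hG) (by rwa [rk_eq hG])
      rw [rk_eq hG] at h
      change _ ≤ dg k (cokernel j) * (n : ℤ)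
      refine le_of_mul_le_mul_right ?_ (show (0 : ℤ) < rk F by rw [eF]; exact_mod_cast hs)
      calc dg k G * (rk (cokernel j) : ℤ) * (rk F : ℤ)
            = dg k G * (rk F : ℤ) * (rk (cokernel j) : ℤ) := by ring
        _ ≤ dg k F * (n : ℤ) * (rk (cokernel j) : ℤ) :=
          mul_le_mul_of_nonneg_right h (Int.natCast_nonneg _)
        _ = dg k (cokernel j) * (n : ℤ) * (rk F : ℤ) := by
          linear_combination (-(n : ℤ)) * hslope

end Groth.Agent.S16469
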