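import Groth.Statements.S16470
import Groth.Agent.VBCurves.MaxSlope

set_option autoImplicit false
universe u
open CategoryTheory CategoryTheory.Limits AlgebraicGeometry
open VBCurve

open Groth.VBCurves

namespace Groth.Agent.S16470

/-- Let X be a smooth proper integral curve (integral, smooth and proper of dimension one) over an
algebraically closed field k and E a finite locally free O_X-module of rank r ≥ 1 (degree = χ −
rank·χ(O_X), slope = degree / rank). There is a finite locally free submodule E₁ ⊂ E (a monomorphism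
of O_X-modules) of some rank r₁ ≥ 1, the destabilising sub-bundle, such that: every finite locally
free submodule F ⊂ E of rank r' ≥ 1 has slope at most that of E₁ (deg F · r₁ ≤ deg E₁ · r'); and the
maximal slope drops in the quotient, i.e. every finite locally free submodule G of rank r' ≥ 1 of
the cokernel E/E₁ has deg G · r₁ < deg E₁ · r'. Moreover a submodule with these two properties is
unique: any two are the same subobject of E. (Such an E₁ is slope-semistable, every submodule of E₁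
being a submodule of E; the published statement lists semistability of E₁ as a third property, which
is therefore omitted here.) -/
theorem result (k : Type u) [Field k] [IsAlgClosed k] (X : Scheme.{u}) [X.Over (Spec (CommRingCat.of k))]
    [IsIntegral X] [IsProper (X ↘ Spec (CommRingCat.of k))] [Smooth (X ↘ Spec (CommRingCat.of k))]
    (hdim : topologicalKrullDim X = 1)
    (r : ℕ) (hr : 0 < r) (E : X.Modules) (hE : FlatMod.IsFinLocFreeOfRank r E) :
    (∃ (E₁ : X.Modules) (r₁ : ℕ) (i₁ : E₁ ⟶ E), Mono i₁ ∧ 0 < r₁ ∧ FlatMod.IsFinLocFreeOfRank r₁ E₁ ∧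
      (∀ (F : X.Modules) (r' : ℕ) (j : F ⟶ E), Mono j → 0 < r' → FlatMod.IsFinLocFreeOfRank r' F →
        Curv2.deg k X F r' * (r₁ : ℤ) ≤ Curv2.deg k X E₁ r₁ * (r' : ℤ)) ∧
      (∀ (Q : X.Modules) (s : ℕ) (j : Q ⟶ cokernel i₁), Mono j → 0 < s → FlatMod.IsFinLocFreeOfRank s Q →
        Curv2.deg k X Q s * (r₁ : ℤ) < Curv2.deg k X E₁ r₁ * (s : ℤ))) ∧
    (∀ (E₁ E₁' : X.Modules) (r₁ r₁' : ℕ) (i₁ : E₁ ⟶ E) (i₁' : E₁' ⟶ E),
      Mono i₁ → 0 < r₁ → FlatMod.IsFinLocFreeOfRank r₁ E₁ →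
      (∀ (F : X.Modules) (r' : ℕ) (j : F ⟶ E), Mono j → 0 < r' → FlatMod.IsFinLocFreeOfRank r' F →
        Curv2.deg k X F r' * (r₁ : ℤ) ≤ Curv2.deg k X E₁ r₁ * (r' : ℤ)) →
      (∀ (Q : X.Modules) (s : ℕ) (j : Q ⟶ cokernel i₁), Mono j → 0 < s → FlatMod.IsFinLocFreeOfRank s Q →
        Curv2.deg k X Q s * (r₁ : ℤ) < Curv2.deg k X E₁ r₁ * (s : ℤ)) →
      Mono i₁' → 0 < r₁' → FlatMod.IsFinLocFreeOfRank r₁' E₁' →
      (∀ (F : X.Modules) (r' : ℕ) (j : F ⟶ E), Mono j → 0 < r' → FlatMod.IsFinLocFreeOfRank r' F →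
        Curv2.deg k X F r' * (r₁' : ℤ) ≤ Curv2.deg k X E₁' r₁' * (r' : ℤ)) →
      (∀ (Q : X.Modules) (s : ℕ) (j : Q ⟶ cokernel i₁'), Mono j → 0 < s → FlatMod.IsFinLocFreeOfRank s Q →
        Curv2.deg k X Q s * (r₁' : ℤ) < Curv2.deg k X E₁' r₁' * (s : ℤ)) →
      ∃ e : E₁ ≅ E₁', e.hom ≫ i₁' = i₁) := by
  have hc := IsVBCurve.of_smooth k hdim
  have hE' := Groth.LocFree.isFinLocFree_of_rank hE
  refine ⟨?_, ?_⟩
  · obtain ⟨E₁, i₁, hi, hE₁, hpos, hB, hbig⟩ := exists_max hc hE' (by rwa [rk_eq hE])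
    refine ⟨E₁, rk E₁, i₁, hi, hpos, isFinLocFreeOfRank_rk hE₁, fun G r' j hj hr' hG => ?_,
      fun Q s j hj hs hQ => ?_⟩
    · have := hB G j hj (Groth.LocFree.isFinLocFree_of_rank hG) (by rwa [rk_eq hG])
      rwa [rk_eq hG, ← dg_eq k hG] at this
    · have := quot_slope_lt hc hE₁ i₁ hB hbig Q j (Groth.LocFree.isFinLocFree_of_rank hQ)
        (by rwa [rk_eq hQ])
      rwa [rk_eq hQ, ← dg_eq k hQ] at this
  · intro E₁ E₁' r₁ r₁' i₁ i₁' hi hr₁ hE₁ hm hq hi' hr₁' hE₁' hm' hq'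
    have a := rk_eq hE₁
    have a' := rk_eq hE₁'
    have hB : Bnd k E (dg k E₁) (rk E₁) := fun G j hj hG hG0 => by
      rw [a, ← dg_eq k hE₁]; exact hm G (rk G) j hj hG0 (isFinLocFreeOfRank_rk hG)
    have hB' : Bnd k E (dg k E₁') (rk E₁') := fun G j hj hG hG0 => by
      rw [a', ← dg_eq k hE₁']; exact hm' G (rk G) j hj hG0 (isFinLocFreeOfRank_rk hG)
    have f₁ := Groth.LocFree.isFinLocFree_of_rank hE₁
    have f₁' := Groth.LocFree.isFinLocFree_of_rank hE₁'
    obtain ⟨u, hu⟩ := exists_lift_of_max hc hE' f₁ f₁' i₁ i₁' (by rwa [a]) (by rwa [a']) hB hB'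
      fun Q j hj hQ hQ0 => by
        rw [a', ← dg_eq k hE₁']; exact hq' Q (rk Q) j hj hQ0 (isFinLocFreeOfRank_rk hQ)
    obtain ⟨v, hv⟩ := exists_lift_of_max hc hE' f₁' f₁ i₁' i₁ (by rwa [a']) (by rwa [a]) hB' hB
      fun Q j hj hQ hQ0 => by
        rw [a, ← dg_eq k hE₁]; exact hq Q (rk Q) j hj hQ0 (isFinLocFreeOfRank_rk hQ)
    exact ⟨⟨u, v, by rw [← cancel_mono i₁, Category.assoc, hv, hu, Category.id_comp],
      by rw [← cancel_mono i₁', Category.assoc, hu, hv, Category.id_comp]⟩, hu⟩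

end Groth.Agent.S16470
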