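import Groth.Statements.S16478
import Groth.Agent.GrpschAbsch.Char
import Groth.Agent.S13374
import Mathlib.RingTheory.AdjoinRoot

set_option autoImplicit false
universe u
open GaDual

namespace Groth.Agent.S16478

/-- Let A be a commutative ring of prime characteristic p and n ≥ 1, and let φ be the comorphism of the
closed immersion α_{p^n} → G_a over A: the bialgebra map from the Hopf algebra of the additive group
(generator t primitive) to A[x]/(x^(p^n)) (x primitive) sending t to x. Then the restriction map on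
characters, from those of the additive group over A to those of α_{p^n} over A, is surjective: every
group-like element of A[x]/(x^(p^n)) is the image under φ of a group-like element of the Hopf
algebra of the additive group. -/
theorem result (p : ℕ) [Fact p.Prime] (A : Type u) [CommRing A] [CharP A p]
    (n : ℕ) (hn : 1 ≤ n) (φ : SekSuwa.A A 0 →ₐc[A] AlphaPn.A p n A) (hφ : φ SekSuwa.A.t = AlphaPn.x p n A)
    (u : AlphaPn.A p n A) (hu : IsGroupLikeElem A u) :
    ∃ g : SekSuwa.A A 0, IsGroupLikeElem A g ∧ φ g = u := by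
  open Groth.GrpschAbsch.Char Polynomial TensorProduct in
  have : Nontrivial A := CharP.nontrivial_of_char_ne_one (Fact.out : p.Prime).ne_one
  obtain ⟨f₀, rfl⟩ := AlphaPn.mk_surjective p n A u
  obtain ⟨f, hf, hfdeg⟩ : ∃ f : A[X], AlphaPn.mk p n A f = AlphaPn.mk p n A f₀ ∧
      f.natDegree < p ^ n := by
    refine ⟨f₀ %ₘ (X ^ p ^ n), ?_, ?_⟩
    · nth_rw 2 [← Polynomial.modByMonic_add_div f₀ (X ^ p ^ n : A[X])]
      rw [map_add, map_mul, map_pow, AlphaPn.mk_X, AlphaPn.x_pow, zero_mul, add_zero]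
    · have hpos : 0 < p ^ n := pow_pos (Fact.out : p.Prime).pos n
      have := Polynomial.natDegree_modByMonic_lt f₀ (Polynomial.monic_X_pow (R := A) (p ^ n))
        (fun h ↦ by
          have := congrArg Polynomial.natDegree h
          rw [Polynomial.natDegree_X_pow, Polynomial.natDegree_one] at this
          omega)
      rwa [Polynomial.natDegree_X_pow] at this
  rw [← hf, ← AlphaPn.aeval_x] at hu ⊢
  have h0 : f.eval 0 = 1 := by
    have h : AlphaPn.counitAlg p n A (aeval (AlphaPn.x p n A) f) = 1 := hu.counit_eq_one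
    rw [← Polynomial.aeval_algHom_apply, AlphaPn.counitAlg_x] at h
    rw [← Polynomial.coe_aeval_eq_eval]
    exact h
  set I := Ideal.span ({MvPolynomial.X 0 ^ p ^ n, MvPolynomial.X 1 ^ p ^ n} :
    Set (MvPolynomial (Fin 2) A)) with hI
  have hz : ∀ i : Fin 2, Ideal.Quotient.mk I (MvPolynomial.X i) ^ p ^ n = 0 := fun i ↦ by
    rw [← map_pow, Ideal.Quotient.eq_zero_iff_mem]
    exact Ideal.subset_span (by fin_cases i <;> simp)
  let e : AlphaPn.A p n A ⊗[A] AlphaPn.A p n A →ₐ[A] MvPolynomial (Fin 2) A ⧸ I :=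
    Algebra.TensorProduct.lift (AlphaPn.lift p n A _ (hz 0)) (AlphaPn.lift p n A _ (hz 1))
      fun _ _ ↦ Commute.all _ _
  have hmul : Ideal.Quotient.mk I
        (Polynomial.aeval (MvPolynomial.X 0 + MvPolynomial.X 1 : MvPolynomial (Fin 2) A) f) =
      Ideal.Quotient.mk I
        (Polynomial.aeval (MvPolynomial.X 0 : MvPolynomial (Fin 2) A) f *
          Polynomial.aeval (MvPolynomial.X 1 : MvPolynomial (Fin 2) A) f) := by
    have h : AlphaPn.comulAlg p n A (aeval (AlphaPn.x p n A) f) =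
        aeval (AlphaPn.x p n A) f ⊗ₜ[A] aeval (AlphaPn.x p n A) f := hu.comul_eq_tmul_self
    have h' := congrArg e h
    rw [← Polynomial.aeval_algHom_apply, AlphaPn.comulAlg_x, ← Polynomial.aeval_algHom_apply] at h'
    simp only [e, map_add, Algebra.TensorProduct.lift_tmul, map_one, mul_one, one_mul,
      ← Polynomial.aeval_algHom_apply, AlphaPn.lift_x] at h'
    rw [← map_add] at h'
    rw [map_mul]
    have key : ∀ y : MvPolynomial (Fin 2) A, Ideal.Quotient.mk I (aeval y f) =
        aeval (Ideal.Quotient.mk I y) f := fun y ↦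
      (Polynomial.aeval_algHom_apply (Ideal.Quotient.mkₐ A I) y f).symm
    rw [key, key, key]
    exact h'
  obtain ⟨a, ha, hprod⟩ := Groth.Agent.S13374.result p A n f hfdeg h0 hmul
  have hm : IsMul f := by
    rw [hprod]
    exact IsMul.prod _ _ fun k _ ↦ isMul_expTerm p (ha k) k
  let C : SekSuwa.A A 0 →ₐ[A] SekSuwa.A A 0 ⊗[A] SekSuwa.A A 0 := Bialgebra.comulAlgHom A _
  let E : SekSuwa.A A 0 →ₐ[A] A := Bialgebra.counitAlgHom A _
  refine ⟨aeval SekSuwa.A.t f, ⟨?_, ?_⟩, ?_⟩
  · show E (aeval SekSuwa.A.t f) = 1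
    rw [← Polynomial.aeval_algHom_apply, show E SekSuwa.A.t = 0 from SekSuwa.A.counit_t]
    rw [Polynomial.coe_aeval_eq_eval]
    exact h0
  · show C (aeval SekSuwa.A.t f) = _
    rw [← Polynomial.aeval_algHom_apply,
      show C SekSuwa.A.t = SekSuwa.A.t ⊗ₜ[A] 1 + 1 ⊗ₜ[A] SekSuwa.A.t by
        show CoalgebraStruct.comul (R := A) (SekSuwa.A.t : SekSuwa.A A 0) = _
        rw [SekSuwa.A.comul_t, zero_smul, add_zero], hm.aeval_add]
    have hl : aeval ((SekSuwa.A.t : SekSuwa.A A 0) ⊗ₜ[A] (1 : SekSuwa.A A 0)) f =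
        aeval (SekSuwa.A.t : SekSuwa.A A 0) f ⊗ₜ[A] 1 :=
      Polynomial.aeval_algHom_apply (Algebra.TensorProduct.includeLeft :
        SekSuwa.A A 0 →ₐ[A] SekSuwa.A A 0 ⊗[A] SekSuwa.A A 0) _ f
    have hr : aeval ((1 : SekSuwa.A A 0) ⊗ₜ[A] (SekSuwa.A.t : SekSuwa.A A 0)) f =
        1 ⊗ₜ[A] aeval (SekSuwa.A.t : SekSuwa.A A 0) f :=
      Polynomial.aeval_algHom_apply (Algebra.TensorProduct.includeRight :
        SekSuwa.A A 0 →ₐ[A] SekSuwa.A A 0 ⊗[A] SekSuwa.A A 0) _ f
    rw [hl, hr, Algebra.TensorProduct.tmul_mul_tmul, mul_one, one_mul]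
  · rw [show φ (aeval SekSuwa.A.t f) = (φ : SekSuwa.A A 0 →ₐ[A] AlphaPn.A p n A)
        (aeval SekSuwa.A.t f) from rfl, ← Polynomial.aeval_algHom_apply]
    exact congrArg (fun y ↦ aeval y f) hφ

end Groth.Agent.S16478
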