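import Groth.Statements.S16482
-- import your own Groth.Agent.* helpers here

set_option autoImplicit false
open CategoryTheory CategoryTheory.Limits AlgebraicGeometry
universe u
open FrobSch

namespace Groth.Agent.S16482

open FrobSch in
/-- The absolute Frobenius of a reduced scheme is an epimorphism. -/
theorem frob_cancel (p : ℕ) [Fact p.Prime] {Y Z : Scheme.{u}} [IsCharP Y p] [IsReduced Y]
    {g₁ g₂ : Y ⟶ Z} (h : frob Y p ≫ g₁ = frob Y p ≫ g₂) : g₁ = g₂ := by
  have hb : g₁.base = g₂.base := by
    have := congr($(h).base)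
    simpa using this
  refine Scheme.Hom.ext hb (fun U => ?_)
  ext s
  have hU := Scheme.Hom.congr_app h U
  have hs := congr($hU s)
  simp only [Scheme.Hom.comp_app, CommRingCat.comp_apply] at hs ⊢
  change (g₁.app U s) ^ p = Y.presheaf.map _ ((g₂.app U s) ^ p) at hs
  rw [map_pow] at hs
  have e : g₁ ⁻¹ᵁ U = g₂ ⁻¹ᵁ U := TopologicalSpace.Opens.ext (by
    ext z
    show g₁.base z ∈ U ↔ g₂.base z ∈ U
    rw [hb])
  have key : g₁.app U s = Y.presheaf.map (eqToHom e).op (g₂.app U s) := by
    set a := g₁.app U s with ha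
    set b := Y.presheaf.map (eqToHom e).op (g₂.app U s) with hb'
    obtain ⟨r, hr⟩ := exists_add_pow_prime_eq (Fact.out : p.Prime) (a - b) b
    rw [sub_add_cancel, natCast_eq_zero_app Y p, zero_mul, zero_mul, zero_mul, add_zero] at hr
    exact sub_eq_zero.1 ((IsReduced.component_reduced (g₁ ⁻¹ᵁ U)).eq_zero _
      ⟨p, add_right_cancel (b := b ^ p) (hr.symm.trans (hs.trans (zero_add _).symm))⟩)
  rw [key, ← CommRingCat.comp_apply, ← CategoryTheory.Functor.map_comp]
  simp


/-- Let p be a prime and S a reduced scheme on which p = 0 whose absolute Frobenius is flat; let Y be a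
reduced S-scheme with structure map a, Z an S-scheme with structure map b, and g₁, g₂ : Y ⟶ Z two
S-morphisms. For i = 1, 2 let h_i : Y ⟶ Z^(p) be the relative Frobenius F_{Y/S} : Y ⟶ Y^(p) followed
by the base change Y^(p) ⟶ Z^(p) of g_i along the absolute Frobenius of S. If h₁ = h₂, then g₁ = g₂.
(The published statement works over the reduced special fibre of a flat formal scheme of finite type
over the Witt vectors of a perfect field; only reducedness of S and flatness of its absolute
Frobenius are kept here.) -/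
theorem result (p : ℕ) [Fact p.Prime]
    {Y Z S : Scheme.{u}} [FrobSch.IsCharP S p] [IsReduced S] [Flat (FrobSch.frob S p)]
    [IsReduced Y] (a : Y ⟶ S) (b : Z ⟶ S) (g₁ g₂ : Y ⟶ Z) (hg₁ : g₁ ≫ b = a) (hg₂ : g₂ ≫ b = a)
    (h : FrobSch.relFrob a p ≫ pullback.map a (FrobSch.frob S p) b (FrobSch.frob S p) g₁ (𝟙 S) (𝟙 S)
        ((Category.comp_id a).trans hg₁.symm) ((Category.comp_id _).trans (Category.id_comp _).symm) =
      FrobSch.relFrob a p ≫ pullback.map a (FrobSch.frob S p) b (FrobSch.frob S p) g₂ (𝟙 S) (𝟙 S)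
        ((Category.comp_id a).trans hg₂.symm) ((Category.comp_id _).trans (Category.id_comp _).symm)) :
    g₁ = g₂ := by
  haveI : FrobSch.IsCharP Y p := FrobSch.IsCharP.of_hom a p
  refine frob_cancel p ?_
  have h' := congrArg (· ≫ pullback.fst b (FrobSch.frob S p)) h
  simp only [Category.assoc, pullback.lift_fst, pullback.map] at h'
  rwa [FrobSch.relFrob_fst_assoc, FrobSch.relFrob_fst_assoc] at h' 

end Groth.Agent.S16482
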