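import Groth.Statements.S16483
import Mathlib

set_option autoImplicit false
open CategoryTheory CategoryTheory.Limits AlgebraicGeometry
universe u
open FrobSch

namespace Groth.Agent.S16483

open AlgebraicGeometry CategoryTheory CategoryTheory.Limits

theorem frobIter_app_eq_zero (X : Scheme.{u}) (p : ℕ) [Fact p.Prime] [FrobSch.IsCharP X p] :
    ∀ (n : ℕ) (U : X.Opens) (s : Γ(X, U)), (FrobSch.frobIter X p n).app U s = 0 ↔ s ^ (p ^ n) = 0
  | 0, U, s => by
    change s = 0 ↔ _
    rw [pow_zero, pow_one]
  | n + 1, U, s => by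
    change ((FrobSch.frobIter X p n).app U s) ^ p = 0 ↔ _
    rw [← map_pow, frobIter_app_eq_zero X p n U (s ^ p), ← pow_mul, pow_succ']

theorem quasiCompact_frob (X : Scheme.{u}) (p : ℕ) [Fact p.Prime] [FrobSch.IsCharP X p] :
    QuasiCompact (FrobSch.frob X p) :=
  ⟨fun _ _ hU => hU⟩

theorem quasiCompact_frobIter (X : Scheme.{u}) (p : ℕ) [Fact p.Prime] [FrobSch.IsCharP X p] :
    ∀ n : ℕ, QuasiCompact (FrobSch.frobIter X p n)
  | 0 => by rw [FrobSch.frobIter_zero]; infer_instance
  | n + 1 => by
    haveI := quasiCompact_frobIter X p n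
    haveI := quasiCompact_frob X p
    rw [FrobSch.frobIter_succ]
    infer_instance

theorem ker_le (T : Scheme.{u}) (p : ℕ) [Fact p.Prime] [FrobSch.IsCharP T p] (n : ℕ) :
    (FrobSch.frobIter T p (n + 1)).ker.subschemeι.ker ≤
      ((FrobSch.frobIter T p n).ker.subschemeι ≫ FrobSch.frob T p).ker := by
  haveI := quasiCompact_frob T p
  haveI := quasiCompact_frobIter T p n
  haveI := quasiCompact_frobIter T p (n + 1)
  intro U x hx
  rw [Scheme.IdealSheafData.ker_subschemeι, Scheme.Hom.ker_apply, RingHom.mem_ker] at hx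
  replace hx := (frobIter_app_eq_zero T p (n + 1) U x).1 hx
  rw [pow_succ', pow_mul] at hx
  have h : x ^ p ∈ (FrobSch.frobIter T p n).ker.subschemeι.ker.ideal U := by
    rw [Scheme.IdealSheafData.ker_subschemeι, Scheme.Hom.ker_apply, RingHom.mem_ker]
    exact (frobIter_app_eq_zero T p n U (x ^ p)).2 hx
  rw [Scheme.Hom.ker_apply, RingHom.mem_ker] at h ⊢
  rw [Scheme.Hom.comp_app]
  exact h


/-- Let p be a prime, k a perfect field of characteristic p, T a k-scheme and X a k-scheme with
Frobenius twist X^(p) = X ×_{Spec k, F} Spec k and relative Frobenius F_{X/k} : X ⟶ X^(p). For m ≥ 0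
write T^(m) for the closed subscheme of T cut out by the sections whose p^m-th power vanishes (the
scheme-theoretic image of the m-fold absolute Frobenius F_T^m), and T_0 for the reduced closed
subscheme of T; the inclusions T_0 ⟶ T^(n+1) and T_0 ⟶ T^(n) over T are the given morphisms i and j.
Then for every k-morphism w : T^(n+1) ⟶ X there is a k-morphism v : T^(n) ⟶ X^(p) whose restriction
to T_0 is F_{X/k} composed with the restriction of w to T_0. (The published statement takes T to be
the special fibre of a flat p-adic formal scheme of finite type over the Witt vectors of k, is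
phrased for categories of such objects, and takes X locally of finite type over k; none of this is
used, so T and X are arbitrary k-schemes here.) -/
theorem result (p : ℕ) [Fact p.Prime]
    (k : Type u) [Field k] [CharP k p] [PerfectField k] (n : ℕ)
    {T X : Scheme.{u}} [FrobSch.IsCharP T p] (t : T ⟶ Spec (CommRingCat.of k))
    (x : X ⟶ Spec (CommRingCat.of k))
    (i : T.nilradical.subscheme ⟶ (FrobSch.frobIter T p (n + 1)).ker.subscheme)
    (hi : i ≫ (FrobSch.frobIter T p (n + 1)).ker.subschemeι = T.nilradical.subschemeι)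
    (j : T.nilradical.subscheme ⟶ (FrobSch.frobIter T p n).ker.subscheme)
    (hj : j ≫ (FrobSch.frobIter T p n).ker.subschemeι = T.nilradical.subschemeι)
    (w : (FrobSch.frobIter T p (n + 1)).ker.subscheme ⟶ X)
    (hw : w ≫ x = (FrobSch.frobIter T p (n + 1)).ker.subschemeι ≫ t) :
    ∃ v : (FrobSch.frobIter T p n).ker.subscheme ⟶ FrobSch.frobTwist x p,
      v ≫ pullback.snd x (FrobSch.frob (Spec (CommRingCat.of k)) p) =
          (FrobSch.frobIter T p n).ker.subschemeι ≫ t ∧
        j ≫ v = i ≫ w ≫ FrobSch.relFrob x p := by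
  classical
  let ι₁ := (FrobSch.frobIter T p (n + 1)).ker.subschemeι
  let ι₀ := (FrobSch.frobIter T p n).ker.subschemeι
  haveI : FrobSch.IsCharP X p := FrobSch.IsCharP.of_hom x p
  haveI : FrobSch.IsCharP (FrobSch.frobIter T p n).ker.subscheme p := FrobSch.IsCharP.of_hom ι₀ p
  haveI : FrobSch.IsCharP (FrobSch.frobIter T p (n + 1)).ker.subscheme p := FrobSch.IsCharP.of_hom ι₁ p
  haveI : FrobSch.IsCharP T.nilradical.subscheme p := FrobSch.IsCharP.of_hom T.nilradical.subschemeι p
  let φ := IsClosedImmersion.lift ι₁ (ι₀ ≫ FrobSch.frob T p) (ker_le T p n)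
  have hφ : φ ≫ ι₁ = ι₀ ≫ FrobSch.frob T p := IsClosedImmersion.lift_fac _ _ _
  have hv : (φ ≫ w) ≫ x = (ι₀ ≫ t) ≫ FrobSch.frob (Spec (CommRingCat.of k)) p := by
    rw [Category.assoc, hw, reassoc_of% hφ, Category.assoc, FrobSch.frob_comp]
  refine ⟨pullback.lift (φ ≫ w) (ι₀ ≫ t) hv, pullback.lift_snd _ _ _, ?_⟩
  have hjφ : j ≫ φ = i ≫ FrobSch.frob _ p := by
    rw [← cancel_mono ι₁, Category.assoc, hφ, reassoc_of% hj, Category.assoc, FrobSch.frob_comp, reassoc_of% hi]
  refine pullback.hom_ext ?_ ?_
  · rw [Category.assoc, pullback.lift_fst, reassoc_of% hjφ, Category.assoc, Category.assoc, FrobSch.relFrob_fst,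
      FrobSch.frob_comp (p := p) (f := w)]
  · rw [Category.assoc, pullback.lift_snd, reassoc_of% hj, Category.assoc, Category.assoc, FrobSch.relFrob_snd,
      hw, reassoc_of% hi]

end Groth.Agent.S16483
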