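import Groth.Statements.S16486
import Groth.Agent.QGorUnit.Hartogs
import Groth.Agent.QCohMod.Category
import Groth.Agent.QCohMod.FiniteType
import Groth.Agent.QCohMod.SupportPullback
import Groth.Agent.RefRank.Stalk
import Groth.Agent.CohTwo.Extend

set_option autoImplicit false
set_option linter.style.haveILetI false
universe u
open CategoryTheory AlgebraicGeometry
open SGA3

namespace Groth.Agent.S16486

/-- A module squeezed between quasi-coherent modules by an epi and a mono is quasi-coherent. -/
theorem isQCoh_of_epi_mono {X : Scheme.{u}} {G M N : X.Modules} [hG : G.IsQuasicoherent] [N.IsQuasicoherent]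
    (p : G ⟶ M) [hp : Epi p] (m : M ⟶ N) [Mono m] : M.IsQuasicoherent := by
  haveI : StrongEpi p := strongEpi_of_epi p
  exact (Groth.QCohMod.isQCoh_iff_of_iso
    (Limits.image.isoStrongEpiMono p m rfl ≪≫ (Abelian.imageIsoImage (p ≫ m)).symm)).2
    (Groth.QCohMod.isQCoh_image (p ≫ m))

/-- A finite type submodule of a quasi-coherent module is quasi-coherent. -/
theorem isQCoh_of_mono_of_isFT {X : Scheme.{u}} {A F : X.Modules} [A.IsQuasicoherent] (ι : F ⟶ A) [Mono ι]
    (hF : CohB1.IsFT F) : F.IsQuasicoherent := by
  refine Groth.QCohMod.isQCoh_of_forall_exists F fun x => ?_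
  obtain ⟨V, hx, G, -⟩ := Groth.QCohMod.exists_generators_of_isFT F hF x
  refine ⟨V, hx, ?_⟩
  haveI : (A.restrict V.ι).IsQuasicoherent := inferInstance
  let m : F.restrict V.ι ⟶ A.restrict V.ι := (Scheme.Modules.restrictFunctor V.ι).map ι
  haveI : Mono m := Groth.CohTwo.mono_restrictMap V.ι ι
  exact isQCoh_of_epi_mono (X := (V : Scheme.{u})) (hG := Groth.QCohMod.isQCoh_free (V : Scheme.{u}) G.I)
    G.π (hp := G.epi) m

/-- Over a normal Noetherian local ring of dimension at most one, a submodule of a flat module is flat. -/
theorem flat_of_injective {R : Type u} [CommRing R] [IsLocalRing R] [IsDomain R] [IsIntegrallyClosed R]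
    [IsNoetherianRing R] (hd : ringKrullDim R ≤ 1) {M N : Type u} [AddCommGroup M] [Module R M]
    [AddCommGroup N] [Module R N] [Module.Flat R N] (f : M →ₗ[R] N) (hf : Function.Injective f) :
    Module.Flat R M := by
  haveI : Ring.KrullDimLE 1 R := Ring.krullDimLE_iff.2 hd
  haveI : Ring.DimensionLEOne R := ⟨fun hp h => h.isMaximal_of_ne_bot hp⟩
  haveI : IsDedekindRing R := { }
  haveI : IsDedekindDomain R := { }
  haveI : Module.IsTorsionFree R M := hf.moduleIsTorsionFree f f.map_smul
  infer_instance

/-- Let S be a Noetherian normal scheme, A a flat quasi-coherent O_S-module, F ⊆ A a sub-O_S-module of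
finite type, and U ⊆ S the set of points s at which the stalk F_s is a flat O_{S,s}-module (the
flatness locus of F, which is open); write j : U → S for the inclusion of the corresponding open
subscheme. Then the bidual F^** = 𝓗om(𝓗om(F, O_S), O_S) is identified with j_* j^* F: there is an
isomorphism F^** ≅ j_*(F|_U) whose composite with the canonical map F → F^** is the unit F → j_* j^*
F of the adjunction between restriction to U and direct image (such an isomorphism is unique). The
openness of U is taken as part of the hypothesis that U is an open with this underlying set. -/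
theorem result (S : Scheme.{u}) [IsNoetherian S]
    (hS : Pi1.IsNormalScheme S) (A F : S.Modules) (hA : Coh.IsQCoh A) (hAfl : FlatMod.IsFlat A)
    (ι : F ⟶ A) [Mono ι] (hF : CohB1.IsFT F) (U : S.Opens) (hU : (U : Set S) = {s : S | FlatMod.IsFlatAt F s}) :
    ∃ e : RefHull.ddual F ≅ (Scheme.Modules.pushforward U.ι).obj (F.restrict U.ι),
      RefHull.bidualMap F ≫ e.hom = (Scheme.Modules.restrictAdjunction U.ι).unit.app F := by
  haveI : A.IsQuasicoherent := hA
  have hFq := isQCoh_of_mono_of_isFT ι hF
  have hFc : Coh.IsCoh F := ⟨hFq, hF⟩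
  have hdepth : ∀ x : S, x ∉ U →
      (2 : ℕ∞) ≤ LocCoh.depth (S.presheaf.stalk x) (S.presheaf.stalk x) := fun x hx => by
    haveI := (hS x).1
    haveI := (hS x).2
    have h1 := Groth.Misc14.NormalTotal.min_two_le_depth_of_normal (R := S.presheaf.stalk x)
    rcases le_or_gt (ringKrullDim (S.presheaf.stalk x)) 1 with hd | hd
    · refine absurd ?_ hx
      change x ∈ (U : Set S)
      rw [hU]
      haveI : Module.Flat (S.presheaf.stalk x) (A.presheaf.stalk x) := hAfl x
      refine flat_of_injective hd (RefHull.stalkMapₗ ι x) ?_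
      exact TopCat.Presheaf.stalkFunctor_map_injective_of_app_injective (f := ι.mapPresheaf)
        (fun W => Groth.CohTwo.app_injective ι W) x
    · have hd2 : (2 : WithBot ℕ∞) ≤ ringKrullDim (S.presheaf.stalk x) := Order.succ_le_of_lt hd
      rw [min_eq_left hd2] at h1
      exact WithBot.coe_le_coe.1 h1
  haveI := Groth.QGorUnit.isIso_unit_ddual hdepth F
  haveI : IsIso ((Scheme.Modules.restrictFunctor U.ι).map (RefHull.bidualMap F)) := by
    refine RhoShLib.isIso_restrict_of_stalk _ U fun x hx => (RefRank.bijective_bidual_iff hFc x).2 ?_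
    haveI : Module.Flat (S.presheaf.stalk x) (F.presheaf.stalk x) := by
      have : x ∈ (U : Set S) := hx
      rwa [hU] at this
    haveI : Module.Finite (S.presheaf.stalk x) (F.presheaf.stalk x) := by
      haveI := hFq
      exact QCohMod.finite_stalk F hF x
    haveI : Module.Free (S.presheaf.stalk x) (F.presheaf.stalk x) := Module.free_of_flat_of_isLocalRing
    change Module.IsReflexive _ _
    infer_instance
  refine ⟨asIso ((Scheme.Modules.restrictAdjunction U.ι).unit.app (RefHull.ddual F)) ≪≫
    (Scheme.Modules.pushforward U.ι).mapIso (asIso ((Scheme.Modules.restrictFunctor U.ι).map (RefHull.bidualMap F))).symm, ?_⟩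
  have hn := (Scheme.Modules.restrictAdjunction U.ι).unit.naturality (RefHull.bidualMap F)
  simp only [Functor.id_map, Functor.comp_map] at hn
  rw [Iso.trans_hom, asIso_hom, ← Category.assoc, hn, Category.assoc, Functor.mapIso_hom, Iso.symm_hom,
    ← Functor.map_comp, asIso_inv, IsIso.hom_inv_id, CategoryTheory.Functor.map_id]
  exact Category.comp_id _

end Groth.Agent.S16486
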