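import Groth.Statements.S16488
import Groth.Agent.VectorBundles.RefHullStalk
import Groth.Agent.VectorBundles.ReflexiveRegular

set_option autoImplicit false
universe u
open CategoryTheory CategoryTheory.Limits AlgebraicGeometry TopologicalSpace
open VBPn

namespace Groth.Agent.S16488

/-- Let X be an integral locally Noetherian scheme all of whose local rings are regular, and F a
coherent O_X-module which is reflexive, i.e. the canonical map F → F^** is an isomorphism. Then the
singularity set of F (the set of points at which the stalk of F is not free) has codimension at
least 3: for every point x such that F_x is not a free O_{X,x}-module, the local ring O_{X,x} has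
dimension at least 3. The published statement is for reflexive coherent analytic sheaves on a
complex manifold; this row is its statement for coherent sheaves on a regular integral locally
Noetherian scheme, where the same argument (a reflexive sheaf is locally a second syzygy sheaf)
applies. -/
theorem result (X : Scheme.{u}) [IsIntegral X] [IsLocallyNoetherian X]
    (hreg : ∀ x : X, IsRegularLocalRing (X.presheaf.stalk x)) (F : X.Modules) (hF : Coh.IsCoh F)
    (hrefl : RefHull.IsReflexive F) (x : X) (hx : ¬ Module.Free (X.presheaf.stalk x) (F.presheaf.stalk x)) :
    (3 : WithBot ℕ∞) ≤ ringKrullDim (X.presheaf.stalk x) := by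
  by_contra hlt
  have := hreg x
  have : Module.IsReflexive (X.presheaf.stalk x) (F.presheaf.stalk x) :=
    (Groth.VectorBundles.RefHullStalk.isReflexive_iff_forall_stalk F hF).1 hrefl x
  obtain ⟨U, hxU, ι, _, s, -, -, -, hs, -⟩ := Groth.VectorBundles.RefHullStalk.exists_data F hF x
  have : Module.Finite (X.presheaf.stalk x) (F.presheaf.stalk x) :=
    Module.finite_def.2 (hs x hxU ▸ Submodule.fg_span (Set.finite_range _))
  refine hx (Groth.VectorBundles.free_of_isReflexive_of_dim_le_two ?_ _)
  have h := (hreg x).spanFinrank_maximalIdeal
  rw [← h] at hlt ⊢
  have h3 : ¬ 3 ≤ (IsLocalRing.maximalIdeal (X.presheaf.stalk x)).spanFinrank := fun h3 =>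
    hlt (by exact_mod_cast h3)
  exact_mod_cast Nat.le_of_lt_succ (not_le.1 h3)

end Groth.Agent.S16488
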