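import Groth.Statements.S1649
import Groth.Agent.ResolveSurf.RationalDescend
import Groth.Agent.S1274
-- import your own Groth.Agent.* helpers here

set_option autoImplicit false
set_option backward.isDefEq.respectTransparency.types false
set_option linter.style.haveILetI false
universe u
open CategoryTheory CategoryTheory.Limits AlgebraicGeometry
open Resolve

namespace Groth.Agent.S1649

open Groth.BlowUpBasics Groth.ResolveSurf.RationalDescend

/-- An algebra essentially of finite type with the same fractions is a localisation of a chart of a blow-up. -/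
theorem exists_chart {A B : Type u} [CommRing A] [CommRing B] [IsDomain A] [IsDomain B] [Algebra A B]
    (hinj : Function.Injective (algebraMap A B)) [Algebra.EssFiniteType A B]
    (hfrac : ∀ b : B, ∃ a a' : A, a' ≠ 0 ∧ algebraMap A B a' * b = algebraMap A B a) :
    ∃ (I : Ideal A) (d : I) (ψ : BlowUp.affineAlgebra A I (d : A) →+* B),
      (d : A) ≠ 0 ∧ ψ.comp (algebraMap A _) = algebraMap A B ∧ Function.Injective ψ ∧
      ∀ b : B, ∃ x y, IsUnit (ψ y) ∧ b * ψ y = ψ x := by
  classical
  let σ := Algebra.EssFiniteType.finset A B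
  choose a a' ha' haa using hfrac
  let d₀ : A := ∏ b ∈ σ, a' b
  have hd₀ : d₀ ≠ 0 := Finset.prod_ne_zero_iff.2 fun b _ => ha' b
  let num : B → A := fun b => a b * ∏ c ∈ σ.erase b, a' c
  have hnum : ∀ b ∈ σ, algebraMap A B d₀ * b = algebraMap A B (num b) := fun b hb => by
    change algebraMap A B (∏ c ∈ σ, a' c) * b = algebraMap A B (a b * ∏ c ∈ σ.erase b, a' c)
    rw [← Finset.mul_prod_erase _ _ hb, map_mul, map_mul, ← haa b]
    ring
  let I : Ideal A := Ideal.span (insert d₀ (num '' (σ : Set B)))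
  have hdI : d₀ ∈ I := Ideal.subset_span (Set.mem_insert _ _)
  have hnzd : algebraMap A B d₀ ∈ nonZeroDivisors B :=
    mem_nonZeroDivisors_of_ne_zero ((map_ne_zero_iff _ hinj).2 hd₀)
  obtain ⟨ψ, hψ⟩ := exists_ringHom_lift (I := I) (a := d₀) (algebraMap A B) hnzd (by
    rw [Ideal.map_span, Ideal.span_le]
    rintro _ ⟨r, hr | ⟨b, hb, rfl⟩, rfl⟩
    · exact hr ▸ Ideal.mem_span_singleton_self _
    · exact Ideal.mem_span_singleton'.2 ⟨b, by rw [mul_comm]; exact hnum b hb⟩)
  have hψ' : ∀ r, ψ (algebraMap A _ r) = algebraMap A B r := fun r => RingHom.congr_fun hψ r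
  refine ⟨I, ⟨d₀, hdI⟩, ψ, hd₀, hψ, (injective_iff_map_eq_zero _).2 fun z hz => ?_, fun b => ?_⟩
  · obtain ⟨n, r, hr⟩ := IsLocalization.Away.surj d₀ (z : Localization.Away d₀)
    have hr' : z * algebraMap A _ (d₀ ^ n) = algebraMap A _ r := Subtype.ext (by simpa using hr)
    have h1 := congrArg ψ hr'
    rw [map_mul, hz, zero_mul, hψ'] at h1
    have h2 : r = 0 := hinj (by rw [← h1, map_zero])
    rw [h2, map_zero, map_pow] at hr'
    exact (mul_right_mem_nonZeroDivisors_eq_zero_iff (pow_mem (algebraMap_self_mem_nonZeroDivisors (I := I) (a := d₀)) n)).1 hr'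
  · have hsub : ∀ t ∈ Algebra.adjoin A (σ : Set B), t ∈ ψ.range := fun t ht => by
      induction ht using Algebra.adjoin_induction with
      | mem t ht =>
        refine ⟨frac I d₀ (num t) (Ideal.subset_span (Set.mem_insert_of_mem _ ⟨t, ht, rfl⟩)), ?_⟩
        have h1 := congrArg ψ (frac_mul_algebraMap (I := I) (a := d₀) (num t)
          (Ideal.subset_span (Set.mem_insert_of_mem _ ⟨t, ht, rfl⟩)))
        rw [map_mul, hψ', hψ', ← hnum t ht, mul_comm (algebraMap A B d₀) t] at h1
        exact mul_right_cancel₀ ((map_ne_zero_iff _ hinj).2 hd₀) h1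
      | algebraMap r => exact ⟨_, hψ' r⟩
      | add x y _ _ hx hy => exact add_mem hx hy
      | mul x y _ _ hx hy => exact mul_mem hx hy
    obtain ⟨⟨⟨x, hx⟩, ⟨⟨y, hy⟩, hyu⟩⟩, hxy⟩ :=
      IsLocalization.surj (Algebra.EssFiniteType.submonoid A B) b
    obtain ⟨x', rfl⟩ := hsub x hx
    obtain ⟨y', rfl⟩ := hsub y hy
    exact ⟨x', y', hyu, hxy⟩


/-- Let A be a local normal Nagata domain of dimension two defining a rational singularity, and B a
normal two-dimensional local domain containing A, with A → B local, essentially of finite type and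
inducing an equality of fraction fields. Then B defines a rational singularity. -/
theorem result (A B : Type u) [CommRing A] [CommRing B] [IsDomain A] [IsDomain B]
    [IsLocalRing A] [IsLocalRing B] [IsNoetherianRing A] [IsIntegrallyClosed A] (hN : CAlg.IsNagata A) (hdimA : ringKrullDim A = 2)
    (hA : Curv2.IsRationalSing A) [Algebra A B] [IsLocalHom (algebraMap A B)] (hinj : Function.Injective (algebraMap A B))
    [Algebra.EssFiniteType A B] (hfrac : ∀ b : B, ∃ a a' : A, a' ≠ 0 ∧ algebraMap A B a' * b = algebraMap A B a)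
    [IsIntegrallyClosed B] (hdimB : ringKrullDim B = 2) : Curv2.IsRationalSing B := by
  intro Y f hfp hYi hYn hmod
  haveI := hfp
  haveI := hYi
  haveI : IsNoetherianRing B := Algebra.EssFiniteType.isNoetherianRing A B
  obtain ⟨I, d, ψ, hd0, hψ, hψinj, hψloc⟩ := exists_chart hinj hfrac
  obtain ⟨U, hU, hiso⟩ := hmod
  haveI := hiso
  let S : Scheme.{u} := Spec (CommRingCat.of B)
  obtain ⟨𝓙, S', bJ, hbJ, hadm, h0, h0f⟩ :=
    Groth.Agent.S1274.result f U (TopologicalSpace.NoetherianSpace.isCompact _)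
  let J₀ : Ideal B := (𝓙.ideal ⟨⊤, isAffineOpen_top _⟩).comap (Scheme.ΓSpecIso (CommRingCat.of B)).inv.hom
  have hJ : sheafOf J₀ = 𝓙 := Scheme.IdealSheafData.ext_of_isAffine ((sheafOf_ideal_top J₀).trans
    (Ideal.map_comap_of_surjective _ (ConcreteCategory.bijective_of_isIso
      (Scheme.ΓSpecIso (CommRingCat.of B)).inv).2 _))
  have hJ0 : J₀ ≠ ⊥ := fun h => by
    obtain ⟨s, hs⟩ := hU
    refine Set.disjoint_left.1 hadm.2 ?_ hs
    rw [← hJ, SetLike.mem_coe, mem_support_sheafOf, h]
    exact bot_le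
  -- contract the centre to the chart and to `A`
  obtain ⟨G, hG⟩ := IsNoetherian.noetherian J₀
  choose xC yC hyC hxy using hψloc
  let JC : Ideal (BlowUp.affineAlgebra A I (d : A)) := Ideal.span (xC '' (G : Set B))
  have hJC : JC.map ψ = J₀ := by
    rw [Ideal.map_span, ← hG, ← Set.image_comp]
    refine le_antisymm (Ideal.span_le.2 ?_) (Ideal.span_le.2 fun g hg => ?_)
    · rintro _ ⟨g, hg, rfl⟩
      change ψ (xC g) ∈ Ideal.span (G : Set B)
      rw [← hxy g]
      exact Ideal.mul_mem_right _ _ (Ideal.subset_span hg)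
    · obtain ⟨v, hv⟩ := (hyC g).exists_right_inv
      have : g = ψ (xC g) * v := by rw [← hxy g, mul_assoc, hv, mul_one]
      rw [SetLike.mem_coe, this]
      exact Ideal.mul_mem_right _ _ (Ideal.subset_span ⟨g, hg, rfl⟩)
  choose nC aC haC using fun x : BlowUp.affineAlgebra A I (d : A) =>
    IsLocalization.Away.surj (d : A) (x : Localization.Away (d : A))
  let N : ℕ := G.sup fun g => nC (xC g)
  let num : B → A := fun g => aC (xC g) * (d : A) ^ (N - nC (xC g))
  have hnum : ∀ g ∈ G, xC g * algebraMap A _ ((d : A) ^ N) = algebraMap A _ (num g) := fun g hg => by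
    have hle : nC (xC g) ≤ N := Finset.le_sup (f := fun g => nC (xC g)) hg
    have h1 : xC g * algebraMap A _ ((d : A) ^ nC (xC g)) = algebraMap A _ (aC (xC g)) :=
      Subtype.ext (by simpa using haC (xC g))
    change _ = algebraMap A _ (aC (xC g) * (d : A) ^ (N - nC (xC g)))
    rw [map_mul, ← h1, mul_assoc, ← map_mul, ← pow_add, Nat.add_sub_cancel' hle]
  let JA : Ideal A := Ideal.span (num '' (G : Set B))
  have hJA : JA.map (algebraMap A (BlowUp.affineAlgebra A I (d : A))) =
      Ideal.span {algebraMap A _ ((d : A) ^ N)} * JC := by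
    rw [Ideal.map_span, ← Set.image_comp, Ideal.span_mul_span', Set.singleton_mul, ← Set.image_comp]
    congr 1
    exact Set.image_congr fun g hg => by
      change algebraMap A _ (num g) = _ * xC g
      rw [← hnum g hg, mul_comm]
  have hK : I * JA ≠ ⊥ := by
    rw [Ne, Ideal.mul_eq_bot]
    rintro (h | h)
    · exact hd0 (Ideal.mem_bot.1 (h ▸ d.2))
    · have h1 : Ideal.span {algebraMap A (BlowUp.affineAlgebra A I (d : A)) ((d : A) ^ N)} * JC = ⊥ := by
        rw [← hJA, h, Ideal.map_bot]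
      rcases Ideal.mul_eq_bot.1 h1 with h2 | h2
      · rw [Ideal.span_singleton_eq_bot] at h2
        have h3 := congrArg ψ h2
        rw [map_zero, ← RingHom.comp_apply, hψ, map_eq_zero_iff _ hinj] at h3
        exact hd0 (eq_zero_of_pow_eq_zero h3)
      · exact hJ0 (by rw [← hJC, h2, Ideal.map_bot])
  obtain ⟨X, g, hgp, hXi, hXn, hbirA, hC⟩ := exists_normal_modification hN (I * JA) hK
  haveI := hgp
  haveI := hXi
  rw [show (sheafOf (I * JA)).comap g = (sheafOf I).comap g * (sheafOf JA).comap g by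
    rw [sheafOf_mul, Groth.Divisors.comap_mul]] at hC
  obtain ⟨hCI, hCJ⟩ := Groth.Divisors.isEffCartierIdeal_factors hC
  -- the blow-up of `I` and the part of `X` over its chart
  have hI0 : I ≠ ⊥ := fun h => hd0 (Ideal.mem_bot.1 (h ▸ d.2))
  let X₁ := Proj (Rees.deg (reesAlgebra I))
  let b := projBase I
  let T : Atlas I b := projAtlas I
  have hb : BlowUp.IsBlowUp b (sheafOf I) := isBlowUp_projBase I
  haveI : IsProper b := Groth.HTopHyper.isProper_projBase (IsNoetherian.noetherian I)
  obtain ⟨h, hh, -⟩ := hb.2 X g hCI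
  haveI : IsProper h := by
    haveI : IsProper (h ≫ b) := hh ▸ hgp
    exact IsProper.of_comp h b
  haveI := T.isOpenImmersion d
  let P : Scheme.{u} := pullback h (T.j d)
  let π₁ : P ⟶ X := pullback.fst h (T.j d)
  let π₂ : P ⟶ Spec (CommRingCat.of (BlowUp.affineAlgebra A I (d : A))) := pullback.snd h (T.j d)
  have w : π₁ ≫ g = π₂ ≫ chartBase I (d : A) := by
    rw [← T.fac, ← hh, pullback.condition_assoc]
  have hP1 : Subsingleton (Coh.HH P (Coh.structureModule P) 1) :=
    subsingleton_H1_chart hN hdimA hA g hXn hbirA hCI T d h hh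
  have hCP : BlowUp.IsEffCartierIdeal ((sheafOf JC).comap π₂) := by
    have h1 := isEffCartierIdeal_comap_of_flat π₁ hCJ
    rw [← Scheme.IdealSheafData.comap_comp, w, Scheme.IdealSheafData.comap_comp, chartBase,
      comap_sheafOf_Spec, hJA, sheafOf_mul, Groth.Divisors.comap_mul] at h1
    exact (Groth.Divisors.isEffCartierIdeal_factors h1).2
  -- birationality
  obtain ⟨U₀, hU₀, hgU₀⟩ := hbirA
  let UI : (Spec (CommRingCat.of A)).Opens := ⟨((sheafOf I).support : Set _)ᶜ, (sheafOf I).support.isClosed.isOpen_compl⟩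
  have hsI : sheafOf I ≠ ⊥ := fun h => hI0 (by
    refine le_bot_iff.mp (sheafOf_le_iff.mp ?_)
    rw [h]
    exact bot_le)
  let U₁ : (Spec (CommRingCat.of A)).Opens := U₀ ⊓ UI
  have hη₁ : genericPoint (Spec (CommRingCat.of A)) ∈ U₁ :=
    ⟨((genericPoint_spec _).mem_open_set_iff U₀.2).2 (by simpa using hU₀),
      Groth.ArSurfBasics.CartierPart.genericPoint_notMem hsI⟩
  haveI hgU₁ : IsIso (g ∣_ U₁) := Groth.ArSurfBasics.Principalization.isIso_restrict_mono g inf_le_left
  haveI : IsIso (b ∣_ U₁) := isIso_morphismRestrict hb U₁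
    (disjoint_compl_right.mono_right (inf_le_right : U₁ ≤ UI))
  haveI : IsIso (h ∣_ (b ⁻¹ᵁ U₁)) := by
    have h1 : IsIso ((h ≫ b) ∣_ U₁) := by rw [hh]; exact hgU₁
    rw [morphismRestrict_comp] at h1
    exact @IsIso.of_isIso_comp_right _ _ _ _ _ _ (b ∣_ U₁) inferInstance h1
  let V := (T.j d) ⁻¹ᵁ (b ⁻¹ᵁ U₁)
  have hπ₂V : IsIso (π₂ ∣_ V) := isIso_restrict_of_isPullback (IsPullback.of_hasPullback h (T.j d)) (b ⁻¹ᵁ U₁)
  -- the generic point lies in `V`
  haveI : IsDomain (BlowUp.affineAlgebra A I (d : A)) := Function.Injective.isDomain ψ hψinj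
  haveI : IsDomain (CommRingCat.of (BlowUp.affineAlgebra A I (d : A))) := Function.Injective.isDomain ψ hψinj
  have hηV : genericPoint (Spec (CommRingCat.of (BlowUp.affineAlgebra A I (d : A)))) ∈ V := by
    obtain ⟨hint, hbgen, -⟩ := Groth.Agent.S2348.result _ hsI b hb
    haveI := hint
    refine ((genericPoint_spec _).mem_open_set_iff V.2).2 ?_
    have h1 : genericPoint X₁ ∈ b ⁻¹ᵁ U₁ := show b _ ∈ U₁ from hbgen ▸ hη₁
    obtain ⟨c, hc⟩ : genericPoint X₁ ∈ Set.range (T.j d) :=
      ((genericPoint_spec X₁).mem_open_set_iff (T.j d).opensRange.2).2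
        ⟨T.j d (genericPoint (Spec (CommRingCat.of (BlowUp.affineAlgebra A I (d : A))))), trivial,
          Set.mem_range_self _⟩
    exact ⟨c, trivial, show T.j d c ∈ b ⁻¹ᵁ U₁ from hc ▸ h1⟩
  haveI := hπ₂V
  obtain ⟨c₀, hc₀⟩ := (π₂ ∣_ V).surjective ⟨_, hηV⟩
  haveI : Nonempty P := ⟨c₀.1⟩
  haveI : IsIntegral P := isIntegral_of_isOpenImmersion π₁
  haveI : IsProper π₂ := MorphismProperty.pullback_snd _ _ ‹IsProper h›
  exact subsingleton_H1_of_localization ψ hψinj (fun b => ⟨xC b, yC b, hyC b, hxy b⟩) π₂ V hηV hP1 JC hCP f hYn U hU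
    bJ h0 h0f (by rw [hJC, hJ]; exact hbJ)

end Groth.Agent.S1649
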