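import Groth.Statements.S16490
import Groth.Agent.RefRank.Normality

set_option autoImplicit false
universe u
open CategoryTheory CategoryTheory.Limits AlgebraicGeometry TopologicalSpace
open VBPn

namespace Groth.Agent.S16490

/-- Let X be an integral locally Noetherian scheme all of whose local rings are regular, and let 0 → F →
E → Q → 0 be a short exact sequence of coherent O_X-modules in which E is reflexive (the canonical
map E → E^** is an isomorphism) and Q is torsion-free (every stalk Q_x is a torsion-free
O_{X,x}-module). Then F is normal: for all open subsets V ⊆ U of X such that every point of U not in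
V has local ring of dimension at least 2, the restriction map F(U) → F(V) is bijective. The
published statement is for coherent analytic sheaves on a complex manifold, a sheaf being called
normal when for every open U and every analytic subset A ⊆ U of codimension at least 2 the
restriction F(U) → F(U ∖ A) is bijective; this row is its statement for coherent sheaves on a
regular integral locally Noetherian scheme, with normality phrased through open subsets V ⊆ U whose
complement in U consists of points with local ring of dimension at least 2, where the same argument
applies. -/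
theorem result (X : Scheme.{u}) [IsIntegral X] [IsLocallyNoetherian X]
    (hreg : ∀ x : X, IsRegularLocalRing (X.presheaf.stalk x)) (S : ShortComplex X.Modules) (hS : S.ShortExact)
    (hF : Coh.IsCoh S.X₁) (hE : Coh.IsCoh S.X₂) (hQ : Coh.IsCoh S.X₃)
    (hErefl : RefHull.IsReflexive S.X₂) (hQtf : TorSh.IsTorsionFree S.X₃) :
    (∀ (U V : X.Opens) (hVU : V ≤ U), (∀ x : X, x ∈ U → x ∉ V → (2 : WithBot ℕ∞) ≤ ringKrullDim (X.presheaf.stalk x)) →
        Function.Bijective (S.X₁.presheaf.map (homOfLE hVU).op)) := by
    intro U V hVU hdim
    have := hS.mono_f
    have := hQ.1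
    have hX := Groth.RefRank.isNormalScheme_of_regular hreg
    have hb := Groth.RefRank.bijective_res_of_isReflexive hX hE hErefl hVU hdim
    refine ⟨fun m m' e => Groth.QCohMod.app_injective_of_mono S.f U (hb.1 ?_), fun n => ?_⟩
    · refine (congr($(S.f.mapPresheaf.naturality (homOfLE hVU).op) m)).symm.trans ?_
      refine (congrArg (S.f.app V) e).trans ?_
      exact congr($(S.f.mapPresheaf.naturality (homOfLE hVU).op) m')
    · obtain ⟨e, he⟩ := hb.2 (S.f.app V n)
      have hQ0 : S.g.app U e = 0 := Groth.RefRank.mod_section_ext S.X₃ fun x hx => by
        have hη : genericPoint ↥X ∈ V := by_contra fun h =>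
          Groth.RefRank.two_le_dim_generic_false (hdim _ ((Groth.RefRank.genSpec x).mem_open U.2 hx) h)
        have h0 : Groth.RefRank.mspec S.X₃ (Groth.RefRank.genSpec x)
            (Groth.QCohMod.germ S.X₃ x hx (S.g.app U e)) = 0 := by
          rw [Groth.RefRank.mspec_germ, ← Groth.QCohMod.germ_res S.X₃ hVU _ hη]
          have h3 : Groth.QCohMod.res S.X₃ hVU (S.g.app U e) = 0 := by
            refine (congr($(S.g.mapPresheaf.naturality (homOfLE hVU).op) e)).symm.trans ?_
            refine (congrArg (S.g.app V) he).trans ?_
            exact congr(($(S.zero)).app V n)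
          rw [h3, map_zero]
        obtain ⟨a, ha, hav⟩ := Groth.RefRank.exists_smul_eq_zero_of_mspec S.X₃ (Groth.RefRank.genSpec x) h0
        have ha0 : a ≠ 0 := fun h => Groth.RefRank.isUnit_gen_iff.mp ha (by rw [h, map_zero])
        have := hQtf x
        rw [map_zero]
        exact (isRegular_iff_ne_zero.mpr ha0).isSMulRegular (hav.trans (smul_zero a).symm)
      obtain ⟨m, hm⟩ := Groth.QCohMod.exists_app_eq_of_mono_exact hS.exact U e hQ0
      refine ⟨m, Groth.QCohMod.app_injective_of_mono S.f V ?_⟩
      refine (congr($(S.f.mapPresheaf.naturality (homOfLE hVU).op) m)).trans ?_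
      exact (congrArg _ hm).trans he

end Groth.Agent.S16490
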