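import Groth.Statements.S16492
import Groth.Agent.VBCurves.WeilApps
import Groth.Agent.VBCurves.GenusOneSplit

set_option autoImplicit false
universe u
open CategoryTheory CategoryTheory.Limits AlgebraicGeometry
open VBCurve

open Groth.VBCurves

namespace Groth.Agent.S16492

/-- Let X be a smooth proper integral curve (integral, smooth and proper of dimension one) over an
algebraically closed field k, and E a finite locally free O_X-module of rank r. Say that a module M
is finite in the sense of Weil when there are distinct polynomials P ≠ Q with natural-number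
coefficients and an isomorphism P(M) ≅ Q(M), where P(M) is the direct sum over i of P_i copies of
the i-th tensor power of M (the 0-th power being O_X). Then E is finite in this sense if and only if
its dual E^* = 𝓗om_{O_X}(E, O_X) is. -/
theorem result (k : Type u) [Field k] [IsAlgClosed k] (X : Scheme.{u}) [X.Over (Spec (CommRingCat.of k))]
    [IsIntegral X] [IsProper (X ↘ Spec (CommRingCat.of k))] [Smooth (X ↘ Spec (CommRingCat.of k))]
    (hdim : topologicalKrullDim X = 1)
    (r : ℕ) (E : X.Modules) (hE : FlatMod.IsFinLocFreeOfRank r E) :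
    (∃ P Q : Polynomial ℕ, P ≠ Q ∧ Nonempty ((∐ fun i : Fin (P.natDegree + 1) => ∐ fun _ : Fin (P.coeff ↑i) => CohB1.tensorPow E ↑i) ≅
        (∐ fun i : Fin (Q.natDegree + 1) => ∐ fun _ : Fin (Q.coeff ↑i) => CohB1.tensorPow E ↑i))) ↔
      (∃ P Q : Polynomial ℕ, P ≠ Q ∧ Nonempty ((∐ fun i : Fin (P.natDegree + 1) => ∐ fun _ : Fin (P.coeff ↑i) => CohB1.tensorPow (RefHull.dual E) ↑i) ≅
        (∐ fun i : Fin (Q.natDegree + 1) => ∐ fun _ : Fin (Q.coeff ↑i) => CohB1.tensorPow (RefHull.dual E) ↑i))) := by
  have hc := IsVBCurve.of_smooth k hdim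
  have : IsLocallyNoetherian X :=
    LocallyOfFiniteType.isLocallyNoetherian (X ↘ Spec (CommRingCat.of k))
  have hE' := Groth.LocFree.isFinLocFree_of_rank hE
  have hD : FlatMod.IsFinLocFree (RefHull.dual E) :=
    Groth.LocFree.isFinLocFree_homSh hE' (Groth.LocFree.isFinLocFree_unit X)
  constructor
  · intro h
    exact Weil.isWeil_of_finType hD
      (((Weil.finType_of_isWeil hc hE' h).dual hc hE').of_iso (TensorDual.dualIso E))
  · intro h
    obtain ⟨b⟩ := GenusOne.nonempty_bidual_iso hE'
    exact Weil.isWeil_of_finType hE'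
      (((Weil.finType_of_isWeil hc hD h).dual hc hD).of_iso
        (TensorDual.dualIso (RefHull.dual E) ≪≫ b.symm))

end Groth.Agent.S16492
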