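import Groth.Statements.S16496
import Groth.Agent.RefRank.DepthTwo
import Groth.Agent.RefRank.BigOpen
import Groth.Agent.PicAux.Hartogs
import Mathlib.RingTheory.Regular.RegularSequence

set_option autoImplicit false
universe u
open CategoryTheory AlgebraicGeometry
open SGA3

namespace Groth.Agent.S16496

open CategoryTheory.Limits Groth.QCohMod
open scoped Pointwise

/-- A pair of elements of the maximal ideal forming a regular sequence detects the image of an
injective map into a module without nonzero elements killed by the maximal ideal. -/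
theorem mem_range_of_regular_pair {A M N : Type*} [CommRing A] [IsLocalRing A] [AddCommGroup M]
    [Module A M] [AddCommGroup N] [Module A N] {φ : M →ₗ[A] N} (hinj : Function.Injective φ)
    {a b : A} (ha : a ∈ IsLocalRing.maximalIdeal A) (hb : b ∈ IsLocalRing.maximalIdeal A)
    (hab : RingTheory.Sequence.IsWeaklyRegular M [a, b])
    (hN : ∀ n : N, (∀ t ∈ IsLocalRing.maximalIdeal A, t • n = 0) → n = 0) {e : N}
    (he : ∀ t ∈ IsLocalRing.maximalIdeal A, t • e ∈ LinearMap.range φ) : e ∈ LinearMap.range φ := by
  obtain ⟨hra, hrb⟩ := (RingTheory.Sequence.isWeaklyRegular_cons_iff _ _ _).1 hab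
  rw [RingTheory.Sequence.isWeaklyRegular_singleton_iff] at hrb
  obtain ⟨f, hf⟩ := he a ha
  obtain ⟨g, hg⟩ := he b hb
  have h1 : b • f = a • g := hinj (by rw [map_smul, map_smul, hf, hg, smul_comm])
  have h2 : (Submodule.Quotient.mk f : QuotSMulTop a M) = 0 := by
    refine hrb.right_eq_zero_of_smul ?_
    rw [← Submodule.Quotient.mk_smul, Submodule.Quotient.mk_eq_zero, h1]
    exact Submodule.smul_mem_pointwise_smul g a ⊤ trivial
  rw [Submodule.Quotient.mk_eq_zero, Submodule.mem_smul_pointwise_iff_exists] at h2
  obtain ⟨f', -, hf'⟩ := h2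
  refine ⟨f', (sub_eq_zero.1 (hN _ fun t ht => ?_)).symm⟩
  obtain ⟨h, hh⟩ := he t ht
  have h3 : t • (e - φ f') = φ (h - t • f') := by rw [map_sub, hh, map_smul, smul_sub]
  have h4 : φ (a • (h - t • f')) = φ 0 := by
    rw [map_smul, ← h3, smul_comm, map_zero, smul_sub, ← map_smul, hf', hf, sub_self, smul_zero]
  rw [h3, hra.right_eq_zero_of_smul (hinj h4), map_zero]

/-- A map of quasi-coherent modules which at every point is either bijective on the stalks, or has a
source with a regular pair and a target without nonzero elements killed by the maximal ideal, is an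
isomorphism. -/
theorem isIso_of_regular_pair {X : Scheme.{u}} [IsLocallyNoetherian X] {F G : X.Modules} (φ : F ⟶ G)
    (hF : Coh.IsQCoh F) (hG : Coh.IsQCoh G)
    (h : ∀ x : X, Function.Bijective (RefHull.stalkMapₗ φ x) ∨
      ((∃ a b : X.presheaf.stalk x, a ∈ IsLocalRing.maximalIdeal (X.presheaf.stalk x) ∧
          b ∈ IsLocalRing.maximalIdeal (X.presheaf.stalk x) ∧
          RingTheory.Sequence.IsWeaklyRegular (F.presheaf.stalk x) [a, b]) ∧
        ∀ n : G.presheaf.stalk x,
          (∀ t ∈ IsLocalRing.maximalIdeal (X.presheaf.stalk x), t • n = 0) → n = 0)) :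
    IsIso φ := by
  have : G.IsQuasicoherent := hG
  have : F.IsQuasicoherent := hF
  haveI : Mono φ := by
    have hKq : Coh.IsQCoh (kernel φ) := (inferInstance : (kernel φ).IsQuasicoherent)
    have hK : IsZero (kernel φ) := Groth.Divisors.isZero_of_no_weakAss hKq fun x hx => by
      obtain ⟨z, h1, h2⟩ := Groth.Divisors.isWeakAssPoint_iff.mp hx
      haveI : Mono ((Groth.QCohMod.stalk x).map (kernel.ι φ)) := inferInstance
      have hι : Function.Injective (RefHull.stalkMapₗ (kernel.ι φ) x) :=
        (AddCommGrpCat.mono_iff_injective ((Groth.QCohMod.stalk x).map (kernel.ι φ))).1 inferInstance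
      have h0 : RefHull.stalkMapₗ φ x (RefHull.stalkMapₗ (kernel.ι φ) x z) = 0 := by
        obtain ⟨W, hxW, m, rfl⟩ := exists_germ _ x z
        refine (congrArg _ (RefHull.stalkMapₗ_germ _ x hxW m)).trans ?_
        refine (RefHull.stalkMapₗ_germ _ x hxW _).trans ?_
        rw [show φ.app W ((kernel.ι φ).app W m) = 0 from congr($(kernel.condition φ).app W m), map_zero]
      suffices hz0 : RefHull.stalkMapₗ (kernel.ι φ) x z = 0 from
        h1 1 (by rw [one_smul]; exact hι (hz0.trans (map_zero _).symm)) isUnit_one
      rcases h x with hb | ⟨⟨a, b, ha, -, hab⟩, -⟩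
      · exact hb.1 (h0.trans (map_zero _).symm)
      · obtain ⟨k, hk⟩ := h2 a ha
        exact (((RingTheory.Sequence.isWeaklyRegular_cons_iff _ _ _).1 hab).1.pow k).right_eq_zero_of_smul
          (by rw [← map_smul, hk, map_zero])
    exact Preadditive.mono_of_kernel_zero (hK.eq_of_src _ _)
  have hinj : ∀ x, Function.Injective (RefHull.stalkMapₗ φ x) := fun x =>
    (AddCommGrpCat.mono_iff_injective ((Groth.QCohMod.stalk x).map φ)).1 inferInstance
  have hCq : Coh.IsQCoh (cokernel φ) := (inferInstance : (cokernel φ).IsQuasicoherent)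
  have hC : IsZero (cokernel φ) := Groth.Divisors.isZero_of_no_weakAss hCq fun x hx => by
    obtain ⟨z, h1, h2⟩ := Groth.Divisors.isWeakAssPoint_iff.mp hx
    have hexact : ((ShortComplex.mk φ (cokernel.π φ) (cokernel.condition φ)).map
        (Groth.QCohMod.stalk x)).Exact :=
      (ShortComplex.exact_of_g_is_cokernel _ (cokernelIsCokernel φ)).map (Groth.QCohMod.stalk x)
    rw [ShortComplex.ab_exact_iff] at hexact
    haveI : Epi ((Groth.QCohMod.stalk x).map (cokernel.π φ)) := inferInstance
    have hπ : Function.Surjective (RefHull.stalkMapₗ (cokernel.π φ) x) :=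
      (AddCommGrpCat.epi_iff_surjective ((Groth.QCohMod.stalk x).map (cokernel.π φ))).1 inferInstance
    have hkill : ∀ v : G.presheaf.stalk x, v ∈ LinearMap.range (RefHull.stalkMapₗ φ x) →
        RefHull.stalkMapₗ (cokernel.π φ) x v = 0 := by
      rintro _ ⟨w, rfl⟩
      obtain ⟨W, hxW, m, rfl⟩ := exists_germ _ x w
      refine (congrArg _ (RefHull.stalkMapₗ_germ _ x hxW m)).trans ?_
      refine (RefHull.stalkMapₗ_germ _ x hxW _).trans ?_
      rw [show (cokernel.π φ).app W (φ.app W m) = 0 from congr($(cokernel.condition φ).app W m), map_zero]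
    have hrange : ∀ v, RefHull.stalkMapₗ (cokernel.π φ) x v = 0 →
        v ∈ LinearMap.range (RefHull.stalkMapₗ φ x) := fun v hv => by
      obtain ⟨w, hw⟩ := hexact v hv
      exact ⟨w, hw⟩
    rcases h x with hb | ⟨⟨a, b, ha, hb, hab⟩, hN⟩
    · obtain ⟨e, rfl⟩ := hπ z
      exact h1 1 (by rw [one_smul]; exact hkill e (hb.2 e)) isUnit_one
    · -- a nonzero element of the cokernel killed by the maximal ideal lifts to the image
      let m := IsLocalRing.maximalIdeal (X.presheaf.stalk x)
      have hrad : m ≤ Ideal.radical
          (LinearMap.ker (LinearMap.toSpanSingleton (X.presheaf.stalk x) _ z)) := fun a ha => by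
        obtain ⟨n, hn⟩ := h2 a ha
        exact ⟨n, hn⟩
      obtain ⟨N, hN'⟩ := Ideal.exists_pow_le_of_le_radical_of_fg hrad (IsNoetherian.noetherian m)
      have hstep : ∀ k, ∀ v : (cokernel φ).presheaf.stalk x, (∀ t ∈ m ^ k, t • v = 0) → v = 0 := by
        intro k
        induction k with
        | zero =>
          intro v hv
          have := hv 1 (by rw [pow_zero, Ideal.one_eq_top]; trivial)
          rwa [one_smul] at this
        | succ k ih =>
          intro v hv
          have h' : ∀ t ∈ m ^ k, t • v = 0 := fun t ht => by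
            obtain ⟨e, he⟩ := hπ (t • v)
            rw [← he]
            refine hkill e (mem_range_of_regular_pair (hinj x) ha hb hab hN fun s hs => hrange _ ?_)
            rw [map_smul, he, smul_smul]
            exact hv (s * t) (by rw [pow_succ']; exact Ideal.mul_mem_mul hs ht)
          exact ih v h'
      exact h1 1 (by rw [one_smul]; exact hstep N z fun t ht => hN' ht) isUnit_one
  haveI : Epi φ := Preadditive.epi_of_cokernel_zero (hC.eq_of_tgt _ _)
  exact isIso_of_mono_of_epi φ

/-- Let S be a Noetherian normal scheme, A a flat quasi-coherent O_S-module (not assumed of finite type)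
and j : U → S the inclusion of an open subscheme containing every point of S whose local ring has
dimension at most 1. Then A = j_* j^* A: the unit A → j_*(A|_U) of the adjunction between
restriction to U and direct image along j is an isomorphism. In the source U is the flatness locus
of a finite type submodule of A, an open which contains all points of codimension at most 1; the
printed argument uses only this property of U. -/
theorem result (S : Scheme.{u}) [IsNoetherian S]
    (hS : Pi1.IsNormalScheme S) (A : S.Modules) (hA : Coh.IsQCoh A) (hAfl : FlatMod.IsFlat A)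
    (U : S.Opens) (hU : ∀ s : S, ringKrullDim (S.presheaf.stalk s) ≤ 1 → s ∈ U) :
    IsIso ((Scheme.Modules.restrictAdjunction U.ι).unit.app A) := by
  have : A.IsQuasicoherent := hA
  have hq : ((Scheme.Modules.pushforward U.ι).obj (A.restrict U.ι)).IsQuasicoherent :=
    Groth.QCohMod.isQCoh_pushforward _ U.ι
  refine isIso_of_regular_pair _ hA hq fun x => ?_
  by_cases hx : x ∈ U
  · exact Or.inl (Groth.RefRank.stalk_unit_bijective A hx)
  · refine Or.inr ⟨?_, Groth.RefRank.eq_zero_of_killed
      (G := (Scheme.Modules.pushforward U.ι).obj (A.restrict U.ι))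
      (fun W => (Groth.RefRank.resBijAll_pushforward (A.restrict U.ι) W).1) hx⟩
    have hd : (2 : WithBot ℕ∞) ≤ ringKrullDim (S.presheaf.stalk x) := by
      rcases lt_or_ge (ringKrullDim (S.presheaf.stalk x)) 2 with h | h
      · refine absurd (hU x ?_) hx
        revert h
        generalize ringKrullDim (S.presheaf.stalk x) = d
        intro h
        induction d with
        | bot => exact bot_le
        | coe n =>
          have h' : n < (1 : ℕ∞) + 1 := by
            rw [one_add_one_eq_two]; exact WithBot.coe_lt_coe.1 h
          exact WithBot.coe_le_coe.2 (Order.le_of_lt_add_one h')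
      · exact h
    have := (hS x).1
    have := (hS x).2
    obtain ⟨a, b, ha, hb, hab⟩ :=
      Groth.PicAux.exists_regular_pair (Groth.RefRank.two_le_depth_of_normal hd)
    have : Module.Flat (S.presheaf.stalk x) (A.presheaf.stalk x) := hAfl x
    exact ⟨a, b, ha, hb, (LinearEquiv.isWeaklyRegular_congr (TensorProduct.rid _ _) _).1
      (hab.isWeaklyRegular_lTensor (M₂ := A.presheaf.stalk x))⟩

end Groth.Agent.S16496
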