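import Groth.Statements.S16498
import Mathlib
-- import your own Groth.Agent.* helpers here

set_option autoImplicit false
universe u
open Curves

namespace Groth.Agent.S16498

/-- Let k be a field of odd characteristic p, g ≤ p a natural number, f ∈ k[x] of degree at most 2g + 2,
and α ∈ k. Write f^((p-1)/2) = Σ_l c_l x^l and f(x + α)^((p-1)/2) = Σ_l d_l x^l, and form the g × g
Cartier–Manin matrices (c_{ip-j}) and (d_{ip-j}), indices i, j = 1, …, g (below written with i, j
ranging over Fin g, so that the entry at (i, j) is the coefficient of x^((i+1)p-(j+1))). Then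
(d_{ip-j}) = L · (c_{ip-j}) · U with L_{i,I} = binom(I-1, i-1) α^((I-i)p) and U_{J,j} = binom(p-J,
p-j) α^(j-J); both L and U are unitriangular since a binomial coefficient vanishes when its lower
index exceeds its upper index. (The source works over a perfect field, with f separable of degree 2g
+ 2 and α ∈ k^* a root of f, hypotheses this identity does not use.) -/
theorem result (k : Type u) [Field k] (p : ℕ) [Fact p.Prime] (hp : p ≠ 2) [CharP k p]
    (g : ℕ) (hg : g ≤ p) (f : Polynomial k) (hf : f.natDegree ≤ 2 * g + 2) (α : k) :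
    (Matrix.of fun i j : Fin g =>
        ((f.comp (Polynomial.X + Polynomial.C α)) ^ ((p - 1) / 2)).coeff (((i : ℕ) + 1) * p - ((j : ℕ) + 1))) =
      (Matrix.of fun i I : Fin g => (((I : ℕ).choose (i : ℕ) : ℕ) : k) * α ^ (((I : ℕ) - (i : ℕ)) * p)) *
        (Matrix.of fun i j : Fin g => (f ^ ((p - 1) / 2)).coeff (((i : ℕ) + 1) * p - ((j : ℕ) + 1))) *
        (Matrix.of fun J j : Fin g => (((p - ((J : ℕ) + 1)).choose (p - ((j : ℕ) + 1)) : ℕ) : k) * α ^ ((j : ℕ) - (J : ℕ))) := by
  classical
  have hp1 : 1 ≤ p := (Fact.out : p.Prime).one_le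
  have hodd : 2 * ((p - 1) / 2) = p - 1 := by
    obtain ⟨m, hm⟩ := (Fact.out : p.Prime).odd_of_ne_two hp
    omega
  rw [show (f.comp (Polynomial.X + Polynomial.C α)) ^ ((p - 1) / 2) =
      (f ^ ((p - 1) / 2)).comp (Polynomial.X + Polynomial.C α) from (Polynomial.pow_comp _ _ _).symm]
  set q := f ^ ((p - 1) / 2) with hqdef
  have hdeg : q.natDegree + (g + 1) ≤ (g + 1) * p := by
    have h1 := Polynomial.natDegree_pow_le (p := f) (n := (p - 1) / 2)
    have h2 : (p - 1) / 2 * f.natDegree ≤ (g + 1) * (p - 1) := by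
      calc (p - 1) / 2 * f.natDegree ≤ (p - 1) / 2 * (2 * g + 2) := Nat.mul_le_mul_left _ hf
        _ = (g + 1) * (2 * ((p - 1) / 2)) := by ring
        _ = _ := by rw [hodd]
    rw [← hqdef] at h1
    rw [Nat.mul_sub_one] at h2
    have : g + 1 ≤ (g + 1) * p := Nat.le_mul_of_pos_right _ (by omega)
    omega
  ext i j
  have hi := i.isLt
  have hj := j.isLt
  simp only [Matrix.of_apply, Matrix.mul_apply, Finset.sum_mul]
  set l := ((i : ℕ) + 1) * p - ((j : ℕ) + 1) with hl
  have hl' : l = (i : ℕ) * p + (p - ((j : ℕ) + 1)) := by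
    rw [hl, add_mul, one_mul]; omega
  have hlmod : l % p = p - ((j : ℕ) + 1) := by
    rw [hl', Nat.mul_comm, Nat.mul_add_mod]; exact Nat.mod_eq_of_lt (by omega)
  have hldiv : l / p = i := by
    rw [hl', Nat.mul_comm, Nat.mul_add_div (by omega), Nat.div_eq_of_lt (by omega), add_zero]
  have hsum : ∀ (N : ℕ) (F : ℕ → k), ∑ m ∈ Finset.range (N * p), F m =
      ∑ a ∈ Finset.range N, ∑ b ∈ Finset.range p, F (a * p + b) := by
    intro N F
    induction N with
    | zero => simp
    | succ N ih => rw [Nat.succ_mul, Finset.sum_range_add, ih, Finset.sum_range_succ]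
  rw [show q.comp (Polynomial.X + Polynomial.C α) =
      ∑ m ∈ Finset.range ((g + 1) * p), Polynomial.C (q.coeff m) * (Polynomial.X + Polynomial.C α) ^ m by
    conv_lhs => rw [q.as_sum_range' ((g + 1) * p) (by omega)]
    rw [Polynomial.sum_comp]
    exact Finset.sum_congr rfl fun m _ => by rw [Polynomial.monomial_comp]]
  simp only [Polynomial.finsetSum_coeff, Polynomial.coeff_C_mul, Polynomial.coeff_X_add_C_pow]
  rw [hsum]
  have hlucas : ∀ a b : ℕ, b < p → (((a * p + b).choose l : ℕ) : k) =
      ((b.choose (p - ((j : ℕ) + 1)) : ℕ) : k) * ((a.choose (i : ℕ) : ℕ) : k) := by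
    intro a b hb
    have h := Choose.choose_modEq_choose_mod_mul_choose_div_nat (n := a * p + b) (k := l) (p := p)
    rw [hlmod, hldiv, Nat.mul_comm a p, Nat.mul_add_mod, Nat.mod_eq_of_lt hb,
      Nat.mul_add_div (by omega), Nat.div_eq_of_lt hb, add_zero, Nat.mul_comm p a] at h
    rw [← Nat.cast_mul]
    exact (CharP.natCast_eq_natCast k p).2 h
  calc ∑ a ∈ Finset.range (g + 1), ∑ b ∈ Finset.range p,
        q.coeff (a * p + b) * (α ^ (a * p + b - l) * (((a * p + b).choose l : ℕ) : k))
      = ∑ a ∈ Finset.range g, ∑ J ∈ Finset.range g,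
          q.coeff (a * p + (p - (J + 1))) *
            (α ^ (a * p + (p - (J + 1)) - l) *
              (((p - (J + 1)).choose (p - ((j : ℕ) + 1)) : ℕ) * ((a.choose (i : ℕ) : ℕ) : k))) := by
        rw [Finset.sum_range_succ]
        have hlast : ∑ b ∈ Finset.range p,
            q.coeff (g * p + b) * (α ^ (g * p + b - l) * (((g * p + b).choose l : ℕ) : k)) = 0 := by
          refine Finset.sum_eq_zero fun b hb => ?_
          have hb' := Finset.mem_range.1 hb
          rw [hlucas g b hb']
          by_cases hb2 : b < p - ((j : ℕ) + 1)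
          · rw [Nat.choose_eq_zero_of_lt hb2]; simp
          · rw [Polynomial.coeff_eq_zero_of_natDegree_lt, zero_mul]
            rw [add_mul, one_mul] at hdeg
            omega
        rw [hlast, add_zero]
        refine Finset.sum_congr rfl fun a _ => ?_
        rw [← Finset.sum_range_reflect]
        rw [← Finset.sum_subset (show Finset.range g ⊆ Finset.range p from
          fun x hx => Finset.mem_range.2 (by have := Finset.mem_range.1 hx; omega))]
        · refine Finset.sum_congr rfl fun J hJ => ?_
          have := Finset.mem_range.1 hJ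
          rw [show p - 1 - J = p - (J + 1) by omega, hlucas a _ (by omega)]
        · intro J hJ hJ'
          have h1 := Finset.mem_range.1 hJ
          have h2 : g ≤ J := Nat.le_of_not_lt fun h => hJ' (Finset.mem_range.2 h)
          rw [show p - 1 - J = p - (J + 1) by omega, hlucas a _ (by omega),
            Nat.choose_eq_zero_of_lt (show p - (J + 1) < p - ((j : ℕ) + 1) by omega)]
          simp
    _ = _ := by
        rw [Finset.sum_comm, ← Fin.sum_univ_eq_sum_range]
        refine Finset.sum_congr rfl fun J _ => ?_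
        rw [← Fin.sum_univ_eq_sum_range]
        refine Finset.sum_congr rfl fun I _ => ?_
        have hJ := J.isLt
        rw [show ((I : ℕ) + 1) * p - ((J : ℕ) + 1) = (I : ℕ) * p + (p - ((J : ℕ) + 1)) by
          rw [add_mul, one_mul]; omega]
        by_cases hiI : (i : ℕ) ≤ (I : ℕ)
        · by_cases hJj : (J : ℕ) ≤ (j : ℕ)
          · have hexp : (I : ℕ) * p + (p - ((J : ℕ) + 1)) - l =
                ((I : ℕ) - (i : ℕ)) * p + ((j : ℕ) - (J : ℕ)) := by
              have := Nat.mul_le_mul_right p hiI
              rw [hl', Nat.sub_mul]; omega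
            rw [hexp, pow_add]
            ring
          · rw [Nat.choose_eq_zero_of_lt (show p - ((J : ℕ) + 1) < p - ((j : ℕ) + 1) by omega)]
            simp
        · rw [Nat.choose_eq_zero_of_lt (show (I : ℕ) < (i : ℕ) by omega)]
          simp

end Groth.Agent.S16498
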