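import Groth.Statements.S7299
import Groth.Agent.ResolveSurf.IdealPowers
import Groth.Agent.ResolveSurf.ModificationVanish

set_option backward.isDefEq.respectTransparency.types false

set_option autoImplicit false
universe u
open CategoryTheory CategoryTheory.Limits AlgebraicGeometry
open Resolve

namespace Groth.Agent.S7299

open Groth.ResolveSurf

variable {A : Type u} [CommRing A] [IsDomain A] [IsLocalRing A] [IsNoetherianRing A]

theorem ideal_pow_eq {X : Scheme.{u}} (f : X ⟶ Spec (CommRingCat.of A)) (n : ℕ) (W : X.affineOpens) :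
    (((Curv2.idealSheaf A (IsLocalRing.maximalIdeal A)).comap f) ^ n).ideal W =
      (IsLocalRing.maximalIdeal A ^ n).map (Groth.BlowUpBasics.phi f W.1) := by
  have h : ((Curv2.idealSheaf A (IsLocalRing.maximalIdeal A)).comap f).ideal W =
      (IsLocalRing.maximalIdeal A).map (Groth.BlowUpBasics.phi f W.1) :=
    Groth.BlowUpBasics.ideal_comap_sheafOf f (IsLocalRing.maximalIdeal A) W
  rw [Scheme.IdealSheafData.ideal_pow, Pi.pow_apply, h, ← Ideal.map_pow]

theorem gg_pow {X : Scheme.{u}} [IsIntegral X] (f : X ⟶ Spec (CommRingCat.of A))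
    (hE : BlowUp.IsEffCartierIdeal ((Curv2.idealSheaf A (IsLocalRing.maximalIdeal A)).comap f)) (n : ℕ) :
    Groth.Curves1.Lipman.GG
      (ClSub.idealMod (((Curv2.idealSheaf A (IsLocalRing.maximalIdeal A)).comap f) ^ n)) := by
  obtain ⟨T, hT⟩ := IsNoetherian.noetherian (IsLocalRing.maximalIdeal A ^ n)
  obtain ⟨k, -, hcov⟩ := IdealPowers.exists_covering_sections f _
    (Groth.Divisors.isEffCartierIdeal_pow hE n) (fun i : (T : Set A) => (i : A)) fun W => by
      rw [ideal_pow_eq, Subtype.range_coe_subtype, Set.setOf_mem_eq]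
      exact congrArg (Ideal.map _) hT.symm
  exact fun x => (hcov x).elim fun i hi => ⟨k i, hi⟩

/-- Let (A, m) be a local normal Nagata domain of dimension two defining a rational singularity, f : X →
Spec A a proper morphism from an integral normal scheme which is an isomorphism over some nonempty
open, and suppose the closed fibre, with ideal sheaf I = m O_X, is an effective Cartier divisor.
Then for every n ≥ 0, H^1(X, I^n) = 0 and H^0(X, I^n) = m^n: an element of A, viewed as a global
function on X, lies in I^n on every affine open if and only if it belongs to m^n. -/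
theorem result (A : Type u) [CommRing A] [IsDomain A] [IsLocalRing A] [IsNoetherianRing A]
    [IsIntegrallyClosed A] (hN : CAlg.IsNagata A) (hdim : ringKrullDim A = 2) (hA : Curv2.IsRationalSing A)
    (X : Scheme.{u}) (f : X ⟶ Spec (CommRingCat.of A)) [IsProper f] [IsIntegral X] (hXn : Pi1.IsNormalScheme X)
    (hbir : ∃ U : (Spec (CommRingCat.of A)).Opens, (U : Set (Spec (CommRingCat.of A))).Nonempty ∧ IsIso (f ∣_ U))
    (hE : BlowUp.IsEffCartierIdeal ((Curv2.idealSheaf A (IsLocalRing.maximalIdeal A)).comap f)) (n : ℕ) :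
    Subsingleton (Coh.HH X (ClSub.idealMod (((Curv2.idealSheaf A (IsLocalRing.maximalIdeal A)).comap f) ^ n)) 1) ∧
      ∀ a : A, (∀ U : X.affineOpens,
          Coh.resTop X (Opposite.op U.1) (Coh.toGlobal f a) ∈ (((Curv2.idealSheaf A (IsLocalRing.maximalIdeal A)).comap f) ^ n).ideal U) ↔
        a ∈ IsLocalRing.maximalIdeal A ^ n := by
  obtain ⟨U, hne, hiso⟩ := hbir
  letI : X.Over (Spec (CommRingCat.of A)) := ⟨f⟩
  haveI : IsProper (X ↘ Spec (CommRingCat.of A)) := ‹IsProper f›
  let I := (Curv2.idealSheaf A (IsLocalRing.maximalIdeal A)).comap f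
  have hd := Groth.ResolveSurf.ModVanish.fiber_dim_le_one f hdim.le U
    (Groth.ResolveSurf.ModVanish.preimage_nonempty f hne hiso) hiso
  have hO : Subsingleton (Coh.HH X (Coh.structureModule X) 1) :=
    hA X f ‹_› ‹_› hXn ⟨U, hne, hiso⟩
  have hP : ∀ m : ℕ, BlowUp.IsEffCartierIdeal (I ^ m) := fun m =>
    Groth.Divisors.isEffCartierIdeal_pow hE m
  haveI : (ClSub.idealMod (I ^ n)).IsQuasicoherent :=
    Groth.PicAux.isQCoh_of_isInvertible (Groth.PicAux.isInvertible_idealMod (hP n))
  refine ⟨ModVanish.subsingleton_of_epi_free (A := A) hd hO _ (gg_pow f hE n).isGloballyGenerated,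
    fun a => ⟨fun h => ?_, fun h V => ?_⟩⟩
  rotate_left
  · show _ ∈ (I ^ n).ideal V
    rw [ideal_pow_eq]
    exact Ideal.mem_map_of_mem _ h
  have : IsIso (f ∣_ U) := hiso
  have hbij := IdealPowers.toGlobal_bijective f U hne
  -- `H⁰(I) = m`
  have hone : ∀ b : A, (∃ k, OmegaSh.idealSect I ⊤ k = Coh.toGlobal f b) →
      b ∈ IsLocalRing.maximalIdeal A := by
    rintro b ⟨k, hk⟩ hu
    obtain ⟨y, hy⟩ : ∃ y : X, f y = IsLocalRing.closedPoint A := by
      have hd' : Dense (Set.range f.base) := by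
        obtain ⟨w, hw⟩ := hne
        let η₀ : Spec (CommRingCat.of A) := (⟨⊥, Ideal.isPrime_bot⟩ : PrimeSpectrum A)
        have hη : η₀ ∈ U := ((PrimeSpectrum.le_iff_specializes _ _).1 bot_le : η₀ ⤳ w).mem_open U.2 hw
        obtain ⟨⟨q, hq⟩, hq'⟩ := (f ∣_ U).homeomorph.surjective ⟨η₀, hη⟩
        have h1 : η₀ ∈ Set.range f.base :=
          ⟨q, (morphismRestrict_base_coe f U ⟨q, hq⟩).symm.trans (congrArg Subtype.val hq')⟩
        exact fun v => closure_mono (Set.singleton_subset_iff.2 h1) (specializes_iff_mem_closure.1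
          ((PrimeSpectrum.le_iff_specializes _ _).1 bot_le : η₀ ⤳ v))
      have := f.isClosedMap.isClosed_range
      exact (this.closure_eq ▸ hd'.closure_eq).ge (Set.mem_univ _)
    obtain ⟨W, hyW, -⟩ := Groth.Divisors.exists_affine_le y ⊤ trivial
    have h1 := Groth.OmegaSheaf.idealSect_mem I W (Groth.PicAux.res _ le_top k)
    rw [Groth.PicAux.idealSect_res', hk] at h1
    change Groth.BlowUpBasics.phi f W.1 b ∈ I.ideal W at h1
    have hy' : y ∈ I.support := by
      show y ∈ ((Curv2.idealSheaf A (IsLocalRing.maximalIdeal A)).comap f).support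
      rw [Groth.DivisorLength.mem_support_iff_le hyW, ← pow_one ((Curv2.idealSheaf A _).comap f),
        ideal_pow_eq, pow_one, Ideal.map_le_iff_le_comap]
      intro c hc
      have h2 : (W.2.fromSpec ≫ f) (W.2.primeIdealOf ⟨y, hyW⟩) = IsLocalRing.closedPoint A := by
        rw [Scheme.Hom.comp_apply, W.2.fromSpec_primeIdealOf, hy]
      rw [Groth.BlowUpBasics.fromSpec_comp] at h2
      exact (congrArg PrimeSpectrum.asIdeal h2).symm.le hc
    exact (W.2.primeIdealOf ⟨y, hyW⟩).2.ne_top (Ideal.eq_top_of_isUnit_mem _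
      ((Groth.DivisorLength.mem_support_iff_le hyW).1 hy' h1) (hu.map _))
  -- generators of `m` as sections
  obtain ⟨T, hT⟩ := IsNoetherian.noetherian (IsLocalRing.maximalIdeal A)
  let g : Fin T.card → A := fun i => (T.equivFin.symm i : A)
  have hg : Ideal.span (Set.range g) = IsLocalRing.maximalIdeal A := by
    have : Set.range g = (T : Set A) := by
      rw [show g = Subtype.val ∘ T.equivFin.symm from rfl, Set.range_comp, T.equivFin.symm.range_eq_univ,
        Set.image_univ, Subtype.range_coe_subtype]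
      rfl
    rw [this]
    exact hT
  obtain ⟨s, hs, hcov⟩ := IdealPowers.exists_covering_sections f I hE
    (fun i : ULift.{u} (Fin T.card) => g i.down) fun W => by
      rw [show Set.range (fun i : ULift.{u} (Fin T.card) => g i.down) = Set.range g from
        Equiv.ulift.surjective.range_comp g, hg]
      exact Groth.BlowUpBasics.ideal_comap_sheafOf f (IsLocalRing.maximalIdeal A) W
  have hgen : ∀ τ : Γ(ClSub.idealMod I, ⊤), ∃ c : Fin T.card → A,
      τ = ∑ i, Groth.Curves1.Lipman.cst A X (c i) • s ⟨i⟩ := by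
    intro τ
    obtain ⟨b, hb⟩ := hbij.2 (OmegaSh.idealSect I ⊤ τ)
    have hbm := hone b ⟨τ, hb.symm⟩
    rw [← hg, Ideal.mem_span_range_iff_exists_fun] at hbm
    obtain ⟨c, hc⟩ := hbm
    refine ⟨c, Groth.OmegaSheaf.idealSect_injective I ⊤ ?_⟩
    rw [map_sum, ← hb, ← hc]
    refine Eq.trans (map_sum (Coh.toGlobal f) _ _) (Finset.sum_congr rfl fun i _ => ?_)
    rw [Groth.OmegaSheaf.idealSect_smul, hs, map_mul]
    rfl
  have key : ∀ (m : ℕ) (b : A), (∃ k, OmegaSh.idealSect (I ^ m) ⊤ k = Coh.toGlobal f b) →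
      b ∈ IsLocalRing.maximalIdeal A ^ m := by
    intro m
    induction m with
    | zero => intro b _; rw [pow_zero, Ideal.one_eq_top]; trivial
    | succ m ih =>
      rintro b hb
      rw [pow_succ'] at hb
      obtain ⟨k, hk⟩ := hb
      obtain ⟨e, he⟩ := IdealPowers.exists_iso_mul (I := I) (J := I ^ m) hE (hP m)
      obtain ⟨d, hd'⟩ := Groth.Curves1.Lipman.exists_tmul_decomp A (fun P => by exact_mod_cast hd P)
        (Groth.PicAux.isInvertible_idealMod (I := I) hE) (Groth.PicAux.isInvertible_idealMod (hP m))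
        hO (gg_pow f hE m) (fun i => s ⟨i⟩) hgen (fun x => (hcov x).elim fun i hi => ⟨i.down, hi⟩)
        (e.inv.app ⊤ k)
      choose c hc using fun i => hbij.2 (OmegaSh.idealSect (I ^ m) ⊤ (d i))
      have hk' : k = ∑ i, e.hom.app ⊤ (Groth.PicAux.tmulSec (s ⟨i⟩) (d i)) := by
        have h1 := congrArg (e.hom.app ⊤) hd'
        rw [map_sum] at h1
        exact ((congr(($(e.inv_hom_id)).app ⊤ k)).symm.trans h1)
      have hsum : b = ∑ i, g i * c i := hbij.1 (by
        rw [← hk, hk', map_sum]
        refine Eq.trans (Finset.sum_congr rfl fun i _ => ?_) (map_sum (Coh.toGlobal f) _ _).symm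
        rw [he, hs, ← hc, map_mul]
        rfl)
      rw [hsum, pow_succ']
      refine Submodule.sum_mem _ fun i _ => Ideal.mul_mem_mul ?_ (ih _ ⟨d i, (hc i).symm⟩)
      exact hg ▸ Ideal.subset_span ⟨i, rfl⟩
  exact key n a (IdealPowers.exists_sect (I ^ n) _ h)

end Groth.Agent.S7299
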