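import Groth.Statements.S1650
import Groth.Agent.ResolveSurf.RationalBlowUp
import Groth.Agent.S7299
-- import your own Groth.Agent.* helpers here

set_option autoImplicit false
set_option backward.isDefEq.respectTransparency.types false
universe u
open CategoryTheory CategoryTheory.Limits AlgebraicGeometry
open Resolve Groth.BlowUpBasics

namespace Groth.Agent.S1650

/-- Let A be a local normal Nagata domain of dimension two defining a rational singularity and b : X →
Spec A a blowing up in the maximal ideal. Then X is a normal scheme. -/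
theorem result (A : Type u) [CommRing A] [IsDomain A] [IsLocalRing A] [IsNoetherianRing A]
    [IsIntegrallyClosed A] (hN : CAlg.IsNagata A) (hdim : ringKrullDim A = 2) (hA : Curv2.IsRationalSing A)
    (X : Scheme.{u}) (b : X ⟶ Spec (CommRingCat.of A)) (hb : BlowUp.IsBlowUp b (Curv2.idealSheaf A (IsLocalRing.maximalIdeal A))) :
    Pi1.IsNormalScheme X := by
  have hm : IsLocalRing.maximalIdeal A ≠ ⊥ := fun h => by
    rw [ringKrullDim_eq_zero_of_isField (IsLocalRing.isField_iff_maximalIdeal_eq.2 h)] at hdim
    exact absurd hdim (by norm_num)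
  refine Groth.ResolveSurf.RationalBlowUp.isNormal_blowUp hN hm ?_ b hb
  intro X' g _ _ hXn hbir hC n r hr
  refine ((Groth.Agent.S7299.result A hN hdim hA X' g hXn hbir hC n).2 r).1 fun U => ?_
  have h : phi g U.1 r = Coh.resTop X' (Opposite.op U.1) (Coh.toGlobal g r) := by
    rw [RingHom.congr_fun (phi_restrict g (le_top : U.1 ≤ ⊤)) r]
    simp only [Coh.toGlobal, phi, Scheme.Hom.appTop, Scheme.Hom.app_eq_appLE]
    rfl
  exact h ▸ hr U

end Groth.Agent.S1650
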