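import Groth.Statements.S16501
import Groth.Agent.HensPair.NewtonRoot
import Groth.Agent.AdicLinTop.Adic
import Mathlib.FieldTheory.PrimitiveElement
import Mathlib.RingTheory.DedekindDomain.IntegralClosure
import Mathlib.FieldTheory.Minpoly.IsIntegrallyClosed
import Mathlib.RingTheory.AdjoinRoot
import Mathlib.RingTheory.DiscreteValuationRing.Basic

set_option autoImplicit false
universe u
open Hensel
open Polynomial

namespace Groth.Agent.S16501

open Polynomial in
private theorem poly_bound {A B L K : Type u} [CommRing A] [IsDomain A] [IsDiscreteValuationRing A] {ϖ : A}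
    (hϖ : Irreducible ϖ) [Field K] [Algebra A K] [IsFractionRing A K] [Field L] [Algebra K L] [Algebra A L]
    [IsScalarTower A K L] [CommRing B] [Algebra A B] [Algebra B L] [IsScalarTower A B L] [Module.Finite A B]
    (hinj : Function.Injective (algebraMap B L)) (θ : B) (hgen : Algebra.adjoin K {algebraMap B L θ} = ⊤) :
    ∃ e : ℕ, ∀ b : B, ∃ P : A[X], algebraMap A B (ϖ ^ e) * b = aeval θ P := by
  classical
  let N : ℕ → Submodule A B := fun e =>
    ((Algebra.adjoin A {θ}).toSubmodule).comap (LinearMap.lsmul A B (ϖ ^ e))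
  have hmono : ∀ {e e' : ℕ}, e ≤ e' → N e ≤ N e' := fun {e e'} h x hx => by
    obtain ⟨d, rfl⟩ := Nat.exists_eq_add_of_le h
    show (ϖ ^ (e + d)) • x ∈ Algebra.adjoin A {θ}
    rw [pow_add, mul_comm, mul_smul]
    exact Subalgebra.smul_mem _ hx _
  have hone : ∀ b : B, ∃ e, b ∈ N e := by
    intro b
    obtain ⟨Q, hQ⟩ : ∃ Q : K[X], aeval (algebraMap B L θ) Q = algebraMap B L b := by
      have h : algebraMap B L b ∈ Algebra.adjoin K {algebraMap B L θ} := by rw [hgen]; trivial
      rw [Algebra.adjoin_singleton_eq_range_aeval] at h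
      exact h
    obtain ⟨⟨a, ha⟩, hP⟩ := IsLocalization.integerNormalization_map_to_map (nonZeroDivisors A) Q
    obtain ⟨n, u, rfl⟩ := IsDiscreteValuationRing.eq_unit_mul_pow_irreducible (nonZeroDivisors.ne_zero ha) hϖ
    refine ⟨n, ?_⟩
    show (ϖ ^ n) • b ∈ Algebra.adjoin A {θ}
    have h1 : aeval θ (IsLocalization.integerNormalization (nonZeroDivisors A) Q) = ((u : A) * ϖ ^ n) • b := hinj (by
      rw [← aeval_algebraMap_apply, ← aeval_map_algebraMap K, hP]
      rw [← IsScalarTower.algebraMap_smul K, map_smul, hQ, IsScalarTower.algebraMap_smul K,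
        Algebra.smul_def, Algebra.smul_def]
      simp only [IsScalarTower.algebraMap_apply A B L, map_mul])
    rw [show (ϖ ^ n) • b = ((u⁻¹ : Aˣ) : A) • (((u : A) * ϖ ^ n) • b) by
      rw [smul_smul, ← mul_assoc, Units.inv_mul, one_mul], ← h1]
    exact Subalgebra.smul_mem _ (aeval_mem_adjoin_singleton _ _) _
  choose e he using hone
  obtain ⟨S, hS⟩ := Module.Finite.fg_top (R := A) (M := B)
  refine ⟨S.sup e, fun b => ?_⟩
  have hb : b ∈ N (S.sup e) := Submodule.span_le.2 (fun x hx => hmono (Finset.le_sup hx) (he x)) (hS.ge Submodule.mem_top)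
  have hb' : (ϖ ^ S.sup e) • b ∈ Algebra.adjoin A {θ} := hb
  rw [Algebra.adjoin_singleton_eq_range_aeval] at hb'
  obtain ⟨P, hP⟩ := hb'
  exact ⟨P, by rw [← Algebra.smul_def]; exact hP.symm⟩

/-- Let A be a complete discrete valuation ring with uniformizer ϖ and fraction field K, let L be a
finite separable extension of K and B the integral closure of A in L. There is a positive integer m₀
such that for every discrete valuation ring C that is a module-finite A-algebra, B ≅ C as A-algebras
if and only if B/ϖ^m B ≅ C/ϖ^m C as A-algebras for some m > m₀. (Finiteness of L over K is implicit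
in the source, which takes a primitive element.) -/
theorem result
    (A : Type u) [CommRing A] [IsDomain A] [IsDiscreteValuationRing A]
    [IsAdicComplete (IsLocalRing.maximalIdeal A) A] (ϖ : A) (hϖ : Irreducible ϖ)
    (K : Type u) [Field K] [Algebra A K] [IsFractionRing A K]
    (L : Type u) [Field L] [Algebra K L] [Algebra A L] [IsScalarTower A K L]
    [FiniteDimensional K L] [Algebra.IsSeparable K L]
    (B : Type u) [CommRing B] [Algebra A B] [Algebra B L] [IsScalarTower A B L]
    [IsIntegralClosure B A L] :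
    ∃ m₀ : ℕ, 0 < m₀ ∧ ∀ (C : Type u) [CommRing C] [IsDomain C] [IsDiscreteValuationRing C]
      [Algebra A C] [Module.Finite A C],
      Nonempty (B ≃ₐ[A] C) ↔ ∃ m : ℕ, m₀ < m ∧
        Nonempty ((B ⧸ Ideal.span {algebraMap A B (ϖ ^ m)}) ≃ₐ[A]
          (C ⧸ Ideal.span {algebraMap A C (ϖ ^ m)})) := by
  classical
  have : IsDomain B := (IsIntegralClosure.algebraMap_injective B A L).isDomain _
  have hinjBL : Function.Injective (algebraMap B L) := IsIntegralClosure.algebraMap_injective B A L
  have : Module.Finite A B := IsIntegralClosure.finite A K L B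
  have : IsLocalization (Algebra.algebraMapSubmonoid B (nonZeroDivisors A)) L :=
    IsIntegralClosure.isLocalization A K L B
  have hAB : Function.Injective (algebraMap A B) := fun x y h => by
    have := congrArg (algebraMap B L) h
    rw [← IsScalarTower.algebraMap_apply, ← IsScalarTower.algebraMap_apply, IsScalarTower.algebraMap_apply A K L,
      IsScalarTower.algebraMap_apply A K L] at this
    exact IsFractionRing.injective A K ((algebraMap K L).injective this)
  -- an integral primitive element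
  obtain ⟨α, hα⟩ := Field.exists_primitive_element K L
  obtain ⟨θ, hθ⟩ : ∃ θ : B, Algebra.adjoin K {algebraMap B L θ} = ⊤ := by
    obtain ⟨⟨θ, ⟨_, a, ha, rfl⟩⟩, hθ⟩ := IsLocalization.surj (Algebra.algebraMapSubmonoid B (nonZeroDivisors A)) α
    refine ⟨θ, ?_⟩
    rw [eq_top_iff, ← IntermediateField.top_toSubalgebra, ← hα,
      IntermediateField.adjoin_simple_toSubalgebra_of_isAlgebraic (Algebra.IsAlgebraic.isAlgebraic α)]
    refine Algebra.adjoin_le (Set.singleton_subset_iff.2 ?_)
    have ha0 : algebraMap A K a ≠ 0 := fun h => nonZeroDivisors.ne_zero ha (IsFractionRing.injective A K (h.trans (map_zero _).symm))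
    have h1 : α = (algebraMap A K a)⁻¹ • algebraMap B L θ := by
      rw [← hθ, Algebra.smul_def, ← IsScalarTower.algebraMap_apply A B L, IsScalarTower.algebraMap_apply A K L,
        mul_comm α, ← mul_assoc, ← map_mul, inv_mul_cancel₀ ha0, map_one, one_mul]
    rw [SetLike.mem_coe, h1]
    exact Subalgebra.smul_mem _ (Algebra.self_mem_adjoin_singleton K _) _
  obtain ⟨e, he⟩ := poly_bound (K := K) hϖ hinjBL θ hθ
  have hθint : IsIntegral A θ := Algebra.IsIntegral.isIntegral θ
  set g := minpoly A θ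
  have hgK : minpoly K (algebraMap B L θ) = g.map (algebraMap A K) :=
    minpoly.isIntegrallyClosed_eq_field_fractions K L hθint
  have hgd : aeval θ (derivative g) ≠ 0 := fun h0 => by
    refine (Algebra.IsSeparable.isSeparable K (algebraMap B L θ)).aeval_derivative_ne_zero (minpoly.aeval K (algebraMap B L θ)) ?_
    rw [hgK, derivative_map, aeval_map_algebraMap, aeval_algebraMap_apply, h0, map_zero]
  obtain ⟨d, w, hw⟩ : ∃ (d : ℕ) (w : B), aeval θ (derivative g) * w = algebraMap A B (ϖ ^ d) := by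
    have hne := Ideal.comap_ne_bot_of_integral_mem (R := A) hgd (Ideal.mem_span_singleton_self _)
      (Algebra.IsIntegral.isIntegral _)
    obtain ⟨d, hd⟩ := IsDiscreteValuationRing.ideal_eq_span_pow_irreducible hne hϖ
    have h1 : ϖ ^ d ∈ (Ideal.span {aeval θ (derivative g)}).comap (algebraMap A B) :=
      hd ▸ Ideal.mem_span_singleton_self _
    obtain ⟨w, hw⟩ := Ideal.mem_span_singleton'.1 (Ideal.mem_comap.1 h1)
    exact ⟨d, w, by rw [mul_comm]; exact hw⟩
  have hϖB : ¬IsUnit (algebraMap A B ϖ) := fun h => hϖ.not_isUnit (by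
    have : FaithfulSMul A B := (faithfulSMul_iff_algebraMap_injective A B).2 hAB
    have : IsLocalHom (algebraMap A B) := Algebra.IsIntegral.isLocalHom ..
    exact isUnit_of_map_unit (algebraMap A B) _ h)
  refine ⟨2 * d + e + 1, Nat.succ_pos _, fun C _ _ _ _ _ => ⟨fun ⟨φ⟩ => ?_, ?_⟩⟩
  · exact ⟨2 * d + e + 2, Nat.lt_succ_self _, ⟨Ideal.quotientEquivAlg _ _ φ (by
      rw [Ideal.map_span, Set.image_singleton]; congr 2; exact (φ.commutes _).symm)⟩⟩
  rintro ⟨m, hm, ⟨φ⟩⟩
  obtain ⟨j, rfl⟩ : ∃ j, m = 2 * d + j := ⟨m - 2 * d, by omega⟩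
  have hj : e + 1 < j := by omega
  -- `A → C` is injective
  have hAC : Function.Injective (algebraMap A C) := by
    rw [RingHom.injective_iff_ker_eq_bot]
    by_contra hker
    have hp : (RingHom.ker (algebraMap A C)).IsPrime := RingHom.ker_isPrime _
    obtain ⟨n, hn⟩ := IsDiscreteValuationRing.ideal_eq_span_pow_irreducible hker hϖ
    have h0 : algebraMap A C ϖ = 0 := by
      have : ϖ ^ n ∈ RingHom.ker (algebraMap A C) := hn ▸ Ideal.mem_span_singleton_self _
      exact RingHom.mem_ker.1 (hp.mem_of_pow_mem n this)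
    have h1 := congrArg φ.symm (show algebraMap A (C ⧸ Ideal.span {algebraMap A C (ϖ ^ (2 * d + j))}) ϖ = 0 by
      show Ideal.Quotient.mk _ (algebraMap A C ϖ) = 0
      rw [h0, map_zero])
    rw [AlgEquiv.commutes, map_zero, ← Ideal.Quotient.mk_algebraMap,
      Ideal.Quotient.eq_zero_iff_mem, Ideal.mem_span_singleton'] at h1
    obtain ⟨z, hz⟩ := h1
    refine hϖB (IsUnit.of_mul_eq_one (z * algebraMap A B (ϖ ^ (2 * d + j - 2))) (mul_left_cancel₀ (fun h => hϖ.ne_zero (hAB (h.trans (map_zero _).symm))) ?_))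
    rw [mul_one]
    conv_rhs => rw [← hz, show 2 * d + j = (2 * d + j - 2) + 1 + 1 by omega, pow_succ, pow_succ, map_mul, map_mul]
    ring
  have : FaithfulSMul A C := (faithfulSMul_iff_algebraMap_injective A C).2 hAC
  have : IsLocalHom (algebraMap A C) := Algebra.IsIntegral.isLocalHom ..
  have hϖC : algebraMap A C ϖ ∈ IsLocalRing.maximalIdeal C := fun h => hϖ.not_isUnit (isUnit_of_map_unit _ _ h)
  let π := algebraMap A C ϖ
  let I : Ideal C := Ideal.span {π}
  have hcomp : IsAdicComplete I C := by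
    have h1 : IsAdicComplete (IsLocalRing.maximalIdeal A) C := Groth.AdicLinTop.Adic.isAdicComplete_of_finite
    rw [show I = (IsLocalRing.maximalIdeal A).map (algebraMap A C) by
      rw [hϖ.maximalIdeal_eq, Ideal.map_span, Set.image_singleton]]
    exact (IsAdicComplete.map_algebraMap_iff (IsLocalRing.maximalIdeal A) C).2 h1
  set Jm : Ideal C := Ideal.span {algebraMap A C (ϖ ^ (2 * d + j))}
  obtain ⟨c, hc⟩ := Ideal.Quotient.mk_surjective (φ (Ideal.Quotient.mk _ θ))
  have hφaeval : ∀ P : A[X], φ (Ideal.Quotient.mk _ (aeval θ P)) = Ideal.Quotient.mk Jm (aeval c P) := fun P => by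
    rw [← Ideal.Quotient.mkₐ_eq_mk A, ← aeval_algHom_apply, Ideal.Quotient.mkₐ_eq_mk, ← aeval_algHom_apply φ, ← hc,
      ← Ideal.Quotient.mkₐ_eq_mk A, aeval_algHom_apply]
  -- a root near `c`
  let gC : C[X] := g.map (algebraMap A C)
  have hgc : aeval c g ∈ Jm := by
    rw [← Ideal.Quotient.eq_zero_iff_mem, ← hφaeval, minpoly.aeval, map_zero, map_zero]
  obtain ⟨w', hw'⟩ : ∃ w' : C, aeval c (derivative g) * w' = π ^ d := by
    obtain ⟨w₀, hw₀⟩ := Ideal.Quotient.mk_surjective (φ (Ideal.Quotient.mk _ w))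
    have h1 : aeval c (derivative g) * w₀ - π ^ d ∈ Jm := by
      rw [← Ideal.Quotient.eq, map_mul, hw₀, ← hφaeval, ← map_mul, ← map_mul, hw,
        ← Ideal.Quotient.mkₐ_eq_mk A, AlgHom.commutes, AlgEquiv.commutes]
      rw [← Ideal.Quotient.mkₐ_eq_mk A, ← map_pow, AlgHom.commutes]
    obtain ⟨z, hz⟩ := Ideal.mem_span_singleton'.1 h1
    have hu : IsUnit (1 + z * π ^ (d + j)) := by
      have : z * π ^ (d + j) ∈ IsLocalRing.maximalIdeal C :=
        Ideal.mul_mem_left _ _ (Ideal.pow_mem_of_mem _ hϖC _ (by omega))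
      by_contra hn
      have := Ideal.sub_mem _ ((IsLocalRing.mem_maximalIdeal _).2 hn) this
      rw [add_sub_cancel_right] at this
      exact (IsLocalRing.maximalIdeal.isMaximal C).ne_top ((Ideal.eq_top_iff_one _).2 this)
    refine ⟨w₀ * ↑hu.unit⁻¹, ?_⟩
    have h2 : aeval c (derivative g) * w₀ = π ^ d * (1 + z * π ^ (d + j)) := by
      rw [show algebraMap A C (ϖ ^ (2 * d + j)) = π ^ d * π ^ (d + j) by
        rw [← pow_add, map_pow, show 2 * d + j = d + (d + j) by omega]] at hz
      linear_combination -hz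
    rw [← mul_assoc, h2, mul_assoc, hu.mul_val_inv, mul_one]
  obtain ⟨z, hz⟩ := Ideal.mem_span_singleton'.1 hgc
  obtain ⟨c', hc', hcc'⟩ := Groth.HensPair.exists_root_of_eq_sq_mul I gC c (w' ^ 2 * (z * π ^ j)) (j := j) (by omega)
    (Ideal.mul_mem_left _ _ (Ideal.mul_mem_left _ _ (Ideal.pow_mem_pow (Ideal.mem_span_singleton_self π) j))) (by
      simp only [gC, derivative_map, eval_map_algebraMap]
      rw [← hz, map_pow, show π ^ j = π ^ j from rfl]
      calc z * π ^ (2 * d + j) = (π ^ d) ^ 2 * (z * π ^ j) := by ring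
        _ = _ := by rw [← hw']; ring)
  simp only [gC, eval_map_algebraMap] at hc'
  -- the homomorphism
  let FC := FractionRing C
  have hAFC : Function.Injective (algebraMap A FC) := by
    rw [IsScalarTower.algebraMap_eq A C FC]
    exact (IsFractionRing.injective C FC).comp hAC
  let _ : Algebra K FC := (IsFractionRing.lift (g := algebraMap A FC) hAFC).toAlgebra
  have : IsScalarTower A K FC := .of_algebraMap_eq fun x => (IsFractionRing.lift_algebraMap hAFC x).symm
  let gK := minpoly K (algebraMap B L θ)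
  have : Fact (Irreducible gK) := ⟨minpoly.irreducible (Algebra.IsIntegral.isIntegral _)⟩
  let Φ : AdjoinRoot gK →ₐ[K] L := AdjoinRoot.liftAlgHom gK (Algebra.ofId K L) (algebraMap B L θ) (minpoly.aeval K _)
  have hΦ : Function.Bijective Φ := by
    refine ⟨Φ.toRingHom.injective, fun y => ?_⟩
    have hy : y ∈ Algebra.adjoin K {algebraMap B L θ} := by rw [hθ]; trivial
    rw [Algebra.adjoin_singleton_eq_range_aeval] at hy
    obtain ⟨Q, hQ⟩ := hy
    exact ⟨AdjoinRoot.mk gK Q, by rw [← hQ]; exact AdjoinRoot.liftAlgHom_mk _ _ _ _ _⟩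
  have hc'K : gK.eval₂ (Algebra.ofId K FC : K →ₐ[K] FC) (algebraMap C FC c') = 0 := by
    show aeval (algebraMap C FC c') gK = 0
    rw [show gK = g.map (algebraMap A K) from hgK, aeval_map_algebraMap, aeval_algebraMap_apply, hc', map_zero]
  let Ψ₀ : L →ₐ[K] FC :=
    (AdjoinRoot.liftAlgHom gK (Algebra.ofId K FC) (algebraMap C FC c') hc'K).comp (AlgEquiv.ofBijective Φ hΦ).symm.toAlgHom
  let Ψ₁ : B →ₐ[A] FC := (Ψ₀.restrictScalars A).comp (IsScalarTower.toAlgHom A B L)
  have hmem : ∀ b, Ψ₁ b ∈ (IsScalarTower.toAlgHom A C FC).range := fun b => by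
    have h1 : IsIntegral C (Ψ₁ b) := ((Algebra.IsIntegral.isIntegral (R := A) b).map Ψ₁).tower_top
    obtain ⟨y, hy⟩ := IsIntegrallyClosed.isIntegral_iff.1 h1
    exact ⟨y, hy⟩
  let ψ : B →ₐ[A] C := (AlgEquiv.ofInjective (IsScalarTower.toAlgHom A C FC) (IsFractionRing.injective C FC)).symm.toAlgHom.comp
    (Ψ₁.codRestrict _ hmem)
  have hψ : ∀ b, algebraMap C FC (ψ b) = Ψ₁ b := fun b => by
    let ε := AlgEquiv.ofInjective (IsScalarTower.toAlgHom A C FC) (IsFractionRing.injective C FC)
    exact congrArg Subtype.val (ε.apply_symm_apply ⟨Ψ₁ b, hmem b⟩)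
  have hψθ : ψ θ = c' := IsFractionRing.injective C FC (by
    rw [hψ]
    show (AdjoinRoot.liftAlgHom gK (Algebra.ofId K FC) (algebraMap C FC c') hc'K)
      ((AlgEquiv.ofBijective Φ hΦ).symm (algebraMap B L θ)) = _
    rw [show (AlgEquiv.ofBijective Φ hΦ).symm (algebraMap B L θ) = AdjoinRoot.root gK from
      (AlgEquiv.symm_apply_eq _).2 (AdjoinRoot.liftAlgHom_root (p := gK) (Algebra.ofId K L) (algebraMap B L θ) (minpoly.aeval K _)).symm]
    exact AdjoinRoot.liftAlgHom_root (p := gK) _ _ hc'K)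
  have hinj : Function.Injective ψ := by
    refine (injective_iff_map_eq_zero ψ).2 fun b hb => ?_
    by_contra hb0
    have h1 : Ψ₀ (algebraMap B L b) = 0 := (hψ b).symm.trans (by rw [hb, map_zero])
    exact hb0 (hinjBL ((Ψ₀.toRingHom.injective (h1.trans (map_zero _).symm)).trans (map_zero _).symm))
  have hπ0 : π ≠ 0 := fun h => hϖ.ne_zero (hAC (h.trans (map_zero _).symm))
  have happrox : ∀ y : C, ∃ b : B, ψ b - y ∈ I := fun y => by
    obtain ⟨q, hq⟩ := φ.surjective (Ideal.Quotient.mk Jm y)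
    obtain ⟨b, rfl⟩ := Ideal.Quotient.mk_surjective q
    obtain ⟨P, hP⟩ := he b
    refine ⟨b, ?_⟩
    have h1 : π ^ e * (ψ b) - aeval c P ∈ I ^ j := by
      have h2 := congrArg ψ hP
      rw [map_mul, AlgHom.commutes, ← aeval_algHom_apply, hψθ, map_pow] at h2
      rw [h2]
      simp only [aeval_def, ← eval_map]
      exact Ideal.mem_of_dvd _ (sub_dvd_eval_sub _ _ _) hcc'
    have h2 : aeval c P - π ^ e * y ∈ I ^ j := by
      have h3 : Jm ≤ I ^ j := by
        rw [Ideal.span_le, Set.singleton_subset_iff, SetLike.mem_coe, map_pow]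
        exact Ideal.pow_le_pow_right (by omega) (Ideal.pow_mem_pow (Ideal.mem_span_singleton_self π) _)
      refine h3 (Ideal.Quotient.eq.1 ?_)
      rw [← hφaeval, ← hP, map_mul, map_mul, hq, ← Ideal.Quotient.mkₐ_eq_mk A, AlgHom.commutes, AlgEquiv.commutes,
        map_mul]
      simp only [π, ← map_pow]; rfl
    have h4 := add_mem h1 h2
    rw [sub_add_sub_cancel, ← mul_sub, Ideal.span_singleton_pow, Ideal.mem_span_singleton'] at h4
    obtain ⟨z', hz'⟩ := h4
    refine Ideal.mem_span_singleton'.2 ⟨z' * π ^ (j - e - 1), mul_left_cancel₀ (pow_ne_zero e hπ0) ?_⟩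
    rw [← hz']
    conv_rhs => rw [show j = (j - e - 1) + e + 1 by omega, pow_succ, pow_add]
    ring
  have hsurj : Function.Surjective ψ := by
    have hle : (⊤ : Submodule A C) ≤ LinearMap.range ψ.toLinearMap := by
      refine Submodule.le_of_le_smul_of_le_jacobson_bot Module.Finite.fg_top
        (I := IsLocalRing.maximalIdeal A) (IsLocalRing.maximalIdeal_le_jacobson _) fun y _ => ?_
      obtain ⟨b, hb⟩ := happrox y
      refine Submodule.mem_sup.2 ⟨ψ b, ⟨b, rfl⟩, y - ψ b, ?_, add_sub_cancel _ _⟩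
      rw [Ideal.smul_top_eq_map]
      show y - ψ b ∈ (IsLocalRing.maximalIdeal A).map (algebraMap A C)
      rw [hϖ.maximalIdeal_eq, Ideal.map_span, Set.image_singleton, ← neg_sub]
      exact neg_mem hb
    exact fun y => hle Submodule.mem_top
  exact ⟨AlgEquiv.ofBijective ψ ⟨hinj, hsurj⟩⟩

end Groth.Agent.S16501
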