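import Groth.Statements.S1651
import Groth.Agent.VarietyBC.DeltaLE
import Mathlib.AlgebraicGeometry.Morphisms.Flat

set_option autoImplicit false
universe u
open CategoryTheory CategoryTheory.Limits AlgebraicGeometry
open Variety

namespace Groth.Agent.S1651

/-- Let X be locally of finite type over k, K a field extension, y a point of X_K with image x. Assume X
is geometrically reduced at x and the local rings at x and at y both have dimension one. Then the
δ-invariant of X at x is at most the δ-invariant of X_K at y. -/
theorem result (k : Type u) [Field k] (X : Scheme.{u}) [X.Over (Spec (CommRingCat.of k))] [LocallyOfFiniteType (X ↘ (Spec (CommRingCat.of k)))] (K : Type u) [Field K] [Algebra k K]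
    (y : Curv2.bc k X K) (hx : Curv2.IsGeomReducedAt k X (Curv2.bcFst k X K y))
    (hdx : ringKrullDim (X.presheaf.stalk (Curv2.bcFst k X K y)) = 1)
    (hdy : ringKrullDim ((Curv2.bc k X K).presheaf.stalk y) = 1) :
    Curv2.deltaInv (X.presheaf.stalk (Curv2.bcFst k X K y)) ≤ Curv2.deltaInv ((Curv2.bc k X K).presheaf.stalk y) := by
  have hfl : Flat (Curv2.bcFst k X K) := by
    haveI : Flat (Spec.map (CommRingCat.ofHom (algebraMap k K))) := by
      rw [HasRingHomProperty.Spec_iff (P := @Flat), CommRingCat.hom_ofHom, RingHom.flat_algebraMap_iff]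
      infer_instance
    exact MorphismProperty.pullback_fst _ _ inferInstance
  algebraize [((Curv2.bcFst k X K).stalkMap y).hom]
  haveI : Module.Flat (X.presheaf.stalk (Curv2.bcFst k X K y)) ((Curv2.bc k X K).presheaf.stalk y) :=
    Flat.stalkMap (Curv2.bcFst k X K) y
  haveI : IsLocalHom (algebraMap (X.presheaf.stalk (Curv2.bcFst k X K y)) ((Curv2.bc k X K).presheaf.stalk y)) :=
    inferInstanceAs (IsLocalHom ((Curv2.bcFst k X K).stalkMap y).hom)
  haveI : Module.FaithfullyFlat (X.presheaf.stalk (Curv2.bcFst k X K y)) ((Curv2.bc k X K).presheaf.stalk y) :=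
    Module.FaithfullyFlat.of_flat_of_isLocalHom
  exact Groth.VarietyBC.DeltaLE.deltaInv_le _ _

end Groth.Agent.S1651
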