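import Groth.Statements.S16516
import Mathlib
import Groth.Agent.BinForms.Basic

set_option autoImplicit false
universe u
open RatCurv

namespace Groth.Agent.S16516

/-- A smooth nondegenerate rational quintic curve C ⊂ P^4 has exactly one 3-secant line. Stated for C
given as the image of P^1 under a 5-dimensional linear series V of binary quintic forms which
separates every length-2 subscheme of P^1 (for every nonzero quadratic form e the forms of V
together with the multiples of e span all quintic forms), so that P^1 → P(V^*) = P^4 is a closed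
embedding with nondegenerate image; the linear forms on P^4 are the elements of V, a line L ⊂ P^4 is
recorded by the 3-dimensional space of linear forms vanishing on it, and L ∩ C has length at least 3
exactly when that space consists of the multiples g · K[s,t]_2 of a cubic form g. The conclusion: a
nonzero cubic g with g · K[s,t]_2 ⊆ V exists and is unique up to a scalar. (That such a line meets C
in length exactly 3, i.e. is not 4-secant, is immediate in this description and is not restated; the
ground field is algebraically closed of characteristic zero in place of the complex numbers.) -/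
theorem result (K : Type u) [Field K] [IsAlgClosed K]
    [CharZero K] (V : Submodule K (MvPolynomial (Fin 2) K))
    (hV : V ≤ MvPolynomial.homogeneousSubmodule (Fin 2) K 5) (hdim : Module.finrank K ↥V = 5)
    (hsep : ∀ e ∈ MvPolynomial.homogeneousSubmodule (Fin 2) K 2, e ≠ 0 →
      ∀ F ∈ MvPolynomial.homogeneousSubmodule (Fin 2) K 5, ∃ v ∈ V,
        ∃ h ∈ MvPolynomial.homogeneousSubmodule (Fin 2) K 3, F = v + e * h) :
    ∃ g ∈ MvPolynomial.homogeneousSubmodule (Fin 2) K 3, g ≠ 0 ∧
      (∀ h ∈ MvPolynomial.homogeneousSubmodule (Fin 2) K 2, g * h ∈ V) ∧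
      ∀ g' ∈ MvPolynomial.homogeneousSubmodule (Fin 2) K 3,
        (∀ h ∈ MvPolynomial.homogeneousSubmodule (Fin 2) K 2, g' * h ∈ V) → ∃ c : K, g' = c • g := by

  classical
  have hn : (3 : ℕ) + 2 = 5 := rfl
  let P := Groth.BinForms.pairing K 3 2 5 hn (V.comap (MvPolynomial.homogeneousSubmodule (Fin 2) K 5).subtype)
  have hQ : Module.finrank K (MvPolynomial.homogeneousSubmodule (Fin 2) K 5 ⧸
      V.comap (MvPolynomial.homogeneousSubmodule (Fin 2) K 5).subtype) = 1 := by
    have := Groth.BinForms.finrank_quot K V hV
    omega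
  let φ := LinearEquiv.ofFinrankEq (MvPolynomial.homogeneousSubmodule (Fin 2) K 5 ⧸
      V.comap (MvPolynomial.homogeneousSubmodule (Fin 2) K 5).subtype) K (by rw [hQ, Module.finrank_self])
  let P' : MvPolynomial.homogeneousSubmodule (Fin 2) K 3 →ₗ[K]
      Module.Dual K (MvPolynomial.homogeneousSubmodule (Fin 2) K 2) := P.compr₂ φ.toLinearMap
  have hiff : ∀ x, x ∈ LinearMap.ker P' ↔
      ∀ h ∈ MvPolynomial.homogeneousSubmodule (Fin 2) K 2, (x : MvPolynomial (Fin 2) K) * h ∈ V := by
    intro x
    rw [LinearMap.mem_ker]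
    constructor
    · intro e h hh
      exact (Groth.BinForms.pairing_eq_zero_iff K hn V x ⟨h, hh⟩).1
        (φ.map_eq_zero_iff.1 (LinearMap.congr_fun e ⟨h, hh⟩))
    · intro e
      refine LinearMap.ext fun h => φ.map_eq_zero_iff.2 ?_
      exact (Groth.BinForms.pairing_eq_zero_iff K hn V x h).2 (e h h.2)
  have hco : (LinearMap.range P').dualCoannihilator = ⊥ := by
    rw [Submodule.eq_bot_iff]
    intro e he
    by_contra he0
    rw [Submodule.mem_dualCoannihilator] at he
    have hle : MvPolynomial.homogeneousSubmodule (Fin 2) K 5 ≤ V := by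
      intro F hF
      obtain ⟨v, hv, h, hh, rfl⟩ := hsep e e.2 (fun h => he0 (Subtype.ext h)) F hF
      refine V.add_mem hv ?_
      rw [mul_comm]
      exact (Groth.BinForms.pairing_eq_zero_iff K hn V ⟨h, hh⟩ e).1
        (φ.map_eq_zero_iff.1 (he _ ⟨⟨h, hh⟩, rfl⟩))
    have h6 := Groth.BinForms.finrank_homogeneous K 5
    rw [le_antisymm hle hV, hdim] at h6
    omega
  have h1 := Subspace.finrank_add_finrank_dualCoannihilator_eq (LinearMap.range P')
  rw [hco, finrank_bot, Groth.BinForms.finrank_homogeneous] at h1
  have h2 := P'.finrank_range_add_finrank_ker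
  rw [Groth.BinForms.finrank_homogeneous] at h2
  have h3 : Module.finrank K (LinearMap.ker P') = 1 := by omega
  obtain ⟨⟨g, hgk⟩, hg0⟩ := (Module.finrank_pos_iff_exists_ne_zero (R := K) (M := LinearMap.ker P')).1 (by omega)
  have hg := exists_smul_eq_of_finrank_eq_one h3 hg0
  refine ⟨g.1, g.2, fun h => hg0 (Subtype.ext (Subtype.ext h)), (hiff g).1 hgk, fun g' hg' hg'V => ?_⟩
  obtain ⟨c, hc⟩ := hg ⟨⟨g', hg'⟩, (hiff ⟨g', hg'⟩).2 hg'V⟩
  exact ⟨c, (congrArg (fun z => ((z.1 : MvPolynomial.homogeneousSubmodule (Fin 2) K 3) : MvPolynomial (Fin 2) K)) hc).symm⟩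

end Groth.Agent.S16516
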