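import Groth.Statements.S16517
import Groth.Agent.PropsBasic.GorResidual
import Groth.Agent.Calg4.RegularAscent
import Groth.Agent.Calg6.CMSop
import Groth.Agent.FlatMorOne.LocalCriterion
import Groth.Agent.Ega4Algebra2.FlatRegular
import Mathlib.RingTheory.Regular.Flat

set_option autoImplicit false
set_option linter.style.haveILetI false
universe u
open CAlg

namespace Groth.Agent.S16517

/-- Let R be a regular local ring, A a Gorenstein local ring which is a flat R-algebra through a local
homomorphism, I ⊂ A an ideal of codimension zero (the Krull dimension of A/I equals that of A) with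
A/I Cohen–Macaulay, and J = (0 : I) the annihilator of I in A (the ideal of the residual subscheme).
Then A/I and A/J are flat over R. -/
theorem result (R A : Type u)
    [CommRing R] [IsRegularLocalRing R] [CommRing A] [Algebra R A] [LocCoh.IsGorensteinLocalRing A]
    [IsLocalHom (algebraMap R A)] [Module.Flat R A] (I : Ideal A)
    (hI : ringKrullDim (A ⧸ I) = ringKrullDim A) [LocCoh.IsCohenMacaulayLocalRing (A ⧸ I)] :
    Module.Flat R (A ⧸ I) ∧ Module.Flat R (A ⧸ (Submodule.annihilator I)) := by
  obtain ⟨hMD, hI1⟩ := Groth.GorResidual.isMaxDepth_of_cm hI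
  have hfg : (IsLocalRing.maximalIdeal R).FG := IsNoetherian.noetherian _
  have hfin := Submodule.FG.finite_generators hfg
  let d := hfin.toFinset.card
  let f : Fin d → R := fun i => (hfin.toFinset.equivFin.symm i).1
  have hd : ringKrullDim R = (d : WithBot ℕ∞) := by
    rw [← IsRegularLocalRing.spanFinrank_maximalIdeal (R := R), ← Submodule.FG.generators_ncard hfg,
      Set.ncard_eq_toFinset_card _ hfin]
  have hspan : Ideal.span (Set.range f) = IsLocalRing.maximalIdeal R := by
    have hr : Set.range f = Submodule.generators (IsLocalRing.maximalIdeal R) := by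
      ext x
      constructor
      · rintro ⟨i, rfl⟩
        exact hfin.mem_toFinset.1 (hfin.toFinset.equivFin.symm i).2
      · intro hx
        exact ⟨hfin.toFinset.equivFin ⟨x, hfin.mem_toFinset.2 hx⟩, by simp [f]⟩
    rw [hr]
    exact Submodule.span_generators _
  have hmem : ∀ x ∈ List.ofFn f, x ∈ IsLocalRing.maximalIdeal R := fun x hx => by
    obtain ⟨i, rfl⟩ := List.mem_ofFn.1 hx
    exact hspan ▸ Ideal.subset_span ⟨i, rfl⟩
  have hof : Ideal.ofList (List.ofFn f) = IsLocalRing.maximalIdeal R := by
    rw [← hspan, Ideal.ofList]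
    congr 1
    ext x
    simp [List.mem_ofFn]
  have hCM := Groth.Calg4.isCohenMacaulayLocalRing_of_isRegularLocalRing R
  have hweak : RingTheory.Sequence.IsWeaklyRegular R (List.ofFn f) := by
    refine Groth.Calg6.isWeaklyRegular_of_supportDim_add_length_le _ R hCM.supportDim_eq_depth hmem ?_
    rw [hof, smul_eq_mul, Ideal.mul_top, Module.supportDim_quotient_eq_ringKrullDim,
      Module.supportDim_self_eq_ringKrullDim, hd]
    letI := Ideal.Quotient.field (IsLocalRing.maximalIdeal R)
    rw [ringKrullDim_eq_zero_of_field]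
    simp
  obtain ⟨-, -, h3, h4⟩ := Groth.GorResidual.main _ ((List.ofFn f).map (algebraMap R A)) rfl
    ((GrothGoren.isGorenstein_iff A).1 inferInstance) I hMD hI1
    (RingTheory.Sequence.IsWeaklyRegular.of_flat hweak) (fun r hr => by
      obtain ⟨s, hs, rfl⟩ := List.mem_map.1 hr
      exact fun hu => hmem s hs (isUnit_of_map_unit _ _ hu))
  have key : ∀ K : Ideal A,
      RingTheory.Sequence.IsWeaklyRegular (A ⧸ K) ((List.ofFn f).map (algebraMap R A)) →
      Module.Flat R (A ⧸ K) := by
    intro K hK
    have hKR := (RingTheory.Sequence.isWeaklyRegular_map_algebraMap_iff A (A ⧸ K) (List.ofFn f)).1 hK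
    have h1 : Function.Injective ((IsLocalRing.maximalIdeal R).subtype.rTensor (A ⧸ K)) := by
      have h := Groth.Ega4b.rTensor_injective_of_isWeaklyRegular f hKR
      rwa [hspan] at h
    haveI := Groth.FlatMorOne.flat_residue_quotient R
      (TensorProduct R (R ⧸ IsLocalRing.maximalIdeal R) (A ⧸ K))
    exact Groth.FlatMorOne.flat_of_rTensor_injective (S := A) (IsLocalRing.maximalIdeal R)
      (Groth.FlatMorOne.map_le_jacobson_of_isLocalHom Ideal.IsPrime.ne_top') h1
  exact ⟨key I h3, key _ h4⟩

end Groth.Agent.S16517
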