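import Groth.Statements.S16519
import Mathlib

set_option autoImplicit false
open CubicSurf

namespace Groth.Agent.S16519

/-- On a smooth cubic surface there are exactly 72 divisor classes L with L² = 1 and L · K = −3. Stated
in the lattice ℤ^{1,6} with basis l, e_1, …, e_6 (l² = 1, e_i² = −1, K = −3l + Σ e_i): the integer
vectors (a, b) ∈ ℤ × ℤ^6, standing for a·l − Σ b_i e_i, with 3a − Σ b_i = 3 and a² − Σ b_i² = 1 form
a set of exactly 72 elements. -/
theorem result :
    {p : ℤ × (Fin 6 → ℤ) | 3 * p.1 - (Finset.univ.sum fun i => p.2 i) = 3 ∧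
        p.1 ^ 2 - (Finset.univ.sum fun i => p.2 i ^ 2) = 1}.ncard = 72 := by
  classical
  let T : Finset (ℤ × (Fin 6 → Fin 3)) :=
    ((Finset.Icc (1 : ℤ) 5) ×ˢ (Finset.univ : Finset (Fin 6 → Fin 3))).filter fun p =>
      3 * p.1 - (∑ i, ((p.2 i : ℕ) : ℤ)) = 3 ∧ p.1 ^ 2 - (∑ i, ((p.2 i : ℕ) : ℤ) ^ 2) = 1
  have hT : T.card = 72 := by decide +kernel
  have hset : {p : ℤ × (Fin 6 → ℤ) | 3 * p.1 - (Finset.univ.sum fun i => p.2 i) = 3 ∧
      p.1 ^ 2 - (Finset.univ.sum fun i => p.2 i ^ 2) = 1} =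
      (fun q : ℤ × (Fin 6 → Fin 3) => (q.1, fun i => ((q.2 i : ℕ) : ℤ))) '' (T : Set _) := by
    ext ⟨a, b⟩
    constructor
    · rintro ⟨h1, h2⟩
      dsimp only at h1 h2
      simp only [Fin.sum_univ_six] at h1 h2
      have ha : 1 ≤ a ∧ a ≤ 5 := by
        constructor <;>
          nlinarith [sq_nonneg (b 0 - b 1), sq_nonneg (b 0 - b 2), sq_nonneg (b 0 - b 3), sq_nonneg (b 0 - b 4),
            sq_nonneg (b 0 - b 5), sq_nonneg (b 1 - b 2), sq_nonneg (b 1 - b 3), sq_nonneg (b 1 - b 4),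
            sq_nonneg (b 1 - b 5), sq_nonneg (b 2 - b 3), sq_nonneg (b 2 - b 4), sq_nonneg (b 2 - b 5),
            sq_nonneg (b 3 - b 4), sq_nonneg (b 3 - b 5), sq_nonneg (b 4 - b 5)]
      have hb : ∀ i, 0 ≤ b i ∧ b i ≤ 2 := by
        intro i
        have cs := Finset.sum_mul_sq_le_sq_mul_sq (Finset.univ.erase i) (fun _ => (1 : ℤ)) b
        simp only [one_mul, one_pow, Finset.sum_const, nsmul_eq_mul, mul_one] at cs
        rw [Finset.card_erase_of_mem (Finset.mem_univ i), Finset.card_univ, Fintype.card_fin,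
          Finset.sum_erase_eq_sub (Finset.mem_univ i), Finset.sum_erase_eq_sub (Finset.mem_univ i)] at cs
        simp only [Fin.sum_univ_six] at cs
        rw [show b 0 + b 1 + b 2 + b 3 + b 4 + b 5 = 3 * a - 3 by linarith,
          show b 0 ^ 2 + b 1 ^ 2 + b 2 ^ 2 + b 3 ^ 2 + b 4 ^ 2 + b 5 ^ 2 = a ^ 2 - 1 by linarith] at cs
        obtain ⟨ha1, ha5⟩ := ha
        interval_cases a <;> norm_num at cs <;> constructor <;> nlinarith
      have hconv : ∀ i, (((⟨(b i).toNat, by have := hb i; omega⟩ : Fin 3) : ℕ) : ℤ) = b i := fun i =>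
        Int.toNat_of_nonneg (hb i).1
      refine ⟨(a, fun i => ⟨(b i).toNat, by have := hb i; omega⟩), ?_, ?_⟩
      · simp only [T, Finset.coe_filter, Set.mem_setOf_eq, Finset.mem_product, Finset.mem_Icc,
          Finset.mem_univ, and_true]
        refine ⟨ha, ?_, ?_⟩
        · simp only [hconv, Fin.sum_univ_six]; exact h1
        · simp only [hconv, Fin.sum_univ_six]; exact h2
      · simp only [hconv]
    · rintro ⟨q, hq, h⟩
      simp only [T, Finset.coe_filter, Set.mem_setOf_eq] at hq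
      rw [← h]
      exact hq.2
  rw [hset, Set.ncard_image_of_injective _ (fun q q' h => ?_), Set.ncard_coe_finset, hT]
  simp only [Prod.mk.injEq] at h
  refine Prod.ext h.1 (funext fun i => Fin.ext ?_)
  exact_mod_cast congr_fun h.2 i

end Groth.Agent.S16519
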