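import Groth.Statements.S1652
import Groth.Agent.PicAux.Integral
import Groth.Agent.PicAux.Tensor

set_option autoImplicit false
universe u
open CategoryTheory CategoryTheory.Limits AlgebraicGeometry
open Variety

namespace Groth.Agent.S1652

/-- On a proper curve over a field, if L and M are invertible modules with L ⊗ M ≅ O_X and both L and M
have a nonzero global section, then L is isomorphic to the structure sheaf. -/
theorem result (k : Type u) [Field k] (X : Scheme.{u}) [X.Over (Spec (CommRingCat.of k))]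
    [IsIntegral X] [IsProper (X ↘ (Spec (CommRingCat.of k)))] (hdim : topologicalKrullDim X = 1)
    (L M : X.Modules) (hL : PicF.IsInvertible L) (hM : PicF.IsInvertible M) (hLM : ClSub.IsInverseOf L M)
    (s : Coh.structureModule X ⟶ L) (hs : s ≠ 0) (t : Coh.structureModule X ⟶ M) (ht : t ≠ 0) :
    Nonempty (L ≅ Coh.structureModule X) := by
  open Groth.PicAux in
  have hfield : IsField (Γ(X, ⊤) : Type u) :=
    isField_of_universallyClosed k (X ↘ Spec (CommRingCat.of k))
  obtain ⟨e⟩ := hLM
  -- the cosection `m ↦ e (m ⊗ t)`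
  set τ : Γ(M, ⊤) := t.app ⊤ (oneSec X ⊤) with hτ
  obtain ⟨φ, hφ⟩ := exists_hom_of_cover (U := fun _ : Unit => (⊤ : X.Opens)) (L := L)
    (M := Coh.structureModule X) (by simp)
    (fun _ V _ m => e.hom.app V (tmulSec m (res M le_top τ)))
    (fun _ V _ m m' => by
      have : tmulSec (m + m') (res M (le_top : V ≤ ⊤) τ) =
          tmulSec m (res M le_top τ) + tmulSec m' (res M le_top τ) := by
        simp only [tmulSec, TensorProduct.add_tmul, map_add]
      rw [this, map_add])
    (fun _ V _ r m => by rw [tmulSec_smul_left, Scheme.Modules.Hom.app_smul])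
    (fun _ V W _ h m => by
      rw [← app_res, res_tmulSec, res_res])
    (fun _ _ V _ _ m => rfl)
  refine iso_structure_of_section_cosection hfield hL s hs φ fun h0 => ?_
  obtain ⟨U, a, hU, hmem, ha⟩ := exists_gen_cover hL
  obtain ⟨x⟩ : Nonempty X := inferInstance
  obtain ⟨V, b, hxV, hb⟩ := (isInvertible_iff_exists_gen M).1 hM x
  have hab := ((ha x).res (inf_le_left : U x ⊓ V ≤ U x)).tensor
    (hb.res (inf_le_right : U x ⊓ V ≤ V))
  obtain ⟨d, hd⟩ := hb.exists_coeff (inf_le_right : U x ⊓ V ≤ V) (res M le_top τ)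
  have h1 : e.hom.app (U x ⊓ V) (tmulSec (res L inf_le_left (a x)) (res M le_top τ)) = 0 := by
    rw [← hφ () (U x ⊓ V) le_top, h0]
    rfl
  rw [hd, tmulSec_smul_right, Scheme.Modules.Hom.app_smul] at h1
  have hd0 : d = 0 := (hab.map e.hom).smul_inj le_rfl (by simpa using h1)
  refine hom_structure_section_ne_zero ht ?_
  exact inv_sec_eq_zero hM (le_top : U x ⊓ V ≤ ⊤) ⟨⟨x, hmem x, hxV⟩⟩ τ (by rw [hd, hd0, zero_smul])

end Groth.Agent.S1652
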