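import Groth.Statements.S16520
import Groth.Agent.VBCurves.P1Split
import Groth.Agent.VBCurves.Sat
import Groth.Agent.VBCurves.H0Bound
import Groth.Agent.Curves1.RR.EtaleGenusZero
import Groth.Agent.ResPropDescent.Main
import Groth.Agent.Misc13.RibbonDeg
import Groth.Agent.CurveBridge.Linear
import Groth.Agent.CurveBridge.BaseChange
import Groth.Agent.EulerDeg.FiniteSupport

set_option autoImplicit false
set_option linter.style.haveILetI false
set_option backward.isDefEq.respectTransparency.types false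
universe u
open CategoryTheory CategoryTheory.Limits AlgebraicGeometry
open Curves

open Groth.VBCurves Groth.CurveBridge

namespace Groth.Agent.S16520

section Tools

attribute [local instance] Groth.EulerDeg.secModule

variable {k : Type u} [Field k] {X : Scheme.{u}} [X.Over (Spec (CommRingCat.of k))] [IsIntegral X]
  [IsProper (X ↘ Spec (CommRingCat.of k))]

theorem dg_coprod : ∀ {n : ℕ} (M : Fin n → X.Modules), (∀ i, FlatMod.IsFinLocFreeOfRank 1 (M i)) →
    dg k (∐ M) = ∑ i, dg k (M i)
  | 0, M, h => by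
    have hr := P1Split.coprod_rank M h
    rw [dg_of_rk_zero k (Groth.LocFree.isFinLocFree_of_rank hr) (rk_eq hr)]
    simp
  | n + 1, M, h => by
    have h0 := Groth.LocFree.isFinLocFree_of_rank (h 0)
    have hn := Groth.LocFree.isFinLocFree_of_rank
      (P1Split.coprod_rank (fun i => M i.succ) fun i => h i.succ)
    have hS := (ShortComplex.Splitting.ofHasBinaryBiproduct (M 0)
      (∐ fun i : Fin n => M i.succ)).shortExact
    have hd := dg_add k hS h0 hn
    dsimp only at hd
    rw [dg_coprod (fun i : Fin n => M i.succ) fun i => h i.succ] at hd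
    rw [Fin.sum_univ_succ, ← hd]
    exact (dg_eq_of_iso (k := k) (Groth.KTheory.LocFree.isFinLocFree_of_shortExact hS h0 hn)
      (P1Split.consIso M)).symm

theorem line_map (hc : IsVBCurve k X) {A B : X.Modules} (hA : PicF.IsInvertible A)
    (hB : PicF.IsInvertible B) (f : A ⟶ B) (hf : f ≠ 0) :
    Curv2.deg k X A 1 ≤ Curv2.deg k X B 1 ∧
      (Curv2.deg k X A 1 = Curv2.deg k X B 1 → Nonempty (A ≅ B)) := by
  have hA1 := Groth.LocFree.isInvertible_iff_ofRank_one.1 hA
  have hB1 := Groth.LocFree.isInvertible_iff_ofRank_one.1 hB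
  have hA' := Groth.LocFree.isFinLocFree_of_rank hA1
  have hB' := Groth.LocFree.isFinLocFree_of_rank hB1
  obtain ⟨K, I, i, p, j, w, -, -, -, hj, hpj, hm, -, hI, hr, -, hpos⟩ := exists_image hc hA' hB' f
  rw [rk_eq hA1] at hr
  have h2 := hpos hf
  have hp : Mono p := hm (by omega)
  have : Mono f := by rw [← hpj]; infer_instance
  have h := dg_le_of_mono k hc.dim.le hA' hB' f (by rw [rk_eq hA1, rk_eq hB1])
  rw [dg_eq k hA1, dg_eq k hB1]
  exact ⟨h.1, fun he => haveI := h.2.mp he; ⟨asIso f⟩⟩

theorem exists_line_map [IsAlgClosed k] (hdim : topologicalKrullDim X = 1) (hreg : IsRegCurve X)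
    (hg : Curv2.genus k X = 1) {A B : X.Modules} (hA : PicF.IsInvertible A)
    (hB : PicF.IsInvertible B) (hd : Curv2.deg k X A 1 < Curv2.deg k X B 1) :
    ∃ f : A ⟶ B, f ≠ 0 := by
  have hK := Groth.CurveBridge.isFunctionField (k := k) (X := X) hdim
  obtain ⟨A', hA', hAA⟩ := Groth.PicAux.exists_isInverseOf hA
  have hAA' := hAA
  obtain ⟨e⟩ := hAA'
  have hBA := Groth.PicAux.isInvertible_tensorMod hB hA'
  have h1 := Groth.EulerDeg.deg_tensor_invertible k hdim.le hA hA'
  rw [Groth.EulerDeg.deg_congr k e 1, Groth.EulerDeg.deg_structure k] at h1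
  have h2 := Groth.EulerDeg.deg_tensor_invertible k hdim.le hB hA'
  obtain ⟨φ, D, hφ, hn0, hnd, hn1⟩ := exists_divEmb hreg hK hBA
  have hpos : 0 < Module.finrank k (Coh.HH X (CohB1.tensorMod B A') 0) := by omega
  haveI := finite_h hreg hK hBA 0
  obtain ⟨w, hw⟩ := Module.finrank_pos_iff_exists_ne_zero.mp hpos
  let v := Groth.EulerDeg.h0Equiv k (CohB1.tensorMod B A') w
  have hv : v ≠ 0 := fun h0 => hw ((Groth.EulerDeg.h0Equiv k _).map_eq_zero_iff.mp h0)
  obtain ⟨σ, hσ⟩ := Groth.VBCurves.H0Bound.exists_transpose hAA (Coh.structureModule X) B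
    (Groth.QCohMod.secHom _ v) (fun h0 => hv (by
      have := Groth.QCohMod.secHom_app_one (CohB1.tensorMod B A') v ⊤
      rw [h0, Groth.QCohMod.res_self] at this
      exact this.symm))
  obtain ⟨c⟩ := Groth.Inter.tensor_comm A (Coh.structureModule X)
  refine ⟨(SecTwist.unitorR A).inv ≫ c.hom ≫ σ, fun h0 => hσ ?_⟩
  rw [← cancel_epi c.hom, ← cancel_epi (SecTwist.unitorR A).inv, h0, comp_zero, comp_zero]

end Tools

/-- Let E be an elliptic curve over an algebraically closed field k of characteristic zero (in place of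
the complex numbers): smooth, proper and geometrically connected over k, of dimension one and genus
dim_k H^1(E, O_E) = 1; let π : E → P^1_k be a k-morphism which is finite and flat of constant rank
2, and L an invertible O_E-module of degree d = χ(L) − χ(O_E). If d = 2e + 1 then π_*L ≅ O(e) ⊕ O(e
− 1); if d = 2e and L ≅ π^*O(e) then π_*L ≅ O(e) ⊕ O(e − 2); if d = 2e and L is not isomorphic to
π^*O(e) then π_*L ≅ O(e − 1) ⊕ O(e − 1). (Existence of isomorphisms of O-modules on P^1_k; the
source states the isomorphisms abstractly.) -/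
theorem result (k : Type u) [Field k]
    [IsAlgClosed k] [CharZero k] (E : Scheme.{u}) [E.Over (Spec (CommRingCat.of k))] [IsProper (E ↘ Spec (CommRingCat.of k))]
    [Smooth (E ↘ Spec (CommRingCat.of k))] [GeometricallyConnected (E ↘ Spec (CommRingCat.of k))]
    (hE : topologicalKrullDim E = 1) (hg : Curv2.genus k E = 1)
    (π : E ⟶ CohB1.ProjSpace 1 k) (hπ : π ≫ CohB1.ProjSpace.toSpec 1 k = E ↘ Spec (CommRingCat.of k))
    [IsFinite π] [Flat π] (hrk : ∀ y : ↥(CohB1.ProjSpace 1 k), Scheme.Hom.finrank π y = 2)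
    (L : E.Modules) (hL : PicF.IsInvertible L) (d : ℤ) (hd : Curv2.deg k E L 1 = d) :
    (∀ e : ℤ, d = 2 * e + 1 → Nonempty ((Scheme.Modules.pushforward π).obj L ≅
        ∐ fun j : Fin 2 => Twist.twistProjSpace 1 k (![e, e - 1] j))) ∧
    (∀ e : ℤ, d = 2 * e → Nonempty (L ≅ (Scheme.Modules.pullback π).obj (Twist.twistProjSpace 1 k e)) →
        Nonempty ((Scheme.Modules.pushforward π).obj L ≅
          ∐ fun j : Fin 2 => Twist.twistProjSpace 1 k (![e, e - 2] j))) ∧
    (∀ e : ℤ, d = 2 * e → IsEmpty (L ≅ (Scheme.Modules.pullback π).obj (Twist.twistProjSpace 1 k e)) →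
        Nonempty ((Scheme.Modules.pushforward π).obj L ≅
          ∐ fun j : Fin 2 => Twist.twistProjSpace 1 k (![e - 1, e - 1] j))) := by
  classical
  haveI := connectedSpace_of_geometrically E k
  haveI := isIntegral_of_smooth k E
  have hc : IsVBCurve k E := IsVBCurve.of_smooth k hE
  have h := isRegCurve_of_smooth k E hE
  have hK := Groth.CurveBridge.isFunctionField (k := k) (X := E) hE
  have hπ' : π ≫ ((CohB1.ProjSpace 1 k) ↘ Spec (CommRingCat.of k)) = E ↘ Spec (CommRingCat.of k) := hπ
  have hP := P1Split.isVBCurve (k := k)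
  haveI := hP.integral
  haveI := hP.proper
  haveI := Groth.EulerDeg.isNoetherian_of_proper k (CohB1.ProjSpace 1 k)
  haveI : LocallyOfFinitePresentation π := inferInstance
  let F := (Scheme.Modules.pushforward π).obj L
  have hL1 := Groth.LocFree.isInvertible_iff_ofRank_one.1 hL
  have hF : FlatMod.IsFinLocFree F :=
    Groth.ResPropDescent.isFinLocFree_push π L (Groth.LocFree.isFinLocFree_of_rank hL1)
  have hinv : ∀ t : ℤ, PicF.IsInvertible ((Scheme.Modules.pullback π).obj (Twist.twistProjSpace 1 k t)) :=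
    fun t => Groth.PicAux.isInvertible_pullback π (P1Split.twist_inv t)
  have hdeg : ∀ t : ℤ,
      Curv2.deg k E ((Scheme.Modules.pullback π).obj (Twist.twistProjSpace 1 k t)) 1 = 2 * t := by
    intro t
    have := Groth.Curves1.RR.deg_pullback_finite k hP.dim.le π hπ' 2 hrk (P1Split.twist_inv t)
    rw [this]
    push_cast
    exact congrArg _ (Groth.Misc13.RibbonDeg.deg_twist k t)
  have hgO : Curv2.euler k E (Coh.structureModule E) = 0 := by
    rw [euler_structure h hK, hg]; norm_num
  have hχP : Curv2.euler k (CohB1.ProjSpace 1 k) (Coh.structureModule (CohB1.ProjSpace 1 k)) = 1 := by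
    obtain ⟨e0⟩ := Groth.Variety2.Reg.nonempty_twist_zero (n := 1) (k := k)
    have := Groth.EulerDeg.euler_congr k e0
    rw [← this]
    have h1 := Groth.PnCoh.euler_twist k 1 0
    rw [Ring.choose_one_right] at h1
    unfold Curv2.euler
    rw [finsum_eq_sum_of_support_subset (s := Finset.range 2) _ fun i hi => ?_]
    · push_cast at h1
      exact h1.trans (by norm_num)
    · simp only [Function.mem_support] at hi
      by_contra h'
      simp only [Finset.coe_range, Set.mem_Iio, not_lt] at h'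
      refine hi ?_
      rw [Groth.PnCoh.finrank_eq_zero k 1 0 i (by omega) (by omega), Nat.cast_zero, mul_zero]
  have hFe : Curv2.euler k (CohB1.ProjSpace 1 k) F = d := by
    rw [Groth.Curves1.RR.euler_push_affine k π hπ' L (Groth.EulerDeg.isCoh_of_isInvertible hL).1]
    have : Curv2.deg k E L 1 = Curv2.euler k E L - 1 * Curv2.euler k E (Coh.structureModule E) := rfl
    rw [hd, hgO] at this
    linarith
  have hFr : rk F = 2 := by
    obtain ⟨pf, -⟩ := Groth.PnCoh.exists_projectionFormula π L (P1Split.twist_inv (k := k) 1)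
    have h1 := Groth.EulerDeg.deg_tensor k hP.dim.le (isFinLocFreeOfRank_rk hF) (P1Split.twist_rank 1)
    have h2 := Groth.EulerDeg.deg_tensor_invertible k hE.le hL (hinv 1)
    rw [hdeg, hd] at h2
    have h3 : Curv2.deg k (CohB1.ProjSpace 1 k) (Twist.twistProjSpace 1 k 1) 1 = 1 :=
      Groth.Misc13.RibbonDeg.deg_twist k 1
    rw [h3] at h1
    simp only [Curv2.deg] at h1 h2
    rw [hgO] at h2
    rw [hχP, hFe, Groth.EulerDeg.euler_congr k pf,
      Groth.Curves1.RR.euler_push_affine k π hπ' _
        (Groth.EulerDeg.isCoh_of_isInvertible (Groth.PicAux.isInvertible_tensorMod hL (hinv 1))).1] at h1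
    push_cast at h1 h2
    omega
  obtain ⟨a, ha, ⟨eF⟩⟩ := P1Split.exists_split 2 F (hFr ▸ isFinLocFreeOfRank_rk hF)
  have ha01 : a 1 ≤ a 0 := ha (Fin.zero_le _)
  have hsum : a 0 + a 1 = d - 2 := by
    have h1 := dg_eq_of_iso (k := k) hF eF
    rw [dg_coprod (k := k) _ (fun i => P1Split.twist_rank _), Fin.sum_univ_two,
      ← dg_eq k (P1Split.twist_rank (a 0)), ← dg_eq k (P1Split.twist_rank (a 1))] at h1
    have h4 : ∀ t : ℤ, Curv2.deg k (CohB1.ProjSpace 1 k) (Twist.twistProjSpace 1 k t) 1 = t :=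
      fun t => Groth.Misc13.RibbonDeg.deg_twist k t
    rw [h4, h4, dg, hFr, Curv2.deg, hFe, hχP] at h1
    push_cast at h1
    omega
  have hlow : ∀ t : ℤ, (∃ f : (Scheme.Modules.pullback π).obj (Twist.twistProjSpace 1 k t) ⟶ L, f ≠ 0) →
      t ≤ a 0 := by
    rintro t ⟨f, hf⟩
    by_contra hlt
    push Not at hlt
    let g := (Scheme.Modules.pullbackPushforwardAdjunction π).homEquiv _ _ f
    have hg0 : g ≫ eF.hom = 0 := P1Split.hom_coprod_eq_zero _ _ fun i _ =>
      P1Split.hom_twist_eq_zero (lt_of_le_of_lt (ha (Fin.zero_le i)) hlt) _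
    have hg1 : g = 0 := by rw [← cancel_mono eF.hom, hg0, zero_comp]
    refine hf (((Scheme.Modules.pullbackPushforwardAdjunction π).homEquiv _ _).injective ?_)
    rw [show (Scheme.Modules.pullbackPushforwardAdjunction π).homEquiv _ _ f = g from rfl, hg1,
      Adjunction.homEquiv_unit, Functor.map_zero, comp_zero]
  have hhigh : ∃ f : (Scheme.Modules.pullback π).obj (Twist.twistProjSpace 1 k (a 0)) ⟶ L, f ≠ 0 := by
    let g := Sigma.ι (fun i : Fin 2 => Twist.twistProjSpace 1 k (a i)) 0 ≫ eF.inv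
    refine ⟨((Scheme.Modules.pullbackPushforwardAdjunction π).homEquiv _ _).symm g, fun h0 => ?_⟩
    have h1 := congrArg ((Scheme.Modules.pullbackPushforwardAdjunction π).homEquiv _ _) h0
    rw [Equiv.apply_symm_apply, Adjunction.homEquiv_unit, Functor.map_zero, comp_zero] at h1
    refine P1Split.ne_zero_of_mono (P1Split.twist_rank (a 0)) g ?_ h1
    infer_instance
  obtain ⟨f₀, hf₀⟩ := hhigh
  have htop := line_map hc (hinv (a 0)) hL f₀ hf₀
  rw [hdeg, hd] at htop
  have hfin : ∀ c : Fin 2 → ℤ, a = c → Nonempty ((Scheme.Modules.pushforward π).obj L ≅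
      ∐ fun j : Fin 2 => Twist.twistProjSpace 1 k (c j)) := fun c hac => ⟨hac ▸ eF⟩
  refine ⟨fun e he => hfin _ ?_, fun e he hi => hfin _ ?_, fun e he hi => hfin _ ?_⟩
  · have h1 := hlow e (exists_line_map hE h hg (hinv e) hL (by rw [hdeg, hd]; omega))
    funext i
    fin_cases i <;> simp <;> omega
  · obtain ⟨i0⟩ := hi
    have h1 := hlow e ⟨i0.inv, fun h0 => not_isZero_of_rank hL1 one_pos
      ((IsZero.iff_id_eq_zero L).2 (by rw [← i0.hom_inv_id, h0, comp_zero]))⟩
    funext i
    fin_cases i <;> simp <;> omega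
  · have h1 : a 0 ≤ e - 1 := by
      by_contra hlt
      have hae : a 0 = e := by omega
      obtain ⟨i0⟩ := htop.2 (by omega)
      exact hi.false (hae ▸ i0.symm)
    funext i
    fin_cases i <;> simp <;> omega

end Groth.Agent.S16520
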