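import Groth.Statements.S1653
import Groth.Agent.FibreDim.Semicontinuity
import Groth.Agent.Variety2.DimFiber
import Groth.Agent.VarietyBC.Dim

set_option autoImplicit false
universe u
open CategoryTheory CategoryTheory.Limits AlgebraicGeometry
open Variety

namespace Groth.Agent.S1653

/-- Let f : X → Y be a k-morphism of schemes locally of finite type over a field k, with X irreducible
of dimension a, and let the closure of the image of f have dimension b. Then the local fibre
dimension of f at every point of X is at least a - b, and the set of points where it equals a - b is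
open and dense. -/
theorem result (k : Type u) [Field k] (X Y : Scheme.{u}) [X.Over (Spec (CommRingCat.of k))] [Y.Over (Spec (CommRingCat.of k))]
    [LocallyOfFiniteType (X ↘ (Spec (CommRingCat.of k)))] [LocallyOfFiniteType (Y ↘ (Spec (CommRingCat.of k)))] [IrreducibleSpace X]
    (f : X ⟶ Y) (hf : f ≫ (Y ↘ (Spec (CommRingCat.of k))) = X ↘ (Spec (CommRingCat.of k))) (a b : ℕ) (ha : topologicalKrullDim X = a)
    (hb : topologicalKrullDim (closure (Set.range f.base)) = b) :
    (∀ x : X, ((a - b : ℕ) : WithBot ℕ∞) ≤ FlatMor.fibreDimAt f x) ∧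
      IsOpen {x : X | FlatMor.fibreDimAt f x = (a - b : ℕ)} ∧ Dense {x : X | FlatMor.fibreDimAt f x = (a - b : ℕ)} := by
  classical
  let fX := X ↘ (Spec (CommRingCat.of k))
  let fY := Y ↘ (Spec (CommRingCat.of k))
  haveI : LocallyOfFiniteType (f ≫ fY) := hf ▸ inferInstance
  haveI : LocallyOfFiniteType f := locallyOfFiniteType_of_comp f fY
  let η := genericPoint X
  have hη : (Order.height η : ℕ∞) = (a : ℕ∞) := by
    rw [Groth.Variety2.Dim.dim_eq_height_genericPoint] at ha
    exact_mod_cast ha
  have hcl : closure (Set.range f.base) = closure {f.base η} := by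
    refine le_antisymm (closure_minimal ?_ isClosed_closure) (closure_mono (Set.singleton_subset_iff.2 ⟨η, rfl⟩))
    rintro _ ⟨x, rfl⟩
    exact ((genericPoint_specializes x).map f.continuous).mem_closure
  have hfη : (Order.height (f.base η) : ℕ∞) = (b : ℕ∞) := by
    rw [hcl, Groth.Variety2.Dim.dim_closure_singleton] at hb
    exact_mod_cast hb
  have hfib : ∀ (y : Y) (z : f.fiber y),
      (Order.height z : ℕ∞) + Order.height y = Order.height (f.fiberι y z) :=
    fun y z => Groth.Variety2.Dim.height_fiber_add fX fY f hf y z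
  have hloc : ∀ x : X, FlatMor.fibreDimAt f x =
      ((Order.height (f.asFiber x) + Order.coheight (f.asFiber x) : ℕ∞) : WithBot ℕ∞) := by
    intro x
    letI : (f.fiber (f.base x)).Over (Spec (CommRingCat.of (Y.residueField (f.base x)))) :=
      ⟨f.fiberToSpecResidueField (f.base x)⟩
    haveI : LocallyOfFiniteType ((f.fiber (f.base x)) ↘ (Spec (CommRingCat.of (Y.residueField (f.base x))))) :=
      inferInstanceAs (LocallyOfFiniteType (pullback.snd f (Y.fromSpecResidueField (f.base x))))
    rw [FlatMor.fibreDimAt, Groth.VarietyBC.localDim_eq_height_add (Y.residueField (f.base x)),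
      ringKrullDim_stalk_eq_coheight, WithBot.coe_add]
  have hlow : ∀ x : X, ((a - b : ℕ) : WithBot ℕ∞) ≤ FlatMor.fibreDimAt f x := by
    intro x
    obtain ⟨z, -, hzx, hfz, hle⟩ := Groth.Variety2.Dim.exists_fiber_height_le fX fY f hf
      (genericPoint_specializes x)
    obtain ⟨z', hz'⟩ : z ∈ Set.range (f.fiberι (f.base x)).base := by
      rw [f.range_fiberι]; exact hfz
    have hspec : z' ⤳ f.asFiber x := by
      refine (f.fiberι (f.base x)).isEmbedding.toIsInducing.specializes_iff.1 ?_
      rw [hz', f.fiberι_asFiber]; exact hzx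
    have h1 : Order.height z' ≤ Order.height (f.asFiber x) + Order.coheight (f.asFiber x) := by
      letI : (f.fiber (f.base x)).Over (Spec (CommRingCat.of (Y.residueField (f.base x)))) :=
        ⟨f.fiberToSpecResidueField (f.base x)⟩
      haveI : LocallyOfFiniteType ((f.fiber (f.base x)) ↘ (Spec (CommRingCat.of (Y.residueField (f.base x))))) :=
        inferInstanceAs (LocallyOfFiniteType (pullback.snd f (Y.fromSpecResidueField (f.base x))))
      exact Groth.VarietyBC.height_le_add_coheight (Y.residueField (f.base x)) hspec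
    change Order.height η + Order.height (f.base x) ≤ Order.height z + Order.height (f.base η) at hle
    rw [hη, hfη, ← hz', ← hfib] at hle
    obtain ⟨n, hn⟩ := Groth.Variety2.Dim.exists_height_eq fY (f.base x)
    rw [hn, add_right_comm] at hle
    have h2 : (a : ℕ∞) ≤ Order.height z' + b := (ENat.add_le_add_iff_right (ENat.natCast_ne_top n)).1 hle
    rw [hloc, show ((a - b : ℕ) : WithBot ℕ∞) = (((a - b : ℕ) : ℕ∞) : WithBot ℕ∞) from rfl,
      WithBot.coe_le_coe, ENat.coe_sub]
    exact (tsub_le_iff_right.2 h2).trans h1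
  have hset : {x : X | FlatMor.fibreDimAt f x = (a - b : ℕ)} = {x : X | FlatMor.fibreDimAt f x ≤ (a - b : ℕ)} :=
    Set.ext fun x => ⟨fun h => le_of_eq h, fun h => le_antisymm h (hlow x)⟩
  have hopen : IsOpen {x : X | FlatMor.fibreDimAt f x = (a - b : ℕ)} := by
    rw [hset]; exact Groth.FibreDim.isOpen_fibreDimAt_le f _
  refine ⟨hlow, hopen, hopen.dense ⟨η, ?_⟩⟩
  show FlatMor.fibreDimAt f η = ((a - b : ℕ) : WithBot ℕ∞)
  have hmax : Order.coheight (f.asFiber η) = 0 := Order.coheight_eq_zero.2 fun w (hw : f.asFiber η ≤ w) => by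
    have h1 := (Scheme.le_iff_specializes.1 hw).map (f.fiberι _).continuous
    rw [f.fiberι_asFiber] at h1
    have h2 : (f.fiberι _).base w = η := (h1.antisymm (genericPoint_specializes _)).eq
    rw [(f.fiberι _).isEmbedding.injective (h2.trans (f.fiberι_asFiber η).symm)]
  have h := hfib _ (f.asFiber η)
  rw [f.fiberι_asFiber] at h
  change Order.height (f.asFiber η) + Order.height (f.base η) = Order.height η at h
  rw [hη, hfη] at h
  obtain ⟨c, hc⟩ := ENat.ne_top_iff_exists.1
    (ne_top_of_le_ne_top (ENat.natCast_ne_top a) (h ▸ le_self_add : Order.height (f.asFiber η) ≤ (a : ℕ∞)))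
  rw [← hc, ← Nat.cast_add, Nat.cast_inj] at h
  rw [hloc, hmax, add_zero, ← hc, show a - b = c by omega]
  rfl

end Groth.Agent.S1653
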