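import Groth.Statements.S16532
import Groth.Agent.PnCI.IdealCoh
import Groth.Agent.CohTwo.CI.Cohom

set_option autoImplicit false
universe u
open CategoryTheory CategoryTheory.Limits AlgebraicGeometry
open Fano

namespace Groth.Agent.S16532

theorem dehom_eq_add {k : Type u} [Field k] (i : Fin 5) (q : LefPen.Form 4 k 2)
    (a b c l₁ l₂ m : LefPen.Form 4 k 1) (hq : q.1 = a.1 * l₁.1 + b.1 * l₂.1 + c.1 * m.1) :
    LefPen.dehom q i = LefPen.dehom a i * LefPen.dehom l₁ i + LefPen.dehom b i * LefPen.dehom l₂ i +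
      LefPen.dehom c i * LefPen.dehom m i := by
  have hd : ∀ {d : ℕ} (F : LefPen.Form 4 k d), (F : MvPolynomial (Fin (4 + 1)) k) ∈ CohB1.polyGrading 4 k (d • 1) :=
    fun {d} F => by rw [smul_eq_mul, mul_one]; exact F.2
  let mk {d : ℕ} (F : LefPen.Form 4 k d) : HomogeneousLocalization.Away (CohB1.polyGrading 4 k) (MvPolynomial.X i) :=
    HomogeneousLocalization.Away.mk (CohB1.polyGrading 4 k) (LefPen.X_mem 4 k i) d F.1 (hd F)
  have h : mk q = mk a * mk l₁ + mk b * mk l₂ + mk c * mk m := by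
    refine HomogeneousLocalization.val_injective _ ?_
    simp only [mk, HomogeneousLocalization.val_add, HomogeneousLocalization.val_mul,
      HomogeneousLocalization.Away.val_mk, Localization.mk_mul, Localization.add_mk,
      Localization.mk_eq_mk_iff, Localization.r_iff_exists]
    refine ⟨1, ?_⟩
    push_cast
    rw [hq]
    ring
  have h' := congrArg (Proj.awayToSection (CohB1.polyGrading 4 k) (MvPolynomial.X i)).hom h
  rw [map_add, map_add, map_mul, map_mul, map_mul] at h'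
  exact h'

/-- Over an algebraically closed field k of characteristic zero (in place of the complex numbers), let Σ
⊂ P^4 be the union of a 2-plane Σ₁ and a smooth quadric surface Σ₂ meeting along a line; then
H^i(P^4, I_Σ(2)) = 0 for all i > 0. Here Σ₁ = V_+(l₁, l₂) and Σ₂ = V_+(m, q) for linearly
independent linear forms l₁, l₂, m and a quadratic form q in the ideal (l₁, l₂, m) (so Σ₁ ∩ Σ₂ is
the line V_+(l₁, l₂, m)), with V_+(m, q) smooth of dimension 2 over k; I_Σ is the intersection of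
the ideal sheaves of Σ₁ and Σ₂, and the conclusion says that the i-th cohomology of I_Σ ⊗ O(2) on
P^4_k vanishes for every i ≥ 1. -/
theorem result (k : Type u) [Field k]
    [IsAlgClosed k] [CharZero k] (l₁ l₂ m : LefPen.Form 4 k 1) (hlin : LinearIndependent k ![l₁, l₂, m])
    (q : LefPen.Form 4 k 2) (a b c : LefPen.Form 4 k 1) (hq : q.1 = a.1 * l₁.1 + b.1 * l₂.1 + c.1 * m.1)
    [Smooth ((LefPen.hypIdeal m ⊔ LefPen.hypIdeal q).subschemeι ≫ CohB1.ProjSpace.toSpec 4 k)]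
    (hdim : topologicalKrullDim ↥(LefPen.hypIdeal m ⊔ LefPen.hypIdeal q).subscheme = 2)
    (i : ℕ) (hi : 1 ≤ i) :
    Subsingleton (Coh.HH (CohB1.ProjSpace 4 k)
      (CohB1.tensorMod (ClSub.idealMod ((LefPen.hypIdeal l₁ ⊔ LefPen.hypIdeal l₂) ⊓
        (LefPen.hypIdeal m ⊔ LefPen.hypIdeal q))) (Twist.twistProjSpace 4 k 2)) i) := by
  classical
  let G3 : ∀ _ : Fin 3, LefPen.Form 4 k 1 := ![l₁, l₂, m]
  have ha3 : ∀ _ : Fin 3, 0 < 1 := fun _ => one_pos
  have hG3 : Groth.PnCI.Good G3 := Groth.PnCI.good_of_linearIndependent G3 hlin (by norm_num)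
  have hG2 := Groth.PnCI.good_init ha3 hG3
  have ha2 : ∀ _ : Fin 2, 0 < 1 := fun _ => one_pos
  let I1 := LefPen.ciIdeal (fun j : Fin 2 => G3 j.castSucc)
  have e1 : LefPen.hypIdeal l₁ ⊔ LefPen.hypIdeal l₂ = I1 :=
    le_antisymm (sup_le (le_iSup (fun j : Fin 2 => LefPen.hypIdeal (G3 j.castSucc)) 0)
      (le_iSup (fun j : Fin 2 => LefPen.hypIdeal (G3 j.castSucc)) 1))
      (iSup_le fun j => by
        fin_cases j
        · exact le_sup_left
        · exact le_sup_right)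
  rw [e1]
  let aJ : Fin 2 → ℕ := ![1, 2]
  let GJ : ∀ j : Fin 2, LefPen.Form 4 k (aJ j) := Fin.cases m (fun j => Fin.cases q (fun j => j.elim0) j)
  have haJ : ∀ j, 0 < aJ j := fun j => by fin_cases j <;> simp [aJ]
  have eJ : LefPen.hypIdeal m ⊔ LefPen.hypIdeal q = LefPen.ciIdeal GJ :=
    le_antisymm (sup_le (le_iSup (fun j => LefPen.hypIdeal (GJ j)) 0)
      (le_iSup (fun j => LefPen.hypIdeal (GJ j)) 1))
      (iSup_le fun j => by
        fin_cases j
        · exact le_sup_left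
        · exact le_sup_right)
  have hGJ : Groth.PnCI.Good GJ := Groth.PnCI.good_of_dim (by norm_num) haJ GJ (by
    rw [← eJ, hdim]
    norm_num)
  set J := LefPen.hypIdeal m ⊔ LefPen.hypIdeal q with hJdef
  set ι := I1.subschemeι
  have hcomap : (LefPen.hypIdeal m).comap ι = J.comap ι := by
    rw [hJdef, Scheme.IdealSheafData.comap_sup]
    refine (sup_eq_left.2 ?_).symm
    have hle : LefPen.hypIdeal q ≤ I1 ⊔ LefPen.hypIdeal m := by
      refine Scheme.IdealSheafData.le_of_iSup_eq_top (U := fun i : Fin 5 => Groth.PnCI.chartAff i) ?_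
        fun i => ?_
      · exact Proj.iSup_basicOpen_eq_top (CohB1.polyGrading 4 k) _ Groth.Chow.ToPn.irrelevant_le_span_X
      · rw [Groth.PnCI.ideal_hyp_chart, Scheme.IdealSheafData.ideal_sup, Pi.sup_apply,
          Groth.PnCI.ideal_ci_chart, Groth.PnCI.ideal_hyp_chart, Ideal.span_le, Set.singleton_subset_iff,
          SetLike.mem_coe, dehom_eq_add i q a b c l₁ l₂ m hq]
        refine add_mem (add_mem ?_ ?_) ?_
        · exact Ideal.mem_sup_left (Ideal.mul_mem_left _ _ (Ideal.subset_span ⟨0, rfl⟩))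
        · exact Ideal.mem_sup_left (Ideal.mul_mem_left _ _ (Ideal.subset_span ⟨1, rfl⟩))
        · exact Ideal.mem_sup_right (Ideal.mul_mem_left _ _ (Ideal.mem_span_singleton_self _))
    refine (Scheme.IdealSheafData.comap_mono ι hle).trans ?_
    show (I1 ⊔ LefPen.hypIdeal m).comap ι ≤ _
    rw [Scheme.IdealSheafData.comap_sup, Groth.CohTwo.CI.comap_subschemeι_self, bot_sup_eq]
  obtain ⟨χ, hχ⟩ := Groth.PnCI.exists_idealMod_incl (show LefPen.hypIdeal m ≤ J from le_sup_left)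
  obtain ⟨ψ, hψ⟩ := Groth.PnCI.exists_idealMod_incl (show I1 ⊓ J ≤ J from inf_le_right)
  obtain ⟨φ, hφ⟩ := Groth.PnCI.exists_resMap I1 J
  obtain ⟨w, hS0⟩ := Groth.PnCI.exists_residualSeq hφ hψ
  haveI := Groth.PnCI.epi_resMap hφ hcomap hχ
  let O2 := Twist.twistProjSpace 4 k (2 : ℤ)
  have hL2 : PicF.IsInvertible O2 := Groth.PlaneCurve.isInvertible_twistProjSpace _
  haveI := Groth.PicAux.isEquivalence_tensorRightMod_of_isInvertible hL2
  let S := (ShortComplex.mk ψ φ w).map (DCoh.tensorRightMod O2)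
  have hS : S.ShortExact := Groth.PicAux.shortExact_tensorRightMod hL2 hS0
  obtain ⟨π, -⟩ := Groth.PnCoh.exists_projectionFormula ι (ClSub.idealMod (J.comap ι)) hL2
  obtain ⟨eI⟩ : Nonempty (ClSub.idealMod (J.comap ι) ≅
      (Scheme.Modules.pullback ι).obj (Twist.twistProjSpace 4 k (-((1 : ℕ) : ℤ)))) := by
    rw [← hcomap]
    exact Groth.PnCI.nonempty_idealMod_step (G := G3) ha3 hG3
  obtain ⟨p, -⟩ := Groth.PicAux.exists_pullback_tensorMod ι (Twist.twistProjSpace 4 k (-((1 : ℕ) : ℤ))) O2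
  obtain ⟨tt⟩ := Groth.Duality.Pn.nonempty_twist_tensor 4 k (-((1 : ℕ) : ℤ)) 2
  let t1 : CohB1.tensorMod (Twist.twistProjSpace 4 k (-((1 : ℕ) : ℤ))) O2 ≅ Twist.twistProjSpace 4 k 1 :=
    tt ≪≫ eqToIso (by norm_num)
  let e3 : S.X₃ ≅ Groth.PnCI.rest ι (Twist.twistProjSpace 4 k 1) :=
    π ≪≫ (Scheme.Modules.pushforward ι).mapIso (PicGrp.tensorModIso eI (Iso.refl _) ≪≫ p.symm ≪≫
      (Scheme.Modules.pullback ι).mapIso t1)
  have h2 : ∀ j : ℕ, 1 ≤ j → Subsingleton (Coh.HH (CohB1.ProjSpace 4 k) S.X₂ j) := by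
    intro j hj
    show Subsingleton (Coh.HH (CohB1.ProjSpace 4 k) (CohB1.tensorMod (ClSub.idealMod J) O2) j)
    rw [eJ]
    exact Groth.PnCI.subsingleton_idealMod_twist aJ haJ GJ hGJ (by norm_num) 2
      (by simp [aJ, Fin.sum_univ_two]) (by norm_num) j hj
  have h3 : ∀ j : ℕ, 1 ≤ j → Subsingleton (Coh.HH (CohB1.ProjSpace 4 k) S.X₃ j) := by
    intro j hj
    refine Groth.PnCI.subsingleton_congr e3 j ?_
    rcases lt_trichotomy j (4 - 2) with h | h | h
    · exact (Groth.PnCI.main 2 _ ha2 _ hG2).1 1 j hj h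
    · subst h
      exact (Groth.PnCI.top_iff 2 _ ha2 _ hG2 (by norm_num) 1).2 (by simp [Fin.sum_univ_two])
    · exact (Groth.PnCI.subsingleton_rest_iff ι _ j).2
        (Groth.Duality.Closed.subsingleton_HH_of_lt ι (Groth.PnCI.dim_le_of_good ha2 _ hG2) _ h)
  obtain ⟨r, rfl⟩ : ∃ r, i = r + 1 := ⟨i - 1, by omega⟩
  show Subsingleton (Coh.HH (CohB1.ProjSpace 4 k) S.X₁ (r + 1))
  refine ⟨fun x y => ?_⟩
  obtain ⟨x', rfl⟩ := (Groth.EulerDeg.exact_left k hS r x).1 (@Subsingleton.elim _ (h2 (r + 1) (by omega)) _ _)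
  obtain ⟨y', rfl⟩ := (Groth.EulerDeg.exact_left k hS r y).1 (@Subsingleton.elim _ (h2 (r + 1) (by omega)) _ _)
  cases r with
  | succ r => rw [@Subsingleton.elim _ (h3 (r + 1) (by omega)) x' y']
  | zero =>
    have hm0 : m ≠ 0 := by
      have h := hlin.ne_zero 2
      simpa using h
    obtain ⟨em⟩ := Groth.PlaneCurve.nonempty_idealMod_hypIdeal hm0
    let f1 : Twist.twistProjSpace 4 k 1 ≅ CohB1.tensorMod (ClSub.idealMod (LefPen.hypIdeal m)) O2 :=
      t1.symm ≪≫ PicGrp.tensorModIso em.symm (Iso.refl _)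
    let g' : Twist.twistProjSpace 4 k 1 ⟶ Groth.PnCI.rest ι (Twist.twistProjSpace 4 k 1) :=
      f1.hom ≫ (DCoh.tensorRightMod O2).map (χ ≫ φ) ≫ e3.hom
    haveI hmap : Epi ((DCoh.tensorRightMod O2).map (χ ≫ φ)) := (DCoh.tensorRightMod O2).map_epi _
    haveI : Epi g' := @epi_comp _ _ _ _ _ f1.hom inferInstance _ (@epi_comp _ _ _ _ _ _ hmap e3.hom inferInstance)
    obtain ⟨g, hge, hgs⟩ := (Groth.PnCI.main 2 _ ha2 _ hG2).2 (by norm_num) 1
    have hL1 := Groth.PlaneCurve.isInvertible_twistProjSpace (r := 4) (k := k) 1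
    have hs := Groth.PnCI.surjective_of_epi ι hL1 (Iso.refl _) g' (Groth.PnCI.surjective_unit ι hL1 g hgs)
    have hg : Function.Surjective (S.g.app ⊤) := fun z => by
      obtain ⟨v, hv⟩ := hs (e3.hom.app ⊤ z)
      refine ⟨((DCoh.tensorRightMod O2).map χ).app ⊤ (f1.hom.app ⊤ v),
        (Groth.PnCI.bijective_app_of_isIso e3.hom).1 (Eq.trans ?_ hv)⟩
      show _ = (f1.hom ≫ (DCoh.tensorRightMod O2).map (χ ≫ φ) ≫ e3.hom).app ⊤ v
      rw [Functor.map_comp]
      rfl
    rw [Groth.PnCI.hDelta_eq_zero_of_surjective hS hg x', Groth.PnCI.hDelta_eq_zero_of_surjective hS hg y']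

end Groth.Agent.S16532
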