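import Groth.Statements.S16534
import Groth.Agent.CurveBridge.FormsVanish
import Groth.Agent.CurveBridge.ToLine
import Groth.Agent.CurveBridge.RegularSmooth
import Groth.Agent.CurveBridge.CliffordApps
-- import your own Groth.Agent.* helpers here

set_option autoImplicit false
universe u
open CategoryTheory CategoryTheory.Limits AlgebraicGeometry
open Curves

namespace Groth.Agent.S16534

open Groth.Chow TopologicalSpace
open scoped Groth.CurveBridge

/-- Over an algebraically closed field k of characteristic zero (in place of the complex numbers), a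
smooth connected quintic curve of genus 2 in P^4 lies in a hyperplane and on a quadric surface in
that hyperplane. Here C is smooth, proper and integral of dimension one over k with dim_k H^1(C,
O_C) = 2, i : C → P^4_k is a closed immersion over k with deg i^*O(1) = χ(i^*O(1)) − χ(O_C) = 5, and
the conclusion provides a nonzero linear form l and a quadratic form q not divisible by l such that
i factors through V_+(l) ∩ V_+(q). -/
theorem result (k : Type u) [Field k] [IsAlgClosed k]
    [CharZero k] (C : Scheme.{u}) [C.Over (Spec (CommRingCat.of k))] [Smooth (C ↘ Spec (CommRingCat.of k))] [IsProper (C ↘ Spec (CommRingCat.of k))]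
    [IsIntegral C] (hC : topologicalKrullDim C = 1) (hg : Curv2.genus k C = 2)
    (i : C ⟶ CohB1.ProjSpace 4 k) [IsClosedImmersion i] (hi : i ≫ CohB1.ProjSpace.toSpec 4 k = C ↘ Spec (CommRingCat.of k))
    (hdeg : Curv2.deg k C ((Scheme.Modules.pullback i).obj (Twist.twistProjSpace 4 k 1)) 1 = 5) :
    ∃ (l : LefPen.Form 4 k 1) (q : LefPen.Form 4 k 2), l ≠ 0 ∧ q.1 ∉ Ideal.span {l.1} ∧
      ∃ j : C ⟶ (LefPen.hypIdeal l ⊔ LefPen.hypIdeal q).subscheme,
        j ≫ (LefPen.hypIdeal l ⊔ LefPen.hypIdeal q).subschemeι = i := by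
  have h : Groth.CurveBridge.IsRegCurve C := Groth.CurveBridge.isRegCurve_of_smooth k C hC
  have hK := Groth.CurveBridge.isFunctionField (k := k) (X := C) h.dim
  have hF := Groth.CurveBridge.isFF k C h.dim
  obtain ⟨L, s, hL, hU, ⟨e⟩, hr⟩ := Groth.CurveBridge.ToLine.exists_sections 4 i hi
  obtain ⟨φ, D, hφ, d0, dd, -⟩ := Groth.CurveBridge.exists_divEmb h hK hL
  let v : Fin (4 + 1) → C.functionField := fun l => Groth.CurveBridge.zv φ (s l)
  have hv : ∀ l, v l ∈ FunFld.L D := fun l => Groth.CurveBridge.zv_mem h hφ (s l)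
  have hc : ∀ j l, ∀ hη : genericPoint C ∈ ToPn.U L s j,
      v j ≠ 0 ∧ C.presheaf.germ (ToPn.U L s j) (genericPoint C) hη (ToPn.c L s j l) = v l / v j := by
    intro j l hη
    have h0 : v j ≠ 0 := fun h0 => by
      obtain ⟨P⟩ := hF.nonempty_place
      obtain ⟨x, rfl⟩ := Groth.CurveBridge.placeAt_surjective (k := k) h P
      obtain ⟨m, hm⟩ := Opens.mem_iSup.mp (hU.ge (Set.mem_univ x.1))
      have h1 := (Groth.CurveBridge.mem_U_iff h s hφ hL m x).mp hm
      have h2 : Groth.CurveBridge.zv φ (s m) = _ := Groth.CurveBridge.zv_coord s (φ := φ) j m hη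
      rw [h2, show Groth.CurveBridge.zv φ (s j) = 0 from h0, mul_zero, map_zero] at h1
      exact WithZero.exp_ne_zero h1.symm
    exact ⟨h0, (eq_div_iff h0).mpr (Groth.CurveBridge.zv_coord s (φ := φ) j l hη).symm⟩
  have hg' : FunFld.genus k C.functionField = 2 := by rw [← Groth.CurveBridge.genus_eq h hK]; exact hg
  have hD : D.deg = 5 := by rw [← dd, ← Groth.EulerDeg.deg_congr k e 1, hdeg]
  have hl4 := Groth.FunFld1.ell_eq_of_deg_ge hK (D := D) (by rw [hD, hg']; norm_num)
  rw [hD, hg'] at hl4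
  have h2D : (2 • D).deg = 10 := by rw [two_nsmul, Groth.FunFld1.deg_add, hD]; norm_num
  have hl9 := Groth.FunFld1.ell_eq_of_deg_ge hK (D := 2 • D) (by rw [h2D, hg']; norm_num)
  rw [h2D, hg'] at hl9
  have n1 := Groth.CurveBridge.FormsVanish.choose_le_finrank_vanishing_add hF hv 1
  have n2 := Groth.CurveBridge.FormsVanish.choose_le_finrank_vanishing_add hF hv 2
  rw [one_nsmul, show Nat.choose (4 + 1) 1 = 5 from rfl] at n1
  rw [show Nat.choose (4 + 2) 2 = 15 from rfl] at n2
  obtain ⟨l, hl, hl0⟩ := Submodule.exists_mem_ne_zero_of_ne_bot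
    (p := Groth.CurveBridge.FormsVanish.vanishing (k := k) v 1) (fun hb => by
      rw [hb, finrank_bot] at n1; omega)
  obtain ⟨q, hq, hql⟩ := Groth.CurveBridge.FormsVanish.exists_not_mem_span (a := 1) (b := 1) l
    (Groth.CurveBridge.FormsVanish.vanishing (k := k) v 2) (by
      show Nat.choose (4 + 1) 1 < Module.finrank k (Groth.CurveBridge.FormsVanish.vanishing (k := k) v 2)
      rw [show Nat.choose (4 + 1) 1 = 5 from rfl]; omega)
  refine ⟨l, q, hl0, hql, ?_⟩
  have hle : LefPen.hypIdeal l ⊔ LefPen.hypIdeal q ≤ i.ker :=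
    sup_le (Groth.CurveBridge.FormsVanish.hypIdeal_le_ker hU hr hc l hl)
      (Groth.CurveBridge.FormsVanish.hypIdeal_le_ker hU hr hc q hq)
  rw [← Scheme.IdealSheafData.ker_subschemeι (LefPen.hypIdeal l ⊔ LefPen.hypIdeal q)] at hle
  exact ⟨IsClosedImmersion.lift _ i hle, IsClosedImmersion.lift_fac _ _ _⟩

end Groth.Agent.S16534
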