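import Groth.Statements.S16536
import Groth.Agent.Misc5Disp.VSharp

set_option autoImplicit false
universe u v
open Disp

namespace Groth.Agent.S16536

/-- Let p be a prime and R a commutative ring in which every prime number other than p is a unit; write
W = W(R) with Frobenius σ, let (P, Q, F, V⁻¹) be a 3n-display over R, and let V# : P → W ⊗_{σ,W} P
be a W-linear map with V#(w·F x) = p·(w ⊗ x) for w ∈ W, x ∈ P and V#(w·V⁻¹ y) = w ⊗ y for w ∈ W, y ∈
Q. Write F# : W ⊗_{σ,W} P → P for the linearisation of F, w ⊗ x ↦ w·F x. Then F# ∘ V# = p·id on P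
and V# ∘ F# = p·id on W ⊗_{σ,W} P. -/
theorem result (p : ℕ) [Fact p.Prime]
    (R : Type u) [CommRing R] (hR : ∀ ℓ : ℕ, ℓ.Prime → ℓ ≠ p → IsUnit (ℓ : R))
    (P : Type v) [AddCommGroup P] [Module (WittVector p R) P] (D : W4c1extbt610.Display3n p R P)
    (Vs : P →ₗ[WittVector p R] Dieu.BC (WittVector.frobenius : WittVector p R →+* WittVector p R) P) (hVs : Dieu.IsVSharp D Vs) :
    (Dieu.BC.lift (WittVector.frobenius : WittVector p R →+* WittVector p R) D.F).comp Vs = (p : WittVector p R) • LinearMap.id ∧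
      Vs.comp (Dieu.BC.lift (WittVector.frobenius : WittVector p R →+* WittVector p R) D.F) = (p : WittVector p R) • LinearMap.id := by
  exact Groth.Misc5Disp.vSharp_comp_lift D hVs

end Groth.Agent.S16536
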