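import Groth.Statements.S16539
import Groth.Agent.Misc5Disp.Iterate

set_option autoImplicit false
universe u v
open Disp

namespace Groth.Agent.S16539

/-- Let p be a prime, k a perfect commutative ring of characteristic p, W = W(k) with Frobenius
automorphism σ, and M a finitely generated projective W-module carrying a Dieudonné module
structure, a σ-semilinear F and a σ⁻¹-semilinear V with FV = VF = p. Let D be the associated
3n-display (M, VM, F, V⁻¹): the 3n-display structure on M whose submodule is the image of V, whose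
Frobenius operator is F and whose inverse operator sends V m to m. Then D is a display, i.e. its
operator V# satisfies the nilpotence condition, if and only if V is topologically nilpotent for the
p-adic topology on M: for every e some power of V maps M into p^e M. -/
theorem result (p : ℕ) [Fact p.Prime] (k : Type u) [CommRing k]
    [CharP k p] [PerfectRing k p]
    (M : Type v) [AddCommGroup M] [Module (WittVector p k) M] [Module.Finite (WittVector p k) M]
    [Module.Projective (WittVector p k) M] (Dm : Dieu.DieuMod p k M) (D : W4c1extbt610.Display3n p k M)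
    (hF : D.F = Dm.F) (hQ : ∀ x : M, x ∈ D.Q ↔ x ∈ Set.range Dm.V)
    (hV : ∀ (m : M) (h : Dm.V m ∈ D.Q), D.Vinv ⟨Dm.V m, h⟩ = m) :
    Dieu.IsDisplay D ↔ Dm.VTopNilp := by
  classical
  have hVs_eq : ∀ Vs, Dieu.IsVSharp D Vs → ∀ m, Vs m = Dieu.BC.tmul _ 1 (Dm.V m) := by
    intro Vs hVs m
    have h := hVs.app_smul_Vinv 1 ⟨Dm.V m, (hQ _).2 ⟨m, rfl⟩⟩
    rwa [one_smul, hV] at h
  have hpow : ∀ Vs, Dieu.IsVSharp D Vs → ∀ n m, Dieu.vSharpPow Vs n m =
      Dieu.BC.tmul _ 1 ((⇑Dm.V)^[n + 1] m) := by
    intro Vs hVs n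
    induction n with
    | zero => intro m; rw [Dieu.vSharpPow_zero_apply, hVs_eq Vs hVs, Dieu.BC.castHom_tmul]; rfl
    | succ n ih =>
      intro m
      rw [Groth.Misc5Disp.vSharpPow_succ', hVs_eq Vs hVs, Groth.Misc5Disp.stepMap_tmul, one_smul, ih,
        Groth.Misc5Disp.twist_tmul, map_one]
      rfl
  have hIV : W4c1extbt610.IV p k ⊔ Ideal.span {(p : WittVector p k)} = Ideal.span {(p : WittVector p k)} := by
    rw [sup_eq_right, Groth.Misc5Disp.IV_eq_ker, WittVector.ker_constantCoeff]
  obtain ⟨r, φ, e, he⟩ := Groth.Misc5Disp.exists_dualBasis (A := WittVector p k) (P := M)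
  have hmem : ∀ (n : ℕ) (z : M),
      Dieu.BC.tmul ((WittVector.frobenius : WittVector p k →+* WittVector p k) ^ n) 1 z ∈
        Ideal.span {(p : WittVector p k)} • (⊤ : Submodule (WittVector p k) _) ↔
      z ∈ Ideal.span {(p : WittVector p k)} • (⊤ : Submodule (WittVector p k) M) := by
    intro n z
    refine ⟨fun h => ?_, fun h => Groth.Misc5Disp.tmul_mem_smul_top_right (fun a ha => ?_) 1 h⟩
    · rw [Groth.Misc5Disp.mem_smul_top_iff_of_dualBasis φ e he]
      rw [Groth.Misc5Disp.mem_smul_top_iff_of_dualBasis _ _ (Groth.Misc5Disp.bc_dualBasis φ e he)] at h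
      intro i
      have h1 := h i
      rw [Groth.Misc5Disp.bcFun_tmul, one_mul] at h1
      obtain ⟨b, hb⟩ := Ideal.mem_span_singleton.1 h1
      have hbij : Function.Bijective ((WittVector.frobenius : WittVector p k →+* WittVector p k) ^ n) := by
        rw [RingHom.coe_pow]
        exact (WittVector.frobenius_bijective p k).iterate n
      obtain ⟨c, rfl⟩ := hbij.2 b
      refine Ideal.mem_span_singleton.2 ⟨c, hbij.1 ?_⟩
      rw [hb, map_mul, map_natCast]
    · obtain ⟨b, rfl⟩ := Ideal.mem_span_singleton.1 ha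
      rw [map_mul, map_natCast]
      exact Ideal.mem_span_singleton.2 (Dvd.intro _ rfl)
  constructor
  · rintro ⟨Vs, hVs, n, hn⟩ e'
    rw [hIV] at hn
    have h1 : ∀ m, (⇑Dm.V)^[n + 1] m ∈ Ideal.span {(p : WittVector p k)} • (⊤ : Submodule (WittVector p k) M) :=
      fun m => (hmem (n + 1) _).1 (hpow Vs hVs n m ▸ hn m)
    refine ⟨(n + 1) * e', fun m => ?_⟩
    induction e' generalizing m with
    | zero => rw [pow_zero, Ideal.one_eq_top, Submodule.top_smul]; trivial
    | succ j ih =>
      have hJ : ∀ a ∈ (Ideal.span {(p : WittVector p k)}) ^ j,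
          ((WittVector.frobeniusEquiv p k).symm : WittVector p k →+* WittVector p k) a ∈
            (Ideal.span {(p : WittVector p k)}) ^ j := by
        intro a ha
        rw [Ideal.span_singleton_pow] at ha ⊢
        obtain ⟨b, rfl⟩ := Ideal.mem_span_singleton.1 ha
        rw [map_mul, map_pow, map_natCast]
        exact Ideal.mem_span_singleton.2 (Dvd.intro _ rfl)
      have hit : ∀ (q : ℕ), ∀ a ∈ (Ideal.span {(p : WittVector p k)}) ^ j, ∀ y : M,
          ∃ a' ∈ (Ideal.span {(p : WittVector p k)}) ^ j, (⇑Dm.V)^[q] (a • y) = a' • (⇑Dm.V)^[q] y := by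
        intro q
        induction q with
        | zero => exact fun a ha y => ⟨a, ha, rfl⟩
        | succ q ihq =>
          intro a ha y
          obtain ⟨a', ha', h'⟩ := ihq a ha y
          exact ⟨_, hJ a' ha', by rw [Function.iterate_succ_apply', Function.iterate_succ_apply', h', map_smulₛₗ]⟩
      have hz := ih m
      rw [show (n + 1) * (j + 1) = (n + 1) + (n + 1) * j by ring, Function.iterate_add_apply]
      refine Submodule.smul_induction_on hz (fun a ha y _ => ?_) (fun u v hu hv => by
        rw [iterate_map_add]; exact add_mem hu hv)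
      obtain ⟨a', ha', h'⟩ := hit (n + 1) a ha y
      rw [h', pow_succ, Submodule.mul_smul]
      exact Submodule.smul_mem_smul ha' (h1 y)
  · intro h
    obtain ⟨N, hN⟩ := h 1
    haveI := Groth.Misc5Disp.isAdicComplete_of_isNilpotent (p := p) (R := k) ⟨1, by rw [pow_one, CharP.cast_eq_zero]⟩
    obtain ⟨Vs, hVs⟩ := Groth.Misc5Disp.exists_isVSharp D
    refine ⟨Vs, hVs, N, fun m => ?_⟩
    rw [hIV, hpow Vs hVs, hmem, Function.iterate_succ_apply]
    simpa using hN (Dm.V m)

end Groth.Agent.S16539
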