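import Groth.Statements.S16540
import Groth.Agent.Misc5Disp.BCNil

set_option autoImplicit false
universe u v
open Disp

namespace Groth.Agent.S16540

/-- Let p be a prime, S a commutative ring in which p is nilpotent, f : S → R a homomorphism of
commutative rings, and (P, Q, F, V⁻¹) a display over S, that is, a 3n-display whose operator V#
satisfies the nilpotence condition. Let (P_R, Q_R, F_R, V_R⁻¹) be a 3n-display structure on P_R =
W(R) ⊗_{W(S)} P which is the base change of (P, Q, F, V⁻¹) along f (Q_R the kernel of P_R → R ⊗_S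
(P/Q), F_R(w ⊗ x) = σ(w) ⊗ F x, V_R⁻¹(w ⊗ y) = σ(w) ⊗ V⁻¹ y for y ∈ Q, V_R⁻¹(V(w) ⊗ x) = w ⊗ F x).
Then (P_R, Q_R, F_R, V_R⁻¹) is a display over R. -/
theorem result (p : ℕ) [Fact p.Prime] (S R : Type u) [CommRing S] [CommRing R]
    (hp : IsNilpotent (p : S)) (f : S →+* R)
    (P : Type v) [AddCommGroup P] [Module (WittVector p S) P] (D : W4c1extbt610.Display3n p S P)
    (hD : Dieu.IsDisplay D)
    (DR : W4c1extbt610.Display3n p R (Dieu.BC (WittVector.map f : WittVector p S →+* WittVector p R) P)) (hDR : Dieu.IsDispBaseChange f D DR) :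
    Dieu.IsDisplay DR := by
  exact Groth.Misc5Disp.isDisplay_baseChange f hp hD hDR

end Groth.Agent.S16540
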