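import Groth.Statements.S16541
import Mathlib
import Groth.Agent.Calg7.WittEffective
-- import your own Groth.Agent.* helpers here

set_option autoImplicit false
universe u v
open CAlg

namespace Groth.Agent.S16541

/-- the map of restricted modules induced by a ring map -/
noncomputable def resMap {A B C : Type*} [CommRing A] [CommRing B] [CommRing C] (g : A →+* B) (h : B →+* C)
    {g' : A →+* C} (e : h.comp g = g') : Dieu.Res g →ₗ[A] Dieu.Res g' where
  toFun t := Dieu.Res.mk g' (h t.val)
  map_add' s t := by rw [Dieu.Res.val_add, map_add, Dieu.Res.mk_add]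
  map_smul' a t := by
    rw [Dieu.Res.val_smul, map_mul, RingHom.id_apply, Dieu.Res.smul_mk, ← RingHom.comp_apply h g, e]

/-- the structure map as a linear map -/
noncomputable def resUnit {A B : Type*} [CommRing A] [CommRing B] (g : A →+* B) : A →ₗ[A] Dieu.Res g where
  toFun a := Dieu.Res.mk g (g a)
  map_add' a b := by rw [map_add, Dieu.Res.mk_add]
  map_smul' a b := by rw [smul_eq_mul, map_mul, RingHom.id_apply, Dieu.Res.smul_mk]

/-- Let p be a prime, S → R a faithfully flat homomorphism of commutative rings and M a flat
W(S)-module; write ι₁, ι₂ : R → R ⊗_S R for the two coprojections, M_R = W(R) ⊗_{W(S)} M and M_{R ⊗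
R} = W(R ⊗_S R) ⊗_{W(S)} M for the scalar extensions along W(S) → W(R) and W(S) → W(R ⊗_S R). Then 0
→ M → M_R ⇉ M_{R ⊗ R} is exact: the map x ↦ 1 ⊗ x from M to M_R is injective, and an element of M_R
has the same image under the two maps w ⊗ x ↦ W(ι₁)(w) ⊗ x and w ⊗ x ↦ W(ι₂)(w) ⊗ x exactly when it
is of the form 1 ⊗ x. The hypothesis e records that the two composite ring maps W(S) → W(R) → W(R
⊗_S R) agree (both coprojections are S-algebra maps); it serves to identify the two targets. -/
theorem result (p : ℕ) [Fact p.Prime]
    (S R : Type u) [CommRing S] [CommRing R] [Algebra S R] [Module.FaithfullyFlat S R]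
    (M : Type v) [AddCommGroup M] [Module (WittVector p S) M] [Module.Flat (WittVector p S) M]
    (e : (WittVector.map (Algebra.TensorProduct.includeLeftRingHom : R →+* TensorProduct S R R) : WittVector p R →+* WittVector p (TensorProduct S R R)).comp (WittVector.map (algebraMap S R) : WittVector p S →+* WittVector p R) = (WittVector.map ((Algebra.TensorProduct.includeRight : R →ₐ[S] TensorProduct S R R) : R →+* TensorProduct S R R) : WittVector p R →+* WittVector p (TensorProduct S R R)).comp (WittVector.map (algebraMap S R) : WittVector p S →+* WittVector p R)) :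
    Function.Injective (Dieu.BC.ι (WittVector.map (algebraMap S R) : WittVector p S →+* WittVector p R) M) ∧
      ∀ z : Dieu.BC (WittVector.map (algebraMap S R) : WittVector p S →+* WittVector p R) M,
        (Dieu.BC.castHom e (Dieu.BC.push (WittVector.map (algebraMap S R) : WittVector p S →+* WittVector p R) (WittVector.map (Algebra.TensorProduct.includeLeftRingHom : R →+* TensorProduct S R R) : WittVector p R →+* WittVector p (TensorProduct S R R)) z) = Dieu.BC.push (WittVector.map (algebraMap S R) : WittVector p S →+* WittVector p R) (WittVector.map ((Algebra.TensorProduct.includeRight : R →ₐ[S] TensorProduct S R R) : R →+* TensorProduct S R R) : WittVector p R →+* WittVector p (TensorProduct S R R)) z ↔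
          z ∈ Set.range (Dieu.BC.ι (WittVector.map (algebraMap S R) : WittVector p S →+* WittVector p R) M)) := by
  set g : WittVector p S →+* WittVector p R := WittVector.map (algebraMap S R)
  set q₁ : WittVector p R →+* WittVector p (TensorProduct S R R) :=
    WittVector.map Algebra.TensorProduct.includeLeftRingHom
  set q₂ : WittVector p R →+* WittVector p (TensorProduct S R R) :=
    WittVector.map ((Algebra.TensorProduct.includeRight : R →ₐ[S] TensorProduct S R R) : R →+* TensorProduct S R R)
  have hinj : Function.Injective (resUnit g) := fun a b hab =>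
    WittVector.map_injective _ Groth.Calg7.WittEff.algebraMap_injective
      (congrArg Dieu.Res.val hab)
  have hex : Function.Exact (resUnit g) (resMap g q₁ e - resMap g q₂ rfl) := by
    intro t
    rw [LinearMap.sub_apply, sub_eq_zero]
    refine ⟨fun h => ?_, ?_⟩
    · have h' : q₁ t.val = q₂ t.val := congrArg Dieu.Res.val h
      have hc : ∀ i, ∃ r, algebraMap S R r = t.val.coeff i := fun i => Groth.Calg7.WittEff.mem_range_of_eq _ (by
        have := congrArg (fun z => WittVector.coeff z i) h'
        simpa [q₁, q₂, WittVector.map_coeff] using this)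
      choose r hr using hc
      refine ⟨WittVector.mk p r, ?_⟩
      have : g (WittVector.mk p r) = t.val := WittVector.ext fun i => by
        rw [WittVector.map_coeff, WittVector.coeff_mk, hr]
      show Dieu.Res.mk g (g _) = t
      rw [this]
      rfl
    · rintro ⟨a, rfl⟩
      have : q₁ (g a) = q₂ (g a) := RingHom.congr_fun e a
      show Dieu.Res.mk _ (q₁ (g a)) = Dieu.Res.mk _ (q₂ (g a))
      rw [this]
  have hι : ∀ x : M, Dieu.BC.ι g M x = (resUnit g).rTensor M ((TensorProduct.lid (WittVector p S) M).symm x) := by
    intro x
    rw [Dieu.BC.ι_apply, TensorProduct.lid_symm_apply, LinearMap.rTensor_tmul]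
    show Dieu.Res.mk g 1 ⊗ₜ[WittVector p S] x = Dieu.Res.mk g (g 1) ⊗ₜ[WittVector p S] x
    rw [map_one]
  have hD : ∀ z : Dieu.BC g M, Dieu.BC.castHom e (Dieu.BC.push g q₁ z) - Dieu.BC.push g q₂ z =
      (resMap g q₁ e - resMap g q₂ rfl).rTensor M z := by
    intro z
    induction z using Dieu.BC.induction_on g with
    | zero =>
      rw [map_zero, map_zero, map_zero, sub_zero]
      exact (map_zero ((resMap g q₁ e - resMap g q₂ rfl).rTensor M)).symm
    | tmul b x =>
      rw [Dieu.BC.push_tmul, Dieu.BC.push_tmul, Dieu.BC.castHom_tmul]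
      show _ = (resMap g q₁ e - resMap g q₂ rfl).rTensor M (Dieu.Res.mk g b ⊗ₜ[WittVector p S] x)
      rw [LinearMap.rTensor_tmul, LinearMap.sub_apply, TensorProduct.sub_tmul]
      rfl
    | add a b ha hb =>
      rw [map_add, map_add, map_add, add_sub_add_comm, ha, hb]
      exact (map_add ((resMap g q₁ e - resMap g q₂ rfl).rTensor M) a b).symm
  refine ⟨fun a b hab => ?_, fun z => ?_⟩
  · rw [hι, hι] at hab
    exact (TensorProduct.lid (WittVector p S) M).symm.injective
      (Module.Flat.rTensor_preserves_injective_linearMap _ hinj hab)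
  · rw [← sub_eq_zero, hD]
    refine ((Module.Flat.rTensor_exact M hex) z).trans ?_
    constructor
    · rintro ⟨w, hw⟩
      obtain ⟨x, rfl⟩ := (TensorProduct.lid (WittVector p S) M).symm.surjective w
      exact ⟨x, (hι x).trans hw⟩
    · rintro ⟨x, rfl⟩
      exact ⟨_, (hι x).symm⟩

end Groth.Agent.S16541
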