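import Groth.Statements.S16542
import Groth.Agent.Misc5Disp.BaseChange
import Mathlib.RingTheory.Flat.FaithfullyFlat.Algebra

set_option autoImplicit false
universe u v
open Disp

namespace Groth.Agent.S16542

/-- Let p be a prime, S → R a faithfully flat homomorphism of commutative rings with p nilpotent in S,
(P, Q, F, V⁻¹) a display over S, and (P_R, Q_R, F_R, V_R⁻¹) a 3n-display structure on P_R = W(R)
⊗_{W(S)} P which is its base change along S → R (Q_R the kernel of P_R → R ⊗_S (P/Q), F_R(w ⊗ x) =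
σ(w) ⊗ F x, V_R⁻¹(w ⊗ y) = σ(w) ⊗ V⁻¹ y for y ∈ Q, V_R⁻¹(V(w) ⊗ x) = w ⊗ F x). Then for x ∈ P one
has x ∈ Q if and only if 1 ⊗ x ∈ Q_R: together with the exactness of 0 → P → P_R ⇉ P_{R ⊗ R} this is
the exactness of 0 → Q → Q_R ⇉ Q_{R ⊗ R} at Q. -/
theorem result (p : ℕ) [Fact p.Prime]
    (S R : Type u) [CommRing S] [CommRing R] [Algebra S R] [Module.FaithfullyFlat S R] (hp : IsNilpotent (p : S))
    (P : Type v) [AddCommGroup P] [Module (WittVector p S) P] (D : W4c1extbt610.Display3n p S P)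
    (hD : Dieu.IsDisplay D)
    (DR : W4c1extbt610.Display3n p R (Dieu.BC (WittVector.map (algebraMap S R) : WittVector p S →+* WittVector p R) P))
    (hDR : Dieu.IsDispBaseChange (algebraMap S R) D DR) (x : P) :
    x ∈ D.Q ↔ Dieu.BC.ι (WittVector.map (algebraMap S R) : WittVector p S →+* WittVector p R) P x ∈ DR.Q := by
  have := D.finite
  have := D.projective
  obtain ⟨π, hπ, Φ, hΦ, hDeq⟩ := Groth.Misc5Disp.exists_mk D
  have hQD : D.Q = Groth.Misc5Disp.qOf π := congrArg W4c1extbt610.Display3n.Q hDeq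
  have hb := Groth.Misc5Disp.bcMk_Q (algebraMap S R) π hπ Φ hΦ
  rw [← hQD, ← hDR.Q_eq] at hb
  change Groth.Misc5Disp.qOf (Dieu.BC.map _ π) = DR.Q at hb
  rw [← hb, Groth.Misc5Disp.mem_qOf, hQD, Groth.Misc5Disp.mem_qOf]
  obtain ⟨n, φ, e, he⟩ := Groth.Misc5Disp.exists_dualBasis (A := WittVector p S) (P := P)
  rw [Groth.Misc5Disp.mem_smul_top_iff_of_dualBasis φ e he,
    Groth.Misc5Disp.mem_smul_top_iff_of_dualBasis _ _ (Groth.Misc5Disp.bc_dualBasis φ e he)]
  refine forall_congr' fun i => ?_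
  rw [Dieu.BC.ι_apply, Dieu.BC.map_tmul]
  simp only [map_sub, Groth.Misc5Disp.bcFun_tmul, one_mul]
  simp only [← map_sub, Groth.Misc5Disp.mem_IV_iff, WittVector.map_coeff]
  exact (map_eq_zero_iff _ (FaithfulSMul.algebraMap_injective S R)).symm

end Groth.Agent.S16542
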