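import Groth.Statements.S16544
import Groth.Agent.Misc5Disp.Rigidity

set_option autoImplicit false
universe u v
open Disp

namespace Groth.Agent.S16544

/-- Let p be a prime and S a commutative ring in which p is nilpotent and whose nilradical (the ideal of
nilpotent elements) is a nilpotent ideal; let (P, Q, F, V⁻¹) and (P', Q', F', V'⁻¹) be displays over
S, i.e. 3n-displays whose operators V# satisfy the nilpotence condition. Then the group of
homomorphisms of displays from P to P' has no p-torsion: a W(S)-linear ψ : P → P' which is a
homomorphism of 3n-displays and satisfies p·ψ = 0 is zero. (The published statement says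
torsion-free; primes other than p are units in S, and the published proof treats the prime p.) -/
theorem result (p : ℕ) [Fact p.Prime]
    (S : Type u) [CommRing S] (hp : IsNilpotent (p : S)) (hn : IsNilpotent (nilradical S))
    (P P' : Type v) [AddCommGroup P] [Module (WittVector p S) P] [AddCommGroup P'] [Module (WittVector p S) P']
    (D : W4c1extbt610.Display3n p S P) (D' : W4c1extbt610.Display3n p S P')
    (hD : Dieu.IsDisplay D) (hD' : Dieu.IsDisplay D')
    (ψ : P →ₗ[WittVector p S] P') (hψ : W4c1extbt610.IsHom D D' ψ)
    (h : (p : WittVector p S) • ψ = 0) : ψ = 0 := by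
  have := D'.finite
  have := D'.projective
  obtain ⟨r, φ, e, he⟩ := Groth.Misc5Disp.exists_dualBasis (A := WittVector p S) (P := P')
  refine Groth.Misc5Disp.eq_zero_of_isHom hp hD hψ hn fun x => ?_
  rw [Groth.Misc5Disp.mem_smul_top_iff_of_dualBasis φ e he]
  intro i
  have h1 : (p : WittVector p S) * φ i (ψ x) = 0 := by
    have := congrArg (φ i) (LinearMap.congr_fun h x)
    simpa using this
  rw [← Groth.Misc5Disp.frobenius_V] at h1
  refine Groth.Misc5Disp.mem_WI.2 fun n => ?_
  have h2 := congrArg (fun w : WittVector p S => w.coeff (n + 1)) h1
  simp only [WittVector.coeff_frobenius, WittVector.frobeniusPoly, map_add, map_mul, map_pow,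
    MvPolynomial.aeval_X, MvPolynomial.aeval_C, WittVector.zero_coeff, WittVector.verschiebung_coeff_succ,
    map_natCast] at h2
  rw [mem_nilradical]
  refine IsNilpotent.of_pow (m := p) ?_
  rw [eq_neg_of_add_eq_zero_left h2, isNilpotent_neg_iff]
  exact (Commute.all _ _).isNilpotent_mul_right hp

end Groth.Agent.S16544
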