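import Groth.Statements.S16545
import Groth.Agent.Misc5Disp.BaseChange
import Groth.Agent.S16542
import Mathlib.RingTheory.TensorProduct.IncludeLeftSubRight

set_option autoImplicit false
universe u v
open Disp

namespace Groth.Agent.S16545

/-- Let p be a prime, S → R a faithfully flat homomorphism of commutative rings with p nilpotent in S,
ι₁, ι₂ : R → R ⊗_S R the two coprojections, and (P, Q, F, V⁻¹), (P', Q', F', V'⁻¹) displays over S
with base changes (P_R, Q_R, F_R, V_R⁻¹) and (P'_R, Q'_R, F'_R, V'_R⁻¹) along S → R (the 3n-display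
structures on W(R) ⊗_{W(S)} P and W(R) ⊗_{W(S)} P' with Q_R = ker(P_R → R ⊗_S P/Q), F_R(w ⊗ x) =
σ(w) ⊗ F x, V_R⁻¹(w ⊗ y) = σ(w) ⊗ V⁻¹ y for y ∈ Q, V_R⁻¹(V(w) ⊗ x) = w ⊗ F x, and likewise for P').
Let χ : P_R → P'_R be a homomorphism of 3n-displays whose two scalar extensions along W(ι₁) and
W(ι₂) agree, after the modules W(R ⊗_S R) ⊗_{W(ι_i),W(R)} (W(R) ⊗_{W(S)} P) are mapped to W(R ⊗_S R)
⊗_{W(S)} P by the canonical maps u ⊗ (w ⊗ x) ↦ u·W(ι_i)(w) ⊗ x (and likewise for P'). Then there is
exactly one homomorphism of 3n-displays ψ : P → P' over S with id ⊗ ψ = χ: the sequence 0 → Hom(P,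
P') → Hom(P_R, P'_R) ⇉ Hom(P_{R⊗R}, P'_{R⊗R}) is exact. The hypotheses e₁, e₂ record that both
composite ring maps W(S) → W(R) → W(R ⊗_S R) equal W(S → R ⊗_S R); they serve to identify targets. -/
theorem result (p : ℕ) [Fact p.Prime]
    (S R : Type u) [CommRing S] [CommRing R] [Algebra S R] [Module.FaithfullyFlat S R] (hp : IsNilpotent (p : S))
    (e₁ : (WittVector.map (Algebra.TensorProduct.includeLeftRingHom : R →+* TensorProduct S R R) : WittVector p R →+* WittVector p (TensorProduct S R R)).comp (WittVector.map (algebraMap S R) : WittVector p S →+* WittVector p R) = (WittVector.map (algebraMap S (TensorProduct S R R)) : WittVector p S →+* WittVector p (TensorProduct S R R)))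
    (e₂ : (WittVector.map ((Algebra.TensorProduct.includeRight : R →ₐ[S] TensorProduct S R R) : R →+* TensorProduct S R R) : WittVector p R →+* WittVector p (TensorProduct S R R)).comp (WittVector.map (algebraMap S R) : WittVector p S →+* WittVector p R) = (WittVector.map (algebraMap S (TensorProduct S R R)) : WittVector p S →+* WittVector p (TensorProduct S R R)))
    (P P' : Type v) [AddCommGroup P] [Module (WittVector p S) P] [AddCommGroup P'] [Module (WittVector p S) P']
    (D : W4c1extbt610.Display3n p S P) (D' : W4c1extbt610.Display3n p S P')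
    (hD : Dieu.IsDisplay D) (hD' : Dieu.IsDisplay D')
    (DR : W4c1extbt610.Display3n p R (Dieu.BC (WittVector.map (algebraMap S R) : WittVector p S →+* WittVector p R) P)) (hDR : Dieu.IsDispBaseChange (algebraMap S R) D DR)
    (DR' : W4c1extbt610.Display3n p R (Dieu.BC (WittVector.map (algebraMap S R) : WittVector p S →+* WittVector p R) P')) (hDR' : Dieu.IsDispBaseChange (algebraMap S R) D' DR')
    (χ : Dieu.BC (WittVector.map (algebraMap S R) : WittVector p S →+* WittVector p R) P →ₗ[WittVector p R] Dieu.BC (WittVector.map (algebraMap S R) : WittVector p S →+* WittVector p R) P') (hχ : W4c1extbt610.IsHom DR DR' χ)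
    (hdesc : ∀ (z₁ : Dieu.BC (WittVector.map (Algebra.TensorProduct.includeLeftRingHom : R →+* TensorProduct S R R) : WittVector p R →+* WittVector p (TensorProduct S R R)) (Dieu.BC (WittVector.map (algebraMap S R) : WittVector p S →+* WittVector p R) P)) (z₂ : Dieu.BC (WittVector.map ((Algebra.TensorProduct.includeRight : R →ₐ[S] TensorProduct S R R) : R →+* TensorProduct S R R) : WittVector p R →+* WittVector p (TensorProduct S R R)) (Dieu.BC (WittVector.map (algebraMap S R) : WittVector p S →+* WittVector p R) P)),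
      (Dieu.BC.castHom (P := P) e₁).comp (Dieu.BC.lift (WittVector.map (Algebra.TensorProduct.includeLeftRingHom : R →+* TensorProduct S R R) : WittVector p R →+* WittVector p (TensorProduct S R R)) (Dieu.BC.push (WittVector.map (algebraMap S R) : WittVector p S →+* WittVector p R) (WittVector.map (Algebra.TensorProduct.includeLeftRingHom : R →+* TensorProduct S R R) : WittVector p R →+* WittVector p (TensorProduct S R R)))) z₁ = (Dieu.BC.castHom (P := P) e₂).comp (Dieu.BC.lift (WittVector.map ((Algebra.TensorProduct.includeRight : R →ₐ[S] TensorProduct S R R) : R →+* TensorProduct S R R) : WittVector p R →+* WittVector p (TensorProduct S R R)) (Dieu.BC.push (WittVector.map (algebraMap S R) : WittVector p S →+* WittVector p R) (WittVector.map ((Algebra.TensorProduct.includeRight : R →ₐ[S] TensorProduct S R R) : R →+* TensorProduct S R R) : WittVector p R →+* WittVector p (TensorProduct S R R)))) z₂ →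
        (Dieu.BC.castHom (P := P') e₁).comp (Dieu.BC.lift (WittVector.map (Algebra.TensorProduct.includeLeftRingHom : R →+* TensorProduct S R R) : WittVector p R →+* WittVector p (TensorProduct S R R)) (Dieu.BC.push (WittVector.map (algebraMap S R) : WittVector p S →+* WittVector p R) (WittVector.map (Algebra.TensorProduct.includeLeftRingHom : R →+* TensorProduct S R R) : WittVector p R →+* WittVector p (TensorProduct S R R)))) (Dieu.BC.map (WittVector.map (Algebra.TensorProduct.includeLeftRingHom : R →+* TensorProduct S R R) : WittVector p R →+* WittVector p (TensorProduct S R R)) χ z₁) =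
          (Dieu.BC.castHom (P := P') e₂).comp (Dieu.BC.lift (WittVector.map ((Algebra.TensorProduct.includeRight : R →ₐ[S] TensorProduct S R R) : R →+* TensorProduct S R R) : WittVector p R →+* WittVector p (TensorProduct S R R)) (Dieu.BC.push (WittVector.map (algebraMap S R) : WittVector p S →+* WittVector p R) (WittVector.map ((Algebra.TensorProduct.includeRight : R →ₐ[S] TensorProduct S R R) : R →+* TensorProduct S R R) : WittVector p R →+* WittVector p (TensorProduct S R R)))) (Dieu.BC.map (WittVector.map ((Algebra.TensorProduct.includeRight : R →ₐ[S] TensorProduct S R R) : R →+* TensorProduct S R R) : WittVector p R →+* WittVector p (TensorProduct S R R)) χ z₂)) :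
    ∃! ψ : P →ₗ[WittVector p S] P', W4c1extbt610.IsHom D D' ψ ∧ Dieu.BC.map (WittVector.map (algebraMap S R) : WittVector p S →+* WittVector p R) ψ = χ := by
  classical
  have := D.finite
  have := D.projective
  have := D'.finite
  have := D'.projective
  obtain ⟨r, φ, e, he⟩ := Groth.Misc5Disp.exists_dualBasis (A := WittVector p S) (P := P)
  obtain ⟨r', φ', e', he'⟩ := Groth.Misc5Disp.exists_dualBasis (A := WittVector p S) (P := P')
  have hinj : Function.Injective (Dieu.BC.ι (WittVector.map (algebraMap S R) : WittVector p S →+* WittVector p R) P') :=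
    Groth.Misc5Disp.ι_injective_of φ' e' he'
      (WittVector.map_injective _ (FaithfulSMul.algebraMap_injective S R))
  have key : ∀ x : P, ∃ z : P', Dieu.BC.tmul (WittVector.map (algebraMap S R) : WittVector p S →+* WittVector p R) 1 z =
      χ (Dieu.BC.tmul _ 1 x) := by
    intro x
    have h := hdesc (Dieu.BC.tmul _ 1 (Dieu.BC.tmul _ 1 x)) (Dieu.BC.tmul _ 1 (Dieu.BC.tmul _ 1 x)) (by
      simp only [LinearMap.comp_apply, Dieu.BC.lift_tmul, one_smul, Dieu.BC.push_tmul, map_one, Dieu.BC.castHom_tmul])
    simp only [LinearMap.comp_apply, Dieu.BC.map_tmul, Dieu.BC.lift_tmul, one_smul] at h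
    generalize χ (Dieu.BC.tmul _ 1 x) = u at h ⊢
    have hc : ∀ i, ∃ a : WittVector p S, WittVector.map (algebraMap S R) a =
        Groth.Misc5Disp.bcFun (WittVector.map (algebraMap S R) : WittVector p S →+* WittVector p R) (φ' i) u := by
      intro i
      have hcalc : ∀ (g : R →+* TensorProduct S R R)
          (e₀ : (WittVector.map g : WittVector p R →+* WittVector p (TensorProduct S R R)).comp (WittVector.map (algebraMap S R) : WittVector p S →+* WittVector p R) = (WittVector.map (algebraMap S (TensorProduct S R R)) : WittVector p S →+* WittVector p (TensorProduct S R R))),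
          Groth.Misc5Disp.bcFun (WittVector.map (algebraMap S (TensorProduct S R R)) : WittVector p S →+* WittVector p (TensorProduct S R R)) (φ' i)
            (Dieu.BC.castHom e₀ (Dieu.BC.push _ (WittVector.map g : WittVector p R →+* WittVector p (TensorProduct S R R)) u)) =
          WittVector.map g (Groth.Misc5Disp.bcFun (WittVector.map (algebraMap S R) : WittVector p S →+* WittVector p R) (φ' i) u) := by
        intro g e₀
        clear h
        induction u using Dieu.BC.induction_on _ with
        | zero => simp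
        | tmul w y =>
          rw [Dieu.BC.push_tmul, Dieu.BC.castHom_tmul, Groth.Misc5Disp.bcFun_tmul, Groth.Misc5Disp.bcFun_tmul,
            map_mul, ← RingHom.comp_apply, e₀]
        | add a b ha hb => simp only [map_add, ha, hb]
      have h2 := congrArg (Groth.Misc5Disp.bcFun (WittVector.map (algebraMap S (TensorProduct S R R)) : WittVector p S →+* WittVector p (TensorProduct S R R)) (φ' i)) h
      rw [hcalc, hcalc] at h2
      have hn : ∀ n, ∃ s : S, algebraMap S R s =
          (Groth.Misc5Disp.bcFun (WittVector.map (algebraMap S R) : WittVector p S →+* WittVector p R) (φ' i) u).coeff n := by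
        intro n
        have h3 := congrArg (fun w : WittVector p (TensorProduct S R R) => w.coeff n) h2
        simp only [WittVector.map_coeff] at h3
        exact ((Algebra.IsEffective.of_faithfullyFlat (R := S) (S := R)) _).1
          ((Algebra.TensorProduct.includeLeftSubRight_apply (R := S) _).trans (sub_eq_zero.2 h3))
      choose s hs using hn
      exact ⟨WittVector.mk p s, WittVector.ext fun n => by rw [WittVector.map_coeff, WittVector.coeff_mk]; exact hs n⟩
    choose a ha using hc
    refine ⟨∑ i, a i • e' i, ?_⟩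
    rw [← Groth.Misc5Disp.bc_dualBasis φ' e' he' u, Groth.Misc5Disp.tmul_sum]
    exact Finset.sum_congr rfl fun i _ => by rw [Groth.Misc5Disp.tmul_smul, ha]
  choose z hz using fun i => key (e i)
  let ψ : P →ₗ[WittVector p S] P' := ∑ i, (φ i).smulRight (z i)
  have hψ : ∀ y, Dieu.BC.tmul (WittVector.map (algebraMap S R) : WittVector p S →+* WittVector p R) 1 (ψ y) =
      χ (Dieu.BC.tmul _ 1 y) := by
    intro y
    conv_rhs => rw [← he y, Groth.Misc5Disp.tmul_sum, map_sum]
    simp only [ψ, LinearMap.sum_apply, LinearMap.smulRight_apply, Groth.Misc5Disp.tmul_sum,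
      Groth.Misc5Disp.tmul_smul, map_smul, hz]
  have hQ : ∀ q, q ∈ D.Q → Dieu.BC.tmul (WittVector.map (algebraMap S R) : WittVector p S →+* WittVector p R) 1 q ∈ DR.Q := by
    intro q hq
    rw [hDR.Q_eq, LinearMap.mem_ker, Dieu.bcQuotMap_tmul, Submodule.mkQ_apply,
      (Submodule.Quotient.mk_eq_zero _).2 hq, Dieu.BC.tmul_zero]
  have hmaps : ∀ q : P, q ∈ D.Q → ψ q ∈ D'.Q := fun q hq => by
    refine (Groth.Agent.S16542.result p S R hp P' D' hD' DR' hDR' (ψ q)).2 ?_
    rw [Dieu.BC.ι_apply, hψ]
    exact hχ.mapsTo _ (hQ q hq)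
  refine ⟨ψ, ⟨⟨hmaps, fun x => hinj ?_, fun y => hinj ?_⟩, Dieu.BC.ext _ fun x => ?_⟩, ?_⟩
  · rw [Dieu.BC.ι_apply, Dieu.BC.ι_apply, hψ]
    have h1 := hχ.comm_F (Dieu.BC.tmul _ 1 x)
    rw [hDR.F_tmul, map_one, ← hψ x, hDR'.F_tmul, map_one] at h1
    exact h1
  · rw [Dieu.BC.ι_apply, Dieu.BC.ι_apply, hψ]
    have hy := hQ y y.2
    have h1 := hχ.comm_Vinv ⟨_, hy⟩
    rw [hDR.Vinv_tmul 1 y hy, map_one] at h1
    have hm : Dieu.BC.tmul (WittVector.map (algebraMap S R) : WittVector p S →+* WittVector p R) 1 (ψ y) ∈ DR'.Q :=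
      (hψ y).symm ▸ hχ.mapsTo _ hy
    have h2 := hDR'.Vinv_tmul 1 ⟨ψ y, hmaps y y.2⟩ hm
    rw [map_one] at h2
    rw [h1, ← h2]
    exact congrArg _ (Subtype.ext (hψ y).symm)
  · rw [Dieu.BC.map_tmul, hψ]
  · rintro ψ' ⟨-, hψ'⟩
    refine LinearMap.ext fun x => hinj ?_
    rw [Dieu.BC.ι_apply, Dieu.BC.ι_apply, hψ, ← hψ', Dieu.BC.map_tmul]

end Groth.Agent.S16545
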