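import Groth.Statements.S16546
import Groth.Agent.Misc5Disp.Iterate
import Mathlib.LinearAlgebra.Matrix.Basis
import Mathlib.LinearAlgebra.Basis.Prod

set_option autoImplicit false
universe u v w
open Disp

namespace Groth.Agent.S16546

/-- Let p be a prime and R a commutative ring in which p is nilpotent (in particular every prime number
other than p is a unit in R); write W = W(R) with Frobenius σ, Verschiebung V, I_R = V(W) and w₀ : W
→ R for the zeroth Witt component. Let (P, Q, F, V⁻¹) be a 3n-display over R with a normal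
decomposition P = L ⊕ T, Q = L + I_R·T in which T and L are free with finite bases (t_j) and (l_k).
Let α be the square matrix over W, indexed by the disjoint union of the two index sets, such that
F(t_j) = Σ_i α_{i,j} e_i and V⁻¹(l_k) = Σ_i α_{i,k} e_i, where (e_i) is the basis of P formed by the
t_j followed by the l_k, and let β be a two-sided inverse of α. Let B be the square block of β on
the L-indices, reduced to R/pR through w₀, and write B^{(p^i)} for the matrix whose entries are the
p^i-th powers of those of B. Then (P, Q, F, V⁻¹) is a display, i.e. its operator V# satisfies the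
nilpotence condition, if and only if B^{(p^{N-1})} ⋯ B^{(p)} · B = 0 for some N ≥ 1. -/
theorem result (p : ℕ) [Fact p.Prime] (R : Type u) [CommRing R]
    (hR : ∀ ℓ : ℕ, ℓ.Prime → ℓ ≠ p → IsUnit (ℓ : R)) (hp : IsNilpotent (p : R))
    (P : Type v) [AddCommGroup P] [Module (WittVector p R) P] (D : W4c1extbt610.Display3n p R P)
    (L T : Submodule (WittVector p R) P) (hLT : IsCompl L T)
    (hQ : D.Q = L ⊔ W4c1extbt610.IV p R • T) (hLQ : L ≤ D.Q)
    (ιT ιL : Type w) [Fintype ιT] [Fintype ιL] [DecidableEq ιT] [DecidableEq ιL]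
    (bT : Module.Basis ιT (WittVector p R) T) (bL : Module.Basis ιL (WittVector p R) L)
    (α β : Matrix (ιT ⊕ ιL) (ιT ⊕ ιL) (WittVector p R)) (hαβ : α * β = 1) (hβα : β * α = 1)
    (hF : ∀ j : ιT, D.F (bT j : P) =
      Finset.univ.sum fun i : ιT ⊕ ιL => α i (Sum.inl j) • Sum.elim (fun a : ιT => (bT a : P)) (fun a : ιL => (bL a : P)) i)
    (hV : ∀ k : ιL, D.Vinv ⟨(bL k : P), hLQ (bL k).2⟩ =
      Finset.univ.sum fun i : ιT ⊕ ιL => α i (Sum.inr k) • Sum.elim (fun a : ιT => (bT a : P)) (fun a : ιL => (bL a : P)) i) :
    Dieu.IsDisplay D ↔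
      ∃ N : ℕ, 0 < N ∧
        (((List.range N).reverse.map fun i : ℕ =>
            (Matrix.of fun k l : ιL =>
                Ideal.Quotient.mk (Ideal.span {(p : R)}) (WittVector.constantCoeff (β (Sum.inr k) (Sum.inr l)))).map
              fun x : R ⧸ Ideal.span {(p : R)} => x ^ p ^ i).prod
          = 0) := by
  classical
  haveI := Groth.Misc5Disp.isAdicComplete_of_isNilpotent hp
  obtain ⟨Vs, hVs⟩ := Groth.Misc5Disp.exists_isVSharp D
  let e : ιT ⊕ ιL → P := Sum.elim (fun a : ιT => (bT a : P)) (fun a : ιL => (bL a : P))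
  let b : Module.Basis (ιT ⊕ ιL) (WittVector p R) P :=
    (bT.prod bL).map (Submodule.prodEquivOfIsCompl T L hLT.symm)
  have hb : ∀ i, b i = e i := by
    rintro (i | i) <;> simp [b, e]
  have he : ∀ y, ∑ i, b.coord i y • e i = y := fun y => by
    simp only [← hb, Module.Basis.coord_apply]
    exact b.sum_repr y
  let q : WittVector p R →+* R ⧸ Ideal.span {(p : R)} := (Ideal.Quotient.mk _).comp WittVector.constantCoeff
  have hq : ∀ x, x ∈ Groth.Misc5Disp.nilIdeal p R ↔ q x = 0 := by
    intro x
    rw [RingHom.comp_apply, Ideal.Quotient.eq_zero_iff_mem]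
    constructor
    · intro hx
      obtain ⟨u, hu, v, hv, rfl⟩ := Submodule.mem_sup.1 hx
      obtain ⟨d, rfl⟩ := Ideal.mem_span_singleton'.1 hv
      rw [map_add, map_mul, map_natCast]
      refine add_mem ?_ (Ideal.mul_mem_left _ _ (Ideal.mem_span_singleton_self _))
      rw [show WittVector.constantCoeff u = 0 from Groth.Misc5Disp.mem_IV_iff.1 hu]
      exact zero_mem _
    · intro hx
      obtain ⟨d, hd⟩ := Ideal.mem_span_singleton'.1 hx
      rw [← sub_add_cancel x (WittVector.teichmuller p d * (p : WittVector p R))]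
      refine Submodule.add_mem_sup (Groth.Misc5Disp.mem_IV_iff.2 ?_) (Ideal.mul_mem_left _ _ (Ideal.mem_span_singleton_self _))
      change WittVector.constantCoeff (x - _) = 0
      rw [map_sub, map_mul, map_natCast, show WittVector.constantCoeff (WittVector.teichmuller p d) = d from
        WittVector.teichmuller_coeff_zero p d, hd, sub_self]
  have hqσ : ∀ x, q ((WittVector.frobenius : WittVector p R →+* WittVector p R) x) = q x ^ p := by
    intro x
    rw [← sub_eq_zero, ← map_pow, ← map_sub, ← hq]
    exact Groth.Misc5Disp.frobenius_sub_pow_mem x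
  have hqσn : ∀ i x, q ((⇑(WittVector.frobenius : WittVector p R →+* WittVector p R))^[i] x) = q x ^ p ^ i := by
    intro i
    induction i with
    | zero => simp
    | succ i ih => intro x; rw [Function.iterate_succ_apply', hqσ, ih, ← pow_mul, pow_succ]
  let M : Matrix ιL ιL (WittVector p R) := Matrix.of fun k l => β (Sum.inr k) (Sum.inr l)
  let PW : ℕ → Matrix ιL ιL (WittVector p R) := fun n =>
    ((List.range (n + 1)).reverse.map fun i : ℕ => M.map (⇑(WittVector.frobenius : WittVector p R →+* WittVector p R))^[i]).prod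
  have hPW0 : PW 0 = M := by simp [PW, Matrix.map_id]
  have hPW : ∀ n, PW (n + 1) = (PW n).map (WittVector.frobenius : WittVector p R →+* WittVector p R) * M := by
    intro n
    have h := map_list_prod (WittVector.frobenius : WittVector p R →+* WittVector p R).mapMatrix ((List.range (n + 1)).reverse.map fun i : ℕ => M.map (⇑(WittVector.frobenius : WittVector p R →+* WittVector p R))^[i])
    rw [RingHom.mapMatrix_apply] at h
    show _ = _
    simp only [PW]
    rw [h, List.range_succ_eq_map, List.reverse_cons, List.map_append, List.prod_append]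
    simp only [List.map_cons, List.map_nil, List.prod_cons, List.prod_nil, mul_one, Function.iterate_zero,
      Matrix.map_id, List.map_reverse, List.map_map]
    congr 4
    funext i
    simp only [Function.comp_apply, RingHom.mapMatrix_apply, Matrix.map_map, ← Function.iterate_succ']
  let Q : ℕ → Matrix ιL ιL (WittVector p R) := fun n => match n with
    | 0 => 1
    | n + 1 => (PW n).map (WittVector.frobenius : WittVector p R →+* WittVector p R)
  let G : ℕ → Matrix ιL (ιT ⊕ ιL) (WittVector p R) := fun n => Q n * Matrix.of fun k m => β (Sum.inr k) m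
  have hGR : ∀ n a k, G n a (Sum.inr k) = PW n a k := by
    intro n a k
    cases n with
    | zero => simp [G, Q, hPW0, M]
    | succ n => simp [G, Q, hPW, Matrix.mul_apply, M]
  let l : ∀ n : ℕ, ιL → Dieu.BC (Groth.Misc5Disp.frN p R n) P := fun n a => Dieu.BC.tmul _ 1 (bL a : P)
  let I := Groth.Misc5Disp.nilIdeal p R
  have hexp : ∀ m, Vs (e m) - ∑ k, β (Sum.inr k) m • Dieu.BC.tmul (WittVector.frobenius : WittVector p R →+* WittVector p R) 1 (bL k : P) ∈
      I • (⊤ : Submodule (WittVector p R) _) := by
    intro m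
    have hm : e m = ∑ i, (α * β) i m • e i := by
      rw [hαβ, Finset.sum_eq_single m]
      · simp
      · intro i _ hi; simp [hi]
      · simp
    have hm2 : e m = ∑ j, β (Sum.inl j) m • D.F (bT j : P) +
        ∑ k, β (Sum.inr k) m • D.Vinv ⟨(bL k : P), hLQ (bL k).2⟩ := by
      conv_lhs => rw [hm]
      simp only [hF, hV, Finset.smul_sum, smul_smul, Matrix.mul_apply, Finset.sum_smul]
      rw [Finset.sum_comm, Fintype.sum_sum_type]
      simp only [mul_comm, e]
    rw [hm2, map_add, map_sum, map_sum]
    simp only [hVs.app_smul_Vinv, hVs.app_smul_F]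
    rw [show ∑ k, Dieu.BC.tmul _ (β (Sum.inr k) m) (bL k : P) = ∑ k, β (Sum.inr k) m • Dieu.BC.tmul (WittVector.frobenius : WittVector p R →+* WittVector p R) 1 (bL k : P) from
      Finset.sum_congr rfl fun k _ => Dieu.BC.tmul_eq_smul_tmul_one _ _ _, add_sub_cancel_right]
    exact Submodule.sum_mem _ fun j _ => Submodule.smul_mem_smul
      (Submodule.mem_sup_right (Ideal.mem_span_singleton_self _)) Submodule.mem_top
  have key : ∀ n m, Dieu.vSharpPow Vs n (e m) - ∑ a, G n a m • l (n + 1) a ∈
      I • (⊤ : Submodule (WittVector p R) _) := by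
    intro n
    induction n with
    | zero =>
      intro m
      have h := Groth.Misc5Disp.map_mem_smul_top (Dieu.BC.castHom (pow_one (WittVector.frobenius : WittVector p R →+* WittVector p R)).symm) (hexp m)
      rw [map_sub, map_sum] at h
      simp only [map_smul, Dieu.BC.castHom_tmul] at h
      rw [Dieu.vSharpPow_zero_apply]
      simpa [G, Q, l] using h
    | succ n ih =>
      intro m
      have h1 := Groth.Misc5Disp.map_mem_smul_top (Groth.Misc5Disp.stepMap Vs n) (hexp m)
      rw [map_sub, map_sum] at h1
      simp only [map_smul, Groth.Misc5Disp.stepMap_tmul, one_smul] at h1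
      rw [Groth.Misc5Disp.vSharpPow_succ']
      rw [← sub_add_sub_cancel _ (∑ k, β (Sum.inr k) m • Groth.Misc5Disp.twist (Groth.Misc5Disp.frN p R (n + 1))
        WittVector.frobenius (g' := Groth.Misc5Disp.frN p R (n + 2)) (Dieu.comp_pow_eq_pow_succ _ _)
        (Dieu.vSharpPow Vs n (bL k : P))) _]
      refine add_mem h1 ?_
      have h2 : ∑ a, G (n + 1) a m • l (n + 2) a = ∑ k, β (Sum.inr k) m •
          Groth.Misc5Disp.twist (Groth.Misc5Disp.frN p R (n + 1))
            WittVector.frobenius (g' := Groth.Misc5Disp.frN p R (n + 2)) (Dieu.comp_pow_eq_pow_succ _ _)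
            (∑ a, G n a (Sum.inr k) • l (n + 1) a) := by
        simp only [map_sum, map_smulₛₗ, Finset.smul_sum, smul_smul]
        rw [Finset.sum_comm]
        refine Finset.sum_congr rfl fun a _ => ?_
        rw [← Finset.sum_smul]
        simp only [l, Groth.Misc5Disp.twist_tmul, map_one]
        congr 1
        simp [G, Q, Matrix.mul_apply, hGR, mul_comm]
      show _ - ∑ a, G (n + 1) a m • l (n + 2) a ∈ _
      rw [h2, ← Finset.sum_sub_distrib]
      refine Submodule.sum_mem _ fun k _ => ?_
      rw [← smul_sub, ← map_sub]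
      exact Submodule.smul_mem _ _ (Groth.Misc5Disp.semilinear_mem_smul_top _
        (fun a ha => Groth.Misc5Disp.frobenius_mem_nilIdeal ha) (ih (Sum.inr k)))
  have hiff : ∀ n, (∀ x, Dieu.vSharpPow Vs n x ∈ I • (⊤ : Submodule (WittVector p R) _)) ↔
      ∀ a m, G n a m ∈ I := by
    intro n
    constructor
    · intro h a m
      have h1 : ∑ a, G n a m • l (n + 1) a ∈ I • (⊤ : Submodule (WittVector p R) _) := by
        have := Submodule.sub_mem _ (h (e m)) (key n m)
        rwa [sub_sub_cancel] at this
      rw [Groth.Misc5Disp.mem_smul_top_iff_of_dualBasis _ _ (Groth.Misc5Disp.bc_dualBasis b.coord e he)] at h1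
      have h2 := h1 (Sum.inr a)
      have hc : ∀ a', b.coord (Sum.inr a) (bL a' : P) = if a = a' then 1 else 0 := fun a' => by
        rw [show (bL a' : P) = b (Sum.inr a') from (hb (Sum.inr a')).symm, Module.Basis.coord_apply, b.repr_self,
          Finsupp.single_apply]
        simp [eq_comm]
      simpa [l, map_sum, hc, apply_ite, Finset.sum_ite_eq] using h2
    · intro h x
      rw [← he x, map_sum]
      refine Submodule.sum_mem _ fun i _ => ?_
      rw [map_smul]
      refine Submodule.smul_mem _ _ ?_
      rw [← sub_add_cancel (Dieu.vSharpPow Vs n (e i)) (∑ a, G n a i • l (n + 1) a)]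
      exact add_mem (key n i) (Submodule.sum_mem _ fun a _ => Submodule.smul_mem_smul (h a i) Submodule.mem_top)
  have hprod : ∀ n, ((List.range (n + 1)).reverse.map fun i : ℕ =>
        (Matrix.of fun k l : ιL =>
          Ideal.Quotient.mk (Ideal.span {(p : R)}) (WittVector.constantCoeff (β (Sum.inr k) (Sum.inr l)))).map
            fun x : R ⧸ Ideal.span {(p : R)} => x ^ p ^ i).prod = (PW n).map q := by
    intro n
    have h := map_list_prod q.mapMatrix ((List.range (n + 1)).reverse.map fun i : ℕ => M.map (⇑(WittVector.frobenius : WittVector p R →+* WittVector p R))^[i])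
    rw [RingHom.mapMatrix_apply] at h
    simp only [PW]
    rw [h, List.map_map]
    congr 2
    funext i
    ext k l
    simp only [Function.comp_apply, RingHom.mapMatrix_apply, Matrix.map_apply, M, Matrix.of_apply]
    exact (hqσn i _).symm
  constructor
  · rintro ⟨Vs', hVs', n, hn⟩
    obtain rfl := Groth.Misc5Disp.vSharp_unique D hVs' hVs
    refine ⟨n + 1, n.succ_pos, ?_⟩
    rw [hprod]
    ext a k
    rw [Matrix.map_apply, Matrix.zero_apply, ← hq, ← hGR]
    exact (hiff n).1 hn a _
  · rintro ⟨N, hN, h⟩
    obtain ⟨n, rfl⟩ := Nat.exists_eq_succ_of_ne_zero hN.ne'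
    rw [Nat.succ_eq_add_one, hprod] at h
    refine ⟨Vs, hVs, n + 1, (hiff (n + 1)).2 fun a m => ?_⟩
    simp only [G, Q, Matrix.mul_apply, Matrix.map_apply, Matrix.of_apply]
    refine Submodule.sum_mem _ fun k _ => Ideal.mul_mem_right _ _ (Groth.Misc5Disp.frobenius_mem_nilIdeal ?_)
    rw [hq]
    exact congrFun (congrFun h a) k

end Groth.Agent.S16546
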