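import Groth.Statements.S16547
import Mathlib
import Groth.Agent.Calg7.InvariantHeightOne
import Groth.Agent.Calg7.EakinNagata
-- import your own Groth.Agent.* helpers here

set_option autoImplicit false
universe u
open CAlg

namespace Groth.Agent.S16547

/-- Let A be a Noetherian factorial local domain and G a finite group acting faithfully on A by ring
automorphisms; let B be a ring with an injective ring map to A whose image is exactly the ring of
invariants of G, and assume A is a finite B-module. Let q be a prime ideal of B of height one and p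
a prime ideal of A lying over q such that the extension of residue fields of the local rings B_q and
A_p is trivial (every element of A is congruent modulo p to some c⁻¹b with b, c in B, c outside q).
Then q is a principal ideal; and if moreover B/q is a regular local ring, then B is a regular local
ring. -/
theorem result
    {A B G : Type u} [CommRing A] [IsDomain A] [IsNoetherianRing A] [IsLocalRing A]
    [UniqueFactorizationMonoid A]
    [CommRing B] [Algebra B A] [FaithfulSMul B A] [Module.Finite B A]
    [Group G] [Finite G] [MulSemiringAction G A] [FaithfulSMul G A] [SMulCommClass G B A]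
    [Algebra.IsInvariant B A G]
    (q : Ideal B) [q.IsPrime] (hq : q.height = 1) (p : Ideal A) [p.IsPrime] [p.LiesOver q]
    (hres : ∀ a : A, ∃ b c : B, c ∉ q ∧ algebraMap B A c * a - algebraMap B A b ∈ p) :
    Submodule.IsPrincipal q ∧ (IsRegularLocalRing (B ⧸ q) → IsRegularLocalRing B) := by
  classical
  haveI : IsNoetherianRing B := Groth.Calg7.EakinNagata.isNoetherianRing_of_finite B A
  have hinj := FaithfulSMul.algebraMap_injective B A
  haveI : IsDomain B := hinj.isDomain (algebraMap B A)
  haveI : Algebra.IsIntegral B A := Algebra.IsIntegral.of_finite B A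
  have hpr := Groth.Calg7.InvariantHeightOne.isPrincipal G q hq p hres
  refine ⟨hpr, fun hreg => ?_⟩
  haveI : IsLocalRing B := IsLocalRing.of_unique_max_ideal
    ⟨(IsLocalRing.maximalIdeal A).comap (algebraMap B A), Ideal.isMaximal_comap_of_isIntegral_of_isMaximal _,
      fun m hm => by
        haveI : m.IsMaximal := hm
        obtain ⟨Q, hQ, hQm⟩ := Ideal.exists_ideal_over_maximal_of_isIntegral (S := A) m
          (by rw [(RingHom.injective_iff_ker_eq_bot _).1 hinj]; exact bot_le)
        rw [← hQm, IsLocalRing.eq_maximalIdeal hQ]⟩
  obtain ⟨n, hn⟩ := hpr.principal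
  have hn0 : n ≠ 0 := by
    rintro rfl
    exact Ideal.ne_bot_of_height_eq_one hq (hn.trans (Submodule.span_zero_singleton _))
  have hnmem : n ∈ q := hn ▸ Submodule.mem_span_singleton_self n
  have hdim : ringKrullDim (B ⧸ q) + 1 ≤ ringKrullDim B :=
    ringKrullDim_succ_le_of_surjective (Ideal.Quotient.mk q) Ideal.Quotient.mk_surjective
      (mem_nonZeroDivisors_of_ne_zero hn0) (Ideal.Quotient.eq_zero_iff_mem.2 hnmem)
  have hfg : (IsLocalRing.maximalIdeal (B ⧸ q)).FG := IsNoetherian.noetherian _
  obtain ⟨σ, hσ⟩ := (Ideal.Quotient.mk_surjective (I := q)).hasRightInverse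
  let gens : Set B := insert n (σ '' (IsLocalRing.maximalIdeal (B ⧸ q)).generators)
  have hspan : Ideal.span gens = IsLocalRing.maximalIdeal B := by
    apply le_antisymm
    · refine Ideal.span_le.2 ?_
      rintro x (rfl | ⟨y, hy, rfl⟩)
      · exact IsLocalRing.le_maximalIdeal (Ideal.IsPrime.ne_top ‹_›) hnmem
      · intro hu
        have : y ∈ IsLocalRing.maximalIdeal (B ⧸ q) := by
          rw [← Submodule.span_generators (IsLocalRing.maximalIdeal (B ⧸ q))]
          exact Submodule.subset_span hy
        exact this (hσ y ▸ hu.map (Ideal.Quotient.mk q))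
    · intro x hx
      have hmap : (Ideal.span gens).map (Ideal.Quotient.mk q) = IsLocalRing.maximalIdeal (B ⧸ q) := by
        have h0 : Ideal.Quotient.mk q n = 0 := Ideal.Quotient.eq_zero_iff_mem.2 hnmem
        rw [Ideal.map_span, Set.image_insert_eq, h0, Ideal.span_insert, Ideal.span_singleton_eq_bot.2 rfl,
          bot_sup_eq, Set.image_image]
        simp only [hσ _, Set.image_id']
        exact Submodule.span_generators _
      have hle : q ≤ Ideal.span gens := by
        rw [hn]
        exact (Submodule.span_singleton_le_iff_mem _ _).2 (Ideal.subset_span (Set.mem_insert _ _))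
      have h1 : Ideal.Quotient.mk q x ∈ (Ideal.span gens).map (Ideal.Quotient.mk q) := by
        rw [hmap, ← IsLocalRing.map_maximalIdeal_of_surjective _ Ideal.Quotient.mk_surjective]
        exact Ideal.mem_map_of_mem _ hx
      rwa [Ideal.mem_quotient_iff_mem_sup, sup_eq_left.2 hle] at h1
  have hgfin : ((IsLocalRing.maximalIdeal (B ⧸ q)).generators).Finite := Submodule.FG.finite_generators hfg
  have hle : (IsLocalRing.maximalIdeal B).spanFinrank ≤ (IsLocalRing.maximalIdeal (B ⧸ q)).spanFinrank + 1 := by
    rw [← hspan]
    refine (Submodule.spanFinrank_span_le_ncard_of_finite ((hgfin.image σ).insert n)).trans ?_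
    refine (Set.ncard_insert_le _ _).trans (Nat.add_le_add_right ((Set.ncard_image_le hgfin).trans ?_) 1)
    rw [Submodule.FG.generators_ncard hfg]
  refine IsRegularLocalRing.of_spanFinrank_maximalIdeal_le B (le_trans ?_ hdim)
  rw [← IsRegularLocalRing.spanFinrank_maximalIdeal (R := B ⧸ q)]
  exact_mod_cast hle

end Groth.Agent.S16547
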