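import Groth.Statements.S16548
import Mathlib
import Groth.Agent.Misc7.RamifiedSeparable
import Groth.Agent.Curves1.CurveMor.Smooth

set_option autoImplicit false
universe u
open CategoryTheory CategoryTheory.Limits AlgebraicGeometry
attribute [local instance] Curv2.resAlgebra
open Curves

namespace Groth.Agent.S16548

/-- Let k be a field, X and Y smooth over k of relative dimension one (not necessarily proper), f : X ->
Y a finite k-morphism and x a closed point of X, with y = f(x). Suppose f is tamely ramified at x: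
m_y O_{X,x} = m_x^e for an integer e ≥ 2 prime to the characteristic of k, and κ(x) is separable
over κ(y). Then κ(x) is separable over k. (Consequently the field generated over k by the residue
fields of all such points is Galois over k.) -/
theorem result (k : Type u) [Field k]
    (X Y : Scheme.{u}) [X.Over (Spec (CommRingCat.of k))] [Y.Over (Spec (CommRingCat.of k))]
    [SmoothOfRelativeDimension 1 (X ↘ Spec (CommRingCat.of k))]
    [SmoothOfRelativeDimension 1 (Y ↘ Spec (CommRingCat.of k))]
    (f : X ⟶ Y) [IsFinite f] (hf : f ≫ (Y ↘ Spec (CommRingCat.of k)) = X ↘ Spec (CommRingCat.of k))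
    (x : X) (hx : IsClosed ({x} : Set X)) (e : ℕ)
    (he : (IsLocalRing.maximalIdeal (Y.presheaf.stalk (f.base x))).map (f.stalkMap x).hom =
      IsLocalRing.maximalIdeal (X.presheaf.stalk x) ^ e)
    (h2 : 2 ≤ e) (hp : ¬ ringChar k ∣ e)
    (hsep : @Algebra.IsSeparable (Y.residueField (f.base x)) (X.residueField x) _ _
      (f.residueFieldMap x).hom.toAlgebra) :
    Algebra.IsSeparable k (X.residueField x) := by
  classical
  set y := f.base x with hy
  letI := Curv2.stalkAlgebra k X x
  letI := Curv2.stalkAlgebra k Y y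
  letI : Algebra (Y.presheaf.stalk y) (X.presheaf.stalk x) := (f.stalkMap x).hom.toAlgebra
  haveI : IsLocalHom (algebraMap (Y.presheaf.stalk y) (X.presheaf.stalk x)) :=
    inferInstanceAs (IsLocalHom (f.stalkMap x).hom)
  haveI : IsScalarTower k (Y.presheaf.stalk y) (X.presheaf.stalk x) := by
    refine IsScalarTower.of_algebraMap_eq fun c => ?_
    show Curv2.stalkMap k X x c = (f.stalkMap x).hom (Curv2.stalkMap k Y y c)
    simp only [Curv2.stalkMap, Coh.toGlobal, RingHom.comp_apply]
    have h := Scheme.Hom.germ_stalkMap_apply f ⊤ x trivial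
      ((Y ↘ Spec (CommRingCat.of k)).appTop.hom ((Scheme.ΓSpecIso (CommRingCat.of k)).inv.hom c))
    refine Eq.trans ?_ h.symm
    conv_lhs => rw [← hf]
    rfl
  haveI : Smooth (X ↘ Spec (CommRingCat.of k)) := SmoothOfRelativeDimension.smooth 1 _
  haveI : LocallyOfFiniteType (X ↘ Spec (CommRingCat.of k)) := inferInstance
  haveI : IsLocallyNoetherian X := LocallyOfFiniteType.isLocallyNoetherian (X ↘ Spec (CommRingCat.of k))
  haveI : Module.Finite k (IsLocalRing.ResidueField (X.presheaf.stalk x)) :=
    Groth.Curves1.CurveMor.finite_residueField_of_isClosed hx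
  obtain ⟨_, ⟨W : X.Opens, hW, rfl⟩, hxW, -⟩ :=
    X.isBasis_affineOpens.exists_subset_of_mem_open (Set.mem_univ x) isOpen_univ
  have : IsAffine W := hW
  letI := (Groth.VarietyBC.openMap (k := k) hW).toAlgebra
  obtain ⟨eqv⟩ := Groth.VarietyBC.nonempty_stalkAlgEquiv (k := k) hW hxW
  set P := (hW.primeIdealOf ⟨x, hxW⟩).asIdeal with hP
  have hPmax : P.IsMaximal := hW.primeIdealOf_isMaximal_of_isClosed ⟨x, hxW⟩ hx
  have h' : SmoothOfRelativeDimension 1 (hW.fromSpec ≫ (X ↘ Spec (CommRingCat.of k))) := by
    exact IsZariskiLocalAtSource.comp (P := @SmoothOfRelativeDimension 1) inferInstance _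
  rw [Groth.VarietyBC.fromSpec_str] at h'
  obtain ⟨S, hS, hSs⟩ := (HasRingHomProperty.Spec_iff (P := @SmoothOfRelativeDimension 1)).1 h'
  obtain ⟨t, htS, htP⟩ : ∃ t ∈ S, t ∉ P := by
    by_contra hc
    push Not at hc
    exact hPmax.ne_top (top_le_iff.mp (hS ▸ Ideal.span_le.mpr hc))
  have hst : Algebra.IsStandardSmoothOfRelativeDimension 1 k (Localization.Away t) := by
    rw [← RingHom.isStandardSmoothOfRelativeDimension_algebraMap]
    exact hSs t htS
  obtain ⟨⟨ω, hω⟩, hne⟩ := Groth.RamifiedSep.exists_of_isStandardSmooth P t htP hst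
  letI : Algebra (Localization.AtPrime P) (X.presheaf.stalk x) := eqv.toAlgHom.toRingHom.toAlgebra
  haveI : IsScalarTower k (Localization.AtPrime P) (X.presheaf.stalk x) :=
    IsScalarTower.of_algebraMap_eq fun c => (eqv.commutes c).symm
  let Φ := KaehlerDifferential.map k k (Localization.AtPrime P) (X.presheaf.stalk x)
  have hΦ : Function.Surjective Φ :=
    KaehlerDifferential.map_surjective_of_surjective k k _ _ eqv.surjective
  obtain ⟨t₀, ht₀, ht₀2⟩ : ∃ t₀ ∈ IsLocalRing.maximalIdeal (X.presheaf.stalk x),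
      t₀ ∉ IsLocalRing.maximalIdeal (X.presheaf.stalk x) ^ 2 := by
    by_contra hc
    push Not at hc
    have h0 : IsLocalRing.maximalIdeal (X.presheaf.stalk x) = ⊥ :=
      Submodule.eq_bot_of_le_smul_of_le_jacobson_bot _ _ (IsNoetherian.noetherian _)
        (fun z hz => by rw [smul_eq_mul, ← sq]; exact hc z hz) (IsLocalRing.maximalIdeal_le_jacobson _)
    refine hne (eq_bot_iff.mpr fun z hz => ?_)
    have hz' : eqv z ∈ IsLocalRing.maximalIdeal (X.presheaf.stalk x) := fun hu => hz (by
      simpa using hu.map eqv.symm)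
    rw [h0, Ideal.mem_bot, map_eq_zero_iff _ eqv.injective] at hz'
    simp [hz']
  have hsep' : Algebra.IsSeparable (IsLocalRing.ResidueField (Y.presheaf.stalk y))
      (IsLocalRing.ResidueField (X.presheaf.stalk x)) := by
    letI : Algebra (Y.residueField (f.base x)) (X.residueField x) := (f.residueFieldMap x).hom.toAlgebra
    haveI := hsep
    refine Algebra.IsSeparable.of_equiv_equiv
      (A₁ := Y.residueField (f.base x)) (B₁ := X.residueField x)
      (A₂ := IsLocalRing.ResidueField (Y.presheaf.stalk y))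
      (B₂ := IsLocalRing.ResidueField (X.presheaf.stalk x))
      (RingEquiv.refl _) (RingEquiv.refl _) ?_
    refine RingHom.ext fun c => ?_
    obtain ⟨a, rfl⟩ := IsLocalRing.residue_surjective c
    rfl
  have key := Groth.RamifiedSep.isSeparable_of_ramified (k := k) (A := Y.presheaf.stalk y)
    (B := X.presheaf.stalk x) hsep' (he.le.trans (Ideal.pow_le_pow_right h2)) ht₀ ht₀2 (ω := Φ ω) fun η => by
      obtain ⟨η, rfl⟩ := hΦ η
      obtain ⟨b, rfl⟩ := hω η
      exact ⟨algebraMap _ (X.presheaf.stalk x) b, by rw [map_smul, algebraMap_smul]⟩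
  exact key

end Groth.Agent.S16548
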