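import Groth.Statements.S16551
import Groth.Agent.ModelsGraphs.GoingDownNormal

set_option autoImplicit false
set_option linter.unusedSimpArgs false
universe u
open CategoryTheory CategoryTheory.Limits AlgebraicGeometry
open Models

namespace Groth.Agent.S16551

/-- Let R be a discrete valuation ring, W and Z integral normal schemes which are flat, of finite type
and of dimension 2 over Spec R, and ψ : W -> Z a finite surjective R-morphism. Let z be a closed
point of Z lying in the special fibre, w a point of W with ψ(w) = z, and Δ an irreducible component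
of the special fibre of Z with z ∈ Δ. Then some irreducible component Γ of the special fibre of W
contains w and satisfies ψ(Γ) = Δ. (The published statement asks W and Z only to be normal; they are
taken integral as well here.) -/
theorem result
    (R : Type u) [CommRing R] [IsDomain R] [IsDiscreteValuationRing R]
    (W Z : Over (Spec (CommRingCat.of R))) [IsIntegral W.left] [IsIntegral Z.left]
    (hWn : Pi1.IsNormalScheme W.left) (hZn : Pi1.IsNormalScheme Z.left)
    [Flat W.hom] [LocallyOfFiniteType W.hom] [QuasiCompact W.hom]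
    [Flat Z.hom] [LocallyOfFiniteType Z.hom] [QuasiCompact Z.hom]
    (hdW : topologicalKrullDim W.left = 2) (hdZ : topologicalKrullDim Z.left = 2)
    (ψ : W ⟶ Z) [IsFinite ψ.left] [Surjective ψ.left]
    (z : Z.left) (hzc : IsClosed ({z} : Set Z.left)) (hz : z ∈ Models.specialFibreSet R Z)
    (w : W.left) (hw : ψ.left.base w = z)
    (Δ : Set Z.left) (hΔ : Δ ∈ Models.fibreComponents R Z) (hzΔ : z ∈ Δ) :
    ∃ Γ ∈ Models.fibreComponents R W, w ∈ Γ ∧ ψ.left.base '' Γ = Δ := by
  subst hw
  have hf : ∀ x : W.left, x ∈ Models.specialFibreSet R W ↔ ψ.left.base x ∈ Models.specialFibreSet R Z := fun x => by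
    change W.hom x = _ ↔ Z.hom (ψ.left x) = _
    rw [← Over.w ψ, Scheme.Hom.comp_apply]
  obtain ⟨δ, hδ⟩ := QuasiSober.sober hΔ.1.1.closure isClosed_closure
  have hZc := Models.isClosed_specialFibreSet R Z
  have hclΔ : closure Δ = Δ := Set.Subset.antisymm
    (hΔ.2 ⟨hΔ.1.1.closure, closure_minimal hΔ.1.2 hZc⟩ subset_closure) subset_closure
  rw [hclΔ] at hδ
  obtain ⟨u, hu, huδ⟩ := Groth.ModelsGraphs.GoingDownNormal.generalizingMap (fun y => (hZn y).2) ψ.left
    (hδ.specializes hzΔ)
  have huδ' : ψ.left.base u = δ := huδ
  refine ⟨closure {u}, ⟨⟨isIrreducible_singleton.closure, closure_minimal (Set.singleton_subset_iff.2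
    ((hf u).2 (huδ' ▸ hΔ.1.2 hδ.mem))) (Models.isClosed_specialFibreSet R W)⟩, fun S hS hsub => ?_⟩,
    hu.mem_closure, ?_⟩
  · obtain ⟨v, hv⟩ := QuasiSober.sober hS.1.closure isClosed_closure
    have hvS : v ∈ Models.specialFibreSet R W :=
      closure_minimal hS.2 (Models.isClosed_specialFibreSet R W) hv.mem
    have hvu : v ⤳ u := hv.specializes (subset_closure (hsub (subset_closure rfl)))
    have h1 : ψ.left.base v ⤳ δ := huδ' ▸ hvu.map ψ.left.continuous
    have h2 : closure {ψ.left.base v} ⊆ Δ := hΔ.2
      ⟨isIrreducible_singleton.closure, closure_minimal (Set.singleton_subset_iff.2 ((hf v).1 hvS)) hZc⟩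
      (by rw [← hδ.def]; exact h1.closure_subset)
    have h3 : ψ.left.base v = δ := h1.antisymm (hδ.specializes (h2 (subset_closure rfl))) |>.eq
    obtain rfl := Groth.ModelsGraphs.GoingDownNormal.eq_of_specializes ψ.left hvu (h3.trans huδ'.symm)
    exact subset_closure.trans hv.def.superset
  · refine (ψ.left.isClosedMap.closure_image_eq_of_continuous ψ.left.continuous {u}).symm.trans ?_
    rw [Set.image_singleton]
    exact (congrArg (fun a => closure ({a} : Set Z.left)) huδ').trans hδ.def

end Groth.Agent.S16551
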