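import Groth.Statements.S16555
import Groth.Agent.ModelsGraphs.RatSingFibre

set_option autoImplicit false
set_option linter.unusedSimpArgs false
universe u
open CategoryTheory CategoryTheory.Limits AlgebraicGeometry
open Models

namespace Groth.Agent.S16555

/-- Let R be a discrete valuation ring with algebraically closed residue field k, YR an integral normal
scheme of dimension 2, proper and flat over Spec R, ZR an integral normal scheme with a proper
R-morphism π : ZR -> YR which is an isomorphism over some nonempty open subset of YR, and y a closed
point of YR in the special fibre such that the local ring O_{YR,y} is a rational singularity and the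
fibre π⁻¹(y) has dimension one. Then each irreducible component of π⁻¹(y) is, with its reduced
structure, a projective line over k: there is a closed immersion of P^1_k into ZR, compatible with
the maps to Spec R, whose image is that component. The published statement takes YR to be a
projective normal model of a smooth geometrically connected curve; this row only asks YR integral,
normal, two-dimensional, proper and flat over R, which is all the local argument uses. (The
published statement also adds that the dual graph of π⁻¹(y) is a tree when ZR is regular; not
restated.) -/
theorem result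
    (R : Type u) [CommRing R] [IsDomain R] [IsDiscreteValuationRing R]
    (hk : IsAlgClosed (IsLocalRing.ResidueField R))
    (YR ZR : Over (Spec (CommRingCat.of R))) [IsIntegral YR.left] [IsIntegral ZR.left]
    (hYn : Pi1.IsNormalScheme YR.left) (hZn : Pi1.IsNormalScheme ZR.left)
    [IsProper YR.hom] [Flat YR.hom] (hdY : topologicalKrullDim YR.left = 2)
    (π : ZR ⟶ YR) [IsProper π.left]
    (hbir : ∃ U : YR.left.Opens, (U : Set YR.left).Nonempty ∧ IsIso (π.left ∣_ U))
    (y : YR.left) (hyc : IsClosed ({y} : Set YR.left)) (hys : y ∈ Models.specialFibreSet R YR)
    (hrat : Curv2.IsRationalSing (YR.left.presheaf.stalk y))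
    (hdim : topologicalKrullDim (π.left.base ⁻¹' ({y} : Set YR.left)) = 1)
    (E : Set ZR.left)
    (hE : Maximal (fun S : Set ZR.left => IsIrreducible S ∧ S ⊆ π.left.base ⁻¹' ({y} : Set YR.left)) E) :
    ∃ e : CohB1.ProjSpace 1 (IsLocalRing.ResidueField R) ⟶ ZR.left, IsClosedImmersion e ∧ Set.range e.base = E ∧
      e ≫ ZR.hom = CohB1.ProjSpace.toSpec 1 (IsLocalRing.ResidueField R) ≫
        Spec.map (CommRingCat.ofHom (algebraMap R (IsLocalRing.ResidueField R))) := by
  haveI := hk
  obtain ⟨U, hU, hiso⟩ := hbir
  haveI := hiso
  exact Groth.ModelsGraphs.RatSingFibre.exists_projLine YR ZR hYn hZn π U hU y hyc hys hrat hdim E hE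

end Groth.Agent.S16555
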