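import Groth.Statements.S16557
import Groth.Agent.SurfRR.Numerics
-- import your own Groth.Agent.* helpers here

set_option autoImplicit false
universe u
open CategoryTheory CategoryTheory.Limits AlgebraicGeometry TopologicalSpace
open Surf

namespace Groth.Agent.S16557

/-- Let X be a smooth proper integral surface over an algebraically closed field k, W = Λ²Ω_{X/k} a
canonical module, and suppose H⁰(X, W) = 0 (the source states this for smooth rational surfaces and
uses exactly the vanishing of H⁰(X, K_X)). If L is an invertible O_X-module with H⁰(X, L) ≠ 0, then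
H²(X, L) = 0. -/
theorem result (k : Type u) [Field k] [IsAlgClosed k]
    (X : Scheme.{u}) [X.Over (Spec (CommRingCat.of k))] [IsIntegral X] [IsProper (X ↘ (Spec (CommRingCat.of k)))] [Smooth (X ↘ (Spec (CommRingCat.of k)))]
    (hdim : topologicalKrullDim X = 2)
    (W : X.Modules) (hW : ExtPow.IsExtPow 2 (Omega.sheaf (X ↘ (Spec (CommRingCat.of k)))) W)
    (hpg : Subsingleton (Coh.HH X W 0))
    (L : X.Modules) (hL : PicF.IsInvertible L) (h0 : Nontrivial (Coh.HH X L 0)) :
    Subsingleton (Coh.HH X L 2) := by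
  obtain ⟨hWi, hDD⟩ := Groth.SurfRR.dualDim_topForms' k hdim hW
  obtain ⟨L', hL', hLL'⟩ := Groth.PicAux.exists_isInverseOf hL
  refine Groth.SurfRR.subsingleton_of_finrank_eq_zero k (Groth.Inter.isCoh_of_isInvertible hL) ?_
  rw [← hDD L L' hL hLL' 0 (by omega)]
  obtain ⟨φ, hφ⟩ := (Groth.Inter.nontrivial_h0_iff k L).1 h0
  have hT := Groth.PicAux.isInvertible_tensorMod hWi hL'
  haveI : Subsingleton (Coh.HH X (CohB1.tensorMod W L') 0) := by
    by_contra h
    rw [not_subsingleton_iff_nontrivial] at h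
    obtain ⟨ψ, hψ⟩ := (Groth.Inter.nontrivial_h0_iff k _).1 h
    haveI := Groth.EulerDeg.mono_of_ne_zero (Groth.EulerDeg.isInvertible_structureModule X) hL hφ
    haveI := Groth.EulerDeg.mono_of_ne_zero (Groth.EulerDeg.isInvertible_structureModule X) hT hψ
    obtain ⟨S, hS, ⟨e₁⟩, ⟨e₂⟩, -⟩ := Groth.Inter.exists_shortExact_twist hT
      (Groth.CohTwo.cokerSeq_shortExact φ)
    haveI : Mono S.f := hS.mono_f
    let e₀ : CohB1.tensorMod (CohB1.tensorMod W L') (Coh.structureModule X) ≅ CohB1.tensorMod W L' :=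
      (Groth.Inter.tensor_comm _ _).some ≪≫ (Groth.Inter.tensor_one _).some
    let e₃ : CohB1.tensorMod (CohB1.tensorMod W L') L ≅ W :=
      (Groth.Inter.tensor_assoc W L' L).some ≪≫
        (Groth.Inter.tensor_congr ⟨Iso.refl W⟩ ⟨(Groth.Inter.tensor_comm L' L).some ≪≫ hLL'.some⟩).some ≪≫
          (Groth.Inter.tensor_comm W _).some ≪≫ (Groth.Inter.tensor_one W).some
    let χ : Coh.structureModule X ⟶ W := (ψ ≫ e₀.inv ≫ e₁.inv ≫ S.f ≫ e₂.hom) ≫ e₃.hom
    have hχ : χ ≠ 0 := fun hz => hψ (by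
      haveI : Mono (e₀.inv ≫ e₁.inv ≫ S.f ≫ e₂.hom) := inferInstance
      rw [← cancel_mono (e₀.inv ≫ e₁.inv ≫ S.f ≫ e₂.hom), zero_comp, ← cancel_mono e₃.hom, zero_comp]
      exact hz)
    exact not_nontrivial_iff_subsingleton.2 hpg ((Groth.Inter.nontrivial_h0_iff k W).2 ⟨χ, hχ⟩)
  exact Module.finrank_zero_of_subsingleton

end Groth.Agent.S16557
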