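import Groth.Statements.S16559
import Groth.Agent.SurfRR.PlaneBlowUp
-- import your own Groth.Agent.* helpers here

set_option autoImplicit false
universe u
open CategoryTheory CategoryTheory.Limits AlgebraicGeometry TopologicalSpace
open Surf

namespace Groth.Agent.S16559

/-- Let k be an algebraically closed field, p_1, …, p_r distinct closed points of the projective plane
P²_k and σ : X → P²_k the blow-up of P²_k in the ideal of the reduced finite set {p_1, …, p_r}
(universal property), X being regarded over k through σ; X is then an integral smooth proper surface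
(carried as hypotheses). Write H = σ^*O(1), (L·M) = χ(O_X) − χ(L) − χ(M) + χ(L ⊗ M) for the
intersection number of invertible modules L, M, and for a closed subscheme C ⊆ X with ideal I_C
write (L·C) = χ(O_C ⊗ L) − χ(O_C) and C² = (I_C·I_C). If L is an invertible O_X-module with (L·H) ≥
−2, then H²(X, L) = 0. (The source takes the points in general position; that assumption plays no
role here.) -/
theorem result (k : Type u) [Field k] [IsAlgClosed k]
    (r : ℕ) (P : Fin r → ↥(CohB1.ProjSpace 2 k)) (hP : Function.Injective P)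
    (hPc : ∀ i, IsClosed ({P i} : Set ↥(CohB1.ProjSpace 2 k))) (hZ : IsClosed (Set.range P))
    (X : Scheme.{u}) [X.Over (Spec (CommRingCat.of k))] (σ : X ⟶ CohB1.ProjSpace 2 k)
    (hσk : σ ≫ CohB1.ProjSpace.toSpec 2 k = X ↘ (Spec (CommRingCat.of k)))
    (hσ : BlowUp.IsBlowUp σ (Scheme.IdealSheafData.vanishingIdeal ⟨Set.range P, hZ⟩))
    [IsIntegral X] [IsProper (X ↘ (Spec (CommRingCat.of k)))] [Smooth (X ↘ (Spec (CommRingCat.of k)))] (hdim : topologicalKrullDim X = 2)
    (L : X.Modules) (hL : PicF.IsInvertible L) (hLH : -2 ≤ FGA.intNum k X 2 ![L, ((Scheme.Modules.pullback σ).obj (Twist.twistProjSpace 2 k 1))] (Coh.structureModule X)) :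
    Subsingleton (Coh.HH X L 2) := by
  rw [Groth.Inter.intNum_eq_pair k hdim.le] at hLH
  haveI : SmoothOfRelativeDimension 2 (X ↘ (Spec (CommRingCat.of k))) :=
    Groth.PnCI.smoothOfRelativeDimension_of_irreducible (X ↘ (Spec (CommRingCat.of k))) hdim
  have hΩ := Groth.OmegaSheaf.isFinLocFreeOfRank_sheaf (X ↘ (Spec (CommRingCat.of k))) 2
  haveI : (Omega.sheaf (X ↘ (Spec (CommRingCat.of k)))).IsQuasicoherent :=
    Groth.KTheory.LocFree.isQCoh (Groth.LocFree.isFinLocFree_of_rank hΩ)
  obtain ⟨W, -, hW⟩ := Groth.LocFree.exists_isExtPow 2 (Omega.sheaf (X ↘ (Spec (CommRingCat.of k))))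
  obtain ⟨hWi, hDD⟩ := Groth.SurfRR.dualDim_topForms' k hdim hW
  obtain ⟨L', hL', hLL'⟩ := Groth.PicAux.exists_isInverseOf hL
  have hW' := Groth.PicAux.isInvertible_tensorMod hWi hL'
  have hH := Groth.SurfRR.Plane.isInvertible_line k σ
  have h0 : Subsingleton (Coh.HH X (CohB1.tensorMod W L') 0) := by
    by_contra h
    rw [not_subsingleton_iff_nontrivial] at h
    have h1 := Groth.SurfRR.Plane.pair_line_nonneg k σ hσk hdim hW' h
    rw [Groth.Inter.pair_tensor k hdim.le hWi hL' hH,
      Groth.Inter.pair_inverse k hdim.le hL hLL' hH, Groth.Inter.pair_comm k W,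
      (Groth.SurfRR.Plane.pair_line k P hZ σ hσk hσ hdim hW).2] at h1
    linarith
  refine Groth.SurfRR.subsingleton_of_finrank_eq_zero k (Groth.Inter.isCoh_of_isInvertible hL) ?_
  rw [← hDD L L' hL hLL' 0 (by omega)]
  haveI := h0
  exact Module.finrank_zero_of_subsingleton

end Groth.Agent.S16559
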