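import Groth.Statements.S16561
import Groth.Agent.SurfRR.PlaneBlowUp
import Groth.Agent.SurfRR.NegCurve
import Groth.Agent.S16559
-- import your own Groth.Agent.* helpers here

set_option autoImplicit false
universe u
open CategoryTheory CategoryTheory.Limits AlgebraicGeometry TopologicalSpace
open Surf

namespace Groth.Agent.S16561

/-- Let k be an algebraically closed field, p_1, …, p_r distinct closed points of the projective plane
P²_k and σ : X → P²_k the blow-up of P²_k in the ideal of the reduced finite set {p_1, …, p_r}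
(universal property), X being regarded over k through σ; X is then an integral smooth proper surface
(carried as hypotheses). Write H = σ^*O(1), (L·M) = χ(O_X) − χ(L) − χ(M) + χ(L ⊗ M) for the
intersection number of invertible modules L, M, and for a closed subscheme C ⊆ X with ideal I_C
write (L·C) = χ(O_C ⊗ L) − χ(O_C) and C² = (I_C·I_C). A (−1)-curve is an integral closed
one-dimensional subscheme E ⊆ X with H¹(E, O_E) = 0 and E² = −1. Let L be an invertible O_X-module,
d = (L·H), χ⁻ = max(−χ(L), 0), and E a (−1)-curve with (H·E) ≤ d + 2. If dim_k H¹(X, L) = χ⁻, then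
(L·E) ≥ −1 − χ⁻. (The source takes the points in general position; that assumption plays no role
here.) -/
theorem result (k : Type u) [Field k] [IsAlgClosed k]
    (r : ℕ) (P : Fin r → ↥(CohB1.ProjSpace 2 k)) (hP : Function.Injective P)
    (hPc : ∀ i, IsClosed ({P i} : Set ↥(CohB1.ProjSpace 2 k))) (hZ : IsClosed (Set.range P))
    (X : Scheme.{u}) [X.Over (Spec (CommRingCat.of k))] (σ : X ⟶ CohB1.ProjSpace 2 k)
    (hσk : σ ≫ CohB1.ProjSpace.toSpec 2 k = X ↘ (Spec (CommRingCat.of k)))
    (hσ : BlowUp.IsBlowUp σ (Scheme.IdealSheafData.vanishingIdeal ⟨Set.range P, hZ⟩))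
    [IsIntegral X] [IsProper (X ↘ (Spec (CommRingCat.of k)))] [Smooth (X ↘ (Spec (CommRingCat.of k)))] (hdim : topologicalKrullDim X = 2)
    (L : X.Modules) (hL : PicF.IsInvertible L)
    (E : X.IdealSheafData) (hEi : IsIntegral E.subscheme) (hE1 : topologicalKrullDim (E.support : Set X) = 1)
    (hEg : Subsingleton (Coh.HH E.subscheme (Coh.structureModule E.subscheme) 1))
    (hEE : FGA.intNum k X 2 ![ClSub.idealMod E, ClSub.idealMod E] (Coh.structureModule X) = -1)
    (hEH : (Curv2.euler k X (CohB1.tensorMod (ClSub.quotMod E) ((Scheme.Modules.pullback σ).obj (Twist.twistProjSpace 2 k 1))) - Curv2.euler k X (ClSub.quotMod E)) ≤ FGA.intNum k X 2 ![L, ((Scheme.Modules.pullback σ).obj (Twist.twistProjSpace 2 k 1))] (Coh.structureModule X) + 2)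
    (h1 : (Module.finrank k (Coh.HH X L 1) : ℤ) = max (-Curv2.euler k X L) 0) :
    -1 - max (-Curv2.euler k X L) 0 ≤ (Curv2.euler k X (CohB1.tensorMod (ClSub.quotMod E) L) - Curv2.euler k X (ClSub.quotMod E)) := by
  have hreg := Groth.SurfRR.isRegularLocalRing_stalk k (X := X)
  have hEc : Groth.SurfNum.IsCurve E := ⟨hEi, hE1⟩
  have hEe := hEc.isEffCartier k hdim hreg
  have hI := hEc.isInvertible k hdim hreg
  have hH := Groth.SurfRR.Plane.isInvertible_line k σ
  letI : E.subscheme.Over (Spec (CommRingCat.of k)) := ⟨E.subschemeι ≫ (X ↘ Spec (CommRingCat.of k))⟩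
  rw [Groth.Inter.intNum_eq_pair k hdim.le] at hEE hEH
  rw [Groth.SurfNum.deg_eq k hEe hH] at hEH
  rw [Groth.SurfNum.deg_eq k hEe hL]
  haveI : IsNoetherian X := Groth.Inter.isNoetherian k
  have hQ : Curv2.euler k X (ClSub.quotMod E) = 1 := (Groth.SurfRR.euler_curve_eq_one_iff k hEc).2 hEg
  have hT := Groth.PicAux.isInvertible_tensorMod hL hI
  have hHE := Groth.SurfRR.Plane.pair_ideal_line_nonpos k σ hσk hdim hEe
  by_contra hcon
  have h0 := Groth.SurfRR.finrank_h0_twist_curve k hdim hreg hEc hL (by omega)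
  have hχ := Groth.SurfRR.euler_twist_curve k hdim hreg hEc hL
  haveI := Groth.Agent.S16559.result k r P hP hPc hZ X σ hσk hσ hdim L hL
    (by rw [Groth.Inter.intNum_eq_pair k hdim.le]; linarith)
  haveI := Groth.Agent.S16559.result k r P hP hPc hZ X σ hσk hσ hdim _ hT
    (by rw [Groth.Inter.intNum_eq_pair k hdim.le, Groth.Inter.pair_tensor k hdim.le hL hI hH]; linarith)
  rw [Groth.Inter.euler_eq_three k hdim.le, Groth.Inter.euler_eq_three k hdim.le, hQ, h0,
    Module.finrank_zero_of_subsingleton (M := Coh.HH X L 2),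
    Module.finrank_zero_of_subsingleton (M := Coh.HH X (CohB1.tensorMod L (ClSub.idealMod E)) 2)] at hχ
  rw [Groth.Inter.euler_eq_three k hdim.le, Module.finrank_zero_of_subsingleton (M := Coh.HH X L 2)]
    at hcon h1
  push_cast at hχ hcon h1
  omega

end Groth.Agent.S16561
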