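import Groth.Statements.S16564
import Groth.Agent.SurfRR.PlaneBlowUp
import Groth.Agent.SurfRR.NegCurve
import Groth.Agent.S16559
-- import your own Groth.Agent.* helpers here

set_option autoImplicit false
universe u
open CategoryTheory CategoryTheory.Limits AlgebraicGeometry TopologicalSpace
open Surf

namespace Groth.Agent.S16564

/-- Let k be an algebraically closed field, p_1, …, p_r distinct closed points of the projective plane
P²_k and σ : X → P²_k the blow-up of P²_k in the ideal of the reduced finite set {p_1, …, p_r}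
(universal property), X being regarded over k through σ; X is then an integral smooth proper surface
(carried as hypotheses). Write H = σ^*O(1), (L·M) = χ(O_X) − χ(L) − χ(M) + χ(L ⊗ M) for the
intersection number of invertible modules L, M, and for a closed subscheme C ⊆ X with ideal I_C
write (L·C) = χ(O_C ⊗ L) − χ(O_C) and C² = (I_C·I_C). A (−1)-curve is an integral closed
one-dimensional subscheme E ⊆ X with H¹(E, O_E) = 0 and E² = −1. Call an invertible module M
non-special when at most one of H⁰(X, M), H¹(X, M), H²(X, M) is nonzero. Suppose every invertible M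
with (M·E) ≥ −1 for every (−1)-curve E is non-special (the non-speciality hypothesis for X). Then no
integral closed one-dimensional subscheme C ⊆ X has C² ≤ −2. (The source concludes that the curves
of negative self-intersection are exactly the (−1)-curves; its argument treats C² ≤ −2, which is
what is stated here.) (The source takes the points in general position; that assumption plays no
role here.) -/
theorem result (k : Type u) [Field k] [IsAlgClosed k]
    (r : ℕ) (P : Fin r → ↥(CohB1.ProjSpace 2 k)) (hP : Function.Injective P)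
    (hPc : ∀ i, IsClosed ({P i} : Set ↥(CohB1.ProjSpace 2 k))) (hZ : IsClosed (Set.range P))
    (X : Scheme.{u}) [X.Over (Spec (CommRingCat.of k))] (σ : X ⟶ CohB1.ProjSpace 2 k)
    (hσk : σ ≫ CohB1.ProjSpace.toSpec 2 k = X ↘ (Spec (CommRingCat.of k)))
    (hσ : BlowUp.IsBlowUp σ (Scheme.IdealSheafData.vanishingIdeal ⟨Set.range P, hZ⟩))
    [IsIntegral X] [IsProper (X ↘ (Spec (CommRingCat.of k)))] [Smooth (X ↘ (Spec (CommRingCat.of k)))] (hdim : topologicalKrullDim X = 2)
    (hconj : ∀ (M : X.Modules), PicF.IsInvertible M →
      (∀ (E : X.IdealSheafData), IsIntegral E.subscheme → topologicalKrullDim (E.support : Set X) = 1 →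
        Subsingleton (Coh.HH E.subscheme (Coh.structureModule E.subscheme) 1) →
        FGA.intNum k X 2 ![ClSub.idealMod E, ClSub.idealMod E] (Coh.structureModule X) = -1 →
        -1 ≤ (Curv2.euler k X (CohB1.tensorMod (ClSub.quotMod E) M) - Curv2.euler k X (ClSub.quotMod E))) →
      ((Subsingleton (Coh.HH X M 0) ∧ Subsingleton (Coh.HH X M 1)) ∨ (Subsingleton (Coh.HH X M 0) ∧ Subsingleton (Coh.HH X M 2)) ∨
        (Subsingleton (Coh.HH X M 1) ∧ Subsingleton (Coh.HH X M 2))))
    (C : X.IdealSheafData) (hCi : IsIntegral C.subscheme) (hC1 : topologicalKrullDim (C.support : Set X) = 1) :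
    -1 ≤ FGA.intNum k X 2 ![ClSub.idealMod C, ClSub.idealMod C] (Coh.structureModule X) := by
  have hreg := Groth.SurfRR.isRegularLocalRing_stalk k (X := X)
  have hCc : Groth.SurfNum.IsCurve C := ⟨hCi, hC1⟩
  have hCe := hCc.isEffCartier k hdim hreg
  have hI := hCc.isInvertible k hdim hreg
  have hH := Groth.SurfRR.Plane.isInvertible_line k σ
  haveI : IsNoetherian X := Groth.Inter.isNoetherian k
  rw [Groth.Inter.intNum_eq_pair k hdim.le]
  by_contra hcon
  obtain ⟨M, hM, hCM⟩ := Groth.PicAux.exists_isInverseOf hI
  have hMC : Groth.Inter.pair k (ClSub.idealMod C) M = -Groth.Inter.pair k (ClSub.idealMod C) (ClSub.idealMod C) := by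
    rw [Groth.Inter.pair_comm k, Groth.Inter.pair_inverse k hdim.le hI hCM hI]
  -- the twist by the curve is non-special
  have hns := hconj M hM fun E hEi hE1 hEg hEE => by
    have hEc : Groth.SurfNum.IsCurve E := ⟨hEi, hE1⟩
    rw [Groth.Inter.intNum_eq_pair k hdim.le] at hEE
    have hne : C ≠ E := fun h => by subst h; omega
    have h1 := Groth.SurfNum.pair_nonneg_of_ne k hdim hreg hCc hEc hne
    rw [Groth.SurfNum.deg_eq k (hEc.isEffCartier k hdim hreg) hM, Groth.Inter.pair_comm k,
      Groth.Inter.pair_inverse k hdim.le hI hCM (hEc.isInvertible k hdim hreg)]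
    omega
  -- its Euler characteristic
  have hχ := Groth.SurfRR.euler_twist_curve k hdim hreg hCc hM
  obtain ⟨e⟩ : Nonempty (CohB1.tensorMod M (ClSub.idealMod C) ≅ Coh.structureModule X) :=
    ⟨(Groth.Inter.tensor_comm _ _).some ≪≫ hCM.some⟩
  rw [Groth.EulerDeg.euler_congr k e, hMC] at hχ
  have hQ := Groth.SurfRR.euler_curve_le k hCc
  have h0 := Groth.SurfRR.finrank_h0_twist_curve k hdim hreg hCc hM (by omega)
  rw [Groth.EulerDeg.finrank_congr (k := k) e 0] at h0
  have hle := Groth.Inter.finrank_h0_structure_le k (X := X)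
  haveI : Nontrivial (Coh.HH X (Coh.structureModule X) 0) := Groth.SurfRR.nontrivial_h0_structure k
  haveI := Groth.EulerDeg.finite_HH k X (Groth.QCohMod.isCoh_unit (X := X)) 0
  have hpos : 0 < Module.finrank k (Coh.HH X (Coh.structureModule X) 0) := Module.finrank_pos
  haveI := Groth.Agent.S16559.result k r P hP hPc hZ X σ hσk hσ hdim _
    (Groth.EulerDeg.isInvertible_structureModule X)
    (by rw [Groth.Inter.intNum_eq_pair k hdim.le, Groth.Inter.pair_one k]; norm_num)
  have hMH : 0 ≤ Groth.Inter.pair k M ((Scheme.Modules.pullback σ).obj (Twist.twistProjSpace 2 k 1)) := by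
    rw [Groth.Inter.pair_inverse k hdim.le hI hCM hH]
    exact neg_nonneg.2 (Groth.SurfRR.Plane.pair_ideal_line_nonpos k σ hσk hdim hCe)
  haveI h2 := Groth.Agent.S16559.result k r P hP hPc hZ X σ hσk hσ hdim M hM
    (by rw [Groth.Inter.intNum_eq_pair k hdim.le]; omega)
  haveI h1 : Subsingleton (Coh.HH X M 1) := by
    have hne : ¬ Subsingleton (Coh.HH X M 0) := fun h => by
      haveI := h
      have := Module.finrank_zero_of_subsingleton (R := k) (M := Coh.HH X M 0)
      omega
    rcases hns with h | h | h
    · exact absurd h.1 hne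
    · exact absurd h.1 hne
    · exact h.1
  rw [Groth.Inter.euler_eq_three k hdim.le, Groth.Inter.euler_eq_three k hdim.le,
    Module.finrank_zero_of_subsingleton (M := Coh.HH X M 1),
    Module.finrank_zero_of_subsingleton (M := Coh.HH X M 2),
    Module.finrank_zero_of_subsingleton (M := Coh.HH X (Coh.structureModule X) 2)] at hχ
  push_cast at hχ
  omega

end Groth.Agent.S16564
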