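import Groth.Statements.S16572
import Mathlib

set_option autoImplicit false
universe u
open CAlg

namespace Groth.Agent.S16572

open Polynomial

theorem surjective_comap {A : Type u} [CommRing A] {σ : Type u} (P : σ → Polynomial A) (hP : ∀ i, (P i).Monic ∧ 0 < (P i).natDegree) :
    Function.Surjective (PrimeSpectrum.comap (algebraMap A (MvPolynomial σ A ⧸
      Ideal.span (Set.range fun i => aeval (MvPolynomial.X (R := A) i) (P i))))) := by
  intro p
  let Ω := AlgebraicClosure p.asIdeal.ResidueField
  have hroot : ∀ i, ∃ x : Ω, aeval x (P i) = 0 := by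
    intro i
    obtain ⟨x, hx⟩ := IsAlgClosed.exists_root ((P i).map (algebraMap A Ω)) (fun h => (hP i).2.ne' (by
      have := natDegree_eq_of_degree_eq_some h
      rwa [(hP i).1.natDegree_map] at this))
    exact ⟨x, by rwa [IsRoot, eval_map_algebraMap] at hx⟩
  choose x hx using hroot
  let φ : MvPolynomial σ A →ₐ[A] Ω := MvPolynomial.aeval x
  let ψ := Ideal.Quotient.liftₐ (Ideal.span (Set.range fun i => aeval (MvPolynomial.X (R := A) i) (P i))) φ
    (fun a ha => by
      refine (Ideal.span_le.2 ?_ : _ ≤ RingHom.ker φ) ha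
      rintro _ ⟨i, rfl⟩
      show φ (aeval (MvPolynomial.X i) (P i)) = 0
      rw [← aeval_algHom_apply]
      simp [φ, hx])
  refine ⟨⟨RingHom.ker ψ, RingHom.ker_isPrime _⟩, PrimeSpectrum.ext (Ideal.ext fun a => ?_)⟩
  show ψ (algebraMap A _ a) = 0 ↔ a ∈ p.asIdeal
  rw [ψ.commutes, IsScalarTower.algebraMap_apply A p.asIdeal.ResidueField Ω, map_eq_zero,
    Ideal.algebraMap_residueField_eq_zero]

theorem residueField {A : Type u} [CommRing A] {T : Type u} [CommRing T] [Algebra A T] [Algebra.IsIntegral A T]
    (hroot : ∀ P : Polynomial A, P.Monic → 0 < P.natDegree → ∃ t : T, aeval t P = 0)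
    (Q : Ideal T) [Q.IsPrime] :
    IsAlgClosed Q.ResidueField ∧ (Ideal.ResidueField.map (Q.comap (algebraMap A T)) Q (algebraMap A T) rfl).IsIntegral := by
  let p := Q.comap (algebraMap A T)
  let g := Ideal.ResidueField.map p Q (algebraMap A T) rfl
  letI : Algebra p.ResidueField Q.ResidueField := g.toAlgebra
  have hg : ∀ a : A, algebraMap p.ResidueField Q.ResidueField (algebraMap A _ a) =
      algebraMap T Q.ResidueField (algebraMap A T a) := fun a => Ideal.ResidueField.map_algebraMap _ _ _ _ a
  have hT : ∀ t : T, IsIntegral p.ResidueField (algebraMap T Q.ResidueField t) := by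
    intro t
    obtain ⟨q, hq, hq0⟩ := Algebra.IsIntegral.isIntegral (R := A) t
    refine ⟨q.map (algebraMap A p.ResidueField), hq.map _, ?_⟩
    rw [eval₂_map, show (algebraMap p.ResidueField Q.ResidueField).comp (algebraMap A p.ResidueField) =
      (algebraMap T Q.ResidueField).comp (algebraMap A T) from RingHom.ext hg, ← hom_eval₂, hq0, map_zero]
  have hint : Algebra.IsIntegral p.ResidueField Q.ResidueField := by
    refine ⟨fun x => ?_⟩
    obtain ⟨⟨a, ⟨b, hb⟩⟩, hab⟩ := IsLocalization.surj (nonZeroDivisors (T ⧸ Q)) x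
    obtain ⟨a, rfl⟩ := Ideal.Quotient.mk_surjective a
    obtain ⟨b, rfl⟩ := Ideal.Quotient.mk_surjective b
    simp only [Ideal.algebraMap_quotient_residueField_mk] at hab
    have hb0 : algebraMap T Q.ResidueField b ≠ 0 := by
      rw [ne_eq, Ideal.algebraMap_residueField_eq_zero, ← Ideal.Quotient.eq_zero_iff_mem]
      exact nonZeroDivisors.ne_zero hb
    rw [eq_div_of_mul_eq hb0 hab, div_eq_mul_inv]
    exact (hT a).mul (hT b).inv
  refine ⟨?_, hint.isIntegral⟩
  have := Algebra.IsIntegral.isAlgebraic (R := p.ResidueField) (A := Q.ResidueField)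
  have hcl : IsAlgClosure p.ResidueField Q.ResidueField := IsAlgClosure.of_exists_root fun q hq hirr => by
    obtain ⟨⟨b, hb⟩, hbc⟩ := IsLocalization.exist_integer_multiples (nonZeroDivisors (A ⧸ p)) (Finset.range q.natDegree)
      (fun i => q.coeff i)
    obtain ⟨b, rfl⟩ := Ideal.Quotient.mk_surjective b
    set β := algebraMap A p.ResidueField b with hβ
    have hβ0 : β ≠ 0 := by
      rw [hβ, ne_eq, Ideal.algebraMap_residueField_eq_zero, ← Ideal.Quotient.eq_zero_iff_mem]
      exact nonZeroDivisors.ne_zero hb
    have hlift : q.scaleRoots β ∈ Polynomial.lifts (algebraMap A p.ResidueField) := by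
      refine (lifts_iff_coeff_lifts _).2 fun i => ?_
      rcases lt_trichotomy i q.natDegree with h | h | h
      · obtain ⟨c, hc⟩ := hbc i (Finset.mem_range.2 h)
        obtain ⟨c, rfl⟩ := Ideal.Quotient.mk_surjective c
        refine ⟨c * b ^ (q.natDegree - i - 1), ?_⟩
        rw [Algebra.smul_def, Ideal.algebraMap_quotient_residueField_mk, Ideal.algebraMap_quotient_residueField_mk] at hc
        rw [coeff_scaleRoots, map_mul, map_pow, hc, ← hβ]
        rw [show q.natDegree - i = (q.natDegree - i - 1) + 1 by omega, pow_succ]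
        simp only [add_tsub_cancel_right]
        ring
      · refine ⟨1, ?_⟩
        rw [coeff_scaleRoots, h, hq.coeff_natDegree, tsub_self, map_one, pow_zero, one_mul]
      · exact ⟨0, by rw [coeff_scaleRoots, coeff_eq_zero_of_natDegree_lt h, map_zero, zero_mul]⟩
    obtain ⟨P, hP, hPdeg, hPm⟩ := lifts_and_degree_eq_and_monic hlift ((monic_scaleRoots_iff β).2 hq)
    obtain ⟨t, ht⟩ := hroot P hPm (by
      rw [natDegree_eq_of_degree_eq hPdeg, natDegree_scaleRoots]
      exact hirr.natDegree_pos)
    refine ⟨(algebraMap p.ResidueField Q.ResidueField β)⁻¹ * algebraMap T Q.ResidueField t, ?_⟩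
    have hβ' : algebraMap p.ResidueField Q.ResidueField β ≠ 0 := (_root_.map_ne_zero _).2 hβ0
    have h1 := scaleRoots_eval₂_mul (p := q) (algebraMap p.ResidueField Q.ResidueField)
      ((algebraMap p.ResidueField Q.ResidueField β)⁻¹ * algebraMap T Q.ResidueField t) β
    rw [← mul_assoc, mul_inv_cancel₀ hβ', one_mul, ← hP, eval₂_map,
      show (algebraMap p.ResidueField Q.ResidueField).comp (algebraMap A p.ResidueField) =
        (algebraMap T Q.ResidueField).comp (algebraMap A T) from RingHom.ext hg, ← hom_eval₂] at h1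
    rw [show eval₂ (algebraMap A T) t P = 0 from ht, map_zero] at h1
    exact (mul_eq_zero.1 h1.symm).resolve_left (pow_ne_zero _ hβ')
  exact hcl.isAlgClosed

/-- Let A be a commutative ring and T the quotient of the polynomial ring over A in indeterminates X_P,
one for each monic polynomial P over A of positive degree, by the ideal generated by the elements
P(X_P). Then the map on prime spectra Spec T → Spec A is surjective, and for every prime ideal Q of
T, with p its contraction to A, the residue field of Q is algebraically closed and integral over the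
residue field of p under the induced map of residue fields (so it is an algebraic closure of it). -/
theorem result (A : Type u) [CommRing A] :
    Function.Surjective (PrimeSpectrum.comap (algebraMap A (MvPolynomial {P : Polynomial A // P.Monic ∧ 0 < P.natDegree} A ⧸
      Ideal.span (Set.range fun P : {P : Polynomial A // P.Monic ∧ 0 < P.natDegree} =>
        Polynomial.aeval (MvPolynomial.X (R := A) P) P.1)))) ∧
    ∀ (Q : Ideal (MvPolynomial {P : Polynomial A // P.Monic ∧ 0 < P.natDegree} A ⧸
      Ideal.span (Set.range fun P : {P : Polynomial A // P.Monic ∧ 0 < P.natDegree} =>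
        Polynomial.aeval (MvPolynomial.X (R := A) P) P.1))) [Q.IsPrime],
      IsAlgClosed Q.ResidueField ∧
      (Ideal.ResidueField.map (Q.comap (algebraMap A (MvPolynomial {P : Polynomial A // P.Monic ∧ 0 < P.natDegree} A ⧸
      Ideal.span (Set.range fun P : {P : Polynomial A // P.Monic ∧ 0 < P.natDegree} =>
        Polynomial.aeval (MvPolynomial.X (R := A) P) P.1)))) Q (algebraMap A (MvPolynomial {P : Polynomial A // P.Monic ∧ 0 < P.natDegree} A ⧸
      Ideal.span (Set.range fun P : {P : Polynomial A // P.Monic ∧ 0 < P.natDegree} =>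
        Polynomial.aeval (MvPolynomial.X (R := A) P) P.1))) rfl).IsIntegral := by
  classical
  refine ⟨surjective_comap _ (fun P => P.2), fun Q _ => ?_⟩
  haveI : Algebra.IsIntegral A (MvPolynomial {P : Polynomial A // P.Monic ∧ 0 < P.natDegree} A ⧸
      Ideal.span (Set.range fun P : {P : Polynomial A // P.Monic ∧ 0 < P.natDegree} =>
        Polynomial.aeval (MvPolynomial.X (R := A) P) P.1)) := by
    refine ⟨fun x => ?_⟩
    obtain ⟨x, rfl⟩ := Ideal.Quotient.mk_surjective x
    induction x using MvPolynomial.induction_on with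
    | C a => exact isIntegral_algebraMap
    | add x y hx hy => rw [map_add]; exact hx.add hy
    | mul_X x i hx =>
      rw [map_mul]
      refine hx.mul ⟨i.1, i.2.1, ?_⟩
      rw [← aeval_def, ← Ideal.Quotient.mkₐ_eq_mk A, aeval_algHom_apply, Ideal.Quotient.mkₐ_eq_mk,
        Ideal.Quotient.eq_zero_iff_mem]
      exact Ideal.subset_span ⟨i, rfl⟩
  refine residueField (fun P hP hd => ⟨Ideal.Quotient.mkₐ A _ (MvPolynomial.X ⟨P, hP, hd⟩), ?_⟩) Q
  rw [aeval_algHom_apply, Ideal.Quotient.mkₐ_eq_mk, Ideal.Quotient.eq_zero_iff_mem]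
  exact Ideal.subset_span ⟨⟨P, hP, hd⟩, rfl⟩

end Groth.Agent.S16572
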