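import Groth.Statements.S16574
import Mathlib

set_option autoImplicit false
set_option backward.isDefEq.respectTransparency false
set_option backward.isDefEq.respectTransparency.types false
set_option linter.style.haveILetI false
universe u
open CategoryTheory AlgebraicGeometry
open AffSch

namespace Groth.Agent.S16574

open AlgebraicGeometry CategoryTheory Polynomial

theorem exists_integral_mul {A B₀ S : Type u} [CommRing A] [CommRing B₀] [Algebra A B₀] [CommRing S] [Algebra B₀ S]
    (a : A) [IsLocalization.Away (algebraMap A B₀ a) S]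
    (g : Localization.Away a →+* S) (hg : g.Finite)
    (hga : ∀ x, g (algebraMap A (Localization.Away a) x) = algebraMap B₀ S (algebraMap A B₀ x)) :
    ∃ G : Finset B₀, (∀ x ∈ G, IsIntegral A x) ∧ ∀ x : B₀, ∃ n : ℕ, a ^ n • x ∈ Algebra.adjoin A (G : Set B₀) := by
  classical
  letI := g.toAlgebra
  letI : Algebra A S := ((algebraMap B₀ S).comp (algebraMap A B₀)).toAlgebra
  haveI : IsScalarTower A B₀ S := IsScalarTower.of_algebraMap_eq fun _ => rfl
  haveI : IsScalarTower A (Localization.Away a) S := IsScalarTower.of_algebraMap_eq fun x => (hga x).symm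
  haveI : Module.Finite (Localization.Away a) S := hg
  obtain ⟨t, ht⟩ := (Module.Finite.fg_top : (⊤ : Submodule (Localization.Away a) S).FG)
  set c := algebraMap A B₀ a with hc
  have hu : ∀ n : ℕ, IsUnit (algebraMap B₀ S (c ^ n)) := fun n => by
    rw [map_pow]; exact (IsLocalization.Away.algebraMap_isUnit c).pow n
  choose nn xx hxx using fun z : S => IsLocalization.Away.surj c z
  -- clear the denominators of an integrality relation
  have key : ∀ z : S, ∃ M : ℕ, IsIntegral A (a ^ M • xx z) := fun z => by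
    have h1 : IsIntegral (Localization.Away a) (algebraMap B₀ S (xx z)) :=
      Algebra.IsIntegral.isIntegral _
    obtain ⟨⟨_, k, rfl⟩, hm⟩ := IsIntegral.exists_multiple_integral_of_isLocalization (Submonoid.powers a) _ h1
    obtain ⟨P, hP, hPe⟩ := hm
    have h2 : aeval (algebraMap B₀ S (a ^ k • xx z)) (P * X) = 0 := by
      rw [Algebra.smul_def, map_mul (algebraMap B₀ S), ← IsScalarTower.algebraMap_apply A B₀ S, ← Algebra.smul_def, map_mul (aeval _)]
      rw [Submonoid.smul_def] at hPe
      simp only at hPe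
      rw [aeval_def, hPe, zero_mul]
    rw [aeval_algebraMap_apply, IsLocalization.map_eq_zero_iff (Submonoid.powers c)] at h2
    obtain ⟨⟨_, m, rfl⟩, hm⟩ := h2
    refine ⟨m + k, (P * X).scaleRoots (a ^ m), (monic_scaleRoots_iff _).2 (hP.mul monic_X), ?_⟩
    rw [← aeval_def, pow_add, mul_smul, Algebra.smul_def (a ^ m)]
    rw [aeval_def, Polynomial.scaleRoots_eval₂_mul, ← aeval_def]
    rcases Nat.eq_zero_or_pos (P * X).natDegree with h0 | h0
    · have h1 := congrArg (fun q : A[X] => q.coeff 0) ((hP.mul monic_X).natDegree_eq_zero.1 h0)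
      simp only [mul_coeff_zero, coeff_X_zero, mul_zero, coeff_one_zero] at h1
      haveI : Subsingleton A := subsingleton_of_zero_eq_one h1
      haveI := (algebraMap A B₀).codomain_trivial
      exact Subsingleton.elim _ _
    · obtain ⟨d, hd⟩ := Nat.exists_eq_succ_of_ne_zero h0.ne'
      rw [hd, pow_succ, mul_assoc, map_pow, hm, mul_zero]
  choose M hM using key
  refine ⟨t.image fun z => a ^ M z • xx z, fun x hx => ?_, fun x => ?_⟩
  · obtain ⟨z, -, rfl⟩ := Finset.mem_image.1 hx
    exact hM z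
  set B := Algebra.adjoin A ((t.image fun z => a ^ M z • xx z : Finset B₀) : Set B₀)
  suffices ∀ z : S, ∃ n, ∃ b ∈ B, z * algebraMap B₀ S (c ^ n) = algebraMap B₀ S b by
    obtain ⟨n, b, hb, hn⟩ := this (algebraMap B₀ S x)
    rw [← map_mul] at hn
    obtain ⟨⟨_, m, rfl⟩, hm⟩ := (IsLocalization.eq_iff_exists (Submonoid.powers c) S).1 hn
    refine ⟨n + m, ?_⟩
    have : a ^ (n + m) • x = a ^ m • b := by
      rw [Algebra.smul_def, Algebra.smul_def, map_pow, map_pow, ← hc, pow_add, ← hm]
      ring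
    rw [this]
    exact B.smul_mem hb _
  intro z
  have hz : z ∈ Submodule.span (Localization.Away a) (t : Set S) := ht ▸ trivial
  induction hz using Submodule.span_induction with
  | mem z hz =>
    refine ⟨nn z + M z, _, Algebra.subset_adjoin (Finset.mem_coe.2 (Finset.mem_image_of_mem _ hz)), ?_⟩
    rw [pow_add, map_mul, ← mul_assoc, map_pow, hxx z, Algebra.smul_def, map_mul, mul_comm, hc]; simp [map_pow]
  | zero => exact ⟨0, 0, B.zero_mem, by simp⟩
  | add u v _ _ hu hv =>
    obtain ⟨n, b, hb, hn⟩ := hu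
    obtain ⟨m, b', hb', hm⟩ := hv
    refine ⟨n + m, c ^ m * b + c ^ n * b', B.add_mem (B.mul_mem ?_ hb) (B.mul_mem ?_ hb'), ?_⟩
    · exact pow_mem (B.algebraMap_mem a) _
    · exact pow_mem (B.algebraMap_mem a) _
    · rw [map_add, map_mul, map_mul, ← hn, ← hm, pow_add, map_mul]; ring
  | smul r u _ hu =>
    obtain ⟨n, b, hb, hn⟩ := hu
    obtain ⟨k, y, hy⟩ := IsLocalization.Away.surj a r
    refine ⟨n + k, algebraMap A B₀ y * b, B.mul_mem (B.algebraMap_mem y) hb, ?_⟩
    have := congrArg g hy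
    rw [map_mul, map_pow, hga, hga] at this
    rw [map_mul, ← hn, ← this, Algebra.smul_def, pow_add, map_mul, map_pow (algebraMap B₀ S) c k]
    show g r * u * _ = _
    ring


/-- Let A be a commutative ring, U a quasi-compact open subscheme of Spec A and U' → U a finite
morphism. Then there exist a finite A-algebra B and a morphism U' → Spec B such that the square
formed by U' → U, U' → Spec B, Spec B → Spec A and the inclusion of U is cartesian; in particular U'
→ Spec B is the open immersion of the preimage of U. (If U contains the complement of the closed set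
of an ideal I then this preimage contains the complement of the closed set of IB; that clause is
automatic and omitted.) -/
theorem result
    (A : Type u) [CommRing A] (U : (Spec (CommRingCat.of A)).Opens) (hU : IsCompact (U : Set (Spec (CommRingCat.of A))))
    (U' : Scheme.{u}) (g : U' ⟶ (U : Scheme.{u})) [IsFinite g] :
    ∃ (B : Type u) (_ : CommRing B) (_ : Algebra A B) (i : U' ⟶ Spec (CommRingCat.of B)),
      Module.Finite A B ∧ IsPullback i g (Spec.map (CommRingCat.ofHom (algebraMap A B))) U.ι := by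
  classical
  let φ : U' ⟶ Spec (CommRingCat.of A) := g ≫ U.ι
  haveI : CompactSpace (U : Scheme.{u}) := isCompact_iff_compactSpace.1 hU
  haveI : CompactSpace U' := QuasiCompact.compactSpace_of_compactSpace g
  haveI : QuasiSeparatedSpace U' := quasiSeparatedSpace_of_quasiSeparated φ
  let αh : CommRingCat.of A ⟶ Γ(U', ⊤) := (Scheme.ΓSpecIso (CommRingCat.of A)).inv ≫ φ.appTop
  let f₀ : A →+* Γ(U', ⊤) := αh.hom
  letI : Algebra A Γ(U', ⊤) := f₀.toAlgebra
  have hφ : φ = U'.toSpecΓ ≫ Spec.map αh := by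
    rw [Spec.map_comp, ← Scheme.toSpecΓ_naturality_assoc, toSpecΓ_SpecMap_ΓSpecIso_inv, Category.comp_id]
  obtain ⟨s, hs⟩ : ∃ s : Finset A, (U.1 : Set (PrimeSpectrum A)) = ⋃ a ∈ s, (PrimeSpectrum.basicOpen a : Set (PrimeSpectrum A)) := by
    obtain ⟨t, ht⟩ := hU.elim_finite_subcover
      (fun a : {a : A // (PrimeSpectrum.basicOpen a : Set (PrimeSpectrum A)) ⊆ U.1} => (PrimeSpectrum.basicOpen (a : A) : Set (PrimeSpectrum A)))
      (fun a => (PrimeSpectrum.basicOpen (a : A)).2) (fun x hx => by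
        obtain ⟨_, ⟨a, rfl⟩, hxa, haU⟩ := PrimeSpectrum.isTopologicalBasis_basic_opens.isOpen_iff.1 U.2 x hx
        exact Set.mem_iUnion.2 ⟨⟨a, haU⟩, hxa⟩)
    refine ⟨t.image Subtype.val, Set.Subset.antisymm ?_ (Set.iUnion₂_subset fun a ha => ?_)⟩
    · intro x hx
      obtain ⟨a, ha, hxa⟩ := Set.mem_iUnion₂.1 (ht hx)
      exact Set.mem_biUnion (Finset.mem_image_of_mem Subtype.val ha) hxa
    · obtain ⟨a, -, rfl⟩ := Finset.mem_image.1 ha
      exact a.2
  have hpre : ∀ a, φ ⁻¹ᵁ PrimeSpectrum.basicOpen a = U'.basicOpen (f₀ a) := fun a => by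
    rw [← basicOpen_eq_of_affine, Scheme.preimage_basicOpen]; rfl
  have hle : ∀ a ∈ s, PrimeSpectrum.basicOpen a ≤ U := fun a ha x hx =>
    show x ∈ (U.1 : Set (PrimeSpectrum A)) from hs ▸ Set.mem_biUnion ha hx
  have hG : ∀ a : s, ∃ G : Finset Γ(U', ⊤), (∀ x ∈ G, IsIntegral A x) ∧
      ∀ x : Γ(U', ⊤), ∃ n : ℕ, (a : A) ^ n • x ∈ Algebra.adjoin A (G : Set Γ(U', ⊤)) := fun a => by
    let V := U'.basicOpen (f₀ a)
    haveI : IsLocalization.Away (algebraMap A Γ(U', ⊤) a) Γ(U', V) :=
      isLocalization_basicOpen_of_qcqs isCompact_univ isQuasiSeparated_univ _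
    let W : (Spec (CommRingCat.of A)).Opens := PrimeSpectrum.basicOpen (a : A)
    have hW : U.ι ''ᵁ (U.ι ⁻¹ᵁ W) = W := by
      rw [Scheme.Hom.image_preimage_eq_opensRange_inf, Scheme.Opens.opensRange_ι]
      exact inf_eq_right.2 (hle _ a.2)
    have hfin : (φ.app W).hom.Finite := by
      rw [Scheme.Hom.comp_app, CommRingCat.hom_comp]
      refine RingHom.Finite.comp (g.finite_app _ ?_) (RingHom.Finite.of_surjective _ ?_)
      · exact ((IsAffineOpen.Spec_basicOpen (R := CommRingCat.of A) (a : A))).preimage_of_isOpenImmersion U.ι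
          (by rw [Scheme.Opens.opensRange_ι]; exact hle _ a.2)
      · haveI : IsIso (U.ι.app W) := Scheme.Hom.isIso_app _ _ (by rw [Scheme.Opens.opensRange_ι]; exact hle _ a.2)
        exact ((ConcreteCategory.isIso_iff_bijective (U.ι.app W)).1 inferInstance).2
    letI : Algebra A Γ(Spec (CommRingCat.of A), W) := StructureSheaf.openAlgebra A (Opposite.op (PrimeSpectrum.basicOpen (a : A)))
    haveI : IsLocalization.Away (a : A) Γ(Spec (CommRingCat.of A), W) := StructureSheaf.IsLocalization.to_basicOpen _ _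
    let e := IsLocalization.algEquiv (Submonoid.powers (a : A)) (Localization.Away (a : A)) Γ(Spec (CommRingCat.of A), W)
    let V' : Γ(U', φ ⁻¹ᵁ W) ⟶ Γ(U', V) := U'.presheaf.map (eqToHom (hpre a).symm).op
    refine exists_integral_mul (a : A) ((V'.hom.comp (φ.app W).hom).comp e.toRingHom)
      (((RingHom.Finite.of_surjective _ ?_).comp hfin).comp (RingHom.Finite.of_surjective _ e.surjective)) fun x => ?_
    · exact ((ConcreteCategory.isIso_iff_bijective V').1 inferInstance).2
    · change V'.hom ((φ.app W).hom (e (algebraMap A _ x))) = _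
      rw [e.commutes]
      refine congr($(φ.naturality_assoc (homOfLE le_top).op V') ((Scheme.ΓSpecIso (CommRingCat.of A)).inv x)).trans ?_
      simp only [V', ← Functor.map_comp]
      rfl
  choose G hGint hGmem using hG
  let T : Finset Γ(U', ⊤) := Finset.univ.biUnion G
  let B := Algebra.adjoin A (T : Set Γ(U', ⊤))
  have hBfin : Module.Finite A B := Module.Finite.iff_fg.2 (fg_adjoin_of_finite T.finite_toSet fun x hx => by
    obtain ⟨a, -, ha⟩ := Finset.mem_biUnion.1 (Finset.mem_coe.1 hx)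
    exact hGint a x ha)
  have hBmem : ∀ a ∈ s, ∀ x, ∃ n : ℕ, a ^ n • x ∈ B := fun a ha x => by
    obtain ⟨n, hn⟩ := hGmem ⟨a, ha⟩ x
    exact ⟨n, Algebra.adjoin_mono (fun y hy => Finset.mem_biUnion.2 ⟨⟨a, ha⟩, Finset.mem_univ _, hy⟩) hn⟩
  let ψ : CommRingCat.of B ⟶ Γ(U', ⊤) := CommRingCat.ofHom B.val.toRingHom
  let i : U' ⟶ Spec (CommRingCat.of B) := U'.toSpecΓ ≫ Spec.map ψ
  let f : Spec (CommRingCat.of B) ⟶ Spec (CommRingCat.of A) := Spec.map (CommRingCat.ofHom (algebraMap A B))
  have hcomp : i ≫ f = φ := by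
    rw [hφ, Category.assoc, ← Spec.map_comp]; rfl
  have hipre : ∀ a : A, i ⁻¹ᵁ PrimeSpectrum.basicOpen (algebraMap A B a) = U'.basicOpen (f₀ a) := fun a => by
    rw [Scheme.Hom.comp_preimage]
    exact Scheme.toSpecΓ_preimage_basicOpen _ _
  have haff : ∀ a ∈ s, IsAffineOpen (U'.basicOpen (f₀ a)) := fun a ha => by
    rw [← hpre]
    exact ((IsAffineOpen.Spec_basicOpen (R := CommRingCat.of A) a).preimage_of_isOpenImmersion U.ι
      (by rw [Scheme.Opens.opensRange_ι]; exact hle a ha)).preimage g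
  have hloc : ∀ (a : A) (ha : a ∈ s), IsOpenImmersion ((haff a ha).fromSpec ≫ i) ∧
      Set.range ((haff a ha).fromSpec ≫ i).base = (PrimeSpectrum.basicOpen (algebraMap A B a) : Set (PrimeSpectrum B)) := fun a ha => by
    let V := U'.basicOpen (f₀ a)
    haveI : IsLocalization.Away (algebraMap A Γ(U', ⊤) a) Γ(U', V) :=
      isLocalization_basicOpen_of_qcqs isCompact_univ isQuasiSeparated_univ _
    let r : B →+* Γ(U', V) := (algebraMap Γ(U', ⊤) Γ(U', V)).comp B.val.toRingHom
    letI : Algebra B Γ(U', V) := r.toAlgebra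
    haveI : IsLocalization.Away (algebraMap A B a) Γ(U', V) := by
      constructor; constructor
      · rintro ⟨_, n, rfl⟩
        simp only [map_pow]
        exact (IsLocalization.Away.algebraMap_isUnit (algebraMap A Γ(U', ⊤) a)).pow n
      · intro z
        obtain ⟨n, x, hx⟩ := IsLocalization.Away.surj (algebraMap A Γ(U', ⊤) a) z
        obtain ⟨m, hm⟩ := hBmem a ha x
        refine ⟨⟨⟨_, hm⟩, ⟨algebraMap A B a ^ (n + m), n + m, rfl⟩⟩, ?_⟩
        show z * r _ = r _
        simp only [r, RingHom.comp_apply, AlgHom.toRingHom_eq_coe, RingHom.coe_coe, Subalgebra.coe_val,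
          Subalgebra.coe_algebraMap, Algebra.smul_def, map_pow, map_mul, ← hx]
        ring
      · intro x y hxy
        obtain ⟨⟨_, n, rfl⟩, h⟩ := (IsLocalization.eq_iff_exists (Submonoid.powers (algebraMap A Γ(U', ⊤) a)) Γ(U', V)).1 hxy
        exact ⟨⟨algebraMap A B a ^ n, n, rfl⟩, Subtype.ext (by simpa using h)⟩
    have : (haff a ha).fromSpec ≫ i = Spec.map (CommRingCat.ofHom (algebraMap B Γ(U', V))) := by
      rw [IsAffineOpen.fromSpec_toSpecΓ_assoc, ← Spec.map_comp]; rfl
    rw [this]
    exact ⟨IsOpenImmersion.of_isLocalization (algebraMap A B a),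
      PrimeSpectrum.localization_away_comap_range Γ(U', V) (algebraMap A B a)⟩
  have hcov : ∀ x : U', ∃ a ∈ s, x ∈ U'.basicOpen (f₀ a) := fun x => by
    have : φ.base x ∈ (U.1 : Set (PrimeSpectrum A)) := (g.base x).2
    rw [hs] at this
    obtain ⟨a, ha, hx⟩ := Set.mem_iUnion₂.1 this
    exact ⟨a, ha, hpre a ▸ hx⟩
  haveI : IsOpenImmersion i := by
    refine IsOpenImmersion.of_forall_source_exists i (fun x y hxy => ?_) fun x => ?_
    · obtain ⟨a, ha, hx⟩ := hcov x
      have hy : y ∈ U'.basicOpen (f₀ a) := by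
        rw [← hipre a] at hx ⊢
        show i.base y ∈ PrimeSpectrum.basicOpen (algebraMap A B a)
        exact hxy ▸ hx
      obtain ⟨x, rfl⟩ : x ∈ Set.range (haff a ha).fromSpec.base := by rw [IsAffineOpen.range_fromSpec]; exact hx
      obtain ⟨y, rfl⟩ : y ∈ Set.range (haff a ha).fromSpec.base := by rw [IsAffineOpen.range_fromSpec]; exact hy
      haveI := (hloc a ha).1
      exact congrArg _ (((haff a ha).fromSpec ≫ i).isOpenEmbedding.injective hxy)
    · obtain ⟨a, ha, hx⟩ := hcov x
      exact ⟨_, (haff a ha).fromSpec, inferInstance, by rw [IsAffineOpen.opensRange_fromSpec]; exact hx, (hloc a ha).1⟩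
  refine ⟨B, inferInstance, inferInstance, i, hBfin, (IsOpenImmersion.isPullback g i U.ι f hcomp ?_).flip⟩
  refine TopologicalSpace.Opens.ext (Set.Subset.antisymm (fun p hp => ?_) ?_)
  · have hp : f.base p ∈ (U.1 : Set (PrimeSpectrum A)) := by simpa using hp
    rw [hs] at hp
    obtain ⟨a, ha, hpa⟩ := Set.mem_iUnion₂.1 hp
    obtain ⟨y, hy⟩ := (hloc a ha).2.ge (show p ∈ (PrimeSpectrum.basicOpen (algebraMap A B a) : Set (PrimeSpectrum B)) from hpa)
    exact ⟨(haff a ha).fromSpec.base y, hy⟩
  · rintro _ ⟨x, rfl⟩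
    show f.base (i.base x) ∈ U.ι.opensRange
    rw [Scheme.Opens.opensRange_ι, ← Scheme.Hom.comp_apply, hcomp]
    exact (g.base x).2

end Groth.Agent.S16574
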