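import Groth.Statements.S16575
import Groth.Agent.EtaleAlgebra.BranchDim
import Groth.Agent.EtaleAlgebra.HensCompletion

set_option autoImplicit false
universe u
open CAlg

namespace Groth.Agent.S16575

/-- Let A be a Noetherian local ring, S a henselization of A, S' a strict henselization of A, A' the
integral closure of the reduction of A in its total ring of fractions, and Â the completion of A at
its maximal ideal. The following are equivalent: (i) for every maximal ideal m' of A' the local ring
of A' at m' has Krull dimension at least 2; (ii) every irreducible component of Spec S has dimension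
at least 2; (ii bis) every irreducible component of Spec S' has dimension at least 2; (iii) every
irreducible component of Spec Â has dimension at least 2. (A closed subscheme Z of a Noetherian
scheme X is called c_2 when these hold at the local ring of every point of Z; condition (i) at all
points of Z says that the preimage of Z in the normalization has codimension at least 2.) -/
theorem result
    (A : Type u) [CommRing A] [IsNoetherianRing A] [IsLocalRing A]
    (S : Type u) [CommRing S] [IsLocalRing S] [Algebra A S] [IsLocalHom (algebraMap A S)]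
    [Hensel.IsHenselization A S]
    (S' : Type u) [CommRing S'] [IsLocalRing S'] [Algebra A S'] [IsLocalHom (algebraMap A S')]
    [Hensel.IsStrictHenselization A S'] :
    List.TFAE [
      ∀ m' : MaximalSpectrum (CAlg2.normRed A), (2 : WithBot ℕ∞) ≤ ringKrullDim (Localization.AtPrime m'.asIdeal),
      ∀ p ∈ minimalPrimes S, (2 : WithBot ℕ∞) ≤ ringKrullDim (S ⧸ p),
      ∀ p ∈ minimalPrimes S', (2 : WithBot ℕ∞) ≤ ringKrullDim (S' ⧸ p),
      ∀ q ∈ minimalPrimes (AdicCompletion (IsLocalRing.maximalIdeal A) A), (2 : WithBot ℕ∞) ≤ ringKrullDim (AdicCompletion (IsLocalRing.maximalIdeal A) A ⧸ q)] := by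
  classical
  have : HenselianLocalRing S := (inferInstance : Hensel.IsHenselization A S).henselian
  have : HenselianLocalRing S' := (inferInstance : Hensel.IsStrictHenselization A S').henselian
  obtain ⟨M⟩ := Groth.Hensel1.hensModel_of_isHenselization (R := A) (S := S)
  obtain ⟨M'⟩ := Groth.Hensel1.hensModel_of_isStrictHenselization (R := A) (S := S')
  obtain ⟨ψ, hψ⟩ := Groth.EtaleAlgebra.Punctured.exists_toCompletion (A := A) (S := S)
  obtain ⟨hSN, -, hN, hff, hm, hd⟩ := Groth.EtaleAlgebra.Punctured.setting ψ hψ
  let _ := ψ.toAlgebra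
  have : Module.FaithfullyFlat S (AdicCompletion (IsLocalRing.maximalIdeal A) A) := hff
  open Groth.EtaleAlgebra.BranchDim in
  have hcomp : ∀ d : WithBot ℕ∞, d = 0 ∨ d = 1 →
      (Has S d ↔ Has (AdicCompletion (IsLocalRing.maximalIdeal A) A) d) :=
    fun d => Groth.EtaleAlgebra.BranchDim.has_iff_completion hm hd
  open Groth.EtaleAlgebra.BranchDim in
  have key : ∀ (R : Type u) [CommRing R], (∀ p ∈ minimalPrimes R, (2 : WithBot ℕ∞) ≤ ringKrullDim (R ⧸ p)) ↔
      ∀ d : WithBot ℕ∞, (d = 0 ∨ d = 1) → ¬ Has R d := by
    intro R _
    constructor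
    · rintro h d hd ⟨p, hp, rfl⟩
      rcases hd with hd | hd <;> exact absurd (hd ▸ h p hp) (by norm_num)
    · intro h p hp
      by_contra hcon
      have := Ideal.Quotient.nontrivial_iff.2 hp.1.1.ne_top
      exact h _ (eq_zero_or_one hcon) ⟨p, hp, rfl⟩
  open Groth.EtaleAlgebra.BranchDim in
  have key' : (∀ m' : MaximalSpectrum (CAlg2.normRed A), (2 : WithBot ℕ∞) ≤ ringKrullDim (Localization.AtPrime m'.asIdeal)) ↔
      ∀ d : WithBot ℕ∞, (d = 0 ∨ d = 1) → ¬ ∃ m' : MaximalSpectrum (CAlg2.normRed A),
        ringKrullDim (Localization.AtPrime m'.asIdeal) = d := by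
    constructor
    · rintro h d hd ⟨m, rfl⟩
      rcases hd with hd | hd <;> exact absurd (hd ▸ h m) (by norm_num)
    · intro h m
      by_contra hcon
      exact h (ringKrullDim (Localization.AtPrime m.asIdeal))
        (by exact eq_zero_or_one (R := Localization.AtPrime m.asIdeal) hcon) ⟨m, rfl⟩
  tfae_have 1 ↔ 2 := by
    rw [key', key]
    exact forall₂_congr fun d _ => not_congr (Groth.EtaleAlgebra.BranchDim.has_iff_normRed M d).symm
  tfae_have 1 ↔ 3 := by
    rw [key', key]
    exact forall₂_congr fun d _ => not_congr (Groth.EtaleAlgebra.BranchDim.has_iff_normRed M' d).symm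
  tfae_have 2 ↔ 4 := by
    rw [key, key]
    exact forall₂_congr fun d hd => not_congr (hcomp d hd)
  tfae_finish

end Groth.Agent.S16575
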