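import Groth.Statements.S16576
import Mathlib
import Groth.Agent.Calg7.DimTwoFlat
import Groth.Agent.Calg4.CompletionFlat
import Groth.Agent.Calg1.AnalyticallyUnramifiedN1
-- import your own Groth.Agent.* helpers here

set_option autoImplicit false
universe u
open CAlg

namespace Groth.Agent.S16576

theorem main (A B : Type u) [CommRing A] [IsLocalRing A] [IsNoetherianRing A]
    [IsAdicComplete (IsLocalRing.maximalIdeal A) A] [CommRing B] [IsLocalRing B] [IsNoetherianRing B] [Algebra A B]
    [IsLocalHom (algebraMap A B)] [Module.Flat A B]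
    (hA : ∀ q ∈ minimalPrimes A, (2 : WithBot ℕ∞) ≤ ringKrullDim (A ⧸ q))
    (q : Ideal B) (hq : q ∈ minimalPrimes B) : (2 : WithBot ℕ∞) ≤ ringKrullDim (B ⧸ q) := by
  haveI hqp : q.IsPrime := hq.1.1
  let p := q.comap (algebraMap A B)
  haveI : q.LiesOver p := ⟨rfl⟩
  have hp : p ∈ minimalPrimes A := by
    refine ⟨⟨inferInstance, bot_le⟩, fun Q ⟨hQ, _⟩ hQp => ?_⟩
    haveI := hQ
    obtain ⟨P, hPle, hP, hPo⟩ := Ideal.exists_ideal_le_liesOver_of_le (p := Q) (q := p) q hQp
    have hPq : P = q := le_antisymm hPle (hq.2 ⟨hP, bot_le⟩ hPle)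
    rw [hPo.over, hPq]
  have hpA : p.IsPrime := inferInstance
  let pB := p.map (algebraMap A B)
  have hpB : pB ≤ q := Ideal.map_comap_le
  haveI : Nontrivial (B ⧸ pB) := Ideal.Quotient.nontrivial_iff.2 fun h => hqp.ne_top (top_le_iff.1 (h ▸ hpB))
  haveI : IsLocalRing (B ⧸ pB) := IsLocalRing.of_surjective' _ Ideal.Quotient.mk_surjective
  haveI : IsLocalRing (A ⧸ p) := IsLocalRing.of_surjective' _ Ideal.Quotient.mk_surjective
  haveI := Groth.Calg1.isAdicComplete_quotient p
  haveI : Module.Flat (A ⧸ p) (B ⧸ pB) :=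
    Module.Flat.of_linearEquiv
      ((Algebra.TensorProduct.quotIdealMapEquivQuotTensor B p).toLinearEquiv)
  haveI : IsLocalHom (algebraMap (A ⧸ p) (B ⧸ pB)) := ⟨fun x hx => by
    obtain ⟨a, rfl⟩ := Ideal.Quotient.mk_surjective x
    have h1 : IsUnit (Ideal.Quotient.mk pB (algebraMap A B a)) := hx
    haveI : IsLocalHom (Ideal.Quotient.mk pB) := IsLocalHom.of_surjective _ Ideal.Quotient.mk_surjective
    exact (IsUnit.of_map (algebraMap A B) a (IsUnit.of_map (Ideal.Quotient.mk pB) _ h1)).map _⟩
  have hqmap : q.map (Ideal.Quotient.mk pB) ∈ minimalPrimes (B ⧸ pB) := by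
    have hco : (q.map (Ideal.Quotient.mk pB)).comap (Ideal.Quotient.mk pB) = q := by
      rw [Ideal.comap_map_of_surjective _ Ideal.Quotient.mk_surjective, sup_eq_left]
      intro x hx
      exact hpB (Ideal.Quotient.eq_zero_iff_mem.1 hx)
    haveI := Ideal.map_isPrime_of_surjective (f := Ideal.Quotient.mk pB) Ideal.Quotient.mk_surjective (I := q)
      (by rw [Ideal.mk_ker]; exact hpB)
    refine ⟨⟨inferInstance, bot_le⟩, fun Q ⟨hQ, _⟩ hQq => ?_⟩
    haveI := hQ
    have h1 : Q.comap (Ideal.Quotient.mk pB) ≤ q := (Ideal.comap_mono hQq).trans hco.le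
    exact Ideal.map_le_iff_le_comap.2 (hq.2 ⟨inferInstance, bot_le⟩ h1)
  have h := Groth.Calg7.DimTwoFlat.two_le_dim_component (A ⧸ p) (B ⧸ pB) (hA p hp) hqmap
  refine h.trans (le_of_eq ?_)
  exact ringKrullDim_eq_of_ringEquiv (DoubleQuot.quotQuotEquivQuotOfLE hpB)

/-- Let A → B be a flat local homomorphism of Noetherian local rings and let Â, B̂ be their completions
at the maximal ideals. If every irreducible component of Spec Â has dimension at least 2, then every
irreducible component of Spec B̂ has dimension at least 2. (This is the c_2 condition in its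
completed form; globally: the preimage of a c_2 closed subset under a flat morphism of Noetherian
schemes is c_2, in particular the condition is invariant under Zariski and étale localization.) -/
theorem result
    (A B : Type u) [CommRing A] [CommRing B] [IsNoetherianRing A] [IsNoetherianRing B]
    [IsLocalRing A] [IsLocalRing B] (f : A →+* B) [IsLocalHom f] (hf : f.Flat)
    (hA : ∀ q ∈ minimalPrimes (AdicCompletion (IsLocalRing.maximalIdeal A) A), (2 : WithBot ℕ∞) ≤ ringKrullDim (AdicCompletion (IsLocalRing.maximalIdeal A) A ⧸ q)) :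
    ∀ q ∈ minimalPrimes (AdicCompletion (IsLocalRing.maximalIdeal B) B), (2 : WithBot ℕ∞) ≤ ringKrullDim (AdicCompletion (IsLocalRing.maximalIdeal B) B ⧸ q) := by
  intro q hq
  letI : Algebra A B := f.toAlgebra
  haveI : IsLocalHom (algebraMap A B) := ‹IsLocalHom f›
  haveI : Module.Flat A B := hf
  have hle : (IsLocalRing.maximalIdeal A).map f ≤ IsLocalRing.maximalIdeal B :=
    ((IsLocalRing.local_hom_TFAE f).out 0 2).mp ‹_›
  let ψ := Groth.PropsBasic.GRingLocal.cplMap _ _ f hle
  letI : Algebra (AdicCompletion (IsLocalRing.maximalIdeal A) A) (AdicCompletion (IsLocalRing.maximalIdeal B) B) :=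
    ψ.toAlgebra
  haveI : IsScalarTower A (AdicCompletion (IsLocalRing.maximalIdeal A) A) (AdicCompletion (IsLocalRing.maximalIdeal B) B) :=
    IsScalarTower.of_algebraMap_eq fun a =>
      (IsScalarTower.algebraMap_apply A B (AdicCompletion (IsLocalRing.maximalIdeal B) B) a).trans
        (Groth.Calg4.cplMap_algebraMap _ _ f hle a).symm
  haveI : IsNoetherianRing (AdicCompletion (IsLocalRing.maximalIdeal A) A) :=
    Groth.Calg1.isNoetherianRing_adicCompletion _ (IsNoetherian.noetherian _)
  haveI : IsNoetherianRing (AdicCompletion (IsLocalRing.maximalIdeal B) B) :=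
    Groth.Calg1.isNoetherianRing_adicCompletion _ (IsNoetherian.noetherian _)
  haveI : IsAdicComplete (IsLocalRing.maximalIdeal (AdicCompletion (IsLocalRing.maximalIdeal A) A))
      (AdicCompletion (IsLocalRing.maximalIdeal A) A) :=
    AdicCompletion.isAdicComplete_of_fg (IsNoetherian.noetherian _)
  haveI : Module.Flat A (AdicCompletion (IsLocalRing.maximalIdeal B) B) := Module.Flat.trans A B _
  haveI : IsLocalHom (algebraMap A (AdicCompletion (IsLocalRing.maximalIdeal B) B)) := by
    haveI : IsLocalHom (algebraMap B (AdicCompletion (IsLocalRing.maximalIdeal B) B)) := by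
      refine ((IsLocalRing.local_hom_TFAE _).out 0 2).mpr ?_
      exact (AdicCompletion.maximalIdeal_eq_map (R := B)).ge
    rw [IsScalarTower.algebraMap_eq A B (AdicCompletion (IsLocalRing.maximalIdeal B) B)]
    exact RingHom.isLocalHom_comp _ _
  haveI := Groth.Calg4.faithfullyFlat_completion_of_flat A (AdicCompletion (IsLocalRing.maximalIdeal B) B)
  haveI : IsLocalHom (algebraMap (AdicCompletion (IsLocalRing.maximalIdeal A) A) (AdicCompletion (IsLocalRing.maximalIdeal B) B)) := by
    refine ((IsLocalRing.local_hom_TFAE _).out 0 2).mpr ?_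
    rw [AdicCompletion.maximalIdeal_eq_map, Ideal.map_map, ← IsScalarTower.algebraMap_eq]
    exact ((IsLocalRing.local_hom_TFAE _).out 0 2).mp ‹_›
  exact main _ _ hA q hq

end Groth.Agent.S16576
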