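import Groth.Statements.S16577
import Groth.Agent.Hensel1.Transfer
import Mathlib.RingTheory.Ideal.GoingDown
import Mathlib.RingTheory.Unramified.LocalStructure

set_option autoImplicit false
universe u
open Hensel

namespace Groth.Agent.S16577

/-- Let A be a Noetherian local ring with a strict henselization S', and p a prime ideal of A. Call p an
immediate étale generization of the closed point when the strict henselization S'/pS' of A/p has an
irreducible component of dimension 1, that is, some minimal prime P over pS' has dim S'/P = 1. Then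
p is an immediate étale generization of the closed point if and only if p is the contraction of some
prime ideal P of S' with dim S'/P = 1. -/
theorem result
    (A : Type u) [CommRing A] [IsNoetherianRing A] [IsLocalRing A]
    (S' : Type u) [CommRing S'] [IsLocalRing S'] [Algebra A S'] [IsLocalHom (algebraMap A S')]
    [Hensel.IsStrictHenselization A S']
    (p : Ideal A) [p.IsPrime] :
    (∃ P ∈ (p.map (algebraMap A S')).minimalPrimes, ringKrullDim (S' ⧸ P) = 1) ↔
    (∃ P : Ideal S', P.IsPrime ∧ P.comap (algebraMap A S') = p ∧ ringKrullDim (S' ⧸ P) = 1) := by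
  obtain ⟨M⟩ := Groth.Hensel1.hensModel_of_isStrictHenselization (R := A) (S := S')
  have := M.flat
  have hdisc : ∀ (P₁ P₂ : Ideal S'), P₁.IsPrime → P₂.IsPrime → P₁ ≤ P₂ →
      P₁.comap (algebraMap A S') = P₂.comap (algebraMap A S') → P₂ ≤ P₁ := by
    intro P₁ P₂ h₁ h₂ hle heq x hx
    obtain ⟨i, y, hy⟩ := Groth.Hensel1.Hens.exists_of (M.equiv.symm x)
    obtain ⟨c, s, rfl⟩ := IsLocalization.exists_mk'_eq i.q.primeCompl y
    let ψ : i.P.Ring →ₐ[A] S' := (M.equiv.toAlgHom.comp (Groth.Hensel1.Hens.of i)).comp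
      (IsScalarTower.toAlgHom A i.P.Ring i.Obj)
    have hcx : ψ c = x * ψ s := by
      rw [← M.equiv.apply_symm_apply x, ← hy]
      show M.equiv (Groth.Hensel1.Hens.of i (algebraMap i.P.Ring i.Obj c)) = _
      rw [← IsLocalization.mk'_spec i.Obj c s, map_mul, map_mul]
      rfl
    have hu : IsUnit (ψ s) := ((IsLocalization.map_units (M := i.q.primeCompl) i.Obj s).map
      (Groth.Hensel1.Hens.of i)).map M.equiv.toAlgHom
    have : P₁.comap ψ = P₂.comap ψ := Algebra.QuasiFinite.eq_of_le_of_under_eq (R := A) _ _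
      (Ideal.comap_mono hle) (by
        show Ideal.comap (algebraMap A i.P.Ring) (Ideal.comap ψ.toRingHom P₁) =
          Ideal.comap (algebraMap A i.P.Ring) (Ideal.comap ψ.toRingHom P₂)
        rw [Ideal.comap_comap, Ideal.comap_comap,
          show ψ.toRingHom.comp (algebraMap A i.P.Ring) = algebraMap A S' from ψ.comp_algebraMap, heq])
    have hc : c ∈ P₁.comap ψ := by
      rw [this, Ideal.mem_comap, hcx]; exact P₂.mul_mem_right _ hx
    rw [Ideal.mem_comap, hcx, Ideal.mul_unit_mem_iff_mem _ hu] at hc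
    exact hc
  constructor
  · rintro ⟨P, hP, hdim⟩
    have hPp : P.IsPrime := hP.1.1
    refine ⟨P, hPp, le_antisymm ?_ (Ideal.map_le_iff_le_comap.1 hP.1.2), hdim⟩
    have : P.LiesOver (P.comap (algebraMap A S')) := ⟨rfl⟩
    obtain ⟨Q, hQP, hQ, hQp⟩ := Ideal.exists_ideal_le_liesOver_of_le (S := S') (p := p)
      (q := P.comap (algebraMap A S')) P (Ideal.map_le_iff_le_comap.1 hP.1.2)
    have := hP.2 ⟨hQ, Ideal.map_le_iff_le_comap.2 hQp.over.le⟩ hQP
    exact (Ideal.comap_mono this).trans hQp.over.ge
  · rintro ⟨P, hP, hPp, hdim⟩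
    obtain ⟨P₁, hmin, hle⟩ := Ideal.exists_minimalPrimes_le (I := p.map (algebraMap A S')) (J := P)
      (Ideal.map_le_iff_le_comap.2 hPp.ge)
    have hp1 : P₁.comap (algebraMap A S') = P.comap (algebraMap A S') :=
      le_antisymm (Ideal.comap_mono hle) (hPp.le.trans (Ideal.map_le_iff_le_comap.1 hmin.1.2))
    exact ⟨P, le_antisymm hle (hdisc P₁ P hmin.1.1 hP hle hp1) ▸ hmin, hdim⟩

end Groth.Agent.S16577
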