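import Groth.Statements.S16578
import Groth.Agent.EtaleAlgebra.BranchDim
import Groth.Agent.EtaleAlgebra.HensCompletion
import Groth.Agent.Hensel1.Std
import Groth.Agent.Hensel1.NormalHomBranches
import Groth.Agent.AlgSpEt.GorRing
import Groth.Agent.S2801

set_option autoImplicit false
universe u
open Hensel
open scoped TensorProduct

namespace Groth.Agent.S16578

/-- Let A be a Noetherian local ring with completion Â at its maximal ideal, S' a strict henselization
of A, T' a strict henselization of Â, and p a prime ideal of A. Say that a prime p of a Noetherian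
local ring with strict henselization S is an immediate étale generization of the closed point when
some minimal prime P over pS has dim S/P = 1. Then p is an immediate étale generization of the
closed point of A if and only if some minimal prime q over pÂ (a maximal point of the fibre over p
of Spec Â → Spec A) is an immediate étale generization of the closed point of Â. -/
theorem result
    (A : Type u) [CommRing A] [IsNoetherianRing A] [IsLocalRing A]
    (S' : Type u) [CommRing S'] [IsLocalRing S'] [Algebra A S'] [IsLocalHom (algebraMap A S')]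
    [Hensel.IsStrictHenselization A S']
    (T' : Type u) [CommRing T'] [IsLocalRing T'] [Algebra (AdicCompletion (IsLocalRing.maximalIdeal A) A) T'] [IsLocalHom (algebraMap (AdicCompletion (IsLocalRing.maximalIdeal A) A) T')]
    [Hensel.IsStrictHenselization (AdicCompletion (IsLocalRing.maximalIdeal A) A) T']
    (p : Ideal A) [p.IsPrime] :
    (∃ P ∈ (p.map (algebraMap A S')).minimalPrimes, ringKrullDim (S' ⧸ P) = 1) ↔
    (∃ q ∈ (p.map (algebraMap A (AdicCompletion (IsLocalRing.maximalIdeal A) A))).minimalPrimes,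
      ∃ Q ∈ (q.map (algebraMap (AdicCompletion (IsLocalRing.maximalIdeal A) A) T')).minimalPrimes, ringKrullDim (T' ⧸ Q) = 1) := by
  classical
  let m := IsLocalRing.maximalIdeal A
  let Ahat := AdicCompletion m A
  have hSH : HenselianLocalRing S' := (inferInstance : Hensel.IsStrictHenselization A S').henselian
  have hTH : HenselianLocalRing T' := (inferInstance : Hensel.IsStrictHenselization Ahat T').henselian
  let H := Groth.Hensel1.Hens A (IsLocalRing.ResidueField A)
  have hH : Hensel.IsHenselization A H := Groth.Hensel1.isHenselization_hens A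
  obtain ⟨ψ, hψ⟩ := Groth.EtaleAlgebra.Punctured.exists_toCompletion (A := A) (S := H)
  obtain ⟨hHN, hHh, hN, hff, hm, hd⟩ := Groth.EtaleAlgebra.Punctured.setting ψ hψ
  let _ := ψ.toAlgebra
  have : Module.FaithfullyFlat H Ahat := hff
  have hp : p ≠ ⊤ := Ideal.IsPrime.ne_top ‹_›
  have hle : p ≤ IsLocalRing.maximalIdeal A := IsLocalRing.le_maximalIdeal hp
  have : Nontrivial (A ⧸ p) := Ideal.Quotient.nontrivial_iff.2 hp
  have : IsLocalRing (A ⧸ p) := .of_surjective' _ Ideal.Quotient.mk_surjective
  have : IsLocalHom (algebraMap A (A ⧸ p)) :=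
    IsLocalHom.of_surjective (algebraMap A (A ⧸ p)) Ideal.Quotient.mk_surjective
  -- strict henselization modulo `p`
  let I' := p.map (algebraMap A S')
  have hI' : I' ≠ ⊤ := ne_top_of_le_ne_top (IsLocalRing.maximalIdeal.isMaximal S').ne_top
    ((Ideal.map_mono hle).trans (((IsLocalRing.local_hom_TFAE (algebraMap A S')).out 0 2 rfl rfl).mp inferInstance))
  have : Nontrivial (S' ⧸ I') := Ideal.Quotient.nontrivial_iff.2 hI'
  have : IsLocalRing (S' ⧸ I') := .of_surjective' _ Ideal.Quotient.mk_surjective
  have : IsLocalHom (algebraMap (A ⧸ p) (S' ⧸ I')) := ⟨fun a ha => by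
    obtain ⟨a, rfl⟩ := Ideal.Quotient.mk_surjective a
    have h1 : IsUnit (Ideal.Quotient.mk I' (algebraMap A S' a)) := ha
    have : IsLocalHom (Ideal.Quotient.mk I') := IsLocalHom.of_surjective _ Ideal.Quotient.mk_surjective
    exact (isUnit_of_map_unit (algebraMap A S') a (isUnit_of_map_unit (Ideal.Quotient.mk I') _ h1)).map (Ideal.Quotient.mk p)⟩
  have hstr := Groth.AlgSpEt.GorRing.isStrictHenselization_quotient (R := S') p
  have : HenselianLocalRing (S' ⧸ I') := hstr.henselian
  obtain ⟨M'⟩ := Groth.Hensel1.hensModel_of_isStrictHenselization (R := A ⧸ p) (S := S' ⧸ I')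
  -- henselization modulo `p`
  obtain ⟨_, _, hT⟩ := Groth.Agent.S2801.result A (A ⧸ p) H
  have : HenselianLocalRing ((A ⧸ p) ⊗[A] H) := hT.henselian
  obtain ⟨M⟩ := Groth.Hensel1.hensModel_of_isHenselization (R := A ⧸ p) (S := (A ⧸ p) ⊗[A] H)
  let I := p.map (algebraMap A H)
  let e := (Algebra.TensorProduct.quotIdealMapEquivQuotTensor H p).symm.toRingEquiv
  open Groth.EtaleAlgebra.BranchDim in
  have hleft : (∃ P ∈ (p.map (algebraMap A S')).minimalPrimes, ringKrullDim (S' ⧸ P) = 1) ↔
      Has (Ahat ⧸ I.map (algebraMap H Ahat)) 1 := by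
    have h1 := has_iff_of_surjective (Ideal.Quotient.mk I') Ideal.Quotient.mk_surjective 1
    rw [Ideal.mk_ker] at h1
    refine h1.symm.trans (((has_iff_normRed M' 1).trans (has_iff_normRed M 1).symm).trans ?_)
    have h2 := has_iff_of_surjective e.toRingHom e.surjective 1
    rw [show RingHom.ker e.toRingHom = ⊥ from
      (RingHom.injective_iff_ker_eq_bot _).1 e.injective] at h2
    refine h2.symm.trans (has_iff_completion_quotient hm hd I ?_ (Or.inr rfl))
    exact ne_top_of_le_ne_top (IsLocalRing.maximalIdeal.isMaximal H).ne_top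
      ((Ideal.map_mono hle).trans (((IsLocalRing.local_hom_TFAE (algebraMap A H)).out 0 2 rfl rfl).mp inferInstance))
  have hmap : I.map (algebraMap H Ahat) = p.map (algebraMap A Ahat) := by
    rw [Ideal.map_map]; exact congrArg (fun f => Ideal.map f p) hψ
  rw [hleft, hmap]
  open Groth.EtaleAlgebra.BranchDim in
  have hmid := has_iff_of_surjective (Ideal.Quotient.mk (p.map (algebraMap A Ahat))) Ideal.Quotient.mk_surjective 1
  rw [Ideal.mk_ker] at hmid
  rw [hmid]
  refine exists_congr fun q => and_congr_right fun hq => ?_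
  -- the complete domain `A^ / q`
  have hqp : q.IsPrime := hq.1.1
  have : IsAdicComplete (IsLocalRing.maximalIdeal Ahat) Ahat := by
    rw [AdicCompletion.maximalIdeal_eq_map]
    exact AdicCompletion.isAdicComplete_self _ (IsLocalRing.maximalIdeal A).fg_of_isNoetherianRing
  have := Groth.Calg6.Branch.henselianLocalRing_of_isAdicComplete Ahat
  have : IsDomain (Ahat ⧸ q) := Ideal.Quotient.isDomain q
  have : IsLocalRing (Ahat ⧸ q) := .of_surjective' _ Ideal.Quotient.mk_surjective
  have : HenselianLocalRing (Ahat ⧸ q) := Groth.HensPair.henselianLocalRing_quotient _ hqp.ne_top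
  let J := q.map (algebraMap Ahat T')
  have hJ : J ≠ ⊤ := ne_top_of_le_ne_top (IsLocalRing.maximalIdeal.isMaximal T').ne_top
    ((Ideal.map_mono (IsLocalRing.le_maximalIdeal hqp.ne_top)).trans
      (((IsLocalRing.local_hom_TFAE (algebraMap Ahat T')).out 0 2 rfl rfl).mp inferInstance))
  have : Nontrivial (T' ⧸ J) := Ideal.Quotient.nontrivial_iff.2 hJ
  have : IsLocalRing (T' ⧸ J) := .of_surjective' _ Ideal.Quotient.mk_surjective
  have : IsLocalHom (algebraMap (Ahat ⧸ q) (T' ⧸ J)) := ⟨fun a ha => by
    obtain ⟨a, rfl⟩ := Ideal.Quotient.mk_surjective a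
    have h1 : IsUnit (Ideal.Quotient.mk J (algebraMap Ahat T' a)) := ha
    have : IsLocalHom (Ideal.Quotient.mk J) := IsLocalHom.of_surjective _ Ideal.Quotient.mk_surjective
    exact (isUnit_of_map_unit (algebraMap Ahat T') a (isUnit_of_map_unit (Ideal.Quotient.mk J) _ h1)).map (Ideal.Quotient.mk q)⟩
  have hstr' := Groth.AlgSpEt.GorRing.isStrictHenselization_quotient (R := T') q
  have : HenselianLocalRing (T' ⧸ J) := hstr'.henselian
  obtain ⟨N'⟩ := Groth.Hensel1.hensModel_of_isStrictHenselization (R := Ahat ⧸ q) (S := T' ⧸ J)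
  obtain ⟨_, _⟩ := Groth.Hensel1.isHenselization_self (Ahat ⧸ q)
  obtain ⟨N⟩ := Groth.Hensel1.hensModel_of_isHenselization (R := Ahat ⧸ q) (S := Ahat ⧸ q)
  open Groth.EtaleAlgebra.BranchDim in
  have h3 := has_iff_of_surjective (Ideal.Quotient.mk J) Ideal.Quotient.mk_surjective 1
  rw [Ideal.mk_ker] at h3
  refine Iff.trans ?_ (((Groth.EtaleAlgebra.BranchDim.has_iff_normRed N 1).trans
    (Groth.EtaleAlgebra.BranchDim.has_iff_normRed N' 1).symm).trans h3)
  unfold Groth.EtaleAlgebra.BranchDim.Has
  rw [IsDomain.minimalPrimes_eq_singleton_bot]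
  simp only [Set.mem_singleton_iff, exists_eq_left]
  rw [ringKrullDim_eq_of_ringEquiv (RingEquiv.quotientBot (Ahat ⧸ q))]

end Groth.Agent.S16578
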