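import Groth.Statements.S16579
import Groth.Agent.HensPair.CompletionClopen
import Groth.Agent.CohFin.ProjFinite
-- import your own Groth.Agent.* helpers here

set_option autoImplicit false
universe u
open CategoryTheory AlgebraicGeometry
open Hensel

namespace Groth.Agent.S16579

/-- The case of the constant sheaf on a two-element set. Let (A, I) be a henselian pair with I finitely
generated (A not necessarily Noetherian), Â the I-adic completion of A, π : Spec Â → Spec A the
completion morphism, U a quasi-compact open subscheme of Spec A containing the complement of V(I),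
and Û = π⁻¹(U). Then V ↦ (π|Û)⁻¹(V) is a bijection from the clopen subsets of U onto the clopen
subsets of Û; equivalently, for every finite set F the locally constant F-valued functions on U and
on Û correspond under composition with π. -/
theorem result
    (A : Type u) [CommRing A] (I : Ideal A) (hI : I.FG) [HenselianRing A I]
    (U : (Spec (CommRingCat.of A)).Opens) (hU : IsCompact (U : Set (Spec (CommRingCat.of A))))
    (hUI : ∀ x : Spec (CommRingCat.of A), x ∉ U → I ≤ x.asIdeal) :
    Function.Bijective (fun V : {V : Set ↥U // IsClopen V} =>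
      (⟨((Spec.map (CommRingCat.ofHom (algebraMap A (AdicCompletion I A)))) ∣_ U).base.hom ⁻¹' V.1, V.2.preimage ((Spec.map (CommRingCat.ofHom (algebraMap A (AdicCompletion I A)))) ∣_ U).base.hom.continuous⟩ :
        {V' : Set ↥((Spec.map (CommRingCat.ofHom (algebraMap A (AdicCompletion I A)))) ⁻¹ᵁ U) // IsClopen V'})) := by
  obtain ⟨s, hs⟩ := PrimeSpectrum.isCompact_isOpen_iff.1 ⟨hU, U.2⟩
  let g : s → A := fun i => i.1
  let U' : Set (PrimeSpectrum A) := SetLike.coe U
  have hUg : U' = ⋃ i, (PrimeSpectrum.basicOpen (g i) : Set (PrimeSpectrum A)) := by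
    ext p
    rw [show U' = (PrimeSpectrum.zeroLocus (s : Set A))ᶜ from hs.symm]
    simp [g, PrimeSpectrum.mem_zeroLocus, Set.not_subset]
  have hg : I ≤ (Ideal.span (Set.range g)).radical := fun a ha => by
    rw [← PrimeSpectrum.vanishingIdeal_zeroLocus_eq_radical, PrimeSpectrum.mem_vanishingIdeal]
    intro p hp
    refine hUI p (fun hpU => ?_) ha
    obtain ⟨i, hi⟩ := Set.mem_iUnion.1 (hUg.le (show p ∈ U' from hpU))
    exact hi (hp (Ideal.subset_span ⟨i, rfl⟩))
  let π := Spec.map (CommRingCat.ofHom (algebraMap A (AdicCompletion I A)))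
  have hc : Continuous fun q : ↥(π ⁻¹ᵁ U) => (⟨π q.1, q.2⟩ : ↥U) :=
    Continuous.subtype_mk (π.continuous.comp continuous_subtype_val) _
  have hbase : ∀ q : ↥(π ⁻¹ᵁ U), (π ∣_ U).base q = (⟨π q.1, q.2⟩ : ↥U) := fun q =>
    Subtype.ext (morphismRestrict_base π U ▸ rfl)
  constructor
  · intro V₁ V₂ h
    have h' : ∀ q : ↥(π ⁻¹ᵁ U), (⟨π q.1, q.2⟩ : ↥U) ∈ V₁.1 ↔ (⟨π q.1, q.2⟩ : ↥U) ∈ V₂.1 := fun q => by
      have h1 : (π ∣_ U).base q ∈ V₁.1 ↔ (π ∣_ U).base q ∈ V₂.1 := Set.ext_iff.1 (congrArg Subtype.val h) q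
      rwa [hbase] at h1
    have key : ∀ W : Set ↥U, IsClopen W → (∀ q : ↥(π ⁻¹ᵁ U), (⟨π q.1, q.2⟩ : ↥U) ∉ W) → W = ∅ := by
      intro W hW hq
      have hopen : IsOpenMap (Subtype.val : ↥U → _) := U.2.isOpenMap_subtype_val
      have hdiff : (⋃ i, (PrimeSpectrum.basicOpen (g i) : Set (PrimeSpectrum A))) \ (Subtype.val '' W) =
          Subtype.val '' Wᶜ := by
        rw [← hUg, Set.image_compl_eq_range_diff_image Subtype.val_injective, Subtype.range_coe]
        rfl
      have h0 := Groth.HensPair.eq_empty_of_comap_completion hI (HenselianRing.jac (I := I)) g hg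
        (Subtype.val '' W) (hopen _ hW.2) (hdiff ▸ hopen _ hW.compl.2)
        (by rw [← hUg]; rintro _ ⟨p, -, rfl⟩; exact p.2)
        (fun q => by
          rintro ⟨p, hp, hpq⟩
          refine hq ⟨q, (?_ : π q ∈ U)⟩ ?_
          · rw [show π q = p.1 from hpq.symm]; exact p.2
          · have he : π q = p.1 := hpq.symm
            show (⟨π q, _⟩ : ↥U) ∈ W
            rw [show (⟨π q, (he ▸ p.2 : π q ∈ U)⟩ : ↥U) = p from Subtype.ext he]
            exact hp)
      exact Set.image_eq_empty.1 h0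
    refine Subtype.ext (Set.ext fun p => ⟨fun hp => ?_, fun hp => ?_⟩)
    · by_contra hn
      exact (Set.eq_empty_iff_forall_notMem.1 (key _ (V₁.2.inter V₂.2.compl)
        fun q hq => hq.2 ((h' q).1 hq.1))) p ⟨hp, hn⟩
    · by_contra hn
      exact (Set.eq_empty_iff_forall_notMem.1 (key _ (V₂.2.inter V₁.2.compl)
        fun q hq => hq.2 ((h' q).2 hq.1))) p ⟨hp, hn⟩
  · rintro ⟨V, hV⟩
    have hpre : ∀ q, q ∈ π ⁻¹ᵁ U ↔ q ∈ (⋃ i, (PrimeSpectrum.basicOpen (algebraMap A (AdicCompletion I A) (g i)) :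
        Set (PrimeSpectrum (AdicCompletion I A)))) := fun q => by
      refine Iff.trans ?_ Set.mem_iUnion.symm
      exact (Iff.of_eq (congrArg (fun T => π q ∈ T) hUg)).trans Set.mem_iUnion
    have hopen : IsOpenMap (Subtype.val : ↥(π ⁻¹ᵁ U) → _) := (π ⁻¹ᵁ U).2.isOpenMap_subtype_val
    have hdiff : (⋃ i, (PrimeSpectrum.basicOpen (algebraMap A (AdicCompletion I A) (g i)) :
        Set (PrimeSpectrum (AdicCompletion I A)))) \ (Subtype.val '' V) = Subtype.val '' Vᶜ := by
      rw [Set.image_compl_eq_range_diff_image Subtype.val_injective, Subtype.range_coe]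
      exact congrArg (· \ _) (Set.ext fun q => (hpre q).symm)
    obtain ⟨W, hW, hWV⟩ := Groth.HensPair.exists_clopen_comap_completion Groth.CohFin.projFinite hI g hg
      (Subtype.val '' V) (hopen _ hV.2) (hdiff ▸ hopen _ hV.compl.2)
      (by rintro _ ⟨p, -, rfl⟩; exact (hpre _).1 p.2)
    let θ : ↥U → ↥(⋃ i, (PrimeSpectrum.basicOpen (g i) : Set (PrimeSpectrum A))) := fun p => ⟨p.1, hUg.le p.2⟩
    have hθ : Continuous θ := continuous_subtype_val.subtype_mk _
    refine ⟨⟨θ ⁻¹' W, hW.preimage hθ⟩, Subtype.ext (Set.ext fun q => ?_)⟩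
    show (π ∣_ U).base q ∈ θ ⁻¹' W ↔ q ∈ V
    rw [hbase]
    exact (hWV q.1 (hUg.le q.2)).trans Subtype.val_injective.mem_set_image

end Groth.Agent.S16579
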