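import Groth.Statements.S16583
import Mathlib.AlgebraicGeometry.Morphisms.Etale
import Mathlib.AlgebraicGeometry.ResidueField
import Mathlib.RingTheory.FinitePresentation
import Mathlib.RingTheory.Unramified.LocalRing
import Mathlib.FieldTheory.IsAlgClosed.Basic

set_option autoImplicit false
universe u
open CategoryTheory AlgebraicGeometry
open EtCore

namespace Groth.Agent.S16583

lemma exists_factor_of_surjective {R B A C : Type u} [CommRing R] [CommRing B] [CommRing A]
    [CommRing C] [Algebra R B] [Algebra R A] [Algebra R C] (π : B →ₐ[R] A) (hπ : Function.Surjective π)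
    (g : B →ₐ[R] C) (h : ∀ x ∈ RingHom.ker π, g x = 0) :
    ∃ χ : A →ₐ[R] C, ∀ x, χ (π x) = g x := by
  refine ⟨(Ideal.Quotient.liftₐ (RingHom.ker π) g h).comp
    (Ideal.quotientKerAlgEquivOfSurjective hπ).symm.toAlgHom, fun x => ?_⟩
  have hx : (Ideal.quotientKerAlgEquivOfSurjective hπ).symm (π x) = Ideal.Quotient.mk _ x :=
    (AlgEquiv.symm_apply_eq _).2 rfl
  exact (congrArg (Ideal.Quotient.liftₐ (RingHom.ker π) g h) hx).trans rfl

/-- An algebra map to a local ring extends to an algebra map to a localization away from an element. -/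
lemma exists_lift_localizationAway {R A : Type u} [CommRing R] [CommRing A] [Algebra R A]
    [Algebra.FinitePresentation R A] (p : Ideal R) [p.IsPrime] (φ : A →ₐ[R] Localization.AtPrime p) :
    ∃ f ∉ p, ∀ (Rf : Type u) [CommRing Rf] [Algebra R Rf] [IsLocalization.Away f Rf],
      ∃ (χ : A →ₐ[R] Rf) (lam : Rf →ₐ[R] Localization.AtPrime p), lam.comp χ = φ := by
  classical
  obtain ⟨n, π, hπ, r, hr⟩ := Algebra.FinitePresentation.out (R := R) (A := A)
  choose a s e using fun i => IsLocalization.exists_mk'_eq p.primeCompl (φ (π (MvPolynomial.X i)))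
  let f₀ : R := ∏ i, (s i : R)
  have hf₀ : f₀ ∉ p := prod_mem (S := p.primeCompl) fun i _ => (s i).2
  let R₀ := Localization.Away f₀
  let mu : R₀ →ₐ[R] Localization.AtPrime p :=
    { IsLocalization.Away.lift f₀ (g := algebraMap R (Localization.AtPrime p))
        (IsLocalization.map_units (Localization.AtPrime p) (⟨f₀, hf₀⟩ : p.primeCompl)) with
      commutes' := fun c => IsLocalization.Away.lift_eq _ _ c }
  let g : Fin n → R₀ := fun i =>
    IsLocalization.mk' R₀ (a i * ∏ j ∈ Finset.univ.erase i, (s j : R))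
      (⟨f₀, 1, pow_one _⟩ : Submonoid.powers f₀)
  have hg : mu.comp (MvPolynomial.aeval g) = φ.comp π := by
    refine MvPolynomial.algHom_ext fun i => ?_
    rw [AlgHom.comp_apply, MvPolynomial.aeval_X, AlgHom.comp_apply, ← e i]
    rw [← IsUnit.mul_left_inj (IsLocalization.map_units (Localization.AtPrime p) (⟨f₀, hf₀⟩ : p.primeCompl))]
    have hgi : g i * algebraMap R R₀ f₀ =
        algebraMap R R₀ (a i * ∏ j ∈ Finset.univ.erase i, (s j : R)) := IsLocalization.mk'_spec _ _ _
    have hmu : mu (g i) * algebraMap R (Localization.AtPrime p) f₀ =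
        algebraMap R (Localization.AtPrime p) (a i * ∏ j ∈ Finset.univ.erase i, (s j : R)) := by
      rw [← mu.commutes, ← mu.commutes, ← map_mul, hgi]
    refine hmu.trans ?_
    show _ = _ * algebraMap R (Localization.AtPrime p) f₀
    rw [show f₀ = (s i : R) * ∏ j ∈ Finset.univ.erase i, (s j : R) from
      (Finset.mul_prod_erase _ (fun j => (s j : R)) (Finset.mem_univ i)).symm, map_mul, map_mul,
      ← mul_assoc, IsLocalization.mk'_spec]
  have ht : ∀ x ∈ r, ∃ t ∉ p, algebraMap R R₀ t * MvPolynomial.aeval g x = 0 := by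
    intro x hx
    obtain ⟨⟨c, m⟩, hc⟩ := IsLocalization.surj (Submonoid.powers f₀) (MvPolynomial.aeval g x)
    have h0 : mu (MvPolynomial.aeval g x) = 0 := by
      rw [← AlgHom.comp_apply, hg, AlgHom.comp_apply,
        show π x = 0 from hr.le (Ideal.subset_span hx), map_zero]
    have hc0 : algebraMap R (Localization.AtPrime p) c = 0 := by
      rw [← mu.commutes, ← hc, map_mul, h0, zero_mul]
    obtain ⟨t, ht⟩ := (IsLocalization.map_eq_zero_iff p.primeCompl _ c).1 hc0
    refine ⟨t, t.2, ?_⟩
    rw [← (IsLocalization.map_units R₀ m).mul_left_eq_zero, mul_assoc, hc, ← map_mul, ht, map_zero]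
  choose t htp ht0 using ht
  let f := f₀ * ∏ x ∈ r.attach, t x.1 x.2
  have hf : f ∉ p := mul_mem (s := p.primeCompl) hf₀ (prod_mem (S := p.primeCompl) fun x _ => htp x.1 x.2)
  refine ⟨f, hf, fun Rf _ _ _ => ?_⟩
  have hfu : IsUnit (algebraMap R Rf f) := IsLocalization.Away.algebraMap_isUnit f
  rw [map_mul, IsUnit.mul_iff] at hfu
  let rho : R₀ →ₐ[R] Rf :=
    { IsLocalization.Away.lift f₀ (g := algebraMap R Rf) hfu.1 with
      commutes' := fun c => IsLocalization.Away.lift_eq _ _ c }
  let lam : Rf →ₐ[R] Localization.AtPrime p :=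
    { IsLocalization.Away.lift f (g := algebraMap R (Localization.AtPrime p))
        (IsLocalization.map_units (Localization.AtPrime p) (⟨f, hf⟩ : p.primeCompl)) with
      commutes' := fun c => IsLocalization.Away.lift_eq _ _ c }
  have hlr : lam.comp rho = mu := by
    apply AlgHom.coe_ringHom_injective
    refine IsLocalization.ringHom_ext (Submonoid.powers f₀) ?_
    ext c
    simp [rho, lam, mu]
  have hker : ∀ x ∈ RingHom.ker π, rho (MvPolynomial.aeval g x) = 0 := by
    suffices RingHom.ker π.toRingHom ≤ RingHom.ker (rho.comp (MvPolynomial.aeval g)).toRingHom from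
      fun x hx => this hx
    rw [← hr, Ideal.span_le]
    intro x hx
    have hu : IsUnit (algebraMap R Rf (t x hx)) := isUnit_of_dvd_unit
      (map_dvd _ (Finset.dvd_prod_of_mem (fun y : r => t y.1 y.2) (Finset.mem_attach r ⟨x, hx⟩))) hfu.2
    show rho (MvPolynomial.aeval g x) = 0
    rw [← hu.mul_right_eq_zero, ← rho.commutes, ← map_mul, ht0 x hx, map_zero]
  obtain ⟨χ, hχ⟩ := exists_factor_of_surjective π hπ (rho.comp (MvPolynomial.aeval g)) hker
  refine ⟨χ, lam, AlgHom.ext fun y => ?_⟩
  obtain ⟨x, rfl⟩ := hπ y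
  rw [AlgHom.comp_apply, hχ, ← AlgHom.comp_apply, ← AlgHom.comp_assoc, hlr, hg, AlgHom.comp_apply]

/-- An etale local ring over an algebraically closed field point is that field. -/
lemma localRingHom_bijective {R A : Type u} [CommRing R] [CommRing A] [Algebra R A] [Algebra.Etale R A]
    (q : Ideal A) [q.IsPrime] (hF : IsField (Localization.AtPrime (q.comap (algebraMap R A))))
    (hC : IsAlgClosed (q.comap (algebraMap R A)).ResidueField) :
    Function.Bijective (Localization.localRingHom (q.comap (algebraMap R A)) q (algebraMap R A) rfl) := by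
  let p := q.comap (algebraMap R A)
  let _ : Algebra (Localization.AtPrime p) (Localization.AtPrime q) :=
    (Localization.localRingHom p q (algebraMap R A) rfl).toAlgebra
  have : IsScalarTower R (Localization.AtPrime p) (Localization.AtPrime q) :=
    IsScalarTower.of_algebraMap_eq fun a => by
      rw [RingHom.algebraMap_toAlgebra, Localization.localRingHom_to_map,
        IsScalarTower.algebraMap_apply R A (Localization.AtPrime q)]
  have : IsLocalHom (algebraMap (Localization.AtPrime p) (Localization.AtPrime q)) :=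
    Localization.isLocalHom_localRingHom p q (algebraMap R A) rfl
  have : Algebra.EssFiniteType A (Localization.AtPrime q) :=
    Algebra.EssFiniteType.of_isLocalization _ q.primeCompl
  have : Algebra.EssFiniteType R (Localization.AtPrime q) := Algebra.EssFiniteType.comp R A _
  have : Algebra.EssFiniteType (Localization.AtPrime p) (Localization.AtPrime q) :=
    Algebra.EssFiniteType.of_comp R _ _
  have : Algebra.FormallyUnramified A (Localization.AtPrime q) :=
    Algebra.FormallyUnramified.of_isLocalization q.primeCompl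
  have : Algebra.FormallyUnramified R (Localization.AtPrime q) := Algebra.FormallyUnramified.comp R A _
  have : Algebra.FormallyUnramified (Localization.AtPrime p) (Localization.AtPrime q) :=
    Algebra.FormallyUnramified.of_restrictScalars R _ _
  have hm := Algebra.FormallyUnramified.map_maximalIdeal (R := Localization.AtPrime p)
    (S := Localization.AtPrime q)
  rw [IsLocalRing.isField_iff_maximalIdeal_eq.1 hF, Ideal.map_bot] at hm
  have hB : IsField (Localization.AtPrime q) := IsLocalRing.isField_iff_maximalIdeal_eq.2 hm.symm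
  refine ⟨letI := hF.toField; RingHom.injective _, fun b => ?_⟩
  let k := IsLocalRing.ResidueField (Localization.AtPrime p)
  let K := IsLocalRing.ResidueField (Localization.AtPrime q)
  have : IsAlgClosed k := hC
  obtain ⟨c, hc⟩ := (IsAlgClosed.algebraMap_bijective_of_isIntegral (k := k) (K := K)).2
    (IsLocalRing.residue _ b)
  obtain ⟨a, rfl⟩ := IsLocalRing.residue_surjective c
  refine ⟨a, ?_⟩
  rw [← sub_eq_zero]
  have : Localization.localRingHom p q (algebraMap R A) rfl a - b ∈
      IsLocalRing.maximalIdeal (Localization.AtPrime q) := by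
    rw [← IsLocalRing.residue_eq_zero_iff, map_sub, sub_eq_zero]
    exact hc
  rwa [← hm, Ideal.mem_bot] at this

theorem result
    (X Y : Scheme.{u}) (hX : ∀ x : X, IsField (X.presheaf.stalk x))
    (hX' : ∀ x : X, IsAlgClosed (X.residueField x))
    (f : Y ⟶ X) [Etale f] (y : Y) :
    ∃ (V : X.Opens) (s : (V : Scheme.{u}) ⟶ Y), f.base y ∈ V ∧ s ≫ f = V.ι ∧ y ∈ Set.range s.base := by
  obtain ⟨_, ⟨U, hU, rfl⟩, hx, -⟩ := X.isBasis_affineOpens.exists_subset_of_mem_open
    (Set.mem_univ (f.base y)) isOpen_univ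
  obtain ⟨_, ⟨W, hW, rfl⟩, hy, hWU⟩ := Y.isBasis_affineOpens.exists_subset_of_mem_open
    (show y ∈ f ⁻¹ᵁ U from hx) (f ⁻¹ᵁ U).2
  have hE : (f.appLE U W hWU).hom.Etale := HasRingHomProperty.appLE @Etale f ‹_› ⟨U, hU⟩ ⟨W, hW⟩ hWU
  let := (f.appLE U W hWU).hom.toAlgebra
  have : Algebra.Etale Γ(X, U) Γ(Y, W) := hE
  let q := (hW.primeIdealOf ⟨y, hy⟩).asIdeal
  let p := q.comap (algebraMap Γ(X, U) Γ(Y, W))
  have hp : p = (hU.primeIdealOf ⟨f y, hx⟩).asIdeal :=
    congrArg PrimeSpectrum.asIdeal (IsAffineOpen.comap_primeIdealOf_appLE U hU W hW hWU hy)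
  obtain ⟨hF, hC⟩ : IsField (Localization.AtPrime p) ∧ IsAlgClosed p.ResidueField := by
    suffices ∀ (p : Ideal Γ(X, U)) (_ : p.IsPrime), p = (hU.primeIdealOf ⟨f y, hx⟩).asIdeal →
        IsField (Localization.AtPrime p) ∧ IsAlgClosed p.ResidueField from this _ _ hp
    rintro p _ rfl
    let := X.presheaf.algebra_section_stalk (⟨f y, hx⟩ : U)
    have := hU.isLocalization_stalk ⟨f y, hx⟩
    let e := (IsLocalization.algEquiv (hU.primeIdealOf ⟨f y, hx⟩).asIdeal.primeCompl
      (X.presheaf.stalk (f y)) (Localization.AtPrime (hU.primeIdealOf ⟨f y, hx⟩).asIdeal)).toRingEquiv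
    exact ⟨e.symm.toMulEquiv.isField (hX _),
      @IsAlgClosed.of_ringEquiv _ _ _ _ (IsLocalRing.ResidueField.mapEquiv e) (hX' _)⟩
  let E := RingEquiv.ofBijective _ (localRingHom_bijective q hF hC)
  let φ : Γ(Y, W) →ₐ[Γ(X, U)] Localization.AtPrime p :=
    { E.symm.toRingHom.comp (algebraMap Γ(Y, W) (Localization.AtPrime q)) with
      commutes' := fun c => E.symm_apply_eq.2 (Localization.localRingHom_to_map p q _ rfl c).symm }
  obtain ⟨r, hr, H⟩ := exists_lift_localizationAway p φ
  let := (X.presheaf.map (homOfLE (X.basicOpen_le r)).op).hom.toAlgebra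
  have := hU.isLocalization_basicOpen r
  obtain ⟨χ, lam, hχ⟩ := H Γ(X, X.basicOpen r)
  have hV : IsAffineOpen (X.basicOpen r) := hU.basicOpen r
  have hxV : f.base y ∈ X.basicOpen r := by
    rw [Scheme.mem_basicOpen X r (f.base y) hx]
    let := X.presheaf.algebra_section_stalk (⟨f y, hx⟩ : U)
    have := IsAffineOpen.isLocalization_stalk hU ⟨f y, hx⟩
    exact IsLocalization.map_units (X.presheaf.stalk (f y))
      (⟨r, show r ∉ (hU.primeIdealOf ⟨f y, hx⟩).asIdeal by rwa [← hp]⟩ :
        (hU.primeIdealOf ⟨f y, hx⟩).asIdeal.primeCompl)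
  let ψ : Γ(Y, W) ⟶ Γ(X, X.basicOpen r) := CommRingCat.ofHom χ.toRingHom
  have hψ : f.appLE U W hWU ≫ ψ = X.presheaf.map (homOfLE (X.basicOpen_le r)).op :=
    CommRingCat.hom_ext (RingHom.ext fun c => χ.commutes c)
  refine ⟨X.basicOpen r, hV.isoSpec.hom ≫ Spec.map ψ ≫ hW.fromSpec, hxV, ?_, ⟨⟨f y, hxV⟩, ?_⟩⟩
  · rw [Category.assoc, Category.assoc, ← IsAffineOpen.SpecMap_appLE_fromSpec f hU hW hWU,
      ← Spec.map_comp_assoc, hψ, hU.map_fromSpec hV, IsAffineOpen.isoSpec_hom_fromSpec]
  · rw [Scheme.Hom.comp_apply, Scheme.Hom.comp_apply]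
    refine Eq.trans ?_ (hW.fromSpec_primeIdealOf ⟨y, hy⟩)
    refine congrArg _ (PrimeSpectrum.ext ?_)
    let P := (IsLocalRing.maximalIdeal (Localization.AtPrime p)).comap lam.toRingHom
    have hP : P = (hV.primeIdealOf ⟨f y, hxV⟩).asIdeal := by
      let Pl : PrimeSpectrum Γ(X, X.basicOpen r) := ⟨P, inferInstance⟩
      have h1 : hV.fromSpec.base Pl = f.base y := by
        rw [← IsAffineOpen.map_fromSpec hU hV (homOfLE (X.basicOpen_le r)).op, Scheme.Hom.comp_apply]
        refine Eq.trans ?_ (IsAffineOpen.fromSpec_primeIdealOf hU ⟨f y, hx⟩)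
        refine congrArg _ (PrimeSpectrum.ext ?_)
        show P.comap (algebraMap Γ(X, U) Γ(X, X.basicOpen r)) = _
        show ((IsLocalRing.maximalIdeal (Localization.AtPrime p)).comap lam.toRingHom).comap
          (algebraMap Γ(X, U) Γ(X, X.basicOpen r)) = _
        rw [Ideal.comap_comap, show lam.toRingHom.comp (algebraMap Γ(X, U) Γ(X, X.basicOpen r)) =
          algebraMap Γ(X, U) (Localization.AtPrime p) from lam.comp_algebraMap]
        exact (IsLocalization.AtPrime.under_maximalIdeal _ p).trans hp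
      exact congrArg PrimeSpectrum.asIdeal (hV.fromSpec.isOpenEmbedding.injective
        (h1.trans (IsAffineOpen.fromSpec_primeIdealOf hV ⟨f y, hxV⟩).symm))
    show ((hV.primeIdealOf ⟨f y, hxV⟩).asIdeal).comap χ.toRingHom = q
    rw [← hP, Ideal.comap_comap, show lam.toRingHom.comp χ.toRingHom = φ.toRingHom from
      congrArg AlgHom.toRingHom hχ]
    show Ideal.comap (E.symm.toRingHom.comp (algebraMap Γ(Y, W) (Localization.AtPrime q))) _ = q
    rw [← Ideal.comap_comap]
    have : Ideal.comap E.symm.toRingHom (IsLocalRing.maximalIdeal (Localization.AtPrime p)) =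
        IsLocalRing.maximalIdeal (Localization.AtPrime q) :=
      IsLocalRing.eq_maximalIdeal (Ideal.comap_isMaximal_of_equiv E.symm)
    rw [this]
    exact IsLocalization.AtPrime.under_maximalIdeal _ q

end Groth.Agent.S16583
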