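import Groth.Statements.S1659
import Groth.Agent.RefRank.EffCartierDecomp

set_option autoImplicit false
universe u
open CategoryTheory CategoryTheory.Limits AlgebraicGeometry
open Divisors

namespace Groth.Agent.S1659

/-- Let X be Noetherian, D an effective Cartier divisor and D_1, …, D_r effective Cartier divisors which
are integral as closed subschemes, with D contained set-theoretically in their union. Then D = Σ a_i
D_i for some a_i ≥ 0, i.e. the ideal sheaf of D is the product of the a_i-th powers of the ideal
sheaves of the D_i. -/
theorem result (X : Scheme.{u}) [IsNoetherian X] (D : X.IdealSheafData) (hD : BlowUp.IsEffCartierIdeal D)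
    (r : ℕ) (Ds : Fin r → X.IdealSheafData) (hDs : ∀ i, BlowUp.IsEffCartierIdeal (Ds i)) (hint : ∀ i, IsIntegral (Ds i).subscheme)
    (hsub : (D.support : Set X) ⊆ ⋃ i, ((Ds i).support : Set X)) :
    ∃ a : Fin r → ℕ, D = ∏ i, Ds i ^ a i := by
  exact Groth.RefRank.EffCartierLocal.exists_eq_prod D hD Ds hDs hint hsub

end Groth.Agent.S1659
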