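import Groth.Statements.S16597
import Mathlib
import Groth.Agent.LG.Basic

set_option autoImplicit false
universe u v
open LGRing

namespace Groth.Agent.S16597

/-- Let R be an LG-ring and M a finite locally free (finitely generated projective) R-module of constant
rank. Then M is free. In particular invertible R-modules are trivial: Pic(R) = 0. -/
theorem result {R : Type u} [CommRing R] (hR : LGRing.IsLGRing R)
    (M : Type v) [AddCommGroup M] [Module R M] [Module.Finite R M] [Module.Projective R M] (d : ℕ)
    (hd : ∀ p : PrimeSpectrum R, Module.rankAtStalk M p = d) : Module.Free R M := by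

  rcases subsingleton_or_nontrivial R with hR' | hR'
  · have : Subsingleton M := Module.subsingleton R M
    infer_instance
  obtain ⟨e⟩ := Groth.LG.nonempty_equiv (M := M) (N := Fin d → R) hR fun m hm => by
    rw [hd, Module.rankAtStalk_eq_finrank_of_free, Pi.natCast_apply, Module.finrank_fin_fun, Nat.cast_id]
  exact Module.Free.of_equiv e.symm

end Groth.Agent.S16597
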