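import Groth.Statements.S16598
import Mathlib
import Groth.Agent.LG.Basic

set_option autoImplicit false
universe u v
open LGRing

namespace Groth.Agent.S16598

/-- Let R be an LG-ring and M a faithfully projective R-module (finitely generated projective and
faithful). Then M contains a unimodular element: there are m ∈ M and a linear form f on M with f(m)
= 1 (so R·m is a free direct summand of M of rank one). -/
theorem result {R : Type u} [CommRing R] (hR : LGRing.IsLGRing R)
    (M : Type v) [AddCommGroup M] [Module R M] [Module.Finite R M] [Module.Projective R M] [FaithfulSMul R M] :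
    ∃ (m : M) (f : Module.Dual R M), f m = 1 := by

  classical
  obtain ⟨p, v, hv⟩ := Module.Finite.exists_fin' R M
  obtain ⟨u, hu⟩ := Module.projective_lifting_property v LinearMap.id hv
  let P := LinearMap.toMatrix' (u ∘ₗ v)
  let t : Finset (MvPolynomial (Fin p) R) :=
    Finset.univ.image fun i => ∑ j, MvPolynomial.C (P i j) * MvPolynomial.X j
  obtain ⟨x, hx⟩ := Groth.LG.exists_span_eq_top hR t fun m hm => by
    letI := Ideal.Quotient.field m
    have hne : ∃ i j, P i j ∉ m := by
      by_contra hc
      push Not at hc
      have htop : (⊤ : Submodule R M) ≤ m • ⊤ := by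
        intro x _
        have : x = v (u x) := (LinearMap.congr_fun hu x).symm
        rw [this]
        have h2 : u x = P.mulVec (u x) := by
          rw [← Matrix.toLin'_apply, Matrix.toLin'_toMatrix', LinearMap.comp_apply,
            show v (u x) = x from LinearMap.congr_fun hu x]
        rw [h2, pi_eq_sum_univ' (P.mulVec (u x)), map_sum]
        refine Submodule.sum_mem _ fun i _ => ?_
        rw [map_smul]
        refine Submodule.smul_mem_smul ?_ trivial
        simp only [Matrix.mulVec, dotProduct]
        exact Ideal.sum_mem _ fun j _ => Ideal.mul_mem_right _ _ (hc i j)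
      obtain ⟨r, hr1, hr0⟩ := Submodule.exists_sub_one_mem_and_smul_eq_zero_of_fg_of_le_smul m ⊤
        Module.Finite.fg_top htop
      have : r = 0 := FaithfulSMul.eq_of_smul_eq_smul (α := M) fun x => by rw [hr0 x trivial, zero_smul]
      rw [this, zero_sub, Ideal.neg_mem_iff] at hr1
      exact hm.ne_top ((Ideal.eq_top_iff_one m).2 hr1)
    obtain ⟨i, j, hij⟩ := hne
    refine ⟨Pi.single j 1, _, Finset.mem_image.2 ⟨i, Finset.mem_univ _, rfl⟩, ?_⟩
    simp [Pi.single_apply, Ideal.Quotient.eq_zero_iff_mem, hij]
  have himage : MvPolynomial.eval x '' (t : Set (MvPolynomial (Fin p) R)) = Set.range (P.mulVec x) := by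
    simp only [t, Finset.coe_image, Finset.coe_univ, Set.image_univ, ← Set.range_comp]
    congr 1
    funext i
    simp [Matrix.mulVec, dotProduct]
  rw [himage] at hx
  obtain ⟨c, hc⟩ := (Ideal.mem_span_range_iff_exists_fun).1 ((Ideal.eq_top_iff_one _).1 hx)
  refine ⟨v x, (∑ i, c i • LinearMap.proj i) ∘ₗ u, ?_⟩
  have e : u (v x) = P.mulVec x := by
    rw [← Matrix.toLin'_apply, Matrix.toLin'_toMatrix', LinearMap.comp_apply]
  simp only [LinearMap.comp_apply, LinearMap.sum_apply, LinearMap.smul_apply, LinearMap.proj_apply, e, smul_eq_mul]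
  exact hc

end Groth.Agent.S16598
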