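import Groth.Statements.S16599
import Mathlib
import Groth.Agent.LG.Basic

set_option autoImplicit false
open AlgebraicGeometry
universe u
open LGRing

namespace Groth.Agent.S16599

/-- Let R be an LG-ring, n ≥ 0, and U an open quasi-compact subscheme of affine n-space Spec R[X₁, …,
Xₙ]. If U has an (R ⧸ m)-valued point over R for every maximal ideal m of R, then U has an R-valued
point: some n-tuple x over R defines a section Spec R ⟶ Spec R[X₁, …, Xₙ] with image inside U. -/
theorem result {R : Type u} [CommRing R] (hR : LGRing.IsLGRing R)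
    (n : ℕ) (U : (Spec (CommRingCat.of (MvPolynomial (Fin n) R))).Opens)
    (hU : IsCompact (U : Set ↥(Spec (CommRingCat.of (MvPolynomial (Fin n) R)))))
    (h : ∀ (m : Ideal R) [m.IsMaximal], ∃ x : Fin n → R ⧸ m,
      Set.range (Spec.map (CommRingCat.ofHom (MvPolynomial.eval₂Hom (Ideal.Quotient.mk m) x))).base ⊆
        (U : Set ↥(Spec (CommRingCat.of (MvPolynomial (Fin n) R))))) :
    ∃ x : Fin n → R, Set.range (Spec.map (CommRingCat.ofHom (MvPolynomial.eval x))).base ⊆
      (U : Set ↥(Spec (CommRingCat.of (MvPolynomial (Fin n) R)))) := by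

  classical
  obtain ⟨t, ht⟩ := PrimeSpectrum.isCompact_isOpen_iff.1 ⟨hU, U.isOpen⟩
  obtain ⟨x, hx⟩ := Groth.LG.exists_span_eq_top hR t fun m hm => by
    letI := Ideal.Quotient.field m
    obtain ⟨x, hx⟩ := h m
    have h' : Set.range (PrimeSpectrum.comap (MvPolynomial.eval₂Hom (Ideal.Quotient.mk m) x)) ⊆
        (PrimeSpectrum.zeroLocus (t : Set (MvPolynomial (Fin n) R)))ᶜ := fun q hq => (Set.ext_iff.1 ht q).2 (hx hq)
    rw [Groth.LG.range_comap_subset_iff, Groth.LG.span_image_field] at h'
    exact ⟨x, h'⟩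
  have h' := (Groth.LG.range_comap_subset_iff (MvPolynomial.eval x) (t : Set (MvPolynomial (Fin n) R))).2 hx
  exact ⟨x, fun q hq => (Set.ext_iff.1 ht q).1 (h' hq)⟩

end Groth.Agent.S16599
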