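import Groth.Statements.S16600
import Mathlib
import Groth.Agent.LG.Basic

set_option autoImplicit false
open AlgebraicGeometry
universe u
open LGRing

namespace Groth.Agent.S16600

open MvPolynomial in
theorem core {R : Type u} [CommRing R] (hR : LGRing.IsLGRing R) (V : Type u) [AddCommGroup V] [Module R V]
    [Module.Finite R V] [Module.Projective R V] (t : Finset (SymmetricAlgebra R V))
    (h : ∀ (m : Ideal R) [m.IsMaximal], ∃ φ : V →ₗ[R] (R ⧸ m), ∃ a ∈ t, SymmetricAlgebra.lift φ a ≠ 0) :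
    ∃ φ : V →ₗ[R] R, Ideal.span ((SymmetricAlgebra.lift φ) '' (t : Set (SymmetricAlgebra R V))) = ⊤ := by
  classical
  obtain ⟨p, v, hv⟩ := Module.Finite.exists_fin' R V
  obtain ⟨u, hu⟩ := Module.projective_lifting_property v LinearMap.id hv
  let L : V →ₗ[R] MvPolynomial (Fin p) R := (∑ i, (LinearMap.proj i).smulRight (X i)) ∘ₗ u
  have hL : ∀ {A : Type u} [CommRing A] [Algebra R A] (x : Fin p → A) (a : SymmetricAlgebra R V),
      aeval x (SymmetricAlgebra.lift L a) = SymmetricAlgebra.lift ((aeval x).toLinearMap ∘ₗ L) a := by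
    intro A _ _ x a
    rw [← AlgHom.comp_apply]
    congr 1
    refine SymmetricAlgebra.algHom_ext (LinearMap.ext fun y => ?_)
    simp [SymmetricAlgebra.lift_ι_apply]
  obtain ⟨x, hx⟩ := Groth.LG.exists_span_eq_top hR (t.image (SymmetricAlgebra.lift L)) fun m hm => by
    obtain ⟨φ, a, ha, hne⟩ := h m
    refine ⟨fun i => φ (v (Pi.single i 1)), _, Finset.mem_image.2 ⟨a, ha, rfl⟩, ?_⟩
    rw [hL]
    convert hne
    refine LinearMap.ext fun y => ?_
    have e : y = ∑ i, u y i • v (Pi.single i 1) := by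
      conv_lhs => rw [← LinearMap.id_apply (R := R) y, ← hu, LinearMap.comp_apply, pi_eq_sum_univ' (u y)]
      simp [map_sum]
    conv_rhs => rw [e]
    simp [L, map_sum, Algebra.smul_def]
  refine ⟨(aeval x).toLinearMap ∘ₗ L, ?_⟩
  rw [Finset.coe_image, ← Set.image_comp] at hx
  have e : (fun a => eval x (SymmetricAlgebra.lift L a)) = ⇑(SymmetricAlgebra.lift ((aeval x).toLinearMap ∘ₗ L)) :=
    funext fun a => by rw [← hL]; rfl
  rw [Function.comp_def, e] at hx
  exact hx

/-- Let R be an LG-ring, M a finite locally free R-module, W(M) = Spec Sym(M^∨) the vector bundle of M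
(its points with values in an R-algebra R' are the R-algebra maps Sym(M^∨) → R', i.e. the R-linear
maps M^∨ → R'), and U ⊆ W(M) an open quasi-compact subscheme. Then U(R) is non-empty if and only if
U(R ⧸ m) is non-empty for every maximal ideal m of R. -/
theorem result {R : Type u} [CommRing R]
    (hR : LGRing.IsLGRing R) (M : Type u) [AddCommGroup M] [Module R M] [Module.Finite R M] [Module.Projective R M]
    (U : (Spec (CommRingCat.of (SymmetricAlgebra R (Module.Dual R M)))).Opens)
    (hU : IsCompact (U : Set ↥(Spec (CommRingCat.of (SymmetricAlgebra R (Module.Dual R M)))))) :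
    (∃ φ : Module.Dual R M →ₗ[R] R,
      Set.range (Spec.map (CommRingCat.ofHom (SymmetricAlgebra.lift φ).toRingHom)).base ⊆
        (U : Set ↥(Spec (CommRingCat.of (SymmetricAlgebra R (Module.Dual R M)))))) ↔
    ∀ (m : Ideal R) [m.IsMaximal], ∃ φ : Module.Dual R M →ₗ[R] (R ⧸ m),
      Set.range (Spec.map (CommRingCat.ofHom (SymmetricAlgebra.lift φ).toRingHom)).base ⊆
        (U : Set ↥(Spec (CommRingCat.of (SymmetricAlgebra R (Module.Dual R M))))) := by

  classical
  obtain ⟨t, ht⟩ := PrimeSpectrum.isCompact_isOpen_iff.1 ⟨hU, U.isOpen⟩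
  constructor
  · rintro ⟨φ, hφ⟩ m hm
    refine ⟨(Ideal.Quotient.mkₐ R m).toLinearMap ∘ₗ φ, ?_⟩
    have e : SymmetricAlgebra.lift ((Ideal.Quotient.mkₐ R m).toLinearMap ∘ₗ φ) =
        (Ideal.Quotient.mkₐ R m).comp (SymmetricAlgebra.lift φ) := by
      refine SymmetricAlgebra.algHom_ext (LinearMap.ext fun y => ?_)
      simp [SymmetricAlgebra.lift_ι_apply]
    rintro _ ⟨q, rfl⟩
    refine hφ ⟨(PrimeSpectrum.comap (Ideal.Quotient.mk m) q : PrimeSpectrum R), ?_⟩
    rw [e]
    rfl
  · intro h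
    obtain ⟨φ, hφ⟩ := core hR (Module.Dual R M) t fun m hm => by
      letI := Ideal.Quotient.field m
      obtain ⟨φ, hφ⟩ := h m
      have h' : Set.range (PrimeSpectrum.comap (SymmetricAlgebra.lift φ).toRingHom) ⊆
          (PrimeSpectrum.zeroLocus (t : Set (SymmetricAlgebra R (Module.Dual R M))))ᶜ :=
        fun q hq => (Set.ext_iff.1 ht q).2 (hφ hq)
      rw [Groth.LG.range_comap_subset_iff, Groth.LG.span_image_field] at h'
      exact ⟨φ, h'⟩
    have h' := (Groth.LG.range_comap_subset_iff (SymmetricAlgebra.lift φ).toRingHom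
      (t : Set (SymmetricAlgebra R (Module.Dual R M)))).2 hφ
    exact ⟨φ, fun q hq => (Set.ext_iff.1 ht q).1 (h' hq)⟩

end Groth.Agent.S16600
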