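import Groth.Statements.S16601
import Mathlib
import Groth.Agent.LG.Basic

set_option autoImplicit false
open AlgebraicGeometry
universe u
open LGRing

namespace Groth.Agent.S16601

open MvPolynomial in
theorem core {R : Type u} [CommRing R] (hR : LGRing.IsLGRing R) (V : Type u) [AddCommGroup V] [Module R V]
    [Module.Finite R V] [Module.Projective R V] (t : Finset (SymmetricAlgebra R V))
    (h : ∀ (m : Ideal R) [m.IsMaximal], ∃ φ : V →ₗ[R] (R ⧸ m), ∃ a ∈ t, SymmetricAlgebra.lift φ a ≠ 0) :
    ∃ φ : V →ₗ[R] R, Ideal.span ((SymmetricAlgebra.lift φ) '' (t : Set (SymmetricAlgebra R V))) = ⊤ := by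
  classical
  obtain ⟨p, v, hv⟩ := Module.Finite.exists_fin' R V
  obtain ⟨u, hu⟩ := Module.projective_lifting_property v LinearMap.id hv
  let L : V →ₗ[R] MvPolynomial (Fin p) R := (∑ i, (LinearMap.proj i).smulRight (X i)) ∘ₗ u
  have hL : ∀ {A : Type u} [CommRing A] [Algebra R A] (x : Fin p → A) (a : SymmetricAlgebra R V),
      aeval x (SymmetricAlgebra.lift L a) = SymmetricAlgebra.lift ((aeval x).toLinearMap ∘ₗ L) a := by
    intro A _ _ x a
    rw [← AlgHom.comp_apply]
    congr 1
    refine SymmetricAlgebra.algHom_ext (LinearMap.ext fun y => ?_)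
    simp [SymmetricAlgebra.lift_ι_apply]
  obtain ⟨x, hx⟩ := Groth.LG.exists_span_eq_top hR (t.image (SymmetricAlgebra.lift L)) fun m hm => by
    obtain ⟨φ, a, ha, hne⟩ := h m
    refine ⟨fun i => φ (v (Pi.single i 1)), _, Finset.mem_image.2 ⟨a, ha, rfl⟩, ?_⟩
    rw [hL]
    convert hne
    refine LinearMap.ext fun y => ?_
    have e : y = ∑ i, u y i • v (Pi.single i 1) := by
      conv_lhs => rw [← LinearMap.id_apply (R := R) y, ← hu, LinearMap.comp_apply, pi_eq_sum_univ' (u y)]
      simp [map_sum]
    conv_rhs => rw [e]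
    simp [L, map_sum, Algebra.smul_def]
  refine ⟨(aeval x).toLinearMap ∘ₗ L, ?_⟩
  rw [Finset.coe_image, ← Set.image_comp] at hx
  have e : (fun a => eval x (SymmetricAlgebra.lift L a)) = ⇑(SymmetricAlgebra.lift ((aeval x).toLinearMap ∘ₗ L)) :=
    funext fun a => by rw [← hL]; rfl
  rw [Function.comp_def, e] at hx
  exact hx

/-- Let R be an LG-ring whose residue fields at maximal ideals are all infinite (R satisfies the
primitive criterion), M a finite locally free R-module with vector bundle W(M) = Spec Sym(M^∨), and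
U ⊆ W(M) an open quasi-compact subscheme which is fibrewise dense over the closed points of Spec R
(for every maximal ideal m, the trace of U on the closed fibre Spec (Sym(M^∨) ⧸ m Sym(M^∨)) is
dense). Then U has an R-valued point. (The source asks U to be R-dense in W(M); only density of the
closed fibres is used, which is what is assumed here.) -/
theorem result {R : Type u} [CommRing R]
    (hR : LGRing.IsLGRing R) (hinf : ∀ (m : Ideal R) [m.IsMaximal], Infinite (R ⧸ m))
    (M : Type u) [AddCommGroup M] [Module R M] [Module.Finite R M] [Module.Projective R M]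
    (U : (Spec (CommRingCat.of (SymmetricAlgebra R (Module.Dual R M)))).Opens)
    (hU : IsCompact (U : Set ↥(Spec (CommRingCat.of (SymmetricAlgebra R (Module.Dual R M))))))
    (hdense : ∀ (m : Ideal R) [m.IsMaximal],
      Dense ((Spec.map (CommRingCat.ofHom (Ideal.Quotient.mk
        (Ideal.map (algebraMap R (SymmetricAlgebra R (Module.Dual R M))) m)))).base ⁻¹'
          (U : Set ↥(Spec (CommRingCat.of (SymmetricAlgebra R (Module.Dual R M))))))) :
    ∃ φ : Module.Dual R M →ₗ[R] R,
      Set.range (Spec.map (CommRingCat.ofHom (SymmetricAlgebra.lift φ).toRingHom)).base ⊆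
        (U : Set ↥(Spec (CommRingCat.of (SymmetricAlgebra R (Module.Dual R M))))) := by

  classical
  obtain ⟨t, ht⟩ := PrimeSpectrum.isCompact_isOpen_iff.1 ⟨hU, U.isOpen⟩
  obtain ⟨φ, hφ⟩ := core hR (Module.Dual R M) t fun m hm => by
    letI := Ideal.Quotient.field m
    have := hinf m
    set V := Module.Dual R M with hV
    let J : Ideal (SymmetricAlgebra R V) := Ideal.map (algebraMap R (SymmetricAlgebra R V)) m
    have hJ : J ≠ ⊤ := by
      intro htop
      have h1 : J.map (SymmetricAlgebra.algebraMapInv (R := R) (M := V)).toRingHom = m := by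
        rw [Ideal.map_map]
        conv_rhs => rw [← Ideal.map_id m]
        congr 1
        exact RingHom.ext fun r => AlgHom.commutes _ r
      rw [htop, Ideal.map_top] at h1
      exact hm.ne_top h1.symm
    have : Nontrivial (SymmetricAlgebra R V ⧸ J) := Ideal.Quotient.nontrivial_iff.2 hJ
    obtain ⟨q, hq⟩ := (hdense m).nonempty
    have hq' : PrimeSpectrum.comap (Ideal.Quotient.mk J) q ∈ (PrimeSpectrum.zeroLocus (t : Set (SymmetricAlgebra R V)))ᶜ := by
      rw [ht]; exact hq
    rw [Set.mem_compl_iff, PrimeSpectrum.mem_zeroLocus, Set.not_subset] at hq'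
    obtain ⟨a, hat, haq⟩ := hq'
    have haJ : a ∉ J := fun h => haq (by
      change Ideal.Quotient.mk J a ∈ q.asIdeal
      rw [Ideal.Quotient.eq_zero_iff_mem.2 h]
      exact zero_mem _)
    obtain ⟨p, v, hv⟩ := Module.Finite.exists_fin' R V
    obtain ⟨u, hu⟩ := Module.projective_lifting_property v LinearMap.id hv
    let L : V →ₗ[R] MvPolynomial (Fin p) R := (∑ i, (LinearMap.proj i).smulRight (MvPolynomial.X i)) ∘ₗ u
    let B : MvPolynomial (Fin p) R →ₐ[R] SymmetricAlgebra R V :=
      MvPolynomial.aeval fun i => SymmetricAlgebra.ι R V (v (Pi.single i 1))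
    have hBL : ∀ a, B (SymmetricAlgebra.lift L a) = a := by
      intro a
      have e : B.comp (SymmetricAlgebra.lift L) = AlgHom.id R _ := by
        refine SymmetricAlgebra.algHom_ext (LinearMap.ext fun y => ?_)
        simp only [LinearMap.comp_apply, AlgHom.toLinearMap_apply, AlgHom.comp_apply, SymmetricAlgebra.lift_ι_apply,
          AlgHom.id_apply]
        conv_rhs => rw [← LinearMap.id_apply (R := R) y, ← hu, LinearMap.comp_apply, pi_eq_sum_univ' (u y)]
        simp [B, L, map_sum, map_smul]
      exact DFunLike.congr_fun e a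
    have hne : MvPolynomial.map (Ideal.Quotient.mk m) (SymmetricAlgebra.lift L a) ≠ 0 := by
      intro h0
      refine haJ ?_
      rw [← hBL a]
      have h1 : SymmetricAlgebra.lift L a ∈ Ideal.map (MvPolynomial.C : R →+* MvPolynomial (Fin p) R) m := by
        rw [MvPolynomial.mem_map_C_iff]
        intro d
        rw [← Ideal.Quotient.eq_zero_iff_mem, ← MvPolynomial.coeff_map, h0, MvPolynomial.coeff_zero]
      have h2 := Ideal.mem_map_of_mem B.toRingHom h1
      rw [Ideal.map_map] at h2
      rwa [show B.toRingHom.comp MvPolynomial.C = algebraMap R (SymmetricAlgebra R V) from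
        RingHom.ext fun r => B.commutes r] at h2
    obtain ⟨x, hx⟩ : ∃ x : Fin p → R ⧸ m,
        MvPolynomial.eval x (MvPolynomial.map (Ideal.Quotient.mk m) (SymmetricAlgebra.lift L a)) ≠ 0 := by
      by_contra hc
      push Not at hc
      exact hne (MvPolynomial.funext fun x => by rw [hc x, map_zero])
    refine ⟨(MvPolynomial.aeval x).toLinearMap ∘ₗ L, a, hat, ?_⟩
    have e : SymmetricAlgebra.lift ((MvPolynomial.aeval x).toLinearMap ∘ₗ L) =
        (MvPolynomial.aeval x).comp (SymmetricAlgebra.lift L) := by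
      refine SymmetricAlgebra.algHom_ext (LinearMap.ext fun y => ?_)
      simp [SymmetricAlgebra.lift_ι_apply]
    rw [MvPolynomial.eval_map] at hx
    rw [e]
    exact hx
  have h' := (Groth.LG.range_comap_subset_iff (SymmetricAlgebra.lift φ).toRingHom
    (t : Set (SymmetricAlgebra R (Module.Dual R M)))).2 hφ
  exact ⟨φ, fun q hq => (Set.ext_iff.1 ht q).1 (h' hq)⟩

end Groth.Agent.S16601
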