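import Groth.Statements.S16602
import Mathlib
import Groth.Agent.LG.AzCancel

set_option autoImplicit false
universe u v w
open Brauer

namespace Groth.Agent.S16602

theorem iso_of_le {R : Type u} [CommRing R] (hR : LGRing.IsLGRing R) {A : Type v} [Ring A] [Algebra R A] [IsAzumaya R A]
    (P Q : Type w) [AddCommGroup P] [Module R P] [Module A P] [IsScalarTower R A P] [Module.Finite A P]
    [Module.Projective A P] [AddCommGroup Q] [Module R Q] [Module A Q] [IsScalarTower R A Q] [Module.Finite A Q]
    [Module.Projective A Q] [Nontrivial Q] (hP : ∀ e : Module.End A P, IsIdempotentElem e → e = 0 ∨ e = 1)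
    (h : ∀ p : PrimeSpectrum R, Module.rankAtStalk Q p ≤ Module.rankAtStalk P p) : Nonempty (P ≃ₗ[A] Q) := by
  obtain ⟨f, hf⟩ := Groth.LG.exists_surjective (A := A) hR (M := P) (N := Q) fun m _ => h _
  obtain ⟨s, hs⟩ := Module.projective_lifting_property f LinearMap.id hf
  have hfs : ∀ y, f (s y) = y := fun y => LinearMap.congr_fun hs y
  rcases hP (s ∘ₗ f) (LinearMap.ext fun x => by simp [hfs]) with h0 | h1
  · obtain ⟨y, hy⟩ := exists_ne (0 : Q)
    obtain ⟨x, rfl⟩ := hf y
    have h2 : f (s (f x)) = f x := hfs _
    rw [show s (f x) = 0 from LinearMap.congr_fun h0 x, map_zero] at h2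
    exact (hy h2.symm).elim
  · refine ⟨LinearEquiv.ofBijective f ⟨fun a b hab => ?_, hf⟩⟩
    have ha : s (f a) = a := LinearMap.congr_fun h1 a
    have hb : s (f b) = b := LinearMap.congr_fun h1 b
    rw [← ha, ← hb, hab]

/-- Let R be an LG-ring with Spec R connected and A an Azumaya R-algebra. Then any two indecomposable
finitely generated projective left A-modules are isomorphic (a module is indecomposable when it is
non-zero and the only idempotents of its endomorphism ring are 0 and 1). (This extends the semilocal
case.) -/
theorem result {R : Type u} [CommRing R]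
    (hR : LGRing.IsLGRing R) [ConnectedSpace (PrimeSpectrum R)] {A : Type v} [Ring A] [Algebra R A] [IsAzumaya R A]
    (P Q : Type w) [AddCommGroup P] [Module A P] [Module.Finite A P] [Module.Projective A P] [Nontrivial P]
    [AddCommGroup Q] [Module A Q] [Module.Finite A Q] [Module.Projective A Q] [Nontrivial Q]
    (hP : ∀ e : Module.End A P, IsIdempotentElem e → e = 0 ∨ e = 1)
    (hQ : ∀ e : Module.End A Q, IsIdempotentElem e → e = 0 ∨ e = 1) : Nonempty (P ≃ₗ[A] Q) := by
  letI : Module R P := Module.compHom P (algebraMap R A)
  letI : Module R Q := Module.compHom Q (algebraMap R A)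
  haveI : IsScalarTower R A P := ⟨fun r a x => by
    show (r • a) • x = algebraMap R A r • (a • x)
    rw [Algebra.smul_def, mul_smul]⟩
  haveI : IsScalarTower R A Q := ⟨fun r a x => by
    show (r • a) • x = algebraMap R A r • (a • x)
    rw [Algebra.smul_def, mul_smul]⟩
  haveI : Module.Finite R P := Module.Finite.trans A P
  haveI : Module.Finite R Q := Module.Finite.trans A Q
  haveI : Module.Projective R P := Groth.LG.projective_of_projective (A := A) P
  haveI : Module.Projective R Q := Groth.LG.projective_of_projective (A := A) Q
  haveI : Module.FinitePresentation R P := Module.finitePresentation_of_projective R P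
  haveI : Module.FinitePresentation R Q := Module.finitePresentation_of_projective R Q
  obtain ⟨p⟩ : Nonempty (PrimeSpectrum R) := inferInstance
  have cP := fun q => (Module.isLocallyConstant_rankAtStalk (R := R) (M := P)).apply_eq_of_preconnectedSpace q p
  have cQ := fun q => (Module.isLocallyConstant_rankAtStalk (R := R) (M := Q)).apply_eq_of_preconnectedSpace q p
  rcases le_total (Module.rankAtStalk Q p) (Module.rankAtStalk P p) with h | h
  · exact iso_of_le hR P Q hP fun q => by rw [cP q, cQ q]; exact h
  · exact ⟨(iso_of_le hR Q P hQ fun q => by rw [cP q, cQ q]; exact h).some.symm⟩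

end Groth.Agent.S16602
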