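import Groth.Statements.S16607
import Mathlib
import Groth.Agent.LG.AzCancel

set_option autoImplicit false
universe u v
open Brauer

namespace Groth.Agent.S16607

/-- Let R be an LG-ring, A and B Azumaya R-algebras and n ≥ 1. If Mₙ(A) ≅ Mₙ(B) as R-algebras then A ≅ B
as R-algebras (cancellation of Azumaya algebras). -/
theorem result {R : Type u} [CommRing R]
    (hR : LGRing.IsLGRing R) (A B : Type v) [Ring A] [Algebra R A] [IsAzumaya R A] [Ring B] [Algebra R B]
    [IsAzumaya R B] (n : ℕ) (hn : 0 < n)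
    (e : Matrix (Fin n) (Fin n) A ≃ₐ[R] Matrix (Fin n) (Fin n) B) : Nonempty (A ≃ₐ[R] B) := by
  refine Groth.LG.cancel (A := A) (B := B) hR (Pi.single (⟨0, hn⟩ : Fin n) (1 : R) : Fin n → R)
    (LinearMap.proj (⟨0, hn⟩ : Fin n)) (by simp) ?_
  exact (((Algebra.TensorProduct.congr AlgEquiv.refl Matrix.toLinAlgEquiv'.symm).trans
    (matrixEquivTensor (Fin n) R A).symm).trans (e.trans ((matrixEquivTensor (Fin n) R B).trans
      (Algebra.TensorProduct.congr AlgEquiv.refl Matrix.toLinAlgEquiv'))))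

end Groth.Agent.S16607
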