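import Groth.Statements.S16608
import Mathlib
import Groth.Agent.LG.AzCancel

set_option autoImplicit false
open scoped TensorProduct
universe u v
open Brauer

namespace Groth.Agent.S16608

/-- Let R be an LG-ring and A, B, C Azumaya R-algebras. If A ⊗_R C ≅ B ⊗_R C as R-algebras then A ≅ B as
R-algebras. -/
theorem result {R : Type u} [CommRing R]
    (hR : LGRing.IsLGRing R) (A B C : Type v) [Ring A] [Algebra R A] [IsAzumaya R A] [Ring B] [Algebra R B]
    [IsAzumaya R B] [Ring C] [Algebra R C] [IsAzumaya R C]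
    (e : A ⊗[R] C ≃ₐ[R] B ⊗[R] C) : Nonempty (A ≃ₐ[R] B) := by
  obtain ⟨φ, hφ⟩ := Groth.Azum.exists_dual_one R C
  let μ : C ⊗[R] Cᵐᵒᵖ ≃ₐ[R] Module.End R C := AlgEquiv.ofBijective (AlgHom.mulLeftRight R C) IsAzumaya.bij
  exact Groth.LG.cancel (A := A) (B := B) hR (1 : C) φ hφ
    (((Algebra.TensorProduct.congr AlgEquiv.refl μ.symm).trans
      (Algebra.TensorProduct.assoc R R R A C Cᵐᵒᵖ).symm).trans
      ((Algebra.TensorProduct.congr e AlgEquiv.refl).trans
        ((Algebra.TensorProduct.assoc R R R B C Cᵐᵒᵖ).trans (Algebra.TensorProduct.congr AlgEquiv.refl μ))))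

end Groth.Agent.S16608
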