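import Groth.Statements.S16609
import Mathlib
import Groth.Agent.S16608
import Groth.Agent.S19589
import Groth.Agent.LG.Basic
import Groth.Agent.LG.AzCancel
import Groth.Agent.OortTate.Classify

set_option autoImplicit false
open scoped TensorProduct
universe u v
open Brauer

namespace Groth.Agent.S16609

/-- Let R be an LG-ring and A, B two Azumaya R-algebras of the same degree (the same rank function on
Spec R). Then A ≅ B as R-algebras as soon as A and B have the same class in the Brauer group of R,
i.e. A ⊗_R End_R(P) ≅ B ⊗_R End_R(Q) for some faithfully projective R-modules P, Q (the converse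
being clear). -/
theorem result {R : Type u} [CommRing R]
    (hR : LGRing.IsLGRing R) (A B : Type u) [Ring A] [Algebra R A] [IsAzumaya R A] [Ring B] [Algebra R B]
    [IsAzumaya R B] (hdeg : ∀ p : PrimeSpectrum R, Module.rankAtStalk A p = Module.rankAtStalk B p)
    (P Q : Type u) [AddCommGroup P] [Module R P] [Module.Finite R P] [Module.Projective R P] [FaithfulSMul R P]
    [AddCommGroup Q] [Module R Q] [Module.Finite R Q] [Module.Projective R Q] [FaithfulSMul R Q]
    (e : A ⊗[R] Module.End R P ≃ₐ[R] B ⊗[R] Module.End R Q) : Nonempty (A ≃ₐ[R] B) := by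
    have hEnd : ∀ (V : Type u) [AddCommGroup V] [Module R V] [Module.Finite R V] [Module.Projective R V]
        (p : PrimeSpectrum R), Module.rankAtStalk (R := R) (Module.End R V) p =
          Module.rankAtStalk (R := R) V p * Module.rankAtStalk (R := R) V p := by
      intro V _ _ _ _ p
      let ed : Module.Dual R V ⊗[R] V ≃ₗ[R] Module.End R V :=
        { toFun := dualTensorHomEquiv R V V
          invFun := (dualTensorHomEquiv R V V).symm
          left_inv := (dualTensorHomEquiv R V V).left_inv
          right_inv := (dualTensorHomEquiv R V V).right_inv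
          map_add' := map_add (dualTensorHomEquiv R V V)
          map_smul' := map_smul (dualTensorHomEquiv R V V) }
      rw [← Module.rankAtStalk_eq_of_equiv (R := R) (M := Module.Dual R V ⊗[R] V) (N := Module.End R V) ed, Module.rankAtStalk_tensorProduct,
        Pi.mul_apply, Groth.Agent.OortTate.rankAtStalk_dual]
    have hP := Groth.Azum.finite_projective_end R P
    have hQ := Groth.Azum.finite_projective_end R Q
    haveI := hP.1
    haveI := hP.2
    haveI := hQ.1
    haveI := hQ.2
    have hpos : ∀ p : PrimeSpectrum R, 0 < Module.rankAtStalk (R := R) A p := fun p => by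
      rw [Module.rankAtStalk_pos_iff_mem_support, Module.support_eq_zeroLocus, PrimeSpectrum.mem_zeroLocus,
        Module.annihilator_eq_bot.2 inferInstance]
      simp
    have hrk : ∀ p : PrimeSpectrum R,
        Module.rankAtStalk (R := R) P p = Module.rankAtStalk (R := R) Q p := fun p => by
      have h1 := congr_fun (Module.rankAtStalk_eq_of_equiv e.toLinearEquiv) p
      rw [Module.rankAtStalk_tensorProduct, Module.rankAtStalk_tensorProduct, Pi.mul_apply, Pi.mul_apply,
        hEnd, hEnd, ← hdeg] at h1
      exact Nat.mul_self_inj.1 (Nat.eq_of_mul_eq_mul_left (hpos p) h1)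
    obtain ⟨θ⟩ := Groth.LG.nonempty_equiv (M := P) (N := Q) hR fun m _ => hrk _
    haveI : IsAzumaya R (Module.End R P) := Groth.Agent.S19589.result R P
    exact Groth.Agent.S16608.result hR A B (Module.End R P)
      (e.trans (Algebra.TensorProduct.congr AlgEquiv.refl (LinearEquiv.conjAlgEquiv R θ).symm))

end Groth.Agent.S16609
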