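import Groth.Statements.S1661
import Groth.Agent.KoszulLCI.LocallyRegular

set_option autoImplicit false
universe u
open CategoryTheory CategoryTheory.Limits AlgebraicGeometry
open Divisors

namespace Groth.Agent.S1661

/-- If i : Z → Y and j : Y → X are regular closed immersions then so is their composite Z → X. This is
the closed-immersion case of the published statement. -/
theorem result {Z Y X : Scheme.{u}} (i : Z ⟶ Y) (j : Y ⟶ X)
    (hi : Mor2.IsRegularClosedImmersion i) (hj : Mor2.IsRegularClosedImmersion j) : Mor2.IsRegularClosedImmersion (i ≫ j) := by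
  have := hi.1
  have := hj.1
  exact (Groth.KoszulLCI.mor2_iff_regImm (i ≫ j)).mpr ⟨inferInstance, fun z =>
    Groth.KoszulLCI.isRegularImmersionAt_regular_comp i j z
      (((Groth.KoszulLCI.mor2_iff_regImm i).mp hi).2 z) (((Groth.KoszulLCI.mor2_iff_regImm j).mp hj).2 _)⟩

end Groth.Agent.S1661
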