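import Groth.Statements.S16611
import Groth.Agent.Reductive.TorusMT
-- import your own Groth.Agent.* helpers here

set_option autoImplicit false
open CategoryTheory MonoidalCategory CartesianMonoidalCategory MonObj GrpObj AlgebraicGeometry
universe u
open SGA3x

namespace Groth.Agent.S16611

/-- Over an arbitrary scheme S, a monomorphism f : T ⟶ T' of S-tori with the same rank function (at
every point of S the geometric fibres of T and T' are split tori of the same rank) is an
isomorphism. -/
theorem result {S : Scheme.{u}} {T T' : Over S} [GrpObj T] [GrpObj T']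
    (hT : Red.IsTorus T) (hT' : Red.IsTorus T') (f : T ⟶ T') [IsMonHom f] [Mono f]
    (hrk : ∀ s : ↥S, ∃ r : ℕ, Red.IsSplitTorusWith (Fin r → ℤ) (Red.geomFibre s T) ∧
      Red.IsSplitTorusWith (Fin r → ℤ) (Red.geomFibre s T')) : IsIso f := by
  have hiso : ∀ {T : Over S} [GrpObj T], Red.IsTorus T → SGA3x.IsMultTypeFT T :=
    fun h ↦ Groth.Reductive.FreeDiag.isMultTypeFT_of_isTorus h
  refine Groth.Reductive.FreeDiag.isIso_of_fibres (hiso hT) (hiso hT') f fun s ↦ ?_
  obtain ⟨r, ⟨e⟩, ⟨e'⟩⟩ := hrk s
  haveI : Mono ((Over.pullback (Red.geomPt s)).map f) := inferInstance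
  exact Groth.Reductive.FreeDiag.isIso_of_mono_of_split e e' _

end Groth.Agent.S16611
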