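import Groth.Statements.S16612
import Groth.Agent.Hopf.Cochar.Lattice
-- import your own Groth.Agent.* helpers here

set_option autoImplicit false
open CategoryTheory MonoidalCategory CartesianMonoidalCategory MonObj GrpObj AlgebraicGeometry
universe u
open SGA3x

namespace Groth.Agent.S16612

/-- Let S be a connected scheme and G an S-group of finite multiplicative type. Then G admits a unique
maximal split subtorus; equivalently, since split subtori form a directed family, a greatest one: a
monomorphism T ⟶ G from a split torus T ≅ D_S(ℤ^r) through which every split subtorus T' ⟶ G of G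
factors. -/
theorem result {S : Scheme.{u}} [ConnectedSpace ↥S]
    {G : Over S} [GrpObj G] (hG : SGA3x.IsMultTypeFT G) :
    ∃ (T : Over S) (_ : GrpObj T) (j : T ⟶ G) (r : ℕ), IsMonHom j ∧ Mono j ∧ Red.IsSplitTorusWith (Fin r → ℤ) T ∧
      ∀ (T' : Over S) [GrpObj T'] (j' : T' ⟶ G) [IsMonHom j'] [Mono j'] (r' : ℕ),
        Red.IsSplitTorusWith (Fin r' → ℤ) T' → ∃ g : T' ⟶ T, g ≫ j = j' := by
  obtain ⟨r, Φ, _, hm, -, hfac⟩ := Groth.Cochar.exists_max hG
  refine ⟨_, inferInstance, Φ, r, inferInstance, hm, Groth.Cochar.isSplitTorusWith_DS _, ?_⟩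
  intro T' _ j' _ _ r' hT'
  obtain ⟨i, _, _⟩ := Groth.Cochar.exists_iso_of_split hT'
  obtain ⟨g, _, hg⟩ := hfac r' (i.inv ≫ j')
  exact ⟨i.hom ≫ g, by rw [Category.assoc, hg, Iso.hom_inv_id_assoc]⟩

end Groth.Agent.S16612
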