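import Groth.Statements.S16615
import Groth.Agent.Hopf.Cochar.QuotSplit
-- import your own Groth.Agent.* helpers here

set_option autoImplicit false
open CategoryTheory MonoidalCategory CartesianMonoidalCategory MonObj GrpObj AlgebraicGeometry
universe u
open SGA3x

namespace Groth.Agent.S16615

/-- Over an arbitrary scheme S, the quotient Q = T/H of an S-torus T by a subgroup scheme H of (finite)
multiplicative type, when represented by an S-group Q with a homomorphism q : T ⟶ Q which is an fppf
covering identifying T ×_S H with T ×_Q T, is again a torus. -/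
theorem result {S : Scheme.{u}} {T H Q : Over S} [GrpObj T] [GrpObj H]
    [GrpObj Q] (hT : Red.IsTorus T) (i : H ⟶ T) [IsMonHom i] [Mono i] (hH : SGA3x.IsMultTypeFT H)
    (q : T ⟶ Q) [IsMonHom q] (hq : RedSub.IsQuotient i q) : Red.IsTorus Q := by
  obtain ⟨S', f, hfl, hsurj, hqc, hloc⟩ := hT
  haveI : IsMonHom ((Over.pullback f).map i) := Groth.Abvar.isMonHom_map i
  haveI : IsMonHom ((Over.pullback f).map q) := Groth.Abvar.isMonHom_map q
  refine ⟨S', f, hfl, hsurj, hqc, fun s' => ?_⟩
  obtain ⟨U, hsU, r, hr⟩ := Groth.Cochar.locallySplit_quotient ((Over.pullback f).map i)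
    ((Over.pullback f).map q) (Groth.Reductive.FreeDiag.isMultTypeFT_bc hH f)
    (fun x => by
      obtain ⟨V, hx, r, hr⟩ := hloc x
      exact ⟨V, hx, r, (Groth.Cochar.split_bc_comp V.ι f T _).mpr hr⟩)
    (Groth.Cochar.isCover_map q (Groth.Reductive.isCover_of_isQuotient hq) f)
    (Groth.Cochar.ker_bc i q (Groth.Cochar.ker_of_isQuotient i q hq) f) s'
  exact ⟨U, hsU, r, (Groth.Cochar.split_bc_comp U.ι f Q _).mp hr⟩

end Groth.Agent.S16615
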