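import Groth.Statements.S16619
import Mathlib
import Groth.Agent.AzMorita.Basic
-- import your own Groth.Agent.* helpers here

set_option autoImplicit false
open scoped TensorProduct
universe u
open Brauer

namespace Groth.Agent.S16619

open scoped TensorProduct
open MulOpposite

section Proj

variable {R : Type u} [CommRing R] [ConnectedSpace (PrimeSpectrum R)]
variable {P : Type u} [AddCommGroup P] [Module R P] [Module.Finite R P] [Module.Projective R P]

private theorem eq_zero_or_one {e : R} (he : IsIdempotentElem e) : e = 0 ∨ e = 1 := by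
  have hclo : IsClopen (PrimeSpectrum.basicOpen e : Set (PrimeSpectrum R)) :=
    PrimeSpectrum.isClopen_iff.2 ⟨e, he, rfl⟩
  rcases isClopen_iff.1 hclo with h | h
  · exact Or.inl (PrimeSpectrum.basicOpen_injOn_isIdempotentElem he IsIdempotentElem.zero
      (SetLike.coe_injective (h.trans (by simp))))
  · exact Or.inr (PrimeSpectrum.basicOpen_injOn_isIdempotentElem he IsIdempotentElem.one
      (SetLike.coe_injective (h.trans (by simp))))

/-- A nonzero finite projective module over a connected ring is faithful, and is not equal to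
its multiple by a proper ideal. -/
private theorem proj_connected [Nontrivial P] :
    (∀ c : R, (∀ x : P, c • x = 0) → c = 0) ∧
      ∀ m : Ideal R, m ≠ ⊤ → (m • ⊤ : Submodule R P) ≠ ⊤ := by
  classical
  obtain ⟨n, ψ, x, hx⟩ := Groth.AzMorita.exists_dualBasis (A := R) P
  let J : Ideal R := Ideal.span (Set.range fun q : Fin n × Fin n => ψ q.1 (x q.2))
  have hJx : ∀ j, x j ∈ J • (⊤ : Submodule R P) := fun j => by
    rw [← hx (x j)]
    exact Submodule.sum_mem _ fun i _ =>
      Submodule.smul_mem_smul (Ideal.subset_span ⟨(i, j), rfl⟩) Submodule.mem_top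
  have hJP : ∀ y : P, y ∈ J • (⊤ : Submodule R P) := fun y => by
    rw [← hx y]
    exact Submodule.sum_mem _ fun i _ => Submodule.smul_mem _ _ (hJx i)
  have hψ : ∀ (I : Ideal R) (y : P), y ∈ I • (⊤ : Submodule R P) → ∀ i, ψ i y ∈ I := by
    intro I y hy i
    have := Submodule.mem_map_of_mem (f := ψ i) hy
    rw [Submodule.map_smul''] at this
    exact Ideal.mul_le_left (J := Submodule.map (ψ i) ⊤) (by simpa [smul_eq_mul] using this)
  have hidem : IsIdempotentElem J := by
    refine le_antisymm Ideal.mul_le_right (Ideal.span_le.2 ?_)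
    rintro _ ⟨⟨i, j⟩, rfl⟩
    have := Submodule.mem_map_of_mem (f := ψ i) (hJx j)
    rw [Submodule.map_smul''] at this
    have hle : Submodule.map (ψ i) ⊤ ≤ J := by
      rintro _ ⟨y, -, rfl⟩
      exact hψ J y (hJP y) i
    exact (Submodule.smul_mono le_rfl hle) this
  obtain ⟨ε, hε, hJε⟩ :=
    (J.isIdempotentElem_iff_of_fg (Submodule.fg_span (Set.finite_range _))).1 hidem
  rcases eq_zero_or_one hε with rfl | rfl
  · exfalso
    obtain ⟨y, hy⟩ := exists_ne (0 : P)
    have := hJP y
    rw [hJε] at this
    exact hy (by simpa using this)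
  have hJtop : J = ⊤ := by rw [hJε]; simp
  refine ⟨fun c hc => ?_, fun m hm htop => hm ?_⟩
  · have : ∀ a ∈ J, c * a = 0 := by
      intro a ha
      induction ha using Submodule.span_induction with
      | mem a ha =>
        obtain ⟨q, rfl⟩ := ha
        show c * ψ q.1 (x q.2) = 0
        rw [← smul_eq_mul, ← map_smul, hc, map_zero]
      | zero => simp
      | add a b _ _ ha hb => rw [mul_add, ha, hb, add_zero]
      | smul r a _ ha => rw [smul_eq_mul, mul_left_comm, ha, mul_zero]
    simpa using this 1 (hJtop ▸ Submodule.mem_top)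
  · rw [eq_top_iff, ← hJtop, Ideal.span_le]
    rintro _ ⟨q, rfl⟩
    exact hψ m _ (by rw [htop]; exact Submodule.mem_top) q.1

end Proj

section Corner

variable (R : Type u) [CommRing R] {A : Type u} [Ring A] [Algebra R A] {e : A}
variable (he : IsIdempotentElem e)

include he in
private theorem cmem (x : A) : e * x * e ∈ Subsemigroup.corner e := ⟨x, rfl⟩

omit [Algebra R A] in
private theorem left_eq (x : he.Corner) : e * x.1 = x.1 :=
  ((Subsemigroup.mem_corner_iff he).mp x.2).1

omit [Algebra R A] in
private theorem right_eq (x : he.Corner) : x.1 * e = x.1 :=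
  ((Subsemigroup.mem_corner_iff he).mp x.2).2

/-- scalars in the corner -/
private def scal : R →+* he.Corner where
  toFun c := ⟨c • e, c • e, by simp [he.eq]⟩
  map_one' := Subtype.ext (one_smul _ _)
  map_mul' a b := Subtype.ext (by
    show (a * b) • e = (a • e) * (b • e)
    rw [smul_mul_smul_comm, he.eq])
  map_zero' := Subtype.ext (zero_smul _ _)
  map_add' a b := Subtype.ext (add_smul _ _ _)

private instance cornerAlgebra : Algebra R he.Corner :=
  (scal R he).toAlgebra' fun c x => Subtype.ext (by
    show (c • e) * x.1 = x.1 * (c • e)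
    rw [smul_mul_assoc, mul_smul_comm, left_eq, right_eq])

private theorem val_smul (c : R) (x : he.Corner) : (c • x).1 = c • x.1 := by
  show (c • e) * x.1 = _
  rw [smul_mul_assoc, left_eq]

/-- inclusion of the corner -/
private def ιC : he.Corner →ₗ[R] A where
  toFun x := x.1
  map_add' _ _ := rfl
  map_smul' c x := val_smul R he c x

/-- projection to the corner -/
private def rC : A →ₗ[R] he.Corner where
  toFun x := ⟨e * x * e, cmem he x⟩
  map_add' x y := Subtype.ext (by
    show e * (x + y) * e = e * x * e + e * y * e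
    rw [mul_add, add_mul])
  map_smul' c x := Subtype.ext (by
    show e * (c • x) * e = _
    rw [mul_smul_comm, smul_mul_assoc]
    exact (val_smul R he c (⟨_, cmem he x⟩ : he.Corner)).symm)

private theorem rC_ιC (x : he.Corner) : rC R he (ιC R he x) = x := Subtype.ext (by
  show e * x.1 * e = x.1
  rw [left_eq, right_eq])

private def ιO : he.Cornerᵐᵒᵖ →ₗ[R] Aᵐᵒᵖ :=
  (opLinearEquiv R).toLinearMap ∘ₗ ιC R he ∘ₗ (opLinearEquiv R).symm.toLinearMap

private def rO : Aᵐᵒᵖ →ₗ[R] he.Cornerᵐᵒᵖ :=
  (opLinearEquiv R).toLinearMap ∘ₗ rC R he ∘ₗ (opLinearEquiv R).symm.toLinearMap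

private theorem rO_ιO : rO R he ∘ₗ ιO R he = LinearMap.id :=
  LinearMap.ext fun x => congrArg MulOpposite.op (rC_ιC R he x.unop)

private theorem finite_projective [Module.Finite R A] [Module.Projective R A] :
    Module.Finite R he.Corner ∧ Module.Projective R he.Corner :=
  ⟨Module.Finite.of_surjective (rC R he) fun x => ⟨x.1, rC_ιC R he x⟩,
    Module.Projective.of_split (ιC R he) (rC R he) (LinearMap.ext (rC_ιC R he))⟩

private theorem bij_corner [IsAzumaya R A] :
    Function.Bijective (AlgHom.mulLeftRight R he.Corner) := by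
  have h1 : ∀ (z : he.Corner ⊗[R] he.Cornerᵐᵒᵖ) (y : A),
      AlgHom.mulLeftRight R A (TensorProduct.map (ιC R he) (ιO R he) z) y =
        ιC R he (AlgHom.mulLeftRight R he.Corner z (rC R he y)) := by
    intro z y
    induction z using TensorProduct.induction_on with
    | zero => simp
    | add p q hp hq => simp only [map_add, LinearMap.add_apply, hp, hq]
    | tmul a c =>
      rw [TensorProduct.map_tmul, AlgHom.mulLeftRight_apply, AlgHom.mulLeftRight_apply]
      show a.1 * y * c.unop.1 = a.1 * (e * y * e) * c.unop.1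
      simp only [← mul_assoc, right_eq]
      rw [mul_assoc _ e, left_eq]
  have h2 : ∀ (w : A ⊗[R] Aᵐᵒᵖ) (x : he.Corner),
      AlgHom.mulLeftRight R he.Corner (TensorProduct.map (rC R he) (rO R he) w) x =
        rC R he (AlgHom.mulLeftRight R A w (ιC R he x)) := by
    intro w x
    induction w using TensorProduct.induction_on with
    | zero => simp
    | add p q hp hq => simp only [map_add, LinearMap.add_apply, hp, hq]
    | tmul a c =>
      rw [TensorProduct.map_tmul, AlgHom.mulLeftRight_apply, AlgHom.mulLeftRight_apply]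
      refine Subtype.ext ?_
      show e * a * e * x.1 * (e * c.unop * e) = e * (a * x.1 * c.unop) * e
      simp only [← mul_assoc]
      rw [mul_assoc _ e x.1, left_eq, mul_assoc _ x.1 e, right_eq]
  refine ⟨(injective_iff_map_eq_zero _).2 fun z hz => ?_, fun f => ?_⟩
  · have h0 : TensorProduct.map (ιC R he) (ιO R he) z = 0 := by
      apply (IsAzumaya.bij (R := R) (A := A)).1
      rw [map_zero]
      ext y
      rw [h1, hz]
      simp
    have := congrArg (TensorProduct.map (rC R he) (rO R he)) h0
    rwa [map_zero, ← LinearMap.comp_apply, ← TensorProduct.map_comp, rO_ιO,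
      show rC R he ∘ₗ ιC R he = LinearMap.id from LinearMap.ext (rC_ιC R he),
      TensorProduct.map_id, LinearMap.id_apply] at this
  · obtain ⟨w, hw⟩ := (IsAzumaya.bij (R := R) (A := A)).2 (ιC R he ∘ₗ f ∘ₗ rC R he)
    refine ⟨TensorProduct.map (rC R he) (rO R he) w, LinearMap.ext fun x => ?_⟩
    rw [h2, hw, LinearMap.comp_apply, LinearMap.comp_apply, rC_ιC, rC_ιC]

/-- the left ideal `A e` -/
private def Q (e : A) : Submodule R A := LinearMap.range (LinearMap.mulRight R e)

include he in
private theorem Q_eq (x : Q R e) : x.1 * e = x.1 := by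
  obtain ⟨y, hy⟩ := x.2
  rw [← hy, LinearMap.mulRight_apply, mul_assoc, he.eq]

private def qMap : A →ₗ[R] Q R e := (LinearMap.mulRight R e).rangeRestrict

include he in
private theorem qMap_val (x : Q R e) : qMap R x.1 = x := Subtype.ext (Q_eq R he x)

private def lAct : A →ₐ[R] Module.End R (Q R e) :=
  AlgHom.ofLinearMap
    { toFun := fun a => (LinearMap.mulLeft R a).restrict (p := Q R e) (q := Q R e) (by
        rintro _ ⟨y, rfl⟩
        exact ⟨a * y, by simp [mul_assoc]⟩)
      map_add' := fun a b => LinearMap.ext fun x => Subtype.ext (add_mul a b x.1)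
      map_smul' := fun c a => LinearMap.ext fun x => Subtype.ext (smul_mul_assoc c a x.1) }
    (LinearMap.ext fun x => Subtype.ext (one_mul x.1))
    (fun a b => LinearMap.ext fun x => Subtype.ext (mul_assoc a b x.1))

private def rAct : he.Cornerᵐᵒᵖ →ₐ[R] Module.End R (Q R e) :=
  AlgHom.ofLinearMap
    { toFun := fun c => (LinearMap.mulRight R c.unop.1).restrict (p := Q R e) (q := Q R e) (fun y _ =>
        ⟨y * c.unop.1, by simp [mul_assoc, right_eq]⟩)
      map_add' := fun a b => LinearMap.ext fun x => Subtype.ext (mul_add x.1 a.unop.1 b.unop.1)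
      map_smul' := fun c a => LinearMap.ext fun x => Subtype.ext (by
        show x.1 * (c • a.unop).1 = c • (x.1 * a.unop.1)
        rw [val_smul, mul_smul_comm]) }
    (LinearMap.ext fun x => Subtype.ext (Q_eq R he x))
    (fun a b => LinearMap.ext fun x => Subtype.ext (mul_assoc x.1 b.unop.1 a.unop.1).symm)

private def bimod : A ⊗[R] he.Cornerᵐᵒᵖ →ₐ[R] Module.End R (Q R e) :=
  Algebra.TensorProduct.lift (lAct R) (rAct R he) fun a c =>
    LinearMap.ext fun x => Subtype.ext (mul_assoc a x.1 c.unop.1).symm

private theorem bimod_tmul (a : A) (c : he.Cornerᵐᵒᵖ) (x : Q R e) :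
    (bimod R he (a ⊗ₜ c) x).1 = a * x.1 * c.unop.1 := by
  have h : bimod R he (a ⊗ₜ c) = lAct R a * rAct R he c :=
    Algebra.TensorProduct.lift_tmul _ _ _ a c
  rw [h]
  exact (mul_assoc a x.1 c.unop.1).symm

private theorem bij_bimod [IsAzumaya R A] : Function.Bijective (bimod R he) := by
  have h1 : ∀ (z : A ⊗[R] he.Cornerᵐᵒᵖ) (y : A),
      AlgHom.mulLeftRight R A (TensorProduct.map LinearMap.id (ιO R he) z) y =
        (bimod R he z (qMap R y)).1 := by
    intro z y
    induction z using TensorProduct.induction_on with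
    | zero => simp
    | add p q hp hq => simp only [map_add, LinearMap.add_apply, hp, hq, Submodule.coe_add]
    | tmul a c =>
      rw [TensorProduct.map_tmul, AlgHom.mulLeftRight_apply, bimod_tmul]
      show a * y * c.unop.1 = a * (y * e) * c.unop.1
      simp only [mul_assoc, left_eq]
  have h2 : ∀ (w : A ⊗[R] Aᵐᵒᵖ) (x : Q R e),
      bimod R he (TensorProduct.map LinearMap.id (rO R he) w) x =
        qMap R (AlgHom.mulLeftRight R A w x.1) := by
    intro w x
    induction w using TensorProduct.induction_on with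
    | zero => simp
    | add p q hp hq => simp only [map_add, LinearMap.add_apply, hp, hq]
    | tmul a c =>
      refine Subtype.ext ?_
      rw [TensorProduct.map_tmul, bimod_tmul, AlgHom.mulLeftRight_apply]
      show a * x.1 * (e * c.unop * e) = a * x.1 * c.unop * e
      simp only [← mul_assoc]
      rw [mul_assoc a x.1 e, Q_eq R he]
  refine ⟨(injective_iff_map_eq_zero _).2 fun z hz => ?_, fun f => ?_⟩
  · have h0 : TensorProduct.map LinearMap.id (ιO R he) z = 0 := by
      apply (IsAzumaya.bij (R := R) (A := A)).1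
      rw [map_zero]
      ext y
      rw [h1, hz]
      simp
    have := congrArg (TensorProduct.map (LinearMap.id (R := R) (M := A)) (rO R he)) h0
    rwa [map_zero, ← LinearMap.comp_apply, ← TensorProduct.map_comp, rO_ιO, LinearMap.comp_id,
      TensorProduct.map_id, LinearMap.id_apply] at this
  · obtain ⟨w, hw⟩ := (IsAzumaya.bij (R := R) (A := A)).2 ((Q R e).subtype ∘ₗ f ∘ₗ qMap R)
    refine ⟨TensorProduct.map LinearMap.id (rO R he) w, LinearMap.ext fun x => ?_⟩
    rw [h2, hw, LinearMap.comp_apply, LinearMap.comp_apply, qMap_val R he, Submodule.subtype_apply,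
      qMap_val R he]

end Corner


/-- Let R be a connected commutative ring. Then every class of the Brauer group of R is represented by
an Azumaya algebra B with idemp(B) = {0, 1}: for every Azumaya R-algebra A there are such a B and
faithfully projective R-modules P, Q with A ⊗_R End_R(P) ≅ B ⊗_R End_R(Q) as R-algebras. -/
theorem result {R : Type u} [CommRing R]
    [ConnectedSpace (PrimeSpectrum R)] (A : Type u) [Ring A] [Algebra R A] [IsAzumaya R A] :
    ∃ (B : Type u) (_ : Ring B) (_ : Algebra R B) (_ : IsAzumaya R B) (P Q : Type u) (_ : AddCommGroup P)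
      (_ : Module R P) (_ : AddCommGroup Q) (_ : Module R Q),
      (∀ b : B, IsIdempotentElem b → b = 0 ∨ b = 1) ∧ Module.Finite R P ∧ Module.Projective R P ∧
      FaithfulSMul R P ∧ Module.Finite R Q ∧ Module.Projective R Q ∧ FaithfulSMul R Q ∧
      Nonempty (A ⊗[R] Module.End R P ≃ₐ[R] B ⊗[R] Module.End R Q) := by
  classical
  haveI : Nontrivial R := by
    obtain ⟨p⟩ := (inferInstance : Nonempty (PrimeSpectrum R))
    exact nontrivial_iff.2 ⟨0, 1, fun h => p.2.ne_top ((Ideal.eq_top_iff_one _).2 (h ▸ p.asIdeal.zero_mem))⟩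
  obtain ⟨m, hm⟩ := Ideal.exists_maximal R
  letI : Field (R ⧸ m) := Ideal.Quotient.field m
  let V := A ⧸ m • (⊤ : Submodule R A)
  haveI : IsScalarTower R (R ⧸ m) V := IsScalarTower.of_algebraMap_smul fun _ _ => rfl
  haveI : Module.Finite (R ⧸ m) V := Module.Finite.of_restrictScalars_finite R _ _
  let mk : A →ₗ[R] V := (m • (⊤ : Submodule R A)).mkQ
  let N : A → Submodule R A := fun e => LinearMap.range (LinearMap.mulLeftRight R (e, e))
  let S : A → Submodule (R ⧸ m) V := fun e => Submodule.span (R ⧸ m) (mk '' (N e : Set A))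
  let d : A → ℕ := fun e => Module.finrank (R ⧸ m) (S e)
  have hone : (1 : A) ≠ 0 := fun h => one_ne_zero (α := R)
    (FaithfulSMul.eq_of_smul_eq_smul (α := A) fun a => by
      rw [show a = 0 by rw [← mul_one a, h, mul_zero]]; simp)
  -- a strictly smaller idempotent has a strictly smaller corner
  have hlt : ∀ e f : A, IsIdempotentElem e → IsIdempotentElem f → e * f = f → f * e = f → f ≠ e →
      d f < d e := by
    intro e f he hf hef hfe hne
    refine Submodule.finrank_lt_finrank_of_lt (lt_of_le_of_ne ?_ fun hS => ?_)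
    · refine Submodule.span_mono (Set.image_mono ?_)
      rintro _ ⟨x, rfl⟩
      refine ⟨f * x * f, ?_⟩
      simp only [LinearMap.mulLeftRight_apply]
      rw [← mul_assoc, ← mul_assoc, hef, mul_assoc _ f e, hfe]
    have hmem : mk (e - f) ∈ S e := by
      refine Submodule.subset_span ⟨e - f, ⟨e - f, ?_⟩, rfl⟩
      simp only [LinearMap.mulLeftRight_apply, mul_sub, sub_mul, he.eq, hef, hfe]
    rw [← hS] at hmem
    obtain ⟨y, hy, hyv⟩ : mk (e - f) ∈ Submodule.map mk (N f) := by
      refine Submodule.span_induction (p := fun v _ => v ∈ Submodule.map mk (N f)) ?_ ?_ ?_ ?_ hmem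
      · rintro _ ⟨x, hx, rfl⟩; exact Submodule.mem_map_of_mem hx
      · exact zero_mem _
      · exact fun x y _ _ hx hy => add_mem hx hy
      · intro c x _ hx
        obtain ⟨c, rfl⟩ := Ideal.Quotient.mk_surjective c
        exact Submodule.smul_mem _ c hx
    set g := e - f with hg
    have hgg : g * g = g := by simp [hg, mul_sub, sub_mul, he.eq, hef, hfe, hf.eq]
    have hgf : g * f = 0 := by simp [hg, sub_mul, hef, hf.eq]
    have hgy : g * y = 0 := by
      obtain ⟨x, rfl⟩ := hy
      simp only [LinearMap.mulLeftRight_apply, ← mul_assoc, hgf, zero_mul]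
    have ht : g - y ∈ m • (⊤ : Submodule R A) := (Submodule.Quotient.eq _).1 hyv.symm
    haveI := Submodule.nontrivial_iff_ne_bot.2 (fun hbot : N g = ⊥ => hne (by
      have : g ∈ (⊥ : Submodule R A) := hbot ▸ ⟨g, by simp [LinearMap.mulLeftRight_apply, hgg]⟩
      exact (sub_eq_zero.1 ((Submodule.mem_bot R).1 this)).symm))
    let r : A →ₗ[R] N g := (LinearMap.mulLeftRight R (g, g)).rangeRestrict
    have hr : ∀ x : N g, r x.1 = x := by
      rintro ⟨_, x, rfl⟩
      refine Subtype.ext ?_
      simp only [r, LinearMap.rangeRestrict, LinearMap.codRestrict_apply,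
        LinearMap.mulLeftRight_apply, ← mul_assoc, hgg]
      rw [mul_assoc _ g g, hgg]
    haveI : Module.Finite R (N g) := Module.Finite.of_surjective r fun x => ⟨x.1, hr x⟩
    haveI : Module.Projective R (N g) :=
      Module.Projective.of_split (N g).subtype r (LinearMap.ext hr)
    refine (proj_connected (R := R) (P := N g)).2 m hm.ne_top (eq_top_iff.2 fun x _ => ?_)
    have key : r ((g - y) * x.1) = x := by
      have hx := hr x
      obtain ⟨_, z, rfl⟩ := x
      refine Eq.trans (Subtype.ext ?_) hx
      simp only [r, LinearMap.rangeRestrict, LinearMap.codRestrict_apply,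
        LinearMap.mulLeftRight_apply, ← mul_assoc]
      have hgz : g * (g - y) = g := by rw [mul_sub g g y, hgg, hgy, sub_zero]
      rw [hgz, hgg]
    have h1 : (g - y) * x.1 ∈ m • (⊤ : Submodule R A) := by
      have h2 := Submodule.mem_map_of_mem (f := LinearMap.mulRight R x.1) ht
      rw [Submodule.map_smul''] at h2
      exact Submodule.smul_mono le_rfl le_top h2
    have h3 := Submodule.mem_map_of_mem (f := r) h1
    rw [Submodule.map_smul'', key] at h3
    exact Submodule.smul_mono le_rfl le_top h3
  obtain ⟨n, ⟨e, he, hne, hde⟩, hmin⟩ :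
      ∃ n, (∃ e : A, IsIdempotentElem e ∧ e ≠ 0 ∧ d e = n) ∧
        ∀ e : A, IsIdempotentElem e → e ≠ 0 → n ≤ d e :=
    have hex : ∃ n, ∃ e : A, IsIdempotentElem e ∧ e ≠ 0 ∧ d e = n := ⟨d 1, 1, .one, hone, rfl⟩
    ⟨Nat.find hex, Nat.find_spec hex, fun e he hne => Nat.find_min' hex ⟨e, he, hne, rfl⟩⟩
  obtain ⟨hfin, hproj⟩ := finite_projective R he
  haveI := hfin
  haveI := hproj
  haveI : Nontrivial he.Corner :=
    nontrivial_of_ne ⟨e, e, by simp [he.eq]⟩ 0 fun h => hne (congrArg Subtype.val h)
  haveI hfB : FaithfulSMul R he.Corner := ⟨fun {a b} h => sub_eq_zero.1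
    ((proj_connected (R := R) (P := he.Corner)).1 _ fun x => by rw [sub_smul, h x, sub_self])⟩
  haveI hBaz : IsAzumaya R he.Corner := { bij := bij_corner R he }
  haveI : Module.Finite R (Q R e) := Module.Finite.of_surjective _
    (LinearMap.surjective_rangeRestrict (LinearMap.mulRight R e))
  haveI : Module.Projective R (Q R e) :=
    Module.Projective.of_split (Q R e).subtype (qMap R) (LinearMap.ext (qMap_val R he))
  haveI : Nontrivial (Q R e) :=
    nontrivial_of_ne ⟨e, e, by simp [he.eq]⟩ 0 fun h => hne (congrArg Subtype.val h)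
  haveI hfQ : FaithfulSMul R (Q R e) := ⟨fun {a b} h => sub_eq_zero.1
    ((proj_connected (R := R) (P := Q R e)).1 _ fun x => by rw [sub_smul, h x, sub_self])⟩
  refine ⟨he.Corner, inferInstance, inferInstance, hBaz, he.Corner, Q R e, inferInstance,
    inferInstance, inferInstance, inferInstance, fun b hb => ?_, inferInstance, inferInstance, hfB,
    inferInstance, inferInstance, hfQ, ⟨?_⟩⟩
  · by_contra hcon
    push Not at hcon
    obtain ⟨hb0, hb1⟩ := hcon
    have hb' : IsIdempotentElem b.1 := congrArg Subtype.val hb.eq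
    have := hlt e b.1 he hb' (left_eq he b) (right_eq he b) fun h => hb1 (Subtype.ext h)
    have := hmin b.1 hb' fun h => hb0 (Subtype.ext h)
    omega
  · let φB := AlgEquiv.ofBijective (AlgHom.mulLeftRight R he.Corner) (IsAzumaya.bij)
    let φQ := AlgEquiv.ofBijective (bimod R he) (bij_bimod R he)
    exact (Algebra.TensorProduct.congr AlgEquiv.refl
        (φB.symm.trans (Algebra.TensorProduct.comm R he.Corner he.Cornerᵐᵒᵖ))).trans
      ((Algebra.TensorProduct.assoc R R R A he.Cornerᵐᵒᵖ he.Corner).symm.trans
        ((Algebra.TensorProduct.congr φQ AlgEquiv.refl).trans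
          (Algebra.TensorProduct.comm R (Module.End R (Q R e)) he.Corner)))

end Groth.Agent.S16619
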