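import Groth.Statements.S16621
import Groth.Agent.Hopf.Cochar.Normal
-- import your own Groth.Agent.* helpers here

set_option autoImplicit false
open CategoryTheory MonoidalCategory CartesianMonoidalCategory MonObj GrpObj AlgebraicGeometry
universe u
open SGA3x

namespace Groth.Agent.S16621

/-- Let S be a connected, normal, locally Noetherian scheme, T an S-torus and T₀ ⟶ T its unique maximal
split subtorus (a split subtorus through which every split subtorus of T factors). Then T₀ is also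
the unique maximal locally split subtorus of T: every subtorus T₁ ⟶ T which is split Zariski-locally
on S factors through T₀. (Without normality this fails.) -/
theorem result {S : Scheme.{u}} [ConnectedSpace ↥S]
    [IsLocallyNoetherian S] (hnorm : ∀ x : ↥S, IsDomain (S.presheaf.stalk x) ∧ IsIntegrallyClosed (S.presheaf.stalk x))
    {T T₀ T₁ : Over S} [GrpObj T] [GrpObj T₀] [GrpObj T₁] (hT : Red.IsTorus T) (j₀ : T₀ ⟶ T) [IsMonHom j₀] [Mono j₀]
    (r₀ : ℕ) (hT₀ : Red.IsSplitTorusWith (Fin r₀ → ℤ) T₀)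
    (hmax : ∀ (T' : Over S) [GrpObj T'] (j' : T' ⟶ T) [IsMonHom j'] [Mono j'] (r' : ℕ),
      Red.IsSplitTorusWith (Fin r' → ℤ) T' → ∃ g : T' ⟶ T₀, g ≫ j₀ = j')
    (j₁ : T₁ ⟶ T) [IsMonHom j₁] [Mono j₁]
    (hT₁ : ∀ s : ↥S, ∃ U : S.Opens, s ∈ U ∧ ∃ r : ℕ, Red.IsSplitTorusWith (Fin r → ℤ) (Red.bc U.ι T₁)) :
    ∃ g : T₁ ⟶ T₀, g ≫ j₀ = j₁ := by
  refine Groth.Cochar.exists_factor_of_cover j₀ j₁ fun s => ?_
  obtain ⟨U, hsU, r, hU⟩ := hT₁ s
  exact ⟨U, hsU, Groth.Cochar.exists_factor_open hnorm hT j₀ hmax U (Red.bc U.ι T₁) ((Over.pullback U.ι).map j₁) hU⟩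

end Groth.Agent.S16621
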