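import Groth.Statements.S16624
import Groth.Agent.Quot.QuotScheme
import Groth.Agent.FlatStrata.Model

set_option autoImplicit false
universe u
open FGA

namespace Groth.Agent.S16624

open AlgebraicGeometry CategoryTheory in
/-- Let S be a Noetherian scheme, n and r natural numbers, l an integer, and E the module O^r ⊗ O(-l) on
projective n-space P^n_S over S. The Quot functor of E over S — sending a locally Noetherian
S-scheme T to the set of submodules K of E_T (the pullback of E to P^n_S ×_S T) whose quotient E_T/K
is coherent and flat over T, with pullback of submodules as transition maps — is represented by an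
S-scheme Q with a universal submodule, and Q is a disjoint union of S-schemes each admitting a
closed immersion over S into some projective space P^m_S. (The source states this for each fixed
Hilbert polynomial; the indexing of the pieces by Hilbert polynomials is not recorded here.) -/
theorem result (S : Scheme.{u}) [IsNoetherian S]
    (n r : ℕ) (l : ℤ) :
    ∃ (Q : Over S) (K : FGA.QuotSet (CohB1.ProjSpaceOver.toBase n S)
        (CohB1.tensorMod (FlatMod.freeMod (CohB1.ProjSpaceOver n S) r) (Twist.twistOver n S (-l))) Q),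
      FGA.QuotRepresentedBy (CohB1.ProjSpaceOver.toBase n S)
        (CohB1.tensorMod (FlatMod.freeMod (CohB1.ProjSpaceOver n S) r) (Twist.twistOver n S (-l))) Q K ∧
      ∃ (ι : Type u) (P : ι → Scheme.{u}) (e : (∐ P) ≅ Q.left) (m : ι → ℕ)
        (c : ∀ a, P a ⟶ CohB1.ProjSpaceOver (m a) S),
        ∀ a, IsClosedImmersion (c a) ∧
          c a ≫ CohB1.ProjSpaceOver.toBase (m a) S = Limits.Sigma.ι P a ≫ e.hom ≫ Q.hom := by
  let E := CohB1.tensorMod (FlatMod.freeMod (CohB1.ProjSpaceOver n S) r) (Twist.twistOver n S (-l))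
  have hinv := Groth.KTheory.RegSheaf.isInvertible_twistOver n S (-l)
  obtain ⟨η⟩ := Groth.FlatStrata.nonempty_freeMod_tensor hinv r
  let ε : Groth.Quot.freeTw n r S (-l) ≅ E :=
    (CategoryTheory.Limits.biproduct.isoCoproduct fun _ : Fin r => Twist.twistOver n S (-l)).symm ≪≫
      η.symm
  have hE : Coh.IsCoh E := by
    have := (Groth.Quot.isCoh_freeTw (S := S) n r (-l)).1
    exact Groth.QCohMod.isCoh_of_iso ε (Groth.Quot.isCoh_freeTw n r (-l))
  have key : ∀ f : CohB1.ProjSpaceOver n S ⟶ S, 𝟙 _ ≫ CohB1.ProjSpaceOver.toBase n S = f →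
      ∃ (Q : Over S) (K : FGA.QuotSet f E Q), FGA.QuotRepresentedBy f E Q K ∧
        ∃ (ι : Type u) (P : ι → Scheme.{u}) (e : (∐ P) ≅ Q.left) (m : ι → ℕ)
          (c : ∀ a, P a ⟶ CohB1.ProjSpaceOver (m a) S),
          ∀ a, IsClosedImmersion (c a) ∧
            c a ≫ CohB1.ProjSpaceOver.toBase (m a) S = Limits.Sigma.ι P a ≫ e.hom ≫ Q.hom := by
    rintro f rfl
    exact Groth.Quot.exists_quotScheme (𝟙 _) hE
      (((Scheme.Modules.pullbackId _).app _).hom ≫ ε.hom)
  exact key _ (Category.id_comp _)

end Groth.Agent.S16624
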