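import Groth.Statements.S16626
import Groth.Agent.Curves1.PolDesc.Curve

set_option autoImplicit false
universe u
open Curves

namespace Groth.Agent.S16626

open AlgebraicGeometry CategoryTheory in
/-- The moduli prestack of smooth curves of genus g ≥ 2 satisfies effective descent along an fpqc
morphism. Let p : S' → S be an fpqc covering morphism of schemes and C' → S' a smooth proper
morphism of schemes whose fibre over every point s' is a curve (Krull dimension one) with h^0 of its
structure sheaf equal to 1 and h^1 equal to g, dimensions over κ(s'), where g ≥ 2; equivalently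
every geometric fibre is a connected smooth projective curve of genus g. Then every descent datum on
C' → S' relative to p (gluing bijections on points over S' ×_S S' with the cocycle condition) is
effective: it is isomorphic to the canonical descent datum of a scheme over S. -/
theorem result {S' S : Scheme.{u}} (p : S' ⟶ S)
    (hp : Presieve.singleton p ∈ Scheme.fpqcPrecoverage S) (D : Desc.SchDD p)
    [Smooth D.obj.hom] [IsProper D.obj.hom] (g : ℕ) (hg : 2 ≤ g)
    (hdim : ∀ s : S', topologicalKrullDim ↥(D.obj.hom.fiber s) = 1)
    (h0 : ∀ s : S', CohIII.fiberRank D.obj.hom (Coh.structureModule D.obj.left) 0 s = 1)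
    (h1 : ∀ s : S', CohIII.fiberRank D.obj.hom (Coh.structureModule D.obj.left) 1 s = g) :
    ∃ C : Over S, Nonempty ((Desc.toDD p).obj C ≅ D) := by
  haveI : Groth.Pi1Desc.IsCover p :=
    ⟨((Scheme.singleton_mem_precoverage_iff (P := @Flat) p).1 hp.2).2,
      ⟨((Scheme.singleton_mem_precoverage_iff (P := @Flat) p).1 hp.2).1⟩, hp.1⟩
  refine Groth.Curves1.PolDesc.exists_iso_of_two_le D (fun s => ?_) hdim (fun s => ?_)
  · letI : (D.obj.hom.fiber s).Over (Spec (CommRingCat.of (S'.residueField s))) :=
      ⟨D.obj.hom.fiberToSpecResidueField s⟩
    haveI := Groth.PicAux.isIso_pullUnit (D.obj.hom.fiberι s)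
    have hr := (Groth.EulerDeg.hEquiv (S'.residueField s)
      (asIso (Groth.PicAux.pullUnit (D.obj.hom.fiberι s))) 0).finrank_eq
    haveI := Groth.Curves1.PolDesc.isIntegral_fibre D.obj.hom s (hdim s) (hr.symm.trans (h0 s))
    infer_instance
  · rw [h0 s, h1 s]
    omega

end Groth.Agent.S16626
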