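import Groth.Statements.S16628
import Groth.Agent.GrassRep.Plucker

set_option autoImplicit false
universe u
open Grass

namespace Groth.Agent.S16628

open AlgebraicGeometry CategoryTheory in
/-- Let R be a commutative ring and 0 < q < n integers. Suppose the R-scheme X represents the
Grassmannian functor of rank-q locally free quotients of R^n on affine R-schemes: there are
bijections, compatible with base change along R-algebra maps A → B, between the R-morphisms Spec A →
X and the A-submodules of A^n whose quotient is finite projective of constant rank q (Mathlib's
Grassmannian functor). Then X admits a closed immersion over Spec R into projective space of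
dimension C(n, q) - 1 over Spec R. (The source works over the integers and base-changes the Plücker
closed immersion to an arbitrary base; the closed immersion is asserted to exist rather than named
as the Plücker morphism; the universal property is assumed on affine R-schemes only, which
determines X.) -/
theorem result (R : Type u) [CommRing R]
    (n q : ℕ) (hq : 0 < q) (hqn : q < n) (X : Over (Spec (CommRingCat.of R)))
    (e : ∀ A : CommAlgCat.{u} R,
      (Over.mk (Spec.map (CommRingCat.ofHom (algebraMap R A))) ⟶ X) ≃
        (Module.Grassmannian.functor (R := R) (M := Fin n → R) q).obj A)
    (he : ∀ (A B : CommAlgCat.{u} R) (φ : A ⟶ B)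
      (g : Over.mk (Spec.map (CommRingCat.ofHom (algebraMap R A))) ⟶ X)
      (g' : Over.mk (Spec.map (CommRingCat.ofHom (algebraMap R B))) ⟶ X),
      g'.left = Spec.map (CommRingCat.ofHom φ.hom.toRingHom) ≫ g.left →
        e B g' = (Module.Grassmannian.functor (R := R) (M := Fin n → R) q).map φ (e A g)) :
    ∃ c : X.left ⟶ CohB1.ProjSpaceOver (n.choose q - 1) (Spec (CommRingCat.of R)),
      IsClosedImmersion c ∧
        c ≫ CohB1.ProjSpaceOver.toBase (n.choose q - 1) (Spec (CommRingCat.of R)) = X.hom := by
  exact Groth.GrassRep.exists_plucker hqn.le he

end Groth.Agent.S16628
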