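import Groth.Statements.S16629
import Groth.Agent.GrassSub.Plucker

set_option autoImplicit false
universe u
open Grass

namespace Groth.Agent.S16629

open AlgebraicGeometry CategoryTheory CategoryTheory.Limits in
/-- Let S be a Noetherian scheme, V a finite locally free O_S-module of rank n, and 0 < q < n. The
Grassmannian functor Gr(q, V) — sending an S-scheme T to the set of submodules K of V_T (the
pullback of V to S ×_S T) whose quotient V_T/K is finite locally free of rank q, with pullback of
submodules as transition maps — is represented by an S-scheme G carrying a universal such submodule;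
and for every O_S-module L that is a q-th exterior power of V and every projective bundle π : P → S
of L (an invertible quotient O_P(1) of π^*L with the universal property for invertible quotients of
pullbacks of L), there is a closed immersion G → P over S. (In the source the closed immersion is
the Plücker morphism sending a quotient to its top exterior power; here it is only asserted to
exist.) -/
theorem result (S : Scheme.{u}) [IsNoetherian S]
    (n q : ℕ) (hq : 0 < q) (hqn : q < n) (V : S.Modules) (hV : FlatMod.IsFinLocFreeOfRank n V) :
    ∃ (G : Over S) (K : Subobject (FGA.ET (𝟙 S) V G)),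
      FlatMod.IsFinLocFreeOfRank q (cokernel K.arrow) ∧
      (∀ (T : Over S) (K' : Subobject (FGA.ET (𝟙 S) V T)),
        FlatMod.IsFinLocFreeOfRank q (cokernel K'.arrow) → ∃! g : T ⟶ G, FGA.quotPull (𝟙 S) V g K = K') ∧
      (∀ (L : S.Modules), ExtPow.IsExtPow q V L →
        ∀ (P : Scheme.{u}) (π : P ⟶ S) (O1 : P.Modules) (u : (Scheme.Modules.pullback π).obj L ⟶ O1),
          KRR.IsProjBundle π L O1 u →
            ∃ c : G.left ⟶ P, IsClosedImmersion c ∧ c ≫ π = G.hom) := by
  obtain ⟨G, K, hp, hr, huniv⟩ := Groth.GrassSub.exists_universal
    (Groth.KTheory.LocFree.isCoh (Groth.LocFree.isFinLocFree_of_rank hV)) q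
  refine ⟨G, K, hr, huniv, fun L hL P π O1 u hP => ?_⟩
  obtain ⟨Q, w, hQ⟩ := Groth.GrassSub.exists_isGrass_of_universal hr huniv
  exact Groth.GrassSub.exists_plucker (Groth.LocFree.isFinLocFree_of_rank hV) hQ hL hP

end Groth.Agent.S16629
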