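import Groth.Statements.S1663
import Groth.Agent.S1607
import Groth.Agent.CohBase.RelAmpleVanish

set_option autoImplicit false
universe u
open CategoryTheory CategoryTheory.Limits AlgebraicGeometry
open Variety

open TopologicalSpace Groth.CohBase

namespace Groth.Agent.S1663

/-- Let X be a scheme whose local rings are Noetherian of Krull dimension at most one, j : U → X the
inclusion of a retrocompact open (j quasi-compact) and F a quasi-coherent O_U-module. Then R^p j_* F
vanishes for all p > 0. -/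
theorem result (X : Scheme.{u})
    (hX : ∀ x : X, IsNoetherianRing (X.presheaf.stalk x) ∧ ringKrullDim (X.presheaf.stalk x) ≤ 1)
    (U : X.Opens) [QuasiCompact U.ι] [HasInjectiveResolutions (U : Scheme.{u}).Modules]
    (F : (U : Scheme.{u}).Modules) (hF : Coh.IsQCoh F) (p : ℕ) (hp : 0 < p) :
    IsZero ((Coh.Rpush U.ι p).obj F) := by
  classical
  have := hF
  have haff : ∀ W : X.Opens, IsAffineOpen W → IsAffineOpen (U.ι ⁻¹ᵁ W) := by
    intro W hW
    haveI : IsAffine (W : Scheme.{u}) := hW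
    have hc : IsCompact ((W.ι ⁻¹ᵁ U : (W : Scheme.{u}).Opens) : Set (W : Scheme.{u})) := by
      rw [W.ι.isEmbedding.isCompact_iff]
      have e : W.ι '' ((W.ι ⁻¹ᵁ U : (W : Scheme.{u}).Opens) : Set (W : Scheme.{u})) =
          U.ι '' (U.ι ⁻¹' (W : Set X)) := by
        ext z
        exact ⟨fun ⟨a, ha, haz⟩ => ⟨⟨z, haz ▸ ha⟩, show z ∈ W from haz ▸ a.2, rfl⟩,
          fun ⟨a, ha, haz⟩ => ⟨⟨z, haz ▸ ha⟩, show z ∈ U from haz ▸ a.2, rfl⟩⟩
      rw [e]
      exact (QuasiCompact.isCompact_preimage (f := U.ι) _ W.isOpen hW.isCompact).image U.ι.continuous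
    have h := Groth.Agent.S1607.result (W : Scheme.{u}) (fun w =>
      ⟨haveI := (hX w.1).1; isNoetherianRing_of_ringEquiv _ (W.stalkIso w).commRingCatIsoToRingEquiv.symm,
        (ringKrullDim_eq_of_ringEquiv (W.stalkIso w).commRingCatIsoToRingEquiv).trans_le (hX w.1).2⟩)
      (W.ι ⁻¹ᵁ U) hc
    have h2 : IsAffineOpen (W ⊓ U) := by
      have := h.image_of_isOpenImmersion W.ι
      rwa [Scheme.Hom.image_preimage_eq_opensRange_inf, Scheme.Opens.opensRange_ι] at this
    rw [← U.ι.isAffineOpen_iff_of_isOpenImmersion, Scheme.Hom.image_preimage_eq_opensRange_inf,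
      Scheme.Opens.opensRange_ι, inf_comm]
    exact h2
  have := isQCoh_Rpush U.ι p (M := F)
  refine isZero_of_sections_cover _ (fun W : X.affineOpens => W.1) (fun W => W.2)
    (iSup_affineOpens_eq_top X) fun W => ?_
  obtain ⟨e⟩ := exists_Rpush_linEquiv (M := F) (f := U.ι) (p := p) W.2
  haveI : IsAffine ((U.ι ⁻¹ᵁ W.1 : (U : Scheme.{u}).Opens) : Scheme.{u}) := haff W.1 W.2
  have : Subsingleton (Coh.HH (U.ι ⁻¹ᵁ W.1 : (U : Scheme.{u}).Opens)
      (F.restrict (U.ι ⁻¹ᵁ W.1).ι) p) := by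
    obtain ⟨q, rfl⟩ : ∃ q, p = q + 1 := ⟨p - 1, by omega⟩
    exact (subsingleton_H_iff (X := ((U.ι ⁻¹ᵁ W.1 : (U : Scheme.{u}).Opens) : Scheme.{u}).toTopCat) _ _).2
      (hVanish_of_isAffineOpen (F.restrict (U.ι ⁻¹ᵁ W.1).ι) (isAffineOpen_top _) q)
  exact e.injective.subsingleton

end Groth.Agent.S1663
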