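import Groth.Statements.S16644
import Mathlib

set_option autoImplicit false
open QuadZ

namespace Groth.Agent.S16644

/-- For odd n, the discriminant of the universal quadratic form Σ_{i ≤ j} A_{ij} x_i x_j in n variables
(variables A_{ij} indexed by unordered pairs), i.e. the determinant of the symmetric matrix with
diagonal entries 2 A_{ii} and off-diagonal entries A_{ij}, is divisible by 2 in the integral
polynomial ring ℤ[A_{ij}] (so the half-discriminant is an integral polynomial). -/
theorem result (n : ℕ) (hn : Odd n) :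
    (2 : MvPolynomial (Sym2 (Fin n)) ℤ) ∣
      (Matrix.of fun i j : Fin n =>
        if i = j then 2 * MvPolynomial.X (R := ℤ) (σ := Sym2 (Fin n)) (Sym2.mk i j)
        else MvPolynomial.X (R := ℤ) (σ := Sym2 (Fin n)) (Sym2.mk i j)).det := by
  classical
  let M : Matrix (Fin n) (Fin n) (MvPolynomial (Sym2 (Fin n)) ℤ) := Matrix.of fun i j =>
    if i = j then 2 * MvPolynomial.X (Sym2.mk i j) else MvPolynomial.X (Sym2.mk i j)
  let A : Matrix (Fin n) (Fin n) (MvPolynomial (Sym2 (Fin n)) ℤ) := Matrix.of fun i j =>
    if i = j then 0 else if i < j then MvPolynomial.X (Sym2.mk i j) else -MvPolynomial.X (Sym2.mk i j)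
  have hA : A.det = 0 := by
    have h : A.transpose = -A := by
      ext1 i j
      simp only [A, Matrix.transpose_apply, Matrix.neg_apply, Matrix.of_apply]
      rcases lt_trichotomy i j with h | h | h
      · rw [if_neg h.ne', if_neg h.not_gt, if_neg h.ne, if_pos h, Sym2.eq_swap]
      · simp [h]
      · rw [if_neg h.ne, if_pos h, if_neg h.ne', if_neg h.not_gt, neg_neg, Sym2.eq_swap]
    have h2 := congrArg Matrix.det h
    rw [Matrix.det_transpose, Matrix.det_neg, Fintype.card_fin, hn.neg_one_pow, neg_one_mul] at h2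
    exact self_eq_neg.1 h2
  let q := Ideal.Quotient.mk (Ideal.span {(2 : MvPolynomial (Sym2 (Fin n)) ℤ)})
  have h2 : q 2 = 0 := Ideal.Quotient.eq_zero_iff_mem.2 (Ideal.mem_span_singleton_self _)
  have hq : q.mapMatrix M = q.mapMatrix A := by
    ext1 i j
    simp only [RingHom.mapMatrix_apply, Matrix.map_apply, M, A, Matrix.of_apply]
    split_ifs
    · rw [map_mul, h2, zero_mul, map_zero]
    · rfl
    · rw [← sub_eq_zero, ← map_sub, sub_neg_eq_add, ← two_mul, map_mul, h2, zero_mul]
  rw [← Ideal.mem_span_singleton, ← Ideal.Quotient.eq_zero_iff_mem]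
  show q M.det = 0
  rw [RingHom.map_det, hq, ← RingHom.map_det, hA, map_zero]

end Groth.Agent.S16644
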