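import Groth.Statements.S16647
import Groth.Agent.AlgGrp1.Extension
import Groth.Agent.AlgGrp2.Basic
-- import your own Groth.Agent.* helpers here

set_option autoImplicit false
set_option linter.style.haveILetI false
open CategoryTheory MonoidalCategory CartesianMonoidalCategory MonObj GrpObj AlgebraicGeometry
universe u
open GrpSch

namespace Groth.Agent.S16647

/-- In a commutative diagram of short exact sequences of S-group schemes that are flat, separated and of
finite presentation over a scheme S (in each row the first homomorphism is the kernel of the second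
and the second is a flat surjection), if the two outer vertical homomorphisms are closed immersions
then so is the middle one. -/
theorem result {S : Scheme.{u}}
    {H₁' H₁ H₁'' H₂' H₂ H₂'' : Over S} [GrpObj H₁'] [GrpObj H₁] [GrpObj H₁''] [GrpObj H₂'] [GrpObj H₂] [GrpObj H₂'']
    [Flat H₁'.hom] [Flat H₁.hom] [Flat H₁''.hom] [Flat H₂'.hom] [Flat H₂.hom] [Flat H₂''.hom]
    [IsSeparated H₁'.hom] [IsSeparated H₁.hom] [IsSeparated H₁''.hom]
    [IsSeparated H₂'.hom] [IsSeparated H₂.hom] [IsSeparated H₂''.hom]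
    [QuasiCompact H₁'.hom] [QuasiCompact H₁.hom] [QuasiCompact H₁''.hom]
    [QuasiCompact H₂'.hom] [QuasiCompact H₂.hom] [QuasiCompact H₂''.hom]
    [LocallyOfFinitePresentation H₁'.hom] [LocallyOfFinitePresentation H₁.hom] [LocallyOfFinitePresentation H₁''.hom]
    [LocallyOfFinitePresentation H₂'.hom] [LocallyOfFinitePresentation H₂.hom] [LocallyOfFinitePresentation H₂''.hom]
    (a₁ : H₁' ⟶ H₁) (b₁ : H₁ ⟶ H₁'') (a₂ : H₂' ⟶ H₂) (b₂ : H₂ ⟶ H₂'')
    [IsMonHom a₁] [IsMonHom b₁] [IsMonHom a₂] [IsMonHom b₂]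
    (h₁ : AlgGrp.IsKernel a₁ b₁) (hb₁ : Flat b₁.left ∧ Surjective b₁.left)
    (h₂ : AlgGrp.IsKernel a₂ b₂) (hb₂ : Flat b₂.left ∧ Surjective b₂.left)
    (j' : H₁' ⟶ H₂') (j : H₁ ⟶ H₂) (j'' : H₁'' ⟶ H₂'') [IsMonHom j'] [IsMonHom j] [IsMonHom j'']
    (sq₁ : a₁ ≫ j = j' ≫ a₂) (sq₂ : b₁ ≫ j'' = j ≫ b₂)
    (hj' : IsClosedImmersion j'.left) (hj'' : IsClosedImmersion j''.left) :
    IsClosedImmersion j.left := by
  have T₁ := ((Groth.AlgGrp1.IsKernel.isPullback_mul h₁).map (Over.forget S)).flip
  have T₂ := ((Groth.AlgGrp1.IsKernel.isPullback_mul h₂).map (Over.forget S)).flip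
  have J := Groth.AlgGrp2.isPullback_whiskerRight_fst H₂' j
  have hsq : j.left ≫ b₂.left = b₁.left ≫ j''.left := by
    rw [← Over.comp_left, ← Over.comp_left, sq₂]
  have BZ : IsPullback ((j ▷ H₂').left ≫ (fst H₂ H₂' * (snd H₂ H₂' ≫ a₂)).left) (fst H₁ H₂').left
      b₂.left (b₁.left ≫ j''.left) := hsq ▸ J.paste_horiz T₂
  have Zsq := IsPullback.of_hasPullback b₂.left j''.left
  let k : H₁.left ⟶ Limits.pullback b₂.left j''.left := Zsq.lift j.left b₁.left hsq
  let mu0 : (H₁ ⊗ H₂').left ⟶ Limits.pullback b₂.left j''.left :=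
    Zsq.lift ((j ▷ H₂').left ≫ (fst H₂ H₂' * (snd H₂ H₂' ≫ a₂)).left)
      ((fst H₁ H₂').left ≫ b₁.left) (by rw [Category.assoc]; exact BZ.w.trans (by simp))
  have B : IsPullback mu0 (fst H₁ H₂').left (Limits.pullback.snd b₂.left j''.left) b₁.left := by
    refine IsPullback.of_right ?_ (Zsq.lift_snd _ _ _) Zsq
    simpa only [mu0, Zsq.lift_fst] using BZ
  have C : IsPullback (fst H₁ H₁' * (snd H₁ H₁' ≫ a₁)).left (H₁ ◁ j').left k mu0 := by
    refine IsPullback.of_bot ?_ ?_ B
    · rw [← Over.comp_left, whiskerLeft_fst, Zsq.lift_snd]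
      exact T₁
    · apply Zsq.hom_ext
      · simp only [k, mu0, Category.assoc, Zsq.lift_fst, ← Over.comp_left]
        congr 1
        simp only [MonObj.comp_mul, MonObj.mul_comp, Category.assoc, sq₁, whiskerRight_fst,
          whiskerRight_fst_assoc, whiskerRight_snd, whiskerRight_snd_assoc, whiskerLeft_fst,
          whiskerLeft_fst_assoc, whiskerLeft_snd, whiskerLeft_snd_assoc]
      · simp only [k, mu0, Category.assoc, Zsq.lift_snd]
        refine T₁.w.trans ?_
        simp only [Over.forget_map]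
        rw [← whiskerLeft_fst H₁ j', Over.comp_left]
        exact Category.assoc _ _ _
  haveI := hb₁.1
  haveI := hb₁.2
  haveI : QuasiCompact b₁.left := by
    have h : QuasiCompact (b₁.left ≫ H₁''.hom) := by
      rw [Over.w]
      infer_instance
    exact @QuasiCompact.of_comp _ _ _ b₁.left H₁''.hom h inferInstance
  have hmu0 : (@Surjective ⊓ @Flat ⊓ @QuasiCompact : MorphismProperty Scheme.{u}) mu0 :=
    ⟨⟨MorphismProperty.of_isPullback B.flip hb₁.2,
      MorphismProperty.of_isPullback B.flip hb₁.1⟩,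
      MorphismProperty.of_isPullback B.flip ‹QuasiCompact b₁.left›⟩
  have hk : IsClosedImmersion k :=
    MorphismProperty.of_isPullback_of_descendsAlong (P := @IsClosedImmersion)
      (Q := @Surjective ⊓ @Flat ⊓ @QuasiCompact) (f := mu0) (g := k) C.flip hmu0
      (MorphismProperty.of_isPullback (Groth.AlgGrp2.isPullback_whiskerLeft_snd H₁ j').flip hj')
  have hz : IsClosedImmersion (Limits.pullback.fst b₂.left j''.left) :=
    MorphismProperty.pullback_fst _ _ hj''
  have hj : j.left = k ≫ Limits.pullback.fst b₂.left j''.left := (Zsq.lift_fst _ _ _).symm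
  rw [hj]
  infer_instance

end Groth.Agent.S16647
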