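import Groth.Statements.S1665
import Groth.Agent.EGA43Valuative.DominatingDVR

set_option autoImplicit false
universe u
open Variety

namespace Groth.Agent.S1665

/-- A semi-local domain which is not a field has nonzero Jacobson radical. -/
theorem jacobson_ne_bot (B : Type u) [CommRing B] [IsDomain B] (hnfB : ¬ IsField B)
    (hsl : Finite (MaximalSpectrum B)) : Ideal.jacobson (⊥ : Ideal B) ≠ ⊥ := by
  classical
  intro h
  have := Fintype.ofFinite (MaximalSpectrum B)
  have hprod : ∏ M : MaximalSpectrum B, M.asIdeal ≤ Ideal.jacobson ⊥ := by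
    refine le_sInf ?_
    rintro J ⟨-, hJ⟩
    exact Ideal.prod_le_inf.trans (Finset.inf_le (f := fun M : MaximalSpectrum B => M.asIdeal)
      (Finset.mem_univ ⟨J, hJ⟩))
  rw [h, le_bot_iff, ← Ideal.zero_eq_bot, Finset.prod_eq_zero_iff] at hprod
  obtain ⟨M, -, hM⟩ := hprod
  exact Ring.ne_bot_of_isMaximal_of_not_isField M.isMaximal hnfB hM

set_option maxHeartbeats 1000000 in
/-- Let B be a Noetherian domain of dimension one with finitely many maximal ideals and B' its integral
closure in its fraction field. Then B' is a Dedekind domain with finitely many maximal ideals, and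
for every nonzero x in the Jacobson radical of B' and every y ∈ B' some power x^n satisfies x^n y ∈
B. -/
theorem result (B : Type u) [CommRing B] [IsDomain B] [IsNoetherianRing B]
    (hdim : ringKrullDim B = 1) (hsl : Finite (MaximalSpectrum B)) :
    IsDedekindDomain (integralClosure B (FractionRing B)) ∧ Finite (MaximalSpectrum (integralClosure B (FractionRing B))) ∧
      ∀ x : integralClosure B (FractionRing B), x ≠ 0 → x ∈ (⊥ : Ideal (integralClosure B (FractionRing B))).jacobson →
        ∀ y : integralClosure B (FractionRing B), ∃ n : ℕ, (x ^ n * y).1 ∈ (algebraMap B (FractionRing B)).range := by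
  classical
  set K := FractionRing B
  have : Ring.KrullDimLE 1 B := Ring.krullDimLE_iff.2 (by simp [hdim])
  have := Groth.EGA43Val.isDedekindDomain_integralClosure B K K
  have hinj : Function.Injective (algebraMap B (integralClosure B K)) := fun a b h =>
    IsFractionRing.injective B K (congrArg Subtype.val h)
  have hnfB : ¬ IsField B := fun h => by
    rw [ringKrullDim_eq_zero_of_isField h] at hdim; exact zero_ne_one hdim
  refine ⟨inferInstance, ?_, ?_⟩
  · -- a nonzero element in every maximal ideal of `B`
    have hbot := jacobson_ne_bot B hnfB hsl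
    obtain ⟨x, hx, hx0⟩ := Submodule.exists_mem_ne_zero_of_ne_bot hbot
    have hfin := Ideal.finite_minimalPrimes_of_isNoetherianRing (integralClosure B K)
      (Ideal.span {algebraMap B (integralClosure B K) x})
    refine Finite.of_injective (β := hfin.toFinset) (fun Q => ⟨Q.asIdeal, hfin.mem_toFinset.2 ?_⟩)
      fun Q Q' h => MaximalSpectrum.ext (congrArg Subtype.val h)
    have hxQ : algebraMap B (integralClosure B K) x ∈ Q.asIdeal := by
      have := Q.isMaximal
      have hM : (Q.asIdeal.comap (algebraMap B (integralClosure B K))).IsMaximal :=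
        Ideal.isMaximal_comap_of_isIntegral_of_isMaximal Q.asIdeal
      exact (Submodule.mem_sInf.1 hx _ ⟨bot_le, hM⟩ :)
    refine ⟨⟨Q.isMaximal.isPrime, (Ideal.span_singleton_le_iff_mem _).2 hxQ⟩, fun P ⟨hP, hle⟩ hPQ => ?_⟩
    have hP0 : P ≠ ⊥ := fun h => hx0 (hinj ((map_zero (algebraMap B (integralClosure B K))).symm ▸
      (Submodule.mem_bot _).1 (h ▸ hle (Ideal.mem_span_singleton_self _))))
    exact ((hP.isMaximal hP0).eq_of_le Q.isMaximal.ne_top hPQ).ge
  · intro x hx0 hx y
    let C : Subalgebra B K := Algebra.adjoin B ({x.1, y.1} : Set K)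
    have hCle : C ≤ integralClosure B K := Algebra.adjoin_le (by
      rintro z (rfl | rfl)
      · exact x.2
      · exact y.2)
    obtain ⟨T, hT⟩ : (Subalgebra.toSubmodule C).FG :=
      fg_adjoin_of_finite (Set.toFinite _) (fun z hz => hCle (Algebra.subset_adjoin hz))
    obtain ⟨c, hc⟩ := IsLocalization.exist_integer_multiples_of_finset (nonZeroDivisors B) T
    have hc0 : (c : B) ≠ 0 := nonZeroDivisors.ne_zero c.2
    have hcC : ∀ z ∈ C, algebraMap B K c * z ∈ (algebraMap B K).range := by
      intro z hz
      have hz' : z ∈ Submodule.span B (T : Set K) := by rw [hT]; exact hz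
      clear hz
      induction hz' using Submodule.span_induction with
      | mem w hw =>
        obtain ⟨b, hb⟩ := hc w hw
        exact ⟨b, hb.trans (Algebra.smul_def _ _)⟩
      | zero => simp
      | add p q _ _ hp hq => rw [mul_add]; exact add_mem hp hq
      | smul r w _ hw =>
        rw [Algebra.smul_def, mul_left_comm]
        exact mul_mem ⟨r, rfl⟩ hw
    let xC : C := ⟨x.1, Algebra.subset_adjoin (Set.mem_insert _ _)⟩
    let : Algebra C (integralClosure B K) := (Subalgebra.inclusion hCle).toRingHom.toAlgebra
    have : IsScalarTower B C (integralClosure B K) := IsScalarTower.of_algebraMap_eq fun _ => rfl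
    have : Algebra.IsIntegral C (integralClosure B K) := Algebra.IsIntegral.tower_top B
    obtain ⟨N, hN⟩ : xC ∈ (Ideal.span {algebraMap B C c}).radical := by
      rw [Ideal.radical_eq_sInf, Submodule.mem_sInf]
      rintro (P : Ideal C) ⟨hP, hPp⟩
      obtain ⟨Q, -, hQ, hQP⟩ := Ideal.exists_ideal_over_prime_of_isIntegral
        (S := integralClosure B K) P ⊥ (by
          intro z hz
          rw [show z = 0 from Subalgebra.inclusion_injective hCle ((show Subalgebra.inclusion hCle z = 0 from hz).trans (map_zero _).symm)]
          exact P.zero_mem)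
      have hcQ : algebraMap B (integralClosure B K) c ∈ Q := by
        have : algebraMap B C c ∈ Q.comap (algebraMap C (integralClosure B K)) :=
          hQP ▸ hP (Ideal.mem_span_singleton_self _)
        exact this
      have hQne : Q ≠ ⊥ := fun h => hc0 (hinj ((map_zero (algebraMap B (integralClosure B K))).symm ▸
        (Submodule.mem_bot _).1 (h ▸ hcQ)))
      rw [← hQP]
      exact (Ideal.mem_sInf.1 hx ⟨bot_le, hQ.isMaximal hQne⟩ : x ∈ Q)
    obtain ⟨q, hq⟩ := Ideal.mem_span_singleton.mp hN
    refine ⟨N, ?_⟩
    have : ((x ^ N * y : integralClosure B K) : K) = algebraMap B K c * ((q : K) * y.1) := by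
      rw [← mul_assoc]
      exact congrArg (· * y.1) (congrArg Subtype.val hq)
    rw [this]
    exact hcC _ (mul_mem q.2 (Algebra.subset_adjoin (Set.mem_insert_of_mem _ rfl)))

end Groth.Agent.S1665
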