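import Groth.Statements.S16650
import Groth.Agent.AlgGrp1.BorelRelative

set_option autoImplicit false
open CategoryTheory MonoidalCategory CartesianMonoidalCategory MonObj GrpObj AlgebraicGeometry
universe u
open RedSub

namespace Groth.Agent.S16650

/-- The centre of a reductive group scheme G over a scheme S is contained in every parabolic subgroup of
G. -/
theorem result {S : Scheme.{u}} {G Z P : Over S} [GrpObj G] [GrpObj Z] [GrpObj P]
    (hG : Red.IsReductive G) (z : Z ⟶ G) (hZ : Red.IsCentre z) (p : P ⟶ G) (hP : Red.IsParabolic p) :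
    ∃ f : Z ⟶ P, f ≫ p = z := by
  obtain ⟨hm, hcl, hs, hgeo⟩ := hP
  haveI := hm; haveI := hcl; haveI := hs
  haveI : Mono p := Over.mono_of_mono_left p
  haveI := hG.1; haveI := hG.2.1
  haveI : QuasiCompact P.hom := by rw [← Over.w p]; infer_instance
  haveI : QuasiSeparated P.hom := by rw [← Over.w p]; infer_instance
  have hprops : ∀ s : S, ConnectedSpace (Red.geomFibre s P).left ∧
      Red.IsNormalizerOf ((Over.pullback (Red.geomPt s)).map p) ((Over.pullback (Red.geomPt s)).map p) := fun s => by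
    obtain ⟨ha, hsm, hc, -⟩ := hG.2.2 s
    exact Groth.AlgGrp1.parabolicOver_props (hgeo s)
  have hconnB : ∀ s : S, _root_.IsConnected (P.hom.base ⁻¹' {s}) := fun s => by
    haveI : ConnectedSpace ↥(Limits.pullback P.hom (Red.geomPt s)) := (hprops s).1
    have hr : P.hom.base ⁻¹' {s} = Set.range (Limits.pullback.fst P.hom (Red.geomPt s)).base := by
      rw [Scheme.Pullback.range_fst]
      refine congrArg (P.hom.base ⁻¹' ·) (Set.ext fun y => ⟨fun hy => ⟨IsLocalRing.closedPoint _, ?_⟩, ?_⟩)
      · rw [Set.mem_singleton_iff] at hy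
        rw [hy, Scheme.Hom.comp_apply, Scheme.fromSpecResidueField_apply]
      · rintro ⟨z, rfl⟩
        rw [Set.mem_singleton_iff, Scheme.Hom.comp_apply, Scheme.fromSpecResidueField_apply]
    rw [hr]
    exact isConnected_range (Limits.pullback.fst P.hom (Red.geomPt s)).continuous
  refine ((Groth.AlgGrp1.isNormalizerOf_self_of_fibres p hconnB fun s => (hprops s).2).1.2.2 Z z).2
    fun X' x h => ?_
  have hc' := (hZ.2.2 Z z).1 ⟨𝟙 Z, Category.id_comp z⟩ X' x (h ≫ p)
  rw [Category.comp_id] at hc'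
  refine ⟨⟨h, ?_⟩, ⟨h, ?_⟩⟩
  · rw [hc', mul_inv_cancel_right]
  · rw [mul_assoc ((x ≫ z)⁻¹), ← hc', inv_mul_cancel_left]

end Groth.Agent.S16650
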