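import Groth.Statements.S16651
import Mathlib
import Groth.Agent.Calg7.EvenSplitRing
import Groth.Agent.Calg7.EvenSplitSpinor
-- import your own Groth.Agent.* helpers here

set_option autoImplicit false
universe u v
open scoped TensorProduct
open QuadZ

namespace Groth.Agent.S16651

/-- For a free module over an affine base, let Q be a non-degenerate quadratic form (polar form a
perfect pairing) on a free module V of even rank 2m ≥ 2 over a commutative ring A. Then fppf-locally
on A the Clifford algebra C(V,Q) is a matrix algebra of size 2^m and its even part a product of two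
matrix algebras of size 2^(m-1) (there is a faithfully flat finitely presented A-algebra A'
realising both), the centre of C(V,Q) is A, the map V → C(V,Q) is injective onto a direct summand,
and the even part is the centralizer in C(V,Q) of its own centre. -/
theorem result (A : Type u) [CommRing A] (V : Type u)
    [AddCommGroup V] [Module A V] [Module.Free A V] [Module.Finite A V] (m : ℕ) (hm : 1 ≤ m)
    (hV : Module.finrank A V = 2 * m) (Q : QuadraticForm A V) (hQ : Function.Bijective (QuadraticMap.polarBilin Q)) :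
    (∃ (A' : Type u) (_ : CommRing A') (_ : Algebra A A'), Module.FaithfullyFlat A A' ∧ Algebra.FinitePresentation A A' ∧
        Nonempty ((A' ⊗[A] CliffordAlgebra Q) ≃ₐ[A'] Matrix (Fin (2 ^ m)) (Fin (2 ^ m)) A') ∧
        Nonempty ((A' ⊗[A] ↥(CliffordAlgebra.even Q)) ≃ₐ[A']
          (Matrix (Fin (2 ^ (m - 1))) (Fin (2 ^ (m - 1))) A' × Matrix (Fin (2 ^ (m - 1))) (Fin (2 ^ (m - 1))) A'))) ∧
    Subalgebra.center A (CliffordAlgebra Q) = ⊥ ∧
    (Function.Injective (CliffordAlgebra.ι Q) ∧
      ∃ W : Submodule A (CliffordAlgebra Q), IsCompl (LinearMap.range (CliffordAlgebra.ι Q)) W) ∧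
    Subalgebra.centralizer A
        ((CliffordAlgebra.even Q).val '' (Subalgebra.center A ↥(CliffordAlgebra.even Q) : Set ↥(CliffordAlgebra.even Q))) =
      CliffordAlgebra.even Q := by
  classical
  have hRQ : QuadGrp.IsRegular Q := hQ
  have h : Groth.Calg7.EvenCliff.Hyp Q m := ⟨hm, hV, hRQ⟩
  refine ⟨?_, ?_, ⟨Groth.Misc12.Cliff.ι_injective Q, ?_⟩, ?_⟩
  · rcases subsingleton_or_nontrivial A with hA | hA
    · refine ⟨A, inferInstance, inferInstance, inferInstance, inferInstance, ?_, ?_⟩
      · haveI : Subsingleton (TensorProduct A A (CliffordAlgebra Q)) := Module.subsingleton A _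
        haveI : Subsingleton (Matrix (Fin (2 ^ m)) (Fin (2 ^ m)) A) := Module.subsingleton A _
        exact ⟨{ toFun := fun _ => 0, invFun := fun _ => 0, left_inv := fun _ => Subsingleton.elim _ _,
                 right_inv := fun _ => Subsingleton.elim _ _, map_mul' := fun _ _ => Subsingleton.elim _ _,
                 map_add' := fun _ _ => Subsingleton.elim _ _, commutes' := fun _ => Subsingleton.elim _ _ }⟩
      · haveI : Subsingleton (TensorProduct A A ↥(CliffordAlgebra.even Q)) := Module.subsingleton A _
        haveI : Subsingleton (Matrix (Fin (2 ^ (m - 1))) (Fin (2 ^ (m - 1))) A) := Module.subsingleton A _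
        exact ⟨{ toFun := fun _ => 0, invFun := fun _ => 0, left_inv := fun _ => Subsingleton.elim _ _,
                 right_inv := fun _ => Subsingleton.elim _ _, map_mul' := fun _ _ => Subsingleton.elim _ _,
                 map_add' := fun _ _ => Subsingleton.elim _ _, commutes' := fun _ => Subsingleton.elim _ _ }⟩
    · let b : Module.Basis (Fin (m + m)) A V := Module.finBasisOfFinrankEq A V (by rw [hV]; omega)
      obtain ⟨A', i1, i2, hff, hfp, e, he⟩ := Groth.Calg7.EvenSplit.exists_split_ring b hm hRQ
      haveI : Nontrivial A' := by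
        by_contra hn
        haveI := not_nontrivial_iff_subsingleton.mp hn
        haveI : Module.FaithfullyFlat A A' := hff
        haveI : Subsingleton (TensorProduct A A' A) := Module.subsingleton A' _
        exact not_subsingleton A (Module.FaithfullyFlat.lTensor_reflects_triviality A A' A)
      have h' : Groth.Calg7.EvenCliff.Hyp (Groth.Misc12.Cliff.QA Q A') m :=
        ⟨hm, by rw [Module.finrank_baseChange, hV], Groth.Misc12.Cliff.isRegular_QA Q A' hRQ⟩
      obtain ⟨⟨f⟩, ⟨g⟩⟩ := Groth.Calg7.EvenSplit.exists_split_equivs e he h'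
      exact ⟨A', i1, i2, hff, hfp, ⟨(Groth.Misc12.Cliff.bcEquiv Q A').symm.trans f⟩,
        ⟨(AlgEquiv.ofBijective _ (Groth.Misc12.Cliff.evenBC_bijective Q A')).trans g⟩⟩
  · refine eq_bot_iff.2 fun z hz => ?_
    obtain ⟨r, hr⟩ := h.central_scalar fun v => Subalgebra.mem_center_iff.1 hz (CliffordAlgebra.ι Q v)
    exact Algebra.mem_bot.2 ⟨r, hr⟩
  · let π : CliffordAlgebra Q →ₗ[A] V := ExteriorAlgebra.ιInv.comp (Groth.Misc12.Cliff.toExt Q).toLinearMap
    have hπ : ∀ v, π (CliffordAlgebra.ι Q v) = v := fun v => by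
      change ExteriorAlgebra.ιInv (Groth.Misc12.Cliff.toExt Q (CliffordAlgebra.ι Q v)) = v
      rw [Groth.Misc12.Cliff.toExt_ι]
      exact ExteriorAlgebra.ι_leftInverse v
    refine ⟨LinearMap.ker π, Submodule.disjoint_def.2 ?_, codisjoint_iff.2 (eq_top_iff.2 fun x _ => ?_)⟩
    · rintro _ ⟨v, rfl⟩ h0
      rw [LinearMap.mem_ker, hπ] at h0
      rw [h0, map_zero]
    · rw [← add_sub_cancel (CliffordAlgebra.ι Q (π x)) x]
      exact Submodule.add_mem_sup ⟨_, rfl⟩ (by rw [LinearMap.mem_ker, map_sub, hπ, sub_self])
  · apply le_antisymm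
    · intro a ha
      rw [Subalgebra.mem_centralizer_iff] at ha
      let a0 : CliffordAlgebra Q := DirectSum.decompose (CliffordAlgebra.evenOdd Q) a 0
      let a1 : CliffordAlgebra Q := DirectSum.decompose (CliffordAlgebra.evenOdd Q) a 1
      have hsum : a = a0 + a1 := Groth.Misc12.Cliff.sum_decompose a
      suffices h1 : a1 = 0 by
        change a ∈ CliffordAlgebra.evenOdd Q 0
        rw [hsum, h1, add_zero]
        exact SetLike.coe_mem _
      let T : Groth.Calg7.EvenCliff.Ce Q → CliffordAlgebra Q := fun c => ((c : Groth.Calg7.EvenCliff.Ev Q) : CliffordAlgebra Q)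
      have hd : ∀ c, h.dlt (T c) * a1 = 0 := fun c => by
        have hc := ha (T c) ⟨(c : Groth.Calg7.EvenCliff.Ev Q), c.2, rfl⟩
        have h0 : T c * a0 = a0 * T c :=
          ((Groth.Calg7.EvenCliff.mem_cm c).commute (SetLike.coe_mem _)).eq
        rw [hsum, mul_add, add_mul, h0, add_right_inj,
          h.odd_mul (Groth.Calg7.EvenCliff.mem_cm c) (SetLike.coe_mem _)] at hc
        rw [Groth.Calg7.EvenCliff.Hyp.dlt, sub_mul, hc, sub_self]
      obtain ⟨F, hF⟩ := h.exists_family
      have hB : ∀ c, h.B c c • a1 = 0 := fun c => by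
        have h2 := congrArg (fun t : Groth.Calg7.EvenCliff.Ce Q => T t) (h.algebraMap_B c c)
        change algebraMap A _ (h.B c c) = h.dlt (T c) * h.dlt (T c) at h2
        rw [Algebra.smul_def, h2, mul_assoc, hd, mul_zero]
      rw [← one_smul A a1, ← hF, Finsupp.sum, Finset.sum_smul]
      exact Finset.sum_eq_zero fun c _ => by rw [mul_smul, hB, smul_zero]
    · intro a ha
      rw [Subalgebra.mem_centralizer_iff]
      rintro _ ⟨c, hc, rfl⟩
      exact (congrArg Subtype.val (Subalgebra.mem_center_iff.1 hc ⟨a, ha⟩)).symm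

end Groth.Agent.S16651
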