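import Groth.Statements.S16663
import Groth.Agent.Misc12.Conn

set_option autoImplicit false
universe v u
open TensorProduct
open Conn

namespace Groth.Agent.S16663

/-- Let B be an A-algebra with a receptacle of differentials (Ω, δ), Ω a finite free B-module (the local
form of a weakly smooth scheme), and let M be a finitely ℤ-graded B-module presented as a finite
family of finite free B-modules M_i with integer degrees deg i (the local form of a graded vector
bundle), with total module Π_i M_i. Let ∇ be a connection on Π_i M_i preserving the grading, in the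
sense that (pr_j ⊗ 1)(∇(ι_i m)) = 0 for m ∈ M_i whenever deg i ≠ deg j, and let ∇_E be the induced
connection on the B-linear endomorphisms, the one with (ev_m ⊗ 1)(∇_E φ) = ∇(φ m) − (φ ⊗ 1)(∇ m).
Give B the connection b ↦ 1 ⊗ δ b. Then the supertrace, φ ↦ tr(ε ∘ φ) with ε = Σ_i (−1)^{deg i} ι_i
∘ pr_i the grading involution, is a horizontal map End_B(Π_i M_i) → B. -/
theorem result {A : Type v} {B Ω ι : Type u}
    [CommRing A] [CommRing B] [Algebra A B]
    [AddCommGroup Ω] [Module B Ω] [Module A Ω] [IsScalarTower A B Ω] [Module.Finite B Ω] [Module.Free B Ω]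
    [Fintype ι] [DecidableEq ι] (deg : ι → ℤ) (M : ι → Type u)
    [∀ i, AddCommGroup (M i)] [∀ i, Module B (M i)] [∀ i, Module A (M i)] [∀ i, IsScalarTower A B (M i)]
    [∀ i, Module.Free B (M i)] [∀ i, Module.Finite B (M i)]
    (δ : Derivation A B Ω) (nabla : (Π k, M k) →ₗ[A] (Π k, M k) ⊗[B] Ω) (hc : Conn.IsConn δ nabla)
    (hgr : ∀ i j : ι, deg i ≠ deg j → ∀ m : M i,
      TensorProduct.map (LinearMap.proj j : (Π k, M k) →ₗ[B] M j) LinearMap.id (nabla (LinearMap.single B M i m)) = 0)
    (nablaE : ((Π k, M k) →ₗ[B] (Π k, M k)) →ₗ[A] ((Π k, M k) →ₗ[B] (Π k, M k)) ⊗[B] Ω)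
    (hE : Conn.IsHomConn nabla nabla nablaE) :
    Conn.IsHorizontal nablaE (Conn.triv δ)
      (LinearMap.trace B (Π k, M k) ∘ₗ LinearMap.llcomp B (Π k, M k) (Π k, M k) (Π k, M k)
        (∑ i : ι, (LinearMap.single B M i) ∘ₗ (((-1 : B) ^ (deg i).natAbs) • (LinearMap.proj i : (Π k, M k) →ₗ[B] M i)))) := by
  classical
  set ε : (Π k, M k) →ₗ[B] (Π k, M k) :=
    ∑ i : ι, (LinearMap.single B M i) ∘ₗ (((-1 : B) ^ (deg i).natAbs) • (LinearMap.proj i : (Π k, M k) →ₗ[B] M i))
    with hε
  have εapp : ∀ (x : Π k, M k) (j : ι), ε x j = ((-1 : B) ^ (deg j).natAbs) • x j := by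
    intro x j
    rw [hε]
    simp only [LinearMap.sum_apply, Finset.sum_apply, LinearMap.comp_apply, LinearMap.smul_apply,
      LinearMap.proj_apply, LinearMap.single_apply]
    rw [Finset.sum_eq_single j (fun i _ hi => Pi.single_eq_of_ne (Ne.symm hi) _) (by simp)]
    exact Pi.single_eq_same _ _
  have hδ : ∀ (θ : Ω →ₗ[B] B) (e : ℕ), θ (δ ((-1 : B) ^ e)) = 0 := by
    intro θ e
    induction e with
    | zero => simp
    | succ e ih => rw [pow_succ', neg_one_mul, map_neg, map_neg, ih, neg_zero]
  have hcomm : ∀ (θ : Ω →ₗ[B] B) (x : Π k, M k),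
      Conn.along nabla θ (ε x) = ε (Conn.along nabla θ x) := by
    intro θ x
    conv_lhs => rw [← Finset.univ_sum_single (ε x), map_sum]
    conv_rhs => rw [← Finset.univ_sum_single x, map_sum, map_sum]
    refine Finset.sum_congr rfl fun i _ => ?_
    rw [εapp, Pi.single_smul, Groth.Misc12.along_isConn hc, hδ, zero_smul, add_zero]
    funext j
    rw [Pi.smul_apply, εapp]
    by_cases hij : deg i = deg j
    · rw [hij]
    · have hz : Conn.along nabla θ (Pi.single i (x i)) j = 0 := by
        have h0 := congrArg (Groth.Misc12.contr (M j) θ) (hgr i j hij (x i))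
        rw [Groth.Misc12.contr_map, map_zero] at h0
        exact h0
      rw [hz, smul_zero, smul_zero]
  rw [Groth.Misc12.isHorizontal_iff]
  intro θ φ
  have h0 : Conn.along nablaE θ ε = 0 := by
    refine LinearMap.ext fun x => ?_
    rw [Groth.Misc12.along_homConn hE, hcomm, sub_self, LinearMap.zero_apply]
  rw [LinearMap.comp_apply, LinearMap.comp_apply,
    (Groth.Misc12.isHorizontal_iff _ _ _).1 (Groth.Misc12.trace_horizontal hc hE) θ,
    LinearMap.llcomp_apply', LinearMap.llcomp_apply',
    Groth.Misc12.along_homConn_comp hE hE hE, h0, LinearMap.zero_comp, zero_add]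

end Groth.Agent.S16663
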