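import Groth.Statements.S16667
import Groth.Agent.Calg1.SerreConditions
import Groth.Agent.Calg4.RegularAscent
-- import your own Groth.Agent.* helpers here

set_option autoImplicit false
universe u
open CAlg

namespace Groth.Agent.S16667

/-- Let A be a Noetherian integral domain satisfying Serre's condition (S_2), with fraction field K. An
element of K which lies in the localization A_p for every prime p of A with depth(A_p) = 1 lies in
A. -/
theorem result {A : Type u} [CommRing A] [IsDomain A]
    [IsNoetherianRing A] (hS2 : LocCoh.HasSk 2 A A) (x : FractionRing A)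
    (hx : ∀ (p : Ideal A) [p.IsPrime],
      LocCoh.depth (Localization.AtPrime p) (Localization.AtPrime p) = 1 →
        x ∈ Set.range (algebraMap (Localization.AtPrime p) (FractionRing A))) :
    x ∈ Set.range (algebraMap A (FractionRing A)) := by
  obtain ⟨a, b, hb, rfl⟩ := IsFractionRing.div_surjective (A := A) x
  have hb0 : b ≠ 0 := nonZeroDivisors.ne_zero hb
  have hinj := IsFractionRing.injective A (FractionRing A)
  obtain ⟨c, hc⟩ : b ∣ a := by
    refine Groth.Calg1.dvd_of_forall_height_le_one hS2 (isSMulRegular_iff_right_eq_zero_of_smul.mpr fun m hm =>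
      (mul_eq_zero.mp hm).resolve_left hb0) fun P _ hP => ?_
    by_cases h0 : P = ⊥
    · exact ⟨b, fun h => hb0 (by simpa [h0] using h), dvd_mul_right b a⟩
    have hge : 1 ≤ P.height := ENat.one_le_iff_ne_zero.mpr fun h => h0 (by
      have := Ideal.height_eq_zero_iff.mp h
      exact le_bot_iff.mp (this.2 ⟨Ideal.isPrime_bot, le_rfl⟩ bot_le))
    have hdep : LocCoh.depth (Localization.AtPrime P) (Localization.AtPrime P) = 1 := by
      apply le_antisymm
      · have := Groth.Calg4.depth_le_ringKrullDim (Localization.AtPrime P)
        rw [IsLocalization.AtPrime.ringKrullDim_eq_height P (Localization.AtPrime P),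
          WithBot.coe_le_coe] at this
        exact this.trans hP
      · have := (Groth.Calg1.hasSk_self_iff 2).mp hS2 P
        exact le_trans (le_min (by norm_num) hge) this
    obtain ⟨y, hy⟩ := hx P hdep
    obtain ⟨c, s, rfl⟩ := IsLocalization.exists_mk'_eq P.primeCompl y
    refine ⟨s, s.2, c, hinj ?_⟩
    rw [eq_div_iff ((map_ne_zero_iff _ hinj).mpr hb0)] at hy
    rw [map_mul, map_mul, ← hy]
    have hsc : algebraMap A (FractionRing A) (s : A) *
        algebraMap (Localization.AtPrime P) (FractionRing A) (IsLocalization.mk' _ c s) =
          algebraMap A (FractionRing A) c := by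
      rw [IsScalarTower.algebraMap_apply A (Localization.AtPrime P) (FractionRing A) (s : A), ← map_mul,
        IsLocalization.mk'_spec', ← IsScalarTower.algebraMap_apply]
    linear_combination algebraMap A (FractionRing A) b * hsc
  exact ⟨c, by rw [eq_div_iff ((map_ne_zero_iff _ hinj).mpr hb0), ← map_mul, hc, mul_comm]⟩

end Groth.Agent.S16667
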