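import Groth.Statements.S16668
import Groth.Agent.EGA41Two.QuasiRegular
import Groth.Agent.Pi1Depth.Basic
import Groth.Agent.RefRank.BigOpen
import Groth.Agent.PicAux.Hartogs
import Groth.Agent.FibreDim.DimensionFormula

set_option autoImplicit false
universe u
open CategoryTheory AlgebraicGeometry
open Lef

namespace Groth.Agent.S16668

section
open RingTheory.Sequence
open scoped Pointwise

/-- The meaning of a weakly regular pair. -/
theorem isWeaklyRegular_pair_iff {R : Type u} [CommRing R] (a b : R) :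
    IsWeaklyRegular R [a, b] ↔ (∀ r, a * r = 0 → r = 0) ∧
      (∀ r, b * r ∈ Ideal.span {a} → r ∈ Ideal.span {a}) := by
  rw [isWeaklyRegular_cons_iff, isWeaklyRegular_singleton_iff, isSMulRegular_iff_right_eq_zero_of_smul]
  refine and_congr (by simp [smul_eq_mul]) ?_
  show IsSMulRegular (R ⧸ (a • (⊤ : Submodule R R))) b ↔ _
  rw [isSMulRegular_quotient_iff_mem_of_smul_mem]
  have h : ∀ x : R, x ∈ a • (⊤ : Submodule R R) ↔ x ∈ Ideal.span {a} := fun x => by
    rw [Submodule.mem_smul_pointwise_iff_exists, Ideal.mem_span_singleton']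
    simp [mul_comm a]
  simp [h, smul_eq_mul]

variable {R : Type u} [CommRing R] {c : ℕ} {f : Fin c → R}

theorem eval_mem_mul_pow {J : Ideal R} {j : ℕ} {P : MvPolynomial (Fin c) R} (hP : P.IsHomogeneous j)
    (hc : ∀ d, P.coeff d ∈ J) : MvPolynomial.eval f P ∈ J * Ideal.span (Set.range f) ^ j := by
  classical
  rw [MvPolynomial.eval_eq']
  refine Ideal.sum_mem _ fun d hd => Ideal.mul_mem_mul (hc d) ?_
  have hdeg : ∑ i, d i = j := by
    have := hP (MvPolynomial.mem_support_iff.mp hd)
    rw [Finsupp.weight_apply, Finsupp.sum_fintype _ _ (fun i => by simp)] at this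
    simpa using this
  rw [← hdeg, ← Finset.prod_pow_eq_pow_sum]
  refine Ideal.prod_mem_prod (I := fun i => Ideal.span (Set.range f) ^ d i) fun i _ => ?_
  exact Ideal.pow_mem_pow (Ideal.subset_span (Set.mem_range_self i)) _

theorem exists_eval {j : ℕ} {x : R} (hx : x ∈ Ideal.span (Set.range f) ^ j) :
    ∃ P : MvPolynomial (Fin c) R, P.IsHomogeneous j ∧ MvPolynomial.eval f P = x := by
  have hspan : Groth.EGA41Two.headSpan f c = Ideal.span (Set.range f) := by
    rw [Groth.EGA41Two.headSpan, show {i : Fin c | (i : ℕ) < c} = Set.univ from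
      Set.eq_univ_of_forall fun i => i.2, Set.image_univ]
  obtain ⟨P, hP, -, he⟩ := Groth.EGA41Two.exists_form f ⊤ c j x (by simpa [hspan] using hx)
  exact ⟨P, hP.1, he⟩

variable (hf : CAlgX.IsQuasiRegular f) {a b : R}
  (ha : ∀ r, a * r ∈ Ideal.span (Set.range f) → r ∈ Ideal.span (Set.range f))
  (hb : ∀ r, b * r ∈ Ideal.span (Set.range f) ⊔ Ideal.span {a} →
    r ∈ Ideal.span (Set.range f) ⊔ Ideal.span {a})

include hf ha in
theorem mem_pow_of_mul_mem (m : ℕ) {x : R} (hx : a * x ∈ Ideal.span (Set.range f) ^ m) :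
    x ∈ Ideal.span (Set.range f) ^ m := by
  suffices h : ∀ j ≤ m, x ∈ Ideal.span (Set.range f) ^ j from h m le_rfl
  intro j
  induction j with
  | zero => simp
  | succ j ih =>
    intro hj
    obtain ⟨P, hP, rfl⟩ := exists_eval (ih (by omega))
    have he : MvPolynomial.eval f (MvPolynomial.C a * P) ∈ Ideal.span (Set.range f) ^ (j + 1) := by
      simpa using Ideal.pow_le_pow_right hj hx
    rw [pow_succ']
    exact eval_mem_mul_pow hP fun d => ha _ (by
      simpa [MvPolynomial.coeff_C_mul] using hf j _ (hP.C_mul a) he d)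

include hf ha hb in
theorem mem_pow_sup_of_mul_mem (m : ℕ) {x : R}
    (hx : b * x ∈ Ideal.span (Set.range f) ^ m ⊔ Ideal.span {a}) :
    x ∈ Ideal.span (Set.range f) ^ m ⊔ Ideal.span {a} := by
  suffices h : ∀ j ≤ m, x ∈ Ideal.span (Set.range f) ^ j ⊔ Ideal.span {a} from h m le_rfl
  intro j
  induction j with
  | zero => simp
  | succ j ih =>
    intro hj
    obtain ⟨z, hz, u, hu, rfl⟩ := Submodule.mem_sup.mp (ih (by omega))
    obtain ⟨y, rfl⟩ := Ideal.mem_span_singleton'.mp hu
    obtain ⟨q₀, hq₀, u₀, hu₀, he⟩ := Submodule.mem_sup.mp hx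
    obtain ⟨w₀, rfl⟩ := Ideal.mem_span_singleton'.mp hu₀
    have haw : b * z - a * (w₀ - b * y) = q₀ := by linear_combination -he
    have hq₁ : q₀ ∈ Ideal.span (Set.range f) ^ (j + 1) := Ideal.pow_le_pow_right hj hq₀
    have hw : w₀ - b * y ∈ Ideal.span (Set.range f) ^ j := by
      refine mem_pow_of_mul_mem hf ha j ?_
      have : a * (w₀ - b * y) = b * z - q₀ := by linear_combination -haw
      rw [this]
      exact Ideal.sub_mem _ (Ideal.mul_mem_left _ _ hz) (Ideal.pow_le_pow_right (by omega) hq₀)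
    obtain ⟨P, hP, hPz⟩ := exists_eval hz
    obtain ⟨Q, hQ, hQw⟩ := exists_eval hw
    have hco := hf j (MvPolynomial.C b * P - MvPolynomial.C a * Q)
      ((hP.C_mul b).sub (hQ.C_mul a)) (by simpa [hPz, hQw, haw] using hq₁)
    have hP' : ∀ d, P.coeff d ∈ Ideal.span (Set.range f) ⊔ Ideal.span {a} := fun d => hb _ (by
      have := hco d
      rw [MvPolynomial.coeff_sub, MvPolynomial.coeff_C_mul, MvPolynomial.coeff_C_mul] at this
      have h2 := Ideal.add_mem (Ideal.span (Set.range f) ⊔ Ideal.span {a}) (Ideal.mem_sup_left this)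
        (Ideal.mem_sup_right (Ideal.mem_span_singleton'.mpr ⟨Q.coeff d, rfl⟩))
      simpa [mul_comm a] using h2)
    have hz' := eval_mem_mul_pow (f := f) hP hP'
    rw [hPz, Ideal.sup_mul] at hz'
    have hz'' : z ∈ Ideal.span (Set.range f) ^ (j + 1) ⊔ Ideal.span {a} := by
      rw [pow_succ']
      have hle : Ideal.span {a} * Ideal.span (Set.range f) ^ j ≤ Ideal.span {a} := Ideal.mul_le_left
      exact sup_le_sup (le_refl (Ideal.span (Set.range f) * Ideal.span (Set.range f) ^ j)) hle hz'
    exact Ideal.add_mem _ hz'' (Ideal.mem_sup_right (Ideal.mem_span_singleton'.mpr ⟨y, rfl⟩))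

end

section
variable {A : Type u} [CommRing A] (I : Ideal A) (P : Ideal (A ⧸ I)) [P.IsPrime]

/-- Localisation of a quotient as a quotient of the localisation. -/
theorem exists_quotientLocalization (Pt : Ideal A) [Pt.IsPrime] (hPt : Pt = P.comap (Ideal.Quotient.mk I)) :
    ∃ φ : Localization.AtPrime Pt →+* Localization.AtPrime P,
      Function.Surjective φ ∧
      RingHom.ker φ = I.map (algebraMap A (Localization.AtPrime Pt)) ∧
      IsLocalHom φ := by
  subst hPt
  let φ := Localization.localRingHom (P.comap (Ideal.Quotient.mk I)) P (Ideal.Quotient.mk I) rfl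
  have hφ : Function.Surjective φ := by
    intro z
    obtain ⟨x, s, rfl⟩ := IsLocalization.exists_mk'_eq P.primeCompl z
    obtain ⟨x', rfl⟩ := Ideal.Quotient.mk_surjective x
    obtain ⟨s', hs'⟩ := Ideal.Quotient.mk_surjective (s : A ⧸ I)
    have hs : s' ∈ (P.comap (Ideal.Quotient.mk I)).primeCompl := fun h => s.2 (hs' ▸ h)
    refine ⟨IsLocalization.mk' _ x' ⟨s', hs⟩, ?_⟩
    rw [Localization.localRingHom_mk']
    congr 1
    exact Subtype.ext hs'
  refine ⟨φ, hφ, le_antisymm ?_ ?_, inferInstance⟩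
  · intro z hz
    obtain ⟨x, s, rfl⟩ := IsLocalization.exists_mk'_eq (P.comap (Ideal.Quotient.mk I)).primeCompl z
    rw [RingHom.mem_ker, Localization.localRingHom_mk', IsLocalization.mk'_eq_zero_iff] at hz
    obtain ⟨t, ht⟩ := hz
    obtain ⟨t', ht'⟩ := Ideal.Quotient.mk_surjective (t : A ⧸ I)
    have ht'' : t' * x ∈ I := by rw [← Ideal.Quotient.eq_zero_iff_mem, map_mul, ht', ht]
    have hu : IsUnit (algebraMap A (Localization.AtPrime (P.comap (Ideal.Quotient.mk I))) t') :=
      IsLocalization.map_units _ (⟨t', fun h => t.2 (ht' ▸ h)⟩ :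
        (P.comap (Ideal.Quotient.mk I)).primeCompl)
    have := Ideal.mem_map_of_mem (algebraMap A (Localization.AtPrime (P.comap (Ideal.Quotient.mk I)))) ht''
    rw [map_mul, Ideal.unit_mul_mem_iff_mem _ hu] at this
    rw [IsLocalization.mk'_eq_mul_mk'_one x]
    exact Ideal.mul_mem_right _ _ this
  · refine Ideal.map_le_iff_le_comap.mpr fun x hx => ?_
    rw [Ideal.mem_comap, RingHom.mem_ker, Localization.localRingHom_to_map,
      Ideal.Quotient.eq_zero_iff_mem.mpr hx, map_zero]

end

/-- Non-regular primes of a normal Noetherian domain have height at least two. -/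
theorem two_le_height_of_not_regular {A : Type u} [CommRing A] [IsDomain A] [IsNoetherianRing A]
    [IsIntegrallyClosed A] (x : PrimeSpectrum A) (hx : x ∉ EGA4.regLocus A) : 2 ≤ x.asIdeal.height := by
  by_contra h
  have hle : x.asIdeal.height ≤ 1 := Order.le_of_lt_add_one (by rw [one_add_one_eq_two]; exact not_le.mp h)
  apply hx
  let L := Localization.AtPrime x.asIdeal
  haveI : IsIntegrallyClosed L :=
    isIntegrallyClosed_of_isLocalization L x.asIdeal.primeCompl x.asIdeal.primeCompl_le_nonZeroDivisors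
  haveI : Ring.KrullDimLE 1 L := by
    rw [Ring.krullDimLE_iff, IsLocalization.AtPrime.ringKrullDim_eq_height x.asIdeal L]
    exact_mod_cast hle
  haveI : Ring.DimensionLEOne L := ⟨fun {q} h1 h2 => h2.isMaximal_of_ne_bot h1⟩
  haveI : IsDedekindRing L := { }
  haveI : IsDedekindDomain L := { }
  haveI : IsPrincipalIdealRing L := IsPrincipalIdealRing.of_finite_primes
    ((Set.finite_singleton (IsLocalRing.maximalIdeal L) |>.insert (⊥ : Ideal L)).subset fun I hI => by
      rcases eq_or_ne I ⊥ with h | h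
      · exact Or.inl h
      · exact Or.inr (IsLocalRing.eq_maximalIdeal (hI.isMaximal_of_ne_bot h)))
  exact (inferInstance : IsRegularLocalRing L)

theorem bijective_map_congr {X : Scheme.{u}} {A B : X.Opens} (e : A = B) (h : A ≤ ⊤) (h' : B ≤ ⊤)
    (hbij : Function.Bijective (X.presheaf.map (homOfLE h).op).hom) :
    Function.Bijective (X.presheaf.map (homOfLE h').op).hom := by
  subst e
  exact hbij

/-- Let A be an excellent normal domain, J the radical ideal of A whose zero set is the set of
non-regular points of Spec A, and p a prime ideal of A generated by an A-regular sequence, such that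
A/p is normal and ht(p) + ht(J) ≤ ht(p + J). Let U be an open subset of Spec A which contains every
regular point of V(p) and whose complement consists of points of height at least 2. Then for every m
≥ 1 the restriction map from Γ(Spec(A/p^m), O) to the sections of O over the inverse image of U in
Spec(A/p^m) is bijective. (The published lemma asserts the corresponding bijection after p-adic
completion, for every finitely generated reflexive A-module in place of A; stated here, for A
itself, is the bijection at each finite level m which its proof establishes.) -/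
theorem result
    (A : Type u) [CommRing A] [IsDomain A] [IsIntegrallyClosed A] (hA : EGA4.IsExcellent A)
    (J : Ideal A) (hJrad : J.IsRadical)
    (hJ : ∀ x : PrimeSpectrum A, J ≤ x.asIdeal ↔ x ∉ EGA4.regLocus A)
    (p : Ideal A) [p.IsPrime] (rs : List A) (hrs : RingTheory.Sequence.IsRegular A rs)
    (hp : Ideal.ofList rs = p) (hnorm : IsIntegrallyClosed (A ⧸ p))
    (hht : p.height + J.height ≤ (p ⊔ J).height)
    (U : (Spec (CommRingCat.of A)).Opens)
    (hUreg : ∀ x : PrimeSpectrum A, p ≤ x.asIdeal → x ∈ EGA4.regLocus A → x ∈ U.1)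
    (hUcodim : ∀ x : PrimeSpectrum A, x ∉ U.1 → (2 : ℕ∞) ≤ x.asIdeal.height)
    (m : ℕ) (hm : 1 ≤ m) :
    Function.Bijective ((Spec (CommRingCat.of (A ⧸ p ^ m))).presheaf.map
      (homOfLE (le_top : Spec.map (CommRingCat.ofHom (Ideal.Quotient.mk (p ^ m))) ⁻¹ᵁ U ≤ ⊤)).op).hom := by
  haveI : IsNoetherianRing A := hA.1
  obtain ⟨c, f, hfr⟩ : ∃ (c : ℕ) (f : Fin c → A), List.ofFn f = rs := ⟨_, rs.get, List.ofFn_get rs⟩
  have hqr : ∀ {S : Type u} [CommRing S] [Algebra A S] (T : Submonoid A) [IsLocalization T S],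
      CAlgX.IsQuasiRegular (algebraMap A S ∘ f) := by
    intro S _ _ T _
    refine Groth.EGA41Two.isQuasiRegular_of_isWeaklyRegular _ ?_
    rw [← List.map_ofFn, hfr]
    exact RingTheory.Sequence.IsWeaklyRegular.of_isLocalization S T hrs.toIsWeaklyRegular
  have hspan : Ideal.span (Set.range f) = p := by
    rw [← hp, ← hfr, Ideal.ofList]
    congr 1
    ext z
    simp [List.mem_ofFn]
  set U' := Spec.map (CommRingCat.ofHom (Ideal.Quotient.mk (p ^ m))) ⁻¹ᵁ U with hU'
  have key : ∀ z : Spec (CommRingCat.of (A ⧸ p ^ m)), z ∉ U' →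
      ∃ a b : Localization.AtPrime (PrimeSpectrum.asIdeal z),
        a ∈ IsLocalRing.maximalIdeal _ ∧ b ∈ IsLocalRing.maximalIdeal _ ∧
        RingTheory.Sequence.IsWeaklyRegular (Localization.AtPrime (PrimeSpectrum.asIdeal z)) [a, b] := by
    intro z hz
    let P : Ideal (A ⧸ p ^ m) := PrimeSpectrum.asIdeal z
    let Pt : Ideal A := P.comap (Ideal.Quotient.mk (p ^ m))
    have hpP : p ≤ Pt := fun y hy => Ideal.IsPrime.mem_of_pow_mem inferInstance m
      (show Ideal.Quotient.mk (p ^ m) (y ^ m) ∈ P by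
        rw [Ideal.Quotient.eq_zero_iff_mem.mpr (Ideal.pow_mem_pow hy m)]; exact P.zero_mem)
    let x : PrimeSpectrum A := ⟨Pt, inferInstance⟩
    have hxU : x ∉ U.1 := hz
    have hxJ : J ≤ Pt := (hJ x).mpr fun h => hxU (hUreg x hpP h)
    have hPh : p.height + 2 ≤ Pt.height := by
      refine le_trans ?_ (hht.trans (Ideal.height_mono (sup_le hpP hxJ)))
      refine add_le_add le_rfl ?_
      rw [Ideal.height_eq_inf_minimalPrimes]
      refine le_iInf₂ fun q hq => ?_
      haveI : q.IsPrime := hq.1.1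
      exact two_le_height_of_not_regular ⟨q, inferInstance⟩ ((hJ ⟨q, inferInstance⟩).mp hq.1.2)
    -- the quotient by `p`
    haveI : IsDomain (A ⧸ p) := Ideal.Quotient.isDomain p
    let Pb : Ideal (A ⧸ p) := Pt.map (Ideal.Quotient.mk p)
    haveI : Pb.IsPrime := Ideal.map_isPrime_of_surjective Ideal.Quotient.mk_surjective (by rwa [Ideal.mk_ker])
    have hPb : Pb.comap (Ideal.Quotient.mk p) = Pt := by
      rw [Ideal.comap_map_of_surjective _ Ideal.Quotient.mk_surjective, ← RingHom.ker_eq_comap_bot,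
        Ideal.mk_ker, sup_eq_left.mpr hpP]
    have hcat : CAlg.IsCatenary A := hA.2.1.2 A inferInstance
    have hb2 : 2 ≤ Pb.height := by
      have h1 := (Groth.FibreDim.height_quotient_add (Ideal.Quotient.mk p) Ideal.Quotient.mk_surjective Pb).2 hcat
      rw [hPb, Ideal.mk_ker] at h1
      rw [← h1, add_comm p.height 2] at hPh
      exact (ENat.add_le_add_iff_right (Ideal.height_ne_top (Ideal.IsPrime.ne_top inferInstance))).mp hPh
    let S := Localization.AtPrime Pb
    haveI : IsIntegrallyClosed S :=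
      isIntegrallyClosed_of_isLocalization S Pb.primeCompl Pb.primeCompl_le_nonZeroDivisors
    obtain ⟨a', b', ha', hb', hab'⟩ := Groth.PicAux.exists_regular_pair (A := S)
      (Groth.RefRank.two_le_depth_of_normal (by
        rw [IsLocalization.AtPrime.ringKrullDim_eq_height Pb S]; exact WithBot.coe_le_coe.mpr hb2))
    rw [isWeaklyRegular_pair_iff] at hab'
    obtain ⟨ψ, hψ, hψk, hψl⟩ := exists_quotientLocalization p Pb Pt hPb.symm
    obtain ⟨a, rfl⟩ := hψ a'
    obtain ⟨b, rfl⟩ := hψ b'
    let R := Localization.AtPrime Pt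
    have hq : Ideal.span (Set.range (algebraMap A R ∘ f)) = RingHom.ker ψ := by
      rw [hψk, Set.range_comp, ← Ideal.map_span, hspan]
    have haq : ∀ r, a * r ∈ RingHom.ker ψ → r ∈ RingHom.ker ψ := fun r hr => by
      rw [RingHom.mem_ker] at hr ⊢
      exact hab'.1 _ (by rw [← map_mul, hr])
    have hbq : ∀ r, b * r ∈ RingHom.ker ψ ⊔ Ideal.span {a} → r ∈ RingHom.ker ψ ⊔ Ideal.span {a} := by
      intro r hr
      have h1 : ∀ s, s ∈ RingHom.ker ψ ⊔ Ideal.span {a} ↔ ψ s ∈ Ideal.span {ψ a} := fun s => by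
        rw [← Set.image_singleton, ← Ideal.map_span, ← Ideal.mem_comap,
          Ideal.comap_map_of_surjective ψ hψ, sup_comm, RingHom.ker_eq_comap_bot]
      rw [h1] at hr ⊢
      exact hab'.2 _ (by rwa [← map_mul])
    rw [← hq] at haq hbq
    obtain ⟨φ, hφ, hφk, hφl⟩ := exists_quotientLocalization (p ^ m) P Pt rfl
    have hφk' : RingHom.ker φ = Ideal.span (Set.range (algebraMap A R ∘ f)) ^ m := by
      rw [hφk, Ideal.map_pow, Set.range_comp, ← Ideal.map_span, hspan]
    refine ⟨φ a, φ b, ?_, ?_, (isWeaklyRegular_pair_iff _ _).mpr ⟨fun y hy => ?_, fun y hy => ?_⟩⟩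
    · exact map_nonunit φ a fun h => ha' (h.map ψ)
    · exact map_nonunit φ b fun h => hb' (h.map ψ)
    · obtain ⟨r, rfl⟩ := hφ y
      rw [← map_mul, ← RingHom.mem_ker, hφk'] at hy
      rw [← RingHom.mem_ker, hφk']
      exact mem_pow_of_mul_mem (hqr Pt.primeCompl) haq m hy
    · obtain ⟨r, rfl⟩ := hφ y
      have h1 : ∀ s, s ∈ RingHom.ker φ ⊔ Ideal.span {a} ↔ φ s ∈ Ideal.span {φ a} := fun s => by
        rw [← Set.image_singleton, ← Ideal.map_span, ← Ideal.mem_comap,
          Ideal.comap_map_of_surjective φ hφ, sup_comm, RingHom.ker_eq_comap_bot]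
      rw [← map_mul, ← h1, hφk'] at hy
      rw [← h1, hφk']
      exact mem_pow_sup_of_mul_mem (hqr Pt.primeCompl) haq hbq m hy
  have hbij : Function.Bijective (U'.ι.app ⊤) :=
    Groth.Pi1Depth.bijective_app_of_affine U'.ι (fun V hV => Misc7.DepthTwo.bijective_app (fun z hz =>
      Groth.Pi1Depth.exists_pair_of_ringEquiv (B := (Spec (CommRingCat.of (A ⧸ p ^ m))).presheaf.stalk z)
        (IsLocalization.algEquiv (PrimeSpectrum.asIdeal z).primeCompl (Localization.AtPrime (PrimeSpectrum.asIdeal z))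
          ((Spec.structureSheaf (A ⧸ p ^ m)).presheaf.stalk z)).toRingEquiv (key z hz)) hV) ⊤
  rw [Scheme.Opens.ι_app] at hbij
  exact bijective_map_congr (X := Spec (CommRingCat.of (A ⧸ p ^ m)))
    U'.ι_image_top _ _ hbij

end Groth.Agent.S16668
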