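import Groth.Statements.S16673
import Groth.Agent.AbVarMul.IsogenyPts

set_option autoImplicit false
universe u
open CategoryTheory CategoryTheory.Limits MonoidalCategory CartesianMonoidalCategory MonObj GrpObj AlgebraicGeometry
open AbVar

namespace Groth.Agent.S16673

/-- Let k be a field of characteristic p > 0 with an algebraic closure k̄, let X and Y be abelian
varieties over k (proper, geometrically integral, commutative k-group schemes) and let h : X → Y be
a homomorphism which is finite and surjective (an isogeny). If i and j are natural numbers such that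
for every m ≥ 0 the group X[p^m](k̄) of k̄-valued points of X killed by p^m (k̄-valued points being
the k-morphisms Spec k̄ → X, a group under the group law of X) is isomorphic to (ℤ/p^m)^i and the
group Y[p^m](k̄) is isomorphic to (ℤ/p^m)^j (groups of points written multiplicatively), then i = j:
the p-rank is an isogeny invariant. -/
theorem result (k : Type u) [Field k] (p : ℕ) [Fact p.Prime] [CharP k p]
    (X Y : Over (Spec (CommRingCat.of k)))
    [GrpObj X] [IsCommMonObj X] [IsProper X.hom] [GeometricallyIntegral X.hom]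
    [GrpObj Y] [IsCommMonObj Y] [IsProper Y.hom] [GeometricallyIntegral Y.hom]
    (h : X ⟶ Y) [IsMonHom h] [IsFinite h.left] [Surjective h.left]
    (i j : ℕ)
    (hi : ∀ m : ℕ, Nonempty (AbDual.torsPts X (p ^ m)
      (Over.mk (Spec.map (CommRingCat.ofHom (algebraMap k (AlgebraicClosure k))))) ≃*
      Multiplicative (Fin i → ZMod (p ^ m))))
    (hj : ∀ m : ℕ, Nonempty (AbDual.torsPts Y (p ^ m)
      (Over.mk (Spec.map (CommRingCat.ofHom (algebraMap k (AlgebraicClosure k))))) ≃*
      Multiplicative (Fin j → ZMod (p ^ m)))) :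
    i = j := by
  have key : ∀ (U V : Over (Spec (CommRingCat.of k))) [GrpObj U] [IsCommMonObj U] [IsProper U.hom]
      [GeometricallyIntegral U.hom] [GrpObj V] [IsCommMonObj V] [IsProper V.hom]
      [GeometricallyIntegral V.hom] (f : U ⟶ V) [IsMonHom f]
      (_ : {x : SGA7.pt (K := k) (AlgebraicClosure k) ⟶ U | x ≫ f = 1}.Finite) (a b : ℕ)
      (_ : AbDual.torsPts U p (SGA7.pt (K := k) (AlgebraicClosure k)) ≃* Multiplicative (Fin a → ZMod p))
      (_ : AbDual.torsPts V p (SGA7.pt (K := k) (AlgebraicClosure k)) ≃* Multiplicative (Fin b → ZMod p)),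
      a ≤ b := by
    intro U V _ _ _ _ _ _ _ _ f _ hfin a b ea eb
    have hp := (Fact.out : p.Prime).ne_zero
    obtain ⟨EU⟩ := Groth.AbVarMul.nonempty_tateMod_linearEquiv (A := U)
      (Groth.AbVarMul.exists_pow_eq_bc (AlgebraicClosure k) hp) ea
    obtain ⟨EV⟩ := Groth.AbVarMul.nonempty_tateMod_linearEquiv (A := V)
      (Groth.AbVarMul.exists_pow_eq_bc (AlgebraicClosure k) hp) eb
    have hinj : Function.Injective ((EV.symm.toLinearMap ∘ₗ AbDual.tateMapₗ f) ∘ₗ EU.toLinearMap) :=
      (EV.symm.injective.comp (Groth.AbVarMul.tateMapₗ_injective_of_finite f hfin)).comp EU.injective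
    have := LinearMap.finrank_le_finrank_of_injective hinj
    rwa [Module.finrank_fin_fun, Module.finrank_fin_fun] at this
  obtain ⟨e₁⟩ := hi 1
  obtain ⟨e₂⟩ := hj 1
  rw [pow_one] at e₁ e₂
  refine le_antisymm (key X Y h (Groth.AbVarMul.finite_ker_bc (AlgebraicClosure k) h) i j e₁ e₂) ?_
  -- a quasi inverse
  have := Groth.Abvar.isIntegral_left X
  have := Groth.Abvar.isIntegral_left Y
  have := Groth.Abvar.Hom.flat_of_surjective h
  have := Groth.AlgGrp1.lfp_left h
  set n := Scheme.Hom.finrank h.left (η[Y].left (IsLocalRing.closedPoint k)) with hn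
  have hn0 : 0 < n := (Scheme.Hom.one_le_finrank_iff_surjective h.left).2 ‹_› _
  have : IsMonHom (𝟙 X ^ n : X ⟶ X) := by rw [← zpow_natCast]; infer_instance
  obtain ⟨g, hg, hfg⟩ := Groth.AbVarMul.exists_factor_of_flat h (𝟙 X ^ n : X ⟶ X)
    (Groth.AbVarMul.kills_kernel_pow h n fun s => by rw [hn, Subsingleton.elim s (IsLocalRing.closedPoint k)])
  refine key Y X g ?_ j i e₂ e₁
  have hfinn : {x : SGA7.pt (K := k) (AlgebraicClosure k) ⟶ X | x ≫ (𝟙 X ^ n : X ⟶ X) = 1}.Finite := by
    have hiso := (Groth.AbVarMul.isogeny_zpow (A := X) (d := (n : ℤ)) (by exact_mod_cast hn0.ne')).1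
    rw [zpow_natCast] at hiso
    exact Groth.AbVarMul.finite_ker_bc (AlgebraicClosure k) _
  refine (hfinn.image fun x => x ≫ h).subset fun y hy => ?_
  obtain ⟨x, rfl⟩ := Groth.AbVarMul.exists_comp_eq_bc (AlgebraicClosure k) h y
  exact ⟨x, by show x ≫ _ = 1; rw [← hfg, ← Category.assoc]; exact hy, rfl⟩


end Groth.Agent.S16673
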