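import Groth.Statements.S16674
import Groth.Agent.Sga3.HopfFiniteDescent
import Groth.Agent.Misc1.Unip.DimOne.Basic
import Groth.Agent.Misc1.Unip.LieKolchin
import Mathlib.RingTheory.Unramified.Field
import Mathlib.LinearAlgebra.Dimension.Constructions
import Mathlib.GroupTheory.Perm.Cycle.Type

set_option autoImplicit false
universe u
open CartDual

namespace Groth.Agent.S16674

open WithConv Groth.Misc1.Unip
open scoped TensorProduct

attribute [local instance 100] convGrpC

theorem card_points {k K A : Type u} [Field k] [Field K] [IsAlgClosed K] [Algebra k K] [CommRing A] [Algebra k A]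
    [Algebra.Etale k A] [FiniteDimensional k A] : Nat.card (A →ₐ[k] K) = Module.finrank k A := by
  haveI : Algebra.Etale K (K ⊗[k] A) := inferInstance
  haveI : IsReduced (K ⊗[k] A) := Algebra.FormallyUnramified.isReduced_of_field K (K ⊗[k] A)
  haveI : Fintype (K ⊗[k] A →ₐ[K] K) := Fintype.ofFinite _
  have hli : LinearIndependent K (fun g : K ⊗[k] A →ₐ[K] K => g.toLinearMap) := linearIndependent_algHom_toLinearMap K (K ⊗[k] A) K
  have hspan : Submodule.span K (Set.range fun g : K ⊗[k] A →ₐ[K] K => g.toLinearMap) = ⊤ := by
    rw [← Subspace.dualCoannihilator_dualAnnihilator_eq (W := Submodule.span K (Set.range fun g : K ⊗[k] A →ₐ[K] K => g.toLinearMap)),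
      Submodule.dualAnnihilator_eq_top_iff, eq_bot_iff]
    intro x hx
    rw [Submodule.mem_bot]
    refine DimOne.eq_zero_of_points (k := K) fun g => ?_
    exact (Submodule.mem_dualCoannihilator _).1 hx _ (Submodule.subset_span ⟨g, rfl⟩)
  have h2 := Module.finrank_eq_card_basis (Module.Basis.mk hli hspan.ge)
  rw [Subspace.dual_finrank_eq, Module.finrank_baseChange] at h2
  rw [h2, ← Nat.card_eq_fintype_card]
  exact (Nat.card_congr (AlgHom.liftEquiv k K A K)).symm.symm

theorem not_dvd {k : Type u} [Field k] (p : ℕ) [Fact p.Prime] [CharP k p] {A : Type u} [CommRing A]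
    [HopfAlgebra k A] [Coalgebra.IsCocomm k A] [FiniteDimensional k A] [Algebra.Etale k A]
    [Algebra.Etale k (CartDual.D k A)] : ¬ p ∣ Module.finrank k A := by
  classical
  intro hp
  let K := AlgebraicClosure k
  haveI : IsReduced (K ⊗[k] CartDual.D k A) :=
    Algebra.FormallyUnramified.isReduced_of_field K (K ⊗[k] CartDual.D k A)
  let W := WithConv (A →ₗ[k] K)
  have hsm : ∀ (c : K) (w : W) (a : A), (c • w).ofConv a = c * w.ofConv a := fun _ _ _ => rfl
  have hsm' : ∀ (c : k) (w : W) (a : A), (c • w).ofConv a = c • w.ofConv a := fun _ _ _ => rfl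
  have hadd : ∀ (w w' : W) (a : A), (w + w').ofConv a = w.ofConv a + w'.ofConv a := fun _ _ _ => rfl
  have hone : ∀ a : A, (1 : W).ofConv a = algebraMap k K (Coalgebra.counit (R := k) a) := fun a => by
    simp [LinearMap.convOne_def]
  haveI : Nontrivial A := (Bialgebra.counitAlgHom k A).toRingHom.domain_nontrivial
  let eK : K →ₐ[k] W :=
    { toFun := fun c => c • (1 : W)
      map_one' := one_smul K _
      map_mul' := fun c d => WithConv.ext (LinearMap.ext fun a => by
        change (c * d) • ((1 : W).ofConv a) = LinearMap.mul' k K (TensorProduct.map (c • (1 : W)).ofConv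
          (d • (1 : W)).ofConv (Coalgebra.comul (R := k) a))
        have h1 : (1 : W).ofConv a = ((1 : W) * 1).ofConv a := by rw [one_mul]
        rw [h1, LinearMap.convMul_apply]
        generalize Coalgebra.comul (R := k) a = z
        induction z using TensorProduct.induction_on with
        | zero => simp
        | tmul x y => simp [hsm, hone, mul_mul_mul_comm]
        | add x y hx hy => simp only [map_add, smul_add, hx, hy])
      map_zero' := zero_smul K _
      map_add' := fun c d => add_smul c d _
      commutes' := fun c => WithConv.ext (LinearMap.ext fun a => by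
        rw [hsm, Algebra.algebraMap_eq_smul_one (A := W), hsm', Algebra.smul_def]) }
  let eD : CartDual.D k A →ₐ[k] W :=
    { toFun := fun x => toConv ((Algebra.linearMap k K) ∘ₗ x.ofConv)
      map_one' := WithConv.ext (LinearMap.ext fun a => by simp [LinearMap.convOne_def])
      map_mul' := fun x y => WithConv.ext (LinearMap.ext fun a => by
        change algebraMap k K ((x * y).ofConv a) = LinearMap.mul' k K (TensorProduct.map
          (Algebra.linearMap k K ∘ₗ x.ofConv) (Algebra.linearMap k K ∘ₗ y.ofConv) (Coalgebra.comul (R := k) a))
        rw [LinearMap.convMul_apply]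
        generalize Coalgebra.comul (R := k) a = z
        induction z using TensorProduct.induction_on with
        | zero => simp
        | tmul x y => simp
        | add x y hx hy => simp only [map_add, hx, hy])
      map_zero' := WithConv.ext (LinearMap.ext fun a => by simp)
      map_add' := fun x y => WithConv.ext (LinearMap.ext fun a => by simp [hadd])
      commutes' := fun c => WithConv.ext (LinearMap.ext fun a => by
        change algebraMap k K ((algebraMap k (CartDual.D k A) c).ofConv a) = _
        rw [Algebra.algebraMap_eq_smul_one (A := CartDual.D k A), Algebra.algebraMap_eq_smul_one (A := W), hsm', hone,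
          show (c • (1 : CartDual.D k A)).ofConv a = c * (1 : CartDual.D k A).ofConv a from rfl]
        simp [LinearMap.convOne_def, Algebra.smul_def]) }
  let Φ : K ⊗[k] CartDual.D k A →ₐ[k] W := Algebra.TensorProduct.lift eK eD fun _ _ => Commute.all _ _
  have hΦ : Function.Bijective Φ := by
    let b := Module.Free.chooseBasis k A
    have hb : ∀ (c : K) (x : CartDual.D k A) (i), (Φ (c ⊗ₜ x)).ofConv (b i) = c * algebraMap k K (x.ofConv (b i)) := by
      intro c x i
      change ((c • (1 : W)) * eD x).ofConv (b i) = _
      have : (c • (1 : W)) * eD x = c • eD x := WithConv.ext (LinearMap.ext fun a => by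
        change _ = c • (eD x).ofConv a
        rw [show (eD x).ofConv a = ((1 : W) * eD x).ofConv a by rw [one_mul],
          LinearMap.convMul_apply, LinearMap.convMul_apply]
        generalize Coalgebra.comul (R := k) a = z
        induction z using TensorProduct.induction_on with
        | zero => simp
        | tmul p q => simp [hsm, hone, mul_assoc]
        | add p q hp hq => simp only [map_add, smul_add, hp, hq])
      rw [this]
      rfl
    let d : Module.Basis _ k (CartDual.D k A) := b.dualBasis.map (CartDual.toDual k A).symm
    refine ⟨(injective_iff_map_eq_zero _).2 fun z hz => ?_, fun w => ?_⟩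
    · refine (TensorProduct.equivFinsuppOfBasisRight d).injective (Finsupp.ext fun i => ?_)
      rw [map_zero, Finsupp.zero_apply]
      have e : ∀ z : K ⊗[k] CartDual.D k A, TensorProduct.equivFinsuppOfBasisRight d z i = (Φ z).ofConv (b i) := by
        intro z
        induction z using TensorProduct.induction_on with
        | zero => simp
        | tmul c x =>
          rw [hb, TensorProduct.equivFinsuppOfBasisRight_apply_tmul_apply, Algebra.smul_def, mul_comm]
          congr 2
          simp [d, Module.Basis.dualBasis_repr]
        | add p q hp hq => simp only [map_add, Finsupp.add_apply, hadd, hp, hq]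
      rw [e, hz]
      rfl
    · refine ⟨∑ i, w.ofConv (b i) ⊗ₜ d i, WithConv.ext (b.ext fun j => ?_)⟩
      rw [map_sum, WithConv.ofConv_sum, LinearMap.sum_apply, Finset.sum_eq_single j (fun i _ hne => ?_)
        (fun h => (h (Finset.mem_univ j)).elim)]
      · simp [hb, d, Module.Basis.dualBasis_apply_self]
      · simp [hb, d, Module.Basis.dualBasis_apply_self, Ne.symm hne]
  haveI : IsReduced W := isReduced_of_injective (AlgEquiv.ofBijective Φ hΦ).symm
    (AlgEquiv.ofBijective Φ hΦ).symm.injective
  have hcard : Nat.card (WithConv (A →ₐ[k] K)) = Module.finrank k A := by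
    rw [← card_points (K := K) (k := k) (A := A)]
    exact Nat.card_congr ⟨WithConv.ofConv, WithConv.toConv, fun _ => rfl, fun _ => rfl⟩
  haveI : Finite (WithConv (A →ₐ[k] K)) := Nat.finite_of_card_ne_zero (by
    rw [hcard]; exact Module.finrank_pos.ne')
  obtain ⟨g, hg⟩ := exists_prime_orderOf_dvd_card' (G := WithConv (A →ₐ[k] K)) p (hcard ▸ hp)
  let lin : WithConv (A →ₐ[k] K) →* W :=
    { toFun := fun f => toConv f.ofConv.toLinearMap
      map_one' := AlgHom.toLinearMap_convOne
      map_mul' := fun f h => AlgHom.toLinearMap_convMul f h }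
  haveI : CharP K p := charP_of_injective_algebraMap' k p
  haveI : Nontrivial W := ⟨⟨0, 1, fun h => by
    have := congrArg (fun w : W => w.ofConv 1) h
    simp [LinearMap.convOne_def] at this⟩⟩
  haveI : CharP W p := charP_of_injective_algebraMap' k p
  have h1 : (lin g - 1) ^ p = 0 := by
    rw [sub_pow_char, one_pow, ← map_pow, ← hg, pow_orderOf_eq_one, map_one, sub_self]
  have h2 : lin g = 1 := sub_eq_zero.1 (IsReduced.eq_zero _ ⟨p, h1⟩)
  have : g = 1 := WithConv.ofConv_injective (AlgHom.ext fun a => by
    have := congrArg (fun w : W => w.ofConv a) h2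
    simpa [lin, LinearMap.convOne_def] using this)
  rw [this, orderOf_one] at hg
  exact (Fact.out : p.Prime).one_lt.ne hg

/-- Let k be a field of characteristic p > 0 and A a finite-dimensional commutative and cocommutative
Hopf algebra over k, the coordinate ring of a finite commutative k-group scheme G, with Cartier dual
the convolution Hopf algebra Hom_k(A, k). Then G is étale-étale, i.e. both A and its dual are étale
k-algebras, if and only if p does not divide the rank dim_k A of G. -/
theorem result (k : Type u) [Field k] (p : ℕ) [Fact p.Prime] [CharP k p]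
    (A : Type u) [CommRing A] [HopfAlgebra k A] [Coalgebra.IsCocomm k A] [FiniteDimensional k A] :
    (Algebra.Etale k A ∧ Algebra.Etale k (CartDual.D k A)) ↔ ¬ p ∣ Module.finrank k A := by
  refine ⟨fun ⟨h1, h2⟩ => ?_, fun h => ?_⟩
  · haveI := h1
    haveI := h2
    exact not_dvd p
  · have hne : (Module.finrank k A : k) ≠ 0 := fun h0 => h ((CharP.cast_eq_zero_iff k p _).1 h0)
    refine ⟨Groth.Sga3.HopfFin.etale_of_rank_ne_zero k A hne, Groth.Sga3.HopfFin.etale_of_rank_ne_zero k (CartDual.D k A) ?_⟩
    rwa [LinearEquiv.finrank_eq (CartDual.toDual k A), Subspace.dual_finrank_eq]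

end Groth.Agent.S16674
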