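import Groth.Statements.S16676
import Groth.Agent.AbVarMul.Relative

set_option autoImplicit false
universe u
open CategoryTheory CategoryTheory.Limits MonoidalCategory CartesianMonoidalCategory MonObj GrpObj AlgebraicGeometry
open AbVar

namespace Groth.Agent.S16676

/-- The equivalence of its second and third conditions. Let X and Y be abelian varieties over a field k
(proper, geometrically integral k-group schemes), f : X → Y a homomorphism which is finite, flat and
surjective (an isogeny), and i : N → X the kernel of f (the square formed by i, f, the unit section
of Y and the structure map of N is cartesian). Then f is universally injective (a purely inseparable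
morphism) if and only if the scheme N is connected. (The published item also includes the equivalent
condition that the function field of X is purely inseparable over that of Y; that clause is not part
of this statement.) -/
theorem result (k : Type u) [Field k]
    (X Y : Over (Spec (CommRingCat.of k)))
    [GrpObj X] [IsProper X.hom] [GeometricallyIntegral X.hom]
    [GrpObj Y] [IsProper Y.hom] [GeometricallyIntegral Y.hom]
    (f : X ⟶ Y) [IsMonHom f] [IsFinite f.left] [Flat f.left] [Surjective f.left]
    (N : Over (Spec (CommRingCat.of k))) (i : N ⟶ X) (hN : AlgGrp.IsKernel i f) :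
    UniversallyInjective f.left ↔ ConnectedSpace ↥N.left := by
  have hfin : IsFinite N.hom :=
    MorphismProperty.of_isPullback (P := @IsFinite) ((IsPullback.map (Over.forget _) hN)) ‹_›
  obtain ⟨e, he⟩ := (Groth.AlgGrp1.IsKernel.exists_iff hN (η[X] : 𝟙_ (Over (Spec (CommRingCat.of k))) ⟶ X)).2
    ((IsMonHom.one_hom f).trans (MonObj.one_eq_one Y))
  constructor
  · intro hf
    have : UniversallyInjective N.hom := MorphismProperty.of_isPullback (P := @UniversallyInjective) ((IsPullback.map (Over.forget _) hN)) hf
    have : Subsingleton ↥N.left := N.hom.injective.subsingleton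
    have : Nonempty ↥N.left := ⟨e.left (IsLocalRing.closedPoint k)⟩
    infer_instance
  · intro hconn
    have : IsLocallyArtinian (Spec (CommRingCat.of k)) := inferInstance
    have : IsLocallyArtinian N.left := .of_locallyQuasiFinite N.hom
    have : Subsingleton ↥N.left := PreconnectedSpace.trivial_of_discrete
    have hes : Surjective e.left := ⟨fun x => ⟨IsLocalRing.closedPoint k, Subsingleton.elim _ _⟩⟩
    have hsec : e.left ≫ N.hom = 𝟙 _ := Over.w e
    have hui : UniversallyInjective N.hom := by
      rw [UniversallyInjective.iff_diagonal]
      have h1 : e.left ≫ pullback.diagonal N.hom = pullback.diagonal (e.left ≫ N.hom) ≫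
          pullback.map (e.left ≫ N.hom) (e.left ≫ N.hom) N.hom N.hom e.left e.left (𝟙 _)
            (by simp) (by simp) := by
        apply pullback.hom_ext
        · simp only [Category.assoc, pullback.diagonal_fst, Category.comp_id]
          erw [pullback.lift_fst, pullback.diagonal_fst_assoc]
        · simp only [Category.assoc, pullback.diagonal_snd, Category.comp_id]
          erw [pullback.lift_snd, pullback.diagonal_snd_assoc]
      have : Surjective (pullback.map (e.left ≫ N.hom) (e.left ≫ N.hom) N.hom N.hom e.left e.left (𝟙 _)
            (by simp) (by simp)) :=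
        MorphismProperty.pullbackMap (P := @Surjective) hes hes rfl rfl
      have : UniversallyInjective (e.left ≫ N.hom) := by rw [hsec]; infer_instance
      have : Surjective (pullback.diagonal (e.left ≫ N.hom)) := (UniversallyInjective.iff_diagonal _).1 this
      have : Surjective (e.left ≫ pullback.diagonal N.hom) := h1 ▸ inferInstance
      exact Surjective.of_comp e.left _
    have hinjK : ∀ (K : Type u) [Field K], Function.Injective (fun g : Spec (.of K) ⟶ N.left => g ≫ N.hom) :=
      ((tfae_universallyInjective N.hom).out 0 1).1 hui
    refine ((tfae_universallyInjective f.left).out 0 1).2 fun K hK g₁ g₂ hg => ?_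
    have hX : g₂ ≫ X.hom = g₁ ≫ X.hom := by
      rw [← Over.w f, ← Category.assoc, ← Category.assoc]
      exact congrArg (· ≫ Y.hom) hg.symm
    let T : Over (Spec (CommRingCat.of k)) := Over.mk (g₁ ≫ X.hom)
    let x : T ⟶ X := Over.homMk g₁ rfl
    let y : T ⟶ X := Over.homMk g₂ hX
    have hxy : x ≫ f = y ≫ f := Over.OverMorphism.ext hg
    obtain ⟨z, hz⟩ := (Groth.AlgGrp1.IsKernel.exists_iff hN (x * y⁻¹)).2 (by
      rw [MonObj.mul_comp, GrpObj.inv_comp, hxy, mul_inv_cancel])
    have hze : z = toUnit T ≫ e := Over.OverMorphism.ext
      (@hinjK K hK _ _ ((Over.w z).trans (Over.w (toUnit T ≫ e)).symm))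
    have hone : x * y⁻¹ = 1 := by
      rw [← hz, hze, Category.assoc, he]
      rfl
    exact congrArg (fun w : T ⟶ X => w.left) (mul_inv_eq_one.1 hone)


end Groth.Agent.S16676
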