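import Groth.Statements.S16677
import Groth.Agent.AbVarMul.Infinitesimal
import Groth.Agent.AbVarMul.TateDivBC
import Groth.Agent.AbVarMul.Density
import Groth.Agent.Abvar.Hom

set_option autoImplicit false
universe u
open CategoryTheory CategoryTheory.Limits MonoidalCategory CartesianMonoidalCategory MonObj GrpObj AlgebraicGeometry
open AbVar

namespace Groth.Agent.S16677

/-- Let X be an abelian variety over a field k (a proper, geometrically integral k-group scheme) and p a
prime number, not necessarily different from the characteristic of k. For m ≥ 1 let X[p^m] → X be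
the kernel of multiplication by p^m (the p^m-th power of the identity in the group of endomorphisms
of X), realised as the fibre product of the unit section with that endomorphism. Then the family of
closed subgroup schemes X[p^m], m ≥ 1, is scheme-theoretically dense in X: if c : Z → X is a closed
immersion through which every inclusion X[p^m] → X factors, then c is an isomorphism. -/
theorem result (k : Type u) [Field k]
    (X : Over (Spec (CommRingCat.of k))) [GrpObj X] [IsProper X.hom] [GeometricallyIntegral X.hom]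
    (p : ℕ) (hp : p.Prime) (Z : Scheme.{u}) (c : Z ⟶ X.left) [IsClosedImmersion c]
    (hc : ∀ m : ℕ, 0 < m →
      ∃ t : pullback η[X].left ((𝟙 X ^ (p ^ m)).left) ⟶ Z,
        t ≫ c = pullback.snd η[X].left ((𝟙 X ^ (p ^ m)).left)) :
    IsIso c := by
  have := Groth.GrpschAbsch.isCommMonObj_of_isProper X
  have := Groth.Abvar.isIntegral_left X
  have := LocallyOfFiniteType.jacobsonSpace X.hom
  have hlift : ∀ {T : Over (Spec (CommRingCat.of k))} (w : T ⟶ X) (m : ℕ), 0 < m → w ^ (p ^ m) = 1 →
      ∃ u : T.left ⟶ Z, u ≫ c = w.left := by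
    intro T w m hm hw
    obtain ⟨t, ht⟩ := hc m hm
    have hw' : w ≫ (𝟙 X ^ (p ^ m)) = 1 := by rw [MonObj.comp_pow, Category.comp_id, hw]
    refine ⟨pullback.lift (toUnit T).left w.left
      ((congrArg (fun v : T ⟶ X => v.left) hw').symm) ≫ t, ?_⟩
    rw [Category.assoc, ht, pullback.lift_snd]
  suffices hrange : Set.range c.base = Set.univ by
    have : Surjective c := ⟨Set.range_eq_univ.1 hrange⟩
    exact isIso_of_isClosedImmersion_of_surjective c
  have hclosed : IsClosed (Set.range c.base) := c.isClosedEmbedding.isClosed_range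
  by_cases hpk : (p : k) = 0
  · obtain ⟨_, ⟨U, (hU : IsAffineOpen U), rfl⟩, hxU, -⟩ := X.left.isBasis_affineOpens.exists_subset_of_mem_open
      (Set.mem_univ (η[X].left (IsLocalRing.closedPoint k))) isOpen_univ
    let A := Γ(X.left, U)
    let ι₀ : CommRingCat.of k ⟶ A := Spec.preimage (hU.fromSpec ≫ X.hom)
    let : Algebra k A := ι₀.hom.toAlgebra
    have hι : Spec.map (CommRingCat.ofHom (algebraMap k A)) = hU.fromSpec ≫ X.hom := Spec.map_preimage _
    let f : Groth.GrpschAbsch.specOver k A ⟶ X := Over.homMk hU.fromSpec hι.symm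
    have : IsOpenImmersion f.left := inferInstanceAs (IsOpenImmersion hU.fromSpec)
    let e₀ : Spec (CommRingCat.of k) ⟶ X.left := η[X].left
    have hr : Set.range e₀ ⊆ Set.range hU.fromSpec := by
      rw [hU.range_fromSpec]
      rintro _ ⟨s, rfl⟩
      rw [Subsingleton.elim s (IsLocalRing.closedPoint k)]
      exact hxU
    let ε₀ : A ⟶ CommRingCat.of k := Spec.preimage (IsOpenImmersion.lift hU.fromSpec e₀ hr)
    have hε₀ : Spec.map ε₀ ≫ hU.fromSpec = e₀ := by
      rw [Spec.map_preimage, IsOpenImmersion.lift_fac]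
    have hιε : ι₀ ≫ ε₀ = 𝟙 _ := Spec.map_injective (by
      rw [Spec.map_comp, show Spec.map ι₀ = hU.fromSpec ≫ X.hom from Spec.map_preimage _, reassoc_of% hε₀,
        Spec.map_id]
      exact Over.w η[X])
    let ε : A →ₐ[k] k := { ε₀.hom with commutes' := fun c ↦ congr($hιε c) }
    have hε : Groth.GrpschAbsch.specOverMap ε ≫ f = 1 := by
      refine Over.OverMorphism.ext (hε₀.trans ?_)
      show e₀ = Spec.map (CommRingCat.ofHom (algebraMap k k)) ≫ e₀
      rw [show CommRingCat.ofHom (algebraMap k k) = 𝟙 _ from rfl, Spec.map_id, Category.id_comp]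
    have : Algebra.FiniteType k A := by
      have : LocallyOfFiniteType (Spec.map (CommRingCat.ofHom (algebraMap k A))) := by
        rw [hι]; infer_instance
      exact (HasRingHomProperty.Spec_iff (P := @LocallyOfFiniteType)).mp this
    have : IsNoetherianRing A := Algebra.FiniteType.isNoetherianRing k A
    have : Nonempty U := ⟨⟨_, hxU⟩⟩
    have : IsDomain A := inferInstanceAs (IsDomain Γ(X.left, U))
    have hcc : IsClosedImmersion (pullback.snd c hU.fromSpec) := inferInstance
    obtain ⟨I, e, hcI⟩ := IsClosedImmersion.Spec_iff.1 hcc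
    have hIle : I ≤ ⨅ r : ℕ, RingHom.ker ε.toRingHom ^ r := by
      refine le_iInf fun r => ?_
      obtain ⟨u, hu⟩ := hlift _ (r + 1) r.succ_pos
        (show (Groth.GrpschAbsch.specOverMap (Ideal.Quotient.mkₐ k (RingHom.ker ε.toRingHom ^ r)) ≫ f :
          Groth.GrpschAbsch.specOver k (A ⧸ RingHom.ker ε.toRingHom ^ r) ⟶ X) ^ p ^ (r + 1) = 1 by
          rw [pow_succ, pow_mul, Groth.AbVarMul.pow_neighbourhood_eq_one hpk f ε hε r, one_pow])
      obtain ⟨χ, hχ⟩ := Spec.map_surjective (pullback.lift u
        (Spec.map (CommRingCat.ofHom (Ideal.Quotient.mkₐ k (RingHom.ker ε.toRingHom ^ r)).toRingHom))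
        hu ≫ e.hom)
      have h2 : CommRingCat.ofHom (Ideal.Quotient.mk I) ≫ χ =
          CommRingCat.ofHom (Ideal.Quotient.mk (RingHom.ker ε.toRingHom ^ r)) := Spec.map_injective (by
        rw [Spec.map_comp, hχ, Category.assoc]
        exact (congrArg (_ ≫ ·) hcI.symm).trans (pullback.lift_snd _ _ _))
      intro a ha
      rw [← Ideal.Quotient.eq_zero_iff_mem]
      refine congr(($h2).hom a).symm.trans ?_
      show χ.hom (Ideal.Quotient.mk I a) = 0
      rw [Ideal.Quotient.eq_zero_iff_mem.2 ha, map_zero]
    rw [Ideal.iInf_pow_eq_bot_of_isDomain _ (RingHom.ker_ne_top _), le_bot_iff] at hIle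
    subst hIle
    have hsub : (U : Set X.left) ⊆ Set.range c.base := by
      rw [← hU.range_fromSpec]
      rintro _ ⟨y, rfl⟩
      have : IsIso (Spec.map (CommRingCat.ofHom (Ideal.Quotient.mk (⊥ : Ideal A)))) := by
        have : IsIso (CommRingCat.ofHom (Ideal.Quotient.mk (⊥ : Ideal A))) :=
          (RingEquiv.quotientBot A).symm.toCommRingCatIso.isIso_hom
        infer_instance
      have : IsIso (pullback.snd c hU.fromSpec) := by rw [hcI]; infer_instance
      obtain ⟨z, rfl⟩ := (pullback.snd c hU.fromSpec).surjective y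
      exact ⟨pullback.fst c hU.fromSpec z, congr(($(pullback.condition (f := c) (g := hU.fromSpec))).base z)⟩
    refine Set.eq_univ_of_univ_subset ?_
    rw [← (U.2.dense ⟨_, hxU⟩).closure_eq]
    exact hclosed.closure_subset_iff.2 hsub
  · let K := AlgebraicClosure k
    have := Fact.mk hp
    have hlK : (p : K) ≠ 0 := fun h => hpk ((algebraMap k K).injective (by rw [map_natCast, h, map_zero]))
    let : GrpObj ((Groth.AbVarMul.bcF K).obj X) := Functor.grpObjObj
    have := Groth.AbVarMul.isProper_bcF K X
    have := Groth.AbVarMul.geometricallyIntegral_bcF K X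
    have := Groth.GrpschAbsch.isCommMonObj_of_isProper ((Groth.AbVarMul.bcF K).obj X)
    have hd := Groth.AbVarMul.closure_torsion_eq_univ (A := (Groth.AbVarMul.bcF K).obj X) hlK
    have : Surjective (Spec.map (CommRingCat.ofHom (algebraMap k K))) :=
      ⟨fun x => ⟨IsLocalRing.closedPoint K, Subsingleton.elim _ _⟩⟩
    let π := pullback.fst X.hom (Spec.map (CommRingCat.ofHom (algebraMap k K)))
    have hsub : π.base ⁻¹' Set.range c.base = Set.univ := by
      refine Set.eq_univ_of_univ_subset (hd ▸ (hclosed.preimage π.continuous).closure_subset_iff.2 ?_)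
      rintro _ ⟨n, a, ha, rfl⟩
      obtain ⟨u, hu⟩ := hlift ((Groth.AbVarMul.bcPoints K X).symm a) (n + 1) n.succ_pos (by
        rw [← map_pow, pow_succ, pow_mul, ha, one_pow, map_one])
      exact ⟨u (IsLocalRing.closedPoint K), congr(($hu).base (IsLocalRing.closedPoint K))⟩
    refine Set.eq_univ_of_forall fun x => ?_
    obtain ⟨y, rfl⟩ := π.surjective x
    exact hsub.ge (Set.mem_univ y)


end Groth.Agent.S16677
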