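import Groth.Statements.S16678
import Groth.Agent.Misc12.MaxEtaleSubalg
import Groth.Agent.SmoothSlice.Sections
import Groth.Agent.PropsBasic2.LocNoeth

set_option autoImplicit false
set_option linter.style.haveILetI false
universe u
open CategoryTheory CategoryTheory.Limits AlgebraicGeometry
open Variety

namespace Groth.Agent.S16678

/-- For a field k and a k-scheme X locally of finite type there are an étale k-scheme P and a k-morphism
q : X → P such that every k-morphism h : X → Y to an étale k-scheme Y equals t ∘ q for exactly one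
k-morphism t : P → Y; moreover q is flat and surjective, and for each point x of X the fibre
q⁻¹(q(x)), as a subset of X, is the connected component of x. (Étale means locally of finite
presentation with étale ring maps on affine pieces; no quasi-compactness is asked, so P may have
infinitely many points.) -/
theorem result (k : Type u) [Field k]
    (X : Scheme.{u}) (f : X ⟶ Spec (CommRingCat.of k)) [LocallyOfFiniteType f] :
    ∃ (P : Scheme.{u}) (g : P ⟶ Spec (CommRingCat.of k)) (q : X ⟶ P), Etale g ∧ q ≫ g = f ∧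
      (∀ (Y : Scheme.{u}) (gY : Y ⟶ Spec (CommRingCat.of k)) (h : X ⟶ Y), Etale gY → h ≫ gY = f →
        ∃! t : P ⟶ Y, t ≫ gY = g ∧ q ≫ t = h) ∧
      Flat q ∧ Surjective q ∧
      ∀ x : ↥X, (fun x' : ↥X => q x') ⁻¹' {q x} = connectedComponent x := by
  classical
  haveI : IsLocallyNoetherian X := LocallyOfFiniteType.isLocallyNoetherian f
  haveI : LocallyConnectedSpace X := Groth.PropsBasic2.locallyConnectedSpace fun x => by
    obtain ⟨V, hV, hxV, -⟩ := exists_isAffineOpen_mem_and_subset (U := (⊤ : X.Opens)) (x := x) trivial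
    haveI := IsLocallyNoetherian.component_noetherian ⟨V, hV⟩
    exact ⟨V, V.2.mem_nhds hxV, noetherianSpace_of_isAffineOpen V hV⟩
  haveI : JacobsonSpace X := LocallyOfFiniteType.jacobsonSpace f
  let C : _root_.ConnectedComponents X → X.Opens := fun c =>
    ⟨_root_.ConnectedComponents.mk ⁻¹' {c}, (isOpen_discrete _).preimage _root_.ConnectedComponents.continuous_coe⟩
  have hC : ∀ (c : _root_.ConnectedComponents X) (x : X), x ∈ C c ↔ _root_.ConnectedComponents.mk x = c := fun c x => Iff.rfl
  have hCconn : ∀ c, _root_.IsConnected (C c : Set X) := fun c => by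
    obtain ⟨x, rfl⟩ := _root_.ConnectedComponents.surjective_coe c
    have : (C (_root_.ConnectedComponents.mk x) : Set X) = connectedComponent x := connectedComponents_preimage_singleton
    rw [this]; exact isConnected_connectedComponent
  let algΓ : ∀ c, k →+* Γ(C c, ⊤) := fun c =>
    ((Scheme.ΓSpecIso (CommRingCat.of k)).inv ≫ ((C c).ι ≫ f).appTop).hom
  letI : ∀ c, Algebra k Γ(C c, ⊤) := fun c => (algΓ c).toAlgebra
  have hidem : ∀ c (e : Γ(C c, ⊤)), IsIdempotentElem e → e = 0 ∨ e = 1 := by
    intro c e he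
    have : ConnectedSpace (C c : Scheme.{u}) := Subtype.connectedSpace (hCconn c)
    have h1 : e * (1 - e) = 0 := by rw [mul_sub, mul_one, he.eq, sub_self]
    have hd : Disjoint ((C c : Scheme.{u}).basicOpen e : Set (C c : Scheme.{u})) ((C c : Scheme.{u}).basicOpen (1 - e)) := by
      rw [Set.disjoint_iff_inter_eq_empty]
      have h : ((C c : Scheme.{u}).basicOpen (e * (1 - e)) : Set (C c : Scheme.{u})) = ∅ := by
        rw [h1, Scheme.basicOpen_zero]; rfl
      rwa [Scheme.basicOpen_mul] at h
    have hu : ∀ z, z ∈ (C c : Scheme.{u}).basicOpen e ∨ z ∈ (C c : Scheme.{u}).basicOpen (1 - e) := by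
      intro z
      simp only [Scheme.mem_basicOpen_top]
      refine IsLocalRing.isUnit_or_isUnit_of_isUnit_add ?_
      rw [← map_add, add_sub_cancel, map_one]
      exact isUnit_one
    have hclopen : IsClopen ((C c : Scheme.{u}).basicOpen e : Set (C c : Scheme.{u})) := by
      refine ⟨?_, ((C c : Scheme.{u}).basicOpen e).2⟩
      rw [← isOpen_compl_iff]
      convert ((C c : Scheme.{u}).basicOpen (1 - e)).2
      ext z
      exact ⟨fun hz => (hu z).resolve_left hz, fun hz hz' => Set.disjoint_left.1 hd hz' hz⟩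
    have key : ∀ a : Γ(C c, ⊤), IsIdempotentElem a → (C c : Scheme.{u}).basicOpen a = ⊤ → a = 1 := by
      intro a ha htop
      exact (((C c : Scheme.{u}).toLocallyRingedSpace.toRingedSpace.isUnit_of_isUnit_germ ⊤ a fun z hz => by
        have : z ∈ (C c : Scheme.{u}).basicOpen a := htop.symm ▸ TopologicalSpace.Opens.mem_top z
        exact (Scheme.mem_basicOpen_top _ a z).1 this) : IsUnit a).mul_left_cancel (ha.eq.trans (mul_one a).symm)
    rcases isClopen_iff.1 hclopen with h | h
    · left
      have : 1 - e = 1 := key _ he.one_sub (eq_top_iff.2 fun z _ => (hu z).resolve_left (fun hz =>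
        (h.le : _ ⊆ (∅ : Set _)) hz))
      linear_combination -this
    · exact Or.inr (key e he (TopologicalSpace.Opens.ext h))
  have hρ : ∀ c, ∃ (L : Type u) (_ : Field L) (_ : Algebra k L) (_ : FiniteDimensional k L),
      Nonempty (Γ(C c, ⊤) →ₐ[k] L) := by
    intro c
    obtain ⟨x, hx⟩ := (hCconn c).nonempty
    obtain ⟨V, hV, hxV, hVC⟩ := exists_isAffineOpen_mem_and_subset (U := C c) (x := x) hx
    let φ := f.appLE ⊤ V le_top
    have hφ : ((Scheme.ΓSpecIso (CommRingCat.of k)).inv ≫ φ).hom.FiniteType := by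
      rw [CommRingCat.hom_comp]
      exact (LocallyOfFiniteType.finiteType_appLE f (isAffineOpen_top _) hV le_top).comp
        (RingHom.FiniteType.of_surjective _ (Scheme.ΓSpecIso (CommRingCat.of k)).commRingCatIsoToRingEquiv.symm.surjective)
    haveI : Nonempty V := ⟨⟨x, hxV⟩⟩
    haveI : Nontrivial Γ(X, V) := inferInstance
    letI : Algebra k Γ(X, V) := ((Scheme.ΓSpecIso (CommRingCat.of k)).inv ≫ φ).hom.toAlgebra
    haveI : Algebra.FiniteType k Γ(X, V) := hφ
    obtain ⟨m, hm⟩ := Ideal.exists_maximal Γ(X, V)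
    letI := Ideal.Quotient.field m
    have hVι : (⊤ : (C c : Scheme.{u}).Opens) ≥ (C c).ι ⁻¹ᵁ V := le_top
    let res : Γ(C c, ⊤) ⟶ Γ(X, V) := (C c).topIso.hom ≫ X.presheaf.map (homOfLE hVC).op
    refine ⟨Γ(X, V) ⧸ m, inferInstance, inferInstance, finite_of_finite_type_of_isJacobsonRing k _,
      ⟨(Ideal.Quotient.mkₐ k m).comp { res.hom with commutes' := ?_ }⟩⟩
    intro r
    show res ((((C c).ι ≫ f).appTop) ((Scheme.ΓSpecIso (CommRingCat.of k)).inv r)) = φ ((Scheme.ΓSpecIso (CommRingCat.of k)).inv r)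
    have : ((C c).ι ≫ f).appTop ≫ res = φ := by
      simp [res, φ, Scheme.Hom.appLE, Scheme.Hom.appTop, ← Functor.map_comp]
      erw [← X.presheaf.map_comp, ← X.presheaf.map_comp]
      rfl
    rw [← this]; rfl
  have hK : ∀ c, ∃ K : Subalgebra k Γ(C c, ⊤), IsField K ∧ Algebra.Etale k K ∧
      ∀ (E : Type u) [CommRing E] [Algebra k E] [Algebra.Etale k E] (ψ : E →ₐ[k] Γ(C c, ⊤)), ψ.range ≤ K := fun c => by
    obtain ⟨L, _, _, _, ⟨ρ⟩⟩ := hρ c
    exact Groth.Misc12.MaxEtaleSubalg.exists_max ρ (hidem c)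
  choose K hKf hKe hKmax using hK
  let Kr : _root_.ConnectedComponents X → CommRingCat.{u} := fun c => CommRingCat.of (K c)
  let ikK : ∀ c, CommRingCat.of k ⟶ Kr c := fun c => CommRingCat.ofHom (algebraMap k (K c))
  let incl : ∀ c, Kr c ⟶ Γ(C c, ⊤) := fun c => CommRingCat.ofHom (K c).val.toRingHom
  let qc : ∀ c, (C c : Scheme.{u}) ⟶ Spec (Kr c) := fun c => (C c : Scheme.{u}).toSpecΓ ≫ Spec.map (incl c)
  let g : (∐ fun c => Spec (Kr c)) ⟶ Spec (CommRingCat.of k) := Sigma.desc fun c => Spec.map (ikK c)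
  have hqc : ∀ c, qc c ≫ Spec.map (ikK c) = (C c).ι ≫ f := fun c => by
    refine ext_of_isAffine ?_
    simp only [qc, Category.assoc, ← Spec.map_comp, Scheme.Hom.comp_appTop, Scheme.toSpecΓ_appTop]
    rw [Scheme.ΓSpecIso_naturality]
    have e : ikK c ≫ incl c = (Scheme.ΓSpecIso (CommRingCat.of k)).inv ≫ ((C c).ι ≫ f).appTop := rfl
    rw [e, Iso.hom_inv_id_assoc, Scheme.Hom.comp_appTop]
  haveI : IsIso (Sigma.desc fun c => (C c).ι) := by
    haveI : IsOpenImmersion (Sigma.desc fun c => (C c).ι) := isOpenImmersion_sigmaDesc _ _ fun c c' hne => by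
      simp only [Function.onFun, Scheme.Opens.range_ι]
      exact Set.disjoint_left.2 fun z hz hz' => hne ((hz : _root_.ConnectedComponents.mk z = c).symm.trans hz')
    haveI : Surjective (Sigma.desc fun c => (C c).ι) := ⟨fun x => by
      refine ⟨Sigma.ι (fun c => ((C c) : Scheme.{u})) (_root_.ConnectedComponents.mk x) ⟨x, rfl⟩, ?_⟩
      rw [← Scheme.Hom.comp_apply, Sigma.ι_desc]; rfl⟩
    exact (isIso_iff_isOpenImmersion_and_epi_base _).2 ⟨inferInstance, (TopCat.epi_iff_surjective _).2 ‹Surjective (Sigma.desc fun c => (C c).ι)›.surj⟩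
  let q : X ⟶ ∐ fun c => Spec (Kr c) :=
    inv (Sigma.desc fun c => (C c).ι) ≫ Limits.Sigma.map qc
  have hιq : ∀ c, (C c).ι ≫ q = qc c ≫ Sigma.ι (fun c => Spec (Kr c)) c := fun c => by
    have : (C c).ι = Sigma.ι (fun c => ((C c) : Scheme.{u})) c ≫ Sigma.desc fun c => (C c).ι := by simp
    rw [this, Category.assoc, IsIso.hom_inv_id_assoc, Sigma.ι_map]
  have hXext : ∀ {Z : Scheme.{u}} (a b : X ⟶ Z), (∀ c, (C c).ι ≫ a = (C c).ι ≫ b) → a = b := fun a b h => by
    rw [← cancel_epi (Sigma.desc fun c => (C c).ι)]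
    exact Sigma.hom_ext _ _ fun c => by simp [h c]
  have hqfib : ∀ (c : _root_.ConnectedComponents X) (x : X) (hx : x ∈ C c),
      q x = Sigma.ι (fun c => Spec (Kr c)) c (qc c ⟨x, hx⟩) := fun c x hx => by
    rw [← Scheme.Hom.comp_apply, ← hιq, Scheme.Hom.comp_apply]; rfl
  refine ⟨∐ fun c => Spec (Kr c), g, q, ?_, ?_, ?_, ?_, ?_, ?_⟩
  · refine IsZariskiLocalAtSource.of_openCover (P := @Etale) (sigmaOpenCover _) fun c => ?_
    show Etale (Sigma.ι (fun c => Spec (Kr c)) c ≫ g)
    rw [Sigma.ι_desc, HasRingHomProperty.Spec_iff (P := @Etale)]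
    exact RingHom.etale_algebraMap.2 (hKe c)
  · refine hXext _ _ fun c => ?_
    rw [← Category.assoc, hιq, Category.assoc, Sigma.ι_desc, hqc]
  · intro Y gY h hgY hh
    haveI := hgY
    haveI : LocallyQuasiFinite gY := Groth.SmoothSlice.locallyQuasiFinite_of_formallyUnramified' gY
    haveI : DiscreteTopology (Spec (CommRingCat.of k)) := inferInstanceAs (DiscreteTopology (PrimeSpectrum k))
    haveI : IsLocallyArtinian (Spec (CommRingCat.of k)) := IsLocallyArtinian.iff_isLocallyNoetherian_and_discreteTopology.2 ⟨inferInstance, inferInstance⟩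
    haveI : IsLocallyArtinian Y := IsLocallyArtinian.of_locallyQuasiFinite gY
    haveI : DiscreteTopology Y := (IsLocallyArtinian.iff_isLocallyNoetherian_and_discreteTopology.1 inferInstance).2
    have key : ∀ c, ∃! t : Spec (Kr c) ⟶ Y, t ≫ gY = Spec.map (ikK c) ∧ qc c ≫ t = (C c).ι ≫ h := by
      intro c
      obtain ⟨x, hx⟩ := (hCconn c).nonempty
      let V : Y.Opens := ⟨{h x}, isOpen_discrete _⟩
      haveI : Subsingleton V := ⟨fun a b => Subtype.ext ((a.2 : a.1 = h x).trans (b.2 : b.1 = h x).symm)⟩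
      haveI : Finite V := inferInstance
      haveI : DiscreteTopology V := inferInstanceAs (DiscreteTopology ↥(V : Set Y))
      haveI : DiscreteTopology (V : Scheme.{u}) := ‹DiscreteTopology V›
      haveI : Finite (V : Scheme.{u}) := ‹Finite V›
      haveI : IsAffine (V : Scheme.{u}) := inferInstance
      have hrange : Set.range ((C c).ι ≫ h) ⊆ Set.range V.ι := by
        rintro _ ⟨z, rfl⟩
        rw [Scheme.Opens.range_ι]
        show h ((C c).ι z) ∈ ({h x} : Set Y)
        exact (((hCconn c).image _ h.continuous.continuousOn).isPreconnected.subsingleton ⟨_, z.2, rfl⟩ ⟨x, hx, rfl⟩)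
      let hV := IsOpenImmersion.lift V.ι ((C c).ι ≫ h) hrange
      have hhV : hV ≫ V.ι = (C c).ι ≫ h := IsOpenImmersion.lift_fac _ _ _
      let kV : CommRingCat.of k ⟶ Γ(V, ⊤) := (Scheme.ΓSpecIso (CommRingCat.of k)).inv ≫ (V.ι ≫ gY).appTop
      letI : Algebra k Γ(V, ⊤) := kV.hom.toAlgebra
      haveI : Algebra.Etale k Γ(V, ⊤) := by
        have h0 := (HasRingHomProperty.iff_of_isAffine (P := @Etale)).1 (inferInstance : Etale (V.ι ≫ gY))
        exact RingHom.etale_algebraMap.1 ((RingHom.Etale.respectsIso.2 _ (Scheme.ΓSpecIso (CommRingCat.of k)).symm.commRingCatIsoToRingEquiv h0))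
      let ψ : Γ(V, ⊤) →ₐ[k] Γ(C c, ⊤) :=
        { hV.appTop.hom with
          commutes' := fun r => by
            show (kV ≫ hV.appTop) r = ((Scheme.ΓSpecIso (CommRingCat.of k)).inv ≫ ((C c).ι ≫ f).appTop) r
            congr 1
            simp only [kV, Category.assoc, ← Scheme.Hom.comp_appTop]
            rw [← Category.assoc hV, hhV, Category.assoc, hh] }
      let ψK : Γ(V, ⊤) ⟶ Kr c := CommRingCat.ofHom (ψ.codRestrict (K c) fun a => hKmax c _ ψ ⟨a, rfl⟩).toRingHom
      let tV : Spec (Kr c) ⟶ V := Spec.map ψK ≫ (V : Scheme.{u}).isoSpec.inv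
      have hqV : qc c ≫ tV = hV := by
        simp only [tV, ← Category.assoc]
        rw [Iso.comp_inv_eq]
        simp only [qc, Category.assoc, ← Spec.map_comp]
        exact (Scheme.toSpecΓ_naturality hV).symm
      have hepi : ∀ (a b : Spec (Kr c) ⟶ Spec (CommRingCat.of k)), qc c ≫ a = qc c ≫ b → a = b := by
        intro a b hab
        obtain ⟨a, rfl⟩ := Spec.map_surjective a
        obtain ⟨b, rfl⟩ := Spec.map_surjective b
        refine congrArg Spec.map (CommRingCat.hom_ext (RingHom.ext fun r => Subtype.ext ?_))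
        have h2 := congrArg Scheme.Hom.appTop hab
        simp only [qc, Category.assoc, ← Spec.map_comp, Scheme.Hom.comp_appTop, Scheme.toSpecΓ_appTop,
          Scheme.ΓSpecIso_naturality, cancel_epi] at h2
        exact congr($h2 r)
      refine ⟨tV ≫ V.ι, ⟨hepi _ _ ?_, by rw [← Category.assoc, hqV, hhV]⟩, ?_⟩
      · rw [← Category.assoc, ← Category.assoc, hqV, hhV, Category.assoc, hh, hqc]
      · rintro t ⟨-, ht⟩
        have htr : Set.range t ⊆ Set.range V.ι := by
          rintro _ ⟨z, rfl⟩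
          letI := (hKf c).toField
          haveI : Subsingleton (Spec (Kr c)) := inferInstanceAs (Subsingleton (PrimeSpectrum (K c)))
          rw [Scheme.Opens.range_ι, Subsingleton.elim z (qc c ⟨x, hx⟩), ← Scheme.Hom.comp_apply, ht]
          rfl
        have e1 : IsOpenImmersion.lift V.ι t htr = tV := by
          refine ext_of_isAffine ?_
          have e0 : qc c ≫ IsOpenImmersion.lift V.ι t htr = qc c ≫ tV := by
            rw [hqV, ← cancel_mono V.ι, Category.assoc, IsOpenImmersion.lift_fac, ht, hhV]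
          have e2 := congrArg Scheme.Hom.appTop e0
          simp only [qc, Scheme.Hom.comp_appTop, Scheme.toSpecΓ_appTop] at e2
          rw [← cancel_mono (Scheme.ΓSpecIso (Kr c)).hom]
          haveI : Mono (incl c) := ConcreteCategory.mono_of_injective _ Subtype.val_injective
          rw [← cancel_mono (incl c)]
          simpa [Scheme.ΓSpecIso_naturality] using e2
        rw [← e1, IsOpenImmersion.lift_fac]
    choose t ht htu using key
    refine ⟨Sigma.desc t, ⟨Sigma.hom_ext _ _ fun c => ?_, hXext _ _ fun c => ?_⟩, fun t' ht' => Sigma.hom_ext _ _ fun c => ?_⟩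
    · rw [Sigma.ι_desc_assoc, Sigma.ι_desc, (ht c).1]
    · rw [← Category.assoc, hιq, Category.assoc, Sigma.ι_desc, (ht c).2]
    · rw [Sigma.ι_desc]
      refine htu c _ ⟨by rw [Category.assoc, ht'.1, Sigma.ι_desc], ?_⟩
      rw [← Category.assoc, ← hιq, Category.assoc, ht'.2]
  · refine IsZariskiLocalAtSource.of_openCover (P := @Flat)
      (X.openCoverOfIsOpenCover C (TopologicalSpace.IsOpenCover.mk (eq_top_iff.2 fun x _ =>
        TopologicalSpace.Opens.mem_iSup.2 ⟨_, (rfl : _root_.ConnectedComponents.mk x = _)⟩))) fun c => ?_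
    show Flat ((C c).ι ≫ q)
    rw [hιq]
    haveI : Flat (qc c) := by
      exact Groth.Misc12.MaxEtaleSubalg.flat_to_field (hKf c) (qc c)
    infer_instance
  · refine ⟨fun z => ?_⟩
    obtain ⟨⟨c, z⟩, rfl⟩ := (sigmaMk fun c => Spec (Kr c)).surjective z
    obtain ⟨x, hx⟩ := (hCconn c).nonempty
    letI := (hKf c).toField
    haveI : Subsingleton (Spec (Kr c)) := inferInstanceAs (Subsingleton (PrimeSpectrum (K c)))
    exact ⟨x, by rw [hqfib c x hx, sigmaMk_mk, Subsingleton.elim z (qc c ⟨x, hx⟩)]⟩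
  · intro x
    ext x'
    rw [Set.mem_preimage, Set.mem_singleton_iff, hqfib _ x rfl, hqfib _ x' rfl,
      ← connectedComponents_preimage_singleton, Set.mem_preimage, Set.mem_singleton_iff]
    constructor
    · intro he
      by_contra hne
      exact hne (congrArg Sigma.fst ((sigmaι_eq_iff _ _ _ _ _).1 he))
    · intro he
      have gen : ∀ (c c' : _root_.ConnectedComponents X), c' = c → ∀ (z : Spec (Kr c)) (z' : Spec (Kr c')),
          Sigma.ι (fun c => Spec (Kr c)) c' z' = Sigma.ι (fun c => Spec (Kr c)) c z := by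
        have hs : ∀ c, Subsingleton (Spec (Kr c)) := fun c => by
          letI := (hKf c).toField
          exact inferInstanceAs (Subsingleton (PrimeSpectrum (K c)))
        rintro _ _ rfl z z'
        rw [(hs _).elim z z']
      exact gen _ _ he _ _

end Groth.Agent.S16678
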