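import Groth.Statements.S16679
import Groth.Agent.AbVarMul.RedSubgroup
import Groth.Agent.AbvarAlb.MaxAbelian

set_option autoImplicit false
universe u
open CategoryTheory CategoryTheory.Limits MonoidalCategory CartesianMonoidalCategory MonObj GrpObj AlgebraicGeometry
open AbVar

namespace Groth.Agent.S16679

/-- Let X be an abelian variety over an arbitrary field k (a proper, geometrically integral k-group
scheme), let i : Y → X be a closed subgroup scheme (a homomorphism of k-group schemes which is a
closed immersion) whose underlying space is connected, and let j : Y_red → Y be the reduced closed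
subscheme with the same underlying space (a closed immersion from a reduced scheme which is
surjective). Then Y_red is geometrically integral over k, and there is a k-group scheme structure on
Y_red for which j is a homomorphism: Y_red is an abelian subvariety of X. (For a closed subgroup
scheme which is not connected the reduced subscheme need not be geometrically reduced; the statement
concerns the identity component.) -/
theorem result (k : Type u) [Field k]
    (X : Over (Spec (CommRingCat.of k))) [GrpObj X] [IsProper X.hom] [GeometricallyIntegral X.hom]
    (Y : Over (Spec (CommRingCat.of k))) [GrpObj Y] (i : Y ⟶ X) [IsMonHom i] [IsClosedImmersion i.left]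
    [ConnectedSpace ↥Y.left]
    (Yr : Scheme.{u}) (j : Yr ⟶ Y.left) [IsClosedImmersion j] [Surjective j] [IsReduced Yr] :
    GeometricallyIntegral (j ≫ Y.hom) ∧
      ∃ _ : GrpObj (Over.mk (j ≫ Y.hom)), IsMonHom (Over.homMk j rfl : Over.mk (j ≫ Y.hom) ⟶ Y) := by
  let Z : Over (Spec (CommRingCat.of k)) := Over.mk (j ≫ Y.hom)
  let c : Z ⟶ Y := Over.homMk j rfl
  have : IsClosedImmersion c.left := ‹IsClosedImmersion j›
  have : Surjective c.left := ‹Surjective j›
  have : IsReduced Z.left := ‹IsReduced Yr›
  have : GeometricallyReduced Z.hom := Groth.AbVarMul.geometricallyReduced_red X Y i Z c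
  have : IsProper Y.hom := by rw [← Over.w i]; infer_instance
  have : IsProper Z.hom := by rw [← Over.w c]; infer_instance
  obtain ⟨hZ, hc⟩ := Groth.AbVarMul.exists_grpObj_of_geometricallyReduced Y Z c
  have : ConnectedSpace Z.left :=
    (Homeomorph.connectedSpace_iff (Equiv.toHomeomorphOfContinuousClosed
      (Equiv.ofBijective _ ⟨c.left.isClosedEmbedding.injective, c.left.surjective⟩)
      c.left.continuous c.left.isClosedEmbedding.isClosedMap)).2 inferInstance
  exact ⟨Groth.AbvarAlb.geometricallyIntegral_of_connected Z, hZ, hc⟩


end Groth.Agent.S16679
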