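import Groth.Statements.S16680
import Groth.Agent.AbvarEmb.Conormal
import Groth.Agent.S7858
import Groth.Agent.Variety2.Reg.Ample
import Groth.Agent.Chow.VeryAmplePn
import Groth.Agent.PnCoh.AmpleVanishing
import Groth.Agent.PropsBasic.AmpleSec
import Groth.Agent.Abvar.Seesaw.Core
import Groth.Agent.EulerDeg.Coherent

set_option autoImplicit false
universe u
open CategoryTheory CategoryTheory.Limits MonoidalCategory CartesianMonoidalCategory MonObj GrpObj AlgebraicGeometry
open AbVar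

namespace Groth.Agent.S16680

open Groth.KTheory Groth.KTheory.LambdaVb Groth.LocFree Groth.AbvarEmb Groth.PicAux
open Groth.PropsBasic.Ample (gloc gloc_inf_eq_basicOpen)

attribute [local instance] kvbRing

/-- Large powers of an ample module have positive Euler characteristic. -/
theorem exists_euler_pos {k : Type u} [Field k] {Z : Scheme.{u}} [Z.Over (Spec (CommRingCat.of k))]
    [IsProper (Z ↘ Spec (CommRingCat.of k))] [IsIntegral Z] [IsNoetherian Z] {L : Z.Modules} (hL : CohB1.IsAmple L) :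
    ∃ m : ℕ, 0 < m ∧ 0 < Curv2.euler k Z (CohB1.tensorPow L m) := by
  obtain ⟨d₀, hd₀⟩ := Groth.PnCoh.exists_subsingleton_of_isAmple (Z ↘ Spec (CommRingCat.of k)) hL
    (Coh.structureModule Z) Groth.QCohMod.isCoh_unit
  obtain ⟨x⟩ : Nonempty Z := inferInstance
  obtain ⟨a, s, hx, -⟩ := hL.2.2 x
  rw [Groth.PropsBasic.Ample.genLocus_eq_gloc] at hx
  have hI := Groth.PicAux.isInvertible_tensorPow hL.1 (a + 1)
  obtain ⟨c, hc⟩ := Groth.PropsBasic.Ample.exists_gloc_transport (L := L) (a + 1) (d₀ + 1)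
    (powSec (gsec s) (d₀ + 1))
  rw [Groth.PropsBasic.Ample.gloc_powSec hI _ (Nat.succ_pos _)] at hc
  have hc0 : c ≠ 0 := by
    rintro rfl
    have hm : x ∈ gloc (0 : Γ(CohB1.tensorPow L ((a + 1) * (d₀ + 1)), ⊤)) := hc.ge hx
    obtain ⟨U, e, -, hxU, he⟩ := exists_gen_cover
      (Groth.PicAux.isInvertible_tensorPow hL.1 ((a + 1) * (d₀ + 1)))
    have h0 := gloc_inf_eq_basicOpen (he x) (c := 0)
      (t := (0 : Γ(CohB1.tensorPow L ((a + 1) * (d₀ + 1)), ⊤))) (by simp [res_zero])
    rw [Scheme.basicOpen_zero] at h0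
    exact h0.le (⟨hm, hxU x⟩ : x ∈ _ ⊓ U x)
  refine ⟨(a + 1) * (d₀ + 1), by positivity, ?_⟩
  have hvan : ∀ q, 1 ≤ q → Subsingleton (Coh.HH Z (CohB1.tensorPow L ((a + 1) * (d₀ + 1))) q) := fun q hq =>
    Groth.PnCoh.subsingleton_HH_of_iso (Z ↘ Spec (CommRingCat.of k)) (exists_leftUnitor (CohB1.tensorPow L ((a + 1) * (d₀ + 1)))).choose
      (hd₀ _ (by nlinarith) q hq)
  have hfin := Groth.EulerDeg.finCoh k Z (Groth.EulerDeg.isCoh_of_isInvertible
    (Groth.PicAux.isInvertible_tensorPow hL.1 ((a + 1) * (d₀ + 1))))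
  rw [Groth.EulerDeg.euler_eq_sum (N := 1) hvan]
  simp only [Finset.range_one, Finset.sum_singleton, pow_zero, _root_.one_mul, Nat.cast_pos]
  haveI := hfin.finite 0
  haveI : Nontrivial (Coh.HH Z (CohB1.tensorPow L ((a + 1) * (d₀ + 1))) 0) := by
    let eH : Coh.HH Z (CohB1.tensorPow L ((a + 1) * (d₀ + 1))) 0 ≃+ Γ((CohB1.tensorPow L ((a + 1) * (d₀ + 1))), ⊤) :=
      Sheaf.H.equiv₀ (Coh.toAb (CohB1.tensorPow L ((a + 1) * (d₀ + 1)))) (Preorder.isTerminalTop Z.Opens)
    refine nontrivial_of_ne (eH.symm c) 0 fun h => hc0 ?_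
    exact (eH.apply_symm_apply c).symm.trans ((congrArg eH h).trans (map_zero eH))
  exact Module.finrank_pos

/-- `binom • (1-u)^g = 0` kills all `(1 - u^m)^g` after a homomorphism to `ℤ`. -/
theorem map_one_sub_pow_eq_zero {R : Type*} [CommRing R] (φ : R →+ ℤ) {u v : R} (huv : u * v = 1) {g N i : ℕ} (m : ℕ)
    (hi : N - i ≤ g) (hc : N.choose i ≠ 0) (h : u ^ i * (1 - u) ^ (N - i) * (N.choose i : R) = 0) :
    φ ((1 - u ^ m) ^ g) = 0 := by
  obtain ⟨t, ht⟩ : (1 - u) ∣ (1 - u ^ m) := by simpa using sub_dvd_pow_sub_pow 1 u m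
  have h' : (1 - u ^ m) ^ g * (N.choose i : R) = 0 := by
    have : (1 - u ^ m) ^ g =
        (u * v) ^ i * ((1 - u) ^ (N - i) * ((1 - u) ^ (g - (N - i)) * t ^ g)) := by
      rw [huv, _root_.one_pow, _root_.one_mul, ← _root_.mul_assoc, ← pow_add, Nat.add_sub_cancel' hi, ← _root_.mul_pow, ht]
    rw [this, _root_.mul_pow, show u ^ i * v ^ i * ((1 - u) ^ (N - i) * ((1 - u) ^ (g - (N - i)) * t ^ g)) *
        (N.choose i : R) = u ^ i * (1 - u) ^ (N - i) * (N.choose i : R) *
          (v ^ i * (1 - u) ^ (g - (N - i)) * t ^ g) by ring, h, zero_mul]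
  have h2 : φ (N.choose i • (1 - u ^ m) ^ g) = 0 := by
    rw [nsmul_eq_mul, mul_comm, h', map_zero]
  rw [map_nsmul, nsmul_eq_mul] at h2
  exact (mul_eq_zero.1 h2).resolve_left (by exact_mod_cast hc)


/-- Fix a field k and a g-dimensional abelian variety X over k (a proper, geometrically integral k-group
scheme whose underlying space has Krull dimension g). Then X admits no closed immersion into
projective (2g − 1)-space over k: if f : X → P^n_k is a closed immersion compatible with the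
structure morphisms to Spec k, then 2g ≤ n. -/
theorem result (k : Type u) [Field k]
    (X : Over (Spec (CommRingCat.of k))) [GrpObj X] [IsProper X.hom] [GeometricallyIntegral X.hom]
    (g : ℕ) (hg : topologicalKrullDim ↥X.left = g)
    (n : ℕ) (f : X.left ⟶ CohB1.ProjSpace n k) [IsClosedImmersion f]
    (hf : f ≫ CohB1.ProjSpace.toSpec n k = X.hom) :
    2 * g ≤ n := by
  by_contra hlt
  rw [not_le] at hlt
  letI : X.left.Over (Spec (CommRingCat.of k)) := ⟨X.hom⟩
  haveI : IsProper (X.left ↘ Spec (CommRingCat.of k)) := ‹IsProper X.hom›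
  haveI := Groth.Abvar.isIntegral_left X
  haveI := Groth.Inter.isNoetherian (k := k) (X := X.left)
  obtain ⟨C, r, hC, hr, hcls⟩ := exists_conormal_class X hg n f hf
  set L := (Scheme.Modules.pullback f).obj (Twist.twistProjSpace n k 1) with hLdef
  set M := (Scheme.Modules.pullback f).obj (Twist.twistProjSpace n k (-1)) with hMdef
  have hM : PicF.IsInvertible M :=
    Groth.PicAux.isInvertible_pullback f (Groth.PnCoh.isInvertible_twist n k (-1))
  have hL : CohB1.IsAmple L :=
    Groth.Chow.isAmple_pullback_of_isAffineHom f Groth.Variety2.Reg.isAmple_tw_one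
  obtain ⟨M', hM', ⟨eM⟩⟩ := Groth.PicAux.exists_inverse hM
  have hLM : Nonempty (CohB1.tensorMod L M ≅ Coh.structureModule X.left) := by
    obtain ⟨a⟩ := Groth.Ega2Proj.nonempty_tensor_iso (Groth.Variety2.Reg.gen_one n k) 1 (-1)
    rw [show (1 : ℤ) + -1 = 0 by norm_num] at a
    obtain ⟨b⟩ := Groth.PicAux.pullback_tensorMod f (Groth.PnCoh.isInvertible_twist n k 1) (Groth.PnCoh.isInvertible_twist n k (-1))
    exact ⟨b.symm ≪≫ (Scheme.Modules.pullback f).mapIso
        (a ≪≫ (Groth.PnCoh.nonempty_twist_zero_iso (CohB1.polyGrading n k)).some) ≪≫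
      @asIso _ _ _ _ (Groth.PicAux.pullUnit f) (Groth.PicAux.isIso_pullUnit f)⟩
  obtain ⟨m, hm, hpos⟩ := exists_euler_pos (k := k) hL
  have huv : kcl M * kcl L = (1 : SGA6.Kvb X.left) := by
    rw [mul_comm, ← kcl_tensorMod (isFinLocFree_of_invertible hL.1) (isFinLocFree_of_invertible hM)]
    exact kcl_iso hLM.some (isFinLocFree_of_invertible (Groth.PicAux.isInvertible_tensorMod hL.1 hM))
  have hLm := Groth.PicAux.isInvertible_tensorPow hL.1 m
  have hMm := Groth.PicAux.isInvertible_tensorPow hM m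
  have h0 : FGA.intNum k X.left g (fun _ : Fin g => CohB1.tensorPow M m)
      (Coh.structureModule X.left) = 0 := by
    rw [intNum_eq_chiVb k hg.le hMm g, kcl_tensorPow hM]
    refine map_one_sub_pow_eq_zero _ huv (N := n + 1) (i := n + 1 - g) m (by omega) ?_
      (choose_mul_eq_zero hC (isInvertible_iff_ofRank_one.1 hM) hcls (by omega))
    exact (Nat.choose_pos (by omega)).ne'
  open Groth.Abvar.PicCalc in
  have hLMm : Nonempty (CohB1.tensorMod (CohB1.tensorPow L m) (CohB1.tensorPow M m) ≅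
      Coh.structureModule X.left) := by
    rw [Groth.Abvar.PicCalc.nonempty_iso_structure_iff (Groth.PicAux.isInvertible_tensorMod hLm hMm),
      Groth.Abvar.PicCalc.cls_tensorMod hLm hMm, Groth.Abvar.PicCalc.cls_tensorPow hL.1,
      Groth.Abvar.PicCalc.cls_tensorPow hM]
    refine ((_root_.mul_pow (Groth.Abvar.PicCalc.cls hL.1) (Groth.Abvar.PicCalc.cls hM) m).symm.trans ?_)
    rw [← Groth.Abvar.PicCalc.cls_tensorMod hL.1 hM,
      (Groth.Abvar.PicCalc.nonempty_iso_structure_iff _).1 hLM, _root_.one_pow]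
  have h := Groth.Agent.S7858.result k X g hg _ _ hLm hLMm
  rw [h0] at h
  rcases mul_eq_zero.1 h with h1 | h1
  · exact absurd h1 (by exact_mod_cast (Nat.factorial_pos g).ne')
  · exact hpos.ne' h1

end Groth.Agent.S16680
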