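import Groth.Statements.S16682
import Groth.Agent.Abvar.Cube.Theta

set_option autoImplicit false
universe u
open CategoryTheory CategoryTheory.Limits MonoidalCategory CartesianMonoidalCategory AlgebraicGeometry
open AbVar

namespace Groth.Agent.S16682

open Groth.Abvar.PicCalc

/-- Let k be a field, X a proper geometrically integral k-scheme (a complete variety), Y a variety over
k (separated, of finite type, geometrically integral), and L, M two invertible modules on X ×_k Y
(the product in the category of k-schemes). If for every closed point y of Y the restrictions of L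
and M to the fibre X ×_k Spec k(y) are isomorphic, then there is an invertible O_Y-module N with L
isomorphic to M ⊗ p^*N, where p : X ×_k Y → Y is the second projection (existence of an isomorphism;
N is determined only up to isomorphism). -/
theorem result (k : Type u) [Field k]
    (X Y : Over (Spec (CommRingCat.of k)))
    [IsProper X.hom] [GeometricallyIntegral X.hom]
    [IsSeparated Y.hom] [QuasiCompact Y.hom] [LocallyOfFiniteType Y.hom] [GeometricallyIntegral Y.hom]
    (L M : (X ⊗ Y).left.Modules) (hL : PicF.IsInvertible L) (hM : PicF.IsInvertible M)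
    (h : ∀ y : ↥Y.left, IsClosed ({y} : Set ↥Y.left) →
      Nonempty ((Scheme.Modules.pullback (pullback.fst (snd X Y).left (Y.left.fromSpecResidueField y))).obj L ≅
        (Scheme.Modules.pullback (pullback.fst (snd X Y).left (Y.left.fromSpecResidueField y))).obj M)) :
    ∃ N : Y.left.Modules, PicF.IsInvertible N ∧
      Nonempty (L ≅ CohB1.tensorMod M ((Scheme.Modules.pullback (snd X Y).left).obj N)) := by
  obtain ⟨M', hM', ⟨ι⟩⟩ := Groth.PicAux.exists_inverse hM
  have hLM := isInvertible_tensorMod hL hM'
  have hi : cls hM' * cls hM = 1 := by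
    rw [← cls_tensorMod hM' hM, ← nonempty_iso_structure_iff]
    exact ⟨ι⟩
  obtain ⟨N, hN, e⟩ := Groth.Abvar.Seesaw.exists_base_seesaw (X := X) (Y := Y) hLM fun y hy => by
    let g := pullback.fst (snd X Y).left (Y.left.fromSpecResidueField y)
    have e1 := (nonempty_iso_iff (PicLoc.isInvertible_pullback g hL)
      (PicLoc.isInvertible_pullback g hM)).1 (h y hy)
    refine (nonempty_iso_structure_iff (PicLoc.isInvertible_pullback g hLM)).2 ?_
    rw [← pull_cls g hLM, cls_tensorMod hL hM', map_mul]
    rw [← pull_cls g hL, ← pull_cls g hM] at e1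
    rw [e1, ← map_mul, mul_comm, hi, map_one]
  refine ⟨N, hN, ?_⟩
  have hN' := PicLoc.isInvertible_pullback (snd X Y).left hN
  have e2 := (nonempty_iso_iff hN' hLM).1 e
  rw [cls_tensorMod hL hM'] at e2
  rw [nonempty_iso_iff hL (isInvertible_tensorMod hM hN'), cls_tensorMod hM hN', e2, mul_comm,
    _root_.mul_assoc, hi, _root_.mul_one]

end Groth.Agent.S16682
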