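import Groth.Statements.S16684
import Groth.Agent.AlgGrp2.ConstFun
import Groth.Agent.AlgGrp2.Basic
import Groth.Agent.AlgGrp1.Basic
import Mathlib

set_option autoImplicit false
universe u
open CategoryTheory CategoryTheory.Limits MonoidalCategory CartesianMonoidalCategory AlgebraicGeometry Opposite
open scoped MonObj GrpObj

namespace Groth.Agent.S16684

variable {S : Scheme.{u}}

/-- A covering sieve of the big fppf site contains a single fppf cover, up to disjoint unions. -/
lemma exists_single_cover {T : Over S} {R : Sieve T}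
    (hR : R ∈ QuotSh.J Scheme.fppfPrecoverage S T) :
    ∃ (I : Type u) (V : I → Over S) (f : ∀ i, V i ⟶ T), (∀ i, R (f i)) ∧
      ∃ (T' : Over S) (e : ∀ i, V i ⟶ T') (c : T' ⟶ T), (∀ i, e i ≫ c = f i) ∧
        (∀ {Z : Over S} (h : ∀ i, V i ⟶ Z), ∃ h' : T' ⟶ Z, ∀ i, e i ≫ h' = h i) ∧
        (∀ {Z : Over S} (a b : T' ⟶ Z), (∀ i, e i ≫ a = e i ≫ b) → a = b) ∧
        Flat c.left ∧ Surjective c.left ∧ LocallyOfFinitePresentation c.left := by
  rw [GrothendieckTopology.mem_over_iff] at hR
  obtain ⟨R', hR', hle⟩ := Precoverage.mem_toGrothendieck_iff_of_isStableUnderComposition.1 hR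
  rw [Precoverage.mem_iff_exists_zeroHypercover] at hR'
  obtain ⟨E, rfl⟩ := hR'
  have hE : (∀ x, ∃ i, x ∈ Set.range (E.f i)) ∧
      ∀ i, (@Flat ⊓ @LocallyOfFinitePresentation : MorphismProperty Scheme) (E.f i) :=
    Scheme.presieve₀_mem_precoverage_iff E.toPreZeroHypercover |>.1 E.mem₀
  choose idx hidx using hE.1
  let V : T.left → Over S := fun x => Over.mk (E.f (idx x) ≫ T.hom)
  let f : ∀ x, V x ⟶ T := fun x => Over.homMk (E.f (idx x)) rfl
  refine ⟨T.left, V, f, fun x => ?_, ?_⟩
  · exact Sieve.overEquiv_iff R (E.f (idx x)) |>.1 (hle _ _ ⟨idx x⟩)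
  let X' : T.left → Scheme.{u} := fun x => E.X (idx x)
  let c₀ : ∐ X' ⟶ T.left := Sigma.desc fun x => E.f (idx x)
  let T' : Over S := Over.mk (c₀ ≫ T.hom)
  let e : ∀ x, V x ⟶ T' := fun x => Over.homMk (Sigma.ι X' x) (by
    show Sigma.ι X' x ≫ c₀ ≫ T.hom = E.f (idx x) ≫ T.hom
    rw [Sigma.ι_desc_assoc])
  let c : T' ⟶ T := Over.homMk c₀ rfl
  refine ⟨T', e, c, fun x => Over.OverMorphism.ext (Sigma.ι_desc _ _), fun {Z} h => ?_,
    fun {Z} a b hab => ?_, ?_, ?_, ?_⟩
  · refine ⟨Over.homMk (Sigma.desc fun x => (h x).left) ?_, fun x => Over.OverMorphism.ext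
      (Sigma.ι_desc (fun x => (h x).left) x)⟩
    refine Sigma.hom_ext _ _ fun x => ?_
    show _ = Sigma.ι X' x ≫ c₀ ≫ T.hom
    rw [Sigma.ι_desc_assoc, Sigma.ι_desc_assoc]
    exact Over.w (h x)
  · exact Over.OverMorphism.ext (Sigma.hom_ext _ _ fun x => congrArg Over.Hom.left (hab x))
  · exact IsZariskiLocalAtSource.sigmaDesc fun x => (hE.2 (idx x)).1
  · refine ⟨fun t => ?_⟩
    obtain ⟨y, hy⟩ := hidx t
    refine ⟨Sigma.ι X' t y, ?_⟩
    show (Sigma.ι X' t ≫ c₀) y = t
    rw [Sigma.ι_desc]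
    exact hy
  · exact IsZariskiLocalAtSource.sigmaDesc fun x => (hE.2 (idx x)).2

variable {G X Y : Over S} [GrpObj G] (a : AlgGrp.Action G X)

/-- The orbit relation on `T`-points. -/
def orbitSetoid (T : Over S) : Setoid (T ⟶ X) where
  r x y := ∃ g : T ⟶ G, lift g x ≫ a.act = y
  iseqv :=
    ⟨fun x => ⟨1, a.lift_one_act x⟩,
     fun {x y} ⟨g, hg⟩ => ⟨g⁻¹, by rw [← hg, ← a.lift_mul_act, inv_mul_cancel, a.lift_one_act]⟩,
     fun {x y z} ⟨g, hg⟩ ⟨h, hh⟩ => ⟨h * g, by rw [a.lift_mul_act, hg, hh]⟩⟩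

/-- The presheaf of orbits of points. -/
noncomputable def orbitPresheaf : (Over S)ᵒᵖ ⥤ Type (u + 1) where
  obj T := ULift.{u + 1} (Quotient (orbitSetoid a T.unop))
  map f := TypeCat.ofHom fun z => ⟨Quotient.map (sa := orbitSetoid a _) (sb := orbitSetoid a _) (fun x => f.unop ≫ x)
    (fun x y ⟨g, hg⟩ => ⟨f.unop ≫ g, by rw [← hg, comp_lift_assoc]⟩) z.down⟩
  map_id T := by
    ext ⟨z⟩
    induction z using Quotient.ind
    exact congrArg (Quotient.mk (orbitSetoid a T.unop)) (Category.id_comp _)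
  map_comp f g := by
    ext ⟨z⟩
    induction z using Quotient.ind
    exact congrArg (Quotient.mk (orbitSetoid a _)) (Category.assoc g.unop f.unop _)

noncomputable def toOrbit : yoneda.obj X ⋙ uliftFunctor.{u + 1, u} ⟶ orbitPresheaf a where
  app T := TypeCat.ofHom fun x => ⟨Quotient.mk (orbitSetoid a T.unop) x.down⟩
  naturality T T' f := by
    ext x
    rfl

lemma toOrbit_coeq : Functor.whiskerRight (yoneda.map a.act) uliftFunctor.{u + 1, u} ≫ toOrbit a =
    Functor.whiskerRight (yoneda.map (snd G X)) uliftFunctor.{u + 1, u} ≫ toOrbit a := by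
  ext T ⟨z⟩
  refine congrArg ULift.up (Quotient.sound (s := orbitSetoid a T.unop) ?_)
  refine (orbitSetoid a T.unop).iseqv.symm ⟨z ≫ fst G X, ?_⟩
  show lift (z ≫ fst G X) (z ≫ snd G X) ≫ a.act = z ≫ a.act
  rw [← comp_lift, lift_fst_snd, Category.comp_id]

variable {a} {q : X ⟶ Y}

/-- The quotient map has a section fppf locally. -/
lemma exists_local_section (hq : QuotSh.IsQuotient Scheme.fppfPrecoverage a.act (snd G X) q) :
    ∃ (Y' : Over S) (c : Y' ⟶ Y) (r : Y' ⟶ X), r ≫ q = c ∧
      Flat c.left ∧ Surjective c.left ∧ LocallyOfFinitePresentation c.left := by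
  obtain ⟨w, hiso⟩ := hq
  have : Epi (QuotSh.repMap Scheme.fppfPrecoverage q) := by
    have h : QuotSh.quotπ Scheme.fppfPrecoverage a.act (snd G X) ≫
        QuotSh.quotDesc Scheme.fppfPrecoverage q w = QuotSh.repMap Scheme.fppfPrecoverage q :=
      coequalizer.π_desc _ _
    rw [← h]
    have : Epi (QuotSh.quotπ Scheme.fppfPrecoverage a.act (snd G X)) := coequalizer.π_epi
    infer_instance
  have hloc : Presheaf.IsLocallySurjective (QuotSh.J Scheme.fppfPrecoverage S)
      (Functor.whiskerRight (yoneda.map q) uliftFunctor.{u + 1, u}) :=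
    (Presheaf.isLocallySurjective_presheafToSheaf_map_iff _ _).1
      ((Sheaf.isLocallySurjective_iff_epi' (φ := QuotSh.repMap Scheme.fppfPrecoverage q)).2 ‹_›)
  obtain ⟨I, V, f, hf, T', e, c, hec, hdesc, hext, h₁, h₂, h₃⟩ := exists_single_cover
    (Presheaf.imageSieve_mem (QuotSh.J Scheme.fppfPrecoverage S)
      (Functor.whiskerRight (yoneda.map q) uliftFunctor.{u + 1, u}) (U := op Y) (show ULift.{u + 1} (Y ⟶ Y) from ULift.up (𝟙 Y)))
  choose t ht using hf
  obtain ⟨r, hr⟩ := hdesc fun i => (show ULift.{u + 1} (V i ⟶ X) from t i).down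
  refine ⟨T', c, r, hext _ _ fun i => ?_, h₁, h₂, h₃⟩
  rw [reassoc_of% hr, hec]
  exact (congrArg ULift.down (ht i)).trans (show f i ≫ 𝟙 Y = f i from Category.comp_id (f i))

/-- Two points with the same image differ locally by the group. -/
lemma exists_local_translation (hq : QuotSh.IsQuotient Scheme.fppfPrecoverage a.act (snd G X) q)
    {T : Over S} (x y : T ⟶ X) (h : x ≫ q = y ≫ q) :
    ∃ (T' : Over S) (c : T' ⟶ T) (g : T' ⟶ G), lift g (c ≫ x) ≫ a.act = c ≫ y ∧
      Flat c.left ∧ Surjective c.left ∧ LocallyOfFinitePresentation c.left := by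
  obtain ⟨w, hiso⟩ := hq
  let J := QuotSh.J Scheme.fppfPrecoverage S
  let K := Scheme.fppfPrecoverage.{u}
  let pb : QuotSh.rep K X ⟶ (presheafToSheaf J (Type (u + 1))).obj (orbitPresheaf a) :=
    (presheafToSheaf J (Type (u + 1))).map (toOrbit a)
  let g₀ : QuotSh.quot K a.act (snd G X) ⟶ (presheafToSheaf J (Type (u + 1))).obj (orbitPresheaf a) :=
    coequalizer.desc pb (by rw [← Functor.map_comp, ← Functor.map_comp, toOrbit_coeq])
  have hpb : pb = QuotSh.repMap K q ≫ inv (QuotSh.quotDesc K q w) ≫ g₀ := by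
    have h1 : QuotSh.quotπ K a.act (snd G X) ≫ QuotSh.quotDesc K q w = QuotSh.repMap K q :=
      coequalizer.π_desc _ _
    rw [← h1, Category.assoc, IsIso.hom_inv_id_assoc]
    exact (coequalizer.π_desc _ _).symm
  have key : ∀ z : T ⟶ X, (toSheafify J (orbitPresheaf a)).app (op T) ((toOrbit a).app (op T) ⟨z⟩) =
      (inv (QuotSh.quotDesc K q w) ≫ g₀).hom.app (op T)
        ((toSheafify J (yoneda.obj Y ⋙ uliftFunctor.{u + 1, u})).app (op T) ⟨z ≫ q⟩) := fun z => by
    have h1 := congr((($(toSheafify_naturality J (toOrbit a))).app (op T)) ⟨z⟩)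
    have h2 := congr((($(toSheafify_naturality J
      (Functor.whiskerRight (yoneda.map q) uliftFunctor.{u + 1, u}))).app (op T)) ⟨z⟩)
    refine h1.trans ?_
    rw [show sheafifyMap J (toOrbit a) = pb.hom from rfl, hpb]
    exact congrArg ((inv (QuotSh.quotDesc K q w) ≫ g₀).hom.app (op T)) h2.symm
  obtain ⟨I, V, f, hf, T', e, c, hec, hdesc, hext, h₁, h₂, h₃⟩ := exists_single_cover
    (Presheaf.equalizerSieve_mem J (toSheafify J (orbitPresheaf a))
      ((toOrbit a).app (op T) ⟨x⟩) ((toOrbit a).app (op T) ⟨y⟩) (by rw [key, key, h]))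
  have hrel : ∀ i, ∃ g : V i ⟶ G, lift g (f i ≫ x) ≫ a.act = f i ≫ y := fun i =>
    Quotient.exact (congrArg ULift.down (hf i))
  choose g hg using hrel
  obtain ⟨g', hg'⟩ := hdesc g
  refine ⟨T', c, g', hext _ _ fun i => ?_, h₁, h₂, h₃⟩
  rw [comp_lift_assoc, hg', reassoc_of% hec, reassoc_of% hec, hg]

/-- Let S be a scheme, G a group scheme over S acting through σ : G ×_S X → X on an S-scheme X, and q :
X → Y an S-morphism which is an fppf quotient of X by G: q coequalises σ and the second projection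
and the induced map from the quotient sheaf G\X (coequalizer of the two maps h_{G × X} ⇉ h_X of fppf
sheaves of sets on schemes over S) to h_Y is an isomorphism. Then q is also a geometric quotient: q
is invariant and surjective, the map G ×_S X → X ×_Y X is surjective, q is universally submersive,
and for every open U of Y the sections of O_Y over U map injectively onto the G-invariant sections
of O_X over q⁻¹U. No freeness of the action is assumed. -/
theorem result {S : Scheme.{u}} (G X Y : Over S) [GrpObj G]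
    (a : AlgGrp.Action G X) (q : X ⟶ Y)
    (hq : QuotSh.IsQuotient Scheme.fppfPrecoverage a.act (snd G X) q) :
    GIT.IsGeomQuot a q := by
  have hinv : GIT.IsInvariant a q := hq.choose
  obtain ⟨Y', c, r, hrc, hcf, hcs, hcl⟩ := exists_local_section hq
  have hrc' : r.left ≫ q.left = c.left := congrArg Over.Hom.left hrc
  refine ⟨hinv, fun y => ?_, fun z => ?_, ?_, fun U => ?_⟩
  · obtain ⟨y', rfl⟩ := c.left.surjective y
    exact ⟨r.left y', by rw [← Scheme.Hom.comp_apply, hrc']⟩
  · let P := Limits.pullback q.left q.left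
    let p₁ := pullback.fst q.left q.left
    let p₂ := pullback.snd q.left q.left
    let zz := P.fromSpecResidueField z
    let T : Over S := Over.mk (zz ≫ p₂ ≫ X.hom)
    let x : T ⟶ X := Over.homMk (zz ≫ p₂) (Category.assoc _ _ _)
    let y : T ⟶ X := Over.homMk (zz ≫ p₁) (by
      show (zz ≫ p₁) ≫ X.hom = zz ≫ p₂ ≫ X.hom
      rw [← Over.w q, Category.assoc, pullback.condition_assoc])
    obtain ⟨T', d, g, hg, -, hds, -⟩ := exists_local_translation hq x y (by
      ext
      show (zz ≫ p₂) ≫ q.left = (zz ≫ p₁) ≫ q.left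
      rw [Category.assoc, Category.assoc, pullback.condition])
    have h1 : (lift g (d ≫ x)).left ≫ GIT.PsiY a q hinv = d.left ≫ zz := by
      apply pullback.hom_ext
      · rw [Category.assoc, GIT.PsiY, pullback.lift_fst, ← Over.comp_left, hg, Category.assoc]
        rfl
      · rw [Category.assoc, GIT.PsiY, pullback.lift_snd, ← Over.comp_left, lift_snd, Category.assoc]
        rfl
    obtain ⟨t, -⟩ := d.left.surjective (IsLocalRing.closedPoint (P.residueField z))
    refine ⟨(lift g (d ≫ x)).left t, ?_⟩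
    show ((lift g (d ≫ x)).left ≫ GIT.PsiY a q hinv) t = z
    rw [h1, Scheme.Hom.comp_apply]
    exact Scheme.fromSpecResidueField_apply z _
  · intro X' Y₁ i₁ i₂ φ' hpb
    let p₁ := pullback.fst i₂ c.left
    let r' := hpb.lift p₁ (pullback.snd i₂ c.left ≫ r.left) (by
      rw [Category.assoc, hrc', pullback.condition])
    have hr' : r' ≫ φ' = p₁ := hpb.lift_fst _ _ _
    refine Topology.IsQuotientMap.of_comp r'.continuous φ'.continuous ?_
    rw [← TopCat.coe_comp, ← Scheme.Hom.comp_base, hr']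
    have : Surjective p₁ := inferInstance
    exact p₁.isOpenMap.isQuotientMap p₁.continuous p₁.surjective
  let qU := q.left ∣_ U
  let V := q.left ⁻¹ᵁ U
  let cU := c.left ∣_ U
  have : Flat cU := IsZariskiLocalAtTarget.restrict hcf U
  have : Surjective cU := IsZariskiLocalAtTarget.restrict hcs U
  have : LocallyOfFinitePresentation cU := IsZariskiLocalAtTarget.restrict hcl U
  let rU : (c.left ⁻¹ᵁ U).toScheme ⟶ V.toScheme := r.left.resLE V (c.left ⁻¹ᵁ U) (by
    rw [← hrc', Scheme.Hom.comp_preimage])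
  have hrU : rU ≫ qU = cU := by
    rw [← cancel_mono U.ι, Category.assoc, morphismRestrict_ι, morphismRestrict_ι,
      Scheme.Hom.resLE_comp_ι_assoc, hrc']
  have happ : ∀ s : Γ(Y.left, U), qU.appTop (U.topIso.inv s) =
      V.topIso.inv (q.left.app U s) := fun s => by
    have h1 : qU.appTop = U.topIso.hom ≫ q.left.app U ≫ V.topIso.inv := by
      rw [show qU = q.left.resLE U V le_rfl from (Scheme.Hom.resLE_eq_morphismRestrict _).symm,
        Scheme.Hom.appTop, Scheme.Hom.resLE_app_top, Scheme.Hom.app_eq_appLE]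
    rw [h1]
    simp only [CommRingCat.comp_apply, Iso.inv_hom_id_apply]
  refine ⟨fun s t hst => ?_, Set.ext fun f => ⟨?_, fun hf => ?_⟩⟩
  · have : EffectiveEpi cU := inferInstance
    apply U.topIso.commRingCatIsoToRingEquiv.symm.injective
    apply Groth.AlgGrp2.ConstFun.appTop_injective_of_epi cU
    show cU.appTop (U.topIso.inv s) = cU.appTop (U.topIso.inv t)
    rw [← hrU, Scheme.Hom.comp_appTop, CommRingCat.comp_apply, CommRingCat.comp_apply, happ, happ, hst]
  · rintro ⟨s, rfl⟩
    show (a.act.left.appLE _ _ _) _ = ((snd G X).left.appLE _ _ _) _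
    rw [← CommRingCat.comp_apply, ← CommRingCat.comp_apply, Scheme.Hom.app_eq_appLE,
      Scheme.Hom.appLE_comp_appLE, Scheme.Hom.appLE_comp_appLE]
    congr 2
    simp only [hinv.left]
  -- invariant functions agree on points with the same image
  let W := a.act.left ⁻¹ᵁ V ⊓ (snd G X).left ⁻¹ᵁ V
  have hW : (a.act.left.resLE V W inf_le_left).appTop (V.topIso.inv f) =
      ((snd G X).left.resLE V W inf_le_right).appTop (V.topIso.inv f) := by
    simp only [Scheme.Hom.appTop, Scheme.Hom.resLE_app_top, CommRingCat.comp_apply,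
      Iso.inv_hom_id_apply]
    exact congrArg _ hf
  have key : ∀ {T : Scheme.{u}} (A B : T ⟶ V.toScheme), A ≫ qU = B ≫ qU →
      A.appTop (V.topIso.inv f) = B.appTop (V.topIso.inv f) := by
    intro T A B hAB
    have hAB' : (A ≫ V.ι) ≫ q.left = (B ≫ V.ι) ≫ q.left := by
      simpa [qU, V] using congrArg (· ≫ U.ι) hAB
    let T₀ : Over S := Over.mk ((B ≫ V.ι) ≫ X.hom)
    let x : T₀ ⟶ X := Over.homMk (B ≫ V.ι) rfl
    let y : T₀ ⟶ X := Over.homMk (A ≫ V.ι) (by
      show (A ≫ V.ι) ≫ X.hom = (B ≫ V.ι) ≫ X.hom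
      rw [← Over.w q, ← Category.assoc, hAB', Category.assoc])
    obtain ⟨T', d, g, hg, hdf, hds, hdl⟩ := exists_local_translation hq x y
      (Over.OverMorphism.ext hAB'.symm)
    let z := (lift g (d ≫ x)).left
    have hz1 : z ≫ a.act.left = d.left ≫ A ≫ V.ι := congrArg Over.Hom.left hg
    have hz2 : z ≫ (snd G X).left = d.left ≫ B ≫ V.ι := congrArg Over.Hom.left (lift_snd g (d ≫ x))
    let z' := IsOpenImmersion.lift W.ι z (by
      rintro _ ⟨t, rfl⟩
      rw [Scheme.Opens.range_ι]
      constructor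
      · show (z ≫ a.act.left) t ∈ V
        rw [hz1]
        exact (A (d.left t)).2
      · show (z ≫ (snd G X).left) t ∈ V
        rw [hz2]
        exact (B (d.left t)).2)
    have e1 : z' ≫ a.act.left.resLE V W inf_le_left = d.left ≫ A := by
      rw [← cancel_mono V.ι, Category.assoc, Scheme.Hom.resLE_comp_ι, IsOpenImmersion.lift_fac_assoc,
        hz1, Category.assoc]
    have e2 : z' ≫ (snd G X).left.resLE V W inf_le_right = d.left ≫ B := by
      rw [← cancel_mono V.ι, Category.assoc, Scheme.Hom.resLE_comp_ι, IsOpenImmersion.lift_fac_assoc,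
        hz2, Category.assoc]
    have : EffectiveEpi d.left := Groth.AlgGrp1.IsCover.effectiveEpi ⟨hdf, hds, hdl⟩
    apply Groth.AlgGrp2.ConstFun.appTop_injective_of_epi d.left
    have h1 := congrArg (fun m => Scheme.Hom.appTop m (V.topIso.inv f)) e1
    have h2 := congrArg (fun m => Scheme.Hom.appTop m (V.topIso.inv f)) e2
    simp only [Scheme.Hom.comp_appTop, CommRingCat.comp_apply, hW] at h1 h2
    exact h1.symm.trans h2
  have : EffectiveEpi cU := inferInstance
  let F := Groth.AlgGrp2.ConstFun.fnHom V.toScheme (V.topIso.inv f)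
  have keyF : ∀ {T : Scheme.{u}} (A B : T ⟶ V.toScheme), A ≫ qU = B ≫ qU → A ≫ F = B ≫ F :=
    fun A B h => by rw [Groth.AlgGrp2.ConstFun.fnHom_comp, Groth.AlgGrp2.ConstFun.fnHom_comp, key A B h]
  let σ := EffectiveEpi.desc cU (rU ≫ F) (fun g₁ g₂ hg => by
    rw [← Category.assoc, ← Category.assoc]
    exact keyF _ _ (by rw [Category.assoc, Category.assoc, hrU, hg]))
  have hσ : qU ≫ σ = F := by
    let p₁ := pullback.fst qU cU
    let p₂ := pullback.snd qU cU
    have : EffectiveEpi p₁ := inferInstance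
    rw [← cancel_epi p₁, ← Category.assoc, pullback.condition, Category.assoc,
      EffectiveEpi.fac cU (rU ≫ F), ← Category.assoc]
    exact keyF _ _ (by rw [Category.assoc, hrU, pullback.condition])
  let s := σ.appTop Groth.AlgGrp2.ConstFun.coord
  refine ⟨U.topIso.hom s, V.topIso.commRingCatIsoToRingEquiv.symm.injective ?_⟩
  refine (happ _).symm.trans ?_
  rw [Iso.hom_inv_id_apply, ← CommRingCat.comp_apply, ← Scheme.Hom.comp_appTop, hσ,
    Groth.AlgGrp2.ConstFun.appTop_fnHom]
  rfl

end Groth.Agent.S16684
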