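import Groth.Statements.S16685
import Groth.Agent.Hopf.LocalHopf

set_option autoImplicit false
universe u
open HopfRep

namespace Groth.Agent.S16685

open TensorProduct Groth.Sga3.HopfDeriv Groth.ComodLib


/-- The description of the kernel of Frobenius established in the course of the proof. Let k be a field
of characteristic p > 0 and A a finite-dimensional commutative Hopf algebra over k which is a local
ring, the coordinate ring of a connected finite k-group scheme G; let I be the augmentation ideal
(the kernel of the counit), d = dim_k I/I² the dimension of the tangent space at the identity, and J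
⊆ A the ideal generated by the p-th powers of the elements of I, so that A/J is the coordinate ring
of the kernel G[F] of the relative Frobenius. Then A/J is isomorphic as a k-algebra to k[X_1, …,
X_d]/(X_1^p, …, X_d^p) (existence of an isomorphism; it depends on the choice of elements of I
lifting a basis of I/I²); in particular G[F] has rank p^d. -/
theorem result (k : Type u) [Field k] (p : ℕ) [Fact p.Prime] [CharP k p]
    (A : Type u) [CommRing A] [HopfAlgebra k A] [FiniteDimensional k A] [IsLocalRing A]
    (d : ℕ) (hd : Module.finrank k (RingHom.ker (Bialgebra.counitAlgHom k A).toRingHom).Cotangent = d) :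
    Nonempty ((A ⧸ Ideal.span ((fun a : A => a ^ p) '' (RingHom.ker (Bialgebra.counitAlgHom k A).toRingHom : Set A))) ≃ₐ[k]
      (MvPolynomial (Fin d) k ⧸ Ideal.span (Set.range fun i : Fin d => (MvPolynomial.X i : MvPolynomial (Fin d) k) ^ p))) := by
  classical
  have hnil : ∀ a, Bialgebra.counitAlgHom k A a = 0 → IsNilpotent a := LocalHopf.nil_of_isLocalRing
  obtain ⟨d', x, D, hx, hD, -⟩ := LocalHopf.exists_coordinates hnil
  obtain rfl : d' = d := (LocalHopf.finrank_cotangent x D hx hD).symm.trans hd
  clear hd
  rename' d' => d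
  let I := RingHom.ker (Bialgebra.counitAlgHom k A).toRingHom
  let J₀ := Ideal.span ((fun a : A => a ^ p) '' (I : Set A))
  let L := A ⧸ J₀
  have hJI : J₀ ≤ I := Ideal.span_le.2 (by
    rintro _ ⟨a, ha, rfl⟩
    exact I.pow_mem_of_mem ha p (Fact.out : p.Prime).pos)
  let εL : L →ₐ[k] k := Ideal.Quotient.liftₐ J₀ (Bialgebra.counitAlgHom k A) fun a ha => hJI ha
  have hεL : ∀ a : A, εL (Ideal.Quotient.mk J₀ a) = Bialgebra.counitAlgHom k A a := fun a => rfl
  have : Nontrivial L := ⟨⟨1, 0, fun h => by simpa using congrArg εL h⟩⟩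
  have hpow : ∀ a : A, (Ideal.Quotient.mk J₀ (a - algebraMap k A (Bialgebra.counitAlgHom k A a))) ^ p = 0 :=
    fun a => by
      rw [← map_pow, Ideal.Quotient.eq_zero_iff_mem]
      exact Ideal.subset_span ⟨_, by simp [I], rfl⟩
  let π : A →ₐ[k] L := Ideal.Quotient.mkₐ k J₀
  have hεπ : ∀ a : A, εL (π a) = Coalgebra.counit (R := k) a := fun a => rfl
  let Δ₀ : A →ₐ[k] L ⊗[k] L := (Algebra.TensorProduct.map π π).comp (Bialgebra.comulAlgHom k A)
  let ε₂ : L ⊗[k] L →ₐ[k] k := Algebra.TensorProduct.lift εL εL fun _ _ => Commute.all _ _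
  have : Nontrivial (L ⊗[k] L) := ⟨⟨1, 0, fun h => by simpa using congrArg ε₂ h⟩⟩
  have : CharP (L ⊗[k] L) p := charP_of_injective_algebraMap (algebraMap k (L ⊗[k] L)).injective p
  have : CharP L p := charP_of_injective_algebraMap (algebraMap k L).injective p
  have hLp : ∀ b : L, (b - algebraMap k L (εL b)) ^ p = 0 := by
    intro b
    obtain ⟨a, rfl⟩ := Ideal.Quotient.mk_surjective b
    rw [hεL]
    exact hpow a
  have hLLp : ∀ z : L ⊗[k] L, (z - algebraMap k (L ⊗[k] L) (ε₂ z)) ^ p = 0 := by
    intro z
    induction z with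
    | zero => simp [(Fact.out : p.Prime).ne_zero]
    | add y z hy hz => rw [map_add, map_add, add_sub_add_comm, add_pow_char, hy, hz, add_zero]
    | tmul b c =>
      have e : b ⊗ₜ[k] c - algebraMap k (L ⊗[k] L) (ε₂ (b ⊗ₜ[k] c)) =
          (b - algebraMap k L (εL b)) ⊗ₜ[k] c + algebraMap k L (εL b) ⊗ₜ[k] (c - algebraMap k L (εL c)) := by
        simp [ε₂, TensorProduct.sub_tmul, TensorProduct.tmul_sub, Algebra.algebraMap_eq_smul_one,
          Algebra.TensorProduct.one_def, TensorProduct.smul_tmul', TensorProduct.tmul_smul, smul_smul, mul_comm]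
      rw [e, add_pow_char, Algebra.TensorProduct.tmul_pow, Algebra.TensorProduct.tmul_pow, hLp, hLp]
      simp
  have hε₂ : ∀ a : A, ε₂ (Δ₀ a) = Bialgebra.counitAlgHom k A a := by
    intro a
    have key : ∀ z : A ⊗[k] A, ε₂ (Algebra.TensorProduct.map π π z) =
        Bialgebra.counitAlgHom k A (TensorProduct.rid k A (LinearMap.lTensor A (Coalgebra.counit (R := k)) z)) := by
      intro z
      induction z with
      | zero => simp
      | tmul y w => simp [ε₂, hεπ, mul_comm]
      | add y z hy hz => simp only [map_add, hy, hz]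
    refine (key _).trans ?_
    simp
  have hΔker : ∀ a ∈ J₀, Δ₀ a = 0 := by
    intro a ha
    have : J₀ ≤ RingHom.ker Δ₀ := Ideal.span_le.2 (by
      rintro _ ⟨c, hc, rfl⟩
      have hc' : Bialgebra.counitAlgHom k A c = 0 := hc
      simp only [SetLike.mem_coe, RingHom.mem_ker, map_pow]
      have h := hLLp (Δ₀ c)
      rwa [hε₂, hc', map_zero, sub_zero] at h)
    exact this ha
  let S : CounitalLocal k L :=
    { ε := εL
      Δ := Ideal.Quotient.liftₐ J₀ Δ₀ hΔker
      hr := fun b => by
        obtain ⟨a, rfl⟩ := Ideal.Quotient.mk_surjective b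
        have key : ∀ z : A ⊗[k] A, TensorProduct.rid k L (LinearMap.lTensor L εL.toLinearMap
            (Algebra.TensorProduct.map π π z)) =
            π (TensorProduct.rid k A (LinearMap.lTensor A (Coalgebra.counit (R := k)) z)) := by
          intro z
          induction z with
          | zero => simp
          | tmul y w => simp [hεπ]
          | add y z hy hz => simp only [map_add, hy, hz]
        refine (key _).trans ?_
        simp
        rfl
      hl := fun b => by
        obtain ⟨a, rfl⟩ := Ideal.Quotient.mk_surjective b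
        have key : ∀ z : A ⊗[k] A, TensorProduct.lid k L (LinearMap.rTensor L εL.toLinearMap
            (Algebra.TensorProduct.map π π z)) =
            π (TensorProduct.lid k A (LinearMap.rTensor A (Coalgebra.counit (R := k)) z)) := by
          intro z
          induction z with
          | zero => simp
          | tmul y w => simp [hεπ]
          | add y z hy hz => simp only [map_add, hy, hz]
        refine (key _).trans ?_
        simp
        rfl
      nil := fun b hb => ⟨p, by simpa [hb] using hLp b⟩ }
  have hDJ : ∀ i, ∀ a ∈ J₀, π (D i a) = 0 := by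
    intro i a ha
    induction ha using Submodule.span_induction with
    | mem y hy =>
      obtain ⟨c, -, rfl⟩ := hy
      simp [Derivation.leibniz_pow, CharP.cast_eq_zero, ← Nat.cast_smul_eq_nsmul k]
    | zero => simp
    | add y z _ _ hy hz => rw [map_add, map_add, hy, hz, add_zero]
    | smul r y hy ih =>
      have hy' : π y = 0 := Ideal.Quotient.eq_zero_iff_mem.2 hy
      rw [smul_eq_mul, Derivation.leibniz, map_add, smul_eq_mul, smul_eq_mul, map_mul, map_mul, ih, hy']
      simp
  let DL : Fin d → Derivation k L L := fun i => Derivation.mk'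
    ((J₀.restrictScalars k).liftQ (π.toLinearMap ∘ₗ (D i).toLinearMap) fun a ha => hDJ i a ha)
    (fun b c => by
      obtain ⟨b, rfl⟩ := Ideal.Quotient.mk_surjective b
      obtain ⟨c, rfl⟩ := Ideal.Quotient.mk_surjective c
      change π (D i (b * c)) = π b • π (D i c) + π c • π (D i b)
      simp [smul_eq_mul])
  let xL : Fin d → L := fun i => Ideal.Quotient.mk J₀ (x i)
  have hxL : Ideal.span (Set.range xL) = S.m := by
    have h1 : (RingHom.ker (Bialgebra.counitAlgHom k A)).map (Ideal.Quotient.mk J₀) = S.m := by
      refine le_antisymm (Ideal.map_le_iff_le_comap.2 fun a ha => ha) fun b hb => ?_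
      obtain ⟨a, rfl⟩ := Ideal.Quotient.mk_surjective b
      exact Ideal.mem_map_of_mem _ hb
    rw [← h1, ← hx, Ideal.map_span, ← Set.range_comp]
    rfl
  have hDL : ∀ i j, DL i (xL j) = if i = j then 1 else 0 := fun i j => by
    change π (D i (x j)) = _
    rw [hD]
    split_ifs <;> simp
  have hp0 : ∀ b, S.ε b = 0 → b ^ p = 0 := fun b hb => by simpa [show εL b = 0 from hb] using hLp b
  obtain ⟨hli, hsp⟩ := S.linearIndependent_and_span_height_one p hp0 hxL hDL
  let v : (Fin d → Fin p) → L := mono xL
  have hbij : Function.Bijective (Finsupp.linearCombination k v) :=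
    ⟨hli, by rw [← LinearMap.range_eq_top, Finsupp.range_linearCombination]; exact hsp⟩
  let J := Ideal.span (Set.range fun i : Fin d => (MvPolynomial.X i : MvPolynomial (Fin d) k) ^ p)
  have hJ : ∀ f ∈ J, MvPolynomial.aeval xL f = 0 := by
    intro f hf
    have : J ≤ RingHom.ker (MvPolynomial.aeval xL : MvPolynomial (Fin d) k →ₐ[k] L) :=
      Ideal.span_le.2 (Set.range_subset_iff.2 fun i => by
        simp only [SetLike.mem_coe, RingHom.mem_ker, map_pow, MvPolynomial.aeval_X]
        exact hp0 _ (S.mem_m.1 (hxL ▸ Ideal.subset_span ⟨i, rfl⟩)))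
    exact this hf
  let φ : (MvPolynomial (Fin d) k ⧸ J) →ₐ[k] L := Ideal.Quotient.liftₐ J (MvPolynomial.aeval xL) hJ
  let w : (Fin d → Fin p) → MvPolynomial (Fin d) k ⧸ J :=
    fun α => mono (fun i => Ideal.Quotient.mk J (MvPolynomial.X i)) α
  have hw : ∀ α, φ (w α) = v α := fun α => by
    simp only [w, v, mono, map_prod, map_pow]
    refine Finset.prod_congr rfl fun i _ => ?_
    show (MvPolynomial.aeval xL (MvPolynomial.X i)) ^ _ = _
    rw [MvPolynomial.aeval_X]
  have hs : Submodule.span k (Set.range w) = ⊤ := by
    refine eq_top_iff.2 fun f _ => ?_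
    obtain ⟨f, rfl⟩ := Ideal.Quotient.mk_surjective f
    have hXp : ∀ i, Ideal.Quotient.mk J (MvPolynomial.X i) ^ p = 0 := fun i => by
      rw [← map_pow, Ideal.Quotient.eq_zero_iff_mem]; exact Ideal.subset_span ⟨i, rfl⟩
    induction f using MvPolynomial.induction_on with
    | C r =>
      have : Ideal.Quotient.mk J (MvPolynomial.C r) = r • w (fun _ => ⟨0, (Fact.out : p.Prime).pos⟩) := by
        simp only [w, mono, pow_zero, Finset.prod_const_one]
        rw [← Algebra.algebraMap_eq_smul_one]
        rfl
      rw [this]; exact Submodule.smul_mem _ _ (Submodule.subset_span ⟨_, rfl⟩)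
    | add f g hf hg => rw [map_add]; exact add_mem (hf trivial) (hg trivial)
    | mul_X f i hf =>
      rw [map_mul]
      refine Submodule.span_induction (p := fun z _ => z * Ideal.Quotient.mk J (MvPolynomial.X i) ∈
        Submodule.span k (Set.range w)) ?_ (by simp) (fun a b _ _ ha hb => by rw [add_mul]; exact add_mem ha hb)
        (fun r a _ ha => by rw [smul_mul_assoc]; exact Submodule.smul_mem _ r ha) (hf trivial)
      rintro _ ⟨α, rfl⟩
      have key : w α * Ideal.Quotient.mk J (MvPolynomial.X i) =
          (∏ j ∈ Finset.univ.erase i, Ideal.Quotient.mk J (MvPolynomial.X j) ^ (α j : ℕ)) *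
            Ideal.Quotient.mk J (MvPolynomial.X i) ^ ((α i : ℕ) + 1) := by
        simp only [w, mono]
        rw [← Finset.prod_erase_mul _ _ (Finset.mem_univ i), pow_succ, _root_.mul_assoc]
      rw [key]
      by_cases h : (α i : ℕ) + 1 < p
      · refine Submodule.subset_span ⟨Function.update α i ⟨_, h⟩, ?_⟩
        simp only [w, mono]
        rw [← Finset.prod_erase_mul _ _ (Finset.mem_univ i), Function.update_self]
        congr 1
        exact Finset.prod_congr rfl fun j hj => by rw [Function.update_of_ne (Finset.ne_of_mem_erase hj)]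
      · rw [show (α i : ℕ) + 1 = p by have := (α i).isLt; omega, hXp, mul_zero]
        exact zero_mem _
  have hφσ : φ.toLinearMap ∘ₗ Finsupp.linearCombination k w = Finsupp.linearCombination k v := by
    refine Finsupp.lhom_ext fun α r => ?_
    simp [hw]
  have hσ : Function.Surjective (Finsupp.linearCombination k w) := by
    rw [← LinearMap.range_eq_top, Finsupp.range_linearCombination, hs]
  have hcomp : Function.Bijective (φ ∘ Finsupp.linearCombination k w) := by
    rw [show (φ ∘ Finsupp.linearCombination k w) = Finsupp.linearCombination k v from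
      funext fun z => LinearMap.congr_fun hφσ z]
    exact hbij
  exact ⟨(AlgEquiv.ofBijective φ ⟨hcomp.1.of_comp_right hσ, hcomp.2.of_comp⟩).symm⟩

end Groth.Agent.S16685
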