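import Groth.Statements.S16688
import Groth.Agent.Misc12.AntipodeComul

set_option autoImplicit false
universe u v w
open ComodSub
open scoped TensorProduct

namespace Groth.Agent.S16688

/-- Let `k` be a commutative ring, `A` a commutative Hopf algebra over `k` with antipode `S`, and `M` a
`k`-module with a left `A`-comodule structure `m ↦ Σ m₋₁ ⊗ m₀`. Then the map `M → M ⊗ A`, `m ↦ Σ m₀
⊗ S(m₋₁)`, is coassociative and counital: it is the coaction of a right `A`-comodule structure on
`M` (a right structure is determined by its coaction, so this structure is unique). -/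
theorem result (k : Type u) [CommRing k]
    (A : Type v) [CommRing A] [HopfAlgebra k A]
    (M : Type w) [AddCommGroup M] [Module k M] (l : ComodSub.LComod k A M) :
    ∃ c : HopfRep.Comod k A M, c.coact = ComodSub.rcoactOfLeft l := by
  refine ⟨⟨ComodSub.rcoactOfLeft l, ?_, ?_⟩, rfl⟩
  · have key : (TensorProduct.assoc k M A A).toLinearMap ∘ₗ (ComodSub.rcoactOfLeft l).rTensor A ∘ₗ
        ((TensorProduct.comm k A M).toLinearMap ∘ₗ (HopfAlgebraStruct.antipode (R := k) (A := A)).rTensor M) =
        ((TensorProduct.map LinearMap.id (TensorProduct.map (HopfAlgebraStruct.antipode (R := k) (A := A))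
            (HopfAlgebraStruct.antipode (R := k) (A := A)) ∘ₗ (TensorProduct.comm k A A).toLinearMap)) ∘ₗ
          (TensorProduct.comm k (A ⊗[k] A) M).toLinearMap ∘ₗ (TensorProduct.assoc k A A M).symm.toLinearMap) ∘ₗ
          l.coact.lTensor A := by
      refine TensorProduct.ext' fun a v => ?_
      simp only [LinearMap.comp_apply, LinearEquiv.coe_coe, LinearMap.rTensor_tmul, LinearMap.lTensor_tmul,
        TensorProduct.comm_tmul, ComodSub.rcoactOfLeft]
      induction l.coact v using TensorProduct.induction_on with
      | zero => simp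
      | tmul b w => simp
      | add x y hx hy => simp only [map_add, TensorProduct.tmul_add, TensorProduct.add_tmul, hx, hy]
    have key2 : (CoalgebraStruct.comul (R := k) (A := A)).lTensor M ∘ₗ
        ((TensorProduct.comm k A M).toLinearMap ∘ₗ (HopfAlgebraStruct.antipode (R := k) (A := A)).rTensor M) =
        ((TensorProduct.map LinearMap.id (TensorProduct.map (HopfAlgebraStruct.antipode (R := k) (A := A))
            (HopfAlgebraStruct.antipode (R := k) (A := A)) ∘ₗ (TensorProduct.comm k A A).toLinearMap)) ∘ₗ
          (TensorProduct.comm k (A ⊗[k] A) M).toLinearMap ∘ₗ (TensorProduct.assoc k A A M).symm.toLinearMap) ∘ₗ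
          (TensorProduct.assoc k A A M).toLinearMap ∘ₗ (CoalgebraStruct.comul (R := k) (A := A)).rTensor M := by
      refine TensorProduct.ext' fun a v => ?_
      simp [Groth.Misc12.comul_antipode_eq]
    calc (TensorProduct.assoc k M A A).toLinearMap ∘ₗ (ComodSub.rcoactOfLeft l).rTensor A ∘ₗ ComodSub.rcoactOfLeft l
        = ((TensorProduct.assoc k M A A).toLinearMap ∘ₗ (ComodSub.rcoactOfLeft l).rTensor A ∘ₗ
          ((TensorProduct.comm k A M).toLinearMap ∘ₗ (HopfAlgebraStruct.antipode (R := k) (A := A)).rTensor M)) ∘ₗ
            l.coact := rfl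
      _ = _ := by rw [key, LinearMap.comp_assoc, l.coassoc]
      _ = ((CoalgebraStruct.comul (R := k) (A := A)).lTensor M ∘ₗ
        ((TensorProduct.comm k A M).toLinearMap ∘ₗ (HopfAlgebraStruct.antipode (R := k) (A := A)).rTensor M)) ∘ₗ
          l.coact := by rw [key2]; rfl
      _ = _ := rfl
  · have key : (CoalgebraStruct.counit (R := k) (A := A)).lTensor M ∘ₗ
        ((TensorProduct.comm k A M).toLinearMap ∘ₗ (HopfAlgebraStruct.antipode (R := k) (A := A)).rTensor M) =
        (TensorProduct.comm k k M).toLinearMap ∘ₗ (CoalgebraStruct.counit (R := k) (A := A)).rTensor M := by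
      refine TensorProduct.ext' fun a v => ?_
      simp
    change ((CoalgebraStruct.counit (R := k) (A := A)).lTensor M ∘ₗ
        ((TensorProduct.comm k A M).toLinearMap ∘ₗ (HopfAlgebraStruct.antipode (R := k) (A := A)).rTensor M)) ∘ₗ
          l.coact = _
    rw [key, LinearMap.comp_assoc, l.counit_comp]
    rfl

end Groth.Agent.S16688
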