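import Groth.Statements.S16689
import Groth.Agent.Misc12.AntipodeComul

set_option autoImplicit false
universe u v w
open ComodSub
open scoped TensorProduct

namespace Groth.Agent.S16689

/-- Let `k` be a commutative ring, `A` a commutative Hopf algebra over `k` with antipode `S`, and `M` a
`k`-module with a right `A`-comodule structure `m ↦ Σ m₀ ⊗ m₁`. Then the map `M → A ⊗ M`, `m ↦ Σ
S(m₁) ⊗ m₀`, is coassociative and counital: it is the coaction of a left `A`-comodule structure on
`M` (a left structure is determined by its coaction, so this structure is unique). -/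
theorem result (k : Type u) [CommRing k]
    (A : Type v) [CommRing A] [HopfAlgebra k A]
    (M : Type w) [AddCommGroup M] [Module k M] (c : HopfRep.Comod k A M) :
    ∃ l : ComodSub.LComod k A M, l.coact = ComodSub.lcoactOfRight c := by
  refine ⟨⟨ComodSub.lcoactOfRight c, ?_, ?_⟩, rfl⟩
  · have key : (ComodSub.lcoactOfRight c).lTensor A ∘ₗ
        ((TensorProduct.comm k M A).toLinearMap ∘ₗ (HopfAlgebraStruct.antipode (R := k) (A := A)).lTensor M) =
        ((TensorProduct.assoc k A A M).toLinearMap ∘ₗ (TensorProduct.comm k M (A ⊗[k] A)).toLinearMap ∘ₗ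
          TensorProduct.map LinearMap.id (TensorProduct.map (HopfAlgebraStruct.antipode (R := k) (A := A))
            (HopfAlgebraStruct.antipode (R := k) (A := A)) ∘ₗ (TensorProduct.comm k A A).toLinearMap)) ∘ₗ
          ((TensorProduct.assoc k M A A).toLinearMap ∘ₗ c.coact.rTensor A) := by
      refine TensorProduct.ext' fun v a => ?_
      simp only [LinearMap.comp_apply, LinearEquiv.coe_coe, LinearMap.rTensor_tmul, LinearMap.lTensor_tmul,
        TensorProduct.comm_tmul, ComodSub.lcoactOfRight]
      induction c.coact v using TensorProduct.induction_on with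
      | zero => simp
      | tmul w b => simp
      | add x y hx hy => simp only [map_add, TensorProduct.tmul_add, TensorProduct.add_tmul, hx, hy]
    have key2 : (TensorProduct.assoc k A A M).toLinearMap ∘ₗ (CoalgebraStruct.comul (R := k) (A := A)).rTensor M ∘ₗ
        ((TensorProduct.comm k M A).toLinearMap ∘ₗ (HopfAlgebraStruct.antipode (R := k) (A := A)).lTensor M) =
        ((TensorProduct.assoc k A A M).toLinearMap ∘ₗ (TensorProduct.comm k M (A ⊗[k] A)).toLinearMap ∘ₗ
          TensorProduct.map LinearMap.id (TensorProduct.map (HopfAlgebraStruct.antipode (R := k) (A := A))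
            (HopfAlgebraStruct.antipode (R := k) (A := A)) ∘ₗ (TensorProduct.comm k A A).toLinearMap)) ∘ₗ
          (CoalgebraStruct.comul (R := k) (A := A)).lTensor M := by
      refine TensorProduct.ext' fun v a => ?_
      simp [Groth.Misc12.comul_antipode_eq]
    calc (ComodSub.lcoactOfRight c).lTensor A ∘ₗ ComodSub.lcoactOfRight c
        = ((ComodSub.lcoactOfRight c).lTensor A ∘ₗ
        ((TensorProduct.comm k M A).toLinearMap ∘ₗ (HopfAlgebraStruct.antipode (R := k) (A := A)).lTensor M)) ∘ₗ
            c.coact := rfl
      _ = ((TensorProduct.assoc k A A M).toLinearMap ∘ₗ (CoalgebraStruct.comul (R := k) (A := A)).rTensor M ∘ₗ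
        ((TensorProduct.comm k M A).toLinearMap ∘ₗ (HopfAlgebraStruct.antipode (R := k) (A := A)).lTensor M)) ∘ₗ
            c.coact := by rw [key, key2]; simp only [LinearMap.comp_assoc]; rw [c.coassoc]
      _ = _ := rfl
  · have key : (CoalgebraStruct.counit (R := k) (A := A)).rTensor M ∘ₗ
        ((TensorProduct.comm k M A).toLinearMap ∘ₗ (HopfAlgebraStruct.antipode (R := k) (A := A)).lTensor M) =
        (TensorProduct.comm k M k).toLinearMap ∘ₗ (CoalgebraStruct.counit (R := k) (A := A)).lTensor M := by
      refine TensorProduct.ext' fun v a => ?_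
      simp
    change ((CoalgebraStruct.counit (R := k) (A := A)).rTensor M ∘ₗ
        ((TensorProduct.comm k M A).toLinearMap ∘ₗ (HopfAlgebraStruct.antipode (R := k) (A := A)).lTensor M)) ∘ₗ
          c.coact = _
    rw [key, LinearMap.comp_assoc, c.counit_comp]
    rfl

end Groth.Agent.S16689
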