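import Groth.Statements.S1669
import Groth.Agent.S7606

set_option autoImplicit false
universe u
open CategoryTheory CategoryTheory.Limits AlgebraicGeometry
open Variety

namespace Groth.Agent.S1669

/-- Let X be a locally Noetherian scheme over k such that X_{k'} has regular local rings for every
finite purely inseparable extension k' of k. Then X is geometrically regular over k at every point
(its base change to any finitely generated field extension has regular local rings). -/
theorem result (k : Type u) [Field k] (X : Scheme.{u}) [X.Over (Spec (CommRingCat.of k))] [IsLocallyNoetherian X]
    (h : ∀ (k' : Type u) [Field k'] [Algebra k k'] [FiniteDimensional k k'] [IsPurelyInseparable k k']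
      (x' : Curv2.bc k X k'), IsRegularLocalRing ((Curv2.bc k X k').presheaf.stalk x'))
    (x : X) : Curv2.IsGeomRegularAt k X x := by
  exact (Groth.Agent.S7606.result k X x).1.mpr fun k' _ _ _ _ x' _ => h k' x'

end Groth.Agent.S1669
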