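import Groth.Statements.S16692
import Groth.Agent.GitQuot.KeelMori.GluedSep
-- import your own Groth.Agent.* helpers here

set_option autoImplicit false
universe u
open AlgSt

namespace Groth.Agent.S16692

open CategoryTheory AlgebraicGeometry in
/-- An algebraic stack whose inertia is finite over it has a uniform categorical moduli space `π : 𝒳 →
M` in algebraic spaces, and `π` is separated, quasi-compact and a universal homeomorphism. -/
theorem result (S : Scheme.{u}) (𝒳 : AlgSt.Cat S)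
    (h𝒳 : AlgSt.IsAlgStack Scheme.fppfPrecoverage 𝒳)
    (hI : AlgSt.RepByAlgSpWith AlgSp.IsFiniteMor (FibCat.inertiaToBase (FibCat.toSelf 𝒳))) :
    ∃ (M : AlgSp.Sp S) (π : 𝒳 ⥤ᵇ AlgSt.ofSp M), AlgSt.IsUnifCatModuli π ∧ AlgSt.IsSeparatedMor π ∧
      AlgSt.IsQuasiCompactMor Scheme.fppfPrecoverage π ∧ AlgSt.IsUnivHomeo Scheme.fppfPrecoverage π := by
  obtain ⟨ι, P, hcov⟩ := Groth.KeelMori.exists_pieces h𝒳 hI
  exact ⟨_, _, Groth.KeelMori.isUnifCatModuli_of_pieces h𝒳 P hcov⟩

end Groth.Agent.S16692
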