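import Groth.Statements.S16693
import Groth.Agent.GitQuot.KeelMori.Lft
-- import your own Groth.Agent.* helpers here

set_option autoImplicit false
universe u
open AlgSt

namespace Groth.Agent.S16693

open CategoryTheory AlgebraicGeometry in
/-- For an algebraic stack `𝒳` with finite inertia, locally of finite type over a locally Noetherian
algebraic space `Y`, and `π : 𝒳 → M` a categorical moduli space (which, the inertia being finite, is
the Keel–Mori moduli space), the induced morphism `M → Y` is locally of finite type. -/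
theorem result (S : Scheme.{u}) (𝒳 : AlgSt.Cat S)
    (h𝒳 : AlgSt.IsAlgStack Scheme.fppfPrecoverage 𝒳)
    (hI : AlgSt.RepByAlgSpWith AlgSp.IsFiniteMor (FibCat.inertiaToBase (FibCat.toSelf 𝒳)))
    (Y : AlgSp.Sp S) (hY : AlgSp.IsAlgSpace Y) (hYn : AlgSp.IsLocNoethSp Y)
    (p : 𝒳 ⥤ᵇ AlgSt.ofSp Y) (hp : AlgSt.LocQ (AlgSp.LocP @LocallyOfFiniteType) p)
    (M : AlgSp.Sp S) (π : 𝒳 ⥤ᵇ AlgSt.ofSp M) (hπ : AlgSt.IsCatModuli π)
    (g : M ⟶ Y) (hg : Nonempty (BasedFunctor.comp π (AlgSt.ofSpMap g) ≅ p)) :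
    AlgSp.LocP @LocallyOfFiniteType g := Groth.KeelMori.locP_lft_moduli h𝒳 hI hY hYn p hp hπ g hg

end Groth.Agent.S16693
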