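import Groth.Statements.S16696
import Groth.Agent.GitQuot.KeelMori.FunctorialMain
-- import your own Groth.Agent.* helpers here

set_option autoImplicit false
universe u
open AlgSt

namespace Groth.Agent.S16696

open CategoryTheory AlgebraicGeometry in
/-- Let `h : 𝒳' → 𝒳` be a morphism of algebraic stacks, `𝒳` with finite inertia, with `h` representable
by algebraic spaces and étale, separated, and bijective on the automorphism groups (over the
identity) of all objects. For categorical moduli spaces `π : 𝒳 → M`, `π' : 𝒳' → M'` (the Keel–Mori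
moduli spaces; `𝒳'` has finite inertia as well) the induced `M' → M` is separated and étale and the
square is 2-cartesian. (The source asks `h` étale and inducing isomorphisms on automorphism groups
at all points; such an `h` is representable by algebraic spaces, and for unramified `h` the
pointwise condition is the inertia condition used here.) -/
theorem result (S : Scheme.{u}) (𝒳 𝒳' : AlgSt.Cat S)
    (h𝒳 : AlgSt.IsAlgStack Scheme.fppfPrecoverage 𝒳)
    (hI : AlgSt.RepByAlgSpWith AlgSp.IsFiniteMor (FibCat.inertiaToBase (FibCat.toSelf 𝒳)))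
    (h𝒳' : AlgSt.IsAlgStack Scheme.fppfPrecoverage 𝒳') (h : 𝒳' ⥤ᵇ 𝒳)
    (het : AlgSt.RepByAlgSpWith AlgSp.IsEtaleMor h) (hsep : AlgSt.IsSeparatedMor h)
    (haut : ∀ x' : 𝒳'.obj, Function.Bijective (Gerb.autMap h x'))
    (M : AlgSp.Sp S) (π : 𝒳 ⥤ᵇ AlgSt.ofSp M) (hπ : AlgSt.IsCatModuli π)
    (M' : AlgSp.Sp S) (π' : 𝒳' ⥤ᵇ AlgSt.ofSp M') (hπ' : AlgSt.IsCatModuli π') :
    ∃ (g : M' ⟶ M) (e : BasedFunctor.comp h π ≅ BasedFunctor.comp π' (AlgSt.ofSpMap g)),
      AlgSp.IsEtaleMor g ∧ AlgSp.IsSeparatedMor g ∧ FibCat.IsTwoCartOver h π' e := Groth.KeelMori.exists_isTwoCartOver_moduli h𝒳 hI h𝒳' h het hsep haut hπ hπ'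

end Groth.Agent.S16696
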