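import Groth.Statements.S1670
import Groth.Agent.VarietyBC.Galois

set_option autoImplicit false
universe u
open CategoryTheory CategoryTheory.Limits AlgebraicGeometry
open Variety

namespace Groth.Agent.S1670

/-- Let X be locally of finite type over k, K a separable closure of k, and T an irreducible component
of X. Then the inverse image of T in X_K is the union of the finitely many irreducible components of
X_K mapping into T, and these form a single orbit under the action of the k-automorphisms of K on
X_K. -/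
theorem result (k : Type u) [Field k] (X : Scheme.{u}) [X.Over (Spec (CommRingCat.of k))] [LocallyOfFiniteType (X ↘ (Spec (CommRingCat.of k)))]
    (T : Set X) (hT : T ∈ irreducibleComponents (X : Type u)) :
    {T' : Set (Curv2.bc k X (SeparableClosure k)) | T' ∈ irreducibleComponents (Curv2.bc k X (SeparableClosure k) : Type u) ∧
        (Curv2.bcFst k X (SeparableClosure k)).base '' T' ⊆ T}.Finite ∧
      (Curv2.bcFst k X (SeparableClosure k)).base ⁻¹' T = ⋃₀ {T' : Set (Curv2.bc k X (SeparableClosure k)) | T' ∈ irreducibleComponents (Curv2.bc k X (SeparableClosure k) : Type u) ∧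
        (Curv2.bcFst k X (SeparableClosure k)).base '' T' ⊆ T} ∧
      ∀ T' T'' : Set (Curv2.bc k X (SeparableClosure k)), T' ∈ irreducibleComponents (Curv2.bc k X (SeparableClosure k) : Type u) →
        T'' ∈ irreducibleComponents (Curv2.bc k X (SeparableClosure k) : Type u) →
        (Curv2.bcFst k X (SeparableClosure k)).base '' T' ⊆ T → (Curv2.bcFst k X (SeparableClosure k)).base '' T'' ⊆ T →
        ∃ σ : (SeparableClosure k) ≃ₐ[k] (SeparableClosure k), (Curv2.galAct k X (SeparableClosure k) σ).base '' T' = T'' := by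
  set S := SeparableClosure k
  set p := Curv2.bcFst k X S
  obtain ⟨ξ, hξ⟩ := QuasiSober.sober hT.1 (isClosed_of_mem_irreducibleComponents T hT)
  have himg : ∀ Z ∈ irreducibleComponents (Curv2.bc k X S : Type u), p.base '' Z ⊆ T → p.base '' Z = T :=
    fun Z hZ hle => Set.Subset.antisymm hle
      ((Groth.VarietyBC.bcFst_image_mem_irreducibleComponents hZ).2 hT.1 hle)
  refine ⟨?_, Groth.VarietyBC.preimage_eq_sUnion hT, fun T' T'' h1 h2 h3 h4 =>
    Groth.VarietyBC.exists_galAct_image_eq h1 h2 ((himg _ h1 h3).trans (himg _ h2 h4).symm)⟩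
  obtain ⟨U, hU, hξU, -⟩ := exists_isAffineOpen_mem_and_subset (U := (⊤ : X.Opens)) (x := ξ) trivial
  have : LocallyOfFiniteType (Curv2.bcSnd k X S) := MorphismProperty.of_isPullback (P := (@LocallyOfFiniteType : MorphismProperty Scheme.{u}))
    (IsPullback.of_hasPullback (X ↘ (Spec (CommRingCat.of k))) _) inferInstance
  have := LocallyOfFiniteType.isLocallyNoetherian (Curv2.bcSnd k X S)
  have : IsAffineHom p := by
    have := Groth.VarietyBC.isIntegralHom_bcFst (k := k) (X := X) (K := S)
    infer_instance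
  let V := p ⁻¹ᵁ U
  have hV : IsAffineOpen V := hU.preimage p
  have : IsNoetherianRing Γ(Curv2.bc k X S, V) := IsLocallyNoetherian.component_noetherian ⟨V, hV⟩
  have hfin : (irreducibleComponents (Spec Γ(Curv2.bc k X S, V))).Finite :=
    TopologicalSpace.NoetherianSpace.finite_irreducibleComponents (α := PrimeSpectrum Γ(Curv2.bc k X S, V))
  have hmeet : ∀ Z : Set (Curv2.bc k X S), Z ∈ irreducibleComponents (Curv2.bc k X S : Type u) →
      p.base '' Z ⊆ T → (Z ∩ Set.range hV.fromSpec).Nonempty := fun Z hZ hle => by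
    obtain ⟨z, hz, hzξ⟩ := (himg Z hZ hle).ge hξ.mem
    refine ⟨z, hz, ?_⟩
    rw [hV.range_fromSpec]
    change p z ∈ U
    exact hzξ ▸ hξU
  refine Set.Finite.of_finite_image (f := fun Z => hV.fromSpec ⁻¹' Z) (hfin.subset ?_) ?_
  · rintro _ ⟨Z, ⟨hZ, hle⟩, rfl⟩
    exact preimage_mem_irreducibleComponents hZ hV.fromSpec.isOpenEmbedding (hmeet Z hZ hle)
  · intro Z ⟨hZ, hle⟩ Z2 ⟨hZ2, hle2⟩ he
    have h : ∀ A : Set (Curv2.bc k X S), A ∈ irreducibleComponents (Curv2.bc k X S : Type u) → p.base '' A ⊆ T →
        closure (hV.fromSpec '' (hV.fromSpec ⁻¹' A)) = A := fun A hA hAle =>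
      closure_image_preimage_of_isPreirreducible _ hV.fromSpec.isOpenEmbedding.isOpenMap A
        (by obtain ⟨z, hz, w, rfl⟩ := hmeet A hA hAle; exact ⟨w, hz⟩)
        hA.1.2 (isClosed_of_mem_irreducibleComponents A hA)
    rw [← h Z hZ hle, ← h Z2 hZ2 hle2]
    exact congrArg (fun B => closure (hV.fromSpec '' B)) he

end Groth.Agent.S1670
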