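import Groth.Statements.S16701
import Groth.Agent.GitQuot.KeelMori.WnaEtale

set_option autoImplicit false
universe u
open AlgSt AlgSt.IsWellNighAffine

namespace Groth.Agent.S16701

open CategoryTheory AlgebraicGeometry in
/-- For `h : 𝒳' → 𝒳` between well-nigh affine algebraic stacks, representable by algebraic spaces and
étale, and bijective on the automorphism groups (over the identity) of all objects, and for
categorical moduli spaces `π : 𝒳 → M`, `π' : 𝒳' → M'` (the affine moduli spaces), the induced `M' →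
M` is étale and the square is 2-cartesian. (The source asks `h` étale and inducing isomorphisms on
automorphism groups at all points; such an `h` is representable by algebraic spaces, and for
unramified `h` the pointwise condition is the inertia condition used here.) -/
theorem result (S : Scheme.{u}) (𝒳 𝒳' : AlgSt.Cat S)
    (h𝒳 : AlgSt.IsAlgStack Scheme.fppfPrecoverage 𝒳) (h𝒳' : AlgSt.IsAlgStack Scheme.fppfPrecoverage 𝒳')
    (hw : AlgSt.IsWellNighAffine 𝒳) (hw' : AlgSt.IsWellNighAffine 𝒳') (h : 𝒳' ⥤ᵇ 𝒳)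
    (het : AlgSt.RepByAlgSpWith AlgSp.IsEtaleMor h)
    (haut : ∀ x' : 𝒳'.obj, Function.Bijective (Gerb.autMap h x'))
    (M : AlgSp.Sp S) (π : 𝒳 ⥤ᵇ AlgSt.ofSp M) (hπ : AlgSt.IsCatModuli π)
    (M' : AlgSp.Sp S) (π' : 𝒳' ⥤ᵇ AlgSt.ofSp M') (hπ' : AlgSt.IsCatModuli π') :
    ∃ (g : M' ⟶ M) (e : BasedFunctor.comp h π ≅ BasedFunctor.comp π' (AlgSt.ofSpMap g)),
      AlgSp.IsEtaleMor g ∧ FibCat.IsTwoCartOver h π' e := by
  exact Groth.KeelMori.exists_isTwoCartOver_of_etale h𝒳 h𝒳' hw hw' h het haut M π hπ M' π' hπ'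

end Groth.Agent.S16701
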