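import Groth.Statements.S16703
import Groth.Agent.GitQuot.KeelMori.EtaleNhd

set_option autoImplicit false
universe u
open AlgSt

namespace Groth.Agent.S16703

open CategoryTheory AlgebraicGeometry in
/-- An algebraic stack with finite inertia is covered, on points, by the images of morphisms `g : 𝒳' →
𝒳` from well-nigh affine algebraic stacks which are representable by algebraic spaces, separated and
étale, and bijective on the automorphism groups (over the identity) of all objects of `𝒳'` (the
inertia of `𝒳'` is the pullback of the inertia of `𝒳`). Stated one point at a time; the family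
indexed by a set is the collection of these. -/
theorem result (S : Scheme.{u}) (𝒳 : AlgSt.Cat S)
    (h𝒳 : AlgSt.IsAlgStack Scheme.fppfPrecoverage 𝒳)
    (hI : AlgSt.RepByAlgSpWith AlgSp.IsFiniteMor (FibCat.inertiaToBase (FibCat.toSelf 𝒳)))
    (x : AlgSt.Points 𝒳) :
    ∃ (𝒳' : AlgSt.Cat S) (g : 𝒳' ⥤ᵇ 𝒳), x ∈ Set.range (AlgSt.Points.map g) ∧
      AlgSt.IsAlgStack Scheme.fppfPrecoverage 𝒳' ∧ AlgSt.IsWellNighAffine 𝒳' ∧
      (∀ x' : 𝒳'.obj, Function.Bijective (Gerb.autMap g x')) ∧
      AlgSt.RepByAlgSpWith AlgSp.IsEtaleMor g ∧ AlgSt.IsSeparatedMor g := by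
  exact Groth.KeelMori.exists_wna_etale_nhd h𝒳 hI x

end Groth.Agent.S16703
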