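import Groth.Statements.S16704
import Groth.Agent.GitQuot.KeelMori.Uniform
import Groth.Agent.AlgStBasic.PropCalc

set_option autoImplicit false
universe u
open AlgSt Groth.StkBase Groth.AlgSpBasic Groth.KeelMori

namespace Groth.Agent.S16704

open CategoryTheory AlgebraicGeometry Opposite in
/-- Flat base change of a morphism whose affine flat base changes are categorical moduli spaces. -/
theorem catModuli_baseChange {S : Scheme.{u}} {𝒳 : AlgSt.Cat S} (hX : FibCat.IsFibGrpd 𝒳.p)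
    {Y : AlgSp.Sp S} (hY : AlgSp.IsAlgSpace Y) (f : 𝒳 ⥤ᵇ AlgSt.ofSp Y)
    (hf : ∀ (Y' : Over S), IsAffine Y'.left → ∀ (g : (AlgSp.yon S).obj Y' ⟶ Y), AlgSp.LocP @Flat g →
      AlgSt.IsCatModuli (FibCat.fpFst (AlgSt.ofSpMap g) f))
    {M : AlgSp.Sp S} (hM : AlgSp.IsAlgSpace M) (g : M ⟶ Y) (hg : AlgSp.LocP @Flat g) :
    AlgSt.IsCatModuli (FibCat.fpFst (AlgSt.ofSpMap g) f) := by
  let p := FibCat.fpFst (AlgSt.ofSpMap g) f
  refine ⟨hM, fun N hN φ => ?_⟩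
  have hZ : FibCat.IsFibGrpd (FibCat.fp (AlgSt.ofSpMap g) f).p :=
    isFibGrpd_fp (isFibSetoid_ofPsh M.obj).1 hX (isFibSetoid_ofPsh Y.obj).1
  have key : ∀ (v : M ⟶ N), Nonempty (BasedFunctor.comp p (AlgSt.ofSpMap v) ≅ φ) ↔
      ∀ z, v.hom.app (op ((FibCat.fp (AlgSt.ofSpMap g) f).p.obj z)) (secOf p z) = secOf φ z := by
    intro v
    have e : ∀ z, secOf (BasedFunctor.comp p (AlgSt.ofSpMap v)) z =
        v.hom.app (op ((FibCat.fp (AlgSt.ofSpMap g) f).p.obj z)) (secOf p z) := fun z =>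
      (NatTrans.naturality_apply v.hom (eqToHom (p.w_obj z).symm).op (p.obj z).sec).symm
    exact ⟨fun ⟨α⟩ z => (e z).symm.trans (secOf_eq_of_iso α z),
      fun h => nonempty_iso_of_secOf N.obj fun z => (e z).trans (h z)⟩
  suffices haff : ∀ (T : Over S), IsAffine T.left → ∀ x : (AlgSp.yon S).obj T ⟶ M,
      AlgSp.LocP @Flat x → ∃! y, Ext p φ T x y by
    obtain ⟨v, hv, huniq⟩ := existsUnique_of_affine p φ hZ hM haff
    exact ⟨v, (key v).2 hv, fun v' hv' => huniq v' ((key v').1 hv')⟩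
  intro T hT x hx
  let Λ := fpPre (AlgSt.ofSpMap x) (BasedFunctor.id 𝒳) (AlgSt.ofSpMap g) f
  have hxg : AlgSp.LocP @Flat (x ≫ g) :=
    Groth.AlgSpBasic.locP_comp (AlgSp.IsAlgSpace.yon_obj T) hM hY hx hg
  obtain ⟨y, ⟨α⟩, hy⟩ := (hf T hT (x ≫ g) hxg).2 N hN (BasedFunctor.comp Λ φ)
  let p' := FibCat.fpFst (AlgSt.ofSpMap (x ≫ g)) f
  have e' : ∀ (y : (AlgSp.yon S).obj T ⟶ N) Q,
      secOf (BasedFunctor.comp p' (AlgSt.ofSpMap y)) Q =
        y.hom.app (op ((FibCat.fp (AlgSt.ofSpMap (x ≫ g)) f).p.obj Q)) Q.obj.fst.sec := by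
    intro y Q
    refine (NatTrans.naturality_apply y.hom (eqToHom (p'.w_obj Q).symm).op _).symm.trans ?_
    exact congrArg (y.hom.app _) (map_op_id ((AlgSp.yon S).obj T).obj _ rfl _)
  have ex : ∀ Q : (FibCat.fp (AlgSt.ofSpMap (x ≫ g)) f).obj,
      x.hom.app (op Q.obj.fst.base) Q.obj.fst.sec = secOf p (Λ.obj Q) := fun Q =>
    (map_op_id M.obj _ rfl _).symm
  refine ⟨y, fun z k hk => ?_, fun y' hy' => hy y' ⟨?_⟩⟩
  · have hsec : x.hom.app (op z.obj.fst.base) ⟨k⟩ = z.obj.fst.sec :=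
      hk.trans (map_op_id M.obj _ rfl _)
    let a : (AlgSt.ofSch T).obj := ⟨z.obj.fst.base, ⟨k⟩⟩
    have ea : (AlgSt.ofSpMap x).obj a = z.obj.fst := congrArg (Stk.EltObj.mk z.obj.fst.base) hsec
    let i : (AlgSt.ofSpMap g).obj ((AlgSt.ofSpMap x).obj a) ≅ f.obj z.obj.snd :=
      (AlgSt.ofSpMap g).toFunctor.mapIso (eqToIso ea) ≪≫ z.obj.iso
    have hv : IsVert (AlgSt.ofSp M).p (eqToIso ea).hom := isVert_eqToHom ea
    let Q : (FibCat.fp (AlgSt.ofSpMap (x ≫ g)) f).obj :=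
      fpMk (F := AlgSt.ofSpMap (x ≫ g)) (G := f) a z.obj.snd i ((isVert_map hv).comp (fp_isVert z))
    have h₁ := (e' y Q).symm.trans (secOf_eq_of_iso α Q)
    let ν : Λ.obj Q ⟶ z := (fpObjIso (x := Λ.obj Q) (y := z) (eqToIso ea) (Iso.refl z.obj.snd) (by
      show (AlgSt.ofSpMap g).map (eqToIso ea).hom ≫ z.obj.iso.hom = i.hom ≫ f.map (𝟙 _)
      rw [CategoryTheory.Functor.map_id]
      erw [Category.comp_id]
      rfl)).hom
    have h₂ := secOf_map φ ν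
    have hid : (FibCat.fp (AlgSt.ofSpMap g) f).p.map ν = 𝟙 _ := hv.map_eq.trans (eqToHom_refl _ _)
    rw [hid] at h₂
    exact h₁.trans (h₂.symm.trans (map_op_id N.obj _ rfl _))
  · exact (nonempty_iso_of_secOf N.obj (Φ := BasedFunctor.comp p' (AlgSt.ofSpMap y'))
      (Ψ := BasedFunctor.comp Λ φ) fun Q =>
      (e' y' Q).trans (hy' (Λ.obj Q) Q.obj.fst.sec.down (ex Q))).some

open CategoryTheory AlgebraicGeometry in
/-- Let `𝒳` be an algebraic stack, `Y` an algebraic space and `f : 𝒳 → Y` a morphism. If every base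
change of `f` to an affine scheme flat over `Y` is a categorical moduli space, the morphism `f`
itself is a uniform categorical moduli space. -/
theorem result (S : Scheme.{u}) (𝒳 : AlgSt.Cat S)
    (h𝒳 : AlgSt.IsAlgStack Scheme.fppfPrecoverage 𝒳) (Y : AlgSp.Sp S) (hY : AlgSp.IsAlgSpace Y)
    (f : 𝒳 ⥤ᵇ AlgSt.ofSp Y)
    (hf : ∀ (Y' : Over S), IsAffine Y'.left → ∀ (g : (AlgSp.yon S).obj Y' ⟶ Y), AlgSp.LocP @Flat g →
      AlgSt.IsCatModuli (FibCat.fpFst (AlgSt.ofSpMap g) f)) :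
    AlgSt.IsUnifCatModuli f := by
  have hX := h𝒳.isStack.1
  refine ⟨⟨hY, fun N hN φ => ?_⟩, fun M' hM' g hg => catModuli_baseChange hX hY f hf hM' g hg⟩
  have hid : AlgSp.LocP @Flat (𝟙 Y) := Groth.AlgSpBasic.locP_of_repWith
    (Groth.AlgSpBasic.repWith_isIso (P := @Flat) (𝟙 Y))
  obtain ⟨-, h⟩ := catModuli_baseChange hX hY f hf hY (𝟙 Y) hid
  have he : FibCat.IsEquivOver (FibCat.fpSnd (AlgSt.ofSpMap (𝟙 Y)) f) := isEquivOver_fpSnd_id f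
  obtain ⟨e', ⟨γ⟩, ⟨δ⟩⟩ := he
  obtain ⟨v, ⟨α⟩, hv⟩ := h N hN (BasedFunctor.comp (FibCat.fpSnd (AlgSt.ofSpMap (𝟙 Y)) f) φ)
  have ρ : FibCat.fpFst (AlgSt.ofSpMap (𝟙 Y)) f ≅
      BasedFunctor.comp (FibCat.fpSnd (AlgSt.ofSpMap (𝟙 Y)) f) f :=
    FibCat.fpIso (AlgSt.ofSpMap (𝟙 Y)) f
  refine ⟨v, ⟨?_⟩, fun v' ⟨β⟩ => hv v' ⟨?_⟩⟩
  · exact ((whiskerRightIso δ (BasedFunctor.comp f (AlgSt.ofSpMap v))).symm.trans
      (whiskerLeftIso e' ((whiskerRightIso ρ.symm (AlgSt.ofSpMap v)).trans α))).trans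
      (whiskerRightIso δ φ)
  · exact (whiskerRightIso ρ (AlgSt.ofSpMap v')).trans
      (whiskerLeftIso (FibCat.fpSnd (AlgSt.ofSpMap (𝟙 Y)) f) β)

end Groth.Agent.S16704
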