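import Groth.Statements.S16706
import Groth.Agent.GitQuot.KeelMori.GluedSep
-- import your own Groth.Agent.* helpers here

set_option autoImplicit false
universe u
open AlgSt

namespace Groth.Agent.S16706

open CategoryTheory AlgebraicGeometry in
/-- The coarse-moduli claim established inside the proof of the Keel–Mori result: for an algebraic stack
`𝒳` with finite inertia and `π : 𝒳 → M` a categorical moduli space (the Keel–Mori moduli space), `π`
is bijective on isomorphism classes of objects over every algebraically closed field; that is, the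
Keel–Mori moduli space is a coarse moduli space. -/
theorem result (S : Scheme.{u}) (𝒳 : AlgSt.Cat S)
    (h𝒳 : AlgSt.IsAlgStack Scheme.fppfPrecoverage 𝒳)
    (hI : AlgSt.RepByAlgSpWith AlgSp.IsFiniteMor (FibCat.inertiaToBase (FibCat.toSelf 𝒳)))
    (M : AlgSp.Sp S) (π : 𝒳 ⥤ᵇ AlgSt.ofSp M) (hπ : AlgSt.IsCatModuli π) :
    AlgSt.GeomPtBij π :=
  Groth.KeelMori.geomPtBij_of_isCatModuli h𝒳 hI hπ

end Groth.Agent.S16706
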