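import Groth.Statements.S16708
import Groth.Agent.Hopf.Reductive

set_option autoImplicit false
universe u
open HopfRep

namespace Groth.Agent.S16708

open Groth
open scoped TensorProduct

/-- Let G be a finite group and k a field in which the order of G is a nonzero element. Then the
constant group scheme of G over k is linearly reductive: every finite-dimensional comodule over its
coordinate Hopf algebra (the algebra of functions G → k with the Hopf structure of the constant
group) is semisimple, i.e. every subcomodule admits a complementary subcomodule. -/
theorem result (k : Type u) [Field k] (G : Type u) [Group G]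
    [Fintype G] [DecidableEq G] (hG : ((Fintype.card G : ℕ) : k) ≠ 0) :
    HopfRep.IsLinearlyReductive k (ConstGrp.F k G) := by
  refine ComodLib.isLinearlyReductive_iff_integral.2
    ⟨((Fintype.card G : k))⁻¹ • ∑ g : G, (ConstGrp.ev k g).toLinearMap, ConstGrp.linearMap_ext fun g => ?_, ?_⟩
  · set α := ((Fintype.card G : k))⁻¹ • ∑ g : G, (ConstGrp.ev k g).toLinearMap
    have hα : ∀ g, α (ConstGrp.e k g) = ((Fintype.card G : k))⁻¹ := fun g => by
      simp [α, ConstGrp.e_apply]
    change α (ConstGrp.e k g) ⊗ₜ[k] (1 : ConstGrp.F k G) = α.rTensor _ (Coalgebra.comul (R := k) (ConstGrp.e k g))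
    rw [ConstGrp.comul_e, map_sum]
    simp only [LinearMap.rTensor_tmul, hα]
    rw [← TensorProduct.tmul_sum, ← ConstGrp.sum_e (R := k) (G := G)]
    exact congrArg _ (Fintype.sum_equiv ((Equiv.inv G).trans (Equiv.mulRight g)) _ _ fun a => by simp).symm
  · simp [hG]

end Groth.Agent.S16708
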