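import Groth.Statements.S16710
import Groth.Agent.Inter.NakaiCor
import Groth.Agent.Chow.QcohExtend

set_option autoImplicit false
universe u
open CategoryTheory CategoryTheory.Limits AlgebraicGeometry TopologicalSpace
open Variety

namespace Groth.Agent.S16710

/-- Let X be a proper scheme over a field k and L an invertible O_X-module. Then L is ample if and only
if (i) L is strictly nef, meaning χ(O_C ⊗ L) - χ(O_C) > 0 for every integral closed subscheme C ⊆ X
of dimension one, and (ii) L is semiample, meaning some positive tensor power of L is generated by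
its global sections (is a quotient of a free O_X-module). -/
theorem result (k : Type u) [Field k] (X : Scheme.{u})
    [X.Over (Spec (CommRingCat.of k))] [IsProper (X ↘ (Spec (CommRingCat.of k)))]
    (L : X.Modules) (hL : PicF.IsInvertible L) :
    CohB1.IsAmple L ↔
      ((∀ C : X.IdealSheafData, IsIntegral C.subscheme →
          topologicalKrullDim (C.support : Set X) = 1 →
            0 < Curv2.euler k X (CohB1.tensorMod (ClSub.quotMod C) L) - Curv2.euler k X (ClSub.quotMod C)) ∧
        ∃ m : ℕ, Curv2.IsGloballyGenerated (CohB1.tensorPow L (m + 1))) := by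
  have hN : IsNoetherian X := Inter.isNoetherian k
  constructor
  · intro hA
    refine ⟨fun C _ hC => Inter.pos_of_isAmple k hA C hC, ?_⟩
    have hO : Coh.IsCoh (Coh.structureModule X) :=
      Inter.isCoh_of_isInvertible (EulerDeg.isInvertible_structureModule X)
    have := hO.1
    obtain ⟨n₀, h⟩ := Chow.exists_isGloballyGenerated_twist hA (Coh.structureModule X) hO.2
    obtain ⟨J, p, hp⟩ := h (n₀ + 1) (Nat.le_succ _)
    have hp' : @Epi X.Modules _ _ _ p := hp
    let e := (Inter.tensor_one (CohB1.tensorPow L (n₀ + 1))).some
    have : Epi (p ≫ e.hom) := @epi_comp X.Modules _ _ _ _ p hp' e.hom _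
    exact ⟨n₀, J, p ≫ e.hom, this⟩
  · rintro ⟨hnef, m, hgg⟩
    refine Inter.isAmple_of_strictlyNef_effective k hL (Inter.delta_neg_of_forall k hnef)
      fun ξ _ d hd => ?_
    let i := (IntMult.ptIdeal ξ).subschemeι
    obtain ⟨s, hs⟩ := Inter.exists_section_pullback_of_gg
      (PicAux.isInvertible_tensorPow hL (m + 1)) hgg i
    refine ⟨m, (PicAux.pullback_tensorPow i L (m + 1)).some.hom.app ⊤ s, fun h => hs ?_⟩
    apply ((ConcreteCategory.isIso_iff_bijective
      ((PicAux.pullback_tensorPow i L (m + 1)).some.hom.app ⊤)).1 inferInstance).1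
    rw [h, map_zero]

end Groth.Agent.S16710
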