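import Groth.Statements.S16713
import Groth.Agent.Syntomic.CotangentProj
import Groth.Agent.Syntomic.CIField
import Groth.Agent.Gorenstein.LCI
import Groth.Agent.GrMod.Veronese.Gorenstein
import Groth.Agent.GrMod.Hilbert

set_option autoImplicit false
set_option linter.style.haveILetI false
universe u
open CotT

namespace Groth.Agent.S16713

/-- The final assertion, in the case where the base is a field. Let k be a field and A a k-algebra which
is a local complete intersection over k (of finite type, presented by a polynomial algebra in
finitely many variables with Koszul-regular kernel) and generically smooth over k, in the sense that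
the localization of A at each of its minimal primes is formally smooth over k. Then H^1 of the naive
cotangent complex L_{A/k} vanishes: for the presentation A = P/I by the polynomial k-algebra P on
the elements of A, the conormal map I/I² → Ω_{P/k} ⊗_P A is injective, so that L_{A/k} is
quasi-isomorphic to Ω_{A/k}. (The published statement is for a generically smooth syntomic morphism
over an arbitrary base, where it fails when the base has embedded points: over B = k[s,t]/(s², st)
with 2 invertible in k, the algebra B[x]/(x² − t) is a relative complete intersection, free of rank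
two and smooth where x is invertible, yet the class of s·x·(x² − t) is a non-zero element of the
kernel of its conormal map. This row states the case of an algebra of finite type over a field.) -/
theorem result (k : Type u) [Field k]
    (A : Type u) [CommRing A] [Algebra k A] (hlci : LCI.IsLCI k A)
    (hgs : ∀ (p : Ideal A) [p.IsPrime], p ∈ minimalPrimes A → Algebra.FormallySmooth k (Localization.AtPrime p)) :
    Subsingleton (Algebra.H1Cotangent k A) := by
  haveI hft : Algebra.FiniteType k A := hlci.1
  haveI : IsNoetherianRing A := Algebra.FiniteType.isNoetherianRing k A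
  haveI : LocCoh.IsCohenMacaulayRing A := by
    obtain ⟨-, n, f, hf, hI⟩ := hlci
    have : LocCoh.IsGorensteinRing k :=
      { isGorensteinLocalRing_localization := fun p _ => (GrothGoren.isGorenstein_iff _).mpr
          (GrothGoren.exists_injLT_of_regular _ (Localization.AtPrime p) le_rfl) }
    have := GrothGoren.isGorensteinRing_of_presentation f hf hI
    exact GrothGr.isCohenMacaulayRing_of_gorenstein A
  obtain ⟨-, n, φ, hφ, hI⟩ := hlci
  have hval : MvPolynomial.aeval (fun i => φ (MvPolynomial.X i)) = φ := MvPolynomial.algHom_ext fun i => by simp
  let P : Algebra.Generators k A (Fin n) :=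
    Algebra.Generators.ofSurjective (fun i => φ (MvPolynomial.X i)) (by rw [hval]; exact hφ)
  have hker : P.toExtension.ker = RingHom.ker φ.toRingHom := by
    ext z
    simp only [Algebra.Extension.ker, RingHom.mem_ker]
    change MvPolynomial.aeval (fun i => φ (MvPolynomial.X i)) z = 0 ↔ φ.toRingHom z = 0
    rw [hval]
    rfl
  have hproj := (Groth.Syntomic.finite_projective_cotangent _ hI).2
  rw [← hker] at hproj
  let J := P.toExtension.ker
  haveI : Module.Projective (P.toExtension.Ring ⧸ J) J.Cotangent := hproj
  obtain ⟨s, hs⟩ := Module.Projective.out (R := P.toExtension.Ring ⧸ J) (P := J.Cotangent)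
  let e : (P.toExtension.Ring ⧸ J) ≃+* A :=
    RingHom.quotientKerEquivOfSurjective (f := algebraMap P.toExtension.Ring A) P.toExtension.algebraMap_surjective
  refine subsingleton_of_forall_eq 0 fun z => ?_
  by_contra hz
  let w := P.equivH1Cotangent.symm z
  have hw : (w.1 : P.toExtension.Cotangent).val ≠ 0 := fun h => hz (by
    have h1 : w = 0 := Subtype.ext (Algebra.Extension.Cotangent.ext h)
    exact P.equivH1Cotangent.symm.map_eq_zero_iff.mp h1)
  have hsw : s (w.1 : P.toExtension.Cotangent).val ≠ 0 := fun h => hw (by
    rw [← hs (w.1 : P.toExtension.Cotangent).val, h, map_zero])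
  obtain ⟨i, hi⟩ := Finsupp.ne_iff.mp hsw
  let c := e (s (w.1 : P.toExtension.Cotangent).val i)
  have hc : c ≠ 0 := fun h => hi (e.map_eq_zero_iff.mp h)
  have hann : ∀ a : A, a • z = 0 → a * c = 0 := by
    intro a ha
    have h1 : a • w = 0 := by rw [← map_smul, ha, map_zero]
    have h2 : P.toExtension.σ a • (w.1 : P.toExtension.Cotangent).val = 0 :=
      (Algebra.Extension.Cotangent.val_smul a w.1).symm.trans
        (congrArg (fun t : P.toExtension.H1Cotangent => (t.1 : P.toExtension.Cotangent).val) h1)
    have h3 : Ideal.Quotient.mk J (P.toExtension.σ a) • s (w.1 : P.toExtension.Cotangent).val = 0 := by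
      rw [← map_smul]
      have h2' : Ideal.Quotient.mk J (P.toExtension.σ a) • (w.1 : P.toExtension.Cotangent).val = 0 := h2
      rw [h2', map_zero]
    have h4 := congrArg e (Finsupp.ext_iff.mp h3 i)
    rw [Finsupp.smul_apply, smul_eq_mul, map_mul, Finsupp.zero_apply, map_zero] at h4
    have h5 : e (Ideal.Quotient.mk J (P.toExtension.σ a)) = a := P.toExtension.algebraMap_σ a
    rwa [h5] at h4
  obtain ⟨p, hp, hle⟩ := exists_le_isAssociatedPrime_of_isNoetherianRing A c hc
  haveI := hp.isPrime
  haveI : Subsingleton (Algebra.H1Cotangent k (Localization.AtPrime p)) :=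
    (hgs p (GrothGr.mem_minimalPrimes_of_mem_associatedPrimes_of_isCM hp)).subsingleton_h1Cotangent
  have h0 : Algebra.H1Cotangent.map k k A (Localization.AtPrime p) z =
      Algebra.H1Cotangent.map k k A (Localization.AtPrime p) 0 := Subsingleton.elim _ _
  obtain ⟨t, ht⟩ := (IsLocalizedModule.eq_iff_exists p.primeCompl
    (Algebra.H1Cotangent.map k k A (Localization.AtPrime p))).mp h0
  rw [smul_zero] at ht
  refine t.2 (hle ?_)
  rw [Submodule.mem_colon_singleton, Submodule.mem_bot, smul_eq_mul]
  exact hann t ht

end Groth.Agent.S16713
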