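import Groth.Statements.S16714
import Groth.Agent.Inter.PushProper
import Groth.Agent.Inter.KleimanCor
import Groth.Agent.Inter.EulerFamily
import Groth.Agent.FlatMorOne.DVRFibre
import Groth.Agent.Curves1.CurveMor.Flat
import Groth.Agent.VarietyBC.Stratify
import Groth.Agent.S4932
import Groth.Agent.ModelsGraphs.GenusFormula
import Groth.Agent.FBaseGeom.AssTensor
import Groth.Agent.CohBase.InvNearFibre

set_option autoImplicit false
universe u
open CategoryTheory CategoryTheory.Limits AlgebraicGeometry TopologicalSpace
open Variety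

namespace Groth.Agent.S16714

/-- Let R be a discrete valuation ring, p : X → Spec R a proper flat morphism and L an invertible
O_X-module. If the restriction L_0 of L to the closed fibre X_0 is nef (χ(O_C ⊗ L_0) - χ(O_C) ≥ 0
for every integral closed subscheme C ⊆ X_0 of dimension one, computed over the residue field), then
the restriction L_η to the generic fibre X_η is nef over the fraction field in the same sense. -/
theorem result (R : Type u) [CommRing R] [IsDomain R]
    [IsDiscreteValuationRing R] (X : Scheme.{u}) (p : X ⟶ Spec (CommRingCat.of R)) [IsProper p] [Flat p]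
    (L : X.Modules) (hL : PicF.IsInvertible L)
    (h0 : ∀ C : (p.fiber (IsLocalRing.closedPoint R)).IdealSheafData, IsIntegral C.subscheme →
        topologicalKrullDim (C.support : Set ↥(p.fiber (IsLocalRing.closedPoint R))) = 1 →
          0 ≤ @Curv2.euler ((Spec (CommRingCat.of R)).residueField (IsLocalRing.closedPoint R)) _ (p.fiber (IsLocalRing.closedPoint R)) ⟨p.fiberToSpecResidueField (IsLocalRing.closedPoint R)⟩
                (CohB1.tensorMod (ClSub.quotMod C) ((Scheme.Modules.pullback (p.fiberι (IsLocalRing.closedPoint R))).obj L)) -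
              @Curv2.euler ((Spec (CommRingCat.of R)).residueField (IsLocalRing.closedPoint R)) _ (p.fiber (IsLocalRing.closedPoint R)) ⟨p.fiberToSpecResidueField (IsLocalRing.closedPoint R)⟩ (ClSub.quotMod C)) :
    ∀ C' : (p.fiber (⟨⊥, Ideal.isPrime_bot⟩ : PrimeSpectrum R)).IdealSheafData, IsIntegral C'.subscheme →
        topologicalKrullDim (C'.support : Set ↥(p.fiber (⟨⊥, Ideal.isPrime_bot⟩ : PrimeSpectrum R))) = 1 →
          0 ≤ @Curv2.euler ((Spec (CommRingCat.of R)).residueField (⟨⊥, Ideal.isPrime_bot⟩ : PrimeSpectrum R)) _ (p.fiber (⟨⊥, Ideal.isPrime_bot⟩ : PrimeSpectrum R)) ⟨p.fiberToSpecResidueField (⟨⊥, Ideal.isPrime_bot⟩ : PrimeSpectrum R)⟩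
                (CohB1.tensorMod (ClSub.quotMod C') ((Scheme.Modules.pullback (p.fiberι (⟨⊥, Ideal.isPrime_bot⟩ : PrimeSpectrum R))).obj L)) -
              @Curv2.euler ((Spec (CommRingCat.of R)).residueField (⟨⊥, Ideal.isPrime_bot⟩ : PrimeSpectrum R)) _ (p.fiber (⟨⊥, Ideal.isPrime_bot⟩ : PrimeSpectrum R)) ⟨p.fiberToSpecResidueField (⟨⊥, Ideal.isPrime_bot⟩ : PrimeSpectrum R)⟩ (ClSub.quotMod C') := by
  exact by
    intro C' hC' hdim'
    let S := Spec (CommRingCat.of R)
    let η : S := (⟨⊥, Ideal.isPrime_bot⟩ : PrimeSpectrum R)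
    let y₀ : S := IsLocalRing.closedPoint R
    have hηg : genericPoint S = η := genericPoint_eq_bot_of_affine (CommRingCat.of R)
    haveI := Groth.FlatMorOne.isOpenImmersion_fromSpecResidueField_generic (R := R)
    haveI : IsOpenImmersion (p.fiberι η) :=
      MorphismProperty.pullback_fst (P := @IsOpenImmersion) p _ this
    haveI : IsLocallyNoetherian X := LocallyOfFiniteType.isLocallyNoetherian p
    haveI := hC'
    let g₀ := genericPoint C'.subscheme
    let ξ : X := p.fiberι η (C'.subschemeι g₀)
    let T : Closeds X := ⟨closure {ξ}, isClosed_closure⟩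
    let W := (Scheme.IdealSheafData.vanishingIdeal T).subscheme
    let j : W ⟶ X := (Scheme.IdealSheafData.vanishingIdeal T).subschemeι
    let q : W ⟶ S := j ≫ p
    haveI : IsIntegral W := Groth.CohTwo.isIntegral_closure_subscheme rfl
    haveI : IsProper q := inferInstanceAs (IsProper (j ≫ p))
    have hjr : Set.range j = closure {ξ} := Groth.PropsBasic2.range_vanishingIdeal_subschemeι T
    have hjg : j (genericPoint W) = ξ := by
      have h1 := (genericPoint_spec W).image j.continuous
      rw [Set.image_univ, j.isClosedEmbedding.isClosed_range.closure_eq, hjr] at h1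
      exact h1.eq isGenericPoint_closure
    have hqg : q (genericPoint W) = η := by
      rw [Scheme.Hom.comp_apply, hjg]
      exact Set.mem_singleton_iff.1 ((p.range_fiberι η).le ⟨_, rfl⟩)
    haveI : IsLocallyNoetherian S := inferInstance
    haveI : Flat q := Groth.Curves1.CurveMor.flat_of_dominant q (hqg.trans hηg.symm)
      (fun y =>
        letI : Algebra R (S.presheaf.stalk y) := StructureSheaf.stalkAlgebra (CommRingCat.of R) y
        haveI : IsLocalization.AtPrime (S.presheaf.stalk y) (y : PrimeSpectrum R).asIdeal :=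
          StructureSheaf.IsLocalization.to_stalk (CommRingCat.of R) y
        isIntegrallyClosed_of_isLocalization (R := R) _ (y : PrimeSpectrum R).asIdeal.primeCompl
        (Ideal.primeCompl_le_nonZeroDivisors _)) (by
        rw [show topologicalKrullDim S = ringKrullDim R from PrimeSpectrum.topologicalKrullDim_eq_ringKrullDim R]
        exact le_of_eq (IsPrincipalIdealRing.ringKrullDim_eq_one R (IsDiscreteValuationRing.not_isField R)))
    haveI : IsDominant q := ⟨by
      rw [DenseRange, dense_iff_closure_eq]
      refine Set.eq_univ_of_univ_subset ?_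
      rw [← (genericPoint_spec S).def, hηg, ← hqg]
      exact closure_mono (Set.singleton_subset_iff.2 ⟨_, rfl⟩)⟩
    -- fibres of `W` inside the fibres of `X`
    let u : ∀ y : S, q.fiber y ⟶ p.fiber y := fun y =>
      pullback.lift (q.fiberι y ≫ j) (q.fiberToSpecResidueField y)
        (by rw [Category.assoc]; exact pullback.condition)
    have hufst : ∀ y, u y ≫ p.fiberι y = q.fiberι y ≫ j := fun y => pullback.lift_fst _ _ _
    have husnd : ∀ y, u y ≫ p.fiberToSpecResidueField y = q.fiberToSpecResidueField y := fun y =>
      pullback.lift_snd _ _ _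
    have hsq : ∀ y, IsPullback (u y) (q.fiberι y) (p.fiberι y) j := fun y =>
      (IsPullback.of_bot (by rw [show u y ≫ pullback.snd p _ = q.fiberToSpecResidueField y from husnd y]; exact IsPullback.of_hasPullback (j ≫ p) _) (hufst y).symm
        (IsPullback.of_hasPullback p _)).flip
    have hu : ∀ y, IsClosedImmersion (u y) := fun y =>
      MorphismProperty.of_isPullback (P := @IsClosedImmersion) (hsq y).flip inferInstance
    -- the generic fibre of `W` is `C'`
    have hur : Set.range (u η) = Set.range C'.subschemeι := by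
      have hC0 : Set.range C'.subschemeι = closure {C'.subschemeι g₀} := by
        have h1 := (genericPoint_spec C'.subscheme).image C'.subschemeι.continuous
        rw [Set.image_univ, C'.subschemeι.isClosedEmbedding.isClosed_range.closure_eq] at h1
        exact h1.def.symm
      rw [hC0, (p.fiberι η).isOpenEmbedding.isInducing.closure_eq_preimage_closure_image,
        Set.image_singleton]
      show _ = p.fiberι η ⁻¹' closure {ξ}
      rw [← hjr]
      ext z
      constructor
      · rintro ⟨w, rfl⟩
        exact ⟨q.fiberι η w, by rw [← Scheme.Hom.comp_apply, ← hufst, Scheme.Hom.comp_apply]⟩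
      · rintro ⟨w, hw⟩
        obtain ⟨t, ht, -⟩ := Scheme.exists_preimage_of_isPullback (hsq η) z w hw.symm
        exact ⟨t, ht⟩
    haveI : IsReduced (q.fiber η) := by
      haveI : IsOpenImmersion (q.fiberι η) :=
        MorphismProperty.pullback_fst (P := @IsOpenImmersion) q _ ‹_›
      exact isReduced_of_isOpenImmersion (q.fiberι η)
    haveI := hu η
    obtain ⟨e, he⟩ := Groth.VarietyBC.Stratify.exists_iso_of_range_eq (u η) C'.subschemeι hur
    have hker : (u η).ker = C' := by
      rw [← he, Scheme.Hom.ker_comp_of_isIso, Scheme.IdealSheafData.ker_subschemeι]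
    have hdimη : topologicalKrullDim ↥(q.fiber η) = 1 := by
      rw [e.hom.homeomorph.isHomeomorph.topologicalKrullDim_eq,
        C'.subschemeι.isClosedEmbedding.isEmbedding.toHomeomorph.isHomeomorph.topologicalKrullDim_eq,
        Scheme.IdealSheafData.range_subschemeι]
      exact hdim'
    have hdim0 : topologicalKrullDim ↥(q.fiber y₀) ≤ ((1 : ℕ) : WithBot ℕ∞) := by
      rcases isEmpty_or_nonempty ↥(q.fiber y₀) with h | h
      · haveI : IsEmpty (IrreducibleCloseds ↥(q.fiber y₀)) :=
          ⟨fun Z => h.false Z.isIrreducible.nonempty.choose⟩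
        rw [topologicalKrullDim, Order.krullDim_eq_bot_iff.2 inferInstance]
        exact bot_le
      · rw [Groth.Agent.S4932.result q h, hηg, hdimη]
        exact le_rfl
    -- Euler characteristics
    have hqO : ∀ N : X.Modules, PicF.IsInvertible N →
        Coh.IsCoh ((Scheme.Modules.pullback j).obj N) ∧
          FlatMod.IsFlatOver q ((Scheme.Modules.pullback j).obj N) := fun N hN =>
      haveI : IsLocallyNoetherian W := LocallyOfFiniteType.isLocallyNoetherian q
      ⟨Groth.EulerDeg.isCoh_of_isInvertible (Groth.PicAux.isInvertible_pullback j hN),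
        Groth.CohBase.isFlatOver_of_isInvertible q (Groth.PicAux.isInvertible_pullback j hN)⟩
    have key : ∀ (y : S) (N : X.Modules), PicF.IsInvertible N →
        Groth.Inter.fibreEuler q ((Scheme.Modules.pullback j).obj N) y =
          @Curv2.euler (S.residueField y) _ (p.fiber y) ⟨p.fiberToSpecResidueField y⟩
            (CohB1.tensorMod ((Scheme.Modules.pullback (p.fiberι y)).obj N)
              ((Coh.push (u y)).obj (Coh.structureModule (q.fiber y)))) := by
      intro y N hN
      letI : (p.fiber y).Over (Spec (CommRingCat.of (S.residueField y))) :=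
        ⟨p.fiberToSpecResidueField y⟩
      letI : (q.fiber y).Over (Spec (CommRingCat.of (S.residueField y))) :=
        ⟨q.fiberToSpecResidueField y⟩
      haveI := hu y
      rw [Groth.EulerDeg.euler_congr _ (Groth.Inter.tensor_push (u y)
        (Groth.PicAux.isInvertible_pullback (p.fiberι y) hN) _).some,
        Groth.Inter.euler_push (S.residueField y) (u y) (husnd y)]
      exact Groth.EulerDeg.euler_congr _
        ((Scheme.Modules.pullbackComp _ _).app N ≪≫ (Scheme.Modules.pullbackCongr (hufst y).symm).app N ≪≫
          ((Scheme.Modules.pullbackComp _ _).app N).symm ≪≫ (SecTwist.unitorR _).symm)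
    have hO := Groth.EulerDeg.isInvertible_structureModule X
    have hconst : ∀ N : X.Modules, PicF.IsInvertible N →
        Groth.Inter.fibreEuler q ((Scheme.Modules.pullback j).obj N) η =
          Groth.Inter.fibreEuler q ((Scheme.Modules.pullback j).obj N) y₀ := fun N hN =>
      Groth.Inter.euler_fiber_eq q _ (hqO N hN).1 (hqO N hN).2 η y₀
    have hstr : ∀ (y : S),
        Nonempty (CohB1.tensorMod ((Scheme.Modules.pullback (p.fiberι y)).obj (Coh.structureModule X))
          ((Coh.push (u y)).obj (Coh.structureModule (q.fiber y))) ≅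
          (Coh.push (u y)).obj (Coh.structureModule (q.fiber y))) := fun y =>
      ⟨(Groth.Inter.tensor_congr (Groth.PicAux.pullback_structure_iso (p.fiberι y)) ⟨Iso.refl _⟩).some ≪≫
        (Groth.Inter.tensor_one _).some⟩
    -- nonnegativity on the closed fibre
    have hspec : 0 ≤ Groth.Inter.fibreEuler q ((Scheme.Modules.pullback j).obj L) y₀ -
        Groth.Inter.fibreEuler q ((Scheme.Modules.pullback j).obj (Coh.structureModule X)) y₀ := by
      rw [key y₀ L hL, key y₀ _ hO]
      letI : (p.fiber y₀).Over (Spec (CommRingCat.of (S.residueField y₀))) :=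
        ⟨p.fiberToSpecResidueField y₀⟩
      haveI : IsProper (p.fiber y₀ ↘ Spec (CommRingCat.of (S.residueField y₀))) :=
        MorphismProperty.pullback_snd (P := @IsProper) p _ ‹_›
      haveI : IsLocallyNoetherian (p.fiber y₀) := LocallyOfFiniteType.isLocallyNoetherian
        (p.fiber y₀ ↘ Spec (CommRingCat.of (S.residueField y₀)))
      haveI := hu y₀
      haveI : IsLocallyNoetherian (q.fiber y₀) := LocallyOfFiniteType.isLocallyNoetherian (u y₀)
      have hL0 := Groth.PicAux.isInvertible_pullback (p.fiberι y₀) hL
      obtain ⟨M, hM⟩ : ∃ M, ClSub.IsInverseOf ((Scheme.Modules.pullback (p.fiberι y₀)).obj L) M := by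
        obtain ⟨M, -, hM⟩ := Groth.PicAux.exists_isInverseOf hL0
        exact ⟨M, hM⟩
      let F := (Coh.push (u y₀)).obj (Coh.structureModule (q.fiber y₀))
      have hF : Coh.IsCoh F := Groth.CohTwo.isCoh_push (u y₀)
        (Groth.EulerDeg.isCoh_of_isInvertible (Groth.EulerDeg.isInvertible_structureModule _))
      have hd : topologicalKrullDim (CohB1.support F) ≤ ((1 : ℕ) : WithBot ℕ∞) :=
        (Groth.LocCohTransform.topologicalKrullDim_mono (Groth.CohTwo.support_push_subset (u y₀) _)).trans
          (((u y₀).isClosedEmbedding.isEmbedding.toHomeomorph.isHomeomorph.topologicalKrullDim_eq).ge.trans hdim0)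
      have hn := Groth.Inter.nonneg_of_forall (S.residueField y₀) hL0 hM h0 F hF hd
      rw [Groth.Inter.delta_inverse_one (S.residueField y₀) hL0 hM hF hd, Groth.Inter.delta_cons,
        Groth.Inter.delta_nil, Groth.Inter.delta_nil] at hn
      rw [Groth.EulerDeg.euler_congr _ (hstr y₀).some]
      dsimp only [F] at hn
      omega
    rw [← hconst L hL, ← hconst _ hO, key η L hL, key η _ hO] at hspec
    letI : (p.fiber η).Over (Spec (CommRingCat.of (S.residueField η))) := ⟨p.fiberToSpecResidueField η⟩
    rw [Groth.EulerDeg.euler_congr _ (hstr η).some] at hspec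
    obtain ⟨r⟩ := Groth.ModelsGraphs.GenusFormula.nonempty_quotMod_ker (u η)
    rw [hker] at r
    rw [Groth.EulerDeg.euler_congr _ r.symm,
      Groth.EulerDeg.euler_congr _ ((Groth.Inter.tensor_congr ⟨Iso.refl _⟩ ⟨r.symm⟩).some ≪≫
        (Groth.Inter.tensor_comm _ _).some)] at hspec
    exact hspec

end Groth.Agent.S16714
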