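import Groth.Statements.S16715
import Groth.Agent.SpecFerrand.BaseChange

set_option autoImplicit false
universe u
open FlatMor

namespace Groth.Agent.S16715

open CategoryTheory CategoryTheory.Limits AlgebraicGeometry in
/-- Base change of pushouts along a closed immersion and an affine morphism. Let i : X₀ → X be a closed
immersion and f₀ : X₀ → Y₀ an affine morphism of schemes, and let Y together with an affine morphism
f : X → Y and a closed immersion j : Y₀ → Y be a pushout of i and f₀ in the category of schemes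
whose square is also cartesian. Let Y be a scheme over S such that X₀ is flat over S, and let S' → S
be any morphism. Then the base-changed square over S' is again a pushout in the category of schemes:
Y ×_S S' is the pushout of X ×_S S' and Y₀ ×_S S' along X₀ ×_S S'. -/
theorem result {X₀ X Y₀ Y S S' : Scheme.{u}}
    (i : X₀ ⟶ X) [IsClosedImmersion i] (f₀ : X₀ ⟶ Y₀) [IsAffineHom f₀] (f : X ⟶ Y) [IsAffineHom f]
    (j : Y₀ ⟶ Y) [IsClosedImmersion j] (hpo : IsPushout i f₀ f j) (hpb : IsPullback i f₀ f j)
    (q : Y ⟶ S) [Flat ((i ≫ f) ≫ q)] (g : S' ⟶ S) :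
    IsPushout
      (pullback.map ((i ≫ f) ≫ q) g (f ≫ q) g i (𝟙 S') (𝟙 S)
        ((Category.comp_id _).trans (Category.assoc i f q))
        ((Category.comp_id g).trans (Category.id_comp g).symm))
      (pullback.map ((i ≫ f) ≫ q) g (j ≫ q) g f₀ (𝟙 S') (𝟙 S)
        ((Category.comp_id _).trans ((congrArg (fun t => t ≫ q) hpo.w).trans (Category.assoc f₀ j q)))
        ((Category.comp_id g).trans (Category.id_comp g).symm))
      (pullback.map (f ≫ q) g q g f (𝟙 S') (𝟙 S)
        (Category.comp_id _) ((Category.comp_id g).trans (Category.id_comp g).symm))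
      (pullback.map (j ≫ q) g q g j (𝟙 S') (𝟙 S)
        (Category.comp_id _) ((Category.comp_id g).trans (Category.id_comp g).symm)) := by
  have hc : Groth.SpecFerrand.Glue.Covers i f₀ := fun y => by
    obtain ⟨U, hU, hyU, -⟩ := exists_isAffineOpen_mem_and_subset (x := j y) (U := ⊤) trivial
    exact ⟨⟨f ⁻¹ᵁ U, j ⁻¹ᵁ U, hU.preimage f, hU.preimage j, by
      rw [← Scheme.Hom.comp_preimage, hpo.w, Scheme.Hom.comp_preimage]⟩, hyU⟩
  have hX := Groth.SpecFerrand.isPullback_map (g := g) q f (f ≫ q) rfl
  have hY := Groth.SpecFerrand.isPullback_map (g := g) q j (j ≫ q) rfl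
  have hi := Groth.SpecFerrand.isPullback_map (g := g) (f ≫ q) i ((i ≫ f) ≫ q) (Category.assoc i f q)
  have hj := Groth.SpecFerrand.isPullback_map (g := g) (j ≫ q) f₀ ((i ≫ f) ≫ q) (by rw [hpo.w, Category.assoc])
  refine Groth.SpecFerrand.isPushout_baseChange (IsPullback.of_hasPullback q g) hX hY hi hj ?_ fun x => ?_
  · refine pullback.hom_ext ?_ ?_
    · simp only [Category.assoc, pullback.map, pullback.lift_fst, pullback.lift_fst_assoc, hpo.w]
    · simp only [Category.assoc, pullback.map, pullback.lift_snd, pullback.lift_snd_assoc, Category.comp_id]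
  obtain ⟨C, C', c, W, W', φ, γ, hW, hW', hu, hw, hxu, hxW⟩ :=
    Groth.SpecFerrand.Glue.exists_chartData hc hpo (pullback.condition (f := q) (g := g)) x
  refine ⟨C, C', c, W, W', φ, γ, hW, hW', hu, hw, c.chartExact_of_flat_quot φ γ ?_, hxu, hxW⟩
  refine Groth.SpecFerrand.flat_of_comp_mono _ W ?_
  have e : Spec.map (φ ≫ c.p1 ≫ c.q) ≫ W = c.uZ ≫ ((i ≫ f) ≫ q) := by
    rw [Spec.map_comp, Spec.map_comp, Category.assoc, Category.assoc, ← hu, reassoc_of% c.hY.w,
      reassoc_of% c.hZY, hpo.w, Category.assoc]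
  rw [e]
  infer_instance

end Groth.Agent.S16715
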