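import Groth.Statements.S16717
import Groth.Agent.Hopf.Reductive

set_option autoImplicit false
universe u v
open HopfRep

namespace Groth.Agent.S16717

open Groth
open scoped TensorProduct

open TensorProduct in
/-- Equivalence of the exactness of invariants with complete reducibility of finite-dimensional
representations. Let k be a field and A a finitely generated commutative Hopf algebra over k (the
coordinate ring of an affine algebraic group G). Then every finite-dimensional A-comodule is
semisimple if and only if taking fixed vectors is exact, i.e. for every surjective comodule map φ :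
V → W between A-comodules (of any dimension; φ k-linear with (φ ⊗ id) ∘ ρ_V = ρ_W ∘ φ) every fixed
vector of W is the image of a fixed vector of V. -/
theorem result (k : Type u) [Field k] (A : Type v)
    [CommRing A] [HopfAlgebra k A] (hA : Algebra.FiniteType k A) :
    HopfRep.IsLinearlyReductive k A ↔
      ∀ (V W : Type v) [AddCommGroup V] [Module k V] [HopfRep.Comod k A V]
        [AddCommGroup W] [Module k W] [HopfRep.Comod k A W] (φ : V →ₗ[k] W),
        LinearMap.rTensor A φ ∘ₗ HopfRep.Comod.coact (k := k) (A := A) (V := V) =
            HopfRep.Comod.coact (k := k) (A := A) (V := W) ∘ₗ φ →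
          Function.Surjective φ →
            ∀ w ∈ HopfRep.fixedPts k A W, ∃ v ∈ HopfRep.fixedPts k A V, φ v = w := by
  constructor
  · intro h V W _ _ _ _ _ _ φ hφ hsurj w hw
    exact ComodLib.exists_fixed_lift (ComodLib.isSemisimpleComod_of_crit
      (ComodLib.fixedCrit_of_isLinearlyReductive h) V) (π := φ) hφ.symm hw (hsurj w)
  · intro h
    refine ComodLib.isLinearlyReductive_iff_crit.2 fun V _ _ _ _ π hsurj hπ => ?_
    let L := Submodule.span k {(1 : A)}
    let i : k →ₗ[k] L := LinearMap.toSpanSingleton k L ⟨1, Submodule.mem_span_singleton_self _⟩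
    let := HopfRep.Comod.trivial k A L
    have hi : Function.Surjective i := by
      rintro ⟨x, hx⟩
      obtain ⟨r, rfl⟩ := Submodule.mem_span_singleton.1 hx
      exact ⟨r, rfl⟩
    have hφ : LinearMap.rTensor A (i ∘ₗ π) ∘ₗ HopfRep.Comod.coact (k := k) (A := A) (V := V) =
        HopfRep.Comod.coact (k := k) (A := A) (V := L) ∘ₗ (i ∘ₗ π) := by
      rw [LinearMap.rTensor_comp, LinearMap.comp_assoc, hπ]
      refine LinearMap.ext fun v => ?_
      change i.rTensor A (π v ⊗ₜ[k] (1 : A)) = i (π v) ⊗ₜ[k] (1 : A)
      rw [LinearMap.rTensor_tmul]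
    obtain ⟨v, hv, e⟩ := h V L (i ∘ₗ π) hφ (hi.comp hsurj) (i 1) rfl
    refine ⟨v, hv, fun h0 => ?_⟩
    rw [LinearMap.comp_apply, h0, map_zero] at e
    have := congrArg (fun x : L => Coalgebra.counit (R := k) (x : A)) e
    simp [i] at this

end Groth.Agent.S16717
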