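import Groth.Statements.S16719
import Groth.Agent.CohBase.LocalModel
import Mathlib.Algebra.Category.ModuleCat.Products

set_option autoImplicit false
set_option backward.isDefEq.respectTransparency.types false
universe u
open CategoryTheory CategoryTheory.Limits AlgebraicGeometry
open scoped TensorProduct
open CohIII

namespace Groth.Agent.S16719


section Products

variable {A : Type u} [CommRing A] {J : Type u}

/-- Tensoring a finite free module commutes with products. -/
theorem bijective_lTensor_proj (N : Type u) [AddCommGroup N] [Module A N] [Module.Finite A N]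
    [Module.Free A N] (M : J → ModuleCat.{u} A) :
    Function.Bijective fun (z : N ⊗[A] (∀ j, M j)) (j : J) =>
      (LinearMap.proj j : (∀ j, M j) →ₗ[A] M j).lTensor N z := by
  classical
  let b := Module.Free.chooseBasis A N
  have := Fintype.ofFinite (Module.Free.ChooseBasisIndex A N)
  let e : ∀ P : Type u, [AddCommGroup P] → [Module A P] →
      N ⊗[A] P ≃ₗ[A] (Module.Free.ChooseBasisIndex A N →₀ P) := fun P _ _ =>
    (TensorProduct.equivFinsuppOfBasisLeft b)
  have he : ∀ (j : J) (z : N ⊗[A] (∀ j, M j)) i,
      e (M j) ((LinearMap.proj j : (∀ j, M j) →ₗ[A] M j).lTensor N z) i = e (∀ j, M j) z i j := by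
    intro j z i
    induction z using TensorProduct.induction_on with
    | zero => simp
    | tmul n m => simp [e]
    | add x y hx hy => simp only [map_add, Finsupp.add_apply, hx, hy, Pi.add_apply]
  refine ⟨fun x y h => (e _).injective (Finsupp.ext fun i => funext fun j => ?_), fun y => ?_⟩
  · rw [← he, ← he]
    exact congrArg (fun w => e (M j) w i) (congrFun h j)
  · refine ⟨(e _).symm (Finsupp.equivFunOnFinite.symm fun i j => e (M j) (y j) i), funext fun j =>
      (e _).injective (Finsupp.ext fun i => ?_)⟩
    rw [he, LinearEquiv.apply_symm_apply]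
    rfl

open Groth.FlatCxBase in
/-- The cohomology of a finite free complex tensored with a product. -/
theorem bijective_TFun_proj (L : CochainComplex (ModuleCat.{u} A) ℤ)
    [∀ i, Module.Finite A (L.X i)] [∀ i, Module.Free A (L.X i)] (p : ℤ) (M : J → ModuleCat.{u} A) :
    Function.Bijective fun (a : (CohIII.TFun L p).obj (ModuleCat.of A (∀ j, M j))) (j : J) =>
      (CohIII.TFun L p).map (ModuleCat.ofHom (LinearMap.proj j) :
        ModuleCat.of A (∀ j, M j) ⟶ M j) a := by
  let π : ∀ j, (∀ j, M j) →ₗ[A] M j := fun j => LinearMap.proj j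
  refine ⟨fun a a' h => ?_, fun c => ?_⟩
  · obtain ⟨x, rfl⟩ := clsT_surjective L (cochain_next p) (ModuleCat.of A (∀ j, M j)) a
    obtain ⟨x', rfl⟩ := clsT_surjective L (cochain_next p) (ModuleCat.of A (∀ j, M j)) a'
    rw [← sub_eq_zero, ← map_sub, clsT_eq_zero_iff L (cochain_next p) _ (cochain_prev p)]
    have hj : ∀ j, ∃ w, (L.d (p - 1) p).hom.rTensor (M j) w = (π j).lTensor (L.X p) (x - x').1 := by
      intro j
      have h' : (CohIII.TFun L p).map (ModuleCat.ofHom (π j) : ModuleCat.of A (∀ j, M j) ⟶ M j)
          (clsT L (cochain_next p) _ (x - x')) = 0 := by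
        rw [map_sub, map_sub, sub_eq_zero]
        exact congrFun h j
      rw [TFun_map_clsT] at h'
      exact (clsT_eq_zero_iff L (cochain_next p) (M j) (cochain_prev p) _).1 h'
    choose w hw using hj
    obtain ⟨W, hW⟩ := (bijective_lTensor_proj (L.X (p - 1)) M).2 w
    refine ⟨W, (bijective_lTensor_proj (L.X p) M).1 (funext fun j => ?_)⟩
    show (π j).lTensor _ ((L.d (p - 1) p).hom.rTensor _ W) = (π j).lTensor _ (x - x').1
    rw [lTensor_rTensor, show (π j).lTensor _ W = w j from congrFun hW j, hw]
  · choose z hz using fun j => clsT_surjective L (cochain_next p) (M j) (c j)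
    obtain ⟨Z, hZ⟩ := (bijective_lTensor_proj (L.X p) M).2 fun j => (z j).1
    have hZ0 : (L.d p (p + 1)).hom.rTensor (∀ j, M j) Z = 0 := by
      refine (bijective_lTensor_proj (L.X (p + 1)) M).1 (funext fun j => ?_)
      show (π j).lTensor _ ((L.d p (p + 1)).hom.rTensor _ Z) = (π j).lTensor _ 0
      rw [lTensor_rTensor, show (π j).lTensor _ Z = (z j).1 from congrFun hZ j, map_zero]
      exact (z j).2
    refine ⟨clsT L (cochain_next p) (ModuleCat.of A (∀ j, M j)) ⟨Z, hZ0⟩, funext fun j => ?_⟩
    show (CohIII.TFun L p).map _ _ = c j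
    rw [TFun_map_clsT, ← hz j]
    exact congrArg _ (Subtype.ext (congrFun hZ j))

end Products

/-- The first of its three functors. Let A be a Noetherian ring, X a proper scheme over Spec A and F a
coherent O_X-module flat over A. Then for every p the functor M ↦ H^p(X, F ⊗_A M) from A-modules to
abelian groups (F ⊗_A M = F ⊗_{O_X} f^*M~ for the structure morphism f) commutes with arbitrary
products: it preserves limits of shape a discrete category, i.e. the canonical map H^p(X, F ⊗_A ∏
M_α) → ∏ H^p(X, F ⊗_A M_α) is an isomorphism. (The published statement is for a flat proper X over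
an arbitrary ring A and states the same for two Ext functors; this row assumes A Noetherian, does
not assume X flat over A, and states only the cohomology functor.) -/
theorem result (A : Type u) [CommRing A] [IsNoetherianRing A]
    (X : Scheme.{u}) [X.Over (Spec (CommRingCat.of A))] [IsProper (X ↘ (Spec (CommRingCat.of A)))]
    (F : X.Modules) (hF : Coh.IsCoh F) (hflat : FlatMod.IsFlatOver (X ↘ (Spec (CommRingCat.of A))) F)
    (p : ℕ) (J : Type u) :
    PreservesLimitsOfShape (Discrete J) (CohIII.tensorAFunctor A F ⋙ CohIII.HAb X p) := by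
  let f := X ↘ Spec (CommRingCat.of A)
  have := hF.1
  have : CompactSpace X := Groth.CohFin.compactSpace_of_proper f
  have : X.IsSeparated := Groth.CohFin.isSeparated_of_proper f
  have hfin : ∀ p : ℕ, Module.Finite A (Coh.HH X F p) := fun p =>
    Groth.CohFin.hFin_of_proper Groth.CohFin.projFinite p X f F hF
  obtain ⟨cov⟩ := Groth.CohBase.exists_goodCover X
  obtain ⟨L, φ, hL, -, hq⟩ := Groth.CohBase.exists_finiteFree_qis A cov F hflat hfin
  have : ∀ i, Module.Finite A (L.X i) := fun i => (hL i).1
  have : ∀ i, Module.Free A (L.X i) := fun i => (hL i).2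
  have : PreservesLimitsOfShape (Discrete J) (CohIII.TFun L (p : ℤ)) :=
    @preservesLimitsOfShape_of_discrete _ _ _ _ _ _ fun M =>
      preservesLimit_of_preserves_limit_cone (ModuleCat.productConeIsLimit M) ((isLimitMapConeFanMkEquiv
        (CohIII.TFun L (p : ℤ)) M _).symm (IsLimit.ofIsoLimit (ModuleCat.productConeIsLimit _)
          (Fan.ext (LinearEquiv.toModuleIso (LinearEquiv.ofBijective
            (LinearMap.pi fun j => ((CohIII.TFun L (p : ℤ)).map
              (ModuleCat.ofHom (LinearMap.proj j) : ModuleCat.of A (∀ j, M j) ⟶ M j)).hom)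
            (bijective_TFun_proj L (p : ℤ) M))) (fun j => rfl)).symm))
  exact preservesLimitsOfShape_of_natIso
    (Functor.isoWhiskerRight (Groth.CohBase.tFunIso φ (p : ℤ) hq) _ ≪≫
      Groth.CohBase.tensorIso A cov F p)

end Groth.Agent.S16719
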