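import Groth.Statements.S16737
import Mathlib

set_option autoImplicit false
universe u v
open DeRham

namespace Groth.Agent.S16737

/-- The case of affine space over an affine base of characteristic p, in degree zero. Let p be a prime
and R a commutative ring with p = 0 in R. For a polynomial f over R in any set of variables t_i, the
Kähler differential df in Ω_{R[t]/R} vanishes if and only if f is a polynomial in the p-th powers of
the variables, f = g(t_i^p). Equivalently, the functions on affine space over R killed by the
differential of the de Rham complex are exactly the functions on its Frobenius twist. (The published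
computation is for finitely many variables over a noetherian base of characteristic p; the statement
here allows any commutative ring with p = 0 and any set of variables.) -/
theorem result (p : ℕ) [Fact p.Prime]
    (R : Type u) [CommRing R] [CharP R p] (σ : Type v) (f : MvPolynomial σ R) :
    KaehlerDifferential.D R (MvPolynomial σ R) f = 0 ↔
      ∃ g : MvPolynomial σ R, f = MvPolynomial.expand p g := by
  classical
  have key : KaehlerDifferential.D R (MvPolynomial σ R) f = 0 ↔ ∀ i, MvPolynomial.pderiv i f = 0 := by
    rw [← (KaehlerDifferential.mvPolynomialBasis R σ).repr.map_eq_zero_iff, Finsupp.ext_iff]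
    simp
  rw [key]
  constructor
  · intro h
    have hdvd : ∀ m ∈ f.support, ∀ i, p ∣ m i := by
      intro m hm i
      rcases Nat.eq_zero_or_pos (m i) with h0 | h0
      · exact h0 ▸ dvd_zero p
      have h' := congrArg (MvPolynomial.coeff (m - Finsupp.single i 1)) (h i)
      have hle : Finsupp.single i 1 ≤ m := Finsupp.single_le_iff.2 h0
      rw [MvPolynomial.coeff_pderiv, MvPolynomial.coeff_zero, tsub_add_cancel_of_le hle] at h'
      have hi : (((m - Finsupp.single i 1 : σ →₀ ℕ) i : R) + 1) = (m i : R) := by
        rw [Finsupp.tsub_apply, Finsupp.single_eq_same, ← Nat.cast_add_one, Nat.sub_add_cancel h0]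
      rw [hi] at h'
      by_contra hp
      have hu : IsUnit ((m i : ℕ) : R) := by
        rw [← map_natCast (ZMod.castHom (dvd_refl p) R) (m i)]
        exact IsUnit.map _ (Ne.isUnit fun h => hp ((ZMod.natCast_eq_zero_iff _ _).1 h))
      exact MvPolynomial.mem_support_iff.1 hm (by simpa [hu.mul_left_eq_zero, hu.mul_right_eq_zero] using h')
    refine ⟨∑ m ∈ f.support, MvPolynomial.monomial (m.mapRange (· / p) (Nat.zero_div p))
      (f.coeff m), ?_⟩
    rw [map_sum]
    conv_lhs => rw [f.as_sum]
    refine Finset.sum_congr rfl fun m hm => ?_
    rw [MvPolynomial.expand_monomial,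
      show p • m.mapRange (· / p) (Nat.zero_div p) = m from
        Finsupp.ext fun i => by simp [Nat.mul_div_cancel' (hdvd m hm i)]]
  · rintro ⟨g, rfl⟩ i
    clear key
    induction g using MvPolynomial.induction_on' with
    | monomial m a =>
      rw [MvPolynomial.expand_monomial, MvPolynomial.pderiv_monomial]
      simp [CharP.cast_eq_zero R p]
    | add a b ha hb => simp [ha, hb]

end Groth.Agent.S16737
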