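import Groth.Statements.S1674
import Groth.Agent.Duality.RationalTail

set_option backward.isDefEq.respectTransparency false
set_option linter.style.haveILetI false
set_option maxHeartbeats 1000000
set_option synthInstance.maxHeartbeats 400000

set_option autoImplicit false
universe u
open CategoryTheory CategoryTheory.Limits AlgebraicGeometry
attribute [local instance] HasDerivedCategory.standard
open Curves

namespace Groth.Agent.S1674

open Groth.Duality.CurveAdj in
open Groth.Curves1.RR.Red (sub inc subOver) in
theorem aux {k : Type u} [Field k] {X : Scheme.{u}} [X.Over (Spec (CommRingCat.of k))]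
    [IsProper (X ↘ Spec (CommRingCat.of k))] (hdim : topologicalKrullDim X ≤ 1)
    [IsReduced X] (C : Set X) (hC : C ∈ irreducibleComponents (X : Type u))
    (hCb : Curv2.IsRationalBridge k X C hC) {d : ℤ}
    (hd : letI := subOver (k := k) ⟨C, isClosed_of_mem_irreducibleComponents C hC⟩
      d = -2 * Curv2.euler k (sub ⟨C, isClosed_of_mem_irreducibleComponents C hC⟩) (Coh.structureModule _) +
        Module.finrank k (Coh.HH X (ClSub.quotMod
          (Scheme.IdealSheafData.vanishingIdeal ⟨C, isClosed_of_mem_irreducibleComponents C hC⟩ ⊔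
            Scheme.IdealSheafData.vanishingIdeal (compl' ⟨C, isClosed_of_mem_irreducibleComponents C hC⟩))) 0)) :
    d = 0 := by
  haveI := Groth.EulerDeg.isNoetherian_of_proper k X
  obtain ⟨-, h2, h1⟩ := hCb
  obtain ⟨he, -⟩ := euler_sub_of_h1 (k := k) hdim _ hC.1.1 h1
  rw [he, ← ker_compl_ι] at hd
  simp only [TopologicalSpace.Closeds.coe_mk] at hd
  refine hd.trans ?_
  rw [h2]
  push_cast
  ring
/-- Let X be proper of dimension one over k with global functions k and at-worst-nodal singularities,
ω_X its dualizing module (via f^! O, assuming Rf_* on D_QCoh and its right adjoint exist), and C ⊆ X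
a rational bridge, viewed as a reduced closed subscheme. Then the restriction of ω_X to C has degree
zero (over k). -/
theorem result (k : Type u) [Field k] (X : Scheme.{u}) [X.Over (Spec (CommRingCat.of k))] [IsProper (X ↘ (Spec (CommRingCat.of k)))] (hdim : topologicalKrullDim X = 1)
    (h0 : Module.finrank k (Coh.HH X (Coh.structureModule X) 0) = 1) (hX : Curv2.AtWorstNodal k X)
    [DCoh.HasRpush (X ↘ (Spec (CommRingCat.of k)))] (h : DCoh.RpushPreservesQCoh (X ↘ (Spec (CommRingCat.of k)))) [DCoh.HasShriek (X ↘ (Spec (CommRingCat.of k))) h]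
    (OY : DCoh.DQCoh (Spec (CommRingCat.of k))) (hOY : Nonempty (OY.obj ≅ DCoh.inD (Spec (CommRingCat.of k)) (Coh.structureModule (Spec (CommRingCat.of k)))))
    (C : Set X) (hC : C ∈ irreducibleComponents (X : Type u)) (hCb : Curv2.IsRationalBridge k X C hC) :
    @Curv2.deg k _ (Scheme.IdealSheafData.vanishingIdeal ⟨C, isClosed_of_mem_irreducibleComponents C hC⟩).subscheme
        ⟨(Scheme.IdealSheafData.vanishingIdeal ⟨C, isClosed_of_mem_irreducibleComponents C hC⟩).subschemeι ≫ (X ↘ (Spec (CommRingCat.of k)))⟩
        ((Scheme.Modules.pullback (Scheme.IdealSheafData.vanishingIdeal ⟨C, isClosed_of_mem_irreducibleComponents C hC⟩).subschemeι).obj (DCoh.dualizingMod (X ↘ (Spec (CommRingCat.of k))) h OY 1)) 1 = 0 := by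
  haveI := Groth.Duality.CurveAdj.isReduced_of_nodal hX
  exact aux hdim.le C hC hCb (Groth.Duality.CurveAdj.deg_dualizingMod_restrict hdim h0 hX h OY hOY _
    (Groth.Duality.CurveAdj.hasGen_component (Groth.Duality.CurveAdj.hasGen_of_h0 hdim h0) hC))

end Groth.Agent.S1674
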