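import Groth.Statements.S16742
import Groth.Agent.FlatMor2.FibCrit.Core

set_option autoImplicit false
set_option linter.style.haveILetI false
universe u
open CAlg

namespace Groth.Agent.S16742

open TensorProduct Groth.FlatMorOne in
theorem flat_of_torsion_le (p : ℕ) (A B : Type u) [CommRing A] [CommRing B] [Algebra A B]
    (hp : (p : A) * p = 0) [Module.Flat (A ⧸ Ideal.span {(p : A)}) ((A ⧸ Ideal.span {(p : A)}) ⊗[A] B)]
    (h : ∀ b : B, (p : B) * b = 0 → b ∈ Ideal.span {(p : B)}) : Module.Flat A B := by
  let I : Ideal A := Ideal.span {(p : A)}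
  let π : I := ⟨p, Ideal.subset_span rfl⟩
  have hsurj : ∀ z : I ⊗[A] B, ∃ b, π ⊗ₜ[A] b = z := by
    intro z
    induction z with
    | zero => exact ⟨0, tmul_zero _ _⟩
    | add x y hx hy =>
      obtain ⟨a, rfl⟩ := hx; obtain ⟨b, rfl⟩ := hy
      exact ⟨a + b, tmul_add _ _ _⟩
    | tmul j b =>
      obtain ⟨a, ha⟩ := Ideal.mem_span_singleton'.mp j.2
      refine ⟨a • b, ?_⟩
      rw [← smul_tmul]
      congr 1
      exact Subtype.ext ha
  have h1 : Function.Injective (I.subtype.rTensor B) := by
    rw [injective_iff_map_eq_zero]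
    intro z hz
    obtain ⟨b, rfl⟩ := hsurj z
    have hb : (p : B) * b = 0 := by
      have := congrArg (TensorProduct.lid A B) hz
      simpa [π, Algebra.smul_def] using this
    obtain ⟨c, rfl⟩ := Ideal.mem_span_singleton'.mp (h b hb)
    rw [show c * (p : B) = (p : A) • c by rw [Algebra.smul_def, map_natCast, mul_comm], ← smul_tmul,
      show (p : A) • π = 0 from Subtype.ext hp, zero_tmul]
  rw [Module.Flat.iff_lTensor_injective]
  intro J _
  refine TorZero.lTensor_injective (Q := A ⧸ J) (torZero_of_pow_smul_eq_zero I h1 2 _ fun a ha x => ?_)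
    Subtype.val_injective (LinearMap.exact_subtype_mkQ J) (Submodule.mkQ_surjective J)
  rw [show I ^ 2 = ⊥ by rw [pow_two, Ideal.span_singleton_mul_span_singleton, hp,
    Ideal.span_singleton_eq_bot], Ideal.mem_bot] at ha
  rw [ha, zero_smul]

open TensorProduct in
theorem torsion_le_of_flat (p : ℕ) (hp : 0 < p) (B : Type u) [CommRing B] [Algebra (ZMod (p ^ 2)) B]
    [Module.Flat (ZMod (p ^ 2)) B] (b : B) (hb : (p : B) * b = 0) : b ∈ Ideal.span {(p : B)} := by
  let R := ZMod (p ^ 2)
  let μ : R →ₗ[R] R := LinearMap.mulLeft R (p : R)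
  have hex : Function.Exact μ μ := by
    intro x
    refine ⟨fun hx => ?_, ?_⟩
    · have : NeZero (p ^ 2) := ⟨(pow_pos hp 2).ne'⟩
      rw [LinearMap.mulLeft_apply, ← ZMod.natCast_zmod_val x, ← Nat.cast_mul,
        ZMod.natCast_eq_zero_iff] at hx
      obtain ⟨c, hc⟩ : p ∣ x.val := Nat.dvd_of_mul_dvd_mul_left hp ((pow_two p) ▸ hx)
      exact ⟨c, by rw [LinearMap.mulLeft_apply, ← ZMod.natCast_zmod_val x, hc, Nat.cast_mul]⟩
    · rintro ⟨y, rfl⟩
      rw [LinearMap.mulLeft_apply, LinearMap.mulLeft_apply, ← mul_assoc, ← Nat.cast_mul,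
        (ZMod.natCast_eq_zero_iff _ _).mpr (by rw [pow_two]), zero_mul]
  let e := TensorProduct.rid R B
  have hμ : ∀ z, e (μ.lTensor B z) = (p : B) * e z := by
    intro z
    induction z with
    | zero => simp
    | add x y hx hy => simp only [map_add, hx, hy, mul_add]
    | tmul b r =>
      simp only [e, μ, LinearMap.lTensor_tmul, TensorProduct.rid_tmul, LinearMap.mulLeft_apply, Algebra.smul_def,
        map_mul, mul_assoc]
      rw [show algebraMap R B (p : R) = (p : B) from map_natCast _ p]
  obtain ⟨z, hz⟩ := (Module.Flat.lTensor_exact B hex (e.symm b)).mp (e.injective (by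
    rw [hμ, e.apply_symm_apply, hb, map_zero]))
  refine Ideal.mem_span_singleton'.mpr ⟨e z, ?_⟩
  rw [mul_comm, ← hμ, hz, e.apply_symm_apply]

/-- The equivalence in affine form, with flatness of the reduction in place of smoothness. Let p be a
prime, A~ a commutative ring flat over Z/p^2 and B~ an A~-algebra such that B~/pB~ is flat over
A~/pA~. Then B~ is flat over A~ if and only if every element of B~ killed by p is a multiple of p;
equivalently multiplication by p identifies B~/pB~ with pB~. (The published statement assumes the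
reduction smooth over A~/pA~ and the schemes noetherian, and phrases (b) as B~ being a lifting, that
is flat over A~; the statement here assumes only that the reduction is flat, where the equivalence
still holds by the local flatness criterion for the square-zero ideal generated by p.) -/
theorem result (p : ℕ) [Fact p.Prime]
    (Al : Type u) [CommRing Al] [Algebra (ZMod (p ^ 2)) Al] [Module.Flat (ZMod (p ^ 2)) Al]
    (Bl : Type u) [CommRing Bl] [Algebra Al Bl]
    (hB : Module.Flat (Al ⧸ Ideal.span {(p : Al)})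
      (Bl ⧸ (Ideal.span {(p : Al)}).map (algebraMap Al Bl))) :
    Module.Flat Al Bl ↔ ∀ b : Bl, (p : Bl) * b = 0 → b ∈ Ideal.span {(p : Bl)} := by
  letI : Algebra (ZMod (p ^ 2)) Bl := ((algebraMap Al Bl).comp (algebraMap (ZMod (p ^ 2)) Al)).toAlgebra
  haveI : IsScalarTower (ZMod (p ^ 2)) Al Bl := IsScalarTower.of_algebraMap_eq' rfl
  constructor
  · intro hflat b hb
    haveI : Module.Flat (ZMod (p ^ 2)) Bl := Module.Flat.trans (ZMod (p ^ 2)) Al Bl
    exact torsion_le_of_flat p (Fact.out : p.Prime).pos Bl b hb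
  · intro h
    have hp : (p : Al) * p = 0 := by
      rw [← Nat.cast_mul, ← pow_two, ← map_natCast (algebraMap (ZMod (p ^ 2)) Al), ZMod.natCast_self,
        map_zero]
    haveI : Module.Flat (Al ⧸ Ideal.span {(p : Al)}) (TensorProduct Al (Al ⧸ Ideal.span {(p : Al)}) Bl) := by
      haveI := hB
      let e := (TensorProduct.quotTensorEquivQuotSMul Bl (Ideal.span {(p : Al)})).trans
        (Submodule.quotEquivOfEq _ ((Ideal.span {(p : Al)}).map (algebraMap Al Bl) |>.restrictScalars Al)
          (Ideal.smul_top_eq_map _) |>.trans (Submodule.Quotient.restrictScalarsEquiv Al _))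
      refine Groth.FlatMor2.FibCrit.flat_of_addEquiv e.symm.toAddEquiv fun z m => ?_
      obtain ⟨z, rfl⟩ := Ideal.Quotient.mk_surjective z
      rw [← Ideal.Quotient.algebraMap_eq, algebraMap_smul, algebraMap_smul]
      exact map_smul e.symm z m
    exact flat_of_torsion_le p Al Bl hp h

end Groth.Agent.S16742
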