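import Groth.Statements.S16744
import Mathlib
import Groth.Agent.S16737
import Groth.Agent.Calg7.LogDRCharP
-- import your own Groth.Agent.* helpers here

set_option autoImplicit false
universe u
open DeRham

namespace Groth.Agent.S16744

open MvPolynomial exteriorPower Groth.DR Groth.Calg7.LogDR in

open exteriorPower in
/-- The case of affine n-space over an affine base of characteristic p with boundary divisor t_1⋯t_r =
0, all degrees. Let p be a prime, R a commutative ring with p = 0 in R, B = R[t_1, …, t_n] and r ≤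
n. Let (L, ι, dl) be the module of differentials of B over R with logarithmic poles along t_1, …,
t_r, pinned by its defining properties (t_i · dl_i = ι(dt_i); ι(Ω_{B/R}) and the dl_i generate; no
(t_1⋯t_r)-torsion; the kernel of ι is the (t_1⋯t_r)-power torsion), and let d be the logarithmic de
Rham differential on the exterior powers of L (the de Rham rule for ι ∘ d together with d(dl_i) = 0,
and d ∘ d = 0). Put w_ν = dl_ν for ν < r and w_ν = ι(t_ν^{p-1} dt_ν) for ν ≥ r (indices from 0), and
for an a-element set s of indices let e_s be the wedge of the w_ν, ν ∈ s, in increasing order. Then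
an a-form with logarithmic poles is closed exactly when it is an exact form plus a combination Σ_s
g_s(t_1^p, …, t_n^p) · e_s with coefficients polynomials in the p-th powers of the variables, and
such a combination is exact only if every g_s vanishes: the a-th cohomology of the logarithmic de
Rham complex of affine n-space is free over R[t_1^p, …, t_n^p] on the classes of the e_s. -/
theorem result (p : ℕ) [Fact p.Prime]
    (R : Type u) [CommRing R] [CharP R p] (n r a : ℕ) (hr : r ≤ n)
    (L : Type u) [AddCommGroup L] [Module (MvPolynomial (Fin n) R) L] [Module R L]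
    [IsScalarTower R (MvPolynomial (Fin n) R) L]
    (ι : (Ω[MvPolynomial (Fin n) R⁄R]) →ₗ[MvPolynomial (Fin n) R] L) (dl : Fin r → L)
    (hL : LogDiff.IsLog (KaehlerDifferential.D R (MvPolynomial (Fin n) R))
      (fun i : Fin r => (MvPolynomial.X (Fin.castLE hr i) : MvPolynomial (Fin n) R)) ι dl)
    (d : ∀ q : ℕ, ↥(⋀[MvPolynomial (Fin n) R]^q L) →ₗ[R] ↥(⋀[MvPolynomial (Fin n) R]^(q + 1) L))
    (hd : DeRham.IsDiff (ι.compDer (KaehlerDifferential.D R (MvPolynomial (Fin n) R))) d)
    (hlog : LogDiff.IsLogRule (KaehlerDifferential.D R (MvPolynomial (Fin n) R)) ι dl d)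
    (w : Fin n → L) (hw : ∀ i : Fin r, w (Fin.castLE hr i) = dl i)
    (hw' : ∀ ν : Fin n, r ≤ (ν : ℕ) → w ν = ι (((MvPolynomial.X ν : MvPolynomial (Fin n) R) ^ (p - 1)) •
      KaehlerDifferential.D R (MvPolynomial (Fin n) R) (MvPolynomial.X ν)))
    (e : Finset (Fin n) → ↥(⋀[MvPolynomial (Fin n) R]^a L))
    (he : ∀ (s : Finset (Fin n)) (hs : s.card = a),
      e s = exteriorPower.ιMulti (MvPolynomial (Fin n) R) a (fun j => w (s.orderEmbOfFin hs j))) :
    (∀ ω, ω ∈ DeRham.cocycles d a ↔
      ∃ (g : Finset (Fin n) → MvPolynomial (Fin n) R) (η : ↥(⋀[MvPolynomial (Fin n) R]^a L)),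
        η ∈ DeRham.coboundaries d a ∧
          ω = η + ∑ s ∈ Finset.powersetCard a Finset.univ, MvPolynomial.expand p (g s) • e s) ∧
    (∀ g : Finset (Fin n) → MvPolynomial (Fin n) R,
      (∑ s ∈ Finset.powersetCard a Finset.univ, MvPolynomial.expand p (g s) • e s) ∈ DeRham.coboundaries d a →
        ∀ s ∈ Finset.powersetCard a (Finset.univ : Finset (Fin n)), g s = 0) := by
  classical
  have hp : p.Prime := Fact.out
  have hlog' := hlog
  have hd2 := hd.2
  let g₀ : ∀ {q : ℕ}, Set.powersetCard (Fin n) q → Fin q → Fin n := fun S => S.1.orderEmbOfFin S.2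
  let mw : Fin n → MvPolynomial (Fin n) R := fun ν => if (ν : ℕ) < r then 1 else X ν ^ (p - 1)
  have hwv : ∀ ν, w ν = mw ν • vec ι dl ν := by
    intro ν
    simp only [mw, vec]
    split_ifs with h
    · rw [one_smul]; exact hw ⟨ν, h⟩
    · rw [hw' ν (le_of_not_gt h), map_smul]
  let ew : ∀ {q : ℕ}, (Fin q → Fin n) → ↥(⋀[MvPolynomial (Fin n) R]^q L) := fun g => ιMulti _ _ (fun j => w (g j))
  have hew : ∀ {q : ℕ} (g : Fin q → Fin n), ew g = (∏ j, mw (g j)) • tup ι dl g := fun g => by
    simp only [ew, hwv]
    exact (ιMulti (MvPolynomial (Fin n) R) _).toMultilinearMap.map_smul_univ _ _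
  -- the exponents
  let ε : ∀ {q : ℕ}, (Fin q → Fin n) → (Fin n →₀ ℕ) :=
    fun g => Finsupp.equivFunOnFinite.symm fun ν => (p - 1) * wt r g ν
  have hprod : ∀ {q : ℕ} (g : Fin q → Fin n), ∏ j, mw (g j) = monomial (ε g) (1 : R) := by
    intro q g
    have h1 : ∀ j, mw (g j) = monomial (if (g j : ℕ) < r then 0 else Finsupp.single (g j) (p - 1)) (1 : R) := fun j => by
      simp only [mw]; split_ifs <;> simp [X_pow_eq_monomial]
    simp only [h1, ← monomial_sum_one]
    refine congrArg (fun u => monomial u (1 : R)) ?_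
    ext ν
    simp only [ε, Finsupp.coe_finsetSum, Finset.sum_apply, Finsupp.equivFunOnFinite_symm_apply_apply, wt, Finset.mul_sum]
    refine Finset.sum_congr rfl fun j _ => ?_
    by_cases h : g j = ν
    · subst h
      by_cases h' : (g j : ℕ) < r
      · simp [h', not_le.2 h']
      · simp [h', not_lt.1 h']
    · by_cases h' : (g j : ℕ) < r
      · simp [h', h]
      · simp [h', h, Finsupp.single_eq_of_ne (Ne.symm h)]
  have hpR : (p : R) = 0 := CharP.cast_eq_zero R p
  -- the Lie derivatives kill the candidate cocycles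
  have hkill : ∀ ν {q : ℕ} (h : MvPolynomial (Fin n) R) (g : Fin q → Fin n),
      lieE hr ι dl hL d ν q (expand p h • ew g) = 0 := by
    intro ν q h g
    rw [hew, hprod, smul_smul]
    induction h using MvPolynomial.induction_on' with
    | monomial m c =>
      rw [expand_monomial, monomial_mul, mul_one, lieE_monomial hr ι dl hL d hlog]
      simp only [ε, Finsupp.add_apply, Finsupp.smul_apply, Finsupp.equivFunOnFinite_symm_apply_apply, smul_eq_mul]
      rw [show p * m ν + (p - 1) * wt r g ν + wt r g ν = p * (m ν + wt r g ν) by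
        have h1 : p - 1 + 1 = p := Nat.sub_add_cancel hp.one_le
        conv_rhs => rw [← h1]
        conv_lhs => arg 1; arg 1; arg 1; rw [← h1]
        ring, Nat.cast_mul, hpR, zero_mul, zero_smul]
    | add a b ha hb => rw [map_add, add_mul, add_smul, map_add, ha, hb, add_zero]
  -- they are closed
  have hclosed : ∀ {q : ℕ} (h : MvPolynomial (Fin n) R) (g : Fin q → Fin n), d q (expand p h • ew g) = 0 := by
    intro q h g
    let D := KaehlerDifferential.D R (MvPolynomial (Fin n) R)
    let P : MvPolynomial (Fin n) R → Prop := fun f => wedgeL (ι (D f)) q (tup ι dl g) = 0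
    have hmul : ∀ a b, P a → P b → P (a * b) := fun a b ha hb => by
      simp only [P] at ha hb ⊢
      rw [Derivation.leibniz, map_add, map_smul, map_smul, wedgeL_add, wedgeL_smul, wedgeL_smul, ha, hb,
        smul_zero, smul_zero, add_zero]
    rw [hew, smul_smul, d_smul_tup hr ι dl hL d hlog]
    refine hmul _ _ ?_ (Finset.prod_induction _ P hmul ?_ fun j _ => ?_)
    · simp only [P, D, (Groth.Agent.S16737.result p R (Fin n) (expand p h)).2 ⟨h, rfl⟩, map_zero, wedgeL_zero]
    · simp only [P, D, Derivation.map_one_eq_zero, map_zero, wedgeL_zero]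
    · simp only [P, mw]
      split_ifs with h'
      · simp only [D, Derivation.map_one_eq_zero, map_zero, wedgeL_zero]
      · have hv : ι (D (X (g j))) = vec ι dl (g j) := by
          simp [vec, h', D]
        rw [Derivation.leibniz_pow, map_nsmul, map_smul, hv, ← Nat.cast_smul_eq_nsmul (MvPolynomial (Fin n) R),
          wedgeL_smul, wedgeL_smul, tup, wedgeL_ιMulti,
          (ιMulti (MvPolynomial (Fin n) R) (q + 1)).map_eq_zero_of_eq _ (i := 0) (j := j.succ) (by simp) (Fin.succ_ne_zero j).symm,
          smul_zero, smul_zero]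
  -- weight zero projection lands in the candidates
  let Z : ∀ q : ℕ, AddSubgroup ↥(⋀[MvPolynomial (Fin n) R]^q L) := fun q =>
    AddSubgroup.closure {x | ∃ (h : MvPolynomial (Fin n) R) (S : Set.powersetCard (Fin n) q), x = expand p h • ew (g₀ S)}
  let Pr : ∀ q : ℕ, Module.End R ↥(⋀[MvPolynomial (Fin n) R]^q L) := fun q => Proj hr ι dl hL d p (List.finRange n) q
  have hwt : ∀ {q : ℕ} (S : Set.powersetCard (Fin n) q) ν, wt r (g₀ S) ν ≤ 1 := by
    intro q S ν
    simp only [wt, ← Finset.card_filter]
    exact Finset.card_le_one.2 fun a ha b hb =>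
      (S.1.orderEmbOfFin S.2).injective ((Finset.mem_filter.1 ha).2.1.trans (Finset.mem_filter.1 hb).2.1.symm)
  have hunit : ∀ k : ℕ, ¬ p ∣ k → (k : R) ^ (p - 1) = 1 := fun k hk => by
    rw [← map_natCast (ZMod.castHom (dvd_refl p) R) k, ← map_pow,
      ZMod.pow_card_sub_one_eq_one (fun h => hk ((ZMod.natCast_eq_zero_iff _ _).1 h)), map_one]
  have hland : ∀ q x, Pr q x ∈ Z q := by
    intro q x
    refine tup_induction hr ι dl hL (P := fun x => Pr q x ∈ Z q) (by simp [zero_mem])
      (fun x y hx hy => by rw [map_add]; exact add_mem hx hy) (fun m c S => ?_) x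
    simp only [Pr]
    rw [Proj_monomial hr ι dl hL d hlog]
    by_cases hall : ∀ ν, p ∣ m ν + wt r (g₀ S) ν
    · rw [List.prod_eq_one (fun z hz => by
        obtain ⟨ν, -, rfl⟩ := List.mem_map.1 hz
        obtain ⟨k, hk⟩ := hall ν
        rw [show ((m ν + wt r (⇑(S.1.orderEmbOfFin S.2)) ν : ℕ) : R) = 0 by
          rw [show m ν + wt r (⇑(S.1.orderEmbOfFin S.2)) ν = p * k from hk, Nat.cast_mul, hpR, zero_mul],
          zero_pow (by have := hp.two_le; omega), sub_zero]), one_smul]
      let m' : Fin n →₀ ℕ := Finsupp.equivFunOnFinite.symm fun ν =>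
        (m ν + wt r (g₀ S) ν) / p - wt r (g₀ S) ν
      refine AddSubgroup.subset_closure ⟨monomial m' c, S, ?_⟩
      rw [hew, hprod, smul_smul, expand_monomial, monomial_mul, mul_one]
      congr 3
      ext ν
      obtain ⟨k, hk⟩ := hall ν
      have h1 := hwt S ν
      simp only [m', ε, Finsupp.add_apply, Finsupp.smul_apply, Finsupp.equivFunOnFinite_symm_apply_apply, smul_eq_mul]
      rw [hk, Nat.mul_div_cancel_left _ hp.pos]
      rcases Nat.le_one_iff_eq_zero_or_eq_one.1 h1 with h0 | h0
      · rw [h0] at hk ⊢; simpa using hk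
      · rw [h0] at hk ⊢
        obtain ⟨k', rfl⟩ : ∃ k', k = k' + 1 := ⟨k - 1, by
          rcases k with _ | k
          · simp at hk
          · rfl⟩
        rw [Nat.add_sub_cancel]
        have h2 := hp.one_le
        rw [mul_add, mul_one] at hk
        omega
    · push Not at hall
      obtain ⟨ν, hν⟩ := hall
      rw [List.prod_eq_zero (List.mem_map.2 ⟨ν, List.mem_finRange ν, by
        rw [hunit _ hν, sub_self]⟩), zero_smul]
      exact zero_mem _
  -- properties of the candidates
  have hZd : ∀ q, ∀ x ∈ Z q, d q x = 0 ∧ Pr q x = x := by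
    intro q x hx
    induction hx using AddSubgroup.closure_induction with
    | mem y hy =>
      obtain ⟨h, S, rfl⟩ := hy
      exact ⟨hclosed h _, Proj_fix hr ι dl hL d hlog p hp.two_le _ fun ν => hkill ν h _⟩
    | zero => simp
    | add u v _ _ hu hv => exact ⟨by rw [map_add, hu.1, hv.1, add_zero], by rw [map_add, hu.2, hv.2]⟩
    | neg u _ hu => exact ⟨by rw [map_neg, hu.1, neg_zero], by rw [map_neg, hu.2]⟩
  have he' : ∀ (s : Finset (Fin n)) (hs : s.card = a), e s = ew (g₀ (⟨s, hs⟩ : Set.powersetCard (Fin n) a)) :=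
    fun s hs => he s hs
  let comb : (Finset (Fin n) → MvPolynomial (Fin n) R) → ↥(⋀[MvPolynomial (Fin n) R]^a L) :=
    fun g => ∑ s ∈ Finset.powersetCard a Finset.univ, expand p (g s) • e s
  have hcombZ : ∀ g, comb g ∈ Z a := fun g => sum_mem fun s hs =>
    AddSubgroup.subset_closure ⟨g s, ⟨s, (Finset.mem_powersetCard.1 hs).2⟩, by rw [he' s (Finset.mem_powersetCard.1 hs).2]⟩
  have hexists : ∀ x ∈ Z a, ∃ g, x = comb g := by
    intro x hx
    induction hx using AddSubgroup.closure_induction with
    | mem y hy =>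
      obtain ⟨h, S, rfl⟩ := hy
      refine ⟨fun t => if t = S.1 then h else 0, ?_⟩
      simp only [comb]
      rw [Finset.sum_eq_single S.1]
      · rw [if_pos rfl, he' S.1 S.2]
      · intro t _ ht; rw [if_neg ht, map_zero, zero_smul]
      · intro h'; exact absurd (Finset.mem_powersetCard.2 ⟨Finset.subset_univ _, S.2⟩) h'
    | zero => exact ⟨0, by simp [comb]⟩
    | add u v _ _ hu hv =>
      obtain ⟨g, rfl⟩ := hu
      obtain ⟨g', rfl⟩ := hv
      exact ⟨g + g', by simp [comb, add_smul, Finset.sum_add_distrib]⟩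
    | neg u _ hu =>
      obtain ⟨g, rfl⟩ := hu
      exact ⟨-g, by simp only [comb, Pi.neg_apply, map_neg]; rw [← Finset.sum_neg_distrib]; exact Finset.sum_congr rfl fun t _ => (neg_smul _ _).symm⟩
  refine ⟨fun ω => ⟨fun hω => ?_, ?_⟩, fun g hg => ?_⟩
  · obtain ⟨g, hg⟩ := hexists _ (hland a ω)
    refine ⟨g, ω - Pr a ω, sub_Proj_mem hr ι dl hL d hlog p hp.two_le hd2 (LinearMap.mem_ker.1 hω) _, ?_⟩
    change ω = ω - Pr a ω + comb g
    rw [← hg, sub_add_cancel]
  · rintro ⟨g, η, hη, rfl⟩
    refine LinearMap.mem_ker.2 ?_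
    rw [map_add, show d a _ = _ from (hZd a _ (hcombZ g)).1, add_zero]
    cases a with
    | zero => rw [(Submodule.mem_bot _).1 hη, map_zero]
    | succ a =>
      obtain ⟨z, rfl⟩ := hη
      exact LinearMap.congr_fun (hd2 a) z
  · have h0 : comb g = 0 := by
      cases a with
      | zero => exact (Submodule.mem_bot _).1 hg
      | succ a =>
        obtain ⟨z, hz⟩ := hg
        rw [← (hZd (a + 1) _ (hcombZ g)).2, show comb g = d a z from hz.symm]
        simp only [Pr]
        rw [Proj_comm hr ι dl hL d hlog p hd2]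
        exact (hZd a _ (hland a z)).1
    intro s hs
    have hsc := (Finset.mem_powersetCard.1 hs).2
    let b := (vecBasis hr ι dl hL).exteriorPower a
    have hb : ∀ S, b S = tup ι dl (g₀ S) := fun S => by
      rw [exteriorPower.basis_apply]
      exact congrArg (ιMulti _ a) (funext fun j => vecBasis_apply hr ι dl hL _)
    have h1 := congrArg (b.coord ⟨s, hsc⟩) h0
    simp only [comb, map_sum, map_zero] at h1
    rw [Finset.sum_eq_single s] at h1
    · rw [he' s hsc, hew, smul_smul, map_smul, ← hb, Module.Basis.coord_apply, b.repr_self,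
        Finsupp.single_eq_same, smul_eq_mul, mul_one] at h1
      have hreg : IsRegular (∏ j, mw (g₀ (⟨s, hsc⟩ : Set.powersetCard (Fin n) a) j)) := IsRegular.prod fun j _ => by
        simp only [mw]; split_ifs
        · exact isRegular_one
        · exact isRegular_X_pow _
      exact expand_injective hp.pos ((hreg.right (h1.trans (zero_mul _).symm)).trans (map_zero _).symm)
    · intro t ht hne
      rw [he' t (Finset.mem_powersetCard.1 ht).2, hew, smul_smul, map_smul, ← hb, Module.Basis.coord_apply,
        b.repr_self, Finsupp.single_eq_of_ne (fun h => hne (congrArg Subtype.val h).symm), smul_zero]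
    · intro h; exact absurd hs h

end Groth.Agent.S16744
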