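import Groth.Statements.S16752
import Groth.Agent.CohBase.UnitBC
import Groth.Agent.LimitMod.FibreFunctions
import Groth.Agent.FibreDim.Constructible
import Groth.Agent.Ega43FP2.SkScheme

set_option autoImplicit false
set_option backward.isDefEq.respectTransparency.types false
universe u
open CurvSt

namespace Groth.Agent.S16752

open CategoryTheory CategoryTheory.Limits AlgebraicGeometry in
/-- Global functions on a nonempty fibre of a proper morphism have positive finite dimension. -/
theorem fiberRank_zero_pos {X S : Scheme.{u}} (f : X ⟶ S) [IsProper f] (s : S) [Nonempty (f.fiber s)] :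
    0 < CohIII.fiberRank f (Coh.structureModule X) 0 s := by
  let : (f.fiber s).Over (Spec (CommRingCat.of (S.residueField s))) := ⟨f.fiberToSpecResidueField s⟩
  haveI : IsProper (f.fiber s ↘ Spec (CommRingCat.of (S.residueField s))) :=
    inferInstanceAs (IsProper (pullback.snd f (S.fromSpecResidueField s)))
  obtain ⟨e⟩ := Groth.PicAux.pullback_structure_iso (f.fiberι s)
  have h : 0 < Module.finrank (S.residueField s) (Coh.HH (f.fiber s) (Coh.structureModule (f.fiber s)) 0) := by
    haveI := Groth.EulerDeg.finite_HH (S.residueField s) (f.fiber s)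
      (Groth.EulerDeg.isCoh_of_isInvertible
        (Groth.EulerDeg.isInvertible_structureModule (f.fiber s))) 0
    haveI : Nontrivial Γ(f.fiber s, ⊤) := by
      have : Nonempty (⊤ : (f.fiber s).Opens) := ⟨⟨Classical.arbitrary _, trivial⟩⟩
      infer_instance
    haveI : Nontrivial (Coh.HH (f.fiber s) (Coh.structureModule (f.fiber s)) 0) := by
      let eH := CategoryTheory.Sheaf.H.equiv₀ (Coh.toAb (Coh.structureModule (f.fiber s)))
        (T := (⊤ : TopologicalSpace.Opens (f.fiber s))) isTerminalTop
      obtain ⟨a, b, hab⟩ := exists_pair_ne Γ(f.fiber s, ⊤)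
      exact ⟨eH.symm a, eH.symm b, fun h => hab (eH.symm.injective h)⟩
    exact Module.finrank_pos
  exact lt_of_lt_of_eq h ((Groth.CohBase.haIsoEquiv (f.fiberToSpecResidueField s) e 0).finrank_eq).symm

open CategoryTheory CategoryTheory.Limits AlgebraicGeometry in
/-- Let f : X → S be a flat, proper morphism of schemes, locally of finite presentation, all of whose
fibres have dimension at most one (a family of curves whose total space is a scheme). Then the set
of points s of S such that the fibre X_s has dimension one and dim_{κ(s)} H^0(X_s, O_{X_s}) = 1 (the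
conditions under which the genus of X_s is defined) is open in S. The source allows the total space
to be an algebraic space and phrases the result as the existence of an open substack of the stack of
curves with this membership condition. -/
theorem result (X S : Scheme.{u}) (f : X ⟶ S)
    [Flat f] [IsProper f] [LocallyOfFinitePresentation f]
    (hdim : ∀ s : S, topologicalKrullDim ↥(f.fiber s) ≤ 1) :
    IsOpen {s : S | topologicalKrullDim ↥(f.fiber s) = 1 ∧
      Models.hRank ↥(S.residueField s) (f.fiber s) (f.fiberToSpecResidueField s)
        (Coh.structureModule (f.fiber s)) 0 = 1} := by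
  have hr : ∀ s : S, CohIII.fiberRank f (Coh.structureModule X) 0 s =
      Models.hRank ↥(S.residueField s) (f.fiber s) (f.fiberToSpecResidueField s)
        (Coh.structureModule (f.fiber s)) 0 := fun s => by
    let : (f.fiber s).Over (Spec (CommRingCat.of (S.residueField s))) := ⟨f.fiberToSpecResidueField s⟩
    obtain ⟨e⟩ := Groth.PicAux.pullback_structure_iso (f.fiberι s)
    exact (Groth.CohBase.haIsoEquiv (f.fiberToSpecResidueField s) e 0).finrank_eq
  have heq : {s : S | topologicalKrullDim ↥(f.fiber s) = 1 ∧
      Models.hRank ↥(S.residueField s) (f.fiber s) (f.fiberToSpecResidueField s)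
        (Coh.structureModule (f.fiber s)) 0 = 1} =
      {s : S | 0 < topologicalKrullDim ↥(f.fiber s)} ∩
        {s : S | PerfAux.betti f (Coh.structureModule X) s 0 < 2} := by
    ext s
    have hb : PerfAux.betti f (Coh.structureModule X) s 0 =
        CohIII.fiberRank f (Coh.structureModule X) 0 s := rfl
    simp only [Set.mem_inter_iff, Set.mem_setOf_eq, ← hr, hb]
    constructor
    · rintro ⟨h1, h2⟩
      exact ⟨h1.symm ▸ zero_lt_one, h2 ▸ Nat.one_lt_two⟩
    · rintro ⟨h1, h2⟩
      refine ⟨le_antisymm (hdim s) (by
        revert h1
        cases topologicalKrullDim ↥(f.fiber s) with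
        | bot => exact fun h => absurd h not_lt_bot
        | coe a => exact fun h => WithBot.coe_le_coe.2 (Order.one_le_iff_pos.2 (WithBot.coe_pos.1 h))), ?_⟩
      haveI : Nonempty (f.fiber s) := by
        by_contra hcon
        rw [not_nonempty_iff] at hcon
        haveI : IsEmpty (TopologicalSpace.IrreducibleCloseds ↥(f.fiber s)) :=
          ⟨fun Z => Z.isIrreducible.nonempty.elim fun x _ => hcon.false x⟩
        rw [topologicalKrullDim, Order.krullDim_eq_bot] at h1
        exact absurd h1 not_lt_bot
      have := fiberRank_zero_pos f s
      omega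
  rw [heq]
  exact (Groth.FibreDim.isOpen_lt_dim_fiber f 0).inter
    (Groth.LimitMod.isOpen_betti_lt f _ Groth.Ega43FP2.isFP_structureModule
      (Groth.FBaseGeom.isFlatOver_structureModule f) 0 2)

end Groth.Agent.S16752
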