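import Groth.Statements.S16754
import Groth.Agent.CurveBridge.BaseChange
import Groth.Agent.CurveBridge.SmoothCurve
import Groth.Agent.VarietyBC.GlobalField

set_option autoImplicit false
universe u
open CurvSt

namespace Groth.Agent.S16754

section
open AlgebraicGeometry CategoryTheory Limits TensorProduct

/-- The trivial clopens: a scheme with a local ring of global functions is connected. -/
theorem connectedSpace_of_isLocalRing {P : Scheme.{u}} [IsLocalRing Γ(P, ⊤)] : ConnectedSpace P := by
  have hne : Nonempty P := by
    by_contra h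
    rw [not_nonempty_iff] at h
    have h0 : (⊤ : P.Opens) = ⊥ := TopologicalSpace.Opens.ext (Set.eq_empty_of_isEmpty _)
    haveI : Subsingleton Γ(P, ⊤) := CommRingCat.subsingleton_of_isTerminal (P.sheaf.isTerminalOfEqEmpty h0)
    exact one_ne_zero (Subsingleton.elim (1 : Γ(P, ⊤)) 0)
  haveI : PreconnectedSpace P := by
    refine preconnectedSpace_iff_clopen.2 fun W hW => ?_
    let U : P.Opens := ⟨W, hW.2⟩
    let V : P.Opens := ⟨Wᶜ, hW.1.isOpen_compl⟩
    have hUV : U ⊔ V = ⊤ := TopologicalSpace.Opens.ext (Set.union_compl_self W)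
    have hdisj : U ⊓ V = ⊥ := TopologicalSpace.Opens.ext (Set.inter_compl_self W)
    obtain ⟨e, he⟩ := P.sheaf.existsUnique_gluing' (fun b : Bool => cond b U V) ⊤ (fun b => homOfLE le_top)
      (by intro x _; rcases (hUV.ge (Set.mem_univ x) : x ∈ W ∪ Wᶜ) with h | h
          · exact TopologicalSpace.Opens.mem_iSup.2 ⟨true, h⟩
          · exact TopologicalSpace.Opens.mem_iSup.2 ⟨false, h⟩)
      (fun b => match b with | true => (1 : Γ(P, U)) | false => (0 : Γ(P, V)))
      (by
        rintro (_ | _) (_ | _)
        · rfl
        · haveI : Subsingleton Γ(P, V ⊓ U) :=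
            CommRingCat.subsingleton_of_isTerminal (P.sheaf.isTerminalOfEqEmpty (by rw [inf_comm, hdisj]))
          exact Subsingleton.elim (α := Γ(P, V ⊓ U)) _ _
        · haveI : Subsingleton Γ(P, U ⊓ V) :=
            CommRingCat.subsingleton_of_isTerminal (P.sheaf.isTerminalOfEqEmpty hdisj)
          exact Subsingleton.elim (α := Γ(P, U ⊓ V)) _ _
        · rfl)
    have heU : P.presheaf.map (homOfLE (le_top : U ≤ ⊤)).op e = 1 := he.1 true
    have heV : P.presheaf.map (homOfLE (le_top : V ≤ ⊤)).op e = 0 := he.1 false
    rcases IsLocalRing.isUnit_or_isUnit_one_sub_self (R := Γ(P, ⊤)) e with h | h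
    · right
      by_contra hne'
      obtain ⟨x, hx⟩ := (Set.ne_univ_iff_exists_notMem _).1 hne'
      have h1 := h.map (P.presheaf.map (homOfLE (le_top : V ≤ ⊤)).op).hom
      rw [heV] at h1
      haveI : Nonempty V := ⟨⟨x, hx⟩⟩
      exact not_isUnit_zero h1
    · left
      by_contra hne'
      obtain ⟨x, hx⟩ := Set.nonempty_iff_ne_empty.2 hne'
      have h1 := h.map (P.presheaf.map (homOfLE (le_top : U ≤ ⊤)).op).hom
      rw [map_sub, map_one, heU, sub_self] at h1
      haveI : Nonempty U := ⟨⟨x, hx⟩⟩
      exact not_isUnit_zero h1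
  exact ⟨hne⟩

/-- Smooth, proper, geometrically connected schemes over a field are geometrically integral. -/
theorem geometricallyIntegral_of_connected (k : Type u) [Field k] {X : Scheme.{u}}
    (f : X ⟶ Spec (CommRingCat.of k)) [IsProper f] [Smooth f] [GeometricallyConnected f] :
    GeometricallyIntegral f := by
  refine ⟨fun K _ y Y fst snd h => ?_⟩
  let : Y.Over (Spec (CommRingCat.of K)) := ⟨snd⟩
  have : IsProper (Y ↘ Spec (CommRingCat.of K)) := MorphismProperty.of_isPullback h ‹IsProper f›
  have : Smooth (Y ↘ Spec (CommRingCat.of K)) := MorphismProperty.of_isPullback h ‹Smooth f›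
  have : ConnectedSpace Y := GeometricallyConnected.geometrically_connectedSpace y fst snd h
  exact Groth.CurveBridge.isIntegral_of_smooth K Y

/-- Constant global functions force geometric connectedness. -/
theorem geometricallyConnected_of_bijective (k : Type u) [Field k] {X : Scheme.{u}}
    (q : X ⟶ Spec (CommRingCat.of k)) [IsProper q]
    (h : Function.Bijective ((Scheme.ΓSpecIso (CommRingCat.of k)).inv ≫ q.appTop).hom) :
    GeometricallyConnected q := by
  letI := ((Scheme.ΓSpecIso (CommRingCat.of k)).inv ≫ q.appTop).hom.toAlgebra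
  haveI : CompactSpace X := QuasiCompact.compactSpace_of_compactSpace q
  haveI : QuasiSeparatedSpace X := quasiSeparatedSpace_of_quasiSeparated q
  let e0 : k ≃ₐ[k] Γ(X, ⊤) := AlgEquiv.ofBijective (Algebra.ofId k Γ(X, ⊤)) h
  rw [GeometricallyConnected.eq_geometrically]
  intro K _ g Z fst snd hZ
  letI : Algebra k K := (Spec.preimage g).hom.toAlgebra
  have hg : g = Spec.map (CommRingCat.ofHom (algebraMap k K)) := (Spec.map_preimage g).symm
  rw [hg] at hZ
  obtain ⟨e⟩ := Groth.VarietyBC.GlobalField.exists_ringEquiv (k := k) (E := K) q rfl hZ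
  let e' : K ≃+* Γ(Z, ⊤) :=
    (((Algebra.TensorProduct.rid k K K).symm.toRingEquiv).trans
      (Algebra.TensorProduct.congr (AlgEquiv.refl : K ≃ₐ[K] K) e0).toRingEquiv).trans e
  haveI := e'.isLocalRing
  exact connectedSpace_of_isLocalRing

end

open CategoryTheory CategoryTheory.Limits AlgebraicGeometry in
/-- Let k be a field and X a scheme which is proper and smooth over k and of dimension one. Then the
following are equivalent: dim_k H^0(X, O_X) = 1 (the ground field is the ring of global functions);
X is geometrically connected over k; X is geometrically integral over k. (The remaining conditions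
of the source concern membership in an open substack of the stack of curves and are not stated.) -/
theorem result (k : Type u) [Field k]
    (X : Scheme.{u}) [X.Over (Spec (CommRingCat.of k))] [IsProper (X ↘ Spec (CommRingCat.of k))]
    [Smooth (X ↘ Spec (CommRingCat.of k))] (hdim : topologicalKrullDim ↥X = 1) :
    (Module.finrank k (Coh.HH X (Coh.structureModule X) 0) = 1 ↔ GeometricallyConnected (X ↘ Spec (CommRingCat.of k))) ∧
      (GeometricallyConnected (X ↘ Spec (CommRingCat.of k)) ↔ GeometricallyIntegral (X ↘ Spec (CommRingCat.of k))) := by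
  let q := X ↘ Spec (CommRingCat.of k)
  have hmp : GeometricallyConnected q → GeometricallyIntegral q := fun h =>
    geometricallyIntegral_of_connected k q
  refine ⟨⟨fun h => ?_, fun h => Groth.CurveBridge.h0_of_geometrically k X hdim⟩, ⟨hmp, fun h => ?_⟩⟩
  · rw [Groth.VarietyBC.GlobalField.finrank_HH_zero k X] at h
    letI := (q.appTop.hom.comp (Scheme.ΓSpecIso (CommRingCat.of k)).inv.hom : k →+* Γ(X, ⊤)).toAlgebra
    have hbij : Function.Bijective (algebraMap k Γ(X, ⊤)) := by
      haveI : Nontrivial Γ(X, ⊤) := Module.nontrivial_of_finrank_eq_succ h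
      refine ⟨(algebraMap k Γ(X, ⊤)).injective, fun a => ?_⟩
      obtain ⟨c, hc⟩ := exists_smul_eq_of_finrank_eq_one h one_ne_zero a
      exact ⟨c, by rw [Algebra.algebraMap_eq_smul_one, hc]⟩
    exact geometricallyConnected_of_bijective k q hbij
  · have : GeometricallyIntegral q := h
    refine ⟨fun K _ y Y fst snd hpb => ?_⟩
    have := GeometricallyIntegral.geometrically_isIntegral (f := q) y fst snd hpb
    infer_instance

end Groth.Agent.S16754
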