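import Groth.Statements.S16755
import Groth.Agent.Contraction.Descend

set_option autoImplicit false
universe u
open CurvSt

namespace Groth.Agent.S16755

open CategoryTheory CategoryTheory.Limits AlgebraicGeometry in
/-- Let S be a scheme and s a point of S; let f : X → S, g₁ : Y₁ → S, g₂ : Y₂ → S be families of curves
with X, Y₁, Y₂ schemes (flat, proper, locally of finite presentation, all fibres of dimension at
most one) and c₁ : X → Y₁, c₂ : X → Y₂ morphisms over S. Fix the fibres X_s, Y_{1,s}, Y_{2,s} over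
the residue field κ(s) (cartesian squares over Spec κ(s) → S), the morphisms d₁ : X_s → Y_{1,s}, d₂
: X_s → Y_{2,s} induced by c₁, c₂, and an isomorphism e : Y_{1,s} ≅ Y_{2,s} over κ(s) with d₁
followed by e equal to d₂. Assume O_{Y_{1,s}} → d_{1,*} O_{X_s} is an isomorphism (on sections over
every open) and R^1 d_{1,*} O_{X_s} = 0 (the first cohomology of the structure sheaf of X_s vanishes
on the preimage of every affine open of Y_{1,s}). Then there are an open neighbourhood U of s in S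
and an isomorphism e' between the open subschemes g₁^{-1}(U) of Y₁ and g₂^{-1}(U) of Y₂, over S,
compatible with c₁ and c₂ (a T-valued point of X whose images under c₁ and c₂ lie in these opens has
those images matched by e') and restricting to e on the fibres over s. The source allows
algebraic-space total spaces. -/
theorem result {X Y₁ Y₂ S : Scheme.{u}}
    (f : X ⟶ S) (g₁ : Y₁ ⟶ S) (g₂ : Y₂ ⟶ S) (c₁ : X ⟶ Y₁) (c₂ : X ⟶ Y₂) (hc₁ : c₁ ≫ g₁ = f) (hc₂ : c₂ ≫ g₂ = f)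
    [Flat f] [IsProper f] [LocallyOfFinitePresentation f]
    [Flat g₁] [IsProper g₁] [LocallyOfFinitePresentation g₁]
    [Flat g₂] [IsProper g₂] [LocallyOfFinitePresentation g₂]
    (hX : ∀ t : S, topologicalKrullDim ↥(f.fiber t) ≤ 1) (hY₁ : ∀ t : S, topologicalKrullDim ↥(g₁.fiber t) ≤ 1)
    (hY₂ : ∀ t : S, topologicalKrullDim ↥(g₂.fiber t) ≤ 1)
    (s : S) (Xs Ys₁ Ys₂ : Scheme.{u})
    (iX : Xs ⟶ X) (qX : Xs ⟶ Spec (S.residueField s)) (hXs : IsPullback iX qX f (S.fromSpecResidueField s))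
    (i₁ : Ys₁ ⟶ Y₁) (q₁ : Ys₁ ⟶ Spec (S.residueField s)) (hYs₁ : IsPullback i₁ q₁ g₁ (S.fromSpecResidueField s))
    (i₂ : Ys₂ ⟶ Y₂) (q₂ : Ys₂ ⟶ Spec (S.residueField s)) (hYs₂ : IsPullback i₂ q₂ g₂ (S.fromSpecResidueField s))
    (d₁ : Xs ⟶ Ys₁) (hd₁ : d₁ ≫ i₁ = iX ≫ c₁) (hd₁q : d₁ ≫ q₁ = qX)
    (d₂ : Xs ⟶ Ys₂) (hd₂ : d₂ ≫ i₂ = iX ≫ c₂) (hd₂q : d₂ ≫ q₂ = qX)
    (e : Ys₁ ≅ Ys₂) (he : e.hom ≫ q₂ = q₁) (hec : d₁ ≫ e.hom = d₂)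
    (hiso : ∀ U : Ys₁.Opens, IsIso (d₁.app U))
    (hR1 : ∀ U : Ys₁.Opens, IsAffineOpen U → Subsingleton (Coh.HHon Xs (Coh.structureModule Xs) (d₁ ⁻¹ᵁ U) 1)) :
    ∃ U : S.Opens, s ∈ U ∧ ∃ e' : ((g₁ ⁻¹ᵁ U : Scheme.{u})) ≅ (g₂ ⁻¹ᵁ U : Scheme.{u}),
      e'.hom ≫ (g₂ ⁻¹ᵁ U).ι ≫ g₂ = (g₁ ⁻¹ᵁ U).ι ≫ g₁ ∧
      (∀ (T : Scheme.{u}) (a : T ⟶ X) (a₁ : T ⟶ (g₁ ⁻¹ᵁ U : Scheme.{u})) (a₂ : T ⟶ (g₂ ⁻¹ᵁ U : Scheme.{u})),
          a ≫ c₁ = a₁ ≫ (g₁ ⁻¹ᵁ U).ι → a ≫ c₂ = a₂ ≫ (g₂ ⁻¹ᵁ U).ι → a₁ ≫ e'.hom = a₂) ∧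
      (∀ (b₁ : Ys₁ ⟶ (g₁ ⁻¹ᵁ U : Scheme.{u})) (b₂ : Ys₂ ⟶ (g₂ ⁻¹ᵁ U : Scheme.{u})),
          b₁ ≫ (g₁ ⁻¹ᵁ U).ι = i₁ → b₂ ≫ (g₂ ⁻¹ᵁ U).ι = i₂ → b₁ ≫ e'.hom = e.hom ≫ b₂) := by
  subst hc₁
  haveI : IsProper c₁ := IsProper.of_comp c₁ g₁
  haveI : IsProper c₂ := by
    haveI : IsProper (c₂ ≫ g₂) := by rw [hc₂]; infer_instance
    exact IsProper.of_comp c₂ g₂
  haveI : IsProper d₁ := MorphismProperty.of_isPullback
    (IsPullback.of_bot (by rwa [hd₁q]) hd₁.symm hYs₁) ‹IsProper c₁›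
  have hXsdim : topologicalKrullDim ↥Xs ≤ (1 : ℕ) := by
    refine hXs.isoPullback.hom.isEmbedding.isInducing.topologicalKrullDim_le.trans ?_
    exact_mod_cast hX s
  have hgood₁ : ∀ y', Groth.Contraction.Good d₁ y' := Groth.Contraction.good_of_hhon d₁
    (fun y' => (d₁.fiberι y').isEmbedding.isInducing.topologicalKrullDim_le.trans hXsdim) hR1
  have hd₂q' : IsPullback (𝟙 Xs) d₁ d₂ e.hom :=
    IsPullback.of_horiz_isIso ⟨by rw [Category.id_comp, hec]⟩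
  haveI : IsProper d₂ := by rw [← hec]; infer_instance
  have hgood₂ : ∀ y', Groth.Contraction.Good d₂ y' := fun y' => by
    have h := (Groth.Contraction.good_baseChange_iff d₂ hd₂q' (e.inv y')).1 (hgood₁ _)
    rwa [← Scheme.Hom.comp_apply, e.inv_hom_id] at h
  have hiso₂ : ∀ U : Ys₂.Opens, IsIso (d₂.app U) := fun U => by
    rw [← hec, Scheme.Hom.comp_app]
    exact IsIso.comp_isIso' inferInstance (hiso _)
  haveI : Flat (c₂ ≫ g₂) := by rw [hc₂]; infer_instance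
  haveI : LocallyOfFinitePresentation (c₂ ≫ g₂) := by rw [hc₂]; infer_instance
  have hXs₂ : IsPullback iX qX (c₂ ≫ g₂) (S.fromSpecResidueField s) := by rw [hc₂]; exact hXs
  obtain ⟨V₁, hsV₁, hV₁⟩ :=
    Groth.Contraction.exists_nhd_of_square c₁ g₁ s hXs hYs₁ hd₁ hd₁q hiso hgood₁
  obtain ⟨V₂, hsV₂, hV₂⟩ :=
    Groth.Contraction.exists_nhd_of_square c₂ g₂ s hXs₂ hYs₂ hd₂ hd₂q hiso₂ hgood₂
  -- points over `s`
  haveI : IsPreimmersion i₁ := MorphismProperty.of_isPullback hYs₁.flip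
    (inferInstanceAs (IsPreimmersion (S.fromSpecResidueField s)))
  haveI : IsPreimmersion i₂ := MorphismProperty.of_isPullback hYs₂.flip
    (inferInstanceAs (IsPreimmersion (S.fromSpecResidueField s)))
  have hlift : ∀ x : X, g₁ (c₁ x) = s → ∃ z : Xs, iX z = x := fun x hx => by
    obtain ⟨z, hz⟩ : x ∈ Set.range ((c₁ ≫ g₁).fiberι s) := by
      rw [Scheme.Hom.range_fiberι]; exact hx
    exact ⟨hXs.isoPullback.inv z,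
      (congr($(hXs.isoPullback_inv_fst) z)).trans hz⟩
  have hw₁ : ∀ z : Xs, i₁ (d₁ z) = c₁ (iX z) := fun z => congr($hd₁ z)
  have hw₂ : ∀ z : Xs, i₂ (d₂ z) = c₂ (iX z) := fun z => congr($hd₂ z)
  have he₁ : ∀ z : Xs, e.hom (d₁ z) = d₂ z := fun z => congr($hec z)
  have hgx : ∀ x : X, g₂ (c₂ x) = g₁ (c₁ x) := fun x => congr($hc₂ x)
  have hcon₁ : ∀ x x' : X, g₁ (c₁ x) = s → c₁ x = c₁ x' → c₂ x = c₂ x' := fun x x' hx he' => by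
    obtain ⟨z, rfl⟩ := hlift x hx
    obtain ⟨z', rfl⟩ := hlift x' (he' ▸ hx)
    have h : d₁ z = d₁ z' := i₁.isEmbedding.injective (by rw [hw₁, hw₁, he'])
    rw [← hw₂, ← hw₂, ← he₁, ← he₁, h]
  have hcon₂ : ∀ x x' : X, g₂ (c₂ x) = s → c₂ x = c₂ x' → c₁ x = c₁ x' := fun x x' hx he' => by
    obtain ⟨z, rfl⟩ := hlift x (by rw [← hgx]; exact hx)
    obtain ⟨z', rfl⟩ := hlift x' (by rw [← hgx, ← he']; exact hx)
    have h : d₂ z = d₂ z' := i₂.isEmbedding.injective (by rw [hw₂, hw₂, he'])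
    rw [← he₁, ← he₁] at h
    rw [← hw₁, ← hw₁, e.hom.homeomorph.injective h]
  obtain ⟨Ua, hsa, hUa, ha, hha, hag⟩ :=
    Groth.Contraction.exists_desc_near c₁ g₁ c₂ g₂ hc₂.symm s V₁ hsV₁ hV₁ hcon₁
  obtain ⟨Ub, hsb, hUb, hb, hhb, hbg⟩ :=
    Groth.Contraction.exists_desc_near c₂ g₂ c₁ g₁ hc₂ s V₂ hsV₂ hV₂ hcon₂
  let U := Ua ⊓ Ub
  let O₁ := g₁ ⁻¹ᵁ U
  let O₂ := g₂ ⁻¹ᵁ U
  let la := Y₁.homOfLE (g₁.preimage_mono (inf_le_left : U ≤ Ua))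
  let lb := Y₂.homOfLE (g₂.preimage_mono (inf_le_right : U ≤ Ub))
  let h₁ : (O₁ : Scheme.{u}) ⟶ (O₂ : Scheme.{u}) := IsOpenImmersion.lift O₂.ι (la ≫ ha) (by
    rw [Scheme.Opens.range_ι]
    rintro _ ⟨z, rfl⟩
    show g₂ ((la ≫ ha) z) ∈ U
    rw [← Scheme.Hom.comp_apply, Category.assoc, hag, Scheme.homOfLE_ι_assoc]
    exact z.2)
  let h₂ : (O₂ : Scheme.{u}) ⟶ (O₁ : Scheme.{u}) := IsOpenImmersion.lift O₁.ι (lb ≫ hb) (by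
    rw [Scheme.Opens.range_ι]
    rintro _ ⟨z, rfl⟩
    show g₁ ((lb ≫ hb) z) ∈ U
    rw [← Scheme.Hom.comp_apply, Category.assoc, hbg, Scheme.homOfLE_ι_assoc]
    exact z.2)
  have hh₁ : h₁ ≫ O₂.ι = la ≫ ha := IsOpenImmersion.lift_fac _ _ _
  have hh₂ : h₂ ≫ O₁.ι = lb ≫ hb := IsOpenImmersion.lift_fac _ _ _
  have hT₁ : ∀ (T : Scheme.{u}) (a : T ⟶ X) (a₁ : T ⟶ (O₁ : Scheme.{u})),
      a ≫ c₁ = a₁ ≫ O₁.ι → a₁ ≫ h₁ ≫ O₂.ι = a ≫ c₂ := fun T a a₁ h => by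
    obtain ⟨a', ha'₁, ha'₂⟩ : ∃ a', a' ≫ (c₁ ⁻¹ᵁ g₁ ⁻¹ᵁ Ua).ι = a ∧
        a' ≫ (c₁ ∣_ (g₁ ⁻¹ᵁ Ua)) = a₁ ≫ la :=
      let sq := (isPullback_morphismRestrict c₁ (g₁ ⁻¹ᵁ Ua)).flip
      have hw : a ≫ c₁ = (a₁ ≫ la) ≫ (g₁ ⁻¹ᵁ Ua).ι := by rw [Category.assoc, Scheme.homOfLE_ι, h]
      ⟨sq.lift a (a₁ ≫ la) hw, sq.lift_fst _ _ hw, sq.lift_snd _ _ hw⟩
    rw [hh₁, ← reassoc_of% ha'₂, hha, reassoc_of% ha'₁]
  have hT₂ : ∀ (T : Scheme.{u}) (a : T ⟶ X) (a₂ : T ⟶ (O₂ : Scheme.{u})),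
      a ≫ c₂ = a₂ ≫ O₂.ι → a₂ ≫ h₂ ≫ O₁.ι = a ≫ c₁ := fun T a a₂ h => by
    obtain ⟨a', ha'₁, ha'₂⟩ : ∃ a', a' ≫ (c₂ ⁻¹ᵁ g₂ ⁻¹ᵁ Ub).ι = a ∧
        a' ≫ (c₂ ∣_ (g₂ ⁻¹ᵁ Ub)) = a₂ ≫ lb :=
      let sq := (isPullback_morphismRestrict c₂ (g₂ ⁻¹ᵁ Ub)).flip
      have hw : a ≫ c₂ = (a₂ ≫ lb) ≫ (g₂ ⁻¹ᵁ Ub).ι := by rw [Category.assoc, Scheme.homOfLE_ι, h]
      ⟨sq.lift a (a₂ ≫ lb) hw, sq.lift_fst _ _ hw, sq.lift_snd _ _ hw⟩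
    rw [hh₂, ← reassoc_of% ha'₂, hhb, reassoc_of% ha'₁]
  have hcancel : ∀ {Y : Scheme.{u}} (c : X ⟶ Y) [IsProper c] (O : Y.Opens)
      (hO : ∀ V : Y.Opens, V ≤ O → IsIso (c.app V)) (p q : (O : Scheme.{u}) ⟶ (O : Scheme.{u})),
      (c ∣_ O) ≫ p = (c ∣_ O) ≫ q → p = q := fun c _ O hO p q h => by
    haveI : UniversallyClosed (c ∣_ O) := MorphismProperty.of_isPullback
      (isPullback_morphismRestrict c O).flip (inferInstanceAs (UniversallyClosed c))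
    have hP : Groth.AlgGrp1.PushIso (c ∣_ O) := Groth.AlgGrp1.pushIso_of_isIso_app fun V _ =>
      Groth.AlgGrp1.isIso_app_restrict c O V
        (hO _ ((O.ι.image_le_opensRange _).trans_eq O.opensRange_ι))
    haveI := hP.surjective
    exact hP.cancel p q h
  have h12 : h₁ ≫ h₂ = 𝟙 _ := by
    refine hcancel c₁ O₁ (fun V hV => hV₁ V (hV.trans fun z hz => hUa hz.1)) _ _ ?_
    rw [← cancel_mono O₁.ι, Category.comp_id]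
    have h := hT₁ _ (c₁ ⁻¹ᵁ O₁).ι (c₁ ∣_ O₁) (morphismRestrict_ι c₁ O₁).symm
    simp only [Category.assoc]
    rw [morphismRestrict_ι, ← hT₂ _ (c₁ ⁻¹ᵁ O₁).ι ((c₁ ∣_ O₁) ≫ h₁)
      (by rw [Category.assoc, h])]
    simp only [Category.assoc]
  have h21 : h₂ ≫ h₁ = 𝟙 _ := by
    refine hcancel c₂ O₂ (fun V hV => hV₂ V (hV.trans fun z hz => hUb hz.2)) _ _ ?_
    rw [← cancel_mono O₂.ι, Category.comp_id]
    have h := hT₂ _ (c₂ ⁻¹ᵁ O₂).ι (c₂ ∣_ O₂) (morphismRestrict_ι c₂ O₂).symm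
    simp only [Category.assoc]
    rw [morphismRestrict_ι, ← hT₁ _ (c₂ ⁻¹ᵁ O₂).ι ((c₂ ∣_ O₂) ≫ h₂)
      (by rw [Category.assoc, h])]
    simp only [Category.assoc]
  refine ⟨U, ⟨hsa, hsb⟩, ⟨h₁, h₂, h12, h21⟩, ?_, ?_, ?_⟩
  · rw [reassoc_of% hh₁, hag, Scheme.homOfLE_ι_assoc]
  · intro T a a₁ a₂ h h'
    rw [← cancel_mono O₂.ι, Category.assoc, hT₁ T a a₁ h, h']
  · intro b₁ b₂ h h'
    have hP : Groth.AlgGrp1.PushIso d₁ := Groth.AlgGrp1.pushIso_of_isIso_app fun V _ => hiso V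
    haveI := hP.surjective
    refine hP.cancel _ _ ?_
    rw [← Category.assoc d₁ e.hom b₂, hec, ← cancel_mono O₂.ι, Category.assoc, Category.assoc,
      hT₁ Xs iX (d₁ ≫ b₁) (by rw [Category.assoc, h, hd₁]) |> Eq.trans (Category.assoc _ _ _).symm,
      Category.assoc, h', hd₂]

end Groth.Agent.S16755
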