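import Groth.Statements.S16758
import Groth.Agent.PicAux.H0Universal
-- import your own Groth.Agent.* helpers here

set_option autoImplicit false
universe u
open PicF

namespace Groth.Agent.S16758

open AlgebraicGeometry CategoryTheory CategoryTheory.Limits in
/-- (2) ⇔ (3): let f : X → Y be proper and flat with Y locally Noetherian. Then dim_{κ(y)} H⁰(X_y,
O_{X_y}) = 1 for every point y of Y if and only if for every morphism T → Y the base change f_T : X
×_Y T → T induces isomorphisms O_T(U) → O_{X ×_Y T}(f_T⁻¹ U) on all opens U of T, i.e. O_T = (f_T)_*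
O universally. (The published statement takes X and Y Noetherian; the argument is local on Y, so Y
is only assumed locally Noetherian here.) -/
theorem result {X Y : Scheme.{u}} (f : X ⟶ Y)
    [IsProper f] [Flat f] [IsLocallyNoetherian Y] :
    (∀ y : Y, Module.finrank (Y.residueField y) Γ(f.fiber y, ⊤) = 1) ↔
      ∀ (T : Scheme.{u}) (g : T ⟶ Y) (U : T.Opens), IsIso ((pullback.snd f g).app U) := by
  refine ⟨fun h T g U => ?_, fun h y => ?_⟩
  · rw [ConcreteCategory.isIso_iff_bijective]
    exact Groth.PicAux.Seesaw.base_change_app_bijective f
      (Groth.PicAux.Seesaw.h0One_of_finrank f h) (IsPullback.of_hasPullback f g) U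
  · have := h _ (Y.fromSpecResidueField y) ⊤
    have h1 : Function.Bijective (algebraMap (Y.residueField y) Γ(f.fiber y, ⊤)) :=
      (haveI : IsIso ((f.fiberToSpecResidueField y).app ⊤) := this
       ConcreteCategory.bijective_of_isIso ((f.fiberToSpecResidueField y).app ⊤)).comp
        (ConcreteCategory.bijective_of_isIso (Scheme.ΓSpecIso (Y.residueField y)).inv)
    exact (LinearEquiv.ofBijective (Algebra.linearMap (Y.residueField y) Γ(f.fiber y, ⊤)) h1).finrank_eq.symm.trans
      (Module.finrank_self _)

end Groth.Agent.S16758
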