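import Groth.Statements.S16759
import Groth.Agent.PicAux.SeesawReduced
-- import your own Groth.Agent.* helpers here

set_option autoImplicit false
universe u
open PicF

namespace Groth.Agent.S16759

open AlgebraicGeometry CategoryTheory CategoryTheory.Limits in
/-- Let f : X → Y be proper and flat with Y locally Noetherian and reduced, assume dim_{κ(y)} H⁰(X_y,
O_{X_y}) = 1 for every y, and let L be an invertible O_X-module. Then L ≅ f^*M for some invertible
O_Y-module M if and only if L|_{X_y} ≅ O_{X_y} for every point y of Y; moreover, when this holds,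
f_*L is invertible and the counit f^*f_*L → L of the pullback–pushforward adjunction is an
isomorphism (so one may take M = f_*L). (The published statement takes X and Y Noetherian; only
local Noetherianity of Y is used.) -/
theorem result {X Y : Scheme.{u}} (f : X ⟶ Y)
    [IsProper f] [Flat f] [IsLocallyNoetherian Y] [IsReduced Y]
    (h0 : ∀ y : Y, Module.finrank (Y.residueField y) Γ(f.fiber y, ⊤) = 1)
    (L : X.Modules) (hL : PicF.IsInvertible L) :
    ((∃ M : Y.Modules, PicF.IsInvertible M ∧ Nonempty ((Scheme.Modules.pullback f).obj M ≅ L)) ↔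
        ∀ y : Y, Nonempty (CohIII.fiberMod f L y ≅ Coh.structureModule (f.fiber y))) ∧
      ((∀ y : Y, Nonempty (CohIII.fiberMod f L y ≅ Coh.structureModule (f.fiber y))) →
        PicF.IsInvertible ((Scheme.Modules.pushforward f).obj L) ∧
          IsIso ((Scheme.Modules.pullbackPushforwardAdjunction f).counit.app L)) := by
  have h := Groth.PicAux.Seesaw.h0One_of_finrank f h0
  refine ⟨⟨?_, fun ht => ?_⟩, Groth.PicAux.Seesaw.pushforward_counit_of_fibre_trivial f h hL⟩
  · rintro ⟨M, hM, ⟨e⟩⟩ y
    exact Groth.PicAux.Seesaw.fibre_trivial_of_pullback f hM e y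
  · obtain ⟨hi, hc⟩ := Groth.PicAux.Seesaw.pushforward_counit_of_fibre_trivial f h hL ht
    exact ⟨_, hi, ⟨asIso ((Scheme.Modules.pullbackPushforwardAdjunction f).counit.app L)⟩⟩

end Groth.Agent.S16759
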