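import Groth.Statements.S16760
import Groth.Agent.Abvar.Seesaw.GeomInt
import Mathlib.AlgebraicGeometry.Geometrically.Integral

set_option autoImplicit false
universe u
open PicF

namespace Groth.Agent.S16760

open AlgebraicGeometry CategoryTheory CategoryTheory.Limits in
/-- Let f : X → Y be proper and flat with Y locally Noetherian, with geometrically integral fibres (X
×_Y Spec K is an integral scheme for every field K and every Spec K → Y), and let L be an invertible
O_X-module. Then the set of points y of Y with L|_{X_y} ≅ O_{X_y} is closed. (The published
statement takes X and Y Noetherian; only local Noetherianity of Y is used.) -/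
theorem result {X Y : Scheme.{u}} (f : X ⟶ Y)
    [IsProper f] [Flat f] [IsLocallyNoetherian Y]
    (hgeo : ∀ (K : Type u) [Field K] (x : Spec (CommRingCat.of K) ⟶ Y), IsIntegral (pullback f x))
    (L : X.Modules) (hL : PicF.IsInvertible L) :
    IsClosed {y : Y | Nonempty (CohIII.fiberMod f L y ≅ Coh.structureModule (f.fiber y))} := by
  have : GeometricallyIntegral f := ⟨fun K _ y Z fst snd h =>
    have := hgeo K y
    have : Nonempty Z := ⟨h.isoPullback.inv (Classical.arbitrary _)⟩
    isIntegral_of_isOpenImmersion h.isoPullback.hom⟩
  exact Groth.Abvar.Seesaw.isClosed_fibTriv_of_integral f hL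

end Groth.Agent.S16760
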