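import Groth.Statements.S16761
import Groth.Agent.Limits.BC0.Vanish
import Groth.Agent.Limits.FibreVanishing
import Groth.Agent.FlatMor2.StratVanish.Core

set_option autoImplicit false
universe u
open Coherent

namespace Groth.Agent.S16761

open AlgebraicGeometry CategoryTheory CategoryTheory.Limits in
/-- Let f : X → S be proper and of finite presentation, F an O_X-module of finite presentation which is
flat over S, and d a natural number with dim X_s ≤ d for all s. Then the set S' of points s with
H^j(X_s, F_s) = 0 for all j ≥ 1 is open, and over every open U ⊆ S' the sheaves R^j f_* F (j ≥ 1)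
restrict to zero, f_* F restricts to a finite locally free module, and the formation of f_* F
commutes with base change: for every cartesian square with base a morphism g : T → S whose image
lies in U, with f' : X ×_S T → T and g' : X ×_S T → X the projections, the base change map g^* f_* F
→ f'_* g'^* F is an isomorphism. (The published statement asks only that f be proper; without finite
presentation the assertions on f_* F fail — for a finite flat morphism which is not of finite
presentation and F = O_X the direct image f_* O_X need not be finite locally free — and the argument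
runs through cohomology and base change for morphisms of finite presentation, so f is taken of
finite presentation here. Higher direct images are right derived functors of f_* on O_X-modules,
with injective resolutions carried as an instance argument.) -/
theorem result {X S : Scheme.{u}} (f : X ⟶ S)
    [IsProper f] [LocallyOfFinitePresentation f] [HasInjectiveResolutions X.Modules]
    (F : X.Modules) (hF : CohB1.IsFP F) (hfl : FlatMod.IsFlatOver f F)
    (d : ℕ) (hd : ∀ s : S, topologicalKrullDim ↥(f.fiber s) ≤ d) :
    IsOpen {s : S | ∀ j : ℕ, 1 ≤ j → Subsingleton (CohIII.fiberH f F s j)} ∧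
      ∀ U : S.Opens, (U : Set S) ⊆ {s : S | ∀ j : ℕ, 1 ≤ j → Subsingleton (CohIII.fiberH f F s j)} →
        (∀ j : ℕ, 1 ≤ j → IsZero (((Coh.Rpush f j).obj F).restrict U.ι)) ∧
          FlatMod.IsFinLocFree (((Coh.push f).obj F).restrict U.ι) ∧
            ∀ (T X' : Scheme.{u}) (g : T ⟶ S) (f' : X' ⟶ T) (g' : X' ⟶ X) (hsq : IsPullback g' f' f g),
              Set.range g.base ⊆ (U : Set S) → IsIso (CohBC.bc0 f g f' g' hsq.w F) := by
  haveI : F.IsQuasicoherent := Groth.FlatMor2.StratVanish.isQCoh_FP hF
  have hbig : ∀ (s : S) (j : ℕ), d < j → Subsingleton (CohIII.fiberH f F s j) := by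
    intro s j hj
    haveI : IsLocallyNoetherian (f.fiber s) :=
      LocallyOfFiniteType.isLocallyNoetherian (f.fiberToSpecResidueField s)
    haveI : CompactSpace (f.fiber s) :=
      QuasiCompact.compactSpace_of_compactSpace (f.fiberToSpecResidueField s)
    haveI : AlgebraicGeometry.IsNoetherian (f.fiber s) := {}
    exact Groth.Limits.FibreVanishing.subsingleton_HH_of_vanish_off _ (Z := Set.univ) isClosed_univ
      (fun x hx => absurd (Set.mem_univ x) hx)
      ((topologicalKrullDim_subspace_le _ _).trans (hd s)) j hj
  choose O hO using fun j => Groth.CohC3.BC.exists_vanish_open hF hfl (f := f) j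
  have hset : {s : S | ∀ j : ℕ, 1 ≤ j → Subsingleton (CohIII.fiberH f F s j)} =
      ⋂ j ∈ Finset.Icc 1 d, (O j : Set S) := by
    ext s
    simp only [Set.mem_setOf_eq, Set.mem_iInter, Finset.mem_Icc, SetLike.mem_coe]
    refine ⟨fun h j hj => (hO j s).2 (h j hj.1), fun h j hj => ?_⟩
    rcases lt_or_ge d j with hlt | hle
    · exact hbig s j hlt
    · exact (hO j s).1 (h j ⟨hj, hle⟩)
  refine ⟨?_, fun U hU => ?_⟩
  · rw [hset]
    exact isOpen_biInter_finset fun j _ => (O j).2
  · have hgood : ∀ s ∈ U, Groth.Limits.BC0.GoodAt f F s := fun s hs =>
      Groth.Limits.BC0.goodAt_of_vanish hF hfl s (hU hs 1 le_rfl)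
    refine ⟨fun j hj => Groth.Limits.BC0.isZero_restrict_Rpush hF hfl j U fun s hs => hU hs j hj,
      Groth.Limits.BC0.isFinLocFree_restrict_of_good hgood,
      fun T X' g f' g' hsq hg => Groth.Limits.BC0.isIso_bc0_of_good hsq fun z =>
        hgood _ (hg ⟨z, rfl⟩)⟩

end Groth.Agent.S16761
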