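import Groth.Statements.S16762
import Mathlib

set_option autoImplicit false
universe u
open scoped TensorProduct
open CAlgX

namespace Groth.Agent.S16762

/-- Let A → A' be faithfully flat and u : M → N a map of A-modules. Then u is universally injective (u ⊗
id_Q injective for every A-module Q) if and only if its base change A' ⊗_A M → A' ⊗_A N is
universally injective as a map of A'-modules. -/
theorem result (A A' : Type u) [CommRing A] [CommRing A']
    [Algebra A A'] [Module.FaithfullyFlat A A'] {M N : Type u} [AddCommGroup M] [Module A M]
    [AddCommGroup N] [Module A N] (u : M →ₗ[A] N) :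
    CAlgX.UniversallyInjective A u ↔ CAlgX.UniversallyInjective A' (u.baseChange A') := by
  constructor
  · intro h Q _ _
    let : Module A Q := Module.compHom Q (algebraMap A A')
    have : IsScalarTower A A' Q := IsScalarTower.of_algebraMap_smul fun r x => rfl
    rw [← LinearMap.lTensor_inj_iff_rTensor_inj]
    have h1 : Function.Injective (u.lTensor Q) := (LinearMap.lTensor_inj_iff_rTensor_inj _ _).2 (h Q)
    have hc : ∀ x, TensorProduct.AlgebraTensorModule.cancelBaseChange A A' A' Q N ((u.baseChange A').lTensor Q x) =
        u.lTensor Q (TensorProduct.AlgebraTensorModule.cancelBaseChange A A' A' Q M x) := by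
      intro x
      induction x using TensorProduct.induction_on with
      | zero => simp
      | tmul q y =>
        induction y using TensorProduct.induction_on with
        | zero => simp
        | tmul a m => simp
        | add a b ha hb => simp only [TensorProduct.tmul_add, map_add, ha, hb]
      | add a b ha hb => simp only [map_add, ha, hb]
    intro x y hxy
    apply (TensorProduct.AlgebraTensorModule.cancelBaseChange A A' A' Q M).injective
    apply h1
    rw [← hc, ← hc, hxy]
  · intro h Q _ _
    rw [← LinearMap.lTensor_inj_iff_rTensor_inj, ← Module.FaithfullyFlat.lTensor_injective_iff_injective A A']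
    have h1 : Function.Injective ((u.baseChange A').lTensor (A' ⊗[A] Q)) :=
      (LinearMap.lTensor_inj_iff_rTensor_inj _ _).2 (h (A' ⊗[A] Q))
    let eM := (TensorProduct.assoc A A' Q M).symm.toEquiv.trans
      (TensorProduct.AlgebraTensorModule.cancelBaseChange A A' A' (A' ⊗[A] Q) M).symm.toEquiv
    let eN := (TensorProduct.assoc A A' Q N).symm.toEquiv.trans
      (TensorProduct.AlgebraTensorModule.cancelBaseChange A A' A' (A' ⊗[A] Q) N).symm.toEquiv
    have hc : ∀ x, eN ((u.lTensor Q).lTensor A' x) = (u.baseChange A').lTensor (A' ⊗[A] Q) (eM x) := by
      intro x
      induction x using TensorProduct.induction_on with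
      | zero => simp [eM, eN]
      | tmul a y =>
        induction y using TensorProduct.induction_on with
        | zero => simp [eM, eN]
        | tmul q m => simp [eM, eN]
        | add a b ha hb =>
          simp only [eM, eN, Equiv.trans_apply, LinearEquiv.coe_toEquiv, TensorProduct.tmul_add, map_add] at ha hb ⊢
          rw [ha, hb]
      | add a b ha hb =>
        simp only [eM, eN, Equiv.trans_apply, LinearEquiv.coe_toEquiv, map_add] at ha hb ⊢
        rw [ha, hb]
    intro x y hxy
    apply eM.injective
    apply h1
    rw [← hc, ← hc, hxy]

end Groth.Agent.S16762
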