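import Groth.Statements.S16764
import Groth.Agent.FlatMor2.FibCrit.Fibrewise

set_option autoImplicit false
universe u
open Unram17

namespace Groth.Agent.S16764

open AlgebraicGeometry CategoryTheory CategoryTheory.Limits in
/-- Let g : Y → S and h : X → S be locally of finite presentation, f : X → Y an S-morphism (f ≫ g = h),
and x a point of X with image s = h(x) such that h is flat at x. Then f is étale at x (étale on an
open neighbourhood of x) if and only if the induced morphism of fibres X_s → Y_s is étale at the
point of X_s lying over x. -/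
theorem result {X Y S : Scheme.{u}} (g : Y ⟶ S) (h : X ⟶ S)
    [LocallyOfFinitePresentation g] [LocallyOfFinitePresentation h] (f : X ⟶ Y) (w : f ≫ g = h)
    (x : ↥X) (hflat : (h.stalkMap x).hom.Flat)
    (x' : ↥(h.fiber (h x))) (hx' : (h.fiberι (h x)) x' = x) :
    (∃ U : X.Opens, x ∈ U ∧ Etale (U.ι ≫ f)) ↔
      ∃ V : (h.fiber (h x)).Opens, x' ∈ V ∧ Etale (V.ι ≫ CohIII.fiberMapOver f h g w (h x)) := Groth.FlatMor2.FibCrit.etaleAt_iff_fiberMapOver g h f w x hflat x' hx'

end Groth.Agent.S16764
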