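import Groth.Statements.S1677
import Groth.Agent.Syntomic.FieldExt
import Groth.Agent.KoszulLCI.FibrewiseClosed
import Groth.Agent.Ega4Algebra2.RegularImmersion
import Groth.Agent.CMMor.Criterion

set_option autoImplicit false
universe u
open CategoryTheory CategoryTheory.Limits AlgebraicGeometry TopologicalSpace
open SDiv

namespace Groth.Agent.S1677

/-- Let X ⟶ S be smooth, Y ⟶ S flat, locally of finite presentation with complete-intersection fibre
local rings (syntomic), and i : Y ⟶ X a closed immersion over S. Then i is a regular closed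
immersion. -/
theorem result {X Y S : Scheme.{u}} (p : X ⟶ S) [Smooth p] (i : Y ⟶ X)
    [IsClosedImmersion i] (hY : CInt.IsCIMorphism (i ≫ p)) : Mor2.IsRegularClosedImmersion i := by
  obtain ⟨hflat, hlfp, hci⟩ := hY
  refine Groth.KoszulLCI.isRegularClosedImmersion_of_fibres i p
    (fun y => Flat.stalkMap p (i y)) fun s => ?_
  have hsq := Groth.KoszulLCI.isPullback_fiberMap i p s
  have : IsClosedImmersion (CInt.fiberMap i p s) := MorphismProperty.of_isPullback hsq inferInstance
  have : LocallyOfFiniteType (p.fiberToSpecResidueField s) :=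
    inferInstanceAs (LocallyOfFiniteType (pullback.snd p (S.fromSpecResidueField s)))
  have : IsLocallyNoetherian (p.fiber s) :=
    LocallyOfFiniteType.isLocallyNoetherian (p.fiberToSpecResidueField s)
  rw [Groth.Ega4b.isRegularClosedImmersion_iff]
  intro z
  have := Groth.CMMor.isRegularLocalRing_stalk_fiber p s (CInt.fiberMap i p s z)
  obtain ⟨rs, hrs, hreg⟩ := (Groth.CI.isCompleteIntersection_iff_of_surjective
    ((CInt.fiberMap i p s).stalkMap z).hom ((CInt.fiberMap i p s).stalkMap_surjective z)).1
    ((Groth.Syntomic.isCompleteIntersection_fiber_stalk_iff (i ≫ p) s z _ rfl).2 (hci _))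
  exact ⟨rs, hreg, hrs⟩

end Groth.Agent.S1677
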