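import Groth.Statements.S16771
import Groth.Agent.Reductive.HomScheme.Apps

set_option autoImplicit false
open CategoryTheory MonoidalCategory CartesianMonoidalCategory MonObj GrpObj AlgebraicGeometry
universe u
open SGA3x

namespace Groth.Agent.S16771

/-- Let G be an affine group scheme of finite presentation over a scheme S, Y ⊆ G a closed subscheme
which is finite, flat and of finite presentation over S, and Y' ⊆ G a closed subscheme of finite
presentation over S. Then the transporter of Y into Y' (points g of G such that g y g⁻¹ is a point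
of Y' for every point y of Y after any base change) is representable by a closed subscheme of G of
finite presentation over S. -/
theorem result {S : Scheme.{u}} (G Y Y' : Over S) [GrpObj G]
    (hGa : IsAffineHom G.hom) (hGfp : LocallyOfFinitePresentation G.hom)
    (y : Y ⟶ G) (hy : IsClosedImmersion y.left) (hYf : IsFinite Y.hom) (hYfl : Flat Y.hom)
    (hYfp : LocallyOfFinitePresentation Y.hom)
    (y' : Y' ⟶ G) (hy' : IsClosedImmersion y'.left) (hY'fp : LocallyOfFinitePresentation Y'.hom) :
    ∃ (C : Over S) (c : C ⟶ G), IsClosedImmersion c.left ∧ LocallyOfFinitePresentation C.hom ∧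
      ∀ (X : Over S) (g : X ⟶ G), (∃ z : X ⟶ C, z ≫ c = g) ↔
        ∀ (X' : Over S) (x : X' ⟶ X) (a : X' ⟶ Y), ∃ a' : X' ⟶ Y', (x ≫ g) * (a ≫ y) * (x ≫ g)⁻¹ = a' ≫ y' := by
  haveI := hGa
  haveI := hYf
  haveI := hYfl
  haveI := hYfp
  haveI := hy'
  have hY'a : IsAffineHom Y'.hom := by
    rw [← Over.w y']
    infer_instance
  haveI := hGfp
  obtain ⟨M, ev, hMa, hM, -, hMp⟩ := Groth.Reductive.HomScheme.exists_homScheme Y G
  obtain ⟨K, evK, hKa, hK, -, hKp⟩ := Groth.Reductive.HomScheme.exists_homScheme Y Y'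
  haveI := hMa
  haveI := hKa
  obtain ⟨j, hj, -⟩ := hM K (evK ≫ y')
  haveI hjc : IsClosedImmersion j.left :=
    Groth.Reductive.HomScheme.isClosedImmersion_homScheme_map hM hK y' j hj
  obtain ⟨v, hv, -⟩ := hM G (snd Y G * (fst Y G ≫ y) * (snd Y G)⁻¹)
  let C : Over S := Over.mk (Limits.pullback.fst v.left j.left ≫ G.hom)
  let c : C ⟶ G := Over.homMk (Limits.pullback.fst v.left j.left) rfl
  have hcc : IsClosedImmersion c.left := MorphismProperty.pullback_fst _ _ hjc
  refine ⟨C, c, hcc, ?_, fun X g ↦ ?_⟩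
  · haveI := hMp hGfp
    haveI := hKp hY'fp
    haveI : LocallyOfFinitePresentation (j.left ≫ M.hom) := by rw [Over.w]; infer_instance
    haveI : LocallyOfFinitePresentation j.left := Groth.PropsBasic2.lfp_of_comp j.left M.hom
    haveI : LocallyOfFinitePresentation (Limits.pullback.fst v.left j.left) :=
      MorphismProperty.pullback_fst _ _ inferInstance
    exact inferInstanceAs (LocallyOfFinitePresentation (Limits.pullback.fst v.left j.left ≫ G.hom))
  have e1 : (Y ◁ (g ≫ v)) ≫ ev = (snd Y X ≫ g) * (fst Y X ≫ y) * (snd Y X ≫ g)⁻¹ := by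
    rw [whiskerLeft_comp, Category.assoc, hv, MonObj.comp_mul, MonObj.comp_mul, GrpObj.comp_inv,
      whiskerLeft_snd, whiskerLeft_fst_assoc]
  constructor
  · rintro ⟨z, hz⟩ X' x a
    let w : X ⟶ K := Over.homMk (z.left ≫ Limits.pullback.snd v.left j.left) (by
      have h : Limits.pullback.snd v.left j.left ≫ K.hom = C.hom := by
        show _ = Limits.pullback.fst v.left j.left ≫ G.hom
        rw [← Over.w j, ← Limits.pullback.condition_assoc, Over.w]
      rw [Category.assoc, h, Over.w])
    have hw : w ≫ j = g ≫ v := by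
      rw [← hz]
      refine Over.OverMorphism.ext ?_
      show (z.left ≫ Limits.pullback.snd v.left j.left) ≫ j.left =
        (z.left ≫ Limits.pullback.fst v.left j.left) ≫ v.left
      rw [Category.assoc, Category.assoc, Limits.pullback.condition]
    refine ⟨lift a x ≫ (Y ◁ w) ≫ evK, ?_⟩
    have h1 : (Y ◁ w) ≫ evK ≫ y' = (snd Y X ≫ g) * (fst Y X ≫ y) * (snd Y X ≫ g)⁻¹ := by
      rw [← e1, ← hw, whiskerLeft_comp, Category.assoc, hj]
    rw [Category.assoc, Category.assoc, h1, MonObj.comp_mul, MonObj.comp_mul, GrpObj.comp_inv,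
      lift_snd_assoc, lift_fst_assoc]
  · intro h
    obtain ⟨a', ha'⟩ := h _ (snd Y X) (fst Y X)
    obtain ⟨w, hw, -⟩ := hK X a'
    have hwj : w ≫ j = g ≫ v := Groth.Reductive.HomScheme.IsHomScheme.ext hM (by
      rw [e1, ha', whiskerLeft_comp, Category.assoc, hj, ← Category.assoc, hw])
    exact ⟨Over.homMk (Limits.pullback.lift g.left w.left
        (congrArg (fun z ↦ z.left) hwj).symm) (by
      show Limits.pullback.lift _ _ _ ≫ Limits.pullback.fst v.left j.left ≫ G.hom = X.hom
      rw [Limits.pullback.lift_fst_assoc, Over.w]),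
      Over.OverMorphism.ext (Limits.pullback.lift_fst _ _ _)⟩

end Groth.Agent.S16771
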