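import Groth.Statements.S16772
import Groth.Agent.Reductive.HomScheme.Apps

set_option autoImplicit false
open CategoryTheory MonoidalCategory CartesianMonoidalCategory MonObj GrpObj AlgebraicGeometry
universe u
open SGA3x

namespace Groth.Agent.S16772

/-- Let G be an affine group scheme of finite presentation over a scheme S and Y ⊆ G a closed subscheme
which is finite, flat and of finite presentation over S. Then the centralizer of Y in G (points of G
commuting with every point of Y after any base change) is representable by a closed subscheme of G. -/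
theorem result {S : Scheme.{u}} (G Y : Over S) [GrpObj G]
    (hGa : IsAffineHom G.hom) (hGfp : LocallyOfFinitePresentation G.hom)
    (y : Y ⟶ G) (hy : IsClosedImmersion y.left) (hYf : IsFinite Y.hom) (hYfl : Flat Y.hom)
    (hYfp : LocallyOfFinitePresentation Y.hom) :
    ∃ (C : Over S) (c : C ⟶ G), IsClosedImmersion c.left ∧
      ∀ (X : Over S) (g : X ⟶ G), (∃ z : X ⟶ C, z ≫ c = g) ↔
        ∀ (X' : Over S) (x : X' ⟶ X) (a : X' ⟶ Y), (x ≫ g) * (a ≫ y) = (a ≫ y) * (x ≫ g) := by
  haveI := hGa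
  haveI := hYf
  haveI := hYfl
  haveI := hYfp
  obtain ⟨M, ev, hMa, hM, -, -⟩ := Groth.Reductive.HomScheme.exists_homScheme Y G
  haveI := hMa
  obtain ⟨α, hα, -⟩ := hM G (snd Y G * (fst Y G ≫ y))
  obtain ⟨β, hβ, -⟩ := hM G ((fst Y G ≫ y) * snd Y G)
  obtain ⟨C, c, hc, -, -, huniv⟩ := Groth.Reductive.HomScheme.exists_equalizer α β
  refine ⟨C, c, hc, fun X g ↦ ?_⟩
  have e1 : (Y ◁ (g ≫ α)) ≫ ev = (snd Y X ≫ g) * (fst Y X ≫ y) := by
    rw [whiskerLeft_comp, Category.assoc, hα, MonObj.comp_mul, whiskerLeft_snd, whiskerLeft_fst_assoc]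
  have e2 : (Y ◁ (g ≫ β)) ≫ ev = (fst Y X ≫ y) * (snd Y X ≫ g) := by
    rw [whiskerLeft_comp, Category.assoc, hβ, MonObj.comp_mul, whiskerLeft_snd, whiskerLeft_fst_assoc]
  rw [huniv X g]
  constructor
  · intro h X' x a
    have h' := lift a x ≫= (e1.symm.trans ((congrArg (fun z ↦ (Y ◁ z) ≫ ev) h).trans e2))
    simpa [MonObj.comp_mul] using h'
  · intro h
    exact Groth.Reductive.HomScheme.IsHomScheme.ext hM
      (e1.trans ((h _ (snd Y X) (fst Y X)).trans e2.symm))

end Groth.Agent.S16772
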