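import Groth.Statements.S5255
import Groth.Agent.Reductive.TrivialActionFibres
import Groth.Agent.Reductive.NormalDiag
import Groth.Agent.Reductive.FreeDiagDescent
import Groth.Agent.AlgGrp1.Geom

set_option autoImplicit false
open CategoryTheory MonoidalCategory CartesianMonoidalCategory MonObj GrpObj AlgebraicGeometry
universe u
open SGA3x

namespace Groth.Agent.S5255

/-- Let K be an S-group locally of finite type over S whose fibres are connected, and i : H ⟶ K a
subgroup scheme of multiplicative type and of finite type which is normal in K. Then H is central in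
K: for every S-scheme X, every X-point of K commutes with (the image of) every X-point of H. -/
theorem result {S : Scheme.{u}} (K H : Over S) [GrpObj K] [GrpObj H]
    [LocallyOfFiniteType K.hom] (hconn : ∀ s : S, ConnectedSpace ↥(Limits.pullback K.hom (S.fromSpecResidueField s)))
    (i : H ⟶ K) [IsMonHom i] [Mono i] (hH : SGA3x.IsMultTypeFT H) (hn : AlgGrp.IsNormalHom i) :
    ∀ (X : Over S) (k : X ⟶ K) (h : X ⟶ H), k * (h ≫ i) = (h ≫ i) * k := by
  -- `H` acts on `K` by conjugation
  let act : H ⊗ K ⟶ K := (fst H K ≫ i) * snd H K * (fst H K ≫ i)⁻¹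
  have hact : ∀ (Z : Over S) (g : Z ⟶ H) (h : Z ⟶ K),
      lift g h ≫ act = (g ≫ i) * h * (g ≫ i)⁻¹ := fun Z g h ↦ by
    simp only [act, MonObj.comp_mul, GrpObj.comp_inv, lift_fst_assoc, lift_snd]
  let a : AlgGrp.Action H K :=
    { act := act
      one_act := by
        have e : η[H] ▷ K = lift (1 : 𝟙_ (Over S) ⊗ K ⟶ H) (snd _ _) := by
          apply CartesianMonoidalCategory.hom_ext
          · simp [Hom.one_def, CartesianMonoidalCategory.toUnit_unique (fst (𝟙_ (Over S)) K) (toUnit _)]
          · simp
        rw [e, hact, MonObj.one_comp]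
        simp [CartesianMonoidalCategory.leftUnitor_hom]
      mul_act := by
        have e1 : μ[H] ▷ K = lift ((fst (H ⊗ H) K ≫ fst H H) * (fst (H ⊗ H) K ≫ snd H H))
            (snd (H ⊗ H) K) := by
          apply CartesianMonoidalCategory.hom_ext
          · rw [lift_fst, ← MonObj.comp_mul, Hom.mul_def, lift_fst_snd, Category.id_comp]
            simp
          · simp
        have e2 : (α_ H H K).hom ≫ (H ◁ act) =
            lift (fst (H ⊗ H) K ≫ fst H H) (lift (fst (H ⊗ H) K ≫ snd H H) (snd (H ⊗ H) K) ≫ act) := by
          apply CartesianMonoidalCategory.hom_ext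
          · simp
          · rw [lift_snd, Category.assoc, whiskerLeft_snd, ← Category.assoc]
            congr 1
            apply CartesianMonoidalCategory.hom_ext <;> simp
        rw [e1, ← Category.assoc (α_ H H K).hom, e2, hact, hact, hact, MonObj.mul_comp]
        group }
  intro X k h
  obtain ⟨S', f, hf, hs', hqc, hloc⟩ := hH
  have hH' : TwC.Locally S TwC.Topology.fpqc (fun S' f => ∃ (M : Type) (_ : AddCommGroup M),
      Nonempty (Grp.mk (Red.bc f H) ≅ Grp.mk (Red.DS S' M))) :=
    ⟨S', f, hf, hs', hqc, fun x => by
      obtain ⟨U, hU, M, hM, -, e⟩ := hloc x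
      exact ⟨U, hU, M, hM, e⟩⟩
  have key : a.act = snd H K := Groth.Reductive.FreeDiag.action_eq_snd_of_fibres hH' a inferInstance
    fun F₀ _ p Z l hl x y => by
      show lift x y ≫ act = y
      rw [hact]
      -- an algebraically closed field over which `H` is diagonalisable
      let s := p.base (IsLocalRing.closedPoint F₀)
      obtain ⟨s', hs''⟩ := hs'.surj s
      obtain ⟨U, hU, M, hM, -, ⟨e⟩⟩ := hloc s'
      obtain ⟨z, -, hz⟩ := Scheme.Pullback.exists_preimage_pullback (IsLocalRing.closedPoint F₀)
        (⟨s', hU⟩ : (U : Scheme.{u})) (f := p) (g := U.ι ≫ f) hs''.symm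
      let L := AlgebraicClosure ((Limits.pullback p (U.ι ≫ f)).residueField z)
      let ζ : Spec (CommRingCat.of L) ⟶ Limits.pullback p (U.ι ≫ f) :=
        Spec.map (CommRingCat.ofHom (algebraMap ((Limits.pullback p (U.ι ≫ f)).residueField z) L)) ≫
          (Limits.pullback p (U.ι ≫ f)).fromSpecResidueField z
      let a₀ : Spec (CommRingCat.of L) ⟶ Spec (CommRingCat.of F₀) := ζ ≫ Limits.pullback.fst _ _
      let b : Spec (CommRingCat.of L) ⟶ U := ζ ≫ Limits.pullback.snd _ _
      let g := a₀ ≫ p
      have hg : b ≫ U.ι ≫ f = g := by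
        simp only [a₀, b, g, Category.assoc, Limits.pullback.condition]
      let e' : Red.DS (U : Scheme.{u}) M ≅ Red.bc (U.ι ≫ f) H :=
        ⟨e.inv.hom.hom, e.hom.hom.hom, congrArg (fun z => z.hom.hom) e.inv_hom_id,
          congrArg (fun z => z.hom.hom) e.hom_inv_id⟩
      haveI : IsMonHom e'.hom := inferInstanceAs (IsMonHom e.inv.hom.hom)
      have htriv := Groth.Reductive.FreeDiag.exists_trivialisation_comp H b (U.ι ≫ f) e'
      rw [hg] at htriv
      obtain ⟨ι₀, hι₀⟩ := htriv
      -- the fibre is connected
      let G := Red.bc g K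
      haveI : ConnectedSpace G.left := by
        haveI := hconn s
        let jK : Limits.pullback K.hom (S.fromSpecResidueField s) ⟶
            Spec (CommRingCat.of (S.residueField s)) := Limits.pullback.snd K.hom (S.fromSpecResidueField s)
        let σ : Spec (CommRingCat.of (S.residueField s)) ⟶
            Limits.pullback K.hom (S.fromSpecResidueField s) :=
          Limits.pullback.lift (S.fromSpecResidueField s ≫ η[K].left) (𝟙 _)
            ((Category.assoc _ _ _).trans ((congrArg _ (Over.w η[K])).trans
              ((Category.comp_id _).trans (Category.id_comp _).symm)))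
        haveI : LocallyOfFiniteType jK := MorphismProperty.pullback_snd _ _ inferInstance
        haveI : GeometricallyConnected jK :=
          Groth.AlgGrp1.geometricallyConnected_of_point jK σ (Limits.pullback.lift_snd _ _ _)
        let r : Spec (CommRingCat.of L) ⟶ Spec (S.residueField s) :=
          a₀ ≫ Spec.map (S.descResidueField (Scheme.stalkClosedPointTo p))
        have hr : r ≫ S.fromSpecResidueField s = g := by
          simp only [r, g, Category.assoc, s,
            Scheme.descResidueField_stalkClosedPointTo_fromSpecResidueField]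
        have hpb : IsPullback (Limits.pullback.fst jK r ≫
            Limits.pullback.fst K.hom (S.fromSpecResidueField s)) (Limits.pullback.snd jK r) K.hom g := by
          rw [← hr]
          exact (IsPullback.of_hasPullback jK r).paste_horiz (IsPullback.of_hasPullback _ _)
        haveI : GeometricallyConnected (Limits.pullback.snd jK r) := inferInstance
        haveI : ConnectedSpace ↥(Limits.pullback jK r) :=
          GeometricallyConnected.connectedSpace_of_subsingleton (f := Limits.pullback.snd jK r)
        exact hpb.isoPullback.hom.homeomorph.surjective.connectedSpace hpb.isoPullback.hom.continuous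
      let D := Red.DS (Spec (CommRingCat.of L)) M
      let iL : D ⟶ G := ι₀.hom ≫ (Over.pullback g).map i
      have hiL : ∀ (W : Over (Spec (CommRingCat.of L))) (d : W ⟶ D), Groth.Reductive.bcPointEquiv g K W (d ≫ iL) =
          Groth.Reductive.bcPointEquiv g H W (d ≫ ι₀.hom) ≫ i := fun W d => by
        show Groth.Reductive.FreeDiag.qPt g (d ≫ iL) = _
        rw [← Category.assoc, Groth.Reductive.FreeDiag.qPt_map]
        rfl
      obtain ⟨n', hn'⟩ := hn _ (Groth.Reductive.bcPointEquiv g K (D ⊗ G) (snd D G))
        (Groth.Reductive.bcPointEquiv g H (D ⊗ G) (fst D G ≫ ι₀.hom))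
      let φ : D ⊗ G ⟶ D := (Groth.Reductive.bcPointEquiv g H (D ⊗ G)).symm n' ≫ ι₀.inv
      have hφ : ∀ (W : Over (Spec (CommRingCat.of L))) (d : W ⟶ D) (y : W ⟶ G),
          Groth.Reductive.bcPointEquiv g H W ((lift d y ≫ φ) ≫ ι₀.hom) ≫ i =
            Groth.Reductive.bcPointEquiv g K W y *
              (Groth.Reductive.bcPointEquiv g H W (d ≫ ι₀.hom) ≫ i) *
              (Groth.Reductive.bcPointEquiv g K W y)⁻¹ := fun W d y => by
        simp only [φ, Category.assoc, Iso.inv_hom_id, Category.comp_id]
        rw [Groth.Reductive.bcPointEquiv_comp, MulEquiv.apply_symm_apply, Category.assoc, ← hn']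
        simp only [MonObj.comp_mul, GrpObj.comp_inv, ← Category.assoc ((Over.map g).map (lift d y)),
          ← Groth.Reductive.bcPointEquiv_comp, lift_snd, lift_fst_assoc]
        rw [show lift d y ≫ snd D G = y from lift_snd d y]
      have hφhom : Groth.Reductive.FreeDiag.IsHom φ := fun W d d' y => by
        rw [← cancel_mono ι₀.hom, MonObj.mul_comp]
        apply (Groth.Reductive.bcPointEquiv g H W).injective
        rw [← cancel_mono i, map_mul, MonObj.mul_comp, hφ, hφ, hφ, MonObj.mul_comp, map_mul,
          MonObj.mul_comp]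
        group
      have hφη : (D ◁ η[G]) ≫ φ = fst D _ := by
        have he : D ◁ η[G] = lift (fst D (𝟙_ (Over (Spec (CommRingCat.of L))))) (1 : D ⊗ 𝟙_ (Over (Spec (CommRingCat.of L))) ⟶ G) := by
          apply CartesianMonoidalCategory.hom_ext
          · simp
          · rw [whiskerLeft_snd, lift_snd, Hom.one_def,
              toUnit_unique (snd D (𝟙_ (Over (Spec (CommRingCat.of L))))) (toUnit _)]
        rw [he, ← cancel_mono ι₀.hom]
        apply (Groth.Reductive.bcPointEquiv g H _).injective
        rw [← cancel_mono i, hφ, map_one]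
        simp
      have hfst := Groth.Reductive.FreeDiag.eq_fst_of_connected φ hφhom η[G] hφη
      -- extend the field and conclude
      let W : Over (Spec (CommRingCat.of L)) := Over.mk (Limits.pullback.snd l a₀)
      let q : (Over.map g).obj W ⟶ Z := Over.homMk (Limits.pullback.fst l a₀) (by
        show Limits.pullback.fst l a₀ ≫ Z.hom = Limits.pullback.snd l a₀ ≫ a₀ ≫ p
        rw [← hl, ← Category.assoc, Limits.pullback.condition, Category.assoc])
      haveI : Flat a₀ := by
        obtain ⟨φa, hφa⟩ := Spec.map_surjective a₀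
        rw [← hφa, Flat.SpecMap_iff]
        letI : Algebra F₀ L := φa.hom.toAlgebra
        exact RingHom.flat_algebraMap_iff.2 inferInstance
      haveI : Surjective a₀ := ⟨fun _ => ⟨IsLocalRing.closedPoint L, Subsingleton.elim _ _⟩⟩
      haveI : Flat (Limits.pullback.fst l a₀) := MorphismProperty.pullback_fst _ _ inferInstance
      haveI : Surjective (Limits.pullback.fst l a₀) := MorphismProperty.pullback_fst _ _ inferInstance
      haveI : Epi q.left := Flat.epi_of_flat_of_surjective (Limits.pullback.fst l a₀)
      haveI : Epi q := (Over.forget S).epi_of_epi_map (inferInstanceAs (Epi q.left))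
      let xh : W ⟶ D := (Groth.Reductive.bcPointEquiv g H W).symm (q ≫ x) ≫ ι₀.inv
      let yk : W ⟶ G := (Groth.Reductive.bcPointEquiv g K W).symm (q ≫ y)
      have h1 := hφ W xh yk
      rw [hfst, lift_fst] at h1
      simp only [xh, yk, Category.assoc, Iso.inv_hom_id, Category.comp_id,
        MulEquiv.apply_symm_apply] at h1
      have h2 : q ≫ (y * (x ≫ i) * y⁻¹) = q ≫ x ≫ i := by
        simp only [MonObj.comp_mul, GrpObj.comp_inv]
        exact h1.symm
      rw [cancel_epi] at h2
      rw [mul_inv_eq_iff_eq_mul] at h2 ⊢
      exact h2.symm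
  have e : (h ≫ i) * k * (h ≫ i)⁻¹ = k := by
    rw [← hact]
    show lift h k ≫ a.act = k
    rw [key, lift_snd]
  exact (mul_inv_eq_iff_eq_mul.mp e).symm

end Groth.Agent.S5255
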