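import Groth.Statements.S16775
import Groth.Agent.Reductive.MTCrit.Ext
import Groth.Agent.S5255
-- import your own Groth.Agent.* helpers here

set_option autoImplicit false
open CategoryTheory MonoidalCategory CartesianMonoidalCategory MonObj GrpObj AlgebraicGeometry
universe u
open SGA3x

namespace Groth.Agent.S16775

/-- Let G be a smooth affine group scheme with connected fibres over a scheme S, H ⊆ G a normal subgroup
scheme of multiplicative type (of finite type), G → Q = G/H the quotient, and H' ⊆ Q a central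
subgroup scheme of multiplicative type (of finite type). Then the preimage of H' in G is a central
subgroup scheme of G of multiplicative type. -/
theorem result {S : Scheme.{u}} {G H Q H' P : Over S}
    [GrpObj G] [GrpObj H] [GrpObj Q] [GrpObj H'] [GrpObj P]
    (hG : Smooth G.hom) (hGa : IsAffineHom G.hom) (hconn : ∀ s : S, _root_.IsConnected (G.hom.base ⁻¹' {s}))
    (i : H ⟶ G) [IsMonHom i] [Mono i] (hH : SGA3x.IsMultTypeFT H) (hHn : AlgGrp.IsNormalHom i)
    (q : G ⟶ Q) [IsMonHom q] (hq : RedSub.IsQuotient i q) (hker : AlgGrp.IsKernel i q)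
    (j : H' ⟶ Q) [IsMonHom j] [Mono j] (hH' : SGA3x.IsMultTypeFT H')
    (hcenH' : ∀ (X : Over S) (x : X ⟶ H') (g : X ⟶ Q), (x ≫ j) * g = g * (x ≫ j))
    (i' : P ⟶ G) [IsMonHom i'] (p : P ⟶ H') (hP : IsPullback i' p q j) :
    SGA3x.IsMultTypeFT P ∧ ∀ (X : Over S) (x : X ⟶ P) (g : X ⟶ G), (x ≫ i') * g = g * (x ≫ i') := by
  haveI := hq.1; haveI := hq.2.1; haveI := hq.2.2.1
  haveI : IsAffineHom H.hom := (Groth.Reductive.MTInt.locTriv_of_multTypeFT hH).1
  haveI : IsAffineHom H'.hom := (Groth.Reductive.MTInt.locTriv_of_multTypeFT hH').1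
  haveI := (Groth.Reductive.flat_lfp_of_multTypeFT H hH Groth.AlgSp2.flat_descendsAlong inferInstance).2
  haveI := Groth.Reductive.CentreQuot.quasiCompact_of_isQuotient hq
  haveI := hG
  have hcenH : ∀ {X : Over S} (x : X ⟶ H) (g : X ⟶ G), (x ≫ i) * g = g * (x ≫ i) := fun x g ↦
    (Groth.Agent.S5255.result G H (fun s ↦ by
      haveI := Subtype.connectedSpace (hconn s)
      exact (G.hom.fiberHomeo s).symm.surjective.connectedSpace (G.hom.fiberHomeo s).symm.continuous)
      i hH hHn _ g x).symm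
  have hPl := hP.map (Over.forget S)
  haveI : Flat p.left := MorphismProperty.of_isPullback hPl ‹Flat q.left›
  haveI : Surjective p.left := MorphismProperty.of_isPullback hPl ‹Surjective q.left›
  haveI : QuasiCompact p.left := MorphismProperty.of_isPullback hPl ‹QuasiCompact q.left›
  haveI : LocallyOfFinitePresentation p.left := MorphismProperty.of_isPullback hPl ‹LocallyOfFinitePresentation q.left›
  have hiq : i ≫ q = 1 := by rw [Hom.one_def]; exact hker.w
  haveI : Mono i' := ⟨fun a b e ↦ hP.hom_ext e ((cancel_mono j).1 (by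
    rw [Category.assoc, Category.assoc, ← hP.w, reassoc_of% e]))⟩
  haveI : IsMonHom p := Groth.AlgGrp1.isMonHom_of_points _ fun X a b ↦ (cancel_mono j).1 (by
    rw [MonObj.mul_comp _ _ j, Category.assoc, Category.assoc, Category.assoc, ← hP.w, ← Category.assoc,
      MonObj.mul_comp _ _ i', MonObj.mul_comp _ _ q, Category.assoc, Category.assoc])
  obtain ⟨ιP, hι1, hι2⟩ := hP.exists_lift i (1 : H ⟶ H') (by rw [hiq, MonObj.one_comp])
  haveI : Mono ιP := ⟨fun a b e ↦ (cancel_mono i).1 (by rw [← hι1, reassoc_of% e])⟩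
  haveI : IsMonHom ιP := Groth.AlgGrp1.isMonHom_of_points _ fun X a b ↦ (cancel_mono i').1 (by
    rw [MonObj.mul_comp _ _ i', Category.assoc, Category.assoc, Category.assoc, hι1, MonObj.mul_comp _ _ i])
  have hkerp : AlgGrp.IsKernel ιP p := Groth.Reductive.CentreQuot.isKernel_of_points hι2 fun T x hx ↦ by
    have h1 : (x ≫ i') ≫ q = toUnit T ≫ η[Q] := by
      rw [Category.assoc, hP.w, ← Category.assoc, hx, MonObj.one_comp, Hom.one_def]
    exact ⟨hker.lift _ _ h1, (cancel_mono i').1 (by rw [Category.assoc, hι1, hker.lift_fst])⟩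
  -- commutators
  have hcw : ((snd P G) * (fst P G ≫ i') * (snd P G)⁻¹ * (fst P G ≫ i')⁻¹) ≫ q = toUnit _ ≫ η[Q] := by
    rw [MonObj.mul_comp, MonObj.mul_comp, MonObj.mul_comp, GrpObj.inv_comp, GrpObj.inv_comp,
      Category.assoc, hP.w, ← Category.assoc, ← hcenH' _ (fst P G ≫ p) (snd P G ≫ q), mul_inv_cancel_right,
      mul_inv_cancel, Hom.one_def]
  let c : P ⊗ G ⟶ H := hker.lift _ _ hcw
  have hc : ∀ {T : Over S} (x : T ⟶ P) (g : T ⟶ G), (lift x g ≫ c) ≫ i = g * (x ≫ i') * g⁻¹ * (x ≫ i')⁻¹ :=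
    fun x g ↦ by
      rw [Category.assoc, hker.lift_fst]
      simp only [MonObj.comp_mul, GrpObj.comp_inv, lift_fst_assoc, lift_snd]
  have hcp : Groth.AlgGrp1.IsCover p := ⟨‹Flat p.left›, ‹Surjective p.left›, ‹LocallyOfFinitePresentation p.left›⟩
  obtain ⟨φ, hφ⟩ := (hcp.whiskerRight G).exists_desc c fun T a b hab ↦ by
    have h1 := congrArg (· ≫ fst H' G) hab
    have h2 := congrArg (· ≫ snd H' G) hab
    simp only [Category.assoc, whiskerRight_fst, whiskerRight_snd] at h1 h2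
    rw [← lift_comp_fst_snd a, ← lift_comp_fst_snd b, ← h2, ← cancel_mono i, hc, hc]
    rw [← Category.assoc, ← Category.assoc b] at h1
    generalize a ≫ fst P G = x, b ≫ fst P G = y, a ≫ snd P G = g at h1 ⊢
    have h3 : (x⁻¹ * y) ≫ p = toUnit T ≫ η[H'] := by
      rw [MonObj.mul_comp, GrpObj.inv_comp, h1, inv_mul_cancel, Hom.one_def]
    obtain ⟨m, hm⟩ : ∃ m : T ⟶ H, m ≫ ιP = x⁻¹ * y := ⟨hkerp.lift _ _ h3, hkerp.lift_fst _ _ _⟩
    have hy : y ≫ i' = (x ≫ i') * (m ≫ i) := by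
      rw [← hι1, reassoc_of% hm, ← MonObj.mul_comp, mul_inv_cancel_left]
    rw [hy]
    have e : g * ((x ≫ i') * (m ≫ i)) * g⁻¹ = g * (x ≫ i') * g⁻¹ * (m ≫ i) := by
      calc _ = g * (x ≫ i') * ((m ≫ i) * g⁻¹) := by group
        _ = _ := by rw [hcenH, ← _root_.mul_assoc]
    rw [e]
    group
  have hpp : ∀ {T : Over S} (x : T ⟶ P) (g : T ⟶ G), lift (x ≫ p) g ≫ φ = lift x g ≫ c := fun x g ↦ by
    rw [← hφ, ← Category.assoc (lift x g), lift_whiskerRight]
  have hcentral : ∀ (X : Over S) (x : X ⟶ P) (g : X ⟶ G), (x ≫ i') * g = g * (x ≫ i') := by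
    intro X x g
    have h1 : lift x g ≫ c = 1 := by
      rw [← hpp]
      refine Groth.Reductive.Extension.family_eq_one hH' η[G] φ (fun s ↦ Or.inl (hconn s)) ?_ ?_ (x ≫ p) g
      · intro T a a' w
        obtain ⟨T₁, c₁, b, b', hc₁, hb, hb'⟩ := hcp.exists_lift₂ a a'
        apply hc₁.cancel
        rw [MonObj.comp_mul]
        simp only [← Category.assoc, comp_lift, MonObj.comp_mul]
        rw [← hb, ← hb', ← MonObj.mul_comp, hpp, hpp, hpp, ← cancel_mono i, MonObj.mul_comp, hc, hc, hc,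
          MonObj.mul_comp]
        generalize b ≫ i' = u, c₁ ≫ w = t
        obtain ⟨m, hm⟩ : ∃ m : T₁ ⟶ H, m ≫ i = t * (b' ≫ i') * t⁻¹ * (b' ≫ i')⁻¹ := ⟨_, hc b' t⟩
        have e1 : t * (u * (b' ≫ i')) * t⁻¹ * (u * (b' ≫ i'))⁻¹ = t * u * t⁻¹ * ((m ≫ i) * u⁻¹) := by
          rw [hm]; group
        rw [e1, hcenH, ← _root_.mul_assoc, hm]
      · intro T a
        obtain ⟨T₁, c₁, b, hc₁, hb⟩ := hcp.exists_lift a
        apply hc₁.cancel
        rw [← Category.assoc, comp_lift, ← hb, hpp, MonObj.comp_one, ← cancel_mono i, hc, MonObj.one_comp,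
          ← Category.assoc, toUnit_unique (c₁ ≫ toUnit T) (toUnit T₁), ← Hom.one_def]
        group
    have h2 := hc x g
    rw [h1, MonObj.one_comp] at h2
    exact (mul_inv_eq_iff_eq_mul.1 (mul_inv_eq_one.1 h2.symm)).symm
  refine ⟨?_, hcentral⟩
  exact Groth.Reductive.MTCrit.isMultTypeFT_of_ext_comm hkerp hH hH'
    fun X a b ↦ (cancel_mono i').1 (by rw [MonObj.mul_comp, MonObj.mul_comp]; exact hcentral X a _)

end Groth.Agent.S16775
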