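import Groth.Statements.S16780
import Groth.Agent.Reductive.MTCrit.Ext
-- import your own Groth.Agent.* helpers here

set_option autoImplicit false
open CategoryTheory MonoidalCategory CartesianMonoidalCategory MonObj GrpObj AlgebraicGeometry
universe u
open SGA3x

namespace Groth.Agent.S16780

/-- Let 1 → H' → H → H'' → 1 be a short exact sequence of affine, flat, finitely presented group schemes
over a scheme S with H' and H'' of multiplicative type (of finite type). If every fibre H_s is
connected or commutative, then H is of multiplicative type. -/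
theorem result {S : Scheme.{u}} (H' H H'' : Over S) [GrpObj H'] [GrpObj H] [GrpObj H'']
    (hHa : IsAffineHom H.hom) (hHfl : Flat H.hom) (hHfp : LocallyOfFinitePresentation H.hom)
    (p : H ⟶ H'') [IsMonHom p] [Surjective p.left] [Flat p.left] [QuasiCompact p.left]
    (i : H' ⟶ H) [IsMonHom i] (hker : AlgGrp.IsKernel i p)
    (hH' : SGA3x.IsMultTypeFT H') (hH'' : SGA3x.IsMultTypeFT H'')
    (hfib : ∀ s : S, _root_.IsConnected (H.hom.base ⁻¹' {s}) ∨
      ∀ (X : Over (Spec (S.residueField s))) (a b : X ⟶ Red.bc (S.fromSpecResidueField s) H), a * b = b * a) :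
    SGA3x.IsMultTypeFT H := by
  refine Groth.Reductive.MTCrit.isMultTypeFT_of_ext_comm hker hH' hH''
    (fun X x y ↦ Groth.Reductive.MTCrit.comm_of_fibrewise hker hH' hH'' (fun s ↦ ?_) X x y)
  rcases hfib s with hconn | hcomm
  · left
    have himg : H''.hom.base ⁻¹' {s} = p.left.base '' (H.hom.base ⁻¹' {s}) := by
      ext y
      constructor
      · intro hy
        obtain ⟨x, rfl⟩ := p.left.surjective y
        refine ⟨x, ?_, rfl⟩
        show H.hom x = s
        rw [← Over.w p, Scheme.Hom.comp_apply]
        exact hy
      · rintro ⟨x, hx, rfl⟩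
        show H''.hom (p.left x) = s
        rw [← Scheme.Hom.comp_apply, Over.w p]
        exact hx
    rw [himg]
    exact hconn.image _ p.left.continuous.continuousOn
  · right
    intro W w a b
    let g := S.fromSpecResidueField s
    have hw : w.left ≫ g = W.hom := Over.w w
    let ci : (Over.map g).obj (Over.mk w.left) ⟶ W := Over.homMk (𝟙 _) ((Category.id_comp _).trans hw.symm)
    let c : W ⟶ (Over.map g).obj (Over.mk w.left) := Over.homMk (𝟙 _) ((Category.id_comp _).trans hw)
    have hcci : c ≫ ci = 𝟙 W := Over.OverMorphism.ext (Category.id_comp _)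
    let E := Groth.Reductive.bcPointEquiv g H (Over.mk w.left)
    have h := congrArg (fun z ↦ c ≫ E z) (hcomm _ (E.symm (ci ≫ a)) (E.symm (ci ≫ b)))
    simpa only [map_mul, MulEquiv.apply_symm_apply, MonObj.comp_mul, ← Category.assoc, hcci,
      Category.id_comp] using h

end Groth.Agent.S16780
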