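import Groth.Statements.S1679
import Groth.Agent.Ega4Algebra2.RegularImmersion

set_option autoImplicit false
universe u
open CategoryTheory CategoryTheory.Limits AlgebraicGeometry TopologicalSpace
open SDiv

namespace Groth.Agent.S1679

/-- Equivalence of (1), (5) and (9) (the regular-sequence variants only): let X be a locally Noetherian
scheme, i : Z ⟶ X a closed immersion and z a point of Z. Then i is a regular closed immersion over
some open neighbourhood of i z if and only if the kernel of O_{X, i z} → O_{Z, z} is generated by a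
regular sequence of O_{X, i z}. -/
theorem result {X Z : Scheme.{u}} [IsLocallyNoetherian X] (i : Z ⟶ X) [IsClosedImmersion i] (z : ↥Z) :
    (∃ V : X.Opens, i z ∈ V ∧ Mor2.IsRegularClosedImmersion (i ∣_ V)) ↔
      ∃ rs : List ↑(X.presheaf.stalk (i z)), RingTheory.Sequence.IsRegular ↑(X.presheaf.stalk (i z)) rs ∧
        RingHom.ker (i.stalkMap z).hom = Ideal.ofList rs := by
  rw [Groth.Ega4b.regular_near_iff i z]
  exact ⟨fun ⟨rs, h, h'⟩ => ⟨rs, h, h'.symm⟩, fun ⟨rs, h, h'⟩ => ⟨rs, h, h'.symm⟩⟩

end Groth.Agent.S1679
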