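import Groth.Statements.S16791
import Groth.Agent.Reductive.RedRankBC
-- import your own Groth.Agent.* helpers here

set_option autoImplicit false
open CategoryTheory MonoidalCategory CartesianMonoidalCategory MonObj GrpObj AlgebraicGeometry
universe u
open Red

namespace Groth.Agent.S16791

/-- For a smooth affine group scheme G over a scheme S, a subtorus T ⊆ G and a surjective morphism S' →
S, T is a maximal torus of G (geometric fibres maximal) if and only if T_{S'} is a maximal torus of
G_{S'}. -/
theorem result {S S' : Scheme.{u}} {G T : Over S} [GrpObj G] [GrpObj T]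
    (hG : Smooth G.hom) (hGa : IsAffineHom G.hom) (i : T ⟶ G) [IsMonHom i] [Mono i] (hT : Red.IsTorus T)
    (f : S' ⟶ S) (hf : Surjective f) :
    Red.IsMaximalTorus i ↔ Red.IsMaximalTorus ((Over.pullback f).map i) := by
  haveI := hG; haveI := hGa; haveI := hf
  refine ⟨fun h => Groth.Reductive.RedRank.isMaximalTorus_bc h f, fun h => ⟨inferInstance, inferInstance, hT,
    fun s T' _ j _ _ g hT' hg => ?_⟩⟩
  obtain ⟨x, rfl⟩ := f.surjective s
  obtain ⟨ψ, hψ, -⟩ := Groth.Reductive.RedRank.exists_geomPt_hom f x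
  obtain ⟨r, hr⟩ := Groth.Reductive.RedRank.exists_rank hT (f.base x)
  haveI : IsAffineHom (Red.geomFibre (f.base x) G).hom :=
    MorphismProperty.pullback_snd (P := @IsAffineHom) _ _ inferInstance
  haveI : IsAffine (Red.geomFibre (f.base x) G).left :=
    isAffine_of_isAffineHom (Red.geomFibre (f.base x) G).hom
  haveI : Smooth (Red.geomFibre (f.base x) G).hom :=
    MorphismProperty.pullback_snd (P := @Smooth) _ _ inferInstance
  have hr' : Groth.Reductive.RedRank.SplitRank r (Red.geomFibre x (Red.bc f T)) := (hr.bc ψ).congr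
    (Groth.Reductive.RedRank.bcTwo (Red.geomPt x) f _ rfl T ≪≫
      (Groth.Reductive.RedRank.bcTwo ψ (Red.geomPt (f.base x)) _ hψ T).symm)
  obtain ⟨r₀, hr₀⟩ := Groth.Reductive.RedRank.exists_hasMax_fibre (G := G) (f.base x)
  have hx : Groth.Reductive.RedRank.HasMax r₀ (Red.geomFibre x (Red.bc f G)) := (hr₀.bc' ψ).congr
    (Groth.Reductive.RedRank.bcTwo ψ (Red.geomPt (f.base x)) _ hψ G ≪≫
      (Groth.Reductive.RedRank.bcTwo (Red.geomPt x) f _ rfl G).symm)
  haveI : IsAffineHom (Red.bc f G).hom := MorphismProperty.pullback_snd (P := @IsAffineHom) _ _ inferInstance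
  haveI : IsAffineHom (Red.geomFibre x (Red.bc f G)).hom :=
    MorphismProperty.pullback_snd (P := @IsAffineHom) (Red.bc f G).hom _ inferInstance
  haveI : IsAffine (Red.geomFibre x (Red.bc f G)).left :=
    isAffine_of_isAffineHom (Red.geomFibre x (Red.bc f G)).hom
  haveI : Smooth (Red.geomFibre x (Red.bc f G)).hom :=
    MorphismProperty.pullback_snd _ _ (MorphismProperty.pullback_snd (P := @Smooth) _ _ inferInstance)
  have hrr : r₀ = r := hx.unique (Groth.Reductive.RedRank.hasMax_of_isMaximalTorus h x hr')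
  subst hrr
  obtain ⟨T₀, _, i₀, hi₀, hri₀⟩ := hr₀
  haveI := Groth.Abvar.isMonHom_map (f := Red.geomPt (f.base x)) i
  exact (Groth.Reductive.RedRank.isMaxTorus_of_rank hi₀ hri₀ ((Over.pullback (Red.geomPt (f.base x))).map i)
    hr le_rfl).2.2.2 T' j g hT' hg
end Groth.Agent.S16791
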