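import Groth.Statements.S16794
import Groth.Agent.Misc12.Hochschild.Formula

set_option autoImplicit false
universe v u
open PCurv

namespace Groth.Agent.S16794

open TensorProduct in
/-- Let p be a prime number and B a commutative algebra of characteristic p over a commutative ring A
whose module Ω of Kähler differentials over A is free of rank one on a form ω; let θ₀ be the
A-derivation of B dual to ω (its B-linear functional Ω → B takes the value 1 on ω), and let ∇ be a
connection on a finite free B-module M. Then the p-curvature of ∇ vanishes identically — for every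
A-derivation θ of B and every derivation θ' that agrees with the p-fold iterate of θ, the
endomorphism (∇_θ)^p − ∇_{θ'} of M is zero — if and only if it vanishes for the single derivation
θ₀. -/
theorem result {A : Type v} {B M : Type u} [CommRing A] [CommRing B]
    [Algebra A B] (p : ℕ) [Fact p.Prime] [CharP B p]
    [AddCommGroup M] [Module B M] [Module A M] [IsScalarTower A B M] [Module.Finite B M] [Module.Free B M]
    (bΩ : Module.Basis (Fin 1) B (KaehlerDifferential A B)) (θ₀ : Derivation A B B)
    (hθ₀ : θ₀.liftKaehlerDifferential (bΩ 0) = 1)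
    (nabla : M →ₗ[A] M ⊗[B] KaehlerDifferential A B)
    (hc : Conn.IsConn (KaehlerDifferential.D A B) nabla) :
    (∀ θ θp : Derivation A B B, Conn.IsIterPow θ p θp → Conn.pCurv p nabla θ θp = 0) ↔
      (∀ θp : Derivation A B B, Conn.IsIterPow θ₀ p θp → Conn.pCurv p nabla θ₀ θp = 0) := by
  classical
  open Groth.Agent.Misc12.Hochschild in
  (refine ⟨fun h θp hp => h θ₀ θp hp, fun h θ θp hp => ?_⟩
   -- the base derivative
   let D : M →+ M := (Conn.alongDer nabla θ₀).toAddMonoidHom
   have hD : ∀ (c : B) (m : M), D (c • m) = c • D m + θ₀ c • m := by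
     intro c m
     show Conn.along nabla _ (c • m) = c • Conn.along nabla _ m + _
     rw [Conn.along_apply, Conn.along_apply, hc, map_add, map_add, map_smul, map_smul,
       TensorProduct.map_tmul, LinearMap.id_apply, TensorProduct.rid_tmul,
       Derivation.liftKaehlerDifferential_comp_D]
   -- every derivation is a multiple of `θ₀`
   obtain ⟨c, hlift⟩ : ∃ c : B, θ.liftKaehlerDifferential = c • θ₀.liftKaehlerDifferential :=
     ⟨θ.liftKaehlerDifferential (bΩ 0), bΩ.ext fun j => by
       obtain rfl : j = 0 := Subsingleton.elim _ _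
       rw [LinearMap.smul_apply, hθ₀, smul_eq_mul, mul_one]⟩
   have hθc : ∀ b, θ b = c * θ₀ b := fun b => by
     rw [← Derivation.liftKaehlerDifferential_comp_D θ b, hlift, LinearMap.smul_apply,
       Derivation.liftKaehlerDifferential_comp_D, smul_eq_mul]
   have halong : ∀ m, Conn.alongDer nabla θ m = c • D m := by
     intro m
     show Conn.along nabla _ m = c • Conn.along nabla _ m
     rw [Conn.along_apply, Conn.along_apply, hlift, TensorProduct.map_smul_right,
       LinearMap.smul_apply, map_smul]
   -- the iterate of `θ₀`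
   let D₀ : B →+ B := θ₀.toLinearMap.toAddMonoidHom
   have hD₀ : ∀ (a b : B), D₀ (a • b) = a • D₀ b + θ₀ a • b := fun a b => by
     show θ₀ (a * b) = a * θ₀ b + θ₀ a * b
     rw [Derivation.leibniz, smul_eq_mul, smul_eq_mul]; ring
   have hpow : ∀ x, ((θ₀.toLinearMap : Module.End A B) ^ p) x = (⇑θ₀)^[p] x := fun x => by
     rw [Module.End.coe_pow]; rfl
   let θ₀p : Derivation A B B := Derivation.mk' ((θ₀.toLinearMap : Module.End A B) ^ p) fun a b => by
     rw [hpow, hpow, hpow, smul_eq_mul, smul_eq_mul]
     exact (iterate_prime_leibniz (⇑θ₀) D₀ hD₀ p a b).trans (by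
       show a * (⇑θ₀)^[p] b + (⇑θ₀)^[p] a * b = _
       ring)
   have hθ₀p : Conn.IsIterPow θ₀ p θ₀p := hpow
   have h0 := h θ₀p hθ₀p
   -- expansion
   have hp2 := (Fact.out : p.Prime).two_le
   have hsum : ∀ {N : Type u} [AddCommGroup N] [Module B N] (f : ℕ → N),
       (∑ i ∈ Finset.range (p + 1), q (⇑θ₀) c p i • f i) =
         q (⇑θ₀) c p 1 • f 1 + q (⇑θ₀) c p p • f p := by
     intro N _ _ f
     rw [Finset.sum_range_succ, Finset.sum_eq_single_of_mem 1 (Finset.mem_range.mpr (by omega))]
     intro i hi hi1
     rw [q_mid θ₀ c i hi1 (Finset.mem_range.mp hi), zero_smul]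
   have hfun : (⇑θ : B → B) = fun x => c • D₀ x := funext hθc
   have hθp : θp.liftKaehlerDifferential = q (⇑θ₀) c p 1 • θ₀.liftKaehlerDifferential +
       q (⇑θ₀) c p p • θ₀p.liftKaehlerDifferential := by
     apply Derivation.liftKaehlerDifferential_unique
     ext b
     show θp.liftKaehlerDifferential (KaehlerDifferential.D A B b) =
       (q (⇑θ₀) c p 1 • θ₀.liftKaehlerDifferential + q (⇑θ₀) c p p • θ₀p.liftKaehlerDifferential)
         (KaehlerDifferential.D A B b)
     simp only [LinearMap.add_apply, LinearMap.smul_apply, Derivation.liftKaehlerDifferential_comp_D]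
     rw [hp b, hfun, iterate_smul_apply (⇑θ₀) D₀ hD₀ (map_zero θ₀) c p b, hsum]
     congr 2
     exact (hθ₀p b).symm
   apply LinearMap.ext
   intro m
   have e1 : (Conn.alongDer nabla θ ^ p) m = (fun x => c • D x)^[p] m := by
     rw [Module.End.coe_pow, show ⇑(Conn.alongDer nabla θ) = fun x => c • D x from funext halong]
   have e2 : Conn.alongDer nabla θp m = q (⇑θ₀) c p 1 • D m +
       q (⇑θ₀) c p p • Conn.alongDer nabla θ₀p m := by
     show Conn.along nabla _ m = _ • Conn.along nabla _ m + _ • Conn.along nabla _ m
     rw [Conn.along_apply, Conn.along_apply, Conn.along_apply, hθp, TensorProduct.map_add_right,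
       TensorProduct.map_smul_right, TensorProduct.map_smul_right, LinearMap.add_apply,
       LinearMap.smul_apply, LinearMap.smul_apply, map_add, map_smul, map_smul]
   have e3 : (⇑D)^[p] m = Conn.alongDer nabla θ₀p m := by
     have := LinearMap.congr_fun h0 m
     rw [Conn.pCurv, LinearMap.sub_apply, LinearMap.zero_apply, sub_eq_zero, Module.End.coe_pow] at this
     exact this
   rw [Conn.pCurv, LinearMap.sub_apply, LinearMap.zero_apply, e1, e2,
     iterate_smul_apply (⇑θ₀) D hD (map_zero θ₀) c p m, hsum, e3]
   exact sub_self _)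

end Groth.Agent.S16794
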