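import Groth.Statements.S16796
import Groth.Agent.Misc12.LC.Change

set_option autoImplicit false
universe v u
open LogConn

namespace Groth.Agent.S16796

open TensorProduct in
/-- Let B be a commutative algebra over a commutative ring A, λ ∈ B, and t₁, …, tₙ ∈ B elements whose
differentials dt₁, …, dtₙ form a basis of the Kähler differentials Ω of B over A; let L be a
B-module free on ω₁, …, ωₙ with a B-linear ι : Ω → L sending dtᵢ to tᵢ ωᵢ (ωᵢ playing the role of
dlog tᵢ), and E a B-module with an A-linear ∇ : E → E ⊗ L obeying the λ-twisted Leibniz rule ∇(b e)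
= b ∇e + λ e ⊗ ι(db); write ∇ᵢ for the components of ∇ in the basis ω, ∇_J for their composite over
a finite index set J in increasing order, and E_I = Σ_{J ⊆ I} (∏_{i ∈ I∖J} tᵢ) · ∇_J(E) (an
A-submodule of E) for a finite index set I. For each degree p let R^p ⊆ E ⊗ Λ^p L be the B-span of
the elements ∇_I(e) ⊗ (ω_{i₁} ∧ ⋯ ∧ ω_{i_l} ∧ ι(η₁) ∧ ⋯ ∧ ι(η_{p−l})) with I = {i₁ < ⋯ < i_l}, l ≤
p, e ∈ E, ηⱼ ∈ Ω (the degree-p part of the graded submodule generated by the ∇_I(e) ⊗ ω_I under
multiplication by forms from Ω). Then R^p is the set of elements of E ⊗ Λ^p L whose coordinate along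
ω_K = ω_{k₁} ∧ ⋯ ∧ ω_{k_p} lies in E_K for every set K of p indices; in other words R^p = ⊕_{|K| =
p} E_K ⊗ ω_K. (Flatness of ∇ is not used.) -/
theorem result {A : Type v} {B L E : Type u} [CommRing A] [CommRing B]
    [Algebra A B] [AddCommGroup L] [Module B L] [Module A L] [IsScalarTower A B L]
    [AddCommGroup E] [Module B E] [Module A E] [IsScalarTower A B E]
    (lam : B) {n : ℕ} (t : Fin n → B) (bΩ : Module.Basis (Fin n) B (KaehlerDifferential A B))
    (hbΩ : ∀ i, bΩ i = KaehlerDifferential.D A B (t i))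
    (ω : Module.Basis (Fin n) B L) (ι : KaehlerDifferential A B →ₗ[B] L)
    (hι : ∀ i, ι (KaehlerDifferential.D A B (t i)) = t i • ω i)
    (nabla : E →ₗ[A] E ⊗[B] L)
    (hc : Conn.IsLamConn (ι.compDer (KaehlerDifferential.D A B)) lam nabla)
    (p : ℕ) :
    (Submodule.span B (LogConn.gens nabla ω ι p)).restrictScalars A = LogConn.layer nabla ω t p := by
  exact Groth.Agent.Misc12.LC.span_gens_eq_layer
    (Groth.Agent.Misc12.LC.isCoord_of lam t bΩ hbΩ ω ι hι nabla hc) bΩ ι
    (fun i => by rw [hbΩ, hι]) p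

end Groth.Agent.S16796
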