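import Groth.Statements.S16797
import Groth.Agent.Misc12.LC.Change

set_option autoImplicit false
universe v u
open LogConn

namespace Groth.Agent.S16797

open TensorProduct in
/-- Let B be a commutative algebra over a commutative ring A, λ ∈ B, and t₁, …, tₙ ∈ B elements whose
differentials dt₁, …, dtₙ form a basis of the Kähler differentials Ω of B over A; let L be a
B-module free on ω₁, …, ωₙ with a B-linear ι : Ω → L sending dtᵢ to tᵢ ωᵢ (ωᵢ playing the role of
dlog tᵢ), and E a B-module with an A-linear ∇ : E → E ⊗ L obeying the λ-twisted Leibniz rule ∇(b e)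
= b ∇e + λ e ⊗ ι(db); write ∇ᵢ for the components of ∇ in the basis ω, ∇_J for their composite over
a finite index set J in increasing order, and E_I = Σ_{J ⊆ I} (∏_{i ∈ I∖J} tᵢ) · ∇_J(E) (an
A-submodule of E) for a finite index set I. Let d be the logarithmic de Rham differential on the
exterior powers of L — the A-linear family pinned on generators by d(b₀ · e₁ ∧ ⋯ ∧ e_p) = ι(db₀) ∧
e₁ ∧ ⋯ ∧ e_p for factors eⱼ of the form ι(db) or ωᵢ — and let ∇^p : E ⊗ Λ^p L → E ⊗ Λ^{p+1} L be the
λ-twisted extension of ∇, ∇^p(e ⊗ η) = ∇(e) ∧ η + e ⊗ λ dη, with ∇ flat in the sense that ∇¹ ∘ ∇ =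
0. Then for every p, ∇^p maps the layer ⊕_{|K| = p} E_K ⊗ ω_K (elements all of whose ω_K-coordinates
lie in E_K) into the layer ⊕_{|K| = p+1} E_K ⊗ ω_K. -/
theorem result {A : Type v} {B L E : Type u} [CommRing A] [CommRing B]
    [Algebra A B] [AddCommGroup L] [Module B L] [Module A L] [IsScalarTower A B L]
    [AddCommGroup E] [Module B E] [Module A E] [IsScalarTower A B E]
    (lam : B) {n : ℕ} (t : Fin n → B) (bΩ : Module.Basis (Fin n) B (KaehlerDifferential A B))
    (hbΩ : ∀ i, bΩ i = KaehlerDifferential.D A B (t i))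
    (ω : Module.Basis (Fin n) B L) (ι : KaehlerDifferential A B →ₗ[B] L)
    (hι : ∀ i, ι (KaehlerDifferential.D A B (t i)) = t i • ω i)
    (nabla : E →ₗ[A] E ⊗[B] L)
    (hc : Conn.IsLamConn (ι.compDer (KaehlerDifferential.D A B)) lam nabla)
    (d : ∀ p : ℕ, ↥(⋀[B]^p L) →ₗ[A] ↥(⋀[B]^(p + 1) L))
    (hd : LogDiff.IsLogRule (KaehlerDifferential.D A B) ι (⇑ω) d)
    (nablas : ∀ p : ℕ, E ⊗[B] ↥(⋀[B]^p L) →ₗ[A] E ⊗[B] ↥(⋀[B]^(p + 1) L))
    (hint : Conn.IsIntegrable nabla (fun p => lam • d p) nablas)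
    (p : ℕ) (x : E ⊗[B] ↥(⋀[B]^p L)) (hx : x ∈ LogConn.layer nabla ω t p) :
    nablas p x ∈ LogConn.layer nabla ω t (p + 1) := by
  classical
  open Groth.Agent.Misc12.LC in
  (have h := isCoord_of lam t bΩ hbΩ ω ι hι nabla hc
   have hcomm := comp_comm hd hint
   rw [mem_layer] at hx
   rw [sum_coordE (ω := ω) p x, map_sum]
   refine Submodule.sum_mem _ fun K _ => ?_
   rw [basis_eq, nablas_tmul hd hint.1]
   refine Submodule.sum_mem _ fun i _ => ?_
   by_cases hi : i ∈ (K : Finset (Fin n))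
   · have hmem : i ∈ Set.range ((K : Finset (Fin n)).orderEmbOfFin K.prop) := by
       rw [Finset.range_orderEmbOfFin]; exact hi
     obtain ⟨a, ha⟩ := hmem
     rw [AlternatingMap.map_eq_zero_of_eq (exteriorPower.ιMulti B (p + 1)) _ (i := 0) (j := a.succ)
       (by rw [Fin.cons_zero, Fin.cons_succ, ha]) (Fin.succ_ne_zero a).symm, TensorProduct.tmul_zero]
     exact Submodule.zero_mem _
   · refine tmul_mem_layer h (comp_mem_piece_insert hcomm h hi (hx K)) (fun a => ?_) (fun j hj => ?_)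
     · refine Or.inl ?_
       refine Fin.cases ⟨i, Finset.mem_insert_self _ _, Fin.cons_zero _ _⟩ (fun b => ?_) a
       exact ⟨_, Finset.mem_insert_of_mem (Finset.orderEmbOfFin_mem _ K.prop b), Fin.cons_succ _ _ _⟩
     · rcases Finset.mem_insert.mp hj with rfl | hj
       · exact ⟨0, Fin.cons_zero _ _⟩
       · have hmem : j ∈ Set.range ((K : Finset (Fin n)).orderEmbOfFin K.prop) := by
           rw [Finset.range_orderEmbOfFin]; exact hj
         obtain ⟨a, ha⟩ := hmem
         exact ⟨a.succ, by rw [Fin.cons_succ, ha]⟩)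

end Groth.Agent.S16797
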