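import Groth.Statements.S16804
import Groth.Agent.ResGerbe.Mono
-- import your own Groth.Agent.* helpers here

set_option autoImplicit false
universe u
open CategoryTheory AlgebraicGeometry
open Gerb

namespace Groth.Agent.S16804

/-- If an algebraic stack 𝒵 admits a surjective flat morphism from the spectrum of a field, then every
morphism from the spectrum of a field to 𝒵 is surjective and flat (surjective and flat in the sense
of morphisms representable by algebraic spaces, i.e. after every base change to a scheme). -/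
theorem result
    (S : Scheme.{u}) (𝒵 : AlgSt.Cat S) (h𝒵 : AlgSt.IsAlgStack Scheme.fppfPrecoverage 𝒵)
    (k : Type u) [Field k] (a : Spec (CommRingCat.of k) ⟶ S)
    (z : FibCat.overCat (Over.mk a) ⥤ᵇ 𝒵)
    (hzs : AlgSt.RepByAlgSpWith AlgSp.IsSurjectiveMor z) (hzf : AlgSt.RepByAlgSpWith (AlgSp.LocP @Flat) z)
    (k' : Type u) [Field k'] (a' : Spec (CommRingCat.of k') ⟶ S)
    (z' : FibCat.overCat (Over.mk a') ⥤ᵇ 𝒵) :
    AlgSt.RepByAlgSpWith AlgSp.IsSurjectiveMor z' ∧ AlgSt.RepByAlgSpWith (AlgSp.LocP @Flat) z' := by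
  exact Groth.ResGerbe.flat_surjective_of_flatPoint h𝒵 hzs hzf z'

end Groth.Agent.S16804
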