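import Groth.Statements.S16807
import Groth.Agent.ResGerbe.Mono
-- import your own Groth.Agent.* helpers here

set_option autoImplicit false
universe u
open CategoryTheory AlgebraicGeometry
open Gerb

namespace Groth.Agent.S16807

/-- Let 𝒵' → 𝒵 be a monomorphism of algebraic stacks and suppose 𝒵 receives a locally finitely
presented, surjective, flat morphism from the spectrum of a field. Then either 𝒵' is empty (has no
points) or 𝒵' → 𝒵 is an equivalence. -/
theorem result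
    (S : Scheme.{u}) (𝒵' 𝒵 : AlgSt.Cat S) (h𝒵' : AlgSt.IsAlgStack Scheme.fppfPrecoverage 𝒵')
    (h𝒵 : AlgSt.IsAlgStack Scheme.fppfPrecoverage 𝒵) (f : 𝒵' ⥤ᵇ 𝒵) (hf : AlgSt.IsMono f)
    (k : Type u) [Field k] (a : Spec (CommRingCat.of k) ⟶ S)
    (z : FibCat.overCat (Over.mk a) ⥤ᵇ 𝒵)
    (hzp : AlgSt.RepByAlgSpWith (AlgSp.LocP @LocallyOfFinitePresentation) z)
    (hzs : AlgSt.RepByAlgSpWith AlgSp.IsSurjectiveMor z) (hzf : AlgSt.RepByAlgSpWith (AlgSp.LocP @Flat) z) :
    IsEmpty (AlgSt.Points 𝒵') ∨ FibCat.IsEquivOver f := by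
  exact Groth.ResGerbe.isEmpty_or_isEquivOver_of_isMono h𝒵' h𝒵 hf hzp hzs hzf

end Groth.Agent.S16807
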