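import Groth.Statements.S16808
import Groth.Agent.ResGerbe.PointImage
-- import your own Groth.Agent.* helpers here

set_option autoImplicit false
universe u
open CategoryTheory AlgebraicGeometry
open Gerb

namespace Groth.Agent.S16808

/-- Let the algebraic stack 𝒵 receive a surjective flat morphism from the spectrum of a field. Then
there is a unique strictly full subcategory of 𝒵 which is an algebraic stack receiving a locally
finitely presented, surjective, flat morphism from the spectrum of a field; its inclusion into 𝒵 is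
a monomorphism. -/
theorem result
    (S : Scheme.{u}) (𝒵 : AlgSt.Cat S) (h𝒵 : AlgSt.IsAlgStack Scheme.fppfPrecoverage 𝒵)
    (k : Type u) [Field k] (a : Spec (CommRingCat.of k) ⟶ S)
    (z : FibCat.overCat (Over.mk a) ⥤ᵇ 𝒵)
    (hzs : AlgSt.RepByAlgSpWith AlgSp.IsSurjectiveMor z) (hzf : AlgSt.RepByAlgSpWith (AlgSp.LocP @Flat) z) :
    ∃ Q : 𝒵.obj → Prop,
      (ObjectProperty.IsClosedUnderIsomorphisms Q ∧ AlgSt.IsAlgStack Scheme.fppfPrecoverage (AlgSt.fullSub 𝒵 Q) ∧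
        (∃ (k' : Type u) (_ : Field k') (a' : Spec (CommRingCat.of k') ⟶ S)
          (z' : FibCat.overCat (Over.mk a') ⥤ᵇ AlgSt.fullSub 𝒵 Q),
          AlgSt.RepByAlgSpWith (AlgSp.LocP @LocallyOfFinitePresentation) z' ∧
            AlgSt.RepByAlgSpWith AlgSp.IsSurjectiveMor z' ∧ AlgSt.RepByAlgSpWith (AlgSp.LocP @Flat) z') ∧
        AlgSt.IsMono (AlgSt.subIncl 𝒵 Q)) ∧
      ∀ Q' : 𝒵.obj → Prop, ObjectProperty.IsClosedUnderIsomorphisms Q' → AlgSt.IsAlgStack Scheme.fppfPrecoverage (AlgSt.fullSub 𝒵 Q') →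
        (∃ (k' : Type u) (_ : Field k') (a' : Spec (CommRingCat.of k') ⟶ S)
          (z' : FibCat.overCat (Over.mk a') ⥤ᵇ AlgSt.fullSub 𝒵 Q'),
          AlgSt.RepByAlgSpWith (AlgSp.LocP @LocallyOfFinitePresentation) z' ∧
            AlgSt.RepByAlgSpWith AlgSp.IsSurjectiveMor z' ∧ AlgSt.RepByAlgSpWith (AlgSp.LocP @Flat) z') →
        ∀ ξ : 𝒵.obj, Q' ξ ↔ Q ξ := by
  obtain ⟨hne, hsub⟩ := Groth.ResGerbe.points_of_surjective h𝒵 hzs
  obtain ⟨k₀, _, a₀, z₀, hl, -, hs, hf⟩ :=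
    Groth.ResGerbe.exists_lft_flatPoint h𝒵 (Groth.ResGerbe.smoothLocally_isReduced h𝒵 hzs hzf)
  have hK := Groth.AlgStBasic.isAlgStack_overCat (Over.mk a₀)
  have hlft := Groth.AlgStBasic.locQ_of_repWith Groth.AlgStBasic.stableBaseChange_locP
    Groth.AlgStBasic.descendsAlongAtlas_locP Groth.AlgStBasic.isSmoothLocalST_lft
    (Groth.AlgStBasic.isAlgStack_fp h𝒵.isStack h𝒵.diag hK hK z₀ z₀) hK
    (Groth.AlgStBasic.repWith_fpFst z₀ z₀ hl)
  obtain ⟨hA, hm⟩ := Groth.ResGerbe.isAlgStack_imQ z₀ h𝒵 hlft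
  have hp := Groth.ResGerbe.imLift_props z₀ h𝒵 hlft
  have hc := Groth.ResGerbe.isClosedUnderIso_imQ z₀ h𝒵.isStack.1
  refine ⟨Groth.ResGerbe.imQ z₀, ⟨hc, hA, ⟨k₀, inferInstance, a₀, Groth.ResGerbe.imLift z₀, hp⟩, hm⟩, ?_⟩
  rintro Q' hc' hA' ⟨k', _, a', z', hp'⟩ ξ
  have q₀ : AlgSt.Points (AlgSt.fullSub 𝒵 (Groth.ResGerbe.imQ z₀)) :=
    (Groth.ResGerbe.points_of_surjective hA hp.2.1).1.some
  have q' : AlgSt.Points (AlgSt.fullSub 𝒵 Q') := (Groth.ResGerbe.points_of_surjective hA' hp'.2.1).1.some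
  exact ⟨Groth.ResGerbe.le_of_fieldPt h𝒵 hA' hA hc hp' q' q₀ (Subsingleton.elim _ _) ξ,
    Groth.ResGerbe.le_of_fieldPt h𝒵 hA hA' hc' hp q₀ q' (Subsingleton.elim _ _) ξ⟩

end Groth.Agent.S16808
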