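import Groth.Statements.S16809
import Groth.Agent.StkRed.Closed
-- import your own Groth.Agent.* helpers here

set_option autoImplicit false
universe u
open CategoryTheory AlgebraicGeometry
open Gerb

namespace Groth.Agent.S16809

/-- (1)⇔(2)⇔(3): for a point x of an algebraic stack 𝒳 the following are equivalent: some algebraic
stack with exactly one point maps monomorphically to 𝒳 onto x; some reduced algebraic stack with
exactly one point does; some algebraic stack 𝒵 with a monomorphism f : 𝒵 → 𝒳 receives a surjective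
flat morphism z from the spectrum of a field with f(z) = x. -/
theorem result
    (S : Scheme.{u}) (𝒳 : AlgSt.Cat S) (h𝒳 : AlgSt.IsAlgStack Scheme.fppfPrecoverage 𝒳) (x : AlgSt.Points 𝒳) :
    [Gerb.ResGerbeExists Scheme.fppfPrecoverage 𝒳 x,
      ∃ (𝒵 : AlgSt.Cat S) (f : 𝒵 ⥤ᵇ 𝒳), AlgSt.IsAlgStack Scheme.fppfPrecoverage 𝒵 ∧
        AlgSt.SmoothLocally (fun T => IsReduced T) 𝒵 ∧ AlgSt.IsMono f ∧
        Nonempty (AlgSt.Points 𝒵) ∧ Subsingleton (AlgSt.Points 𝒵) ∧ ∀ p, AlgSt.Points.map f p = x,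
      ∃ (𝒵 : AlgSt.Cat S) (f : 𝒵 ⥤ᵇ 𝒳) (k : Type u) (_ : Field k) (a : Spec (CommRingCat.of k) ⟶ S)
        (z : FibCat.overCat (Over.mk a) ⥤ᵇ 𝒵), AlgSt.IsAlgStack Scheme.fppfPrecoverage 𝒵 ∧ AlgSt.IsMono f ∧
        AlgSt.RepByAlgSpWith AlgSp.IsSurjectiveMor z ∧ AlgSt.RepByAlgSpWith (AlgSp.LocP @Flat) z ∧
        ∀ t : ↥(Over.mk a).left, AlgSt.Points.map f (AlgSt.Points.ofChart z t) = x].TFAE := by
  tfae_have 1 → 2 := by
    rintro ⟨𝒵, i, hZ, hi, hne, hsub, hx⟩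
    obtain ⟨Q, ⟨hQi, hQa, hQc⟩, hr, hred⟩ :=
      Groth.StkRed.exists_reduced_closedSubstack hZ Set.univ isClosed_univ
    let j := AlgSt.subIncl 𝒵 Q
    have hj : AlgSt.IsMono j := Groth.ResGerbe.isMono_subIncl hZ hQa
    obtain ⟨z⟩ := hne
    refine ⟨_, BasedFunctor.comp j i, hQa, hred, ?_, ?_, ?_, ?_⟩
    · exact Groth.AlgStBasic.isMono_comp hQa.isStack.1 hZ.isStack.1 hj hi
    · obtain ⟨q, -⟩ : z ∈ Set.range (AlgSt.Points.map j) := by rw [hr]; trivial
      exact ⟨q⟩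
    · refine ⟨fun p q => ?_⟩
      obtain ⟨p, rfl⟩ := AlgSt.Points.mk_surjective p
      obtain ⟨q, rfl⟩ := AlgSt.Points.mk_surjective q
      have h := Subsingleton.elim (AlgSt.Points.map j (AlgSt.Points.mk p)) (AlgSt.Points.map j (AlgSt.Points.mk q))
      have : j.toFunctor.Full := inferInstanceAs (ObjectProperty.ι Q).Full
      have : j.toFunctor.Faithful := inferInstanceAs (ObjectProperty.ι Q).Faithful
      exact Groth.AlgStBasic.injective_map_of_full_faithful hQa.isStack.1 hZ.isStack.1 j h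
    · intro p
      exact (Groth.AlgStBasic.map_comp j i p).trans (hx _)
  tfae_have 2 → 3 := by
    rintro ⟨𝒵, f, hZ, hred, hf, hne, hsub, hx⟩
    obtain ⟨k, hk, a, z, hzs, hzf⟩ := Groth.ResGerbe.exists_flatPoint_of_reduced hZ hred
    exact ⟨𝒵, f, k, hk, a, z, hZ, hf, hzs, hzf, fun t => hx _⟩
  tfae_have 3 → 1 := by
    rintro ⟨𝒵, f, k, hk, a, z, hZ, hf, hzs, hzf, hx⟩
    obtain ⟨hne, hsub⟩ := Groth.ResGerbe.points_of_surjective hZ hzs
    exact ⟨𝒵, f, hZ, hf, hne, hsub, fun p => by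
      rw [Subsingleton.elim p (AlgSt.Points.ofChart z (IsLocalRing.closedPoint k))]; exact hx _⟩
  tfae_finish

end Groth.Agent.S16809
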