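import Groth.Statements.S16810
import Groth.Agent.ResGerbe.PointImage
import Groth.Agent.S16806
-- import your own Groth.Agent.* helpers here

set_option autoImplicit false
universe u
open CategoryTheory AlgebraicGeometry
open Gerb

namespace Groth.Agent.S16810

/-- If some reduced algebraic stack with exactly one point admits a monomorphism to the algebraic stack
𝒳 with image the point x, then there is a unique strictly full subcategory of 𝒳 which is a reduced,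
locally Noetherian algebraic stack with exactly one point mapping to x. -/
theorem result
    (S : Scheme.{u}) (𝒳 : AlgSt.Cat S) (h𝒳 : AlgSt.IsAlgStack Scheme.fppfPrecoverage 𝒳) (x : AlgSt.Points 𝒳)
    (𝒵 : AlgSt.Cat S) (h𝒵 : AlgSt.IsAlgStack Scheme.fppfPrecoverage 𝒵)
    (hred : AlgSt.SmoothLocally (fun T => IsReduced T) 𝒵)
    (hne : Nonempty (AlgSt.Points 𝒵)) (hsub : Subsingleton (AlgSt.Points 𝒵))
    (f : 𝒵 ⥤ᵇ 𝒳) (hf : AlgSt.IsMono f) (hfx : ∀ p : AlgSt.Points 𝒵, AlgSt.Points.map f p = x) :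
    ∃ Q : 𝒳.obj → Prop, Gerb.IsResGerbe Scheme.fppfPrecoverage 𝒳 x Q ∧
      ∀ Q' : 𝒳.obj → Prop, Gerb.IsResGerbe Scheme.fppfPrecoverage 𝒳 x Q' → ∀ ξ : 𝒳.obj, Q' ξ ↔ Q ξ := by
  obtain ⟨k₀, _, a₀, z₀, hl, -, hs, hfl⟩ := Groth.ResGerbe.exists_lft_flatPoint h𝒵 hred
  have hK := Groth.AlgStBasic.isAlgStack_overCat (Over.mk a₀)
  have hlft := Groth.AlgStBasic.locQ_of_repWith Groth.AlgStBasic.stableBaseChange_locP
    Groth.AlgStBasic.descendsAlongAtlas_locP Groth.AlgStBasic.isSmoothLocalST_lft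
    (Groth.AlgStBasic.isAlgStack_fp h𝒵.isStack h𝒵.diag hK hK z₀ z₀) hK
    (Groth.AlgStBasic.repWith_fpFst z₀ z₀ hl)
  obtain ⟨hA, hm⟩ := Groth.ResGerbe.isAlgStack_imQ z₀ h𝒵 hlft
  obtain ⟨hp₁, hp₂, hp₃⟩ := Groth.ResGerbe.imLift_props z₀ h𝒵 hlft
  obtain ⟨hne₀, hsub₀⟩ := Groth.ResGerbe.points_of_surjective hA hp₂
  obtain ⟨hfull, hff⟩ := Groth.AlgStBasic.fullyFaithful_of_isMono h𝒵.isStack.1 h𝒳.isStack.1 f hf
  let i := AlgSt.subIncl 𝒵 (Groth.ResGerbe.imQ z₀)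
  have : i.toFunctor.Full := inferInstanceAs (ObjectProperty.ι _).Full
  have : i.toFunctor.Faithful := inferInstanceAs (ObjectProperty.ι _).Faithful
  have : (BasedFunctor.comp i f).toFunctor.Full := inferInstanceAs (i.toFunctor ⋙ f.toFunctor).Full
  have : (BasedFunctor.comp i f).toFunctor.Faithful :=
    inferInstanceAs (i.toFunctor ⋙ f.toFunctor).Faithful
  obtain ⟨Q, hQ, -⟩ := Groth.ResGerbe.exists_isResGerbe h𝒳 x hA
    (Groth.ResGerbe.smoothLocally_isReduced hA hp₂ hp₃)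
    (Groth.ResGerbe.smoothLocally_isLocallyNoetherian hA hp₂ hp₃ hp₁) hne₀ hsub₀
    (BasedFunctor.comp i f) (Groth.AlgStBasic.isMono_of_fullyFaithful hA h𝒳 _)
    (fun p => (Groth.AlgStBasic.map_comp i f p).trans (hfx _))
  refine ⟨Q, hQ, fun Q' hQ' ξ => ?_⟩
  obtain ⟨hc, hQa, hr, hn, hQne, hQs, hQx⟩ := hQ
  obtain ⟨hc', hQa', hr', hn', hQne', hQs', hQx'⟩ := hQ'
  obtain ⟨k₁, _, a₁, p, hp⟩ := (Groth.Agent.S16806.result S _ hQa).1 ⟨hr, hn, hQne, hQs⟩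
  obtain ⟨k₂, _, a₂, p', hp'⟩ := (Groth.Agent.S16806.result S _ hQa').1 ⟨hr', hn', hQne', hQs'⟩
  exact ⟨Groth.ResGerbe.le_of_fieldPt h𝒳 hQa' hQa hc hp' hQne'.some hQne.some
      ((hQx _).trans (hQx' _).symm) ξ,
    Groth.ResGerbe.le_of_fieldPt h𝒳 hQa hQa' hc' hp hQne.some hQne'.some
      ((hQx' _).trans (hQx _).symm) ξ⟩

end Groth.Agent.S16810
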