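import Groth.Statements.S16812
import Groth.Agent.ResGerbe.Mono
-- import your own Groth.Agent.* helpers here

set_option autoImplicit false
universe u
open CategoryTheory AlgebraicGeometry
open Gerb

namespace Groth.Agent.S16812

/-- Let 𝒵 be a reduced, locally Noetherian algebraic stack with exactly one point and f : 𝒵 → 𝒳 a
monomorphism to an algebraic stack sending that point to x. Then the residual gerbe 𝒵_x ⊂ 𝒳 at x
exists (a strictly full subcategory which is a reduced, locally Noetherian algebraic stack with one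
point over x) and f factors through it by an equivalence 𝒵 → 𝒵_x. -/
theorem result
    (S : Scheme.{u}) (𝒳 : AlgSt.Cat S) (h𝒳 : AlgSt.IsAlgStack Scheme.fppfPrecoverage 𝒳) (x : AlgSt.Points 𝒳)
    (𝒵 : AlgSt.Cat S) (h𝒵 : AlgSt.IsAlgStack Scheme.fppfPrecoverage 𝒵)
    (hred : AlgSt.SmoothLocally (fun T => IsReduced T) 𝒵)
    (hnoeth : AlgSt.SmoothLocally (fun T => IsLocallyNoetherian T) 𝒵)
    (hne : Nonempty (AlgSt.Points 𝒵)) (hsub : Subsingleton (AlgSt.Points 𝒵))
    (f : 𝒵 ⥤ᵇ 𝒳) (hf : AlgSt.IsMono f) (hfx : ∀ p : AlgSt.Points 𝒵, AlgSt.Points.map f p = x) :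
    ∃ Q : 𝒳.obj → Prop, Gerb.IsResGerbe Scheme.fppfPrecoverage 𝒳 x Q ∧
      ∃ e : 𝒵 ⥤ᵇ AlgSt.fullSub 𝒳 Q, FibCat.IsEquivOver e ∧
        Nonempty (BasedFunctor.comp e (AlgSt.subIncl 𝒳 Q) ≅ f) := by
  exact Groth.ResGerbe.exists_isResGerbe h𝒳 x h𝒵 hred hnoeth hne hsub f hf hfx

end Groth.Agent.S16812
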