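import Groth.Statements.S16813
import Groth.Agent.ResGerbe.Mono
-- import your own Groth.Agent.* helpers here

set_option autoImplicit false
universe u
open CategoryTheory AlgebraicGeometry
open Gerb

namespace Groth.Agent.S16813

/-- If the residual gerbe 𝒵_x of the algebraic stack 𝒳 at the point x exists, then every morphism from
the spectrum of a field to 𝒳 in the class of x factors through the inclusion 𝒵_x → 𝒳. -/
theorem result
    (S : Scheme.{u}) (𝒳 : AlgSt.Cat S) (h𝒳 : AlgSt.IsAlgStack Scheme.fppfPrecoverage 𝒳) (x : AlgSt.Points 𝒳)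
    (Q : 𝒳.obj → Prop) (hQ : Gerb.IsResGerbe Scheme.fppfPrecoverage 𝒳 x Q)
    (K : Type u) [Field K] (a : Spec (CommRingCat.of K) ⟶ S)
    (p : FibCat.overCat (Over.mk a) ⥤ᵇ 𝒳)
    (hp : ∀ t : ↥(Over.mk a).left, AlgSt.Points.ofChart p t = x) :
    ∃ q : FibCat.overCat (Over.mk a) ⥤ᵇ AlgSt.fullSub 𝒳 Q,
      Nonempty (BasedFunctor.comp q (AlgSt.subIncl 𝒳 Q) ≅ p) := by
  exact Groth.ResGerbe.exists_factor_resGerbe h𝒳 x hQ p hp

end Groth.Agent.S16813
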