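import Groth.Statements.S16814
import Groth.Agent.ResGerbe.Mono
-- import your own Groth.Agent.* helpers here

set_option autoImplicit false
universe u
open CategoryTheory AlgebraicGeometry
open Gerb

namespace Groth.Agent.S16814

/-- Let f : 𝒳 → 𝒴 be a morphism of algebraic stacks and x a point of 𝒳 with image y. If the residual
gerbes 𝒵_x ⊂ 𝒳 and 𝒵_y ⊂ 𝒴 exist, then f induces a morphism 𝒵_x → 𝒵_y making the square with the
inclusions commute up to 2-isomorphism. -/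
theorem result
    (S : Scheme.{u}) (𝒳 𝒴 : AlgSt.Cat S) (h𝒳 : AlgSt.IsAlgStack Scheme.fppfPrecoverage 𝒳) (h𝒴 : AlgSt.IsAlgStack Scheme.fppfPrecoverage 𝒴)
    (f : 𝒳 ⥤ᵇ 𝒴) (x : AlgSt.Points 𝒳)
    (Q : 𝒳.obj → Prop) (hQ : Gerb.IsResGerbe Scheme.fppfPrecoverage 𝒳 x Q)
    (Q' : 𝒴.obj → Prop) (hQ' : Gerb.IsResGerbe Scheme.fppfPrecoverage 𝒴 (AlgSt.Points.map f x) Q') :
    ∃ g : AlgSt.fullSub 𝒳 Q ⥤ᵇ AlgSt.fullSub 𝒴 Q',
      Nonempty (BasedFunctor.comp g (AlgSt.subIncl 𝒴 Q') ≅ BasedFunctor.comp (AlgSt.subIncl 𝒳 Q) f) := by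
  exact Groth.ResGerbe.exists_map_resGerbe h𝒳 h𝒴 f x hQ hQ'

end Groth.Agent.S16814
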