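import Groth.Statements.S16818
import Groth.Agent.GitQuot.KeelMori.DMCoarse
-- import your own Groth.Agent.* helpers here

set_option autoImplicit false
universe u
open AlgSt

namespace Groth.Agent.S16818

open CategoryTheory AlgebraicGeometry in
/-- Let S be an affine Noetherian scheme and 𝒳 a Deligne–Mumford stack over (Sch/S) for the etale
topology which is separated over S (diagonal over S representable by algebraic spaces and proper),
locally of finite type over S and quasi-compact. Then there are an algebraic space M over S and a
functor π : 𝒳 → M over (Sch/S) such that: π is a coarse moduli space (every functor from 𝒳 to an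
algebraic space factors uniquely through π, and π is bijective on isomorphism classes of objects
over every algebraically closed field); M is separated and of finite type over S; π is separated,
locally of finite type and a universal homeomorphism; and for every flat morphism of algebraic
spaces M' → M the first projection 𝒳 ×_M M' → M' is again a coarse moduli space. The source states
the result over a Noetherian algebraic space as base and adds that the structure sheaf of M is the
direct image of that of 𝒳; the base is taken affine here, the case the text proves completely, and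
the direct-image clause is not stated. -/
theorem result (S : Scheme.{u}) [IsAffine S]
    [IsNoetherian S] (𝒳 : AlgSt.Cat S) (h𝒳 : AlgSt.IsDM Scheme.etalePrecoverage 𝒳)
    (hsep : AlgSt.IsSeparatedOver 𝒳)
    (hft : AlgSt.LocQ (AlgSp.LocP @LocallyOfFiniteType) (FibCat.toSelf 𝒳))
    (hqc : AlgSt.IsQuasiCompact 𝒳) :
    ∃ (M : AlgSp.Sp S) (π : 𝒳 ⥤ᵇ AlgSt.ofSp M), AlgSt.IsCoarseModuli π ∧
      AlgSp.IsSeparatedSp M ∧
      (∀ q : M ⟶ (AlgSp.yon S).obj (Over.mk (𝟙 S)), AlgSp.IsFiniteTypeMor q) ∧
      AlgSt.IsSeparatedMor π ∧ AlgSt.LocQ (AlgSp.LocP @LocallyOfFiniteType) π ∧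
      AlgSt.IsUnivHomeo Scheme.etalePrecoverage π ∧
      ∀ (M' : AlgSp.Sp S), AlgSp.IsAlgSpace M' → ∀ g : M' ⟶ M, AlgSp.LocP @Flat g →
        AlgSt.IsCoarseModuli (FibCat.fpFst (AlgSt.ofSpMap g) π) := Groth.KeelMori.exists_coarse_dm h𝒳 hsep hft hqc

end Groth.Agent.S16818
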