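import Groth.Statements.S16823
import Groth.Agent.QuotEt.AffineDiag
-- import your own Groth.Agent.* helpers here

set_option autoImplicit false
universe u
open AlgSt

namespace Groth.Agent.S16823

open CategoryTheory AlgebraicGeometry Limits in
/-- Let S be an affine scheme, G a group scheme over S whose structure morphism is smooth and affine,
and X a scheme over S with an action of G whose structure morphism X → S has affine diagonal. Then
the quotient stack [X/G] over (Sch/S) (objects over T: a G-torsor over T locally trivial for the
etale topology, with an equivariant morphism to X) has affine diagonal over S: the diagonal [X/G] →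
[X/G] ×_{(Sch/S)} [X/G] is representable by algebraic spaces and affine. The source allows X to be
an algebraic space and also treats quasi-affine diagonals; X is a scheme here and only the affine
case is stated. -/
theorem result (S : Scheme.{u}) [IsAffine S]
    (G : Over S) [GrpObj G] (hGs : Smooth G.hom) (hGa : IsAffineHom G.hom)
    (X : Over S) (aX : AlgGrp.Action G X) (hX : IsAffineHom (pullback.diagonal X.hom)) :
    AlgSt.RepByAlgSpWith AlgSp.IsAffineMor
      (FibCat.diag (FibCat.toSelf (AlgSt.QuotSt Scheme.etalePrecoverage G aX))) := by
  have : MorphismProperty.IsLocalAtTarget @Smooth.{u} Scheme.fppfPrecoverage :=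
    Groth.AlgSpBasic.EtaleLocal.localAtTarget
  have h := Groth.QuotEt.isAlgStack_quotSt_etale aX hGs hGa
  exact Groth.QuotEt.repWith_isAffineMor_diag h.isStack.1 h.diag
    (Groth.QuotEt.repWith_atlas aX hGs (Groth.QuotStk.repByAlgSpWith_locP_atlas @Smooth hGs))
    (Groth.QuotEt.repWith_atlas aX hGs (Groth.QuotStk.repByAlgSpWith_surjective_atlas aX))
    (Groth.QuotEt.repWith_atlas aX hGs (Groth.QuotEt.repWith_isAffineMor_atlas aX hGa)) hX

end Groth.Agent.S16823
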