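import Groth.Statements.S16825
import Groth.Agent.AlgStDVR.Realize

set_option autoImplicit false
universe u
open AlgSt

namespace Groth.Agent.S16825

open CategoryTheory AlgebraicGeometry in
/-- Let S be a quasi-separated scheme and f : 𝒳 → 𝒴 a functor over (Sch/S) between algebraic stacks for
the etale topology which are Noetherian (every smooth scheme chart locally Noetherian,
quasi-compact, quasi-separated over S), with f locally of finite type and quasi-compact. Let x be a
point of 𝒳 and y₀ a point of 𝒴 which is a specialization of the image of x. Then there are a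
discrete valuation ring R with a morphism Spec R → S, a morphism a : (Sch/Spec K) → 𝒳 over (Sch/S),
K the fraction field of R, whose point is x, and a morphism b : (Sch/Spec R) → 𝒴 over (Sch/S)
sending the closed point to y₀, such that a followed by f is isomorphic over (Sch/S) to Spec K →
Spec R followed by b. -/
theorem result (S : Scheme.{u})
    [QuasiSeparatedSpace ↥S] (𝒳 𝒴 : AlgSt.Cat S)
    (h𝒳 : AlgSt.IsAlgStack Scheme.etalePrecoverage 𝒳) (h𝒴 : AlgSt.IsAlgStack Scheme.etalePrecoverage 𝒴)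
    (hn𝒳 : AlgSt.SmoothLocally (fun T => IsLocallyNoetherian T) 𝒳 ∧ AlgSt.IsQuasiCompact 𝒳 ∧
      AlgSt.IsQuasiSeparatedOver 𝒳)
    (hn𝒴 : AlgSt.SmoothLocally (fun T => IsLocallyNoetherian T) 𝒴 ∧ AlgSt.IsQuasiCompact 𝒴 ∧
      AlgSt.IsQuasiSeparatedOver 𝒴)
    (f : 𝒳 ⥤ᵇ 𝒴) (hft : AlgSt.LocQ (AlgSp.LocP @LocallyOfFiniteType) f)
    (hqc : AlgSt.IsQuasiCompactMor Scheme.etalePrecoverage f)
    (x : AlgSt.Points 𝒳) (y₀ : AlgSt.Points 𝒴) (hsp : AlgSt.Points.map f x ⤳ y₀) :
    ∃ (R : Type u) (_ : CommRing R) (_ : IsDomain R) (_ : IsDiscreteValuationRing R)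
      (sR : Spec (CommRingCat.of R) ⟶ S)
      (a : FibCat.overCat (Over.mk (Spec.map (CommRingCat.ofHom (algebraMap R (FractionRing R))) ≫ sR)) ⥤ᵇ 𝒳)
      (b : FibCat.overCat (Over.mk sR) ⥤ᵇ 𝒴),
      Nonempty (BasedFunctor.comp a f ≅
        BasedFunctor.comp (AlgSt.overMap (Over.homMk (Spec.map (CommRingCat.ofHom (algebraMap R (FractionRing R)))) rfl :
          Over.mk (Spec.map (CommRingCat.ofHom (algebraMap R (FractionRing R))) ≫ sR) ⟶ Over.mk sR)) b) ∧
      (∀ p, AlgSt.Points.ofChart a p = x) ∧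
      AlgSt.Points.ofChart b (IsLocalRing.closedPoint R) = y₀ := by
  exact Groth.AlgStDVR.exists_dvr_realizing h𝒳.isStack.1 h𝒴 hn𝒳.2.2 hn𝒴.1 hft hqc x y₀ hsp

end Groth.Agent.S16825
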