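import Groth.Statements.S16832
import Groth.Agent.AlgStBasic.StabilizerFree

set_option autoImplicit false
set_option backward.isDefEq.respectTransparency false
set_option backward.isDefEq.respectTransparency.types false
universe u
open AlgSt

namespace Groth.Agent.S16832

open CategoryTheory AlgebraicGeometry in
/-- Let 𝒳 be an algebraic stack over (Sch/S) for the etale topology. Then 𝒳 is an algebraic space
(equivalent over (Sch/S) to the category of sections of an algebraic space) if and only if every
point of 𝒳 has trivial stabilizer: for every field k, every morphism Spec k → S and every functor x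
: (Sch/Spec k) → 𝒳 over (Sch/S), the group of automorphisms over the identity of the object x(T) is
trivial for every scheme T over Spec k (the stabilizer of x, a group algebraic space over k, has
only the identity section over every T). -/
theorem result {S : Scheme.{u}} (𝒳 : AlgSt.Cat S)
    (h𝒳 : AlgSt.IsAlgStack Scheme.etalePrecoverage 𝒳) :
    AlgSt.RepByAlgSp 𝒳 ↔
      ∀ (k : Type u) [Field k] (sk : Spec (CommRingCat.of k) ⟶ S)
        (x : FibCat.overCat (Over.mk sk) ⥤ᵇ 𝒳) (T : Over (Over.mk sk)),
        Subsingleton (Gerb.AutO (x.obj T)) := by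
  constructor
  · intro h k _ sk x T
    have hS := Groth.AlgStBasic.isFibSetoid_of_repByAlgSp h
    exact ⟨fun α β => Iso.ext ((hS.2 _ (Gerb.fib (x.obj T)) (Gerb.fib (x.obj T))).allEq _ _)⟩
  · intro h
    refine Groth.AlgStBasic.repByAlgSp_of_trivialFieldAut h𝒳 fun k _ sk x T φ hv _ => ?_
    have : IsIso φ := hv.isIso h𝒳.isStack.1
    have := hv.isHomLift (R := 𝒳.p.obj (x.obj T)) rfl
    have := (h k sk x T).allEq
      ⟨⟨φ, inferInstance⟩, ⟨inv φ, (Groth.StkBase.IsVert.inv (φ := asIso φ) hv).isHomLift rfl⟩,
        Subtype.ext (IsIso.hom_inv_id φ), Subtype.ext (IsIso.inv_hom_id φ)⟩ (Iso.refl _)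
    exact congrArg (fun i => i.hom.1) this

end Groth.Agent.S16832
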