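import Groth.Statements.S16835
import Groth.Agent.InvTheory.EtaleInvariants

set_option autoImplicit false
universe w
private lemma setup (R A : Type*) [CommRing R] [IsNoetherianRing R] [CommRing A] [Algebra R A] [Algebra.FiniteType R A]
    (G : Type*) [Group G] [Finite G] [MulSemiringAction G A] [SMulCommClass G R A] :
    Algebra.IsInvariant (FixedPoints.subalgebra R A G) A G ∧ Module.Finite (FixedPoints.subalgebra R A G) A ∧
      Algebra.FiniteType R (FixedPoints.subalgebra R A G) := by
  have h1 : Algebra.IsInvariant (FixedPoints.subalgebra R A G) A G := ⟨fun a ha ↦ ⟨⟨a, ha⟩, rfl⟩⟩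
  have := Algebra.IsInvariant.isIntegral (FixedPoints.subalgebra R A G) A G
  have : Algebra.FiniteType (FixedPoints.subalgebra R A G) A := Algebra.FiniteType.of_restrictScalars_finiteType R _ _
  have h2 : Module.Finite (FixedPoints.subalgebra R A G) A := Algebra.IsIntegral.finite
  exact ⟨h1, h2, ⟨fg_of_fg_of_fg R (FixedPoints.subalgebra R A G) A Algebra.FiniteType.out Module.Finite.fg_top
    Subtype.coe_injective⟩⟩

private lemma core (R : Type*) [CommRing R] [IsNoetherianRing R] {A B : Type w} [CommRing A] [CommRing B]
    [Algebra R A] [Algebra R B] [Algebra.FiniteType R A] [Algebra.FiniteType R B]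
    {G : Type w} [Group G] [Finite G] [MulSemiringAction G A] [MulSemiringAction G B]
    [SMulCommClass G R A] [SMulCommClass G R B] [Algebra B A] [IsScalarTower R B A]
    (hGeq : ∀ (g : G) (b : B), algebraMap B A (g • b) = g • algebraMap B A b)
    [Algebra (FixedPoints.subalgebra R B G) (FixedPoints.subalgebra R A G)]
    [IsScalarTower (FixedPoints.subalgebra R B G) (FixedPoints.subalgebra R A G) A]
    (x : Ideal A) [x.IsPrime] (hx : Algebra.IsEtaleAt B x)
    (hin : x.inertia G = (x.comap (algebraMap B A)).inertia G) :
    Algebra.IsEtaleAt (FixedPoints.subalgebra R B G) (x.comap (algebraMap (FixedPoints.subalgebra R A G) A)) ∧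
      Algebra.FinitePresentation (FixedPoints.subalgebra R B G) (FixedPoints.subalgebra R A G) := by
  obtain ⟨_, _, hSf⟩ := setup R A G
  obtain ⟨_, _, hTf⟩ := setup R B G
  have : IsScalarTower R (FixedPoints.subalgebra R B G) (FixedPoints.subalgebra R A G) := by
    refine .of_algebraMap_eq fun r ↦ Subtype.ext ?_
    have := IsScalarTower.algebraMap_apply (FixedPoints.subalgebra R B G) (FixedPoints.subalgebra R A G) A
      (algebraMap R (FixedPoints.subalgebra R B G) r)
    refine Eq.trans ?_ this
    change algebraMap R A r = algebraMap B A (algebraMap R B r)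
    rw [← IsScalarTower.algebraMap_apply]
  have : IsNoetherianRing (FixedPoints.subalgebra R B G) := Algebra.FiniteType.isNoetherianRing R _
  have : IsNoetherianRing (FixedPoints.subalgebra R A G) := Algebra.FiniteType.isNoetherianRing R _
  have : Algebra.FiniteType (FixedPoints.subalgebra R B G) (FixedPoints.subalgebra R A G) :=
    Algebra.FiniteType.of_restrictScalars_finiteType R _ _
  have : Algebra.FiniteType B A := Algebra.FiniteType.of_restrictScalars_finiteType R _ _
  exact ⟨Groth.InvTheory.EtInv.isEtaleAt_invariants hGeq Subtype.coe_injective Subtype.coe_injective x hx hin,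
    Algebra.FinitePresentation.of_finiteType.mp inferInstance⟩

universe u
open InvTh

namespace Groth.Agent.S16835

/-- Let R be a Noetherian commutative ring, A and B commutative R-algebras of finite type on which a
finite group G acts by R-algebra automorphisms, and B → A a G-equivariant homomorphism of
R-algebras. Assume that at every maximal ideal x of A, A is etale over B at x and the inertia
subgroup of x in G equals the inertia subgroup of its contraction to B. Give A^G the B^G-algebra
structure induced by B → A (compatible with B^G → B → A through A^G → A). Then A^G is etale over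
B^G. The source also asserts that the square formed by the quotient stacks and the invariant
quotients is cartesian; that clause is not stated. -/
theorem result (R : Type u)
    [CommRing R] [IsNoetherianRing R] (A B : Type u) [CommRing A] [CommRing B] [Algebra R A] [Algebra R B]
    [Algebra.FiniteType R A] [Algebra.FiniteType R B]
    (G : Type u) [Group G] [Finite G] [MulSemiringAction G A] [MulSemiringAction G B]
    [SMulCommClass G R A] [SMulCommClass G R B]
    [Algebra B A] [IsScalarTower R B A]
    (hGeq : ∀ (g : G) (b : B), algebraMap B A (g • b) = g • algebraMap B A b)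
    [Algebra (FixedPoints.subalgebra R B G) (FixedPoints.subalgebra R A G)]
    [IsScalarTower (FixedPoints.subalgebra R B G) (FixedPoints.subalgebra R A G) A]
    (h : ∀ (x : Ideal A) (_ : x.IsMaximal),
      Algebra.IsEtaleAt B x ∧ x.inertia G = (x.comap (algebraMap B A)).inertia G) :
    Algebra.Etale (FixedPoints.subalgebra R B G) (FixedPoints.subalgebra R A G) := by
  obtain ⟨_, _, hTf⟩ := setup R B G
  obtain ⟨_, _, hSf⟩ := setup R A G
  rcases subsingleton_or_nontrivial A with hA | hA
  · have : Subsingleton (FixedPoints.subalgebra R A G) := Subtype.coe_injective.subsingleton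
    infer_instance
  obtain ⟨x₀, hx₀⟩ := Ideal.exists_maximal A
  have : Algebra.FinitePresentation (FixedPoints.subalgebra R B G) (FixedPoints.subalgebra R A G) :=
    (core R hGeq x₀ (h x₀ hx₀).1 (h x₀ hx₀).2).2
  rw [← Algebra.etaleLocus_eq_univ_iff_etale, Set.eq_univ_iff_forall]
  intro q
  obtain ⟨a, ha, hqa⟩ := Ideal.exists_le_maximal q.1 q.2.ne_top
  obtain ⟨Q, hQ, hQa⟩ := Ideal.exists_ideal_over_maximal_of_isIntegral (S := A) a (by
    rw [(RingHom.injective_iff_ker_eq_bot _).mp Subtype.coe_injective]; exact bot_le)
  have hopen := (Algebra.isOpen_etaleLocus (R := FixedPoints.subalgebra R B G) (A := FixedPoints.subalgebra R A G))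
  refine ((PrimeSpectrum.le_iff_specializes q ⟨a, ha.isPrime⟩).mp hqa).mem_open hopen ?_
  have := (core R hGeq Q (h Q hQ).1 (h Q hQ).2).1
  subst hQa
  exact this

end Groth.Agent.S16835
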