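import Groth.Statements.S16836
import Groth.Agent.AbVarTate.Factors

set_option autoImplicit false
universe u v
open scoped Classical
open AbVar

namespace Groth.Agent.S16836

open Polynomial UniqueFactorizationMonoid in
/-- Let K ⊆ L be a field extension and f₁, f₂ non-zero polynomials in K[t]. For a field F and
polynomials g₁, g₂ over F put r_F(g₁, g₂) = Σ_P mult_P(g₁) · mult_P(g₂) · deg P, the sum running
over the monic irreducible polynomials P in F[t] (mult_P the multiplicity of P as an irreducible
factor). Assume K is perfect. Then r_K(f₁, f₂) = r_L(f₁, f₂): the number does not depend on the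
field over which the factorisations are taken. (Perfectness of K cannot be dropped: for K = F_p(s),
L = K(s^{1/p}) and f₁ = f₂ = t^p − s the number is p over K and p² over L, since the irreducible t^p
− s becomes a p-th power over L; the published statement has no restriction on K, and its proof
requires the relevant K[t]-modules to remain semisimple after base change, which holds when every
irreducible factor stays squarefree over L, in particular for K perfect.) -/
theorem result (K : Type u) (L : Type v) [Field K] [PerfectField K] [Field L] [Algebra K L]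
    (f₁ f₂ : K[X]) (h₁ : f₁ ≠ 0) (h₂ : f₂ ≠ 0) :
    ∑ P ∈ (normalizedFactors (f₁.map (algebraMap K L))).toFinset,
        (normalizedFactors (f₁.map (algebraMap K L))).count P *
          (normalizedFactors (f₂.map (algebraMap K L))).count P * P.natDegree =
      ∑ P ∈ (normalizedFactors f₁).toFinset,
        (normalizedFactors f₁).count P * (normalizedFactors f₂).count P * P.natDegree := by
  have key : ∀ {f : K[X]}, f ≠ 0 → ∃ g : K[X], g.Monic ∧
      normalizedFactors f = normalizedFactors g ∧
      normalizedFactors (f.map (algebraMap K L)) = normalizedFactors (g.map (algebraMap K L)) := by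
    intro f hf
    have hu : IsUnit (C f.leadingCoeff⁻¹) :=
      isUnit_C.2 (isUnit_iff_ne_zero.2 (inv_ne_zero (leadingCoeff_ne_zero.2 hf)))
    refine ⟨f * C f.leadingCoeff⁻¹, monic_mul_leadingCoeff_inv hf, ?_, ?_⟩
    · exact (associated_mul_unit_right f _ hu).normalizedFactors_eq
    · rw [Polynomial.map_mul]
      exact (associated_mul_unit_right _ _ (hu.map (mapRingHom (algebraMap K L)))).normalizedFactors_eq
  obtain ⟨g₁, hg₁, e₁, e₁'⟩ := key h₁
  obtain ⟨g₂, hg₂, e₂, e₂'⟩ := key h₂
  rw [e₁, e₁', e₂, e₂']
  let Lb := AlgebraicClosure L
  have hsepK : ∀ p ∈ normalizedFactors g₁, p.Separable := fun p hp =>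
    PerfectField.separable_of_irreducible (irreducible_of_normalized_factor p hp)
  have hsepL : ∀ p ∈ normalizedFactors (g₁.map (algebraMap K L)), p.Separable := by
    intro p hp
    have hdvd : p ∣ (normalizedFactors g₁).prod.map (algebraMap K L) := by
      rw [prod_normalizedFactors_eq hg₁.ne_zero, hg₁.normalize_eq_self]
      exact dvd_of_mem_normalizedFactors hp
    rw [Polynomial.map_multiset_prod] at hdvd
    obtain ⟨q, hq, hpq⟩ := (prime_of_normalized_factor p hp).exists_mem_multiset_dvd hdvd
    obtain ⟨r, hr, rfl⟩ := Multiset.mem_map.1 hq
    exact Separable.of_dvd ((hsepK r hr).map) hpq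
  rw [← Groth.AbVarTate.pairCount_aroots_of_separable (K := Lb) (hg₁.map _) (hg₂.map _) hsepL,
    ← Groth.AbVarTate.pairCount_aroots_of_separable (K := Lb) hg₁ hg₂ hsepK,
    Polynomial.map_map, Polynomial.map_map, ← IsScalarTower.algebraMap_eq K L Lb]

end Groth.Agent.S16836
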