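import Groth.Statements.S16837
import Groth.Agent.AbVarTate.IntertwinerCount

set_option autoImplicit false
universe u v w
open scoped Classical
open AbVar

namespace Groth.Agent.S16837

open UniqueFactorizationMonoid in
/-- Let K be any field, V₁ and V₂ finite-dimensional K-vector spaces and π₁, π₂ semisimple endomorphisms
of V₁, V₂ with characteristic polynomials f₁, f₂. Make V_i a K[t]-module by letting t act as π_i.
Then the space Hom_{K[t]}(V₁, V₂) of K-linear maps h with π₂ ∘ h = h ∘ π₁ has K-dimension r(f₁, f₂)
= Σ_P mult_P(f₁) · mult_P(f₂) · deg P, the sum over the monic irreducible polynomials P in K[t]. (No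
restriction on the characteristic of K.) -/
theorem result (K : Type u) [Field K]
    (V₁ : Type v) (V₂ : Type w) [AddCommGroup V₁] [Module K V₁] [FiniteDimensional K V₁]
    [AddCommGroup V₂] [Module K V₂] [FiniteDimensional K V₂]
    (π₁ : Module.End K V₁) (π₂ : Module.End K V₂) (h₁ : π₁.IsSemisimple) (h₂ : π₂.IsSemisimple) :
    Module.finrank K (LinearMap.ker (LinearMap.lcomp K V₂ π₁ - LinearMap.llcomp K V₁ V₂ V₂ π₂ :
        (V₁ →ₗ[K] V₂) →ₗ[K] (V₁ →ₗ[K] V₂))) =
      ∑ P ∈ (normalizedFactors π₁.charpoly).toFinset,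
        (normalizedFactors π₁.charpoly).count P * (normalizedFactors π₂.charpoly).count P * P.natDegree := by
  exact (Groth.AbVarTate.finrank_intertwiners_eq_commonCount π₁ π₂ h₁ h₂).trans
    (Groth.AbVarTate.commonCount_eq_sum _ _)

end Groth.Agent.S16837
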