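import Groth.Statements.S16838
import Groth.Agent.AbVarMul.FrobWeil
import Groth.Agent.AbVarMul.DegCharpolyBC

set_option autoImplicit false
universe u
open CategoryTheory MonoidalCategory CartesianMonoidalCategory MonObj GrpObj AlgebraicGeometry
open AbVar

namespace Groth.Agent.S16838

/-- Let k be a finite field with q elements and algebraic closure Ω, ℓ a prime invertible in k, and X an
abelian variety over k (a proper, geometrically integral commutative group scheme over k) of
dimension g, with geometric Frobenius π_X (the endomorphism that is the identity on points and the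
q-th power map on sections); assume, as is the case, that the ℓ-adic Tate module of Ω-points T_ℓ X
is free of finite rank over ℤ_ℓ, and let f_X ∈ ℤ[t] be the polynomial mapping to the characteristic
polynomial of T_ℓ(π_X) (the characteristic polynomial of Frobenius). Then every complex root α of
f_X satisfies |α| = √q. (Here f_X is the characteristic polynomial of T_ℓ(π_X) itself, not merely
some polynomial governing the point counts.) -/
theorem result (k Ω : Type u) [Field k] [Finite k] [Field Ω] [Algebra k Ω] [IsAlgClosure k Ω]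
    (l : ℕ) [Fact l.Prime] (hl : (l : k) ≠ 0) (X : Over (Spec (CommRingCat.of k)))
    [GrpObj X] [IsCommMonObj X] [IsProper X.hom] [GeometricallyIntegral X.hom]
    (πX : X ⟶ X) [IsMonHom πX] (hπb : πX.left.base = 𝟙 _)
    (hπle : ∀ U : X.left.Opens, U ≤ πX.left ⁻¹ᵁ U)
    (hπapp : ∀ (U : X.left.Opens) (s : Γ(X.left, U)), (πX.left.appLE U U (hπle U)).hom s = s ^ Nat.card k)
    [Module.Free ℤ_[l] (AbDual.TateMod X l (SGA7.pt Ω))] [Module.Finite ℤ_[l] (AbDual.TateMod X l (SGA7.pt Ω))]
    (P : Polynomial ℤ) (hP : (AbDual.tateMapₗ (l := l) (T := SGA7.pt Ω) πX).charpoly = P.map (Int.castRingHom ℤ_[l])) :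
    ∀ α ∈ (P.map (Int.castRingHom ℂ)).roots, ‖α‖ = Real.sqrt (Nat.card k) := by
  have := IsAlgClosure.isAlgClosed k (K := Ω)
  obtain ⟨g, hg⟩ := Groth.FibreDim.exists_dim_eq_nat X
  obtain ⟨P₀, -, -, hP₀⟩ := Groth.AbVarMul.exists_degPoly hg (EndAV.End.of πX)
  obtain rfl : P = P₀ := Polynomial.map_injective (Int.castRingHom ℤ_[l]) Int.cast_injective
    (hP.symm.trans (Groth.AbVarMul.charpoly_tateMap Ω hl (EndAV.End.of πX) P₀ hP₀))
  intro α hα
  rw [Complex.norm_def, Groth.AbVarMul.normSq_root_degPoly hπle hπapp hP₀ hα]

end Groth.Agent.S16838
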