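import Groth.Statements.S16846
import Groth.Agent.AbVarMul.PRoots
import Groth.Agent.AbVarMul.RootHom
import Mathlib.FieldTheory.Finite.Basic
-- import your own Groth.Agent.* helpers here

set_option autoImplicit false
universe u
open CategoryTheory MonoidalCategory CartesianMonoidalCategory MonObj GrpObj AlgebraicGeometry
open AbVar

namespace Groth.Agent.S16846


/-- Fix a finite field k of size q and an abelian variety X over k (a proper, geometrically integral
commutative group scheme over k) and π_X its geometric Frobenius (the identity on points, the q-th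
power map on sections; a homomorphism). Then the endomorphism ring End_k(X) contains q/π_X: there is
a homomorphism v : X → X with π_X followed by v, and v followed by π_X, both equal to multiplication
by q (the q-th power of the identity in the group of morphisms X → X). -/
theorem result (k : Type u) [Field k] [Finite k] (X : Over (Spec (CommRingCat.of k)))
    [GrpObj X] [IsCommMonObj X] [IsProper X.hom] [GeometricallyIntegral X.hom]
    (πX : X ⟶ X) [IsMonHom πX] (hπb : πX.left.base = 𝟙 _)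
    (hπle : ∀ U : X.left.Opens, U ≤ πX.left ⁻¹ᵁ U)
    (hπapp : ∀ (U : X.left.Opens) (s : Γ(X.left, U)), (πX.left.appLE U U (hπle U)).hom s = s ^ Nat.card k) :
    ∃ (v : X ⟶ X) (_ : IsMonHom v), πX ≫ v = (𝟙 X) ^ Nat.card k ∧ v ≫ πX = (𝟙 X) ^ Nat.card k := by
  obtain ⟨p, _⟩ := CharP.exists k
  have : Fintype k := Fintype.ofFinite k
  obtain ⟨n, hp, hcard⟩ := FiniteField.card k p
  have := Fact.mk hp
  have hq : Nat.card k = p ^ (n : ℕ) := by rw [Nat.card_eq_fintype_card, hcard]
  have hperf : ∀ c : k, ∃ d : k, d ^ p = c := fun c =>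
    (Finite.injective_iff_surjective.1 (frobenius_inj k p)) c
  have := Groth.Abvar.isIntegral_left X
  have hchar : ∀ (W : X.left.Opens) [Nontrivial Γ(X.left, W)], CharP Γ(X.left, W) p := fun W _ =>
    charP_of_injective_ringHom
      (f := ((Scheme.ΓSpecIso (CommRingCat.of k)).inv ≫ X.hom.appLE ⊤ W le_top).hom)
      (RingHom.injective _) p
  set f : X ⟶ X := 𝟙 X ^ (p ^ (n : ℕ)) with hf
  have hadd : ∀ (W : X.left.Opens) (a b : Γ(X.left, W)),
      (a + b) ^ (p ^ (n : ℕ)) = a ^ (p ^ (n : ℕ)) + b ^ (p ^ (n : ℕ)) := fun W a b => by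
    rcases subsingleton_or_nontrivial Γ(X.left, W) with h | h
    · exact Subsingleton.elim _ _
    · have := hchar W
      exact add_pow_char_pow a b p n
  have hinj : ∀ (W : X.left.Opens) (a b : Γ(X.left, W)),
      a ^ (p ^ (n : ℕ)) = b ^ (p ^ (n : ℕ)) → a = b := fun W a b h => by
    rcases subsingleton_or_nontrivial Γ(X.left, W) with h' | h'
    · exact Subsingleton.elim _ _
    · have := hchar W
      exact iterateFrobenius_inj (R := Γ(X.left, W)) p n h
  have hroot : ∀ (U : X.left.Opens) (s : Γ(X.left, U)), ∃ y : Γ(X.left, f.left ⁻¹ᵁ U),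
      y ^ (p ^ (n : ℕ)) = f.left.app U s := fun U s => by
    choose W e haW y hy using fun a : ↥(f.left ⁻¹ᵁ U) =>
      Groth.AbVarMul.exists_local_root_iter (A := X) p hperf n U s a.1 a.2
    have hcov : f.left ⁻¹ᵁ U ≤ iSup W := fun a ha =>
      TopologicalSpace.Opens.mem_iSup.2 ⟨⟨a, ha⟩, haW ⟨a, ha⟩⟩
    obtain ⟨g, hg, -⟩ := X.left.sheaf.existsUnique_gluing' W _ (fun a => homOfLE (e a)) hcov y (fun a b => hinj _ _ _ (by
      show (X.left.presheaf.map _).hom (y a) ^ _ = (X.left.presheaf.map _).hom (y b) ^ _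
      rw [← map_pow, ← map_pow, hy, hy, ← CommRingCat.comp_apply, ← CommRingCat.comp_apply,
        Scheme.Hom.appLE_map, Scheme.Hom.appLE_map]))
    refine ⟨g, X.left.sheaf.eq_of_locally_eq' W _ (fun a => homOfLE (e a)) hcov _ _ fun a => ?_⟩
    show (X.left.presheaf.map (homOfLE (e a)).op).hom (g ^ _) = (X.left.presheaf.map _).hom _
    refine ((X.left.presheaf.map (homOfLE (e a)).op).hom.map_pow _ _).trans ?_
    erw [show (X.left.presheaf.map (homOfLE (e a)).op).hom g = y a from hg a]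
    rw [hy]
    rfl
  let v₀ : X.left ⟶ X.left := Groth.AbVarMul.rootHom f.left _ hadd hinj hroot
  let R : ∀ {A B : X.left.Opens}, B ≤ A → (Γ(X.left, A) →+* Γ(X.left, B)) :=
    fun h => (X.left.presheaf.map (homOfLE h).op).hom
  have RR : ∀ {A B C : X.left.Opens} (h₁ : B ≤ A) (h₂ : C ≤ B) (t : Γ(X.left, A)),
      R h₂ (R h₁ t) = R (h₂.trans h₁) t := fun h₁ h₂ t => by
    show (X.left.presheaf.map _).hom ((X.left.presheaf.map _).hom t) = _
    rw [← CommRingCat.comp_apply, ← Functor.map_comp]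
    rfl
  have Rid : ∀ {A : X.left.Opens} (h : A ≤ A) (t : Γ(X.left, A)), R h t = t := fun h t => by
    show (X.left.presheaf.map _).hom t = t
    rw [show (homOfLE h).op = 𝟙 _ from rfl, X.left.presheaf.map_id]
    rfl
  have hpre : ∀ U : X.left.Opens, πX.left ⁻¹ᵁ U ≤ U := fun U x hx => by
    have : πX.left.base x ∈ U := hx
    rwa [hπb] at this
  have hπsec : ∀ (U : X.left.Opens) (s : Γ(X.left, U)),
      πX.left.app U s = (R (hpre U) s) ^ (p ^ (n : ℕ)) := fun U s => by
    rw [← map_pow, ← hq, ← hπapp U s, Scheme.Hom.app_eq_appLE]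
    show _ = (X.left.presheaf.map _).hom _
    rw [← CommRingCat.comp_apply, Scheme.Hom.appLE_map]
  have hv : ∀ (U : X.left.Opens) (s : Γ(X.left, U)),
      (v₀.app U s : Γ(X.left, f.left ⁻¹ᵁ U)) ^ (p ^ (n : ℕ)) = f.left.app U s :=
    Groth.AbVarMul.rootHom_app_pow f.left _ hadd hinj hroot
  have hπv : πX.left ≫ v₀ = f.left := by
    refine Scheme.Hom.ext (by rw [Scheme.Hom.comp_base, hπb, Category.id_comp]; rfl) fun U => ?_
    ext s
    show R _ (πX.left.app (f.left ⁻¹ᵁ U) (v₀.app U s)) = f.left.app U s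
    erw [hπsec]
    rw [← map_pow]
    erw [hv, RR, Rid]
  have hvπ : v₀ ≫ πX.left = f.left := by
    refine Scheme.Hom.ext (by rw [Scheme.Hom.comp_base, hπb, Category.comp_id]; rfl) fun U => ?_
    ext s
    show R _ (v₀.app (πX.left ⁻¹ᵁ U) (πX.left.app U s)) = f.left.app U s
    rw [hπsec, map_pow]
    erw [hv]
    show R _ ((X.left.presheaf.map (homOfLE (hpre U)).op ≫ f.left.app (πX.left ⁻¹ᵁ U)).hom s) = _
    rw [f.left.naturality]
    erw [RR, Rid]
    rfl
  have hepi : ∀ {Y : Scheme.{u}} (g h : X.left ⟶ Y), πX.left ≫ g = πX.left ≫ h → g = h := by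
    intro Y g h hgh
    have hb : g.base = h.base := by
      have := congrArg (fun t : X.left ⟶ Y => t.base) hgh
      simpa only [Scheme.Hom.comp_base, hπb, Category.id_comp] using this
    refine Scheme.Hom.ext hb fun U => ?_
    ext s
    have eg : h ⁻¹ᵁ U ≤ g ⁻¹ᵁ U := fun x hx => by
      show g.base x ∈ U
      rw [hb]; exact hx
    have key : πX.left.appLE (h ⁻¹ᵁ U) (h ⁻¹ᵁ U) (hπle _) (g.appLE U (h ⁻¹ᵁ U) eg s) =
        πX.left.appLE (h ⁻¹ᵁ U) (h ⁻¹ᵁ U) (hπle _) (h.appLE U (h ⁻¹ᵁ U) le_rfl s) := by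
      rw [← CommRingCat.comp_apply, ← CommRingCat.comp_apply, Scheme.Hom.appLE_comp_appLE,
        Scheme.Hom.appLE_comp_appLE]
      simp only [hgh]
    erw [hπapp, hπapp, hq] at key
    rw [Scheme.Hom.app_eq_appLE h]
    exact hinj _ _ _ key
  let v : X ⟶ X := Over.homMk v₀ (hepi _ _ (by rw [← Category.assoc, hπv, Over.w, Over.w]))
  have h1 : πX ≫ v = 𝟙 X ^ Nat.card k := Over.OverMorphism.ext (by rw [hq]; exact hπv)
  have h2 : v ≫ πX = 𝟙 X ^ Nat.card k := Over.OverMorphism.ext (by rw [hq]; exact hvπ)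
  refine ⟨v, Groth.Abvar.isMonHom_of_one v ?_, h1, h2⟩
  have hη : η[X] ≫ πX = η[X] := IsMonHom.one_hom πX
  rw [← hη, Category.assoc, h1, hη, MonObj.comp_pow, Category.comp_id,
    show (η[X] : 𝟙_ _ ⟶ X) = 1 by rw [Hom.one_def, toUnit_unique (toUnit (𝟙_ _)) (𝟙 _), Category.id_comp],
    one_pow]

end Groth.Agent.S16846
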