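import Groth.Statements.S16847
import Groth.Agent.AbVarMul.WeilApps
-- import your own Groth.Agent.* helpers here

set_option autoImplicit false
universe u
open CategoryTheory MonoidalCategory CartesianMonoidalCategory MonObj GrpObj AlgebraicGeometry
open AbVar

namespace Groth.Agent.S16847


/-- Let k be a finite field with q elements and algebraic closure Ω, ℓ a prime invertible in k, and X an
abelian variety over k (a proper, geometrically integral commutative group scheme over k) of
dimension g, with geometric Frobenius π_X (the endomorphism that is the identity on points and the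
q-th power map on sections); assume, as is the case, that the ℓ-adic Tate module of Ω-points T_ℓ X
is free of finite rank over ℤ_ℓ, and let f_X ∈ ℤ[t] be the polynomial mapping to the characteristic
polynomial of T_ℓ(π_X) (the characteristic polynomial of Frobenius). Then ℚ[π_X] ⊆ End⁰(X) = ℚ ⊗
End_k(X) is a field (equivalently, X is elementary, i.e. isogenous to a power of a simple abelian
variety — that reformulation is not restated) if and only if f_X = h^n for some irreducible h ∈ ℚ[t]
and some n ≥ 1. -/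
theorem result (k Ω : Type u) [Field k] [Finite k] [Field Ω] [Algebra k Ω] [IsAlgClosure k Ω]
    (l : ℕ) [Fact l.Prime] (hl : (l : k) ≠ 0) (X : Over (Spec (CommRingCat.of k)))
    [GrpObj X] [IsCommMonObj X] [IsProper X.hom] [GeometricallyIntegral X.hom]
    (πX : X ⟶ X) [IsMonHom πX] (hπb : πX.left.base = 𝟙 _)
    (hπle : ∀ U : X.left.Opens, U ≤ πX.left ⁻¹ᵁ U)
    (hπapp : ∀ (U : X.left.Opens) (s : Γ(X.left, U)), (πX.left.appLE U U (hπle U)).hom s = s ^ Nat.card k)
    [Module.Free ℤ_[l] (AbDual.TateMod X l (SGA7.pt Ω))] [Module.Finite ℤ_[l] (AbDual.TateMod X l (SGA7.pt Ω))]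
    (P : Polynomial ℤ) (hP : (AbDual.tateMapₗ (l := l) (T := SGA7.pt Ω) πX).charpoly = P.map (Int.castRingHom ℤ_[l])) :
    IsField (EndAV.QAdj (EndAV.End.of πX)) ↔
      ∃ (h : Polynomial ℚ) (n : ℕ), Irreducible h ∧ 0 < n ∧ P.map (Int.castRingHom ℚ) = h ^ n := by
  have := IsAlgClosure.isAlgClosed k (K := Ω)
  obtain ⟨g, hg⟩ := Groth.FibreDim.exists_dim_eq_nat X
  obtain ⟨hm, hd, hdeg, -, -⟩ := Groth.AbVarMul.charpoly_frob_spec hπle hπapp Ω hl hP hg
  set x := EndAV.toEnd0 (EndAV.End.of πX)
  set m := minpoly ℚ x with hmdef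
  have hsq : Squarefree m := (Groth.AbVarMul.frob_minpoly hπle hπapp).1
  have hPα : P.eval₂ (Int.castRingHom (EndAV.End X)) (EndAV.End.of πX) = 0 := by
    refine Groth.AbVarMul.tateRep_injective_bc (A := X) Ω hl ?_
    rw [map_zero, Polynomial.hom_eval₂,
      RingHom.ext_int ((EndAV.End.tateRep (A := X) l (SGA7.pt (K := k) Ω)).comp _)
        ((algebraMap ℤ_[l] _).comp (Int.castRingHom ℤ_[l])),
      ← Polynomial.eval₂_map, ← hP, ← Polynomial.aeval_def]
    exact LinearMap.aeval_self_charpoly _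
  have hPx : Polynomial.aeval x (P.map (Int.castRingHom ℚ)) = 0 := by
    have h := congrArg (EndAV.toEnd0 (A := X)).toRingHom hPα
    rw [map_zero, Polynomial.hom_eval₂,
      RingHom.ext_int ((EndAV.toEnd0 (A := X)).toRingHom.comp _)
        ((algebraMap ℚ (EndAV.End0 X)).comp (Int.castRingHom ℚ)),
      ← Polynomial.eval₂_map, ← Polynomial.aeval_def] at h
    exact h
  have hmP : m ∣ P.map (Int.castRingHom ℚ) := minpoly.dvd ℚ x hPx
  have hroot : ∀ z : ℂ, Polynomial.aeval z (P.map (Int.castRingHom ℚ)) = 0 → Polynomial.aeval z m = 0 :=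
    fun z hz => Groth.AbVarMul.aeval_minpoly_root (EndAV.End.of πX) hdeg (by
      rw [Polynomial.mem_roots (hm.map _).ne_zero, Polynomial.IsRoot, Polynomial.eval_map]
      rw [Polynomial.aeval_def, Polynomial.eval₂_map,
        RingHom.ext_int ((algebraMap ℚ ℂ).comp _) (Int.castRingHom ℂ)] at hz
      exact hz)
  have hmem : x ∈ Algebra.adjoin ℚ ({x} : Set (EndAV.End0 X)) :=
    Algebra.subset_adjoin (Set.mem_singleton x)
  let y : EndAV.QAdj (EndAV.End.of πX) := ⟨x, hmem⟩
  have hy : minpoly ℚ y = m :=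
    (minpoly.algHom_eq (EndAV.QAdj (EndAV.End.of πX)).val Subtype.val_injective y).symm
  have hxint : IsIntegral ℚ x := ⟨_, hm.map (Int.castRingHom ℚ), hPx⟩
  have hyint : IsIntegral ℚ y :=
    (isIntegral_algHom_iff (EndAV.QAdj (EndAV.End.of πX)).val Subtype.val_injective).1 hxint
  constructor
  · intro hF
    letI : Field (EndAV.QAdj (EndAV.End.of πX)) := hF.toField
    have hirr : Irreducible m := hy ▸ minpoly.irreducible hyint
    have hmm : m.Monic := minpoly.monic hxint
    suffices key : ∀ (d : ℕ) (p : Polynomial ℚ), p.natDegree = d → p.Monic →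
        (∀ z : ℂ, Polynomial.aeval z p = 0 → Polynomial.aeval z m = 0) → ∃ n : ℕ, p = m ^ n by
      obtain ⟨n, hn⟩ := key _ _ rfl (hm.map (Int.castRingHom ℚ)) hroot
      refine ⟨m, n, hirr, Nat.pos_of_ne_zero fun h0 => ?_, hn⟩
      rw [h0, pow_zero] at hn
      exact hirr.not_isUnit (isUnit_of_dvd_one (hn ▸ hmP))
    intro d
    induction d using Nat.strong_induction_on with
    | _ d IH =>
      intro p hpd hp hz
      rcases Nat.eq_zero_or_pos d with h0 | h0
      · exact ⟨0, by rw [pow_zero]; exact hp.natDegree_eq_zero.1 (hpd.trans h0)⟩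
      obtain ⟨z, hz0⟩ := IsAlgClosed.exists_aeval_eq_zero (k := ℂ) p
        (Polynomial.natDegree_pos_iff_degree_pos.1 (hpd.symm ▸ h0)).ne'
      have hmz : m = minpoly ℚ z := minpoly.eq_of_irreducible_of_monic hirr (hz z hz0) hmm
      obtain ⟨p', hp'⟩ := hmz ▸ minpoly.dvd ℚ z hz0
      have hp'm : p'.Monic := hmm.of_mul_monic_left (hp' ▸ hp)
      have hlt : p'.natDegree < d := by
        rw [← hpd, hp', hmm.natDegree_mul hp'm]
        have := hirr.natDegree_pos
        omega
      obtain ⟨n, hn⟩ := IH _ hlt p' rfl hp'm fun w hw => hz w (by rw [hp', map_mul, hw, mul_zero])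
      exact ⟨n + 1, by rw [hp', hn, pow_succ']⟩
  · rintro ⟨h, n, hh, hn, hPh⟩
    have hdvd : m ∣ h := hsq.isRadical n h (hPh ▸ hmP)
    have hnu : ¬ IsUnit m := by
      intro hu
      have hpos : 0 < (P.map (Int.castRingHom ℚ)).degree := by
        rw [hPh, Polynomial.degree_pow, nsmul_eq_mul]
        exact mul_pos (by exact_mod_cast hn) (Polynomial.degree_pos_of_irreducible hh)
      obtain ⟨z, hz0⟩ := IsAlgClosed.exists_aeval_eq_zero (k := ℂ) _ hpos.ne'
      exact (hu.map (Polynomial.aeval z)).ne_zero (hroot z hz0)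
    have hirr : Irreducible m :=
      ((hh.dvd_iff.1 hdvd).resolve_left hnu).irreducible hh
    haveI : Fact (Irreducible m) := ⟨hirr⟩
    have hy0 : Polynomial.aeval y m = 0 := hy ▸ minpoly.aeval ℚ y
    let F : AdjoinRoot m →ₐ[ℚ] EndAV.QAdj (EndAV.End.of πX) :=
      AdjoinRoot.liftAlgHom m (Algebra.ofId ℚ _) y hy0
    have : Nontrivial (EndAV.QAdj (EndAV.End.of πX)) := by
      by_contra hs
      rw [not_nontrivial_iff_subsingleton] at hs
      refine hnu ?_
      rw [← hy, minpoly.subsingleton]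
      exact isUnit_one
    refine MulEquiv.isField (Field.toIsField (AdjoinRoot m))
      (RingEquiv.ofBijective F.toRingHom ⟨F.toRingHom.injective, fun w => ?_⟩).symm.toMulEquiv
    obtain ⟨w, hw⟩ := w
    have hw' : w ∈ Algebra.adjoin ℚ ({x} : Set (EndAV.End0 X)) := hw
    rw [Algebra.adjoin_singleton_eq_range_aeval] at hw'
    obtain ⟨r, rfl⟩ := hw'
    exact ⟨AdjoinRoot.mk m r, Subtype.ext
      (Polynomial.aeval_subalgebra_coe r (Algebra.adjoin ℚ ({x} : Set (EndAV.End0 X))) ⟨x, hmem⟩)⟩

end Groth.Agent.S16847
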