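import Groth.Statements.S16849
import Groth.Agent.AbVarMul.FrobEndo
import Groth.Agent.AbVarMul.ExteriorRoots

set_option autoImplicit false
universe u
open CategoryTheory MonoidalCategory CartesianMonoidalCategory MonObj GrpObj AlgebraicGeometry
open AbVar

namespace Groth.Agent.S16849

/-- Let k be a finite field with q elements and algebraic closure Ω, ℓ a prime invertible in k, and X an
abelian variety over k (a proper, geometrically integral commutative group scheme over k) of
dimension g, with geometric Frobenius π_X (the endomorphism that is the identity on points and the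
q-th power map on sections); assume, as is the case, that the ℓ-adic Tate module of Ω-points T_ℓ X
is free of finite rank over ℤ_ℓ, and let f_X ∈ ℤ[t] be the polynomial mapping to the characteristic
polynomial of T_ℓ(π_X) (the characteristic polynomial of Frobenius). Let α_1, …, α_{2g} be the
complex roots of f_X with multiplicity and, for 0 ≤ j ≤ 2g, P_j(t) = ∏_I (1 − α_I t), the product
over the j-element sub-multisets I of the roots, α_I = ∏_{i ∈ I} α_i (so P_j is the reciprocal
characteristic polynomial of the j-th exterior power of V_ℓ(π_X)). Then every P_j has integer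
coefficients, and the zeta function Z(X; t) = exp(Σ_{m ≥ 1} N_m t^m / m) (N_m the number of points
of X in a degree-m extension of k, counted through closed points) satisfies Z(X; t) · ∏_{j even}
P_j(t) = ∏_{j odd} P_j(t) in ℂ⟦t⟧, i.e. Z(X; t) = P_1 P_3 ⋯ P_{2g−1} / (P_0 P_2 ⋯ P_{2g}). -/
theorem result (k Ω : Type u) [Field k] [Finite k] [Field Ω] [Algebra k Ω] [IsAlgClosure k Ω]
    (l : ℕ) [Fact l.Prime] (hl : (l : k) ≠ 0) (X : Over (Spec (CommRingCat.of k)))
    [GrpObj X] [IsCommMonObj X] [IsProper X.hom] [GeometricallyIntegral X.hom]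
    (πX : X ⟶ X) [IsMonHom πX] (hπb : πX.left.base = 𝟙 _)
    (hπle : ∀ U : X.left.Opens, U ≤ πX.left ⁻¹ᵁ U)
    (hπapp : ∀ (U : X.left.Opens) (s : Γ(X.left, U)), (πX.left.appLE U U (hπle U)).hom s = s ^ Nat.card k)
    [Module.Free ℤ_[l] (AbDual.TateMod X l (SGA7.pt Ω))] [Module.Finite ℤ_[l] (AbDual.TateMod X l (SGA7.pt Ω))]
    (P : Polynomial ℤ) (hP : (AbDual.tateMapₗ (l := l) (T := SGA7.pt Ω) πX).charpoly = P.map (Int.castRingHom ℤ_[l])) :
    (∀ j : ℕ, ∃ Q : Polynomial ℤ, Q.map (Int.castRingHom ℂ) = (((P.map (Int.castRingHom ℂ)).roots.powersetCard j).map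
          (fun I => (1 : Polynomial ℂ) - Polynomial.C I.prod * Polynomial.X)).prod) ∧
      (Zeta.zetaFun X.hom).map (algebraMap ℚ ℂ) *
          ∏ j ∈ (Finset.range (P.natDegree + 1)).filter (fun j => Even j),
            (((((P.map (Int.castRingHom ℂ)).roots.powersetCard j).map
          (fun I => (1 : Polynomial ℂ) - Polynomial.C I.prod * Polynomial.X)).prod : Polynomial ℂ) : PowerSeries ℂ) =
        ∏ j ∈ (Finset.range (P.natDegree + 1)).filter (fun j => Odd j),
          (((((P.map (Int.castRingHom ℂ)).roots.powersetCard j).map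
          (fun I => (1 : Polynomial ℂ) - Polynomial.C I.prod * Polynomial.X)).prod : Polynomial ℂ) : PowerSeries ℂ) := by
  have := IsAlgClosure.isAlgClosed k (K := Ω)
  obtain ⟨g, hg⟩ := Groth.FibreDim.exists_dim_eq_nat X
  obtain ⟨P₀, hP₀m, -, hP₀⟩ := Groth.AbVarMul.exists_degPoly hg (EndAV.End.of πX)
  obtain rfl : P = P₀ := Polynomial.map_injective (Int.castRingHom ℤ_[l]) Int.cast_injective
    (hP.symm.trans (Groth.AbVarMul.charpoly_tateMap Ω hl (EndAV.End.of πX) P₀ hP₀))
  refine ⟨Groth.AbVarMul.exists_int_powersetProd P hP₀m, ?_⟩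
  have h := Groth.AbVarMul.zeta_mul_even_eq_odd X.hom (P.map (Int.castRingHom ℂ)).roots fun m hm =>
    Groth.AbVarMul.nPts_eq_prod_one_sub_pow hπb hπle hπapp hP₀ (Nat.one_le_iff_ne_zero.1 hm) (L := ℂ)
  rwa [← (IsAlgClosed.splits _).natDegree_eq_card_roots,
    Polynomial.natDegree_map_eq_of_injective Int.cast_injective] at h

end Groth.Agent.S16849
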