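import Groth.Statements.S16854
import Mathlib
import Groth.Agent.SGA7.QLinear
-- import your own Groth.Agent.* helpers here

set_option autoImplicit false
universe u v
open CAlg

namespace Groth.Agent.S16854

/-- Let k be an algebraically closed field of characteristic p > 0, ν ≥ 1, W = W(k) the ring of
p-typical Witt vectors with its Frobenius endomorphism σ, M a finitely generated free W-module and F
: M → M a bijective additive map that is σ^ν-semilinear, F(a·m) = σ^ν(a)·F(m). Then M admits a
W-basis consisting of F-fixed elements; in particular M is spanned over W by M₀ = {m | F(m) = m}, a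
module over the Witt vectors of F_{p^ν}. (The copy allows ν < 0 as well, reducing to F⁻¹; stated
here for ν ≥ 1.) -/
theorem result (k : Type u) [Field k] [IsAlgClosed k]
    (p : ℕ) [Fact p.Prime] [CharP k p] (ν : ℕ) (hν : 1 ≤ ν)
    (M : Type v) [AddCommGroup M] [Module (WittVector p k) M]
    [Module.Finite (WittVector p k) M] [Module.Free (WittVector p k) M]
    (F : M →+ M)
    (hF : ∀ (a : WittVector p k) (m : M), F (a • m) = ((⇑(WittVector.frobenius : WittVector p k →+* WittVector p k))^[ν] a) • F m)
    (hbij : Function.Bijective F) :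
    ∃ (ι : Type v) (b : Module.Basis ι (WittVector p k) M), ∀ i, F (b i) = b i := by
  classical
  haveI : IsSepClosed k := inferInstance
  have hpr := (Fact.out : p.Prime)
  set q := p ^ ν with hq
  have hq1 : 1 < q := Nat.one_lt_pow (by omega) hpr.one_lt
  have hqk : ((q : ℕ) : k) = 0 := by rw [hq, Nat.cast_pow, CharP.cast_eq_zero, zero_pow (by omega)]
  set W := WittVector p k
  let ι := Module.Free.ChooseBasisIndex W M
  let b : Module.Basis ι W M := Module.Free.chooseBasis W M
  have hcf : ∀ (a : W) (j : ℕ), WittVector.constantCoeff ((⇑(WittVector.frobenius : W →+* W))^[j] a) =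
      WittVector.constantCoeff a ^ p ^ j := by
    intro a j
    induction j with
    | zero => simp
    | succ j ih =>
      rw [Function.iterate_succ_apply']
      show (WittVector.frobenius _).coeff 0 = _
      rw [WittVector.coeff_frobenius_charP, show ((⇑(WittVector.frobenius : W →+* W))^[j] a).coeff 0 =
        WittVector.constantCoeff a ^ p ^ j from ih, ← pow_mul, pow_succ]
  -- reduction modulo `p`
  let red : M →+ (ι → k) :=
    { toFun := fun m i => WittVector.constantCoeff (b.repr m i)
      map_zero' := funext fun i => by simp only [map_zero, Finsupp.zero_apply, Pi.zero_apply]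
      map_add' := fun m n => funext fun i => by simp only [map_add, Finsupp.add_apply, Pi.add_apply] }
  have red_smul : ∀ (a : W) (m : M), red (a • m) = WittVector.constantCoeff a • red m := fun a m => funext fun i => by
    show WittVector.constantCoeff (b.repr (a • m) i) = WittVector.constantCoeff a • WittVector.constantCoeff (b.repr m i)
    rw [map_smul, Finsupp.smul_apply, smul_eq_mul, map_mul, smul_eq_mul]
  have red_ker : ∀ m, red m = 0 → ∃ n : M, m = (p : W) • n := by
    intro m hm
    have : ∀ i, ∃ c : W, b.repr m i = c * (p : W) := fun i => by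
      obtain ⟨c, hc⟩ := Ideal.mem_span_singleton'.1 ((WittVector.mem_span_p_iff_coeff_zero_eq_zero _).2 (congrFun hm i))
      exact ⟨c, hc.symm⟩
    choose c hc using this
    refine ⟨∑ i, c i • b i, ?_⟩
    rw [Finset.smul_sum]
    conv_lhs => rw [← b.sum_repr m]
    exact Finset.sum_congr rfl fun i _ => by rw [hc, mul_comm, mul_smul]
  have red_p : ∀ n : M, red ((p : W) • n) = 0 := fun n => by
    rw [red_smul, map_natCast, CharP.cast_eq_zero, zero_smul]
  let sec : (ι → k) → M := fun v => ∑ i, WittVector.teichmuller p (v i) • b i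
  have red_sec : ∀ v, red (sec v) = v := fun v => by
    ext i
    show WittVector.constantCoeff (b.repr (sec v) i) = v i
    rw [show b.repr (sec v) i = WittVector.teichmuller p (v i) from congrFun (b.repr_sum_self _) i]
    exact WittVector.teichmuller_coeff_zero p (v i)
  have Fp : ∀ (j : ℕ) (m : M), F ((p : W) ^ j • m) = (p : W) ^ j • F m := fun j m => by
    rw [← Nat.cast_pow, Nat.cast_smul_eq_nsmul, Nat.cast_smul_eq_nsmul, map_nsmul]
  have red_F : ∀ {m n : M}, red m = red n → red (F m) = red (F n) := by
    intro m n h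
    obtain ⟨d, hd⟩ := red_ker (m - n) (by rw [map_sub, h, sub_self])
    rw [eq_add_of_sub_eq hd, map_add F, map_add]
    have := Fp 1 d
    rw [pow_one] at this
    rw [this, red_p, zero_add]
  let φ : (ι → k) →+ (ι → k) :=
    { toFun := fun v => red (F (sec v))
      map_zero' := by
        have := red_F (m := sec 0) (n := 0) (by rw [red_sec, map_zero])
        rw [this, map_zero, map_zero]
      map_add' := fun v w => by
        have := red_F (m := sec (v + w)) (n := sec v + sec w) (by rw [red_sec, map_add, red_sec, red_sec])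
        rw [this, map_add, map_add] }
  have hφred : ∀ m, φ (red m) = red (F m) := fun m => red_F (red_sec _)
  have hφ : Groth.SGA7.QLin.IsQLin (k := k) q φ := by
    intro c v
    have hc : WittVector.constantCoeff (WittVector.teichmuller p c) = c := WittVector.teichmuller_coeff_zero p c
    have h1 : red (WittVector.teichmuller p c • sec v) = c • v := by rw [red_smul, hc, red_sec]
    rw [← h1, hφred, hF, red_smul, hcf, hc]
    rfl
  have hss : Submodule.span k (Set.range φ) = ⊤ := by
    rw [show Set.range φ = Set.univ from Set.eq_univ_of_forall fun v => ?_, Submodule.span_univ]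
    obtain ⟨n, hn⟩ := hbij.2 (sec v)
    exact ⟨red n, by rw [hφred, hn, red_sec]⟩
  obtain ⟨e₀, he₀⟩ := Groth.SGA7.QLin.exists_basis_fixed hq1 hqk hφ hss
  let eidx := e₀.indexEquiv (Pi.basisFun k ι)
  let e := e₀.reindex eidx
  have he : ∀ i, φ (e i) = e i := fun i => by rw [Module.Basis.reindex_apply]; exact he₀ _
  have hsub := Groth.SGA7.QLin.sub_surjective hq1 hqk hφ
  -- lifting a fixed vector
  have hlift : ∀ v, φ v = v → ∃ m : M, F m = m ∧ red m = v := by
    intro v hv
    have step : ∀ (n : ℕ) (x : M), (∃ w, F x - x = (p : W) ^ (n + 1) • w) →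
        ∃ y, ∃ w, F (x + (p : W) ^ (n + 1) • y) - (x + (p : W) ^ (n + 1) • y) = (p : W) ^ (n + 2) • w := by
      rintro n x ⟨w, hw⟩
      obtain ⟨z, hz⟩ := hsub (red w)
      obtain ⟨w', hw'⟩ := red_ker (w + F (sec z) - sec z) (by
        have hz' : z - φ z = red w := hz
        rw [map_sub, map_add, ← hφred, red_sec, ← hz']; abel)
      refine ⟨sec z, w', ?_⟩
      rw [map_add, Fp, show F x + (p : W) ^ (n + 1) • F (sec z) - (x + (p : W) ^ (n + 1) • sec z) =
        (F x - x) + ((p : W) ^ (n + 1) • F (sec z) - (p : W) ^ (n + 1) • sec z) by abel, hw, ← smul_sub,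
        ← smul_add, show w + (F (sec z) - sec z) = w + F (sec z) - sec z by abel, hw', smul_smul, ← pow_succ]
    let Good := fun n => {x : M // ∃ w, F x - x = (p : W) ^ (n + 1) • w}
    let x0 : Good 0 := ⟨sec v, by
      obtain ⟨w, hw⟩ := red_ker (F (sec v) - sec v) (by rw [map_sub, ← hφred, red_sec, hv, sub_self])
      exact ⟨w, by rw [pow_one]; exact hw⟩⟩
    let next : ∀ n, Good n → Good (n + 1) := fun n x =>
      ⟨x.1 + (p : W) ^ (n + 1) • (step n x.1 x.2).choose, (step n x.1 x.2).choose_spec⟩
    let X : ∀ n, Good n := fun n => Nat.rec x0 (fun n x => next n x) n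
    have hX : ∀ n, ∃ y, (X (n + 1)).1 = (X n).1 + (p : W) ^ (n + 1) • y := fun n => ⟨_, rfl⟩
    have hmem : ∀ (n : ℕ) (a c : W), a ≡ c [SMOD (Ideal.span {(p : W)} ^ n • (⊤ : Submodule W W))] ↔
        a - c ∈ Ideal.span {(p : W) ^ n} := fun n a c => by
      simp [SModEq.sub_mem, Ideal.span_singleton_pow]
    have hcoord : ∀ i, ∃ L : W, ∀ n, b.repr (X n).1 i - L ∈ Ideal.span {(p : W) ^ n} := by
      intro i
      obtain ⟨L, hL⟩ := IsPrecomplete.prec (I := Ideal.span {(p : W)}) (M := W) inferInstance
        (f := fun n => b.repr (X n).1 i) (fun {m n} hmn => by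
          induction n, hmn using Nat.le_induction with
          | base => rfl
          | succ n hmn ih =>
            refine ih.trans ((hmem m _ _).2 ?_)
            obtain ⟨y, hy⟩ := hX n
            rw [hy, map_add, map_smul, Finsupp.add_apply, Finsupp.smul_apply, sub_add_cancel_left, smul_eq_mul]
            refine neg_mem (Ideal.mem_span_singleton.2 ?_)
            exact dvd_mul_of_dvd_left (pow_dvd_pow _ (by omega)) _)
      exact ⟨L, fun n => (hmem n _ _).1 (hL n)⟩
    choose L hL using hcoord
    let m := ∑ i, L i • b i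
    have hrm : ∀ i, b.repr m i = L i := fun i => congrFun (b.repr_sum_self L) i
    have hdiv : ∀ n, ∃ d : M, (X n).1 - m = (p : W) ^ n • d := by
      intro n
      choose d hd using fun i => Ideal.mem_span_singleton.1 (hL i n)
      refine ⟨∑ i, d i • b i, b.repr.injective (Finsupp.ext fun i => ?_)⟩
      rw [map_sub, map_smul, Finsupp.sub_apply, Finsupp.smul_apply, hrm, smul_eq_mul,
        show b.repr (∑ i, d i • b i) i = d i from congrFun (b.repr_sum_self d) i, hd]
    refine ⟨m, ?_, ?_⟩
    · refine sub_eq_zero.1 (b.repr.injective (Finsupp.ext fun i => ?_))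
      rw [map_zero, Finsupp.zero_apply]
      refine IsHausdorff.haus (I := Ideal.span {(p : W)}) (M := W) inferInstance _ fun n => (hmem n _ 0).2 ?_
      obtain ⟨w, hw⟩ := (X n).2
      obtain ⟨d, hd⟩ := hdiv n
      have : F m - m = (p : W) ^ n • ((p : W) • w - F d + d) := by
        rw [smul_add, smul_sub, smul_smul, ← pow_succ, ← hw, ← Fp, ← hd, map_sub]; abel
      rw [sub_zero, this, map_smul, Finsupp.smul_apply, smul_eq_mul]
      exact Ideal.mul_mem_right _ _ (Ideal.subset_span rfl)
    · obtain ⟨d, hd⟩ := hdiv (0 + 1)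
      obtain ⟨y, hy⟩ := hX 0
      have hx0 : red (X 0).1 = v := red_sec v
      generalize (X (0 + 1)).1 = a at hd hy
      generalize (X 0).1 = a₀ at hy hx0
      subst hy
      have h1 : m = a₀ + (p : W) • (y - d) := by
        rw [zero_add, pow_one] at hd
        rw [smul_sub, ← hd]; abel
      rw [h1, map_add, red_p, add_zero, hx0]
  choose m hm hred using fun i => hlift (e i) (he i)
  have hu : IsUnit (b.det m) := by
    refine WittVector.isUnit_of_coeff_zero_ne_zero _ ?_
    show WittVector.constantCoeff (b.det m) ≠ 0
    rw [Module.Basis.det_apply, RingHom.map_det]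
    have : WittVector.constantCoeff.mapMatrix (b.toMatrix m) = (Pi.basisFun k ι).toMatrix e := by
      ext i j
      simp only [RingHom.mapMatrix_apply, Matrix.map_apply, Module.Basis.toMatrix_apply, Pi.basisFun_repr]
      exact congrFun (hred j) i
    rw [this, ← Module.Basis.det_apply]
    exact ((Pi.basisFun k ι).isUnit_det e).ne_zero
  obtain ⟨hli, hsp⟩ := (b.is_basis_iff_det).2 hu
  exact ⟨ι, Module.Basis.mk hli hsp.ge, fun i => by rw [Module.Basis.mk_apply]; exact hm i⟩

end Groth.Agent.S16854
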