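import Groth.Statements.S16856
import Groth.Agent.AbVarMul.WeilRootsEq
import Groth.Agent.AbVarMul.WeilApps
-- import your own Groth.Agent.* helpers here

set_option autoImplicit false
universe u
open CategoryTheory MonoidalCategory CartesianMonoidalCategory MonObj GrpObj AlgebraicGeometry
open AbVar

namespace Groth.Agent.S16856


/-- Equality case of the Hasse–Weil–Serre bound: let k be a finite field with q elements and algebraic
closure Ω, ℓ a prime invertible in k, and X an abelian variety over k (a proper, geometrically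
integral commutative group scheme over k) of dimension g, with geometric Frobenius π_X (the
endomorphism that is the identity on points and the q-th power map on sections); assume, as is the
case, that the ℓ-adic Tate module of Ω-points T_ℓ X is free of finite rank over ℤ_ℓ, and let f_X ∈
ℤ[t] be the polynomial mapping to the characteristic polynomial of T_ℓ(π_X) (the characteristic
polynomial of Frobenius). Put m = ⌊2√q⌋. Then |trace(π_X)| = g·m (equality in the bound |trace(π_X)|
≤ g·m; the trace is minus the second-highest coefficient of f_X) if and only if either α + q/α = m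
for every root α of f_X or α + q/α = −m for every root, i.e. if and only if f_X = (t² − m t + q)^g
or f_X = (t² + m t + q)^g. -/
theorem result (k Ω : Type u) [Field k] [Finite k] [Field Ω] [Algebra k Ω] [IsAlgClosure k Ω]
    (l : ℕ) [Fact l.Prime] (hl : (l : k) ≠ 0) (X : Over (Spec (CommRingCat.of k)))
    [GrpObj X] [IsCommMonObj X] [IsProper X.hom] [GeometricallyIntegral X.hom]
    (g : ℕ) (hg : topologicalKrullDim X.left = g)
    (πX : X ⟶ X) [IsMonHom πX] (hπb : πX.left.base = 𝟙 _)
    (hπle : ∀ U : X.left.Opens, U ≤ πX.left ⁻¹ᵁ U)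
    (hπapp : ∀ (U : X.left.Opens) (s : Γ(X.left, U)), (πX.left.appLE U U (hπle U)).hom s = s ^ Nat.card k)
    [Module.Free ℤ_[l] (AbDual.TateMod X l (SGA7.pt Ω))] [Module.Finite ℤ_[l] (AbDual.TateMod X l (SGA7.pt Ω))]
    (P : Polynomial ℤ) (hP : (AbDual.tateMapₗ (l := l) (T := SGA7.pt Ω) πX).charpoly = P.map (Int.castRingHom ℤ_[l])) :
    |(P.nextCoeff : ℝ)| = (g : ℝ) * (⌊2 * Real.sqrt (Nat.card k)⌋ : ℝ) ↔
      (P = (Polynomial.X ^ 2 - Polynomial.C ⌊2 * Real.sqrt (Nat.card k)⌋ * Polynomial.X + Polynomial.C (Nat.card k : ℤ)) ^ g ∨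
        P = (Polynomial.X ^ 2 + Polynomial.C ⌊2 * Real.sqrt (Nat.card k)⌋ * Polynomial.X + Polynomial.C (Nat.card k : ℤ)) ^ g) := by
  have := IsAlgClosure.isAlgClosed k (K := Ω)
  obtain ⟨hm, hd, -, hr, hpos⟩ := Groth.AbVarMul.charpoly_frob_spec hπle hπapp Ω hl hP hg
  have hq : 0 < Nat.card k := Nat.card_pos
  have hS : ((P.map (Int.castRingHom ℂ)).roots.sum).re = -(P.nextCoeff : ℝ) := by
    rw [← neg_neg (P.map (Int.castRingHom ℂ)).roots.sum,
      ← (IsAlgClosed.splits _).nextCoeff_eq_neg_sum_roots_of_monic (hm.map _),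
      Polynomial.nextCoeff_map Int.cast_injective]
    simp
  set m : ℤ := ⌊2 * Real.sqrt (Nat.card k)⌋ with hmdef
  have hm0 : (0 : ℝ) ≤ (m : ℝ) := by
    exact_mod_cast Int.floor_nonneg.2 (by positivity)
  constructor
  · intro h
    rcases abs_choice (P.nextCoeff : ℝ) with h' | h' <;> rw [h'] at h
    · refine Or.inr ?_
      have := Groth.AbVarMul.WeilRoots.eq_quadratic_pow_of_sum_roots_eq hm hd hq hpos hr (e := -1)
        (Or.inr rfl) (by rw [hS]; push_cast; linarith)
      rw [this]; simp [hmdef, sub_neg_eq_add]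
    · refine Or.inl ?_
      have := Groth.AbVarMul.WeilRoots.eq_quadratic_pow_of_sum_roots_eq hm hd hq hpos hr (e := 1)
        (Or.inl rfl) (by rw [hS]; push_cast; linarith)
      rw [this]; simp [hmdef]
  · intro h
    have key : ∀ c : ℤ, ((Polynomial.X ^ 2 + Polynomial.C c * Polynomial.X +
        Polynomial.C (Nat.card k : ℤ)) ^ g).nextCoeff = g • c := by
      intro c
      have hF : (Polynomial.X ^ 2 + Polynomial.C c * Polynomial.X +
          Polynomial.C (Nat.card k : ℤ)).natDegree = 2 := by simpa using Polynomial.natDegree_quadratic (a := (1 : ℤ)) (b := c) (c := (Nat.card k : ℤ)) one_ne_zero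
      have hFm : (Polynomial.X ^ 2 + Polynomial.C c * Polynomial.X +
          Polynomial.C (Nat.card k : ℤ)).Monic := by
        rw [Polynomial.Monic.def, Polynomial.leadingCoeff, hF]
        simp only [Polynomial.coeff_add, Polynomial.coeff_C_mul, Polynomial.coeff_X_pow, Polynomial.coeff_X, Polynomial.coeff_C]; norm_num
      rw [hFm.nextCoeff_pow, Polynomial.nextCoeff_of_natDegree_pos (by omega), hF]
      simp only [Polynomial.coeff_add, Polynomial.coeff_C_mul, Polynomial.coeff_X_pow, Polynomial.coeff_X, Polynomial.coeff_C]; norm_num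
    rcases h with h | h
    · rw [h, sub_eq_add_neg (Polynomial.X ^ 2), ← neg_mul, ← map_neg, key]
      rw [nsmul_eq_mul, Int.cast_mul, Int.cast_natCast, abs_mul, Nat.abs_cast, Int.cast_neg, abs_neg,
        abs_of_nonneg hm0]
    · rw [h, key, nsmul_eq_mul, Int.cast_mul, Int.cast_natCast, abs_mul, Nat.abs_cast,
        abs_of_nonneg hm0]

end Groth.Agent.S16856
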