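import Groth.Statements.S16858
import Groth.Agent.StkQAff.Diag
-- import your own Groth.Agent.* helpers here

set_option autoImplicit false
set_option backward.isDefEq.respectTransparency false
set_option backward.isDefEq.respectTransparency.types false
universe u
open CategoryTheory CategoryTheory.Limits AlgebraicGeometry
open AlgSt

namespace Groth.Agent.S16858

/-- Let `S` be an affine scheme and `𝒳` an algebraic stack over `S` for the fppf topology. Then the
diagonal `𝒳 → 𝒳 ×_S 𝒳` is representable by algebraic spaces and quasi-affine if and only if there
are a scheme `U` over `S` and a functor `x : (Sch/U) → 𝒳` over `(Sch/S)`, representable by algebraic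
spaces, smooth and surjective, whose restriction to every affine open of `U` is representable by
algebraic spaces and quasi-affine. (The published statement is over the base `Spec ℤ`, and in place
of the right-hand condition stated here it allows any fpqc covering family of `𝒳` by affine schemes
whose structure functors are quasi-affine; the affine opens of a smooth surjective chart form such a
family, and conversely when the diagonal is quasi-affine every functor from an affine scheme over
the affine base `S` is quasi-affine, so the two conditions stated here are equivalent to the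
published ones over an affine base.) -/
theorem result (S : Scheme.{u}) [IsAffine S]
    (𝒳 : AlgSt.Cat S) (h𝒳 : AlgSt.IsAlgStack Scheme.fppfPrecoverage 𝒳) :
    AlgSt.RepByAlgSpWith AlgSp.IsQuasiAffineMor (FibCat.diag (FibCat.toSelf 𝒳)) ↔
      ∃ (U : Over S) (x : FibCat.overCat U ⥤ᵇ 𝒳),
        AlgSt.RepByAlgSpWith (AlgSp.LocP @Smooth) x ∧ AlgSt.RepByAlgSpWith AlgSp.IsSurjectiveMor x ∧
          ∀ (V : U.left.Opens), IsAffineOpen V →
            AlgSt.RepByAlgSpWith AlgSp.IsQuasiAffineMor
              (BasedFunctor.comp (AlgSt.overMap (Over.homMk V.ι rfl : Over.mk (V.ι ≫ U.hom) ⟶ U)) x) := by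
  have hP : (AlgSp.IsQuasiAffineMor (S := S)) =
      AlgSp.RepWith Groth.SpectralTopology.quasiAffineHom := by
    ext X Y f
    exact Groth.StkQAff.isQuasiAffineMor_iff_repWith
  rw [hP]
  constructor
  · intro h
    obtain ⟨U, x, hx, hxs⟩ := h𝒳.atlas
    refine ⟨U, x, hx, hxs, fun V hV => ?_⟩
    have : IsAffine (Over.mk (V.ι ≫ U.hom)).left := hV
    exact Groth.StkQAff.repWith_qa_of_diag h𝒳.isStack.1 h _
  · rintro ⟨U, x, hx, hxs, hqa⟩
    exact Groth.StkQAff.repWith_diag_qa_of_chart x h𝒳.isStack.1 h𝒳.diag hx hxs hqa

end Groth.Agent.S16858
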