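import Groth.Statements.S3020
import Groth.Agent.AlgGrp1.AffineCrit

set_option autoImplicit false
universe u
open CategoryTheory MonoidalCategory CartesianMonoidalCategory MonObj GrpObj AlgebraicGeometry TensorProduct
open SGA3

namespace Groth.Agent.S3020

/-- Let G be a group scheme of finite type over a field k whose underlying scheme is quasi-affine (a
quasi-compact open subscheme of an affine scheme). Then G is affine. -/
theorem result (k : Type u) [Field k] (G : Over (Spec (CommRingCat.of k))) [GrpObj G]
    [LocallyOfFiniteType G.hom] [QuasiCompact G.hom] [G.left.IsQuasiAffine] : IsAffine G.left := by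
  refine Groth.AlgGrp1.isAffine_of_separated_points (AlgebraicClosure k) G fun g hg => ?_
  apply Over.OverMorphism.ext
  refine (cancel_mono G.left.toSpecΓ).1 ?_
  rw [Scheme.toSpecΓ_naturality, Scheme.toSpecΓ_naturality]
  congr 2
  refine CommRingCat.hom_ext (RingHom.ext fun f => Groth.Agf.ptFn_bijective.1 (hg f))

end Groth.Agent.S3020
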