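import Groth.Statements.S16859
import Groth.Agent.StkGerb.StabAffine
-- import your own Groth.Agent.* helpers here

set_option autoImplicit false
universe u
open CategoryTheory CategoryTheory.Limits AlgebraicGeometry
open AlgSt

namespace Groth.Agent.S16859
set_option backward.isDefEq.respectTransparency false
set_option backward.isDefEq.respectTransparency.types false

/-- Let `𝒳` be an algebraic stack over a scheme `S` (fppf topology) whose diagonal over `S` is
representable by algebraic spaces and quasi-affine. Let `k` be a field with a morphism `Spec k → S`,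
let `x : (Sch/Spec k) → 𝒳` be a functor over `(Sch/S)` (a `k`-valued point of `𝒳`), and let `G` be a
group scheme over `Spec k` representing the automorphism presheaf of `x` on schemes over `Spec k`
(the stabilizer group scheme of `x`). Then `G` is affine and locally of finite type over `k`, i.e.
an affine algebraic group. (The published statement is over the base `Spec ℤ`; the same argument
applies to the diagonal over any base scheme.) -/
theorem result (S : Scheme.{u})
    (𝒳 : AlgSt.Cat S) (h𝒳 : AlgSt.IsAlgStack Scheme.fppfPrecoverage 𝒳)
    (hΔ : AlgSt.RepByAlgSpWith AlgSp.IsQuasiAffineMor (FibCat.diag (FibCat.toSelf 𝒳)))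
    (k : Type u) [Field k] (p : Spec (CommRingCat.of k) ⟶ S)
    (x : FibCat.overCat (Over.mk p) ⥤ᵇ 𝒳) (G : Over (Over.mk p).left) [GrpObj G]
    (hG : Gerb.AutRep x (Gerb.ptsGrp (Over.mk p) G)) :
    IsAffine G.left ∧ LocallyOfFiniteType G.hom := by
  have hX := h𝒳.isStack.1
  have h₁ := Groth.StkGerb.repWith_toBaseHom_of_diag hX hΔ x G hG
  have h₂ := Groth.StkGerb.left_prop_of_repWith_overMap
    (Groth.StkGerb.repWith_toBaseHom_of_diag hX (Groth.AlgStBasic.repWith_lft_diag_toSelf h𝒳) x G hG)
  have hl : LocallyOfFiniteType G.hom := h₂
  have : IsAffine (Over.mk p).left := inferInstanceAs (IsAffine (Spec (CommRingCat.of k)))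
  have hq : (Groth.StkGerb.toBase (Over.mk p) G).left.IsQuasiAffine :=
    Groth.StkGerb.isQuasiAffine_of_repWith_overMap h₁
  have : G.left.IsQuasiAffine := hq
  have : QuasiCompact G.hom := (quasiCompact_iff_compactSpace (Y := Spec (CommRingCat.of k)) G.hom).2 this.toCompactSpace
  exact ⟨Groth.Agent.S3020.result k G, hl⟩

end Groth.Agent.S16859
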