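import Groth.Statements.S16862
import Groth.Agent.StkGerb.GerbeApps

set_option autoImplicit false
universe u
open CategoryTheory AlgebraicGeometry
open Gerb

namespace Groth.Agent.S16862

/-- If a morphism f of algebraic stacks makes its source a gerbe over its target, then the relative
inertia of f is flat and locally of finite presentation over the source. -/
theorem result
    (S : Scheme.{u}) (𝒳 𝒴 : AlgSt.Cat S)
    (h𝒳 : AlgSt.IsAlgStack Scheme.fppfPrecoverage 𝒳) (h𝒴 : AlgSt.IsAlgStack Scheme.fppfPrecoverage 𝒴)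
    (f : 𝒳 ⥤ᵇ 𝒴) (hf : Gerb.IsGerbeOver (QuotSh.J Scheme.fppfPrecoverage S) f) :
    AlgSt.LocQ (AlgSp.LocP @Flat) (FibCat.inertiaToBase f) ∧
      AlgSt.LocQ (AlgSp.LocP @LocallyOfFinitePresentation) (FibCat.inertiaToBase f) := by
  have hff := Groth.AlgStBasic.isAlgStack_fp h𝒴.isStack h𝒴.diag h𝒳 h𝒳 f f
  obtain ⟨h₁, h₂, -⟩ := Groth.StkGerb.repWith_diag_of_isGerbeOver h𝒳 h𝒴 hf
  obtain ⟨E, hE, eE⟩ := Groth.StkGerb.exists_inertia_equiv f
  have hI : AlgSt.IsAlgStack Scheme.fppfPrecoverage (FibCat.inertia f) :=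
    (Groth.AlgStBasic.isAlgStack_iff_of_isEquivOver _ hE).2
      (Groth.AlgStBasic.isAlgStack_fp hff.isStack hff.diag h𝒳 h𝒳 _ _)
  rw [← eE]
  exact Groth.StkGerb.isFL_of_repWith hI h𝒳
    ((Groth.AlgStBasic.repWith_precomp_equiv hE _).2 (Groth.AlgStBasic.repWith_fpFst _ _ h₁))
    ((Groth.AlgStBasic.repWith_precomp_equiv hE _).2 (Groth.AlgStBasic.repWith_fpFst _ _ h₂))

end Groth.Agent.S16862
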