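import Groth.Statements.S16861
import Groth.Agent.StkGerb.Rigid.Main
-- import your own Groth.Agent.* helpers here

set_option autoImplicit false
universe u
open CategoryTheory AlgebraicGeometry
open Gerb

namespace Groth.Agent.S16861

/-- An algebraic stack is a gerbe (over some algebraic space) exactly when its inertia is flat and
locally of finite presentation over it. -/
theorem result
    (S : Scheme.{u}) (𝒳 : AlgSt.Cat S) (h𝒳 : AlgSt.IsAlgStack Scheme.fppfPrecoverage 𝒳) :
    Gerb.IsAlgGerbe Scheme.fppfPrecoverage 𝒳 ↔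
      AlgSt.LocQ (AlgSp.LocP @Flat) (FibCat.inertiaToBase (FibCat.toSelf 𝒳)) ∧
        AlgSt.LocQ (AlgSp.LocP @LocallyOfFinitePresentation) (FibCat.inertiaToBase (FibCat.toSelf 𝒳)) := by
  exact ⟨fun h => Groth.StkGerb.isFL_inertia_of_isAlgGerbe h𝒳 h,
    fun h => Groth.StkGerb.isAlgGerbe_of_isFL_inertia h𝒳 h⟩

end Groth.Agent.S16861
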