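import Groth.Statements.S16864
import Groth.Agent.StkGerb.Over

set_option autoImplicit false
universe u
open CategoryTheory AlgebraicGeometry
open Gerb

namespace Groth.Agent.S16864

/-- The base change of a gerbe along any morphism of algebraic stacks is a gerbe: if 𝒳 is a gerbe over 𝒴
along f then 𝒴' ×_𝒴 𝒳 is a gerbe over 𝒴' along the first projection. -/
theorem result
    (S : Scheme.{u}) (𝒳 𝒴 𝒴' : AlgSt.Cat S)
    (h𝒳 : AlgSt.IsAlgStack Scheme.fppfPrecoverage 𝒳) (h𝒴 : AlgSt.IsAlgStack Scheme.fppfPrecoverage 𝒴)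
    (h𝒴' : AlgSt.IsAlgStack Scheme.fppfPrecoverage 𝒴')
    (f : 𝒳 ⥤ᵇ 𝒴) (g : 𝒴' ⥤ᵇ 𝒴) (hf : Gerb.IsGerbeOver (QuotSh.J Scheme.fppfPrecoverage S) f) :
    Gerb.IsGerbeOver (QuotSh.J Scheme.fppfPrecoverage S) (FibCat.fpFst g f) := by
  open Groth.StkBase in
  refine Groth.StkGerb.isGerbeOver_baseChange (Groth.StkBase.isFibGrpd_fp h𝒴'.1.1 h𝒳.1.1 (h𝒴.1.1))
    h𝒳.1.1 h𝒴.1.1 h𝒴'.1.1 f g (FibCat.fpFst g f) (FibCat.fpSnd g f) (FibCat.fpIso g f) ?_ hf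
  refine Groth.StkBase.isEquivOver_of_iso (Groth.StkBase.fpIsoMk (Iso.refl _) (Iso.refl _) ?_) (Groth.StkBase.isEquivOver_id _)
  intro x; simp

end Groth.Agent.S16864
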