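import Groth.Statements.S16865
import Groth.Agent.StkGerb.Surj

set_option autoImplicit false
universe u
open CategoryTheory AlgebraicGeometry
open Gerb

namespace Groth.Agent.S16865

/-- Being a gerbe descends along a surjective, flat, locally finitely presented base change: if g : 𝒴' →
𝒴 is such a morphism of algebraic stacks and 𝒴' ×_𝒴 𝒳 is a gerbe over 𝒴' along the first projection,
then 𝒳 is a gerbe over 𝒴 along f. -/
theorem result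
    (S : Scheme.{u}) (𝒳 𝒴 𝒴' : AlgSt.Cat S)
    (h𝒳 : AlgSt.IsAlgStack Scheme.fppfPrecoverage 𝒳) (h𝒴 : AlgSt.IsAlgStack Scheme.fppfPrecoverage 𝒴)
    (h𝒴' : AlgSt.IsAlgStack Scheme.fppfPrecoverage 𝒴')
    (f : 𝒳 ⥤ᵇ 𝒴) (g : 𝒴' ⥤ᵇ 𝒴)
    (hg₁ : AlgSt.IsSurjective g) (hg₂ : AlgSt.LocQ (AlgSp.LocP @Flat) g)
    (hg₃ : AlgSt.LocQ (AlgSp.LocP @LocallyOfFinitePresentation) g)
    (h : Gerb.IsGerbeOver (QuotSh.J Scheme.fppfPrecoverage S) (FibCat.fpFst g f)) :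
    Gerb.IsGerbeOver (QuotSh.J Scheme.fppfPrecoverage S) f := by
  refine Groth.StkGerb.isGerbeOver_descent (Groth.StkBase.isFibGrpd_fp h𝒴'.1.1 h𝒳.1.1 (h𝒴.1.1))
    h𝒳.1.1 h𝒴.1.1 h𝒴'.1.1 f g (FibCat.fpFst g f) (FibCat.fpSnd g f) (FibCat.fpIso g f) ?_
    (Groth.StkGerb.locSurjObj_of_surjective_flat_lfp h𝒴' h𝒴 hg₁ hg₂ hg₃) h
  refine Groth.StkBase.isEquivOver_of_iso (Groth.StkBase.fpIsoMk (Iso.refl _) (Iso.refl _) ?_) (Groth.StkBase.isEquivOver_id _)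
  intro x; simp

end Groth.Agent.S16865
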