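import Groth.Statements.S16866
import Groth.Agent.StkGerb.GerbeApps

set_option autoImplicit false
universe u
open CategoryTheory AlgebraicGeometry
open Gerb

namespace Groth.Agent.S16866

/-- If π : 𝒳 → U makes the algebraic stack 𝒳 a gerbe over the algebraic space U and x : U → 𝒳 is a
section of π, then x is flat, locally of finite presentation and surjective (as a morphism
representable by algebraic spaces). -/
theorem result
    (S : Scheme.{u}) (𝒳 : AlgSt.Cat S) (h𝒳 : AlgSt.IsAlgStack Scheme.fppfPrecoverage 𝒳)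
    (U : AlgSp.Space S) (π : 𝒳 ⥤ᵇ AlgSt.ofSp U.obj)
    (hπ : Gerb.IsGerbeOver (QuotSh.J Scheme.fppfPrecoverage S) π)
    (x : AlgSt.ofSp U.obj ⥤ᵇ 𝒳) (e : BasedFunctor.comp x π ≅ BasedFunctor.id (AlgSt.ofSp U.obj)) :
    AlgSt.RepByAlgSpWith (AlgSp.LocP @Flat) x ∧
      AlgSt.RepByAlgSpWith (AlgSp.LocP @LocallyOfFinitePresentation) x ∧
      AlgSt.RepByAlgSpWith AlgSp.IsSurjectiveMor x := by
  obtain ⟨h₁, h₂, h₃⟩ :=
    Groth.StkGerb.repWith_diag_of_isGerbeOver h𝒳 (Groth.AlgStBasic.isAlgStack_ofSp U.property) hπ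
  exact ⟨Groth.AlgStBasic.repWith_section_of_diag x e h₁,
    Groth.AlgStBasic.repWith_section_of_diag x e h₂, Groth.AlgStBasic.repWith_section_of_diag x e h₃⟩

end Groth.Agent.S16866
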