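import Groth.Statements.S16867
import Groth.Agent.StkGerb.GerbeApps
import Groth.Agent.StkGerb.AutRepFp

set_option autoImplicit false
universe u
open CategoryTheory AlgebraicGeometry
open Gerb

namespace Groth.Agent.S16867

/-- Let π : 𝒳 → U make the algebraic stack 𝒳 a gerbe over the scheme U, let x be a section of π, and let
G be a group scheme over U representing the automorphism functor of x. Then G is flat and locally of
finite presentation over U. (Stated for U a scheme and the automorphism group a scheme; in general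
both are algebraic spaces.) -/
theorem result
    (S : Scheme.{u}) (U : Over S) (𝒳 : AlgSt.Cat S) (h𝒳 : AlgSt.IsAlgStack Scheme.fppfPrecoverage 𝒳)
    (π : 𝒳 ⥤ᵇ FibCat.overCat U) (hπ : Gerb.IsGerbeOver (QuotSh.J Scheme.fppfPrecoverage S) π)
    (x : FibCat.overCat U ⥤ᵇ 𝒳) (e : BasedFunctor.comp x π ≅ BasedFunctor.id (FibCat.overCat U))
    (G : Over U.left) [GrpObj G] (r : Gerb.AutRep x (Gerb.ptsGrp U G)) :
    Flat G.hom ∧ LocallyOfFinitePresentation G.hom := by
  have hU := Groth.AlgStBasic.isAlgStack_overCat (S := S) U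
  obtain ⟨h₁, h₂, -⟩ := Groth.StkGerb.repWith_diag_of_isGerbeOver h𝒳 hU hπ
  obtain ⟨Φ, hΦ, eΦ⟩ := Groth.StkGerb.exists_equiv_selfInter x h𝒳.1.1 π e G r
  have k₁ := (Groth.AlgStBasic.repWith_precomp_equiv hΦ _).2
    (Groth.AlgStBasic.repWith_fpFst x x (Groth.AlgStBasic.repWith_section_of_diag x e h₁))
  have k₂ := (Groth.AlgStBasic.repWith_precomp_equiv hΦ _).2
    (Groth.AlgStBasic.repWith_fpFst x x (Groth.AlgStBasic.repWith_section_of_diag x e h₂))
  rw [eΦ] at k₁ k₂
  exact ⟨Groth.StkGerb.left_prop_of_repWith_overMap k₁, Groth.StkGerb.left_prop_of_repWith_overMap k₂⟩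

end Groth.Agent.S16867
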