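import Groth.Statements.S16870
import Groth.Agent.StkGerb.QcCalc

set_option autoImplicit false
universe u
open CategoryTheory AlgebraicGeometry
open Gerb

namespace Groth.Agent.S16870

/-- If f : 𝒳 → 𝒴 makes 𝒳 a gerbe over 𝒴 and the diagonal of 𝒳 over the base scheme is quasi-compact,
then the diagonal of 𝒴 over the base scheme is quasi-compact. -/
theorem result
    (S : Scheme.{u}) (𝒳 𝒴 : AlgSt.Cat S)
    (h𝒳 : AlgSt.IsAlgStack Scheme.fppfPrecoverage 𝒳) (h𝒴 : AlgSt.IsAlgStack Scheme.fppfPrecoverage 𝒴)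
    (f : 𝒳 ⥤ᵇ 𝒴) (hf : Gerb.IsGerbeOver (QuotSh.J Scheme.fppfPrecoverage S) f)
    (hΔ : AlgSt.IsQuasiCompactMor Scheme.fppfPrecoverage (FibCat.diag (FibCat.toSelf 𝒳))) :
    AlgSt.IsQuasiCompactMor Scheme.fppfPrecoverage (FibCat.diag (FibCat.toSelf 𝒴)) := by
  exact Groth.StkGerb.isQuasiCompactMor_diag_toSelf_of_isGerbeOver h𝒳 h𝒴 hf hΔ

end Groth.Agent.S16870
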