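import Groth.Statements.S16871
import Groth.Agent.S10370
import Groth.Agent.StkGerb.GerbeApps
import Groth.Agent.AlgStBasic.RepCriteria
import Groth.Agent.AlgStBasic.Faithful
import Groth.Agent.AlgStBasic.StTopology
import Groth.Agent.AlgStBasic.Atlas
import Groth.Agent.AlgSp2.MonoPoint
-- import your own Groth.Agent.* helpers here

set_option autoImplicit false
universe u
open CategoryTheory AlgebraicGeometry
open Gerb

namespace Groth.Agent.S16871
set_option backward.isDefEq.respectTransparency false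
set_option backward.isDefEq.respectTransparency.types false

/-- If an algebraic stack is a gerbe (over some algebraic space), then the residual gerbe exists at
every one of its points. (Non-triviality of the conclusion rests on the monomorphism condition.) -/
theorem result
    (S : Scheme.{u}) (𝒳 : AlgSt.Cat S) (h𝒳 : AlgSt.IsAlgStack Scheme.fppfPrecoverage 𝒳)
    (X : AlgSp.Space S) (π : 𝒳 ⥤ᵇ AlgSt.ofSp X.obj)
    (hπ : Gerb.IsGerbeOver (QuotSh.J Scheme.fppfPrecoverage S) π) (x : AlgSt.Points 𝒳) :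
    Gerb.ResGerbeExists Scheme.fppfPrecoverage 𝒳 x := by
  classical
  obtain ⟨ξ, hξ⟩ := Groth.AlgStBasic.bijective_spPt.2 (AlgSt.Points.map π x)
  obtain ⟨Z, i, hi, hr, -⟩ := Groth.Agent.S10370.result X ξ
  let g : AlgSt.ofSp Z.obj ⥤ᵇ AlgSt.ofSp X.obj := AlgSt.ofSpMap i.hom
  have hX := Groth.AlgStBasic.isAlgStack_ofSp X.property
  have hZ := Groth.AlgStBasic.isAlgStack_ofSp Z.property
  have := hi
  have hinj : ∀ T, Function.Injective (i.hom.hom.app T) := Groth.AlgStBasic.injective_app_of_mono i.hom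
  have : g.toFunctor.Faithful := ⟨fun {a b} f f' h => Stk.EltObj.hom_ext (congrArg (fun m => m.hom) h)⟩
  have : g.toFunctor.Full := ⟨fun {a b} f => ⟨⟨f.hom, hinj _ (((NatTrans.naturality_apply i.hom.hom f.hom.op b.sec)).trans f.map_sec)⟩, Stk.EltObj.hom_ext rfl⟩⟩
  have hg : AlgSt.IsMono g := Groth.AlgStBasic.isMono_of_fullyFaithful hZ hX g
  obtain ⟨z, hz⟩ : ∃ z, AlgSp.Points.map i.hom z = ξ :=
    (show ξ ∈ Set.range (AlgSp.Points.map i.hom) by rw [hr]; rfl)
  have hgz : AlgSt.Points.map g (Groth.AlgStBasic.spPt z) = AlgSt.Points.map π x := by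
    rw [← hξ, ← hz]
    exact Groth.AlgStBasic.map_ofPshMap_spPt i.hom z
  have hall : ∀ z', z' = Groth.AlgStBasic.spPt z := by
    intro z'
    obtain ⟨w, rfl⟩ := Groth.AlgStBasic.bijective_spPt.2 z'
    refine congrArg _ ?_
    have : AlgSp.Points.map i.hom w = ξ := by
      have h : AlgSp.Points.map i.hom w ∈ Set.range (AlgSp.Points.map i.hom) := ⟨w, rfl⟩
      rwa [hr] at h
    exact Groth.AlgSp2.map_injective_of_mono i.hom (this.trans hz.symm)
  have hW := Groth.AlgStBasic.isAlgStack_fp hX.isStack hX.diag hZ h𝒳 g π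
  have hhom := Groth.StkGerb.isUnivHomeo_of_isGerbeOver h𝒳 hX hπ _ hZ g
  obtain ⟨w, -, hw⟩ := Groth.AlgStBasic.exists_points_fp h𝒳.isStack.1 hX.isStack.1 hZ.isStack.1 π g
    (Groth.AlgStBasic.spPt z) x hgz
  have hsub : Subsingleton (AlgSt.Points (FibCat.fp g π)) :=
    ⟨fun a b => hhom.injective ((hall _).trans (hall _).symm)⟩
  exact ⟨_, FibCat.fpSnd g π, hW, Groth.AlgStBasic.repWith_fpSnd g π hg, ⟨w⟩, hsub,
    fun p => by rw [Subsingleton.elim p w]; exact hw⟩

end Groth.Agent.S16871
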