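import Groth.Statements.S16872
import Groth.Agent.StkGerb.Rigid.Stratification
import Groth.Agent.S16871
import Groth.Agent.AlgStBasic.MonoCalc
-- import your own Groth.Agent.* helpers here

set_option autoImplicit false
universe u
open CategoryTheory AlgebraicGeometry
open Gerb

namespace Groth.Agent.S16872

/-- On an algebraic stack with quasi-compact inertia, the residual gerbe exists at every point.
(Non-triviality of the conclusion rests on the monomorphism condition.) -/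
theorem result
    (S : Scheme.{u}) (𝒳 : AlgSt.Cat S) (h𝒳 : AlgSt.IsAlgStack Scheme.fppfPrecoverage 𝒳)
    (hI : AlgSt.IsQuasiCompactMor Scheme.fppfPrecoverage (FibCat.inertiaToBase (FibCat.toSelf 𝒳)))
    (x : AlgSt.Points 𝒳) :
    Gerb.ResGerbeExists Scheme.fppfPrecoverage 𝒳 x := by
  obtain ⟨I, _, _, Q, T, -, hQ, hcov, -, -⟩ := Groth.StkGerb.exists_gerbe_stratification h𝒳 hI
  obtain ⟨i, p, hp⟩ := hcov x
  obtain ⟨X, π, hπ⟩ := (hQ i).2.2
  obtain ⟨𝒵, j, h𝒵, hj, hne, hsub, hpt⟩ :=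
    Groth.Agent.S16871.result S (AlgSt.fullSub 𝒳 (Q i)) (hQ i).1.2.1 X π hπ p
  have hk := Groth.AlgStBasic.isMono_of_isImm (hQ i).1.2.2
  refine ⟨𝒵, BasedFunctor.comp j (AlgSt.subIncl 𝒳 (Q i)), h𝒵, ?_, hne, hsub, fun z => ?_⟩
  · exact Groth.AlgStBasic.isMono_comp h𝒵.isStack.1 (hQ i).1.2.1.isStack.1 hj hk
  · rw [Groth.AlgStBasic.map_comp, hpt, hp]

end Groth.Agent.S16872
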