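import Groth.Statements.S16873
import Groth.Agent.ResGerbe.QDM.Main
-- import your own Groth.Agent.* helpers here

set_option autoImplicit false
universe u
open CategoryTheory AlgebraicGeometry
open Gerb

namespace Groth.Agent.S16873

/-- On a quasi-DM algebraic stack (stated with the diagonal over the base scheme locally quasi-finite,
which is equivalent to the absolute notion) the residual gerbe exists at every point; in particular
this holds for Deligne–Mumford stacks. (Non-triviality of the conclusion rests on the monomorphism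
condition.) -/
theorem result
    (S : Scheme.{u}) (𝒳 : AlgSt.Cat S) (h𝒳 : AlgSt.IsAlgStack Scheme.fppfPrecoverage 𝒳)
    (hq : AlgSt.IsQuasiDMOver 𝒳) (x : AlgSt.Points 𝒳) :
    Gerb.ResGerbeExists Scheme.fppfPrecoverage 𝒳 x := by
  obtain ⟨U, x₀, hx₀, hx₀s⟩ := h𝒳.atlas
  obtain ⟨u, rfl⟩ := Groth.AlgStBasic.surjective_ofChart h𝒳.isStack.1 hx₀s x
  obtain ⟨k, _, a, z, hlft, hz⟩ := Groth.ResGerbe.QDM.exists_point_lft h𝒳 hx₀
    (Groth.ResGerbe.QDM.good_of_quasiDM h𝒳 hq hx₀ u)
  obtain ⟨hA, hm⟩ := Groth.ResGerbe.isAlgStack_imQ z h𝒳 hlft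
  obtain ⟨hne, hsub⟩ := Groth.ResGerbe.points_of_surjective hA
    (Groth.ResGerbe.imLift_props z h𝒳 hlft).2.1
  refine ⟨_, AlgSt.subIncl 𝒳 (Groth.ResGerbe.imQ z), hA, hm, hne, hsub, fun p => ?_⟩
  obtain ⟨t, ht⟩ := Groth.ResGerbe.map_subIncl_imQ z h𝒳 hlft p
  rw [ht, hz t]

end Groth.Agent.S16873
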