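import Groth.Statements.S1688
import Groth.Agent.RefRank.Stalk
import Groth.Agent.KTheory.LocFree
import Groth.Agent.PropsBasic.LocFree
import Groth.Agent.Flatmor4.FlatDedekind

set_option autoImplicit false
universe u
open CategoryTheory CategoryTheory.Limits AlgebraicGeometry TopologicalSpace
open SDiv

namespace Groth.Agent.S1688

/-- Let X be a locally Noetherian integral scheme of dimension at most 1 all of whose local rings are
regular, and F a coherent module on X. Then F is torsion free (every stalk is a torsion-free module
over the local ring) if and only if F is finite locally free. -/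
theorem result (X : Scheme.{u}) [IsIntegral X] [IsLocallyNoetherian X] (hreg : ∀ x : ↥X, IsRegularLocalRing (X.presheaf.stalk x))
    (hdim : topologicalKrullDim ↥X ≤ 1) (F : X.Modules) (hF : Coh.IsCoh F) :
    (∀ x : ↥X, NoZeroSMulDivisors (X.presheaf.stalk x) (F.presheaf.stalk x)) ↔ FlatMod.IsFinLocFree F := by
    have := hF.1
    refine ⟨fun h => Groth.KTheory.LocFree.isFinLocFree_of_free_stalks hF fun x => ?_, fun h x => ?_⟩
    · have := hreg x
      have := h x
      have := Groth.RefRank.finite_stalkModule hF x
      have := Groth.Flatmor4.isBezout_of_regular_dim_le_one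
        ((Groth.Flatmor4.ringKrullDim_stalk_le x).trans hdim)
      exact Module.free_of_finite_type_torsion_free'
    · have := ((Groth.PropsBasic.LocFree.isFinLocFree_iff F).mp h).2 x
      exact ⟨fun {c v} h => smul_eq_zero.mp h⟩

end Groth.Agent.S1688
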