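import Groth.Statements.S16886
import Groth.Agent.StkGerb.Relative
import Groth.Agent.StkBase.Stack

set_option autoImplicit false
open CategoryTheory
universe v u
open Gerb

namespace Groth.Agent.S16886
open Groth.StkGerb Groth.StkBase

/-- (2) ⇒ (1): let `𝒳`, `𝒴` be stacks in groupoids over the site `(C, J)` and `F : 𝒳 ⟶ 𝒴` a functor over
`C` making `𝒳` a gerbe over `𝒴` (objects of `𝒴` come from `𝒳` locally and morphisms between images
lift locally). Then for every factorization `F = a ⋙ F'` through a category `𝒳'` over `C` with `a :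
𝒳 ⟶ 𝒳'` an equivalence in the 2-category of categories over `C` and `F' : 𝒳' ⟶ 𝒴` a functor whose
underlying functor makes `𝒳'` fibred in groupoids over `𝒴`, the category `𝒳'` over `𝒴` (through
`F'`) is a gerbe over the site `𝒴` with the topology inherited from `J`. (Only this implication is
stated; the converse is asserted in the published item with its verification not carried out.) -/
theorem result {C : Type u} [Category.{v} C]
    (J : GrothendieckTopology C) {𝒳 𝒴 𝒳' : BasedCategory.{v, max u v} C}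
    (h𝒳 : Stk.IsStack J 𝒳) (h𝒴 : Stk.IsStack J 𝒴) (F : 𝒳 ⥤ᵇ 𝒴) (hF : Gerb.IsGerbeOver J F)
    (a : 𝒳 ⥤ᵇ 𝒳') (ha : FibCat.IsEquivOver a) (F' : 𝒳' ⥤ᵇ 𝒴) (hF' : FibCat.IsFibGrpd F'.toFunctor)
    (hfac : BasedFunctor.comp a F' = F) :
    Gerb.IsGerbe (𝒴.p.restrictedTopology J) (BasedCategory.ofFunctor F'.toFunctor) := by
  subst hfac
  have h𝒳' : Stk.IsStack J 𝒳' := (isStack_iff_of_isEquivOver J ha).1 h𝒳
  refine isGerbe_over_site h𝒳' (isPrestack_of_isStack h𝒴) F' hF' (isGerbeOver_mk h𝒳'.1 (fun y => ?_) fun {x x'} b hb => ?_)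
  · refine J.superset_covering ?_ (objSieve_mem h𝒳.1 hF.1 y)
    rintro V f ⟨x, g, hg⟩
    exact ⟨a.obj x, g, hg⟩
  · obtain ⟨u, i, hi⟩ := exists_vert_preimage ha x
    obtain ⟨u', i', hi'⟩ := exists_vert_preimage ha x'
    have e₁ : 𝒳.p.obj u = 𝒳'.p.obj x := (a.w_obj u).symm.trans hi.obj_eq
    have e₂ : 𝒳.p.obj u' = 𝒳'.p.obj x' := (a.w_obj u').symm.trans hi'.obj_eq
    refine J.superset_covering ?_ (J.pullback_stable (eqToHom e₁.symm)
      (homSieve_mem h𝒳.1 hF.2 (F'.map i.hom ≫ b ≫ F'.map i'.inv)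
        ((isVert_map hi).comp (hb.comp (isVert_map hi'.inv)))))
    rintro V f ⟨u₀, φ, ψ, hφ, hψ, e⟩
    obtain ⟨h₁, h₂, eφ⟩ := (isHomLift_iff_eqToHom _ _).1 hφ
    obtain ⟨h₁', h₃, eψ⟩ := (isHomLift_iff_eqToHom _ _).1 hψ
    refine ⟨a.obj u₀, a.map φ ≫ i.hom, a.map ψ ≫ i'.hom,
      IsHomLift.of_fac' _ _ _ ((a.w_obj u₀).trans h₁) rfl (by simp [map_map, hi.map_eq, eφ]),
      IsHomLift.of_fac' _ _ _ ((a.w_obj u₀).trans h₁) (e₂.symm.trans (h₃.trans e₁)) (by simp [map_map, hi'.map_eq, eψ]), ?_⟩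
    change F'.map (a.map φ) ≫ F'.map i.hom ≫ b ≫ F'.map i'.inv = F'.map (a.map ψ) at e
    rw [F'.toFunctor.map_comp, F'.toFunctor.map_comp, ← e]
    simp

end Groth.Agent.S16886
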