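import Groth.Statements.S1689
import Groth.Agent.RefRank.Stalk
import Groth.Agent.VectorBundles.ReflexiveRegular
import Groth.Agent.KTheory.LocFree
import Groth.Agent.PropsBasic.LocFree
import Groth.Agent.Flatmor4.FlatDedekind

set_option autoImplicit false
universe u
open CategoryTheory CategoryTheory.Limits AlgebraicGeometry TopologicalSpace
open SDiv

namespace Groth.Agent.S1689

/-- Let X be a locally Noetherian scheme of dimension at most 2 all of whose local rings are regular,
and F a coherent module on X. Then F is reflexive (every stalk is a reflexive module over the local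
ring) if and only if F is finite locally free. -/
theorem result (X : Scheme.{u}) [IsLocallyNoetherian X]
    (hreg : ∀ x : ↥X, IsRegularLocalRing (X.presheaf.stalk x)) (hdim : topologicalKrullDim ↥X ≤ 2) (F : X.Modules)
    (hF : Coh.IsCoh F) : (∀ x : ↥X, Module.IsReflexive (X.presheaf.stalk x) (F.presheaf.stalk x)) ↔ FlatMod.IsFinLocFree F := by
    have := hF.1
    refine ⟨fun h => Groth.KTheory.LocFree.isFinLocFree_of_free_stalks hF fun x => ?_, fun h x => ?_⟩
    · have := hreg x
      have := h x
      have := Groth.RefRank.finite_stalkModule hF x
      exact Groth.VectorBundles.free_of_isReflexive_of_dim_le_two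
        ((Groth.Flatmor4.ringKrullDim_stalk_le x).trans hdim) _
    · have := ((Groth.PropsBasic.LocFree.isFinLocFree_iff F).mp h).2 x
      have := Groth.RefRank.finite_stalkModule hF x
      infer_instance

end Groth.Agent.S1689
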