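import Groth.Statements.S16896
import Groth.Agent.Inter.Big
import Groth.Agent.Agf.SmoothRed

set_option autoImplicit false
universe u
open CategoryTheory CategoryTheory.Limits AlgebraicGeometry
open Vanish

namespace Groth.Agent.S16896

/-- Let k be an algebraically closed field of characteristic zero and X an irreducible proper smooth
k-scheme of dimension n with an ample invertible O_X-module (a projective manifold). Let L be a
numerically effective invertible O_X-module (non-negative degree on every integral one-dimensional
closed subscheme) and L⁻¹ a tensor inverse of L. Then the Iitaka dimension of L equals n, expressed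
by the equivalent condition that some L^⊗ν with ν > 0 receives a monomorphism from an ample
invertible module (L^⊗ν ≅ A(C) with A ample and C effective), if and only if the self-intersection
number c_1(L)^n = ∫ c_1(L)^n · [O_X] (the alternating sum of Euler characteristics attached to n
copies of L⁻¹) is positive. (Only the characteristic-zero case is stated; the
positive-characteristic case assumes a lifting to the Witt vectors of length two.) -/
theorem result (k : Type u) [Field k] [IsAlgClosed k] [CharZero k]
    (X : Scheme.{u}) [X.Over (Spec (CommRingCat.of k))] [IsProper (X ↘ Spec (CommRingCat.of k))]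
    [Smooth (X ↘ Spec (CommRingCat.of k))] [IrreducibleSpace X] (n : ℕ) (hn : topologicalKrullDim X = n)
    (H : X.Modules) (hH : CohB1.IsAmple H) (L Linv : X.Modules) (hL : PicF.IsInvertible L) (hLinv : ClSub.IsInverseOf Linv L)
    (hnef : (∀ (Y : Scheme.{u}) (i : Y ⟶ X) [IsClosedImmersion i], IsIntegral Y → topologicalKrullDim Y = 1 →
      0 ≤ Pic13.curveDeg k (i ≫ (X ↘ Spec (CommRingCat.of k))) ((Scheme.Modules.pullback i).obj L))) :
    (∃ (ν : ℕ) (A : X.Modules) (φ : A ⟶ CohB1.tensorPow L ν), 0 < ν ∧ CohB1.IsAmple A ∧ Mono φ) ↔
      0 < FGA.intNum k X n (fun _ : Fin n => Linv) (Coh.structureModule X) := by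
  have : IsReduced X := Agf.isReduced_of_smooth (X ↘ Spec (CommRingCat.of k))
  have : IsIntegral X := isIntegral_of_irreducibleSpace_of_isReduced X
  have hLM : ClSub.IsInverseOf L Linv := PicAux.isInverseOf_symm hLinv
  have hN := Inter.nonneg_of_isNef k hL hLM hnef
  rw [Inter.intNum_eq k hn.le, List.ofFn_const]
  exact ⟨Inter.pos_of_hasAmpleSub k hn hL hLM hN, Inter.hasAmpleSub_of_pos k hn hH hL hLM hN⟩

end Groth.Agent.S16896
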