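import Groth.Statements.S1690
import Groth.Agent.RefRank.BigOpen

set_option autoImplicit false
universe u
open CategoryTheory CategoryTheory.Limits AlgebraicGeometry TopologicalSpace
open SDiv

namespace Groth.Agent.S1690

/-- (1) if and only if (3): let X be an integral locally Noetherian normal scheme and F a coherent
module. Then F is reflexive (stalkwise) if and only if there is an open subscheme j : U ⟶ X such
that every point outside U has local ring of dimension at least 2, the restriction of F to U is
finite locally free, and the canonical map F ⟶ j_* j^* F is an isomorphism. -/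
theorem result (X : Scheme.{u}) [IsIntegral X] [IsLocallyNoetherian X] (hX : Pi1.IsNormalScheme X)
    (F : X.Modules) (hF : Coh.IsCoh F) :
    (∀ x : ↥X, Module.IsReflexive (X.presheaf.stalk x) (F.presheaf.stalk x)) ↔
      ∃ U : X.Opens, (∀ x : ↥X, x ∉ U → (2 : WithBot ℕ∞) ≤ ringKrullDim (X.presheaf.stalk x)) ∧
        FlatMod.IsFinLocFree (F.restrict U.ι) ∧ IsIso ((Scheme.Modules.restrictAdjunction U.ι).unit.app F) := by
    refine ⟨fun h => Groth.RefRank.exists_bigOpen hX hF ((Groth.RefRank.isReflexive_iff_forall hF).mpr h),
      fun ⟨U, h1, h2, h3⟩ x => Groth.RefRank.isReflexiveAt_of_bigOpen hX hF h1 h2 x⟩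

end Groth.Agent.S1690
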