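import Groth.Statements.S16900
import Groth.Agent.SGA7.CyclicCover

set_option autoImplicit false
universe u
open Polynomial
open Vanish

namespace Groth.Agent.S16900

/-- Let k be an algebraically closed field and B an integral domain of finite type over k all of whose
localizations at primes are regular (an affine open Spec B of a manifold); let N ≥ 1 be invertible
in k, u a unit of B, α a natural number and f₁ ≠ 0 an element of B such that all local rings of
B/f₁B are regular (the divisor D₁ = V(f₁) is non-singular; f₁ may be a unit). With A' = B[t]/(t^N −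
u·f₁^α) (the algebra of the N-th root of the section u·f₁^α) and K = A'[1/f₁], let A ⊆ K be the
B-subalgebra generated by the N elements t^i · f₁^(−⌊iα/N⌋), 0 ≤ i < N. Then A is finite over B, A
is the integral closure of A' in K (Spec A is the normalization of Spec A', finite and normal over
Spec B), and Spec A is non-singular: every localization of A at a prime ideal is a regular local
ring. -/
theorem result (k : Type u) [Field k] [IsAlgClosed k]
    (B : Type u) [CommRing B] [IsDomain B] [Algebra k B] [Algebra.FiniteType k B]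
    (hreg : ∀ (P : Ideal B) [P.IsPrime], IsRegularLocalRing (Localization.AtPrime P))
    (N : ℕ) (hN : 0 < N) (hNk : IsUnit ((N : ℕ) : k)) (u : Bˣ) (α : ℕ) (f₁ : B) (hf₁ : f₁ ≠ 0)
    (hD : ∀ (P : Ideal (B ⧸ Ideal.span ({f₁} : Set B))) [P.IsPrime], IsRegularLocalRing (Localization.AtPrime P))
    (A : Subalgebra B (Localization.Away
      (algebraMap B (AdjoinRoot (X ^ N - C ((u : B) * f₁ ^ α) : B[X])) f₁)))
    (hA : A = Algebra.adjoin B (Set.range fun i : Fin N =>
      algebraMap (AdjoinRoot (X ^ N - C ((u : B) * f₁ ^ α) : B[X])) (Localization.Away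
        (algebraMap B (AdjoinRoot (X ^ N - C ((u : B) * f₁ ^ α) : B[X])) f₁))
        (AdjoinRoot.root (X ^ N - C ((u : B) * f₁ ^ α) : B[X]) ^ (i : ℕ)) *
      IsLocalization.Away.invSelf (S := Localization.Away
        (algebraMap B (AdjoinRoot (X ^ N - C ((u : B) * f₁ ^ α) : B[X])) f₁))
        (algebraMap B (AdjoinRoot (X ^ N - C ((u : B) * f₁ ^ α) : B[X])) f₁) ^ ((i : ℕ) * α / N))) :
    Module.Finite B A ∧
      IsIntegralClosure A (AdjoinRoot (X ^ N - C ((u : B) * f₁ ^ α) : B[X]))
        (Localization.Away (algebraMap B (AdjoinRoot (X ^ N - C ((u : B) * f₁ ^ α) : B[X])) f₁)) ∧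
      ∀ (Q : Ideal A) [Q.IsPrime], IsRegularLocalRing (Localization.AtPrime Q) := by
  classical
  subst hA
  let p : B[X] := X ^ N - C ((u : B) * f₁ ^ α)
  let A' := AdjoinRoot p
  let K := Localization.Away (algebraMap B A' f₁)
  have hp : p.Monic := monic_X_pow_sub_C _ hN.ne'
  have hdeg : p.degree = N := degree_X_pow_sub_C hN _
  have : IsNoetherianRing B := Algebra.FiniteType.isNoetherianRing k B
  have hNB : IsUnit ((N : ℕ) : B) := by simpa using hNk.map (algebraMap k B)
  have hinj : Function.Injective (algebraMap A' K) := by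
    refine IsLocalization.injective K (M := Submonoid.powers (algebraMap B A' f₁)) (Submonoid.powers_le.mpr ?_)
    rw [mem_nonZeroDivisors_iff_right]
    intro a ha
    obtain ⟨q, rfl⟩ := AdjoinRoot.mk_surjective a
    rw [AdjoinRoot.algebraMap_eq, ← AdjoinRoot.mk_C, ← map_mul, AdjoinRoot.mk_eq_zero,
      ← modByMonic_eq_zero_iff_dvd hp, mul_comm, ← smul_eq_C_mul, smul_modByMonic, smul_eq_zero] at ha
    rw [AdjoinRoot.mk_eq_zero, ← modByMonic_eq_zero_iff_dvd hp]
    exact ha.resolve_left hf₁
  let Φ : Kˣ := ⟨algebraMap A' K (algebraMap B A' f₁), IsLocalization.Away.invSelf (algebraMap B A' f₁),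
    IsLocalization.Away.mul_invSelf _, (mul_comm _ _).trans (IsLocalization.Away.mul_invSelf _)⟩
  have hΦ : (Φ : K) = algebraMap B K f₁ := (IsScalarTower.algebraMap_apply B A' K f₁).symm
  have hroot : algebraMap A' K (AdjoinRoot.root p) ^ N = algebraMap B K (u : B) * algebraMap B K f₁ ^ α := by
    rw [← map_pow, ← map_pow, ← map_mul, IsScalarTower.algebraMap_apply B A' K]
    congr 1
    rw [← sub_eq_zero]
    have := AdjoinRoot.eval₂_root p
    simp only [p, eval₂_sub, eval₂_pow, eval₂_X, eval₂_C] at this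
    exact this
  have hTu : IsUnit (algebraMap A' K (AdjoinRoot.root p)) := by
    rw [← isUnit_pow_iff hN.ne', hroot, ← hΦ]
    exact (u.isUnit.map _).mul (Φ.isUnit.pow α)
  let D : Groth.SGA7.CyclicCover.Data B K :=
    { N := N, α := α, hN := hN, f := f₁, u := u, T := hTu.unit, Φ := Φ, hΦ := hΦ
      hT := Units.ext (by
        rw [Units.val_pow_eq_pow_val, Units.val_mul, Units.val_pow_eq_pow_val, IsUnit.unit_spec, hroot, hΦ]
        rfl) }
  have hli : D.Indep := by
    intro c hc r
    let q : B[X] := ∑ r : Fin N, C (c r) * X ^ (r : ℕ)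
    have hq : AdjoinRoot.mk p q = 0 := by
      refine hinj ?_
      rw [map_zero, ← hc]
      simp only [q, map_sum, map_mul, map_pow, AdjoinRoot.mk_C, AdjoinRoot.mk_X]
      refine Finset.sum_congr rfl fun r _ => ?_
      rw [Algebra.smul_def, IsScalarTower.algebraMap_apply B A' K]
      rfl
    have hq0 : q = 0 := eq_zero_of_dvd_of_degree_lt (AdjoinRoot.mk_eq_zero.mp hq)
      (lt_of_lt_of_eq (degree_sum_fin_lt c) hdeg.symm)
    have h2 := congrArg (fun s : B[X] => s.coeff (r : ℕ)) hq0
    simpa [q, finset_sum_coeff, Fin.val_inj, coeff_X_pow] using h2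
  have hAmem : ∀ a : A', algebraMap A' K a ∈ D.alg := by
    intro a
    obtain ⟨q, rfl⟩ := AdjoinRoot.mk_surjective a
    induction q using Polynomial.induction_on' with
    | add x y hx hy => rw [map_add, map_add]; exact add_mem hx hy
    | monomial n c =>
      rw [← C_mul_X_pow_eq_monomial, map_mul, map_mul, map_pow, map_pow, AdjoinRoot.mk_C, AdjoinRoot.mk_X,
        show algebraMap A' K (AdjoinRoot.of p c) = algebraMap B K c from (IsScalarTower.algebraMap_apply B A' K c).symm]
      exact mul_mem (D.alg.algebraMap_mem c) (pow_mem D.T_mem n)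
  have hK : ∀ x : K, ∃ n : ℕ, x * (D.Φ : K) ^ n ∈ D.alg := by
    intro x
    obtain ⟨n, a, ha⟩ := IsLocalization.Away.surj (algebraMap B A' f₁) x
    exact ⟨n, ha.symm ▸ hAmem a⟩
  have hDA : D.alg = Algebra.adjoin B (Set.range fun i : Fin N =>
      algebraMap A' K (AdjoinRoot.root p ^ (i : ℕ)) *
        IsLocalization.Away.invSelf (S := K) (algebraMap B A' f₁) ^ ((i : ℕ) * α / N)) := by
    refine congrArg (Algebra.adjoin B) (congrArg Set.range (funext fun i => ?_))
    show ((D.T ^ ((i : ℕ) : ℤ) * D.Φ ^ (-((((i : ℕ) : ℤ) * (α : ℤ)) / (N : ℤ))) : Kˣ) : K) = _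
    rw [zpow_natCast, ← Nat.cast_mul, ← Int.natCast_div, zpow_neg, zpow_natCast, ← inv_pow, Units.val_mul,
      Units.val_pow_eq_pow_val, Units.val_pow_eq_pow_val, map_pow]
    rfl
  have hreg' : ∀ (Q : Ideal D.alg) [Q.IsPrime], IsRegularLocalRing (Localization.AtPrime Q) :=
    fun Q _ => D.regular hNB hf₁ hli hreg hD Q
  rw [← hDA]
  refine ⟨D.finite, ?_, hreg'⟩
  refine ⟨Subtype.val_injective, fun {x} => ⟨fun hx => ?_, fun ⟨y, hy⟩ => ?_⟩⟩
  · let := ((algebraMap A' K).codRestrict D.alg.toSubring hAmem).toAlgebra' (fun a b => mul_comm (G := D.alg) _ b)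
    have : IsScalarTower A' D.alg K := IsScalarTower.of_algebraMap_eq fun a => rfl
    exact ⟨⟨x, D.mem_of_isIntegral hf₁ hli hreg' hK hx.tower_top⟩, rfl⟩
  · have := D.finite
    have h1 : IsIntegral B y := Algebra.IsIntegral.isIntegral y
    rw [← hy]
    exact (h1.map (IsScalarTower.toAlgHom B D.alg K)).tower_top

end Groth.Agent.S16900
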