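import Groth.Statements.S16904
import Groth.Agent.Inter.Semiample

set_option autoImplicit false
universe u
open CategoryTheory CategoryTheory.Limits AlgebraicGeometry
open Vanish

namespace Groth.Agent.S16904

/-- Let k be an algebraically closed field of characteristic zero and X an irreducible proper smooth
k-scheme of dimension n with an ample invertible O_X-module (a projective manifold); let L be a
semi-ample invertible O_X-module (some L^⊗μ with μ > 0 is globally generated; such L is numerically
effective) with tensor inverse L⁻¹. Then for every natural number m, c_1(L)^m is numerically trivial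
— (L^m · V) = 0 for every integral closed subscheme V ⊆ X of dimension m — if and only if κ(L) < m
in the growth form: there are no ν > 0 and a > 0 with μ^m ≤ a · dim_k H^0(X, L^⊗νμ) for all μ ≥ 1.
(This expresses ν(L) = κ(L) for semi-ample L; characteristic zero only.) -/
theorem result (k : Type u) [Field k] [IsAlgClosed k] [CharZero k]
    (X : Scheme.{u}) [X.Over (Spec (CommRingCat.of k))] [IsProper (X ↘ Spec (CommRingCat.of k))]
    [Smooth (X ↘ Spec (CommRingCat.of k))] [IrreducibleSpace X] (n : ℕ) (hn : topologicalKrullDim X = n)
    (H : X.Modules) (hH : CohB1.IsAmple H) (L Linv : X.Modules) (hL : PicF.IsInvertible L) (hLinv : ClSub.IsInverseOf Linv L)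
    (hsa : ∃ μ : ℕ, 0 < μ ∧ Curv2.IsGloballyGenerated (CohB1.tensorPow L μ))
    (m : ℕ) :
    (∀ (V : Scheme.{u}) (i : V ⟶ X) [IsClosedImmersion i], IsIntegral V → topologicalKrullDim V = (m : ℕ) →
      FGA.intNum k X n (fun _ : Fin m => Linv) ((Scheme.Modules.pushforward i).obj (Coh.structureModule V)) = 0) ↔ ¬ (∃ ν a : ℕ, 0 < ν ∧ 0 < a ∧ ∀ μ : ℕ, 1 ≤ μ →
        μ ^ m ≤ a * Module.finrank k (Coh.HH X (CohB1.tensorPow L (ν * μ)) 0)) := by
  have hN : IsNoetherian X := Inter.isNoetherian k
  have hLM : ClSub.IsInverseOf L Linv := PicAux.isInverseOf_symm hLinv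
  have hM : PicF.IsInvertible Linv := PicAux.isInvertible_of_isInverseOf hL hLM
  have hnef := Inter.nonneg_of_semiample k hL hLM hsa
  have hlist : ∀ N ∈ List.replicate m Linv, PicF.IsInvertible N :=
    fun N hN' => (List.eq_of_mem_replicate hN').symm ▸ hM
  constructor
  · intro hm
    have hvan : Inter.Vanishes k (List.replicate m Linv) :=
      Inter.vanishes_of_integral k hlist fun ξ hξ => by
        rw [List.length_replicate] at hξ
        have h := hm _ (IntMult.ptIdeal ξ).subschemeι (CohTwo.isIntegral_closure_subscheme rfl)
          ((Inter.dim_ptIdeal_subscheme ξ).trans hξ)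
        rw [Inter.intNum_eq k hn.le, List.ofFn_const] at h
        exact h
    have hO : Coh.IsCoh (Coh.structureModule X) :=
      Inter.isCoh_of_isInvertible (EulerDeg.isInvertible_structureModule X)
    cases m with
    | zero =>
      obtain ⟨z, -, hzc⟩ := Inter.exists_closed_point (genericPoint X)
      have hd : topologicalKrullDim (closure ({z} : Set X)) ≤ ((0 : ℕ) : WithBot ℕ∞) := by
        rw [Variety2.Dim.dim_closure_singleton, (Variety2.Dim.height_eq_zero_iff z).2 hzc]
        rfl
      exact absurd (hvan _ (KTheory.Devissage.isCoh_closureStructureSheaf z)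
        ((LocCohTransform.topologicalKrullDim_mono
          (KTheory.Devissage.support_closureStructureSheaf_subset z)).trans hd))
        (Inter.euler_point_pos k z hd).ne'
    | succ m =>
      exact Inter.not_growth_of_bnd k (Inter.bnd_of_nef_vanishing k hH hL hLM hnef hvan hO)
  · intro hgrow V i _ hV hVd
    by_contra hne
    rw [Inter.intNum_eq k hn.le, List.ofFn_const] at hne
    let _ : IsIntegral V := hV
    have : IsLocallyNoetherian V := LocallyOfFiniteType.isLocallyNoetherian i
    obtain ⟨hc, hs⟩ := Inter.push_structure_facts (X := X) i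
    have hd : topologicalKrullDim (CohB1.support ((Coh.push i).obj (Coh.structureModule V))) ≤
        ((m : ℕ) : WithBot ℕ∞) := by
      rw [hs, ← i.isClosedEmbedding.isEmbedding.toHomeomorph.isHomeomorph.topologicalKrullDim_eq _, hVd]
    have hnn : Inter.Nonneg k (List.replicate m Linv) := Inter.kleiman k m X H L Linv hH hL hLM hnef
    refine hne (le_antisymm (not_lt.1 fun hpos => ?_) (hnn _ hc (by simpa using hd)))
    have : ∃ ξ : X, topologicalKrullDim (closure ({ξ} : Set X)) = (m : WithBot ℕ∞) ∧
        0 < Inter.delta k (List.replicate m Linv) (Cyc.closureStructureSheaf ξ) := by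
      by_contra hcon
      push Not at hcon
      have hv : Inter.Vanishes k (List.replicate m Linv) := Inter.vanishes_of_integral k hlist fun ξ hξ => by
        rw [List.length_replicate] at hξ
        exact le_antisymm (hcon ξ hξ) (hnn _ (KTheory.Devissage.isCoh_closureStructureSheaf ξ)
          (by simpa using (LocCohTransform.topologicalKrullDim_mono
            (KTheory.Devissage.support_closureStructureSheaf_subset ξ)).trans hξ.le))
      exact hpos.ne' (hv _ hc (by simpa using hd))
    obtain ⟨ξ, hξ, hξpos⟩ := this
    exact hgrow (Inter.growth_of_semiample k hL hLM hsa hξ hξpos)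

end Groth.Agent.S16904
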