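import Groth.Statements.S16909
import Groth.Agent.Ega2Proj.Spans
import Groth.Agent.Ega2Proj.QuasiAffineAmple

set_option autoImplicit false
universe u
open CategoryTheory CategoryTheory.Limits AlgebraicGeometry
open ResProp

namespace Groth.Agent.S16909

/-- Let `X` be a quasi-compact and quasi-separated scheme on which every quasi-coherent module is
globally generated (a quotient of a free module on some index type, i.e. the structure sheaf is a
generating family). Then `X` is quasi-affine. No separatedness hypothesis is made; it follows. (The
published statement is for an algebraic stack over an algebraic space with affine stabilizer groups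
at closed points and concludes that it is representable by a quasi-affine morphism; that general
case rests on results outside this text, and this row is the final step of its proof, the case of a
scheme.) -/
theorem result (X : Scheme.{u}) [CompactSpace X]
    [QuasiSeparatedSpace X] (h : ∀ M : X.Modules, Coh.IsQCoh M → Curv2.IsGloballyGenerated M) :
    X.IsQuasiAffine := by
  refine Groth.Ega2Proj.isQuasiAffine_of_isAmple_structure
    (Groth.Ega2Proj.isAmple_of_spans_idealMod (Groth.Ega2Proj.isInvertible_structure X) fun I hI => ⟨0, ?_⟩)
  have hft : CohB1.IsFT (ClSub.idealMod I) :=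
    (Groth.QCohMod.isFT_iff _).2 fun U hU => by
      have : Module.Finite Γ(X, U) (I.ideal ⟨U, hU⟩) := Module.Finite.iff_fg.2 (hI ⟨U, hU⟩)
      exact Module.Finite.equiv (Groth.OmegaSheaf.idealSecEquiv I ⟨U, hU⟩).symm
  have hmono : Mono (ClSub.idealModι I) := inferInstanceAs (Mono (kernel.ι (ClSub.toSubscheme I)))
  obtain ⟨ι, p, hp⟩ := h _ (Groth.OmegaSheaf.isQCoh_idealMod I)
  have : Epi (show (∐ fun _ : ι => Coh.structureModule X) ⟶ ClSub.idealMod I from p) := hp
  have hs : Groth.Ega2Proj.SpansStalks (ClSub.idealMod I) :=
    Groth.Ega2Proj.spansStalks_of_epi_free (show (∐ fun _ : ι => Coh.structureModule X) ⟶ ClSub.idealMod I from p)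
  obtain ⟨e⟩ := Groth.PicAux.tensorPow_structure (X := X) (0 + 1)
  exact hs.of_iso ((SecTwist.unitorR _).symm ≪≫ PicGrp.tensorModIso (Iso.refl _) e.symm)

end Groth.Agent.S16909
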