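import Groth.Statements.S16917
import Groth.Agent.Variety2.Uncountable
import Groth.Agent.Variety2.IrrFibres

set_option autoImplicit false
open CategoryTheory AlgebraicGeometry
universe u
open Variety

namespace Groth.Agent.S16917

/-- Let k be an uncountable algebraically closed field, X a k-scheme of finite type and Z₀, Z₁, …
countably many closed subsets of X. Then the countable union of the Zₙ, read through closed points,
has a unique irredundant decomposition: there is exactly one countable family S of irreducible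
closed subsets of X, pairwise not contained in one another, such that a closed point of X lies in
some member of S if and only if it lies in some Zₙ. (The published statement is the existence and
uniqueness of the irredundant decomposition of a countable union of algebraic varieties into
c-components, a variety being read through its closed points; with all points of the scheme the
uniqueness would not need the uncountable field.) -/
theorem result (k : Type u) [Field k] [IsAlgClosed k]
    [Uncountable k] (X : Scheme.{u}) (sX : X ⟶ Spec (CommRingCat.of k)) [LocallyOfFiniteType sX]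
    [QuasiCompact sX] (Z : ℕ → TopologicalSpace.Closeds X) :
    ∃! S : Set (TopologicalSpace.Closeds X), S.Countable ∧ (∀ T ∈ S, IsIrreducible (T : Set X)) ∧
      IsAntichain (· ≤ ·) S ∧
      {x : X | IsClosed ({x} : Set X) ∧ ∃ T ∈ S, x ∈ T} =
        {x : X | IsClosed ({x} : Set X) ∧ ∃ n, x ∈ Z n} := by
  classical
  have := Groth.Variety2.Dim.noetherianSpace_of sX
  choose F hFf hFc hFi hF using fun n =>
    TopologicalSpace.NoetherianSpace.exists_finite_set_isClosed_irreducible (Z n).isClosed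
  let C : Set (TopologicalSpace.Closeds X) := {T | ∃ n, (T : Set X) ∈ F n}
  have hCc : C.Countable := by
    have h : (⋃ n, F n).Countable := Set.countable_iUnion fun n => (hFf n).countable
    have h' : (SetLike.coe ⁻¹' (⋃ n, F n) : Set (TopologicalSpace.Closeds X)).Countable :=
      h.preimage SetLike.coe_injective
    refine h'.mono ?_
    rintro T ⟨n, hn⟩
    exact Set.mem_iUnion.2 ⟨n, hn⟩
  have hCi : ∀ T ∈ C, IsIrreducible (T : Set X) := fun T ⟨n, hn⟩ => hFi n _ hn
  choose g hg using fun (T : TopologicalSpace.Closeds X) (h : IsIrreducible (T : Set X)) =>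
    QuasiSober.sober h T.isClosed
  obtain ⟨N, hN⟩ : ∃ N : ℕ, ∀ x : X, Order.height x ≤ (N : ℕ∞) := by
    choose gen hgen hmax using fun (Z : irreducibleComponents X) =>
      Groth.Variety2.Dim.exists_generic_of_component Z.2
    choose m hm using fun Z => Groth.Variety2.Dim.exists_height_eq sX (gen Z)
    have : Finite (irreducibleComponents X) :=
      TopologicalSpace.NoetherianSpace.finite_irreducibleComponents.to_subtype
    have := Fintype.ofFinite (irreducibleComponents X)
    refine ⟨Finset.univ.sup m, fun x => ?_⟩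
    let Z : irreducibleComponents X := ⟨_, irreducibleComponent_mem_irreducibleComponents x⟩
    refine (Order.height_mono (Scheme.le_iff_specializes.2
      ((hgen Z).specializes mem_irreducibleComponent))).trans ?_
    rw [hm Z]
    exact Nat.cast_le.2 (Finset.le_sup (Finset.mem_univ Z))
  have hex : ∀ T ∈ C, ∃ T' ∈ C, T ≤ T' ∧ ∀ T'' ∈ C, T' ≤ T'' → T'' = T' := by
    intro T hT
    let ht : TopologicalSpace.Closeds X → ℕ := fun T =>
      if h : IsIrreducible (T : Set X) then N - (Order.height (g T h)).toNat else 0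
    obtain ⟨T', ⟨hT'C, hTT'⟩, hmin⟩ := WellFounded.has_min
      (InvImage.wf ht wellFounded_lt) {T' | T' ∈ C ∧ T ≤ T'} ⟨T, hT, le_rfl⟩
    refine ⟨T', hT'C, hTT', fun T'' hT'' hle => ?_⟩
    by_contra hne
    refine hmin T'' ⟨hT'', hTT'.trans hle⟩ ?_
    have i1 := hCi T' hT'C
    have i2 := hCi T'' hT''
    have hlt : g T' i1 < g T'' i2 := Groth.Variety2.Dim.lt_iff.2
      ⟨(hg T'' i2).specializes (hle (hg T' i1).mem), fun e => hne (SetLike.coe_injective
        ((hg T'' i2).def.symm.trans (e ▸ (hg T' i1).def)))⟩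
    have h1 := Groth.Variety2.Dim.height_toNat_lt sX hlt
    obtain ⟨a, ha⟩ := Groth.Variety2.Dim.exists_height_eq sX (g T' i1)
    obtain ⟨b, hb⟩ := Groth.Variety2.Dim.exists_height_eq sX (g T'' i2)
    have h2 := hN (g T'' i2)
    rw [ha, hb] at h1
    rw [hb] at h2
    have h1 : a < b := by exact_mod_cast h1
    have h2 : b ≤ N := by exact_mod_cast h2
    simp only [InvImage, ht, dif_pos i1, dif_pos i2, ha, hb, ENat.toNat_natCast]
    omega
  let S : Set (TopologicalSpace.Closeds X) := {T | T ∈ C ∧ ∀ T'' ∈ C, T ≤ T'' → T'' = T}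
  have hSeq : {x : X | IsClosed ({x} : Set X) ∧ ∃ T ∈ S, x ∈ T} =
      {x : X | IsClosed ({x} : Set X) ∧ ∃ n, x ∈ Z n} := by
    ext x
    constructor
    · rintro ⟨hx, T, ⟨⟨n, hn⟩, -⟩, hxT⟩
      refine ⟨hx, n, ?_⟩
      rw [← SetLike.mem_coe, hF n]
      exact Set.mem_sUnion_of_mem hxT hn
    · rintro ⟨hx, n, hxn⟩
      rw [← SetLike.mem_coe, hF n] at hxn
      obtain ⟨A, hA, hxA⟩ := hxn
      obtain ⟨T', hT', hle, hmax⟩ := hex ⟨A, hFc n A hA⟩ ⟨n, hA⟩
      exact ⟨hx, T', ⟨hT', hmax⟩, hle hxA⟩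
  have hSa : IsAntichain (· ≤ ·) S := fun T hT T' hT' hne hle => hne (hT.2 T' hT'.1 hle).symm
  refine ⟨S, ⟨hCc.mono fun T h => h.1, fun T h => hCi T h.1, hSa, hSeq⟩, ?_⟩
  rintro S' ⟨hc', hi', ha', he'⟩
  have key : ∀ S₁ S₂ : Set (TopologicalSpace.Closeds X), S₂.Countable →
      (∀ T ∈ S₁, IsIrreducible (T : Set X)) →
      {x : X | IsClosed ({x} : Set X) ∧ ∃ T ∈ S₁, x ∈ T} = {x : X | IsClosed ({x} : Set X) ∧ ∃ T ∈ S₂, x ∈ T} →
      ∀ T ∈ S₁, ∃ T' ∈ S₂, T ≤ T' := by
    intro S₁ S₂ hc hi he T hT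
    have := hc.to_subtype
    obtain ⟨⟨T', hT'⟩, hle⟩ := Groth.Variety2.Uncountable.exists_subset_of_cover sX
      (fun A : S₂ => (A.1 : Set X)) (fun A => A.1.isClosed) T.isClosed (hi T hT)
      (fun x hx hxc => by
        obtain ⟨-, A, hA, hxA⟩ := (Set.ext_iff.1 he x).1 ⟨hxc, T, hT, hx⟩
        exact ⟨⟨A, hA⟩, hxA⟩)
    exact ⟨T', hT', hle⟩
  have hsub : ∀ S₁ S₂ : Set (TopologicalSpace.Closeds X), IsAntichain (· ≤ ·) S₁ →
      (∀ T ∈ S₁, ∃ T' ∈ S₂, T ≤ T') → (∀ T ∈ S₂, ∃ T' ∈ S₁, T ≤ T') → S₁ ⊆ S₂ := by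
    intro S₁ S₂ hanti h12 h21 T hT
    obtain ⟨T', hT', hle⟩ := h12 T hT
    obtain ⟨T'', hT'', hle'⟩ := h21 T' hT'
    have e : T = T'' := hanti.eq hT hT'' (hle.trans hle')
    rwa [show T = T' from le_antisymm hle (e ▸ hle')]
  have he : {x : X | IsClosed ({x} : Set X) ∧ ∃ T ∈ S', x ∈ T} =
      {x : X | IsClosed ({x} : Set X) ∧ ∃ T ∈ S, x ∈ T} := he'.trans hSeq.symm
  have h1 := key S' S (hCc.mono fun T h => h.1) hi' he
  have h2 := key S S' hc' (fun T h => hCi T h.1) he.symm
  exact Set.Subset.antisymm (hsub S' S ha' h1 h2) (hsub S S' hSa h2 h1)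

end Groth.Agent.S16917
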