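import Groth.Statements.S16918
import Groth.Agent.GrpschAbsch.FieldCountable
import Groth.Agent.GrpschAbsch.FieldComp
import Groth.Agent.Variety2.Uncountable
import Mathlib.AlgebraicGeometry.AlgClosed.Basic

set_option autoImplicit false
set_option linter.style.haveILetI false
universe u
open CategoryTheory MonoidalCategory CartesianMonoidalCategory MonObj GrpObj AlgebraicGeometry
open GrpSch

namespace Groth.Agent.S16918

section
open CategoryTheory.Limits
variable {k : Type u} [Field k] [IsAlgClosed k] {A : Over (Spec (CommRingCat.of k))} [GrpObj A] [IsProper A.hom]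

omit [GrpObj A] [IsProper A.hom] in
theorem point_ext {B : Over (Spec (CommRingCat.of k))} [LocallyOfFiniteType B.hom] (x y : 𝟙_ (Over (Spec (CommRingCat.of k))) ⟶ B)
    (h : x.left.base (IsLocalRing.closedPoint k) = y.left.base (IsLocalRing.closedPoint k)) : x = y :=
  Over.OverMorphism.ext (ext_of_apply_closedPoint_eq B.hom (Over.w x) (Over.w y) h)

omit [GrpObj A] [IsProper A.hom] in
theorem exists_point_gen {B : Over (Spec (CommRingCat.of k))} [LocallyOfFiniteType B.hom] {a : B.left}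
    (ha : IsClosed ({a} : Set B.left)) :
    ∃ x : 𝟙_ (Over (Spec (CommRingCat.of k))) ⟶ B, x.left.base (IsLocalRing.closedPoint k) = a :=
  ⟨Over.homMk (pointOfClosedPoint B.hom a ha) (pointOfClosedPoint_comp _ _ _), pointOfClosedPoint_apply B.hom a ha _⟩

omit [GrpObj A] in
theorem exists_point {a : A.left} (ha : IsClosed ({a} : Set A.left)) :
    ∃ x : 𝟙_ (Over (Spec (CommRingCat.of k))) ⟶ A, Set.range ⇑x.left.base = {a} := by
  refine ⟨Over.homMk (pointOfClosedPoint A.hom a ha) (pointOfClosedPoint_comp _ _ _), ?_⟩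
  ext y
  constructor
  · rintro ⟨t, rfl⟩
    exact pointOfClosedPoint_apply A.hom a ha t
  · rintro rfl
    exact ⟨IsLocalRing.closedPoint k, pointOfClosedPoint_apply A.hom _ ha _⟩

theorem range_divMap {T₁ T₂ : Set A.left} (h₁ : IsIrreducible T₁) (c₁ : IsClosed T₁) (h₂ : IsIrreducible T₂)
    (c₂ : IsClosed T₂) :
    IsIrreducible ((Groth.GrpschAbsch.divMap A).left '' ((fst A A).left ⁻¹' T₁ ∩ (snd A A).left ⁻¹' T₂)) ∧
      IsClosed ((Groth.GrpschAbsch.divMap A).left '' ((fst A A).left ⁻¹' T₁ ∩ (snd A A).left ⁻¹' T₂)) := by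
  let I₁ := Scheme.IdealSheafData.vanishingIdeal ⟨T₁, c₁⟩
  let I₂ := Scheme.IdealSheafData.vanishingIdeal ⟨T₂, c₂⟩
  have hr₁ : Set.range I₁.subschemeι = T₁ := by
    rw [Scheme.IdealSheafData.range_subschemeι, Scheme.IdealSheafData.coe_support_vanishingIdeal]; rfl
  have hr₂ : Set.range I₂.subschemeι = T₂ := by
    rw [Scheme.IdealSheafData.range_subschemeι, Scheme.IdealSheafData.coe_support_vanishingIdeal]; rfl
  have hirr : ∀ {T : Set A.left} {W : Scheme.{u}} (c : W ⟶ A.left) [IsClosedImmersion c],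
      Set.range c = T → IsIrreducible T → IrreducibleSpace W := by
    intro T W c _ hr hT
    have e := c.isClosedEmbedding.isEmbedding.toHomeomorph
    haveI : IrreducibleSpace ↥(Set.range c) := isIrreducible_iff_irreducibleSpace.1 (hr ▸ hT)
    have h := ((irreducibleSpace_def _).1 (inferInstance : IrreducibleSpace ↥(Set.range ⇑c))).image _
      e.symm.continuous.continuousOn
    rw [Set.top_eq_univ, Set.image_univ, e.symm.surjective.range_eq] at h
    rw [irreducibleSpace_def]
    exact h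
  haveI := hirr I₁.subschemeι hr₁ h₁
  haveI := hirr I₂.subschemeι hr₂ h₂
  haveI := Groth.GrpschAbsch.geometricallyIrreducible_of_isSepClosed (I₁.subschemeι ≫ A.hom)
  let m : pullback (I₁.subschemeι ≫ A.hom) (I₂.subschemeι ≫ A.hom) ⟶ pullback A.hom A.hom :=
    pullback.map _ _ _ _ I₁.subschemeι I₂.subschemeι (𝟙 _) (by simp) (by simp)
  have hr : Set.range m = (fst A A).left ⁻¹' T₁ ∩ (snd A A).left ⁻¹' T₂ := by
    rw [Scheme.Pullback.range_map, hr₁, hr₂]
    rfl
  constructor
  · haveI : UniversallyOpen (I₁.subschemeι ≫ A.hom) := inferInstance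
    haveI : IrreducibleSpace ↥(pullback (I₁.subschemeι ≫ A.hom) (I₂.subschemeι ≫ A.hom)) := by
      haveI : GeometricallyIrreducible (pullback.snd (I₁.subschemeι ≫ A.hom) (I₂.subschemeι ≫ A.hom)) := inferInstance
      exact GeometricallyIrreducible.irreducibleSpace (pullback.snd (I₁.subschemeι ≫ A.hom) (I₂.subschemeι ≫ A.hom))
        (pullback.snd (I₁.subschemeι ≫ A.hom) (I₂.subschemeι ≫ A.hom)).isOpenMap
    rw [← hr, ← Set.image_univ]
    exact ((irreducibleSpace_def _).1 inferInstance |>.image m m.continuous.continuousOn).image _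
      (Groth.GrpschAbsch.divMap A).left.continuous.continuousOn
  · haveI : IsProper (A ⊗ A).hom := inferInstanceAs (IsProper (pullback.fst A.hom A.hom ≫ A.hom))
    haveI : IsProper (Groth.GrpschAbsch.divMap A).left := by
      haveI : IsProper ((Groth.GrpschAbsch.divMap A).left ≫ A.hom) := by rw [Over.w]; infer_instance
      exact IsProper.of_comp _ A.hom
    exact (Groth.GrpschAbsch.divMap A).left.isClosedMap _
      ((c₁.preimage (fst A A).left.continuous).inter (c₂.preimage (snd A A).left.continuous))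

end

/-- Let k be an uncountable algebraically closed field, A an abelian variety over k (a proper,
geometrically integral group scheme over k) and K a subgroup of the group of k-points of A (sections
of A over Spec k, a group through the group structure of A) which is the trace of a countable union
of closed subsets: a k-point belongs to K exactly when its image point lies in some Zₙ. Call an
irreducible closed subset T of A admissible when every k-point whose image lies in T belongs to K.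
Then there is exactly one maximal admissible T containing the image of the neutral element; that T
is contained in some Zₙ, and the k-points landing in T are closed under x, y ↦ x·y⁻¹, so that T is a
closed irreducible subgroup variety of A lying in one of the Zₙ. (The published statement says that
the irredundant decomposition of K has a unique component through 0 and that it is an abelian
subvariety; the maximal admissible subsets are exactly the components of that decomposition, each of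
which lies in some Zₙ, and this containment is the part of the conclusion that uses the
uncountability of k.) -/
theorem result (k : Type u)
    [Field k] [IsAlgClosed k] [Uncountable k] (A : Over (Spec (CommRingCat.of k))) [GrpObj A]
    [IsProper A.hom] [GeometricallyIntegral A.hom]
    (K : Subgroup (𝟙_ (Over (Spec (CommRingCat.of k))) ⟶ A))
    (Z : ℕ → TopologicalSpace.Closeds ↥A.left)
    (hK : ∀ x : 𝟙_ (Over (Spec (CommRingCat.of k))) ⟶ A,
      x ∈ K ↔ Set.range ⇑x.left.base ⊆ ⋃ n, (Z n : Set ↥A.left)) :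
    (∃! T : TopologicalSpace.Closeds ↥A.left,
      Maximal (fun T : TopologicalSpace.Closeds ↥A.left => IsIrreducible (T : Set ↥A.left) ∧
        ∀ x : 𝟙_ (Over (Spec (CommRingCat.of k))) ⟶ A, Set.range ⇑x.left.base ⊆ (T : Set ↥A.left) → x ∈ K) T ∧
      Set.range ⇑(1 : 𝟙_ (Over (Spec (CommRingCat.of k))) ⟶ A).left.base ⊆ (T : Set ↥A.left)) ∧
    ∀ T : TopologicalSpace.Closeds ↥A.left,
      Maximal (fun T : TopologicalSpace.Closeds ↥A.left => IsIrreducible (T : Set ↥A.left) ∧
        ∀ x : 𝟙_ (Over (Spec (CommRingCat.of k))) ⟶ A, Set.range ⇑x.left.base ⊆ (T : Set ↥A.left) → x ∈ K) T →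
      Set.range ⇑(1 : 𝟙_ (Over (Spec (CommRingCat.of k))) ⟶ A).left.base ⊆ (T : Set ↥A.left) →
      (∃ n, (T : Set ↥A.left) ⊆ (Z n : Set ↥A.left)) ∧
      ∀ x y : 𝟙_ (Over (Spec (CommRingCat.of k))) ⟶ A,
        Set.range ⇑x.left.base ⊆ (T : Set ↥A.left) → Set.range ⇑y.left.base ⊆ (T : Set ↥A.left) →
        Set.range ⇑(x * y⁻¹).left.base ⊆ (T : Set ↥A.left) := by
  classical
  haveI : IrreducibleSpace ↥A.left := GeometricallyIrreducible.irreducibleSpace_of_subsingleton A.hom
  haveI : QuasiCompact A.hom := inferInstance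
  let P : TopologicalSpace.Closeds ↥A.left → Prop := fun T => IsIrreducible (T : Set ↥A.left) ∧
    ∀ x : 𝟙_ (Over (Spec (CommRingCat.of k))) ⟶ A, Set.range ⇑x.left.base ⊆ (T : Set ↥A.left) → x ∈ K
  have hsub : ∀ T, P T → ∃ n, (T : Set ↥A.left) ⊆ (Z n : Set ↥A.left) := fun T hT =>
    Groth.Variety2.Uncountable.exists_subset_of_cover A.hom (fun n => (Z n : Set ↥A.left)) (fun n => (Z n).isClosed)
      T.isClosed hT.1 fun a ha hac => by
        obtain ⟨x, hx⟩ := exists_point hac
        have := (hK x).1 (hT.2 x (hx ▸ Set.singleton_subset_iff.2 ha))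
        rw [hx, Set.singleton_subset_iff] at this
        exact Set.mem_iUnion.1 this
  let e₀ := (1 : 𝟙_ (Over (Spec (CommRingCat.of k))) ⟶ A).left.base (IsLocalRing.closedPoint k)
  haveI : Subsingleton ↥(𝟙_ (Over (Spec (CommRingCat.of k)))).left := inferInstanceAs (Subsingleton (PrimeSpectrum k))
  have hrange : ∀ (x : 𝟙_ (Over (Spec (CommRingCat.of k))) ⟶ A) (t), Set.range ⇑x.left.base = {x.left.base t} :=
    fun x t => Set.eq_singleton_iff_unique_mem.2 ⟨⟨t, rfl⟩, by rintro _ ⟨t', rfl⟩; rw [Subsingleton.elim t' t]⟩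
  have he₀ : Set.range ⇑(1 : 𝟙_ (Over (Spec (CommRingCat.of k))) ⟶ A).left.base = {e₀} := hrange 1 _
  have hclpt : ∀ x : 𝟙_ (Over (Spec (CommRingCat.of k))) ⟶ A, IsClosed (Set.range ⇑x.left.base) := by
    intro x
    haveI : IsProper x.left := by
      haveI : IsProper (x.left ≫ A.hom) := by
        rw [Over.w]; exact inferInstanceAs (IsProper (𝟙 (Spec (CommRingCat.of k))))
      exact IsProper.of_comp _ A.hom
    exact x.left.isClosedMap.isClosed_range
  have hdiv : ∀ T₁ T₂, P T₁ → P T₂ → e₀ ∈ T₁ → e₀ ∈ T₂ → ∃ T, P T ∧ e₀ ∈ T ∧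
      ∀ x y : 𝟙_ (Over (Spec (CommRingCat.of k))) ⟶ A, Set.range ⇑x.left.base ⊆ (T₁ : Set ↥A.left) →
        Set.range ⇑y.left.base ⊆ (T₂ : Set ↥A.left) → Set.range ⇑(x * y⁻¹).left.base ⊆ (T : Set ↥A.left) := by
    intro T₁ T₂ h₁ h₂ m₁ m₂
    obtain ⟨hi, hc⟩ := range_divMap h₁.1 T₁.isClosed h₂.1 T₂.isClosed
    have hmem : ∀ x y : 𝟙_ (Over (Spec (CommRingCat.of k))) ⟶ A, Set.range ⇑x.left.base ⊆ (T₁ : Set ↥A.left) →
        Set.range ⇑y.left.base ⊆ (T₂ : Set ↥A.left) → Set.range ⇑(x * y⁻¹).left.base ⊆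
          (Groth.GrpschAbsch.divMap A).left '' ((fst A A).left ⁻¹' T₁ ∩ (snd A A).left ⁻¹' T₂) := by
      rintro x y hx hy _ ⟨t, rfl⟩
      refine ⟨(lift x y).left t, ⟨?_, ?_⟩, ?_⟩
      · show (lift x y ≫ fst A A).left t ∈ (T₁ : Set ↥A.left)
        rw [lift_fst]; exact hx ⟨t, rfl⟩
      · show (lift x y ≫ snd A A).left t ∈ (T₂ : Set ↥A.left)
        rw [lift_snd]; exact hy ⟨t, rfl⟩
      · show (lift x y ≫ Groth.GrpschAbsch.divMap A).left t = _
        rw [MonObj.comp_mul, GrpObj.comp_inv, lift_fst, lift_snd]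
    refine ⟨⟨_, hc⟩, ⟨hi, fun x hx => ?_⟩, ?_, hmem⟩
    · obtain ⟨t⟩ : Nonempty ↥(𝟙_ (Over (Spec (CommRingCat.of k)))).left := ⟨IsLocalRing.closedPoint k⟩
      haveI : IsProper (A ⊗ A).hom := inferInstanceAs (IsProper (CategoryTheory.Limits.pullback.fst A.hom A.hom ≫ A.hom))
      have hcl : IsClosed ((fst A A).left ⁻¹' (T₁ : Set ↥A.left) ∩ (snd A A).left ⁻¹' T₂ ∩
          (Groth.GrpschAbsch.divMap A).left ⁻¹' {x.left.base t}) :=
        ((T₁.isClosed.preimage (fst A A).left.continuous).inter (T₂.isClosed.preimage (snd A A).left.continuous)).inter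
          (((hrange x t).symm ▸ hclpt x).preimage (Groth.GrpschAbsch.divMap A).left.continuous)
      obtain ⟨w, ⟨hw₁, hw₂⟩, hwx⟩ := hx ⟨t, rfl⟩
      obtain ⟨q, hq, hqc⟩ := Groth.Variety2.Dim.exists_isClosed_singleton_mem (A ⊗ A).hom
        hcl.isLocallyClosed ⟨w, ⟨hw₁, hw₂⟩, hwx⟩
      obtain ⟨z, hz⟩ := exists_point_gen hqc
      have hzt : z.left.base t = q := by rw [Subsingleton.elim t (IsLocalRing.closedPoint k)]; exact hz
      have hx' : x = (z ≫ fst A A) * (z ≫ snd A A)⁻¹ := by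
        rw [← GrpObj.comp_inv, ← MonObj.comp_mul]
        refine point_ext _ _ ?_
        rw [show IsLocalRing.closedPoint k = t from Subsingleton.elim _ _]
        show x.left t = (Groth.GrpschAbsch.divMap A).left (z.left t)
        rw [hzt]; exact hq.2.symm
      rw [hx']
      refine K.mul_mem (h₁.2 _ ?_) (K.inv_mem (h₂.2 _ ?_)) <;> rintro _ ⟨t', rfl⟩ <;> rw [Subsingleton.elim t' t]
      · show (fst A A).left (z.left t) ∈ _
        rw [hzt]; exact hq.1.1
      · show (snd A A).left (z.left t) ∈ _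
        rw [hzt]; exact hq.1.2
    · have := hmem 1 1 (he₀ ▸ Set.singleton_subset_iff.2 m₁) (he₀ ▸ Set.singleton_subset_iff.2 m₂)
      rw [inv_one, _root_.mul_one, he₀, Set.singleton_subset_iff] at this
      exact this
  have hE : P ⟨{e₀}, he₀ ▸ hclpt 1⟩ := ⟨isIrreducible_singleton, fun x hx => by
    obtain ⟨t⟩ : Nonempty ↥(𝟙_ (Over (Spec (CommRingCat.of k)))).left := ⟨IsLocalRing.closedPoint k⟩
    have hx1 : x = 1 := point_ext _ _ (hx ⟨IsLocalRing.closedPoint k, rfl⟩)
    rw [hx1]; exact K.one_mem⟩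
  have hpts : ∀ {T T' : TopologicalSpace.Closeds ↥A.left},
      (∀ x : 𝟙_ (Over (Spec (CommRingCat.of k))) ⟶ A, Set.range ⇑x.left.base ⊆ (T : Set ↥A.left) →
        Set.range ⇑x.left.base ⊆ (T' : Set ↥A.left)) → T ≤ T' := by
    intro T T' h a ha
    by_contra hna
    obtain ⟨b, hb, hbc⟩ := Groth.Variety2.Dim.exists_isClosed_singleton_mem A.hom
      (T.isClosed.isLocallyClosed.inter T'.isClosed.isOpen_compl.isLocallyClosed) ⟨a, ha, hna⟩
    obtain ⟨x, hx⟩ := exists_point hbc
    have := h x (hx ▸ Set.singleton_subset_iff.2 hb.1)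
    rw [hx, Set.singleton_subset_iff] at this
    exact hb.2 this
  have hdir : ∀ T₁ T₂, P T₁ → P T₂ → e₀ ∈ T₁ → e₀ ∈ T₂ → ∃ T, P T ∧ e₀ ∈ T ∧ T₁ ≤ T ∧ T₂ ≤ T := by
    intro T₁ T₂ h₁ h₂ m₁ m₂
    obtain ⟨N, hN, mN, hN'⟩ := hdiv _ T₂ hE h₂ (Set.mem_singleton e₀) m₂
    obtain ⟨T, hT, mT, hT'⟩ := hdiv T₁ N h₁ hN m₁ mN
    have h1 : Set.range ⇑(1 : 𝟙_ (Over (Spec (CommRingCat.of k))) ⟶ A).left.base ⊆ (T₁ : Set ↥A.left) :=
      he₀ ▸ Set.singleton_subset_iff.2 m₁
    refine ⟨T, hT, mT, hpts fun x hx => ?_, hpts fun x hx => ?_⟩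
    · have := hT' x 1 hx (he₀ ▸ Set.singleton_subset_iff.2 mN)
      rwa [inv_one, _root_.mul_one] at this
    · have := hT' 1 (1 * x⁻¹) h1 (hN' 1 x he₀.le hx)
      rwa [_root_.one_mul, _root_.one_mul, _root_.inv_inv] at this
  haveI := Groth.Variety2.Dim.noetherianSpace_of A.hom
  obtain ⟨T, ⟨hT, mT⟩, hmax⟩ : ∃ T, (P T ∧ e₀ ∈ T) ∧ ∀ T', P T' ∧ e₀ ∈ T' → T ≤ T' → T' ≤ T := by
    choose g hg using fun (T : TopologicalSpace.Closeds ↥A.left) (h : IsIrreducible (T : Set ↥A.left)) =>
      QuasiSober.sober h T.isClosed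
    obtain ⟨N, hN⟩ := Groth.Variety2.Dim.exists_height_eq A.hom (genericPoint A.left)
    have hle : ∀ x : A.left, Order.height x ≤ (N : ℕ∞) := fun x =>
      (Order.height_mono (Scheme.le_iff_specializes.2 ((genericPoint_spec A.left).specializes (Set.mem_univ x)))).trans hN.le
    let ht : TopologicalSpace.Closeds ↥A.left → ℕ := fun T =>
      if h : IsIrreducible (T : Set ↥A.left) then N - (Order.height (g T h)).toNat else 0
    obtain ⟨T, hT, hmin⟩ := WellFounded.has_min (InvImage.wf ht wellFounded_lt) {T | P T ∧ e₀ ∈ T}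
      ⟨_, hE, Set.mem_singleton e₀⟩
    refine ⟨T, hT, fun T' hT' hTT' => ?_⟩
    by_contra hne
    refine hmin T' hT' ?_
    have i1 := hT.1.1
    have i2 := hT'.1.1
    have hlt : g T i1 < g T' i2 := Groth.Variety2.Dim.lt_iff.2
      ⟨(hg T' i2).specializes (hTT' (hg T i1).mem), fun e => hne (le_of_eq (SetLike.coe_injective
        ((hg T' i2).def.symm.trans (e ▸ (hg T i1).def))))⟩
    have h1 := Groth.Variety2.Dim.height_toNat_lt A.hom hlt
    obtain ⟨a, ha⟩ := Groth.Variety2.Dim.exists_height_eq A.hom (g T i1)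
    obtain ⟨b, hb⟩ := Groth.Variety2.Dim.exists_height_eq A.hom (g T' i2)
    have h2 := hle (g T' i2)
    rw [ha, hb] at h1
    rw [hb] at h2
    have h1 : a < b := by exact_mod_cast h1
    have h2 : b ≤ N := by exact_mod_cast h2
    simp only [InvImage, ht, dif_pos i1, dif_pos i2, ha, hb, ENat.toNat_natCast]
    omega
  have hsup : ∀ T', P T' → e₀ ∈ T' → T' ≤ T := by
    intro T' hT' m'
    obtain ⟨U, hU, mU, h1, h2⟩ := hdir T T' hT hT' mT m'
    exact h2.trans (hmax U ⟨hU, mU⟩ h1)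
  have hMax : Maximal P T := ⟨hT, fun T' hT' hle => hsup T' hT' (hle mT)⟩
  have heq : ∀ T', Maximal P T' → e₀ ∈ T' → T' = T := fun T' hT' m' =>
    le_antisymm (hsup T' hT'.1 m') (hT'.2 hT (hsup T' hT'.1 m'))
  have hmem : ∀ T' : TopologicalSpace.Closeds ↥A.left,
      Set.range ⇑(1 : 𝟙_ (Over (Spec (CommRingCat.of k))) ⟶ A).left.base ⊆ (T' : Set ↥A.left) ↔ e₀ ∈ T' := fun T' => by
    rw [he₀, Set.singleton_subset_iff]; rfl
  refine ⟨⟨T, ⟨hMax, (hmem T).2 mT⟩, fun T' hT' => heq T' hT'.1 ((hmem T').1 hT'.2)⟩, fun T' hT' m' => ?_⟩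
  obtain rfl := heq T' hT' ((hmem T').1 m')
  refine ⟨hsub _ hT, fun x y hx hy => ?_⟩
  obtain ⟨U, hU, mU, hxy⟩ := hdiv _ _ hT hT mT mT
  exact (hxy x y hx hy).trans (SetLike.coe_subset_coe.2 (hsup U hU mU))

end Groth.Agent.S16918
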