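import Groth.Statements.S16919
import Mathlib
-- import your own Groth.Agent.* helpers here

set_option autoImplicit false
universe u
open TensorProduct
open CAlg

namespace Groth.Agent.S16919

open Cardinal in
theorem cancel_finite {a n c : Cardinal.{u}} (h : n + a = c) (hn : n < ℵ₀) (hc : ℵ₀ ≤ c) : a = c := by
  have ha : ℵ₀ ≤ a := by
    by_contra ha
    exact absurd hc (not_le.2 (h ▸ add_lt_aleph0 hn (not_le.1 ha)))
  rw [← h, add_eq_right ha (hn.le.trans ha)]

theorem exists_ringEquiv_of_trdeg {R K L : Type u} [CommRing R] [Field K] [Field L] [Algebra R K] [Algebra R L]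
    [FaithfulSMul R K] [FaithfulSMul R L] [IsDomain R] [IsAlgClosed K] [IsAlgClosed L]
    (h : Algebra.trdeg R K = Algebra.trdeg R L) :
    ∃ E : K ≃+* L, ∀ r, E (algebraMap R K r) = algebraMap R L r := by
  obtain ⟨s, hs⟩ := exists_isTranscendenceBasis R K
  obtain ⟨t, ht⟩ := exists_isTranscendenceBasis R L
  obtain ⟨σ⟩ : Nonempty (s ≃ t) := by
    rw [← Cardinal.eq, hs.cardinalMk_eq_trdeg, ht.cardinalMk_eq_trdeg]; exact h
  letI := IsAlgClosed.isAlgClosure_of_transcendence_basis _ hs
  letI := IsAlgClosed.isAlgClosure_of_transcendence_basis _ ht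
  let e₀ : Algebra.adjoin R (Set.range ((↑) : s → K)) ≃ₐ[R] Algebra.adjoin R (Set.range ((↑) : t → L)) :=
    hs.1.aevalEquiv.symm.trans ((MvPolynomial.renameEquiv R σ).trans ht.1.aevalEquiv)
  refine ⟨IsAlgClosure.equivOfEquiv K L e₀.toRingEquiv, fun r => ?_⟩
  rw [IsScalarTower.algebraMap_apply R (Algebra.adjoin R (Set.range ((↑) : s → K))) K,
    IsAlgClosure.equivOfEquiv_algebraMap,
    show e₀.toRingEquiv (algebraMap R _ r) = algebraMap R _ r from e₀.commutes r,
    ← IsScalarTower.algebraMap_apply]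


open scoped TensorProduct in
theorem exists_ringEquiv_main (k₀ k : Type u) [Field k₀] [Field k] [Algebra k₀ k] [IsAlgClosed k]
    (hinf : ∃ x : ℕ → k, AlgebraicIndependent k₀ x)
    (R₀ : Type u) [CommRing R₀] [Algebra k₀ R₀] [Algebra.FiniteType k₀ R₀] [IsDomain (k ⊗[k₀] R₀)]
    (ev : k ⊗[k₀] R₀ →ₐ[k] k) (hP : Function.Injective fun r : R₀ => ev (1 ⊗ₜ[k₀] r))
    (L : Type u) [Field L] [IsAlgClosed L] [Algebra (k ⊗[k₀] R₀) L] [FaithfulSMul (k ⊗[k₀] R₀) L]
    [Algebra.IsAlgebraic (k ⊗[k₀] R₀) L] [Algebra k L] [IsScalarTower k (k ⊗[k₀] R₀) L]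
    [Algebra k₀ L] [IsScalarTower k₀ k L] :
    ∃ e : L ≃+* k, ∀ r : R₀, e (algebraMap (k ⊗[k₀] R₀) L (1 ⊗ₜ[k₀] r)) = ev (1 ⊗ₜ[k₀] r) := by
  classical
  have hinc : Function.Injective (Algebra.TensorProduct.includeRight : R₀ →ₐ[k₀] k ⊗[k₀] R₀) :=
    Algebra.TensorProduct.includeRight_injective (algebraMap k₀ k).injective
  haveI : IsDomain R₀ := hinc.isDomain _
  set R := k ⊗[k₀] R₀
  letI a1 : Algebra R₀ k := ((ev.restrictScalars k₀).comp Algebra.TensorProduct.includeRight).toRingHom.toAlgebra
  letI a2 : Algebra R₀ L := ((algebraMap R L).comp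
    (Algebra.TensorProduct.includeRight : R₀ →ₐ[k₀] R).toRingHom).toAlgebra
  haveI : IsScalarTower k₀ R₀ k := IsScalarTower.of_algebraMap_eq fun c =>
    (((ev.restrictScalars k₀).comp Algebra.TensorProduct.includeRight).commutes c).symm
  haveI : IsScalarTower k₀ R₀ L := IsScalarTower.of_algebraMap_eq fun c => by
    show algebraMap k₀ L c = algebraMap R L ((Algebra.TensorProduct.includeRight : R₀ →ₐ[k₀] R) (algebraMap k₀ R₀ c))
    rw [AlgHom.commutes, IsScalarTower.algebraMap_apply k₀ k R, ← IsScalarTower.algebraMap_apply k R L, ← IsScalarTower.algebraMap_apply k₀ k L]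
  have hRL : Function.Injective (algebraMap R L) := FaithfulSMul.algebraMap_injective R L
  haveI : FaithfulSMul R₀ k := (faithfulSMul_iff_algebraMap_injective _ _).2 hP
  haveI : FaithfulSMul R₀ L := (faithfulSMul_iff_algebraMap_injective _ _).2 (hRL.comp hinc)
  haveI : FaithfulSMul k R := (faithfulSMul_iff_algebraMap_injective _ _).2 (algebraMap k R).injective
  haveI : FaithfulSMul k₀ R₀ := (faithfulSMul_iff_algebraMap_injective _ _).2 (algebraMap k₀ R₀).injective
  haveI : FaithfulSMul k L := (faithfulSMul_iff_algebraMap_injective _ _).2 (algebraMap k L).injective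
  have hn : Algebra.trdeg k₀ R₀ < Cardinal.aleph0 := trdeg_lt_aleph0_of_finiteType
  have hc : Cardinal.aleph0 ≤ Algebra.trdeg k₀ k := by
    obtain ⟨x, hx⟩ := hinf
    simpa using hx.lift_cardinalMk_le_trdeg
  have hk : Algebra.trdeg R₀ k = Algebra.trdeg k₀ k :=
    cancel_finite (trdeg_add_eq k₀ R₀) hn hc
  have hkL : Algebra.trdeg k L < Cardinal.aleph0 := by
    rw [← trdeg_add_eq k R (A := L), trdeg_eq_zero (R := R) (A := L), add_zero]
    exact trdeg_lt_aleph0_of_finiteType
  have hL : Algebra.trdeg R₀ L = Algebra.trdeg k₀ k := by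
    have h0 : Algebra.trdeg k₀ L = Algebra.trdeg k₀ k := by
      rw [← trdeg_add_eq k₀ k (A := L), Cardinal.add_eq_left hc (hkL.le.trans hc)]
    exact cancel_finite ((trdeg_add_eq k₀ R₀).trans h0) hn hc
  obtain ⟨E, hE⟩ := exists_ringEquiv_of_trdeg (R := R₀) (K := L) (L := k) (hL.trans hk.symm)
  exact ⟨E, fun r => hE r⟩


/-- Let k₀ → k be an extension of fields with k algebraically closed and of infinite transcendence
degree over k₀, R₀ a finitely generated k₀-algebra whose base change R = k ⊗ R₀ is an integral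
domain (so Spec R is an integral affine k-scheme of finite type with the model Spec R₀ over k₀), and
P a k-point of Spec R, i.e. a k-algebra homomorphism ev : R → k, lying over the generic point of
Spec R₀, i.e. with ev injective on R₀. Then there is a field isomorphism e from an algebraic closure
of the fraction field of R (the function field of Spec R) onto k such that e(1 ⊗ r) = ev(1 ⊗ r) for
every r in R₀: e extends evaluation at P on R₀. (The published setting has k algebraically closed of
characteristic zero and of infinite transcendence degree over its prime field, and k₀ the subfield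
generated by the coefficients of equations of Spec R, which is finitely generated over the prime
field, so that k has infinite transcendence degree over k₀; only this last property and no
characteristic assumption enter here. The isomorphism is not canonical.) -/
theorem result (k₀ k : Type u)
    [Field k₀] [Field k] [Algebra k₀ k] [IsAlgClosed k] (hinf : ∃ x : ℕ → k, AlgebraicIndependent k₀ x)
    (R₀ : Type u) [CommRing R₀] [Algebra k₀ R₀] [Algebra.FiniteType k₀ R₀] [IsDomain (k ⊗[k₀] R₀)]
    (ev : k ⊗[k₀] R₀ →ₐ[k] k) (hP : Function.Injective fun r : R₀ => ev (1 ⊗ₜ[k₀] r)) :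
    ∃ e : AlgebraicClosure (FractionRing (k ⊗[k₀] R₀)) ≃+* k,
      ∀ r : R₀, e (algebraMap (k ⊗[k₀] R₀) (AlgebraicClosure (FractionRing (k ⊗[k₀] R₀)))
        (1 ⊗ₜ[k₀] r)) = ev (1 ⊗ₜ[k₀] r) := by
  haveI : IsDomain (FractionRing (k ⊗[k₀] R₀)) := inferInstance
  haveI : FaithfulSMul (k ⊗[k₀] R₀) (AlgebraicClosure (FractionRing (k ⊗[k₀] R₀))) := by
    rw [faithfulSMul_iff_algebraMap_injective, IsScalarTower.algebraMap_eq _ (FractionRing (k ⊗[k₀] R₀)) _]
    exact (algebraMap (FractionRing (k ⊗[k₀] R₀)) _).injective.comp (IsFractionRing.injective _ _)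
  haveI : Algebra.IsAlgebraic (k ⊗[k₀] R₀) (FractionRing (k ⊗[k₀] R₀)) :=
    IsLocalization.isAlgebraic _ (nonZeroDivisors _)
  haveI : Algebra.IsAlgebraic (k ⊗[k₀] R₀) (AlgebraicClosure (FractionRing (k ⊗[k₀] R₀))) :=
    Algebra.IsAlgebraic.trans _ (FractionRing (k ⊗[k₀] R₀)) _
  exact exists_ringEquiv_main k₀ k hinf R₀ ev hP _

end Groth.Agent.S16919
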