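import Groth.Statements.S16921
import Groth.Agent.Cycles.GenFibre
-- import your own Groth.Agent.* helpers here

set_option autoImplicit false
universe u
open CategoryTheory AlgebraicGeometry
open Cyc

namespace Groth.Agent.S16921

/-- Let p : X → Y be a dominant proper morphism of integral schemes with δX(η_X) ≠ δY(η_Y) (then the
δ-dimension of X exceeds that of Y, the function fields having positive transcendence degree), and f
a nonzero rational function on X. Then p_*(div_X f) = 0. Here a pair (X, δ) with Cyc.IsSetup plays
the role of a scheme locally of finite type over the base (S, δ) (X locally Noetherian with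
universally catenary local rings, δ a dimension function), and Cyc.DeltaCompat records that the
dimension function upstairs is the induced one. (The published statement is for a proper surjective
morphism of integral schemes of finite type over a field with dim Y < dim X; it is given here in the
setup of schemes with dimension functions. The companion assertion for equal dimensions, p_*(div f)
= div(Nm f), is a separate statement.) -/
theorem result (X Y : Scheme.{u}) [IsIntegral X] [IsIntegral Y] (δX : X → ℤ)
    (δY : Y → ℤ) (hX : Cyc.IsSetup X δX) (hY : Cyc.IsSetup Y δY) (p : X ⟶ Y) [IsProper p]
    (hδ : Cyc.DeltaCompat p δX δY) (hdom : p (genericPoint X) = genericPoint Y)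
    (hn : δX (genericPoint X) ≠ δY (genericPoint Y)) (f : X.residueField (genericPoint X)) (hf : f ≠ 0)
    (α : AlgebraicCycle X ℤ) (hα : ⇑α = Cyc.divFun δX (genericPoint X) f) :
    AlgebraicCycle.map p δX δY α = 0 := by
  exact Groth.Cycles.map_divFun_eq_zero δX δY hX hY p hδ (genericPoint X) rfl hdom hn f hf α hα

end Groth.Agent.S16921
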