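import Groth.Statements.S1693
import Mathlib.Topology.NoetherianSpace
import Mathlib.AlgebraicGeometry.Noetherian

set_option autoImplicit false
universe u
open CategoryTheory CategoryTheory.Limits AlgebraicGeometry TopologicalSpace
open SDiv

namespace Groth.Agent.S1693

/-- Let X be a locally Noetherian scheme and Z a closed subset. Then the irreducible components of Z
form a locally finite family of subsets of X. -/
theorem result (X : Scheme.{u}) [IsLocallyNoetherian X] (Z : Set ↥X) (hZ : IsClosed Z) :
    LocallyFinite (fun T : ↥(irreducibleComponents ↥Z) => ((↑) '' (T.1 : Set ↥Z) : Set ↥X)) := by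
    classical
    intro x
    obtain ⟨_, ⟨U, hU', rfl⟩, hxU, -⟩ := X.isBasis_affineOpens.exists_subset_of_mem_open
      (Set.mem_univ x) isOpen_univ
    have hU : IsAffineOpen U := hU'
    refine ⟨(U : Set X), U.2.mem_nhds hxU, ?_⟩
    have : IsNoetherianRing Γ(X, U) := IsLocallyNoetherian.component_noetherian ⟨U, hU⟩
    have : TopologicalSpace.NoetherianSpace U := noetherianSpace_of_isAffineOpen U hU
    let O : Set ↥Z := {z | (z : X) ∈ U}
    have hO : IsOpen O := U.2.preimage continuous_subtype_val
    have hind : Topology.IsInducing (fun z : ↥O => (⟨(z.1 : X), z.2⟩ : U)) := by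
      refine Topology.IsInducing.of_comp (Continuous.subtype_mk (continuous_subtype_val.comp
        continuous_subtype_val) _) continuous_subtype_val ?_
      exact (Topology.IsInducing.subtypeVal (t := Z)).comp
        (Topology.IsInducing.subtypeVal (t := O))
    have hUn : TopologicalSpace.NoetherianSpace {y : X // y ∈ U} := this
    have : TopologicalSpace.NoetherianSpace ↥O :=
      hind.noetherianSpace (i := fun z : ↥O => (⟨(z.1 : X), z.2⟩ : {y : X // y ∈ U}))
    have hfin := TopologicalSpace.NoetherianSpace.finite_irreducibleComponents (α := ↥O)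
    let g : Set ↥O → Set ↥Z := fun C => closure (Subtype.val '' C)
    refine ((hfin.image g).preimage Subtype.val_injective.injOn).subset ?_
    rintro ⟨T, hT⟩ ⟨_, ⟨z, hzT, rfl⟩, hzU⟩
    have hcl := isClosed_of_mem_irreducibleComponents T hT
    have hne : (T ∩ O).Nonempty := ⟨z, hzT, hzU⟩
    have hd : closure (T ∩ O) = T := by
      refine (hcl.closure_subset_iff.mpr Set.inter_subset_left).antisymm ?_
      exact subset_closure_inter_of_isPreirreducible_of_isOpen hT.1.2 hO hne
    refine ⟨Subtype.val ⁻¹' T, ⟨⟨?_, ?_⟩, ?_⟩, ?_⟩
    · exact ⟨⟨z, hzU⟩, hzT⟩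
    · exact hT.1.2.preimage hO.isOpenEmbedding_subtypeVal
    · intro C hC hle
      have hC' : IsIrreducible (closure (Subtype.val '' C)) :=
        (hC.image _ continuous_subtype_val.continuousOn).closure
      have h2 : T ⊆ closure (Subtype.val '' C) := by
        rw [← hd]
        refine closure_mono fun w hw => ⟨⟨w, hw.2⟩, hle hw.1, rfl⟩
      have h3 := hT.2 hC' h2
      intro w hw
      exact h3 (subset_closure ⟨w, hw, rfl⟩)
    · change closure (Subtype.val '' (Subtype.val ⁻¹' T)) = T
      rw [Set.image_preimage_eq_inter_range, Subtype.range_coe_subtype]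
      exact hd

end Groth.Agent.S1693
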