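import Groth.Statements.S16948
import Groth.Agent.CohCmpLib.PullOnComp
import Groth.Agent.KTheory.ExtFiltSheaf

set_option autoImplicit false
universe u
open Coherent

namespace Groth.Agent.S16948

set_option backward.isDefEq.respectTransparency false
set_option backward.defeqAttrib.useBackward true
set_option backward.isDefEq.respectTransparency.types false
set_option maxHeartbeats 800000

open AlgebraicGeometry CategoryTheory Scheme.Modules
open Groth.PicAux (pullSec pullSec_comp pullSec_map)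

/-- A morphism out of `k^*h^*M` is determined on twice pulled back sections over affine opens. -/
theorem hom_ext₂_affine {T Y X : Scheme.{u}} (k : T ⟶ Y) (h : Y ⟶ X) {M : X.Modules} {P : T.Modules}
    {φ ψ : (pullback k).obj ((pullback h).obj M) ⟶ P}
    (H : ∀ (U : X.Opens), IsAffineOpen U → ∀ (m : Γ(M, U)),
      φ.app (k ⁻¹ᵁ h ⁻¹ᵁ U) (pullSec k _ (pullSec h M m)) =
        ψ.app (k ⁻¹ᵁ h ⁻¹ᵁ U) (pullSec k _ (pullSec h M m))) : φ = ψ := by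
  refine ((pullbackPushforwardAdjunction k).homEquiv _ P).injective ?_
  refine ((pullbackPushforwardAdjunction h).homEquiv _ _).injective ?_
  simp only [Adjunction.homEquiv_unit]
  exact Groth.KTheory.ExtFilt.hom_ext_affine fun U hU m => H U hU m

open AlgebraicGeometry CategoryTheory Scheme.Modules in
/-- Take two cartesian squares of schemes side by side, f : X → Y over φ : U → V (vertical maps ξ : X →
U and η : Y → V, f ≫ η = ξ ≫ φ) and g : Y → Z over ψ : V → W (vertical map ζ : Z → W, g ≫ ζ = η ≫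
ψ), a quasi-coherent O_Z-module L and a natural number p. Write β for the degree-p base change maps
of higher direct images (R^p the p-th right derived functor of direct image on O-modules; the maps
are the pinned ones of the structure GenBC relative to pinned comparison data for ζ, η and ξ): B₂
for the right square, B₁ for the left square, B for the outer square. Then the composite of the
composition isomorphism φ^* ψ^* R^p ζ_* L ≅ (φ ≫ ψ)^* R^p ζ_* L with β_B(L) equals φ^* β_{B₂}(L)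
followed by β_{B₁}(g^* L) followed by R^p ξ_* of the composition isomorphism f^* g^* L ≅ (f ≫ g)^*
L. The source states this for arbitrary ζ and η; its verification evaluates both sides on sections
of R^p ζ_* L and R^p η_*(g^* L) over affine opens, identified with cohomology classes over their
preimages, and that identification is the one available for ζ and η quasi-compact and
quasi-separated, which are therefore assumed here. -/
theorem result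
    {X Y Z U V W : Scheme.{u}} (f : X ⟶ Y) (g : Y ⟶ Z) (ξ : X ⟶ U) (η : Y ⟶ V) (ζ : Z ⟶ W)
    (φ : U ⟶ V) (ψ : V ⟶ W) (h₁ : IsPullback f ξ η φ) (h₂ : IsPullback g η ζ ψ)
    (hw : (f ≫ g) ≫ ζ = ξ ≫ (φ ≫ ψ))
    [QuasiCompact ζ] [QuasiSeparated ζ] [QuasiCompact η] [QuasiSeparated η]
    [HasInjectiveResolutions X.Modules] [HasInjectiveResolutions Y.Modules] [HasInjectiveResolutions Z.Modules]
    (L : Z.Modules) [Coh.IsQCoh L] (p : ℕ)
    {Δζ : RDer.DerivedLES (pushforward ζ)} {Δη : RDer.DerivedLES (pushforward η)} {Δξ : RDer.DerivedLES (pushforward ξ)}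
    (Eζ : CohCmp.SectCmp ζ Δζ) (Eη : CohCmp.SectCmp η Δη) (Eξ : CohCmp.SectCmp ξ Δξ)
    (B₂ : CohCmp.GenBC ζ ψ η g h₂.w Eζ Eη) (B₁ : CohCmp.GenBC η φ ξ f h₁.w Eη Eξ)
    (B : CohCmp.GenBC ζ (φ ≫ ψ) ξ (f ≫ g) hw Eζ Eξ) :
    (pullbackComp φ ψ).hom.app ((Coh.Rpush ζ p).obj L) ≫ B.bc p L =
      (pullback φ).map (B₂.bc p L) ≫ B₁.bc p ((pullback g).obj L) ≫
        (Coh.Rpush ξ p).map ((pullbackComp f g).hom.app L) := by
  haveI : L.IsQuasicoherent := ‹Coh.IsQCoh L›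
  refine hom_ext₂_affine φ ψ fun W₀ hW₀ m => ?_
  obtain ⟨x, rfl⟩ := (Groth.CohCmpLib.eps_bijective_of_affine Eζ L hW₀ p).2 m
  refine (congrArg ((B.bc p L).app (φ ⁻¹ᵁ ψ ⁻¹ᵁ W₀))
    (pullSec_comp φ ψ _ (Eζ.ε W₀ L p x))).trans ?_
  refine (Groth.CohCmpLib.bc_pullSec_eps B p L W₀ x).trans ?_
  symm
  let L₁ := (pullback g).obj L
  let x₁ : Coh.HHon Y L₁ (η ⁻¹ᵁ ψ ⁻¹ᵁ W₀) p :=
    CohPull.pullOn g (ζ ⁻¹ᵁ W₀) (η ⁻¹ᵁ ψ ⁻¹ᵁ W₀) (CohCmp.sqLE ζ ψ η g h₂.w W₀) L p x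
  have e₁ : ((pullback φ).map (B₂.bc p L)).app (φ ⁻¹ᵁ ψ ⁻¹ᵁ W₀)
      (pullSec φ _ (pullSec ψ _ (Eζ.ε W₀ L p x))) =
      pullSec φ _ (Eη.ε (ψ ⁻¹ᵁ W₀) L₁ p x₁) :=
    (pullSec_map φ (B₂.bc p L) _).trans
      (congrArg (pullSec φ _) (Groth.CohCmpLib.bc_pullSec_eps B₂ p L W₀ x))
  refine (congrArg (fun t => ((Coh.Rpush ξ p).map ((pullbackComp f g).hom.app L)).app
      (φ ⁻¹ᵁ ψ ⁻¹ᵁ W₀) ((B₁.bc p L₁).app (φ ⁻¹ᵁ ψ ⁻¹ᵁ W₀) t)) e₁).trans ?_
  refine (congrArg (((Coh.Rpush ξ p).map ((pullbackComp f g).hom.app L)).app (φ ⁻¹ᵁ ψ ⁻¹ᵁ W₀))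
    (Groth.CohCmpLib.bc_pullSec_eps B₁ p L₁ (ψ ⁻¹ᵁ W₀) x₁)).trans ?_
  refine (Eξ.natural (φ ⁻¹ᵁ ψ ⁻¹ᵁ W₀) ((pullbackComp f g).hom.app L) p _).symm.trans ?_
  exact congrArg (Eξ.ε (φ ⁻¹ᵁ ψ ⁻¹ᵁ W₀) _ p)
    (Groth.CohCmpLib.pullOn_comp f g (ζ ⁻¹ᵁ W₀) (η ⁻¹ᵁ ψ ⁻¹ᵁ W₀) (ξ ⁻¹ᵁ φ ⁻¹ᵁ ψ ⁻¹ᵁ W₀)
      (CohCmp.sqLE ζ ψ η g h₂.w W₀) (CohCmp.sqLE η φ ξ f h₁.w (ψ ⁻¹ᵁ W₀))
      (CohCmp.sqLE ζ (φ ≫ ψ) ξ (f ≫ g) hw W₀) L p x)

end Groth.Agent.S16948
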