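import Groth.Statements.S1695
import Groth.Agent.BlowUpBasics.Proj
-- import your own Groth.Agent.* helpers here

set_option autoImplicit false
universe u
open CategoryTheory CategoryTheory.Limits AlgebraicGeometry TopologicalSpace
open SDiv

namespace Groth.Agent.S1695

/-- Let A be a ring, I an ideal, and b : X' ⟶ Spec A a blowing-up of Spec A along the ideal sheaf of I.
Then every point of X' has an open neighbourhood which is isomorphic, over Spec A, to the spectrum
of an affine blow-up algebra A[I/a] for some a ∈ I. -/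
theorem result (A : Type u) [CommRing A] (I : Ideal A) {X' : Scheme.{u}}
    (b : X' ⟶ Spec (CommRingCat.of A)) (hb : BlowUp.IsBlowUp b (Scheme.IdealSheafData.ofIdealTop (I.map (Scheme.ΓSpecIso (CommRingCat.of A)).inv.hom))) (x' : ↥X') :
    ∃ (a : A) (_ : a ∈ I) (V : X'.Opens) (e : (V : Scheme.{u}) ≅ Spec (CommRingCat.of ↥(BlowUp.affineAlgebra A I a))),
      x' ∈ V ∧ e.hom ≫ Spec.map (CommRingCat.ofHom (algebraMap A ↥(BlowUp.affineAlgebra A I a))) = V.ι ≫ b := by
  obtain ⟨φ, hφ⟩ := Groth.BlowUpBasics.exists_iso_of_isBlowUp hb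
    (Groth.BlowUpBasics.isBlowUp_projBase I)
  let T := Groth.BlowUpBasics.projAtlas I
  obtain ⟨a, y, hy⟩ := T.covers (φ.hom x')
  let j := T.j a ≫ φ.inv
  refine ⟨(a : A), a.2, j.opensRange, j.isoOpensRange.symm, ⟨y, ?_⟩, ?_⟩
  · rw [Scheme.Hom.comp_apply, hy, ← Scheme.Hom.comp_apply, φ.hom_inv_id]
    rfl
  · rw [Iso.symm_hom, Iso.inv_comp_eq, ← Category.assoc, Scheme.Hom.isoOpensRange_hom_ι,
      ← hφ, Category.assoc, φ.inv_hom_id_assoc]
    exact (T.fac a).symm

end Groth.Agent.S1695
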