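import Groth.Statements.S16950
import Groth.Agent.CohCmpLib.BCTransfer
import Groth.Agent.FlatMorOne.GoodLocus

set_option autoImplicit false
universe u
open Coherent

namespace Groth.Agent.S16950

set_option backward.isDefEq.respectTransparency false
set_option backward.defeqAttrib.useBackward true
set_option backward.isDefEq.respectTransparency.types false
set_option maxHeartbeats 800000

open AlgebraicGeometry CategoryTheory Scheme.Modules TopologicalSpace Opposite
open scoped TensorProduct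
open Groth.CohBase (preimageToSpec isPullback_preimageToSpec IsBC GoodCover)
open Groth.QCohMod (sectionsAlg)
open Groth.Limits.FibreVanishing (globalMap)

/-- A change of the base ring, on global functions. -/
lemma globalMap_comp {R A : Type u} [CommRing R] [CommRing A] (φ : R →+* A) {X : Scheme.{u}}
    [X.Over (Spec (CommRingCat.of R))] [X.Over (Spec (CommRingCat.of A))]
    (h : X ↘ Spec (CommRingCat.of R) =
      (X ↘ Spec (CommRingCat.of A)) ≫ Spec.map (CommRingCat.ofHom φ)) (r : R) :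
    globalMap R X r = globalMap A X (φ r) := by
  change (X ↘ Spec (CommRingCat.of R)).appTop ((Scheme.ΓSpecIso (CommRingCat.of R)).inv r) =
    (X ↘ Spec (CommRingCat.of A)).appTop ((Scheme.ΓSpecIso (CommRingCat.of A)).inv (φ r))
  rw [h, Scheme.Hom.comp_appTop, CommRingCat.comp_apply]
  exact congrArg _ congr($(Scheme.ΓSpecIso_inv_naturality (CommRingCat.ofHom φ)) r).symm

variable {X Y S : Scheme.{u}} {f : X ⟶ Y} {b : Y ⟶ S} {T : S.Opens} {V : Y.Opens}

/-- The preimage of `V` over the affine open `T` of the base. -/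
lemma toSpec_fromSpec (hT : IsAffineOpen T) (hV : IsAffineOpen V) (e : V ≤ b ⁻¹ᵁ T) :
    (preimageToSpec f (V := V) ≫ Spec.map (b.appLE T V e)) ≫ hT.fromSpec =
      (f ⁻¹ᵁ V).ι ≫ f ≫ b := by
  rw [Category.assoc, IsAffineOpen.SpecMap_appLE_fromSpec b hT hV e, ← Category.assoc,
    ← (isPullback_preimageToSpec f hV).w, Category.assoc]

/-- Flatness over the base restricts to the preimage of an affine open. -/
lemma isFlatOver_preimage (hT : IsAffineOpen T) (hV : IsAffineOpen V) (e : V ≤ b ⁻¹ᵁ T)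
    (F : X.Modules) [F.IsQuasicoherent] (hF : FlatMod.IsFlatOver (f ≫ b) F) :
    FlatMod.IsFlatOver (preimageToSpec f (V := V) ≫ Spec.map (b.appLE T V e))
      (F.restrict (f ⁻¹ᵁ V).ι) := by
  intro x
  rw [← Groth.FlatMorOne.isFlatOverAt_comp_openImmersion _ hT.fromSpec, toSpec_fromSpec hT hV e,
    Groth.FlatMorOne.isFlatOverAt_congr _ ((restrictFunctorIsoPullback (f ⁻¹ᵁ V).ι).app F)]
  refine (Groth.Flatmor4.isFlatOverAt_pullback_iff (f ⁻¹ᵁ V).ι (f ≫ b) F x ?_).1 (hF _)
  exact RingHom.Flat.of_bijective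
    (ConcreteCategory.bijective_of_isIso ((f ⁻¹ᵁ V).ι.stalkMap x))

/-- The cohomology of the preimage of an affine open is flat over the base. -/
lemma flat_HH_preimage [QuasiCompact f] [QuasiSeparated f] [HasInjectiveResolutions X.Modules]
    (hT : IsAffineOpen T) (hV : IsAffineOpen V) (e : V ≤ b ⁻¹ᵁ T) (F : X.Modules) [F.IsQuasicoherent]
    {Δ : RDer.DerivedLES (pushforward f)} (E : CohCmp.SectCmp f Δ) (i : ℕ)
    (hR : FlatMod.IsFlatOver b ((Coh.Rpush f i).obj F)) :
    letI : ((f ⁻¹ᵁ V : X.Opens) : Scheme.{u}).Over (Spec (CommRingCat.of Γ(S, T))) :=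
      ⟨preimageToSpec f ≫ Spec.map (b.appLE T V e)⟩
    Module.Flat Γ(S, T) (Coh.HH (f ⁻¹ᵁ V : X.Opens).toScheme (F.restrict (f ⁻¹ᵁ V).ι) i) := by
  letI : ((f ⁻¹ᵁ V : X.Opens) : Scheme.{u}).Over (Spec (CommRingCat.of Γ(S, T))) :=
    ⟨preimageToSpec f ≫ Spec.map (b.appLE T V e)⟩
  letI : ((f ⁻¹ᵁ V : X.Opens) : Scheme.{u}).Over (Spec (CommRingCat.of Γ(Y, V))) :=
    ⟨preimageToSpec f⟩
  let M := (Coh.Rpush f i).obj F
  haveI : M.IsQuasicoherent := Groth.CohBase.isQCoh_Rpush f (M := F) i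
  letI := Groth.Flatmor4.sectionModule b M e
  haveI : Module.Flat Γ(S, T) Γ(M, V) :=
    (Groth.Flatmor4.flat_sections_iff b M hV hT e).2 fun y _ => hR y
  refine Module.Flat.of_linearEquiv (M := Γ(M, V)) (LinearEquiv.ofBijective
    ({ toFun := E.ε V F i
       map_add' := map_add _
       map_smul' := fun r x => ?_ } :
      Coh.HH (f ⁻¹ᵁ V : X.Opens).toScheme (F.restrict (f ⁻¹ᵁ V).ι) i →ₗ[Γ(S, T)] Γ(M, V))
    (Groth.CohCmpLib.eps_bijective_of_affine E F hV i))
  refine Eq.trans (congrArg (E.ε V F i) ?_)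
    (Groth.CohCmpLib.eps_smul E F V i (b.appLE T V e r) x)
  exact congrArg (fun t : Γ((f ⁻¹ᵁ V).toScheme, ⊤) => t • x)
    ((globalMap_comp (b.appLE T V e).hom rfl r).trans
      (Groth.Limits.FibreVanishing.globalMap_preimage f _))

/-- Generators of a cocartesian square of rings. -/
lemma mem_span_range_of_isPushout {R A R' A' : CommRingCat.{u}} {φ : R ⟶ A} {ψ : R ⟶ R'}
    {α : A ⟶ A'} {β : R' ⟶ A'} (h : IsPushout φ ψ α β) (a : A') :
    letI := α.hom.toAlgebra
    a ∈ Submodule.span A (Set.range β.hom) := by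
  letI := α.hom.toAlgebra
  letI := φ.hom.toAlgebra
  letI := ψ.hom.toAlgebra
  let i := h.isoIsPushout _ _ (CommRingCat.isPushout_tensorProduct R A R')
  obtain ⟨t, rfl⟩ := (ConcreteCategory.bijective_of_isIso i.inv).2 a
  induction t using TensorProduct.induction_on with
  | zero => rw [map_zero]; exact zero_mem _
  | add u v hu hv => rw [map_add]; exact add_mem hu hv
  | tmul x y =>
    have h1 : i.inv (x ⊗ₜ[R] (1 : R')) = α x :=
      congr($(IsPushout.inl_isoIsPushout_inv _ _ h (CommRingCat.isPushout_tensorProduct R A R')) x)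
    have h2 : i.inv ((1 : A) ⊗ₜ[R] y) = β y :=
      congr($(IsPushout.inr_isoIsPushout_inv _ _ h (CommRingCat.isPushout_tensorProduct R A R')) y)
    have h3 : i.inv (x ⊗ₜ[R] y) = α x * β y := by
      rw [← h1, ← h2, ← map_mul, Algebra.TensorProduct.tmul_mul_tmul, mul_one, one_mul]
    rw [h3]
    exact Submodule.smul_mem _ x (Submodule.subset_span ⟨y, rfl⟩)

open AlgebraicGeometry CategoryTheory Scheme.Modules in
/-- For a single module in place of the complex, let S be a scheme, a : X → S and b : Y → S schemes over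
S, f : X → Y a separated quasi-compact morphism with f ≫ b = a, and F a quasi-coherent O_X-module,
flat over S (via a), such that every higher direct image R^n f_* F (the n-th right derived functor
of direct image on O-modules) is flat over S (via b). For any morphism g : S' → S form the cartesian
squares Y' = Y ×_S S' (projections g_Y : Y' → Y, b' : Y' → S') and X' = X ×_Y Y' (projections g_X :
X' → X, f' : X' → Y'). Then for every n the degree-n base change map g_Y^* R^n f_* F → R^n f'_*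
(g_X^* F) is an isomorphism; the map is the pinned one of the structure GenBC, relative to pinned
comparison data for f and f'. -/
theorem result
    {X Y S X' Y' S' : Scheme.{u}} (a : X ⟶ S) (b : Y ⟶ S) (f : X ⟶ Y) (hf : f ≫ b = a)
    [IsSeparated f] [QuasiCompact f]
    (g : S' ⟶ S) (gY : Y' ⟶ Y) (b' : Y' ⟶ S') (hY : IsPullback gY b' b g)
    (gX : X' ⟶ X) (f' : X' ⟶ Y') (hX : IsPullback gX f' f gY)
    [HasInjectiveResolutions X.Modules] [HasInjectiveResolutions X'.Modules]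
    (F : X.Modules) [Coh.IsQCoh F] (hF : FlatMod.IsFlatOver a F)
    (hR : ∀ n : ℕ, FlatMod.IsFlatOver b ((Coh.Rpush f n).obj F))
    {Δ : RDer.DerivedLES (pushforward f)} {Δ' : RDer.DerivedLES (pushforward f')}
    (E : CohCmp.SectCmp f Δ) (E' : CohCmp.SectCmp f' Δ') (B : CohCmp.GenBC f gY f' gX hX.w E E') (n : ℕ) :
    IsIso (B.bc n F) := by
  subst hf
  haveI : F.IsQuasicoherent := ‹Coh.IsQCoh F›
  refine Groth.CohCmpLib.isIso_bc_of_cover hX B F n fun y => ?_
  obtain ⟨T, hT, hyT⟩ := Groth.QCohMod.exists_affine_mem (g (b' y))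
  obtain ⟨T', hT', hyT', eT⟩ := exists_isAffineOpen_mem_and_subset (U := g ⁻¹ᵁ T) (x := b' y) hyT
  replace eT : T' ≤ g ⁻¹ᵁ T := eT
  have hyT₁ : gY y ∈ b ⁻¹ᵁ T := by
    change b (gY y) ∈ T
    rw [← Scheme.Hom.comp_apply, hY.w, Scheme.Hom.comp_apply]
    exact hyT
  obtain ⟨V, hV, hyV, eV⟩ := exists_isAffineOpen_mem_and_subset (U := b ⁻¹ᵁ T) (x := gY y) hyT₁
  replace eV : V ≤ b ⁻¹ᵁ T := eV
  let U' : Y'.Opens := gY ⁻¹ᵁ V ⊓ b' ⁻¹ᵁ T'
  have hpush : IsPushout (b.appLE T V eV) (g.appLE T T' eT) (gY.appLE V U' inf_le_left)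
      (b'.appLE T' U' inf_le_right) :=
    (isIso_pushoutSection_iff hY eT eV rfl).1
      (isIso_pushoutSection_of_isAffineOpen hY eT eV rfl hT hT' hV)
  have hU' : IsAffineOpen U' := by
    haveI : IsAffine (V : Scheme.{u}) := hV
    haveI : IsAffine (T : Scheme.{u}) := hT
    haveI : IsAffine (T' : Scheme.{u}) := hT'
    exact .of_isIso (Scheme.Hom.isPullback_resLE hY eT eV (UY := U') rfl).isoPullback.hom
  refine ⟨V, hV, U', hU', inf_le_left, ⟨hyV, hyT'⟩, ?_⟩
  letI : Algebra Γ(Y, V) Γ(Y', U') := sectionsAlg gY inf_le_left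
  letI : Algebra Γ(S, T) Γ(S', T') := sectionsAlg g eT
  let X₀ : Scheme.{u} := (f ⁻¹ᵁ V : X.Opens)
  let X₀' : Scheme.{u} := (f' ⁻¹ᵁ U' : X'.Opens)
  letI : X₀.Over (Spec (CommRingCat.of Γ(Y, V))) := ⟨preimageToSpec f⟩
  letI : X₀'.Over (Spec (CommRingCat.of Γ(Y', U'))) := ⟨preimageToSpec f'⟩
  letI : X₀.Over (Spec (CommRingCat.of Γ(S, T))) :=
    ⟨preimageToSpec f ≫ Spec.map (b.appLE T V eV)⟩
  letI : X₀'.Over (Spec (CommRingCat.of Γ(S', T'))) :=
    ⟨preimageToSpec f' ≫ Spec.map (b'.appLE T' U' inf_le_right)⟩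
  intro G
  haveI : X₀.IsSeparated := Groth.CohCmpLib.isSeparated_preimage f hV
  haveI : CompactSpace X₀ := isCompact_iff_compactSpace.mp (f.isCompact_preimage hV.isCompact)
  haveI : (F.restrict (f ⁻¹ᵁ V).ι).IsQuasicoherent :=
    Scheme.Modules.isQuasicoherent_restrictFunctor _ F
  have e' : f' ⁻¹ᵁ U' ≤ gX ⁻¹ᵁ (f ⁻¹ᵁ V) :=
    (f'.preimage_mono inf_le_left).trans (CohCmp.sqLE f gY f' gX hX.w V)
  have hA := Groth.CohCmpLib.isBC_resLE hX hV hU' (inf_le_left : U' ≤ gY ⁻¹ᵁ V) e'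
  have hR' : IsBC (A := Γ(S, T)) (A' := Γ(S', T')) (gX.resLE (f ⁻¹ᵁ V) (f' ⁻¹ᵁ U') e') :=
    hA.paste_vert (isPullback_SpecMap_of_isPushout _ _ _ _ hpush)
  refine Groth.CohCmpLib.etaT_bijective_of_tower (R := Γ(S, T)) (R' := Γ(S', T'))
    (b.appLE T V eV).hom (b'.appLE T' U' inf_le_right).hom
    (fun r => congr($(hpush.w.symm) r))
    (mem_span_range_of_isPushout hpush) (globalMap_comp _ rfl) (globalMap_comp _ rfl)
    hR' hA (F.restrict (f ⁻¹ᵁ V).ι) G n ?_
  exact Groth.CohCmpLib.etaT_bijective_of_flat G _ (isFlatOver_preimage hT hV eV F hF)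
    (fun i => flat_HH_preimage hT hV eV F E i (hR i)) n _

end Groth.Agent.S16950
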