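import Groth.Statements.S16951
import Groth.Agent.Limits.BC0.SeesawCriterion
import Groth.Agent.PicAux.Powers
import Groth.Agent.EulerDeg.LineBundle

set_option autoImplicit false
universe u
open PicF

namespace Groth.Agent.S16951

open AlgebraicGeometry CategoryTheory Scheme.Modules in
/-- Let f : X → S be a proper flat morphism of locally Noetherian schemes whose fibres are geometrically
integral, and let L be an invertible O_X-module with an inverse M (an isomorphism L ⊗ M ≅ O_X). Then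
the following are equivalent: (a) L ≅ f^* L₀ for some invertible O_S-module L₀; (b) for N = L and
for N = M, at every point s of S the space H^0(X_s, N|_{X_s}) of sections over the scheme-theoretic
fibre is nonzero and the degree-0 base change map of the fibre square, κ(s)^* f_* N → (X_s → Spec
κ(s))_* (N|_{X_s}), is an epimorphism. When this holds, dim_{κ(s)} H^0(X_s, N|_{X_s}) = 1 for every
s and both N, the counit f^* f_* L → L is an isomorphism, and any invertible L₀ with L ≅ f^* L₀ is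
isomorphic to f_* L. -/
theorem result
    {X S : Scheme.{u}} (f : X ⟶ S) [IsProper f] [Flat f] [IsLocallyNoetherian X] [IsLocallyNoetherian S]
    [GeometricallyIntegral f] (L M : X.Modules) (hL : PicF.IsInvertible L)
    (hM : Nonempty (CohB1.tensorMod L M ≅ Coh.structureModule X)) :
    ((∃ L₀ : S.Modules, PicF.IsInvertible L₀ ∧ Nonempty (L ≅ (pullback f).obj L₀)) ↔
      ((∀ s : S, Nontrivial (CohIII.fiberH f L s 0)) ∧ (∀ s : S, Nontrivial (CohIII.fiberH f M s 0)) ∧
        (∀ s : S, Epi (CohBC.bc0 f (S.fromSpecResidueField s) (f.fiberToSpecResidueField s) (f.fiberι s) (f.fiber_fac s) L)) ∧ (∀ s : S, Epi (CohBC.bc0 f (S.fromSpecResidueField s) (f.fiberToSpecResidueField s) (f.fiberι s) (f.fiber_fac s) M)))) ∧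
    (((∀ s : S, Nontrivial (CohIII.fiberH f L s 0)) ∧ (∀ s : S, Nontrivial (CohIII.fiberH f M s 0)) ∧
        (∀ s : S, Epi (CohBC.bc0 f (S.fromSpecResidueField s) (f.fiberToSpecResidueField s) (f.fiberι s) (f.fiber_fac s) L)) ∧ (∀ s : S, Epi (CohBC.bc0 f (S.fromSpecResidueField s) (f.fiberToSpecResidueField s) (f.fiberι s) (f.fiber_fac s) M))) →
      (∀ s : S, CohIII.fiberRank f L 0 s = 1 ∧ CohIII.fiberRank f M 0 s = 1) ∧
      IsIso ((pullbackPushforwardAdjunction f).counit.app L) ∧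
      ∀ L₀ : S.Modules, PicF.IsInvertible L₀ → Nonempty (L ≅ (pullback f).obj L₀) →
        Nonempty (L₀ ≅ (pushforward f).obj L)) := by
  open Groth.Abvar.Seesaw Groth.Limits.BC0 Groth.PicAux in
  haveI := Groth.Abvar.Seesaw.geometricallyConnected_of_integral f
  open Groth.Abvar.Seesaw Groth.Limits.BC0 Groth.PicAux in
  haveI := Groth.Abvar.Seesaw.locallyOfFinitePresentation_of_isNoetherian f
  open Groth.Abvar.Seesaw Groth.Limits.BC0 Groth.PicAux in
  have h0 : ∀ s : S, H0Const f s := h0Const_of_integral f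
  open Groth.Abvar.Seesaw Groth.Limits.BC0 Groth.PicAux in
  have hπ : ∀ V : S.Opens, Function.Bijective (f.app V) :=
    fun V => GrpschAbsch.H0General.app_bijective f V
  open Groth.Abvar.Seesaw Groth.Limits.BC0 Groth.PicAux in
  have hMi : PicF.IsInvertible M := isInvertible_of_isInverseOf hL hM
  open Groth.Abvar.Seesaw Groth.Limits.BC0 Groth.PicAux in
  haveI : L.IsQuasicoherent := (Groth.EulerDeg.isCoh_of_isInvertible hL).1
  open Groth.Abvar.Seesaw Groth.Limits.BC0 Groth.PicAux in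
  haveI : M.IsQuasicoherent := (Groth.EulerDeg.isCoh_of_isInvertible hMi).1
  let C := (∀ s : S, Nontrivial (CohIII.fiberH f L s 0)) ∧
    (∀ s : S, Nontrivial (CohIII.fiberH f M s 0)) ∧
    (∀ s : S, Epi (CohBC.bc0 f (S.fromSpecResidueField s) (f.fiberToSpecResidueField s)
      (f.fiberι s) (f.fiber_fac s) L)) ∧
    (∀ s : S, Epi (CohBC.bc0 f (S.fromSpecResidueField s) (f.fiberToSpecResidueField s)
      (f.fiberι s) (f.fiber_fac s) M))
  open Groth.Abvar.Seesaw Groth.Limits.BC0 Groth.PicAux in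
  have htriv : C → ∀ s : S, FibTriv f L s ∧ FibTriv f M s := by
    rintro ⟨hl, hm, -, -⟩ s
    obtain ⟨a, ha⟩ := SeesawCrit.exists_section_ne_zero f (hl s)
    obtain ⟨b, hb⟩ := SeesawCrit.exists_section_ne_zero f (hm s)
    obtain ⟨ι⟩ := hM
    obtain ⟨ι'⟩ := isInverseOf_symm (L := L) (M := M) ⟨ι⟩
    exact ⟨SeesawCrit.fibTriv_of_sections f (h0 s) hL hMi ι' ha hb,
      SeesawCrit.fibTriv_of_sections f (h0 s) hMi hL ι hb ha⟩
  open Groth.Abvar.Seesaw Groth.Limits.BC0 Groth.PicAux in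
  have hgen : C → ∀ s : S, ∃ V : S.Opens, s ∈ V ∧ ∃ e : Γ(L, f ⁻¹ᵁ V), Gen L _ e := fun h s => by
    obtain ⟨V, hy, m, hm⟩ := SeesawCrit.exists_lift f (h.1 s) (h.2.2.1 s)
    exact SeesawCrit.exists_gen f hL (h0 s) (htriv h s).1 hy m hm
  open Groth.Abvar.Seesaw Groth.Limits.BC0 Groth.PicAux in
  have hside : ∀ (N : X.Modules) (N₀ : S.Modules), PicF.IsInvertible N₀ →
      Nonempty (N ≅ (pullback f).obj N₀) →
      ∀ s : S, Nontrivial (CohIII.fiberH f N s 0) ∧ Epi (CohBC.bc0 f (S.fromSpecResidueField s)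
        (f.fiberToSpecResidueField s) (f.fiberι s) (f.fiber_fac s) N) := by
    rintro N N₀ hN₀ ⟨φ⟩ s
    obtain ⟨V, e, hsV, he⟩ := (isInvertible_iff_exists_gen N₀).1 hN₀ s
    have hm := (he.pull f).map φ.inv
    refine ⟨?_, SeesawCrit.fibreEpi_of_gen f (h0 s) hsV hm⟩
    exact Module.nontrivial_of_finrank_pos (R := S.residueField s)
      (show 0 < CohIII.fiberRank f N 0 s by
        rw [SeesawCrit.fiberRank_eq_one f (h0 s) (fibTriv_of_gen f hm hsV)]; exact one_pos)
  open Groth.Abvar.Seesaw Groth.Limits.BC0 Groth.PicAux in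
  have hfwd : (∃ L₀ : S.Modules, PicF.IsInvertible L₀ ∧ Nonempty (L ≅ (pullback f).obj L₀)) → C := by
    rintro ⟨L₀, hL₀, hφ⟩
    obtain ⟨φ⟩ := hφ
    obtain ⟨N₀, hN₀, hinv⟩ := exists_isInverseOf hL₀
    obtain ⟨ψ⟩ := isInverseOf_symm hinv
    obtain ⟨eT, -⟩ := exists_pullback_tensorMod f N₀ L₀
    obtain ⟨ψ'⟩ := isInverseOf_symm hinv
    have h1 : ClSub.IsInverseOf ((pullback f).obj N₀) L :=
      ⟨PicGrp.tensorModIso (Iso.refl _) φ ≪≫ eT.symm ≪≫ (pullback f).mapIso ψ ≪≫
        (pullback_structure_iso f).some⟩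
    have h2 : Nonempty (M ≅ (pullback f).obj N₀) :=
      isInverseOf_unique hM (isInverseOf_symm h1)
    exact ⟨fun s => (hside L L₀ hL₀ ⟨φ⟩ s).1, fun s => (hside M N₀ hN₀ h2 s).1,
      fun s => (hside L L₀ hL₀ ⟨φ⟩ s).2, fun s => (hside M N₀ hN₀ h2 s).2⟩
  open Groth.Abvar.Seesaw Groth.Limits.BC0 Groth.PicAux in
  refine ⟨⟨hfwd, fun h => ?_⟩, fun h => ⟨fun s => ⟨SeesawCrit.fiberRank_eq_one f (h0 s) (htriv h s).1,
    SeesawCrit.fiberRank_eq_one f (h0 s) (htriv h s).2⟩, ?_, ?_⟩⟩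
  · obtain ⟨N, hN, ⟨e⟩⟩ := exists_base_of_local f hπ (hgen h)
    exact ⟨N, hN, ⟨e.symm⟩⟩
  · choose V hsV e he using hgen h
    exact (pushforward_invertible_and_counit f hπ V
      (eq_top_iff.2 fun s _ => TopologicalSpace.Opens.mem_iSup.2 ⟨s, hsV s⟩) e he).2
  · rintro L₀ hL₀ ⟨φ⟩
    haveI := isIso_unit_of_invertible f hπ hL₀
    exact ⟨asIso ((pullbackPushforwardAdjunction f).unit.app L₀) ≪≫
      (pushforward f).mapIso φ.symm⟩

end Groth.Agent.S16951
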