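import Groth.Statements.S16955
import Groth.Agent.CohCmpLib.SectCmp

set_option autoImplicit false
universe u
open CohCmp

namespace Groth.Agent.S16955

open AlgebraicGeometry CategoryTheory Scheme.Modules in
/-- The comparison map is locally injective. Let f : X → Y be a morphism of schemes, F an O_X-module and
p a natural number; R^p f_* F is the p-th right derived functor of direct image on O-modules and ε_V
: H^p(f⁻¹V, F|_{f⁻¹V}) → Γ(V, R^p f_* F) the pinned comparison maps (the structure SectCmp, taken as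
a hypothesis). If a class x over f⁻¹V satisfies ε_V(x) = 0, then every point y of V has an open
neighbourhood W ⊆ V such that the restriction of x to H^p(f⁻¹W, F|_{f⁻¹W}) vanishes. -/
theorem result
    {X Y : Scheme.{u}} (f : X ⟶ Y) [HasInjectiveResolutions X.Modules]
    {Δ : RDer.DerivedLES (pushforward f)} (E : CohCmp.SectCmp f Δ) (F : X.Modules) (p : ℕ)
    (V : Y.Opens) (x : Coh.HHon X F (f ⁻¹ᵁ V) p) (hx : E.ε V F p x = 0) (y : Y) (hy : y ∈ V) :
    ∃ (W : Y.Opens) (hWV : W ≤ V), y ∈ W ∧ CohPull.resLE F (f.preimage_mono hWV) p x = 0 := by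
  obtain ⟨z, rfl⟩ := Groth.CohCmpLib.clsU_surjective
    (Groth.CohBase.flasque_ofInjective (injectiveResolution F)) (f ⁻¹ᵁ V) p x
  obtain ⟨W, h, hyW, hbd⟩ := Groth.CohCmpLib.kappa_local_bd E p _
    (Groth.CohCmpLib.injective_ofInjective _) z hx y hy
  refine ⟨W, h, hyW, ?_⟩
  exact (Groth.CohCmpLib.resLE_clsU (Groth.CohBase.Res.ofInjective (injectiveResolution F))
    (f.preimage_mono h) p z).trans ((Groth.CohCmpLib.clsU_eq_zero_iff
      (Groth.CohBase.flasque_ofInjective _) _ p _).2 hbd)

end Groth.Agent.S16955
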