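import Groth.Statements.S16962
import Groth.Agent.Misc12.ConstCoef

set_option autoImplicit false
universe u
open ConstAct

namespace Groth.Agent.S16962

open TensorProduct in
/-- Let R be a commutative ring, Γ a finite group and B a commutative R-algebra equipped with a comodule
structure over the Hopf algebra of R-valued functions on Γ (the coordinate ring of the constant
group scheme of Γ over Spec R, with basis the indicator functions e_γ) whose coaction B → B ⊗ Fun(Γ,
R) is a homomorphism of algebras, i.e. an action of the constant group scheme on Spec B. Then there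
is exactly one action of Γ on B by R-algebra automorphisms whose associated coaction b ↦ Σ_γ (γ · b)
⊗ e_γ is the given coaction; and for that action the ring of invariants of the comodule algebra (the
b whose coaction is b ⊗ 1) equals the ring of elements fixed by Γ. (That the coaction associated
with an action is a comodule algebra structure is the other direction of the published equivalence
and is a construction here.) -/
theorem result (R : Type u) [CommRing R]
    (B : Type u) [CommRing B] [Algebra R B] (Γ : Type u) [Group Γ] [Fintype Γ] [DecidableEq Γ]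
    [HopfRep.Comod R (ConstGrp.F R Γ) B] [GLin.IsCoactAlg R (ConstGrp.F R Γ) B] :
    ∃! a : MulSemiringAction Γ B, ∃ _ : SMulCommClass Γ R B,
      ConstAct.coactLin R B Γ = HopfRep.Comod.coact (k := R) (A := ConstGrp.F R Γ) (V := B) ∧
        GLin.invariants R (ConstGrp.F R Γ) B = ConstAct.inv R B Γ := by
  let σ : Γ → B →ₐ[R] B := fun g =>
    ((Algebra.TensorProduct.rid R R B).toAlgHom.comp
      (Algebra.TensorProduct.map (AlgHom.id R B) (ConstGrp.ev R g))).comp
        (GLin.coactAlgHom R (ConstGrp.F R Γ) B)
  let ρ : B →ₗ[R] B ⊗[R] ConstGrp.F R Γ := HopfRep.Comod.coact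
  have hσ : ∀ g b, σ g b = Groth.Misc12.ct g (ρ b) := by
    intro g b
    change (Algebra.TensorProduct.rid R R B) (Algebra.TensorProduct.map (AlgHom.id R B) (ConstGrp.ev R g) (ρ b)) = _
    induction ρ b using TensorProduct.induction_on with
    | zero => simp
    | tmul a f => simp
    | add x y hx hy => simp only [map_add, hx, hy]
  have h1 : ∀ b, σ 1 b = b := by
    intro b
    have h := congrArg (TensorProduct.rid R B) (DFunLike.congr_fun (HopfRep.Comod.counit_comp (k := R) (A := ConstGrp.F R Γ) (V := B)) b)
    simp only [LinearMap.flip_apply, TensorProduct.mk_apply, TensorProduct.rid_tmul, one_smul] at h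
    rw [hσ]
    refine Eq.trans ?_ h
    change _ = TensorProduct.rid R B ((CoalgebraStruct.counit (R := R) (A := ConstGrp.F R Γ)).lTensor B (ρ b))
    induction ρ b using TensorProduct.induction_on with
    | zero => simp
    | tmul a f => simp
    | add x y hx hy => simp only [map_add, hx, hy]
  have hmul : ∀ g h b, σ (g * h) b = σ g (σ h b) := by
    intro g h b
    let P : B ⊗[R] (ConstGrp.F R Γ ⊗[R] ConstGrp.F R Γ) →ₗ[R] B :=
      (TensorProduct.rid R B).toLinearMap ∘ₗ ((LinearMap.mul' R R) ∘ₗ
        TensorProduct.map (ConstGrp.ev R g).toLinearMap (ConstGrp.ev R h).toLinearMap).lTensor B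
    have hc := congrArg P (DFunLike.congr_fun (HopfRep.Comod.coassoc (k := R) (A := ConstGrp.F R Γ) (V := B)) b)
    have hl : ∀ x : B ⊗[R] ConstGrp.F R Γ,
        P (TensorProduct.assoc R B _ _ (ρ.rTensor _ x)) = σ g (Groth.Misc12.ct h x) := by
      intro x
      induction x using TensorProduct.induction_on with
      | zero => simp
      | tmul a f =>
        rw [Groth.Misc12.ct_tmul, map_smul, hσ, LinearMap.rTensor_tmul]
        induction ρ a using TensorProduct.induction_on with
        | zero => simp
        | tmul c f' => simp [P, smul_smul, mul_comm]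
        | add x y hx hy => simp only [map_add, TensorProduct.add_tmul, hx, hy, smul_add]
      | add x y hx hy => simp only [map_add, hx, hy]
    have hr : ∀ x : B ⊗[R] ConstGrp.F R Γ,
        P ((CoalgebraStruct.comul (R := R) (A := ConstGrp.F R Γ)).lTensor B x) = Groth.Misc12.ct (g * h) x := by
      intro x
      induction x using TensorProduct.induction_on with
      | zero => simp
      | tmul a f =>
        have hp : (LinearMap.mul' R R) (TensorProduct.map (ConstGrp.ev R g).toLinearMap (ConstGrp.ev R h).toLinearMap
            (Coalgebra.comul (R := R) f)) = f (g * h) := by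
          rw [← ConstGrp.pair_comul R Γ f g h]
          induction Coalgebra.comul (R := R) f using TensorProduct.induction_on with
          | zero => simp
          | tmul u v => simp
          | add x y hx hy => simp only [map_add, hx, hy, ConstGrp.add_apply]
        simp only [P, LinearMap.comp_apply, LinearMap.lTensor_tmul, LinearEquiv.coe_coe, TensorProduct.rid_tmul, Groth.Misc12.ct_tmul]
        rw [show CoalgebraStruct.comul f = Coalgebra.comul (R := R) f from rfl, hp]
      | add x y hx hy => simp only [map_add, hx, hy]
    simp only [LinearMap.comp_apply, LinearEquiv.coe_coe] at hc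
    change P (TensorProduct.assoc R B _ _ (ρ.rTensor _ (ρ b))) = P ((CoalgebraStruct.comul (R := R) (A := ConstGrp.F R Γ)).lTensor B (ρ b)) at hc
    rw [hl, hr, ← hσ h, ← hσ (g * h)] at hc
    exact hc.symm
  let a : MulSemiringAction Γ B :=
    { smul := fun g b => σ g b
      one_smul := h1
      mul_smul := hmul
      smul_zero := fun g => map_zero (σ g)
      smul_add := fun g => map_add (σ g)
      smul_one := fun g => map_one (σ g)
      smul_mul := fun g => map_mul (σ g) }
  haveI hcomm : @SMulCommClass Γ R B a.toDistribMulAction.toMulAction.toSMul _ :=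
    ⟨fun g r b => map_smul (σ g) r b⟩
  letI := a
  have hco : ConstAct.coactLin R B Γ = ρ := by
    refine LinearMap.ext fun b => ?_
    rw [ConstAct.coactLin_apply, Groth.Misc12.eq_sum_ct (ρ b)]
    exact Finset.sum_congr rfl fun g _ => congrArg (· ⊗ₜ[R] ConstGrp.e R g) (hσ g b)
  refine ⟨a, ⟨hcomm, hco, ?_⟩, ?_⟩
  · ext b
    change ρ b = b ⊗ₜ[R] (1 : ConstGrp.F R Γ) ↔ ∀ g : Γ, σ g b = b
    constructor
    · intro h g; rw [hσ, h]; simp
    · intro h
      refine Groth.Misc12.ct_ext fun g => ?_
      rw [← hσ, h g]; simp
  · rintro a' ⟨hcomm', hco', -⟩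
    have key : ∀ (g : Γ) (b : B), a'.smul g b = σ g b := by
      intro g b
      rw [hσ, show ρ b = _ from (DFunLike.congr_fun hco' b).symm, ConstAct.coactLin_apply]
      exact (Groth.Misc12.ct_sum_e (R := R) g (fun h : Γ => a'.smul h b)).symm
    obtain ⟨_, _⟩ := a'
    congr 1
    exact DistribMulAction.ext (funext fun g => funext fun b => key g b)

end Groth.Agent.S16962
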