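import Groth.Statements.S16963
import Groth.Agent.Misc12.ConstCoef

set_option autoImplicit false
universe u
open scoped BigOperators
open ConstAct

namespace Groth.Agent.S16963

open TensorProduct in
/-- Let R be a commutative ring and Γ a finite group acting on a commutative R-algebra B by R-algebra
automorphisms; regard B as a comodule algebra over the Hopf algebra of R-valued functions on Γ (the
constant group scheme of Γ acting on Spec B) through the coaction b ↦ Σ_γ (γ · b) ⊗ e_γ. Then the
action is tame — there is a comodule map α from the Hopf algebra, with its regular coaction, to B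
with α(1) = 1 (a total integral) — if and only if the trace b ↦ Σ_γ γ · b, which takes values in the
ring of invariants B^Γ, maps B onto B^Γ. -/
theorem result (R : Type u) [CommRing R]
    (B : Type u) [CommRing B] [Algebra R B] (Γ : Type u) [Group Γ] [Fintype Γ] [DecidableEq Γ]
    [MulSemiringAction Γ B] [SMulCommClass Γ R B] :
    letI := ConstAct.comod R B Γ
    (∃ α : ConstGrp.F R Γ →ₗ[R] B, Hoch.IsComodHom (ConstGrp.F R Γ) α ∧ α 1 = 1) ↔
      ∀ c : B, c ∈ ConstAct.inv R B Γ → ∃ b : B, ∑ γ : Γ, γ • b = c := by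
  constructor
  · rintro ⟨α, hα, h1⟩
    have hγ : ∀ γ : Γ, γ • α (ConstGrp.e R 1) = α (ConstGrp.e R γ⁻¹) := by
      intro γ
      have h := congrArg (Groth.Misc12.ct γ) (DFunLike.congr_fun hα (ConstGrp.e R (1 : Γ)))
      change Groth.Misc12.ct γ (ConstAct.coactLin R B Γ (α (ConstGrp.e R (1 : Γ)))) =
        Groth.Misc12.ct γ (α.rTensor _ (Coalgebra.comul (R := R) (ConstGrp.e R (1 : Γ)))) at h
      rw [ConstAct.coactLin_apply, Groth.Misc12.ct_sum_e, ConstGrp.comul_e, map_sum, map_sum] at h
      rw [h]
      simp only [LinearMap.rTensor_tmul, Groth.Misc12.ct_tmul]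
      rw [Finset.sum_eq_single γ⁻¹]
      · simp
      · intro x _ hx
        rw [ConstGrp.e_apply_of_ne, zero_smul]
        intro hc
        apply hx
        rw [hc, mul_one, inv_inv]
      · simp
    intro c hc
    refine ⟨c * α (ConstGrp.e R 1), ?_⟩
    simp only [smul_mul', hc _, hγ, ← Finset.mul_sum]
    rw [Fintype.sum_equiv (Equiv.inv Γ) (fun γ => α (ConstGrp.e R γ⁻¹)) (fun γ => α (ConstGrp.e R γ)) (fun _ => rfl),
      ← map_sum, ConstGrp.sum_e, h1, mul_one]
  · intro h
    obtain ⟨b, hb⟩ := h 1 (fun g => smul_one g)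
    refine ⟨(ConstGrp.basis R Γ).constr R (fun g => g⁻¹ • b), ?_, ?_⟩
    · refine ConstGrp.linearMap_ext fun g => Groth.Misc12.ct_ext fun γ => ?_
      simp only [LinearMap.comp_apply]
      change Groth.Misc12.ct γ (ConstAct.coactLin R B Γ _) =
        Groth.Misc12.ct γ (LinearMap.rTensor _ _ (Coalgebra.comul (R := R) (ConstGrp.e R g)))
      rw [ConstAct.coactLin_apply, Groth.Misc12.ct_sum_e, ConstGrp.comul_e, map_sum, map_sum]
      simp only [LinearMap.rTensor_tmul, Groth.Misc12.ct_tmul, ← ConstGrp.basis_apply, Module.Basis.constr_basis]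
      rw [Finset.sum_eq_single (g * γ⁻¹)]
      · simp [mul_smul]
      · intro x _ hx
        rw [ConstGrp.basis_apply, ConstGrp.e_apply_of_ne, zero_smul]
        intro hc
        apply hx
        rw [hc]; group
      · simp
    · rw [← ConstGrp.sum_e (R := R) (G := Γ), map_sum]
      simp only [← ConstGrp.basis_apply, Module.Basis.constr_basis]
      rw [← hb]
      exact Fintype.sum_equiv (Equiv.inv Γ) _ _ (fun _ => rfl)

end Groth.Agent.S16963
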