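import Groth.Statements.S16966
import Groth.Agent.CurveBridge.Main
import Groth.Agent.CurveBridge.Clifford
import Groth.Agent.CurveBridge.SubLine

set_option autoImplicit false
universe u
open CategoryTheory CategoryTheory.Limits AlgebraicGeometry Opposite
open Curves Groth.CurveBridge

namespace Groth.Agent.S16966

/-- Let X be a smooth projective curve over an algebraically closed field k of characteristic 0 (an
integral scheme, proper over k, of dimension one, with all local rings regular), of genus g ≥ 1, and
L an invertible O_X-module with deg L > 2g. Then the morphism to projective space given by the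
complete linear system of L is linearly stable, stated through the criterion by invertible
subsheaves: for every invertible module M and every monomorphism ι : M ⟶ L that is not an
isomorphism, with dim_k H^0(X, M) ≥ 2, one has deg L · (h^0(M) - 1) < deg M · (h^0(L) - 1), i.e. the
reduced degree deg M / (h^0(M) - 1) of the projection exceeds the reduced degree deg L / (h^0(L) -
1). Degrees are χ(·) - χ(O_X). -/
theorem result (k : Type u) [Field k] [IsAlgClosed k] [CharZero k] (X : Scheme.{u}) [X.Over (Spec (CommRingCat.of k))]
    [IsIntegral X] [IsProper (X ↘ (Spec (CommRingCat.of k)))] (hdim : topologicalKrullDim X = 1)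
    (hreg : ∀ x : X, IsRegularLocalRing (X.presheaf.stalk x))
    (hg : 1 ≤ Curv2.genus k X) (L : X.Modules) (hL : PicF.IsInvertible L)
    (hdeg : 2 * (Curv2.genus k X : ℤ) < Curv2.deg k X L 1)
    (M : X.Modules) (hM : PicF.IsInvertible M) (ι : M ⟶ L) [Mono ι] (hι : ¬ IsIso ι)
    (h2 : 2 ≤ Module.finrank k (Coh.HH X M 0)) :
    Curv2.deg k X L 1 * ((Module.finrank k (Coh.HH X M 0) : ℤ) - 1) <
      Curv2.deg k X M 1 * ((Module.finrank k (Coh.HH X L 0) : ℤ) - 1) := by
  have h : IsRegCurve X := ⟨hdim, hreg⟩
  have hK := isFunctionField (k := k) (X := X) hdim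
  have hlt := deg_lt_of_mono ι k hdim hM hL hι
  obtain ⟨D, -, -, hD0, hDd, -⟩ := exists_div_numerics h hK hM
  obtain ⟨E, -, -, hE0, hEd, -⟩ := exists_div_numerics h hK hL
  rw [genus_eq h hK] at hg hdeg
  rw [hEd] at hdeg hlt ⊢
  rw [hDd] at hlt ⊢
  have hell := Groth.FunFld1.ell_eq_of_deg_ge hK (D := E) (by omega)
  have hm := slope_lt hK (D := D) hg hdeg (m := Module.finrank k (Coh.HH X M 0) - 1) (by omega)
    (by omega) (by omega) (Or.inl hlt)
  rw [hE0, hell, show ((Module.finrank k (Coh.HH X M 0) : ℤ) - 1) =
    ((Module.finrank k (Coh.HH X M 0) - 1 : ℕ) : ℤ) from (by omega)]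
  linarith [show (E.deg + 1 - (FunFld.genus k X.functionField : ℤ) - 1) =
    E.deg - (FunFld.genus k X.functionField : ℤ) from by ring]

end Groth.Agent.S16966
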