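import Groth.Statements.S16967
import Groth.Agent.CurveBridge.CliffordApps
import Groth.Agent.Curves1.RR.Numerics

set_option autoImplicit false
universe u
open CategoryTheory CategoryTheory.Limits AlgebraicGeometry Opposite
open Curves

open Groth.CurveBridge

namespace Groth.Agent.S16967

/-- Let X be a smooth projective curve over an algebraically closed field k of characteristic 0
(integral, proper over k, of dimension one, all local rings regular) of genus g ≥ 3 that is not
hyperelliptic: there is no invertible module of degree 2 with two k-linearly independent global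
sections. Then the canonical morphism of X is linearly stable, stated through the criterion by
invertible subsheaves: for every invertible module M and every monomorphism ι : M ⟶ Ω_{X/k} which is
not an isomorphism, with dim_k H^0(X, M) ≥ 2, one has deg Ω_{X/k} · (h^0(M) - 1) < deg M ·
(h^0(Ω_{X/k}) - 1). Degrees are χ(·) - χ(O_X). -/
theorem result (k : Type u) [Field k] [IsAlgClosed k] [CharZero k] (X : Scheme.{u}) [X.Over (Spec (CommRingCat.of k))]
    [IsIntegral X] [IsProper (X ↘ (Spec (CommRingCat.of k)))] (hdim : topologicalKrullDim X = 1)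
    (hreg : ∀ x : X, IsRegularLocalRing (X.presheaf.stalk x))
    (hg : 3 ≤ Curv2.genus k X)
    (hnh : ¬ ∃ (N : X.Modules) (t : Fin 2 → LinSer.Sect X N), LinSer.IsLinSer k X N 2 1 t)
    (M : X.Modules) (hM : PicF.IsInvertible M) (ι : M ⟶ Omega.sheaf (X ↘ (Spec (CommRingCat.of k)))) [Mono ι] (hι : ¬ IsIso ι)
    (h2 : 2 ≤ Module.finrank k (Coh.HH X M 0)) :
    Curv2.deg k X (Omega.sheaf (X ↘ (Spec (CommRingCat.of k)))) 1 * ((Module.finrank k (Coh.HH X M 0) : ℤ) - 1) <
      Curv2.deg k X M 1 * ((Module.finrank k (Coh.HH X (Omega.sheaf (X ↘ (Spec (CommRingCat.of k)))) 0) : ℤ) - 1) := by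
  have h : IsRegCurve X := ⟨hdim, hreg⟩
  haveI := smooth_of_regular k X hreg
  have hK := isFunctionField (k := k) (X := X) hdim
  obtain ⟨hn0, -, hnd⟩ := omega_numerics (k := k) (X := X) h
  obtain ⟨d, hd, -, -, -, hdiso⟩ := sub_numerics ι k h.dim hM (isInvertible_omega hK)
  have hdpos : d ≠ 0 := fun he => hι (hdiso he)
  have hs : Nontrivial (Coh.HH X M 0) := Module.nontrivial_of_finrank_pos (R := k) (by omega)
  have hcl := clifford_of_le_omega h hM hs ι
  have hne : 2 * (Module.finrank k (Coh.HH X M 0) : ℤ) ≠ Curv2.deg k X M 1 + 2 := fun he => by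
    obtain ⟨N, t, hN, -⟩ := CliffordEquality.extremal h hM (by omega) (by omega) he
    exact hnh ⟨N, t, hN⟩
  rw [hn0, hnd]
  have h1 : 2 * ((Module.finrank k (Coh.HH X M 0) : ℤ) - 1) + 1 ≤ Curv2.deg k X M 1 := by omega
  have h3 : (3 : ℤ) ≤ Curv2.genus k X := by exact_mod_cast hg
  nlinarith

end Groth.Agent.S16967
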