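import Groth.Statements.S16968
import Groth.Agent.CurveBridge.CliffordApps
import Groth.Agent.Curves1.RR.Numerics

set_option autoImplicit false
universe u
open CategoryTheory CategoryTheory.Limits AlgebraicGeometry Opposite
open Curves

open Groth.CurveBridge

namespace Groth.Agent.S16968

/-- Let X be a smooth projective curve over an algebraically closed field k of characteristic 0
(integral, proper over k, of dimension one, all local rings regular) of genus g ≥ 3 which is
hyperelliptic, with a g^1_2 given as an invertible module N of degree 2 and two k-linearly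
independent global sections t_0, t_1. Then the canonical morphism of X is linearly semistable but
not linearly stable, stated through the criterion by invertible subsheaves: (i) for every invertible
module M and every monomorphism ι : M ⟶ Ω_{X/k} which is not an isomorphism, with dim_k H^0(X, M) ≥
2, one has deg Ω_{X/k} · (h^0(M) - 1) ≤ deg M · (h^0(Ω_{X/k}) - 1); (ii) N admits a monomorphism
into Ω_{X/k} which is not an isomorphism and for which equality holds. Degrees are χ(·) - χ(O_X).
(The published statement gives no genus bound for the hyperelliptic case; here g ≥ 3 is assumed,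
since for g = 2 the module N is the canonical module itself and clause (ii) fails.) -/
theorem result (k : Type u) [Field k] [IsAlgClosed k] [CharZero k] (X : Scheme.{u}) [X.Over (Spec (CommRingCat.of k))]
    [IsIntegral X] [IsProper (X ↘ (Spec (CommRingCat.of k)))] (hdim : topologicalKrullDim X = 1)
    (hreg : ∀ x : X, IsRegularLocalRing (X.presheaf.stalk x))
    (hg : 3 ≤ Curv2.genus k X)
    (N : X.Modules) (t : Fin 2 → LinSer.Sect X N) (hN : LinSer.IsLinSer k X N 2 1 t) :
    (∀ (M : X.Modules) (ι : M ⟶ Omega.sheaf (X ↘ (Spec (CommRingCat.of k)))), PicF.IsInvertible M → Mono ι → ¬ IsIso ι →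
        2 ≤ Module.finrank k (Coh.HH X M 0) →
        Curv2.deg k X (Omega.sheaf (X ↘ (Spec (CommRingCat.of k)))) 1 * ((Module.finrank k (Coh.HH X M 0) : ℤ) - 1) ≤
          Curv2.deg k X M 1 * ((Module.finrank k (Coh.HH X (Omega.sheaf (X ↘ (Spec (CommRingCat.of k)))) 0) : ℤ) - 1)) ∧
      ∃ ι : N ⟶ Omega.sheaf (X ↘ (Spec (CommRingCat.of k))), Mono ι ∧ ¬ IsIso ι ∧
        Curv2.deg k X (Omega.sheaf (X ↘ (Spec (CommRingCat.of k)))) 1 * ((Module.finrank k (Coh.HH X N 0) : ℤ) - 1) =
          Curv2.deg k X N 1 * ((Module.finrank k (Coh.HH X (Omega.sheaf (X ↘ (Spec (CommRingCat.of k)))) 0) : ℤ) - 1) := by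
  have h : IsRegCurve X := ⟨hdim, hreg⟩
  haveI := smooth_of_regular k X hreg
  have hK := isFunctionField (k := k) (X := X) hdim
  have hF := isFF k X hdim
  obtain ⟨hn0, -, hnd⟩ := omega_numerics (k := k) (X := X) h
  have hΩ := isInvertible_omega (k := k) (X := X) hK
  have h3 : (3 : ℤ) ≤ Curv2.genus k X := by exact_mod_cast hg
  refine ⟨fun M ι hM hι hiso h2 => ?_, ?_⟩
  · have hs : Nontrivial (Coh.HH X M 0) := Module.nontrivial_of_finrank_pos (R := k) (by omega)
    have hcl := clifford_of_le_omega h hM hs ι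
    rw [hn0, hnd]
    nlinarith
  obtain ⟨hNi, hNd, hNs⟩ := hN
  haveI := finite_h h hK hNi 0
  have hN2 : 2 ≤ Module.finrank k (Coh.HH X N 0) := le_finrank_of_linIndep t hNs
  obtain ⟨N', hN', hNN⟩ := Groth.PicAux.exists_isInverseOf hNi
  have hT := Groth.PicAux.isInvertible_tensorMod hΩ hN'
  have hd' := Groth.EulerDeg.deg_tensor_invertible k hdim.le hΩ hN'
  have hd0 := Groth.EulerDeg.deg_tensor_invertible k hdim.le hNi hN'
  rw [Groth.EulerDeg.deg_congr (k := k) hNN.some, Groth.EulerDeg.deg_structure] at hd0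
  -- sections of `Ω ⊗ N⁻¹`
  obtain ⟨φ, D, hφ, hlD, hdD, -⟩ := exists_divEmb h hK hNi
  obtain ⟨ψ, E, hψ, -, -, -⟩ := exists_divEmb h hK hN'
  obtain ⟨χ, C, hχ, hlC, hdC, -⟩ := exists_divEmb h hK hΩ
  have hC := isCanonical_of_numerics h hK hlC hdC hn0 hnd
  obtain ⟨ρ, hρ⟩ := exists_divEmb_tensor h hNi hN' hφ hψ
  obtain ⟨τ, hτ⟩ := exists_divEmb_tensor h hΩ hN' hχ hψ
  obtain ⟨nl, nd, -⟩ := numerics_of_divEmb h hK (Groth.PicAux.isInvertible_tensorMod hNi hN') hρ
  rw [Groth.EulerDeg.finrank_congr (k := k) hNN.some 0, finrank_h0_structure h hK] at nl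
  rw [Groth.EulerDeg.deg_congr (k := k) hNN.some 1, Groth.EulerDeg.deg_structure] at nd
  obtain ⟨x, hx, hxE⟩ := Groth.FunFld1.exists_eq_neg_div hK (D := D + E) (fun hb => by
    unfold FunFld.ell at nl
    rw [hb, finrank_bot] at nl
    omega) nd.symm
  have hell : Module.finrank k (Coh.HH X (CohB1.tensorMod (Omega.sheaf (X ↘ Spec (CommRingCat.of k))) N') 0) =
      FunFld.ell (C - D) := by
    rw [(numerics_of_divEmb h hK hT hτ).1, ← hF.ell_add_div (C - D) (inv_ne_zero hx)]
    congr 1
    have hE : E = -D - FunFld.div k x := by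
      rw [eq_sub_iff_add_eq, eq_neg_iff_add_eq_zero, ← hxE]
      abel
    rw [hF.div_inv, hE]
    abel
  have hrr := Groth.FunFld1.riemann_roch hK hC D
  rw [← hlD, ← hdD, hNd, ← hell, ← genus_eq h hK] at hrr
  obtain ⟨s, hs'⟩ := exists_mono_of_nontrivial k hT
    (Module.nontrivial_of_finrank_pos (R := k) (by omega))
  obtain ⟨ι, hι⟩ := exists_mono_of_section_tensor hNN s
  have hcl := clifford_of_le_omega h hNi (Module.nontrivial_of_finrank_pos (R := k) (by omega)) ι
  refine ⟨ι, hι, fun hiso => ?_, ?_⟩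
  · have := Groth.EulerDeg.deg_congr (k := k) (asIso ι) 1
    omega
  · have h2 : (Module.finrank k (Coh.HH X N 0) : ℤ) = 2 := by omega
    rw [hn0, hnd, hNd, h2]
    push_cast
    ring

end Groth.Agent.S16968
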