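import Groth.Statements.S16969
import Groth.Agent.CliffIndex.LinStable
import Groth.Agent.CurveBridge.BasisMap
import Groth.Agent.CurveBridge.RegularSmooth
import Groth.Agent.CurveBridge.LinSeriesExists
-- import your own Groth.Agent.* helpers here

set_option autoImplicit false
universe u
open CategoryTheory CategoryTheory.Limits AlgebraicGeometry Opposite
open Curves

namespace Groth.Agent.S16969

open Groth.Chow
open scoped Groth.CurveBridge

/-- Let X be a smooth projective curve over an algebraically closed field k of characteristic 0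
(integral, proper over k, of dimension one, all local rings regular) of genus g ≥ 5 which is neither
hyperelliptic nor trigonal (no invertible module of degree 2, resp. 3, with two k-linearly
independent global sections) and which, if g = 6, is not a plane curve (admits no closed immersion
into P^2_k over k). Let V ⊂ H^0(X, Ω_{X/k}) be a hyperplane without base points, given by g - 1
global sections σ_i : O_X ⟶ Ω_{X/k} that are k-linearly independent and generate Ω_{X/k} at every
point; V defines the projection of the canonical image of X from a point not on it. Then this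
projection is linearly stable: for every m with 2 ≤ m < g - 1, every k-linearly independent family
w_1, …, w_m of global sections of Ω_{X/k} lying in the k-span of the σ_i, and every invertible
module M with a monomorphism ι : M ⟶ Ω_{X/k} through whose global sections all the w_j factor, one
has deg Ω_{X/k} · (m - 1) < deg M · (g - 2); that is, every proper projection has reduced degree
larger than (2g - 2)/(g - 2). -/
theorem result (k : Type u) [Field k] [IsAlgClosed k] [CharZero k] (X : Scheme.{u}) [X.Over (Spec (CommRingCat.of k))]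
    [IsIntegral X] [IsProper (X ↘ (Spec (CommRingCat.of k)))] (hdim : topologicalKrullDim X = 1)
    (hreg : ∀ x : X, IsRegularLocalRing (X.presheaf.stalk x))
    (hg : 5 ≤ Curv2.genus k X)
    (hnh : ¬ ∃ (N : X.Modules) (t : Fin 2 → LinSer.Sect X N), LinSer.IsLinSer k X N 2 1 t)
    (hnt : ¬ ∃ (N : X.Modules) (t : Fin 2 → LinSer.Sect X N), LinSer.IsLinSer k X N 3 1 t)
    (hpl : Curv2.genus k X = 6 → ∀ i : X ⟶ CohB1.ProjSpace 2 k, IsClosedImmersion i →
      i ≫ CohB1.ProjSpace.toSpec 2 k ≠ X ↘ Spec (CommRingCat.of k))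
    (σ : Fin (Curv2.genus k X - 1) → (Coh.structureModule X ⟶ Omega.sheaf (X ↘ (Spec (CommRingCat.of k)))))
    (hσ : LinSer.LinIndep k X (Omega.sheaf (X ↘ (Spec (CommRingCat.of k)))) (fun i => PicF2.secVal (Omega.sheaf (X ↘ (Spec (CommRingCat.of k)))) (σ i) ⊤))
    (hbpf : ⨆ i, CohB1.genLocus (Omega.sheaf (X ↘ (Spec (CommRingCat.of k)))) (σ i) = ⊤) :
    ∀ (m : ℕ) (w : Fin m → LinSer.Sect X (Omega.sheaf (X ↘ (Spec (CommRingCat.of k))))), 2 ≤ m → m + 1 < Curv2.genus k X →
      LinSer.LinIndep k X (Omega.sheaf (X ↘ (Spec (CommRingCat.of k)))) w →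
      (∀ j, ∃ c : Fin (Curv2.genus k X - 1) → k,
        w j = ∑ i, (Coh.toGlobal (X ↘ Spec (CommRingCat.of k)) (c i)) • PicF2.secVal (Omega.sheaf (X ↘ (Spec (CommRingCat.of k)))) (σ i) ⊤) →
      ∀ (M : X.Modules) (ι : M ⟶ Omega.sheaf (X ↘ (Spec (CommRingCat.of k)))), PicF.IsInvertible M → Mono ι →
        (∀ j, ∃ v : LinSer.Sect X M, (ι.val.app (op ⊤)).hom v = w j) →
        Curv2.deg k X (Omega.sheaf (X ↘ (Spec (CommRingCat.of k)))) 1 * ((m : ℤ) - 1) < Curv2.deg k X M 1 * ((Curv2.genus k X : ℤ) - 2) := by
  intro m w hm hm' hw hwσ M ι hM hι hv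
  haveI := hι
  have h : Groth.CurveBridge.IsRegCurve X := ⟨hdim, hreg⟩
  haveI := Groth.CurveBridge.smooth_of_regular k X hreg
  have hK := Groth.CurveBridge.isFunctionField (k := k) (X := X) h.dim
  choose v hv using hv
  haveI := Groth.CurveBridge.finite_h h hK hM 0
  obtain ⟨hvi, hvm⟩ := Groth.CliffIndex.le_finrank_of_images ι w hw v hv
  obtain ⟨D, d0, dd, h1, hle, od⟩ := Groth.CliffIndex.exists_numerics_sub_omega h hM ι
  rw [d0] at hvm
  have hgX := Groth.CurveBridge.genus_eq h hK
  have h12 : ∀ N : FunFld.Divisor k X.functionField, N.deg = 2 → FunFld.ell N < 2 := fun N hN => by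
    by_contra hlt
    exact hnh (Groth.CurveBridge.exists_linSer_of_divisor h hK (d := 2) (r := 1) (by rw [hN]; norm_num) (by omega))
  rw [hgX] at hg hm' hpl ⊢
  have hc := Groth.CliffIndex.cliffGe_one_of_no_g12 hK h12
  rw [od, dd]
  set g := FunFld.genus k X.functionField
  have h13 : ∀ A : FunFld.Divisor k X.functionField, A.deg = 3 → FunFld.ell A < 2 := fun A hA => by
    by_contra hlt
    exact hnt (Groth.CurveBridge.exists_linSer_of_divisor h hK (d := 3) (r := 1) (by rw [hA]; norm_num) (by omega))
  have hc2 := Groth.CliffIndex.cliffGe_two hK (by omega) hc h13 fun h6 A hA hsep => by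
    obtain ⟨N, ψ, U₀, hU₀, e₀, hN, -, hm0, hD⟩ :=
      Groth.CurveBridge.exists_invertible_embedding (k := k) h A
    have hψ : Groth.CurveBridge.IsDivEmb h ψ A := ⟨hm0, hD⟩
    have hb : ∀ P, FunFld.ell (A - Finsupp.single P 1) < FunFld.ell A := fun P => by
      have h1 := hsep P P
      have h2 := Groth.CliffIndex.ell_le_single_add hK (A - Finsupp.single P 1) P
      omega
    obtain ⟨t, hli, hmem, hU⟩ :=
      Groth.CurveBridge.BasisMap.exists_basis_sections h hK hN hψ hb (n := 2) hA
    obtain ⟨r, hr⟩ := ToPn.exists_r (X ↘ Spec (CommRingCat.of k)) N t hU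
    refine hpl h6 r (Groth.CurveBridge.isClosedImmersion_of_sep h t hK hψ hN hr hU ?_ hsep)
      (ToPn.r_toSpec hr hU)
    haveI := (Groth.CurveBridge.isFF k X h.dim).finiteDimensional_L A
    refine (Submodule.eq_of_le_of_finrank_le (Submodule.span_le.mpr
      (by rintro _ ⟨l, rfl⟩; exact hmem l)) ?_).ge
    rw [finrank_span_eq_card hli, Fintype.card_fin]
    exact hA.le
  have hmain := hc2 D
  by_cases hs : 2 ≤ (FunFld.ell D : ℤ) - (D.deg + 1 - g)
  · have hd := hmain (by omega) hs
    nlinarith
  · nlinarith

end Groth.Agent.S16969
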