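import Groth.Statements.S1697
import Groth.Agent.RefRank.PicProjSpaceUFD

set_option autoImplicit false
universe u
open CategoryTheory CategoryTheory.Limits AlgebraicGeometry TopologicalSpace
open SDiv

namespace Groth.Agent.S1697

/-- Let R be a unique factorisation domain and n a natural number. Then every invertible module on
projective n-space over R is isomorphic to the twisting sheaf O(d) for some integer d. -/
theorem result (R : Type u) [CommRing R] [IsDomain R] [UniqueFactorizationMonoid R] (n : ℕ)
    (L : (CohB1.ProjSpace n R).Modules) (hL : PicF.IsInvertible L) :
    ∃ d : ℤ, Nonempty (L ≅ Twist.twistProjSpace n R d) := by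
  exact Groth.RefRank.PicUFD.exists_iso_twist L hL

end Groth.Agent.S1697
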