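import Groth.Statements.S16970
import Groth.Agent.CliffIndex.LinStable
import Groth.Agent.CurveBridge.BasisMap
import Groth.Agent.CurveBridge.RegularSmooth
import Groth.Agent.CurveBridge.LinSeriesExists
-- import your own Groth.Agent.* helpers here

set_option autoImplicit false
universe u
open CategoryTheory CategoryTheory.Limits AlgebraicGeometry Opposite
open Curves

namespace Groth.Agent.S16970

open Groth.Chow
open scoped Groth.CurveBridge

/-- Let X be a smooth projective curve over an algebraically closed field k of characteristic 0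
(integral, proper over k, of dimension one, all local rings regular) of genus 6 which is neither
hyperelliptic nor trigonal (no invertible module of degree 2, resp. 3, with two k-linearly
independent global sections) and which is a plane curve: there is a closed immersion i : X ⟶ P^2_k
over k (so X is a smooth plane quintic; such a curve is in fact neither hyperelliptic nor trigonal,
but both hypotheses are kept as in the published statement, whose proof uses the absence of a g^1_3
in this case too). Let V ⊂ H^0(X, Ω_{X/k}) be a hyperplane without base points, given by 5 global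
sections σ_i : O_X ⟶ Ω_{X/k} that are k-linearly independent and generate Ω_{X/k} at every point.
Then the projection of the canonical image from the corresponding point is linearly semistable: for
every m with 2 ≤ m < 5, every k-linearly independent family w_1, …, w_m of global sections of
Ω_{X/k} in the k-span of the σ_i, and every invertible module M with a monomorphism ι : M ⟶ Ω_{X/k}
through whose global sections all the w_j factor, deg Ω_{X/k} · (m - 1) ≤ deg M · (g - 2). -/
theorem result (k : Type u) [Field k] [IsAlgClosed k] [CharZero k] (X : Scheme.{u}) [X.Over (Spec (CommRingCat.of k))]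
    [IsIntegral X] [IsProper (X ↘ (Spec (CommRingCat.of k)))] (hdim : topologicalKrullDim X = 1)
    (hreg : ∀ x : X, IsRegularLocalRing (X.presheaf.stalk x))
    (hg : Curv2.genus k X = 6)
    (hnh : ¬ ∃ (N : X.Modules) (t : Fin 2 → LinSer.Sect X N), LinSer.IsLinSer k X N 2 1 t)
    (hnt : ¬ ∃ (N : X.Modules) (t : Fin 2 → LinSer.Sect X N), LinSer.IsLinSer k X N 3 1 t)
    (i : X ⟶ CohB1.ProjSpace 2 k) [IsClosedImmersion i] (hi : i ≫ CohB1.ProjSpace.toSpec 2 k = X ↘ Spec (CommRingCat.of k))
    (σ : Fin (Curv2.genus k X - 1) → (Coh.structureModule X ⟶ Omega.sheaf (X ↘ (Spec (CommRingCat.of k)))))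
    (hσ : LinSer.LinIndep k X (Omega.sheaf (X ↘ (Spec (CommRingCat.of k)))) (fun i => PicF2.secVal (Omega.sheaf (X ↘ (Spec (CommRingCat.of k)))) (σ i) ⊤))
    (hbpf : ⨆ i, CohB1.genLocus (Omega.sheaf (X ↘ (Spec (CommRingCat.of k)))) (σ i) = ⊤) :
    ∀ (m : ℕ) (w : Fin m → LinSer.Sect X (Omega.sheaf (X ↘ (Spec (CommRingCat.of k))))), 2 ≤ m → m + 1 < Curv2.genus k X →
      LinSer.LinIndep k X (Omega.sheaf (X ↘ (Spec (CommRingCat.of k)))) w →
      (∀ j, ∃ c : Fin (Curv2.genus k X - 1) → k,
        w j = ∑ i, (Coh.toGlobal (X ↘ Spec (CommRingCat.of k)) (c i)) • PicF2.secVal (Omega.sheaf (X ↘ (Spec (CommRingCat.of k)))) (σ i) ⊤) →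
      ∀ (M : X.Modules) (ι : M ⟶ Omega.sheaf (X ↘ (Spec (CommRingCat.of k)))), PicF.IsInvertible M → Mono ι →
        (∀ j, ∃ v : LinSer.Sect X M, (ι.val.app (op ⊤)).hom v = w j) →
        Curv2.deg k X (Omega.sheaf (X ↘ (Spec (CommRingCat.of k)))) 1 * ((m : ℤ) - 1) ≤ Curv2.deg k X M 1 * ((Curv2.genus k X : ℤ) - 2) := by
  intro m w hm hm' hw hwσ M ι hM hι hv
  haveI := hι
  have h : Groth.CurveBridge.IsRegCurve X := ⟨hdim, hreg⟩
  haveI := Groth.CurveBridge.smooth_of_regular k X hreg
  have hK := Groth.CurveBridge.isFunctionField (k := k) (X := X) h.dim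
  choose v hv using hv
  haveI := Groth.CurveBridge.finite_h h hK hM 0
  obtain ⟨hvi, hvm⟩ := Groth.CliffIndex.le_finrank_of_images ι w hw v hv
  obtain ⟨D, d0, dd, h1, hle, od⟩ := Groth.CliffIndex.exists_numerics_sub_omega h hM ι
  rw [d0] at hvm
  have hgX := Groth.CurveBridge.genus_eq h hK
  have h12 : ∀ N : FunFld.Divisor k X.functionField, N.deg = 2 → FunFld.ell N < 2 := fun N hN => by
    by_contra hlt
    exact hnh (Groth.CurveBridge.exists_linSer_of_divisor h hK (d := 2) (r := 1) (by rw [hN]; norm_num) (by omega))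
  rw [hgX] at hg hm' ⊢
  have hc := Groth.CliffIndex.cliffGe_one_of_no_g12 hK h12
  rw [od, dd]
  set g := FunFld.genus k X.functionField
  have h13 : ∀ A : FunFld.Divisor k X.functionField, A.deg = 3 → FunFld.ell A < 2 := fun A hA => by
    by_contra hlt
    exact hnt (Groth.CurveBridge.exists_linSer_of_divisor h hK (d := 3) (r := 1) (by rw [hA]; norm_num) (by omega))
  obtain ⟨C, hC⟩ := Groth.FunFld1.exists_isCanonical hK
  have hr := Groth.FunFld1.riemann_roch hK hC D
  have hdC := Groth.FunFld1.deg_canonical hK hC
  have hres := h13 (C - D)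
  rw [Groth.FunFld1.deg_sub] at hres
  have hd : 2 ≤ (FunFld.ell D : ℤ) - (D.deg + 1 - g) → 2 * (FunFld.ell D : ℤ) - 1 ≤ D.deg := fun hs => by
    have := hc D (by omega) hs
    omega
  obtain rfl | rfl | rfl : m = 2 ∨ m = 3 ∨ m = 4 := by omega
  all_goals
    push_cast
    rw [show (g : ℤ) = 6 by exact_mod_cast hg]
    omega

end Groth.Agent.S16970
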