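import Groth.Statements.S16971
import Groth.Agent.CliffIndex.One
import Groth.Agent.CurveBridge.BasisMap
-- import your own Groth.Agent.* helpers here

set_option autoImplicit false
universe u
open CategoryTheory CategoryTheory.Limits AlgebraicGeometry Opposite
open Curves

namespace Groth.Agent.S16971

open Groth.Chow
open scoped Groth.CurveBridge

/-- Let X be a smooth projective curve over an algebraically closed field k of characteristic 0
(integral, proper over k, of dimension one, all local rings regular) of genus g ≥ 4 whose Clifford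
index equals 1: there is an invertible module M with dim_k H^0(X, M) ≥ 2, dim_k H^1(X, M) ≥ 2 and
deg M - 2 (h^0(M) - 1) = 1, and every invertible module M with h^0(M) ≥ 2 and h^1(M) ≥ 2 has deg M -
2 (h^0(M) - 1) ≥ 1. Then either X is trigonal — it carries an invertible module of degree 3 with two
k-linearly independent global sections — or g = 6 and X is a smooth plane quintic: there is a closed
immersion X ⟶ P^2_k over k. (Only this implication is stated; the converse asserted in the source is
not part of the row.) Degrees are χ(·) - χ(O_X). -/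
theorem result (k : Type u) [Field k] [IsAlgClosed k] [CharZero k] (X : Scheme.{u}) [X.Over (Spec (CommRingCat.of k))]
    [IsIntegral X] [IsProper (X ↘ (Spec (CommRingCat.of k)))] (hdim : topologicalKrullDim X = 1)
    (hreg : ∀ x : X, IsRegularLocalRing (X.presheaf.stalk x))
    (hg : 4 ≤ Curv2.genus k X)
    (hex : ∃ M : X.Modules, PicF.IsInvertible M ∧ 2 ≤ Module.finrank k (Coh.HH X M 0) ∧
      2 ≤ Module.finrank k (Coh.HH X M 1) ∧ Curv2.deg k X M 1 = 2 * (Module.finrank k (Coh.HH X M 0) : ℤ) - 1)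
    (hmin : ∀ M : X.Modules, PicF.IsInvertible M → 2 ≤ Module.finrank k (Coh.HH X M 0) →
      2 ≤ Module.finrank k (Coh.HH X M 1) → 2 * (Module.finrank k (Coh.HH X M 0) : ℤ) - 1 ≤ Curv2.deg k X M 1) :
    (∃ (L : X.Modules) (s : Fin 2 → LinSer.Sect X L), LinSer.IsLinSer k X L 3 1 s) ∨
      (Curv2.genus k X = 6 ∧ ∃ i : X ⟶ CohB1.ProjSpace 2 k, IsClosedImmersion i ∧
        i ≫ CohB1.ProjSpace.toSpec 2 k = X ↘ Spec (CommRingCat.of k)) := by
  have h : Groth.CurveBridge.IsRegCurve X := ⟨hdim, hreg⟩
  have hK := Groth.CurveBridge.isFunctionField (k := k) (X := X) h.dim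
  have hc := Groth.CliffIndex.cliffGe_of_modules (c := 1) h fun M hM a b => by
    have := hmin M hM a b
    omega
  obtain ⟨M, hM, m0, m1, md⟩ := hex
  obtain ⟨φ, D, -, n0, nd, n1⟩ := Groth.CurveBridge.exists_divEmb h hK hM
  rw [Groth.CurveBridge.genus_eq h hK] at n1 hg ⊢
  rw [n0] at m0 md
  rw [nd] at md
  rcases Groth.CliffIndex.exists_g13_or_sep hK hg hc ⟨D, m0, by omega, md⟩ with
    ⟨A, hA, hAd⟩ | ⟨h6, A, hA, hsep⟩
  · exact Or.inl (Groth.CurveBridge.exists_linSer_of_divisor h hK (d := 3) (r := 1)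
      (by rw [hAd]; norm_num) hA)
  refine Or.inr ⟨h6, ?_⟩
  obtain ⟨N, ψ, U₀, hU₀, e₀, hN, -, hm, hD⟩ :=
    Groth.CurveBridge.exists_invertible_embedding (k := k) h A
  have hψ : Groth.CurveBridge.IsDivEmb h ψ A := ⟨hm, hD⟩
  have hb : ∀ P, FunFld.ell (A - Finsupp.single P 1) < FunFld.ell A := fun P => by
    have h1 := hsep P P
    have h2 := Groth.CliffIndex.ell_le_single_add hK (A - Finsupp.single P 1) P
    omega
  obtain ⟨t, hli, hmem, hU⟩ :=
    Groth.CurveBridge.BasisMap.exists_basis_sections h hK hN hψ hb (n := 2) hA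
  obtain ⟨r, hr⟩ := ToPn.exists_r (X ↘ Spec (CommRingCat.of k)) N t hU
  refine ⟨r, Groth.CurveBridge.isClosedImmersion_of_sep h t hK hψ hN hr hU ?_ hsep,
    ToPn.r_toSpec hr hU⟩
  haveI := (Groth.CurveBridge.isFF k X h.dim).finiteDimensional_L A
  refine (Submodule.eq_of_le_of_finrank_le (Submodule.span_le.mpr
    (by rintro _ ⟨l, rfl⟩; exact hmem l)) ?_).ge
  rw [finrank_span_eq_card hli, Fintype.card_fin]
  exact hA.le

end Groth.Agent.S16971
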