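import Groth.Statements.S16972
import Groth.Agent.CliffIndex.LinStable
import Groth.Agent.CurveBridge.BasisMap
import Groth.Agent.CurveBridge.RegularSmooth
import Groth.Agent.CurveBridge.LinSeriesExists
-- import your own Groth.Agent.* helpers here

set_option autoImplicit false
universe u
open CategoryTheory CategoryTheory.Limits AlgebraicGeometry Opposite
open Curves

namespace Groth.Agent.S16972

open Groth.Chow
open scoped Groth.CurveBridge

/-- Let X be a smooth projective curve over an algebraically closed field k of characteristic 0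
(integral, proper over k, of dimension one, all local rings regular) of genus g ≥ 5 which is
trigonal (carries an invertible module of degree 3 with two k-linearly independent global sections)
and not hyperelliptic (no such module of degree 2). Let V ⊂ H^0(X, Ω_{X/k}) be a hyperplane without
base points, given by g - 1 global sections σ_i : O_X ⟶ Ω_{X/k}, k-linearly independent and
generating Ω_{X/k} at every point, i.e. the projection of the canonical image from a point p not on
it; assume p lies on no trisecant line of the canonical curve: for every invertible module N with a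
monomorphism ι : N ⟶ Ω_{X/k}, deg N = 2g - 5 and dim_k H^0(X, N) = g - 2 (so N = Ω_{X/k}(-D) for a
divisor D of degree 3 moving in a pencil), some global section of N has image outside the k-span of
the σ_i. Then the projection is linearly stable: for every m with 2 ≤ m < g - 1, every k-linearly
independent family w_1, …, w_m of global sections of Ω_{X/k} in the span of the σ_i, and every
invertible module M with a monomorphism M ⟶ Ω_{X/k} through whose global sections all w_j factor,
deg Ω_{X/k} · (m - 1) < deg M · (g - 2). -/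
theorem result (k : Type u) [Field k] [IsAlgClosed k] [CharZero k] (X : Scheme.{u}) [X.Over (Spec (CommRingCat.of k))]
    [IsIntegral X] [IsProper (X ↘ (Spec (CommRingCat.of k)))] (hdim : topologicalKrullDim X = 1)
    (hreg : ∀ x : X, IsRegularLocalRing (X.presheaf.stalk x))
    (hg : 5 ≤ Curv2.genus k X)
    (hnh : ¬ ∃ (N : X.Modules) (t : Fin 2 → LinSer.Sect X N), LinSer.IsLinSer k X N 2 1 t)
    (htr : ∃ (N : X.Modules) (t : Fin 2 → LinSer.Sect X N), LinSer.IsLinSer k X N 3 1 t)
    (σ : Fin (Curv2.genus k X - 1) → (Coh.structureModule X ⟶ Omega.sheaf (X ↘ (Spec (CommRingCat.of k)))))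
    (hσ : LinSer.LinIndep k X (Omega.sheaf (X ↘ (Spec (CommRingCat.of k)))) (fun i => PicF2.secVal (Omega.sheaf (X ↘ (Spec (CommRingCat.of k)))) (σ i) ⊤))
    (hbpf : ⨆ i, CohB1.genLocus (Omega.sheaf (X ↘ (Spec (CommRingCat.of k)))) (σ i) = ⊤)
    (hsec : ∀ (N : X.Modules) (ι : N ⟶ Omega.sheaf (X ↘ (Spec (CommRingCat.of k)))), PicF.IsInvertible N → Mono ι →
      Curv2.deg k X N 1 + 5 = 2 * (Curv2.genus k X : ℤ) → Module.finrank k (Coh.HH X N 0) + 2 = Curv2.genus k X →
      ∃ v : LinSer.Sect X N, ∀ c : Fin (Curv2.genus k X - 1) → k,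
        (ι.val.app (op ⊤)).hom v ≠ ∑ i, (Coh.toGlobal (X ↘ Spec (CommRingCat.of k)) (c i)) • PicF2.secVal (Omega.sheaf (X ↘ (Spec (CommRingCat.of k)))) (σ i) ⊤) :
    ∀ (m : ℕ) (w : Fin m → LinSer.Sect X (Omega.sheaf (X ↘ (Spec (CommRingCat.of k))))), 2 ≤ m → m + 1 < Curv2.genus k X →
      LinSer.LinIndep k X (Omega.sheaf (X ↘ (Spec (CommRingCat.of k)))) w →
      (∀ j, ∃ c : Fin (Curv2.genus k X - 1) → k,
        w j = ∑ i, (Coh.toGlobal (X ↘ Spec (CommRingCat.of k)) (c i)) • PicF2.secVal (Omega.sheaf (X ↘ (Spec (CommRingCat.of k)))) (σ i) ⊤) →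
      ∀ (M : X.Modules) (ι : M ⟶ Omega.sheaf (X ↘ (Spec (CommRingCat.of k)))), PicF.IsInvertible M → Mono ι →
        (∀ j, ∃ v : LinSer.Sect X M, (ι.val.app (op ⊤)).hom v = w j) →
        Curv2.deg k X (Omega.sheaf (X ↘ (Spec (CommRingCat.of k)))) 1 * ((m : ℤ) - 1) < Curv2.deg k X M 1 * ((Curv2.genus k X : ℤ) - 2) := by
  intro m w hm hm' hw hwσ M ι hM hι hv
  haveI := hι
  have h : Groth.CurveBridge.IsRegCurve X := ⟨hdim, hreg⟩
  haveI := Groth.CurveBridge.smooth_of_regular k X hreg
  have hK := Groth.CurveBridge.isFunctionField (k := k) (X := X) h.dim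
  choose v hv using hv
  haveI := Groth.CurveBridge.finite_h h hK hM 0
  obtain ⟨hvi, hvm⟩ := Groth.CliffIndex.le_finrank_of_images ι w hw v hv
  obtain ⟨D, d0, dd, h1, hle, od⟩ := Groth.CliffIndex.exists_numerics_sub_omega h hM ι
  rw [d0] at hvm
  have hgX := Groth.CurveBridge.genus_eq h hK
  have h12 : ∀ N : FunFld.Divisor k X.functionField, N.deg = 2 → FunFld.ell N < 2 := fun N hN => by
    by_contra hlt
    exact hnh (Groth.CurveBridge.exists_linSer_of_divisor h hK (d := 2) (r := 1) (by rw [hN]; norm_num) (by omega))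
  rw [hgX] at hg hm' ⊢
  have hc := Groth.CliffIndex.cliffGe_one_of_no_g12 hK h12
  rw [od, dd]
  set g := FunFld.genus k X.functionField
  obtain ⟨A, hAd, hA⟩ : ∃ A : FunFld.Divisor k X.functionField, A.deg = 3 ∧ 2 ≤ FunFld.ell A := by
    obtain ⟨N, t, hN, hNd, hNl⟩ := htr
    obtain ⟨φ, A, -, a0, ad, -⟩ := Groth.CurveBridge.exists_divEmb h hK hN
    haveI := Groth.CurveBridge.finite_h h hK hN 0
    exact ⟨A, by rw [← ad, hNd]; norm_num, a0 ▸ Groth.CurveBridge.le_finrank_of_linIndep t hNl⟩
  by_cases hs : 2 ≤ (FunFld.ell D : ℤ) - (D.deg + 1 - g)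
  swap
  · nlinarith
  have hd := hc D (by omega) hs
  by_cases hd2 : 2 * (FunFld.ell D : ℤ) ≤ D.deg
  · nlinarith
  rcases Groth.CliffIndex.extremal_of_trigonal hK hg hc hAd hA (D := D) (by omega) hs (by omega) with hl | hl
  · obtain rfl : m = 2 := by omega
    push_cast
    have hd3 : D.deg = 3 := by omega
    rw [hd3]
    omega
  -- the residual of the pencil
  rcases Nat.lt_or_ge m (FunFld.ell D) with hlt | hge
  · have e1 : (m : ℤ) + 1 ≤ FunFld.ell D := by exact_mod_cast hlt
    have e2 : D.deg = 2 * (g : ℤ) - 5 := by omega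
    rw [e2]
    nlinarith
  exfalso
  obtain ⟨s, hs'⟩ := hsec M ι hM hι (by rw [dd, hgX]; omega) (by rw [d0, hgX]; omega)
  letI := Groth.EulerDeg.secModule k M ⊤
  let e := Groth.EulerDeg.h0Equiv k M
  haveI : Module.Finite k Γ(M, (⊤ : X.Opens)) := Module.Finite.equiv e
  let v' : Fin m → Γ(M, (⊤ : X.Opens)) := v
  have htg : ∀ a : k, Groth.EulerDeg.toSec k (⊤ : X.Opens) a = Coh.toGlobal (X ↘ Spec (CommRingCat.of k)) a :=
    fun a => Groth.PicAux.resX_self _ _
  have hli : LinearIndependent k v' := by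
    rw [Fintype.linearIndependent_iff]
    intro c hc i
    refine congrFun (hvi c ?_) i
    refine Eq.trans (Finset.sum_congr rfl fun j _ => ?_) hc
    rw [Groth.EulerDeg.smul_sec, htg]
    rfl
  haveI : Nonempty (Fin m) := ⟨⟨0, by omega⟩⟩
  have hspan : Submodule.span k (Set.range v') = ⊤ := hli.span_eq_top_of_card_eq_finrank (by
    rw [Fintype.card_fin, ← e.finrank_eq, d0]; omega)
  obtain ⟨a, ha⟩ := (Submodule.mem_span_range_iff_exists_fun k).mp
    (hspan.ge (Submodule.mem_top (x := show Γ(M, (⊤ : X.Opens)) from s)))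
  choose c hcw using hwσ
  refine hs' (fun i => ∑ j, a j * c j i) ?_
  have ha' : s = ∑ j, Coh.toGlobal (X ↘ Spec (CommRingCat.of k)) (a j) • v j := by
    rw [← ha]
    refine Finset.sum_congr rfl fun j _ => ?_
    rw [Groth.EulerDeg.smul_sec, htg]
    rfl
  rw [ha', map_sum]
  simp only [map_sum, map_mul, Finset.sum_smul]
  rw [Finset.sum_comm]
  refine Finset.sum_congr rfl fun j _ => ?_
  refine ((ι.val.app (op ⊤)).hom.map_smul _ _).trans ?_
  rw [hv, hcw j, Finset.smul_sum]
  exact Finset.sum_congr rfl fun i _ => (mul_smul _ _ _).symm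

end Groth.Agent.S16972
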