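import Groth.Statements.S16977
import Groth.Agent.CliffIndex.Castelnuovo
import Groth.Agent.CliffIndex.MapSeries
import Groth.Agent.CurveBridge.TensorNumerics
-- import your own Groth.Agent.* helpers here

set_option autoImplicit false
set_option backward.isDefEq.respectTransparency.types false
universe u
open CategoryTheory CategoryTheory.Limits AlgebraicGeometry Opposite
open Curves

namespace Groth.Agent.S16977

open Groth.CliffIndex Groth.CurveBridge Groth.Chow
open scoped Groth.CurveBridge

/-- Let X be a smooth projective curve over an algebraically closed field k of characteristic 0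
(integral, proper over k, of dimension one, all local rings regular) of genus g, and L an invertible
O_X-module of degree d which is special (dim_k H^1(X, L) ≥ 1) with dim_k H^0(X, L) = r + 1. Suppose
the map given by the complete linear system of L is birational onto its image: there are an integral
closed subscheme j : Y ⟶ P^r_k, a morphism φ : X ⟶ Y over k which restricts to an isomorphism over
some nonempty open subset of Y, and a monomorphism ι from the pullback of O(1) along φ ≫ j into L,
such that every nonzero global section of O(1) on P^r_k pulls back to a nonzero section (so the r +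
1 coordinate sections span H^0(X, L) and φ ≫ j is the map of the complete linear system, base points
allowed). Then: (a) if L ⊗ L is special (dim_k H^1(X, L ⊗ L) ≥ 1), 3r - 1 ≤ d; (b) if L ⊗ L is
non-special, 3r - 1 + g ≤ 2d. Degrees are χ(·) - χ(O_X). -/
theorem result (k : Type u) [Field k] [IsAlgClosed k] [CharZero k] (X : Scheme.{u}) [X.Over (Spec (CommRingCat.of k))]
    [IsIntegral X] [IsProper (X ↘ (Spec (CommRingCat.of k)))] (hdim : topologicalKrullDim X = 1)
    (hreg : ∀ x : X, IsRegularLocalRing (X.presheaf.stalk x))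
    (L : X.Modules) (hL : PicF.IsInvertible L) (r : ℕ)
    (h0 : Module.finrank k (Coh.HH X L 0) = r + 1) (h1 : 1 ≤ Module.finrank k (Coh.HH X L 1))
    (Y : Scheme.{u}) [IsIntegral Y] (j : Y ⟶ CohB1.ProjSpace r k) [IsClosedImmersion j] (φ : X ⟶ Y)
    (hφ : φ ≫ j ≫ CohB1.ProjSpace.toSpec r k = X ↘ Spec (CommRingCat.of k))
    (hbir : ∃ U : Y.Opens, (U : Set Y).Nonempty ∧ IsIso (φ ∣_ U))
    (ι : (Scheme.Modules.pullback (φ ≫ j)).obj (Twist.twistProjSpace r k 1) ⟶ L) [Mono ι]
    (hnd : ∀ s : LinSer.Sect (CohB1.ProjSpace r k) (Twist.twistProjSpace r k 1), s ≠ 0 → OmegaSh.pullSect (φ ≫ j) (Twist.twistProjSpace r k 1) ⊤ s ≠ 0) :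
    (1 ≤ Module.finrank k (Coh.HH X (CohB1.tensorMod L L) 1) → 3 * (r : ℤ) - 1 ≤ Curv2.deg k X L 1) ∧
      (Module.finrank k (Coh.HH X (CohB1.tensorMod L L) 1) = 0 →
        3 * (r : ℤ) - 1 + Curv2.genus k X ≤ 2 * Curv2.deg k X L 1) := by
  have h : IsRegCurve X := ⟨hdim, hreg⟩
  have hK := Groth.CurveBridge.isFunctionField (k := k) (X := X) h.dim
  have hψ : (φ ≫ j) ≫ CohB1.ProjSpace.toSpec r k = X ↘ Spec (CommRingCat.of k) := by
    rw [Category.assoc]; exact hφ
  obtain ⟨χ, D, hχ, d0, dd, d1⟩ := exists_divEmb h hK hL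
  obtain ⟨ω, hω⟩ := exists_divEmb_tensor h hL hL hχ hχ
  obtain ⟨-, -, e1⟩ := numerics_of_divEmb h hK (Groth.PicAux.isInvertible_tensorMod hL hL) hω
  rw [← two_nsmul] at e1
  rw [genus_eq h hK] at e1 d1 ⊢
  obtain ⟨ha, hb⟩ := GenPos.clifford_plus hK (D := D) (r := r) (d0.symm.trans h0) (by omega)
    (MapSeries.gen_of_mono h (φ ≫ j) hψ (MapSeries.stalk_surjective_of_birational j φ hbir) hχ ι)
  exact ⟨fun h2 => by rw [dd]; exact ha (by omega), fun h2 => by rw [dd]; exact hb (by omega)⟩

end Groth.Agent.S16977
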