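import Groth.Statements.S16978
import Groth.Agent.CliffIndex.Castelnuovo
import Groth.Agent.CliffIndex.MapSeries
import Groth.Agent.CurveBridge.TensorNumerics
import Groth.Agent.CurveBridge.Canonical
import Groth.Agent.Curves1.RR.EtaleGenusZero
-- import your own Groth.Agent.* helpers here

set_option autoImplicit false
set_option backward.isDefEq.respectTransparency.types false
universe u
open CategoryTheory CategoryTheory.Limits AlgebraicGeometry Opposite
open Curves

namespace Groth.Agent.S16978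

attribute [local instance] Groth.EulerDeg.secModule

open Groth.CliffIndex Groth.CurveBridge Groth.Chow
open scoped Groth.CurveBridge

/-- Let X be a smooth projective curve over an algebraically closed field k of characteristic 0
(integral, proper over k, of dimension one, all local rings regular), and L an invertible O_X-module
of degree d which is special (dim_k H^1(X, L) ≥ 1) with dim_k H^0(X, L) = r + 1. Suppose the map of
the complete linear system of L factors as X ⟶ Γ ⟶ Y ⟶ P^r_k where π : X ⟶ Γ is a k-morphism, finite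
and flat of constant rank a, onto a smooth projective curve Γ over k of genus γ, Y ⟶ P^r_k is an
integral closed subscheme, ψ : Γ ⟶ Y restricts to an isomorphism over a nonempty open subset of Y,
the pullback of O(1) along the composite embeds in L by a monomorphism ι, and every nonzero global
section of O(1) pulls back to a nonzero section (so the composite is the map of the complete linear
system, through an a-sheeted cover followed by a birational map). Then: (1) if a = 2, either 2r + 2γ
≤ d or 4r ≤ d; (2) if a ≥ 3, 3r ≤ d. Degrees are χ(·) - χ(O_X). -/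
theorem result (k : Type u) [Field k] [IsAlgClosed k] [CharZero k] (X : Scheme.{u}) [X.Over (Spec (CommRingCat.of k))]
    [IsIntegral X] [IsProper (X ↘ (Spec (CommRingCat.of k)))] (hdim : topologicalKrullDim X = 1)
    (hreg : ∀ x : X, IsRegularLocalRing (X.presheaf.stalk x))
    (L : X.Modules) (hL : PicF.IsInvertible L) (r : ℕ)
    (h0 : Module.finrank k (Coh.HH X L 0) = r + 1) (h1 : 1 ≤ Module.finrank k (Coh.HH X L 1))
    (Γ : Scheme.{u}) [Γ.Over (Spec (CommRingCat.of k))] [IsIntegral Γ] [IsProper (Γ ↘ (Spec (CommRingCat.of k)))]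
    (hdimΓ : topologicalKrullDim Γ = 1) (hregΓ : ∀ y : Γ, IsRegularLocalRing (Γ.presheaf.stalk y))
    (π : X ⟶ Γ) (hπ : π ≫ (Γ ↘ Spec (CommRingCat.of k)) = X ↘ Spec (CommRingCat.of k))
    [IsFinite π] [Flat π] (a : ℕ) (ha : ∀ y : Γ, Scheme.Hom.finrank π y = a)
    (Y : Scheme.{u}) [IsIntegral Y] (j : Y ⟶ CohB1.ProjSpace r k) [IsClosedImmersion j] (ψ : Γ ⟶ Y)
    (hψ : ψ ≫ j ≫ CohB1.ProjSpace.toSpec r k = Γ ↘ Spec (CommRingCat.of k))
    (hbir : ∃ U : Y.Opens, (U : Set Y).Nonempty ∧ IsIso (ψ ∣_ U))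
    (ι : (Scheme.Modules.pullback (π ≫ ψ ≫ j)).obj (Twist.twistProjSpace r k 1) ⟶ L) [Mono ι]
    (hnd : ∀ s : LinSer.Sect (CohB1.ProjSpace r k) (Twist.twistProjSpace r k 1), s ≠ 0 → OmegaSh.pullSect (π ≫ ψ ≫ j) (Twist.twistProjSpace r k 1) ⊤ s ≠ 0) :
    (a = 2 → 2 * (r : ℤ) + 2 * Curv2.genus k Γ ≤ Curv2.deg k X L 1 ∨ 4 * (r : ℤ) ≤ Curv2.deg k X L 1) ∧
      (3 ≤ a → 3 * (r : ℤ) ≤ Curv2.deg k X L 1) := by
  have h : IsRegCurve X := ⟨hdim, hreg⟩
  have hΓ : IsRegCurve Γ := ⟨hdimΓ, hregΓ⟩
  have hK := Groth.CurveBridge.isFunctionField (k := k) (X := X) h.dim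
  have hKΓ := Groth.CurveBridge.isFunctionField (k := k) (X := Γ) hΓ.dim
  have hψ' : (ψ ≫ j) ≫ CohB1.ProjSpace.toSpec r k = Γ ↘ Spec (CommRingCat.of k) := by
    rw [Category.assoc]; exact hψ
  obtain ⟨E, hEb, hEd, hEl, -⟩ := MapSeries.exists_series hΓ r (ψ ≫ j) hψ'
    (MapSeries.nondeg_of_comp π (ψ ≫ j) hnd)
  have hI := Groth.PicAux.isInvertible_pullback (ψ ≫ j) (ToPn.twist_isInvertible (R := k) (n := r))
  have hdM := Groth.Curves1.RR.deg_pullback_finite k hdimΓ.le π hπ a ha hI
  have hcomp : (Scheme.Modules.pullback π).obj ((Scheme.Modules.pullback (ψ ≫ j)).obj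
      (Twist.twistProjSpace r k 1)) ≅
      (Scheme.Modules.pullback (π ≫ ψ ≫ j)).obj (Twist.twistProjSpace r k 1) :=
    (Scheme.Modules.pullbackComp π (ψ ≫ j)).app (Twist.twistProjSpace r k 1)
  rw [Groth.EulerDeg.deg_congr k hcomp 1, hEd] at hdM
  have hlow := GenPos.ell_le_deg_add_one hKΓ (D := E) (by omega)
  have hA := Groth.PicAux.isInvertible_pullback (π ≫ ψ ≫ j) (ToPn.twist_isInvertible (R := k) (n := r))
  obtain ⟨e, hde, hh0, -, -, -⟩ := sub_numerics ι k h.dim hA hL
  obtain ⟨χ, F, hF, f0, fd, -⟩ := exists_divEmb hΓ hKΓ hI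
  haveI hsurj : Surjective π := (Scheme.Hom.one_le_finrank_iff_surjective (f := π)).1 fun y => by
    obtain ⟨x⟩ := (inferInstance : Nonempty X)
    have := Scheme.Hom.one_le_finrank_map (f := π) x
    rw [ha] at this
    rw [Pi.one_apply, ha]
    exact this
  have hup : FunFld.ell F ≤ r + 1 := by
    haveI := finite_h hΓ hKΓ hI 0
    haveI : Module.Finite k (Coh.HH X ((Scheme.Modules.pullback π).obj ((Scheme.Modules.pullback (ψ ≫ j)).obj
      (Twist.twistProjSpace r k 1))) 0) := finite_h h hK (Groth.PicAux.isInvertible_pullback π hI) 0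
    haveI : Module.Finite k Γ((Scheme.Modules.pullback π).obj ((Scheme.Modules.pullback (ψ ≫ j)).obj
      (Twist.twistProjSpace r k 1)), ⊤) := Module.Finite.equiv (Groth.EulerDeg.h0Equiv k _)
    have h1 := LinearMap.finrank_le_finrank_of_injective
      (Groth.PlaneCurve.pullLin_injective π hπ π.surjective hI)
    rw [← (Groth.EulerDeg.h0Equiv k _).finrank_eq, ← (Groth.EulerDeg.h0Equiv k _).finrank_eq,
      Groth.EulerDeg.finrank_congr hcomp 0, f0] at h1
    omega
  have hEF : E.deg = F.deg := hEd.symm.trans fd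
  rw [genus_eq hΓ hKΓ]
  refine ⟨fun ha2 => ?_, fun ha3 => ?_⟩
  · rw [hde, hdM, ha2]
    push_cast
    by_cases hs : E.deg + 1 - FunFld.genus k Γ.functionField < (FunFld.ell E : ℤ)
    · obtain ⟨hcl, -, -⟩ := GenPos.special_facts hKΓ (D := E) (by omega) hs
      exact Or.inr (by omega)
    · obtain ⟨C, hC⟩ := Groth.FunFld1.exists_isCanonical hKΓ
      have r1 := Groth.FunFld1.riemann_roch hKΓ hC E
      have r2 := Groth.FunFld1.riemann_roch hKΓ hC F
      rcases nonspecial_or_clifford hKΓ (D := F) (by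
        have := Groth.FunFld1.ell_zero_eq hKΓ
        omega) with hn | hn <;> first | exact Or.inl (by omega) | exact Or.inr (by omega)
  · rw [hde, hdM]
    have : (3 : ℤ) * r ≤ (a : ℤ) * E.deg :=
      mul_le_mul (by exact_mod_cast ha3) (by omega) (by positivity) (by positivity)
    omega

end Groth.Agent.S16978
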