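import Groth.Statements.S16979
import Mathlib
-- import your own Groth.Agent.* helpers here

set_option autoImplicit false
universe u v
open CAlg

namespace Groth.Agent.S16979

/-- Let R be an integral domain with fraction field K and φ a square matrix over R whose characteristic
polynomial becomes separable in K[T] (equivalently, K[T] modulo the characteristic polynomial is
geometrically reduced over K). Then a polynomial f over R satisfies f(φ) = 0 exactly when the
characteristic polynomial of φ divides f in R[T]: the kernel of evaluation at φ (the minimal ideal
of φ) is the principal ideal generated by the characteristic polynomial. -/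
theorem result
    {R : Type u} [CommRing R] [IsDomain R] {n : Type v} [Fintype n] [DecidableEq n]
    (φ : Matrix n n R)
    (hsep : (φ.charpoly.map (algebraMap R (FractionRing R))).Separable) :
    RingHom.ker (Polynomial.aeval (R := R) φ) = Ideal.span {φ.charpoly} := by
  classical
  refine le_antisymm (fun f hf => ?_) ((Ideal.span_singleton_le_iff_mem _).2 ?_)
  swap
  · rw [RingHom.mem_ker]; exact φ.aeval_self_charpoly
  rw [Ideal.mem_span_singleton]
  set L := AlgebraicClosure (FractionRing R)
  set g : R →+* L := (algebraMap (FractionRing R) L).comp (algebraMap R (FractionRing R))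
  have hginj : Function.Injective g :=
    (algebraMap (FractionRing R) L).injective.comp (IsFractionRing.injective R (FractionRing R))
  have hsep' : (φ.charpoly.map g).Separable := by
    rw [← Polynomial.map_map]; exact hsep.map
  have hf' : Polynomial.aeval (φ.map g) (f.map g) = 0 := by
    have := Polynomial.map_aeval_eq_aeval_map (S := Matrix n n R) (T := L) (U := Matrix n n L)
      (φ := g) (ψ := g.mapMatrix) (by
        ext r i j
        simp [Matrix.algebraMap_matrix_apply, apply_ite g]) f φ
    rw [RingHom.mem_ker] at hf
    rw [hf, map_zero] at this
    exact this.symm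
  have hdvd : (φ.charpoly.map g) ∣ f.map g := by
    rcases eq_or_ne (f.map g) 0 with h0 | h0
    · rw [h0]; exact dvd_zero _
    have hroots : (φ.charpoly.map g).roots ⊆ (f.map g).roots := by
      intro r hr
      rw [Polynomial.mem_roots h0]
      have hr' := (Polynomial.mem_roots'.1 hr).2
      rw [← Matrix.charpoly_map] at hr'
      have hspec : r ∈ spectrum L (φ.map g) := Matrix.mem_spectrum_iff_isRoot_charpoly.2 hr'
      have h2 := spectrum.subset_polynomial_aeval (φ.map g) (f.map g) ⟨r, hspec, rfl⟩
      rw [hf'] at h2
      rcases isEmpty_or_nonempty n with hn | hn
      · exfalso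
        rw [spectrum.of_subsingleton] at h2
        exact h2
      · rw [spectrum.zero_eq, Set.mem_singleton_iff] at h2
        exact h2
    have hm : (φ.charpoly.map g).Monic := φ.charpoly_monic.map g
    rw [(IsAlgClosed.splits (φ.charpoly.map g)).eq_prod_roots_of_monic hm]
    refine (Multiset.prod_dvd_prod_of_le (Multiset.map_le_map ?_)).trans (Polynomial.prod_multiset_X_sub_C_dvd (f.map g))
    exact (Multiset.le_iff_subset (Polynomial.nodup_roots hsep')).2 hroots
  exact (Polynomial.map_dvd_map g hginj φ.charpoly_monic).1 hdvd

end Groth.Agent.S16979
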