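import Groth.Statements.S16980
import Mathlib
-- import your own Groth.Agent.* helpers here

set_option autoImplicit false
universe u
open CAlg

namespace Groth.Agent.S16980

open scoped TensorProduct

/-- `XY - t` is a nonzerodivisor. -/
theorem rel_cancel {A : Type u} [CommRing A] (t : A) {e : MvPolynomial (Fin 2) A}
    (h : e * (MvPolynomial.X 0 * MvPolynomial.X 1 - MvPolynomial.C t) = 0) : e = 0 := by
  classical
  have hm : ∀ m : Fin 2 →₀ ℕ, MvPolynomial.coeff m e =
      t * MvPolynomial.coeff (m + (Finsupp.single 0 1 + Finsupp.single 1 1)) e := by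
    intro m
    have h1 := congrArg (MvPolynomial.coeff (m + (Finsupp.single 0 1 + Finsupp.single 1 1))) h
    rw [mul_sub, MvPolynomial.coeff_sub, MvPolynomial.coeff_zero, mul_comm e (MvPolynomial.C t),
      MvPolynomial.coeff_C_mul, MvPolynomial.X, MvPolynomial.X, MvPolynomial.monomial_mul, one_mul,
      MvPolynomial.coeff_mul_monomial, mul_one, sub_eq_zero] at h1
    exact h1
  have hk : ∀ (k : ℕ) (m : Fin 2 →₀ ℕ), MvPolynomial.coeff m e =
      t ^ k * MvPolynomial.coeff (m + k • (Finsupp.single 0 1 + Finsupp.single 1 1)) e := by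
    intro k
    induction k with
    | zero => simp
    | succ k ih => intro m; rw [ih m, hm, pow_succ, add_assoc, succ_nsmul, mul_assoc]
  ext m
  rw [hk (e.totalDegree + 1) m, MvPolynomial.coeff_eq_zero_of_totalDegree_lt, mul_zero, MvPolynomial.coeff_zero]
  have hs : (e.totalDegree + 1) • ((Finsupp.single 0 1 + Finsupp.single 1 1 : Fin 2 →₀ ℕ)) 0 = e.totalDegree + 1 := by
    simp
  refine lt_of_lt_of_le (Nat.lt_succ_self _) (le_trans ?_ (Finset.single_le_sum
    (fun i _ => Nat.zero_le ((m + (e.totalDegree + 1) • (Finsupp.single (0 : Fin 2) 1 + Finsupp.single 1 1) : Fin 2 →₀ ℕ) i))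
    (show (0 : Fin 2) ∈ _ by simp)))
  simp

/-- Multiplication by the two variables is jointly injective modulo `XY - t`. -/
theorem rel_faithful {A : Type u} [CommRing A] (t : A) {f : MvPolynomial (Fin 2) A}
    (hx : f * MvPolynomial.X 0 ∈ Ideal.span {MvPolynomial.X 0 * MvPolynomial.X 1 - MvPolynomial.C t})
    (hy : f * MvPolynomial.X 1 ∈ Ideal.span {MvPolynomial.X 0 * MvPolynomial.X 1 - MvPolynomial.C t}) :
    f ∈ Ideal.span {MvPolynomial.X 0 * MvPolynomial.X 1 - MvPolynomial.C t} := by
  classical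
  obtain ⟨g, hg⟩ := Ideal.mem_span_singleton'.1 hx
  obtain ⟨h, hh⟩ := Ideal.mem_span_singleton'.1 hy
  have h1 : h * MvPolynomial.X 0 = g * MvPolynomial.X 1 := sub_eq_zero.1 (rel_cancel t (by
    linear_combination MvPolynomial.X 0 * hh - MvPolynomial.X 1 * hg))
  obtain ⟨e, he⟩ : MvPolynomial.X (0 : Fin 2) ∣ g := by
    rw [MvPolynomial.X_dvd_iff_modMonomial_eq_zero]
    ext m
    rw [MvPolynomial.coeff_zero]
    by_cases hm : Finsupp.single (0 : Fin 2) 1 ≤ m
    · rw [MvPolynomial.coeff_modMonomial_of_le _ hm]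
    · rw [MvPolynomial.coeff_modMonomial_of_not_le _ hm]
      have h2 := congrArg (MvPolynomial.coeff (m + Finsupp.single 1 1)) h1
      rw [MvPolynomial.coeff_mul_X, MvPolynomial.coeff_mul_X', if_neg] at h2
      · exact h2.symm
      · simp only [Finsupp.single_le_iff, not_le, Nat.lt_one_iff] at hm
        simp [hm]
  refine Ideal.mem_span_singleton'.2 ⟨e, ?_⟩
  have hX : ∀ p : MvPolynomial (Fin 2) A, p * MvPolynomial.X 0 = 0 → p = 0 := fun p hp => by
    ext m
    have := congrArg (MvPolynomial.coeff (m + Finsupp.single 0 1)) hp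
    rw [MvPolynomial.coeff_mul_X, MvPolynomial.coeff_zero] at this
    rw [this, MvPolynomial.coeff_zero]
  exact sub_eq_zero.1 (hX _ (by rw [he] at hg; linear_combination hg))

/-- Let A be a commutative ring, J an A-module, A′ = A ⊕ εJ the trivial square-zero extension of A by J,
and τ any element of A′. Let B′ be the A′-algebra A′[x,y]/(xy − τ), presented by two generators x, y
with the evaluation map from the polynomial ring in two variables over A′ surjective and with kernel
generated by XY − τ. Let I ⊆ B′ be the ideal generated by the square-zero ideal J of A′, so that B =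
B′/I is A[x,y]/(xy − t) with t the A-component of τ. Then the first map of the conormal sequence of
B′ → B relative to A, namely I → B ⊗_{B′} Ω_{B′/A}, i ↦ 1 ⊗ di, is injective (so the sequence 0 → I
→ B ⊗_{B′} Ω_{B′/A} → Ω_{B/A} → 0 is exact on the left as well; this is the local computation at a
node for first-order deformations of nodal curves). -/
theorem result
    (A : Type u) [CommRing A] (J : Type u) [AddCommGroup J] [Module A J] [Module Aᵐᵒᵖ J]
    [IsCentralScalar A J] (τ : TrivSqZeroExt A J)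
    (B' : Type u) [CommRing B'] [Algebra (TrivSqZeroExt A J) B'] [Algebra A B']
    [IsScalarTower A (TrivSqZeroExt A J) B'] (x y : B')
    (hsurj : Function.Surjective
      (MvPolynomial.aeval ![x, y] : MvPolynomial (Fin 2) (TrivSqZeroExt A J) →ₐ[TrivSqZeroExt A J] B'))
    (hker : RingHom.ker
      (MvPolynomial.aeval ![x, y] : MvPolynomial (Fin 2) (TrivSqZeroExt A J) →ₐ[TrivSqZeroExt A J] B') =
      Ideal.span {MvPolynomial.X 0 * MvPolynomial.X 1 - MvPolynomial.C τ}) :
    Function.Injective (KaehlerDifferential.kerToTensor A B'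
      (B' ⧸ Ideal.map (algebraMap (TrivSqZeroExt A J) B') (TrivSqZeroExt.kerIdeal A J))) := by
  classical
  let I : Ideal B' := Ideal.map (algebraMap (TrivSqZeroExt A J) B') (TrivSqZeroExt.kerIdeal A J)
  let ev : MvPolynomial (Fin 2) (TrivSqZeroExt A J) →ₐ[TrivSqZeroExt A J] B' := MvPolynomial.aeval ![x, y]
  let q : B' →+* B' ⧸ I := Ideal.Quotient.mk I
  -- the constant lift
  let σ : MvPolynomial (Fin 2) (TrivSqZeroExt A J) →+* MvPolynomial (Fin 2) (TrivSqZeroExt A J) :=
    MvPolynomial.map ((TrivSqZeroExt.inlHom A J).comp (TrivSqZeroExt.fstHom A A J).toRingHom)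
  have hI2 : ∀ a b : B', a ∈ I → b ∈ I → a * b = 0 := fun a b ha hb => by
    have h : a * b ∈ I ^ 2 := by rw [pow_two]; exact Ideal.mul_mem_mul ha hb
    rwa [← Ideal.map_pow, TrivSqZeroExt.kerIdeal_sq, Ideal.map_bot, Ideal.mem_bot] at h
  have hkerI : ∀ f : MvPolynomial (Fin 2) (TrivSqZeroExt A J),
      (∀ m, MvPolynomial.coeff m f ∈ TrivSqZeroExt.kerIdeal A J) → ev f ∈ I := fun f hf => by
    have h1 : f ∈ (TrivSqZeroExt.kerIdeal A J).map (MvPolynomial.C : _ →+* MvPolynomial (Fin 2) (TrivSqZeroExt A J)) :=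
      MvPolynomial.mem_map_C_iff.2 hf
    have h2 := Ideal.mem_map_of_mem ev.toRingHom h1
    rwa [Ideal.map_map, show ev.toRingHom.comp MvPolynomial.C = algebraMap _ B' from ev.comp_algebraMap] at h2
  have hσ : ∀ f, ev (f - σ f) ∈ I := fun f => hkerI _ fun m => by
    rw [MvPolynomial.coeff_sub, MvPolynomial.coeff_map]
    show TrivSqZeroExt.fstHom A A J (_ - _) = 0
    simp
  have hrel : ev (MvPolynomial.X 0 * MvPolynomial.X 1 - MvPolynomial.C τ) = 0 := by
    rw [← RingHom.mem_ker]
    exact hker.ge (Ideal.mem_span_singleton_self _)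
  have hxy : x * y = algebraMap _ B' τ := sub_eq_zero.1 (by simpa [ev] using hrel)
  let ρ1 : I := ⟨-algebraMap _ B' (TrivSqZeroExt.inr τ.snd), neg_mem (Ideal.mem_map_of_mem _
    (by rw [TrivSqZeroExt.mem_kerIdeal_iff_inr]; simp))⟩
  let N : Submodule B' (I × (B' ⧸ I) × (B' ⧸ I)) := Submodule.span B' {(ρ1, q y, q x)}
  -- the derivation on polynomials
  let d0 : MvPolynomial (Fin 2) (TrivSqZeroExt A J) → I × (B' ⧸ I) × (B' ⧸ I) := fun f =>
    (⟨ev (f - σ f), hσ f⟩, q (ev (MvPolynomial.pderiv 0 f)), q (ev (MvPolynomial.pderiv 1 f)))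
  have hadd : ∀ f g, d0 (f + g) = d0 f + d0 g := fun f g => by
    refine Prod.ext (Subtype.ext ?_) (Prod.ext ?_ ?_)
    · show ev (f + g - σ (f + g)) = ev (f - σ f) + ev (g - σ g)
      simp only [map_add, map_sub]; ring
    · show q (ev _) = q (ev _) + q (ev _)
      simp only [map_add]
    · show q (ev _) = q (ev _) + q (ev _)
      simp only [map_add]
  have hmul : ∀ f g, d0 (f * g) = ev f • d0 g + ev g • d0 f := fun f g => by
    refine Prod.ext (Subtype.ext ?_) (Prod.ext ?_ ?_)
    · show ev (f * g - σ (f * g)) = ev f * ev (g - σ g) + ev g * ev (f - σ f)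
      have h := hI2 _ _ (hσ f) (hσ g)
      simp only [map_mul, map_sub] at h ⊢
      linear_combination -h
    · show q (ev (MvPolynomial.pderiv 0 (f * g))) = q (ev f) * q (ev (MvPolynomial.pderiv 0 g)) + q (ev g) * q (ev (MvPolynomial.pderiv 0 f))
      simp only [Derivation.leibniz, smul_eq_mul, map_add, map_mul]
    · show q (ev (MvPolynomial.pderiv 1 (f * g))) = q (ev f) * q (ev (MvPolynomial.pderiv 1 g)) + q (ev g) * q (ev (MvPolynomial.pderiv 1 f))
      simp only [Derivation.leibniz, smul_eq_mul, map_add, map_mul]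
  have hd0rel : d0 (MvPolynomial.X 0 * MvPolynomial.X 1 - MvPolynomial.C τ) = (ρ1, q y, q x) := by
    refine Prod.ext (Subtype.ext ?_) (Prod.ext ?_ ?_)
    · show ev (_ - σ _) = -algebraMap _ B' (TrivSqZeroExt.inr τ.snd)
      simp only [σ, map_sub, map_mul, MvPolynomial.map_X, MvPolynomial.map_C, ev, MvPolynomial.aeval_C,
        RingHom.comp_apply, TrivSqZeroExt.inlHom_apply, AlgHom.toRingHom_eq_coe, RingHom.coe_coe,
        TrivSqZeroExt.fstHom_apply]
      conv_lhs => enter [1, 2]; rw [← TrivSqZeroExt.inl_fst_add_inr_snd_eq τ]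
      rw [map_add]; ring
    · show q (ev _) = q y
      simp [ev, Pi.single_apply]
    · show q (ev _) = q x
      simp [ev, Pi.single_apply]
  have hwd : ∀ f g, ev f = ev g → N.mkQ (d0 f) = N.mkQ (d0 g) := fun f g h => by
    obtain ⟨c, hc⟩ := Ideal.mem_span_singleton'.1 (hker.le (show f - g ∈ RingHom.ker _ from by
      rw [RingHom.mem_ker, map_sub]; exact sub_eq_zero.2 h))
    have hf : f = g + c * (MvPolynomial.X 0 * MvPolynomial.X 1 - MvPolynomial.C τ) := by rw [hc]; ring
    rw [hf, hadd, hmul, hrel, zero_smul, add_zero, hd0rel, map_add,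
      show N.mkQ (ev c • (ρ1, q y, q x)) = 0 from (Submodule.Quotient.mk_eq_zero N).2
        (Submodule.smul_mem _ _ (Submodule.subset_span rfl)), add_zero]
  choose lft hlft using hsurj
  let D : Derivation A B' ((I × (B' ⧸ I) × (B' ⧸ I)) ⧸ N) := Derivation.mk'
    { toFun := fun b => N.mkQ (d0 (lft b))
      map_add' := fun b c => by
        rw [← map_add, ← hadd]
        exact hwd _ _ (by simp [ev, hlft])
      map_smul' := fun a b => by
        show N.mkQ _ = a • N.mkQ _
        rw [hwd (lft (a • b)) (MvPolynomial.C (TrivSqZeroExt.inl a) * lft b) (by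
          simp only [ev, hlft, map_mul, MvPolynomial.aeval_C]
          rw [Algebra.smul_def, IsScalarTower.algebraMap_apply A (TrivSqZeroExt A J) B']
          rfl), hmul]
        have h0 : d0 (MvPolynomial.C (TrivSqZeroExt.inl a)) = 0 := by
          refine Prod.ext (Subtype.ext ?_) (Prod.ext ?_ ?_)
          · show ev (_ - σ _) = 0
            simp [σ]
          · show q (ev _) = 0
            simp
          · show q (ev _) = 0
            simp
        rw [h0, smul_zero, add_zero, show ev (MvPolynomial.C (TrivSqZeroExt.inl a)) = algebraMap A B' a by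
          simp only [ev, MvPolynomial.aeval_C]
          rw [IsScalarTower.algebraMap_apply A (TrivSqZeroExt A J) B']
          rfl, map_smul, IsScalarTower.algebraMap_smul] }
    (fun a b => by
      show N.mkQ _ = a • N.mkQ _ + b • N.mkQ _
      rw [hwd (lft (a * b)) (lft a * lft b) (by simp [ev, hlft]), hmul, map_add, map_smul, map_smul,
        show ev (lft a) = a from hlft a, show ev (lft b) = b from hlft b])
  -- the functional on the conormal target
  let φ : (B' ⧸ I) ⊗[B'] Ω[B'⁄A] →ₗ[B'] ((I × (B' ⧸ I) × (B' ⧸ I)) ⧸ N) :=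
    TensorProduct.lift (Submodule.liftQ I (LinearMap.toSpanSingleton B' _ D.liftKaehlerDifferential) (fun b hb => by
      rw [LinearMap.mem_ker, LinearMap.toSpanSingleton_apply]
      refine LinearMap.ext fun w => ?_
      obtain ⟨⟨i, c, e⟩, hie⟩ := N.mkQ_surjective (D.liftKaehlerDifferential w)
      rw [LinearMap.smul_apply, ← hie, ← map_smul, LinearMap.zero_apply, ← map_zero N.mkQ]
      congr 1
      refine Prod.ext (Subtype.ext (hI2 _ _ hb i.2)) (Prod.ext ?_ ?_)
      · show q b * c = 0
        rw [Ideal.Quotient.eq_zero_iff_mem.2 hb, zero_mul]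
      · show q b * e = 0
        rw [Ideal.Quotient.eq_zero_iff_mem.2 hb, zero_mul]))
  rw [injective_iff_map_eq_zero]
  rintro ⟨z, hz⟩ h
  have hzI : z ∈ I := Ideal.Quotient.eq_zero_iff_mem.1 hz
  have hDz : D z = 0 := by
    have h1 := congrArg φ h
    rw [map_zero] at h1
    change φ ((1 : B' ⧸ I) ⊗ₜ[B'] KaehlerDifferential.D A B' z) = 0 at h1
    rw [TensorProduct.lift.tmul, show (1 : B' ⧸ I) = Submodule.Quotient.mk (1 : B') from rfl,
      Submodule.liftQ_apply, LinearMap.toSpanSingleton_apply, one_smul, Derivation.liftKaehlerDifferential_comp_D] at h1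
    exact h1
  -- a lift with coefficients in the kernel
  obtain ⟨f, hf, rfl⟩ : ∃ f ∈ (TrivSqZeroExt.kerIdeal A J).map (MvPolynomial.C : _ →+* MvPolynomial (Fin 2) (TrivSqZeroExt A J)),
      ev f = z := by
    refine (Ideal.mem_map_iff_of_surjective ev.toRingHom (fun b => ⟨lft b, hlft b⟩)).1 ?_
    rwa [Ideal.map_map, show ev.toRingHom.comp MvPolynomial.C = algebraMap _ B' from ev.comp_algebraMap]
  rw [MvPolynomial.mem_map_C_iff] at hf
  have hσf : σ f = 0 := MvPolynomial.ext _ _ fun m => by
    rw [MvPolynomial.coeff_map, MvPolynomial.coeff_zero, RingHom.comp_apply]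
    show TrivSqZeroExt.inlHom A J (TrivSqZeroExt.fstHom A A J _) = 0
    rw [show TrivSqZeroExt.fstHom A A J (MvPolynomial.coeff m f) = 0 from hf m, map_zero]
  have hpd : ∀ i, q (ev (MvPolynomial.pderiv i f)) = 0 := fun i =>
    Ideal.Quotient.eq_zero_iff_mem.2 (hkerI _ fun m => by
      have : f ∈ (TrivSqZeroExt.kerIdeal A J).map (MvPolynomial.C : _ →+* MvPolynomial (Fin 2) (TrivSqZeroExt A J)) :=
        MvPolynomial.mem_map_C_iff.2 hf
      revert m
      rw [← MvPolynomial.mem_map_C_iff]
      revert this f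
      intro f hf hσf h hz hzI hDz this
      refine Submodule.span_induction (p := fun g _ => MvPolynomial.pderiv i g ∈ _) ?_ (by simp) ?_ ?_ this
      · rintro _ ⟨j, hj, rfl⟩
        simp
      · intro g g' _ _ hg hg'
        rw [map_add]; exact add_mem hg hg'
      · intro a g hg' hg
        rw [smul_eq_mul, Derivation.leibniz]
        exact add_mem (Ideal.mul_mem_left _ _ hg) (Ideal.mul_mem_right _ _ hg'))
  have hD : D (ev f) = N.mkQ (⟨ev f, hkerI f hf⟩, 0, 0) := by
    refine (hwd (lft (ev f)) f (by simp [ev, hlft])).trans ?_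
    congr 1
    refine Prod.ext (Subtype.ext ?_) (Prod.ext (hpd 0) (hpd 1))
    show ev (f - σ f) = ev f
    rw [hσf, sub_zero]
  rw [hD, Submodule.mkQ_apply, Submodule.Quotient.mk_eq_zero, Submodule.mem_span_singleton] at hDz
  obtain ⟨c, hc⟩ := hDz
  simp only [Prod.smul_mk, Prod.mk.injEq] at hc
  obtain ⟨hc1, hc2, hc3⟩ := hc
  -- the coefficient dies modulo `I`
  have hcI : c ∈ I := by
    have hy' : c * y ∈ I := Ideal.Quotient.eq_zero_iff_mem.1 (by rw [map_mul]; exact hc2)
    have hx' : c * x ∈ I := Ideal.Quotient.eq_zero_iff_mem.1 (by rw [map_mul]; exact hc3)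
    obtain ⟨g, rfl⟩ : ∃ g, ev g = c := ⟨lft c, hlft c⟩
    let r : MvPolynomial (Fin 2) (TrivSqZeroExt A J) →+* MvPolynomial (Fin 2) A :=
      MvPolynomial.map (TrivSqZeroExt.fstHom A A J).toRingHom
    have hdown : ∀ g, ev g ∈ I → r g ∈ Ideal.span {MvPolynomial.X 0 * MvPolynomial.X 1 - MvPolynomial.C τ.fst} := by
      intro g hg
      obtain ⟨g', hg', he⟩ := (Ideal.mem_map_iff_of_surjective ev.toRingHom (fun b => ⟨lft b, hlft b⟩)).1
        (show ev g ∈ Ideal.map ev.toRingHom ((TrivSqZeroExt.kerIdeal A J).map (MvPolynomial.C : _ →+* MvPolynomial (Fin 2) (TrivSqZeroExt A J))) by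
          rwa [Ideal.map_map, show ev.toRingHom.comp MvPolynomial.C = algebraMap _ B' from ev.comp_algebraMap])
      obtain ⟨k, hk⟩ := Ideal.mem_span_singleton'.1 (hker.le (show g - g' ∈ RingHom.ker _ from by
        rw [RingHom.mem_ker, map_sub]; exact sub_eq_zero.2 he.symm))
      have h0 : r g' = 0 := MvPolynomial.ext _ _ fun m => by
        rw [MvPolynomial.coeff_map, MvPolynomial.coeff_zero]
        exact MvPolynomial.mem_map_C_iff.1 hg' m
      refine Ideal.mem_span_singleton'.2 ⟨r k, ?_⟩
      have h1 := congrArg r hk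
      rw [map_mul, map_sub r g, h0, sub_zero] at h1
      rw [← h1]
      simp [r]
    have h1 := hdown (g * MvPolynomial.X 0) (by simpa [ev] using hx')
    have h2 := hdown (g * MvPolynomial.X 1) (by simpa [ev] using hy')
    simp only [map_mul, r, MvPolynomial.map_X] at h1 h2
    obtain ⟨k, hk⟩ := Ideal.mem_span_singleton'.1 (rel_faithful τ.fst h1 h2)
    obtain ⟨k', rfl⟩ := MvPolynomial.map_surjective (TrivSqZeroExt.fstHom A A J).toRingHom
      (fun a => ⟨TrivSqZeroExt.inl a, by simp⟩) k
    have h3 := hkerI (g - k' * (MvPolynomial.X 0 * MvPolynomial.X 1 - MvPolynomial.C τ)) fun m => by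
      show TrivSqZeroExt.fstHom A A J _ = 0
      have := congrArg (MvPolynomial.coeff m) (show r (g - k' * (MvPolynomial.X 0 * MvPolynomial.X 1 - MvPolynomial.C τ)) = 0 by
        rw [map_sub, show r g = _ from hk.symm]; simp [r])
      rwa [MvPolynomial.coeff_map, MvPolynomial.coeff_zero] at this
    rwa [map_sub, map_mul, hrel, mul_zero, sub_zero] at h3
  refine Subtype.ext ?_
  have h1 := congrArg Subtype.val hc1
  show ev f = 0
  exact h1.symm.trans (hI2 _ _ hcI ρ1.2)

end Groth.Agent.S16980
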