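import Groth.Statements.S16981
import Mathlib
-- import your own Groth.Agent.* helpers here

set_option autoImplicit false
universe u v
open CAlg

namespace Groth.Agent.S16981

/-- Let A be a complete Noetherian local ring and f : E → A a surjective ring homomorphism whose kernel
has square zero and is finitely generated (equivalently, is a finite A-module for the induced module
structure). Then E is separated and complete for the adic topology of the inverse image of the
maximal ideal of A. (The published statement takes A to be the completion of a local ring of a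
scheme of finite type over an Artinian local ring and the kernel the completion of a finite module;
this row assumes only that A is complete Noetherian local and the kernel finitely generated.) -/
theorem result
    {A : Type u} {E : Type v} [CommRing A] [CommRing E] [IsNoetherianRing A] [IsLocalRing A]
    [IsAdicComplete (IsLocalRing.maximalIdeal A) A]
    (f : E →+* A) (hf : Function.Surjective f)
    (hsq : RingHom.ker f ^ 2 = ⊥) (hfg : (RingHom.ker f).FG) :
    IsAdicComplete ((IsLocalRing.maximalIdeal A).comap f) E := by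
  classical
  set m := IsLocalRing.maximalIdeal A with hm
  set J := m.comap f
  set K := RingHom.ker f
  have hKJ : K ≤ J := Ideal.comap_mono bot_le
  haveI : IsNoetherianRing E := IsNoetherianRing.of_prime fun P hP => by
    haveI := hP
    have hKP : K ≤ P := hP.le_of_pow_le (n := 2) (by rw [hsq]; exact bot_le)
    obtain ⟨s, hs⟩ := IsNoetherian.noetherian (P.map f)
    choose g hg using fun x : A => hf x
    have : P = Ideal.span (g '' (s : Set A)) ⊔ K := by
      have h1 : (Ideal.span (g '' (s : Set A))).map f = P.map f := by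
        rw [Ideal.map_span, ← Set.image_comp, show (f ∘ g) = id from funext hg, Set.image_id]; exact hs
      rw [show K = (⊥ : Ideal A).comap f from RingHom.ker_eq_comap_bot f,
        ← Ideal.comap_map_of_surjective f hf, h1, Ideal.comap_map_of_surjective f hf, ← RingHom.ker_eq_comap_bot,
        sup_eq_left.2 hKP]
    rw [this]
    exact Submodule.FG.sup ⟨s.image g, by simp⟩ hfg
  have hjac : J ≤ (⊥ : Ideal E).jacobson := by
    refine le_sInf fun M ⟨_, hM⟩ => ?_
    have hKM : K ≤ M := hM.isPrime.le_of_pow_le (n := 2) (by rw [hsq]; exact bot_le)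
    have hmax : (M.map f).IsMaximal := (Ideal.map_eq_top_or_isMaximal_of_surjective f hf hM).resolve_left fun h => by
      have := congrArg (Ideal.comap f) h
      rw [Ideal.comap_map_of_surjective f hf, ← RingHom.ker_eq_comap_bot, sup_eq_left.2 hKM, Ideal.comap_top] at this
      exact hM.ne_top this
    have := IsLocalRing.eq_maximalIdeal hmax
    show m.comap f ≤ M
    rw [hm, ← this, Ideal.comap_map_of_surjective f hf, ← RingHom.ker_eq_comap_bot, sup_eq_left.2 hKM]
  haveI : IsHausdorff J E := IsHausdorff.of_le_jacobson J E hjac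
  have hpow : ∀ j, (J ^ j).map f = m ^ j := fun j => by
    rw [Ideal.map_pow, Ideal.map_comap_of_surjective f hf]
  have hmodE : ∀ (j : ℕ) (x y : E), x ≡ y [SMOD (J ^ j • (⊤ : Submodule E E))] ↔ x - y ∈ J ^ j := by
    intro j x y; simp [SModEq.sub_mem]
  have hmodA : ∀ (j : ℕ) (x y : A), x ≡ y [SMOD (m ^ j • (⊤ : Submodule A A))] ↔ x - y ∈ m ^ j := by
    intro j x y; simp [SModEq.sub_mem]
  have hsplit : ∀ j x, f x ∈ m ^ j → x ∈ J ^ j ⊔ K := by
    intro j x hx
    rw [← hpow] at hx
    rwa [← Ideal.mem_comap, Ideal.comap_map_of_surjective f hf, ← RingHom.ker_eq_comap_bot] at hx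
  obtain ⟨r, κ, hκ⟩ := Submodule.fg_iff_exists_fin_generating_family.1 hfg
  obtain ⟨c, hc⟩ := Ideal.exists_pow_inf_eq_pow_smul J (K : Submodule E E)
  -- Artin–Rees
  have hAR : ∀ j, J ^ (c + j) ⊓ K ≤ J ^ j * K := by
    intro j
    have := hc (c + j) (by omega)
    simp only [smul_eq_mul, Ideal.mul_top, add_tsub_cancel_left] at this
    rw [this]
    exact Ideal.mul_mono le_rfl inf_le_right
  refine { prec' := fun s hs => ?_ }
  have hs' : ∀ {i j}, i ≤ j → s i - s j ∈ J ^ i := fun h => (hmodE _ _ _).1 (hs h)
  obtain ⟨La, hLa⟩ := IsPrecomplete.prec (I := m) (M := A) inferInstance (f := fun j => f (s j)) fun {i j} h =>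
    (hmodA _ _ _).2 (by rw [← map_sub, ← hpow]; exact Ideal.mem_map_of_mem f (hs' h))
  obtain ⟨L, rfl⟩ := hf La
  have hsp : ∀ j, ∃ u ∈ J ^ j, ∃ k ∈ K, u + k = s j - L := fun j =>
    Submodule.mem_sup.1 (hsplit j _ (by rw [map_sub]; exact (hmodA _ _ _).1 (hLa j)))
  choose u hu k hk huk using hsp
  -- the differences of the kernel parts
  have hd : ∀ j, ∃ e : Fin r → E, (∀ i, e i ∈ J ^ j) ∧ ∑ i, e i * κ i = k (c + j + 1) - k (c + j) := by
    intro j
    have h1 : k (c + j + 1) - k (c + j) ∈ J ^ (c + j) := by
      rw [show k (c + j + 1) - k (c + j) =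
        -(s (c + j) - s (c + j + 1)) - u (c + j + 1) + u (c + j) by linear_combination huk (c + j + 1) - huk (c + j)]
      exact add_mem (sub_mem (neg_mem (hs' (Nat.le_succ _))) (Ideal.pow_le_pow_right (Nat.le_succ _) (hu _))) (hu _)
    have h2 := hAR j ⟨h1, sub_mem (hk _) (hk _)⟩
    revert h2
    generalize k (c + j + 1) - k (c + j) = w
    intro h2
    induction h2 using Submodule.mul_induction_on' with
    | mem_mul_mem a ha b hb =>
      rw [← hκ] at hb
      obtain ⟨co, rfl⟩ := (Submodule.mem_span_range_iff_exists_fun E).1 hb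
      exact ⟨fun i => a * co i, fun i => Ideal.mul_mem_right _ _ ha, by simp [Finset.mul_sum, mul_assoc]⟩
    | add a _ b _ ha hb =>
      obtain ⟨e, he, rfl⟩ := ha; obtain ⟨e', he', rfl⟩ := hb
      exact ⟨e + e', fun i => add_mem (he i) (he' i), by simp [add_mul, Finset.sum_add_distrib]⟩
  choose e he hek using hd
  let t : ℕ → Fin r → E := fun N i => ∑ j ∈ Finset.range N, e j i
  have htsum : ∀ N, k (c + N) = k c + ∑ i, t N i * κ i := by
    intro N
    induction N with
    | zero => simp [t]
    | succ N ih =>
      simp only [t, Finset.sum_range_succ, add_mul, Finset.sum_add_distrib] at ih ⊢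
      rw [hek, ← add_assoc c N 1]
      linear_combination ih
  have htc : ∀ i, ∃ β : E, ∀ N, t N i - β ∈ J ^ N ⊔ K := by
    intro i
    have hmono : ∀ {M N}, M ≤ N → t M i - t N i ∈ J ^ M := by
      intro M N h
      induction N, h using Nat.le_induction with
      | base => simp
      | succ N h ih =>
        rw [show t M i - t (N + 1) i = (t M i - t N i) - e N i by simp [t, Finset.sum_range_succ]; ring]
        exact sub_mem ih (Ideal.pow_le_pow_right h (he N i))
    obtain ⟨b, hb⟩ := IsPrecomplete.prec (I := m) (M := A) inferInstance (f := fun N => f (t N i)) fun {M N} h =>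
      (hmodA _ _ _).2 (by rw [← map_sub, ← hpow]; exact Ideal.mem_map_of_mem f (hmono h))
    obtain ⟨β, rfl⟩ := hf b
    exact ⟨β, fun N => hsplit N _ (by rw [map_sub]; exact (hmodA _ _ _).1 (hb N))⟩
  choose β hβ using htc
  refine ⟨L + k c + ∑ i, β i * κ i, fun N => (hmodE _ _ _).2 ?_⟩
  rw [show s N - (L + k c + ∑ i, β i * κ i) =
    (s N - s (c + N)) + u (c + N) + (k (c + N) - k c - ∑ i, β i * κ i) by linear_combination -huk (c + N),
    htsum, add_sub_cancel_left, ← Finset.sum_sub_distrib]
  refine add_mem (add_mem (hs' (Nat.le_add_left N c)) (Ideal.pow_le_pow_right (Nat.le_add_left N c) (hu _)))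
    (Ideal.sum_mem _ fun i _ => ?_)
  rw [← sub_mul]
  obtain ⟨a, ha, b, hb, hab⟩ := Submodule.mem_sup.1 (hβ i N)
  have hκK : κ i ∈ K := hκ ▸ Submodule.subset_span ⟨i, rfl⟩
  have hbk : b * κ i = 0 := by
    rw [← Ideal.mem_bot, ← hsq, pow_two]
    exact Ideal.mul_mem_mul hb hκK
  rw [← hab, add_mul, hbk, add_zero]
  exact Ideal.mul_mem_right _ _ ha

end Groth.Agent.S16981
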