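import Groth.Statements.S16982
import Mathlib
import Groth.Agent.SGA7.PowerSeries
import Groth.Agent.S16981
-- import your own Groth.Agent.* helpers here

set_option autoImplicit false
universe u v w w'
open CAlg

namespace Groth.Agent.S16982

/-- Let R be a commutative ring, A a complete Noetherian local R-algebra written as a quotient of a
power series ring over R in finitely many variables by a surjective R-algebra map π, and f : E → A a
surjective R-algebra map whose kernel has square zero and is finitely generated. Then π lifts along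
f to an R-algebra map λ from the power series ring to E with f ∘ λ = π. (The published statement
takes R Artinian local and asks for a lift that is continuous for the adic topologies; this row
allows any commutative R and asks for any lift.) -/
theorem result
    {R : Type u} [CommRing R] {σ : Type v} [Finite σ]
    {A : Type w} {E : Type w'} [CommRing A] [CommRing E] [Algebra R A] [Algebra R E]
    [IsNoetherianRing A] [IsLocalRing A] [IsAdicComplete (IsLocalRing.maximalIdeal A) A]
    (π : MvPowerSeries σ R →ₐ[R] A) (hπ : Function.Surjective π)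
    (f : E →ₐ[R] A) (hf : Function.Surjective f)
    (hsq : RingHom.ker f.toRingHom ^ 2 = ⊥) (hfg : (RingHom.ker f.toRingHom).FG) :
    ∃ l : MvPowerSeries σ R →ₐ[R] E, f.comp l = π := by
  classical
  haveI := Fintype.ofFinite σ
  set m := IsLocalRing.maximalIdeal A
  set J := m.comap f.toRingHom
  haveI : IsAdicComplete J E := Groth.Agent.S16981.result f.toRingHom hf hsq hfg
  choose e he using fun i => hf (π (MvPowerSeries.X i))
  have hXm : ∀ i, π (MvPowerSeries.X i) ∈ m := by
    intro i
    show _ ∈ IsLocalRing.maximalIdeal A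
    rw [← IsLocalRing.jacobson_eq_maximalIdeal (⊥ : Ideal A) bot_ne_top, Ideal.mem_jacobson_bot]
    intro y
    obtain ⟨y, rfl⟩ := hπ y
    rw [← map_mul, ← map_one π, ← map_add]
    refine IsUnit.map _ ?_
    rw [MvPowerSeries.isUnit_iff_constantCoeff]
    simp
  have heJ : ∀ i, e i ∈ J := fun i => by
    show f.toRingHom (e i) ∈ m
    rw [show f.toRingHom (e i) = f (e i) from rfl, he]; exact hXm i
  let ev : MvPolynomial σ R →ₐ[R] E := MvPolynomial.aeval e
  have hev : ∀ n, MvPolynomial.idealOfVars σ R ^ n ≤ (J ^ n).comap ev.toRingHom := by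
    intro n
    rw [← Ideal.map_le_iff_le_comap, Ideal.map_pow]
    refine Ideal.pow_right_mono ?_ n
    rw [MvPolynomial.idealOfVars, Ideal.map_span, Ideal.span_le]
    rintro _ ⟨_, ⟨i, rfl⟩, rfl⟩
    show MvPolynomial.aeval e (MvPolynomial.X i) ∈ J
    rw [MvPolynomial.aeval_X]; exact heJ i
  let F : (n : ℕ) → MvPowerSeries σ R →+* E ⧸ J ^ n := fun n =>
    (Ideal.quotientMap (J ^ n) ev.toRingHom (hev n)).comp (MvPowerSeries.truncTotalAlgHom σ R n).toRingHom
  have hFa : ∀ n x, F n x = Ideal.Quotient.mk (J ^ n) (ev (MvPowerSeries.truncTotal n x)) := fun n x => rfl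
  have hF : ∀ {a b : ℕ} (hle : a ≤ b), (Ideal.Quotient.factorPow J hle).comp (F b) = F a := by
    intro a b hle
    refine RingHom.ext fun x => ?_
    rw [RingHom.comp_apply, hFa, hFa, Ideal.Quotient.factor_mk, Ideal.Quotient.eq, ← map_sub]
    exact hev a (MvPowerSeries.truncTotal_sub_truncTotal_mem_pow_idealOfVars hle (le_refl a) x)
  let l₀ := IsAdicComplete.liftRingHom J F hF
  have hl₀ : ∀ n x, l₀ x - ev (MvPowerSeries.truncTotal n x) ∈ J ^ n := fun n x => by
    rw [← Ideal.Quotient.eq, IsAdicComplete.mk_liftRingHom, hFa]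
  have hzero : ∀ (x : E), (∀ n, x ∈ J ^ n) → x = 0 := fun x hx =>
    IsHausdorff.haus (I := J) inferInstance x fun n => by simpa [SModEq.zero] using hx n
  have hC : ∀ r : R, l₀ (algebraMap R (MvPowerSeries σ R) r) = algebraMap R E r := by
    intro r
    refine sub_eq_zero.1 (hzero _ fun n => ?_)
    rcases Nat.eq_zero_or_pos n with rfl | hn
    · simp
    have hone : MvPowerSeries.truncTotal n (algebraMap R (MvPowerSeries σ R) r) - MvPolynomial.C r ∈
        MvPolynomial.idealOfVars σ R ^ n := by
      rw [MvPolynomial.mem_pow_idealOfVars_iff']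
      intro d hd
      rw [MvPolynomial.coeff_sub, MvPowerSeries.coeff_truncTotal _ hd, sub_eq_zero,
        MvPowerSeries.algebraMap_apply, MvPowerSeries.coeff_C, MvPolynomial.coeff_C]
      simp [eq_comm]
    have h2 := hev n hone
    rw [Ideal.mem_comap, map_sub] at h2
    have h3 := add_mem (hl₀ n (algebraMap R (MvPowerSeries σ R) r)) h2
    simpa [ev] using h3
  refine ⟨{ l₀ with commutes' := hC }, AlgHom.ext fun x => ?_⟩
  show f (l₀ x) = π x
  refine sub_eq_zero.1 (IsHausdorff.haus (I := m) inferInstance _ fun n => ?_)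
  rw [SModEq.zero, smul_eq_mul, Ideal.mul_top]
  have hmapJ : (J ^ n).map f.toRingHom ≤ m ^ n := by
    rw [Ideal.map_pow, Ideal.map_comap_of_surjective f.toRingHom hf]
  have h1 : f (l₀ x) - f (ev (MvPowerSeries.truncTotal n x)) ∈ m ^ n := by
    rw [← map_sub]; exact hmapJ (Ideal.mem_map_of_mem f.toRingHom (hl₀ n x))
  have h2 : ∀ q : MvPolynomial σ R, f (ev q) = π (q : MvPowerSeries σ R) := by
    intro q
    have : f.comp ev = π.comp (MvPolynomial.coeToMvPowerSeries.algHom R) := by
      refine MvPolynomial.algHom_ext fun i => ?_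
      simp [ev, he]
    simpa using AlgHom.congr_fun this q
  rw [h2] at h1
  have hv : Groth.SGA7.PS.varIdeal σ R ≤ m.comap π.toRingHom := by
    refine Ideal.span_le.2 ?_
    rintro _ ⟨i, rfl⟩
    exact hXm i
  have h3 : (MvPowerSeries.truncTotal n x : MvPowerSeries σ R) - x ∈ Groth.SGA7.PS.varIdeal σ R ^ n :=
    Groth.SGA7.PS.mem_varIdeal_pow n _ fun d hd => by
      rw [map_sub, MvPolynomial.coeff_coe, MvPowerSeries.coeff_truncTotal _ hd, sub_self]
  have h4 : π ((MvPowerSeries.truncTotal n x : MvPowerSeries σ R) - x) ∈ m ^ n :=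
    (Ideal.le_comap_pow π.toRingHom n) (Ideal.pow_right_mono hv n h3)
  rw [map_sub] at h4
  simpa using add_mem h1 h4

end Groth.Agent.S16982
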