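import Groth.Statements.S16983
import Mathlib.RingTheory.Coprime.Lemmas
import Mathlib.Algebra.Order.BigOperators.Group.Finset
import Mathlib.Algebra.BigOperators.Group.Finset.Piecewise
import Mathlib.Tactic.Linarith
import Mathlib.Tactic.FieldSimp
import Mathlib.Tactic.Ring
import Mathlib.Data.Rat.Floor

set_option autoImplicit false
universe u
open DeformData

namespace Groth.Agent.S16983

/-- Let p be a prime, s ≥ 1, B a finite index set with a subset B₀ of exactly three elements, m_j ≥ 1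
integers coprime to p, and σ_{i,j} (i < s, j ∈ B) rational numbers with m_j σ_{i,j} an integer, such
that Σ_j (σ_{i,j} − 1) = −2 for every i, the fractional part of σ_{i,j} equals that of p^i σ_{0,j},
no σ_{i,j} equals 1, and the minimum over i of ⌊σ_{i,j}⌋ is 0 for j ∈ B₀ and 1 for j ∉ B₀. Then for
every i the fractional parts ⟨σ_{i,j}⟩ sum over j to 1 (purity), and ⌊σ_{i,j}⌋ is 0 on B₀ and 1 off
B₀ for every i. (The hypotheses are exactly the properties of the signature of a special deformation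
datum on the projective line: each entry is an integer divided by a stabilizer order m_j in a group
of order prime to p, the degree identity coming from Riemann–Hurwitz, the Frobenius-twist relation
between fractional parts, and the speciality conditions; the statement is given here for any such
tuple.) -/
theorem result
    {B : Type u} [Fintype B] [DecidableEq B] (B₀ : Finset B) (hB₀ : B₀.card = 3)
    (p : ℕ) (hp : p.Prime) (s : ℕ) (hs : 0 < s)
    (m : B → ℕ) (hm : ∀ j, 0 < m j) (hmp : ∀ j, Nat.Coprime (m j) p)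
    (σ : Fin s → B → ℚ) (hint : ∀ i j, ∃ h : ℤ, σ i j = (h : ℚ) / (m j : ℚ))
    (hsum : ∀ i, ∑ j, (σ i j - 1) = -2)
    (hfract : ∀ i j, Int.fract (σ i j) = Int.fract ((p : ℚ) ^ (i : ℕ) * σ ⟨0, hs⟩ j))
    (hne : ∀ i j, σ i j ≠ 1)
    (hB₀min : ∀ j ∈ B₀, (∃ i, ⌊σ i j⌋ = 0) ∧ ∀ i, 0 ≤ ⌊σ i j⌋)
    (hBmin : ∀ j ∉ B₀, (∃ i, ⌊σ i j⌋ = 1) ∧ ∀ i, 1 ≤ ⌊σ i j⌋) :
    (∀ i, ∑ j, Int.fract (σ i j) = 1) ∧ (∀ i j, ⌊σ i j⌋ = if j ∈ B₀ then 0 else 1) := by
  classical
  have hp0 : (p : ℕ) ≠ 0 := hp.ne_zero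
  -- integrality of one entry propagates along the index `i`
  have hprop : ∀ (i i' : Fin s) (j : B), Int.fract (σ i j) = 0 → Int.fract (σ i' j) = 0 := by
    intro i i' j h0
    obtain ⟨h, hh⟩ := hint ⟨0, hs⟩ j
    obtain ⟨z, hz⟩ : ∃ z : ℤ, (p : ℚ) ^ (i : ℕ) * σ ⟨0, hs⟩ j = z := by
      rw [hfract i j, Int.fract_eq_iff] at h0
      obtain ⟨z, hz⟩ := h0.2.2
      exact ⟨z, by linarith⟩
    have hm0 : ((m j : ℕ) : ℚ) ≠ 0 := by exact_mod_cast (hm j).ne'
    have hdvd : (m j : ℤ) ∣ h := by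
      have e : ((p : ℤ) ^ (i : ℕ) * h : ℤ) = z * (m j : ℤ) := by
        rw [hh, mul_div_assoc', div_eq_iff hm0] at hz
        exact_mod_cast hz
      have hco : IsCoprime (m j : ℤ) ((p : ℤ) ^ (i : ℕ)) :=
        (Nat.isCoprime_iff_coprime.2 (hmp j)).pow_right
      exact hco.dvd_of_dvd_mul_left ⟨z, by rw [e, mul_comm]⟩
    obtain ⟨c, hc⟩ := hdvd
    rw [hfract i' j, hh, hc, Int.cast_mul, Int.cast_natCast, mul_div_cancel_left₀ _ hm0]
    rw [show (p : ℚ) ^ (i' : ℕ) * (c : ℚ) = (((p : ℤ) ^ (i' : ℕ) * c : ℤ) : ℚ) by push_cast; rfl]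
    exact Int.fract_intCast _
  set low : B → ℤ := fun j => if j ∈ B₀ then 0 else 1 with hlowdef
  have hlow : ∀ i j, low j ≤ ⌊σ i j⌋ := by
    intro i j
    rw [hlowdef]
    by_cases hj : j ∈ B₀
    · simpa [hj] using (hB₀min j hj).2 i
    · simpa [hj] using (hBmin j hj).2 i
  have hlowsum : ∑ j, low j = (Fintype.card B : ℤ) - 3 := by
    have : ∀ j, low j = 1 - (if j ∈ B₀ then (1 : ℤ) else 0) := fun j => by
      rw [hlowdef]; by_cases hj : j ∈ B₀ <;> simp [hj]
    simp [this, Finset.sum_ite_mem, hB₀]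
  have hσsum : ∀ i, ∑ j, Int.fract (σ i j) = (((Fintype.card B : ℤ) - 2 - ∑ j, ⌊σ i j⌋ : ℤ) : ℚ) := by
    intro i
    have h1 := hsum i
    rw [Finset.sum_sub_distrib] at h1
    simp only [Int.fract, Finset.sum_sub_distrib]
    simp only [Finset.sum_const, Finset.card_univ, nsmul_eq_mul, mul_one] at h1
    push_cast
    linarith
  have hfloor : ∀ i, ∀ j, ⌊σ i j⌋ = low j := by
    intro i
    have hge : (Fintype.card B : ℤ) - 3 ≤ ∑ j, ⌊σ i j⌋ :=
      hlowsum ▸ Finset.sum_le_sum fun j _ => hlow i j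
    have hle : ∑ j, ⌊σ i j⌋ ≤ (Fintype.card B : ℤ) - 2 := by
      have : (0 : ℚ) ≤ (((Fintype.card B : ℤ) - 2 - ∑ j, ⌊σ i j⌋ : ℤ) : ℚ) :=
        hσsum i ▸ Finset.sum_nonneg fun j _ => Int.fract_nonneg _
      have := Int.cast_nonneg_iff.1 this
      omega
    by_cases htop : ∑ j, ⌊σ i j⌋ = (Fintype.card B : ℤ) - 2
    · exfalso
      have h0 : ∑ j, Int.fract (σ i j) = 0 := by rw [hσsum i, htop]; simp
      have hall : ∀ i' j, Int.fract (σ i' j) = 0 := fun i' j =>
        hprop i i' j ((Finset.sum_eq_zero_iff_of_nonneg fun j _ => Int.fract_nonneg _).1 h0 j (Finset.mem_univ _))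
      have hint' : ∀ i' j, σ i' j = (⌊σ i' j⌋ : ℚ) := fun i' j => by
        have := hall i' j; rw [Int.fract] at this; linarith
      have hB : ∀ j, j ∈ B₀ := by
        intro j
        by_contra hj
        obtain ⟨i', hi'⟩ := (hBmin j hj).1
        exact hne i' j (by rw [hint', hi']; norm_num)
      have hcard : Fintype.card B = 3 := by
        rw [← hB₀, ← Finset.card_univ, Finset.eq_univ_of_forall hB]
      rw [hcard] at htop
      have hnn : ∀ j, 0 ≤ ⌊σ i j⌋ := fun j => (hB₀min j (hB j)).2 i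
      obtain ⟨j, -, hj⟩ := Finset.exists_ne_zero_of_sum_ne_zero (by rw [htop]; norm_num :
        ∑ j, ⌊σ i j⌋ ≠ 0)
      have hj1 : ⌊σ i j⌋ ≤ ∑ j, ⌊σ i j⌋ := Finset.single_le_sum (fun j _ => hnn j) (Finset.mem_univ j)
      exact hne i j (by rw [hint', show ⌊σ i j⌋ = 1 by have := hnn j; omega]; norm_num)
    · have heq : ∑ j, low j = ∑ j, ⌊σ i j⌋ := by omega
      exact fun j => ((Finset.sum_eq_sum_iff_of_le fun j _ => hlow i j).1 heq j (Finset.mem_univ _)).symm
  refine ⟨fun i => ?_, hfloor⟩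
  rw [hσsum i, Finset.sum_congr rfl fun j _ => hfloor i j, hlowsum]
  push_cast
  ring

end Groth.Agent.S16983
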