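import Groth.Statements.S16984
-- import your own Groth.Agent.* helpers here

set_option autoImplicit false
universe u v w
open Hoch

namespace Groth.Agent.S16984

open TensorProduct in
/-- Let k be a commutative ring, A a commutative k-bialgebra that is flat over k (the coordinate ring of
a flat affine group scheme over Spec k; flatness and commutativity are the standing hypotheses of
the appendix and are not needed for the assertion) and P a k-module. Then p ↦ p ⊗ 1 is an injection
of P into the induced comodule P ⊗ A (coaction id ⊗ Δ) whose image is exactly the submodule of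
invariants, i.e. the elements with coaction x ↦ x ⊗ 1. (The published statement writes the
coordinate-ring factor on the left and calls this module coinduced; this row is its degree-zero
part, the identification of P with the invariants of the coinduced module.) -/
theorem result (k : Type u) [CommRing k] (A : Type v) [CommRing A] [Bialgebra k A]
    [Module.Flat k A] (P : Type w) [AddCommGroup P] [Module k P] :
    Function.Injective ((Hoch.Ind.equiv k A P).toLinearMap ∘ₗ (TensorProduct.mk k P A).flip (1 : A)) ∧
    LinearMap.range ((Hoch.Ind.equiv k A P).toLinearMap ∘ₗ (TensorProduct.mk k P A).flip (1 : A)) =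
      HopfRep.fixedPts k A (Hoch.Ind k A P) := by
  set f := (Hoch.Ind.equiv k A P).toLinearMap ∘ₗ (TensorProduct.mk k P A).flip (1 : A) with hf
  refine ⟨Function.LeftInverse.injective (g := Hoch.Ind.counit k A P) fun p => ?_, ?_⟩
  · simp [hf]
  refine le_antisymm ?_ fun x hx => ⟨Hoch.Ind.counit k A P x, ?_⟩
  · rintro _ ⟨p, rfl⟩
    show Hoch.Ind.coactAux k A P (p ⊗ₜ[k] (1 : A)) = (p ⊗ₜ[k] (1 : A)) ⊗ₜ[k] (1 : A)
    rw [Hoch.Ind.coactAux_tmul, Bialgebra.comul_one, Algebra.TensorProduct.one_def,
      TensorProduct.assoc_symm_tmul]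
  · let g : (P ⊗[k] A) ⊗[k] A →ₗ[k] P ⊗[k] A := (Hoch.Ind.counit k A P).rTensor A
    have key : g ∘ₗ Hoch.Ind.coactAux k A P = LinearMap.id := by
      refine TensorProduct.ext' fun p a => ?_
      simp only [LinearMap.comp_apply, Hoch.Ind.coactAux_tmul, LinearMap.id_coe, id_eq]
      have hh : g ∘ₗ (TensorProduct.assoc k P A A).symm.toLinearMap ∘ₗ TensorProduct.mk k P (A ⊗[k] A) p =
          (TensorProduct.lid k A).toLinearMap.lTensor P ∘ₗ TensorProduct.mk k P (k ⊗[k] A) p ∘ₗ
            (Coalgebra.counit (R := k) (A := A)).rTensor A := by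
        refine TensorProduct.ext' fun a b => ?_
        show g ((p ⊗ₜ[k] a) ⊗ₜ[k] b) = p ⊗ₜ[k] ((TensorProduct.lid k A) (Coalgebra.counit a ⊗ₜ b))
        show Hoch.Ind.counit k A P (Hoch.Ind.equiv k A P (p ⊗ₜ[k] a)) ⊗ₜ[k] b = _
        rw [Hoch.Ind.counit_equiv_tmul, TensorProduct.lid_tmul, TensorProduct.smul_tmul]
      have := LinearMap.congr_fun hh (Coalgebra.comul (R := k) a)
      simp only [LinearMap.comp_apply, LinearEquiv.coe_coe, TensorProduct.mk_apply,
        Coalgebra.rTensor_counit_comul, LinearMap.lTensor_tmul, TensorProduct.lid_tmul, one_smul] at this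
      exact this
    have h1 := LinearMap.congr_fun key x
    have hx' : Hoch.Ind.coactAux k A P x = (x : P ⊗[k] A) ⊗ₜ[k] (1 : A) := hx
    simp only [LinearMap.comp_apply, LinearMap.id_coe, id_eq, hx'] at h1
    exact h1

end Groth.Agent.S16984
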