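import Groth.Statements.S16985
-- import your own Groth.Agent.* helpers here

set_option autoImplicit false
universe u v
open Hoch

namespace Groth.Agent.S16985

section Helpers

open TensorProduct in
/-- The contracting homotopy: the counit on the coefficient comodule. -/
noncomputable def hom (k : Type u) [CommRing k] (A : Type v) [CommRing A] [Bialgebra k A] (P : Type v)
    [AddCommGroup P] [Module k P] : (n : ℕ) →
    ((Hoch.cochain k A (Hoch.Ind k A P) (n + 1) : Type v) →ₗ[k]
      (Hoch.cochain k A (Hoch.Ind k A P) n : Type v))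
  | 0 => (Hoch.Ind.equiv k A P).toLinearMap ∘ₗ (Hoch.Ind.counit k A P).rTensor A
  | n + 1 => (hom k A P n).rTensor A

open TensorProduct in
theorem tail_nat (k : Type u) [CommRing k] (A : Type v) [CommRing A] [Bialgebra k A] (M N : Type v)
    [AddCommGroup M] [Module k M] [AddCommGroup N] [Module k N] (f : M →ₗ[k] N) :
    (f.rTensor A).rTensor A ∘ₗ Hoch.tail k A M = Hoch.tail k A N ∘ₗ f.rTensor A := by
  refine TensorProduct.ext' fun m a => ?_
  simp only [LinearMap.comp_apply, Hoch.tail_tmul, LinearMap.rTensor_tmul]
  induction (Coalgebra.comul (R := k) a - a ⊗ₜ[k] 1 - 1 ⊗ₜ[k] a) using TensorProduct.induction_on with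
  | zero => simp
  | tmul p q => simp
  | add p q hp hq => simp only [TensorProduct.tmul_add, map_add, hp, hq]

open TensorProduct in
theorem homotopy (k : Type u) [CommRing k] (A : Type v) [CommRing A] [Bialgebra k A] (P : Type v)
    [AddCommGroup P] [Module k P] : ∀ n : ℕ,
    hom k A P (n + 1) ∘ₗ Hoch.d k A (Hoch.Ind k A P) (n + 1) +
      Hoch.d k A (Hoch.Ind k A P) n ∘ₗ hom k A P n = LinearMap.id
  | 0 => by
    refine TensorProduct.ext' fun v b => ?_
    obtain ⟨x, rfl⟩ := (Hoch.Ind.equiv k A P).surjective v
    induction x using TensorProduct.induction_on with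
    | zero =>
      rw [map_zero]
      erw [TensorProduct.zero_tmul]
      exact (map_zero _).trans (map_zero _).symm
    | tmul p a =>
      let V := Hoch.Ind k A P
      let h0 : V ⊗[k] A →ₗ[k] V := hom k A P 0
      let q : A →ₗ[k] V := (Hoch.Ind.equiv k A P).toLinearMap ∘ₗ TensorProduct.mk k P A p
      let J : A ⊗[k] A →ₗ[k] V ⊗[k] A := q.rTensor A
      let ε : k := Coalgebra.counit (R := k) a
      have hρ : ∀ c : A, HopfRep.Comod.coact (k := k) (A := A) (V := V) (q c) = J (Coalgebra.comul (R := k) c) := by
        intro c
        show Hoch.Ind.coactAux k A P (p ⊗ₜ c) = J _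
        rw [Hoch.Ind.coactAux_tmul]
        induction (Coalgebra.comul (R := k) c) using TensorProduct.induction_on with
        | zero => rw [TensorProduct.tmul_zero, map_zero, map_zero]; rfl
        | tmul x y => rfl
        | add x y hx hy => rw [TensorProduct.tmul_add, map_add, map_add, hx, hy]; rfl
      have e2 : ∀ c : A, h0 (q a ⊗ₜ c) = ε • q c := by
        intro c
        show Hoch.Ind.equiv k A P (Hoch.Ind.counit k A P (Hoch.Ind.equiv k A P (p ⊗ₜ a)) ⊗ₜ c) = _
        rw [Hoch.Ind.counit_equiv_tmul, ← TensorProduct.smul_tmul', map_smul]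
        rfl
      have e1 : h0 (J (Coalgebra.comul (R := k) a)) = q a := by
        have hh : h0 ∘ₗ J = q ∘ₗ (TensorProduct.lid k A).toLinearMap ∘ₗ
            (Coalgebra.counit (R := k) (A := A)).rTensor A := by
          refine TensorProduct.ext' fun x y => ?_
          show Hoch.Ind.equiv k A P (Hoch.Ind.counit k A P (Hoch.Ind.equiv k A P (p ⊗ₜ x)) ⊗ₜ y) =
            q ((TensorProduct.lid k A) (Coalgebra.counit x ⊗ₜ y))
          rw [Hoch.Ind.counit_equiv_tmul, ← TensorProduct.smul_tmul', map_smul, TensorProduct.lid_tmul, map_smul]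
          rfl
        have := LinearMap.congr_fun hh (Coalgebra.comul (R := k) a)
        simp only [LinearMap.comp_apply, LinearEquiv.coe_coe, Coalgebra.rTensor_counit_comul,
          TensorProduct.lid_tmul, one_smul] at this
        exact this
      have e3 : ∀ z : A ⊗[k] A, h0.rTensor A ((TensorProduct.assoc k V A A).symm (q a ⊗ₜ z)) = ε • J z := by
        intro z
        induction z using TensorProduct.induction_on with
        | zero => simp
        | tmul c d =>
          rw [TensorProduct.assoc_symm_tmul, LinearMap.rTensor_tmul, e2, ← TensorProduct.smul_tmul']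
          rfl
        | add c d hc hd => simp only [TensorProduct.tmul_add, map_add, hc, hd, smul_add]
      have eJ : ∀ x y : A, J (x ⊗ₜ y) = q x ⊗ₜ y := fun x y => rfl
      show h0.rTensor A ((Hoch.d k A V 0).rTensor A (q a ⊗ₜ b) +
          ((-1 : k) ^ 1) • Hoch.tail k A V (q a ⊗ₜ b)) + Hoch.d k A V 0 (h0 (q a ⊗ₜ b)) = q a ⊗ₜ b
      rw [map_add, map_smul, Hoch.tail_tmul, e3, LinearMap.rTensor_tmul, LinearMap.rTensor_tmul,
        Hoch.d_zero_apply, hρ, map_sub, e1, e2, e2, map_smul, Hoch.d_zero_apply, hρ, pow_one, map_sub,
        map_sub, eJ, eJ, TensorProduct.sub_tmul, ← TensorProduct.smul_tmul' (R := k)]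
      module
    | add x y hx hy =>
      rw [map_add]
      erw [TensorProduct.add_tmul, map_add, map_add, hx, hy]
  | n + 1 => by
    have ih := congrArg (LinearMap.rTensor A) (homotopy k A P n)
    rw [LinearMap.rTensor_add, LinearMap.rTensor_comp, LinearMap.rTensor_comp, LinearMap.rTensor_id] at ih
    have ht := tail_nat k A _ _ (hom k A P n)
    change ((hom k A P n).rTensor A).rTensor A ∘ₗ ((Hoch.d k A (Hoch.Ind k A P) (n + 1)).rTensor A +
        ((-1 : k) ^ (n + 1 + 1)) • Hoch.tail k A _) +
      ((Hoch.d k A (Hoch.Ind k A P) n).rTensor A + ((-1 : k) ^ (n + 1)) • Hoch.tail k A _) ∘ₗ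
        (hom k A P n).rTensor A = LinearMap.id
    rw [LinearMap.comp_add, LinearMap.add_comp, LinearMap.comp_smul, LinearMap.smul_comp, ht, pow_succ,
      mul_neg_one, neg_smul]
    refine Eq.trans ?_ ih
    show _ = ((hom k A P n).rTensor A).rTensor A ∘ₗ _ + _
    abel

end Helpers

open TensorProduct in
/-- Let k be a commutative ring, A a commutative k-bialgebra flat over k (the coordinate ring of a flat
affine group scheme over Spec k; flatness and commutativity are the standing hypotheses of the
appendix and are not needed for the assertion) and P a k-module. Then the cochain complex of the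
induced comodule P ⊗ A (coaction id ⊗ Δ), with n-cochains (P ⊗ A) ⊗ A ⊗ ⋯ ⊗ A, has every
(n+1)-cocycle an (n+1)-coboundary, for all n. (The published statement is the vanishing of the
higher derived functors of invariants on coinduced modules; this row states the vanishing in
positive degrees of the cohomology of the cochain complex above, which the same appendix identifies
with those derived functors. P is taken in the universe of A, as the cochain modules require.) -/
theorem result (k : Type u) [CommRing k] (A : Type v) [CommRing A]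
    [Bialgebra k A] [Module.Flat k A] (P : Type v) [AddCommGroup P] [Module k P] (n : ℕ) :
    Hoch.cocycles k A (Hoch.Ind k A P) (n + 1) ≤ Hoch.coboundaries k A (Hoch.Ind k A P) (n + 1) := by
  intro x hx
  have h := LinearMap.congr_fun (homotopy k A P n) x
  simp only [LinearMap.add_apply, LinearMap.comp_apply, LinearMap.id_coe, id_eq,
    LinearMap.mem_ker.mp hx, map_zero, zero_add] at h
  exact ⟨_, h⟩

end Groth.Agent.S16985
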