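import Groth.Statements.S16991
import Groth.Agent.Misc12.Quad.Det

set_option autoImplicit false
universe u v
open QuadGrp

namespace Groth.Agent.S16991

/-- Over a commutative ring in which 2 = 0, for a quadratic form Q on a finite free module of even rank
2m ≥ 2 whose polar form is a perfect pairing, every isometry of Q has determinant one. (The
published statement is the equality of the naive special orthogonal group with the orthogonal group
on fibres in characteristic 2; its proof gives this equality over every base of characteristic 2,
which is the form stated.) -/
theorem result {R : Type u} [CommRing R] [CharP R 2]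
    {M : Type v} [AddCommGroup M] [Module R M] [Module.Free R M] [Module.Finite R M]
    (m : ℕ) (hm : 1 ≤ m) (hM : Module.finrank R M = 2 * m) (Q : QuadraticForm R M) (hQ : QuadGrp.IsRegular Q) :
    QuadGrp.O Q = QuadGrp.SO' Q := by
  haveI : Nontrivial R := CharP.nontrivial_of_char_ne_one (v := 2) (by norm_num)
  refine le_antisymm (fun g hg => ⟨hg, MonoidHom.mem_ker.2 ?_⟩) inf_le_left
  exact Groth.Misc12.Quad.det_isometry_of_charTwo (Module.finBasisOfFinrankEq R M hM) Q hQ hg

end Groth.Agent.S16991
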