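import Groth.Statements.S16992
import Groth.Agent.Misc12.Cliff.Odd.Main

set_option autoImplicit false
universe u v
open QuadGrp

namespace Groth.Agent.S16992

/-- Let Q be a quadratic form on a free module with a basis indexed by Fin (2m+1) over a commutative
ring, whose half-discriminant in that basis is a unit. If z is a central element of the Clifford
algebra C(Q) which is odd for its ℤ/2-grading, then the principal anti-involution of C(Q) (the one
extending v ↦ −v on the module) sends z to (−1)^(m+1) z. Equivalently: on the centre this
anti-involution is the identity when the rank is 3 mod 4, and is the involution negating the odd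
part when the rank is 1 mod 4. -/
theorem result {R : Type u} [CommRing R] {M : Type v} [AddCommGroup M] [Module R M]
    (m : ℕ) (b : Module.Basis (Fin (2 * m + 1)) R M) (Q : QuadraticForm R M)
    (hQ : QuadGrp.IsSemiregular b (LinearEquiv.refl R R) Q)
    (z : CliffordAlgebra Q) (hz : z ∈ Subalgebra.center R (CliffordAlgebra Q))
    (hz1 : z ∈ CliffordAlgebra.evenOdd Q 1) :
    star z = ((-1 : R) ^ (m + 1)) • z := by
  classical
  haveI := Module.Free.of_basis b
  haveI := Module.Finite.of_basis b
  refine Groth.Misc12.Cliff.eq_of_forall_bc_eq fun P _ => ?_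
  obtain ⟨F⟩ := Groth.Misc12.Cliff.exists_frame (Groth.Misc12.Cliff.isSemiregular_QA hQ (Localization.AtPrime P))
  obtain ⟨ζ, hζ⟩ := F.exists_zeta
  obtain ⟨t, ht⟩ := hζ.eq_smul_of_central F (Groth.Misc12.Cliff.bc_mem_evenOdd Q _ hz1) (fun x _ =>
    Groth.Misc12.Cliff.commute_all_of_commute_bc _
      (fun y => by rw [← map_mul, Subalgebra.mem_center_iff.1 hz, map_mul]) x)
  rw [Groth.Misc12.Cliff.bc_star, map_smul, ht, CliffordAlgebra.star_smul, hζ.star_eq, smul_comm,
    ← algebraMap_smul (Localization.AtPrime P) ((-1 : R) ^ (m + 1)), map_pow, map_neg, map_one]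

end Groth.Agent.S16992
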