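import Groth.Statements.S16996
import Groth.Agent.Misc12.Cliff.Odd.Main

set_option autoImplicit false
universe u v
open QuadGrp

namespace Groth.Agent.S16996

/-- Points over a local ring: over a local ring, let Q be a quadratic form on a finite free module M
with a basis indexed by Fin (2m+1) whose half-discriminant in that basis is a unit. Then every unit
of the Clifford algebra C(Q) normalising M is the product of a central unit of C(Q) and a point of
the even Clifford group (an even, locally homogeneous unit normalising M). (The published statement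
is the equality GPin′(q) = Z_q^× ×^{G_m} GSpin(q) of group schemes, a Zariski-local product
decomposition; over a local base it is the factorisation given.) -/
theorem result {R : Type u} [CommRing R] [IsLocalRing R]
    {M : Type v} [AddCommGroup M] [Module R M] [Module.Free R M] [Module.Finite R M]
    (m : ℕ) (b : Module.Basis (Fin (2 * m + 1)) R M) (Q : QuadraticForm R M)
    (hQ : QuadGrp.IsSemiregular b (LinearEquiv.refl R R) Q)
    (u' : (CliffordAlgebra Q)ˣ) (hu' : u' ∈ QuadGrp.GPin' Q) :
    ∃ z : CliffordAlgebra Q, z ∈ Subalgebra.center R (CliffordAlgebra Q) ∧ IsUnit z ∧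
      ∃ u ∈ QuadGrp.GSpin Q, (u' : CliffordAlgebra Q) = z * u := by
  obtain ⟨g, hgO, hg⟩ := Groth.Misc12.Cliff.exists_isometry_of_mem_GPin' hu'
  obtain ⟨u, hu0, hu⟩ := Groth.Misc12.Cliff.exists_even_versor hgO hQ
    (Groth.Misc12.Cliff.det_eq_one_of_mem_GPin' hgO hQ u' hg)
  refine ⟨↑(u' * u⁻¹), ?_, Units.isUnit _, u, ⟨⟨Groth.Misc12.Cliff.mem_GPin'_of_conj (g := g) u fun v => by
    rw [hu, Units.mul_inv_cancel_right], ⟨1, IsIdempotentElem.one, by simpa using hu0, by simp⟩⟩, hu0⟩, by
    rw [Units.val_mul, Units.inv_mul_cancel_right]⟩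
  rw [Subalgebra.mem_center_iff]
  intro y
  have h1 : ∀ x, (↑u⁻¹ : CliffordAlgebra Q) * Groth.Misc12.Cliff.cmap hgO x = x * ↑u⁻¹ := fun x => by
    rw [Units.eq_mul_inv_iff_mul_eq, mul_assoc, Groth.Misc12.Cliff.cmap_mul_of_even hgO _ hu, Units.inv_mul_cancel_left]
  have hcomp : (Groth.Misc12.Cliff.cmap hgO).comp (Groth.Misc12.Cliff.cmap (inv_mem hgO)) = AlgHom.id R _ := by
    apply CliffordAlgebra.hom_ext
    ext v
    simp only [LinearMap.comp_apply, AlgHom.toLinearMap_apply, AlgHom.comp_apply, Groth.Misc12.Cliff.cmap_ι, AlgHom.id_apply]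
    rw [show g (g⁻¹ v) = v from g.apply_symm_apply v]
  obtain ⟨x, rfl⟩ : ∃ x, Groth.Misc12.Cliff.cmap hgO x = y :=
    ⟨Groth.Misc12.Cliff.cmap (inv_mem hgO) y, DFunLike.congr_fun hcomp y⟩
  rw [Units.val_mul, mul_assoc, h1, ← mul_assoc, ← mul_assoc, Groth.Misc12.Cliff.cmap_mul_of_even hgO _ hg]

end Groth.Agent.S16996
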