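import Groth.Statements.S16997
import Groth.Agent.Misc12.Cliff.Odd.Main

set_option autoImplicit false
universe u v
open QuadGrp

namespace Groth.Agent.S16997

/-- Over a commutative ring in which 2 is invertible, let Q be a quadratic form on a finite free module
with a basis indexed by Fin (2m+1), m odd (rank congruent to 3 mod 4), whose half-discriminant in
that basis is a unit. Then every unit of the Clifford algebra normalising the module and of Clifford
norm one is locally homogeneous: the Pin group equals the naive Pin group. (The published statement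
adds the converse: for rank 1 mod 4, or when 2 is not a unit on the base, the two group schemes
differ.) -/
theorem result {R : Type u} [CommRing R] [Invertible (2 : R)]
    {M : Type v} [AddCommGroup M] [Module R M] [Module.Free R M] [Module.Finite R M]
    (m : ℕ) (hm : Odd m) (b : Module.Basis (Fin (2 * m + 1)) R M) (Q : QuadraticForm R M)
    (hQ : QuadGrp.IsSemiregular b (LinearEquiv.refl R R) Q) :
    QuadGrp.Pin Q = QuadGrp.Pin' Q := by
  classical
  refine le_antisymm (inf_le_inf_right _ inf_le_left) fun u hu => ⟨⟨hu.1, ?_⟩, hu.2⟩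
  obtain ⟨g, hgO, hgι⟩ := Groth.Misc12.Cliff.exists_isometry_of_mem_GPin' hu.1
  have hN : star (u : CliffordAlgebra Q) * u = 1 := hu.2
  set u0 : CliffordAlgebra Q := ↑(DirectSum.decompose (CliffordAlgebra.evenOdd Q) (u : CliffordAlgebra Q) 0) with hu0
  set u1 : CliffordAlgebra Q := ↑(DirectSum.decompose (CliffordAlgebra.evenOdd Q) (u : CliffordAlgebra Q) 1) with hu1
  have h0m : u0 ∈ CliffordAlgebra.evenOdd Q 0 := SetLike.coe_mem _
  have h1m : u1 ∈ CliffordAlgebra.evenOdd Q 1 := SetLike.coe_mem _
  have hsum : (u : CliffordAlgebra Q) = u0 + u1 := Groth.Misc12.Cliff.sum_decompose _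
  let J : CliffordAlgebra Q → Ideal R := fun x => LinearMap.ker (LinearMap.toSpanSingleton R _ x)
  have htop : J u0 ⊔ J u1 = ⊤ := by
    by_contra h
    obtain ⟨P, hP, hle⟩ := Ideal.exists_le_maximal _ h
    have key : ∀ x, Groth.Misc12.Cliff.bc Q (Localization.AtPrime P) x = 0 → J x ≤ P → False := fun x hx hJ => by
      obtain ⟨s, hs, hsx⟩ := Groth.Misc12.Cliff.exists_smul_eq_zero P hx
      exact hs (hJ (by simpa [J] using hsx))
    have b0 := Groth.Misc12.Cliff.bc_mem_evenOdd Q (Localization.AtPrime P) h0m
    have b1 := Groth.Misc12.Cliff.bc_mem_evenOdd Q (Localization.AtPrime P) h1m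
    have hQA := Groth.Misc12.Cliff.isSemiregular_QA hQ (Localization.AtPrime P)
    have hgA := Groth.Misc12.Cliff.baseChange_mem_O (Localization.AtPrime P) hgO
    obtain ⟨w, hw0, hw⟩ := Groth.Misc12.Cliff.exists_even_versor hgA hQA
      (by rw [Groth.Misc12.Cliff.det_baseChange_eq, Groth.Misc12.Cliff.det_eq_one_of_mem_GPin' hgO hQ u hgι, map_one])
    obtain ⟨F⟩ := Groth.Misc12.Cliff.exists_frame hQA
    obtain ⟨ζ, hζ⟩ := F.exists_zeta
    obtain ⟨d, hd, hζζ⟩ := hζ.sq
    set U := Groth.Misc12.Cliff.bc Q (Localization.AtPrime P) (u : CliffordAlgebra Q) with hU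
    have hUw := Groth.Misc12.Cliff.bc_conj (Localization.AtPrime P) hgO (Groth.Misc12.Cliff.cmap_mul_of_even hgO _ hgι)
    have hwc := Groth.Misc12.Cliff.cmap_mul_of_even hgA _ hw
    -- `z = w⁻¹ U` is central
    have hz : ∀ x, x * ((↑w⁻¹ : CliffordAlgebra (Groth.Misc12.Cliff.QA Q (Localization.AtPrime P))) * U) = (↑w⁻¹ : CliffordAlgebra (Groth.Misc12.Cliff.QA Q (Localization.AtPrime P))) * U * x := fun x => by
      have h1 : x * (↑w⁻¹ : CliffordAlgebra (Groth.Misc12.Cliff.QA Q (Localization.AtPrime P))) = (↑w⁻¹ : CliffordAlgebra (Groth.Misc12.Cliff.QA Q (Localization.AtPrime P))) * Groth.Misc12.Cliff.cmap hgA x := by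
        rw [Units.eq_inv_mul_iff_mul_eq, ← mul_assoc, ← hwc, Units.mul_inv_cancel_right]
      rw [← mul_assoc, h1, mul_assoc, hUw, mul_assoc]
    obtain ⟨a, c, hab⟩ : ∃ a c : Localization.AtPrime P, (↑w⁻¹ : CliffordAlgebra (Groth.Misc12.Cliff.QA Q (Localization.AtPrime P))) * U = algebraMap _ _ a + c • ζ := by
      set z := (↑w⁻¹ : CliffordAlgebra (Groth.Misc12.Cliff.QA Q (Localization.AtPrime P))) * U
      have hz0 : ∀ y ∈ CliffordAlgebra.evenOdd (Groth.Misc12.Cliff.QA Q (Localization.AtPrime P)) 0, y * (↑(DirectSum.decompose (CliffordAlgebra.evenOdd (Groth.Misc12.Cliff.QA Q (Localization.AtPrime P))) z 0) : CliffordAlgebra (Groth.Misc12.Cliff.QA Q (Localization.AtPrime P)))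
          = ↑(DirectSum.decompose (CliffordAlgebra.evenOdd (Groth.Misc12.Cliff.QA Q (Localization.AtPrime P))) z 0) * y ∧
          y * (↑(DirectSum.decompose (CliffordAlgebra.evenOdd (Groth.Misc12.Cliff.QA Q (Localization.AtPrime P))) z 1) : CliffordAlgebra (Groth.Misc12.Cliff.QA Q (Localization.AtPrime P)))
          = ↑(DirectSum.decompose (CliffordAlgebra.evenOdd (Groth.Misc12.Cliff.QA Q (Localization.AtPrime P))) z 1) * y := fun y hy => by
        have h0 := (SetLike.coe_mem (DirectSum.decompose (CliffordAlgebra.evenOdd (Groth.Misc12.Cliff.QA Q (Localization.AtPrime P))) z 0))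
        have h1 := (SetLike.coe_mem (DirectSum.decompose (CliffordAlgebra.evenOdd (Groth.Misc12.Cliff.QA Q (Localization.AtPrime P))) z 1))
        have h := hz y
        rw [Groth.Misc12.Cliff.sum_decompose z, mul_add, add_mul] at h
        replace h := sub_eq_sub_iff_add_eq_add.2 (h.trans (add_comm _ _))
        have h2 := Groth.Misc12.Cliff.eq_zero_of_mem_mem
          (by simpa using sub_mem (SetLike.mul_mem_graded hy h0) (SetLike.mul_mem_graded h0 hy))
          (by rw [h]; exact sub_mem (by simpa using SetLike.mul_mem_graded h1 hy) (by simpa using SetLike.mul_mem_graded hy h1))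
        rw [h2] at h
        exact ⟨sub_eq_zero.1 h2, (sub_eq_zero.1 h.symm).symm⟩
      obtain ⟨a, ha⟩ := F.center_even (SetLike.coe_mem _) fun y hy => (hz0 y hy).1
      obtain ⟨c, hc⟩ := hζ.eq_smul_of_central F (SetLike.coe_mem _) fun y hy => (hz0 y hy).2
      exact ⟨a, c, by rw [Groth.Misc12.Cliff.sum_decompose z, ← ha, hc]⟩
    -- the norm of `w` is a scalar
    have hsw : ∀ v, CliffordAlgebra.ι (Groth.Misc12.Cliff.QA Q (Localization.AtPrime P)) v * star (w : CliffordAlgebra (Groth.Misc12.Cliff.QA Q (Localization.AtPrime P))) =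
        star (w : CliffordAlgebra (Groth.Misc12.Cliff.QA Q (Localization.AtPrime P))) * CliffordAlgebra.ι (Groth.Misc12.Cliff.QA Q (Localization.AtPrime P)) (LinearEquiv.baseChange R (Localization.AtPrime P) M M g v) := fun v => by
      have := congrArg star (hw v)
      simp only [star_mul, CliffordAlgebra.star_ι, neg_mul, mul_neg] at this
      exact neg_inj.1 this
    have hμc : ∀ x, x * (star (w : CliffordAlgebra (Groth.Misc12.Cliff.QA Q (Localization.AtPrime P))) * w) = star (w : CliffordAlgebra (Groth.Misc12.Cliff.QA Q (Localization.AtPrime P))) * w * x := fun x => by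
      induction x using CliffordAlgebra.induction with
      | algebraMap r => exact Algebra.commutes r _
      | ι v => rw [← mul_assoc, hsw, mul_assoc, ← hw, mul_assoc]
      | mul x y hx hy => rw [mul_assoc, hy, ← mul_assoc, hx, mul_assoc]
      | add x y hx hy => rw [add_mul, mul_add, hx, hy]
    obtain ⟨μ, hμ⟩ := F.center_even (y := star (w : CliffordAlgebra (Groth.Misc12.Cliff.QA Q (Localization.AtPrime P))) * w)
      (by
        have : star (w : CliffordAlgebra (Groth.Misc12.Cliff.QA Q (Localization.AtPrime P))) ∈ CliffordAlgebra.evenOdd (Groth.Misc12.Cliff.QA Q (Localization.AtPrime P)) 0 := by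
          rw [CliffordAlgebra.star_def, CliffordAlgebra.involute_eq_of_mem_even hw0]
          exact (CliffordAlgebra.reverse_mem_evenOdd_iff _).2 hw0
        simpa using SetLike.mul_mem_graded this hw0)
      (fun x _ => hμc x)
    have h1 : (1 : CliffordAlgebra (Groth.Misc12.Cliff.QA Q (Localization.AtPrime P))) =
        algebraMap _ _ (μ * (a * a + c * c * d)) + (μ * (a * c) + μ * (a * c)) • ζ := by
      have hUe : U = (w : CliffordAlgebra (Groth.Misc12.Cliff.QA Q (Localization.AtPrime P))) * (algebraMap _ _ a + c • ζ) := by rw [← hab, Units.mul_inv_cancel_left]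
      have hs : star (algebraMap (Localization.AtPrime P) (CliffordAlgebra (Groth.Misc12.Cliff.QA Q (Localization.AtPrime P))) a + c • ζ)
          = algebraMap _ _ a + c • ζ := by
        rw [star_add, CliffordAlgebra.star_algebraMap, CliffordAlgebra.star_smul, hζ.star_eq, (hm.add_odd odd_one).neg_one_pow,
          one_smul]
      calc (1 : CliffordAlgebra (Groth.Misc12.Cliff.QA Q (Localization.AtPrime P))) = star U * U := by rw [hU, ← Groth.Misc12.Cliff.bc_star, ← map_mul, hN, map_one]
        _ = (algebraMap _ _ a + c • ζ) * (algebraMap _ _ μ * (algebraMap _ _ a + c • ζ)) := by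
          rw [hUe, star_mul, hs, mul_assoc, ← mul_assoc (star (w : CliffordAlgebra (Groth.Misc12.Cliff.QA Q (Localization.AtPrime P)))), hμ]
        _ = _ := by
          simp only [Algebra.algebraMap_eq_smul_one, add_mul, mul_add, smul_mul_assoc, mul_smul_comm, one_mul, mul_one,
            smul_add, smul_smul, hζζ]
          rw [show a * μ * a = μ * (a * a) by ring, show c * μ * (c * d) = μ * (c * c * d) by ring,
            show a * μ * c = μ * (a * c) by ring, show c * μ * a = μ * (a * c) by ring, add_smul, add_smul]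
          abel
    have h0 : (μ * (a * c) + μ * (a * c)) • ζ = 0 :=
      Groth.Misc12.Cliff.eq_zero_of_mem_mem
        (by
          rw [eq_sub_of_add_eq' h1.symm]
          exact sub_mem (SetLike.one_mem_graded _) (SetLike.algebraMap_mem_graded _ _))
        (Submodule.smul_mem _ _ hζ.odd)
    rw [h0, add_zero] at h1
    have hn : μ * (a * a + c * c * d) = 1 := Groth.Misc12.Cliff.algebraMap_injective _ (by rw [← h1, map_one])
    have hac : μ * (2 * (a * c)) = 0 := by
      rw [show μ * (2 * (a * c)) = μ * (a * c) + μ * (a * c) by ring]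
      have h := congrArg (fun e => e * ζ) h0
      rw [smul_mul_assoc, zero_mul, hζζ, Algebra.smul_def, ← map_mul] at h
      exact hd.mul_left_eq_zero.1 (Groth.Misc12.Cliff.algebraMap_injective _ (by rw [h, map_zero]))
    have h2 : IsUnit (2 : Localization.AtPrime P) := by
      have := (isUnit_of_invertible (2 : R)).map (algebraMap R (Localization.AtPrime P))
      rwa [map_ofNat] at this
    have hac' : a * c = 0 := h2.mul_right_eq_zero.1 ((IsUnit.of_mul_eq_one _ hn).mul_right_eq_zero.1 hac)
    have hcases : a = 0 ∨ c = 0 := by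
      rcases IsLocalRing.isUnit_or_isUnit_of_isUnit_add (IsUnit.of_mul_eq_one _ (by rw [mul_comm]; exact hn) : IsUnit (a * a + c * c * d))
        with ha | hc
      · exact Or.inr ((isUnit_of_mul_isUnit_left ha).mul_right_eq_zero.1 hac')
      · exact Or.inl ((isUnit_of_mul_isUnit_left (isUnit_of_mul_isUnit_left hc)).mul_left_eq_zero.1 hac')
    have hUe : U = (w : CliffordAlgebra (Groth.Misc12.Cliff.QA Q (Localization.AtPrime P))) * (algebraMap _ _ a + c • ζ) := by rw [← hab, Units.mul_inv_cancel_left]
    rcases hcases with rfl | rfl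
    · refine key u0 (Groth.Misc12.Cliff.eq_zero_of_mem_mem b0 ?_) (le_sup_left.trans hle)
      rw [show u0 = (u : CliffordAlgebra Q) - u1 from eq_sub_of_add_eq hsum.symm, map_sub, ← hU, hUe, map_zero, zero_add]
      refine sub_mem ?_ b1
      simpa using SetLike.mul_mem_graded hw0 (Submodule.smul_mem _ c hζ.odd)
    · refine key u1 (Groth.Misc12.Cliff.eq_zero_of_mem_mem ?_ b1) (le_sup_right.trans hle)
      rw [show u1 = (u : CliffordAlgebra Q) - u0 from eq_sub_of_add_eq' hsum.symm, map_sub, ← hU, hUe, zero_smul, add_zero]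
      refine sub_mem ?_ b0
      simpa using SetLike.mul_mem_graded hw0 (SetLike.algebraMap_mem_graded _ a)
  obtain ⟨f, hf, e, he, hfe⟩ := Submodule.mem_sup.1 (htop ▸ Submodule.mem_top : (1 : R) ∈ J u0 ⊔ J u1)
  have hf' : f • u0 = 0 := by simpa [J] using hf
  have he' : e • u1 = 0 := by simpa [J] using he
  have hef : e * f = 0 := by
    refine Groth.Misc12.Cliff.algebraMap_injective Q (u.mul_left_inj.1 ?_)
    rw [map_zero, zero_mul, ← Algebra.smul_def, hsum, smul_add, mul_smul, hf', smul_zero, zero_add, mul_comm, mul_smul, he',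
      smul_zero]
  refine ⟨e, (IsIdempotentElem.of_mul_add hef (by rw [add_comm]; exact hfe)).1, ?_, ?_⟩
  · rw [hsum, smul_add, he', add_zero]
    exact Submodule.smul_mem _ _ h0m
  · rw [show 1 - e = f by rw [← hfe, add_sub_cancel_right], hsum, smul_add, hf', zero_add]
    exact Submodule.smul_mem _ _ h1m

end Groth.Agent.S16997
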