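import Groth.Statements.S16998
import Groth.Agent.Misc12.Cliff.Odd.Mat

set_option autoImplicit false
universe u
open scoped TensorProduct
open QuadGrp

namespace Groth.Agent.S16998

/-- Let Q be a quadratic form on a free module M with a basis indexed by Fin (2m+1) over a commutative
ring R, whose half-discriminant in that basis is a unit. Then (a) fppf-locally on R the even
Clifford algebra is a matrix algebra of size 2^m (some faithfully flat finitely presented R-algebra
R′ realises it); (b) the even central elements of the Clifford algebra C(Q) are the scalars; (c) the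
multiplication map from (centre of C(Q)) ⊗ (even part) to C(Q) is bijective; (d) M → C(Q) is
injective onto a direct summand. (The published statement, for a vector bundle over a scheme, also
says that the odd part of the centre is an invertible module squaring to the structure sheaf and
that C(Q) is locally free of rank 2^(2m+1); the first of these is stated separately over a local
base.) -/
theorem result {R : Type u} [CommRing R] {M : Type u} [AddCommGroup M] [Module R M]
    (m : ℕ) (b : Module.Basis (Fin (2 * m + 1)) R M) (Q : QuadraticForm R M)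
    (hQ : QuadGrp.IsSemiregular b (LinearEquiv.refl R R) Q) :
    (∃ (R' : Type u) (_ : CommRing R') (_ : Algebra R R'), Module.FaithfullyFlat R R' ∧ Algebra.FinitePresentation R R' ∧
        Nonempty ((R' ⊗[R] ↥(CliffordAlgebra.even Q)) ≃ₐ[R'] Matrix (Fin (2 ^ m)) (Fin (2 ^ m)) R')) ∧
    (∀ z ∈ Subalgebra.center R (CliffordAlgebra Q), z ∈ CliffordAlgebra.evenOdd Q 0 →
        z ∈ (algebraMap R (CliffordAlgebra Q)).range) ∧
    Function.Bijective (TensorProduct.lift
        (((LinearMap.mul R (CliffordAlgebra Q)).comp (Subalgebra.center R (CliffordAlgebra Q)).val.toLinearMap).compl₂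
          (CliffordAlgebra.even Q).val.toLinearMap)) ∧
    (Function.Injective (CliffordAlgebra.ι Q) ∧
      ∃ W : Submodule R (CliffordAlgebra Q), IsCompl (LinearMap.range (CliffordAlgebra.ι Q)) W) := by
  classical
  haveI := Module.Free.of_basis b
  haveI := Module.Finite.of_basis b
  refine ⟨?_, ?_, ?_, Groth.Misc12.Cliff.ι_injective Q, ?_⟩
  · let Q' : QuadraticForm R (Fin (2 * m + 1) → R) := Q.comp b.equivFun.symm.toLinearMap
    have hQ' : QuadGrp.IsSemiregular (Pi.basisFun R (Fin (2 * m + 1))) (LinearEquiv.refl R R) Q' := by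
      have : QuadGrp.halfDisc (Pi.basisFun R (Fin (2 * m + 1))) (LinearEquiv.refl R R) Q' =
          QuadGrp.halfDisc b (LinearEquiv.refl R R) Q := by
        rw [QuadGrp.halfDisc, QuadGrp.halfDisc]
        congr 1
        funext z
        induction z using Sym2.inductionOn with
        | hf i j =>
          have hb : ∀ k, b.equivFun.symm (Pi.single k (1 : R)) = b k := fun k => by
            rw [LinearEquiv.symm_apply_eq]
            funext l
            simp [Pi.single_apply, eq_comm]
          rw [QuadGrp.coeffs_mk, QuadGrp.coeffs_mk]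
          simp only [Q', QuadraticMap.polar, QuadraticMap.comp_apply, LinearEquiv.coe_toLinearMap, Pi.basisFun_apply, map_add, hb]
      unfold QuadGrp.IsSemiregular at hQ ⊢
      rwa [this]
    obtain ⟨A, iA, iA', hff, hfp, ⟨e⟩⟩ := Groth.Misc12.Cliff.OddSplit.exists_fppf_split hQ'
    refine ⟨A, iA, iA', hff, hfp, ?_⟩
    rcases subsingleton_or_nontrivial A with hA | hA
    · haveI : Subsingleton (TensorProduct R A ↥(CliffordAlgebra.even Q)) := Module.subsingleton A _
      haveI : Subsingleton (Matrix (Fin (2 ^ m)) (Fin (2 ^ m)) A) := Module.subsingleton A _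
      exact ⟨{ toFun := fun _ => 0, invFun := fun _ => 0, left_inv := fun _ => Subsingleton.elim _ _,
               right_inv := fun _ => Subsingleton.elim _ _, map_mul' := fun _ _ => Subsingleton.elim _ _,
               map_add' := fun _ _ => Subsingleton.elim _ _, commutes' := fun _ => Subsingleton.elim _ _ }⟩
    let T := LinearEquiv.baseChange R A M (Fin (2 * m + 1) → R) b.equivFun
    have hT : ∀ x, Groth.Misc12.Cliff.QA Q A x = QuadGrp.baseChangeForm A Q' (T x) := by
      have : Groth.Misc12.Cliff.QA Q A = (QuadGrp.baseChangeForm A Q').comp T.toLinearMap := by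
        refine Groth.Misc12.Quad.quadForm_ext (Algebra.TensorProduct.basis A b) (fun i => ?_) fun i j => ?_
        · rw [QuadraticMap.comp_apply, LinearEquiv.coe_toLinearMap, Algebra.TensorProduct.basis_apply,
            Groth.Misc12.Cliff.QA_tmul, LinearEquiv.baseChange_tmul, Groth.Misc12.Quad.bcForm_tmul, QuadraticMap.comp_apply,
            LinearEquiv.coe_toLinearMap, LinearEquiv.symm_apply_apply]
        · simp only [QuadraticMap.polar, QuadraticMap.comp_apply, LinearEquiv.coe_toLinearMap,
            Algebra.TensorProduct.basis_apply, ← TensorProduct.tmul_add, Groth.Misc12.Cliff.QA_tmul, T,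
            LinearEquiv.baseChange_tmul, Groth.Misc12.Quad.bcForm_tmul, Q', LinearEquiv.symm_apply_apply]
      exact fun x => DFunLike.congr_fun this x
    let b' := (Groth.Misc12.Quad.stdB (R := R) (n := 2 * m + 1) A).map (T.trans e.toLinearEquiv).symm
    obtain ⟨φ⟩ := Groth.Misc12.Cliff.exists_even_matrix_equiv (Q := Groth.Misc12.Cliff.QA Q A) b' fun x => by
      rw [hT, ← e.map_app, Groth.Misc12.Cliff.OddSplit.baseChange_splitForm]
      rfl
    exact ⟨(AlgEquiv.ofBijective _ (Groth.Misc12.Cliff.evenBC_bijective Q A)).trans φ⟩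
  · intro z hz hz0
    exact Groth.Misc12.Cliff.center_even_global hQ hz0 fun x _ => Subalgebra.mem_center_iff.1 hz x
  · obtain ⟨s, y, c, hy, hsum⟩ := Groth.Misc12.Cliff.exists_odd_central_family hQ
    let C := CliffordAlgebra Q
    let Z := Subalgebra.center R C
    set μ := TensorProduct.lift (((LinearMap.mul R (CliffordAlgebra Q)).comp (Subalgebra.center R (CliffordAlgebra Q)).val.toLinearMap).compl₂
          (CliffordAlgebra.even Q).val.toLinearMap) with hμd
    have hμ : ∀ (z : Z) (e : ↥(CliffordAlgebra.even Q)), μ (z ⊗ₜ[R] e) = (z : C) * e := fun z e => rfl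
    let pr : ZMod 2 → C →ₗ[R] C := fun i =>
      { toFun := fun x => ↑(DirectSum.decompose (CliffordAlgebra.evenOdd Q) x i)
        map_add' := fun x y => by simp
        map_smul' := fun r x => by simp [DirectSum.decompose_smul]; rfl }
    let p0 : C →ₗ[R] ↥(CliffordAlgebra.even Q) :=
      { toFun := fun x => ⟨pr 0 x, SetLike.coe_mem _⟩
        map_add' := fun x y => Subtype.ext (map_add (pr 0) x y)
        map_smul' := fun r x => Subtype.ext (map_smul (pr 0) r x) }
    let ν : C →ₗ[R] TensorProduct R ↥Z ↥(CliffordAlgebra.even Q) :=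
      (TensorProduct.mk R ↥Z ↥(CliffordAlgebra.even Q) 1).comp p0 +
        ∑ r ∈ s.attach, c r • (TensorProduct.mk R ↥Z ↥(CliffordAlgebra.even Q)
          ⟨y r, Subalgebra.mem_center_iff.2 (hy r r.2).2⟩).comp (p0.comp ((LinearMap.mulLeft R (y r)).comp (pr 1)))
    have hν : ∀ x, ν x = (1 : ↥Z) ⊗ₜ[R] p0 x +
        ∑ r ∈ s.attach, c r • ((⟨y r, Subalgebra.mem_center_iff.2 (hy r r.2).2⟩ : ↥Z) ⊗ₜ[R] p0 (y r * pr 1 x)) := fun x => by
      simp [ν, LinearMap.sum_apply]
    have hdiag : ∀ r ∈ s, ∀ x : C, x ∈ CliffordAlgebra.evenOdd Q 1 → ((p0 (y r * x) : ↥(CliffordAlgebra.even Q)) : C) = y r * x :=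
      fun r hr x hx => DirectSum.decompose_of_mem_same _ (by
        simpa [show (1 : ZMod 2) + 1 = 0 from rfl] using SetLike.mul_mem_graded (hy r hr).1 hx)
    refine ⟨?_, fun x => ⟨ν x, ?_⟩⟩
    · have hkey : ∀ t, ν (μ t) = t := by
        intro t
        induction t using TensorProduct.induction_on with
        | zero => rw [map_zero, map_zero]
        | add a d ha hd => rw [map_add, map_add, ha, hd]
        | tmul z e =>
          rw [hμ]
          obtain ⟨z, hz⟩ := z
          obtain ⟨e, he⟩ := e
          change ν (z * e) = _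
          have hzc : ∀ x, x * z = z * x := Subalgebra.mem_center_iff.1 hz
          set z0 := pr 0 z
          set z1 := pr 1 z
          have hzs : z = z0 + z1 := Groth.Misc12.Cliff.sum_decompose z
          have h0 : z0 ∈ CliffordAlgebra.evenOdd Q 0 := SetLike.coe_mem _
          have h1 : z1 ∈ CliffordAlgebra.evenOdd Q 1 := SetLike.coe_mem _
          have hc0 : ∀ y ∈ CliffordAlgebra.evenOdd Q 0, y * z0 = z0 * y ∧ y * z1 = z1 * y := by
            intro y hy
            have h := hzc y
            rw [hzs, mul_add, add_mul] at h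
            replace h := sub_eq_sub_iff_add_eq_add.2 (h.trans (add_comm _ _))
            have h2 := Groth.Misc12.Cliff.eq_zero_of_mem_mem
              (by simpa using sub_mem (SetLike.mul_mem_graded hy h0) (SetLike.mul_mem_graded h0 hy))
              (by rw [h]; exact sub_mem (by simpa using SetLike.mul_mem_graded h1 hy) (by simpa using SetLike.mul_mem_graded hy h1))
            rw [h2] at h
            exact ⟨sub_eq_zero.1 h2, (sub_eq_zero.1 h.symm).symm⟩
          obtain ⟨a, ha⟩ := Groth.Misc12.Cliff.center_even_global hQ h0 fun y hy => (hc0 y hy).1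
          have hze : z * e = z0 * e + z1 * e := by rw [hzs, add_mul]
          have he0 : z0 * e ∈ CliffordAlgebra.evenOdd Q 0 := by simpa using SetLike.mul_mem_graded h0 he
          have he1 : z1 * e ∈ CliffordAlgebra.evenOdd Q 1 := by simpa using SetLike.mul_mem_graded h1 he
          have hp0 : p0 (z * e) = a • (⟨e, he⟩ : ↥(CliffordAlgebra.even Q)) := Subtype.ext (by
            change pr 0 (z * e) = a • e
            rw [hze, map_add]
            change (↑(DirectSum.decompose (CliffordAlgebra.evenOdd Q) (z0 * e) 0) : C) + ↑(DirectSum.decompose (CliffordAlgebra.evenOdd Q) (z1 * e) 0) = _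
            rw [DirectSum.decompose_of_mem_same _ he0, DirectSum.decompose_of_mem_ne _ he1 (by decide : (1 : ZMod 2) ≠ 0),
              add_zero, ← ha, Algebra.smul_def])
          have hp1 : pr 1 (z * e) = z1 * e := by
            rw [hze, map_add]
            change (↑(DirectSum.decompose (CliffordAlgebra.evenOdd Q) (z0 * e) 1) : C) + ↑(DirectSum.decompose (CliffordAlgebra.evenOdd Q) (z1 * e) 1) = _
            rw [DirectSum.decompose_of_mem_ne _ he0 (by decide : (0 : ZMod 2) ≠ 1), DirectSum.decompose_of_mem_same _ he1,
              zero_add]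
          have hz1c : ∀ x, x * z1 = z1 * x := by
            intro x
            have h := hzc x
            rw [hzs, mul_add, add_mul, ← ha, Algebra.commutes, add_right_inj] at h
            exact h
          have hd : ∀ r : s, ∃ d : R, algebraMap R C d = y r * z1 := fun r =>
            Groth.Misc12.Cliff.center_even_global hQ
              (by simpa [show (1 : ZMod 2) + 1 = 0 from rfl] using SetLike.mul_mem_graded (hy r r.2).1 h1)
              fun x _ => by rw [← mul_assoc, (hy r r.2).2, mul_assoc, hz1c, ← mul_assoc]
          choose d hd using hd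
          have hterm : ∀ r : s, p0 (y r * pr 1 (z * e)) = d r • (⟨e, he⟩ : ↥(CliffordAlgebra.even Q)) := fun r => Subtype.ext (by
            rw [hp1, hdiag r r.2 _ he1, ← mul_assoc, ← hd r, ← Algebra.smul_def]
            rfl)
          rw [hν, hp0]
          simp only [hterm]
          simp only [TensorProduct.tmul_smul, smul_smul]
          simp only [TensorProduct.smul_tmul']
          rw [← TensorProduct.sum_tmul, ← TensorProduct.add_tmul]
          congr 1
          apply Subtype.ext
          rw [Subalgebra.coe_add, AddSubmonoidClass.coe_finset_sum]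
          change a • (1 : C) + ∑ r ∈ s.attach, (c r * d r) • y r = z
          rw [← Algebra.algebraMap_eq_smul_one, ha]
          refine Eq.trans ?_ hzs.symm
          congr 1
          conv_rhs => rw [← one_mul z1, ← hsum, Finset.sum_mul, ← Finset.sum_attach]
          refine Finset.sum_congr rfl fun r _ => ?_
          rw [smul_mul_assoc, mul_assoc, ← hd r, ← Algebra.commutes, ← Algebra.smul_def, smul_smul]
      exact fun a d h => by rw [← hkey a, h, hkey d]
    · rw [hν, map_add, map_sum, hμ]
      have : ∀ r : s, μ (c r • ((⟨y r, Subalgebra.mem_center_iff.2 (hy r r.2).2⟩ : ↥Z) ⊗ₜ[R] p0 (y r * pr 1 x))) =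
          c r • (y r * y r) * pr 1 x := fun r => by
        rw [map_smul, hμ, hdiag r r.2 (pr 1 x) (SetLike.coe_mem _), smul_mul_assoc, mul_assoc]
      simp only [this]
      rw [← Finset.sum_mul, Finset.sum_attach s (fun r => c r • (y r * y r)), hsum, one_mul]
      change (1 : C) * pr 0 x + pr 1 x = x
      rw [one_mul]
      exact (Groth.Misc12.Cliff.sum_decompose x).symm
  · let π : CliffordAlgebra Q →ₗ[R] M := ExteriorAlgebra.ιInv.comp (Groth.Misc12.Cliff.toExt Q).toLinearMap
    have hπ : ∀ v, π (CliffordAlgebra.ι Q v) = v := fun v => by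
      change ExteriorAlgebra.ιInv (Groth.Misc12.Cliff.toExt Q (CliffordAlgebra.ι Q v)) = v
      rw [Groth.Misc12.Cliff.toExt_ι]
      exact ExteriorAlgebra.ι_leftInverse v
    refine ⟨LinearMap.ker π, ?_⟩
    refine ⟨Submodule.disjoint_def.2 ?_, codisjoint_iff.2 (eq_top_iff.2 fun x _ => ?_)⟩
    · rintro _ ⟨v, rfl⟩ h
      rw [LinearMap.mem_ker, hπ] at h
      rw [h, map_zero]
    · rw [← add_sub_cancel (CliffordAlgebra.ι Q (π x)) x]
      exact Submodule.add_mem_sup ⟨_, rfl⟩ (by rw [LinearMap.mem_ker, map_sub, hπ, sub_self])

end Groth.Agent.S16998
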