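import Groth.Statements.S16999
import Groth.Agent.Misc12.Cliff.Odd.Main

set_option autoImplicit false
universe u v
open QuadGrp

namespace Groth.Agent.S16999

/-- Centre over a local base: over a local ring R, let Q be a quadratic form on a free module M with a
basis indexed by Fin (2m+1) whose half-discriminant in that basis is a unit. Then the centre of the
Clifford algebra C(Q) is generated by the square root of a unit: there is a central unit z, odd for
the ℤ/2-grading, with z² a scalar, such that 1, z are linearly independent and span the centre. (The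
published statement: the centre is a ℤ/2-graded locally free module of rank 2 with degree-0 part the
structure sheaf and degree-1 part an invertible sheaf squaring to it; over a local base this is the
form stated.) -/
theorem result {R : Type u} [CommRing R] [IsLocalRing R]
    {M : Type v} [AddCommGroup M] [Module R M]
    (m : ℕ) (b : Module.Basis (Fin (2 * m + 1)) R M) (Q : QuadraticForm R M)
    (hQ : QuadGrp.IsSemiregular b (LinearEquiv.refl R R) Q) :
    ∃ z : CliffordAlgebra Q, z ∈ Subalgebra.center R (CliffordAlgebra Q) ∧ z ∈ CliffordAlgebra.evenOdd Q 1 ∧ IsUnit z ∧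
      z * z ∈ (algebraMap R (CliffordAlgebra Q)).range ∧ LinearIndependent R ![(1 : CliffordAlgebra Q), z] ∧
      Subalgebra.toSubmodule (Subalgebra.center R (CliffordAlgebra Q)) = Submodule.span R {1, z} := by
  classical
  haveI := Module.Free.of_basis b
  haveI := Module.Finite.of_basis b
  obtain ⟨F⟩ := Groth.Misc12.Cliff.exists_frame hQ
  obtain ⟨ζ, hζ⟩ := F.exists_zeta
  obtain ⟨d, hd, hζζ⟩ := hζ.sq
  have hc : ζ ∈ Subalgebra.center R (CliffordAlgebra Q) := Subalgebra.mem_center_iff.2 fun x => hζ.central x
  refine ⟨ζ, hc, hζ.odd, ?_, ⟨d, hζζ.symm⟩, ?_, ?_⟩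
  · exact ((Commute.refl ζ).isUnit_mul_iff.1 (hζζ.symm ▸ hd.map _)).1
  · rw [LinearIndependent.pair_iff]
    intro s t hst
    have h0 : algebraMap R (CliffordAlgebra Q) s = 0 := by
      refine Groth.Misc12.Cliff.eq_zero_of_mem_mem (SetLike.algebraMap_mem_graded (CliffordAlgebra.evenOdd Q) s) ?_
      rw [show algebraMap R (CliffordAlgebra Q) s = -(t • ζ) from eq_neg_of_add_eq_zero_left (by
        rw [Algebra.algebraMap_eq_smul_one]; exact hst)]
      exact neg_mem (Submodule.smul_mem _ _ hζ.odd)
    have hs : s = 0 := Groth.Misc12.Cliff.algebraMap_injective Q (by rw [h0, map_zero])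
    refine ⟨hs, ?_⟩
    rw [hs, zero_smul, zero_add] at hst
    have h := congrArg (fun e => e * ζ) hst
    rw [smul_mul_assoc, zero_mul, hζζ, Algebra.smul_def, ← map_mul] at h
    exact (hd.mul_left_eq_zero).1 (Groth.Misc12.Cliff.algebraMap_injective Q (by rw [h, map_zero]))
  · refine le_antisymm (fun x hx => ?_) (Submodule.span_le.2 ?_)
    · have hx' : ∀ y : CliffordAlgebra Q, y * x = x * y := fun y => (Subalgebra.mem_center_iff (R := R)).1 hx y
      have hsum := Groth.Misc12.Cliff.sum_decompose x
      set x0 : CliffordAlgebra Q := ↑(DirectSum.decompose (CliffordAlgebra.evenOdd Q) x 0)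
      set x1 : CliffordAlgebra Q := ↑(DirectSum.decompose (CliffordAlgebra.evenOdd Q) x 1)
      have h0 : x0 ∈ CliffordAlgebra.evenOdd Q 0 := SetLike.coe_mem _
      have h1 : x1 ∈ CliffordAlgebra.evenOdd Q 1 := SetLike.coe_mem _
      have hc0 : ∀ y ∈ CliffordAlgebra.evenOdd Q 0, y * x0 = x0 * y ∧ y * x1 = x1 * y := by
        intro y hy
        have h := hx' y
        rw [hsum, mul_add, add_mul] at h
        replace h := sub_eq_sub_iff_add_eq_add.2 (h.trans (add_comm _ _))
        have h2 : y * x0 - x0 * y = 0 := Groth.Misc12.Cliff.eq_zero_of_mem_mem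
          (by simpa using sub_mem (SetLike.mul_mem_graded hy h0) (SetLike.mul_mem_graded h0 hy))
          (by rw [h]; exact sub_mem (by simpa using SetLike.mul_mem_graded h1 hy) (by simpa using SetLike.mul_mem_graded hy h1))
        rw [h2] at h
        exact ⟨sub_eq_zero.1 h2, (sub_eq_zero.1 h.symm).symm⟩
      obtain ⟨r, hr⟩ := F.center_even h0 fun y hy => (hc0 y hy).1
      obtain ⟨t, ht⟩ := hζ.eq_smul_of_central F h1 fun y hy => (hc0 y hy).2
      rw [hsum, ← hr, ht, Algebra.algebraMap_eq_smul_one]
      exact add_mem (Submodule.smul_mem _ _ (Submodule.subset_span (Set.mem_insert _ _)))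
        (Submodule.smul_mem _ _ (Submodule.subset_span (Set.mem_insert_of_mem _ rfl)))
    · rintro x (rfl | rfl)
      · exact Subalgebra.one_mem _
      · exact hc

end Groth.Agent.S16999
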