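import Groth.Statements.S17000
import Groth.Agent.Misc12.Cliff.SOPrime
import Groth.Agent.Misc12.Cliff.Odd.Local

set_option autoImplicit false
open CategoryTheory AlgebraicGeometry
open QuadGrp

namespace Groth.Agent.S17000

/-- For m ≥ 1, a group scheme over Spec ℤ which is the naive special orthogonal group (kernel of the
determinant on the orthogonal group) of the standard split quadratic form in 2m variables is a
reduced scheme and is not flat over ℤ. (The published statement also identifies the complement of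
the Dickson special orthogonal group inside it with the non-identity component of the orthogonal
group in characteristic 2.) -/
theorem result (m : ℕ) (hm : 1 ≤ m)
    (G : Over (Spec (CommRingCat.of ℤ))) [GrpObj G] (D : QuadGrp.SOrth'Rep (QuadGrp.splitForm ℤ (2 * m)) G) :
    AlgebraicGeometry.IsReduced G.left ∧ ¬ AlgebraicGeometry.Flat G.hom := by
  classical
  set Q := QuadGrp.splitForm ℤ (2 * m) with hQdef
  have hQf : ∀ v : Fin (2 * m) → ℤ, Q v = ∑ i : Fin m, v ⟨2 * i, by omega⟩ * v ⟨2 * i + 1, by omega⟩ := by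
    intro v
    simp only [Q, QuadGrp.splitForm, QuadraticMap.add_apply, QuadraticMap.sum_apply]
    rw [dif_neg (by omega), QuadraticMap.zero_apply, add_zero]
    refine Fintype.sum_equiv (finCongr (by omega)) _ _ fun i => ?_
    simp only [QuadraticMap.linMulLin_apply, LinearMap.proj_apply]
    congr 1 <;> congr 1 <;> ext <;> simp <;> omega
  have hpol : ∀ x y : Fin (2 * m) → ℤ, QuadraticMap.polar Q x y =
      ∑ i : Fin m, (x ⟨2 * i, by omega⟩ * y ⟨2 * i + 1, by omega⟩ + y ⟨2 * i, by omega⟩ * x ⟨2 * i + 1, by omega⟩) := fun x y => by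
    rw [QuadraticMap.polar, hQf, hQf, hQf, ← Finset.sum_sub_distrib, ← Finset.sum_sub_distrib]
    exact Finset.sum_congr rfl fun i _ => by simp only [Pi.add_apply]; ring
  let p : Fin m → (Fin (2 * m) → ℤ) := fun i => Pi.single ⟨2 * i, by omega⟩ 1
  let q : Fin m → (Fin (2 * m) → ℤ) := fun i => Pi.single ⟨2 * i + 1, by omega⟩ 1
  have e11 : ∀ i k : Fin m, p i ⟨2 * k, by omega⟩ = if i = k then 1 else 0 :=
    fun i k => by simp only [p, Pi.single_apply, Fin.ext_iff]; split_ifs <;> first | rfl | omega
  have e22 : ∀ i k : Fin m, q i ⟨2 * k + 1, by omega⟩ = if i = k then 1 else 0 :=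
    fun i k => by simp only [q, Pi.single_apply, Fin.ext_iff]; split_ifs <;> first | rfl | omega
  have e12 : ∀ i k : Fin m, p i ⟨2 * k + 1, by omega⟩ = 0 :=
    fun i k => by simp only [p, Pi.single_apply, Fin.ext_iff]; split_ifs <;> first | rfl | omega
  have e21 : ∀ i k : Fin m, q i ⟨2 * k, by omega⟩ = 0 :=
    fun i k => by simp only [q, Pi.single_apply, Fin.ext_iff]; split_ifs <;> first | rfl | omega
  have hqq : ∀ i j, QuadraticMap.polar Q (q i) (q j) = 0 := fun i j => by rw [hpol]; simp [e22, e21]
  have hpp : ∀ i j, QuadraticMap.polar Q (p i) (p j) = 0 := fun i j => by rw [hpol]; simp [e11, e12]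
  have hpq : ∀ i j, QuadraticMap.polar Q (p i) (q j) = if i = j then 1 else 0 := fun i j => by
    rw [hpol]; simp [e11, e22, e12, e21, eq_comm]
  have hQp : ∀ i, Q (p i) = 0 := fun i => by rw [hQf]; simp [e11, e12]
  have hQq : ∀ i, Q (q i) = 0 := fun i => by rw [hQf]; simp [e22, e21]
  let P : Groth.Misc12.Cliff.Planes Q m :=
    { a := fun i => p i + q i
      b := q
      ab := fun i => by rw [QuadraticMap.polar_add_left, hpq, if_pos rfl, hqq, add_zero]
      aa := fun i j h => by
        rw [QuadraticMap.polar_add_left, QuadraticMap.polar_add_right, QuadraticMap.polar_add_right, hpp, hpq, if_neg h, hqq,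
          QuadraticMap.polar_comm, hpq, if_neg (Ne.symm h)]
        simp
      bb := fun i j _ => hqq i j
      ab' := fun i j h => by rw [QuadraticMap.polar_add_left, hpq, if_neg h, hqq, add_zero]
      disc := fun i => by rw [hQq]; simp
      aniso := fun i => by
        rw [QuadraticMap.map_add (⇑Q), hQp, hQq, hpq, if_pos rfl]; simp }
  have hfr : Module.finrank ℤ (Fin (2 * m) → ℤ) = 2 * m := Module.finrank_fin_fun ℤ
  have hQ : QuadGrp.IsRegular Q := P.isRegular hfr
  obtain ⟨z, hz⟩ := P.exists_isZ hfr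
  let C := Groth.Misc12.Cliff.SOPrime.C Q
  obtain ⟨u, hu, huG⟩ := Groth.Misc12.Cliff.SOPrime.exists_iso_coord _ G D (Groth.Misc12.Quad.betaM Q) true
    (fun A _ _ g => Groth.Misc12.Quad.mem_sorth'_iff_ok Q A g)
  haveI hmax : (Ideal.span {(2 : ℤ)}).IsMaximal := PrincipalIdealRing.isMaximal_of_irreducible Int.prime_two.irreducible
  constructor
  · haveI := Ideal.Quotient.field (Ideal.span {(2 : ℤ)})
    haveI : _root_.IsReduced C := Groth.Misc12.Cliff.SOPrime.isReduced_coord inferInstance hQ rfl hz
    exact AlgebraicGeometry.isReduced_of_isOpenImmersion (inv u)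
  · intro hfl
    have hf1 : AlgebraicGeometry.Flat (u ≫ G.hom) := inferInstance
    rw [huG] at hf1
    have h := (HasRingHomProperty.Spec_iff (P := @AlgebraicGeometry.Flat) (φ := CommRingCat.ofHom (algebraMap ℤ C))).1 hf1
    rw [CommRingCat.hom_ofHom, RingHom.flat_algebraMap_iff] at h
    letI := Ideal.Quotient.field (Ideal.span {(2 : ℤ)})
    refine Groth.Misc12.Cliff.SOPrime.not_flat_coord (IsRegular.of_ne_zero two_ne_zero) (ℤ ⧸ Ideal.span {(2 : ℤ)}) ?_ hQ rfl hz
      (P.a ⟨0, hm⟩) (P.aniso _) h
    rw [← map_ofNat (Ideal.Quotient.mk (Ideal.span {(2 : ℤ)})) 2]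
    exact Ideal.Quotient.eq_zero_iff_mem.2 (Ideal.mem_span_singleton_self _)

end Groth.Agent.S17000
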