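import Groth.Statements.S17001
import Groth.Agent.Misc12.Quad.Tangent
import Groth.Agent.Misc12.Cliff.Conn.EvenWords

set_option autoImplicit false
universe u
open CategoryTheory AlgebraicGeometry
open QuadGrp
open scoped TensorProduct

namespace Groth.Agent.S17001

/-- Let Q be a quadratic form on R^{2m}, m ≥ 1, over a commutative ring R, whose polar form is a perfect
pairing, and let G be a group scheme over Spec R which is its special orthogonal group in the sense
of the Dickson condition (its A-valued points are the isometries of Q_A acting trivially on the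
centre of the even Clifford algebra, naturally in A). Then G is smooth over Spec R of relative
dimension m(2m−1), with connected fibres. (The published statement is over an arbitrary base scheme;
the affine free case is stated. Its assertions on the centre are stated separately.) -/
theorem result (R : Type u) [CommRing R] (m : ℕ) (hm : 1 ≤ m)
    (Q : QuadraticForm R (Fin (2 * m) → R)) (hQ : QuadGrp.IsRegular Q)
    (G : Over (Spec (CommRingCat.of R))) [GrpObj G] (D : QuadGrp.SOrthRep Q G) :
    AlgebraicGeometry.SmoothOfRelativeDimension (m * (2 * m - 1)) G.hom ∧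
      ∀ s : ↥(Spec (CommRingCat.of R)), ConnectedSpace ↥(G.hom.fiber s) := by
  classical
  have hn : 2 * m = 2 * m := rfl
  set β := Groth.Misc12.Quad.betaM Q with hβdef
  have hP : IsUnit (β + β.transpose).det := Groth.Misc12.Quad.isUnit_det_polar hQ
  obtain ⟨e, f, hef1, hef, hD⟩ := Groth.Misc12.Cliff.Conn.Even.exists_dickson Q hQ hn
  -- matrices and equivalences
  have hgeq : ∀ (A : Type u) [CommRing A] [Algebra R A] (h : (A ⊗[R] (Fin (2 * m) → R)) ≃ₗ[A] (A ⊗[R] (Fin (2 * m) → R)))
      (hok : Groth.Misc12.Quad.OK β false A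
        (LinearMap.toMatrix (Groth.Misc12.Quad.stdB A) (Groth.Misc12.Quad.stdB A) h.toLinearMap)),
      Groth.Misc12.Cliff.SOPrime.geq hok = h := fun A _ _ h hok => LinearEquiv.toLinearMap_injective (Matrix.toLin_toMatrix _ _ _)
  have hmem : ∀ (A : Type u) [CommRing A] [Algebra R A] (h : (A ⊗[R] (Fin (2 * m) → R)) ≃ₗ[A] (A ⊗[R] (Fin (2 * m) → R))),
      h ∈ QuadGrp.sorth Q A ↔ ∃ φ : Groth.Misc12.Quad.Coord β false →ₐ[R] A,
        (Groth.Misc12.Quad.univMat β false).map φ =
          LinearMap.toMatrix (Groth.Misc12.Quad.stdB A) (Groth.Misc12.Quad.stdB A) h.toLinearMap ∧ IsUnit (φ e) := by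
    intro A _ _ h
    change h ∈ QuadGrp.SO (Groth.Misc12.Cliff.QA Q A) ↔ _
    rcases subsingleton_or_nontrivial A with hA | hA
    · haveI := Module.subsingleton A (A ⊗[R] (Fin (2 * m) → R))
      constructor
      · intro _
        obtain ⟨φ, hφ⟩ := Groth.Misc12.Quad.exists_hom β false (A := A)
          (G := LinearMap.toMatrix (Groth.Misc12.Quad.stdB A) (Groth.Misc12.Quad.stdB A) h.toLinearMap)
          ⟨isUnit_of_subsingleton _, Subsingleton.elim _ _, fun _ => Subsingleton.elim _ _⟩
        exact ⟨φ, hφ, isUnit_of_subsingleton _⟩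
      · intro _
        rw [show h = 1 from LinearEquiv.ext fun x => Subsingleton.elim _ _]
        exact one_mem _
    · haveI : Nontrivial R := (algebraMap R A).domain_nontrivial
      have hfr : Even (Module.finrank A (A ⊗[R] (Fin (2 * m) → R))) := by
        rw [Module.finrank_baseChange, Module.finrank_fin_fun]; exact even_two_mul m
      rw [QuadGrp.SO, if_pos hfr]
      constructor
      · intro hh
        obtain ⟨hO, hd⟩ := id hh
        have hok := (Groth.Misc12.Quad.mem_orth_iff_ok Q A h).1 ((Groth.Misc12.Quad.mem_orth_iff Q A h).2 hO)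
        obtain ⟨φ, hφ⟩ := Groth.Misc12.Quad.exists_hom β false hok
        refine ⟨φ, hφ, ?_⟩
        have hf0 : φ f = 0 := (hD A φ hok hφ).1 (by simpa only [hgeq A h hok] using hd)
        have := congrArg φ hef1
        rw [map_add, hf0, add_zero, map_one] at this
        rw [this]; exact isUnit_one
      · rintro ⟨φ, hφ, hφe⟩
        have hok : Groth.Misc12.Quad.OK β false A _ := (Groth.Misc12.Quad.univMat_ok β false).map _ _ φ
        rw [hφ] at hok
        have hO := (Groth.Misc12.Quad.mem_orth_iff Q A h).1 ((Groth.Misc12.Quad.mem_orth_iff_ok Q A h).2 hok)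
        refine ⟨hO, ?_⟩
        have := (hD A φ hok hφ).2 (hφe.mul_right_eq_zero.1 (by rw [← map_mul, hef, map_zero]))
        simpa only [hgeq A h hok] using this
  obtain ⟨u, hu, huG⟩ := Groth.Misc12.Cliff.Conn.exists_iso_away _ G D β false e hmem
  haveI := hu
  haveI : Algebra.Smooth R (Groth.Misc12.Quad.Coord β false) :=
    ⟨(Groth.Misc12.Quad.formallySmooth_coord_iff β false).2
      (fun A _ _ I hI Gb hGb => Groth.Misc12.Quad.lift_regular hP false (fun hs => absurd hs (by decide)) hI hGb),
      inferInstance⟩
  refine ⟨?_, ?_⟩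
  · haveI := Groth.Misc12.RelDim.away R (Groth.Misc12.Quad.Coord β false) e (m * (2 * m - 1))
      (fun K _ _ _ _ => Groth.Misc12.Quad.Tangent.finrank_false β (m * (2 * m - 1)) (by
        obtain ⟨j, rfl⟩ : ∃ j, m = j + 1 := ⟨m - 1, by omega⟩
        rw [show 2 * (j + 1) - 1 = 2 * j + 1 by omega]
        ring) hP)
    exact (MorphismProperty.cancel_left_of_respectsIso (@SmoothOfRelativeDimension.{u} (m * (2 * m - 1))) u G.hom).1
      (by rw [huG]; infer_instance)
  · refine Groth.Misc12.Conn.connectedSpace_fiber G.hom u huG fun k _ _ _ => ?_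
    let loc := IsScalarTower.toAlgHom R (Groth.Misc12.Quad.Coord β false) (Localization.Away e)
    haveI : Algebra.FiniteType (Groth.Misc12.Quad.Coord β false) (Localization.Away e) :=
      IsLocalization.finiteType_of_monoid_fg (Submonoid.powers e) _
    haveI : Algebra.FiniteType R (Localization.Away e) :=
      Algebra.FiniteType.trans (R := R) (S := Groth.Misc12.Quad.Coord β false) inferInstance inferInstance
    refine Groth.Misc12.Cliff.Conn.connected_of_words Q false k _ loc (fun χ χ' h => AlgHom.coe_ringHom_injective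
      (IsLocalization.ringHom_ext (Submonoid.powers e) (RingHom.ext fun x => DFunLike.congr_fun h x))) ?_ ?_ ?_
    · intro E _ _ _ θ ev χ hχ
      have hne : θ e ≠ 0 := fun h0 => by
        have h := DFunLike.congr_fun hχ e
        rw [AlgHom.comp_apply, h0, map_zero, AlgHom.comp_apply] at h
        exact ((IsLocalization.Away.algebraMap_isUnit (S := Localization.Away e) e).map χ).ne_zero h.symm
      have hf0 : θ f = 0 := (mul_eq_zero.1 (by rw [← map_mul, hef, map_zero] : θ e * θ f = 0)).resolve_left hne
      have he1 : θ e = 1 := by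
        have := congrArg θ hef1
        rwa [map_add, hf0, add_zero, map_one] at this
      have hθu : IsUnit (θ e) := by rw [he1]; exact isUnit_one
      exact ⟨IsLocalization.Away.liftAlgHom e (f := θ) hθu,
        AlgHom.ext fun x => IsLocalization.Away.lift_eq e hθu x⟩
    · obtain ⟨φ, hφ, hφe⟩ := (hmem k 1).1 (one_mem _)
      refine ⟨IsLocalization.Away.liftAlgHom e (f := φ) hφe, ?_⟩
      rw [show (IsLocalization.Away.liftAlgHom e (f := φ) hφe).comp loc = φ from
        AlgHom.ext fun x => IsLocalization.Away.lift_eq e hφe x, hφ]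
      exact LinearMap.toMatrix_one _
    · rintro g ⟨χ, hχ⟩
      have h1 : g ∈ QuadGrp.sorth Q k :=
        (hmem k g).2 ⟨χ.comp loc, hχ, (IsLocalization.Away.algebraMap_isUnit (S := Localization.Away e) e).map χ⟩
      haveI : Nontrivial R := (algebraMap R k).domain_nontrivial
      have hfr : Module.finrank k (k ⊗[R] (Fin (2 * m) → R)) = 2 * m := by
        rw [Module.finrank_baseChange, Module.finrank_fin_fun]
      change g ∈ QuadGrp.SO (Groth.Misc12.Cliff.QA Q k) at h1
      rw [QuadGrp.SO, if_pos (by rw [hfr]; exact even_two_mul m)] at h1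
      exact Groth.Misc12.Cliff.Conn.evenWord_of_isDicksonTrivial (Groth.Misc12.Cliff.isRegular_QA Q k hQ) hm hfr h1

end Groth.Agent.S17001
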