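import Groth.Statements.S17002
import Groth.Agent.Misc12.Quad.Tangent
import Groth.Agent.Misc12.Cliff.Conn.OddWords

set_option autoImplicit false
universe u
open CategoryTheory AlgebraicGeometry
open QuadGrp
open scoped TensorProduct

namespace Groth.Agent.S17002

/-- Let Q be a quadratic form on R^{2m+1} over a commutative ring R whose half-discriminant in the
standard basis is a unit, and let G be a group scheme over Spec R which is its special orthogonal
group (for odd rank: the isometries of determinant one; its A-valued points are those of Q_A,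
naturally in A). Then G is smooth over Spec R of relative dimension m(2m+1), with connected fibres.
(The published statement is over an arbitrary base scheme; the affine free case is stated. Its
assertions on the centre are stated separately.) -/
theorem result (R : Type u) [CommRing R] (m : ℕ)
    (Q : QuadraticForm R (Fin (2 * m + 1) → R))
    (hQ : QuadGrp.IsSemiregular (Pi.basisFun R (Fin (2 * m + 1))) (LinearEquiv.refl R R) Q)
    (G : Over (Spec (CommRingCat.of R))) [GrpObj G] (D : QuadGrp.SOrthRep Q G) :
    AlgebraicGeometry.SmoothOfRelativeDimension (m * (2 * m + 1)) G.hom ∧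
      ∀ s : ↥(Spec (CommRingCat.of R)), ConnectedSpace ↥(G.hom.fiber s) := by
  classical
  have hodd : Odd (2 * m + 1) := ⟨m, rfl⟩
  set β := Groth.Misc12.Quad.betaM Q with hβdef
  have hβ : IsUnit (Groth.Misc12.Quad.hd β) := Groth.Misc12.Quad.isUnit_hd_beta hQ
  obtain ⟨u, hu, huG⟩ := Groth.Misc12.Cliff.SOPrime.exists_iso_coord _ G D β true (fun A _ _ h => by
    change h ∈ QuadGrp.SO (Groth.Misc12.Cliff.QA Q A) ↔ _
    have key := Groth.Misc12.Quad.mem_sorth'_iff_ok Q A h
    rcases subsingleton_or_nontrivial A with hA | hA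
    · haveI := Module.subsingleton A (A ⊗[R] (Fin (2 * m + 1) → R))
      constructor
      · intro _
        exact ⟨isUnit_of_subsingleton _, Subsingleton.elim _ _, fun _ => Subsingleton.elim _ _⟩
      · intro _
        rw [show h = 1 from LinearEquiv.ext fun x => Subsingleton.elim _ _]
        exact one_mem _
    · haveI : Nontrivial R := (algebraMap R A).domain_nontrivial
      have hfr : ¬ Even (Module.finrank A (A ⊗[R] (Fin (2 * m + 1) → R))) := by
        rw [Module.finrank_baseChange, Module.finrank_fin_fun]; exact Nat.not_even_iff_odd.2 hodd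
      rw [QuadGrp.SO, if_neg hfr, ← key]
      exact and_congr (Groth.Misc12.Quad.mem_orth_iff Q A h).symm Iff.rfl)
  haveI := hu
  haveI : Algebra.Smooth R (Groth.Misc12.Quad.Coord β true) :=
    ⟨(Groth.Misc12.Quad.formallySmooth_coord_iff β true).2
      (fun A _ _ I hI Gb hGb => Groth.Misc12.Quad.lift_semiregular hodd hβ hI hGb), inferInstance⟩
  refine ⟨?_, ?_⟩
  · haveI := Groth.Misc12.RelDim.smoothOfRelativeDimension R (Groth.Misc12.Quad.Coord β true) (m * (2 * m + 1))
      (fun K _ _ _ _ => Groth.Misc12.Quad.Tangent.finrank_true β hodd (m * (2 * m + 1)) (by ring) hβ)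
    have h := (MorphismProperty.cancel_left_of_respectsIso (@SmoothOfRelativeDimension.{u} (m * (2 * m + 1))) u G.hom)
    exact h.1 (by rw [huG]; infer_instance)
  · refine Groth.Misc12.Conn.connectedSpace_fiber G.hom u huG fun k _ _ _ => ?_
    set Qk := Groth.Misc12.Cliff.QA Q k
    haveI : Algebra.FiniteType R (Groth.Misc12.Quad.Coord β true) := inferInstance
    refine Groth.Misc12.Cliff.Conn.connected_of_words Q true k _ (AlgHom.id R _) (fun χ χ' h => by simpa using h)
      (fun D _ _ _ θ _ _ _ => ⟨θ, AlgHom.comp_id θ⟩) ?_ ?_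
    · obtain ⟨χ, hχ⟩ := Groth.Misc12.Quad.exists_hom β true
        (show Groth.Misc12.Quad.OK β true k (1 : Matrix (Fin (2 * m + 1)) (Fin (2 * m + 1)) k) from
          ⟨by simp, by simp, fun _ => Matrix.det_one⟩)
      exact ⟨χ, by simpa using hχ⟩
    · rintro g ⟨χ, hχ⟩
      have hok : Groth.Misc12.Quad.OK β true k _ := (Groth.Misc12.Quad.univMat_ok β true).map _ _ (χ.comp (AlgHom.id R _))
      rw [hχ] at hok
      obtain ⟨h1, h2⟩ := (Groth.Misc12.Quad.mem_sorth'_iff_ok Q k g).2 hok
      have hgO : g ∈ QuadGrp.O Qk := (Groth.Misc12.Quad.mem_orth_iff Q k g).1 h1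
      have hdet : LinearMap.det g.toLinearMap = 1 := by
        rw [← LinearMap.det_toMatrix (Groth.Misc12.Quad.stdB (R := R) k)]; exact hok.2.2 rfl
      exact Groth.Misc12.Cliff.Conn.evenWord_of_det_eq_one hQ k hgO hdet

end Groth.Agent.S17002
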