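import Groth.Statements.S17005
import Groth.Agent.Misc12.Quad.Center

set_option autoImplicit false
universe u
open scoped TensorProduct
open QuadGrp

namespace Groth.Agent.S17005

/-- Let Q be a non-degenerate quadratic form on R^n, n ≥ 3, over a commutative ring R (perfect polar
pairing for even n, unit half-discriminant in the standard basis for odd n). An isometry g of Q of
determinant one commutes, after base change to every R-algebra A, with every determinant-one
isometry of Q_A if and only if g is multiplication by a scalar whose square is one; for odd n such a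
scalar is 1 because the determinant of g is its n-th power. (Points-level form of: the functorial
centre of the naive special orthogonal group is the central μ₂ for even rank and trivial for odd
rank.) -/
theorem result (R : Type u) [CommRing R] (n : ℕ) (hn : 3 ≤ n)
    (Q : QuadraticForm R (Fin n → R))
    (hQ : QuadGrp.IsNondeg (Pi.basisFun R (Fin n)) (LinearEquiv.refl R R) Q)
    (g : (Fin n → R) ≃ₗ[R] (Fin n → R)) (hg : g ∈ QuadGrp.SO' Q) :
    (∀ (A : Type u) [CommRing A] [Algebra R A], ∀ h ∈ QuadGrp.sorth' Q A,
        g.baseChange R A (Fin n → R) (Fin n → R) * h = h * g.baseChange R A (Fin n → R) (Fin n → R)) ↔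
      ∃ c : R, c * c = 1 ∧ ∀ v, g v = c • v := by
  constructor
  · intro h
    rcases Nat.even_or_odd n with he | ho
    · refine Groth.Misc12.Quad.scalar_of_commutes_rot hn (hQ.1 he) hg.1 fun a b v => ?_
      have hε : (DualNumber.eps : DualNumber R) * DualNumber.eps = 0 := DualNumber.eps_mul_eps
      refine Groth.Misc12.Quad.commutes_rot_of_commutes a b hε (h (DualNumber R) _ ⟨?_, ?_⟩) v
      · exact (Groth.Misc12.Quad.mem_orth_iff Q _ _).2 (Groth.Misc12.Quad.infRot_mem_O _ hε _ _)
      · exact MonoidHom.mem_ker.2 (Groth.Misc12.Quad.det_infRot _ hε _ _)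
    · refine Groth.Misc12.Quad.scalar_of_commutes_refl (by omega) hQ hg.1 fun v => ?_
      let A := Groth.Misc12.Quad.GenRing Q
      let s := Groth.Misc12.Quad.genRefl Q
      let s' : (A ⊗[R] (Fin n → R)) ≃ₗ[A] (A ⊗[R] (Fin n → R)) := s.trans (LinearEquiv.neg A)
      have hmem : s' ∈ QuadGrp.sorth' Q A := by
        refine ⟨(Groth.Misc12.Quad.mem_orth_iff Q _ _).2 fun w => ?_, MonoidHom.mem_ker.2 ?_⟩
        · change QuadGrp.baseChangeForm A Q (-(s w)) = _
          rw [QuadraticMap.map_neg]
          exact Groth.Misc12.Quad.genRefl_mem Q w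
        · ext
          rw [LinearEquiv.coe_det, Units.val_one]
          have e : s'.toLinearMap = (-1 : A) • s.toLinearMap := by
            ext w
            simp [s']
          change LinearMap.det s'.toLinearMap = 1
          rw [e, ← LinearMap.det_toMatrix (Groth.Misc12.Quad.stdB (R := R) A (n := n)), map_smul,
            Matrix.det_smul, LinearMap.det_toMatrix, Groth.Misc12.Quad.det_genRefl, Fintype.card_fin,
            ho.neg_one_pow, neg_mul_neg, one_mul]
      have h1 := LinearEquiv.congr_fun (h A s' hmem) v
      change g.baseChange R A (Fin n → R) (Fin n → R) (-(s v)) = -(s (g.baseChange R A (Fin n → R) (Fin n → R) v)) at h1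
      rwa [map_neg, neg_inj] at h1
  · rintro ⟨c, -, hc⟩ A _ _ h _
    exact Groth.Misc12.Quad.scalar_commutes A g hc h

end Groth.Agent.S17005
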