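import Groth.Statements.S17006
import Groth.Agent.Misc12.Quad.Center

set_option autoImplicit false
universe u
open scoped TensorProduct
open QuadGrp

namespace Groth.Agent.S17006

/-- Let Q be a quadratic form on R^{2m}, m ≥ 2, over a commutative ring R, whose polar form is a perfect
pairing. An isometry g of Q satisfying the Dickson condition commutes, after base change to every
R-algebra A, with every isometry of Q_A satisfying the Dickson condition if and only if g is
multiplication by a scalar whose square is one. (Points-level form of: for even rank at least 4 the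
functorial centre of the special orthogonal group is the central μ₂ and coincides with that of the
naive one.) -/
theorem result (R : Type u) [CommRing R] (m : ℕ) (hm : 2 ≤ m)
    (Q : QuadraticForm R (Fin (2 * m) → R)) (hQ : QuadGrp.IsRegular Q)
    (g : (Fin (2 * m) → R) ≃ₗ[R] (Fin (2 * m) → R)) (hg : g ∈ QuadGrp.SO Q) :
    (∀ (A : Type u) [CommRing A] [Algebra R A], ∀ h ∈ QuadGrp.sorth Q A,
        g.baseChange R A (Fin (2 * m) → R) (Fin (2 * m) → R) * h = h * g.baseChange R A (Fin (2 * m) → R) (Fin (2 * m) → R)) ↔
      ∃ c : R, c * c = 1 ∧ ∀ v, g v = c • v := by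
  constructor
  · intro h
    rcases subsingleton_or_nontrivial R with hR | hR
    · exact ⟨1, one_mul 1, fun v => funext fun i => Subsingleton.elim _ _⟩
    have hfin : Even (Module.finrank R (Fin (2 * m) → R)) := by rw [Module.finrank_fin_fun]; exact even_two_mul m
    have hgO : g ∈ QuadGrp.O Q := by
      rw [QuadGrp.SO, if_pos hfin] at hg
      exact hg.1
    refine Groth.Misc12.Quad.scalar_of_commutes_rot (by omega) hQ hgO fun a b v => ?_
    have hε : (DualNumber.eps : DualNumber R) * DualNumber.eps = 0 := DualNumber.eps_mul_eps
    refine Groth.Misc12.Quad.commutes_rot_of_commutes a b hε (h (DualNumber R) _ ?_) v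
    rw [QuadGrp.sorth, QuadGrp.SO, if_pos (by
      rw [Module.finrank_eq_card_basis (Groth.Misc12.Quad.stdB (R := R) (DualNumber R) (n := 2 * m)), Fintype.card_fin]
      exact even_two_mul m)]
    exact ⟨Groth.Misc12.Quad.infRot_mem_O _ hε _ _, Groth.Misc12.Quad.infRot_dickson _ hε _ _⟩
  · rintro ⟨c, -, hc⟩ A _ _ h _
    exact Groth.Misc12.Quad.scalar_commutes A g hc h

end Groth.Agent.S17006
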