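import Groth.Statements.S17007
import Groth.Agent.Misc12.Cliff.Dickson

set_option autoImplicit false
universe u v
open QuadGrp

namespace Groth.Agent.S17007

/-- Over a local ring, for a quadratic form Q on a finite free module of even rank 2m ≥ 2 whose polar
form is a perfect pairing, the isometries satisfying the Dickson condition form a subgroup of index
2 in the group of all isometries. (Points-level form, over a local base, of: the Dickson invariant
from the orthogonal group onto the constant group ℤ/2 is surjective with kernel the special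
orthogonal group.) -/
theorem result {R : Type u} [CommRing R] [IsLocalRing R]
    {M : Type v} [AddCommGroup M] [Module R M] [Module.Free R M] [Module.Finite R M]
    (m : ℕ) (hm : 1 ≤ m) (hM : Module.finrank R M = 2 * m) (Q : QuadraticForm R M) (hQ : QuadGrp.IsRegular Q) :
    ((QuadGrp.SOeven Q).subgroupOf (QuadGrp.O Q)).index = 2 := by
  obtain ⟨P⟩ := Groth.Misc12.Cliff.exists_planes hQ hM
  obtain ⟨z, hz⟩ := P.exists_isZ hM
  haveI : Nontrivial R := inferInstance
  let i : Fin m := ⟨0, hm⟩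
  let a : M ≃ₗ[R] M := Groth.Misc12.Cliff.refl Q (P.a i) (P.aniso i)
  have haO : a ∈ QuadGrp.O Q := Groth.Misc12.Cliff.refl_mem_O _ _
  have haz : Groth.Misc12.Cliff.cmap haO z = 1 - z := by
    rcases Groth.Misc12.Cliff.versor_of_mem_reflGroup (Groth.Misc12.Cliff.refl_mem (P.a i) (P.aniso i)) with
      ⟨u, ⟨h0, hc, hd⟩ | ⟨h1, hc, hd⟩⟩
    · exfalso
      -- an even unit cannot induce a reflection
      let w : (CliffordAlgebra Q)ˣ := ((CliffordAlgebra.ι_sq_scalar Q (P.a i)).symm ▸ (P.aniso i).map (algebraMap R (CliffordAlgebra Q)) :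
        IsUnit (CliffordAlgebra.ι Q (P.a i) * CliffordAlgebra.ι Q (P.a i))) |> fun h => ((Commute.refl _).isUnit_mul_iff.1 h).1.unit
      have hw : ∀ v, (w : CliffordAlgebra Q) * CliffordAlgebra.ι Q v = -(CliffordAlgebra.ι Q (a v) * w) := fun v => by
        change CliffordAlgebra.ι Q (P.a i) * _ = -(_ * CliffordAlgebra.ι Q (P.a i))
        rw [Groth.Misc12.Cliff.refl_apply, map_sub, map_smul, sub_mul, smul_mul_assoc, CliffordAlgebra.ι_sq_scalar, Algebra.smul_def,
          ← map_mul (algebraMap R (CliffordAlgebra Q)), mul_right_comm, IsUnit.val_inv_mul, one_mul,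
          ← CliffordAlgebra.ι_mul_ι_add_swap]
        abel
      exact Groth.Misc12.Cliff.not_isDicksonTrivial_of_odd haO hz w (CliffordAlgebra.ι_mem_evenOdd_one Q _) hw
        (Groth.Misc12.Cliff.isDicksonTrivial_of_even haO u h0 hc)
    · exact Groth.Misc12.Cliff.cmap_z_of_odd haO hz u h1 hc
  have hmem : ∀ b : ↥(QuadGrp.O Q), b ∈ (QuadGrp.SOeven Q).subgroupOf (QuadGrp.O Q) ↔ QuadGrp.IsDicksonTrivial Q b.1 b.2 := by
    intro b
    rw [Subgroup.mem_subgroupOf]
    exact ⟨fun ⟨_, h⟩ => h, fun h => ⟨b.2, h⟩⟩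
  rw [Subgroup.index_eq_two_iff]
  refine ⟨⟨a, haO⟩, fun b => ?_⟩
  rw [hmem, hmem]
  have hcomp : ∀ x, Groth.Misc12.Cliff.cmap (mul_mem b.2 haO) x =
      Groth.Misc12.Cliff.cmap b.2 (Groth.Misc12.Cliff.cmap haO x) := Groth.Misc12.Cliff.cmap_comp b.2 haO
  rcases Groth.Misc12.Cliff.local_dichotomy b.2 hQ hM hz with ⟨ht, -⟩ | ⟨hn, -, hbz, -⟩
  · refine Or.inr ⟨ht, fun h => hz.ne_one_sub ?_⟩
    have h2 := h ⟨z, hz.even⟩ hz.mem_center
    change Groth.Misc12.Cliff.cmap (mul_mem b.2 haO) z = z at h2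
    rw [hcomp, haz, map_sub, map_one] at h2
    rwa [show Groth.Misc12.Cliff.cmap b.2 z = z from ht ⟨z, hz.even⟩ hz.mem_center] at h2
  · refine Or.inl ⟨?_, hn⟩
    rcases Groth.Misc12.Cliff.local_dichotomy (mul_mem b.2 haO) hQ hM hz with ⟨ht, -⟩ | ⟨-, -, hc, -⟩
    · exact ht
    · exfalso
      rw [hcomp, haz, map_sub, map_one, hbz, sub_sub_cancel] at hc
      exact hz.ne_one_sub hc.symm

end Groth.Agent.S17007
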