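import Groth.Statements.S17008
import Groth.Agent.Misc12.Cliff.Dickson

set_option autoImplicit false
universe u v
open QuadGrp

namespace Groth.Agent.S17008

/-- Over a local ring, let Q be a quadratic form on a finite free module M of even rank 2m ≥ 2 whose
polar form is a perfect pairing. Then every isometry of Q satisfying the Dickson condition is
conjugation by a point of the even Clifford group: an even, locally homogeneous unit u of C(Q)
normalising M with u v u⁻¹ = g v for all v in M. (Points-level form over a local base of: the even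
Clifford group is a central extension of the special orthogonal group by the multiplicative group.) -/
theorem result {R : Type u} [CommRing R] [IsLocalRing R]
    {M : Type v} [AddCommGroup M] [Module R M] [Module.Free R M] [Module.Finite R M]
    (m : ℕ) (hm : 1 ≤ m) (hM : Module.finrank R M = 2 * m) (Q : QuadraticForm R M) (hQ : QuadGrp.IsRegular Q)
    (g : M ≃ₗ[R] M) (hg : g ∈ QuadGrp.SOeven Q) :
    ∃ u ∈ QuadGrp.GSpin Q, ∀ v : M,
      (u : CliffordAlgebra Q) * CliffordAlgebra.ι Q v * ↑u⁻¹ = CliffordAlgebra.ι Q (g v) := by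
  obtain ⟨hg0, hd⟩ := hg
  obtain ⟨P⟩ := Groth.Misc12.Cliff.exists_planes hQ hM
  obtain ⟨z, hz⟩ := P.exists_isZ hM
  rcases Groth.Misc12.Cliff.local_dichotomy hg0 hQ hM hz with ⟨-, -, u, hu, hc⟩ | ⟨hn, -⟩
  · have h' : ∀ v : M, (u : CliffordAlgebra Q) * CliffordAlgebra.ι Q v * ↑u⁻¹ = CliffordAlgebra.ι Q (g v) := fun v => by
      rw [hc, Units.mul_inv_cancel_right]
    refine ⟨u, ⟨⟨Groth.Misc12.Cliff.mem_GPin'_of_conj u h', 1, IsIdempotentElem.one, ?_, ?_⟩, hu⟩, h'⟩
    · rw [one_smul]; exact hu
    · rw [sub_self, zero_smul]; exact zero_mem _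
  · exact absurd hd hn

end Groth.Agent.S17008
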