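import Groth.Statements.S17016
-- (no helpers)

set_option autoImplicit false
universe u
open QuadGrp

namespace Groth.Agent.S17016

/-- For the standard split quadratic form Σ x_{2i} x_{2i+1} on R^{2m} over any commutative ring R, with
standard basis vectors e_j in the Clifford algebra, the product w of the elements 1 − 2 e_{2i}
e_{2i+1} (i < m, which pairwise commute) satisfies w² = 1 and anticommutes with every e_j. (Hence w
is central in the even Clifford algebra; over rings in which 2 is invertible (1 − w)/2 is the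
non-trivial central idempotent of the even part.) -/
theorem result (R : Type u) [CommRing R] (m : ℕ) :
    let Q := QuadGrp.splitForm R (m * 2)
    let e : Fin (m * 2) → CliffordAlgebra Q := fun j => CliffordAlgebra.ι Q (Pi.single j 1)
    let w : CliffordAlgebra Q :=
      ((List.finRange m).map fun i => 1 - 2 * (e (finProdFinEquiv (i, 0)) * e (finProdFinEquiv (i, 1)))).prod
    w * w = 1 ∧ ∀ j : Fin (m * 2), e j * w = -(w * e j) := by
  intro Q e w
  have hQ : ∀ v : Fin (m * 2) → R, Q v = ∑ i : Fin m, v (finProdFinEquiv (i, 0)) * v (finProdFinEquiv (i, 1)) := by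
    intro v
    simp only [Q, QuadGrp.splitForm, QuadraticMap.add_apply, QuadraticMap.sum_apply]
    rw [dif_neg (by omega), QuadraticMap.zero_apply, add_zero]
    refine Fintype.sum_equiv (finCongr (by omega)) _ _ fun i => ?_
    simp only [QuadraticMap.linMulLin_apply, LinearMap.proj_apply]
    congr 1 <;> congr 1 <;> ext <;> simp [finProdFinEquiv] <;> omega
  have hpol : ∀ j l : Fin (m * 2), QuadraticMap.polar Q (Pi.single j 1) (Pi.single l 1) =
      ∑ i : Fin m, ((Pi.single j 1 : Fin (m*2) → R) (finProdFinEquiv (i, 0)) * (Pi.single l 1 : Fin (m*2) → R) (finProdFinEquiv (i, 1)) +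
        (Pi.single l 1 : Fin (m*2) → R) (finProdFinEquiv (i, 0)) * (Pi.single j 1 : Fin (m*2) → R) (finProdFinEquiv (i, 1))) := by
    intro j l
    rw [QuadraticMap.polar, hQ, hQ, hQ, ← Finset.sum_sub_distrib, ← Finset.sum_sub_distrib]
    exact Finset.sum_congr rfl fun i _ => by simp only [Pi.add_apply]; ring
  have hsq : ∀ j, e j * e j = 0 := by
    intro j
    simp only [e]
    rw [CliffordAlgebra.ι_sq_scalar, hQ, Finset.sum_eq_zero, map_zero]
    intro i _
    by_cases h : finProdFinEquiv (i, (0 : Fin 2)) = j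
    · have h1 : finProdFinEquiv (i, (1 : Fin 2)) ≠ j := by rw [← h]; simp
      rw [Pi.single_eq_of_ne h1, mul_zero]
    · rw [Pi.single_eq_of_ne h, zero_mul]
  have hpair : ∀ i, e (finProdFinEquiv (i, 1)) * e (finProdFinEquiv (i, 0)) = 1 - e (finProdFinEquiv (i, 0)) * e (finProdFinEquiv (i, 1)) := by
    intro i
    rw [eq_sub_iff_add_eq]
    simp only [e]
    rw [CliffordAlgebra.ι_mul_ι_add_swap, hpol, Finset.sum_eq_single i, ← map_one (algebraMap R (CliffordAlgebra Q))]
    · congr 1; simp
    · intro b _ hb; simp [hb]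
    · simp
  have hanti : ∀ (i i' : Fin m) (a b : Fin 2), i ≠ i' →
      e (finProdFinEquiv (i, a)) * e (finProdFinEquiv (i', b)) = -(e (finProdFinEquiv (i', b)) * e (finProdFinEquiv (i, a))) := by
    intro i i' a b h
    rw [eq_neg_iff_add_eq_zero]
    simp only [e]
    rw [CliffordAlgebra.ι_mul_ι_add_swap, hpol, Finset.sum_eq_zero, map_zero]
    intro c _
    simp only [Pi.single_apply, EmbeddingLike.apply_eq_iff_eq, Prod.ext_iff]
    by_cases hc : c = i
    · subst hc; simp [h]
    · simp [hc]
  let f : Fin m → CliffordAlgebra Q := fun i => 1 - 2 * (e (finProdFinEquiv (i, 0)) * e (finProdFinEquiv (i, 1)))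
  have hf2 : ∀ i, f i * f i = 1 := by
    intro i
    have : e (finProdFinEquiv (i, 0)) * e (finProdFinEquiv (i, 1)) * (e (finProdFinEquiv (i, 0)) * e (finProdFinEquiv (i, 1))) =
        e (finProdFinEquiv (i, 0)) * e (finProdFinEquiv (i, 1)) := by
      rw [mul_assoc, ← mul_assoc (e (finProdFinEquiv (i, 1))), hpair, sub_mul, one_mul, mul_assoc, hsq, mul_zero, sub_zero]
    simp only [f, two_mul, sub_mul, mul_sub, one_mul, mul_one, add_mul, mul_add, this]
    abel
  have hcomm : ∀ i i' : Fin m, i ≠ i' → ∀ a, e (finProdFinEquiv (i', a)) * f i = f i * e (finProdFinEquiv (i', a)) := by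
    intro i i' h a
    have h2 : e (finProdFinEquiv (i', a)) * (e (finProdFinEquiv (i, 0)) * e (finProdFinEquiv (i, 1))) =
        e (finProdFinEquiv (i, 0)) * e (finProdFinEquiv (i, 1)) * e (finProdFinEquiv (i', a)) := by
      rw [← mul_assoc, hanti i' i a 0 (Ne.symm h), neg_mul, mul_assoc, hanti i' i a 1 (Ne.symm h), mul_neg, neg_neg, mul_assoc]
    simp only [f, two_mul, mul_sub, sub_mul, mul_add, add_mul, one_mul, mul_one, h2]
  have hant : ∀ (i : Fin m) (a : Fin 2), e (finProdFinEquiv (i, a)) * f i = -(f i * e (finProdFinEquiv (i, a))) := by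
    intro i a
    fin_cases a
    · simp only [f, two_mul, mul_sub, sub_mul, mul_add, add_mul, one_mul, mul_one, Fin.zero_eta]
      rw [← mul_assoc, hsq, zero_mul, mul_assoc, hpair, mul_sub, mul_one, ← mul_assoc, hsq, zero_mul]
      abel
    · simp only [f, two_mul, mul_sub, sub_mul, mul_add, add_mul, one_mul, mul_one, Fin.mk_one]
      rw [← mul_assoc, hpair, sub_mul, one_mul, mul_assoc, hsq, mul_zero]
      abel
  have hfc : ∀ i i', Commute (f i) (f i') := by
    intro i i'
    by_cases h : i = i'
    · rw [h]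
    · exact ((Commute.one_right (f i)).sub_right ((((2 : ℕ).cast_commute (f i)).symm).mul_right
        (Commute.mul_right (hcomm i i' h 0).symm (hcomm i i' h 1).symm)))
  have h1 : ∀ l : List (Fin m), (l.map f).prod * (l.map f).prod = 1 := by
    intro l
    induction l with
    | nil => simp
    | cons a l ih =>
      have hc : Commute (f a) (l.map f).prod := Commute.list_prod_right _ _ fun x hx => by
        obtain ⟨b, -, rfl⟩ := List.mem_map.1 hx
        exact hfc a b
      rw [List.map_cons, List.prod_cons, mul_assoc, ← mul_assoc (l.map f).prod, ← hc.eq, mul_assoc (f a) (l.map f).prod, ih, mul_one, hf2]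
  have h2 : ∀ (i : Fin m) (a : Fin 2) (l : List (Fin m)), l.Nodup →
      (i ∈ l → e (finProdFinEquiv (i, a)) * (l.map f).prod = -((l.map f).prod * e (finProdFinEquiv (i, a)))) ∧
      (i ∉ l → e (finProdFinEquiv (i, a)) * (l.map f).prod = (l.map f).prod * e (finProdFinEquiv (i, a))) := by
    intro i a l hl
    induction l with
    | nil => simp
    | cons b l ih =>
      obtain ⟨hb, hl'⟩ := List.nodup_cons.1 hl
      obtain ⟨ih1, ih2⟩ := ih hl'
      simp only [List.map_cons, List.prod_cons]
      refine ⟨fun hi => ?_, fun hi => ?_⟩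
      · rcases List.mem_cons.1 hi with rfl | hi'
        · rw [← mul_assoc, hant, neg_mul, mul_assoc, ih2 hb, mul_assoc]
        · have hne : b ≠ i := fun h => hb (h ▸ hi')
          rw [← mul_assoc, hcomm b i hne, mul_assoc, ih1 hi', mul_neg, mul_assoc]
      · rw [List.mem_cons, not_or] at hi
        rw [← mul_assoc, hcomm b i (Ne.symm hi.1), mul_assoc, ih2 hi.2, mul_assoc]
  refine ⟨h1 _, fun j => ?_⟩
  obtain ⟨⟨i, a⟩, rfl⟩ := finProdFinEquiv.surjective j
  exact (h2 i a _ (List.nodup_finRange m)).1 (List.mem_finRange i)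

end Groth.Agent.S17016
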