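import Groth.Statements.S17017
-- (no helpers)

set_option autoImplicit false
universe u
open QuadGrp

namespace Groth.Agent.S17017

/-- Over a field k, for the standard split quadratic form x₀² + x₁x₂ on k³, every even unit of the
Clifford algebra normalises the subspace k³, i.e. lies in the naive Clifford group; so the even
Clifford group is the whole unit group of the even Clifford algebra. (The published claim is made
over fields of characteristic different from 2; here it is stated for every field.) -/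
theorem result (k : Type u) [Field k] :
    QuadGrp.evenUnits (QuadGrp.splitForm k 3) ≤ QuadGrp.GPin' (QuadGrp.splitForm k 3) := by
  let Q := QuadGrp.splitForm k 3
  have hQ : ∀ v : Fin 3 → k, Q v = v 0 * v 0 + v 1 * v 2 := by
    intro v
    simp [Q, QuadGrp.splitForm, add_comm]
  let e0 := CliffordAlgebra.ι Q ![1,0,0]
  let e1 := CliffordAlgebra.ι Q ![0,1,0]
  let e2 := CliffordAlgebra.ι Q ![0,0,1]
  have hι : ∀ v : Fin 3 → k, CliffordAlgebra.ι Q v = v 0 • e0 + v 1 • e1 + v 2 • e2 := by
    intro v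
    simp only [e0, e1, e2, ← map_smul, ← map_add]
    congr 1
    ext i; fin_cases i <;> simp
  have hsw : ∀ v w, CliffordAlgebra.ι Q w * CliffordAlgebra.ι Q v =
      algebraMap k _ (Q (v + w) - Q v - Q w) - CliffordAlgebra.ι Q v * CliffordAlgebra.ι Q w := fun v w => by
    rw [eq_sub_iff_add_eq', CliffordAlgebra.ι_mul_ι_add_swap]; rfl
  have h00 : e0 * e0 = 1 := by simp [e0, CliffordAlgebra.ι_sq_scalar, hQ]
  have h11 : e1 * e1 = 0 := by simp [e1, CliffordAlgebra.ι_sq_scalar, hQ]
  have h22 : e2 * e2 = 0 := by simp [e2, CliffordAlgebra.ι_sq_scalar, hQ]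
  have h10 : e1 * e0 = -(e0 * e1) := by simp only [e0, e1]; rw [hsw]; simp [hQ]
  have h20 : e2 * e0 = -(e0 * e2) := by simp only [e0, e2]; rw [hsw]; simp [hQ]
  have h21 : e2 * e1 = 1 - e1 * e2 := by simp only [e1, e2]; rw [hsw]; simp [hQ]
  have t00 : ∀ x, e0 * (e0 * x) = x := fun x => by rw [← mul_assoc, h00, one_mul]
  have t11 : ∀ x, e1 * (e1 * x) = 0 := fun x => by rw [← mul_assoc, h11, zero_mul]
  have t22 : ∀ x, e2 * (e2 * x) = 0 := fun x => by rw [← mul_assoc, h22, zero_mul]
  have t10 : ∀ x, e1 * (e0 * x) = -(e0 * (e1 * x)) := fun x => by rw [← mul_assoc, h10, neg_mul, mul_assoc]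
  have t20 : ∀ x, e2 * (e0 * x) = -(e0 * (e2 * x)) := fun x => by rw [← mul_assoc, h20, neg_mul, mul_assoc]
  have t21 : ∀ x, e2 * (e1 * x) = x - e1 * (e2 * x) := fun x => by rw [← mul_assoc, h21, sub_mul, one_mul, mul_assoc]
  let ev : k → k → k → k → CliffordAlgebra Q := fun a b c d => a • 1 + b • (e0 * e1) + c • (e0 * e2) + d • (e1 * e2)
  let od : k → k → k → k → CliffordAlgebra Q := fun a b c d => a • e0 + b • e1 + c • e2 + d • (e0 * (e1 * e2))
  have hev : ∀ v a b c d, CliffordAlgebra.ι Q v * ev a b c d =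
      od (v 0 * a - v 2 * b) (v 1 * a + v 0 * b) (v 2 * a + v 0 * c + v 2 * d) (v 0 * d - v 1 * c + v 2 * b) := by
    intro v a b c d
    rw [hι]
    simp only [ev, od, mul_add, add_mul, smul_mul_assoc, mul_smul_comm, mul_assoc, mul_one, one_mul, mul_neg, neg_mul,
      mul_sub, sub_mul, mul_zero, zero_mul, h00, h11, h22, h10, h20, h21, t00, t11, t22, t10, t20, t21, neg_zero, sub_zero]
    module
  have hod : ∀ v a b c d, CliffordAlgebra.ι Q v * od a b c d =
      ev (v 0 * a + v 2 * b) (v 0 * b - v 1 * a) (v 0 * c - v 2 * a - v 2 * d) (v 0 * d + v 1 * c - v 2 * b) := by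
    intro v a b c d
    rw [hι]
    simp only [ev, od, mul_add, add_mul, smul_mul_assoc, mul_smul_comm, mul_assoc, mul_one, one_mul, mul_neg, neg_mul,
      mul_sub, sub_mul, mul_zero, zero_mul, h00, h11, h22, h10, h20, h21, t00, t11, t22, t10, t20, t21, neg_zero, sub_zero]
    module
  have heven : ∀ x ∈ CliffordAlgebra.evenOdd Q 0, ∃ a b c d, x = ev a b c d := by
    intro x hx
    induction x, hx using CliffordAlgebra.even_induction with
    | algebraMap r => exact ⟨r, 0, 0, 0, by simp [ev, Algebra.algebraMap_eq_smul_one]⟩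
    | add x y _ _ hx hy =>
      obtain ⟨a, b, c, d, rfl⟩ := hx
      obtain ⟨a', b', c', d', rfl⟩ := hy
      exact ⟨a + a', b + b', c + c', d + d', by simp only [ev]; module⟩
    | ι_mul_ι_mul m₁ m₂ x _ hx =>
      obtain ⟨a, b, c, d, rfl⟩ := hx
      rw [mul_assoc, hev, hod]
      exact ⟨_, _, _, _, rfl⟩
  have hodd : ∀ x ∈ CliffordAlgebra.evenOdd Q 1, ∃ a b c d, x = od a b c d := by
    intro x hx
    induction x, hx using CliffordAlgebra.odd_induction with
    | ι v => exact ⟨v 0, v 1, v 2, 0, by rw [hι]; simp only [od, zero_smul, add_zero]⟩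
    | add x y _ _ hx hy =>
      obtain ⟨a, b, c, d, rfl⟩ := hx
      obtain ⟨a', b', c', d', rfl⟩ := hy
      exact ⟨a + a', b + b', c + c', d + d', by simp only [od]; module⟩
    | ι_mul_ι_mul m₁ m₂ x _ hx =>
      obtain ⟨a, b, c, d, rfl⟩ := hx
      rw [mul_assoc, hod, hev]
      exact ⟨_, _, _, _, rfl⟩
  have hnorm : ∀ x ∈ CliffordAlgebra.evenOdd Q 0, ∃ r : k, CliffordAlgebra.reverse x * x = r • 1 := by
    intro x hx
    obtain ⟨a, b, c, d, rfl⟩ := heven x hx
    refine ⟨a * (a + d) + b * c, ?_⟩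
    simp only [ev, map_add, map_smul, CliffordAlgebra.reverse.map_one, CliffordAlgebra.reverse.map_mul,
      show CliffordAlgebra.reverse e0 = e0 from CliffordAlgebra.reverse_ι _,
      show CliffordAlgebra.reverse e1 = e1 from CliffordAlgebra.reverse_ι _,
      show CliffordAlgebra.reverse e2 = e2 from CliffordAlgebra.reverse_ι _]
    simp only [mul_add, add_mul, smul_mul_assoc, mul_smul_comm, mul_assoc, mul_one, one_mul, mul_neg, neg_mul,
      mul_sub, sub_mul, mul_zero, zero_mul, h00, h11, h22, h10, h20, h21, t00, t11, t22, t10, t20, t21, neg_zero, sub_zero]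
    module
  have hfix : ∀ x ∈ CliffordAlgebra.evenOdd Q 1, CliffordAlgebra.reverse x = x → x ∈ LinearMap.range (CliffordAlgebra.ι Q) := by
    intro x hx hr
    obtain ⟨a, b, c, d, rfl⟩ := hodd x hx
    let L : (Fin 3 → k) →ₗ[k] Matrix (Fin 2) (Fin 2) k :=
      { toFun := fun v => !![v 0, v 1; v 2, -(v 0)]
        map_add' := fun v w => by ext i j; fin_cases i <;> fin_cases j <;> simp <;> ring
        map_smul' := fun r v => by ext i j; fin_cases i <;> fin_cases j <;> simp }
    let φ := CliffordAlgebra.lift Q ⟨L, fun v => by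
      rw [hQ]
      ext i j; fin_cases i <;> fin_cases j <;> simp [L, Matrix.mul_apply, Fin.sum_univ_two, Matrix.algebraMap_matrix_apply] <;> ring⟩
    have h := congrArg φ hr
    simp only [od, map_add, map_smul, CliffordAlgebra.reverse.map_mul, map_mul,
      show CliffordAlgebra.reverse e0 = e0 from CliffordAlgebra.reverse_ι _,
      show CliffordAlgebra.reverse e1 = e1 from CliffordAlgebra.reverse_ι _,
      show CliffordAlgebra.reverse e2 = e2 from CliffordAlgebra.reverse_ι _, φ, e0, e1, e2, CliffordAlgebra.lift_ι_apply] at h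
    have h0 : d = 0 := by
      have := congrFun (congrFun h 0) 0
      simpa [L, Matrix.mul_apply, Fin.sum_univ_two] using this.symm
    exact ⟨![a, b, c], by rw [hι]; simp [od, h0]⟩
  have key : ∀ u ∈ QuadGrp.evenUnits Q, ∀ v, (u : CliffordAlgebra Q) * CliffordAlgebra.ι Q v * ↑u⁻¹ ∈ LinearMap.range (CliffordAlgebra.ι Q) := by
    intro u hu v
    have hu' : (↑u⁻¹ : CliffordAlgebra Q) ∈ CliffordAlgebra.evenOdd Q 0 :=
      (QuadGrp.mem_evenUnits Q _).1 (inv_mem hu)
    refine hfix _ ?_ ?_
    · have := SetLike.mul_mem_graded (A := CliffordAlgebra.evenOdd Q)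
        (SetLike.mul_mem_graded ((QuadGrp.mem_evenUnits Q _).1 hu) (CliffordAlgebra.ι_mem_evenOdd_one Q v)) hu'
      simpa using this
    · obtain ⟨r, hr⟩ := hnorm _ ((QuadGrp.mem_evenUnits Q _).1 hu)
      rw [CliffordAlgebra.reverse.map_mul, CliffordAlgebra.reverse.map_mul, CliffordAlgebra.reverse_ι]
      have h1 : CliffordAlgebra.reverse (↑u⁻¹ : CliffordAlgebra Q) * CliffordAlgebra.reverse (u : CliffordAlgebra Q) = 1 := by
        rw [← CliffordAlgebra.reverse.map_mul, Units.mul_inv, CliffordAlgebra.reverse.map_one]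
      have h2 : r • CliffordAlgebra.reverse (↑u⁻¹ : CliffordAlgebra Q) = u := by
        calc r • CliffordAlgebra.reverse (↑u⁻¹ : CliffordAlgebra Q)
            = CliffordAlgebra.reverse (↑u⁻¹ : CliffordAlgebra Q) * (r • 1) := by rw [mul_smul_comm, mul_one]
          _ = u := by rw [← hr, ← mul_assoc, h1, one_mul]
      calc CliffordAlgebra.reverse (↑u⁻¹ : CliffordAlgebra Q) * (CliffordAlgebra.ι Q v * CliffordAlgebra.reverse (u : CliffordAlgebra Q))
          = CliffordAlgebra.reverse (↑u⁻¹ : CliffordAlgebra Q) * (CliffordAlgebra.ι Q v * ((CliffordAlgebra.reverse (u : CliffordAlgebra Q) * u) * ↑u⁻¹)) := by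
            rw [mul_assoc (CliffordAlgebra.reverse (u : CliffordAlgebra Q)), Units.mul_inv, mul_one]
        _ = (u : CliffordAlgebra Q) * CliffordAlgebra.ι Q v * ↑u⁻¹ := by
            rw [hr]
            conv_rhs => rw [← h2]
            simp only [smul_mul_assoc, mul_smul_comm, one_mul, mul_assoc]
  intro u hu
  rw [QuadGrp.mem_GPin']
  refine le_antisymm ?_ ?_
  · rintro x hx
    rw [Submodule.mem_smul_pointwise_iff_exists] at hx
    obtain ⟨_, ⟨v, rfl⟩, rfl⟩ := hx
    rw [ConjAct.units_smul_def, ConjAct.ofConjAct_toConjAct]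
    exact key u hu v
  · rintro _ ⟨v, rfl⟩
    rw [Submodule.mem_smul_pointwise_iff_exists]
    refine ⟨↑u⁻¹ * CliffordAlgebra.ι Q v * ↑u, ?_, ?_⟩
    · simpa using key u⁻¹ (inv_mem hu) v
    · rw [ConjAct.units_smul_def, ConjAct.ofConjAct_toConjAct]
      simp only [← mul_assoc, Units.mul_inv, one_mul]
      rw [mul_assoc, Units.mul_inv, mul_one]

end Groth.Agent.S17017
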