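import Groth.Statements.S17022
import Groth.Agent.Curves1.Hurwitz.Global
import Groth.Agent.Curves1.Hurwitz.FibreSum
import Groth.Agent.Curves1.FrobTwist.Main
import Groth.Agent.Curves1.RR.AlgClosed
import Groth.Agent.Curves1.RR.P1Facts
import Groth.Agent.Duality.SmoothDual
import Groth.Agent.Hensel1.EtaleStalk
import Groth.Agent.S11332
import Mathlib.RingTheory.Unramified.LocalRing

set_option autoImplicit false
set_option backward.isDefEq.respectTransparency.types false
universe u
open CategoryTheory CategoryTheory.Limits AlgebraicGeometry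
open Curves

namespace Groth.Agent.S17022

open IsLocalRing
open scoped Groth.CurveBridge

/-- The ramification index at a closed point is positive, and one where the maximal ideal is generated by
the image of a uniformizer. -/
theorem ramificationIdx_pos {A O : Type u} [CommRing A] [IsDomain A] [IsDiscreteValuationRing A]
    [CommRing O] [IsDomain O] [IsDiscreteValuationRing O] [Algebra A O] [IsLocalHom (algebraMap A O)]
    (hinj : Function.Injective (algebraMap A O)) :
    1 ≤ Ideal.ramificationIdx (maximalIdeal O) A ∧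
      ((maximalIdeal A).map (algebraMap A O) = maximalIdeal O → Ideal.ramificationIdx (maximalIdeal O) A = 1) := by
  obtain ⟨π, hπ⟩ := IsDiscreteValuationRing.exists_irreducible A
  have hne : algebraMap A O π ≠ 0 := fun h => hπ.ne_zero (hinj (h.trans (map_zero _).symm))
  rw [Groth.Curves1.Hurwitz.ramificationIdx_eq_ord hπ hne]
  constructor
  · obtain ⟨ϖ, hϖ⟩ := IsDiscreteValuationRing.exists_irreducible O
    obtain ⟨n, v, hv⟩ := IsDiscreteValuationRing.eq_unit_mul_pow_irreducible hne hϖ
    rw [hv, mul_comm, Ring.ord_mul O (mem_nonZeroDivisors_of_ne_zero v.ne_zero), Ring.ord_of_isUnit v.isUnit,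
      add_zero, Ring.ord_pow (mem_nonZeroDivisors_of_ne_zero hϖ.ne_zero), Ring.ord_of_irreducible hϖ, nsmul_one,
      ENat.toNat_natCast]
    rcases n with - | n
    · rw [pow_zero, mul_one] at hv
      exact absurd ((isUnit_map_iff (algebraMap A O) π).1 (hv ▸ v.isUnit)) hπ.not_isUnit
    · omega
  · intro h
    rw [hπ.maximalIdeal_eq, Ideal.map_span, Set.image_singleton] at h
    rw [Ring.ord_of_irreducible ((IsDiscreteValuationRing.irreducible_iff_uniformizer _).2 h.symm)]
    rfl

/-- Let k be an algebraically closed field of characteristic zero, C a connected scheme which is proper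
and smooth of relative dimension 1 over k, and f : C → P¹_k a surjective morphism over k which is
étale over the complement of two closed points p, q of P¹_k (p = q is allowed). Then C is isomorphic
to P¹_k over k, and f has exactly one point over p and exactly one point over q. (Existence of an
isomorphism only; the published statement moreover identifies f, in suitable coordinates, with (a :
b) ↦ (aⁿ : bⁿ) for some n. The published statement leaves implicit that the ground field is
algebraically closed and that C is a connected smooth proper curve; its argument uses both, and over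
a non-closed field the projective line over a finite extension is a connected cover with no
ramification.) -/
theorem result (k : Type u) [Field k]
    [IsAlgClosed k] [CharZero k] {C : Scheme.{u}} (s : C ⟶ Spec (CommRingCat.of k))
    [IsProper s] [SmoothOfRelativeDimension 1 s] [ConnectedSpace C]
    (f : C ⟶ CohB1.ProjSpace 1 k) (hf : f ≫ CohB1.ProjSpace.toSpec 1 k = s) [Surjective f]
    (p q : ↥(CohB1.ProjSpace 1 k)) (hp : IsClosed ({p} : Set ↥(CohB1.ProjSpace 1 k))) (hq : IsClosed ({q} : Set ↥(CohB1.ProjSpace 1 k)))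
    (W : (CohB1.ProjSpace 1 k).Opens) (hW : (W : Set ↥(CohB1.ProjSpace 1 k)) = {p, q}ᶜ) [Etale (f ∣_ W)] :
    (∃ e : C ≅ CohB1.ProjSpace 1 k, e.hom ≫ CohB1.ProjSpace.toSpec 1 k = s) ∧
      (∀ x y : C, f.base x = p → f.base y = p → x = y) ∧
      (∀ x y : C, f.base x = q → f.base y = q → x = y) := by
  classical
  letI : C.Over (Spec (CommRingCat.of k)) := ⟨s⟩
  let P := CohB1.ProjSpace 1 k
  letI : P.Over (Spec (CommRingCat.of k)) := ⟨CohB1.ProjSpace.toSpec 1 k⟩
  haveI : IsProper (C ↘ Spec (CommRingCat.of k)) := ‹IsProper s›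
  haveI : Smooth (C ↘ Spec (CommRingCat.of k)) := SmoothOfRelativeDimension.smooth 1 s
  haveI : IsProper (P ↘ Spec (CommRingCat.of k)) := Groth.Variety2.isProper_projSpace_toSpec 1 k
  haveI := Groth.CurveBridge.isIntegral_of_smooth k C
  haveI : IsLocallyNoetherian C := LocallyOfFiniteType.isLocallyNoetherian (C ↘ Spec (CommRingCat.of k))
  haveI : IsLocallyNoetherian P := LocallyOfFiniteType.isLocallyNoetherian (P ↘ Spec (CommRingCat.of k))
  have hdC : topologicalKrullDim C = 1 := by
    refine le_antisymm (by exact_mod_cast Groth.Duality.SmoothDual.topologicalKrullDim_le s 1) ?_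
    have h := Groth.Duality.SmoothDual.height_eq s 1 (genericPoint C) fun x _ =>
      Scheme.le_iff_specializes.2 ((genericPoint_spec C).specializes trivial)
    rw [Groth.Variety2.Dim.dim_eq_iSup_height]
    exact le_iSup_of_le (genericPoint C) (by rw [h]; rfl)
  have hdP : topologicalKrullDim P = 1 := by rw [Groth.Variety2.PSpace.dim_projSpace]; rfl
  have hnC : Pi1.IsNormalScheme C := Groth.NeronArea.isNormalScheme_of_smooth (C ↘ Spec (CommRingCat.of k))
    (Groth.Calg4.NormChar.isNormalScheme_specField _ (Field.toIsField k))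
  have hnP : Pi1.IsNormalScheme P := fun x => by
    haveI := Groth.Duality.Pn.isRegularLocalRing_stalk 1 k x
    exact ⟨Groth.Ega4Algebra1.isDomain_of_isRegularLocalRing _,
      Groth.Ega4Algebra1.isIntegrallyClosed_of_isRegularLocalRing _⟩
  have hclC := Groth.CurveBridge.isClosed_singleton_iff C hdC
  have hclP := Groth.CurveBridge.isClosed_singleton_iff P hdP
  haveI : IsProper (f ≫ (P ↘ Spec (CommRingCat.of k))) := (show f ≫ (P ↘ Spec (CommRingCat.of k)) = s from hf) ▸ ‹IsProper s›
  haveI : IsProper f := IsProper.of_comp f (P ↘ Spec (CommRingCat.of k))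
  have e : f (genericPoint C) = genericPoint P := by
    by_contra hc
    obtain ⟨x, hx⟩ := f.surjective (genericPoint P)
    have h : f (genericPoint C) ⤳ f x := ((genericPoint_spec C).specializes trivial).map f.continuous
    have h2 := (specializes_iff_mem_closure.1 h)
    rw [((hclP _).2 hc).closure_eq, hx] at h2
    exact hc h2.symm
  haveI : LocallyQuasiFinite f := Groth.Curves1.CurveMor.locallyQuasiFinite (C ↘ Spec (CommRingCat.of k))
    (P ↘ Spec (CommRingCat.of k)) f hf hdC.le fun x hx hc => by
      rw [hclC, not_not] at hx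
      subst hx
      rw [e] at hc
      exact (hclP _).mp hc rfl
  haveI : IsFinite f := IsFinite.of_isProper_of_locallyQuasiFinite f
  have hsep : letI := (Groth.RefRank.ffMap f).hom.toAlgebra; Algebra.IsSeparable P.functionField C.functionField := by
    haveI : CharZero P.functionField :=
      charZero_of_injective_ringHom (algebraMap k P.functionField).injective
    letI := (Groth.RefRank.ffMap f).hom.toAlgebra
    haveI : Module.Finite P.functionField C.functionField :=
      Module.finite_of_finrank_pos (Groth.RefRank.ffDeg_pos f)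
    infer_instance
  obtain ⟨d, T, hTc, hTd, hloc, hmain⟩ := Groth.Curves1.Hurwitz.exists_hurwitz k f hf hdC hdP hnC hnP hsep
  -- Euler characteristics
  obtain ⟨-, -, -, -, hP0, hPg⟩ := Groth.Curves1.RR.exists_deg_one_of_iso k (Iso.refl P) (Category.id_comp _)
  haveI : CompactSpace C := QuasiCompact.compactSpace_of_compactSpace (C ↘ Spec (CommRingCat.of k))
  haveI : CompactSpace P := QuasiCompact.compactSpace_of_compactSpace (P ↘ Spec (CommRingCat.of k))
  have hrC := Groth.Curves1.Hurwitz.isRegCurve_of_normal k hdC hnC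
  have hrP := Groth.Curves1.Hurwitz.isRegCurve_of_normal k hdP hnP
  have hχP : Curv2.euler k P (Coh.structureModule P) = 1 := by
    rw [Groth.EulerDeg.euler_structure_eq fun n hn => Groth.CurveBridge.subsingleton_HH k hrP _ hn, hP0, hPg]
    rfl
  have hχC : Curv2.euler k C (Coh.structureModule C) = 1 - (Curv2.genus k C : ℤ) := by
    rw [Groth.EulerDeg.euler_structure_eq fun n hn => Groth.CurveBridge.subsingleton_HH k hrC _ hn,
      Groth.Duality.SmoothDual.finrank_h0_structure, Nat.cast_one]
  -- degrees at closed points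
  have hcl : ∀ x : C, IsClosed ({x} : Set C) → IsClosed ({f x} : Set P) := fun x hx => by
    simpa [Set.image_singleton] using f.isClosedMap _ hx
  have hres : ∀ x : C, IsClosed ({x} : Set C) →
      (C ↘ Spec (CommRingCat.of k)).residueDegree x = 1 ∧ f.residueDegree x = 1 := fun x hx => by
    have h1 : (C ↘ Spec (CommRingCat.of k)).residueDegree x = 1 := by
      rw [Groth.Cycles.residueDegree_eq_finrank_over]
      letI := Curv2.resAlgebra k C x
      haveI := Groth.Curves1.CurveMor.finite_residueField_of_isClosed (k := k) hx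
      exact ((AlgEquiv.ofBijective (Algebra.ofId k (C.residueField x))
        IsAlgClosed.algebraMap_bijective_of_isIntegral).toLinearEquiv.finrank_eq).symm.trans (Module.finrank_self k)
    refine ⟨h1, ?_⟩
    rw [show (C ↘ Spec (CommRingCat.of k)) = f ≫ (P ↘ Spec (CommRingCat.of k)) from hf.symm,
      Groth.Cycles.residueDegree_comp, mul_eq_one] at h1
    first
      | exact h1.1
      | exact h1.2
  let ee : C → ℕ := fun x => letI := (f.stalkMap x).hom.toAlgebra
    Ideal.ramificationIdx (maximalIdeal (C.presheaf.stalk x)) (P.presheaf.stalk (f x))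
  have hdvrC : ∀ x : C, IsClosed ({x} : Set C) → IsDiscreteValuationRing (C.presheaf.stalk x) := fun x hx =>
    Groth.RefRank.isDiscreteValuationRing_stalk hnC
      (Groth.Cycles.ringKrullDim_stalk_closed (C ↘ Spec (CommRingCat.of k)) hdC x hx)
  have hdvrP : ∀ y : P, IsClosed ({y} : Set P) → IsDiscreteValuationRing (P.presheaf.stalk y) := fun y hy =>
    Groth.RefRank.isDiscreteValuationRing_stalk hnP
      (Groth.Cycles.ringKrullDim_stalk_closed (P ↘ Spec (CommRingCat.of k)) hdP y hy)
  haveI : Flat f := Groth.Curves1.CurveMor.flat_of_dominant f e (fun y => (hnP y).2) hdP.le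
  have hee : ∀ x : C, IsClosed ({x} : Set C) → 1 ≤ ee x ∧ d x = ee x - 1 ∧ (f x ∈ W → ee x = 1) := fun x hx => by
    haveI := hdvrC x hx
    haveI := hdvrP (f x) (hcl x hx)
    letI := (f.stalkMap x).hom.toAlgebra
    letI := (f.residueFieldMap x).hom.toAlgebra
    haveI : IsLocalHom (algebraMap (P.presheaf.stalk (f x)) (C.presheaf.stalk x)) :=
      inferInstanceAs (IsLocalHom (f.stalkMap x).hom)
    haveI : Module.Flat (P.presheaf.stalk (f x)) (C.presheaf.stalk x) := Flat.stalkMap f x
    haveI : Module.FaithfullyFlat (P.presheaf.stalk (f x)) (C.presheaf.stalk x) :=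
      Module.FaithfullyFlat.of_flat_of_isLocalHom
    obtain ⟨hpos, hunr⟩ := ramificationIdx_pos (A := P.presheaf.stalk (f x)) (O := C.presheaf.stalk x)
      (RingHom.injective_iff_ker_eq_bot _ |>.2 (by
        rw [RingHom.ker_eq_comap_bot, ← Ideal.map_bot (f := algebraMap (P.presheaf.stalk (f x)) (C.presheaf.stalk x)),
          Ideal.comap_map_eq_self_of_faithfullyFlat]))
    refine ⟨hpos, (hloc x hx).2.2 ⟨?_, ?_⟩, fun hxW => hunr ?_⟩
    · letI := Curv2.resAlgebra k P (f x)
      haveI := Groth.Curves1.CurveMor.finite_residueField_of_isClosed (k := k) (hcl x hx)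
      haveI : IsAlgClosed (P.residueField (f x)) := IsAlgClosed.of_ringEquiv k _
        (RingEquiv.ofBijective (algebraMap k (P.residueField (f x))) IsAlgClosed.algebraMap_bijective_of_isIntegral)
      haveI : Module.Finite (P.residueField (f x)) (C.residueField x) :=
        Module.finite_of_finrank_eq_succ (n := 0) (hres x hx).2
      infer_instance
    · haveI : CharZero (P.residueField (f x)) :=
        letI := Curv2.resAlgebra k P (f x)
        charZero_of_injective_ringHom (algebraMap k (P.residueField (f x))).injective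
      exact Nat.cast_ne_zero.2 (Nat.one_le_iff_ne_zero.1 hpos)
    · haveI : Etale ((f ⁻¹ᵁ W).ι ≫ f) := by
        rw [← morphismRestrict_ι]
        infer_instance
      obtain ⟨A, _, _, q', _, hA, -, ⟨eq'⟩⟩ := Groth.Hensel1.isEssentiallyEtale_stalkMap f x (f ⁻¹ᵁ W) hxW
      haveI := hA
      haveI : Algebra.FormallyUnramified A (Localization.AtPrime q') :=
        Algebra.FormallyUnramified.of_isLocalization q'.primeCompl
      haveI : Algebra.FormallyUnramified (P.presheaf.stalk (f x)) (Localization.AtPrime q') :=
        Algebra.FormallyUnramified.comp _ A _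
      haveI : Algebra.FormallyUnramified (P.presheaf.stalk (f x)) (C.presheaf.stalk x) :=
        Algebra.FormallyUnramified.of_equiv eq'.symm
      haveI : Algebra.EssFiniteType A (Localization.AtPrime q') :=
        Algebra.EssFiniteType.of_isLocalization _ q'.primeCompl
      haveI : Algebra.EssFiniteType (P.presheaf.stalk (f x)) (Localization.AtPrime q') :=
        Algebra.EssFiniteType.comp _ A _
      haveI : Algebra.EssFiniteType (P.presheaf.stalk (f x)) (C.presheaf.stalk x) :=
        Algebra.EssFiniteType.of_surjective eq'.symm.toAlgHom eq'.symm.surjective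
      exact Algebra.FormallyUnramified.map_maximalIdeal
  -- fibres
  let n := f.residueDegree (genericPoint C)
  have hn : Groth.RefRank.ffDeg f = n := by
    obtain ⟨e₁, e₂, hcomm⟩ := Groth.Agent.S11332.exists_residue_equivs f e
    letI := ((P.presheaf.stalkSpecializes (specializes_of_eq e) ≫ f.stalkMap (genericPoint C)).hom).toAlgebra
    letI := (f.residueFieldMap (genericPoint C)).hom.toAlgebra
    exact Algebra.finrank_eq_of_equiv_equiv e₁ e₂ (RingHom.ext hcomm)
  have hn0 : 0 < n := hn ▸ Groth.RefRank.ffDeg_pos f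
  have hfib : ∀ y : P, IsClosed ({y} : Set P) →
      ∃ F : Finset C, (∀ x, x ∈ F ↔ f x = y) ∧ F.Nonempty ∧ ∑ x ∈ F, (ee x : ℤ) = n := fun y hy => by
    haveI := hdvrP y hy
    have hclx : ∀ x : C, f x = y → IsClosed ({x} : Set C) := fun x hx => (hclC x).2 fun h => by
      subst h
      exact (hclP y).1 hy (hx.symm.trans e)
    obtain ⟨hfin, hsum⟩ := Groth.Curves1.Hurwitz.finsum_residueDegree_mul_ramificationIdx f e y
      (Groth.Cycles.ringKrullDim_stalk_closed (P ↘ Spec (CommRingCat.of k)) hdP y hy)
      (fun x hx => hdvrC x (hclx x hx))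
    have hF : {x : C | f x = y}.Finite := Set.finite_coe_iff.1 hfin
    obtain ⟨x₀, hx₀⟩ := f.surjective y
    refine ⟨hF.toFinset, fun x => hF.mem_toFinset, ⟨x₀, hF.mem_toFinset.2 hx₀⟩, ?_⟩
    letI := Fintype.ofFinite {x : C // f x = y}
    rw [finsum_eq_sum_of_fintype] at hsum
    rw [Finset.sum_subtype hF.toFinset (fun x => hF.mem_toFinset) fun x => (ee x : ℤ)]
    refine (Finset.sum_congr rfl fun x _ => ?_).trans hsum
    rw [(hres x.1 (hclx x.1 x.2)).2, Nat.cast_one, one_mul]
  obtain ⟨Fp, hFp, hFp0, hFps⟩ := hfib p hp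
  obtain ⟨Fq, hFq, hFq0, hFqs⟩ := hfib q hq
  have hclF : ∀ x ∈ Fp ∪ Fq, IsClosed ({x} : Set C) := fun x hx => (hclC x).2 fun h => by
    subst h
    rcases Finset.mem_union.1 hx with h | h
    · exact (hclP p).1 hp ((hFp _).1 h ▸ e)
    · exact (hclP q).1 hq ((hFq _).1 h ▸ e)
  have hsumT : ∑ x ∈ T, ((C ↘ Spec (CommRingCat.of k)).residueDegree x : ℤ) * (d x : ℤ) =
      ∑ x ∈ Fp ∪ Fq, ((ee x : ℤ) - 1) := by
    rw [Finset.sum_congr rfl fun x hx => show _ = ((ee x : ℤ) - 1) by
      obtain ⟨h1, h2, -⟩ := hee x (hTc x hx)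
      rw [(hres x (hTc x hx)).1, h2, Nat.cast_sub h1]
      push_cast
      ring]
    have hz : ∀ x, IsClosed ({x} : Set C) → x ∉ Fp ∪ Fq → (ee x : ℤ) - 1 = 0 := fun x hx hxF => by
      have : f x ∈ W := by
        show f x ∈ (W : Set P)
        rw [hW]
        rintro (h | h)
        · exact hxF (Finset.mem_union_left _ ((hFp x).2 h))
        · exact hxF (Finset.mem_union_right _ ((hFq x).2 h))
      rw [(hee x hx).2.2 this]
      rfl
    rw [Finset.sum_subset (Finset.subset_union_left (s₂ := Fp ∪ Fq)) fun x hx hxT => ?_]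
    · refine (Finset.sum_subset Finset.subset_union_right fun x hx hxF => ?_).symm
      exact hz x ((Finset.mem_union.1 hx).elim (hTc x) (hclF x)) hxF
    · have hxc := (Finset.mem_union.1 hx).elim (hTc x) (hclF x)
      obtain ⟨h1, h2, -⟩ := hee x hxc
      have : d x = 0 := by_contra fun h => hxT (hTd x hxc h)
      omega
  rw [hχP, hχC, hsumT, hn] at hmain
  have hcard : Curv2.genus k C = 0 ∧ Fp.card = 1 ∧ Fq.card = 1 := by
    have ha := hFp0.card_pos
    have hb := hFq0.card_pos
    by_cases hpq : p = q
    · have hpF : Fq = Fp := Finset.ext fun x => by rw [hFp, hFq, hpq]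
      rw [hpF, Finset.union_self, Finset.sum_sub_distrib, hFps, Finset.sum_const, nsmul_one] at hmain
      rw [hpF]
      omega
    · have hdisj : Disjoint Fp Fq := Finset.disjoint_left.2 fun x h h' =>
        hpq (((hFp x).1 h).symm.trans ((hFq x).1 h'))
      rw [Finset.sum_union hdisj, Finset.sum_sub_distrib, Finset.sum_sub_distrib, hFps, hFqs, Finset.sum_const,
        Finset.sum_const, nsmul_one, nsmul_one] at hmain
      omega
  exact ⟨Groth.Curves1.RR.iso_projectiveLine_of_isAlgClosed k hdC hcard.1,
    fun x y hx hy => Finset.card_le_one.1 hcard.2.1.le x ((hFp x).2 hx) y ((hFp y).2 hy),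
    fun x y hx hy => Finset.card_le_one.1 hcard.2.2.le x ((hFq x).2 hx) y ((hFq y).2 hy)⟩

end Groth.Agent.S17022
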