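import Groth.Statements.S17023
import Groth.Agent.Calg1.CompletionLocal

set_option autoImplicit false
universe u
open FlatMor

namespace Groth.Agent.S17023

/-- Let B be a discrete valuation ring, A a B-algebra of finite type and p a prime ideal of A which lies
over the maximal ideal of B (a point of the special fibre), at which A is smooth over B (the
localization A_p is formally smooth over B), and such that B maps onto the residue field κ(p). Then
there are a discrete valuation ring B' and a ring map ψ : A → B' pulling the maximal ideal of B'
back to p, such that the composite B → A → B' is injective, the maximal ideal of B generates the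
maximal ideal of B', and B maps onto the residue field of B'; in other words Spec B' → Spec A → Spec
B is surjective and unramified with trivial residue field extension. (The published statement does
not say that the closed point of Spec B' goes to p; it is required here. The published setting takes
A essentially of finite type over a field of characteristic zero; here A is taken of finite type
over B, with no ground field.) -/
theorem result
    (B : Type u) [CommRing B] [IsDomain B] [IsDiscreteValuationRing B]
    (A : Type u) [CommRing A] [Algebra B A] [Algebra.FiniteType B A]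
    (p : Ideal A) [p.IsPrime] (hp : p.comap (algebraMap B A) = IsLocalRing.maximalIdeal B)
    [Algebra.IsSmoothAt B p]
    (hres : Function.Surjective ((algebraMap A p.ResidueField).comp (algebraMap B A))) :
    ∃ (B' : Type u) (_ : CommRing B') (_ : IsDomain B') (_ : IsDiscreteValuationRing B') (ψ : A →+* B'),
      Ideal.comap ψ (IsLocalRing.maximalIdeal B') = p ∧
      Function.Injective (ψ.comp (algebraMap B A)) ∧
      Ideal.map (ψ.comp (algebraMap B A)) (IsLocalRing.maximalIdeal B) = IsLocalRing.maximalIdeal B' ∧
      Function.Surjective ((IsLocalRing.residue B').comp (ψ.comp (algebraMap B A))) := by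
  haveI : Algebra.FormallySmooth B (Localization.AtPrime p) := ‹Algebra.IsSmoothAt B p›
  let m := IsLocalRing.maximalIdeal B
  let C := AdicCompletion m B
  haveI : IsNoetherianRing C := Groth.Calg1.isNoetherianRing_adicCompletion _ (IsNoetherian.noetherian m)
  obtain ⟨hC1, hC2⟩ := (Groth.Calg1.isDVR_iff_adicCompletion B).mp ⟨inferInstance, inferInstance⟩
  let φ : B →ₐ[B] p.ResidueField := Algebra.ofId B p.ResidueField
  have hφ : Function.Surjective φ := by
    intro z
    obtain ⟨b, hb⟩ := hres z
    exact ⟨b, by rw [← hb]; exact IsScalarTower.algebraMap_apply B A p.ResidueField b⟩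
  have hker : RingHom.ker φ = m := by
    ext b
    rw [RingHom.mem_ker, show φ b = algebraMap A p.ResidueField (algebraMap B A b) from
      IsScalarTower.algebraMap_apply B A p.ResidueField b, Ideal.algebraMap_residueField_eq_zero,
      ← Ideal.mem_comap, hp]
  let e : (B ⧸ m) ≃ₐ[B] p.ResidueField :=
    (Ideal.quotientEquivAlgOfEq B hker.symm).trans (Ideal.quotientKerAlgEquivOfSurjective hφ)
  let f : Localization.AtPrime p →ₐ[B] B ⧸ m :=
    e.symm.toAlgHom.comp (IsScalarTower.toAlgHom B (Localization.AtPrime p) p.ResidueField)
  obtain ⟨g, hg⟩ := Algebra.FormallySmooth.exists_adicCompletionEvalOneₐ_comp_eq (R := B) f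
  refine ⟨C, inferInstance, hC1, hC2, g.toRingHom.comp (algebraMap A (Localization.AtPrime p)), ?_, ?_⟩
  · have hev : ∀ c : C, c ∈ IsLocalRing.maximalIdeal C ↔ AdicCompletion.evalOneₐ m c = 0 := by
      intro c
      rw [AdicCompletion.maximalIdeal_eq_map, ← AdicCompletion.ker_evalOneₐ_eq_map m
        (IsNoetherian.noetherian m)]
      rfl
    ext a
    rw [Ideal.mem_comap, hev]
    show AdicCompletion.evalOneₐ m (g (algebraMap A (Localization.AtPrime p) a)) = 0 ↔ _
    rw [show AdicCompletion.evalOneₐ m (g (algebraMap A (Localization.AtPrime p) a)) =
      f (algebraMap A (Localization.AtPrime p) a) from congr($hg (algebraMap A (Localization.AtPrime p) a))]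
    show e.symm (algebraMap (Localization.AtPrime p) p.ResidueField
      (algebraMap A (Localization.AtPrime p) a)) = 0 ↔ _
    rw [map_eq_zero_iff e.symm e.symm.injective, ← IsScalarTower.algebraMap_apply,
      Ideal.algebraMap_residueField_eq_zero]
  have hcomp : (g.toRingHom.comp (algebraMap A (Localization.AtPrime p))).comp (algebraMap B A) =
      algebraMap B C := by
    refine RingHom.ext fun b => ?_
    show g (algebraMap A (Localization.AtPrime p) (algebraMap B A b)) = _
    rw [← IsScalarTower.algebraMap_apply, g.commutes]
  rw [hcomp]
  refine ⟨?_, AdicCompletion.maximalIdeal_eq_map.symm, ?_⟩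
  · exact AdicCompletion.of_injective (I := m) B
  · intro z
    obtain ⟨c, rfl⟩ := IsLocalRing.residue_surjective z
    obtain ⟨b, hb⟩ := Ideal.Quotient.mk_surjective (AdicCompletion.evalOneₐ m c)
    refine ⟨b, ?_⟩
    show IsLocalRing.residue C (algebraMap B C b) = IsLocalRing.residue C c
    refine Ideal.Quotient.eq.mpr ?_
    rw [AdicCompletion.maximalIdeal_eq_map, ← AdicCompletion.ker_evalOneₐ_eq_map m
      (IsNoetherian.noetherian m)]
    show AdicCompletion.evalOneₐ m (algebraMap B C b - c) = 0
    rw [map_sub, AlgHom.commutes, ← hb, Ideal.Quotient.algebraMap_eq, sub_self]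

end Groth.Agent.S17023
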