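import Groth.Statements.S17025
import Groth.Agent.AdicLinTop.QcohExt

set_option autoImplicit false
open CategoryTheory CategoryTheory.Limits
universe u
open FSch

namespace Groth.Agent.S17025

/-- Let 𝔛 be a locally Noetherian formal scheme (an adic system of thickenings with locally Noetherian
levels) and F₀ ⟶ F₁ ⟶ F₂ ⟶ F₃ ⟶ F₄ an exact sequence of O_𝔛-modules. If F₀, F₁, F₃ and F₄ are
quasi-coherent (as modules on the ringed space: locally a cokernel of a morphism of free
O_𝔛-modules), then so is F₂. -/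
theorem result (𝔛 : FSch.Sys.{u}) (h𝔛 : 𝔛.IsLocNoethFormal)
    (S : ComposableArrows (FSch.ModF 𝔛 h𝔛.1) 4) (hS : S.Exact)
    (h₀ : SheafOfModules.IsQuasicoherent.{u} (S.obj 0)) (h₁ : SheafOfModules.IsQuasicoherent.{u} (S.obj 1))
    (h₃ : SheafOfModules.IsQuasicoherent.{u} (S.obj 3)) (h₄ : SheafOfModules.IsQuasicoherent.{u} (S.obj 4)) :
    SheafOfModules.IsQuasicoherent.{u} (S.obj 2) := by
  have : SheafOfModules.IsQuasicoherent.{u} (S.obj ⟨0, by omega⟩) := h₀
  have : SheafOfModules.IsQuasicoherent.{u} (S.obj ⟨1, by omega⟩) := h₁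
  have : SheafOfModules.IsQuasicoherent.{u} (S.obj ⟨3, by omega⟩) := h₃
  have : SheafOfModules.IsQuasicoherent.{u} (S.obj ⟨4, by omega⟩) := h₄
  exact Groth.AdicLinTop.QcohExt.isQuasicoherent_of_exact_five h𝔛 (S.map' 0 1) (S.map' 1 2) (S.map' 2 3)
    (S.map' 3 4) (hS.toIsComplex.zero 0) (hS.toIsComplex.zero 1) (hS.toIsComplex.zero 2)
    (hS.exact 0) (hS.exact 1) (hS.exact 2)

end Groth.Agent.S17025
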