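import Groth.Statements.S17028
import Groth.Agent.AdicLinTop.QuotFP
import Groth.Agent.AdicLinTop.FormalAffine

set_option autoImplicit false
open CategoryTheory CategoryTheory.Limits
universe u
open FSch

namespace Groth.Agent.S17028

open Opposite TopologicalSpace Groth.AdicLinTop Groth.AdicLinTop.SpacePres Groth.SitesTopoi.ModH

/-- On a locally Noetherian formal scheme 𝔛 (an adic system of thickenings with locally Noetherian
levels), a quasi-coherent O_𝔛-module that is locally of finite type is coherent. (The converse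
implication is immediate.) -/
theorem result (𝔛 : FSch.Sys.{u}) (h𝔛 : 𝔛.IsLocNoethFormal)
    (𝔉 : FSch.ModF 𝔛 h𝔛.1) [SheafOfModules.IsQuasicoherent.{u} 𝔉] [SheafOfModules.IsFiniteType.{u} 𝔉] :
    FSch.IsCohF 𝔛 h𝔛.1 𝔉 := by
  have hB : QuotFP.GoodBasis (O := 𝔛.Osh h𝔛.1) {U : (𝔛.X 0).Opens | AlgebraicGeometry.IsAffineOpen U} :=
    { exists_mem := fun x U hx => by
        obtain ⟨_, ⟨V, hV, rfl⟩, hxV, hVU⟩ := (𝔛.X 0).isBasis_affineOpens.exists_subset_of_mem_open hx U.2
        exact ⟨V, hV, hxV, hVU⟩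
      noeth := fun V hV => FormalAffine.isNoetherianRing h𝔛 hV
      flat := fun V hV V' hV' h => FormalAffine.flat_resR h𝔛 hV hV' h }
  refine QuotFP.isFinitePresentation hB fun x => ?_
  obtain ⟨σ, hσ⟩ := SheafOfModules.IsFiniteType.exists_localGeneratorsData (M := 𝔉)
  obtain ⟨k, hk⟩ : ∃ k, x ∈ σ.X k := by
    have := σ.coversTop
    rw [Opens.coversTop_iff] at this
    exact Opens.mem_iSup.mp ((this ▸ trivial : x ∈ iSup σ.X))
  obtain ⟨n, P, -, -⟩ := @nonempty_genData _ _ _ _ _ (σ.generators k) (hσ.isFiniteType k)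
  exact ⟨σ.X k, n, hk, ⟨P⟩⟩

end Groth.Agent.S17028
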