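import Groth.Statements.S17031
import Groth.Agent.AdicLinTop.IndSubAdj
import Groth.Agent.AdicLinTop.FPSmall
import Groth.Agent.DerivedAdj.Basic
import Groth.Agent.DerivedCoh.KInj.Resolution
import Groth.Agent.SiteCohomology.ModulesGrothendieck

set_option autoImplicit false
open CategoryTheory CategoryTheory.Limits
universe u
attribute [local instance] HasDerivedCategory.standard
open FSch

namespace Groth.Agent.S17031

/-- Let 𝔛 be a locally Noetherian formal scheme (an adic system of thickenings with locally Noetherian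
levels) and A the full subcategory of O_𝔛-modules that are small filtered colimits of coherent ones;
assume (as holds here) that it contains 0, is closed under kernels, cokernels and finite products,
and that its inclusion is exact. Then the functor D(A) ⥤ D(O_𝔛) induced on unbounded derived
categories by the inclusion has a right adjoint. -/
theorem result (𝔛 : FSch.Sys.{u}) (h𝔛 : 𝔛.IsLocNoethFormal)
    [(ObjectProperty.ind.{u} fun 𝔊 : FSch.ModF 𝔛 h𝔛.1 => FSch.IsCohF 𝔛 h𝔛.1 𝔊).ContainsZero] [(ObjectProperty.ind.{u} fun 𝔊 : FSch.ModF 𝔛 h𝔛.1 => FSch.IsCohF 𝔛 h𝔛.1 𝔊).IsClosedUnderKernels]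
    [(ObjectProperty.ind.{u} fun 𝔊 : FSch.ModF 𝔛 h𝔛.1 => FSch.IsCohF 𝔛 h𝔛.1 𝔊).IsClosedUnderCokernels] [(ObjectProperty.ind.{u} fun 𝔊 : FSch.ModF 𝔛 h𝔛.1 => FSch.IsCohF 𝔛 h𝔛.1 𝔊).IsClosedUnderFiniteProducts]
    [PreservesFiniteLimits (ObjectProperty.ind.{u} fun 𝔊 : FSch.ModF 𝔛 h𝔛.1 => FSch.IsCohF 𝔛 h𝔛.1 𝔊).ι] [PreservesFiniteColimits (ObjectProperty.ind.{u} fun 𝔊 : FSch.ModF 𝔛 h𝔛.1 => FSch.IsCohF 𝔛 h𝔛.1 𝔊).ι] :
    ((ObjectProperty.ind.{u} fun 𝔊 : FSch.ModF 𝔛 h𝔛.1 => FSch.IsCohF 𝔛 h𝔛.1 𝔊).ι.mapDerivedCategory).IsLeftAdjoint := by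
  have : ObjectProperty.IsClosedUnderFiniteCoproducts
      (fun 𝔊 : FSch.ModF 𝔛 h𝔛.1 => FSch.IsCohF 𝔛 h𝔛.1 𝔊) :=
    Groth.AdicLinTop.FPSmall.isClosedUnderFiniteCoproducts (O := 𝔛.Osh h𝔛.1)
  obtain ⟨I, G, hG, hrep⟩ := Groth.AdicLinTop.FPSmall.exists_small_family (𝔛.Osh h𝔛.1)
  have := Groth.AdicLinTop.IndSubAdj.isLeftAdjoint_ι
    (fun 𝔊 : FSch.ModF 𝔛 h𝔛.1 => FSch.IsCohF 𝔛 h𝔛.1 𝔊) G hG hrep
  let adj := Adjunction.ofIsLeftAdjoint
    (ObjectProperty.ind.{u} fun 𝔊 : FSch.ModF 𝔛 h𝔛.1 => FSch.IsCohF 𝔛 h𝔛.1 𝔊).ι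
  have := adj.right_adjoint_additive
  have hA : Groth.DerivedAdj.EnoughKInj (FSch.ModF 𝔛 h𝔛.1) := fun K => by
    obtain ⟨L, i, -, hi, hL, -⟩ := Groth.DerivedCoh.KInjRes.exists_resolution K
    exact ⟨L, i, hL, hi⟩
  have : (Functor.mapHomotopyCategory (ObjectProperty.ind.{u} fun 𝔊 : FSch.ModF 𝔛 h𝔛.1 =>
        FSch.IsCohF 𝔛 h𝔛.1 𝔊).ι.rightAdjoint (ComplexShape.up ℤ) ⋙
      DerivedCategory.Qh).HasPointwiseRightDerivedFunctor
        (HomotopyCategory.quasiIso (FSch.ModF 𝔛 h𝔛.1) (ComplexShape.up ℤ)) :=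
    Groth.DerivedAdj.hasPointwiseRightDerivedFunctor_of_bijective _ (Groth.DerivedAdj.exists_good hA)
  exact (Groth.DerivedAdj.derivedAdj adj hA).isLeftAdjoint

end Groth.Agent.S17031
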