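import Groth.Statements.S17030
import Groth.Agent.AdicLinTop.IndGroth
import Groth.Agent.AdicLinTop.CoprodPushD
import Groth.Agent.DerivedCoh.BrownGrothendieck
import Groth.Agent.S17031

set_option autoImplicit false
open CategoryTheory CategoryTheory.Limits
universe u
attribute [local instance] HasDerivedCategory.standard
open FSch

set_option backward.defeqAttrib.useBackward true
set_option backward.isDefEq.respectTransparency false
set_option backward.isDefEq.respectTransparency.types false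
set_option synthInstance.maxHeartbeats 400000
set_option maxHeartbeats 1000000

namespace Groth.Agent.S17030

/-- Let f : 𝔛 ⟶ 𝔜 be a morphism of formal schemes given as systems of thickenings with quasi-compact
underlying spaces, 𝔛 moreover adic with locally Noetherian levels (a Noetherian formal scheme). Let
A be the full subcategory of O_𝔛-modules that are small filtered colimits of coherent ones; assume
(as holds here) that it contains 0, is closed under kernels, cokernels and finite products, and that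
its inclusion is exact, so that A is abelian with derived category D(A). Then the composite of the
induced functor D(A) ⥤ D(O_𝔛) with the total right derived functor Rf_* : D(O_𝔛) ⥤ D(O_𝔜) has a
right adjoint. (The published statement gives a right adjoint compatible with the triangulated
structures.) -/
theorem result (𝔛 𝔜 : FSch.Sys.{u}) (h𝔛 : 𝔛.IsLocNoethFormal)
    [CompactSpace (𝔛.X 0)] (h𝔜 : 𝔜.IsFormal) [CompactSpace (𝔜.X 0)] (f : 𝔛 ⟶ 𝔜)
    [(ObjectProperty.ind.{u} fun 𝔊 : FSch.ModF 𝔛 h𝔛.1 => FSch.IsCohF 𝔛 h𝔛.1 𝔊).ContainsZero] [(ObjectProperty.ind.{u} fun 𝔊 : FSch.ModF 𝔛 h𝔛.1 => FSch.IsCohF 𝔛 h𝔛.1 𝔊).IsClosedUnderKernels]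
    [(ObjectProperty.ind.{u} fun 𝔊 : FSch.ModF 𝔛 h𝔛.1 => FSch.IsCohF 𝔛 h𝔛.1 𝔊).IsClosedUnderCokernels] [(ObjectProperty.ind.{u} fun 𝔊 : FSch.ModF 𝔛 h𝔛.1 => FSch.IsCohF 𝔛 h𝔛.1 𝔊).IsClosedUnderFiniteProducts]
    [PreservesFiniteLimits (ObjectProperty.ind.{u} fun 𝔊 : FSch.ModF 𝔛 h𝔛.1 => FSch.IsCohF 𝔛 h𝔛.1 𝔊).ι] [PreservesFiniteColimits (ObjectProperty.ind.{u} fun 𝔊 : FSch.ModF 𝔛 h𝔛.1 => FSch.IsCohF 𝔛 h𝔛.1 𝔊).ι]
    [SiteCmp.HasRpushD (FSch.homMor f h𝔛.1 h𝔜)] :
    ((ObjectProperty.ind.{u} fun 𝔊 : FSch.ModF 𝔛 h𝔛.1 => FSch.IsCohF 𝔛 h𝔛.1 𝔊).ι.mapDerivedCategory ⋙ SiteCmp.RpushD (FSch.homMor f h𝔛.1 h𝔜)).IsLeftAdjoint := by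
  let Q := ObjectProperty.ind.{u} (Groth.AdicLinTop.IndCoh.cohP h𝔛)
  haveI : IsGrothendieckAbelian.{u} Q.FullSubcategory := Groth.AdicLinTop.IndGroth.isGrothendieckAbelian h𝔛
  haveI : HasCoproducts.{u} (DerivedCategory Q.FullSubcategory) := Groth.DerivedCoh.KInjRes.hasCoproducts
  haveI : LocallySmall.{u} (DerivedCategory (FSch.ModF 𝔜 h𝔜)) :=
    ⟨Groth.Agent.CohDescent.small_hom (FSch.ModF 𝔜 h𝔜)⟩
  haveI : Q.ι.mapDerivedCategory.IsLeftAdjoint := Groth.Agent.S17031.result 𝔛 h𝔛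
  let R := SiteCmp.RpushD (FSch.homMor f h𝔛.1 h𝔜)
  haveI : ∀ κ : Type u, PreservesColimitsOfShape (Discrete κ) (Q.ι.mapDerivedCategory ⋙ R) := fun κ =>
    ⟨fun {K} => by
      haveI : PreservesColimit (K ⋙ Q.ι.mapDerivedCategory) R := by
        haveI : PreservesColimit (Discrete.functor ((K ⋙ Q.ι.mapDerivedCategory).obj ∘ Discrete.mk)) R :=
          Groth.AdicLinTop.CoprodPushD.preservesColimit h𝔛 h𝔜 f _ fun t i =>
            (ObjectProperty.ind.{u} (Groth.AdicLinTop.IndCoh.cohP h𝔛)).prop_of_iso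
              (Groth.DerivedAdj.homologyMapDerivedIso Q.ι (K.obj ⟨t⟩) i).symm ((_ : Q.FullSubcategory).property)
        exact preservesColimit_of_iso_diagram R
          (Discrete.natIsoFunctor (F := K ⋙ Q.ι.mapDerivedCategory)).symm
      exact inferInstanceAs (PreservesColimit K (Q.ι.mapDerivedCategory ⋙ R))⟩
  exact Groth.DerivedCoh.BrownGrothendieck.isLeftAdjoint (Q.ι.mapDerivedCategory ⋙ R) fun T hT =>
    Groth.DAlg.RFTriangle.exists_distinguished (FSch.homMor f h𝔛.1 h𝔜).push R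
      ((SiteCmp.pushKh (FSch.homMor f h𝔛.1 h𝔜)).totalRightDerivedUnit DerivedCategory.Qh
        (HomotopyCategory.quasiIso (FSch.ModF 𝔛 h𝔛.1) (ComplexShape.up ℤ)))
      _ (Q.ι.mapDerivedCategory.map_distinguished _ hT)

end Groth.Agent.S17030
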