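import Groth.Statements.S17041
import Groth.Agent.AdicLinTop.QuotFP
import Groth.Agent.AdicLinTop.FormalAffine

set_option autoImplicit false
open CategoryTheory CategoryTheory.Limits
universe u
open FSch

namespace Groth.Agent.S17041

open Opposite TopologicalSpace Groth.AdicLinTop Groth.AdicLinTop.SpacePres Groth.SitesTopoi.ModH

set_option backward.isDefEq.respectTransparency false in
/-- Generators of a quotient. -/
theorem nonempty_genData_of_epi {T : Type u} [TopologicalSpace T]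
    {O : Sheaf (Opens.grothendieckTopology T) CommRingCat.{u}} {F G : ModSite.Mod O} (π : F ⟶ G) [Epi π]
    {U : Opens T} {n : ℕ} (P : GenData F U n) : Nonempty (GenData G U n) := by
  refine ⟨{ s := fun i => apm π.val U (P.s i), gen := fun W hW t x hx => ?_ }⟩
  obtain ⟨S, hS, hS'⟩ := locSurj_of_epi π W t
  obtain ⟨V, hV, hxV, hSV⟩ := exists_nhd_of_mem hS hx
  obtain ⟨y, hy⟩ := hS' (homOfLE hV) hSV
  obtain ⟨V', hV', hxV', a, ha⟩ := P.gen V (hV.trans hW) y x hxV
  refine ⟨V', hV'.trans hV, hxV', a, ?_⟩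
  have h1 := congrArg (apm π.val V') ha
  rw [apm_rsm, hy, map_sum] at h1
  refine ((rm_rm G hV hV' t).symm.trans h1).trans (Finset.sum_congr rfl fun i _ => ?_)
  rw [map_smul, apm_rsm]

/-- On a locally Noetherian formal scheme 𝔛 (an adic system of thickenings with locally Noetherian
levels), a quasi-coherent quotient O_𝔛-module of a coherent O_𝔛-module is coherent. -/
theorem result (𝔛 : FSch.Sys.{u}) (h𝔛 : 𝔛.IsLocNoethFormal)
    {𝔉 𝔊 : FSch.ModF 𝔛 h𝔛.1} (h𝔉 : FSch.IsCohF 𝔛 h𝔛.1 𝔉) [SheafOfModules.IsQuasicoherent.{u} 𝔊]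
    (π : 𝔉 ⟶ 𝔊) [Epi π] : FSch.IsCohF 𝔛 h𝔛.1 𝔊 := by
  have hB : QuotFP.GoodBasis (O := 𝔛.Osh h𝔛.1) {U : (𝔛.X 0).Opens | AlgebraicGeometry.IsAffineOpen U} :=
    { exists_mem := fun x U hx => by
        obtain ⟨_, ⟨V, hV, rfl⟩, hxV, hVU⟩ := (𝔛.X 0).isBasis_affineOpens.exists_subset_of_mem_open hx U.2
        exact ⟨V, hV, hxV, hVU⟩
      noeth := fun V hV => FormalAffine.isNoetherianRing h𝔛 hV
      flat := fun V hV V' hV' h => FormalAffine.flat_resR h𝔛 hV hV' h }
  refine QuotFP.isFinitePresentation hB fun x => ?_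
  obtain ⟨U, n, m, hxU, ⟨P⟩⟩ := exists_presData h𝔉 x
  exact ⟨U, n, hxU, nonempty_genData_of_epi π P.toGenData⟩

end Groth.Agent.S17041
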