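import Groth.Statements.S1705
import Groth.Agent.Divisors.Assoc

set_option autoImplicit false
universe u
open CategoryTheory CategoryTheory.Limits AlgebraicGeometry TopologicalSpace
open SDiv

namespace Groth.Agent.S1705

/-- Let X be a locally Noetherian scheme, F a quasi-coherent module and U an open subset containing
every associated point of F. Then the restriction map Γ(X, F) → Γ(U, F) is injective. -/
theorem result (X : Scheme.{u}) [IsLocallyNoetherian X] (F : X.Modules) (hF : Coh.IsQCoh F)
    (U : X.Opens) (hU : ∀ x : ↥X, Curv2.IsAssPoint F x → x ∈ U) :
    Function.Injective (F.presheaf.map (homOfLE (le_top : U ≤ ⊤)).op) := by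
  exact Groth.Divisors.restrict_injective hF le_top
    fun x _ hx => hU x (Groth.Divisors.isAssPoint_iff_weak.mpr hx)

end Groth.Agent.S1705
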