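import Groth.Statements.S17050
import Groth.Agent.AdicLinTop.TorsGroth
import Groth.Agent.AdicLinTop.CoprodPushD
import Groth.Agent.DerivedCoh.BrownGrothendieck
import Groth.Agent.DerivedAdj.Basic
import Groth.Agent.S17031
-- import your own Groth.Agent.* helpers here

set_option autoImplicit false
open CategoryTheory CategoryTheory.Limits
universe u
attribute [local instance] HasDerivedCategory.standard
open FTors

set_option backward.defeqAttrib.useBackward true
set_option backward.isDefEq.respectTransparency false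
set_option backward.isDefEq.respectTransparency.types false
set_option synthInstance.maxHeartbeats 400000
set_option maxHeartbeats 1000000

namespace Groth.Agent.S17050

theorem mapDerived_isLeftAdjoint (𝔛 : FSch.Sys.{u}) (h𝔛 : 𝔛.IsLocNoethFormal)
    [(FTors.IsQCT 𝔛 h𝔛.1).ContainsZero] [(FTors.IsQCT 𝔛 h𝔛.1).IsClosedUnderKernels]
    [(FTors.IsQCT 𝔛 h𝔛.1).IsClosedUnderCokernels] [(FTors.IsQCT 𝔛 h𝔛.1).IsClosedUnderFiniteProducts]
    [PreservesFiniteLimits (FTors.IsQCT 𝔛 h𝔛.1).ι] [PreservesFiniteColimits (FTors.IsQCT 𝔛 h𝔛.1).ι] :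
    (FTors.IsQCT 𝔛 h𝔛.1).ι.mapDerivedCategory.IsLeftAdjoint := by
  haveI := Groth.AdicLinTop.TorsGroth.isLeftAdjoint_ι h𝔛
  let adj := Adjunction.ofIsLeftAdjoint (FTors.IsQCT 𝔛 h𝔛.1).ι
  have := adj.right_adjoint_additive
  have hA : Groth.DerivedAdj.EnoughKInj (FSch.ModF 𝔛 h𝔛.1) := fun K => by
    obtain ⟨L, i, -, hi, hL, -⟩ := Groth.DerivedCoh.KInjRes.exists_resolution K
    exact ⟨L, i, hL, hi⟩
  have : (Functor.mapHomotopyCategory (FTors.IsQCT 𝔛 h𝔛.1).ι.rightAdjoint (ComplexShape.up ℤ) ⋙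
      DerivedCategory.Qh).HasPointwiseRightDerivedFunctor
        (HomotopyCategory.quasiIso (FSch.ModF 𝔛 h𝔛.1) (ComplexShape.up ℤ)) :=
    Groth.DerivedAdj.hasPointwiseRightDerivedFunctor_of_bijective _ (Groth.DerivedAdj.exists_good hA)
  exact (Groth.DerivedAdj.derivedAdj adj hA).isLeftAdjoint

/-- Let f : 𝔛 ⟶ 𝔜 be a morphism of Noetherian formal schemes (adic systems of thickenings with locally
Noetherian levels and quasi-compact underlying spaces), and assume the total right derived functor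
Rf_* exists on unbounded derived categories of modules. Let A_qct be the full subcategory of
quasi-coherent torsion O_𝔛-modules, assumed (as holds) to contain 0, to be closed under kernels,
cokernels and finite products and to have exact inclusion; assume further that the induced functor
D(A_qct) ⥤ D(O_𝔛) is fully faithful with essential image D_qct(𝔛), the complexes with quasi-coherent
torsion cohomology sheaves — the case the published proof establishes first, valid when 𝔛 is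
separated or of finite Krull dimension. Then the restriction of Rf_* to D_qct(𝔛) has a right
adjoint. (The published statement also removes the hypothesis on 𝔛 when f is separated, by gluing
over an open cover, and gives a bounded-below right adjoint compatible with the triangulated
structures.) -/
theorem result (𝔛 𝔜 : FSch.Sys.{u}) (h𝔛 : 𝔛.IsLocNoethFormal) (h𝔜 : 𝔜.IsLocNoethFormal)
    [CompactSpace (𝔛.X 0)] [CompactSpace (𝔜.X 0)] (f : 𝔛 ⟶ 𝔜)
    [SiteCmp.HasRpushD (FSch.homMor f h𝔛.1 h𝔜.1)]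
    [(FTors.IsQCT 𝔛 h𝔛.1).ContainsZero] [(FTors.IsQCT 𝔛 h𝔛.1).IsClosedUnderKernels]
    [(FTors.IsQCT 𝔛 h𝔛.1).IsClosedUnderCokernels] [(FTors.IsQCT 𝔛 h𝔛.1).IsClosedUnderFiniteProducts]
    [PreservesFiniteLimits (FTors.IsQCT 𝔛 h𝔛.1).ι] [PreservesFiniteColimits (FTors.IsQCT 𝔛 h𝔛.1).ι]
    (hj : (FTors.IsQCT 𝔛 h𝔛.1).ι.mapDerivedCategory.Full ∧ (FTors.IsQCT 𝔛 h𝔛.1).ι.mapDerivedCategory.Faithful ∧
      ∀ G : DerivedCategory (FSch.ModF 𝔛 h𝔛.1),
        (FTors.IsQCT 𝔛 h𝔛.1).ι.mapDerivedCategory.essImage G ↔ FTors.IsDQCT 𝔛 h𝔛.1 G) :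
    ((FTors.IsDQCT 𝔛 h𝔛.1).ι ⋙ SiteCmp.RpushD (FSch.homMor f h𝔛.1 h𝔜.1)).IsLeftAdjoint := by
  let Q := FTors.IsQCT 𝔛 h𝔛.1
  haveI : IsGrothendieckAbelian.{u} Q.FullSubcategory := Groth.AdicLinTop.TorsGroth.isGrothendieckAbelian h𝔛
  haveI : HasCoproducts.{u} (DerivedCategory Q.FullSubcategory) := Groth.DerivedCoh.KInjRes.hasCoproducts
  haveI : LocallySmall.{u} (DerivedCategory (FSch.ModF 𝔜 h𝔜.1)) :=
    ⟨Groth.Agent.CohDescent.small_hom (FSch.ModF 𝔜 h𝔜.1)⟩
  haveI : Q.ι.mapDerivedCategory.IsLeftAdjoint := mapDerived_isLeftAdjoint 𝔛 h𝔛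
  let R := SiteCmp.RpushD (FSch.homMor f h𝔛.1 h𝔜.1)
  haveI : ∀ κ : Type u, PreservesColimitsOfShape (Discrete κ) (Q.ι.mapDerivedCategory ⋙ R) := fun κ =>
    ⟨fun {K} => by
      haveI : PreservesColimit (K ⋙ Q.ι.mapDerivedCategory) R := by
        haveI : PreservesColimit (Discrete.functor ((K ⋙ Q.ι.mapDerivedCategory).obj ∘ Discrete.mk)) R :=
          Groth.AdicLinTop.CoprodPushD.preservesColimit h𝔛 h𝔜.1 f _ fun t i =>
            (ObjectProperty.ind.{u} (Groth.AdicLinTop.IndCoh.cohP h𝔛)).prop_of_iso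
              (Groth.DerivedAdj.homologyMapDerivedIso Q.ι (K.obj ⟨t⟩) i).symm
              (Groth.AdicLinTop.TorsSub.ind_of_isQCT h𝔛 ((_ : Q.FullSubcategory).property))
        exact preservesColimit_of_iso_diagram R
          (Discrete.natIsoFunctor (F := K ⋙ Q.ι.mapDerivedCategory)).symm
      exact inferInstanceAs (PreservesColimit K (Q.ι.mapDerivedCategory ⋙ R))⟩
  haveI : (Q.ι.mapDerivedCategory ⋙ R).IsLeftAdjoint :=
    Groth.DerivedCoh.BrownGrothendieck.isLeftAdjoint (Q.ι.mapDerivedCategory ⋙ R) fun T hT =>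
      Groth.DAlg.RFTriangle.exists_distinguished (FSch.homMor f h𝔛.1 h𝔜.1).push R
        ((SiteCmp.pushKh (FSch.homMor f h𝔛.1 h𝔜.1)).totalRightDerivedUnit DerivedCategory.Qh
          (HomotopyCategory.quasiIso (FSch.ModF 𝔛 h𝔛.1) (ComplexShape.up ℤ)))
        _ (Q.ι.mapDerivedCategory.map_distinguished _ hT)
  let L := (FTors.IsDQCT 𝔛 h𝔛.1).lift Q.ι.mapDerivedCategory
    fun K => (hj.2.2 _).1 (Q.ι.mapDerivedCategory.obj_mem_essImage K)
  haveI := hj.1
  haveI := hj.2.1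
  haveI : L.EssSurj := ⟨fun G => by
    obtain ⟨K, ⟨e⟩⟩ := (hj.2.2 G.obj).2 G.property
    exact ⟨K, ⟨(FTors.IsDQCT 𝔛 h𝔛.1).isoMk e⟩⟩⟩
  haveI : L.IsEquivalence := {}
  haveI : (L.inv ⋙ Q.ι.mapDerivedCategory ⋙ R).IsLeftAdjoint := inferInstance
  exact Functor.isLeftAdjoint_of_iso
    (show L.inv ⋙ Q.ι.mapDerivedCategory ⋙ R ≅ (FTors.IsDQCT 𝔛 h𝔛.1).ι ⋙ R from
      Functor.isoWhiskerRight L.asEquivalence.counitIso ((FTors.IsDQCT 𝔛 h𝔛.1).ι ⋙ R) ≪≫ Functor.leftUnitor _)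

end Groth.Agent.S17050
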