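import Groth.Statements.S17051
import Groth.Agent.AdicLinTop.TorsColim

set_option autoImplicit false
open CategoryTheory CategoryTheory.Limits
universe u
open FTors

set_option backward.defeqAttrib.useBackward true
set_option backward.isDefEq.respectTransparency false

namespace Groth.Agent.S17051

open WSerre in
theorem prop_of_exact_five {A : Type*} [Category A] [Abelian A] (P : ObjectProperty A) [IsWeakSerre P]
    {F₀ F₁ F₂ F₃ F₄ : A} (a : F₀ ⟶ F₁) (b : F₁ ⟶ F₂) (c : F₂ ⟶ F₃) (d : F₃ ⟶ F₄)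
    (hab : a ≫ b = 0) (hbc : b ≫ c = 0) (hcd : c ≫ d = 0)
    (h1 : (ShortComplex.mk a b hab).Exact) (h2 : (ShortComplex.mk b c hbc).Exact)
    (h3 : (ShortComplex.mk c d hcd).Exact)
    (hF₀ : P F₀) (hF₁ : P F₁) (hF₃ : P F₃) (hF₄ : P F₄) : P F₂ := by
  let S := ShortComplex.mk (cokernel.desc a b hab) (kernel.lift d c hcd) (by
    rw [← cancel_epi (cokernel.π a), ← cancel_mono (kernel.ι d)]; simp [hbc])
  haveI : Mono S.f := ((ShortComplex.mk a b hab).exact_iff_mono_cokernel_desc).1 h1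
  haveI : Epi S.g := ((ShortComplex.mk c d hcd).exact_iff_epi_kernel_lift).1 h3
  have hS : S.Exact := by
    let φ : ShortComplex.mk b c hbc ⟶ ShortComplex.mk S.f c (by
        rw [← cancel_epi (cokernel.π a)]; simp [S, hbc]) :=
      { τ₁ := cokernel.π a, τ₂ := 𝟙 _, τ₃ := 𝟙 _, comm₁₂ := by simp [S] }
    haveI : Epi φ.τ₁ := inferInstanceAs (Epi (cokernel.π a))
    haveI : IsIso φ.τ₂ := inferInstanceAs (IsIso (𝟙 _))
    haveI : Mono φ.τ₃ := inferInstanceAs (Mono (𝟙 _))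
    have h2' := (ShortComplex.exact_iff_of_epi_of_isIso_of_mono φ).1 h2
    let ψ : S ⟶ ShortComplex.mk S.f c (by rw [← cancel_epi (cokernel.π a)]; simp [S, hbc]) :=
      { τ₁ := 𝟙 _, τ₂ := 𝟙 _, τ₃ := kernel.ι d, comm₂₃ := by simp [S] }
    haveI : Epi ψ.τ₁ := inferInstanceAs (Epi (𝟙 _))
    haveI : IsIso ψ.τ₂ := inferInstanceAs (IsIso (𝟙 _))
    haveI : Mono ψ.τ₃ := inferInstanceAs (Mono (kernel.ι d))
    exact (ShortComplex.exact_iff_of_epi_of_isIso_of_mono ψ).2 h2'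
  exact P.prop_X₂_of_shortExact (S := S) (ShortComplex.ShortExact.mk' hS inferInstance inferInstance)
    (P.prop_cokernel a hF₀ hF₁) (P.prop_kernel d hF₃ hF₄)

/-- On a locally Noetherian formal scheme 𝔛 (an adic system of thickenings with locally Noetherian
levels), if F₀ ⟶ F₁ ⟶ F₂ ⟶ F₃ ⟶ F₄ is an exact sequence of O_𝔛-modules with F₀, F₁, F₃, F₄
quasi-coherent torsion modules, then F₂ is a quasi-coherent torsion module. -/
theorem result (𝔛 : FSch.Sys.{u}) (h𝔛 : 𝔛.IsLocNoethFormal)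
    (S : ComposableArrows (FSch.ModF 𝔛 h𝔛.1) 4) (hS : S.Exact)
    (h₀ : FTors.IsQCT 𝔛 h𝔛.1 (S.obj 0)) (h₁ : FTors.IsQCT 𝔛 h𝔛.1 (S.obj 1)) (h₃ : FTors.IsQCT 𝔛 h𝔛.1 (S.obj 3)) (h₄ : FTors.IsQCT 𝔛 h𝔛.1 (S.obj 4)) :
    FTors.IsQCT 𝔛 h𝔛.1 (S.obj 2) := by
  haveI := Groth.AdicLinTop.TorsColim.isWeakSerre_isQCT h𝔛
  exact prop_of_exact_five (FTors.IsQCT 𝔛 h𝔛.1) (S.map' 0 1) (S.map' 1 2) (S.map' 2 3) (S.map' 3 4)
    (hS.toIsComplex.zero 0) (hS.toIsComplex.zero 1) (hS.toIsComplex.zero 2)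
    (hS.exact 0) (hS.exact 1) (hS.exact 2) h₀ h₁ h₃ h₄

end Groth.Agent.S17051
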