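import Groth.Statements.S17055
import Groth.Agent.AdicLinTop.TorsDerived
-- import your own Groth.Agent.* helpers here

set_option autoImplicit false
open CategoryTheory CategoryTheory.Limits
universe u
attribute [local instance] HasDerivedCategory.standard
open FTors

set_option backward.defeqAttrib.useBackward true
set_option backward.isDefEq.respectTransparency false
set_option backward.isDefEq.respectTransparency.types false
set_option synthInstance.maxHeartbeats 400000

namespace Groth.Agent.S17055

/-- On a locally Noetherian formal scheme 𝔛 (an adic system of thickenings with locally Noetherian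
levels), with RΓ'_𝔛 the total right derived functor of the torsion functor (assumed to exist), an
object E of D(O_𝔛) has torsion cohomology sheaves if and only if the canonical morphism RΓ'_𝔛 E ⟶ E
is an isomorphism. -/
theorem result (𝔛 : FSch.Sys.{u}) (h𝔛 : 𝔛.IsLocNoethFormal)
    [FTors.HasRgammaT 𝔛 h𝔛.1] (E : DerivedCategory (FSch.ModF 𝔛 h𝔛.1)) :
    FTors.IsDTorsF 𝔛 h𝔛.1 E ↔ IsIso ((FTors.RgammaTε 𝔛 h𝔛.1).app E) := by
  exact Groth.AdicLinTop.TorsDerived.isDTorsF_iff h𝔛 E

end Groth.Agent.S17055
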