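import Groth.Statements.S17057
import Groth.Agent.AdicLinTop.TorsDerived
-- import your own Groth.Agent.* helpers here

set_option autoImplicit false
open CategoryTheory CategoryTheory.Limits
universe u
attribute [local instance] HasDerivedCategory.standard
open FTors

set_option backward.defeqAttrib.useBackward true
set_option backward.isDefEq.respectTransparency false
set_option backward.isDefEq.respectTransparency.types false
set_option synthInstance.maxHeartbeats 400000

namespace Groth.Agent.S17057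

/-- On a locally Noetherian formal scheme 𝔛 (an adic system of thickenings with locally Noetherian
levels), with RΓ'_𝔛 assumed to exist, for E ∈ D(O_𝔛) with torsion cohomology sheaves and any F ∈
D(O_𝔛), composition with the canonical morphism RΓ'_𝔛 F ⟶ F is a bijection Hom(E, RΓ'_𝔛 F) ⟶ Hom(E,
F). (The published statement asserts the isomorphism of the complexes RHom^•; this row asserts its
degree-zero cohomology for every shift.) -/
theorem result (𝔛 : FSch.Sys.{u}) (h𝔛 : 𝔛.IsLocNoethFormal)
    [FTors.HasRgammaT 𝔛 h𝔛.1] (E F : DerivedCategory (FSch.ModF 𝔛 h𝔛.1)) (hE : FTors.IsDTorsF 𝔛 h𝔛.1 E) :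
    Function.Bijective (fun φ : E ⟶ (FTors.RgammaT 𝔛 h𝔛.1).obj F => φ ≫ (FTors.RgammaTε 𝔛 h𝔛.1).app F) := by
  let R := FTors.RgammaT 𝔛 h𝔛.1
  let ε := FTors.RgammaTε 𝔛 h𝔛.1
  haveI : IsIso (ε.app E) := (Groth.AdicLinTop.TorsDerived.isDTorsF_iff h𝔛 E).1 hE
  haveI : IsIso (ε.app (R.obj F)) := (Groth.AdicLinTop.TorsDerived.isDTorsF_iff h𝔛 (R.obj F)).1
    (Groth.AdicLinTop.TorsDerived.isDTorsF_RgammaT h𝔛 F)
  haveI : IsIso (R.map (ε.app F)) := Groth.AdicLinTop.TorsDerived.isIso_map_ε h𝔛 F
  refine ⟨fun φ φ' h => ?_, fun ψ => ⟨inv (ε.app E) ≫ R.map ψ, ?_⟩⟩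
  · have h1 : R.map φ = R.map φ' := by
      rw [← cancel_mono (R.map (ε.app F)), ← R.map_comp, ← R.map_comp]
      exact congrArg R.map h
    have h2 := ε.naturality φ
    have h3 := ε.naturality φ'
    simp only [Functor.id_map, Functor.id_obj] at h2 h3
    exact (cancel_epi (ε.app E)).1 (h2.symm.trans ((congrArg (· ≫ _) h1).trans h3))
  · have h := ε.naturality ψ
    simp only [Functor.id_map, Functor.id_obj] at h
    refine (Category.assoc _ _ _).trans ?_
    rw [show R.map ψ ≫ ε.app F = ε.app E ≫ ψ from h, IsIso.inv_hom_id_assoc]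

end Groth.Agent.S17057
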