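import Groth.Statements.S17061
import Groth.Agent.AdicLinTop.TorsFullDerived

set_option autoImplicit false
open CategoryTheory CategoryTheory.Limits
universe u
attribute [local instance] HasDerivedCategory.standard
open FTors

namespace Groth.Agent.S17061

/-- On a locally Noetherian formal scheme 𝔛 (an adic system of thickenings with locally Noetherian
levels), with A_t the full subcategory of torsion O_𝔛-modules (assumed, as holds, to contain 0, to
be closed under kernels, cokernels and finite products and to have exact inclusion), the induced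
functor D(A_t) ⥤ D(O_𝔛) is fully faithful and its essential image consists exactly of the complexes
with torsion cohomology sheaves. (The second equivalence, D_qc(A_t) ≃ D_qct(𝔛), is not restated.) -/
theorem result (𝔛 : FSch.Sys.{u}) (h𝔛 : 𝔛.IsLocNoethFormal)
    [(FTors.IsTorsF 𝔛 h𝔛.1).ContainsZero] [(FTors.IsTorsF 𝔛 h𝔛.1).IsClosedUnderKernels]
    [(FTors.IsTorsF 𝔛 h𝔛.1).IsClosedUnderCokernels] [(FTors.IsTorsF 𝔛 h𝔛.1).IsClosedUnderFiniteProducts]
    [PreservesFiniteLimits (FTors.IsTorsF 𝔛 h𝔛.1).ι] [PreservesFiniteColimits (FTors.IsTorsF 𝔛 h𝔛.1).ι] :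
    (FTors.IsTorsF 𝔛 h𝔛.1).ι.mapDerivedCategory.Full ∧ (FTors.IsTorsF 𝔛 h𝔛.1).ι.mapDerivedCategory.Faithful ∧
      ∀ G : DerivedCategory (FSch.ModF 𝔛 h𝔛.1),
        (FTors.IsTorsF 𝔛 h𝔛.1).ι.mapDerivedCategory.essImage G ↔ FTors.IsDTorsF 𝔛 h𝔛.1 G := by
  refine ⟨⟨fun f => ?_⟩, ⟨fun h => ?_⟩, fun G => Groth.AdicLinTop.TorsFullDerived.essImage_iff h𝔛 G⟩
  · exact (Groth.AdicLinTop.TorsFullDerived.bijective_map h𝔛 _ _).2 f
  · exact (Groth.AdicLinTop.TorsFullDerived.bijective_map h𝔛 _ _).1 h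

end Groth.Agent.S17061
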