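import Groth.Statements.S17063
import Groth.Agent.AdicLinTop.TorsCoprod
import Groth.Agent.S17050

set_option autoImplicit false
open CategoryTheory CategoryTheory.Limits
universe u
attribute [local instance] HasDerivedCategory.standard
open FTors

set_option backward.defeqAttrib.useBackward true
set_option backward.isDefEq.respectTransparency false
set_option backward.isDefEq.respectTransparency.types false
set_option synthInstance.maxHeartbeats 400000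
set_option maxHeartbeats 1000000

namespace Groth.Agent.S17063

open Groth.AdicLinTop.TorsDerived Groth.AdicLinTop.TorsCoprod

section

variable {𝔛 : FSch.Sys.{u}} (h𝔛 : 𝔛.IsLocNoethFormal) [FTors.HasRgammaT 𝔛 h𝔛.1]

/-- The derived torsion functor has a right adjoint. -/
theorem isLeftAdjoint_RgammaT : (FTors.RgammaT 𝔛 h𝔛.1).IsLeftAdjoint := by
  haveI : LocallySmall.{u} (DerivedCategory (FSch.ModF 𝔛 h𝔛.1)) :=
    ⟨Groth.Agent.CohDescent.small_hom (FSch.ModF 𝔛 h𝔛.1)⟩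
  haveI : ∀ κ : Type u, PreservesColimitsOfShape (Discrete κ) (FTors.RgammaT 𝔛 h𝔛.1) :=
    preservesCoproducts_RgammaT h𝔛
  exact Groth.DerivedCoh.BrownGrothendieck.isLeftAdjoint (FTors.RgammaT 𝔛 h𝔛.1) fun T hT =>
    Groth.DAlg.RFTriangle.exists_distinguished (FTors.gammaT 𝔛 h𝔛.1) (FTors.RgammaT 𝔛 h𝔛.1) (unit h𝔛) T hT

/-- The counit agrees with its image. -/
theorem ε_idem (X : DerivedCategory (FSch.ModF 𝔛 h𝔛.1)) :
    (FTors.RgammaT 𝔛 h𝔛.1).map ((FTors.RgammaTε 𝔛 h𝔛.1).app X) =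
      (FTors.RgammaTε 𝔛 h𝔛.1).app ((FTors.RgammaT 𝔛 h𝔛.1).obj X) := by
  let R := FTors.RgammaT 𝔛 h𝔛.1
  let ε := FTors.RgammaTε 𝔛 h𝔛.1
  haveI := isIso_map_ε h𝔛 X
  haveI := (isDTorsF_iff h𝔛 _).1 (isDTorsF_RgammaT h𝔛 (R.obj X))
  have h1 : R.map (R.map (ε.app X)) = R.map (ε.app (R.obj X)) := by
    have h := congrArg R.map (ε.naturality (ε.app X))
    simp only [Functor.map_comp, Functor.id_map] at h
    exact (cancel_mono (R.map (ε.app X))).1 h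
  have h2 := ε.naturality (R.map (ε.app X))
  have h3 := ε.naturality (ε.app (R.obj X))
  simp only [Functor.id_map] at h2 h3
  exact (cancel_epi (ε.app (R.obj (R.obj X)))).1 (h2.symm.trans ((congrArg (· ≫ _) h1).trans h3))

/-- The derived torsion functor with values in complexes with torsion cohomology. -/
noncomputable abbrev Rt : DerivedCategory (FSch.ModF 𝔛 h𝔛.1) ⥤ (FTors.IsDTorsF 𝔛 h𝔛.1).FullSubcategory :=
  (FTors.IsDTorsF 𝔛 h𝔛.1).lift (FTors.RgammaT 𝔛 h𝔛.1) (isDTorsF_RgammaT h𝔛)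

/-- The derived torsion functor is the coreflection. -/
noncomputable def coreflection : (FTors.IsDTorsF 𝔛 h𝔛.1).ι ⊣ Rt h𝔛 :=
  haveI : ∀ T : (FTors.IsDTorsF 𝔛 h𝔛.1).FullSubcategory, IsIso ((FTors.RgammaTε 𝔛 h𝔛.1).app T.obj) :=
    fun T => (isDTorsF_iff h𝔛 _).1 T.property
  { unit :=
      { app := fun T => (FTors.IsDTorsF 𝔛 h𝔛.1).homMk (inv ((FTors.RgammaTε 𝔛 h𝔛.1).app T.obj))
        naturality := fun S T f => by
          apply ObjectProperty.hom_ext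
          show f.hom ≫ inv ((FTors.RgammaTε 𝔛 h𝔛.1).app T.obj) =
            inv ((FTors.RgammaTε 𝔛 h𝔛.1).app S.obj) ≫ (FTors.RgammaT 𝔛 h𝔛.1).map f.hom
          rw [IsIso.eq_inv_comp, ← Category.assoc, IsIso.comp_inv_eq]
          exact ((FTors.RgammaTε 𝔛 h𝔛.1).naturality f.hom).symm }
    counit :=
      { app := fun F => (FTors.RgammaTε 𝔛 h𝔛.1).app F
        naturality := fun F G f => (FTors.RgammaTε 𝔛 h𝔛.1).naturality f }
    left_triangle_components := fun T => by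
      show inv ((FTors.RgammaTε 𝔛 h𝔛.1).app T.obj) ≫ _ = 𝟙 _
      exact IsIso.inv_hom_id _
    right_triangle_components := fun F => by
      haveI := (isDTorsF_iff h𝔛 _).1 (isDTorsF_RgammaT h𝔛 F)
      apply ObjectProperty.hom_ext
      show inv ((FTors.RgammaTε 𝔛 h𝔛.1).app ((FTors.RgammaT 𝔛 h𝔛.1).obj F)) ≫
        (FTors.RgammaT 𝔛 h𝔛.1).map ((FTors.RgammaTε 𝔛 h𝔛.1).app F) = 𝟙 _
      rw [IsIso.inv_comp_eq, Category.comp_id, ε_idem h𝔛] }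

/-- The right adjoint of the derived torsion functor does not change the derived torsion. -/
theorem nonempty_iso (Λ : DerivedCategory (FSch.ModF 𝔛 h𝔛.1) ⥤ DerivedCategory (FSch.ModF 𝔛 h𝔛.1))
    (a : FTors.RgammaT 𝔛 h𝔛.1 ⊣ Λ) {G : DerivedCategory (FSch.ModF 𝔛 h𝔛.1)} (hG : FTors.IsDTorsF 𝔛 h𝔛.1 G) :
    Nonempty ((FTors.RgammaT 𝔛 h𝔛.1).obj (Λ.obj G) ≅ G) := by
  let P := FTors.IsDTorsF 𝔛 h𝔛.1
  let a2 : Rt h𝔛 ⊣ P.ι ⋙ Λ := a.restrictFullyFaithful (iC := 𝟭 _) (iD := P.ι)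
    (Functor.FullyFaithful.id _) P.fullyFaithfulι (Iso.refl _) (Iso.refl _)
  haveI : ∀ T : P.FullSubcategory, IsIso ((FTors.RgammaTε 𝔛 h𝔛.1).app T.obj) :=
    fun T => (isDTorsF_iff h𝔛 _).1 T.property
  let e : P.ι ⋙ Rt h𝔛 ≅ 𝟭 P.FullSubcategory :=
    NatIso.ofComponents (fun T => P.isoMk (asIso ((FTors.RgammaTε 𝔛 h𝔛.1).app T.obj))) fun {S T} f => by
      apply ObjectProperty.hom_ext
      exact (FTors.RgammaTε 𝔛 h𝔛.1).naturality f.hom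
  exact ⟨P.ι.mapIso (((((coreflection h𝔛).comp a2).ofNatIsoLeft e).rightAdjointUniq Adjunction.id).app ⟨G, hG⟩)⟩

end

/-- Let f : 𝔛 ⟶ 𝔜 be a morphism of Noetherian formal schemes (adic systems of thickenings with locally
Noetherian levels and quasi-compact underlying spaces), with RΓ'_𝔛 and Rf_* assumed to exist on
unbounded derived categories; let A_qct (quasi-coherent torsion O_𝔛-modules) contain 0, be closed
under kernels, cokernels and finite products with exact inclusion, and assume the induced functor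
D(A_qct) ⥤ D(O_𝔛) is fully faithful with essential image D_qct(𝔛) (true for 𝔛 separated or of finite
Krull dimension). Then Rf_* ∘ RΓ'_𝔛 restricted to D̃_qc(𝔛) — the complexes E with RΓ'_𝔛 E in
D_qct(𝔛) — has a right adjoint. (The published statement names it f^# = Λ_𝔛 f_t^× and shows it
bounded below; only existence is asserted here.) -/
theorem result (𝔛 𝔜 : FSch.Sys.{u})
    (h𝔛 : 𝔛.IsLocNoethFormal) (h𝔜 : 𝔜.IsLocNoethFormal) [CompactSpace (𝔛.X 0)] [CompactSpace (𝔜.X 0)]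
    (f : 𝔛 ⟶ 𝔜) [FTors.HasRgammaT 𝔛 h𝔛.1] [SiteCmp.HasRpushD (FSch.homMor f h𝔛.1 h𝔜.1)]
    [(FTors.IsQCT 𝔛 h𝔛.1).ContainsZero] [(FTors.IsQCT 𝔛 h𝔛.1).IsClosedUnderKernels]
    [(FTors.IsQCT 𝔛 h𝔛.1).IsClosedUnderCokernels] [(FTors.IsQCT 𝔛 h𝔛.1).IsClosedUnderFiniteProducts]
    [PreservesFiniteLimits (FTors.IsQCT 𝔛 h𝔛.1).ι] [PreservesFiniteColimits (FTors.IsQCT 𝔛 h𝔛.1).ι]
    (hj : (FTors.IsQCT 𝔛 h𝔛.1).ι.mapDerivedCategory.Full ∧ (FTors.IsQCT 𝔛 h𝔛.1).ι.mapDerivedCategory.Faithful ∧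
      ∀ G : DerivedCategory (FSch.ModF 𝔛 h𝔛.1),
        (FTors.IsQCT 𝔛 h𝔛.1).ι.mapDerivedCategory.essImage G ↔ FTors.IsDQCT 𝔛 h𝔛.1 G) :
    (ObjectProperty.ι (FTors.IsDQCTilde 𝔛 h𝔛.1) ⋙ FTors.RgammaT 𝔛 h𝔛.1 ⋙
      SiteCmp.RpushD (FSch.homMor f h𝔛.1 h𝔜.1)).IsLeftAdjoint := by
  let Q := FTors.IsDQCT 𝔛 h𝔛.1
  haveI := Groth.AdicLinTop.TorsColim.isWeakSerre_isQCT h𝔛
  haveI := isLeftAdjoint_RgammaT h𝔛
  let a := Adjunction.ofIsLeftAdjoint (FTors.RgammaT 𝔛 h𝔛.1)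
  let L : (FTors.IsDQCTilde 𝔛 h𝔛.1).FullSubcategory ⥤ Q.FullSubcategory :=
    Q.lift ((FTors.IsDQCTilde 𝔛 h𝔛.1).ι ⋙ FTors.RgammaT 𝔛 h𝔛.1) fun E => E.property
  have hΛ : ∀ G : Q.FullSubcategory,
      FTors.IsDQCTilde 𝔛 h𝔛.1 ((FTors.RgammaT 𝔛 h𝔛.1).rightAdjoint.obj G.obj) := fun G i => by
    obtain ⟨e⟩ := nonempty_iso h𝔛 _ a (G := G.obj) fun j => (G.property j).1
    exact (FTors.IsQCT 𝔛 h𝔛.1).prop_of_iso
      (((DerivedCategory.homologyFunctor (FSch.ModF 𝔛 h𝔛.1) i).mapIso e).symm) (G.property i)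
  let aL : L ⊣ (FTors.IsDQCTilde 𝔛 h𝔛.1).lift (Q.ι ⋙ (FTors.RgammaT 𝔛 h𝔛.1).rightAdjoint) hΛ :=
    a.restrictFullyFaithful (iC := (FTors.IsDQCTilde 𝔛 h𝔛.1).ι) (iD := Q.ι)
      (ObjectProperty.fullyFaithfulι _) (ObjectProperty.fullyFaithfulι _) (Iso.refl _) (Iso.refl _)
  haveI : L.IsLeftAdjoint := aL.isLeftAdjoint
  haveI := Groth.Agent.S17050.result 𝔛 𝔜 h𝔛 h𝔜 f hj
  exact Functor.isLeftAdjoint_of_iso
    (show L ⋙ Q.ι ⋙ SiteCmp.RpushD (FSch.homMor f h𝔛.1 h𝔜.1) ≅ _ from Iso.refl _)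

end Groth.Agent.S17063
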