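import Groth.Statements.S17065
import Mathlib
-- import your own Groth.Agent.* helpers here

set_option autoImplicit false
universe u
open CAlg

namespace Groth.Agent.S17065

/-- The local algebraic statement its proof establishes: let A be a Noetherian ring, I ≤ J radical
ideals and Â the J-adic completion of A. If J^n Â ⊆ I Â for some n, then the closed set V(J) is open
inside V(I) ⊆ Spec A. (Globally: if X₂ ⊆ X₁ are the completions of a locally Noetherian scheme along
nested closed subsets Z₂ ⊆ Z₁ and the ideal of Z₁ generates an ideal of definition of X₂, then X₂ is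
a union of connected components of X₁.) -/
theorem result (A : Type u) [CommRing A] [IsNoetherianRing A]
    (I J : Ideal A) (hIJ : I ≤ J) (hI : I.IsRadical) (hJ : J.IsRadical) (n : ℕ)
    (h : (J ^ n).map (algebraMap A (AdicCompletion J A)) ≤ I.map (algebraMap A (AdicCompletion J A))) :
    IsOpen ((fun x : PrimeSpectrum.zeroLocus (I : Set A) => (x : PrimeSpectrum A)) ⁻¹'
      PrimeSpectrum.zeroLocus (J : Set A)) := by
  classical
  set K := J.map (Ideal.Quotient.mk I)
  have hle : J ^ n ≤ I ⊔ J ^ (n + 1) := by
    intro x hx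
    have h1 := h (Ideal.mem_map_of_mem (algebraMap A (AdicCompletion J A)) hx)
    have h2 := Ideal.mem_map_of_mem (AdicCompletion.evalₐ J (n + 1)).toRingHom h1
    rw [Ideal.map_map] at h2
    have hcomp : (AdicCompletion.evalₐ J (n + 1)).toRingHom.comp (algebraMap A (AdicCompletion J A)) =
        Ideal.Quotient.mk (J ^ (n + 1)) := RingHom.ext fun a => by
      show AdicCompletion.evalₐ J (n + 1) (algebraMap A _ a) = _
      rw [AlgHom.commutes]; rfl
    rw [hcomp] at h2
    have h3 : Ideal.Quotient.mk (J ^ (n + 1)) x ∈ I.map (Ideal.Quotient.mk (J ^ (n + 1))) := by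
      convert h2 using 1
      exact (RingHom.congr_fun hcomp x).symm
    rw [← Ideal.mem_comap, Ideal.comap_map_of_surjective _ Ideal.Quotient.mk_surjective,
      ← RingHom.ker_eq_comap_bot, Ideal.mk_ker] at h3
    exact h3
  have hK : K ^ n = K ^ (n + 1) := by
    refine le_antisymm ?_ (Ideal.pow_le_pow_right (Nat.le_succ n))
    rw [← Ideal.map_pow, ← Ideal.map_pow]
    refine (Ideal.map_mono hle).trans ?_
    rw [Ideal.map_sup, Ideal.map_quotient_self, bot_sup_eq]
  have hid : IsIdempotentElem (K ^ n) := by
    have : ∀ j, K ^ (n + j) = K ^ n := by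
      intro j
      induction j with
      | zero => rfl
      | succ j ih => rw [← add_assoc, pow_succ, ih, ← pow_succ, ← hK]
    show K ^ n * K ^ n = K ^ n
    rw [← pow_add]; exact this n
  obtain ⟨e, he, hee⟩ := (Ideal.isIdempotentElem_iff_of_fg (K ^ n) (IsNoetherian.noetherian _)).1 hid
  obtain ⟨e', rfl⟩ := Ideal.Quotient.mk_surjective e
  have hidem : e' * e' - e' ∈ I := by
    have := he.eq
    rw [← map_mul, Ideal.Quotient.eq] at this
    exact this
  have heJ : e' ∈ J ^ n ⊔ I := by
    have : Ideal.Quotient.mk I e' ∈ K ^ n := hee ▸ Ideal.subset_span rfl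
    rwa [← Ideal.map_pow, ← Ideal.mem_comap, Ideal.comap_map_of_surjective _ Ideal.Quotient.mk_surjective,
      ← RingHom.ker_eq_comap_bot, Ideal.mk_ker] at this
  rcases Nat.eq_zero_or_pos n with rfl | hn
  · -- then `A = I + J`, so `V(J) = V(J) ∩ V(I) = ∅`
    have htop : (⊤ : Ideal A) ≤ J := by
      rw [pow_zero, Ideal.one_eq_top, zero_add, pow_one] at hle
      exact hle.trans (sup_le hIJ le_rfl)
    rw [top_le_iff.1 htop, Submodule.top_coe, PrimeSpectrum.zeroLocus_univ, Set.preimage_empty]
    exact isOpen_empty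
  have key : ((fun x : PrimeSpectrum.zeroLocus (I : Set A) => (x : PrimeSpectrum A)) ⁻¹'
      PrimeSpectrum.zeroLocus (J : Set A)) = (fun x : PrimeSpectrum.zeroLocus (I : Set A) => (x : PrimeSpectrum A)) ⁻¹'
        (PrimeSpectrum.basicOpen (1 - e') : Set (PrimeSpectrum A)) := by
    ext ⟨x, hx⟩
    have hI' : I ≤ x.asIdeal := hx
    simp only [Set.mem_preimage, PrimeSpectrum.mem_zeroLocus, SetLike.coe_subset_coe, SetLike.mem_coe,
      PrimeSpectrum.mem_basicOpen]
    constructor
    · intro hJx h1
      have h2 : e' ∈ x.asIdeal := (sup_le ((Ideal.pow_le_self hn.ne').trans hJx) hI') heJ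
      exact x.isPrime.ne_top ((Ideal.eq_top_iff_one _).2 (by simpa using add_mem h1 h2))
    · intro h1
      have h2 : e' ∈ x.asIdeal := by
        refine (x.isPrime.mem_or_mem (x := e') (y := 1 - e') ?_).resolve_right h1
        rw [mul_sub, mul_one, ← neg_sub]
        exact neg_mem (hI' hidem)
      refine x.isPrime.le_of_pow_le (n := n) ?_
      intro a ha
      have : Ideal.Quotient.mk I a ∈ K ^ n := by rw [← Ideal.map_pow]; exact Ideal.mem_map_of_mem _ ha
      rw [hee] at this
      obtain ⟨c, hc⟩ := Ideal.mem_span_singleton'.1 this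
      obtain ⟨c, rfl⟩ := Ideal.Quotient.mk_surjective c
      rw [← map_mul, Ideal.Quotient.eq] at hc
      have := sub_mem (x.asIdeal.mul_mem_left c h2) (hI' hc)
      simpa using this
  rw [key]
  exact PrimeSpectrum.isOpen_basicOpen.preimage continuous_subtype_val

end Groth.Agent.S17065
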