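import Groth.Statements.S17068
import Groth.Agent.AdicLinTop.TorsGroth
import Groth.Agent.SitesTopoi.Mod.SpaceQcqs

set_option autoImplicit false
open CategoryTheory CategoryTheory.Limits
universe u
open FTors

set_option backward.defeqAttrib.useBackward true
set_option backward.isDefEq.respectTransparency false
set_option backward.isDefEq.respectTransparency.types false
set_option synthInstance.maxHeartbeats 400000
set_option maxHeartbeats 1000000

namespace Groth.Agent.S17068

open Groth.SitesTopoi.ModH Groth.AdicLinTop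

variable {𝔛 : FSch.Sys.{u}} (h𝔛 : 𝔛.IsLocNoethFormal)

/-- Morphisms of quasi-coherent torsion modules are determined on coherent test objects. -/
theorem hom_eq_zero {X Y : (FTors.IsQCT 𝔛 h𝔛.1).FullSubcategory} (f : X ⟶ Y)
    (h : ∀ (G : (FTors.IsQCT 𝔛 h𝔛.1).FullSubcategory) (g : G ⟶ X),
      SheafOfModules.IsFinitePresentation.{u} G.obj → g.hom ≫ f.hom = 0) : f.hom = 0 :=
  mod_hom_ext fun U t => by
    obtain ⟨P, hP, ht⟩ := TorsSub.exists_coh_sub h𝔛 X.property t
    have h1 := h ⟨_, TorsGroth.isQCT_of_cohP_mono h𝔛 P.incl hP X.property⟩ ((FTors.IsQCT 𝔛 h𝔛.1).homMk P.incl) hP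
    exact congrArg (fun φ => apm (SheafOfModules.Hom.val φ) U (show P.mem U from ⟨t, ht⟩)) h1

/-- Coherent modules are finitely presentable in all modules on a quasi-compact formal scheme. -/
theorem preservesColimit_hom [CompactSpace (𝔛.X 0)] (F : FSch.ModF 𝔛 h𝔛.1)
    [SheafOfModules.IsFinitePresentation.{u} F] {Λ : Type u} [SmallCategory Λ] [IsFiltered Λ]
    (D : Λ ⥤ FSch.ModF 𝔛 h𝔛.1) : PreservesColimit D (coyoneda.obj (Opposite.op F)) := by
  haveI := h𝔛.2.2 0
  haveI : AlgebraicGeometry.IsNoetherian (𝔛.X 0) := AlgebraicGeometry.IsNoetherian.mk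
  haveI : TopologicalSpace.NoetherianSpace ↥(𝔛.X 0).carrier := inferInstance
  refine Groth.SitesTopoi.HomGlobal.preservesColimit_coyoneda
    (Groth.SitesTopoi.SpaceQcqs.hasQcqsCovers (X := TopCat.of ↥(𝔛.X 0)) fun ι V hV => ?_) F D
  obtain ⟨t, ht⟩ := isCompact_univ.elim_finite_subcover (fun i => (V i : Set (𝔛.X 0))) (fun i => (V i).isOpen)
    (fun x _ => by
      have : x ∈ iSup V := by rw [hV]; trivial
      simpa using this)
  refine ⟨t, inferInstance, fun j => V j.1, top_le_iff.1 fun x _ => ?_, fun j => ⟨j.1, le_rfl⟩,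
    fun j j' => TopologicalSpace.NoetherianSpace.isCompact _⟩
  obtain ⟨i, hi, hxi⟩ : ∃ i ∈ t, x ∈ V i := by simpa using ht (Set.mem_univ x)
  exact TopologicalSpace.Opens.mem_iSup.2 ⟨⟨i, hi⟩, hxi⟩

/-- On a Noetherian formal scheme 𝔛 (adic system of thickenings with locally Noetherian levels and
quasi-compact underlying space), any right adjoint Q_t of the inclusion of quasi-coherent torsion
O_𝔛-modules into all O_𝔛-modules preserves small filtered colimits. (The published statement is for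
direct limits over directed sets.) -/
theorem result (𝔛 : FSch.Sys.{u}) (h𝔛 : 𝔛.IsLocNoethFormal)
    [CompactSpace (𝔛.X 0)] (Q : FSch.ModF 𝔛 h𝔛.1 ⥤ (FTors.IsQCT 𝔛 h𝔛.1).FullSubcategory) (adj : (FTors.IsQCT 𝔛 h𝔛.1).ι ⊣ Q)
    (J : Type u) [SmallCategory J] [IsFiltered J] (K : J ⥤ FSch.ModF 𝔛 h𝔛.1) :
    PreservesColimit K Q := by
  let P := FTors.IsQCT 𝔛 h𝔛.1
  haveI : WSerre.IsWeakSerre P := TorsColim.isWeakSerre_isQCT h𝔛
  haveI : P.ContainsZero := inferInstance
  haveI : P.IsClosedUnderKernels := inferInstance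
  haveI : P.IsClosedUnderCokernels := inferInstance
  haveI : P.IsClosedUnderFiniteProducts := inferInstance
  letI : Abelian P.FullSubcategory := inferInstance
  haveI : P.IsClosedUnderColimitsOfShape J := TorsColim.isClosedUnderColimitsOfShape_isQCT h𝔛 J
  haveI : HasColimitsOfShape J P.FullSubcategory := hasColimitsOfShape_of_closedUnderColimits J P
  haveI : PreservesColimitsOfSize.{u, u} P.ι := adj.leftAdjoint_preservesColimits
  refine ⟨fun {c} hc => ?_⟩
  let d : colimit (K ⋙ Q) ⟶ Q.obj c.pt := colimit.desc (K ⋙ Q) (Q.mapCocone c)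
  have hd : ∀ l, colimit.ι (K ⋙ Q) l ≫ d = Q.map (c.ι.app l) := colimit.ι_desc _
  have hsurj : ∀ (G : P.FullSubcategory), SheafOfModules.IsFinitePresentation.{u} G.obj →
      ∀ φ : G ⟶ Q.obj c.pt, ∃ θ, θ ≫ d = φ := fun G hG φ => by
    haveI := hG
    haveI := preservesColimit_hom h𝔛 G.obj K
    obtain ⟨l, ψ, hψ⟩ := Types.jointly_surjective _ (isColimitOfPreserves (coyoneda.obj (Opposite.op G.obj)) hc)
      ((adj.homEquiv _ _).symm φ)
    refine ⟨adj.homEquiv G (K.obj l) ψ ≫ colimit.ι (K ⋙ Q) l, ?_⟩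
    rw [Category.assoc, hd, ← Adjunction.homEquiv_naturality_right]
    exact (congrArg (adj.homEquiv G c.pt) hψ).trans (Equiv.apply_symm_apply _ _)
  have hinj : ∀ (G : P.FullSubcategory), SheafOfModules.IsFinitePresentation.{u} G.obj →
      ∀ θ : G ⟶ colimit (K ⋙ Q), θ ≫ d = 0 → θ = 0 := fun G hG θ hθ => by
    haveI := hG
    haveI := preservesColimit_hom h𝔛 G.obj K
    haveI := preservesColimit_hom h𝔛 G.obj ((K ⋙ Q) ⋙ P.ι)
    obtain ⟨l, ψ, hψ⟩ := Types.jointly_surjective _ (isColimitOfPreserves (coyoneda.obj (Opposite.op G.obj))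
      (isColimitOfPreserves P.ι (colimit.isColimit (K ⋙ Q)))) θ.hom
    change G.obj ⟶ (Q.obj (K.obj l)).obj at ψ
    have e : P.homMk ψ ≫ colimit.ι (K ⋙ Q) l = θ := ObjectProperty.hom_ext _ hψ
    have h0 : (adj.homEquiv _ _).symm (P.homMk ψ) ≫ c.ι.app l = 0 := by
      rw [← Adjunction.homEquiv_naturality_right_symm, ← hd, ← Category.assoc, e, hθ, Adjunction.homEquiv_counit,
        Functor.map_zero, zero_comp]
    obtain ⟨m, f, g, h⟩ := (Types.FilteredColimit.isColimit_eq_iff _
      (isColimitOfPreserves (coyoneda.obj (Opposite.op G.obj)) hc) (i := l) (j := l)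
      (xi := (adj.homEquiv _ _).symm (P.homMk ψ)) (xj := (0 : G.obj ⟶ K.obj l))).1 (h0.trans zero_comp.symm)
    change (adj.homEquiv _ _).symm (P.homMk ψ) ≫ K.map f = (0 : G.obj ⟶ K.obj l) ≫ K.map g at h
    rw [zero_comp, ← Adjunction.homEquiv_naturality_right_symm, Equiv.symm_apply_eq, Adjunction.homEquiv_unit] at h
    rw [← e, ← colimit.w (K ⋙ Q) f, ← Category.assoc]
    haveI := adj.right_adjoint_additive
    erw [h, Functor.map_zero]
    simp
  haveI : Mono d := Preadditive.mono_of_cancel_zero _ fun {Z} f hf => ObjectProperty.hom_ext _ <|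
    (hom_eq_zero h𝔛 f fun G g hG => congrArg (fun φ : G ⟶ colimit (K ⋙ Q) => φ.hom)
      (hinj G hG (g ≫ f) (by rw [Category.assoc, hf, comp_zero]))).trans rfl
  haveI : Epi d := Preadditive.epi_of_cancel_zero _ fun {Z} f hf => ObjectProperty.hom_ext _ <|
    (hom_eq_zero h𝔛 f fun G g hG => by
      obtain ⟨θ, hθ⟩ := hsurj G hG g
      exact congrArg (fun φ : G ⟶ Z => φ.hom) (show g ≫ f = 0 by rw [← hθ, Category.assoc, hf, comp_zero])).trans rfl
  haveI : IsIso ((colimit.isColimit (K ⋙ Q)).desc (Q.mapCocone c)) := show IsIso d from isIso_of_mono_of_epi d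
  exact ⟨IsColimit.ofPointIso (colimit.isColimit (K ⋙ Q))⟩

end Groth.Agent.S17068
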