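import Groth.Statements.S17073
import Groth.Agent.LocCohTransform.TopTensor

set_option autoImplicit false
open CategoryTheory
universe u
open LocCoh
open TensorProduct

namespace Groth.Agent.S17073

section

open TensorProduct

variable (R : Type u) {S : Type u} [CommRing R] [CommRing S] [Algebra R S] (J : Ideal S) (d : ℕ)

/-- `H^d_J(E)` over `R`. -/
noncomputable abbrev HR (E : ModuleCat.{u} S) : ModuleCat.{u} R :=
  (ModuleCat.restrictScalars (algebraMap R S)).obj ((localCohomology J d).obj E)

/-- The representing module. -/
def Rep (F : Type u) [AddCommGroup F] [Module R F] : Type u := HR R J d (ModuleCat.of S S) →ₗ[R] F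

variable (F : Type u) [AddCommGroup F] [Module R F]

noncomputable instance : AddCommGroup (Rep R J d F) :=
  inferInstanceAs (AddCommGroup (HR R J d (ModuleCat.of S S) →ₗ[R] F))

variable {R J d F}

/-- Multiplication by `s`. -/
noncomputable def mulS (s : S) :
    HR R J d (ModuleCat.of S S) →ₗ[R] HR R J d (ModuleCat.of S S) where
  toFun h := (s • (show LocCoh.H J d S from h) : LocCoh.H J d S)
  map_add' _ _ := smul_add s (_ : LocCoh.H J d S) _
  map_smul' r h := smul_comm s (algebraMap R S r) (show LocCoh.H J d S from h)

noncomputable instance : SMul S (Rep R J d F) :=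
  ⟨fun s f => LinearMap.comp (show HR R J d (ModuleCat.of S S) →ₗ[R] F from f) (mulS s)⟩

/-- Evaluation. -/
noncomputable def app (f : Rep R J d F) (h : LocCoh.H J d S) : F :=
  (show HR R J d (ModuleCat.of S S) →ₗ[R] F from f) h

@[simp] theorem app_smul (s : S) (f : Rep R J d F) (h : LocCoh.H J d S) : app (s • f) h = app f (s • h) := rfl

theorem ext_app {f g : Rep R J d F} (h : ∀ x, app f x = app g x) : f = g := LinearMap.ext h

theorem app_add_left (f g : Rep R J d F) (h : LocCoh.H J d S) : app (f + g) h = app f h + app g h := rfl

theorem app_add (f : Rep R J d F) (h k : LocCoh.H J d S) : app f (h + k) = app f h + app f k :=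
  map_add (show HR R J d (ModuleCat.of S S) →ₗ[R] F from f) h k

theorem app_zero (f : Rep R J d F) : app f (0 : LocCoh.H J d S) = 0 :=
  map_zero (show HR R J d (ModuleCat.of S S) →ₗ[R] F from f)

noncomputable instance : Module S (Rep R J d F) where
  one_smul f := ext_app fun x => by rw [app_smul, one_smul]
  mul_smul s t f := ext_app fun x => by rw [app_smul, app_smul, app_smul, smul_smul, mul_comm]
  smul_zero s := rfl
  smul_add s f g := rfl
  add_smul s t f := ext_app fun x => by rw [app_add_left, app_smul, app_smul, app_smul, add_smul, app_add]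
  zero_smul f := ext_app fun x => by rw [app_smul, zero_smul, app_zero]; rfl

open Groth.LocCohTransform in
/-- The adjoint of a map out of `H^d_J(E)`. -/
noncomputable def ev (E : ModuleCat.{u} S) (φ : HR R J d E →ₗ[R] F) : E →ₗ[S] Rep R J d F where
  toFun e :=
    { toFun := fun h => φ (tensorToH J d E ((show LocCoh.H J d S from h) ⊗ₜ[S] e))
      map_add' := fun h k => by
        show φ (tensorToH J d E (((show LocCoh.H J d S from h) + (show LocCoh.H J d S from k)) ⊗ₜ[S] e)) = _
        rw [TensorProduct.add_tmul, map_add]
        exact map_add φ _ _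
      map_smul' := fun r h => by
        show φ (tensorToH J d E ((algebraMap R S r • (show LocCoh.H J d S from h)) ⊗ₜ[S] e)) = _
        rw [← TensorProduct.smul_tmul', map_smul]
        exact φ.map_smul r _ }
  map_add' e e' := ext_app fun h => by
    show φ (tensorToH J d E (h ⊗ₜ[S] (e + e'))) = _
    rw [TensorProduct.tmul_add, map_add]
    exact map_add φ _ _
  map_smul' s e := ext_app fun h => by
    show φ (tensorToH J d E (h ⊗ₜ[S] (s • e))) = φ (tensorToH J d E ((s • h) ⊗ₜ[S] e))
    rw [TensorProduct.smul_tmul]

open Groth.LocCohTransform in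
theorem ev_bijective [IsNoetherianRing S] (hcd : LocCoh.CdLE S J d) (E : ModuleCat.{u} S) :
    Function.Bijective (ev (R := R) (J := J) (d := d) (F := F) E) := by
  have hb := tensorToH_bijective J d hcd E
  refine ⟨fun φ ψ h => ?_, fun g => ?_⟩
  · apply LinearMap.ext
    intro x
    obtain ⟨z, rfl⟩ := hb.2 x
    induction z using TensorProduct.induction_on with
    | zero => simp only [map_zero]; exact (map_zero φ).trans (map_zero ψ).symm
    | add p q hp hq =>
      rw [map_add]
      exact ((map_add φ _ _).trans (by rw [hp, hq])).trans (map_add ψ _ _).symm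
    | tmul h e => exact congrArg (fun f : E →ₗ[S] Rep R J d F => app (f e) h) ‹ev E φ = ev E ψ›
  · let L : LocCoh.H J d S ⊗[S] E →+ F :=
      TensorProduct.liftAddHom
        (AddMonoidHom.mk' (fun h => AddMonoidHom.mk' (fun e : E => app (g e) h)
          fun e e' => by rw [map_add, app_add_left])
          fun h k => AddMonoidHom.ext fun e => app_add (g e) h k)
        fun s h e => by
          show app (g e) (s • h) = app (g (s • e)) h
          rw [map_smul, app_smul]
    let T := LinearEquiv.ofBijective _ hb
    refine ⟨{ toFun := fun x => L (T.symm x), map_add' := fun x y => ?_, map_smul' := fun r x => ?_ }, ?_⟩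
    · exact (congrArg L (map_add T.symm x y)).trans (map_add L _ _)
    · show L (T.symm (algebraMap R S r • (show LocCoh.H J d E from x))) = r • L (T.symm x)
      rw [map_smul]
      generalize T.symm x = z
      induction z using TensorProduct.induction_on with
      | zero => rw [smul_zero, map_zero, smul_zero]
      | add p q hp hq => rw [smul_add, map_add, map_add, hp, hq, smul_add]
      | tmul h e =>
        rw [TensorProduct.smul_tmul']
        exact LinearMap.map_smul (show HR R J d (ModuleCat.of S S) →ₗ[R] F from g e) r h
    · refine LinearMap.ext fun e => ext_app fun h => ?_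
      show L (T.symm (T (h ⊗ₜ[S] e))) = app (g e) h
      rw [LinearEquiv.symm_apply_apply]
      rfl

end

/-- Let R → S be a homomorphism of Noetherian rings, J an ideal of S containing elements u₁, …, u_d such
that S/(u₁, …, u_d) is a finite R-module and J lies in the radical of (u₁, …, u_d), and let F be a
finite R-module. Then the functor sending an S-module E to the set Hom_R(H^d_J(E), F) (d-th local
cohomology supported in J, scalars restricted to R) is representable by an S-module. (The published
statement gives the representing module as the degree −d cohomology of RHom_R(RΓ_J S, F) and a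
bifunctorial isomorphism; only representability is asserted here.) -/
theorem result
    (R S : Type u) [CommRing R] [CommRing S] [IsNoetherianRing R] [IsNoetherianRing S] [Algebra R S]
    (J : Ideal S) (d : ℕ) (u : Fin d → S) (hu : ∀ i, u i ∈ J)
    (hJ : J ≤ (Ideal.span (Set.range u)).radical) [Module.Finite R (S ⧸ Ideal.span (Set.range u))]
    (F : Type u) [AddCommGroup F] [Module R F] [Module.Finite R F] :
    ((localCohomology J d ⋙ ModuleCat.restrictScalars (algebraMap R S)).op ⋙
      yoneda.obj (ModuleCat.of R F)).IsRepresentable := by
  have hcd : LocCoh.CdLE S J d := by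
    classical
    refine (Groth.LocCohBase.cdLE_congr_of_le (Ideal.span_le.2 (Set.range_subset_iff.2 hu)) (fun p hp =>
      hJ.trans (p.2.radical_le_iff.2 hp)) d).2 ?_
    refine Groth.LocCohBase.cdLE_mono ?_ (by
      simpa using Groth.LocCohBase.cdLE_span_finset (Finset.univ.image u))
    exact Finset.card_image_le.trans (by simp)
  refine (Functor.RepresentableBy.mk (Y := ModuleCat.of S (Rep R J d F)) (fun {E} =>
    (ModuleCat.homEquiv.trans (Equiv.ofBijective _ (ev_bijective (R := R) (F := F) hcd E)).symm).trans
      (ModuleCat.homEquiv (M := HR R J d E) (N := ModuleCat.of R F)).symm) ?_).isRepresentable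
  intro E E' f g
  apply ModuleCat.homEquiv.injective
  apply (Equiv.ofBijective _ (ev_bijective (R := R) (F := F) hcd E)).injective
  simp only [Equiv.trans_apply, Equiv.apply_symm_apply]
  refine LinearMap.ext fun e => ext_app fun h => ?_
  obtain ⟨φ, hφ⟩ := (ev_bijective (R := R) (F := F) hcd E').2 g.hom
  have hφ' : (Equiv.ofBijective _ (ev_bijective (R := R) (F := F) hcd E')).symm g.hom = φ := by
    rw [← hφ]; exact Equiv.ofBijective_symm_apply_apply _ _ φ
  show app (g.hom (f.hom e)) h = _
  rw [← hφ]
  show φ (Groth.LocCohTransform.tensorToH J d E' (h ⊗ₜ[S] f.hom e)) = _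
  rw [show h ⊗ₜ[S] f.hom e = f.hom.lTensor _ (h ⊗ₜ[S] e) from rfl, Groth.LocCohTransform.tensorToH_natural]
  erw [hφ']
  rfl

end Groth.Agent.S17073
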