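import Groth.Statements.S17078
import Groth.Agent.Misc12.BinForms

set_option autoImplicit false
universe u
open RatCurve

namespace Groth.Agent.S17078

/-- Let k be an algebraically closed field and F_0, …, F_{n-1} homogeneous polynomials of degree d in
k[u, v]. Then the F_i have no common factor other than units if and only if there is an integer m ≥
d such that every homogeneous polynomial of degree m can be written Σ_i F_i G_i with each G_i
homogeneous of degree m − d, i.e. the k-linear map (G_i)_i ↦ Σ_i F_i G_i from n copies of k[u,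
v]_{m−d} to k[u, v]_m is surjective. -/
theorem result
    {k : Type u} [Field k] [IsAlgClosed k] {n : ℕ} (F : Fin n → MvPolynomial (Fin 2) k)
    (d : ℕ) (hF : ∀ i, (F i).IsHomogeneous d) :
    (¬ ∃ H : MvPolynomial (Fin 2) k, ¬ IsUnit H ∧ ∀ i, H ∣ F i) ↔
      ∃ m : ℕ, d ≤ m ∧ ∀ P : MvPolynomial (Fin 2) k, P.IsHomogeneous m →
        ∃ G : Fin n → MvPolynomial (Fin 2) k, (∀ i, (G i).IsHomogeneous (m - d)) ∧
          P = ∑ i, F i * G i := by
  exact Groth.Misc12.BinForms.surjective_iff F d hF

end Groth.Agent.S17078
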