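import Groth.Statements.S17079
import Groth.Agent.SchemeMorphisms.MorSch.BaseChange
-- import your own Groth.Agent.* helpers here

set_option autoImplicit false
universe u
open CategoryTheory CategoryTheory.Limits AlgebraicGeometry
open MorSch

namespace Groth.Agent.S17079

/-- Let gX : X → S and gY : Y → S be morphisms and suppose the functor Mor_S(X, Y) — sending an S-scheme
T to the set of S-morphisms T ×_S X → Y, with base change as transition maps — is represented by an
S-scheme M. Then for every morphism h : S' → S the functor Mor_{S'}(X ×_S S', Y ×_S S') on
S'-schemes is represented by M ×_S S'. (The published statement assumes X and Y projective over S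
with X flat and S, S' locally Noetherian; this row assumes only that the functor is represented by
M. Only the existence of a representing structure on M ×_S S' is asserted, not its compatibility
with the one on M.) -/
theorem result
    {X Y S S' : Scheme.{u}} (gX : X ⟶ S) (gY : Y ⟶ S) (h : S' ⟶ S)
    (M : Over S) (e : (Flatn.morS gX gY).RepresentableBy M) :
    Nonempty ((Flatn.morS (pullback.snd gX h) (pullback.snd gY h)).RepresentableBy
      (Over.mk (pullback.snd M.hom h))) := by
  exact Groth.MorSchAux.nonempty_representableBy_baseChange gX h gY M e

end Groth.Agent.S17079
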