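import Groth.Statements.S17081
import Groth.Agent.SchemeMorphisms.MorSch.HilbBC
-- import your own Groth.Agent.* helpers here

set_option autoImplicit false
universe u
open CategoryTheory CategoryTheory.Limits AlgebraicGeometry
open MorSch

namespace Groth.Agent.S17081

/-- Let S and S' be Noetherian schemes, h : S' → S and f : X → S morphisms, and (H, Z) a pair
representing the Hilbert functor of X over S on locally Noetherian S-schemes (H locally Noetherian
over S; Z ⊆ X ×_S H closed, proper and flat over H; every closed subscheme of X ×_S T proper and
flat over a locally Noetherian S-scheme T is the pullback of Z along a unique S-morphism T → H),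
with H locally of finite type over S. Write X' = X ×_S S' → S' and H' = H ×_S S' → S', and let Z' ⊆
X' ×_{S'} H' be the closed subscheme pulled back from Z along the morphism X' ×_{S'} H' → X ×_S H
induced by the projections X' → X and H' → H. Then (H', Z') represents the Hilbert functor of X'
over S'. (Published for X flat and projective over S, which is how (H, Z) is known to exist there;
representability is taken as a hypothesis here; the hypothesis that H is locally of finite type over
S is added here (it holds for the Hilbert scheme of a flat projective scheme) so that H ×_S S' is
locally Noetherian.) -/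
theorem result
    {X S S' : Scheme.{u}} [IsNoetherian S] [IsNoetherian S'] (f : X ⟶ S) (h : S' ⟶ S)
    (H : Over S) (Z : FGA.HilbSet f H) (hH : FGA.HilbRepresentedBy f H Z)
    [LocallyOfFiniteType H.hom]
    (Z' : FGA.HilbSet (pullback.snd f h) (Over.mk (pullback.snd H.hom h)))
    (hZ' : Z'.1 = Z.1.comap (pullback.map (pullback.snd f h) (pullback.snd H.hom h) f H.hom
      (pullback.fst f h) (pullback.fst H.hom h) h pullback.condition.symm pullback.condition.symm)) :
    FGA.HilbRepresentedBy (pullback.snd f h) (Over.mk (pullback.snd H.hom h)) Z' := by
  exact Groth.MorSchAux.hilbRepresentedBy_baseChange f h H Z hH Z' hZ'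

end Groth.Agent.S17081
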