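import Groth.Statements.S17083
import Groth.Agent.BlowUpBasics.Global
import Groth.Agent.Divisors.EffCartierMore
-- import your own Groth.Agent.* helpers here

set_option autoImplicit false
universe u
open CategoryTheory CategoryTheory.Limits AlgebraicGeometry
open MorSch

namespace Groth.Agent.S17083

open Groth.BlowUpBasics in
/-- The centre of one blow-up stays effective Cartier on the fibre product with a second blow-up, away from
the centre of the latter. -/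
lemma isEffCartier_restrict {X B₁ B₂ : Scheme.{u}} {I₁ I₂ : X.IdealSheafData} {σ₁ : B₁ ⟶ X} {σ₂ : B₂ ⟶ X}
    (h₁ : BlowUp.IsBlowUp σ₁ I₁) (h₂ : BlowUp.IsBlowUp σ₂ I₂)
    {P : Scheme.{u}} {p₁ : P ⟶ B₁} {p₂ : P ⟶ B₂} (H : IsPullback p₁ p₂ σ₁ σ₂) :
    BlowUp.IsEffCartierIdeal
      (((I₁.comap (p₁ ≫ σ₁)).comap (p₁ ⁻¹ᵁ (σ₁ ⁻¹ᵁ I₂.support.compl)).ι)) := by
  set U : X.Opens := I₂.support.compl
  set V : B₁.Opens := σ₁ ⁻¹ᵁ U
  have := isIso_morphismRestrict h₂ U disjoint_compl_right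
  let s : V.toScheme ⟶ P := H.lift V.ι ((σ₁ ∣_ U) ≫ inv (σ₂ ∣_ U) ≫ (σ₂ ⁻¹ᵁ U).ι) (by
    rw [Category.assoc, Category.assoc, ← morphismRestrict_ι σ₂ U, IsIso.inv_hom_id_assoc, morphismRestrict_ι])
  have hs : s ≫ p₁ = V.ι := H.lift_fst _ _ _
  have hiso : (p₁ ∣_ V) ≫ s = (p₁ ⁻¹ᵁ V).ι := by
    refine H.hom_ext ?_ (hom_ext_isBlowUp h₂ ?_ ?_)
    · rw [Category.assoc, hs, morphismRestrict_ι]
    · simp only [Category.assoc, ← H.w, reassoc_of% hs, morphismRestrict_ι_assoc]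
    · simp only [Category.assoc, ← H.w, reassoc_of% hs, morphismRestrict_ι_assoc]
      rw [comap_eq_top_of_range_subset _ _]
      · exact isEffCartierIdeal_top
      · rintro _ ⟨y, rfl⟩
        exact y.2
  have : IsIso (p₁ ∣_ V) := by
    let s' : V.toScheme ⟶ (p₁ ⁻¹ᵁ V).toScheme := IsOpenImmersion.lift (p₁ ⁻¹ᵁ V).ι s (by
      rw [Scheme.Opens.range_ι]
      rintro _ ⟨y, rfl⟩
      show (s ≫ p₁) y ∈ V
      rw [hs]
      exact y.2)
    refine ⟨s', ?_, ?_⟩
    · rw [← cancel_mono (p₁ ⁻¹ᵁ V).ι, Category.assoc, IsOpenImmersion.lift_fac, hiso, Category.id_comp]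
    · rw [← cancel_mono V.ι, Category.assoc, morphismRestrict_ι, IsOpenImmersion.lift_fac_assoc, hs,
        Category.id_comp]
  rw [← Scheme.IdealSheafData.comap_comp, ← morphismRestrict_ι_assoc, ← Category.assoc,
    Scheme.IdealSheafData.comap_comp]
  exact isEffCartierIdeal_comap_of_flat ((p₁ ∣_ V) ≫ V.ι) h₁.1

open Groth.BlowUpBasics in
/-- So the first centre is effective Cartier on all of the fibre product when the centres are disjoint. -/
lemma isEffCartier_comap {X B₁ B₂ : Scheme.{u}} {I₁ I₂ : X.IdealSheafData} (hdisj : I₁ ⊔ I₂ = ⊤)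
    {σ₁ : B₁ ⟶ X} {σ₂ : B₂ ⟶ X}
    (h₁ : BlowUp.IsBlowUp σ₁ I₁) (h₂ : BlowUp.IsBlowUp σ₂ I₂)
    {P : Scheme.{u}} {p₁ : P ⟶ B₁} {p₂ : P ⟶ B₂} (H : IsPullback p₁ p₂ σ₁ σ₂) :
    BlowUp.IsEffCartierIdeal (I₁.comap (p₁ ≫ σ₁)) := by
  let O : Bool → P.Opens := fun i ↦
    if i then p₁ ⁻¹ᵁ (σ₁ ⁻¹ᵁ I₂.support.compl) else p₁ ⁻¹ᵁ (σ₁ ⁻¹ᵁ I₁.support.compl)
  have hO : TopologicalSpace.IsOpenCover O := by
    refine eq_top_iff.mpr fun x _ ↦ TopologicalSpace.Opens.mem_iSup.mpr ?_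
    by_cases h : σ₁ (p₁ x) ∈ I₂.support
    · refine ⟨false, fun h' ↦ ?_⟩
      have h3 : ((I₁ ⊔ I₂).support : Set X) = ∅ := by simp [hdisj]
      have h4 : σ₁ (p₁ x) ∈ (I₁ ⊔ I₂).support := by
        rw [Scheme.IdealSheafData.support_sup]
        exact ⟨h', h⟩
      exact (Set.ext_iff.mp h3 _).mp h4
    · exact ⟨true, h⟩
  refine isEffCartierIdeal_of_openCover (P.openCoverOfIsOpenCover O hO) fun i ↦ ?_
  cases i with
  | false =>
    show BlowUp.IsEffCartierIdeal ((I₁.comap (p₁ ≫ σ₁)).comap (p₁ ⁻¹ᵁ (σ₁ ⁻¹ᵁ I₁.support.compl)).ι)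
    rw [← Scheme.IdealSheafData.comap_comp, comap_eq_top_of_range_subset _ _]
    · exact isEffCartierIdeal_top
    · rintro _ ⟨y, rfl⟩
      exact y.2
  | true => exact isEffCartier_restrict h₁ h₂ H


/-- The closed immersion constructed in its proof, as follows. Let X be a scheme, I₁ and I₂
quasi-coherent ideal sheaves on X with I₁ + I₂ = O_X, so that they cut out disjoint closed
subschemes Z₁ and Z₂, let σ : B → X be a blow-up of X in the ideal I₁ ∩ I₂ of Z₁ ∪ Z₂, and let σ₁ :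
B₁ → X and σ₂ : B₂ → X be blow-ups of X in Z₁ and in Z₂ (blow-up in the sense of the universal
property: the inverse image ideal is effective Cartier, finally so). Then there is a morphism ι : B
→ B₁ ×_X B₂ over X which is a closed immersion; the components B → B_i are necessarily the unique
X-morphisms given by the universal properties. (Published for X a projective space over an
algebraically closed field, Z₂ a closed point and Z₁ a finite set of closed points not containing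
it, and iterated there to embed the blow-up at r distinct points as a closed subscheme of the fibre
product over X of the r blow-ups at single points.) -/
theorem result
    {X B B₁ B₂ : Scheme.{u}} (I₁ I₂ : X.IdealSheafData) (hdisj : I₁ ⊔ I₂ = ⊤)
    (σ : B ⟶ X) (hσ : BlowUp.IsBlowUp σ (I₁ ⊓ I₂))
    (σ₁ : B₁ ⟶ X) (hσ₁ : BlowUp.IsBlowUp σ₁ I₁) (σ₂ : B₂ ⟶ X) (hσ₂ : BlowUp.IsBlowUp σ₂ I₂) :
    ∃ ι : B ⟶ pullback σ₁ σ₂, IsClosedImmersion ι ∧ ι ≫ pullback.fst σ₁ σ₂ ≫ σ₁ = σ := by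
  have hmul : I₁ ⊓ I₂ = I₁ * I₂ := by
    ext U : 2
    have hU : I₁.ideal U ⊔ I₂.ideal U = ⊤ := by
      simpa using congrArg (fun J : X.IdealSheafData ↦ J.ideal U) hdisj
    rw [Scheme.IdealSheafData.ideal_inf, Scheme.IdealSheafData.ideal_mul, Pi.inf_apply, Pi.mul_apply,
      Ideal.mul_eq_inf_of_coprime hU]
  rw [hmul] at hσ
  have hP : BlowUp.IsBlowUp (pullback.fst σ₁ σ₂ ≫ σ₁) (I₁ * I₂) := by
    have H := IsPullback.of_hasPullback σ₁ σ₂
    refine ⟨?_, fun Y g hg ↦ ?_⟩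
    · rw [Groth.Divisors.comap_mul]
      refine Groth.Divisors.isEffCartierIdeal_mul (isEffCartier_comap hdisj hσ₁ hσ₂ H) ?_
      rw [pullback.condition]
      exact isEffCartier_comap (by rwa [sup_comm]) hσ₂ hσ₁ H.flip
    · rw [Groth.Divisors.comap_mul] at hg
      obtain ⟨hg₁, hg₂⟩ := Groth.Divisors.isEffCartierIdeal_factors hg
      obtain ⟨k₁, hk₁, hu₁⟩ := hσ₁.2 Y g hg₁
      obtain ⟨k₂, hk₂, hu₂⟩ := hσ₂.2 Y g hg₂
      refine ⟨pullback.lift k₁ k₂ (hk₁.trans hk₂.symm), ?_, fun l hl ↦ pullback.hom_ext ?_ ?_⟩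
      · show _ = g
        rw [pullback.lift_fst_assoc, hk₁]
      · rw [pullback.lift_fst]
        exact hu₁ _ (show _ = g by rw [Category.assoc]; exact hl)
      · rw [pullback.lift_snd]
        exact hu₂ _ (show _ = g by rw [Category.assoc, ← pullback.condition]; exact hl)
  obtain ⟨e, he⟩ := Groth.BlowUpBasics.exists_iso_of_isBlowUp hσ hP
  exact ⟨e.hom, inferInstance, he⟩

end Groth.Agent.S17083
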