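import Groth.Statements.S17085
import Groth.Agent.S7826
import Groth.Agent.PropsBasic.BirationalGeneric

set_option autoImplicit false
set_option backward.isDefEq.respectTransparency.types false
universe u
open CategoryTheory CategoryTheory.Limits AlgebraicGeometry
open RatCurve

namespace Groth.Agent.S17085

open scoped Groth.CurveBridge IntermediateField

theorem isNormal_projLine (k : Type u) [Field k] : Pi1.IsNormalScheme (CohB1.ProjSpace 1 k) := fun x => by
  haveI := Groth.Duality.Pn.isRegularLocalRing_stalk 1 k x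
  exact ⟨Groth.Ega4Algebra1.isDomain_of_isRegularLocalRing _,
    Groth.Ega4Algebra1.isIntegrallyClosed_of_isRegularLocalRing _⟩

theorem dim_projLine (k : Type u) [Field k] : topologicalKrullDim (CohB1.ProjSpace 1 k) = 1 := by
  rw [Groth.Variety2.PSpace.dim_projSpace]; rfl

/-- A dominant morphism from the line forces a rational function field. -/
theorem fieldEquiv_of_dominant (k : Type u) [Field k] {C : Scheme.{u}} [C.Over (Spec (CommRingCat.of k))]
    [(CohB1.ProjSpace 1 k).Over (Spec (CommRingCat.of k))]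
    (hP : (CohB1.ProjSpace 1 k ↘ Spec (CommRingCat.of k)) = CohB1.ProjSpace.toSpec 1 k)
    [IsIntegral C] [IsProper (C ↘ Spec (CommRingCat.of k))] (hdim : topologicalKrullDim C = 1)
    (g : CohB1.ProjSpace 1 k ⟶ C) (hg : g ≫ (C ↘ Spec (CommRingCat.of k)) = CohB1.ProjSpace.toSpec 1 k)
    (hgη : g (genericPoint _) = genericPoint C) :
    Nonempty (C.functionField ≃ₐ[k] (CohB1.ProjSpace 1 k).functionField) := by
  haveI : IsLocallyNoetherian C := LocallyOfFiniteType.isLocallyNoetherian (C ↘ Spec (CommRingCat.of k))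
  obtain ⟨e₀⟩ := Groth.Agent.S7826.nonempty_ratFunc_equiv k hP
  let φ := Groth.Curves1.FrobTwist.fieldMap g hgη
  have hφ : ∀ c : k, φ (algebraMap k C.functionField c) = algebraMap k _ c := fun c => by
    have h := congrArg (fun m => m ≫ (C ↘ Spec (CommRingCat.of k)))
      (Groth.Curves1.FrobTwist.fromSpecStalk_generic_comp g hgη)
    simp only [Category.assoc, hg, ← hP] at h
    rw [Groth.CurveBridge.fromSpecStalk_over, Groth.CurveBridge.fromSpecStalk_over, ← Spec.map_comp] at h
    exact ConcreteCategory.congr_hom (Spec.map_injective h) c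
  let A : C.functionField →ₐ[k] RatFunc k :=
    e₀.symm.toAlgHom.comp { φ with commutes' := hφ }
  have hne : A.fieldRange ≠ ⊥ := fun hb => by
    obtain ⟨x, hx, -⟩ := Groth.CurveBridge.isFF k C hdim
    obtain ⟨c, hc⟩ := IntermediateField.mem_bot.mp (hb.le ⟨x, rfl⟩ : A x ∈ (⊥ : IntermediateField k (RatFunc k)))
    exact hx (A.toRingHom.injective (hc.symm.trans (A.commutes c).symm) ▸ isAlgebraic_algebraMap c)
  exact ⟨((AlgEquiv.ofInjectiveField A).trans ((IntermediateField.equivOfEq RatFunc.Luroth.eq_adjoin_generator).trans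
      (RatFunc.algEquivOfTranscendental _ (RatFunc.Luroth.transcendental_generator hne)).symm)).trans e₀⟩

/-- An isomorphism of function fields gives isomorphic open pieces. -/
theorem openIso_of_fieldEquiv (k : Type u) [Field k] {C : Scheme.{u}} [C.Over (Spec (CommRingCat.of k))]
    [(CohB1.ProjSpace 1 k).Over (Spec (CommRingCat.of k))]
    (hP : (CohB1.ProjSpace 1 k ↘ Spec (CommRingCat.of k)) = CohB1.ProjSpace.toSpec 1 k)
    [IsIntegral C] [IsProper (C ↘ Spec (CommRingCat.of k))]
    (φ : C.functionField ≃ₐ[k] (CohB1.ProjSpace 1 k).functionField) :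
    ∃ (U : C.Opens) (V : (CohB1.ProjSpace 1 k).Opens) (e : (↑U : Scheme.{u}) ≅ ↑V),
        Nonempty U ∧
          e.hom ≫ V.ι ≫ CohB1.ProjSpace.toSpec 1 k = U.ι ≫ (C ↘ Spec (CommRingCat.of k)) := by
  haveI : IsProper (CohB1.ProjSpace 1 k ↘ Spec (CommRingCat.of k)) := by rw [hP]; infer_instance
  haveI : IsLocallyNoetherian (CohB1.ProjSpace 1 k) :=
    LocallyOfFiniteType.isLocallyNoetherian (CohB1.ProjSpace 1 k ↘ Spec (CommRingCat.of k))
  obtain ⟨g, hg, hg'⟩ := Groth.Curves1.FrobTwist.exists_hom_of_spec (isNormal_projLine k) (dim_projLine k).le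
    (CohB1.ProjSpace 1 k ↘ Spec (CommRingCat.of k)) (C ↘ Spec (CommRingCat.of k))
    (Spec.map (CommRingCat.ofHom φ.toAlgHom.toRingHom) ≫ C.fromSpecStalk (genericPoint C)) (by
      rw [Category.assoc, Groth.CurveBridge.fromSpecStalk_over, Groth.CurveBridge.fromSpecStalk_over, ← Spec.map_comp]
      congr 1
      exact CommRingCat.hom_ext (RingHom.ext fun c => φ.commutes c))
  haveI : IsLocalHom φ.toAlgHom.toRingHom :=
    ⟨fun a ha => by
      by_contra h
      exact ha.ne_zero (by rw [not_not.1 (mt isUnit_iff_ne_zero.2 h)]; exact map_zero φ)⟩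
  have hgη : g (genericPoint _) = genericPoint C := by
    have h := congr($hg' (IsLocalRing.closedPoint _))
    simp only [Scheme.Hom.comp_apply, Scheme.fromSpecStalk_closedPoint] at h
    rw [h]
    refine Eq.trans ?_ Scheme.fromSpecStalk_closedPoint
    congr 1
    exact IsLocalRing.comap_closedPoint _
  have hfm : CommRingCat.ofHom (Groth.Curves1.FrobTwist.fieldMap g hgη) = CommRingCat.ofHom φ.toAlgHom.toRingHom := by
    apply Spec.map_injective
    rw [← cancel_mono (C.fromSpecStalk (genericPoint C)), Groth.Curves1.FrobTwist.fromSpecStalk_generic_comp, hg']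
    rfl
  have hiso : IsIso (g.stalkMap (genericPoint _)) := by
    haveI hb : IsIso (CommRingCat.ofHom (Groth.Curves1.FrobTwist.fieldMap g hgη)) := by
      rw [hfm, ConcreteCategory.isIso_iff_bijective]; exact φ.bijective
    haveI : IsIso (C.presheaf.stalkSpecializes (specializes_of_eq hgη) ≫ g.stalkMap (genericPoint _)) := hb
    haveI : IsIso (C.presheaf.stalkSpecializes (specializes_of_eq hgη)) :=
      ⟨C.presheaf.stalkSpecializes (specializes_of_eq hgη.symm), by simp, by simp⟩
    exact IsIso.of_isIso_comp_left (C.presheaf.stalkSpecializes (specializes_of_eq hgη)) _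
  have hgenP : genericPoint (CohB1.ProjSpace 1 k) ∈ Groth.PropsBasic.BirationalGeneric.gen (CohB1.ProjSpace 1 k) := by
    show closure {genericPoint (CohB1.ProjSpace 1 k)} ∈ irreducibleComponents _
    rw [genericPoint_closure, irreducibleComponents_eq_singleton]
    rfl
  have hgenC : g (genericPoint _) ∈ Groth.PropsBasic.BirationalGeneric.gen C := by
    show closure {g (genericPoint _)} ∈ irreducibleComponents _
    rw [hgη, genericPoint_closure, irreducibleComponents_eq_singleton]
    rfl
  haveI : LocallyOfFiniteType (g ≫ (C ↘ Spec (CommRingCat.of k))) := by rw [hg]; infer_instance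
  haveI : LocallyOfFiniteType g := locallyOfFiniteType_of_comp g (C ↘ Spec (CommRingCat.of k))
  have hgenP' : ∀ x ∈ Groth.PropsBasic.BirationalGeneric.gen (CohB1.ProjSpace 1 k), IsIso (g.stalkMap x) := by
    intro x hx
    have : x = genericPoint _ := by
      have h1 : closure {x} = closure {genericPoint (CohB1.ProjSpace 1 k)} := by
        rw [genericPoint_closure]
        have hx' : closure {x} ∈ irreducibleComponents _ := hx
        rw [irreducibleComponents_eq_singleton] at hx'
        exact hx'
      exact Inseparable.eq (inseparable_iff_closure_eq.2 h1)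
    rw [this]; exact hiso
  obtain ⟨U, hU, hUi⟩ := Groth.PropsBasic.BirationalGeneric.exists_isOpenImmersion_of_isReduced g
    hgenP' (by rw [irreducibleComponents_eq_singleton]; exact Set.finite_singleton _)
    hgenP hgenC
  refine ⟨(U.ι ≫ g).opensRange, U, (Scheme.Hom.isoOpensRange (U.ι ≫ g)).symm,
    ⟨⟨_, ⟨⟨_, hU⟩, rfl⟩⟩⟩, ?_⟩
  simp only [Iso.symm_hom]
  rw [Iso.inv_comp_eq, Scheme.Hom.isoOpensRange_hom_ι_assoc, Category.assoc, hg, hP]


/-- Let k be an algebraically closed field and C ⊆ P^n_k a closed subscheme which is an integral scheme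
of dimension one (a projective curve). Then C is rational — some nonempty open subscheme of C is
isomorphic over k to an open subscheme of the projective line P^1_k — if and only if C is the
scheme-theoretic image of some k-morphism f : P^1_k → P^n_k, i.e. the ideal sheaf of C in P^n_k is
the kernel ideal sheaf of f. -/
theorem result
    {k : Type u} [Field k] [IsAlgClosed k] {n : ℕ} (C : Scheme.{u})
    (i : C ⟶ CohB1.ProjSpace n k) [IsClosedImmersion i] [IsIntegral C]
    (hdim : topologicalKrullDim C = 1) :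
    (∃ (U : C.Opens) (V : (CohB1.ProjSpace 1 k).Opens) (e : (↑U : Scheme.{u}) ≅ ↑V),
        Nonempty U ∧
          e.hom ≫ V.ι ≫ CohB1.ProjSpace.toSpec 1 k = U.ι ≫ i ≫ CohB1.ProjSpace.toSpec n k) ↔
      ∃ f : CohB1.ProjSpace 1 k ⟶ CohB1.ProjSpace n k,
        f ≫ CohB1.ProjSpace.toSpec n k = CohB1.ProjSpace.toSpec 1 k ∧ f.ker = i.ker := by
  classical
  letI : C.Over (Spec (CommRingCat.of k)) := ⟨i ≫ CohB1.ProjSpace.toSpec n k⟩
  letI : (CohB1.ProjSpace 1 k).Over (Spec (CommRingCat.of k)) := ⟨CohB1.ProjSpace.toSpec 1 k⟩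
  haveI : IsProper (CohB1.ProjSpace 1 k ↘ Spec (CommRingCat.of k)) :=
    inferInstanceAs (IsProper (CohB1.ProjSpace.toSpec 1 k))
  haveI : IsProper (C ↘ Spec (CommRingCat.of k)) :=
    inferInstanceAs (IsProper (i ≫ CohB1.ProjSpace.toSpec n k))
  haveI : IsLocallyNoetherian (CohB1.ProjSpace 1 k) :=
    LocallyOfFiniteType.isLocallyNoetherian (CohB1.ProjSpace 1 k ↘ Spec (CommRingCat.of k))
  haveI : CompactSpace ↥(CohB1.ProjSpace 1 k) :=
    QuasiCompact.compactSpace_of_compactSpace (CohB1.ProjSpace.toSpec 1 k)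
  constructor
  · rintro ⟨U, V, e, hUne, he⟩
    haveI := hUne
    haveI : Nonempty (U : Scheme) := hUne
    haveI : Nonempty (V : Scheme) := ⟨e.hom (Classical.arbitrary _)⟩
    haveI : IsIntegral (V : Scheme) := isIntegral_of_isOpenImmersion V.ι
    have hηV : genericPoint (CohB1.ProjSpace 1 k) ∈ V :=
      ((genericPoint_spec _).mem_open_set_iff V.isOpen).2
        (by simpa using ⟨(Classical.arbitrary (V : Scheme)).1, (Classical.arbitrary (V : Scheme)).2⟩)
    obtain ⟨g, hg, hg'⟩ := Groth.Curves1.FrobTwist.exists_hom_of_spec (isNormal_projLine k) (dim_projLine k).le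
      (CohB1.ProjSpace 1 k ↘ Spec (CommRingCat.of k)) (C ↘ Spec (CommRingCat.of k))
      (V.fromSpecStalkOfMem _ hηV ≫ e.inv ≫ U.ι) (by
        have he' : e.inv ≫ U.ι ≫ (C ↘ Spec (CommRingCat.of k)) = V.ι ≫ CohB1.ProjSpace.toSpec 1 k :=
          (Iso.inv_comp_eq e).2 he.symm
        rw [Category.assoc, Category.assoc, he', Scheme.Opens.fromSpecStalkOfMem_ι_assoc]
        rfl)
    have hgη : g (genericPoint _) = genericPoint C := by
      have h := congr($hg' (IsLocalRing.closedPoint _))
      simp only [Scheme.Hom.comp_apply, Scheme.fromSpecStalk_closedPoint] at h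
      rw [h]
      have hv : V.fromSpecStalkOfMem _ hηV (IsLocalRing.closedPoint _) = genericPoint (V : Scheme) := by
        apply V.ι.isOpenEmbedding.injective
        rw [genericPoint_eq_of_isOpenImmersion V.ι]
        exact congr($(Scheme.Opens.fromSpecStalkOfMem_ι V _ hηV) (IsLocalRing.closedPoint _)).trans
          Scheme.fromSpecStalk_closedPoint
      rw [hv]
      exact genericPoint_eq_of_isOpenImmersion (e.inv ≫ U.ι)
    haveI : IsDominant g := ⟨dense_iff_closure_eq.2 (Set.univ_subset_iff.1 (by
      rw [← genericPoint_closure]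
      exact closure_mono (Set.singleton_subset_iff.2 ⟨_, hgη⟩)))⟩
    haveI : QuasiCompact g := QuasiCompact.of_comp g (C ↘ Spec (CommRingCat.of k))
    refine ⟨g ≫ i, by rw [Category.assoc]; exact hg, ?_⟩
    refine le_antisymm ?_ (g.le_ker_comp i)
    have hbot : g.ker = ⊥ := ((isSchemeTheoreticallyDominant_iff_isDominant _).2 ‹_›).ker_eq_bot
    rw [Scheme.Hom.ker_comp, hbot, Scheme.IdealSheafData.map_bot]
  · rintro ⟨f, hf, hker⟩
    let g := IsClosedImmersion.lift i f hker.ge
    have hgi : g ≫ i = f := IsClosedImmersion.lift_fac _ _ _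
    haveI : IsProper f := by
      haveI : IsProper (f ≫ CohB1.ProjSpace.toSpec n k) := by rw [hf]; infer_instance
      exact IsProper.of_comp f (CohB1.ProjSpace.toSpec n k)
    have hsupp : closure (Set.range f) = Set.range i := by
      rw [← Scheme.Hom.support_ker f, hker, Scheme.Hom.support_ker i, i.isClosedEmbedding.isClosed_range.closure_eq]
    have hgη : g (genericPoint _) = genericPoint C := by
      apply i.isClosedEmbedding.injective
      rw [← Scheme.Hom.comp_apply, hgi]
      have h1 : IsGenericPoint (f (genericPoint _)) (closure (Set.range f)) := by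
        have h := (genericPoint_spec (CohB1.ProjSpace 1 k)).image f.continuous
        rwa [Set.image_univ] at h
      have h2 : IsGenericPoint (i (genericPoint C)) (closure (Set.range i)) := by
        have h := (genericPoint_spec C).image i.continuous
        rwa [Set.image_univ] at h
      rw [hsupp] at h1
      rw [i.isClosedEmbedding.isClosed_range.closure_eq] at h2
      exact h1.eq h2
    obtain ⟨φ⟩ := fieldEquiv_of_dominant k rfl hdim g (by
      show g ≫ i ≫ CohB1.ProjSpace.toSpec n k = _
      rw [← Category.assoc, hgi, hf]) hgη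
    exact openIso_of_fieldEquiv k rfl φ

end Groth.Agent.S17085
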