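import Groth.Statements.S17086
import Groth.Agent.Misc15.P1Stalk
import Groth.Agent.PnCoh.OverAffine
import Groth.Agent.BlowUpBasics.Universal
import Groth.Agent.HTopHyper.BlowUpProper

set_option autoImplicit false
universe u
open CategoryTheory CategoryTheory.Limits AlgebraicGeometry
open RatCurve

namespace Groth.Agent.S17086

/-- Let k be an algebraically closed field, X a closed subscheme of P^n_k, Z ⊆ X a closed subscheme and
σ : B → X a blow-up of X along Z (the inverse image ideal of Z is effective Cartier and σ is final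
with this property). Then every k-morphism f : P^1_k → X whose image is not contained in Z lifts
uniquely along σ: there is exactly one morphism g : P^1_k → B with g ≫ σ = f. Equivalently, over the
open locus of morphisms meeting X ∖ Z, the morphism Mor(P^1_k, B) → Mor(P^1_k, X) induced by σ is a
bijection on k-points. -/
theorem result
    {k : Type u} [Field k] [IsAlgClosed k] {n : ℕ} (X : Scheme.{u})
    (c : X ⟶ CohB1.ProjSpace n k) [IsClosedImmersion c]
    (Z : Scheme.{u}) (iZ : Z ⟶ X) [IsClosedImmersion iZ]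
    (B : Scheme.{u}) (σ : B ⟶ X) (hσ : BlowUp.IsBlowUp σ iZ.ker)
    (f : CohB1.ProjSpace 1 k ⟶ X)
    (hf : f ≫ c ≫ CohB1.ProjSpace.toSpec n k = CohB1.ProjSpace.toSpec 1 k)
    (hfZ : ¬ Set.range f ⊆ Set.range iZ) :
    ∃! g : CohB1.ProjSpace 1 k ⟶ B, g ≫ σ = f := by
  classical
  let P := CohB1.ProjSpace 1 k
  have : Nonempty ↥P := ⟨(Groth.PnCoh.overIso 1 k).inv (genericPoint _)⟩
  have : IsIntegral P := isIntegral_of_isOpenImmersion (Groth.PnCoh.overIso 1 k).hom
  have : IsLocallyNoetherian X :=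
    LocallyOfFiniteType.isLocallyNoetherian (c ≫ CohB1.ProjSpace.toSpec n k)
  have : IsProper σ := Groth.HTopHyper.isProper_of_isBlowUp hσ
    (fun U => by
      have := IsLocallyNoetherian.component_noetherian U
      exact IsNoetherian.noetherian _)
  let sC : P ⟶ Spec (CommRingCat.of k) := CohB1.ProjSpace.toSpec 1 k
  let sX : B ⟶ Spec (CommRingCat.of k) := σ ≫ c ≫ CohB1.ProjSpace.toSpec n k
  have : IsProper sX := by
    show IsProper (σ ≫ c ≫ CohB1.ProjSpace.toSpec n k)
    infer_instance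
  -- the complement of the centre
  let V : X.Opens := (iZ.ker.support).compl
  have hV : Disjoint (iZ.ker.support : Set X) (V : Set X) := disjoint_compl_right
  have hsupp : (iZ.ker.support : Set X) = Set.range iZ := by
    rw [Scheme.Hom.support_ker, iZ.isClosedEmbedding.isClosed_range.closure_eq]
  have := Groth.BlowUpBasics.isIso_morphismRestrict hσ V hV
  have hne : ((f ⁻¹ᵁ V : P.Opens) : Set P).Nonempty := by
    by_contra h
    rw [Set.not_nonempty_iff_eq_empty] at h
    refine hfZ ?_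
    rintro _ ⟨p, rfl⟩
    by_contra hp
    have : p ∈ ((f ⁻¹ᵁ V : P.Opens) : Set P) := by
      show f p ∉ (iZ.ker.support : Set X)
      rw [hsupp]; exact hp
    rw [h] at this
    exact this
  let g₀ : P.PartialMap B :=
    { domain := f ⁻¹ᵁ V
      dense_domain := (f ⁻¹ᵁ V).2.dense hne
      hom := (f ∣_ V) ≫ inv (σ ∣_ V) ≫ (σ ⁻¹ᵁ V).ι }
  have hg₀σ : g₀.hom ≫ σ = (f ⁻¹ᵁ V).ι ≫ f := by
    show ((f ∣_ V) ≫ inv (σ ∣_ V) ≫ (σ ⁻¹ᵁ V).ι) ≫ σ = _
    rw [Category.assoc, Category.assoc, ← morphismRestrict_ι σ V, IsIso.inv_hom_id_assoc,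
      morphismRestrict_ι]
  have hg₀ : g₀.hom ≫ sX = g₀.domain.ι ≫ sC := by
    show g₀.hom ≫ σ ≫ c ≫ CohB1.ProjSpace.toSpec n k = _
    rw [← Category.assoc, hg₀σ, Category.assoc]
    exact congrArg ((f ⁻¹ᵁ V).ι ≫ ·) hf
  have hdom : g₀.toRationalMap.domain = ⊤ := top_le_iff.1 fun p _ => by
    have : PreValuationRing (P.presheaf.stalk p) := by
      have := Groth.Misc15.P1Stalk.valuationRing_stalk_P1 k ((Groth.PnCoh.overIso 1 k).hom p)
      exact Function.Surjective.preValuationRing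
        (f := ((Groth.PnCoh.overIso 1 k).hom.stalkMap p).hom.toMonoidWithZeroHom.toMulHom)
        (ConcreteCategory.bijective_of_isIso ((Groth.PnCoh.overIso 1 k).hom.stalkMap p)).2
    exact Groth.Misc15.P1Stalk.mem_domain_of_preValuationRing sC sX g₀ hg₀ p
  have : B.IsSeparated := ⟨by
    have : IsSeparated (sX ≫ terminal.from _) := inferInstance
    rwa [terminal.comp_from] at this⟩
  let G := g₀.toRationalMap.toPartialMap
  have hGd : G.domain = ⊤ := hdom
  let g : P ⟶ B := P.topIso.inv ≫ (P.isoOfEq hGd).inv ≫ G.hom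
  have hequiv : G.equiv g₀ := Scheme.PartialMap.toRationalMap_eq_iff.1
    g₀.toRationalMap.toRationalMap_toPartialMap
  obtain ⟨W, hWd, hW1, hW2, hWeq⟩ := hequiv
  have hι : W.ι ≫ g = P.homOfLE hW2 ≫ g₀.hom := by
    refine Eq.trans ?_ hWeq
    show W.ι ≫ P.topIso.inv ≫ (P.isoOfEq hGd).inv ≫ G.hom = P.homOfLE hW1 ≫ G.hom
    rw [← Category.assoc, ← Category.assoc]
    congr 1
    rw [← cancel_mono G.domain.ι]
    simp [Scheme.isoOfEq_inv_ι]
  have : IsDominant W.ι := ⟨by
    show Dense (Set.range W.ι)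
    rw [Scheme.Opens.range_ι]; exact hWd⟩
  have hgσ : g ≫ σ = f := by
    have : X.IsSeparated := ⟨by
      have : IsSeparated ((c ≫ CohB1.ProjSpace.toSpec n k) ≫ terminal.from _) := inferInstance
      rwa [terminal.comp_from] at this⟩
    refine ext_of_isDominant W.ι ?_
    rw [← Category.assoc, hι, Category.assoc, hg₀σ, ← Category.assoc, Scheme.homOfLE_ι]
  refine ⟨g, hgσ, fun g' hg' => ?_⟩
  have : IsDominant (f ⁻¹ᵁ V).ι := ⟨by
    show Dense (Set.range (f ⁻¹ᵁ V).ι)
    rw [Scheme.Opens.range_ι]; exact g₀.dense_domain⟩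
  refine ext_of_isDominant (f ⁻¹ᵁ V).ι ?_
  have key : ∀ h : P ⟶ B, h ≫ σ = f → (f ⁻¹ᵁ V).ι ≫ h = (f ∣_ V) ≫ inv (σ ∣_ V) ≫ (σ ⁻¹ᵁ V).ι := by
    intro h hh
    have hr : Set.range ((f ⁻¹ᵁ V).ι ≫ h) ⊆ Set.range (σ ⁻¹ᵁ V).ι := by
      rintro _ ⟨p, rfl⟩
      rw [Scheme.Opens.range_ι]
      show σ (((f ⁻¹ᵁ V).ι ≫ h) p) ∈ V
      rw [← Scheme.Hom.comp_apply, Category.assoc, hh]
      exact p.2
    rw [← IsOpenImmersion.lift_fac (σ ⁻¹ᵁ V).ι _ hr, ← Category.assoc (f ∣_ V)]
    congr 1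
    rw [IsIso.eq_comp_inv, ← cancel_mono V.ι, Category.assoc, morphismRestrict_ι,
      IsOpenImmersion.lift_fac_assoc, Category.assoc, hh, morphismRestrict_ι]
  rw [key g' hg', key g hgσ]

end Groth.Agent.S17086
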