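import Groth.Statements.S17088
import Groth.Agent.SchemeMorphisms.MorSch.HilbOpen
-- import your own Groth.Agent.* helpers here

set_option autoImplicit false
universe u
open CategoryTheory CategoryTheory.Limits AlgebraicGeometry
open MorSch

namespace Groth.Agent.S17088

/-- Let f : X → S be a separated morphism, ι : W → X an immersion and T an S-scheme. For every closed
subscheme V of W ×_S T which is proper and flat over T — a T-point of the Hilbert functor of W over
S — the composite V → W ×_S T → X ×_S T is a closed immersion, and the map sending V to the ideal
sheaf of this composite, from T-points of the Hilbert functor of W to ideal sheaves on X ×_S T, is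
injective: an immersion induces a monomorphism of Hilbert functors. -/
theorem result
    {W X S : Scheme.{u}} (f : X ⟶ S) [IsSeparated f] (ι : W ⟶ X) [IsImmersion ι]
    (T : Over S) :
    (∀ V : FGA.HilbSet (ι ≫ f) T,
      IsClosedImmersion (V.1.subschemeι ≫ pullback.map (ι ≫ f) T.hom f T.hom ι (𝟙 T.left) (𝟙 S)
          (Category.comp_id _) ((Category.comp_id _).trans (Category.id_comp _).symm))) ∧
    Function.Injective (fun V : FGA.HilbSet (ι ≫ f) T =>
      (V.1.subschemeι ≫ pullback.map (ι ≫ f) T.hom f T.hom ι (𝟙 T.left) (𝟙 S)
          (Category.comp_id _) ((Category.comp_id _).trans (Category.id_comp _).symm)).ker) := by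
  exact ⟨fun V => Groth.MorSchAux.isClosedImmersion_comp_xtIncl f ι T V,
    Groth.MorSchAux.injective_comp_xtIncl f ι T⟩

end Groth.Agent.S17088
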