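import Groth.Statements.S17091
import Groth.Agent.URad.Apply

set_option autoImplicit false
universe u
open CategoryTheory MonoidalCategory CartesianMonoidalCategory MonObj GrpObj AlgebraicGeometry
open AGF

namespace Groth.Agent.S17091

/-- Let k be an algebraically closed field, G an affine, smooth, connected k-group scheme, u : U ⟶ G its
unipotent radical (the largest normal closed subgroup scheme of G, smooth and quasi-compact over k,
whose geometric fibre is connected and contains no non-trivial subtorus), B a Borel subgroup of G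
and v : V ⟶ B the unipotent radical of B. Then U is contained in V: u factors through v. -/
theorem result (k : Type u) [Field k] [IsAlgClosed k]
    (G : Over (Spec (CommRingCat.of k))) [GrpObj G] [IsAffine G.left] [Smooth G.hom] [ConnectedSpace ↥G.left]
    (U : Over (Spec (CommRingCat.of k))) [GrpObj U] (u : U ⟶ G) (hU : Par.IsUnipotentRadical u)
    (B : Over (Spec (CommRingCat.of k))) [GrpObj B] (iB : B ⟶ G) (hB : Red.IsBorelOver k iB)
    (V : Over (Spec (CommRingCat.of k))) [GrpObj V] (v : V ⟶ B) (hV : Par.IsUnipotentRadical v) :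
    ∃ f : U ⟶ V, f ≫ v ≫ iB = u := by
  obtain ⟨hm, hci, hn, hs, hc, hu, -⟩ := (Groth.URad.isUnipotentRadical_iff u).1 hU
  have := hm; have := hci; have := hs; have := hc
  obtain ⟨f, hf⟩ := Groth.URad.exists_le_borel u hn hu hB
  obtain ⟨hmB, hciB, hsB, -⟩ := hB
  have := hmB; have := hciB; have := hsB
  have : IsAffine B.left := isAffine_of_isAffineHom iB.left
  have : Mono iB := Over.mono_of_mono_left iB
  obtain ⟨-, -, -, -, -, -, hmax⟩ := (Groth.URad.isUnipotentRadical_iff v).1 hV
  have : IsMonHom (f ≫ iB) := by rw [hf]; exact hm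
  have := Groth.URad.isMonHom_of_comp_mono f iB
  have : IsClosedImmersion (f.left ≫ iB.left) := by rw [← Over.comp_left, hf]; exact hci
  obtain ⟨φ, hφ⟩ := hmax U f (IsClosedImmersion.of_comp f.left iB.left) hs hc
    (Groth.URad.isNormalHom_of_le f iB (by rw [hf]; exact hn)) hu
  exact ⟨φ, by rw [← Category.assoc, hφ, hf]⟩

end Groth.Agent.S17091
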