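import Groth.Statements.S17095
import Groth.Agent.Agf2.TorusGen

set_option autoImplicit false
universe u
open CategoryTheory MonoidalCategory CartesianMonoidalCategory MonObj GrpObj AlgebraicGeometry
open AGF

namespace Groth.Agent.S17095

/-- Let k be a separably closed field, G a reductive k-group scheme and z : Z ⟶ G its centre. Then Z is
the scheme-theoretic intersection of the maximal k-tori of G: for every k-scheme X and every
X-valued point g of G, g factors through Z if and only if g factors through the inclusion of every
maximal torus of G. -/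
theorem result (k : Type u) [Field k] [IsSepClosed k]
    (G : Over (Spec (CommRingCat.of k))) [GrpObj G] (hG : Red.IsReductive G)
    (Z : Over (Spec (CommRingCat.of k))) [GrpObj Z] (z : Z ⟶ G) (hz : Red.IsCentre z)
    (X : Over (Spec (CommRingCat.of k))) (g : X ⟶ G) :
    (∃ c : X ⟶ Z, c ≫ z = g) ↔
      ∀ (T : Over (Spec (CommRingCat.of k))) [GrpObj T] (iT : T ⟶ G), Red.IsMaximalTorus iT → ∃ t : X ⟶ T, t ≫ iT = g := by
  constructor
  · rintro ⟨c, rfl⟩ T _ iT hT
    obtain ⟨f, hf⟩ := Groth.Agf2.RedCent.centre_le_maxTorus hG hz hT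
    exact ⟨c ≫ f, by rw [Category.assoc, hf]⟩
  · intro h
    haveI := (Groth.Agf2.RedCent.reductive_props hG).1
    refine (hz.2.2 X g).2 fun X' x y => ?_
    have key : (fst X G ≫ g) * snd X G = snd X G * (fst X G ≫ g) :=
      Groth.Agf2.TorusGen.eq_of_forall_maximalTorus hG _ _ fun T _ iT hT => by
        haveI := hT.1
        obtain ⟨t, ht⟩ := h T iT hT
        simp only [MonObj.comp_mul, whiskerLeft_fst_assoc, whiskerLeft_snd]
        rw [← ht, ← Category.assoc]
        exact Groth.Agf2.RedCent.torus_comm hT.2.2.1 _ _
    have h1 := congrArg (lift x y ≫ ·) key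
    simpa [MonObj.comp_mul] using h1

end Groth.Agent.S17095
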