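import Groth.Statements.S1714
import Groth.Agent.SuppCx.DegreeHeight
import Groth.Agent.DualCore.FlatRadical
import Groth.Agent.Calg1.Completion
import Groth.Agent.AdicLinTop.CompletionQuot
import Mathlib
import Groth.Agent.DualCore.FiniteHomUnbounded
import Mathlib.RingTheory.AdicCompletion.AsTensorProduct
import Groth.Agent.LocCohBase.CM
import Groth.Agent.LocCohBase.DepthLocal

set_option autoImplicit false
universe u
open CategoryTheory
attribute [local instance] HasDerivedCategory.standard
open LocCoh

namespace Groth.Agent.S1714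

open Groth.DualCore TensorProduct DerivedCategory

theorem support_tensor {R R' : Type u} [CommRing R] [CommRing R'] [Algebra R R'] (M : Type*) [AddCommGroup M] [Module R M] [Module.Finite R M] : Module.support R' (R' ⊗[R] M) = PrimeSpectrum.comap (algebraMap R R') ⁻¹' Module.support R M := by
  ext q
  rw [Module.mem_support_iff_nontrivial_residueField_tensorProduct, Set.mem_preimage,
    Module.mem_support_iff_nontrivial_residueField_tensorProduct]
  let K := q.asIdeal.ResidueField
  let k := (PrimeSpectrum.comap (algebraMap R R') q).asIdeal.ResidueField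
  rw [(TensorProduct.AlgebraTensorModule.cancelBaseChange R R' K K M).nontrivial_congr]
  letI : Algebra k K := (Ideal.ResidueField.mapₐ (PrimeSpectrum.comap (algebraMap R R') q).asIdeal q.asIdeal (Algebra.ofId R R') rfl).toRingHom.toAlgebra
  haveI : IsScalarTower R k K := IsScalarTower.of_algebraMap_eq fun r => (AlgHom.commutes _ r).symm
  rw [← (TensorProduct.AlgebraTensorModule.cancelBaseChange R k K K M).nontrivial_congr]
  constructor
  · intro h
    by_contra hc
    rw [not_nontrivial_iff_subsingleton] at hc
    exact (not_nontrivial_iff_subsingleton.2 (inferInstance : Subsingleton (K ⊗[k] (k ⊗[R] M)))) h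
  · intro h; exact inferInstance


variable {A : Type u} [CommRing A] [IsNoetherianRing A] {B : Type u} [CommRing B] [IsNoetherianRing B]
  [Algebra A B] [Module.Flat A B] {ω : Dual.D A} (hω : Dual.IsDualizing A ω)
  (hω' : Dual.IsDualizing B ((extD A B).obj ω))

include hω in
theorem vanish_of_pos (p : PrimeSpectrum A) (M : Type u) [AddCommGroup M] [Module A M] [Module.Finite A M]
    (m : ℤ) (hm : degree hω p < m) : p ∉ Module.support A (Dual.inD A M ⟶ ω⟦m⟧) := by
  rw [Module.notMem_support_iff]
  by_contra hc
  rw [not_subsingleton_iff_nontrivial, nontrivial_localized_hom_iff p.asIdeal hω M,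
    ← nontrivial_shift_iff _ _ (degree hω p) m (m - degree hω p) (by omega)] at hc
  haveI : IsNoetherianRing (Localization.AtPrime p.asIdeal) :=
    IsLocalization.isNoetherianRing p.asIdeal.primeCompl _ inferInstance
  have hω' := isDualizing_shift (isDualizing_atPrime p.asIdeal hω) (degree hω p)
  obtain ⟨a, ha⟩ := exists_isGE hω'
  haveI : Module.Finite (Localization.AtPrime p.asIdeal)
      (TensorProduct A (Localization.AtPrime p.asIdeal) M) := inferInstance
  exact not_subsingleton _ (subsingleton_hom_of_pos
    (((extD A (Localization.AtPrime p.asIdeal)).obj ω)⟦degree hω p⟧) a hω'.finite_cohomology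
    (isNormalized_degree hω p) (TensorProduct A (Localization.AtPrime p.asIdeal) M) (m - degree hω p) (by omega))

include hω in
theorem le_depth_iff_support (p : PrimeSpectrum A) (M : Type u) [AddCommGroup M] [Module A M] [Module.Finite A M]
    (k : ℕ) :
    (k : ℕ∞) ≤ LocCoh.depth (Localization.AtPrime p.asIdeal) (LocalizedModule p.asIdeal.primeCompl M) ↔
      ∀ δ : ℕ, δ < k → p ∉ Module.support A (Dual.inD A M ⟶ ω⟦degree hω p - δ⟧) := by
  rw [Groth.SuppCx.le_depth_localized_iff hω M p k]
  simp only [Module.notMem_support_iff']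

include hω in
theorem mem_support_hom (P : PrimeSpectrum B) (M : Type u) [AddCommGroup M] [Module A M] [Module.Finite A M]
    {M' : Type u} [AddCommGroup M'] [Module B M'] (e : M' ≃ₗ[B] B ⊗[A] M) (m : ℤ) :
    P ∈ Module.support B (Dual.inD B M' ⟶ ((extD A B).obj ω)⟦m⟧) ↔
      PrimeSpectrum.comap (algebraMap A B) P ∈ Module.support A (Dual.inD A M ⟶ ω⟦m⟧) := by
  obtain ⟨a', b', hab⟩ := hω.finite_injective_dimension
  obtain ⟨r⟩ := exists_injRep ω a' b' hab
  haveI := finite_hom_of_injRep r (fun i => finite_HD_inD M i) hω.finite_cohomology m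
  obtain ⟨a, b, ha, -⟩ := exists_bounds hω
  let f := (Linear.homCongr B ((singleFunctor (ModuleCat.{u} B) 0).mapIso e.toModuleIso)
    (Iso.refl (((extD A B).obj ω)⟦m⟧))).trans (extHomInDEquiv (B := B) M ω a m).symm
  have h : Module.support B (Dual.inD B M' ⟶ ((extD A B).obj ω)⟦m⟧) =
      PrimeSpectrum.comap (algebraMap A B) ⁻¹' Module.support A (Dual.inD A M ⟶ ω⟦m⟧) :=
    by
      refine f.support_eq.trans ?_
      exact support_tensor (R := A) (R' := B) (Dual.inD A M ⟶ ω⟦m⟧)
  exact Set.ext_iff.1 h P

include hω hω' in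
/-- Depth of a flat base change through the degrees. -/
theorem depth_shift (P : PrimeSpectrum B) (M : Type u) [AddCommGroup M] [Module A M] [Module.Finite A M]
    {M' : Type u} [AddCommGroup M'] [Module B M'] (e : M' ≃ₗ[B] B ⊗[A] M) (c : ℕ)
    (hc : degree hω' P = degree hω (PrimeSpectrum.comap (algebraMap A B) P) + c) :
    LocCoh.depth (Localization.AtPrime P.asIdeal) (LocalizedModule P.asIdeal.primeCompl M') =
      LocCoh.depth (Localization.AtPrime (PrimeSpectrum.comap (algebraMap A B) P).asIdeal)
        (LocalizedModule (PrimeSpectrum.comap (algebraMap A B) P).asIdeal.primeCompl M) + c := by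
  haveI : Module.Finite B M' := Module.Finite.equiv e.symm
  set p := PrimeSpectrum.comap (algebraMap A B) P
  have key : ∀ k : ℕ, ((k + c : ℕ) : ℕ∞) ≤ LocCoh.depth (Localization.AtPrime P.asIdeal)
      (LocalizedModule P.asIdeal.primeCompl M') ↔ (k : ℕ∞) ≤ LocCoh.depth (Localization.AtPrime p.asIdeal)
      (LocalizedModule p.asIdeal.primeCompl M) := by
    intro k
    rw [le_depth_iff_support hω' P M', le_depth_iff_support hω p M]
    constructor
    · intro h δ hδ hp
      refine h (δ + c) (by omega) ((mem_support_hom hω P M e _).2 ?_)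
      rw [show degree hω' P - ((δ + c : ℕ) : ℤ) = degree hω p - δ by omega]
      exact hp
    · intro h δ hδ hP
      have hp := (mem_support_hom hω P M e _).1 hP
      rcases lt_or_ge δ c with hlt | hge
      · exact vanish_of_pos hω p M _ (by omega) hp
      · refine h (δ - c) (by omega) ?_
        rw [show degree hω p - ((δ - c : ℕ) : ℤ) = degree hω' P - δ by omega]
        exact hp
  have hc0 : (c : ℕ∞) ≤ LocCoh.depth (Localization.AtPrime P.asIdeal)
      (LocalizedModule P.asIdeal.primeCompl M') := by
    have := (key 0).2 (by simp)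
    simpa using this
  obtain ⟨d, hd⟩ := exists_add_of_le hc0
  rw [hd, add_comm]
  congr 1
  refine le_antisymm (ENat.forall_natCast_le_iff_le.1 fun n hn => (key n).1 ?_)
    (ENat.forall_natCast_le_iff_le.1 fun n hn => ?_)
  · rw [hd, Nat.cast_add, add_comm]
    exact add_le_add_right hn _
  · have h := (key n).2 hn
    rw [hd, Nat.cast_add, add_comm (n : ℕ∞)] at h
    exact (ENat.add_le_add_iff_left (ENat.natCast_ne_top c)).1 h

include hω hω' in
theorem degree_le (P : PrimeSpectrum B) :
    degree hω (PrimeSpectrum.comap (algebraMap A B) P) ≤ degree hω' P := by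
  set p := PrimeSpectrum.comap (algebraMap A B) P
  by_contra hlt
  haveI : IsNoetherianRing (Localization.AtPrime P.asIdeal) :=
    IsLocalization.isNoetherianRing P.asIdeal.primeCompl _ inferInstance
  let M' := B ⊗[A] (A ⧸ p.asIdeal)
  let N := LocalizedModule P.asIdeal.primeCompl M'
  haveI : Module.Finite (Localization.AtPrime P.asIdeal) N :=
    Module.Finite.of_isLocalizedModule P.asIdeal.primeCompl (LocalizedModule.mkLinearMap P.asIdeal.primeCompl M')
  haveI : Nontrivial N := by
    have h : P ∈ Module.support B M' := by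
      refine (Set.ext_iff.1 (support_tensor (R := A) (R' := B) (A ⧸ p.asIdeal)) P).2 ?_
      rw [Set.mem_preimage, Module.mem_support_iff_of_finite, Ideal.annihilator_quotient]
    exact h
  have htop : LocCoh.depth (Localization.AtPrime P.asIdeal) N = ⊤ := by
    refine ENat.eq_top_iff_forall_ge.2 fun k => (le_depth_iff_support hω' P M' k).2 fun δ _ hP => ?_
    have h2 := (mem_support_hom hω P (A ⧸ p.asIdeal) (LinearEquiv.refl B M') _).1 hP
    rw [Module.mem_support_iff, degree_iff hω p] at h2
    omega
  obtain ⟨n, hn⟩ := Groth.LocCohBase.exists_depth_eq (R := Localization.AtPrime P.asIdeal) N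
  exact ENat.natCast_ne_top n (hn.symm.trans htop)

include hω hω' in
theorem degree_eq_of_map_le {I : Ideal A} (Q : PrimeSpectrum B)
    (hs : Function.Surjective ((Ideal.Quotient.mk (I.map (algebraMap A B))).comp (algebraMap A B)))
    (hQ : I.map (algebraMap A B) ≤ Q.asIdeal) :
    degree hω' Q = degree hω (PrimeSpectrum.comap (algebraMap A B) Q) := by
  set q := PrimeSpectrum.comap (algebraMap A B) Q
  have hmap : q.asIdeal.map (algebraMap A B) = Q.asIdeal := by
    refine le_antisymm Ideal.map_comap_le fun x hx => ?_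
    obtain ⟨a, ha⟩ := hs (Ideal.Quotient.mk _ x)
    have hd : algebraMap A B a - x ∈ I.map (algebraMap A B) := Ideal.Quotient.eq.1 ha
    have haq : a ∈ q.asIdeal := by
      show algebraMap A B a ∈ Q.asIdeal
      have := Q.asIdeal.add_mem (hQ hd) hx
      rwa [sub_add_cancel] at this
    have hIq : I ≤ q.asIdeal := Ideal.map_le_iff_le_comap.1 hQ
    have := (q.asIdeal.map (algebraMap A B)).sub_mem (Ideal.mem_map_of_mem _ haq) (Ideal.map_mono hIq hd)
    rwa [sub_sub_cancel] at this
  let e : (B ⧸ Q.asIdeal) ≃ₗ[B] B ⊗[A] (A ⧸ q.asIdeal) :=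
    (Submodule.quotEquivOfEq _ _ hmap.symm).trans
      (Algebra.TensorProduct.quotIdealMapEquivTensorQuot B q.asIdeal).toLinearEquiv
  have h := (degree_iff hω' Q (degree hω' Q)).2 rfl
  rw [← Module.mem_support_iff, mem_support_hom hω Q (A ⧸ q.asIdeal) e, Module.mem_support_iff,
    degree_iff hω q] at h
  exact h

/-- Let A be a Noetherian ring with a dualizing complex, I an ideal, M a finite A-module, A' and M' the
I-adic completions. Let p' ⊆ q' be primes of A' with I A' ⊆ q', lying over the primes p ⊆ q of A.
Then the depth of M'_{p'} over A'_{p'} is at least the depth of M_p over A_p, and depth(M'_{p'})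
plus the dimension of the interval of primes [p', q'] equals depth(M_p) plus the dimension of [p,
q]. -/
theorem result (A : Type u) [CommRing A] [IsNoetherianRing A] (hA : ∃ ω : Dual.D A, Dual.IsDualizing A ω) (I : Ideal A) (M : Type u) [AddCommGroup M] [Module A M] [Module.Finite A M] (p' q' : PrimeSpectrum (AdicCompletion I A)) (hpq : p' ≤ q') (hq : Ideal.map (algebraMap A (AdicCompletion I A)) I ≤ q'.asIdeal) : LocCoh.depth (Localization.AtPrime (p'.asIdeal.comap (algebraMap A (AdicCompletion I A)))) (LocalizedModule (p'.asIdeal.comap (algebraMap A (AdicCompletion I A))).primeCompl M) ≤ LocCoh.depth (Localization.AtPrime p'.asIdeal) (LocalizedModule p'.asIdeal.primeCompl (AdicCompletion I M)) ∧ ((LocCoh.depth (Localization.AtPrime p'.asIdeal) (LocalizedModule p'.asIdeal.primeCompl (AdicCompletion I M)) : ℕ∞) : WithBot ℕ∞) + Order.krullDim (Set.Icc p' q') = ((LocCoh.depth (Localization.AtPrime (p'.asIdeal.comap (algebraMap A (AdicCompletion I A)))) (LocalizedModule (p'.asIdeal.comap (algebraMap A (AdicCompletion I A))).primeCompl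 M) : ℕ∞) : WithBot ℕ∞) + Order.krullDim (Set.Icc ((PrimeSpectrum.comap (algebraMap A (AdicCompletion I A))) p') ((PrimeSpectrum.comap (algebraMap A (AdicCompletion I A))) q')) := by
  obtain ⟨ω, hω⟩ := hA
  have hI : I.FG := IsNoetherian.noetherian I
  haveI : IsNoetherianRing (AdicCompletion I A) := Groth.Calg1.isNoetherianRing_adicCompletion I hI
  haveI := Groth.AdicLinTop.CompletionQuot.isAdicComplete_map I hI
  haveI : Module.Flat A (AdicCompletion I A) := inferInstance
  have hs : Function.Surjective ((Ideal.Quotient.mk (I.map (algebraMap A (AdicCompletion I A)))).comp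
      (algebraMap A (AdicCompletion I A))) := fun y => by
    obtain ⟨x, rfl⟩ := Ideal.Quotient.mk_surjective y
    obtain ⟨r, hr⟩ := Ideal.Quotient.mk_surjective (AdicCompletion.evalₐ I 1 x)
    refine ⟨r, Ideal.Quotient.eq.2 ?_⟩
    rw [← pow_one (I.map _), ← Groth.AdicLinTop.CompletionQuot.ker_evalₐ I hI 1, RingHom.mem_ker]
    simp [map_sub, Groth.AdicLinTop.CompletionQuot.evalₐ_algebraMap, hr]
  have hω' : Dual.IsDualizing (AdicCompletion I A) ((Groth.DualCore.extD A (AdicCompletion I A)).obj ω) :=
    Groth.DualCore.isDualizing_extD_of_iso_mod hω I hs (IsAdicComplete.le_jacobson_bot _)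
  have hdq := degree_eq_of_map_le hω hω' q' hs hq
  have hdp := degree_le hω hω' p'
  have key := depth_shift hω hω' p' M (AdicCompletion.ofTensorProductEquivOfFiniteNoetherian I M).symm
  set p : PrimeSpectrum A := PrimeSpectrum.comap (algebraMap A (AdicCompletion I A)) p'
  set q : PrimeSpectrum A := PrimeSpectrum.comap (algebraMap A (AdicCompletion I A)) q'
  have hpq' : p ≤ q := Ideal.comap_mono hpq
  obtain ⟨D, hD, hh⟩ := Groth.SuppCx.height_Ici_eq hω hpq'
  obtain ⟨D', hD', hh'⟩ := Groth.SuppCx.height_Ici_eq hω' hpq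
  obtain ⟨e, he⟩ := Int.le.dest hdp
  have hdepth := key e he.symm
  refine ⟨le_self_add.trans_eq hdepth.symm, ?_⟩
  rw [Groth.SuppCx.krullDim_Icc hpq, Groth.SuppCx.krullDim_Icc hpq', hh, hh']
  change ((LocCoh.depth (Localization.AtPrime p'.asIdeal) _ : ℕ∞) : WithBot ℕ∞) + _ =
    ((LocCoh.depth (Localization.AtPrime p.asIdeal) (LocalizedModule p.asIdeal.primeCompl M) : ℕ∞) : WithBot ℕ∞) + _
  rw [hdepth, ← WithBot.coe_add, ← WithBot.coe_add, add_assoc, ← Nat.cast_add]
  rw [show e + D' = D by omega]

end Groth.Agent.S1714
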