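import Groth.Statements.S17144
import Groth.Agent.Misc12.Isoc.Slope

set_option autoImplicit false
universe u v
open Isoc

namespace Groth.Agent.S17144

/-- Let k be a perfect field of characteristic p, a ∈ ℤ, W = W(k) with fraction field L, and (N, F) a
σ^a-F-isocrystal over k (N finite-dimensional over L, F a bijective σ^a-semilinear endomorphism) of
height h = dim_L N. If there is a W-lattice M in N with F^(h+1)(M) ⊆ p^(-1) · M, then (N, F) is
effective, i.e. there is a W-lattice M'' in N with F(M'') ⊆ M''. -/
theorem result (p : ℕ) [Fact p.Prime] (k : Type u) [Field k] [CharP k p] [PerfectRing k p] (a : ℤ)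
    (N : Type v) [AddCommGroup N] [Module (WittVector p k) N] [Module (FractionRing (WittVector p k)) N]
    [IsScalarTower (WittVector p k) (FractionRing (WittVector p k)) N]
    (F : N →ₛₗ[Isoc.frob p k a] N) (hF : Isoc.IsIsoc F) (h : ℕ) (hh : Module.finrank (FractionRing (WittVector p k)) N = h)
    (M : Submodule (WittVector p k) N) (hM : M.IsLattice (FractionRing (WittVector p k)))
    (hFM : Isoc.latImg F (h + 1) M ≤ Isoc.pPow (-1) M) : Isoc.IsEffective F := by
  haveI := hF.finite
  exact Groth.Misc12.Isoc.effective_of_succ_le (Groth.Misc12.Isoc.tw_frob (p := p) (k := k) a) hF.bijective.2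
    (Module.finBasisOfFinrankEq _ N hh) hM hFM

end Groth.Agent.S17144
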