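import Groth.Statements.S17145
import Groth.Agent.Misc12.Isoc.Slope

set_option autoImplicit false
universe u v
open Isoc

namespace Groth.Agent.S17145

/-- Let k be a perfect field of characteristic p, a ∈ ℤ, W = W(k) with fraction field L, and (N, F) a
σ^a-F-isocrystal over k (N finite-dimensional over L, F a bijective σ^a-semilinear endomorphism)
with first Newton slope λ₁(N, F) = lam. If r ∈ ℤ and s > 0 satisfy r/s ≤ lam, then there exists a
W-lattice M in N with F^s(M) ⊆ p^r · M. (The hypothesis is the non-strict inequality λ₁ ≥ r/s, which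
is how the lemma is applied later in the section.) -/
theorem result (p : ℕ) [Fact p.Prime] (k : Type u) [Field k] [CharP k p] [PerfectRing k p] (a : ℤ)
    (N : Type v) [AddCommGroup N] [Module (WittVector p k) N] [Module (FractionRing (WittVector p k)) N]
    [IsScalarTower (WittVector p k) (FractionRing (WittVector p k)) N]
    (F : N →ₛₗ[Isoc.frob p k a] N) (hF : Isoc.IsIsoc F) (lam : ℝ) (hlam : Isoc.IsFirstSlope F lam)
    (r : ℤ) (s : ℕ) (hs : 0 < s) (hrs : (r : ℝ) / s ≤ lam) :
    ∃ M : Submodule (WittVector p k) N, M.IsLattice (FractionRing (WittVector p k)) ∧ Isoc.latImg F s M ≤ Isoc.pPow r M := by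
  haveI := hF.finite
  have hτ := Groth.Misc12.Isoc.tw_frob (p := p) (k := k) a
  have hG := Groth.Misc12.Isoc.isFirstSlope_twist hτ hF.bijective.2 hlam (-r) s
  have hnn : (0 : ℝ) ≤ (s : ℝ) * lam + ((-r : ℤ) : ℝ) := by
    rw [div_le_iff₀ (by exact_mod_cast hs)] at hrs
    push_cast; linarith
  obtain ⟨M, hM, hle⟩ := Groth.Misc12.Isoc.effective_of_nonneg (hτ.pow s)
    (Groth.Misc12.Isoc.twist_surjective hF.bijective.2 (-r) s) (Module.finBasis _ N) hG hnn
  refine ⟨M, hM, ?_⟩
  have := Groth.Misc12.Isoc.pPow_mono r hle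
  rw [Groth.Misc12.Isoc.latImg_twist hτ, mul_one, Groth.Misc12.Isoc.pPow_pPow] at this
  simpa using this

end Groth.Agent.S17145
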