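import Groth.Statements.S17147
import Groth.Agent.Misc12.Isoc.Slope

set_option autoImplicit false
universe u v
open Isoc

namespace Groth.Agent.S17147

/-- Let k be a perfect field of characteristic p, a ∈ ℤ, W = W(k) with fraction field L, and (N, F) a
σ^a-F-isocrystal over k (N finite-dimensional over L, F a bijective σ^a-semilinear endomorphism) of
height h, with b an L-basis of N indexed by Fin h and d the p-adic order of the determinant
coefficient of F in b. If λ₁(N, F) = d/h, then there exists a W-lattice M in N with F^h(M) = p^d · M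
(so (N, F) is isoclinic of slope d/h in the lattice sense). -/
theorem result (p : ℕ) [Fact p.Prime] (k : Type u) [Field k] [CharP k p] [PerfectRing k p] (a : ℤ)
    (N : Type v) [AddCommGroup N] [Module (WittVector p k) N] [Module (FractionRing (WittVector p k)) N]
    [IsScalarTower (WittVector p k) (FractionRing (WittVector p k)) N]
    (F : N →ₛₗ[Isoc.frob p k a] N) (hF : Isoc.IsIsoc F)
    (h : ℕ) (b : Module.Basis (Fin h) (FractionRing (WittVector p k)) N)
    (d : ℤ) (hd : Isoc.IsOrdP (Isoc.detCoeff b F) d)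
    (hlam : Isoc.IsFirstSlope F ((d : ℝ) / h)) :
    ∃ M : Submodule (WittVector p k) N, M.IsLattice (FractionRing (WittVector p k)) ∧ Isoc.latImg F h M = Isoc.pPow d M := by
  haveI := Groth.Misc12.Isoc.nontrivial_of_isFirstSlope hlam
  have hh := Groth.Misc12.Isoc.height_pos b
  have hτ := Groth.Misc12.Isoc.tw_frob (p := p) (k := k) a
  have hG := Groth.Misc12.Isoc.isFirstSlope_twist hτ hF.bijective.2 hlam (-d) h
  have hnn : (0 : ℝ) ≤ (h : ℝ) * ((d : ℝ) / h) + ((-d : ℤ) : ℝ) := by
    rw [mul_div_cancel₀ _ (by exact_mod_cast hh.ne')]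
    simp
  obtain ⟨M, hM, hle⟩ := Groth.Misc12.Isoc.effective_of_nonneg (hτ.pow h)
    (Groth.Misc12.Isoc.twist_surjective hF.bijective.2 (-d) h) b hG hnn
  refine ⟨M, hM, Groth.Misc12.Isoc.latImg_eq_of_mul_eq b hτ hd hM ?_ (mul_comm _ _)⟩
  have := Groth.Misc12.Isoc.pPow_mono d hle
  rw [Groth.Misc12.Isoc.latImg_twist hτ, mul_one, Groth.Misc12.Isoc.pPow_pPow] at this
  simpa using this

end Groth.Agent.S17147
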