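import Groth.Statements.S1715
import Groth.Agent.SuppCx.DegreeHeight
import Groth.Agent.DualCore.FiniteHomUnbounded
import Groth.Agent.Ega4Algebra1.SuppLoc

set_option autoImplicit false
universe u
open CategoryTheory
attribute [local instance] HasDerivedCategory.standard
open LocCoh

namespace Groth.Agent.S1715

open Groth.DualCore Groth.SuppCx

variable {A : Type u} [CommRing A] [IsNoetherianRing A] (M : Type u) [AddCommGroup M] [Module A M]
  [Module.Finite A M]

theorem le_supportDim_localized {ω : Dual.D A} (hω : Dual.IsDualizing A ω) {P p : PrimeSpectrum A}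
    (hP : P ∈ Module.support A M) (hPp : P ≤ p) (n : ℕ) (hn : degree hω P + n ≤ degree hω p) :
    (n : WithBot ℕ∞) ≤ Module.supportDim (Localization.AtPrime p.asIdeal) (LocalizedModule p.asIdeal.primeCompl M) := by
  obtain ⟨D, hD, s, hs1, hs2, hs3⟩ := exists_chain_degree hω p P hPp
  let e := IsLocalization.AtPrime.primeSpectrumOrderIso (Localization.AtPrime p.asIdeal) p.asIdeal
  have hle : ∀ i, s i ≤ p := fun i => (s.monotone (Fin.le_last i)).trans hs2.le
  let g : Fin (s.length + 1) → PrimeSpectrum (Localization.AtPrime p.asIdeal) := fun i => e.symm ⟨s i, hle i⟩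
  have hg : ∀ i, g i ∈ Module.support (Localization.AtPrime p.asIdeal) (LocalizedModule p.asIdeal.primeCompl M) := by
    intro i
    rw [Groth.Ega4Algebra1.mem_support_localizedModule_iff]
    have h1 : PrimeSpectrum.comap (algebraMap A (Localization.AtPrime p.asIdeal)) (g i) = s i :=
      congrArg Subtype.val (e.apply_symm_apply ⟨s i, hle i⟩)
    rw [h1]
    exact Module.mem_support_mono (hs1 ▸ s.head_le i) hP
  let t : LTSeries ↥(Module.support (Localization.AtPrime p.asIdeal) (LocalizedModule p.asIdeal.primeCompl M)) :=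
    LTSeries.mk s.length (fun i => ⟨g i, hg i⟩) fun i j hij => e.symm.strictMono (s.strictMono hij)
  exact (show (n : WithBot ℕ∞) ≤ (t.length : ℕ) from by exact_mod_cast (show n ≤ s.length by omega)).trans
    (Order.LTSeries.length_le_krullDim t)

theorem exists_min_of_lt_supportDim {ω : Dual.D A} (hω : Dual.IsDualizing A ω) {p : PrimeSpectrum A} {k : ℕ}
    (h : (k : WithBot ℕ∞) < Module.supportDim (Localization.AtPrime p.asIdeal) (LocalizedModule p.asIdeal.primeCompl M)) :
    ∃ P : PrimeSpectrum A, P.asIdeal ∈ (Module.annihilator A M).minimalPrimes ∧ P ≤ p ∧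
      degree hω P + k < degree hω p := by
  let e := IsLocalization.AtPrime.primeSpectrumOrderIso (Localization.AtPrime p.asIdeal) p.asIdeal
  obtain ⟨s, hs⟩ : ∃ s : LTSeries ↥(Module.support (Localization.AtPrime p.asIdeal)
      (LocalizedModule p.asIdeal.primeCompl M)), k < s.length := by
    by_contra hne
    refine not_le_of_gt h (iSup_le fun l => ?_)
    exact_mod_cast not_lt.1 fun hl => hne ⟨l, hl⟩
  let q : Fin (s.length + 1) → PrimeSpectrum A := fun i => (e (s i).1).1
  have hq : StrictMono q := fun i j hij => (e.strictMono (s.strictMono hij) :)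
  have hhead : q 0 ∈ Module.support A M := by
    have := (Groth.Ega4Algebra1.mem_support_localizedModule_iff p.asIdeal.primeCompl (s 0).1).1 (s 0).2
    exact this
  obtain ⟨P, hP, hPle⟩ := Ideal.exists_minimalPrimes_le (Module.mem_support_iff_of_finite.1 hhead)
  let P' : PrimeSpectrum A := ⟨P, hP.1.1⟩
  have hdeg : ∀ i : ℕ, ∀ hi : i < s.length + 1, degree hω (q 0) + i ≤ degree hω (q ⟨i, hi⟩) := by
    intro i
    induction i with
    | zero => intro hi; simp
    | succ i ih =>
      intro hi
      have h1 := degree_lt hω (hq (show (⟨i, by omega⟩ : Fin (s.length + 1)) < ⟨i + 1, hi⟩ by simp))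
      have h2 := ih (by omega)
      push_cast
      omega
  have h3 := hdeg s.length (by omega)
  have h4 : degree hω (q ⟨s.length, by omega⟩) ≤ degree hω p := by
    have hle : q ⟨s.length, by omega⟩ ≤ p := Set.mem_Iic.1 (e (s ⟨s.length, by omega⟩).1).2
    rcases hle.eq_or_lt with h | h
    · exact le_of_eq (congrArg _ h)
    · exact (degree_lt hω h).le
  have h5 : degree hω P' ≤ degree hω (q 0) := by
    rcases (hPle : P' ≤ q 0).eq_or_lt with h | h
    · exact le_of_eq (congrArg (degree hω) (PrimeSpectrum.ext h : P' = q 0))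
    · exact (degree_lt hω h).le
  exact ⟨P', hP, (show P' ≤ q 0 from hPle).trans ((e (s 0).1).2), by omega⟩


/-- For an affine scheme: let A be a Noetherian ring with a dualizing complex and M a finite A-module
satisfying Serre's condition (S_k). Then there are only finitely many primes p such that M_p has
depth exactly k while its support has dimension greater than k. (The source states this for coherent
modules on a Noetherian scheme with a dualizing complex.) -/
theorem result (A : Type u) [CommRing A] [IsNoetherianRing A] (hA : ∃ ω : Dual.D A, Dual.IsDualizing A ω) (M : Type u) [AddCommGroup M] [Module A M] [Module.Finite A M] (k : ℕ) (hM : LocCoh.HasSk k A M) : Set.Finite {p : PrimeSpectrum A | LocCoh.depth (Localization.AtPrime p.asIdeal) (LocalizedModule p.asIdeal.primeCompl M) = k ∧ (k : WithBot ℕ∞) < Module.supportDim (Localization.AtPrime p.asIdeal) (LocalizedModule p.asIdeal.primeCompl M)} := by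
  obtain ⟨ω, hω⟩ := hA
  obtain ⟨d₁, d₂, hd⟩ := exists_degree_bounds hω
  obtain ⟨a', b', hab⟩ := hω.finite_injective_dimension
  obtain ⟨r⟩ := exists_injRep ω a' b' hab
  let S : Set (Ideal A) := ⋃ m ∈ Set.Icc (d₁ - k) (d₂ - k), ⋃ P ∈ (Module.annihilator A M).minimalPrimes,
    (Module.annihilator A (Dual.inD A M ⟶ ω⟦m⟧) ⊔ P).minimalPrimes
  have hS : S.Finite := (Set.finite_Icc _ _).biUnion fun m _ =>
    (Ideal.finite_minimalPrimes_of_isNoetherianRing A _).biUnion fun P _ =>
      Ideal.finite_minimalPrimes_of_isNoetherianRing A _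
  refine Set.Finite.of_injOn (f := PrimeSpectrum.asIdeal) (fun p hp => ?_) (fun x _ y _ h => PrimeSpectrum.ext h) hS
  obtain ⟨hdepth, hdim⟩ := hp
  obtain ⟨P, hPmin, hPp, hPdeg⟩ := exists_min_of_lt_supportDim M hω hdim
  haveI : Module.Finite A (Dual.inD A M ⟶ ω⟦degree hω p - k⟧) :=
    finite_hom_of_injRep r (finite_HD_inD M) hω.finite_cohomology _
  have hEp : Module.annihilator A (Dual.inD A M ⟶ ω⟦degree hω p - k⟧) ≤ p.asIdeal := by
    refine Module.mem_support_iff_of_finite.1 ?_
    by_contra hns
    rw [Module.notMem_support_iff, LocalizedModule.subsingleton_iff] at hns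
    have h1 : ((k + 1 : ℕ) : ℕ∞) ≤ LocCoh.depth (Localization.AtPrime p.asIdeal)
        (LocalizedModule p.asIdeal.primeCompl M) := by
      rw [le_depth_localized_iff hω M p]
      intro δ hδ x
      rcases (Nat.lt_succ_iff.1 hδ).lt_or_eq with hlt | rfl
      · exact (le_depth_localized_iff hω M p k).1 hdepth.ge δ hlt x
      · obtain ⟨t, ht, htx⟩ := hns x
        exact ⟨t, ht, htx⟩
    rw [hdepth, Nat.cast_le] at h1
    omega
  refine Set.mem_biUnion (x := degree hω p - k) ⟨by linarith [(hd p).1], by linarith [(hd p).2]⟩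
    (Set.mem_biUnion (x := P.asIdeal) hPmin ⟨⟨p.2, sup_le hEp hPp⟩, fun y hy hyp => ?_⟩)
  by_contra hne
  let q : PrimeSpectrum A := ⟨y, hy.1⟩
  haveI : q.asIdeal.IsPrime := q.2
  have hqp : q < p := lt_of_le_not_ge hyp hne
  have hlt : degree hω q < degree hω p := degree_lt hω hqp
  have hqE : q ∈ Module.support A (Dual.inD A M ⟶ ω⟦degree hω p - k⟧) :=
    Module.mem_support_iff_of_finite.2 (le_sup_left.trans hy.2)
  have hPM : P ∈ Module.support A M := Module.mem_support_iff_of_finite.2 hPmin.1.2
  have hPq : P ≤ q := le_sup_right.trans hy.2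
  obtain ⟨D, hD, -⟩ := exists_chain_degree hω q P hPq
  have h2 := le_supportDim_localized M hω hPM hPq D hD.ge
  have h3 := (min_le_min le_rfl h2).trans (hM q.asIdeal)
  -- the depth at `q` is at most `k - (degree p - degree q)`
  have h5 : ¬ ((min k D : ℕ) : ℕ∞) ≤ LocCoh.depth (Localization.AtPrime q.asIdeal)
      (LocalizedModule q.asIdeal.primeCompl M) := by
    rw [le_depth_localized_iff hω M q]
    intro hall
    obtain ⟨δ, hδ⟩ : ∃ δ : ℕ, (δ : ℤ) = degree hω q - degree hω p + k :=
      ⟨(degree hω q - degree hω p + k).toNat, Int.toNat_of_nonneg (by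
        by_contra hneg
        have hsub : Subsingleton (LocalizedModule q.asIdeal.primeCompl (Dual.inD A M ⟶ ω⟦degree hω p - k⟧)) := by
          by_contra hc
          rw [not_subsingleton_iff_nontrivial, nontrivial_localized_hom_iff q.asIdeal hω M,
            ← nontrivial_shift_iff _ _ (degree hω q) (degree hω p - k) (degree hω p - k - degree hω q) (by omega)] at hc
          haveI : IsNoetherianRing (Localization.AtPrime q.asIdeal) :=
            IsLocalization.isNoetherianRing q.asIdeal.primeCompl _ inferInstance
          have hω' := isDualizing_shift (isDualizing_atPrime q.asIdeal hω) (degree hω q)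
          obtain ⟨a, ha⟩ := exists_isGE hω'
          exact not_subsingleton _ (subsingleton_hom_of_pos
            (((extD A (Localization.AtPrime q.asIdeal)).obj ω)⟦degree hω q⟧) a hω'.finite_cohomology
            (isNormalized_degree hω q) (TensorProduct A (Localization.AtPrime q.asIdeal) M)
            (degree hω p - k - degree hω q) (by omega))
        exact Module.notMem_support_iff.2 hsub hqE)⟩
    rw [Module.mem_support_iff] at hqE
    refine not_subsingleton (LocalizedModule q.asIdeal.primeCompl (Dual.inD A M ⟶ ω⟦degree hω p - k⟧))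
      (LocalizedModule.subsingleton_iff.2 fun x => ?_)
    have h := hall δ (by omega)
    rw [show degree hω q - (δ : ℤ) = degree hω p - k by omega] at h
    obtain ⟨t, ht, htx⟩ := h x
    exact ⟨t, ht, htx⟩
  refine h5 (WithBot.coe_le_coe.1 (le_trans (le_of_eq ?_) h3))
  rcases le_total k D with h | h
  · rw [min_eq_left h, min_eq_left (by exact_mod_cast h)]
    rfl
  · rw [min_eq_right h, min_eq_right (by exact_mod_cast h)]
    rfl

end Groth.Agent.S1715
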