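import Groth.Statements.S17152
import Groth.Agent.Misc12.Isoc.Decomp

set_option autoImplicit false
universe u v
open Isoc

namespace Groth.Agent.S17152

/-- Let k be a perfect field of characteristic p, a ∈ ℤ, W = W(k) with fraction field L, and (N, F) a
σ^a-F-isocrystal over k (N finite-dimensional over L, F a bijective σ^a-semilinear endomorphism).
For μ ∈ ℚ let N_μ be the slope-μ part of N (the sum of all F-stable L-subspaces that are isoclinic
of slope μ, which is the maximal such sub-isocrystal). Then N is the internal direct sum of the N_μ
over μ ∈ ℚ; together with the F-stability of each N_μ this is the slope decomposition (N, F) = ⊕_μ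
(N_μ, F). -/
theorem result (p : ℕ) [Fact p.Prime] (k : Type u) [Field k] [CharP k p] [PerfectRing k p] (a : ℤ)
    (N : Type v) [AddCommGroup N] [Module (WittVector p k) N] [Module (FractionRing (WittVector p k)) N]
    [IsScalarTower (WittVector p k) (FractionRing (WittVector p k)) N]
    (F : N →ₛₗ[Isoc.frob p k a] N) (hF : Isoc.IsIsoc F) :
    DirectSum.IsInternal (fun μ : ℚ => Isoc.slopePart F μ) := by
  haveI := hF.finite
  exact Groth.Misc12.Isoc.isInternal_slopePart (Groth.Misc12.Isoc.tw_frob (p := p) (k := k) a) hF.bijective.1

end Groth.Agent.S17152
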