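import Groth.Statements.S17157
import Mathlib.FieldTheory.Finite.Basic
import Mathlib.RingTheory.WittVector.Compare

set_option autoImplicit false
universe u
open Isoc

namespace Groth.Agent.S17157

/-- Let k be a finite field of characteristic p, W = W(k), L its fraction field with Frobenius σ, and
let U be the σ-semilinear endomorphism of L² = (Fin 2 → L) determined by U(e₀) = e₀ and U(e₁) = e₀ +
e₁ on the standard basis. Then (L², U) is an F-isocrystal in which the sub-isocrystal L · e₀ admits
no U-stable complementary L-subspace; in particular the category of F-isocrystals over a finite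
field is not semisimple. (Over an algebraically closed field a complement exists.) -/
theorem result
    (p : ℕ) [Fact p.Prime] (k : Type u) [Field k] [CharP k p] [PerfectRing k p] [Finite k]
    (U : (Fin 2 → (FractionRing (WittVector p k))) →ₛₗ[Isoc.frob p k 1] (Fin 2 → (FractionRing (WittVector p k))))
    (hU0 : U (Pi.single 0 1) = Pi.single 0 1)
    (hU1 : U (Pi.single 1 1) = Pi.single 0 1 + Pi.single 1 1)
    (Q : Submodule (FractionRing (WittVector p k)) (Fin 2 → (FractionRing (WittVector p k)))) (hQ : ∀ x ∈ Q, U x ∈ Q) :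
    ¬ IsCompl (Submodule.span (FractionRing (WittVector p k)) {(Pi.single 0 1 : Fin 2 → (FractionRing (WittVector p k)))}) Q := by
  intro hc
  set L := FractionRing (WittVector p k)
  set P : Submodule L (Fin 2 → L) := Submodule.span L {(Pi.single 0 1 : Fin 2 → L)}
  have hmemP : ∀ v : Fin 2 → L, v ∈ P ↔ v 1 = 0 := by
    intro v
    rw [Submodule.mem_span_singleton]
    constructor
    · rintro ⟨t, rfl⟩; simp
    · intro h1
      refine ⟨v 0, ?_⟩
      funext i; fin_cases i <;> simp [h1]
  obtain ⟨a, ha, q, hq, haq⟩ := Submodule.mem_sup.1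
    (show (Pi.single 1 1 : Fin 2 → L) ∈ P ⊔ Q by rw [hc.sup_eq_top]; trivial)
  have hq1 : q 1 = 1 := by
    have := congrFun haq 1
    rw [Pi.add_apply, (hmemP a).1 ha, zero_add, Pi.single_eq_same] at this
    exact this
  set c := q 0
  have hqe : q = c • (Pi.single 0 1 : Fin 2 → L) + Pi.single 1 1 := by
    funext i; fin_cases i <;> simp [c, hq1]
  have hUq : U q = (Isoc.frob p k 1 c + 1) • (Pi.single 0 1 : Fin 2 → L) + Pi.single 1 1 := by
    rw [hqe, map_add, map_smulₛₗ, hU0, hU1, add_smul, one_smul, add_assoc]
  have hdiff : U q - q ∈ P ⊓ Q := by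
    refine ⟨(hmemP _).2 ?_, sub_mem (hQ q hq) hq⟩
    simp [hUq, hq1]
  rw [hc.inf_eq_bot, Submodule.mem_bot, sub_eq_zero] at hdiff
  have hσ : Isoc.frob p k 1 c = c - 1 := by
    have := congrFun hdiff 0
    rw [hUq] at this
    simp at this
    change _ + 1 = c at this
    exact eq_sub_of_add_eq this
  have hiter : ∀ n : ℕ, ((Isoc.frob p k 1)^[n]) c = c - n := by
    intro n
    induction n with
    | zero => simp
    | succ n ih =>
      rw [Function.iterate_succ_apply', ih, map_sub, hσ, map_natCast]
      push_cast; ring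
  haveI := Fintype.ofFinite k
  obtain ⟨m, -, hcard⟩ := FiniteField.card k p
  have hfrob : ∀ x : k, x ^ (p ^ (m : ℕ)) = x := fun x => hcard ▸ FiniteField.pow_card x
  have hW : ∀ w : WittVector p k, (WittVector.frobenius)^[(m : ℕ)] w = w := by
    intro w
    have hc' : ∀ (n : ℕ) (i : ℕ), ((WittVector.frobenius)^[n] w).coeff i = w.coeff i ^ (p ^ n) := by
      intro n
      induction n with
      | zero => simp
      | succ n ih =>
        intro i
        rw [Function.iterate_succ_apply', WittVector.coeff_frobenius_charP, ih, ← pow_mul, ← pow_succ]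
    ext i
    rw [hc', hfrob]
  have hperiod : ((Isoc.frob p k 1)^[(m : ℕ)]) c = c := by
    obtain ⟨num, den, -, e⟩ := IsFractionRing.div_surjective (A := WittVector p k) c
    have halg : ∀ (n : ℕ) (w : WittVector p k), ((Isoc.frob p k 1)^[n]) (algebraMap _ L w) =
        algebraMap _ L ((WittVector.frobenius)^[n] w) := by
      intro n
      induction n with
      | zero => simp
      | succ n ih =>
        intro w
        rw [Function.iterate_succ_apply', ih, Function.iterate_succ_apply', Isoc.frob_algebraMap, zpow_one]
        rfl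
    rw [← e, show ((Isoc.frob p k 1)^[(m : ℕ)]) = ⇑(Isoc.frob p k 1 ^ (m : ℕ)) from (RingHom.coe_pow _ _).symm,
      map_div₀, RingHom.coe_pow, halg, halg, hW, hW]
  rw [hiter, sub_eq_self] at hperiod
  rw [← map_natCast (algebraMap (WittVector p k) L), map_eq_zero_iff _ (IsFractionRing.injective _ L)] at hperiod
  obtain ⟨e, n', hn', hmn⟩ := Nat.exists_eq_pow_mul_and_not_dvd m.pos.ne' p (Fact.out : p.Prime).ne_one
  rw [hmn, Nat.cast_mul, Nat.cast_pow, mul_eq_zero] at hperiod
  rcases hperiod with h0 | h0
  · exact WittVector.p_nonzero p k (eq_zero_of_pow_eq_zero h0)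
  · have h1 := congrArg (WittVector.constantCoeff (p := p) (R := k)) h0
    rw [map_natCast, map_zero, CharP.cast_eq_zero_iff k p] at h1
    exact hn' h1

end Groth.Agent.S17157
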