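import Groth.Statements.S1716
import Groth.Agent.DualCore.CM

set_option autoImplicit false
universe u
open CategoryTheory
attribute [local instance] HasDerivedCategory.standard
open Dual

namespace Groth.Agent.S1716

/-- Let A be a Noetherian ring with a dualizing complex and M a finite A-module. The set U of primes p
at which M_p is zero or a Cohen–Macaulay module is open in Spec A, and the primes of the support of
M at which M_p is Cohen–Macaulay are dense in the support of M. (The zero module is counted as
Cohen–Macaulay here.) -/
theorem result (A : Type u) [CommRing A] [IsNoetherianRing A] (hA : ∃ ω : Dual.D A, Dual.IsDualizing A ω) (M : Type u) [AddCommGroup M] [Module A M] [Module.Finite A M] : IsOpen {p : PrimeSpectrum A | Subsingleton (LocalizedModule p.asIdeal.primeCompl M) ∨ LocCoh.IsCohenMacaulayModule (Localization.AtPrime p.asIdeal) (LocalizedModule p.asIdeal.primeCompl M)} ∧ Module.support A M ⊆ closure ({p : PrimeSpectrum A | LocCoh.IsCohenMacaulayModule (Localization.AtPrime p.asIdeal) (LocalizedModule p.asIdeal.primeCompl M)} ∩ Module.support A M) := by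
  obtain ⟨ω, hω⟩ := hA
  refine ⟨?_, Groth.DualCore.support_subset_closure_CM M⟩
  have h := Groth.DualCore.isOpen_single_degree hω M
  convert h using 1
  ext p
  simp only [Set.mem_ofPred_eq]
  rw [Groth.DualCore.isCM_localized_iff p.asIdeal hω M]
  refine ⟨?_, fun hp => ?_⟩
  · rintro (hz | ⟨-, hp⟩)
    · intro i j hi hj
      exfalso
      haveI := hi
      haveI : Subsingleton (LocalizedModule p.asIdeal.primeCompl (Dual.inD A M ⟶ ω⟦i⟧)) := by
        have h1 := (Groth.DualCore.nontrivial_localized_hom_iff p.asIdeal hω M i).not
        rw [not_nontrivial_iff_subsingleton] at h1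
        refine h1.2 ?_
        haveI := (Groth.DualCore.tensorEquivLocalized p.asIdeal M).toEquiv.subsingleton
        exact not_nontrivial_iff_subsingleton.2 (Groth.DualCore.subsingleton_hom_of_subsingleton _ _ _)
      exact not_subsingleton _ this
    · exact hp
  · rcases subsingleton_or_nontrivial (LocalizedModule p.asIdeal.primeCompl M) with h' | h'
    · exact Or.inl h'
    · exact Or.inr ⟨h', hp⟩

end Groth.Agent.S1716
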