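import Groth.Statements.S5154
import Groth.Agent.LocCohBase.Connected
import Groth.Agent.Ega4Algebra1.CatenaryDim

set_option autoImplicit false
universe u
open LocCoh

namespace Groth.Agent.S5154

/-- Let A be a Noetherian local ring which is catenary and such that depth A_p ≥ 2 for every prime p
with dim A_p ≥ 2. Then all irreducible components of Spec A have dimension dim A: for every minimal
prime p, dim A/p = dim A. -/
theorem result (A : Type u) [CommRing A] [IsLocalRing A] [IsNoetherianRing A] (hc : CAlg.IsCatenary A) (h : ∀ p : PrimeSpectrum A, (2 : ℕ∞) ≤ p.asIdeal.height → (2 : ℕ∞) ≤ LocCoh.depth (Localization.AtPrime p.asIdeal) (Localization.AtPrime p.asIdeal)) (p : Ideal A) (hp : p ∈ minimalPrimes A) : ringKrullDim (A ⧸ p) = ringKrullDim A := by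
  classical
  have hfd := Groth.Ega4Algebra1.finiteDimensionalOrder_spec A
  refine le_antisymm (ringKrullDim_quotient_le p) ?_
  by_contra hlt
  have hfin := minimalPrimes.finite_of_isNoetherianRing A
  obtain ⟨P, hP, hPdim⟩ : ∃ P : PrimeSpectrum A, P.asIdeal ∈ minimalPrimes A ∧
      ringKrullDim (A ⧸ P.asIdeal) = ringKrullDim A := by
    let l := LTSeries.longestOf (PrimeSpectrum A)
    obtain ⟨r, hr, hrl⟩ := Ideal.exists_minimalPrimes_le (I := (⊥ : Ideal A)) (J := l.head.asIdeal) bot_le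
    refine ⟨⟨r, hr.isPrime⟩, hr, le_antisymm (ringKrullDim_quotient_le r) ?_⟩
    rw [ringKrullDim, Order.krullDim_eq_length_of_finiteDimensionalOrder, ringKrullDim_quotient]
    exact Order.le_krullDim_iff.2 ⟨⟨l.length, fun i =>
      ⟨l i, hrl.trans (LTSeries.head_le l i : l.head ≤ l i)⟩, fun i => l.step i⟩, rfl⟩
  set S₁ := hfin.toFinset.filter fun r : Ideal A => ringKrullDim (A ⧸ r) = ringKrullDim A with hS₁
  set S₂ := hfin.toFinset.filter fun r : Ideal A => ¬ ringKrullDim (A ⧸ r) = ringKrullDim A with hS₂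
  set I := S₁.inf id with hI
  set J := S₂.inf id with hJ
  have hPI : I ≤ P.asIdeal := Finset.inf_le (f := id) (by simp [S₁, hP, hPdim])
  have hpJ : J ≤ p := Finset.inf_le (f := id) (by simp [S₂, hp]; exact fun e => hlt e.ge)
  have hne : I ⊔ J ≠ ⊤ := fun e => (IsLocalRing.maximalIdeal.isMaximal A).ne_top (top_le_iff.1 (e.ge.trans
    (sup_le (hPI.trans (IsLocalRing.le_maximalIdeal P.2.ne_top))
      (hpJ.trans (IsLocalRing.le_maximalIdeal hp.isPrime.ne_top)))))
  obtain ⟨q, hq⟩ := Ideal.nonempty_minimalPrimes (I := I ⊔ J) hne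
  have := hq.isPrime
  obtain ⟨p₁, hp₁, hp₁q⟩ := (Ideal.IsPrime.inf_le' inferInstance).1 (le_sup_left.trans hq.le : S₁.inf id ≤ q)
  obtain ⟨p₂, hp₂, hp₂q⟩ := (Ideal.IsPrime.inf_le' inferInstance).1 (le_sup_right.trans hq.le : S₂.inf id ≤ q)
  simp only [id] at hp₁q hp₂q
  rw [Finset.mem_filter, Set.Finite.mem_toFinset] at hp₁ hp₂
  have := hp₁.1.isPrime
  have := hp₂.1.isPrime
  have hne₁ : p₁ < q := lt_of_le_of_ne hp₁q fun e => by
    subst e
    have := le_antisymm hp₂q (hp₁.1.2 ⟨hp₂.1.isPrime, bot_le⟩ hp₂q)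
    exact hp₂.2 (this ▸ hp₁.2)
  have hne₂ : p₂ < q := lt_of_le_of_ne hp₂q fun e => by
    subst e
    have := le_antisymm hp₁q (hp₂.1.2 ⟨hp₁.1.isPrime, bot_le⟩ hp₁q)
    exact hp₂.2 (this ▸ hp₁.2)
  -- the height of `q` is at most one
  have hht : q.height ≤ ((1 : ℕ) : ℕ∞) := by
    by_contra hgt
    have h2 : (2 : ℕ∞) ≤ q.height := Order.add_one_le_of_lt (not_le.1 hgt)
    have hdepth := h ⟨q, inferInstance⟩ h2
    let f := algebraMap A (Localization.AtPrime q)
    have hcm : ∀ r : Ideal A, r ≤ q → r.IsPrime → (r.map f).comap f = r := fun r hr hrp =>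
      IsLocalization.under_map_of_isPrime_disjoint q.primeCompl (Localization.AtPrime q) hrp
        (Set.disjoint_left.2 fun x hx hxr => hx (hr hxr))
    have hmp : ∀ r : Ideal A, r ≤ q → r.IsPrime → (r.map f).IsPrime := fun r hr hrp =>
      IsLocalization.isPrime_of_isPrime_disjoint q.primeCompl (Localization.AtPrime q) r hrp
        (Set.disjoint_left.2 fun x hx hxr => hx (hr hxr))
    have hq' : (IsLocalRing.maximalIdeal (Localization.AtPrime q)).comap f = q :=
      Localization.AtPrime.under_maximalIdeal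
    refine Groth.LocCohBase.false_of_zeroLocus hdepth (I := I.map f) (J := J.map f) ?_ ?_
      (hmp p₁ hne₁.le inferInstance) (hmp p₂ hne₂.le inferInstance) (Ideal.map_mono ?_) (Ideal.map_mono ?_) ?_ ?_
    · intro r hr
      rw [← Ideal.map_mul, Ideal.map_le_iff_le_comap]
      have : (r.comap f).IsPrime := Ideal.IsPrime.comap f
      obtain ⟨s, hs, hsr⟩ := Ideal.exists_minimalPrimes_le (I := (⊥ : Ideal A)) (J := r.comap f) bot_le
      refine le_trans ?_ hsr
      by_cases hd : ringKrullDim (A ⧸ s) = ringKrullDim A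
      · exact Ideal.mul_le_left.trans (Finset.inf_le (f := id) (by simp [S₁, hd]; exact hs))
      · exact Ideal.mul_le_right.trans (Finset.inf_le (f := id) (by simp [S₂, hd]; exact hs))
    · intro r hr hIr hJr
      have hprime : (r.comap f).IsPrime := Ideal.IsPrime.comap f
      have hle : r.comap f ≤ q :=
        le_trans (Ideal.comap_mono (IsLocalRing.le_maximalIdeal hr.ne_top)) hq'.le
      have heq : r.comap f = q := le_antisymm hle
        (hq.2 ⟨hprime, sup_le (Ideal.map_le_iff_le_comap.1 hIr) (Ideal.map_le_iff_le_comap.1 hJr)⟩ hle)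
      refine le_antisymm (IsLocalRing.le_maximalIdeal hr.ne_top) ?_
      rw [← Localization.AtPrime.map_eq_maximalIdeal, Ideal.map_le_iff_le_comap]
      exact heq.ge
    · exact Finset.inf_le (f := id) (by simp [S₁, hp₁.2]; exact hp₁.1)
    · exact Finset.inf_le (f := id) (by simp [S₂, hp₂.2]; exact hp₂.1)
    · exact fun e => hne₁.ne (by rw [← hcm p₁ hne₁.le inferInstance, e, hq'])
    · exact fun e => hne₂.ne (by rw [← hcm p₂ hne₂.le inferInstance, e, hq'])
  have hcov : ∀ (r : Ideal A) (_ : r.IsPrime), r < q →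
      (⟨r, ‹_›⟩ : PrimeSpectrum A) ⋖ ⟨q, inferInstance⟩ := by
    intro r hr hrq
    refine ⟨hrq, fun c h1 h2 => ?_⟩
    have e1 := Ideal.height_add_one_le_of_lt_of_isPrime (show r < c.asIdeal from h1)
    have e2 := Ideal.height_le_iff.1 hht c.asIdeal c.2 h2
    rw [Nat.cast_one, Order.lt_one_iff] at e2
    rw [e2] at e1
    simp at e1
  have c₁ := Groth.Ega4Algebra1.coheight_eq_add_one_of_covBy A hc (hcov p₁ inferInstance hne₁)
  have c₂ := Groth.Ega4Algebra1.coheight_eq_add_one_of_covBy A hc (hcov p₂ inferInstance hne₂)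
  apply hp₂.2
  rw [← hp₁.2, Groth.Ega4Algebra1.ringKrullDim_quotient_eq_coheight A ⟨p₂, inferInstance⟩,
    Groth.Ega4Algebra1.ringKrullDim_quotient_eq_coheight A ⟨p₁, inferInstance⟩, c₁, c₂]

end Groth.Agent.S5154
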