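import Groth.Statements.S17171
-- (no helpers)

set_option autoImplicit false
open QSymFn

namespace Groth.Agent.S17171

/-- The ring QSym of quasisymmetric functions over ℤ, with its restriction maps to the polynomial rings
in finitely many ordered variables, is the limit of the diagram S ↦ ℤ[α_s : s ∈ S] over finite
ordered sets S and order-preserving injections (an injection φ : S → T acting by α_t ↦ α_s when t =
φ s and α_t ↦ 0 otherwise), the limit being taken in graded rings. Stated here on degree-d
components, with the variables indexed by ℕ in place of the positive integers and the finite ordered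
sets taken to be the Fin n: (a) if F is a formal power series over ℤ in variables indexed by ℕ which
is quasisymmetric (for strictly increasing i, j : Fin ℓ → ℕ and positive exponents a, the
coefficients of ∏ x_{i t}^{a t} and ∏ x_{j t}^{a t} agree) and all of whose monomials have degree d,
then its restrictions to the initial segments Fin n ⊂ ℕ are compatible with every order embedding
Fin n ↪o Fin m; (b) every family of degree-d homogeneous polynomials f n ∈ ℤ[x_s : s ∈ Fin n],
compatible with all order embeddings Fin n ↪o Fin m in this sense, is the family of restrictions of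
exactly one such quasisymmetric F of degree d. -/
theorem result (d : ℕ) :
    (∀ F : MvPowerSeries ℕ ℤ,
      (∀ (ℓ : ℕ) (i j : Fin ℓ → ℕ) (a : Fin ℓ → ℕ), StrictMono i → StrictMono j → (∀ t, 0 < a t) →
        MvPowerSeries.coeff (∑ t : Fin ℓ, Finsupp.single (i t) (a t)) F =
          MvPowerSeries.coeff (∑ t : Fin ℓ, Finsupp.single (j t) (a t)) F) →
      (∀ e : ℕ →₀ ℕ, MvPowerSeries.coeff e F ≠ 0 → e.degree = d) →
      ∀ (n m : ℕ) (φ : Fin n ↪o Fin m) (e : Fin n →₀ ℕ),
        MvPowerSeries.coeff (Finsupp.mapDomain Fin.val e) F =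
          MvPowerSeries.coeff (Finsupp.mapDomain Fin.val (Finsupp.mapDomain φ e)) F) ∧
    (∀ f : (n : ℕ) → MvPolynomial (Fin n) ℤ,
      (∀ n, (f n).IsHomogeneous d) →
      (∀ (n m : ℕ) (φ : Fin n ↪o Fin m) (e : Fin n →₀ ℕ),
        MvPolynomial.coeff e (f n) = MvPolynomial.coeff (Finsupp.mapDomain φ e) (f m)) →
      ∃! F : MvPowerSeries ℕ ℤ,
        (∀ (ℓ : ℕ) (i j : Fin ℓ → ℕ) (a : Fin ℓ → ℕ), StrictMono i → StrictMono j → (∀ t, 0 < a t) →
          MvPowerSeries.coeff (∑ t : Fin ℓ, Finsupp.single (i t) (a t)) F =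
            MvPowerSeries.coeff (∑ t : Fin ℓ, Finsupp.single (j t) (a t)) F) ∧
        (∀ e : ℕ →₀ ℕ, MvPowerSeries.coeff e F ≠ 0 → e.degree = d) ∧
        (∀ (n : ℕ) (e : Fin n →₀ ℕ),
          MvPowerSeries.coeff (Finsupp.mapDomain Fin.val e) F = MvPolynomial.coeff e (f n))) := by
  classical
  have enum : ∀ (n : ℕ) (e : Fin n →₀ ℕ) (g : Fin n → ℕ),
      ∑ t : Fin e.support.card, Finsupp.single (g (e.support.orderEmbOfFin rfl t)) (e (e.support.orderEmbOfFin rfl t)) =
        Finsupp.mapDomain g e := by
    intro n e g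
    rw [Finsupp.mapDomain, Finsupp.sum]
    conv_rhs => rw [← Finset.map_orderEmbOfFin_univ e.support rfl, Finset.sum_map]
    rfl
  refine ⟨fun F hF _ n m φ e => ?_, fun f hf hcomp => ?_⟩
  · have := hF e.support.card (fun t => (e.support.orderEmbOfFin rfl t).val)
      (fun t => (φ (e.support.orderEmbOfFin rfl t)).val) (fun t => e (e.support.orderEmbOfFin rfl t))
      (fun a b hab => (e.support.orderEmbOfFin rfl).strictMono hab)
      (fun a b hab => φ.strictMono ((e.support.orderEmbOfFin rfl).strictMono hab))
      (fun t => Nat.pos_of_ne_zero (Finsupp.mem_support_iff.1 (Finset.orderEmbOfFin_mem _ _ t)))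
    rw [enum n e Fin.val, enum n e (fun x => (φ x).val)] at this
    rw [this, ← Finsupp.mapDomain_comp]
    rfl
  · let F : MvPowerSeries ℕ ℤ := fun e =>
      MvPolynomial.coeff (Finsupp.comapDomain Fin.val e Fin.val_injective.injOn) (f (e.support.sup id + 1))
    have hF : ∀ (n : ℕ) (e : Fin n →₀ ℕ),
        MvPowerSeries.coeff (Finsupp.mapDomain Fin.val e) F = MvPolynomial.coeff e (f n) := by
      intro n e
      set E := Finsupp.mapDomain Fin.val e with hE
      set N := E.support.sup id + 1
      set e' : Fin N →₀ ℕ := Finsupp.comapDomain Fin.val E Fin.val_injective.injOn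
      have he' : Finsupp.mapDomain Fin.val e' = E := by
        refine Finsupp.mapDomain_comapDomain _ Fin.val_injective E fun x hx => ⟨⟨x, ?_⟩, rfl⟩
        exact Nat.lt_succ_of_le (Finset.le_sup (f := id) hx)
      change MvPolynomial.coeff e' (f N) = _
      rcases le_total N n with h | h
      · rw [hcomp N n (Fin.castLEOrderEmb h) e']
        refine congrArg (fun x => MvPolynomial.coeff x (f n)) ?_
        refine Finsupp.mapDomain_injective Fin.val_injective ?_
        rw [← Finsupp.mapDomain_comp]
        exact he'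
      · rw [hcomp n N (Fin.castLEOrderEmb h) e]
        refine congrArg (fun x => MvPolynomial.coeff x (f N)) ?_
        refine Finsupp.mapDomain_injective Fin.val_injective ?_
        rw [← Finsupp.mapDomain_comp (f := Fin.castLEOrderEmb h)]
        exact he'
    have exF : ∀ e : ℕ →₀ ℕ, ∃ (n : ℕ) (e' : Fin n →₀ ℕ), Finsupp.mapDomain Fin.val e' = e := fun e =>
      ⟨e.support.sup id + 1, Finsupp.comapDomain Fin.val e Fin.val_injective.injOn,
        Finsupp.mapDomain_comapDomain _ Fin.val_injective e
          fun x hx => ⟨⟨x, Nat.lt_succ_of_le (Finset.le_sup (f := id) hx)⟩, rfl⟩⟩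
    refine ⟨F, ⟨?_, ?_, hF⟩, ?_⟩
    · intro ℓ i j a hi hj _
      suffices key : ∀ i : Fin ℓ → ℕ, StrictMono i →
          MvPowerSeries.coeff (∑ t : Fin ℓ, Finsupp.single (i t) (a t)) F =
            MvPolynomial.coeff (Finsupp.equivFunOnFinite.symm a) (f ℓ) by
        rw [key i hi, key j hj]
      intro i hi
      set n := Finset.univ.sup i + 1
      let φ : Fin ℓ ↪o Fin n :=
        OrderEmbedding.ofStrictMono
          (fun t => ⟨i t, Nat.lt_succ_of_le (Finset.le_sup (Finset.mem_univ t))⟩) (fun x y h => hi h)
      have e1 : (∑ t : Fin ℓ, Finsupp.single (i t) (a t)) =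
          Finsupp.mapDomain Fin.val (Finsupp.mapDomain φ (Finsupp.equivFunOnFinite.symm a)) := by
        rw [← Finsupp.mapDomain_comp, Finsupp.equivFunOnFinite_symm_eq_sum a, Finsupp.mapDomain_finsetSum]
        simp only [Finsupp.mapDomain_single]; rfl
      rw [e1, hF, ← hcomp ℓ n φ]
    · intro e he
      obtain ⟨n, e', rfl⟩ := exF e
      rw [hF] at he
      rw [Finsupp.degree_mapDomain]
      exact ((hf n).degree_eq_sum_deg_support (MvPolynomial.mem_support_iff.2 he)).symm
    · rintro G ⟨-, -, hG⟩
      refine MvPowerSeries.ext fun e => ?_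
      obtain ⟨n, e', rfl⟩ := exF e
      rw [hG, hF]

end Groth.Agent.S17171
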