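import Groth.Statements.S17173
import Groth.Agent.ModelsGraphs.BI

set_option autoImplicit false
set_option linter.unusedSimpArgs false
universe u
open LabGraph

namespace Groth.Agent.S17173

open LabGraph in
/-- Let Γ be the weighted dual graph of a quasistable curve X of genus g ≥ 3 over an algebraically
closed field (vertices the irreducible components C_v with weight the geometric genus, one edge per
node, a loop for a node on a single component): Γ is connected, every weight-zero vertex without
loop is joined to the other vertices by at least two edges, and no edge joins two exceptional
vertices (weight zero, no loop, exactly two edges to other vertices). Let d be a multidegree of any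
total degree D (the combinatorial section fixes an arbitrary integer d; g ≥ 3 is the paper's
standing assumption). Then the degree class of d contains a representative satisfying the Basic
Inequality: there is a multidegree d', differing from d by the twist of some integer vertex
labelling (the multidegree of a divisor Σ φ_v C_v on the total space of a regular smoothing), such
that for every set Y of vertices 2·|(2g - 2)·d'_Y - D·canDeg Y| ≤ cut Y·(2g - 2), where canDeg Y = 2
g_Y - 2 + cut Y is the degree of the dualizing sheaf on the subcurve Y and cut Y the number of nodes
where Y meets the rest of X. -/
theorem result {V E : Type u} [Fintype V] [Fintype E]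
    [DecidableEq V] [DecidableEq E] (ends : E → V × V) (w : V → ℕ) (hX : IsQuasistableGraph ends w)
    (hg : 3 ≤ genus ends w) (d : V → ℤ) :
    ∃ d' : V → ℤ, TwistEquiv ends d' d ∧ SatisfiesBI ends w d' := by
  obtain ⟨φ, hφ⟩ := Groth.ModelsGraphs.BI.exists_bi hX.1.1 (by linarith) d
  exact ⟨_, ⟨φ, fun v => by ring⟩, hφ⟩

end Groth.Agent.S17173
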