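import Groth.Statements.S17174
import Groth.Agent.ModelsGraphs.BI

set_option autoImplicit false
set_option linter.unusedSimpArgs false
universe u
open LabGraph

namespace Groth.Agent.S17174

open LabGraph in
/-- Let Γ be the weighted dual graph of a Deligne–Mumford semistable curve X of genus g ≥ 3 over an
algebraically closed field (connected; every weight-zero vertex without loop is joined to the other
vertices by at least two edges), and let d, d' be two multidegrees of the same (arbitrary) total
degree D (g ≥ 3 being the paper's standing assumption) which both satisfy the Basic Inequality and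
lie in the same degree class (d - d' is a twist). Then d - d' can be written in normal form: there
is a labelling h of the vertices by natural numbers taking exactly the values 0, 1, …, q, with d -
d' equal to the twist of h (that is, d - d' = Σ_v h(v)·c_v with c_v the multidegree of O(C_v)), such
that for distinct levels i ≠ j in {0, …, q} the subcurves on h⁻¹(i) and h⁻¹(j) meet (some edge joins
the two levels) exactly when |i - j| = 1. -/
theorem result {V E : Type u} [Fintype V] [Fintype E]
    [DecidableEq V] [DecidableEq E] (ends : E → V × V) (w : V → ℕ) (hX : IsSemistableGraph ends w)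
    (hg : 3 ≤ genus ends w) (d d' : V → ℤ)
    (hBI : SatisfiesBI ends w d) (hBI' : SatisfiesBI ends w d') (heq : TwistEquiv ends d d') :
    ∃ (q : ℕ) (h : V → ℕ), (∀ v : V, h v ≤ q) ∧ (∀ i : ℕ, i ≤ q → ∃ v : V, h v = i) ∧
      (∀ v : V, d v - d' v = twist ends (fun u => (h u : ℤ)) v) ∧
      (∀ i j : ℕ, i ≤ q → j ≤ q → i ≠ j →
        ((∃ e : E, (h (ends e).1 = i ∧ h (ends e).2 = j) ∨ (h (ends e).1 = j ∧ h (ends e).2 = i)) ↔
          (i + 1 = j ∨ j + 1 = i))) := by
  exact Groth.ModelsGraphs.BI.normal_form hX.1 (by linarith) hBI hBI' heq

end Groth.Agent.S17174
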