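import Groth.Statements.S17176
import Mathlib
-- import your own Groth.Agent.* helpers here

set_option autoImplicit false
open Curves

namespace Groth.Agent.S17176

/-- Fix integers g ≥ 3 and d. For a complete subcurve Y of arithmetic genus g_Y of a nodal curve of
genus g, meeting the rest of the curve in k points, the lower extreme of the Basic Inequality for
line bundles of degree d is m = d(2g_Y - 2 + k)/(2g - 2) - k/2, which is an integer exactly when 2(g
- 1) divides d(2g_Y - 2 + k) - k(g - 1). Then gcd(d - g + 1, 2g - 2) = 1 if and only if m is not an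
integer for all integers g_Y, k with 0 < g_Y < g - 1, k ≥ 1 and k + 2g_Y - 2 < 2g - 2. (The row
makes explicit the bound 2g_Y - 2 + k < 2g - 2, which is automatic for subcurves of stable curves
and is satisfied by every subcurve to which the source applies the lemma; the source leaves the
ambient curve's class implicit.) -/
theorem result (g d : ℤ) (hg : 3 ≤ g) :
    Int.gcd (d - g + 1) (2 * g - 2) = 1 ↔
      ∀ gY k : ℤ, 0 < gY → gY < g - 1 → 1 ≤ k → k + 2 * gY - 2 < 2 * g - 2 →
        ¬ (2 * (g - 1) ∣ d * (2 * gY - 2 + k) - k * (g - 1)) := by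
  have key : ∀ gY k : ℤ, d * (2 * gY - 2 + k) - k * (g - 1) =
      (d - g + 1) * (2 * gY - 2 + k) + 2 * (g - 1) * (gY - 1) := fun _ _ => by ring
  have hN : (2 * g - 2 : ℤ) = 2 * (g - 1) := by ring
  constructor
  · intro h gY k h1 h2 h3 h4 hdvd
    rw [key] at hdvd
    have hd : 2 * (g - 1) ∣ (d - g + 1) * (2 * gY - 2 + k) :=
      (dvd_add_left (Dvd.intro _ rfl)).1 hdvd
    rw [hN] at h
    have hcop : IsCoprime (2 * (g - 1)) (d - g + 1) :=
      (Int.isCoprime_iff_gcd_eq_one.2 h).symm
    have := Int.le_of_dvd (by omega) (hcop.dvd_of_dvd_mul_left hd)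
    omega
  · intro h
    by_contra hne
    have h1 := Int.gcd_dvd_left (d - g + 1) (2 * g - 2)
    have h2 := Int.gcd_dvd_right (d - g + 1) (2 * g - 2)
    set G : ℕ := Int.gcd (d - g + 1) (2 * g - 2) with hG
    have hG0 : G ≠ 0 := by
      intro h0
      rw [h0] at h2
      simp at h2
      omega
    have hG2 : (2 : ℤ) ≤ (G : ℤ) := by omega
    obtain ⟨a, ha⟩ := h2
    obtain ⟨b, hb⟩ := h1
    have ha1 : 1 ≤ a := by
      by_contra hh
      have : (G : ℤ) * a ≤ 0 := mul_nonpos_of_nonneg_of_nonpos (by omega) (by omega)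
      omega
    have ha2 : 2 * a ≤ 2 * g - 2 := by
      rw [ha]; exact mul_le_mul_of_nonneg_right hG2 (by omega)
    refine h 1 a one_pos (by omega) ha1 (by omega) ?_
    rw [key, hb]
    exact ⟨b, by rw [← hN, ha]; ring⟩

end Groth.Agent.S17176
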