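import Groth.Statements.S17177
import Groth.Agent.Curves2.NormalSheaf
import Groth.Agent.Curves2.NormalSheafDelta
import Groth.Agent.PnEuler.Seq
import Groth.Agent.ArtfunDeform.VbLift.Basic
import Groth.Agent.Duality.SheafHomTwist
import Groth.Agent.PicAux.PullTensor
import Groth.Agent.PicAux.PicLaw
import Groth.Agent.PicAux.Pullback
import Groth.Agent.S1561
import Groth.Agent.Variety2.GenSmooth
import Groth.Agent.EulerDeg.Birational
import Groth.Agent.VarietyBC.GeomReducedGeneric
import Groth.Agent.OmegaSheaf.ConormalDiff
import Groth.Agent.RefRank.Stalk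
-- import your own Groth.Agent.* helpers here

set_option autoImplicit false
universe u
open CategoryTheory CategoryTheory.Limits AlgebraicGeometry
attribute [local instance] HasDerivedCategory.standard
open Curves

namespace Groth.Agent.S17177

/-- Let k be an algebraically closed field, r ≥ 1, and X ⊆ P^r_k a closed subscheme, cut out by a
quasi-coherent ideal sheaf I, which is a connected nodal curve: reduced, connected, of dimension
one, with at-worst-nodal singularities over k. Suppose H^1(X, O_X(1)) = 0, O_X(1) being the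
pull-back of O(1). Let N = Hom_{O_X}(I/I², O_X) be the normal sheaf (the sheaf Hom, assumed to exist
as the right adjoint of tensoring with the conormal sheaf I/I²). Then H^1(X, N) = 0. (In the paper X
is a curve of degree d ≥ 20(g - 1) and genus g ≥ 3 whose Hilbert point is semistable, for which
H^1(X, O_X(1)) = 0 holds, and the vanishing is used to conclude that the Hilbert scheme is
nonsingular of dimension r(r + 2) + 4g - 3 at the point of X; that deduction, through the
identification of the tangent space with H^0(X, N) and Riemann–Roch, is not part of this row.) -/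
theorem result
    (k : Type u) [Field k] [IsAlgClosed k] (r : ℕ) (hr : 1 ≤ r)
    (I₀ : (CohB1.ProjSpace r k).IdealSheafData) [I₀.subscheme.Over (Spec (CommRingCat.of k))]
    (hX : I₀.subscheme ↘ Spec (CommRingCat.of k) = I₀.subschemeι ≫ (CohB1.ProjSpace r k ↘ Spec (CommRingCat.of k)))
    [IsReduced I₀.subscheme] [ConnectedSpace I₀.subscheme] (hdim : topologicalKrullDim I₀.subscheme = 1)
    (hnod : Curv2.AtWorstNodal k I₀.subscheme)
    (h1 : Subsingleton (Coh.HH I₀.subscheme
      ((Scheme.Modules.pullback I₀.subschemeι).obj (Twist.twistProjSpace r k 1)) 1))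
    [DCoh.HasSheafHom (Omega.conormal I₀.subschemeι)] :
    Subsingleton (Coh.HH I₀.subscheme
      ((DCoh.sheafHom (Omega.conormal I₀.subschemeι)).obj (Coh.structureModule I₀.subscheme)) 1) := by
  let i := I₀.subschemeι
  let f := CohB1.ProjSpace.toSpec r k
  have hX' : I₀.subscheme ↘ Spec (CommRingCat.of k) = i ≫ f := hX
  haveI : LocallyOfFiniteType f := inferInstance
  haveI : IsProper (I₀.subscheme ↘ Spec (CommRingCat.of k)) := by
    rw [hX']; infer_instance
  haveI : IsNoetherian I₀.subscheme := Groth.EulerDeg.isNoetherian_of_proper k I₀.subscheme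
  haveI : IsLocallyNoetherian (CohB1.ProjSpace r k) := LocallyOfFiniteType.isLocallyNoetherian f
  have hd1 : topologicalKrullDim I₀.subscheme ≤ 1 := hdim.le
  have hC : Coh.IsCoh (Omega.conormal i) := by
    have hI := Groth.RefRank.isCoh_idealMod i.ker
    have := hI.1
    exact ⟨Groth.QCohMod.isQCoh_pullback_obj i _, Groth.QCohMod.isFT_pullback i _ hI.2⟩
  have hinv1 : PicF.IsInvertible (Twist.twistProjSpace r k 1) := Groth.PnCoh.isInvertible_twist r k 1
  obtain ⟨e₀⟩ := Groth.Duality.Pn.isInverseOf_twist r k (-1)
  obtain ⟨e₁, -⟩ := Groth.PicAux.exists_pullback_tensorMod i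
    (Twist.twistProjSpace r k (-1)) (Twist.twistProjSpace r k (- -1))
  obtain ⟨e₂⟩ := Groth.PicAux.pullback_structure_iso i
  let e := e₁.symm ≪≫ (Scheme.Modules.pullback i).mapIso e₀ ≪≫ e₂
  obtain ⟨φ, hφ, -⟩ := Groth.OmegaSheaf.existsUnique_isConormalDiff (i := i) (OmegaSh.dOmega f)
  have h11 : (- -1 : ℤ) = 1 := neg_neg 1
  refine Groth.Curves2.NormalSheaf.subsingleton_h1_sheafHom k hd1 hC e
    (Groth.PicAux.isInvertible_pullback i (by rw [h11]; exact hinv1)) (by rw [h11]; exact h1)
    (fun j => φ ≫ (Scheme.Modules.pullback i).map (Groth.PnEuler.toTwist (R := k) j)) ?_ ?_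
  · intro z hz
    exact Groth.VarietyBC.isField_stalk_of_maximal fun y hy =>
      @Groth.EulerDeg.eq_of_specializes_of_not_isClosed I₀.subscheme.toTopCat
        (inferInstanceAs (T0Space I₀.subscheme)) (inferInstanceAs (QuasiSober I₀.subscheme)) hd1 z y hz hy
  · intro z hz v hv
    haveI : LocallyOfFinitePresentation (I₀.subscheme ↘ Spec (CommRingCat.of k)) :=
      Groth.Variety2.locallyOfFinitePresentation_of_noetherian _
    let O := (I₀.subscheme ↘ Spec (CommRingCat.of k)).smoothLocus
    have hzO : z ∈ O := Groth.EulerDeg.mem_of_dense hd1 (Groth.Agent.S1561.result k I₀.subscheme).2 hz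
    have hO : Smooth (O.ι ≫ i ≫ f) := by
      rw [← hX']
      exact Groth.Variety2.smooth_of_le_smoothLocus _ O le_rfl
    refine (injective_iff_map_eq_zero _).1 (Groth.Curves2.NormalSheaf.injective_stalk_conormalDiff
      (Groth.OmegaSheaf.isUniversal_dOmega f) hφ O hO hzO) v ?_
    have hS := Groth.ArtfunDeform.VbLift.shortExact_pullback i
      (Groth.PnEuler.shortExact_eulerSeq (n := r) (R := k)) (Groth.LocFree.isFinLocFree_of_rank
        (Groth.LocFree.isInvertible_iff_ofRank_one.1 (Groth.PnCoh.isInvertible_twist r k 0)))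
    haveI := hS.mono_f
    refine (injective_iff_map_eq_zero _).1 ((Groth.QCohMod.mono_iff_stalk
      ((Scheme.Modules.pullback i).map (Groth.PnEuler.iota r k))).1 hS.mono_f z) _ ?_
    have hid : (Scheme.Modules.pullback i).map (Groth.PnEuler.iota r k) =
        ∑ j, (Scheme.Modules.pullback i).map (Groth.PnEuler.toTwist (R := k) j) ≫
          (Scheme.Modules.pullback i).map (Limits.biproduct.ι (Groth.PnEuler.fam r k) j) := by
      simp_rw [← Functor.map_comp]
      rw [← Functor.map_sum]
      refine congrArg _ ?_
      refine Limits.biproduct.hom_ext _ _ fun l => ?_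
      rw [Groth.PnEuler.iota, Limits.biproduct.lift_π, Preadditive.sum_comp,
        Finset.sum_eq_single l (fun j _ hj => by
          rw [Category.assoc, Limits.biproduct.ι_π_ne _ hj, Limits.comp_zero])
          (fun h => absurd (Finset.mem_univ l) h),
        Category.assoc, Limits.biproduct.ι_π_self, Category.comp_id]
    rw [hid, Functor.map_sum]
    have hsum : ∀ {A B : AddCommGrpCat.{u}} (g : Fin (r + 1) → (A ⟶ B)) (x : A),
        (∑ j, g j).hom x = ∑ j, (g j).hom x := @fun A B g x =>
      map_sum (AddMonoidHom.mk' (fun h : A ⟶ B => h.hom x) fun _ _ => rfl) g Finset.univ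
    refine (hsum _ _).trans ?_
    refine Finset.sum_eq_zero fun j _ => ?_
    rw [Functor.map_comp]
    refine (congrArg (((Groth.QCohMod.stalk z).map
      ((Scheme.Modules.pullback i).map (Limits.biproduct.ι (Groth.PnEuler.fam r k) j))).hom) ?_).trans
        (map_zero _)
    exact (Groth.Duality.StalkHom.stalkMapₗ_comp_apply φ
      ((Scheme.Modules.pullback i).map (Groth.PnEuler.toTwist (R := k) j)) z v).symm.trans (hv j)

end Groth.Agent.S17177
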