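import Groth.Statements.S17178
import Groth.Agent.QCohMod.OpenSupport
import Groth.Agent.QCohMod.Coherent
import Groth.Agent.QCohMod.Affine
import Groth.Agent.VarietyBC.AffineNhd

set_option autoImplicit false
universe u
open CategoryTheory CategoryTheory.Limits AlgebraicGeometry
open Curves

namespace Groth.Agent.S17178

variable {X : Scheme.{u}}

/-- On a space whose irreducible components are one-dimensional, a point with a proper
generalization is closed. -/
theorem isClosed_singleton_aux (hequi : ∀ Z ∈ irreducibleComponents (X : Type u), topologicalKrullDim Z = 1)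
    {y z : X} (hz : z ⤳ y) (hne : z ≠ y) : IsClosed ({y} : Set X) := by
  refine closure_eq_iff_isClosed.1 (Set.Subset.antisymm (fun w hw => ?_) subset_closure)
  by_contra hwy
  have hyw : y ⤳ w := specializes_iff_mem_closure.2 hw
  obtain ⟨Z, hZ, hzZ⟩ := exists_mem_irreducibleComponents_subset_of_isIrreducible (closure ({z} : Set X))
    isIrreducible_singleton.closure
  have hZc : IsClosed Z := isClosed_of_mem_irreducibleComponents Z hZ
  have hzm : z ∈ Z := hzZ (subset_closure rfl)
  have hym : y ∈ Z := hz.mem_closed hZc hzm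
  have hwm : w ∈ Z := hyw.mem_closed hZc hym
  let pt : Z → TopologicalSpace.IrreducibleCloseds Z := fun p =>
    ⟨closure {p}, isIrreducible_singleton.closure, isClosed_closure⟩
  have hlt : ∀ {p q : Z}, (q : X) ⤳ p → (p : X) ≠ q → pt p < pt q := by
    intro p q hqp hpq
    have hs : q ⤳ p := (subtype_specializes_iff _ _).2 hqp
    refine lt_of_le_not_ge (fun a ha => (closure_minimal (Set.singleton_subset_iff.2 hs.mem_closure)
      isClosed_closure) ha) fun hle => ?_
    have hq : q ∈ closure ({p} : Set Z) := hle (subset_closure rfl)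
    have hpq' : (p : X) ⤳ q := (subtype_specializes_iff _ _).1 (specializes_iff_mem_closure.2 hq)
    exact hpq (hpq'.antisymm hqp).eq
  have h1 : pt ⟨w, hwm⟩ < pt ⟨y, hym⟩ := hlt hyw fun h => hwy h
  have h2 : pt ⟨y, hym⟩ < pt ⟨z, hzm⟩ := hlt hz (Ne.symm hne)
  let c : LTSeries (TopologicalSpace.IrreducibleCloseds Z) :=
    ((RelSeries.singleton _ (pt ⟨w, hwm⟩)).snoc (pt ⟨y, hym⟩) h1).snoc (pt ⟨z, hzm⟩)
      (by simpa using h2)
  have hc := Order.LTSeries.length_le_krullDim c
  have hd := hequi Z hZ
  rw [topologicalKrullDim] at hd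
  rw [hd] at hc
  have : ((2 : ℕ) : WithBot ℕ∞) ≤ ((1 : ℕ) : WithBot ℕ∞) := by
    exact_mod_cast hc
  exact absurd (Nat.cast_le.1 this) (by norm_num)

/-- The germs of a section vanish on an open set. -/
theorem isOpen_germ_eq_zero (M : X.Modules) {V : X.Opens} (σ : Γ(M, V)) :
    IsOpen {y : V | M.presheaf.germ V (y : X) y.2 σ = 0} := by
  refine isOpen_iff_forall_mem_open.2 fun y hy => ?_
  obtain ⟨W, hyW, i₁, i₂, h⟩ := TopCat.Presheaf.germ_eq M.presheaf (y : X) y.2 y.2 σ 0
    ((show M.presheaf.germ V (y : X) y.2 σ = 0 from hy).trans (map_zero _).symm)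
  refine ⟨Subtype.val ⁻¹' (W : Set X), fun p hp => ?_, W.2.preimage continuous_subtype_val, hyW⟩
  show M.presheaf.germ V (p : X) p.2 σ = 0
  rw [← M.presheaf.germ_res_apply i₁ (p : X) hp σ, h, map_zero, map_zero]

/-- A section killed at every non-closed point is, near a point `x`, killed away from `x`. -/
theorem exists_nhd_support_le [TopologicalSpace.NoetherianSpace X] (M : X.Modules) {V : X.Opens}
    (σ : Γ(M, V)) (hσ : ∀ (y : X) (hy : y ∈ V), M.presheaf.germ V y hy σ ≠ 0 → IsClosed ({y} : Set X))
    {x : X} (hx : x ∈ V) :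
    ∃ W : X.Opens, x ∈ W ∧ ∃ h : W ≤ V, ∀ (y : X) (hy : y ∈ W), y ≠ x →
      M.presheaf.germ V y (h hy) σ = 0 := by
  let S : Set V := {y : V | M.presheaf.germ V (y : X) y.2 σ = 0}ᶜ
  have hS : IsClosed S := (isOpen_germ_eq_zero M σ).isClosed_compl
  haveI : TopologicalSpace.NoetherianSpace V := TopologicalSpace.NoetherianSpace.set (V : Set X)
  haveI : TopologicalSpace.NoetherianSpace S := TopologicalSpace.NoetherianSpace.set S
  haveI : QuasiSober V := V.2.isOpenEmbedding_subtypeVal.quasiSober
  haveI : QuasiSober S := hS.isClosedEmbedding_subtypeVal.quasiSober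
  have hcl : ∀ s : S, IsClosed ({s} : Set S) := fun s => by
    have := (hσ _ s.1.2 s.2).preimage (continuous_subtype_val.comp (continuous_subtype_val (p := (· ∈ S))))
    convert this using 1
    ext t
    exact ⟨fun h => congrArg (fun p : S => p.1.1) h, fun h => Subtype.ext (Subtype.ext h)⟩
  have hcomp : ∀ s : S, irreducibleComponent s = {s} := fun s => by
    obtain ⟨g, hg⟩ := QuasiSober.sober (α := S) (isIrreducible_irreducibleComponent (x := s))
      isClosed_irreducibleComponent
    rw [isGenericPoint_def, (hcl g).closure_eq] at hg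
    have hs : s ∈ irreducibleComponent s := mem_irreducibleComponent
    rw [← hg] at hs ⊢
    rw [Set.mem_singleton_iff.1 hs]
  have hfin : Finite S := by
    haveI := (TopologicalSpace.NoetherianSpace.finite_irreducibleComponents (α := S)).to_subtype
    refine Finite.of_injective (fun s : S => (⟨irreducibleComponent s,
      irreducibleComponent_mem_irreducibleComponents s⟩ : irreducibleComponents S)) fun a b h => ?_
    have := congrArg Subtype.val h
    simp only [hcomp] at this
    exact Set.singleton_eq_singleton_iff.1 this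
  let T : Set X := ((fun s : S => s.1.1) '' {s : S | s.1.1 ≠ x})
  have hT : IsClosed T := by
    have : T = ⋃ s ∈ {s : S | s.1.1 ≠ x}, ({s.1.1} : Set X) := by
      ext p; simp [T, eq_comm]
    rw [this]
    exact Set.Finite.isClosed_biUnion (Set.toFinite _) fun s _ => hσ _ s.1.2 s.2
  refine ⟨V ⊓ ⟨Tᶜ, hT.isOpen_compl⟩, ⟨hx, ?_⟩, inf_le_left, fun y hy hne => ?_⟩
  · rintro ⟨s, hs, hsx⟩
    exact hs hsx
  · by_contra h
    exact hy.2 ⟨⟨⟨y, hy.1⟩, h⟩, hne, rfl⟩

/-- Let k be an algebraically closed field and X a nodal curve over k: proper over k, reduced,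
connected, every irreducible component of dimension one, with at-worst-nodal singularities. Let J be
a coherent O_X-module which is pure of dimension one (every nonzero coherent submodule has
one-dimensional support), for instance a pure quotient with one-dimensional support of a rank-one
torsion-free sheaf. Let U be an open subset and f a function on U vanishing at every point of U
lying in the support Y of J. Then f acts as zero on J over U: for every x ∈ U the germ of f at x
annihilates the stalk J_x. In other words the ideal sheaf of the reduced subcurve Y annihilates J,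
so J is an O_Y-module; this is the first assertion in the proof that every such quotient q : I → J
of a rank-one torsion-free I factors through the torsion-free restriction of I to Y, the remaining
assertion (that the induced map is an isomorphism) not being part of this row. -/
theorem result
    (k : Type u) [Field k] [IsAlgClosed k] (X : Scheme.{u}) [X.Over (Spec (CommRingCat.of k))]
    [IsProper (X ↘ Spec (CommRingCat.of k))] [IsReduced X] [ConnectedSpace X]
    (hequi : ∀ Z ∈ irreducibleComponents (X : Type u), topologicalKrullDim Z = 1)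
    (hX : Curv2.AtWorstNodal k X)
    (J : X.Modules) (hJc : Coh.IsCoh J) (hJp : ShStab.IsPure X J 1)
    (U : X.Opens) (f : X.presheaf.obj (Opposite.op U))
    (hf : ∀ x : X, x ∈ U → x ∈ CohB1.support J → x ∉ X.basicOpen f)
    (x : X) (hx : x ∈ U) (t : J.presheaf.stalk x) :
    (X.presheaf.germ U x hx f) • t = 0 := by
  haveI : IsLocallyNoetherian X := LocallyOfFiniteType.isLocallyNoetherian (X ↘ Spec (CommRingCat.of k))
  haveI : CompactSpace X := QuasiCompact.compactSpace_of_compactSpace (X ↘ Spec (CommRingCat.of k))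
  haveI : IsNoetherian X := ⟨⟩
  have hgen : ∀ (y : X) (hy : y ∈ U), (∀ z : X, z ⤳ y → z = y) → ∀ s : J.presheaf.stalk y,
      (X.presheaf.germ U y hy f) • s = 0 := by
    intro y hy hmax s
    by_cases hsupp : y ∈ CohB1.support J
    · have hnu : ¬ IsUnit (X.presheaf.germ U y hy f) := fun hu =>
        hf y hy hsupp ((X.mem_basicOpen f y hy).2 hu)
      have h0 : X.presheaf.germ U y hy f = 0 := by
        by_contra hne
        exact hnu (isUnit_iff_exists_inv.2 ((Groth.VarietyBC.AffineNhd.isField_stalk hmax).mul_inv_cancel hne))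
      rw [h0, zero_smul]
    · haveI : Subsingleton (J.presheaf.stalk y) := not_not.1 hsupp
      exact Subsingleton.elim _ _
  by_cases hmax : ∀ z : X, z ⤳ x → z = x
  · exact hgen x hx hmax t
  push Not at hmax
  obtain ⟨z, hz, hzne⟩ := hmax
  have hxc : IsClosed ({x} : Set X) := isClosed_singleton_aux hequi hz hzne
  obtain ⟨V₀, hxV₀, τ, rfl⟩ := TopCat.Presheaf.exists_germ_eq J.presheaf t
  let V : X.Opens := V₀ ⊓ U
  let τ' : Γ(J, V) := J.presheaf.map (homOfLE (inf_le_left : V ≤ V₀)).op τ
  let f' : Γ(X, V) := X.presheaf.map (homOfLE (inf_le_right : V ≤ U)).op f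
  let σ : Γ(J, V) := f' • τ'
  have hσ : ∀ (y : X) (hy : y ∈ V), J.presheaf.germ V y hy σ =
      X.presheaf.germ U y hy.2 f • J.presheaf.germ V y hy τ' := fun y hy => by
    show J.presheaf.germ V y hy (f' • τ') = _
    rw [Groth.QCohMod.germ_smul J y hy f' τ']
    exact congrArg (· • _) (X.presheaf.germ_res_apply (homOfLE (inf_le_right : V ≤ U)) y hy f)
  have hxV : x ∈ V := ⟨hxV₀, hx⟩
  have hgoal : X.presheaf.germ U x hx f • J.presheaf.germ V₀ x hxV₀ τ = J.presheaf.germ V x hxV σ := by
    rw [hσ x hxV]
    exact congrArg _ (J.presheaf.germ_res_apply (homOfLE (inf_le_left : V ≤ V₀)) x hxV τ).symm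
  rw [hgoal]
  by_contra hne
  have hbad : ∀ (y : X) (hy : y ∈ V), J.presheaf.germ V y hy σ ≠ 0 → IsClosed ({y} : Set X) := by
    intro y hy h
    by_contra hcl
    refine h ((hσ y hy).trans (hgen y hy.2 (fun z hz => ?_) _))
    by_contra hne'
    exact hcl (isClosed_singleton_aux hequi hz hne')
  obtain ⟨W, hxW, hWV, hW⟩ := exists_nhd_support_le J σ hbad hxV
  let U0 : X.Opens := ⟨{x}ᶜ, hxc.isOpen_compl⟩
  let φ := Groth.QCohMod.openUnit U0 J
  haveI := hJc.1
  haveI : QuasiCompact U0.ι := inferInstance
  haveI : ((Scheme.Modules.pushforward U0.ι).obj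
      ((Scheme.Modules.restrictFunctor U0.ι).obj J)).IsQuasicoherent :=
    Groth.QCohMod.isQCoh_pushforward _ U0.ι
  have hG : Coh.IsCoh (kernel φ) := Groth.QCohMod.isCoh_kernel φ hJc
  have hsub : CohB1.support (kernel φ) ⊆ {x} := by
    intro y hy
    by_contra hyx
    haveI := Groth.QCohMod.isIso_stalk_openUnit U0 J (x := y) hyx
    have h1 : Function.Injective ((Groth.QCohMod.stalk y).map (kernel.ι φ)) :=
      (Groth.QCohMod.mono_iff_stalk (kernel.ι φ)).1 inferInstance y
    have h2 : (Groth.QCohMod.stalk y).map (kernel.ι φ) = 0 := by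
      rw [← cancel_mono ((Groth.QCohMod.stalk y).map φ), zero_comp, ← Functor.map_comp,
        kernel.condition, Functor.map_zero]
    refine hy ⟨fun a b => h1 ?_⟩
    rw [h2]
    rfl
  have hker : ∃ a : (Groth.QCohMod.stalk x).obj (kernel φ),
      (Groth.QCohMod.stalk x).map (kernel.ι φ) a = J.presheaf.germ V x hxV σ := by
    have hex := (Groth.QCohMod.exact_iff_stalk (ShortComplex.mk (kernel.ι φ) φ (kernel.condition φ))).1
      (ShortComplex.exact_of_f_is_kernel _ (kernelIsKernel φ)) x
    rw [ShortComplex.ab_exact_iff] at hex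
    refine hex _ ?_
    have hz : φ.app W (J.presheaf.map (homOfLE hWV).op σ) = 0 := by
      show J.presheaf.map (homOfLE (U0.ι.image_preimage_le W)).op
        (J.presheaf.map (homOfLE hWV).op σ) = 0
      refine TopCat.Presheaf.section_ext ⟨J.presheaf, J.isSheaf⟩ _ _ _ fun y hy => ?_
      obtain ⟨p, hp, rfl⟩ := hy
      rw [J.presheaf.germ_res_apply, J.presheaf.germ_res_apply, map_zero]
      exact hW _ hp p.2
    show (TopCat.Presheaf.stalkFunctor Ab x).map φ.mapPresheaf (J.presheaf.germ V x hxV σ) = 0
    rw [← J.presheaf.germ_res_apply (homOfLE hWV) x hxW σ]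
    refine (TopCat.Presheaf.stalkFunctor_map_germ_apply W x hxW φ.mapPresheaf _).trans ?_
    exact (congrArg _ hz).trans (map_zero _)
  obtain ⟨a, ha⟩ := hker
  have hx' : x ∈ CohB1.support (kernel φ) := by
    intro hs
    refine hne ?_
    rw [← ha, show a = 0 from @Subsingleton.elim _ hs a 0]
    exact map_zero _
  have h0 : ¬ IsZero (kernel φ) := fun h => by
    rw [(Groth.QCohMod.isZero_iff_support_eq_empty _).1 h] at hx'
    exact hx'
  have hd := hJp (kernel φ) (kernel.ι φ) inferInstance hG h0
  haveI : Subsingleton (CohB1.support (kernel φ)) :=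
    ⟨fun a b => Subtype.ext ((hsub a.2).trans (hsub b.2).symm)⟩
  haveI : Subsingleton (TopologicalSpace.IrreducibleCloseds (CohB1.support (kernel φ))) :=
    ⟨fun A B => SetLike.ext fun p =>
      ⟨fun _ => by obtain ⟨q, hq⟩ := B.isIrreducible.nonempty; rwa [Subsingleton.elim p q],
        fun _ => by obtain ⟨q, hq⟩ := A.isIrreducible.nonempty; rwa [Subsingleton.elim p q]⟩⟩
  have h1 : topologicalKrullDim (CohB1.support (kernel φ)) ≤ 0 := Order.krullDim_nonpos_of_subsingleton
  rw [hd] at h1
  exact absurd (show ((1 : ℕ) : WithBot ℕ∞) ≤ ((0 : ℕ) : WithBot ℕ∞) by simpa using h1)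
    (fun h => by simpa using Nat.cast_le.1 h)

end Groth.Agent.S17178
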