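import Groth.Statements.S17179
import Groth.Agent.ModelsGraphs.BI

set_option autoImplicit false
set_option linter.unusedSimpArgs false
universe u
open LabGraph

namespace Groth.Agent.S17179

open LabGraph in
/-- Let Γ be the weighted dual graph of a Deligne–Mumford semistable curve X of genus g ≥ 3 (connected;
every weight-zero vertex without loop joined to the other vertices by at least two edges), d a
multidegree of total degree D satisfying the Basic Inequality, and Z a set of vertices whose degree
equals the upper extreme M_Z of the inequality, that is 2((2g - 2)·d_Z - D·canDeg Z) = cut Z·(2g -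
2). Then d + z again satisfies the Basic Inequality, where z, the multidegree of O(Z) on the total
space of a regular smoothing, is the twist of the indicator function of Z (it lowers the degree on Z
by cut Z and raises it on each outside vertex by its number of edges to Z). -/
theorem result {V E : Type u} [Fintype V] [Fintype E]
    [DecidableEq V] [DecidableEq E] (ends : E → V × V) (w : V → ℕ) (hX : IsSemistableGraph ends w)
    (hg : 3 ≤ genus ends w) (d : V → ℤ) (hBI : SatisfiesBI ends w d) (Z : Finset V)
    (hZ : 2 * (canDeg ends w Finset.univ * (∑ v ∈ Z, d v) - (∑ v : V, d v) * canDeg ends w Z) =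
      (cut ends Z : ℤ) * canDeg ends w Finset.univ) :
    SatisfiesBI ends w (fun v => d v + twist ends (fun u => if u ∈ Z then 1 else 0) v) := by
  refine Groth.ModelsGraphs.BI.bi_add_twist ?_ hBI Z hZ
  rw [Groth.ModelsGraphs.BI.canDeg_univ]
  linarith

end Groth.Agent.S17179
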