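import Groth.Statements.S1718
import Groth.Agent.DualCore.LocalDuality

set_option autoImplicit false
universe u
open CategoryTheory
attribute [local instance] HasDerivedCategory.standard
open Dual

namespace Groth.Agent.S1718

/-- Let A be a Noetherian local ring with maximal ideal m, residue field κ and a normalized dualizing
complex ω, and let κ → E be an injective hull. Then the degree-0 local cohomology of ω with support
in m (the direct limit of Hom(A/m^n, ω)) is isomorphic to E, and the local cohomology of ω in every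
other degree is zero. -/
theorem result (A : Type u) [CommRing A] [IsLocalRing A] [IsNoetherianRing A] (ω : Dual.D A) (hω : Dual.IsDualizing A ω) (hn : Dual.IsNormalized A ω) (E : Type u) [AddCommGroup E] [Module A E] (f : IsLocalRing.ResidueField A →ₗ[A] E) (hf : InjHull.IsInjectiveHull f) : Nonempty (Dual2.HDI A (IsLocalRing.maximalIdeal A) ω 0 ≃ₗ[A] E) ∧ ∀ i : ℤ, i ≠ 0 → Subsingleton (Dual2.HDI A (IsLocalRing.maximalIdeal A) ω i) := by
  refine ⟨?_, fun i hi => ?_⟩
  · obtain ⟨e⟩ := Groth.DualCore.nonempty_HDI_equiv hω hn hf ω hω.finite_cohomology 0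
    let g : A ≃ₗ[A] (ω ⟶ ω) := LinearEquiv.ofBijective (LinearMap.toSpanSingleton A _ (CategoryTheory.CategoryStruct.id ω)) hω.toEnd_bijective
    let h : (ω ⟶ ω⟦-(0 : ℤ)⟧) ≃ₗ[A] A :=
      CategoryTheory.Linear.homCongr A (CategoryTheory.Iso.refl ω)
        ((CategoryTheory.shiftFunctorZero' (Dual.D A) (-(0 : ℤ)) neg_zero).app ω) ≪≫ₗ g.symm
    exact ⟨e ≪≫ₗ LinearEquiv.arrowCongr h (LinearEquiv.refl A E) ≪≫ₗ LinearMap.ringLmapEquivSelf A A E⟩
  · obtain ⟨e⟩ := Groth.DualCore.nonempty_HDI_equiv hω hn hf ω hω.finite_cohomology i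
    haveI := hω.ext_self_subsingleton (-i) (neg_ne_zero.2 hi)
    exact e.toEquiv.subsingleton

end Groth.Agent.S1718
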