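import Groth.Statements.S17180
import Groth.Agent.AffineDiv.Fibre
import Groth.Agent.AffineDiv.Main
import Groth.Agent.Misc13.HodgeProper
import Groth.Agent.ZetaAn.ProdCurves

set_option autoImplicit false
universe u
open CategoryTheory CategoryTheory.Limits AlgebraicGeometry
open Surf

namespace Groth.Agent.S17180

/-- Let k be a field, X an integral proper k-scheme of dimension 2 with regular local rings which is
geometrically irreducible over k, C an integral proper smooth k-scheme of dimension 1, and f : X → C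
a surjective k-morphism. Let L be an invertible O_X-module whose intersection number with every
vertical integral curve (a closed integral one-dimensional E ⊆ X sent by f to a single point) is 0,
and whose intersection number with some horizontal integral curve P (closed, integral,
one-dimensional, with f(P) not a single point) is 0. Then (L·L) ≤ 0, and if (L·L) = 0 then L is
numerically trivial: its intersection number with every closed integral curve of X is 0. Here (L·L)
= χ(O_X) − 2χ(L) + χ(L ⊗ L) and the number with a curve Y is χ(O_Y) − χ(L ⊗ O_Y), both packaged as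
FGA.intNum. (The published assertion is the positive-definiteness of the pairing −(D·D′) on classes
of divisors of degree 0 on the generic fibre modulo classes of fibre components, after tensoring
with the rationals; this row gives that content for divisor classes up to numerical equivalence,
which is what the printed argument establishes, and leaves aside the identification of the pairing
with a canonical height. The published setting also takes X to be the relatively minimal regular
model, projective over k, of a smooth projective geometrically irreducible curve of positive genus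
over the function field of C, with C projective and geometrically irreducible; this row keeps only
the hypotheses the printed argument uses.) -/
theorem result (k : Type u) [Field k]
    (X : Scheme.{u}) [X.Over (Spec (CommRingCat.of k))] [IsProper (X ↘ Spec (CommRingCat.of k))]
    [IsIntegral X] [GeometricallyIrreducible (X ↘ Spec (CommRingCat.of k))]
    (hreg : ∀ x : X, IsRegularLocalRing (X.presheaf.stalk x)) (hdim : topologicalKrullDim X = 2)
    (C : Scheme.{u}) [C.Over (Spec (CommRingCat.of k))] [IsProper (C ↘ Spec (CommRingCat.of k))]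
    [Smooth (C ↘ Spec (CommRingCat.of k))] [IsIntegral C] (hdimC : topologicalKrullDim C = 1)
    (f : X ⟶ C) [f.IsOver (Spec (CommRingCat.of k))] [Surjective f]
    (L : X.Modules) (hL : PicF.IsInvertible L)
    (hvert : ∀ (E : Scheme.{u}) (ι : E ⟶ X) [IsClosedImmersion ι] [IsIntegral E],
      topologicalKrullDim E = 1 → (Set.range (fun e : E => f (ι e))).Subsingleton →
      FGA.intNum k X 2 ![L] ((Coh.push ι).obj (Coh.structureModule E)) = 0)
    (P : Scheme.{u}) (ιP : P ⟶ X) [IsClosedImmersion ιP] [IsIntegral P] (hP : topologicalKrullDim P = 1)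
    (hPh : (Set.range (fun q : P => f (ιP q))).Nontrivial)
    (hLP : FGA.intNum k X 2 ![L] ((Coh.push ιP).obj (Coh.structureModule P)) = 0) :
    FGA.intNum k X 2 ![L, L] (Coh.structureModule X) ≤ 0 ∧
      (FGA.intNum k X 2 ![L, L] (Coh.structureModule X) = 0 →
        ∀ (Y : Scheme.{u}) (ι : Y ⟶ X) [IsClosedImmersion ι] [IsIntegral Y], topologicalKrullDim Y = 1 →
          FGA.intNum k X 2 ![L] ((Coh.push ι).obj (Coh.structureModule Y)) = 0) := by
  open Groth.Inter Groth.SurfNum Groth.AffineDiv Groth.Variety2 in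
  have conv : ∀ (E : Scheme.{u}) (ι : E ⟶ X) [IsClosedImmersion ι] [AlgebraicGeometry.IsIntegral E],
      topologicalKrullDim E = 1 → ∃ ξ : X, Set.range ι = closure ({ξ} : Set X) ∧
        topologicalKrullDim (closure ({ξ} : Set X)) = ((1 : ℕ) : WithBot ℕ∞) ∧
        ∀ M : X.Modules, PicF.IsInvertible M →
          FGA.intNum k X 2 ![M] ((Coh.push ι).obj (Coh.structureModule E)) =
            Groth.Inter.pair k (ClSub.idealMod (IntMult.ptIdeal ξ)) M := by
    intro E ι _ _ hE
    haveI : Nonempty ι.ker.subscheme := ⟨ι.toImage (Nonempty.some inferInstance)⟩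
    haveI : AlgebraicGeometry.IsIntegral ι.ker.subscheme := isIntegral_of_isOpenImmersion (inv ι.toImage)
    obtain ⟨ξ, hξ, hsupp⟩ := Groth.SurfNum.eq_ptIdeal ι.ker
    have hr : Set.range ι = closure ({ξ} : Set X) := by
      rw [← hsupp, Scheme.Hom.support_ker, ι.isClosedEmbedding.isClosed_range.closure_eq]
    have hd : topologicalKrullDim (closure ({ξ} : Set X)) = ((1 : ℕ) : WithBot ℕ∞) := by
      rw [← hr, ← (ι.isEmbedding.toHomeomorph).isHomeomorph.topologicalKrullDim_eq, hE]
      rfl
    have hcv : Groth.SurfNum.IsCurve (IntMult.ptIdeal ξ) :=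
      ⟨Groth.CohTwo.isIntegral_closure_subscheme rfl, by
        rw [Groth.SurfNum.support_ptIdeal]; exact hd.trans (by simp)⟩
    refine ⟨ξ, hr, hd, fun M hM => ?_⟩
    obtain ⟨e⟩ := Groth.ZetaAn.ProdCurves.quotMod_ker_iso ι
    rw [Groth.Inter.intNum_eq k hdim.le, Groth.Inter.delta_congr k _ ⟨e.symm⟩, hξ,
      Groth.SurfNum.pair_idealMod k (hcv.isEffCartier k hdim hreg) hM]
    simp [List.ofFn_succ]
  obtain ⟨ξ, hξr, hξd, hξp⟩ := conv P ιP hP
  have hq : f ≫ (C ↘ Spec (CommRingCat.of k)) = X ↘ Spec (CommRingCat.of k) :=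
    comp_over f (Spec (CommRingCat.of k))
  have hξη : f ξ = genericPoint C := by
    refine (Groth.AffineDiv.eq_genericPoint_or_isClosed k (C ↘ Spec (CommRingCat.of k)) hdimC
      (f ξ)).resolve_right fun hcl => hPh.not_subsingleton ?_
    refine Set.subsingleton_singleton.anti (t := {f ξ}) ?_
    rintro _ ⟨a, rfl⟩
    have h1 : ξ ⤳ ιP a := specializes_iff_mem_closure.2 (hξr.le ⟨a, rfl⟩)
    have h2 := specializes_iff_mem_closure.1 (h1.map f.continuous)
    rwa [hcl.closure_eq] at h2
  obtain ⟨Φ, hΦ, hΦΦ, hΦpos, hΦort⟩ := Groth.AffineDiv.exists_fibre_class k hdim hreg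
    (C ↘ Spec (CommRingCat.of k)) hdimC f hq
  have hξcv : Groth.SurfNum.IsCurve (IntMult.ptIdeal ξ) :=
    ⟨Groth.CohTwo.isIntegral_closure_subscheme rfl, by
      rw [Groth.SurfNum.support_ptIdeal]; exact hξd.trans (by simp)⟩
  have hPm := hξcv.isInvertible k hdim hreg
  have hLP' : Groth.Inter.pair k (ClSub.idealMod (IntMult.ptIdeal ξ)) L = 0 := (hξp L hL).symm.trans hLP
  have hLΦ : Groth.Inter.pair k L Φ = 0 := hΦort L hL fun y hy hyc => by
    haveI : AlgebraicGeometry.IsIntegral (IntMult.ptIdeal y).subscheme :=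
      Groth.CohTwo.isIntegral_closure_subscheme rfl
    have hry : Set.range (IntMult.ptIdeal y).subschemeι = closure ({y} : Set X) := by
      rw [Scheme.IdealSheafData.range_subschemeι, Groth.SurfNum.support_ptIdeal]
    have hdy : topologicalKrullDim (IntMult.ptIdeal y).subscheme = 1 := by
      rw [(IntMult.ptIdeal y).subschemeι.isEmbedding.toHomeomorph.isHomeomorph.topologicalKrullDim_eq,
        hry, hy]
      rfl
    obtain ⟨ξ', hr', hd', hp'⟩ := conv _ (IntMult.ptIdeal y).subschemeι hdy
    have he : y = ξ' := Groth.Inter.eq_of_dim_closure ((hry.symm.trans hr').le (subset_closure rfl)) hd'.le hy.ge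
    subst he
    rw [← hp' L hL]
    refine hvert _ _ hdy (Set.subsingleton_singleton.anti (t := {f y}) ?_)
    rintro _ ⟨a, rfl⟩
    have h1 : y ⤳ (IntMult.ptIdeal y).subschemeι a := specializes_iff_mem_closure.2 (hry.le ⟨a, rfl⟩)
    have h2 := specializes_iff_mem_closure.1 (h1.map f.continuous)
    rwa [hyc.closure_eq] at h2
  obtain ⟨n, hn⟩ : ∃ n : ℕ, |Groth.Inter.pair k (ClSub.idealMod (IntMult.ptIdeal ξ))
      (ClSub.idealMod (IntMult.ptIdeal ξ))| < n := ⟨(|Groth.Inter.pair k (ClSub.idealMod (IntMult.ptIdeal ξ))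
      (ClSub.idealMod (IntMult.ptIdeal ξ))| + 1).toNat, by
    rw [Int.toNat_of_nonneg (by positivity)]; exact lt_add_one _⟩
  obtain ⟨H, hH, hHp⟩ := Groth.Inter.exists_comb k hdim.le hPm hΦ 1 n
  have hLH : Groth.Inter.pair k L H = 0 := by
    rw [Groth.Inter.pair_comm k, hHp L hL, hLP', Groth.Inter.pair_comm k Φ, hLΦ]
    ring
  have hHH : 0 < Groth.Inter.pair k H H := by
    have hpos := hΦpos ξ hξd hξη
    rw [hHp H hH, Groth.Inter.pair_comm k (ClSub.idealMod _) H, Groth.Inter.pair_comm k Φ H,
      hHp _ hPm, hHp Φ hΦ, hΦΦ, Groth.Inter.pair_comm k Φ (ClSub.idealMod _)]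
    have := abs_nonneg (Groth.Inter.pair k (ClSub.idealMod (IntMult.ptIdeal ξ))
      (ClSub.idealMod (IntMult.ptIdeal ξ)))
    nlinarith [neg_abs_le (Groth.Inter.pair k (ClSub.idealMod (IntMult.ptIdeal ξ))
      (ClSub.idealMod (IntMult.ptIdeal ξ)))]
  obtain ⟨U, hU, hηU, -⟩ := exists_isAffineOpen_mem_and_subset (U := (⊤ : X.Opens)) (Set.mem_univ (genericPoint X))
  obtain ⟨I, hI, -, hIa⟩ := Groth.AffineDiv.exists_ample_divisor k hdim hreg hU ⟨_, hηU⟩
  obtain ⟨A, hA, hAI⟩ := Groth.PicAux.exists_isInverseOf (Groth.PicAux.isInvertible_idealMod hI)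
  have hAamp : CohB1.IsAmple A := hIa A hA (Groth.PicAux.isInverseOf_symm hAI)
  rw [Groth.Inter.intNum_eq_pair k hdim.le]
  refine ⟨Groth.Inter.pair_self_nonpos k hdim hAamp hH hL hHH
    (by rw [Groth.Inter.pair_comm k]; exact hLH), fun h0 Y ι _ _ hY => ?_⟩
  obtain ⟨η, -, hηd, hηp⟩ := conv Y ι hY
  have hηcv : Groth.SurfNum.IsCurve (IntMult.ptIdeal η) :=
    ⟨Groth.CohTwo.isIntegral_closure_subscheme rfl, by
      rw [Groth.SurfNum.support_ptIdeal]; exact hηd.trans (by simp)⟩
  rw [hηp L hL, Groth.Inter.pair_comm k]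
  exact Groth.Misc13.HodgeProper.pair_eq_zero k hdim hAamp hH hL hHH hLH h0.ge (hηcv.isInvertible k hdim hreg)

end Groth.Agent.S17180
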