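import Groth.Statements.S17181
import Groth.Agent.FBaseGeom.FlatTotal

set_option autoImplicit false
universe u
open CategoryTheory CategoryTheory.Limits AlgebraicGeometry
open FBase

namespace Groth.Agent.S17181

/-- Let k be a field, C an irreducible k-scheme which is geometrically irreducible over k, and f : X → C
a flat k-morphism locally of finite type with X irreducible. If the generic fibre of f is
geometrically irreducible over the residue field of the generic point of C, then X is geometrically
irreducible over k. (The published setting is a regular proper surface mapping onto a smooth
projective geometrically irreducible curve with smooth projective geometrically irreducible generic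
fibre; the printed argument uses only the hypotheses kept here.) -/
theorem result (k : Type u) [Field k]
    (X C : Scheme.{u}) [X.Over (Spec (CommRingCat.of k))] [C.Over (Spec (CommRingCat.of k))]
    (f : X ⟶ C) [f.IsOver (Spec (CommRingCat.of k))] [IrreducibleSpace X] [IrreducibleSpace C]
    [GeometricallyIrreducible (C ↘ Spec (CommRingCat.of k))] [Flat f] [LocallyOfFiniteType f]
    [GeometricallyIrreducible (f.fiberToSpecResidueField (genericPoint C))] :
    GeometricallyIrreducible (X ↘ Spec (CommRingCat.of k)) := Groth.FBaseGeom.geometricallyIrreducible_of_flat f (comp_over f (Spec (CommRingCat.of k)))

end Groth.Agent.S17181
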