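import Groth.Statements.S17208
import Groth.Agent.ZeroAcyclic.GenericBC

set_option autoImplicit false
universe u
open CategoryTheory CategoryTheory.Limits AlgebraicGeometry Opposite
open EtBC

namespace Groth.Agent.S17208

/-- Sheaves of sets: let S be a Noetherian scheme and a : X → S a morphism of finite type. There is a
dense open U of S with the following property: for every morphism c : Z → S whose image lies in U,
every quasi-compact quasi-separated morphism g : Y → Z, every cartesian square exhibiting Z' as Z
×_S X (projections p : Z' → Z, q : Z' → X) and every cartesian square exhibiting Y' as Y ×_Z Z'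
(projections p' : Y' → Y, g' : Y' → Z'), and every sheaf of sets F on the small etale site of Y, the
base change morphism p^* g_* F → g'_* p'^* F is an isomorphism. (This is the case of a sheaf of
sets, viewed as a stack in discrete categories, of a statement about ind-finite stacks in groupoids
on the etale site.) -/
theorem result {X S : Scheme.{u}} (a : X ⟶ S) [IsNoetherian S]
    [LocallyOfFiniteType a] [QuasiCompact a] :
    ∃ U : S.Opens, Dense (U : Set S) ∧
      ∀ ⦃Y Z Y' Z' : Scheme.{u}⦄ (c : Z ⟶ S) (g : Y ⟶ Z) [QuasiCompact g] [QuasiSeparated g],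
        Set.range c.base ⊆ (U : Set S) →
        ∀ (p : Z' ⟶ Z) (q : Z' ⟶ X), IsPullback p q c a →
        ∀ (p' : Y' ⟶ Y) (g' : Y' ⟶ Z') (h : IsPullback p' g' g p) (F : EtDesc.Sh Y),
          IsIso (EtBC.baseChange0Sh g p g' p' h.w F) := by
    obtain ⟨U, hU, hloc⟩ := Groth.ZeroAcyclic.exists_dense_open_hasModel a
    exact ⟨U, hU, fun Y Z Y' Z' c g _ _ hc p q hpq p' g' h F =>
      Groth.ZeroAcyclic.isIso_of_locally_hasModel (fun z => hloc _ (hc ⟨z, rfl⟩)) hpq h F⟩

end Groth.Agent.S17208
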