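import Groth.Statements.S1723
import Groth.Agent.DualCore.FibreGorenstein
import Groth.Agent.Calg1.Completion
import Groth.Agent.AdicLinTop.CompletionQuot
import Mathlib

set_option autoImplicit false
universe u
open CategoryTheory
attribute [local instance] HasDerivedCategory.standard
open Dual

namespace Groth.Agent.S1723

/-- If a Noetherian local ring A has a dualizing complex, then each of its formal fibres is a Gorenstein
ring: for every prime p the ring A^ ⊗_A κ(p) (completion at the maximal ideal, tensored with the
residue field of p) is a Gorenstein ring. -/
theorem result (A : Type u) [CommRing A] [IsLocalRing A] [IsNoetherianRing A] (ω : Dual.D A) (hω : Dual.IsDualizing A ω) (p : PrimeSpectrum A) : LocCoh.IsGorensteinRing (EGA4.formalFibre A p.asIdeal) := by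
  let m := IsLocalRing.maximalIdeal A
  haveI : IsNoetherianRing (AdicCompletion m A) :=
    Groth.Calg1.isNoetherianRing_adicCompletion m (IsNoetherian.noetherian m)
  refine Groth.DualCore.isGorensteinRing_fibre (B := AdicCompletion m A) hω
    (Groth.DualCore.isDualizing_extD_of_maximal hω fun n hn => ⟨m, inferInstance, ?_⟩) p.asIdeal
  rw [← AdicCompletion.maximalIdeal_eq_map]
  exact (IsLocalRing.eq_maximalIdeal hn).symm

end Groth.Agent.S1723
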