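import Groth.Statements.S17246
import Groth.Agent.Misc12.Wr.Drop

set_option autoImplicit false
open W4c4effdivwronsk2

namespace Groth.Agent.S17246

open Polynomial in
/-- Let `k` be a field of characteristic zero and take, on the projective line over `k`, the point `∞`
and `m` further distinct points `r_1, …, r_m` of the affine line, with positive integers `b` (at
`∞`) and `a_1, …, a_m`; put `N = b + ∑ a_j`. The sum of the spaces of differentials with a single
pole, of order at most `b + 1` at `∞`, resp. at most `a_j + 1` at `r_j`, `V = H⁰(ω((b+1)∞)) + ∑_j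
H⁰(ω((a_j+1)r_j)) ⊆ H⁰(ω((b+1)∞ + ∑_j (a_j+1)r_j)) ≅ H⁰(O(d))`, `d = b - 1 + ∑ (a_j+1)`, becomes,
after multiplying by `dX⁻¹ ∏_j (X - r_j)^(a_j+1)`, the subspace of `k[X]_{≤ d}` spanned by
`D·k[X]_{<b}` and the `D_i·k[X]_{<a_i}`, where `D = ∏_j (X - r_j)^(a_j+1)` and `D_i` omits the
`i`-th factor; a member `h` vanishes to order `n` at a point `q` of the affine line when `(X - q)^n
∣ h`, and to order `d - deg h` at `∞`. Let `p` be a further point of the affine line, distinct from
the `r_j`, and `V₁ = V(-p)` the members divisible by `X - p` (an `(N-1)`-dimensional system in the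
line bundle twisted down by `p`, with vanishing orders at the marked points read off as for `V`).
With the weight of `V₁` at a marked point defined as `∑_{n=1}^{d} dim V₁(-n·point) - (N-1 choose
2)`: the weight at `r_i` is `∑_{j≠i} a_j + b - 1 + ε_i` and the weight at `∞` is `∑_j a_j - 1 + ε`,
with all `ε` in `{0, 1}`. (The published statement is over the complex numbers with all points
arbitrary; one marked point is placed at `∞` here and `p` is taken distinct from the marked points.) -/
theorem result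
    (k : Type*) [Field k] [CharZero k] (m : ℕ) (r : Fin m → k) (hr : Function.Injective r)
    (a : Fin m → ℕ) (ha : ∀ j, 1 ≤ a j) (b : ℕ) (hb : 1 ≤ b) (N d : ℕ)
    (hN : N = (∑ j, a j) + b) (hd : d + 1 = (∑ j, (a j + 1)) + b)
    (V : Submodule k (Polynomial k))
    (hV : V = (Polynomial.degreeLT k b).map (LinearMap.mulLeft k (∏ j, (X - C (r j)) ^ (a j + 1))) ⊔
      ⨆ i, (Polynomial.degreeLT k (a i)).map
        (LinearMap.mulLeft k (∏ j ∈ Finset.univ.erase i, (X - C (r j)) ^ (a j + 1))))
    (p : k) (hp : ∀ j, p ≠ r j) (V₁ : Submodule k (Polynomial k))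
    (hV₁ : V₁ = V ⊓ (Ideal.span {X - C p}).restrictScalars k) :
    (∀ i : Fin m, ∃ ε : ℕ, ε ≤ 1 ∧
      (∑ n ∈ Finset.range d, Module.finrank k ↥(V₁ ⊓ (Ideal.span {(X - C (r i)) ^ (n + 1)}).restrictScalars k)) + 1 =
        (N - 1).choose 2 + (N - a i) + ε) ∧
    (∃ ε : ℕ, ε ≤ 1 ∧
      (∑ n ∈ Finset.range d, Module.finrank k ↥(V₁ ⊓ Polynomial.degreeLT k (d - n))) + 1 =
        (N - 1).choose 2 + (N - b) + ε) := by
  classical
  open Groth.Agent.Misc12.Wr in
  (obtain rfl := V_eq hr b N hN V hV
   have hd0 := d_succ hN hd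
   have hV₁' : V₁ ≤ (Polynomial.degreeLT k (N + 1)).map (Phi r a) := hV₁.trans_le inf_le_left
   have hdvd : ∀ {x}, x ∈ V₁ → (X - C p) ∣ x := fun {x} h => by
     rw [hV₁] at h; exact Ideal.mem_span_singleton.mp (Submodule.mem_inf.mp h).2
   have hfin : Module.finrank k ↥V₁ + 1 = N := by
     have e := inf_vanish_point (r := r) (a := a) hp hN 1
     rw [pow_one] at e
     rw [hV₁, e, finrank_Mult_point hp (by omega)]
     omega
   refine ⟨fun i => sum_root hr hb hN hd0 i hV₁' hfin (fun h h' =>
       not_pows_Vp (by omega) (hp i) hp (hdvd h) (hdvd h')), ?_⟩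
   have hs := sum_infty hb hN hd0 hV₁' hfin
   have hbad1 : ∀ n, 1 ≤ n → n ≤ N - 1 →
       ¬ (Polynomial.degreeLT k (N + 1 - n)).map (Phi r a) ≤ V₁ := by
     intro n _ hn hle
     have hmem : (X - C p) ∈ Polynomial.degreeLT k (N + 1 - n) := by
       rw [mem_degreeLT, degree_X_sub_C]
       exact_mod_cast (show 1 < N + 1 - n by omega)
     have h1 := hdvd (hle (Submodule.mem_map_of_mem hmem))
     rw [dvd_iff_isRoot, IsRoot, Phi_apply, derivative_X_sub_C] at h1
     simp only [eval_sub, eval_mul, eval_X, eval_C, eval_one, sub_self, mul_zero, sub_zero, mul_one] at h1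
     exact Rad_eval_ne_zero hp h1
   have hbad2 : ∀ n, N < n → ¬ ¬ (Polynomial.degreeLT k (N + 1 - n)).map (Phi r a) ≤ V₁ := by
     intro n hn h
     refine h (fun x hx => ?_)
     obtain ⟨G, hG, rfl⟩ := hx
     rw [show N + 1 - n = 0 by omega, SetLike.mem_coe, mem_degreeLT] at hG
     have : G = 0 := degree_eq_bot.mp (by simpa using hG)
     simp [this]
   have hbadN : ¬ (Polynomial.degreeLT k (N + 1 - N)).map (Phi r a) ≤ V₁ → N ≤ d := by
     intro h
     rcases Nat.eq_zero_or_pos m with hm | hm
     · exfalso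
       subst hm
       refine h (fun x hx => ?_)
       obtain ⟨G, hG, rfl⟩ := hx
       rw [show N + 1 - N = 1 by omega, SetLike.mem_coe, mem_degreeLT] at hG
       obtain ⟨c, rfl⟩ : ∃ c, G = C c :=
         ⟨_, eq_C_of_degree_le_zero (Nat.WithBot.lt_one_iff_le_zero.mp (by exact_mod_cast hG))⟩
       have : Phi r a (C c) = 0 := by simp [Phi_apply, S]
       rw [this]; exact V₁.zero_mem
     · omega
   rw [sum_bad (N := N) (fun n => ¬ (Polynomial.degreeLT k (N + 1 - n)).map (Phi r a) ≤ V₁)
     hbad1 hbad2 (by omega) hbadN (by omega)] at hs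
   have hC := choose_two_succ (show 1 ≤ N by omega)
   refine ⟨1 - (if ¬ (Polynomial.degreeLT k (N + 1 - N)).map (Phi r a) ≤ V₁ then 1 else 0),
     by omega, ?_⟩
   have : (if ¬ (Polynomial.degreeLT k (N + 1 - N)).map (Phi r a) ≤ V₁ then 1 else 0) ≤ 1 := by
     split_ifs <;> omega
   omega)

end Groth.Agent.S17246
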