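import Groth.Statements.S17247
import Groth.Agent.Funfld2.Small.RR

set_option autoImplicit false
open FunFld Groth.FunFld1

namespace Groth.Agent.S17247

/-- Let `K/k` be a function field of one variable of genus one over an algebraically closed field `k` of
characteristic zero (an elliptic curve `E`), `A` a place, and `g ≥ 3` an odd integer. Inside
`H⁰(O_E((2g-2)A)) = L((2g-2)A)` consider `V = L(gA)` (dimension `g`) and any hyperplane `V₁` of it
containing `L((g-2)A)`: `L((g-2)A) ⊆ V₁ ⊆ L(gA)`, `dim V₁ = g - 1`. Vanishing orders are those of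
sections of `O_E((2g-2)A)`: a member `f` vanishes to order at least `n` at a place `Q` when `f ∈
L((2g-2)A - nQ)`, and the weight of `V₁` at `Q` is `∑_{n=1}^{2g-2} dim (V₁ ∩ L((2g-2)A - nQ)) - (g-1
choose 2)` (the sum of the `g - 1` vanishing orders minus `0 + 1 + ⋯ + (g-2)`). Then the weight of
`V₁` at every place `Q ≠ A` is at most `2`. (The published statement is for a smooth elliptic curve
over the complex numbers and allows every odd positive `g`; for `g = 1` the inclusion `O(gA) ⊆
O((2g-2)A)` it uses fails, so `g ≥ 3` here.) -/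
theorem result
    (k K : Type*) [Field k] [IsAlgClosed k] [CharZero k] [Field K] [Algebra k K]
    (hK : FunFld.IsFunctionField k K) (hg1 : FunFld.genus k K = 1)
    (g : ℕ) (hodd : Odd g) (h3 : 3 ≤ g) (A : FunFld.Place k K)
    (V₁ : Submodule k K) (hlo : FunFld.L (Finsupp.single A ((g : ℤ) - 2)) ≤ V₁)
    (hhi : V₁ ≤ FunFld.L (Finsupp.single A (g : ℤ))) (hdim : Module.finrank k ↥V₁ + 1 = g)
    (Q : FunFld.Place k K) (hQ : Q ≠ A) :
    (∑ n ∈ Finset.range (2 * g - 2), Module.finrank k
        ↥(V₁ ⊓ FunFld.L (Finsupp.single A (2 * (g : ℤ) - 2) - Finsupp.single Q ((n : ℤ) + 1)))) ≤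
      (g - 1).choose 2 + 2 := by
  classical
  have hF := IsFF.of_isFunctionField hK
  have hds := Groth.Funfld2.Small.deg_single_eq hK
  have hfin : ∀ D : Divisor k K, FiniteDimensional k (L D) := hF.finiteDimensional_L
  have hfV : FiniteDimensional k V₁ := Submodule.finiteDimensional_of_le hhi
  set E : ℤ → Divisor k K := fun m => Finsupp.single A (g : ℤ) - Finsupp.single Q m with hE
  set U : ℕ → Submodule k K := fun m => V₁ ⊓ L (E m) with hU
  have hdegE : ∀ m : ℤ, (E m).deg = g - m := fun m => by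
    rw [hE, Groth.FunFld1.deg_sub, hds, hds]
  have hellE : ∀ m : ℕ, m < g → ell (E m) = g - m := fun m hm => by
    have := Groth.Funfld2.Small.ell_genusOne hK hg1 (D := E m) (by rw [hdegE]; omega)
    rw [hdegE] at this
    omega
  have hbig : ∀ m : ℕ, g < m → Module.finrank k ↥(U m) = 0 := fun m hm => by
    change Module.finrank k ↥(V₁ ⊓ L (E m)) = 0
    rw [hF.L_eq_bot_of_deg_neg (D := E m) (by rw [hdegE]; omega), inf_bot_eq, finrank_bot]
  have hUrw : ∀ n : ℕ, V₁ ⊓ L (Finsupp.single A (2 * (g : ℤ) - 2) - Finsupp.single Q ((n : ℤ) + 1)) =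
      U (n + 1) := fun n => by
    refine le_antisymm (le_inf inf_le_left fun x hx => fun R => ?_)
      (inf_le_inf_left _ (Groth.FunFld1.L_mono (sub_le_sub_right
        (Finsupp.single_le_single.2 (by omega)) _)))
    rcases eq_or_ne R Q with e | hR
    · have := hx.2 R
      rw [e, Finsupp.sub_apply, Finsupp.single_eq_of_ne hQ, Finsupp.single_eq_same] at this
      rw [e, hE, Finsupp.sub_apply, Finsupp.single_eq_of_ne hQ, Finsupp.single_eq_same]
      push_cast
      exact this
    · have := hhi hx.1 R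
      rwa [hE, Finsupp.sub_apply, Finsupp.single_eq_of_ne hR, sub_zero]
  rw [Finset.sum_congr rfl fun n (_ : n ∈ Finset.range (2 * g - 2)) =>
    congrArg (fun S : Submodule k K => Module.finrank k ↥S) (hUrw n)]
  set u : ℕ → ℕ := fun n => Module.finrank k ↥(U (n + 1)) with hu
  have hsmall : ∀ n, n + 1 < g → u n ≤ g - (n + 1) := fun n hn => by
    have h1 : u n ≤ ell (E ((n + 1 : ℕ) : ℤ)) := Submodule.finrank_mono inf_le_right
    rw [hellE _ hn] at h1
    exact h1
  -- away from the last three orders `L(gA - mQ)` is not in `V₁`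
  have hexact : ∀ n, n + 3 < g → u n + 2 + n ≤ g := fun n hn => by
    by_contra hlt
    have h1 : u n ≤ g - (n + 1) := hsmall n (by omega)
    have hsub : L (E ((n + 1 : ℕ) : ℤ)) ≤ V₁ := by
      have heq : U (n + 1) = L (E ((n + 1 : ℕ) : ℤ)) :=
        Submodule.eq_of_le_of_finrank_le inf_le_right (by
          change ell (E ((n + 1 : ℕ) : ℤ)) ≤ u n
          rw [hellE _ (by omega)]
          omega)
      exact heq ▸ inf_le_left
    set L2 := L (Finsupp.single A ((g : ℤ) - 2)) with hL2
    have hint : L2 ⊓ L (E ((n + 1 : ℕ) : ℤ)) ≤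
        L (Finsupp.single A ((g : ℤ) - 2) - Finsupp.single Q ((n : ℤ) + 1)) := fun x hx R => by
      rcases eq_or_ne R Q with e | hR
      · have := hx.2 R
        rw [hE, e, Finsupp.sub_apply, Finsupp.single_eq_of_ne hQ, Finsupp.single_eq_same] at this
        rw [e, Finsupp.sub_apply, Finsupp.single_eq_of_ne hQ, Finsupp.single_eq_same]
        push_cast at this
        exact this
      · have := hx.1 R
        rwa [Finsupp.sub_apply, Finsupp.single_eq_of_ne hR, sub_zero]
    have h2 := Submodule.finrank_mono hint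
    have h3 := Groth.Funfld2.Small.ell_genusOne hK hg1
      (D := Finsupp.single A ((g : ℤ) - 2) - Finsupp.single Q ((n : ℤ) + 1)) (by
        rw [Groth.FunFld1.deg_sub, hds, hds]; omega)
    rw [Groth.FunFld1.deg_sub, hds, hds] at h3
    have h4 := Submodule.finrank_sup_add_finrank_inf_eq L2 (L (E ((n + 1 : ℕ) : ℤ)))
    have h5 := Submodule.finrank_mono (sup_le hlo hsub)
    have h6 := Groth.Funfld2.Small.ell_single_genusOne hK hg1 A (j := (g : ℤ) - 2) (by omega)
    have h7 := hellE (n + 1) (by omega)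
    simp only [ell] at h3 h6 h7
    rw [← hL2] at h6
    omega
  -- the extreme orders are not both excessive
  have hlast : u (g - 3) + u (g - 1) ≤ 2 := by
    by_contra hlt
    have h1 : u (g - 3) ≤ g - (g - 3 + 1) := hsmall _ (by omega)
    have h0 : ∀ m : ℕ, g ≤ m → ell (E m) ≤ 1 := fun m hm => by
      by_contra h
      have hd := hdegE m
      rcases eq_or_lt_of_le hm with e | hgm
      · have h2 := Groth.Funfld2.Small.ell_add_of_principal hK (D := E m) (by omega)
          (by rw [hd]; omega) 0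
        rw [zero_add, ell_zero_eq hK] at h2
        omega
      · rw [hF.ell_eq_zero_of_deg_neg (D := E m) (by rw [hd]; omega)] at h
        omega
    have h2 : u (g - 1) ≤ ell (E ((g - 1 + 1 : ℕ) : ℤ)) := Submodule.finrank_mono inf_le_right
    have h2' := h0 (g - 1 + 1) (by omega)
    have hZ : 1 ≤ ell (E (g : ℤ)) := by
      rw [show (g : ℤ) = ((g - 1 + 1 : ℕ) : ℤ) by omega]
      omega
    have hsub : L (E ((g - 2 : ℕ) : ℤ)) ≤ V₁ := by
      have heq : U (g - 3 + 1) = L (E ((g - 2 : ℕ) : ℤ)) := by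
        rw [show g - 3 + 1 = g - 2 by omega]
        refine Submodule.eq_of_le_of_finrank_le inf_le_right ?_
        change ell (E ((g - 2 : ℕ) : ℤ)) ≤ _
        rw [hellE _ (by omega)]
        have : u (g - 3) = Module.finrank k ↥(U (g - 2)) := by
          simp only [hu]; rw [show g - 3 + 1 = g - 2 by omega]
        omega
      exact heq ▸ inf_le_left
    -- so `(g - 2)(A - Q)` is principal
    set L2 := L (Finsupp.single A ((g : ℤ) - 2)) with hL2
    set Z : Divisor k K := Finsupp.single A ((g : ℤ) - 2) - Finsupp.single Q ((g : ℤ) - 2) with hZdef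
    have hint : L2 ⊓ L (E ((g - 2 : ℕ) : ℤ)) ≤ L Z := fun x hx R => by
      rcases eq_or_ne R Q with e | hR
      · have := hx.2 R
        rw [hE, e, Finsupp.sub_apply, Finsupp.single_eq_of_ne hQ, Finsupp.single_eq_same] at this
        rw [hZdef, e, Finsupp.sub_apply, Finsupp.single_eq_of_ne hQ, Finsupp.single_eq_same]
        rwa [show ((g : ℤ) - 2) = ((g - 2 : ℕ) : ℤ) by omega]
      · have := hx.1 R
        rwa [hZdef, Finsupp.sub_apply, Finsupp.single_eq_of_ne hR, sub_zero]
    have h3 : Module.finrank k ↥(L2 ⊓ L (E ((g - 2 : ℕ) : ℤ))) ≤ ell Z := Submodule.finrank_mono hint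
    have h4 := Submodule.finrank_sup_add_finrank_inf_eq L2 (L (E ((g - 2 : ℕ) : ℤ)))
    have h5 := Submodule.finrank_mono (sup_le hlo hsub)
    have h6 := Groth.Funfld2.Small.ell_single_genusOne hK hg1 A (j := (g : ℤ) - 2) (by omega)
    have h7 := hellE (g - 2) (by omega)
    simp only [ell] at h6 h7
    rw [← hL2] at h6
    have hZ' : 1 ≤ ell Z := by omega
    have hZd : Z.deg = 0 := by rw [hZdef, Groth.FunFld1.deg_sub, hds, hds]; ring
    -- `n(A - Q)` principal for `n = g - 2, g`, hence for `n = 1`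
    obtain ⟨x, hx, hxZ⟩ := exists_eq_neg_div hK (D := Z) (fun e => by
      unfold ell at hZ'; rw [e, finrank_bot] at hZ'; omega) hZd
    obtain ⟨y, hy, hyE⟩ := exists_eq_neg_div hK (D := E (g : ℤ)) (fun e => by
      unfold ell at hZ; rw [e, finrank_bot] at hZ; omega) (by rw [hdegE]; ring)
    obtain ⟨r, hr⟩ := hodd
    -- `(r + 1)(g - 2) - r g = -1`... use a power of each
    set z := x ^ ((r : ℤ) + 1) * y ^ (-(r : ℤ)) with hz
    have hzdiv : Finsupp.single A (1 : ℤ) - Finsupp.single Q 1 = div k z := by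
      ext R
      have e1 := congrArg (fun D : Divisor k K => D R) hxZ
      have e2 := congrArg (fun D : Divisor k K => D R) hyE
      simp only [hZdef, hE, Finsupp.add_apply, Finsupp.sub_apply, hF.div_apply, Finsupp.zero_apply]
        at e1 e2
      rw [Finsupp.sub_apply, hF.div_apply, hz]
      have hp : ∀ (w : K), w ≠ 0 → ∀ m : ℤ, R.ord (w ^ m) = m * R.ord w := fun w hw m => by
        rw [ord_eq_of_val_eq R (n := m * -R.ord w) (by
          rw [map_zpow₀, val_eq_exp_neg_ord R hw, ← WithZero.exp_zsmul, smul_eq_mul])]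
        ring
      rw [ord_mul R (zpow_ne_zero _ hx) (zpow_ne_zero _ hy), hp x hx, hp y hy]
      simp only [Finsupp.single_apply] at e1 e2 ⊢
      subst hr
      split_ifs at e1 e2 ⊢ with h1 h2 h2 <;> push_cast at e1 e2
      · exact absurd (h2.trans h1.symm) hQ
      · linear_combination (-(r : ℤ) - 1) * e1 + (r : ℤ) * e2
      · linear_combination (-(r : ℤ) - 1) * e1 + (r : ℤ) * e2
      · linear_combination (-(r : ℤ) - 1) * e1 + (r : ℤ) * e2
    exact hQ (eq_of_sub_eq_div hK (by omega) (deg_eq_one_of_isAlgClosed hF A)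
      (deg_eq_one_of_isAlgClosed hF Q) (mul_ne_zero (zpow_ne_zero _ hx) (zpow_ne_zero _ hy)) hzdiv).symm
  -- sum up
  have hc : ∀ m, ∑ n ∈ Finset.range m, (m - n) = (m + 1).choose 2 := by
    intro m
    induction m with
    | zero => simp
    | succ m ih =>
      rw [Finset.sum_range_succ', Finset.sum_congr rfl fun n _ => Nat.succ_sub_succ m n, ih,
        show (m + 1 + 1).choose 2 = (m + 1).choose 1 + (m + 1).choose 2 from Nat.choose_succ_succ _ _,
        Nat.choose_one_right]
      omega
  obtain ⟨t, rfl⟩ : ∃ t, g = t + 3 := ⟨g - 3, by omega⟩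
  have hA1 : ∑ n ∈ Finset.range t, u n + ∑ _n ∈ Finset.range t, 2 ≤
      ∑ n ∈ Finset.range t, ((t + 1 - n) + 2) := by
    rw [← Finset.sum_add_distrib]
    refine Finset.sum_le_sum fun n hn => ?_
    have := hexact n (by rw [Finset.mem_range] at hn; omega)
    rw [Finset.mem_range] at hn
    omega
  rw [Finset.sum_add_distrib] at hA1
  have hA2 : ∑ n ∈ Finset.range t, (t + 1 - n) + 1 = (t + 2).choose 2 := by
    rw [← hc (t + 1), Finset.sum_range_succ]
    omega
  change ∑ n ∈ Finset.range (2 * (t + 3) - 2), u n ≤ _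
  rw [← Finset.sum_range_add_sum_Ico u (show t + 3 ≤ 2 * (t + 3) - 2 by omega),
    Finset.sum_eq_zero (s := Finset.Ico (t + 3) _) (fun n hn => hbig _ (by
      rw [Finset.mem_Ico] at hn; omega)), add_zero, Finset.sum_range_succ, Finset.sum_range_succ,
    Finset.sum_range_succ]
  have := hsmall (t + 1) (by omega)
  simp only [show t + 3 - 3 = t by omega, show t + 3 - 1 = t + 2 by omega] at hlast ⊢
  omega

end Groth.Agent.S17247
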