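import Groth.Statements.S17248
import Groth.Agent.Funfld2.Small.RR

set_option autoImplicit false
open FunFld Groth.FunFld1

namespace Groth.Agent.S17248

/-- Let `K/k` be a function field of one variable of genus one over an algebraically closed field `k` of
characteristic zero (an elliptic curve `E`), `A` a place, and `g ≥ 3` an integer. Inside
`H⁰(O_E((2g-2)A)) = L((2g-2)A)` consider `V = L(gA)` (dimension `g`) and any hyperplane `V₁` of it
containing `L((g-2)A)`: `L((g-2)A) ⊆ V₁ ⊆ L(gA)`, `dim V₁ = g - 1`. Vanishing orders are those of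
sections of `O_E((2g-2)A)`: a member `f` vanishes to order at least `n` at a place `Q` when `f ∈
L((2g-2)A - nQ)`, and the weight of `V₁` at `Q` is `∑_{n=1}^{2g-2} dim (V₁ ∩ L((2g-2)A - nQ)) - (g-1
choose 2)` (the sum of the `g - 1` vanishing orders minus `0 + 1 + ⋯ + (g-2)`). Then the weight of
`V₁` at `A` is `(g-1)² + ε` with `ε ∈ {0, 1}`. (The published statement is for a smooth elliptic
curve over the complex numbers and `g` odd positive; `g ≥ 3` here since the ambient inclusion needs
it; this row does not assume `g` odd.) -/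
theorem result
    (k K : Type*) [Field k] [IsAlgClosed k] [CharZero k] [Field K] [Algebra k K]
    (hK : FunFld.IsFunctionField k K) (hg1 : FunFld.genus k K = 1)
    (g : ℕ) (h3 : 3 ≤ g) (A : FunFld.Place k K)
    (V₁ : Submodule k K) (hlo : FunFld.L (Finsupp.single A ((g : ℤ) - 2)) ≤ V₁)
    (hhi : V₁ ≤ FunFld.L (Finsupp.single A (g : ℤ))) (hdim : Module.finrank k ↥V₁ + 1 = g) :
    ∃ ε : ℕ, ε ≤ 1 ∧
      (∑ n ∈ Finset.range (2 * g - 2), Module.finrank k
        ↥(V₁ ⊓ FunFld.L (Finsupp.single A (2 * (g : ℤ) - 2) - Finsupp.single A ((n : ℤ) + 1)))) =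
      (g - 1).choose 2 + (g - 1) ^ 2 + ε := by
  classical
  have hF := IsFF.of_isFunctionField hK
  have hell : ∀ j : ℤ, 1 ≤ j → (ell (Finsupp.single A j) : ℤ) = j := fun j hj =>
    Groth.Funfld2.Small.ell_single_genusOne hK hg1 A hj
  have hfin := hF.finiteDimensional_L (Finsupp.single A (g : ℤ))
  have hfV : FiniteDimensional k V₁ := Submodule.finiteDimensional_of_le hhi
  set W : ℕ → ℕ := fun j => Module.finrank k ↥(V₁ ⊓ L (Finsupp.single A (j : ℤ))) with hW
  have hsum : (∑ n ∈ Finset.range (2 * g - 2), Module.finrank k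
      ↥(V₁ ⊓ L (Finsupp.single A (2 * (g : ℤ) - 2) - Finsupp.single A ((n : ℤ) + 1)))) =
      ∑ j ∈ Finset.range (2 * g - 2), W j := by
    rw [← Finset.sum_range_reflect]
    refine Finset.sum_congr rfl fun j hj => ?_
    rw [Finset.mem_range] at hj
    rw [hW, ← Finsupp.single_sub,
      show 2 * (g : ℤ) - 2 - (((2 * g - 2 - 1 - j : ℕ) : ℤ) + 1) = (j : ℤ) by omega]
  have h0 : W 0 = 1 := by
    change Module.finrank k ↥(V₁ ⊓ L (Finsupp.single A (0 : ℤ))) = 1
    rw [Finsupp.single_zero]
    rw [inf_eq_right.2 ((Groth.FunFld1.L_mono (Finsupp.single_nonneg.2 (by omega))).trans hlo)]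
    exact ell_zero_eq hK
  have hlow : ∀ j : ℕ, 1 ≤ j → j ≤ g - 2 → W j = j := fun j hj hjg => by
    simp only [hW]
    rw [inf_eq_right.2 ((Groth.FunFld1.L_mono (Finsupp.single_le_single.2 (by omega))).trans hlo)]
    have := hell j (by omega)
    change ell _ = j
    omega
  have hhigh : ∀ j : ℕ, g ≤ j → W j = g - 1 := fun j hj => by
    simp only [hW]
    rw [inf_eq_left.2 (hhi.trans (Groth.FunFld1.L_mono (Finsupp.single_le_single.2 (by omega))))]
    omega
  have hmid : g - 2 ≤ W (g - 1) ∧ W (g - 1) ≤ g - 1 := by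
    constructor
    · refine le_trans (le_of_eq ?_) (Submodule.finrank_mono (le_inf hlo
        (Groth.FunFld1.L_mono (Finsupp.single_le_single.2 (by omega)))))
      have := hell ((g : ℤ) - 2) (by omega)
      change g - 2 = ell _
      omega
    · have : W (g - 1) ≤ Module.finrank k V₁ := Submodule.finrank_mono inf_le_left
      omega
  have key : ∀ m : ℕ, m ≤ g - 2 → ∑ j ∈ Finset.range (m + 1), W j = 1 + (m + 1).choose 2 := by
    intro m hm
    induction m with
    | zero => simp [h0]
    | succ m ih =>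
      rw [Finset.sum_range_succ, ih (by omega), hlow _ (by omega) (by omega),
        Nat.choose_succ_succ (m + 1) 1, Nat.choose_one_right]
      ring
  refine ⟨W (g - 1) - (g - 2), by omega, ?_⟩
  rw [hsum, ← Finset.sum_range_add_sum_Ico W (show g ≤ 2 * g - 2 by omega),
    show Finset.range g = Finset.range (g - 1 + 1) by rw [Nat.sub_add_cancel (by omega)],
    Finset.sum_range_succ, show Finset.range (g - 1) = Finset.range (g - 2 + 1) by
      rw [show g - 2 + 1 = g - 1 by omega], key (g - 2) le_rfl,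
    Finset.sum_congr rfl fun j hj => hhigh j (Finset.mem_Ico.1 hj).1, Finset.sum_const,
    Nat.card_Ico, smul_eq_mul, show g - 2 + 1 = g - 1 by omega]
  obtain ⟨t, ht⟩ : ∃ t, g = t + 3 := ⟨g - 3, by omega⟩
  obtain ⟨hm1, hm2⟩ := hmid
  subst ht
  simp only [show t + 3 - 2 = t + 1 by omega, show t + 3 - 1 = t + 2 by omega,
    show 2 * (t + 3) - 2 - (t + 3) = t + 1 by omega] at hm1 hm2 ⊢
  obtain ⟨ε, hε⟩ : ∃ ε, W (t + 2) = t + 1 + ε := ⟨W (t + 2) - (t + 1), by omega⟩
  rw [hε, Nat.add_sub_cancel_left]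
  ring

end Groth.Agent.S17248
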