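import Groth.Statements.S17249
import Groth.Agent.Funfld2.Small.RR

set_option autoImplicit false
open FunFld Groth.FunFld1

namespace Groth.Agent.S17249

/-- Let `K/k` be a function field of one variable of genus two over an algebraically closed field `k` of
characteristic zero (a smooth curve `X` of genus `2`), `C` a canonical divisor, `A` a place with
`ℓ(2A) = 1` (not a Weierstrass point), and `P`, `Q` places with `Q ≠ A`. Then `ℓ(C + 2A - P - 3Q) =
1` and `ℓ(C + 2A - P - Q) = 2` do not both hold: the two-dimensional complete system `H⁰(ω_X(2A -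
P))` (of degree `3`) has no point `Q ≠ A` of weight three. (The published statement concerns a
general pointed curve `(X, A)` of genus two over the complex numbers and a point `P` of `X`; this
row assumes only `ℓ(2A) = 1`.) -/
theorem result
    (k K : Type*) [Field k] [IsAlgClosed k] [CharZero k] [Field K] [Algebra k K]
    (hK : FunFld.IsFunctionField k K) (hg : FunFld.genus k K = 2)
    (C : FunFld.Divisor k K) (hC : FunFld.IsCanonical k K C)
    (A P Q : FunFld.Place k K) (hA : Module.finrank k ↥(FunFld.L (Finsupp.single A (2 : ℤ))) = 1) (hQ : Q ≠ A) :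
    ¬ (Module.finrank k ↥(FunFld.L (C + Finsupp.single A (2 : ℤ) - Finsupp.single P (1 : ℤ) - Finsupp.single Q (3 : ℤ))) = 1 ∧
       Module.finrank k ↥(FunFld.L (C + Finsupp.single A (2 : ℤ) - Finsupp.single P (1 : ℤ) - Finsupp.single Q (1 : ℤ))) = 2) := by
  rintro ⟨-, h2⟩
  change ell _ = 2 at h2
  refine Groth.Funfld2.Small.no_pair hK hg hC hA hQ (P := P) ?_
  have hd : (C + Finsupp.single A (2 : ℤ) - Finsupp.single P (1 : ℤ) - Finsupp.single Q (1 : ℤ) :
      Divisor k K).deg = 2 := by
    rw [Groth.FunFld1.deg_sub, Groth.FunFld1.deg_sub, Groth.FunFld1.deg_add,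
      deg_canonical hK hC, Groth.Funfld2.Small.deg_single_eq hK,
      Groth.Funfld2.Small.deg_single_eq hK, Groth.Funfld2.Small.deg_single_eq hK, hg]
    norm_num
  have h3 := Groth.Funfld2.Small.ell_deg_two hK hg hC hd h2.ge
  rwa [show C - (C + Finsupp.single A (2 : ℤ) - Finsupp.single P (1 : ℤ) - Finsupp.single Q (1 : ℤ)) =
    Finsupp.single P (1 : ℤ) + Finsupp.single Q 1 - Finsupp.single A 2 by abel] at h3

end Groth.Agent.S17249
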