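import Groth.Statements.S17250
import Groth.Agent.Funfld2.Small.RR

set_option autoImplicit false
open FunFld Groth.FunFld1

namespace Groth.Agent.S17250

/-- Let `K/k` be a function field of one variable of genus two over an algebraically closed field `k` of
characteristic zero (a smooth curve `X` of genus `2`), `C` a canonical divisor, `A` a place with
`ℓ(2A) = 1`, and `P`, `Q` places different from `A`. Then `ℓ(C + 3A - P - 4Q) = 1` and `ℓ(C + 3A - P
- 2Q) = 2` do not both hold (the three-dimensional complete system `H⁰(ω_X(3A - P))`, of degree `4`,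
has no point `Q ≠ A` with two independent sections vanishing to order at least `2` there and one
vanishing to order at least `4`). (The published statement concerns a general pointed curve `(X, A)`
of genus two over the complex numbers and a point `P ≠ A`; this row assumes `ℓ(2A) = 1` in place of
generality.) -/
theorem result
    (k K : Type*) [Field k] [IsAlgClosed k] [CharZero k] [Field K] [Algebra k K]
    (hK : FunFld.IsFunctionField k K) (hg : FunFld.genus k K = 2)
    (C : FunFld.Divisor k K) (hC : FunFld.IsCanonical k K C)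
    (A P Q : FunFld.Place k K) (hA : Module.finrank k ↥(FunFld.L (Finsupp.single A (2 : ℤ))) = 1) (hP : P ≠ A) (hQ : Q ≠ A) :
    ¬ (Module.finrank k ↥(FunFld.L (C + Finsupp.single A (3 : ℤ) - Finsupp.single P (1 : ℤ) - Finsupp.single Q (4 : ℤ))) = 1 ∧
       Module.finrank k ↥(FunFld.L (C + Finsupp.single A (3 : ℤ) - Finsupp.single P (1 : ℤ) - Finsupp.single Q (2 : ℤ))) = 2) := by
  classical
  rintro ⟨h4, h2⟩
  change ell _ = 1 at h4
  change ell _ = 2 at h2
  have hds := Groth.Funfld2.Small.deg_single_eq hK
  set a3 : Divisor k K := Finsupp.single A (3 : ℤ) with ha3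
  set p1 : Divisor k K := Finsupp.single P (1 : ℤ) with hp1
  set q2 : Divisor k K := Finsupp.single Q (2 : ℤ) with hq2
  set q4 : Divisor k K := Finsupp.single Q (4 : ℤ) with hq4
  have hq : q4 = q2 + q2 := by rw [hq4, hq2, ← Finsupp.single_add]; norm_num
  have hd2 : (C + a3 - p1 - q2).deg = 2 := by
    rw [Groth.FunFld1.deg_sub, Groth.FunFld1.deg_sub, Groth.FunFld1.deg_add,
      deg_canonical hK hC, ha3, hp1, hq2, hds, hds, hds, hg]
    norm_num
  have hd4 : (C + a3 - p1 - q4).deg = 0 := by
    rw [Groth.FunFld1.deg_sub, Groth.FunFld1.deg_sub, Groth.FunFld1.deg_add,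
      deg_canonical hK hC, ha3, hp1, hq4, hds, hds, hds, hg]
    norm_num
  have h5 := Groth.Funfld2.Small.ell_deg_two hK hg hC hd2 h2.ge
  rw [show C - (C + a3 - p1 - q2) = p1 + q2 - a3 by abel] at h5
  have hd5 : (p1 + q2 - a3).deg = 0 := by
    rw [Groth.FunFld1.deg_sub, Groth.FunFld1.deg_add, ha3, hp1, hq2, hds, hds, hds]
    norm_num
  -- `C ~ 2Q`, hence `3A - P ~ C`
  have e1 := Groth.Funfld2.Small.ell_add_of_principal hK h4.ge hd4 (q2 + q2 + p1 - a3)
  rw [show q2 + q2 + p1 - a3 + (C + a3 - p1 - q4) = C by rw [hq]; abel,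
    ell_canonical hK hC, hg] at e1
  have e2 := Groth.Funfld2.Small.ell_add_of_principal hK h5 hd5 q2
  rw [show q2 + (p1 + q2 - a3) = q2 + q2 + p1 - a3 by abel, ← e1] at e2
  have e3 := Groth.Funfld2.Small.ell_add_of_principal hK h5 hd5 (a3 - p1)
  rw [show a3 - p1 + (p1 + q2 - a3) = q2 by abel, ← e2] at e3
  exact Groth.Funfld2.Small.no_triple hK hg hC hA (E := p1) (by simp [hp1])
    (by rw [hp1, hds]) e3.symm

end Groth.Agent.S17250
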