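import Groth.Statements.S17251
import Groth.Agent.Funfld2.Small.RR

set_option autoImplicit false
open FunFld Groth.FunFld1

namespace Groth.Agent.S17251

/-- Let `K/k` be a function field of one variable of genus two over an algebraically closed field `k` of
characteristic zero (a smooth curve `Y` of genus `2`), `C` a canonical divisor, `B` a place with
`ℓ(2B) = 1` (not a Weierstrass point) and `Q ≠ B` a place. Then `ℓ(C + B - 2Q) = 1` and `ℓ(C + 3B -
4Q) = 1` do not both hold: the complete systems `H⁰(ω_Y(B))` (dimension `2`, degree `3`) and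
`H⁰(ω_Y(3B))` (dimension `4`, degree `5`) have no ramification point in common on `Y` minus `B`.
(The published statement concerns a general pointed curve `(Y, B)` of genus two over the complex
numbers; this row assumes only `ℓ(2B) = 1`.) -/
theorem result
    (k K : Type*) [Field k] [IsAlgClosed k] [CharZero k] [Field K] [Algebra k K]
    (hK : FunFld.IsFunctionField k K) (hg : FunFld.genus k K = 2)
    (C : FunFld.Divisor k K) (hC : FunFld.IsCanonical k K C)
    (B Q : FunFld.Place k K) (hB : Module.finrank k ↥(FunFld.L (Finsupp.single B (2 : ℤ))) = 1) (hQ : Q ≠ B) :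
    ¬ (Module.finrank k ↥(FunFld.L (C + Finsupp.single B (1 : ℤ) - Finsupp.single Q (2 : ℤ))) = 1 ∧
       Module.finrank k ↥(FunFld.L (C + Finsupp.single B (3 : ℤ) - Finsupp.single Q (4 : ℤ))) = 1) := by
  classical
  rintro ⟨h1, h3⟩
  change ell _ = 1 at h1
  change ell _ = 1 at h3
  have hF := IsFF.of_isFunctionField hK
  have hds := Groth.Funfld2.Small.deg_single_eq hK
  set q2 : Divisor k K := Finsupp.single Q (2 : ℤ) with hq2
  set b1 : Divisor k K := Finsupp.single B (1 : ℤ) with hb1
  set b3 : Divisor k K := Finsupp.single B (3 : ℤ) with hb3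
  set q4 : Divisor k K := Finsupp.single Q (4 : ℤ) with hq4
  have hq : q4 = q2 + q2 := by rw [hq4, hq2, ← Finsupp.single_add]; norm_num
  -- `C ~ 2Q`
  have hCB : L (C + b1) = L C := by
    have := hF.finiteDimensional_L (C + b1)
    refine (Submodule.eq_of_le_of_finrank_le
      (Groth.FunFld1.L_mono (le_add_of_nonneg_right (by simp [hb1]))) ?_).symm
    change ell _ ≤ ell _
    have := ell_eq_of_deg_ge hK (D := C + b1) (by
      rw [Groth.FunFld1.deg_add, deg_canonical hK hC, hb1, hds, hg]; norm_num)
    rw [Groth.FunFld1.deg_add, deg_canonical hK hC, hb1, hds, hg] at this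
    rw [ell_canonical hK hC, hg]
    rw [← hb1] at this
    omega
  obtain ⟨f, hf, hf0⟩ := Groth.Funfld2.Small.exists_mem_ne_zero h1.ge
  have hfC : f ∈ L C := hCB ▸ Groth.FunFld1.L_mono (sub_le_self _ (by simp [hq2])) hf
  have hfmem : f ∈ L (C - q2) := fun R => by
    rcases eq_or_ne R Q with e | hR
    · have := hf R
      rwa [e, Finsupp.sub_apply, Finsupp.add_apply, hb1, Finsupp.single_eq_of_ne hQ, add_zero,
        ← Finsupp.sub_apply, ← e] at this
    · rw [Finsupp.sub_apply, hq2, Finsupp.single_eq_of_ne hR, sub_zero]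
      exact hfC R
  have hCQd : (C - q2).deg = 0 := by
    rw [Groth.FunFld1.deg_sub, deg_canonical hK hC, hq2, hds, hg]; norm_num
  have hCQ : 1 ≤ ell (C - q2) := by
    have := hF.finiteDimensional_L (C - q2)
    exact Submodule.one_le_finrank_iff.2 fun e => hf0 ((Submodule.eq_bot_iff _).1 e f hfmem)
  have e1 := Groth.Funfld2.Small.ell_add_of_principal hK hCQ hCQd (b3 - q2)
  rw [show b3 - q2 + (C - q2) = C + b3 - q4 by rw [hq]; abel, h3] at e1
  obtain ⟨g, hg', hg0⟩ := Groth.Funfld2.Small.exists_mem_ne_zero e1.le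
  have hE := (hF.mem_L_iff hg0).1 hg'
  have hEd : (b3 - q2 + div k g).deg = 1 := by
    rw [Groth.FunFld1.deg_add, hF.deg_div, Groth.FunFld1.deg_sub, hb3, hq2, hds, hds]; norm_num
  refine Groth.Funfld2.Small.no_triple hK hg hC hB hE hEd ?_
  rw [show Finsupp.single B (3 : ℤ) - (b3 - q2 + div k g) = q2 - div k g by rw [hb3]; abel,
    ← hF.ell_add_div (q2 - div k g) hg0, sub_add_cancel]
  have e2 := Groth.Funfld2.Small.ell_add_of_principal hK hCQ hCQd q2
  rw [add_sub_cancel, ell_canonical hK hC, hg] at e2
  exact e2.symm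

end Groth.Agent.S17251
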