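import Groth.Statements.S17259
import Mathlib
-- import your own Groth.Agent.* helpers here

set_option autoImplicit false
open CAlg

namespace Groth.Agent.S17259

/-- Let A, B, C be rings, f : B → A and g : B → C ring homomorphisms, and φ : A → B a homomorphism of
additive groups such that the sequence A → B → C → 0 (maps φ, g) is exact and f ∘ φ is
multiplication by a central element a of A which is not a zero divisor. Then the projection p : A →
A/(a) composed with f factors through g as a ring homomorphism q : C → A/(a), the homomorphism (f,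
g) : B → A × C is injective, and its image is the fibre product of A and C over A/(a) along p and q;
thus (f, g) is a ring isomorphism from B onto that fibre product. (The two-sidedness of the ideal
generated by a, automatic for a central element, is carried as an instance hypothesis.) -/
theorem result {A B C : Type*} [Ring A] [Ring B] [Ring C]
    (f : B →+* A) (g : B →+* C) (φ : A →+ B) (a : A)
    (hc : ∀ x : A, Commute a x) (ha : a ∈ nonZeroDivisors A)
    (hex : Function.Exact φ g) (hg : Function.Surjective g)
    (hφ : ∀ x : A, f (φ x) = a * x)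
    [(Ideal.span ({a} : Set A)).IsTwoSided] :
    ∃ q : C →+* A ⧸ Ideal.span ({a} : Set A),
      q.comp g = (Ideal.Quotient.mk (Ideal.span ({a} : Set A))).comp f ∧
      Function.Injective (f.prod g) ∧
      (f.prod g).range = (Ideal.Quotient.mk (Ideal.span ({a} : Set A))).pullback q := by
  set π := Ideal.Quotient.mk (Ideal.span ({a} : Set A))
  have hπa : π a = 0 := Ideal.Quotient.eq_zero_iff_mem.2 (Ideal.subset_span rfl)
  have hker : RingHom.ker g ≤ RingHom.ker (π.comp f) := by
    intro b hb
    obtain ⟨x, rfl⟩ := (hex b).1 hb
    rw [RingHom.mem_ker, RingHom.comp_apply, hφ, map_mul, hπa, zero_mul]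
  let q : C →+* A ⧸ Ideal.span ({a} : Set A) :=
    RingHom.liftOfRightInverse g (Function.surjInv hg) (Function.rightInverse_surjInv hg) ⟨π.comp f, hker⟩
  have hq : q.comp g = π.comp f := RingHom.liftOfRightInverse_comp g _ _ ⟨π.comp f, hker⟩
  refine ⟨q, hq, ?_, ?_⟩
  · rw [injective_iff_map_eq_zero]
    intro b hb
    obtain ⟨h1, h2⟩ := Prod.ext_iff.1 hb
    obtain ⟨x, rfl⟩ := (hex b).1 h2
    have h3 : a * x = 0 := by rw [← hφ x]; exact h1
    have h4 : x * a = 0 := by rw [← (hc x).eq]; exact h3
    rw [(mem_nonZeroDivisors_iff.1 ha).2 x h4, map_zero]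
  · ext ⟨x, c⟩
    constructor
    · rintro ⟨b, hb⟩
      obtain ⟨rfl, rfl⟩ := Prod.ext_iff.1 hb
      exact (RingHom.congr_fun hq b).symm
    · intro h
      have h' : π x = q c := h
      obtain ⟨b, rfl⟩ := hg c
      rw [← RingHom.comp_apply q g, hq, RingHom.comp_apply] at h'
      obtain ⟨y, hy⟩ := Ideal.mem_span_singleton'.1 (Ideal.Quotient.eq.1 h')
      refine ⟨b + φ y, Prod.ext ?_ ?_⟩
      · show f (b + φ y) = x
        rw [map_add, hφ, (hc y).eq, hy]
        abel
      · show g (b + φ y) = g b
        rw [map_add, (hex _).2 ⟨y, rfl⟩, add_zero]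

end Groth.Agent.S17259
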