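import Groth.Statements.S17266
import Groth.Agent.StkBase.Descent

set_option autoImplicit false
set_option backward.isDefEq.respectTransparency false
set_option backward.isDefEq.respectTransparency.types false
open CategoryTheory
universe v u
open Stk

namespace Groth.Agent.S17266

/-- Let C be a category with a Grothendieck topology J and let F : 𝒳 → 𝒴, G : 𝒴 → 𝒵 be functors over C
between categories fibred in groupoids over C. Say that a functor H : 𝒜 → ℬ over C is covering when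
for every object U of C and every functor b : C/U → ℬ over C there is a J-covering sieve of U such
that for each of its arrows h : V → U the composite of C/V → C/U with b is 2-isomorphic over C to H
∘ a for some functor a : C/V → 𝒜 over C (locally on the base every object of ℬ lifts to 𝒜 up to
isomorphism). If F and G are covering, then the composite G ∘ F is covering. -/
theorem result {C : Type u} [Category.{v} C] (J : GrothendieckTopology C)
    {𝒳 𝒴 𝒵 : BasedCategory.{v, max u v} C}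
    (h𝒳 : FibCat.IsFibGrpd 𝒳.p) (h𝒴 : FibCat.IsFibGrpd 𝒴.p) (h𝒵 : FibCat.IsFibGrpd 𝒵.p)
    (F : 𝒳 ⥤ᵇ 𝒴) (G : 𝒴 ⥤ᵇ 𝒵)
    (hF : (∀ (U : C) (y : FibCat.overCat U ⥤ᵇ 𝒴), ∃ R ∈ J U, ∀ ⦃V : C⦄ (h : V ⟶ U), R.arrows h →
        ∃ x : FibCat.overCat V ⥤ᵇ 𝒳,
          Nonempty (BasedFunctor.comp x F ≅ BasedFunctor.comp (⟨Over.map h, Over.mapForget_eq h⟩ : FibCat.overCat V ⥤ᵇ FibCat.overCat U) y)))
    (hG : (∀ (U : C) (y : FibCat.overCat U ⥤ᵇ 𝒵), ∃ R ∈ J U, ∀ ⦃V : C⦄ (h : V ⟶ U), R.arrows h →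
        ∃ x : FibCat.overCat V ⥤ᵇ 𝒴,
          Nonempty (BasedFunctor.comp x G ≅ BasedFunctor.comp (⟨Over.map h, Over.mapForget_eq h⟩ : FibCat.overCat V ⥤ᵇ FibCat.overCat U) y))) :
    (∀ (U : C) (y : FibCat.overCat U ⥤ᵇ 𝒵), ∃ R ∈ J U, ∀ ⦃V : C⦄ (h : V ⟶ U), R.arrows h →
        ∃ x : FibCat.overCat V ⥤ᵇ 𝒳,
          Nonempty (BasedFunctor.comp x (BasedFunctor.comp F G) ≅ BasedFunctor.comp (⟨Over.map h, Over.mapForget_eq h⟩ : FibCat.overCat V ⥤ᵇ FibCat.overCat U) y)) := by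
  open Groth.StkBase in
  intro U y
  obtain ⟨R, hR, h⟩ := hG U y
  choose xG hxG using h
  choose T hT hxF using fun V (f : V ⟶ U) (hf : R.arrows f) => hF V (xG f hf)
  refine ⟨Sieve.bind R.arrows fun V f hf => T V f hf, J.bind_covering hR fun V f hf => hT V f hf, ?_⟩
  rintro W f ⟨V, g, k, hk, hg, rfl⟩
  obtain ⟨x, ⟨e₁⟩⟩ := hxF V k hk g hg
  obtain ⟨e₂⟩ := hxG k hk
  obtain ⟨e₃⟩ := overPostMap_iso g k
  exact ⟨x, ⟨((whiskerRightIso e₁ G).trans (whiskerLeftIso (overPostMap g) e₂)).trans (whiskerRightIso e₃ y)⟩⟩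

end Groth.Agent.S17266
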