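import Groth.Statements.S17267
import Groth.Agent.StkBase.Descent

set_option autoImplicit false
set_option backward.isDefEq.respectTransparency false
set_option backward.isDefEq.respectTransparency.types false
open CategoryTheory
universe v u
open Stk

namespace Groth.Agent.S17267

/-- Let C be a category with a Grothendieck topology J and let F : 𝒳 → 𝒴 and G : 𝒵 → 𝒴 be functors over
C between categories fibred in groupoids over C. Say that a functor H : 𝒜 → ℬ over C is covering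
when for every object U of C and every functor b : C/U → ℬ over C there is a J-covering sieve of U
such that for each of its arrows h : V → U the composite of C/V → C/U with b is 2-isomorphic over C
to H ∘ a for some functor a : C/V → 𝒜 over C. If F is covering, then the first projection 𝒵 ×_𝒴 𝒳 →
𝒵 of the 2-fibre product over C (the base change of F along G) is covering. -/
theorem result {C : Type u} [Category.{v} C] (J : GrothendieckTopology C)
    {𝒳 𝒴 𝒵 : BasedCategory.{v, max u v} C}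
    (h𝒳 : FibCat.IsFibGrpd 𝒳.p) (h𝒴 : FibCat.IsFibGrpd 𝒴.p) (h𝒵 : FibCat.IsFibGrpd 𝒵.p)
    (F : 𝒳 ⥤ᵇ 𝒴) (G : 𝒵 ⥤ᵇ 𝒴)
    (hF : (∀ (U : C) (y : FibCat.overCat U ⥤ᵇ 𝒴), ∃ R ∈ J U, ∀ ⦃V : C⦄ (h : V ⟶ U), R.arrows h →
        ∃ x : FibCat.overCat V ⥤ᵇ 𝒳,
          Nonempty (BasedFunctor.comp x F ≅ BasedFunctor.comp (⟨Over.map h, Over.mapForget_eq h⟩ : FibCat.overCat V ⥤ᵇ FibCat.overCat U) y))) :
    (∀ (U : C) (y : FibCat.overCat U ⥤ᵇ 𝒵), ∃ R ∈ J U, ∀ ⦃V : C⦄ (h : V ⟶ U), R.arrows h →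
        ∃ x : FibCat.overCat V ⥤ᵇ (FibCat.fp G F),
          Nonempty (BasedFunctor.comp x (FibCat.fpFst G F) ≅ BasedFunctor.comp (⟨Over.map h, Over.mapForget_eq h⟩ : FibCat.overCat V ⥤ᵇ FibCat.overCat U) y)) := by
  open Groth.StkBase in
  intro U y
  obtain ⟨R, hR, h⟩ := hF U (BasedFunctor.comp y G)
  refine ⟨R, hR, fun V f hf => ?_⟩
  obtain ⟨x, ⟨e⟩⟩ := h f hf
  exact ⟨FibCat.fpLift (BasedFunctor.comp (⟨Over.map f, Over.mapForget_eq f⟩ : FibCat.overCat V ⥤ᵇ FibCat.overCat U) y) x e.symm, ⟨Iso.refl _⟩⟩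

end Groth.Agent.S17267
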