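import Groth.Statements.S1727
import Groth.Agent.SuppCx.ModuleForms

set_option autoImplicit false
universe u
open CategoryTheory
attribute [local instance] HasDerivedCategory.standard
open LocCoh

namespace Groth.Agent.S1727

/-- Let A be a Noetherian ring with a dualizing complex, T ⊆ Spec A stable under specialization, s ≥ 0
and M a finite A-module. Then H^i_T(M) is a finite A-module for all i ≤ s if and only if for every
prime p outside T and every q in T containing p, depth(M_p) plus the Krull dimension of the interval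
of primes [p, q] exceeds s. -/
theorem result (A : Type u) [CommRing A] [IsNoetherianRing A] (hA : ∃ ω : Dual.D A, Dual.IsDualizing A ω) (T : Set (PrimeSpectrum A)) (hT : StableUnderSpecialization T) (s : ℕ) (M : Type u) [AddCommGroup M] [Module A M] [Module.Finite A M] : (∀ i : ℕ, i ≤ s → Module.Finite A (Dual2.HT T i M)) ↔ (∀ p q : PrimeSpectrum A, p ∉ T → q ∈ T → p ≤ q → (s : WithBot ℕ∞) < ((LocCoh.depth (Localization.AtPrime p.asIdeal) (LocalizedModule p.asIdeal.primeCompl M) : ℕ∞) : WithBot ℕ∞) + Order.krullDim (Set.Icc p q)) := by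
  obtain ⟨ω, hω⟩ := hA
  obtain ⟨C, hCK, hC, hlow, ⟨e⟩⟩ := Groth.SuppCx.exists_injective_rep (Dual.inD A M) 0 fun i hi =>
    Groth.DualCore.subsingleton_HD_inD M i (by omega)
  rw [← Groth.SuppCx.crit_iff_depth hω M s,
    ← Groth.SuppCx.exists_kills_iff hω hC hlow e (Groth.DualCore.finite_HD_inD M) hT hT s,
    ← Groth.SuppCx.finite_iff_exists_kills hC hlow
      (Groth.SuppCx.finite_Hc_top e (Groth.DualCore.finite_HD_inD M)) s]
  exact Groth.SuppCx.finite_HT_iff hlow e s

end Groth.Agent.S1727
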