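import Groth.Statements.S17274
import Groth.Agent.AlgStBasic.DiagCalc

set_option autoImplicit false
set_option backward.isDefEq.respectTransparency false
set_option backward.isDefEq.respectTransparency.types false
open CategoryTheory CategoryTheory.Limits AlgebraicGeometry
universe u
open AlgSt

namespace Groth.Agent.S17274

/-- Let S be a scheme, P a property of morphisms of algebraic spaces over S (fppf sheaves on (Sch/S)
with representable diagonal and an etale surjective map from a scheme) which is stable under base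
change (along every pullback square of sheaves whose corners are algebraic spaces) and under
composition, and assume moreover that P is local on the base for etale coverings of algebraic
spaces. Let 𝒳, 𝒳′, 𝒴, 𝒴′, 𝒵 be algebraic stacks over (Sch/S) for the etale topology (stacks in
groupoids with diagonal representable by algebraic spaces and a smooth surjective presentation by a
scheme), with functors p′ : 𝒳′ → 𝒵, q′ : 𝒴′ → 𝒵, f : 𝒳 → 𝒳′ and g : 𝒴 → 𝒴′ over (Sch/S), 𝒳 and 𝒴
being regarded over 𝒵 through p′ ∘ f and q′ ∘ g. If the diagonals of f and of g are representable by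
algebraic spaces and have property P, then so does the diagonal of the induced functor f ×_𝒵 g : 𝒳
×_𝒵 𝒴 → 𝒳′ ×_𝒵 𝒴′, namely the functor into the 2-fibre product given by the first projection
followed by f, the second projection followed by g, and the 2-isomorphism whose component at an
object (x, y, α) is α itself. As in the composition case, locality of P on the base is an added
hypothesis under which testing representable morphisms on schemes agrees with testing them on
algebraic spaces. -/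
theorem result (S : Scheme.{u}) (𝒳 𝒳' 𝒴 𝒴' 𝒵 : AlgSt.Cat S)
    (h𝒳 : AlgSt.IsAlgStack Scheme.etalePrecoverage 𝒳) (h𝒳' : AlgSt.IsAlgStack Scheme.etalePrecoverage 𝒳') (h𝒴 : AlgSt.IsAlgStack Scheme.etalePrecoverage 𝒴) (h𝒴' : AlgSt.IsAlgStack Scheme.etalePrecoverage 𝒴') (h𝒵 : AlgSt.IsAlgStack Scheme.etalePrecoverage 𝒵)
    (P : MorphismProperty (AlgSp.Sp S))
    (hPb : ∀ ⦃X₁ Y₁ X₂ Y₂ : AlgSp.Sp S⦄, AlgSp.IsAlgSpace X₁ → AlgSp.IsAlgSpace Y₁ → AlgSp.IsAlgSpace X₂ →
      AlgSp.IsAlgSpace Y₂ → ∀ (a : X₁ ⟶ Y₁) (b : Y₂ ⟶ Y₁) (a' : X₂ ⟶ Y₂) (b' : X₂ ⟶ X₁),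
      IsPullback b' a' a b → P a → P a')
    (hPc : ∀ ⦃X Y Z : AlgSp.Sp S⦄, AlgSp.IsAlgSpace X → AlgSp.IsAlgSpace Y → AlgSp.IsAlgSpace Z →
      ∀ (a : X ⟶ Y) (b : Y ⟶ Z), P a → P b → P (a ≫ b))
    (hP : AlgSp.IsLocalOnBase AlgSp.IsEtCover P)
    (p' : 𝒳' ⥤ᵇ 𝒵) (q' : 𝒴' ⥤ᵇ 𝒵) (f : 𝒳 ⥤ᵇ 𝒳') (g : 𝒴 ⥤ᵇ 𝒴')
    (e : BasedFunctor.comp (BasedFunctor.comp (FibCat.fpFst (BasedFunctor.comp f p') (BasedFunctor.comp g q')) f) p' ≅
      BasedFunctor.comp (BasedFunctor.comp (FibCat.fpSnd (BasedFunctor.comp f p') (BasedFunctor.comp g q')) g) q')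
    (he : ∀ x, e.hom.toNatTrans.app x = x.obj.iso.hom) :
    AlgSt.RepByAlgSpWith P (FibCat.diag f) → AlgSt.RepByAlgSpWith P (FibCat.diag g) →
      AlgSt.RepByAlgSpWith P (FibCat.diag
        (FibCat.fpLift (BasedFunctor.comp (FibCat.fpFst (BasedFunctor.comp f p') (BasedFunctor.comp g q')) f)
          (BasedFunctor.comp (FibCat.fpSnd (BasedFunctor.comp f p') (BasedFunctor.comp g q')) g) e)) := by
  intro hf hg
  refine Groth.AlgStBasic.repWith_diag_of_iso ?_
    (Groth.AlgStBasic.repWith_diag_fpPre h𝒳.isStack.1 h𝒳'.isStack.1 h𝒴.isStack.1 h𝒵.isStack.1 hPb hPc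
      (Groth.AlgStBasic.descendsAlongAtlas_of_isLocalOnBase_et hP) f g p' q' hf hg)
  exact Groth.StkBase.fpIsoMk (Iso.refl _) (Iso.refl _) fun x => by
    simp [Groth.StkBase.fpPre]; exact he x

end Groth.Agent.S17274
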