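import Groth.Statements.S17276
import Groth.Agent.EulerDeg.Nef
-- import your own Groth.Agent.* helpers here

set_option autoImplicit false
universe u
open CategoryTheory CategoryTheory.Limits AlgebraicGeometry TopologicalSpace
open Variety

namespace Groth.Agent.S17276

/-- Let X be a proper scheme over a field k of dimension one (possibly reducible or non-reduced) and L
an invertible O_X-module that is nef, meaning χ(O_C ⊗ L) - χ(O_C) ≥ 0 for every integral closed
subscheme C ⊆ X of dimension one. Then the degree of L on X, namely χ(L) - χ(O_X), is nonnegative. -/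
theorem result (k : Type u) [Field k] (X : Scheme.{u})
    [X.Over (Spec (CommRingCat.of k))] [IsProper (X ↘ (Spec (CommRingCat.of k)))]
    (hdim : topologicalKrullDim X = 1) (L : X.Modules) (hL : PicF.IsInvertible L)
    (hnef : ∀ C : X.IdealSheafData, IsIntegral C.subscheme →
      topologicalKrullDim (C.support : Set X) = 1 →
        0 ≤ Curv2.euler k X (CohB1.tensorMod (ClSub.quotMod C) L) - Curv2.euler k X (ClSub.quotMod C)) :
    0 ≤ Curv2.deg k X L 1 := by
  have h := Groth.EulerDeg.tensorDefect_nonneg_of_nef k hdim.le hL hnef
    (Groth.EulerDeg.isCoh_of_isInvertible (Groth.EulerDeg.isInvertible_structureModule X))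
  have := Groth.EulerDeg.isNoetherian_of_proper k X
  obtain ⟨b, -⟩ := Groth.PicAux.exists_braiding L (Coh.structureModule X)
  obtain ⟨l, -⟩ := Groth.PicAux.exists_leftUnitor L
  simp only [Groth.EulerDeg.tensorDefect] at h
  rw [Groth.EulerDeg.euler_congr k (b ≪≫ l)] at h
  simpa [Curv2.deg] using h

end Groth.Agent.S17276
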