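import Groth.Statements.S17278
import Groth.Agent.Misc13.BigNum

set_option autoImplicit false
universe u
open CategoryTheory CategoryTheory.Limits AlgebraicGeometry TopologicalSpace
open Variety

namespace Groth.Agent.S17278

/-- Let X be a projective variety over a field k (an integral scheme, proper over k, carrying an ample
invertible module A₀) of dimension d, and L an invertible O_X-module. Then L is big, meaning that
for some real c > 0 one has dim_k H^0(X, L^{⊗n}) > c·n^d for all sufficiently large n, if and only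
if for every ample invertible O_X-module A, with a tensor inverse A' (A' ⊗ A ≅ O_X), there is an
integer m > 0 with H^0(X, A' ⊗ L^{⊗m}) ≠ 0. -/
theorem result (k : Type u) [Field k]
    (X : Scheme.{u}) [X.Over (Spec (CommRingCat.of k))] [IsProper (X ↘ (Spec (CommRingCat.of k)))] [IsIntegral X]
    (A₀ : X.Modules) (hA₀ : CohB1.IsAmple A₀)
    (d : ℕ) (hdim : topologicalKrullDim X = d) (L : X.Modules) (hL : PicF.IsInvertible L) :
    (∃ c : ℝ, 0 < c ∧ ∀ᶠ n : ℕ in Filter.atTop,
        c * (n : ℝ) ^ d < (Module.finrank k (Coh.HH X (CohB1.tensorPow L n) 0) : ℝ)) ↔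
      ∀ (A A' : X.Modules), CohB1.IsAmple A → ClSub.IsInverseOf A' A →
        ∃ m : ℕ, 0 < m ∧ Nontrivial (Coh.HH X (CohB1.tensorMod A' (CohB1.tensorPow L m)) 0) := by
  constructor
  · rintro ⟨c, hc, hev⟩ A A' hA hA'
    obtain ⟨N, hN⟩ := Filter.eventually_atTop.1 hev
    have hb : Groth.Inter.HasAmpleSub L :=
      (Groth.Misc13.BigNum.growth_iff k hdim hA₀ hL).2 ⟨c, hc, N, fun m hm => (hN m hm).le⟩
    obtain ⟨m, φ, hm, hφ⟩ := Groth.Misc13.BigNum.bigA_of_hasAmpleSub k hL hb A hA
    refine ⟨m, hm, ?_⟩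
    obtain ⟨e⟩ := hA'
    have hA'i : PicF.IsInvertible A' :=
      Groth.PicAux.isInvertible_of_isInverseOf hA.1 ⟨(Groth.Inter.tensor_comm A A').some ≪≫ e⟩
    have hmono : Mono ((DCoh.tensorRightMod A').map φ) :=
      (Groth.PicAux.shortExact_tensorRightMod hA'i
        (@Groth.CohTwo.cokerSeq_shortExact _ _ _ _ hφ)).mono_f
    let ψ : Coh.structureModule X ⟶ CohB1.tensorMod A' (CohB1.tensorPow L m) :=
      e.inv ≫ (Groth.Inter.tensor_comm A' A).some.hom ≫ (DCoh.tensorRightMod A').map φ ≫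
        (Groth.Inter.tensor_comm (CohB1.tensorPow L m) A').some.hom
    haveI := hmono
    have hψm : Mono ψ := @mono_comp _ _ _ _ _ _ inferInstance _ (@mono_comp _ _ _ _ _ _ inferInstance _ (@mono_comp _ _ _ _ _ _ hmono _ inferInstance))
    refine not_subsingleton_iff_nontrivial.1 fun hs => ?_
    haveI := hs
    haveI : Subsingleton (Groth.CohFin.HA (X ↘ Spec (CommRingCat.of k))
        (CohB1.tensorMod A' (CohB1.tensorPow L m)) 0) := hs
    have hsec : Subsingleton Γ(CohB1.tensorMod A' (CohB1.tensorPow L m), (⊤ : X.Opens)) :=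
      (Groth.CohFin.equivSections (X ↘ Spec (CommRingCat.of k)) _).symm.toEquiv.subsingleton
    have h0 : ψ = 0 := Groth.PicAux.hom_structure_ext (hsec.elim _ _)
    have hz : Limits.IsZero (Coh.structureModule X) := IsZero.of_mono_eq_zero ψ h0
    have hst : Subsingleton ((Coh.structureModule X).presheaf.stalk (genericPoint X)) :=
      AddCommGrpCat.subsingleton_of_isZero ((Groth.QCohMod.stalk (genericPoint X)).map_isZero hz)
    exact not_subsingleton X.functionField
      ((Groth.RefRank.oneEquiv (genericPoint X)).toEquiv.subsingleton)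
  · intro h
    obtain ⟨B, hB, hAB⟩ := Groth.PicAux.exists_isInverseOf hA₀.1
    obtain ⟨m, hm, hnt⟩ := h A₀ B hA₀ ⟨(Groth.Inter.tensor_comm B A₀).some ≪≫ hAB.some⟩
    obtain ⟨x, hx⟩ := exists_ne (0 : Coh.HH X (CohB1.tensorMod B (CohB1.tensorPow L m)) 0)
    let e2 := (Groth.Inter.tensor_comm B (CohB1.tensorPow L m)).some
    let x' : Groth.CohFin.HA (X ↘ Spec (CommRingCat.of k)) (CohB1.tensorMod (CohB1.tensorPow L m) B) 0 :=
      Groth.EulerDeg.hEquiv k e2 0 x
    have hx' : Groth.CohFin.equivSections (X ↘ Spec (CommRingCat.of k)) _ x' ≠ 0 := fun h0 =>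
      hx ((Groth.EulerDeg.hEquiv k e2 0).injective
        (((Groth.CohFin.equivSections (X ↘ Spec (CommRingCat.of k)) _).injective
          (h0.trans (map_zero _).symm)).trans (map_zero _).symm))
    obtain ⟨φ, hφ⟩ := Groth.Inter.exists_mono_of_section (Groth.PicAux.isInvertible_tensorPow hL m)
      hA₀.1 hAB hx'
    obtain ⟨C, hC, m₁, hm₁⟩ := (Groth.Misc13.BigNum.growth_iff k hdim hA₀ hL).1
      ⟨m, A₀, φ, hm, hA₀, hφ⟩
    refine ⟨C / 2, by positivity, Filter.eventually_atTop.2 ⟨m₁ + 1, fun n hn => ?_⟩⟩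
    have h1 := hm₁ n (by omega)
    have : (0 : ℝ) < (n : ℝ) ^ d := by
      have : (0 : ℝ) < n := by exact_mod_cast (by omega : 0 < n)
      positivity
    nlinarith

end Groth.Agent.S17278
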