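import Groth.Statements.S1728
import Groth.Agent.Matlis.Hull

set_option autoImplicit false
universe u
open InjHull

namespace Groth.Agent.S1728

/-- Let I be an injective R-module and E a submodule of I. Then E is an injective module if and only if
every submodule E' of I containing E, such that every nonzero submodule of E' meets E nontrivially,
is equal to E. -/
theorem result (R : Type u) [CommRing R] (I : Type u) [AddCommGroup I] [Module R I] [Module.Injective R I] (E : Submodule R I) : Module.Injective R E ↔ ∀ E' : Submodule R I, E ≤ E' → (∀ N : Submodule R I, N ≤ E' → N ≠ ⊥ → N ⊓ E ≠ ⊥) → E' = E := by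
  constructor
  · intro hE E' hle hess
    have h : GrothMatlis.EssIn E E' := ⟨hle, hess⟩
    have hs := GrothMatlis.surjective_of_essential hE (GrothMatlis.EssIn.isEssentialInj h)
    refine le_antisymm (fun x hx => ?_) hle
    obtain ⟨y, hy⟩ := hs ⟨x, hx⟩
    have h1 : (y : I) = x := congrArg Subtype.val hy
    exact h1 ▸ y.2
  · intro h
    exact GrothMatlis.injective_of_no_essIn ‹_› fun B hB hess => h B hB hess.2

end Groth.Agent.S1728
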