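import Groth.Statements.S17281
import Groth.Agent.VBCurves.DualityApps
import Groth.Agent.VBCurves.Higgs
import Groth.Agent.CurveBridge.Main
import Groth.Agent.CurveBridge.RegularSmooth
import Groth.Agent.PicAux.Powers

set_option autoImplicit false
universe u
open CategoryTheory CategoryTheory.Limits AlgebraicGeometry TopologicalSpace
open Curves

open Groth.VBCurves

namespace Groth.Agent.S17281

/-- Fix an algebraically closed field k and a regular projective curve C over it (integral, proper over
k, of dimension one, all local rings regular) of genus g = dim_k H^1(C, O_C), E a finite locally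
free O_C-module that is nef in the curve-test sense (for every regular projective curve C' over k,
every k-morphism f : C' → C and every invertible quotient M of f^*E, deg M = χ(M) - χ(O_{C'}) ≥ 0),
and H an invertible O_C-module with deg H = χ(H) - χ(O_C) ≥ 2g. Then E ⊗ H is generated by its
global sections. -/
theorem result (k : Type u) [Field k] [IsAlgClosed k]
    (X : Scheme.{u}) [X.Over (Spec (CommRingCat.of k))] [IsProper (X ↘ (Spec (CommRingCat.of k)))] [IsIntegral X]
    (hdim : topologicalKrullDim X = 1) (hreg : ∀ x : X, IsRegularLocalRing (X.presheaf.stalk x))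
    (E : X.Modules) (hE : FlatMod.IsFinLocFree E)
    (hnef : ∀ (C : Scheme.{u}) [C.Over (Spec (CommRingCat.of k))] [IsProper (C ↘ (Spec (CommRingCat.of k)))] [IsIntegral C],
      topologicalKrullDim C = 1 → (∀ x : C, IsRegularLocalRing (C.presheaf.stalk x)) →
      ∀ (f : C ⟶ X), f ≫ (X ↘ (Spec (CommRingCat.of k))) = C ↘ (Spec (CommRingCat.of k)) →
      ∀ (M : C.Modules), PicF.IsInvertible M →
      ∀ (q : (Scheme.Modules.pullback f).obj E ⟶ M), Epi q → 0 ≤ Curv2.deg k C M 1)
    (H : X.Modules) (hH : PicF.IsInvertible H)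
    (hdeg : 2 * (Curv2.genus k X : ℤ) ≤ Curv2.deg k X H 1) :
    Curv2.IsGloballyGenerated (CohB1.tensorMod E H) := by
  have : Smooth (X ↘ Spec (CommRingCat.of k)) := Groth.CurveBridge.smooth_of_regular k X hreg
  have hc := IsVBCurve.of_smooth (X := X) k hdim
  have hK := Groth.CurveBridge.isFunctionField (k := k) (X := X) hdim
  obtain ⟨ω, hω⟩ := exists_isDualizing ⟨hdim, hreg⟩ hK hc
  obtain ⟨H', hH', hHH⟩ := Groth.PicAux.exists_isInverseOf hH
  have hH1 := Groth.LocFree.isInvertible_iff_ofRank_one.1 hH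
  have hF := isFinLocFree_tw hH hE
  refine isGloballyGenerated_of_h1 (k := k) hc hF fun N j hj hN hr hd => ?_
  by_contra h1
  obtain ⟨f, hf⟩ := hω.exists_ne_zero hc hN h1
  have hω1 := Groth.LocFree.isInvertible_iff_ofRank_one.1 hω.inv
  have hω' := Groth.LocFree.isFinLocFree_of_rank hω1
  obtain ⟨A, I, i, p, t, w, -, hi, -, ht, -, -, hA, hI, hrk, hdg, hpos⟩ := exists_image hc hN hω' f
  let j' : N ⟶ (tw H).obj E := j
  have hj' : Mono j' := hj
  have : Mono (i ≫ j') := @mono_comp _ _ _ _ _ i hi j' hj'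
  obtain ⟨B, Q, s, i', q, w', hS', -, hs, hB, hQ, hrB⟩ := exists_saturation hc hF hA (i ≫ j')
  have hIrk : rk I ≤ rk ω := rk_le_of_mono t hω'
  rw [rk_eq hω1] at hIrk
  have hI1 : rk I = rk ω := by
    rw [rk_eq hω1]
    have := hpos hf
    omega
  have hdI := (dg_le_of_mono (k := k) hdim.le hI hω' t hI1).1
  have hdB := (dg_le_of_mono (k := k) hdim.le hA hB s hrB.symm).1
  have hQrk := rk_add hS' hB hQ
  have hQdg := dg_add (k := k) hS' hB hQ
  dsimp only at hQrk hQdg
  change rk N = rk ((tw H).obj E) at hr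
  change dg k N + 1 = dg k ((tw H).obj E) at hd
  have hQ1 : FlatMod.IsFinLocFreeOfRank 1 Q := by
    have h0 := isFinLocFreeOfRank_rk hQ
    rw [show rk Q = 1 by rw [rk_eq hω1] at hI1; change rk ((tw H).obj E) = _ at hQrk; omega] at h0
    exact h0
  have hQi := Groth.LocFree.isInvertible_iff_ofRank_one.2 hQ1
  have := hS'.epi_g
  have := Groth.PicAux.isEquivalence_tensorRightMod_of_isInvertible hH'
  obtain ⟨a, -⟩ := Groth.PicAux.exists_associator E H H'
  let e : E ≅ (tw H').obj ((tw H).obj E) :=
    (SecTwist.unitorR E).symm ≪≫ PicGrp.tensorModIso (Iso.refl E) hHH.some.symm ≪≫ a.symm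
  have hepi : Epi ((Scheme.Modules.pullbackId X).hom.app E ≫ e.hom ≫ (tw H').map q) := inferInstance
  have hnon := hnef X hdim hreg (𝟙 X) (Category.id_comp _) _
    (Groth.PicAux.isInvertible_tensorMod hQi hH') _ hepi
  have h2 : Curv2.deg k X ((tw H').obj Q) 1 = dg k Q + Curv2.deg k X H' 1 := by
    change Curv2.deg k X (CohB1.tensorMod Q H') 1 = _
    rw [Groth.EulerDeg.deg_tensor_invertible k hdim.le hQi hH', dg_eq k hQ1]
  have h3 := Groth.EulerDeg.deg_tensor_invertible k hdim.le hH hH'
  rw [Groth.EulerDeg.deg_congr (k := k) hHH.some, Groth.EulerDeg.deg_structure] at h3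
  have hdω := hω.deg
  change 0 ≤ Curv2.deg k X ((tw H').obj Q) 1 at hnon
  rw [dg_eq k hω1] at hdω
  omega

end Groth.Agent.S17281
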