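import Groth.Statements.S17285
import Groth.Agent.Variety2.Growth.ProperH0

set_option autoImplicit false
universe u
open CategoryTheory CategoryTheory.Limits AlgebraicGeometry TopologicalSpace
open Variety

namespace Groth.Agent.S17285

/-- Let X and Y be proper varieties over a field k (integral schemes, proper over k) of the same
dimension d, f : Y → X a birational k-morphism (generic point to generic point, with a single point
in that fibre and the same residue field there), and L an invertible O_X-module. Then L is big,
meaning that some real c > 0 has dim_k H^0(X, L^{⊗n}) > c·n^d for all sufficiently large n, if and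
only if f^*L is big on Y in the same sense. (The source states this for birational morphisms of
proper schemes over k; it is stated here for integral X and Y, the case in which the printed
argument's injectivity of O_X → f_*O_Y holds.) -/
theorem result (k : Type u) [Field k] (X Y : Scheme.{u})
    [X.Over (Spec (CommRingCat.of k))] [IsProper (X ↘ (Spec (CommRingCat.of k)))] [IsIntegral X]
    [Y.Over (Spec (CommRingCat.of k))] [IsProper (Y ↘ (Spec (CommRingCat.of k)))] [IsIntegral Y]
    (f : Y ⟶ X) (hf : f ≫ (X ↘ (Spec (CommRingCat.of k))) = Y ↘ (Spec (CommRingCat.of k))) (hbir : RadPt.IsBirational f)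
    (d : ℕ) (hdimX : topologicalKrullDim X = d) (hdimY : topologicalKrullDim Y = d)
    (L : X.Modules) (hL : PicF.IsInvertible L) :
    (∃ c : ℝ, 0 < c ∧ ∀ᶠ n : ℕ in Filter.atTop,
        c * (n : ℝ) ^ d < (Module.finrank k (Coh.HH X (CohB1.tensorPow L n) 0) : ℝ)) ↔
      (∃ c : ℝ, 0 < c ∧ ∀ᶠ n : ℕ in Filter.atTop,
        c * (n : ℝ) ^ d < (Module.finrank k (Coh.HH Y (CohB1.tensorPow ((Scheme.Modules.pullback f).obj L) n) 0) : ℝ)) := by
  exact Groth.Variety2.Growth.big_iff_pullback f hf hbir hdimX hL

end Groth.Agent.S17285
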