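import Groth.Statements.S17287
import Groth.Agent.Variety2.DimScheme
import Groth.Agent.Variety2.IrrFibres
import Groth.Agent.BMCoh.Piece

set_option autoImplicit false
universe u
open CategoryTheory CategoryTheory.Limits AlgebraicGeometry TopologicalSpace
open Variety Groth.Variety2.Dim

namespace Groth.Agent.S17287

/-- Let f : Y → X be a surjective k-morphism of proper schemes over a field k and C ⊆ X an integral
closed subscheme of dimension one. Then there is an integral closed subscheme C' ⊆ Y of dimension
one with f(C') = C as closed subsets. (The source states this for proper algebraic spaces over k;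
this is the case of schemes.) -/
theorem result (k : Type u) [Field k] (X Y : Scheme.{u})
    [X.Over (Spec (CommRingCat.of k))] [IsProper (X ↘ (Spec (CommRingCat.of k)))] [Y.Over (Spec (CommRingCat.of k))] [IsProper (Y ↘ (Spec (CommRingCat.of k)))]
    (f : Y ⟶ X) (hf : f ≫ (X ↘ (Spec (CommRingCat.of k))) = Y ↘ (Spec (CommRingCat.of k))) [Surjective f]
    (C : X.IdealSheafData) [IsIntegral C.subscheme] (hC : topologicalKrullDim (C.support : Set X) = 1) :
    ∃ C' : Y.IdealSheafData, IsIntegral C'.subscheme ∧ topologicalKrullDim (C'.support : Set Y) = 1 ∧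
      f.base '' (C'.support : Set Y) = (C.support : Set X) := by
  set qX := X ↘ (Spec (CommRingCat.of k))
  set qY := Y ↘ (Spec (CommRingCat.of k))
  have : IsProper f := by
    have : IsProper (f ≫ qX) := by rw [hf]; infer_instance
    exact IsProper.of_comp f qX
  have : IsClosedImmersion C.subschemeι := inferInstance
  set ξ := C.subschemeι (genericPoint C.subscheme)
  have hsupp : (C.support : Set X) = closure {ξ} := by
    rw [← Scheme.IdealSheafData.range_subschemeι, ← Set.image_univ, ← genericPoint_closure,
      ← C.subschemeι.isClosedEmbedding.closure_image_eq, Set.image_singleton]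
  rw [hsupp, dim_closure_singleton] at hC
  obtain ⟨y₀, hy₀⟩ := f.surjective ξ
  have : Nonempty (f.fiber ξ) := ⟨(f.fiberHomeo ξ).symm ⟨y₀, hy₀⟩⟩
  have : CompactSpace (f.fiber ξ) := QuasiCompact.compactSpace_of_compactSpace (f.fiberToSpecResidueField ξ)
  obtain ⟨z, -, hz⟩ := (isClosed_univ (X := f.fiber ξ)).exists_closed_singleton Set.univ_nonempty
  have : LocallyOfFiniteType (f.fiberToSpecResidueField ξ) :=
    inferInstanceAs (LocallyOfFiniteType (Limits.pullback.snd f (X.fromSpecResidueField ξ)))
  have hz0 : Order.height z = 0 := (height_eq_zero_iff z).2 hz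
  set y := f.fiberι ξ z
  have hfy : f y = ξ := by
    have : y ∈ Set.range (f.fiberι ξ) := ⟨z, rfl⟩
    rwa [Scheme.Hom.range_fiberι] at this
  have hy : Order.height y = Order.height ξ := by
    rw [show y = f.fiberι ξ z from rfl, ← height_fiber_add qY qX f hf ξ z, hz0, zero_add]
  let T : TopologicalSpace.Closeds Y := ⟨closure {y}, isClosed_closure⟩
  have hT : ((Scheme.IdealSheafData.vanishingIdeal T).support : Set Y) = closure {y} := by simp [T]
  refine ⟨Scheme.IdealSheafData.vanishingIdeal T, ?_, ?_, ?_⟩
  · have := Groth.BMCohLib.isReduced_vanishingIdeal T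
    have : IrreducibleSpace (Scheme.IdealSheafData.vanishingIdeal T).subscheme := by
      have h : IsIrreducible (Set.range (Scheme.IdealSheafData.vanishingIdeal T).subschemeι) := by
        rw [Scheme.IdealSheafData.range_subschemeι, hT]
        exact isIrreducible_singleton.closure
      rw [isIrreducible_iff_irreducibleSpace] at h
      exact (Scheme.IdealSheafData.vanishingIdeal T).subschemeι.isEmbedding.toHomeomorph.irreducibleSpace_iff.2 h
    exact isIntegral_of_irreducibleSpace_of_isReduced _
  · rw [hT, dim_closure_singleton, hy, hC]
  · rw [hT, hsupp, ← f.isClosedMap.closure_image_eq_of_continuous f.continuous, Set.image_singleton, hfy]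

end Groth.Agent.S17287
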