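import Groth.Statements.S1729
-- import your own Groth.Agent.* helpers here

set_option autoImplicit false
universe u
open Dual2

namespace Groth.Agent.S1729

/-- Over a local ring, every finite module M admits a projective cover: a surjection from a projective
module P onto M such that no proper submodule of P maps onto M. -/
theorem result (R : Type u) [CommRing R] [IsLocalRing R] (M : Type u) [AddCommGroup M] [Module R M] [Module.Finite R M] : ∃ (P : Type u) (_ : AddCommGroup P) (_ : Module R P) (f : P →ₗ[R] M), Dual2.IsProjectiveCover f := by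
  classical
  obtain ⟨s, hs, hspan⟩ : ∃ s : Finset M, Submodule.span R (s : Set M) = ⊤ ∧
      ∀ t : Finset M, Submodule.span R (t : Set M) = ⊤ → s.card ≤ t.card := by
    have h : ∃ n, ∃ s : Finset M, Submodule.span R (s : Set M) = ⊤ ∧ s.card = n :=
      let ⟨s, hs⟩ := Module.Finite.fg_top (R := R) (M := M); ⟨_, s, hs, rfl⟩
    obtain ⟨s, hs, hc⟩ := Nat.find_spec h
    exact ⟨s, hs, fun t ht => hc.trans_le (Nat.find_min' h ⟨t, ht, rfl⟩)⟩
  let f : (s → R) →ₗ[R] M := Fintype.linearCombination R (fun x : s => (x : M))
  have hsurj : Function.Surjective f := by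
    rw [← LinearMap.range_eq_top, Fintype.range_linearCombination]
    simpa using hs
  refine ⟨s → R, inferInstance, inferInstance, f, ⟨inferInstance, hsurj, fun N hN => ?_⟩⟩
  have hker : LinearMap.ker f ≤ IsLocalRing.maximalIdeal R • (⊤ : Submodule R (s → R)) := by
    intro c hc
    have hmem : ∀ i, c i ∈ IsLocalRing.maximalIdeal R := by
      intro i
      by_contra hu
      have hu' : IsUnit (c i) := by simpa [IsLocalRing.mem_maximalIdeal] using hu
      have hsum : c i • (i : M) + ∑ j ∈ Finset.univ.erase i, c j • (j : M) = 0 := by
        rw [Finset.add_sum_erase _ (fun j => c j • (j : M)) (Finset.mem_univ i)]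
        simpa [f, Fintype.linearCombination_apply] using hc
      have hi : (i : M) ∈ Submodule.span R ((s.erase (i : M) : Finset M) : Set M) := by
        obtain ⟨v, hv⟩ := hu'.exists_left_inv
        have : (i : M) = -(v • ∑ j ∈ Finset.univ.erase i, c j • (j : M)) := by
          rw [eq_neg_iff_add_eq_zero]
          calc (i : M) + v • ∑ j ∈ Finset.univ.erase i, c j • (j : M)
              = v • (c i • (i : M) + ∑ j ∈ Finset.univ.erase i, c j • (j : M)) := by
                rw [smul_add, smul_smul, hv, one_smul]
            _ = 0 := by rw [hsum, smul_zero]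
        refine (congrArg (· ∈ Submodule.span R ((s.erase (i : M) : Finset M) : Set M)) this).mpr ?_
        refine Submodule.neg_mem _ (Submodule.smul_mem _ _ (Submodule.sum_mem _ fun j hj => ?_))
        refine Submodule.smul_mem _ _ (Submodule.subset_span ?_)
        simp only [Finset.mem_erase] at hj
        exact Finset.mem_coe.2 (Finset.mem_erase.2 ⟨fun h => hj.1 (Subtype.ext h), j.2⟩)
      have hle : Submodule.span R ((s : Finset M) : Set M) ≤
          Submodule.span R ((s.erase (i : M) : Finset M) : Set M) := by
        rw [Submodule.span_le]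
        intro x hx
        by_cases hxi : x = (i : M)
        · rw [hxi]; exact hi
        · exact Submodule.subset_span (by simp_all)
      have := hspan (s.erase (i : M)) (top_le_iff.1 (hs ▸ hle))
      have := Finset.card_erase_lt_of_mem i.2
      omega
    rw [pi_eq_sum_univ c]
    exact Submodule.sum_mem _ fun i _ => Submodule.smul_mem_smul (hmem i) trivial
  have hsup : N ⊔ LinearMap.ker f = ⊤ := by
    rw [eq_top_iff]
    intro x _
    obtain ⟨y, hy, hfy⟩ : f x ∈ Submodule.map f N := hN ▸ trivial
    exact Submodule.mem_sup.2 ⟨y, hy, x - y, by simp [hfy], by abel⟩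
  exact top_le_iff.1 (Submodule.le_of_le_smul_of_le_jacobson_bot Module.Finite.fg_top
    (IsLocalRing.maximalIdeal_le_jacobson ⊥) (hsup ▸ sup_le_sup_left hker N))

end Groth.Agent.S1729
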