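import Groth.Statements.S17303
import Groth.Agent.CurvStField.CMReduced

set_option autoImplicit false
set_option backward.isDefEq.respectTransparency false
set_option backward.isDefEq.respectTransparency.types false
universe u
open CurvSt

namespace Groth.Agent.S17303

open CategoryTheory AlgebraicGeometry in
/-- For a family of curves (algebraic-space total space, flat, proper, of finite presentation, relative
dimension at most 1, no marked points) over a scheme over S, if all geometric fibres (realised as
schemes over an algebraically closed field) are reduced then the structure morphism is a
Cohen–Macaulay morphism (etale locally on every chart diagram the morphism of schemes is flat with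
Cohen–Macaulay fibre local rings at every point). In the source this is the inclusion of the open
substack of curves with geometrically reduced fibres in the open substack of Cohen–Macaulay curves. -/
theorem result (S : Scheme.{u}) (A : (CurvSt.Curves S 0).obj)
    (h : CurvSt.GeomFib (fun _ _ _ X' _ _ => IsReduced X') A.obj) :
    AlgSp.LocP (fun _ _ g => ∀ x, MoreMor.IsCMAt g x) A.obj.f := by
  exact Groth.CurvStField.locP_cm_of_reduced_fibres A.obj A.property h

end Groth.Agent.S17303
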