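import Groth.Statements.S1731
import Groth.Agent.Agf.GlueExt
import Groth.Agent.DualCore.ModuleHom

set_option autoImplicit false
universe u
open CategoryTheory
open scoped TensorProduct
attribute [local instance] HasDerivedCategory.standard
open LocCoh

namespace Groth.Agent.S1731

/-- Statement for modules: let A → B be a flat ring map and I a finitely generated ideal of A such that
A → B/IB is surjective with kernel I (so A/I ≅ B/IB). If M is an I-power torsion A-module, then for
every A-module N and every integer i the group of maps M → N[i] in D(A) is isomorphic to the group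
of maps B ⊗_A M → (B ⊗_A N)[i] in D(B). (Only the existence of an isomorphism is asserted; the
published statement shows that the base-change map is one.) -/
theorem result (A B : Type u) [CommRing A] [CommRing B] [Algebra A B] [Module.Flat A B] (I : Ideal A) (hI : I.FG) (hs : Function.Surjective ((Ideal.Quotient.mk (I.map (algebraMap A B))).comp (algebraMap A B))) (hk : RingHom.ker ((Ideal.Quotient.mk (I.map (algebraMap A B))).comp (algebraMap A B)) = I) (M N : Type u) [AddCommGroup M] [Module A M] [AddCommGroup N] [Module A N] (hM : LocCoh.IsPowerTorsion I M) (i : ℤ) : Nonempty ((Dual.inD A M ⟶ (Dual.inD A N)⟦i⟧) ≃+ (Dual.inD B (B ⊗[A] M) ⟶ (Dual.inD B (B ⊗[A] N))⟦i⟧)) := by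
  have hq : Function.Bijective (algebraMap (A ⧸ I) (B ⧸ I.map (algebraMap A B))) := by
    refine ⟨(injective_iff_map_eq_zero _).2 fun x hx => ?_, fun y => ?_⟩
    · obtain ⟨x, rfl⟩ := Ideal.Quotient.mk_surjective x
      exact Ideal.Quotient.eq_zero_iff_mem.2 (hk.le (RingHom.mem_ker.2 hx))
    · obtain ⟨x, hx⟩ := hs y
      exact ⟨Ideal.Quotient.mk I x, hx⟩
  rcases lt_or_ge i 0 with hi | hi
  · have hA := Groth.DualCore.subsingleton_hom_of_lt (Dual.inD A N) 0 M i hi
    have hB := Groth.DualCore.subsingleton_hom_of_lt (Dual.inD B (B ⊗[A] N)) 0 (B ⊗[A] M) i hi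
    exact ⟨{ toFun := fun _ => 0, invFun := fun _ => 0, left_inv := fun _ => Subsingleton.elim _ _
             right_inv := fun _ => Subsingleton.elim _ _, map_add' := fun _ _ => Subsingleton.elim _ _ }⟩
  · obtain ⟨k, rfl⟩ := Int.eq_ofNat_of_zero_le hi
    obtain ⟨e⟩ := Groth.Agf.GlueExt.nonempty_addEquiv (B := B) hq M hI hM k N
    exact ⟨(Abelian.Ext.homAddEquiv (X := ModuleCat.of A M) (Y := ModuleCat.of A N) (n := k)).symm.trans
      (e.trans Abelian.Ext.homAddEquiv)⟩

end Groth.Agent.S1731
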