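import Groth.Statements.S1732
import Groth.Agent.Calg6.PowerSeries
import Groth.Agent.Matlis.Criterion

set_option autoImplicit false
universe u
open LocCoh

namespace Groth.Agent.S1732

open IsLocalRing

theorem exists_solution {k : Type u} [Field k] [CharZero k] {d : ℕ}
    (θ : Fin d → Derivation k (MvPowerSeries (Fin d) k) (MvPowerSeries (Fin d) k))
    (hθ : ∀ i j : Fin d, θ i (MvPowerSeries.X j) = if i = j then 1 else 0)
    (hx : ∀ i, (MvPowerSeries.X i : MvPowerSeries (Fin d) k) ∈ maximalIdeal (MvPowerSeries (Fin d) k))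
    {M : Type u} [AddCommGroup M] [Module (MvPowerSeries (Fin d) k) M]
    (hM : LocCoh.IsPowerTorsion (maximalIdeal (MvPowerSeries (Fin d) k)) M) (D : Fin d → M →+ M)
    (hD : ∀ (i : Fin d) (f : MvPowerSeries (Fin d) k) (z : M), D i (f • z) = θ i f • z + f • D i z)
    (m : Fin d → M)
    (hm : ∀ i j, (MvPowerSeries.X i : MvPowerSeries (Fin d) k) • m j = (MvPowerSeries.X j : MvPowerSeries (Fin d) k) • m i)
    (s : Finset (Fin d)) : ∃ z : M, ∀ i ∈ s, (MvPowerSeries.X i : MvPowerSeries (Fin d) k) • z = m i := by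
  classical
  let x : Fin d → MvPowerSeries (Fin d) k := MvPowerSeries.X
  have surj : ∀ (s : Finset (Fin d)) (a : Fin d), a ∉ s → ∀ (n : ℕ) (w : M),
      (∀ i ∈ s, x i • w = 0) → x a ^ n • w = 0 →
        ∃ v : M, (∀ i ∈ s, x i • v = 0) ∧ x a • v = w := by
    intro s a ha n
    induction n with
    | zero =>
      intro w _ hw
      exact ⟨0, fun i _ => smul_zero _, by rw [smul_zero]; simpa using hw.symm⟩
    | succ n ih =>
      intro w hs hw
      have hDs : ∀ i ∈ s, x i • D a w = 0 := fun i hi => by
        have h := hD a (x i) w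
        rw [hs i hi, map_zero, hθ, if_neg (show a ≠ i from fun e => ha (by rw [e]; exact hi)), zero_smul, zero_add] at h
        exact h.symm
      let w' : M := ((n + 1 : ℕ) : MvPowerSeries (Fin d) k) • w + x a • D a w
      have hw' : x a ^ n • w' = 0 := by
        have h := hD a (x a ^ (n + 1)) w
        rw [hw, map_zero, Derivation.leibniz_pow, hθ, if_pos rfl] at h
        simp only [Nat.add_sub_cancel, smul_eq_mul, mul_one, nsmul_eq_mul] at h
        rw [show x a ^ n • w' = (((n + 1 : ℕ) : MvPowerSeries (Fin d) k) * x a ^ n) • w + x a ^ (n + 1) • D a w by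
          show x a ^ n • (_ + _) = _
          rw [smul_add, ← mul_smul, ← mul_smul, mul_comm (x a ^ n), pow_succ]]
        exact h.symm
      obtain ⟨v, hv, hv'⟩ := ih w' (fun i hi => by
        show x i • (_ + _) = 0
        rw [smul_add, smul_comm, hs i hi, smul_zero, zero_add, smul_comm, hDs i hi, smul_zero]) hw'
      have hu : IsUnit ((n + 1 : ℕ) : MvPowerSeries (Fin d) k) := by
        rw [← map_natCast (algebraMap k (MvPowerSeries (Fin d) k))]
        exact (IsUnit.mk0 _ (Nat.cast_ne_zero.2 n.succ_ne_zero)).map _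
      obtain ⟨c, hc⟩ := hu.exists_left_inv
      refine ⟨c • (v - D a w), fun i hi => ?_, ?_⟩
      · rw [smul_comm, smul_sub, hv i hi, hDs i hi, sub_zero, smul_zero]
      · rw [smul_comm, smul_sub, hv']
        show c • (_ + x a • D a w - x a • D a w) = w
        rw [add_sub_cancel_right, ← mul_smul, hc, one_smul]
  induction s using Finset.induction with
  | empty => exact ⟨0, fun i hi => absurd hi (Finset.notMem_empty i)⟩
  | @insert a s ha ih =>
    obtain ⟨z, hz⟩ := ih
    obtain ⟨n, hn⟩ := hM (m a - x a • z)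
    obtain ⟨v, hv, hv'⟩ := surj s a ha n (m a - x a • z) (fun i hi => by
      rw [smul_sub, smul_comm (x i) (x a), hz i hi, hm i a, sub_self]) (hn _ (Ideal.pow_mem_pow (hx a) n))
    refine ⟨z + v, fun i hi => ?_⟩
    rw [smul_add]
    rcases Finset.mem_insert.1 hi with rfl | hi
    · rw [show (MvPowerSeries.X i : MvPowerSeries (Fin d) k) • v = _ from hv', add_sub_cancel]
    · rw [hz i hi, show (MvPowerSeries.X i : MvPowerSeries (Fin d) k) • v = 0 from hv i hi, add_zero]

theorem finsupp_isPowerTorsion {A : Type u} [CommRing A] {I : Ideal A} {E J : Type u} [AddCommGroup E]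
    [Module A E] (h : LocCoh.IsPowerTorsion I E) : LocCoh.IsPowerTorsion I (J →₀ E) := by
  intro y
  induction y using Finsupp.induction_linear with
  | zero => exact ⟨0, fun a _ => smul_zero a⟩
  | add a b ha hb =>
    obtain ⟨n, hn⟩ := ha
    obtain ⟨l, hl⟩ := hb
    exact ⟨n + l, fun c hc => by
      rw [smul_add, hn c (Ideal.pow_le_pow_right (Nat.le_add_right n l) hc),
        hl c (Ideal.pow_le_pow_right (Nat.le_add_left l n) hc), add_zero]⟩
  | single j y =>
    obtain ⟨n, hn⟩ := h y
    exact ⟨n, fun c hc => by rw [Finsupp.smul_single, hn c hc, Finsupp.single_zero]⟩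

theorem exists_embedding {A : Type u} [CommRing A] [IsLocalRing A] [IsNoetherianRing A] {E : Type u}
    [AddCommGroup E] [Module A E] (e : ResidueField A →ₗ[A] E) (he : InjHull.IsInjectiveHull e)
    {M : Type u} [AddCommGroup M] [Module A M] (hM : LocCoh.IsPowerTorsion (maximalIdeal A) M) :
    ∃ (J : Type u) (ψ : M →ₗ[A] (J →₀ E)), Function.Injective ψ ∧
      ∀ y : J →₀ E, (∀ b ∈ maximalIdeal A, b • y = 0) → y ∈ LinearMap.range ψ := by
  classical
  let V := LocCoh.torsionBy (maximalIdeal A) M
  haveI : Module.IsTorsionBySet A V (maximalIdeal A) := Submodule.torsionBySet_isTorsionBySet _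
  letI : Module (ResidueField A) V := (Submodule.torsionBySet_isTorsionBySet (maximalIdeal A : Set A)).module
  haveI : IsScalarTower A (ResidueField A) V :=
    (Submodule.torsionBySet_isTorsionBySet (maximalIdeal A : Set A)).isScalarTower
  let b := Module.Basis.ofVectorSpace (ResidueField A) V
  let J := Module.Basis.ofVectorSpaceIndex (ResidueField A) V
  let φ : V →ₗ[A] (J →₀ E) := Finsupp.mapRange.linearMap e ∘ₗ (b.repr.toLinearMap.restrictScalars A)
  have hφ : Function.Injective φ :=
    (Finsupp.mapRange_injective e (map_zero e) he.injective).comp b.repr.injective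
  haveI : Module.Injective A (J →₀ E) :=
    Module.Baer.injective ((Module.Baer.of_injective
      (GrothMatlis.directSum_injective (fun _ : J => E) fun _ => he.isInjective)).of_equiv
      (finsuppLEquivDirectSum A E J).symm)
  obtain ⟨ψ, hψ⟩ := Module.Injective.out V.subtype V.subtype_injective φ
  refine ⟨J, ψ, (injective_iff_map_eq_zero _).2 fun x hx => ?_, fun y hy => ?_⟩
  · by_contra h0
    obtain ⟨n, hn⟩ := hM x
    obtain ⟨r, hr0, hr⟩ := GrothMatlis.exists_smul_torsion n h0 hn
    have hV : r • x ∈ V := (Submodule.mem_torsionBySet_iff _ _).2 fun a => hr a a.2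
    refine hr0 (congrArg Subtype.val (hφ (a₁ := ⟨r • x, hV⟩) (a₂ := 0) ?_))
    rw [map_zero, ← hψ]
    show ψ (r • x) = 0
    rw [map_smul, hx, smul_zero]
  · have hsoc : ∀ j, y j ∈ LinearMap.range e := fun j => by
      rw [← GrothMatlis.socle_eq he.toIsEssentialInj, Submodule.mem_torsionBySet_iff]
      exact fun a => congrArg (fun z : J →₀ E => z j) (hy a a.2)
    choose c hc using hsoc
    let v : V := b.repr.symm (Finsupp.onFinset y.support c fun j hj => Finsupp.mem_support_iff.2 fun h =>
      hj (he.injective (by rw [hc j, h, map_zero])))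
    refine ⟨(v : M), ?_⟩
    rw [show ψ v = φ v from hψ v]
    show Finsupp.mapRange e (map_zero e) (b.repr v) = y
    ext j
    rw [Finsupp.mapRange_apply, LinearEquiv.apply_symm_apply, Finsupp.onFinset_apply, hc]

/-- Let k be a field of characteristic zero, d ≥ 1, A = k[[x_1, …, x_d]] with maximal ideal m, and E an
injective hull of the residue field of A. Let M be an m-power torsion A-module equipped with
additive maps D_1, …, D_d such that D_i(f z) = θ_i(f) z + f D_i(z), where θ_i is the k-derivation of
A with θ_i(x_j) = δ_ij (the partial derivative in x_i). Then M is, up to isomorphism, a direct sum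
of copies of E. -/
theorem result (k : Type u) [Field k] [CharZero k] (d : ℕ) (hd : 1 ≤ d) (E : Type u) [AddCommGroup E] [Module (MvPowerSeries (Fin d) k) E] (e : IsLocalRing.ResidueField (MvPowerSeries (Fin d) k) →ₗ[MvPowerSeries (Fin d) k] E) (he : InjHull.IsInjectiveHull e) (θ : Fin d → Derivation k (MvPowerSeries (Fin d) k) (MvPowerSeries (Fin d) k)) (hθ : ∀ i j : Fin d, θ i (MvPowerSeries.X j) = if i = j then 1 else 0) (M : Type u) [AddCommGroup M] [Module (MvPowerSeries (Fin d) k) M] (hM : LocCoh.IsPowerTorsion (IsLocalRing.maximalIdeal (MvPowerSeries (Fin d) k)) M) (D : Fin d → M →+ M) (hD : ∀ (i : Fin d) (f : MvPowerSeries (Fin d) k) (z : M), D i (f • z) = θ i f • z + f • D i z) : ∃ J : Type u, Nonempty (M ≃ₗ[MvPowerSeries (Fin d) k] (J →₀ E)) := by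
  classical
  haveI : IsNoetherianRing (MvPowerSeries (Fin d) k) := inferInstance
  set A := MvPowerSeries (Fin d) k
  have hm : IsLocalRing.maximalIdeal A = Ideal.span (Set.range (MvPowerSeries.X : Fin d → A)) :=
    Groth.SGA7.PS.maximalIdeal_eq
  have hx : ∀ i, (MvPowerSeries.X i : A) ∈ IsLocalRing.maximalIdeal A := fun i =>
    hm ▸ Ideal.subset_span ⟨i, rfl⟩
  obtain ⟨J, ψ, hψ, hsoc⟩ := exists_embedding e he hM
  refine ⟨J, ⟨LinearEquiv.ofBijective ψ ⟨hψ, ?_⟩⟩⟩
  by_contra hns
  simp only [Function.Surjective, not_forall, not_exists] at hns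
  obtain ⟨y₀, hy₀⟩ := hns
  have key : ∀ n : ℕ, ∀ y : J →₀ E, (∀ a ∈ IsLocalRing.maximalIdeal A ^ n, a • y ∈ LinearMap.range ψ) →
      y ∈ LinearMap.range ψ := by
    intro n
    induction n with
    | zero => intro y hy; simpa using hy 1 (by simp)
    | succ n ih =>
      intro y hy
      refine ih y fun a ha => ?_
      have hmem : ∀ i, (MvPowerSeries.X i : A) • a • y ∈ LinearMap.range ψ := fun i => by
        rw [← mul_smul]
        exact hy _ (by rw [pow_succ']; exact Ideal.mul_mem_mul (hx i) ha)
      choose m hm' using hmem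
      obtain ⟨z, hz⟩ := exists_solution θ hθ hx hM D hD m (fun i j => hψ (by
        rw [map_smul, map_smul, hm' i, hm' j, smul_comm])) Finset.univ
      have hw : a • y - ψ z ∈ LinearMap.range ψ := by
        refine hsoc _ fun b hb => ?_
        rw [hm] at hb
        induction hb using Submodule.span_induction with
        | mem b hb =>
          obtain ⟨i, rfl⟩ := hb
          rw [smul_sub, ← map_smul, hz i (Finset.mem_univ i), hm' i, sub_self]
        | zero => exact zero_smul _ _
        | add b c _ _ hb hc => rw [add_smul, hb, hc, add_zero]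
        | smul r b _ hb => rw [smul_eq_mul, mul_smul, hb, smul_zero]
      exact (Submodule.sub_mem_iff_left _ (LinearMap.mem_range_self ψ z)).1 hw
  obtain ⟨n, hn⟩ := finsupp_isPowerTorsion (GrothMatlis.hull_isPowerTorsion he) y₀
  obtain ⟨z, hz⟩ := key n y₀ fun a ha => by rw [hn a ha]; exact Submodule.zero_mem _
  exact hy₀ z hz

end Groth.Agent.S1732
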