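import Groth.Statements.S17321
import Mathlib
import Groth.Agent.Calg7.FiniteAlgClosed
-- import your own Groth.Agent.* helpers here

set_option autoImplicit false
universe u v
open CAlg

namespace Groth.Agent.S17321

/-- Let k be an algebraically closed field and A a commutative k-algebra which is finite-dimensional as
a k-vector space (the coordinate ring of a finite k-scheme). Then the space Der(A) of k-derivations
A → A is zero if and only if A is reduced. -/
theorem result (k : Type u) [Field k] [IsAlgClosed k]
    (A : Type v) [CommRing A] [Algebra k A] [Module.Finite k A] :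
    Subsingleton (Derivation k A A) ↔ IsReduced A := by
  classical
  haveI : IsArtinianRing A := IsArtinianRing.of_finite k A
  haveI : IsNoetherianRing A := inferInstance
  constructor
  · intro hD
    haveI : Algebra.FiniteType k A := inferInstance
    have hsub : Subsingleton (Ω[A⁄k]) := by
      by_contra hns
      rw [not_subsingleton_iff_nontrivial] at hns
      obtain ⟨N, hN, -⟩ := (eq_top_or_exists_le_coatom (⊥ : Submodule A (Ω[A⁄k]))).resolve_left bot_ne_top
      haveI : IsSimpleModule A (Ω[A⁄k] ⧸ N) := isSimpleModule_iff_isCoatom.2 hN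
      obtain ⟨m, hm, ⟨e⟩⟩ := isSimpleModule_iff_quot_maximal.1 ‹IsSimpleModule A (Ω[A⁄k] ⧸ N)›
      have hass : m ∈ associatedPrimes A A := by
        apply Module.associatedPrimes.minimalPrimes_annihilator_subset_associatedPrimes A A
        rw [Module.annihilator_eq_bot.2 inferInstance]
        refine ⟨⟨hm.isPrime, bot_le⟩, fun q hq _ => ?_⟩
        haveI := hq.1
        exact ((IsArtinianRing.isMaximal_of_isPrime q).eq_of_le hm.ne_top (by assumption)).ge
      obtain ⟨ι, hι⟩ : ∃ ι : (A ⧸ m) →ₗ[A] A, Function.Injective ι := by
        obtain ⟨x, hx⟩ := (isAssociatedPrime_iff.1 hass).2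
        refine ⟨(Submodule.liftQ m (LinearMap.toSpanSingleton A A x) (fun a ha => ?_)), ?_⟩
        · rw [LinearMap.mem_ker]
          have : a ∈ Submodule.colon ⊥ {x} := hx ▸ ha
          rw [Submodule.mem_colon_singleton, Submodule.mem_bot] at this
          exact this
        · rw [← LinearMap.ker_eq_bot]
          apply Submodule.ker_liftQ_eq_bot
          intro a ha
          rw [hx, Submodule.mem_colon_singleton, Submodule.mem_bot]
          exact LinearMap.mem_ker.1 ha
      let g : Ω[A⁄k] →ₗ[A] A := ι ∘ₗ e.toLinearMap ∘ₗ N.mkQ
      have hg : g = 0 := Derivation.liftKaehlerDifferential_unique _ _ (Subsingleton.elim _ _)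
      have : Subsingleton (A ⧸ m) := by
        refine subsingleton_of_forall_eq 0 fun y => ?_
        obtain ⟨w, hw⟩ := e.surjective y
        obtain ⟨v, hv⟩ := N.mkQ_surjective w
        apply hι
        rw [map_zero, ← hw, ← hv]
        exact LinearMap.congr_fun hg v
      exact hm.ne_top (Submodule.Quotient.subsingleton_iff.1 this)
    haveI : Algebra.FormallyUnramified k A := ⟨hsub⟩
    exact Algebra.FormallyUnramified.isReduced_of_field k A
  · intro hred
    obtain ⟨n, ⟨ψ⟩⟩ := Groth.Calg7.FinAlg.exists_equiv_pi k A
    refine ⟨fun D D' => ?_⟩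
    suffices ∀ D : Derivation k A A, D = 0 by rw [this D, this D']
    intro D
    ext x
    have hx : x = ∑ i, ψ x i • ψ.symm (Pi.single i 1) := by
      apply ψ.injective
      simp only [map_sum, map_smul, AlgEquiv.apply_symm_apply]
      ext j; simp [Finset.sum_apply, Pi.single_apply]
    rw [hx, map_sum, Derivation.zero_apply]
    refine Finset.sum_eq_zero fun i _ => ?_
    rw [D.map_smul]
    set e := ψ.symm (Pi.single i (1:k)) with he
    have hee : e * e = e := by rw [he, ← map_mul, ← Pi.single_mul, one_mul]
    have h1 : D e = e * D e + e * D e := by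
      conv_lhs => rw [← hee, Derivation.leibniz, smul_eq_mul]
    have h2 : e * D e = 0 := by
      have := congrArg (e * ·) h1
      simp only [mul_add, ← mul_assoc, hee] at this
      exact left_eq_add.1 this
    rw [h1, h2, add_zero, smul_zero]

end Groth.Agent.S17321
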