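import Groth.Statements.S17323
import Mathlib
import Groth.Agent.Calg7.FiniteAlgClosed
-- import your own Groth.Agent.* helpers here

set_option autoImplicit false
universe u v
open CAlg

namespace Groth.Agent.S17323

/-- Let k be an algebraically closed field and A a commutative k-algebra which is finite-dimensional as
a k-vector space. Then A has a largest reduced subalgebra: a k-subalgebra B which is reduced and
contains every reduced k-subalgebra of A; moreover the composite of the inclusion B → A with the
projection A → A/nilradical(A) is bijective. -/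
theorem result (k : Type u) [Field k] [IsAlgClosed k]
    (A : Type v) [CommRing A] [Algebra k A] [Module.Finite k A] :
    ∃ B : Subalgebra k A, IsReduced ↥B ∧ (∀ C : Subalgebra k A, IsReduced ↥C → C ≤ B) ∧
      Function.Bijective ((Ideal.Quotient.mkₐ k (nilradical A)).comp B.val) := by
  classical
  obtain ⟨n, ψ, s, hψ, hk, hid⟩ := Groth.Calg7.FinAlg.exists_split k A
  have hsinj : Function.Injective s := Function.LeftInverse.injective fun f => AlgHom.congr_fun hid f
  refine ⟨s.range, isReduced_of_injective (AlgEquiv.ofInjective s hsinj).symm (AlgEquiv.ofInjective s hsinj).symm.injective, ?_, ?_⟩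
  · intro C hC x hx
    haveI : Module.Finite k C := Module.Finite.of_injective C.val.toLinearMap Subtype.val_injective
    obtain ⟨m, ⟨φ⟩⟩ := Groth.Calg7.FinAlg.exists_equiv_pi k C
    have hid' : ∀ y : C, IsIdempotentElem y → (y : A) ∈ s.range := by
      intro y hy
      refine ⟨ψ y, eq_of_isNilpotent_sub_of_isIdempotentElem ?_ (hy.map C.val) ((hk _).1 ?_)⟩
      · exact ((hy.map C.val).map ψ).map s
      · rw [map_sub, sub_eq_zero]; exact AlgHom.congr_fun hid _
    have hx' : (⟨x, hx⟩ : C) = ∑ i, φ ⟨x, hx⟩ i • φ.symm (Pi.single i (1:k) : Fin m → k) := by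
      apply φ.injective
      simp only [map_sum, map_smul, AlgEquiv.apply_symm_apply]
      ext j; simp [Finset.sum_apply, Pi.single_apply]
    have hx'' := congrArg C.val hx'
    rw [map_sum] at hx''
    change x = _ at hx''
    rw [hx'']
    refine sum_mem fun i _ => ?_
    rw [map_smul]
    refine Subalgebra.smul_mem _ (hid' _ ?_) _
    apply IsIdempotentElem.map
    show (Pi.single i (1:k) : Fin m → k) * Pi.single i 1 = Pi.single i 1
    rw [← Pi.single_mul, one_mul]
  · constructor
    · rintro ⟨_, f, rfl⟩ ⟨_, g, rfl⟩ h
      have h' : IsNilpotent (s f - s g) := by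
        have := Ideal.Quotient.eq.1 (show Ideal.Quotient.mk (nilradical A) (s f) = Ideal.Quotient.mk (nilradical A) (s g) from h)
        exact mem_nilradical.1 this
      have h0 := (hk _).2 h'
      rw [map_sub, sub_eq_zero] at h0
      have : f = g := by
        have h1 := AlgHom.congr_fun hid f; have h2 := AlgHom.congr_fun hid g
        simp only [AlgHom.comp_apply, AlgHom.id_apply] at h1 h2
        rw [← h1, h0, h2]
      subst this; rfl
    · intro z
      obtain ⟨a, rfl⟩ := Ideal.Quotient.mk_surjective z
      refine ⟨⟨s (ψ a), ψ a, rfl⟩, Ideal.Quotient.eq.2 (mem_nilradical.2 ((hk _).1 ?_))⟩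
      rw [map_sub, sub_eq_zero]; exact AlgHom.congr_fun hid _

end Groth.Agent.S17323
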