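import Groth.Statements.S17324
import Mathlib
-- import your own Groth.Agent.* helpers here

set_option autoImplicit false
universe u v
open CAlg

namespace Groth.Agent.S17324

/-- (i) ⟺ (ii): let k be an algebraically closed field, A a commutative k-algebra which is
finite-dimensional as a k-vector space and is a local ring with maximal ideal m, and a_1, …, a_m ∈
m. Then A is generated as a k-algebra by a_1, …, a_m if and only if m is generated as an ideal by
a_1, …, a_m. (The printed lemma has a third equivalent condition, that the images of the a_i span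
m/m²; its equivalence with (ii) is Nakayama's lemma.) -/
theorem result (k : Type u) [Field k] [IsAlgClosed k]
    (A : Type v) [CommRing A] [Algebra k A] [Module.Finite k A] [IsLocalRing A]
    (m : ℕ) (a : Fin m → A) (ha : ∀ i, a i ∈ IsLocalRing.maximalIdeal A) :
    Algebra.adjoin k (Set.range a) = ⊤ ↔ Ideal.span (Set.range a) = IsLocalRing.maximalIdeal A := by
  set 𝔪 := IsLocalRing.maximalIdeal A
  haveI : Algebra.IsIntegral k (IsLocalRing.ResidueField A) := inferInstance
  have hres : ∀ x : A, ∃ c : k, x - algebraMap k A c ∈ 𝔪 := by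
    intro x
    obtain ⟨c, hc⟩ := (IsAlgClosed.algebraMap_bijective_of_isIntegral (k := k) (K := IsLocalRing.ResidueField A)).2 (IsLocalRing.residue A x)
    refine ⟨c, ?_⟩
    rw [← IsLocalRing.residue_eq_zero_iff, map_sub, ← hc, sub_eq_zero]
    rfl
  constructor
  · intro h
    refine le_antisymm (Ideal.span_le.2 (by rintro _ ⟨i, rfl⟩; exact ha i)) fun x hx => ?_
    have key : ∀ y ∈ Algebra.adjoin k (Set.range a), ∃ c : k,
        y - algebraMap k A c ∈ Ideal.span (Set.range a) := by
      intro y hy
      induction hy using Algebra.adjoin_induction with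
      | mem z hz => exact ⟨0, by simpa using Ideal.subset_span hz⟩
      | algebraMap c => exact ⟨c, by simp⟩
      | add y z _ _ hy hz =>
        obtain ⟨c, hc⟩ := hy; obtain ⟨d, hd⟩ := hz
        refine ⟨c + d, ?_⟩
        have := add_mem hc hd
        convert this using 1
        rw [map_add]; ring
      | mul y z _ _ hy hz =>
        obtain ⟨c, hc⟩ := hy; obtain ⟨d, hd⟩ := hz
        refine ⟨c * d, ?_⟩
        have := add_mem (Ideal.mul_mem_right z _ hc) (Ideal.mul_mem_left _ (algebraMap k A c) hd)
        convert this using 1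
        rw [map_mul]; ring
    obtain ⟨c, hc⟩ := key x (by rw [h]; exact Algebra.mem_top)
    rcases eq_or_ne c 0 with rfl | hc0
    · simpa using hc
    exfalso
    have h1 : x - algebraMap k A c ∈ 𝔪 := (Ideal.span_le.2 (by rintro _ ⟨i, rfl⟩; exact ha i)) hc
    have h2 : algebraMap k A c ∈ 𝔪 := by simpa using sub_mem hx h1
    exact (IsLocalRing.maximalIdeal.isMaximal A).ne_top
      (Ideal.eq_top_of_isUnit_mem _ h2 ((IsUnit.mk0 c hc0).map _))
  · intro h
    haveI : IsArtinianRing A := IsArtinianRing.of_finite k A
    obtain ⟨N, hN⟩ : IsNilpotent 𝔪 := by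
      rw [show 𝔪 = (⊥ : Ideal A).jacobson from (IsLocalRing.jacobson_eq_maximalIdeal _ bot_ne_top).symm]
      exact IsArtinianRing.isNilpotent_jacobson_bot
    set S := Algebra.adjoin k (Set.range a)
    have key : ∀ j, ∀ x ∈ 𝔪 ^ j, ∃ s ∈ S, x - s ∈ 𝔪 ^ (j + 1) := by
      intro j
      induction j with
      | zero =>
        intro x _
        obtain ⟨c, hc⟩ := hres x
        exact ⟨_, S.algebraMap_mem c, by simpa using hc⟩
      | succ j ih =>
        intro x hx
        rw [pow_succ] at hx
        induction hx using Submodule.mul_induction_on' with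
        | mem_mul_mem y hy z hz =>
          rw [← h] at hz
          obtain ⟨s, hs, hys⟩ := ih y hy
          obtain ⟨co, rfl⟩ := Ideal.mem_span_range_iff_exists_fun.1 hz
          choose c hc using fun i => hres (co i)
          refine ⟨∑ i, s * algebraMap k A (c i) * a i, sum_mem fun i _ =>
            mul_mem (mul_mem hs (S.algebraMap_mem _)) (Algebra.subset_adjoin ⟨i, rfl⟩), ?_⟩
          rw [Finset.mul_sum, ← Finset.sum_sub_distrib]
          refine Ideal.sum_mem _ fun i _ => ?_
          rw [show y * (co i * a i) - s * algebraMap k A (c i) * a i =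
            ((y - s) * co i + s * (co i - algebraMap k A (c i))) * a i by ring, pow_succ]
          refine Ideal.mul_mem_mul ?_ (ha i)
          refine add_mem (Ideal.mul_mem_right _ _ hys) ?_
          have hsj : s ∈ 𝔪 ^ j := by simpa using sub_mem hy (Ideal.pow_le_pow_right (Nat.le_succ j) hys)
          rw [pow_succ]; exact Ideal.mul_mem_mul hsj (hc i)
        | add y _ z _ hy hz =>
          obtain ⟨s, hs, hys⟩ := hy; obtain ⟨t, ht, hzt⟩ := hz
          exact ⟨s + t, add_mem hs ht, by rw [show y + z - (s + t) = (y - s) + (z - t) by ring]; exact add_mem hys hzt⟩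
    refine top_le_iff.1 fun x _ => ?_
    have : ∀ j, ∃ s ∈ S, x - s ∈ 𝔪 ^ j := by
      intro j
      induction j with
      | zero => exact ⟨0, zero_mem _, by simp⟩
      | succ j ih =>
        obtain ⟨s, hs, hxs⟩ := ih
        obtain ⟨t, ht, hxt⟩ := key j _ hxs
        exact ⟨s + t, add_mem hs ht, by rw [← sub_sub]; exact hxt⟩
    obtain ⟨s, hs, hxs⟩ := this N
    rw [hN] at hxs
    have hxs' : x = s := sub_eq_zero.1 (by simpa using hxs)
    rw [hxs']; exact hs

end Groth.Agent.S17324
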