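import Groth.Statements.S17325


set_option autoImplicit false
universe u v
open LieAlg

namespace Groth.Agent.S17325

/-- Let k be an algebraically closed field of characteristic p > 0, V a finite-dimensional k-vector
space and g a nonzero k-linear subspace of End_k(V) closed under the p-th power map u ↦ u^p. Then g
contains a nonzero u with u^p = c u for some c ∈ k, i.e. a line k u closed under p-th powers. (The
published lemma concerns an abstract nonzero finite-dimensional restricted Lie algebra; this row
concerns subspaces of End_k(V) closed under p-th powers, a class that contains every restricted Lie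
subalgebra of gl(V).) -/
theorem result (k : Type u) [Field k] [IsAlgClosed k]
    (p : ℕ) [Fact p.Prime] [CharP k p] (V : Type v) [AddCommGroup V] [Module k V] [FiniteDimensional k V]
    (g : Submodule k (Module.End k V)) (hg : ∀ u ∈ g, u ^ p ∈ g) (hne : g ≠ ⊥) :
    ∃ u ∈ g, u ≠ 0 ∧ ∃ c : k, u ^ p = c • u := by
  classical
  obtain ⟨u, hu, hu0⟩ := (Submodule.ne_bot_iff g).1 hne
  have hp : p.Prime := Fact.out
  let W : ℕ → Module.End k V := fun i => u ^ p ^ i
  have hW : ∀ i, W i ∈ g := by
    intro i
    induction i with
    | zero => simpa [W] using hu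
    | succ i ih =>
      have := hg _ ih
      rwa [show W (i + 1) = W i ^ p by simp only [W, ← pow_mul, pow_succ]]
  -- the least index at which the powers become linearly dependent
  have hex : ∃ n, W n ∈ Submodule.span k (W '' Set.Iio n) := by
    by_contra h
    push Not at h
    have hli : ∀ n, LinearIndependent k (fun i : Fin n => W i) := by
      intro n
      induction n with
      | zero => exact linearIndependent_empty_type
      | succ n ih =>
        rw [linearIndependent_finSucc']
        refine ⟨ih, fun hmem => h n (Submodule.span_mono ?_ hmem)⟩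
        rintro _ ⟨i, rfl⟩
        exact ⟨i, i.2, rfl⟩
    have := (hli (Module.finrank k (Module.End k V) + 1)).fintype_card_le_finrank
    simp at this
  have hspec := Nat.find_spec hex
  have hmin := fun m => Nat.find_min hex (m := m)
  set n := Nat.find hex
  obtain ⟨m, hm⟩ : ∃ m, n = m + 1 := Nat.exists_eq_add_one.2 <| Nat.pos_of_ne_zero fun h => hu0 <| by
    rw [h] at hspec
    simpa [W] using hspec
  obtain ⟨a, ha⟩ : ∃ a : ℕ → k, W n = ∑ i ∈ Finset.range n, a i • W i := by
    rw [show W '' Set.Iio n = Set.range (fun i : Fin n => W i) by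
        ext; simp [Fin.exists_iff], Submodule.mem_span_range_iff_exists_fun] at hspec
    obtain ⟨c, hc⟩ := hspec
    refine ⟨fun i => if h : i < n then c ⟨i, h⟩ else 0, ?_⟩
    rw [← hc, Finset.sum_fin_eq_sum_range]
    exact Finset.sum_congr rfl fun i hi => by simp [Finset.mem_range.1 hi]
  -- a combination with nonzero top coefficient does not vanish
  have hne0 : ∀ x : ℕ → k, x m ≠ 0 → ∑ i ∈ Finset.range n, x i • W i ≠ 0 := by
    intro x hx h0
    rw [hm, Finset.sum_range_succ, add_comm, ← eq_neg_iff_add_eq_zero] at h0
    refine hmin m (by omega) ?_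
    rw [← inv_smul_smul₀ hx (W m), h0]
    refine Submodule.smul_mem _ _ (neg_mem (Submodule.sum_mem _ fun i hi => Submodule.smul_mem _ _ ?_))
    exact Submodule.subset_span ⟨i, Finset.mem_range.1 hi, rfl⟩
  have hmem : ∀ x : ℕ → k, ∑ i ∈ Finset.range n, x i • W i ∈ g := fun x =>
    Submodule.sum_mem _ fun i _ => Submodule.smul_mem _ _ (hW i)
  have hfrob : ∀ x : ℕ → k, (∑ i ∈ Finset.range n, x i • W i) ^ p =
      ∑ i ∈ Finset.range n, x i ^ p • W (i + 1) := by
    intro x
    have h := congrArg (Polynomial.aeval u)
      (sum_pow_char p (Finset.range n) fun i => Polynomial.C (x i) * Polynomial.X ^ p ^ i)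
    simpa [W, mul_pow, ← pow_mul, pow_succ, ← Algebra.smul_def, Algebra.smul_def] using h
  by_cases ha0 : a 0 = 0
  · choose b hb using fun i => IsAlgClosed.exists_pow_nat_eq (a i) hp.pos
    let x : ℕ → k := fun i => if i = m then 1 else -b (i + 1)
    refine ⟨_, hmem x, hne0 x (by simp [x]), 0, ?_⟩
    rw [zero_smul, hfrob, hm, Finset.sum_range_succ]
    have hx : ∀ i ∈ Finset.range m, x i ^ p • W (i + 1) = -(a (i + 1) • W (i + 1)) := fun i hi => by
      simp only [x, if_neg (Finset.mem_range.1 hi).ne]
      rw [neg_pow, neg_one_pow_char, neg_one_mul, hb, neg_smul]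
    rw [Finset.sum_congr rfl hx, Finset.sum_neg_distrib]
    simp only [x, if_true, one_pow, one_smul]
    rw [← hm, ha, hm, Finset.sum_range_succ' _ m, ha0, zero_smul, add_zero, neg_add_cancel]
  · -- a fixed vector
    let Q : ℕ → Polynomial k := fun i => Nat.rec (Polynomial.C (a 0) * Polynomial.X ^ p)
      (fun j q => q ^ p + Polynomial.C (a (j + 1)) * Polynomial.X ^ p) i
    have hQ : ∀ i, (Q i).natDegree = p ^ (i + 1) ∧ Polynomial.X ^ p ∣ Q i := by
      intro i
      induction i with
      | zero => exact ⟨by simp [Q, ha0], Dvd.intro_left _ rfl⟩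
      | succ i ih =>
        obtain ⟨hd, hdvd⟩ := ih
        refine ⟨?_, dvd_add (dvd_pow hdvd hp.ne_zero) (Dvd.intro_left _ rfl)⟩
        show (Q i ^ p + Polynomial.C (a (i + 1)) * Polynomial.X ^ p).natDegree = _
        have hlt : p < p ^ (i + 1) * p := lt_mul_left hp.pos (Nat.one_lt_pow (by omega) hp.one_lt)
        rw [Polynomial.natDegree_add_eq_left_of_natDegree_lt]
        · rw [Polynomial.natDegree_pow, hd]; ring
        · rw [Polynomial.natDegree_pow, hd, mul_comm p]
          exact (Polynomial.natDegree_C_mul_X_pow_le _ _).trans_lt hlt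
    obtain ⟨S, hS⟩ := (hQ m).2
    let R : Polynomial k := Polynomial.X ^ (p - 1) * S - 1
    have hR : 0 < R.natDegree := by
      by_contra h
      have h2 : (Polynomial.X * (R + 1) : Polynomial k).natDegree ≤ 1 :=
        Polynomial.natDegree_mul_le.trans (by
          have := Polynomial.natDegree_add_le R 1
          simp at this ⊢; omega)
      rw [show Polynomial.X * (R + 1) = Q m by
        rw [hS]; simp only [R, sub_add_cancel]
        rw [← mul_assoc, ← pow_succ', Nat.sub_add_cancel hp.one_le]] at h2
      rw [(hQ m).1] at h2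
      have : 1 < p ^ (m + 1) := Nat.one_lt_pow (by omega) hp.one_lt
      omega
    obtain ⟨t, ht⟩ := IsAlgClosed.exists_root R 
      (Polynomial.natDegree_pos_iff_degree_pos.1 hR).ne'
    have ht0 : t ≠ 0 := by
      rintro rfl
      simp [R, zero_pow (Nat.sub_ne_zero_of_lt hp.one_lt)] at ht
    have hQt : (Q m).eval t = t := by
      have : t ^ (p - 1) * S.eval t = 1 := by simpa [R, sub_eq_zero] using ht
      rw [hS, Polynomial.eval_mul, Polynomial.eval_pow, Polynomial.eval_X,
        show p = p - 1 + 1 from (Nat.sub_add_cancel hp.one_le).symm, pow_succ', mul_assoc]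
      simp [this]
    let x : ℕ → k := fun i => (Q i).eval t
    refine ⟨_, hmem x, hne0 x (by rwa [show x m = t from hQt]), 1, ?_⟩
    rw [one_smul, hfrob]
    conv_lhs => rw [hm, Finset.sum_range_succ, ← hm, ha, hm, show x m = t from hQt, Finset.smul_sum]
    rw [hm, Finset.sum_range_succ' _ m, Finset.sum_range_succ' (fun i => x i • W i) m,
      ← add_assoc, ← Finset.sum_add_distrib]
    congr 1
    · refine Finset.sum_congr rfl fun i _ => ?_
      rw [smul_smul, ← add_smul]
      congr 1
      simp only [x, Q, Polynomial.eval_add, Polynomial.eval_pow, Polynomial.eval_mul, Polynomial.eval_C,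
        Polynomial.eval_X]
      ring
    · rw [smul_smul]
      congr 1
      simp only [x, Q, Nat.rec_zero, Polynomial.eval_pow, Polynomial.eval_mul, Polynomial.eval_C,
        Polynomial.eval_X]
      ring

end Groth.Agent.S17325
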