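import Groth.Statements.S17326
import Mathlib
import Groth.Agent.Calg7.FiniteAlgClosed
-- import your own Groth.Agent.* helpers here

set_option autoImplicit false
universe u v
open CAlg

namespace Groth.Agent.S17326

/-- Let k be an algebraically closed field of characteristic p > 0, A a commutative k-algebra which is
finite-dimensional as a k-vector space (a finite k-scheme X), and n ≥ 1. The n-th iterated relative
Frobenius morphism X → X^(p^n) is an isomorphism if and only if X is reduced; on rings: the map a ↦
a^(p^n) of A to itself (which is the ring homomorphism underlying the relative Frobenius, the twist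
A^(p^n) having the same underlying ring as A) is bijective if and only if A is reduced. -/
theorem result (k : Type u) [Field k] [IsAlgClosed k]
    (p : ℕ) [Fact p.Prime] [CharP k p] (A : Type v) [CommRing A] [Algebra k A] [Module.Finite k A]
    (n : ℕ) (hn : 1 ≤ n) :
    Function.Bijective (fun a : A => a ^ p ^ n) ↔ IsReduced A := by
  constructor
  · rintro ⟨hinj, -⟩
    refine ⟨fun x ⟨N, hN⟩ => ?_⟩
    have hit : ∀ j, Function.Injective fun a : A => a ^ (p ^ n) ^ j := by
      intro j
      induction j with
      | zero => simp [Function.Injective]
      | succ j ih =>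
        intro a b h
        simp only [pow_succ, pow_mul] at h
        exact ih (hinj h)
    apply hit N
    have hpos : 0 < p := (Fact.out : p.Prime).pos
    have hle : N ≤ (p ^ n) ^ N := le_of_lt (Nat.lt_pow_self (Nat.one_lt_pow (by omega) (Fact.out : p.Prime).one_lt))
    show x ^ _ = (0 : A) ^ _
    rw [pow_eq_zero_of_le hle hN, zero_pow (pow_ne_zero _ (pow_ne_zero _ hpos.ne'))]
  · intro hred
    obtain ⟨m, ⟨ψ⟩⟩ := Groth.Calg7.FinAlg.exists_equiv_pi k A
    have hk : Function.Bijective fun c : k => c ^ p ^ n := bijective_iterateFrobenius (R := k) (p := p) (n := n)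
    refine ⟨fun a b h => ψ.injective (funext fun i => hk.1 ?_), fun b => ?_⟩
    · simpa using congrFun (congrArg ψ h) i
    · choose c hc using fun i => hk.2 (ψ b i)
      refine ⟨ψ.symm c, ψ.injective ?_⟩
      ext i
      simpa using hc i

end Groth.Agent.S17326
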