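import Groth.Statements.S17327
import Mathlib.RingTheory.HopfAlgebra.Basic
import Mathlib.RingTheory.Artinian.Ring
import Mathlib.FieldTheory.IsAlgClosed.Basic
import Groth.Agent.Sga3.HopfFiniteLocal

set_option autoImplicit false
universe u v
open Hopf

namespace Groth.Agent.S17327

open WithConv Groth.Sga3.HopfFin

variable (k : Type u) [Field k] (A : Type v) [CommRing A] [HopfAlgebra k A]

/-- left translation by a rational point -/
noncomputable def translate (g : WithConv (A →ₐ[k] k)) : A →ₐ[k] A :=
  (postComp (Algebra.ofId k A) g * toConv (AlgHom.id k A)).ofConv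

theorem translate_translate (g h : WithConv (A →ₐ[k] k)) (a : A) :
    translate k A h (translate k A g a) = translate k A (g * h) a := by
  have e : postComp (translate k A h) (postComp (Algebra.ofId k A) g * toConv (AlgHom.id k A)) =
      postComp (Algebra.ofId k A) (g * h) * toConv (AlgHom.id k A) := by
    rw [map_mul, map_mul, mul_assoc]
    congr 1
    apply WithConv.ofConv_injective
    ext a
    simp [postComp, translate]
  exact congrArg (fun f : WithConv (A →ₐ[k] A) => f a) e

theorem translate_one (a : A) : translate k A 1 a = a := by simp [translate]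

theorem counit_translate (g : WithConv (A →ₐ[k] k)) (a : A) :
    Coalgebra.counit (R := k) (translate k A g a) = g a := by
  have h1 : postComp (Bialgebra.counitAlgHom k A) (toConv (AlgHom.id k A)) = 1 := by
    apply WithConv.ofConv_injective
    ext b
    simp [postComp]
  have h2 : postComp (Bialgebra.counitAlgHom k A) (postComp (Algebra.ofId k A) g) = g := by
    apply WithConv.ofConv_injective
    ext b
    simp [postComp]
  have e : postComp (Bialgebra.counitAlgHom k A)
      (postComp (Algebra.ofId k A) g * toConv (AlgHom.id k A)) = g := by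
    rw [map_mul, h1, h2, mul_one]
  exact congrArg (fun f : WithConv (A →ₐ[k] k) => f a) e



/-- Let k be an algebraically closed field of characteristic p > 0, A a commutative Hopf algebra over k
which is finite-dimensional as a k-vector space (a finite group scheme G = Spec A), I the
augmentation ideal (kernel of the counit) and n ≥ 1. The n-th Frobenius kernel G_n is the closed
subgroup scheme cut out by the ideal generated by the p^n-th powers f^(p^n), f ∈ I; it is trivial,
i.e. that ideal equals I, if and only if G is reduced. -/
theorem result (k : Type u) [Field k] [IsAlgClosed k]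
    (p : ℕ) [Fact p.Prime] [CharP k p] (A : Type v) [CommRing A] [HopfAlgebra k A] [Module.Finite k A]
    (n : ℕ) (hn : 1 ≤ n) :
    Ideal.span ((fun f : A => f ^ p ^ n) '' (RingHom.ker (Bialgebra.counitAlgHom k A) : Set A)) =
      RingHom.ker (Bialgebra.counitAlgHom k A) ↔ IsReduced A := by
  classical
  have : IsArtinianRing A := IsArtinianRing.of_finite k A
  constructor
  · intro heq
    have hI : RingHom.ker (Bialgebra.counitAlgHom k A) ≤ RingHom.ker (Bialgebra.counitAlgHom k A) ^ 2 := by
      conv_lhs => rw [← heq]
      refine Ideal.span_le.2 ?_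
      rintro _ ⟨f, hf, rfl⟩
      have h2 : 2 ≤ p ^ n := le_trans (Fact.out : p.Prime).two_le (Nat.le_self_pow (by omega) p)
      exact Ideal.pow_le_pow_right h2 (Ideal.pow_mem_pow hf _)
    have : IsNoetherianRing A := inferInstance
    obtain ⟨e, he, hspan⟩ := (Ideal.isIdempotentElem_iff_of_fg _ (IsNoetherian.noetherian _)).1
      (show IsIdempotentElem (RingHom.ker (Bialgebra.counitAlgHom k A)) from
        le_antisymm Ideal.mul_le_right (by rw [← pow_two]; exact hI))
    refine ⟨fun a ha => ?_⟩
    by_contra ha0
    let Ann : Ideal A := LinearMap.ker (LinearMap.mulRight A a)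
    obtain ⟨m, hm, hle⟩ := Ideal.exists_le_maximal Ann (fun htop => ha0 (by
      have h1 : (1 : A) ∈ Ann := htop ▸ Submodule.mem_top
      simpa [Ann] using h1))
    letI := Ideal.Quotient.field m
    let g : WithConv (A →ₐ[k] k) := WithConv.toConv (((AlgEquiv.ofBijective (Algebra.ofId k (A ⧸ m))
      IsAlgClosed.algebraMap_bijective_of_isIntegral).symm.toAlgHom).comp (Ideal.Quotient.mkₐ k m))
    have hg : ∀ b, g b = 0 ↔ b ∈ m := fun b => by simp [g, Ideal.Quotient.eq_zero_iff_mem]
    let e' := translate k A g⁻¹ e
    have hinv : ∀ b, translate k A g⁻¹ (translate k A g b) = b := fun b => by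
      rw [translate_translate, mul_inv_cancel, translate_one]
    have hinv' : ∀ b, translate k A g (translate k A g⁻¹ b) = b := fun b => by
      rw [translate_translate, inv_mul_cancel, translate_one]
    have he' : e' ∈ m := by
      rw [← hg, ← counit_translate, hinv']
      have : e ∈ RingHom.ker (Bialgebra.counitAlgHom k A) := hspan ▸ Ideal.mem_span_singleton_self e
      exact this
    have hanm : a ∈ m := by
      obtain ⟨N, hN⟩ := ha
      exact hm.isPrime.mem_of_pow_mem N (by rw [hN]; exact m.zero_mem)
    obtain ⟨r, hr⟩ := Ideal.mem_span_singleton'.1 ((SetLike.ext_iff.1 hspan (translate k A g a)).1 (by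
      rw [RingHom.mem_ker, Bialgebra.counitAlgHom_apply, counit_translate]
      exact (hg a).2 hanm))
    have hea : a = translate k A g⁻¹ r * e' := by rw [← map_mul, hr, hinv]
    have h1 : 1 - e' ∈ Ann := by
      have hee : e' * e' = e' := by rw [← map_mul, he.eq]
      simp only [Ann, LinearMap.mem_ker, LinearMap.mulRight_apply]
      rw [hea, sub_mul, one_mul, mul_left_comm, hee, sub_self]
    exact hm.ne_top ((Ideal.eq_top_iff_one m).2 (by simpa using m.add_mem (hle h1) he'))
  · intro hred
    have : IsSemisimpleRing A := IsArtinianRing.isSemisimpleRing_of_isReduced A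
    obtain ⟨e, he, hspan⟩ := IsSemisimpleRing.ideal_eq_span_idempotent (RingHom.ker (Bialgebra.counitAlgHom k A))
    have hpow : ∀ j : ℕ, 1 ≤ j → e ^ j = e := by
      intro j hj
      obtain ⟨j, rfl⟩ := Nat.exists_eq_add_of_le' hj
      exact he.pow_succ_eq j
    refine le_antisymm (Ideal.span_le.2 ?_) ?_
    · rintro _ ⟨f, hf, rfl⟩
      exact Ideal.pow_mem_of_mem _ hf _ (pow_pos (Fact.out : p.Prime).pos n)
    · conv_lhs => rw [hspan]
      refine Ideal.span_le.2 (Set.singleton_subset_iff.2 (Ideal.subset_span ⟨e, ?_, hpow _ ?_⟩))
      · rw [hspan]; exact Ideal.mem_span_singleton_self e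
      · exact Nat.one_le_pow _ _ (Fact.out : p.Prime).pos

end Groth.Agent.S17327
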