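import Groth.Statements.S17330
import Groth.Agent.PropsBasic.HopfPrimeRank
import Groth.Agent.PropsBasic.HopfTangent

set_option autoImplicit false
set_option linter.style.haveILetI false
universe u v
open Hopf

namespace Groth.Agent.S17330

/-- Let k be an algebraically closed field of characteristic p > 0 and A a commutative Hopf algebra over
k, finite-dimensional as a k-vector space and not reduced (a non-reduced finite group scheme G =
Spec A). Then G contains a subgroup scheme isomorphic to μ_p or to α_p: there is a surjective
bialgebra homomorphism from A onto the group algebra of the cyclic group of order p (the Hopf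
algebra of μ_p, group elements group-like) or onto k[X]/(X^p) with X primitive (the Hopf algebra of
α_p). -/
theorem result (k : Type u) [Field k] [IsAlgClosed k]
    (p : ℕ) [Fact p.Prime] [CharP k p] (A : Type v) [CommRing A] [HopfAlgebra k A] [Module.Finite k A]
    (hA : ¬ IsReduced A) :
    (∃ f : A →ₐc[k] MonoidAlgebra k (Multiplicative (ZMod p)), Function.Surjective f) ∨
      (∃ f : A →ₐc[k] AlphaP.A p k, Function.Surjective f) := by
  haveI : Small.{u} A := small_of_injective (Module.finBasis k A).equivFun.injective
  let e : Shrink.{u} A ≃ₐ[k] A := Shrink.algEquiv k A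
  obtain ⟨E⟩ := Groth.HopfPrimeRank.nonempty_transport e
  letI := Groth.HopfDim.hopfAlgebra e
  haveI : Module.Finite k (Shrink.{u} A) := Module.Finite.equiv e.symm.toLinearEquiv
  have hred : ¬ IsReduced (Shrink.{u} A) := fun h =>
    hA (isReduced_of_injective e.symm e.symm.injective)
  rcases Groth.HopfTangent.main (k := k) (A := Shrink.{u} A) p hred with ⟨f, hf⟩ | ⟨f, hf⟩
  · exact Or.inl ⟨f.comp E.toBialgHom, hf.comp E.surjective⟩
  · exact Or.inr ⟨f.comp E.toBialgHom, hf.comp E.surjective⟩

end Groth.Agent.S17330
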