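import Groth.Statements.S17331
import Groth.Agent.PropsBasic.HopfPrimeRank

set_option autoImplicit false
set_option linter.style.haveILetI false
universe u v
open Hopf

namespace Groth.Agent.S17331

/-- Let k be an algebraically closed field of characteristic p > 0, ℓ a prime, and A a commutative Hopf
algebra over k of dimension ℓ as a k-vector space (a finite group scheme G of prime order ℓ). If ℓ ≠
p then G ≅ ℤ/ℓ: A is isomorphic as a bialgebra to the algebra of k-valued functions on the cyclic
group of order ℓ. If ℓ = p then G is isomorphic to ℤ/p, μ_p or α_p: A is isomorphic as a bialgebra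
to the algebra of functions on the cyclic group of order p, to its group algebra (group elements
group-like), or to k[X]/(X^p) with X primitive. -/
theorem result (k : Type u) [Field k] [IsAlgClosed k]
    (p : ℕ) [Fact p.Prime] [CharP k p] (A : Type v) [CommRing A] [HopfAlgebra k A]
    (ℓ : ℕ) [Fact ℓ.Prime] (hA : Module.finrank k A = ℓ) :
    (ℓ ≠ p → Nonempty (A ≃ₐc[k] ConstGrp.F k (Multiplicative (ZMod ℓ)))) ∧
      (ℓ = p → Nonempty (A ≃ₐc[k] ConstGrp.F k (Multiplicative (ZMod p))) ∨
        Nonempty (A ≃ₐc[k] MonoidAlgebra k (Multiplicative (ZMod p))) ∨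
        Nonempty (A ≃ₐc[k] AlphaP.A p k)) := by
  haveI : Module.Finite k A := Module.finite_of_finrank_pos (hA ▸ (Fact.out : ℓ.Prime).pos)
  haveI : Small.{u} A := Groth.ComodLib.LocalHopf.small_of_finite (k := k) (A := A)
  let e : Shrink.{u} A ≃ₐ[k] A := Shrink.algEquiv k A
  obtain ⟨E⟩ := Groth.HopfPrimeRank.nonempty_transport e
  letI := Groth.HopfDim.hopfAlgebra e
  obtain ⟨h1, h2⟩ := Groth.HopfPrimeRank.main (k := k) (A := Shrink.{u} A) p ℓ
    (e.toLinearEquiv.finrank_eq.trans hA)
  refine ⟨fun hne => (h1 hne).map E.trans, fun he => ?_⟩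
  rcases h2 he with h | h | h
  · exact Or.inl (h.map E.trans)
  · exact Or.inr (Or.inl (h.map E.trans))
  · exact Or.inr (Or.inr (h.map E.trans))

end Groth.Agent.S17331
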