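import Groth.Statements.S17332
import Mathlib
-- import your own Groth.Agent.* helpers here

set_option autoImplicit false
universe u v w
open CAlg

namespace Groth.Agent.S17332

/-- Let k be a field, E and F finite sets, and O(E), O(F) the k-algebras of k-valued functions with
pointwise operations. Then every k-algebra homomorphism u : O(F) → O(E) is pull-back along a unique
map φ : E → F, i.e. u(g) = g ∘ φ for all g. (In the source k is algebraically closed; the printed
argument only uses that k is a field.) -/
theorem result (k : Type u) [Field k] (E : Type v) [Finite E]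
    (F : Type w) [Finite F] (u : (F → k) →ₐ[k] (E → k)) :
    ∃! φ : E → F, ∀ g : F → k, u g = g ∘ φ := by
  classical
  haveI := Fintype.ofFinite F
  have hex : ∀ e : E, ∃ f₀ : F, ∀ g : F → k, u g e = g f₀ := by
    intro e
    set δ : F → F → k := fun f => Pi.single f 1 with hδ
    have hsum : ∑ f : F, δ f = 1 := by
      ext x; simp [δ, Finset.sum_apply, Pi.single_apply]
    have h1 : ∑ f : F, u (δ f) e = 1 := by
      rw [← Finset.sum_apply, ← map_sum, hsum, map_one]; rfl
    obtain ⟨f₀, hf₀⟩ : ∃ f, u (δ f) e ≠ 0 := by
      by_contra h
      push Not at h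
      simp [h] at h1
    refine ⟨f₀, fun g => ?_⟩
    have h2 : g * δ f₀ = g f₀ • δ f₀ := by
      ext x
      by_cases hx : x = f₀
      · subst hx; simp [δ]
      · simp [δ, Pi.single_apply, hx]
    have h3 := congrFun (congrArg u h2) e
    simp only [map_mul, map_smul, Pi.mul_apply, Pi.smul_apply, smul_eq_mul] at h3
    exact mul_right_cancel₀ hf₀ h3
  choose φ hφ using hex
  refine ⟨φ, fun g => funext fun e => hφ e g, fun ψ hψ => funext fun e => ?_⟩
  have := congrFun (hψ (Pi.single (φ e) (1:k))) e
  rw [hφ e] at this
  by_contra hne
  simp [Function.comp, Pi.single_apply, hne] at this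

end Groth.Agent.S17332
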