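import Groth.Statements.S17333
import Mathlib
-- import your own Groth.Agent.* helpers here

set_option autoImplicit false
universe u v w
open CAlg

namespace Groth.Agent.S17333

/-- Let k be a field and A = B × C a decomposable commutative k-algebra. Then the natural map Der(B) ×
Der(C) → Der(A) is bijective: every k-derivation D : A → A is (b, c) ↦ (D₁ b, D₂ c) for a unique
pair of k-derivations D₁ : B → B, D₂ : C → C. Compatibility with brackets is not stated. (The
published statement takes k algebraically closed; this row takes any field.) -/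
theorem result (k : Type u) [Field k] (B : Type v) [CommRing B] [Algebra k B]
    (C : Type w) [CommRing C] [Algebra k C] (D : Derivation k (B × C) (B × C)) :
    ∃! P : Derivation k B B × Derivation k C C, ∀ (b : B) (c : C), D (b, c) = (P.1 b, P.2 c) := by
  have he : D ((1 : B), (0 : C)) = 0 := by
    have h1 := D.leibniz ((1 : B), (0 : C)) ((1 : B), (0 : C))
    simp only [Prod.mk_mul_mk, mul_one, mul_zero] at h1
    have hx := congrArg Prod.fst h1
    have hy := congrArg Prod.snd h1
    simp only [Prod.smul_fst, Prod.smul_snd, Prod.fst_add, Prod.snd_add, smul_eq_mul, one_mul,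
      zero_mul, add_zero] at hx hy
    ext
    · simpa using hx
    · simpa using hy
  have hf : D ((0 : B), (1 : C)) = 0 := by
    have h1 : D ((1 : B), (1 : C)) = 0 := D.map_one_eq_zero
    have h2 : ((1 : B), (1 : C)) = ((1 : B), (0 : C)) + ((0 : B), (1 : C)) := by simp
    rw [h2, map_add, he, zero_add] at h1
    exact h1
  have hB : ∀ b : B, (D (b, 0)).2 = 0 := fun b => by
    have h := congrArg Prod.snd (D.leibniz ((1 : B), (0 : C)) (b, 0))
    simpa [he] using h
  have hC : ∀ c : C, (D (0, c)).1 = 0 := fun c => by
    have h := congrArg Prod.fst (D.leibniz ((0 : B), (1 : C)) (0, c))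
    simpa [hf] using h
  let D₁ : Derivation k B B := Derivation.mk'
    ((LinearMap.fst k B C).comp (D.toLinearMap.comp (LinearMap.inl k B C)))
    (fun a b => by
      have h := congrArg Prod.fst (D.leibniz (a, (0 : C)) (b, 0))
      simpa using h)
  let D₂ : Derivation k C C := Derivation.mk'
    ((LinearMap.snd k B C).comp (D.toLinearMap.comp (LinearMap.inr k B C)))
    (fun a b => by
      have h := congrArg Prod.snd (D.leibniz ((0 : B), a) (0, b))
      simpa using h)
  refine ⟨(D₁, D₂), fun b c => ?_, ?_⟩
  · have h : (b, c) = (b, (0 : C)) + ((0 : B), c) := by simp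
    rw [h, map_add]
    ext <;> simp [D₁, D₂, hB, hC]
  · rintro ⟨P, Q⟩ h
    refine Prod.ext (Derivation.ext fun b => ?_) (Derivation.ext fun c => ?_)
    · simpa [D₁] using (congrArg Prod.fst (h b 0)).symm
    · simpa [D₂] using (congrArg Prod.snd (h 0 c)).symm

end Groth.Agent.S17333
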