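import Groth.Statements.S17335
import Mathlib

set_option autoImplicit false
universe u v
open CAlg

namespace Groth.Agent.S17335

/-- Let k be an algebraically closed field and A a commutative k-algebra which is finite-dimensional as
a k-vector space, and let E be the set of k-algebra homomorphisms A → k. Then E is finite, and the
evaluation homomorphism A → O(E) = (E → k), a ↦ (f ↦ f(a)), is surjective with kernel the nilradical
of A; it therefore induces an isomorphism of A_red = A/nilradical(A) onto O(E). -/
theorem result (k : Type u) [Field k]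
    [IsAlgClosed k] (A : Type v) [CommRing A] [Algebra k A] [Module.Finite k A] :
    Finite (A →ₐ[k] k) ∧
      Function.Surjective (AlgHom.pi (R := k) (fun f : A →ₐ[k] k => f)) ∧
      RingHom.ker (AlgHom.pi (R := k) (fun f : A →ₐ[k] k => f)) = nilradical A := by
  classical
  have : IsArtinianRing A := IsArtinianRing.of_finite k A
  have hmax : ∀ f : A →ₐ[k] k, (RingHom.ker f).IsMaximal := fun f =>
    RingHom.ker_isMaximal_of_surjective f fun c => ⟨algebraMap k A c, f.commutes c⟩
  have hinj : Function.Injective (fun f : A →ₐ[k] k => (⟨RingHom.ker f, hmax f⟩ : MaximalSpectrum A)) := by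
    intro f g hfg
    refine AlgHom.ext fun a => ?_
    have h0 : a - algebraMap k A (f a) ∈ RingHom.ker f := by simp [RingHom.mem_ker]
    rw [show RingHom.ker f = RingHom.ker g from congrArg MaximalSpectrum.asIdeal hfg] at h0
    rw [RingHom.mem_ker, map_sub, AlgHom.commutes, sub_eq_zero] at h0
    simpa using h0.symm
  have hfin : Finite (A →ₐ[k] k) := Finite.of_injective _ hinj
  have hex : ∀ m : Ideal A, m.IsMaximal → ∃ f : A →ₐ[k] k, RingHom.ker f = m := by
    intro m hm
    let _ : Field (A ⧸ m) := Ideal.Quotient.field m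
    let e := AlgEquiv.ofBijective (Algebra.ofId k (A ⧸ m)) IsAlgClosed.algebraMap_bijective_of_isIntegral
    refine ⟨e.symm.toAlgHom.comp (Ideal.Quotient.mkₐ k m), ?_⟩
    ext x
    simp [RingHom.mem_ker, Ideal.Quotient.eq_zero_iff_mem]
  refine ⟨hfin, fun F => ?_, ?_⟩
  · have hcop : Pairwise fun f g : A →ₐ[k] k => IsCoprime (RingHom.ker f) (RingHom.ker g) := fun f g hfg =>
      Ideal.isCoprime_iff_sup_eq.2 ((hmax f).coprime_of_ne (hmax g) fun h => hfg (hinj (MaximalSpectrum.ext h)))
    obtain ⟨a, ha⟩ := Ideal.exists_forall_sub_mem_ideal hcop (fun f => algebraMap k A (F f))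
    refine ⟨a, funext fun f => ?_⟩
    have := ha f
    rw [RingHom.mem_ker, map_sub, sub_eq_zero, AlgHom.commutes] at this
    simpa using this
  · refine le_antisymm (fun a ha => ?_) fun a ha => ?_
    · rw [IsArtinianRing.nilradical_eq_iInf, Ideal.mem_iInf]
      intro m
      obtain ⟨f, hf⟩ := hex m.asIdeal m.isMaximal
      rw [← hf, RingHom.mem_ker]
      exact congrFun (RingHom.mem_ker.1 ha) f
    · rw [RingHom.mem_ker]
      funext f
      have hm := hmax f
      exact RingHom.mem_ker.1 (nilradical_le_prime (RingHom.ker f) ha)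

end Groth.Agent.S17335
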