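import Groth.Statements.S17336
import Mathlib
import Groth.Agent.S17335

set_option autoImplicit false
universe u v
open CAlg

namespace Groth.Agent.S17336

/-- Let k be an algebraically closed field and A a commutative k-algebra which is finite-dimensional as
a k-vector space (a finite scheme X = Spec A with largest reduced subscheme X_red = Spec
(A/nilradical A) and immersion i : X_red → X). Then there is a unique morphism r : X → X_red with r
∘ i = id; on rings: the projection A → A/nilradical(A) admits exactly one section that is a
k-algebra homomorphism. -/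
theorem result (k : Type u) [Field k]
    [IsAlgClosed k] (A : Type v) [CommRing A] [Algebra k A] [Module.Finite k A] :
    ∃! s : (A ⧸ nilradical A) →ₐ[k] A,
      (Ideal.Quotient.mkₐ k (nilradical A)).comp s = AlgHom.id k (A ⧸ nilradical A) := by
  obtain ⟨hfin, hsurj, hker⟩ := Groth.Agent.S17335.result k A
  let e : (A ⧸ nilradical A) ≃ₐ[k] ((A →ₐ[k] k) → k) :=
    (Ideal.quotientEquivAlgOfEq k hker.symm).trans (Ideal.quotientKerAlgEquivOfSurjective hsurj)
  have : Algebra.FormallyEtale k (A ⧸ nilradical A) := (Algebra.FormallyEtale.iff_of_equiv e).2 inferInstance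
  have : IsArtinianRing A := IsArtinianRing.of_finite k A
  have hnil : IsNilpotent (nilradical A) := IsArtinianRing.isNilpotent_nilradical
  refine ⟨Algebra.FormallySmooth.lift (nilradical A) hnil (AlgHom.id k _),
    Algebra.FormallySmooth.comp_lift _ hnil _, fun s hs => ?_⟩
  refine Algebra.FormallyUnramified.ext _ hnil fun x => ?_
  exact (AlgHom.congr_fun hs x).trans (AlgHom.congr_fun (Algebra.FormallySmooth.comp_lift _ hnil (AlgHom.id k _)) x).symm

end Groth.Agent.S17336
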