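import Groth.Statements.S17338
import Groth.Agent.Hopf.RestrictedEnv
import Groth.Prelude.Def_CartDual

set_option autoImplicit false
universe u v
open Hopf

namespace Groth.Agent.S17338

open Groth.ComodLib.RestrictedEnv CartDual
open scoped TensorProduct

theorem main (k : Type u) [Field k] (p : ℕ) [Fact p.Prime] [CharP k p]
    (L : Type u) [LieRing L] [LieAlgebra k L] [Module.Finite k L] (φ : PLie.PMap k p L) :
    ∃ (A : Type u) (_ : CommRing A) (_ : HopfAlgebra k A), Module.Finite k A ∧
      (∀ f : A, Bialgebra.counitAlgHom k A f = 0 → f ^ p = 0) ∧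
      ∃ e : L →ₗ[k] Derivation k A A, Function.Injective e ∧
        Set.range e = {D : Derivation k A A | CoalgebraStruct.comul (R := k) (A := A) ∘ₗ D.toLinearMap =
          LinearMap.lTensor A D.toLinearMap ∘ₗ CoalgebraStruct.comul (R := k) (A := A)} ∧
        (∀ x y : L, e ⁅x, y⁆ = ⁅e x, e y⁆) ∧
        (∀ x : L, (e (φ x)).toLinearMap = (e x).toLinearMap ^ p) := by
  let b := Module.finBasis k L
  let H := RU b φ
  have hmul : ∀ (f g : D k H) (u : H), (f * g) u =
      LinearMap.mul' k k (TensorProduct.map f.ofConv g.ofConv (Coalgebra.comul (R := k) u)) :=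
    fun f g u => LinearMap.convMul_apply f g u
  let R : H → (D k H →ₗ[k] D k H) := fun v =>
    { toFun := fun f => WithConv.toConv (f.ofConv ∘ₗ LinearMap.mulRight k v)
      map_add' := fun f g => WithConv.ext (LinearMap.ext fun u => rfl)
      map_smul' := fun c f => WithConv.ext (LinearMap.ext fun u => rfl) }
  have hR : ∀ (v : H) (f : D k H) (u : H), R v f u = f (u * v) := fun v f u => rfl
  have hleib : ∀ (l : L) (f g : D k H),
      R (x b φ l) (f * g) = f • R (x b φ l) g + g • R (x b φ l) f := by
    intro l f g
    refine WithConv.ext (LinearMap.ext fun u => ?_)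
    change (f * g) (u * x b φ l) = (f * R (x b φ l) g) u + (g * R (x b φ l) f) u
    rw [mul_comm g, hmul, hmul, hmul, Bialgebra.comul_mul, comul_x, mul_add]
    generalize Coalgebra.comul (R := k) u = z
    induction z using TensorProduct.induction_on with
    | zero => simp
    | tmul q r => simp [Algebra.TensorProduct.tmul_mul_tmul, R, mul_comm, add_comm]
    | add z z' hz hz' => simp only [add_mul, map_add] at hz hz' ⊢; linear_combination hz + hz'
  let e : L →ₗ[k] Derivation k (D k H) (D k H) :=
    { toFun := fun l => Derivation.mk' (R (x b φ l)) (hleib l)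
      map_add' := fun l m => Derivation.ext fun f => WithConv.ext (LinearMap.ext fun u => by
        change f (u * x b φ (l + m)) = f (u * x b φ l) + f (u * x b φ m)
        rw [map_add, mul_add]; exact map_add f.ofConv _ _)
      map_smul' := fun c l => Derivation.ext fun f => WithConv.ext (LinearMap.ext fun u => by
        change f (u * x b φ (c • l)) = c • f (u * x b φ l)
        rw [map_smul, mul_smul_comm]; exact map_smul f.ofConv _ _) }
  have he : ∀ (l : L) (f : D k H) (u : H), e l f u = f (u * x b φ l) := fun l f u => rfl
  refine ⟨D k H, inferInstance, inferInstance, inferInstance, fun f hf => ?_, e, ?_, ?_, fun l m => ?_, fun l => ?_⟩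
  · have h1 : f (1 : H) = 0 := hf
    have hd : ∀ l, e l (f ^ p) = 0 := fun l => by
      rw [Derivation.leibniz_pow, ← Nat.cast_smul_eq_nsmul k, CharP.cast_eq_zero, zero_smul]
    have hp1 : (f ^ p) (1 : H) = 0 := by
      change Bialgebra.counitAlgHom k (D k H) (f ^ p) = 0
      rw [map_pow, show Bialgebra.counitAlgHom k (D k H) f = 0 from h1, zero_pow (Fact.out : p.Prime).ne_zero]
    refine WithConv.ext (LinearMap.ext fun u => ?_)
    suffices hall : ∀ v w : H, (f ^ p) (v * w) = Coalgebra.counit (R := k) w * (f ^ p) v by
      have := hall 1 u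
      rw [one_mul, hp1, mul_zero] at this
      exact this
    intro v w
    induction w using Groth.ComodLib.RestrictedEnv.induction_words b φ generalizing v with
    | zero => simp
    | add a c ha hc => simp [mul_add, map_add, ha, hc, add_mul]
    | smul r a ha => simp [map_smul, ha, mul_assoc]
    | one => simp
    | cons i a ha =>
      rw [← mul_assoc, ha, Bialgebra.counit_mul, counit_x, zero_mul, zero_mul, ← he, hd]
      simp
  · refine (injective_iff_map_eq_zero e).2 fun l hl => x_injective b φ ?_
    rw [map_zero]
    refine (Module.forall_dual_apply_eq_zero_iff k _).1 fun g => ?_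
    have h1 := congrArg (fun d : Derivation k (D k H) (D k H) => (d (WithConv.toConv g)) (1 : H)) hl
    simp only [he, one_mul] at h1
    exact h1
  · refine Set.eq_of_subset_of_subset ?_ fun Dd hD => ?_
    · rintro _ ⟨l, rfl⟩
      refine LinearMap.ext fun f => (ev₂ k H).injective (TensorProduct.ext' fun q r => ?_)
      have h2 : ∀ y : D k H ⊗[k] D k H,
          ev₂ k H ((e l).toLinearMap.lTensor (D k H) y) (q ⊗ₜ r) = ev₂ k H y (q ⊗ₜ (r * x b φ l)) := by
        intro y
        induction y using TensorProduct.induction_on with
        | zero => simp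
        | tmul f g => simp [he]
        | add y y' hy hy' => simp only [map_add, LinearMap.add_apply, hy, hy']
      simp only [LinearMap.comp_apply]
      rw [h2, ev₂_coalgebra_comul_tmul, ev₂_coalgebra_comul_tmul, Derivation.coeFn_coe, he, mul_assoc]
    · let δ : Module.Dual k (Module.Dual k H) :=
        Coalgebra.counit (R := k) ∘ₗ Dd.toLinearMap ∘ₗ (toDual k H).symm.toLinearMap
      obtain ⟨u, hu⟩ := (Module.bijective_dual_eval k H).2 δ
      have hδ : ∀ f : D k H, (Dd f) (1 : H) = f u := fun f => (LinearMap.congr_fun hu f.ofConv).symm
      have hDd : ∀ (f : D k H) (q : H), (Dd f) q = f (q * u) := by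
        intro f q
        have h2 : ∀ y : D k H ⊗[k] D k H,
            ev₂ k H (Dd.toLinearMap.lTensor (D k H) y) (q ⊗ₜ 1) = ev₂ k H y (q ⊗ₜ u) := by
          intro y
          induction y using TensorProduct.induction_on with
          | zero => simp
          | tmul f g => simp [hδ]
          | add y y' hy hy' => simp only [map_add, LinearMap.add_apply, hy, hy']
        have h3 := congrArg (fun F => ev₂ k H (F f) (q ⊗ₜ 1)) (hD : _ = _)
        simp only [LinearMap.comp_apply, h2, ev₂_coalgebra_comul_tmul, mul_one, Derivation.coeFn_coe] at h3
        exact h3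
      have hprim : Coalgebra.comul (R := k) u = u ⊗ₜ[k] 1 + 1 ⊗ₜ[k] u := by
        rw [← sub_eq_zero]
        refine (Module.forall_dual_apply_eq_zero_iff k _).1 fun F => ?_
        obtain ⟨y, rfl⟩ := (ev₂ k H).surjective F
        induction y using TensorProduct.induction_on with
        | zero => simp
        | add y y' hy hy' => simp only [map_add, LinearMap.add_apply, hy, hy', add_zero]
        | tmul f g =>
          have h4 : (f * g) u = f u * g 1 + f 1 * g u := by
            rw [← hδ, Derivation.leibniz]
            change Bialgebra.counitAlgHom k (D k H) (f * Dd g + g * Dd f) = _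
            rw [map_add, map_mul, map_mul]
            change f 1 * (Dd g) 1 + g 1 * (Dd f) 1 = _
            rw [hδ, hδ]; ring
          rw [map_sub, map_add, ev₂_tmul, ev₂_tmul, ev₂_tmul_eq', LinearMap.comp_apply, ← hmul, h4, sub_self]
      obtain ⟨l, rfl⟩ := primitive_mem_range b φ hprim
      exact ⟨l, Derivation.ext fun f => WithConv.ext (LinearMap.ext fun q => (he l f q).trans (hDd f q).symm)⟩
  · refine Derivation.ext fun f => WithConv.ext (LinearMap.ext fun u => ?_)
    rw [Derivation.commutator_apply]
    change f (u * x b φ ⁅l, m⁆) = f (u * x b φ l * x b φ m) - f (u * x b φ m * x b φ l)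
    rw [x_lie, mul_sub, mul_assoc, mul_assoc]
    exact map_sub f.ofConv _ _
  · have hn : ∀ (n : ℕ) (f : D k H) (u : H), (((e l).toLinearMap ^ n) f) u = f (u * x b φ l ^ n) := by
      intro n
      induction n with
      | zero => intro f u; simp
      | succ n ih =>
        intro f u
        rw [pow_succ, Module.End.mul_apply, ih, pow_succ, ← mul_assoc]
        exact he l f _
    refine LinearMap.ext fun f => WithConv.ext (LinearMap.ext fun u => ?_)
    exact (he (φ l) f u).trans ((hn p f u).trans (by rw [x_pow])).symm



/-- Let k be an algebraically closed field of characteristic p > 0 and (L, x ↦ x^[p]) a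
finite-dimensional restricted Lie algebra over k. Then L is the Lie algebra of an infinitesimal
group scheme of height at most one: there are a commutative Hopf algebra A over k,
finite-dimensional as a k-vector space, with f^p = 0 for every f in the augmentation ideal, and an
injective k-linear map e from L to the k-derivations of A whose image is exactly the set of
left-invariant derivations (those D with Δ ∘ D = (id ⊗ D) ∘ Δ), such that e takes brackets to
commutators of derivations and x^[p] to the p-th power of e(x) as an endomorphism of A. (The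
assignment G ↦ Lie(G) is moreover fully faithful on height ≤ 1 groups; that half is not stated
here.) -/
theorem result (k : Type u) [Field k]
    [IsAlgClosed k] (p : ℕ) [Fact p.Prime] [CharP k p]
    (L : Type u) [LieRing L] [LieAlgebra k L] [Module.Finite k L] (φ : PLie.PMap k p L) :
    ∃ (A : Type u) (_ : CommRing A) (_ : HopfAlgebra k A), Module.Finite k A ∧
      (∀ f : A, Bialgebra.counitAlgHom k A f = 0 → f ^ p = 0) ∧
      ∃ e : L →ₗ[k] Derivation k A A, Function.Injective e ∧
        Set.range e = {D : Derivation k A A | CoalgebraStruct.comul (R := k) (A := A) ∘ₗ D.toLinearMap =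
          LinearMap.lTensor A D.toLinearMap ∘ₗ CoalgebraStruct.comul (R := k) (A := A)} ∧
        (∀ x y : L, e ⁅x, y⁆ = ⁅e x, e y⁆) ∧
        (∀ x : L, (e (φ x)).toLinearMap = (e x).toLinearMap ^ p) := by
  exact main k p L φ

end Groth.Agent.S17338
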