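import Groth.Statements.S1735
import Groth.Agent.LocCohTransform.SymbolicTop

set_option autoImplicit false
universe u
open LocCoh

namespace Groth.Agent.S1735

/-- Let A be a complete Noetherian local domain and p a prime ideal with dim(A/p) = 1. For every n ≥ 1
there is m ≥ n such that the m-th symbolic power of p (the contraction of p^m A_p to A) is contained
in p^n. -/
theorem result (A : Type u) [CommRing A] [IsDomain A] [IsLocalRing A] [IsNoetherianRing A] [IsAdicComplete (IsLocalRing.maximalIdeal A) A] (p : Ideal A) [p.IsPrime] (hp : ringKrullDim (A ⧸ p) = 1) (n : ℕ) (hn : 1 ≤ n) : ∃ m : ℕ, n ≤ m ∧ ((Ideal.map (algebraMap A (Localization.AtPrime p)) p) ^ m).comap (algebraMap A (Localization.AtPrime p)) ≤ p ^ n := by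
  exact Groth.LocCohTransform.HLVT.exists_symb_le p hp n

end Groth.Agent.S1735
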