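import Groth.Statements.S17351
import Groth.Agent.Misc6.ExtIdeal
import Groth.Agent.Misc6.QCohExt
import Groth.Agent.LocFree.Basic
import Groth.Agent.VarietyBC.SmoothChart
import Groth.Agent.Variety2.DimScheme
import Mathlib.Topology.JacobsonSpace

set_option autoImplicit false
universe u
open CategoryTheory CategoryTheory.Limits AlgebraicGeometry
open AdjLin

namespace Groth.Agent.S17351

open Groth.Misc6.ExtIdeal

/-- Let k be an algebraically closed field of characteristic zero and X a smooth projective surface over
k (irreducible, proper, smooth of dimension 2, with an ample invertible module); let M be an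
invertible O_X-module, Z ⊆ X a closed subscheme whose underlying set is finite, with quasi-coherent
ideal I_Z regarded as an O_X-module, and let 0 → M → F → I_Z → 0 be a short exact sequence of
O_X-modules (an extension of L ⊗ I_Z by O_X in the source, here tensored with M = L⁻¹). Then F is
not finite locally free if and only if there exist an ideal sheaf I' strictly containing I_Z (a
proper closed subscheme Z' of Z, the empty one allowed), a short exact sequence 0 → M → F' → I' → 0
and a morphism g : F → F' which is compatible with the two maps from M and, on the quotients, with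
the inclusion I_Z → I' (the unique map commuting with the inclusions into O_X); in other words the
extension class of F is the pull-back of an extension of I' by M. -/
theorem result (k : Type u) [Field k] [IsAlgClosed k] [CharZero k]
    (X : Scheme.{u}) [X.Over (Spec (CommRingCat.of k))] [IsProper (X ↘ (Spec (CommRingCat.of k)))]
    [Smooth (X ↘ (Spec (CommRingCat.of k)))] [IrreducibleSpace X] (hdim : topologicalKrullDim X = 2)
    (H : X.Modules) (hH : CohB1.IsAmple H)
    (M : X.Modules) (hM : PicF.IsInvertible M)
    (IZ : X.IdealSheafData) (hZ : (IZ.support : Set X).Finite)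
    (F : X.Modules) (a : M ⟶ F) (b : F ⟶ ClSub.idealMod IZ) (w : a ≫ b = 0)
    (hex : (ShortComplex.mk a b w).ShortExact) :
    ¬ FlatMod.IsFinLocFree F ↔
      ∃ (I' : X.IdealSheafData) (F' : X.Modules) (a' : M ⟶ F') (b' : F' ⟶ ClSub.idealMod I') (w' : a' ≫ b' = 0)
        (φ : ClSub.idealMod IZ ⟶ ClSub.idealMod I') (g : F ⟶ F'),
        IZ < I' ∧ (ShortComplex.mk a' b' w').ShortExact ∧ φ ≫ ClSub.idealModι I' = ClSub.idealModι IZ ∧
          a ≫ g = a' ∧ g ≫ b' = b ≫ φ := by
  let pX : X ⟶ Spec (CommRingCat.of k) := X ↘ (Spec (CommRingCat.of k))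
  haveI : IsLocallyNoetherian X := LocallyOfFiniteType.isLocallyNoetherian pX
  haveI : LocallyOfFinitePresentation pX := inferInstance
  haveI : JacobsonSpace X := LocallyOfFiniteType.jacobsonSpace pX
  have hsm : ∀ x : X, x ∈ pX.smoothLocus := fun x => by
    rw [Scheme.Hom.smoothLocus_eq_top]; trivial
  have hreg : ∀ x : X, IsRegularLocalRing (X.presheaf.stalk x) := fun x =>
    Groth.VarietyBC.isRegularLocalRing_of_mem_smoothLocus (k := k) (hsm x)
  haveI : ∀ x : X, _root_.IsReduced (X.presheaf.stalk x) := fun x =>
    haveI := hreg x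
    haveI := Groth.Ega4Algebra1.isDomain_of_isRegularLocalRing (X.presheaf.stalk x)
    inferInstance
  haveI : IsReduced X := isReduced_of_isReduced_stalk X
  haveI : IsIntegral X := isIntegral_of_irreducibleSpace_of_isReduced X
  have hdimle : ∀ x : X, ringKrullDim (X.presheaf.stalk x) ≤ 2 := fun x => by
    rw [← hdim, ← Groth.Variety2.Dim.ringKrullDim_stalk_add_height pX x]
    exact le_add_of_nonneg_right (WithBot.coe_le_coe.mpr zero_le)
  let S : Set X := (IZ.support : Set X)
  have hclosed : ∀ x ∈ S, IsClosed ({x} : Set X) := fun x hx => by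
    haveI : Finite S := hZ.to_subtype
    haveI : JacobsonSpace S :=
      JacobsonSpace.of_isClosedEmbedding IZ.support.isClosed.isClosedEmbedding_subtypeVal
    haveI : DiscreteTopology S := inferInstance
    have := IZ.support.isClosed.isClosedEmbedding_subtypeVal.isClosedMap _
      (isClosed_discrete ({⟨x, hx⟩} : Set S))
    simpa using this
  have hdim2 : ∀ x ∈ S, ringKrullDim (X.presheaf.stalk x) = 2 := fun x hx => by
    have h0 : Order.height x = 0 := Order.height_eq_zero.2 fun y hy => by
      have : y = x := (Scheme.le_iff_specializes.1 hy).mem_closed (hclosed x hx) rfl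
      rw [this]
    rw [← hdim, ← Groth.Variety2.Dim.ringKrullDim_stalk_add_height pX x, h0, WithBot.coe_zero,
      add_zero]
  have hMlf : FlatMod.IsFinLocFree M :=
    Groth.LocFree.isFinLocFree_of_rank (Groth.LocFree.isInvertible_iff_ofRank_one.mp hM)
  have hMc : Coh.IsCoh M := Groth.KTheory.LocFree.isCoh hMlf
  have hMfree : ∀ x : X, Module.Free (X.presheaf.stalk x) (M.presheaf.stalk x) :=
    fun x => Groth.KTheory.LocFree.free_stalk hMlf x
  have hext : ∀ {J : X.IdealSheafData} {E : X.Modules} {a₁ : M ⟶ E} {b₁ : E ⟶ ClSub.idealMod J}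
      {w₁ : a₁ ≫ b₁ = 0}, (ShortComplex.mk a₁ b₁ w₁).ShortExact → Coh.IsCoh E := by
    intro J E a₁ b₁ w₁ hS
    haveI := hMc.1
    haveI : E.IsQuasicoherent :=
      Groth.Misc6.isQCoh_of_extension hS
    exact Groth.QCohMod.isCoh_of_shortExact hS hMc (Groth.RefRank.isCoh_idealMod J)
  have hFc : Coh.IsCoh F := hext hex
  haveI := hFc.1
  have hFfree : ∀ x : X, x ∉ S → Module.Free (X.presheaf.stalk x) (F.presheaf.stalk x) := by
    intro x hx
    haveI := hMfree x
    haveI := Groth.RefRank.finite_stalkModule hMc x
    obtain ⟨ha, hexx, hb⟩ := sm_exact hex x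
    let e : (ClSub.idealMod IZ).presheaf.stalk x ≃ₗ[X.presheaf.stalk x] X.presheaf.stalk x :=
      (LinearEquiv.ofBijective _ (bijective_idealModι IZ hx)).trans (Groth.RefRank.oneEquiv x).symm
    haveI : Module.Free (X.presheaf.stalk x) ((ClSub.idealMod IZ).presheaf.stalk x) :=
      Module.Free.of_equiv e.symm
    obtain ⟨l, hl⟩ := Module.projective_lifting_property (RefHull.stalkMapₗ b x) LinearMap.id hb
    obtain ⟨eF, -, -⟩ := hexx.splitSurjectiveEquiv ha ⟨l, hl⟩
    exact Module.Free.of_equiv eF.symm
  have hnomt : ∀ x ∈ S, ∃ t ∈ IsLocalRing.maximalIdeal (X.presheaf.stalk x), t ≠ 0 := by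
    intro x hx
    haveI := hreg x
    haveI := Groth.Ega4Algebra1.isDomain_of_isRegularLocalRing (X.presheaf.stalk x)
    by_contra h
    push Not at h
    have hbot : IsLocalRing.maximalIdeal (X.presheaf.stalk x) = ⊥ := eq_bot_iff.mpr fun t ht => h t ht
    have := ringKrullDim_eq_zero_of_isField (IsLocalRing.isField_iff_maximalIdeal_eq.mpr hbot)
    rw [hdim2 x hx] at this
    norm_num at this
  constructor
  · intro hnot
    let F' := RefHull.ddual F
    let β : F ⟶ F' := RefHull.bidualMap F
    have hF'c : Coh.IsCoh F' := Groth.RefRank.isCoh_ddual hFc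
    haveI : F'.IsQuasicoherent := hF'c.1
    have hOr : RefHull.IsReflexive (Coh.structureModule X) :=
      (Groth.RefRank.isReflexive_iff_forall Groth.QCohMod.isCoh_unit).mpr fun x => by
        haveI : Module.Free (X.presheaf.stalk x) ((Coh.structureModule X).presheaf.stalk x) :=
          Module.Free.of_equiv (Groth.RefRank.oneEquiv x)
        haveI := Groth.RefRank.finite_stalkModule (Groth.QCohMod.isCoh_unit (X := X)) x
        exact inferInstanceAs (Module.IsReflexive _ _)
    have hF'r : RefHull.IsReflexive F' :=
      Groth.RefRank.isReflexive_homSh (Groth.RefRank.isCoh_dual hFc) Groth.QCohMod.isCoh_unit hOr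
    have hF'free : ∀ x : X, Module.Free (X.presheaf.stalk x) (F'.presheaf.stalk x) := fun x => by
      haveI := hreg x
      haveI := Groth.RefRank.finite_stalkModule hF'c x
      haveI : Module.IsReflexive (X.presheaf.stalk x) (F'.presheaf.stalk x) :=
        (Groth.RefRank.isReflexive_iff_forall hF'c).mp hF'r x
      exact Groth.VectorBundles.free_of_isReflexive_of_dim_le_two (hdimle x) _
    have hF'lf : FlatMod.IsFinLocFree F' :=
      Groth.KTheory.LocFree.isFinLocFree_of_free_stalks hF'c hF'free
    have hβbij : ∀ x : X, x ∉ S → Function.Bijective (RefHull.stalkMapₗ β x) := fun x hx => by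
      haveI := hFfree x hx
      haveI := Groth.RefRank.finite_stalkModule hFc x
      exact (Groth.RefRank.bijective_bidual_iff hFc x).mpr
        (inferInstance : Module.IsReflexive (X.presheaf.stalk x) (F.presheaf.stalk x))
    let U : X.Opens := ⟨Sᶜ, IZ.support.isClosed.isOpen_compl⟩
    let adj := Scheme.Modules.restrictAdjunction U.ι
    haveI : IsIso (adj.unit.app (Coh.structureModule X)) :=
      Groth.RefRank.isIso_unit_of_depth Groth.QCohMod.isCoh_unit fun x hx => by
        haveI := hreg x
        haveI := Groth.RefRank.finite_stalkModule (Groth.QCohMod.isCoh_unit (X := X)) x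
        haveI : Module.Free (X.presheaf.stalk x) ((Coh.structureModule X).presheaf.stalk x) :=
          Module.Free.of_equiv (Groth.RefRank.oneEquiv x)
        exact two_le_depth_free (hdim2 x (not_not.mp hx)) _
    let R := Scheme.Modules.restrictFunctor U.ι
    haveI : IsIso (R.map β) := by
      refine Groth.QCohMod.isIso_of_stalk _ fun x => ?_
      have h := (ConcreteCategory.isIso_iff_bijective _).mpr
        ((Groth.RefRank.stalkMapₗ_bijective_iff β (U.ι x)).mp (hβbij (U.ι x) x.2))
      exact (NatIso.isIso_map_iff (Scheme.Modules.restrictStalkNatIso U.ι x) β).mpr h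
    let ψ : F ⟶ Coh.structureModule X := b ≫ ClSub.idealModι IZ
    let b'' : F' ⟶ Coh.structureModule X :=
      adj.unit.app F' ≫ (Scheme.Modules.pushforward U.ι).map (inv (R.map β) ≫ R.map ψ) ≫
        inv (adj.unit.app (Coh.structureModule X))
    have hβb : β ≫ b'' = ψ := by
      simp only [b'']
      rw [← adj.unit_naturality_assoc β, ← Functor.map_comp_assoc, IsIso.hom_inv_id_assoc,
        adj.unit_naturality_assoc, IsIso.hom_inv_id, Category.comp_id]
    let I' := imageIdeal b''
    have hmem : ∀ (V : X.affineOpens) (g : Γ(F', V.1)), funApp b'' V.1 g ∈ I'.ideal V := fun V g => by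
      rw [imageIdeal_ideal]; exact LinearMap.mem_range_self _ g
    let b' : F' ⟶ ClSub.idealMod I' := liftIdeal b'' I' hmem
    have hb'ι : b' ≫ ClSub.idealModι I' = b'' := liftIdeal_ι _ _ _
    haveI : Epi b' := Groth.QCohMod.epi_of_affine_surjective b' fun V hV n => by
      have hn : OmegaSh.idealSect I' V n ∈ I'.ideal ⟨V, hV⟩ :=
        Groth.OmegaSheaf.idealSect_mem I' ⟨V, hV⟩ n
      rw [imageIdeal_ideal] at hn
      obtain ⟨g, hg⟩ := hn
      refine ⟨g, Groth.OmegaSheaf.idealSect_injective I' V ?_⟩
      rw [← funApp_idealModι, ← funApp_comp, hb'ι]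
      exact hg
    haveI : Epi b := hex.epi_g
    haveI : Mono a := hex.mono_f
    have hle : IZ ≤ I' := Scheme.IdealSheafData.le_def.mpr fun V s hs => by
      obtain ⟨n, rfl⟩ := Groth.OmegaSheaf.exists_idealSect IZ V hs
      obtain ⟨t, rfl⟩ := Groth.QCohMod.app_surjective_of_epi b V.2 n
      rw [← funApp_idealModι, ← funApp_comp, show b ≫ ClSub.idealModι IZ = β ≫ b'' from hβb.symm,
        funApp_comp, imageIdeal_ideal]
      exact LinearMap.mem_range_self _ _
    let φ : ClSub.idealMod IZ ⟶ ClSub.idealMod I' := liftIdeal (ClSub.idealModι IZ) I'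
      fun V n => Scheme.IdealSheafData.le_def.mp hle V (Groth.OmegaSheaf.idealSect_mem IZ V n)
    have hφι : φ ≫ ClSub.idealModι I' = ClSub.idealModι IZ := liftIdeal_ι _ _ _
    have hgb : β ≫ b' = b ≫ φ := by
      rw [← cancel_mono (ClSub.idealModι I'), Category.assoc, Category.assoc, hb'ι, hφι, hβb]
    have w' : (a ≫ β) ≫ b' = 0 := by
      rw [Category.assoc, hgb, ← Category.assoc, w, zero_comp]
    let l : M ⟶ kernel b' := kernel.lift b' (a ≫ β) w'
    haveI : IsIso l := by
      refine Groth.RefRank.isIso_of_depth l hMc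
        (inferInstance : (kernel b').IsQuasicoherent) fun x => ?_
      haveI := hMfree x
      haveI := hF'free x
      by_cases hx : x ∈ S
      · refine Or.inr ⟨?_, fun n hn => ?_⟩
        · haveI := hreg x
          haveI := Groth.RefRank.finite_stalkModule hMc x
          exact two_le_depth_free (hdim2 x hx) _
        · obtain ⟨t, ht, ht0⟩ := hnomt x hx
          have h0 : t • RefHull.stalkMapₗ (kernel.ι b') x n = 0 := by
            rw [← map_smul, hn t ht, map_zero]
          exact sm_injective (kernel.ι b') x
            (((smul_eq_zero.mp h0).resolve_left ht0).trans (map_zero _).symm)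
      · obtain ⟨ha, hexx, -⟩ := sm_exact hex x
        have hl : ∀ m, RefHull.stalkMapₗ (kernel.ι b') x (RefHull.stalkMapₗ l x m) =
            RefHull.stalkMapₗ β x (RefHull.stalkMapₗ a x m) := fun m => by
          rw [← sm_comp, ← sm_comp, kernel.lift_ι]
        refine Or.inl ⟨fun m m' h => ha ((hβbij x hx).1 ?_), fun v => ?_⟩
        · rw [← hl, ← hl, h]
        · obtain ⟨q, hq⟩ := (hβbij x hx).2 (RefHull.stalkMapₗ (kernel.ι b') x v)
          have h0 : RefHull.stalkMapₗ b x q = 0 := by
            refine (bijective_idealModι IZ hx).1 ?_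
            rw [map_zero, ← sm_comp, show b ≫ ClSub.idealModι IZ = β ≫ b'' from hβb.symm, sm_comp, hq,
              ← hb'ι, sm_comp, ← sm_comp (kernel.ι b') b', kernel.condition]
            have hz : RefHull.stalkMapₗ (0 : kernel b' ⟶ ClSub.idealMod I') x v = 0 :=
              congr($((Groth.QCohMod.stalk x).map_zero (kernel b') (ClSub.idealMod I')) v)
            rw [hz, map_zero]
          obtain ⟨m, rfl⟩ := (hexx q).mp h0
          exact ⟨m, sm_injective (kernel.ι b') x ((hl m).trans hq)⟩
    have hker : IsLimit (KernelFork.ofι (a ≫ β) w') :=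
      IsLimit.ofIsoLimit (kernelIsKernel b')
        (Fork.ext (asIso l).symm (by simp [l]))
    haveI : Mono (a ≫ β) := Fork.IsLimit.mono hker
    have hS' : (ShortComplex.mk (a ≫ β) b' w').ShortExact :=
      { exact := ShortComplex.exact_of_f_is_kernel _ hker }
    refine ⟨I', F', a ≫ β, b', w', φ, β, lt_of_le_of_ne hle ?_, hS', hφι, rfl, hgb⟩
    intro heq
    apply hnot
    haveI : IsIso φ := by
      have key : ∀ (J : X.IdealSheafData) (e : IZ = J) (φ₀ : ClSub.idealMod IZ ⟶ ClSub.idealMod J),
          φ₀ ≫ ClSub.idealModι J = ClSub.idealModι IZ → IsIso φ₀ := by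
        rintro J rfl φ₀ h
        have : φ₀ = 𝟙 _ := by rw [← cancel_mono (ClSub.idealModι IZ), h, Category.id_comp]
        rw [this]; infer_instance
      exact key I' heq φ hφι
    have : IsIso β := (Groth.RefRank.isIso_iff_bijective_stalk β).mpr fun x =>
      bijective_middle hex hS' φ β rfl hgb x ((Groth.RefRank.isIso_iff_bijective_stalk φ).mp inferInstance x)
    exact Groth.KTheory.LocFree.isFinLocFree_of_iso (asIso β).symm hF'lf
  · rintro ⟨I', F', a', b', w', φ, g, hlt, hS', hφι, hag, hgb⟩ hF
    have hF'c : Coh.IsCoh F' := hext hS'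
    haveI : IsIso g := by
      refine Groth.RefRank.isIso_of_depth g hFc hF'c.1 fun x => ?_
      by_cases hx : x ∈ S
      · refine Or.inr ⟨?_, fun n hn => ?_⟩
        · haveI := hreg x
          haveI := Groth.RefRank.finite_stalkModule hFc x
          haveI := Groth.KTheory.LocFree.free_stalk hF x
          exact two_le_depth_free (hdim2 x hx) _
        · obtain ⟨t, ht, ht0⟩ := hnomt x hx
          haveI := hMfree x
          exact eq_zero_of_smul hS' x ht0 (hn t ht)
      · refine Or.inl (bijective_middle hex hS' φ g hag hgb x ?_)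
        have hx' : x ∉ I'.support := fun h => hx (Scheme.IdealSheafData.support_antitone hlt.le h)
        have h := bijective_idealModι IZ hx
        rw [← hφι, show ⇑(RefHull.stalkMapₗ (φ ≫ ClSub.idealModι I') x) =
          RefHull.stalkMapₗ (ClSub.idealModι I') x ∘ RefHull.stalkMapₗ φ x from
            funext fun v => sm_comp _ _ x v] at h
        exact (Function.Bijective.of_comp_iff' (bijective_idealModι I' hx') _).mp h
    haveI : Epi (b ≫ φ) := hgb ▸ (haveI := hS'.epi_g; inferInstance)
    haveI : Epi φ := epi_of_epi b φ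
    haveI : Mono φ := mono_of_mono_fac hφι
    haveI : IsIso φ := isIso_of_mono_of_epi φ
    exact absurd (le_of_hom (inv φ) (by rw [IsIso.inv_comp_eq, hφι])) hlt.not_ge

end Groth.Agent.S17351
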