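import Groth.Statements.S17354
import Groth.Agent.Misc12.AzI.Global

set_option autoImplicit false
universe u v w
open scoped TensorProduct
open AzInv

namespace Groth.Agent.S17354

/-- Let `R` be a quadratic etale `S`-algebra with an involution `lam` whose fixed ring is exactly `S`
(the unramified case), and assume that units have square roots locally for the etale topology of `S`
(every unit of an etale `S`-algebra becomes a square in some etale faithfully flat extension). Then
every `lam`-involution `t` of an Azumaya `R`-algebra `A` of degree `n ≥ 1` has the same type as the
involution `lam` of `R` itself: for some positive sizes `m`, `m'` the matrix algebras of size `m`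
over `A` and of size `m'` over `R`, with the involutions induced by `t` and by `lam`, become
isomorphic as `R`-algebras with involution after an etale faithfully flat base change of `S`; in
other words there is a single type. (The source states this for an exact quotient of a locally
ringed topos with involution; the row is the affine case `Spec R → Spec S`, with etale coverings of
`Spec S` replaced by a single etale faithfully flat `S`-algebra.) -/
theorem result (S : Type u) (R : Type v) [CommRing S] [CommRing R] [Algebra S R]
    (lam : R ≃ₐ[S] R) (hlam : ∀ r, lam (lam r) = r) (hfix : RInv.IsFixedRing S R lam.toRingEquiv)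
    (hq : RInv.IsQuadEtale S R)
    (hsq : ∀ (S₁ : Type u) [CommRing S₁] [Algebra S S₁] [Algebra.Etale S S₁] (x : S₁ˣ),
      ∃ (S₂ : Type u) (_ : CommRing S₂) (_ : Algebra S₁ S₂) (_ : Algebra.Etale S₁ S₂)
        (_ : Module.FaithfullyFlat S₁ S₂) (y : S₂), y * y = algebraMap S₁ S₂ ↑x)
    (A : Type w) [Ring A] [Algebra S A] [Algebra R A] [IsScalarTower S R A]
    (n : ℕ) (hn : 0 < n) (hA : AzInv.IsAzumayaDeg R A n) (t : AzInv.LamInv R A lam) :
    AzInv.SameType S lam t (AzInv.LamInv.self lam hlam) := by
  exact Groth.Misc12.AzI.sameType_self_of_quadEtale hlam hfix hq hn hA t

end Groth.Agent.S17354
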