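import Groth.Statements.S1736
import Groth.Agent.LocCohBase.TopDegreeApps
import Groth.Agent.LocCohBase.CdLocal

set_option autoImplicit false
universe u
open LocCoh

namespace Groth.Agent.S1736

/-- Let A be a Noetherian ring of finite dimension d and I ⊆ I' ideals with I' contained in the Jacobson
radical of A. If cd(A, I') < d, i.e. H^i_{I'}(M) = 0 for all A-modules M and all i ≥ d, then also
cd(A, I) < d: H^i_I(M) = 0 for all A-modules M and all i ≥ d. -/
theorem result (A : Type u) [CommRing A] [IsNoetherianRing A] (d : ℕ) (hd : ringKrullDim A = d) (I I' : Ideal A) (hII' : I ≤ I') (hJ : I' ≤ (⊥ : Ideal A).jacobson) (h : ∀ (M : Type u) [AddCommGroup M] [Module A M] (i : ℕ), d ≤ i → Subsingleton (LocCoh.H I' i M)) (M : Type u) [AddCommGroup M] [Module A M] (i : ℕ) (hi : d ≤ i) : Subsingleton (LocCoh.H I i M) := by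
  rcases lt_or_eq_of_le hi with hlt | rfl
  · exact Groth.LocCohBase.cdLE_of_dim_le I d hd.le M i hlt
  have hvan : Groth.LocCohBase.LocVan I I' d (ModuleCat.of A M) := by
    intro p _ hp'
    obtain ⟨m, hm, hpm⟩ := Ideal.exists_le_maximal p.asIdeal p.isPrime.ne_top
    have hI'm : I' ≤ m := hJ.trans (sInf_le ⟨bot_le, hm⟩)
    have hlt : p.asIdeal < m := lt_of_le_of_ne hpm fun e => hp' (e ▸ hI'm)
    haveI := hm.isPrime
    have h1 := Ideal.height_add_one_le_of_lt_of_isPrime hlt
    have h2 : m.height ≤ (d : ℕ∞) := by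
      have h3 := Ideal.height_le_ringKrullDim_of_isPrime (I := m)
      rw [hd] at h3
      exact WithBot.coe_le_coe.1 h3
    obtain ⟨k, hk⟩ : ∃ k, d = k + 1 := ⟨d - 1, by
      have h3 : (1 : ℕ∞) ≤ d := le_trans (le_add_self) (h1.trans h2)
      have : 1 ≤ d := by exact_mod_cast h3
      omega⟩
    refine Groth.LocCohBase.cdLE_of_dim_le _ k ?_ _ d (by omega)
    rw [IsLocalization.AtPrime.ringKrullDim_eq_height p.asIdeal]
    refine WithBot.coe_le_coe.2 ((ENat.add_le_add_iff_right (k := 1) (by simp)).1 ?_)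
    have h4 := h1.trans h2
    rw [hk] at h4
    exact_mod_cast h4
  haveI := h M d le_rfl
  exact (Groth.LocCohBase.hmap_surjective_injective hII' d (ModuleCat.of A M) hvan).1.subsingleton

end Groth.Agent.S1736
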