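import Groth.Statements.S17363
import Mathlib

set_option autoImplicit false
universe u v
open scoped TensorProduct
open RInv

namespace Groth.Agent.S17363

lemma isUnit_one_add_of_mem_jacobson {A : Type*} [CommRing A] {x : A} (hx : x ∈ Ring.jacobson A) :
    IsUnit (1 + x) := by
  have := Ideal.mem_jacobson_bot.mp (Ideal.jacobson_bot (R := A) ▸ hx) 1
  rwa [mul_one, add_comm] at this

lemma exists_congr_std {R : Type*} [CommRing R] (σ : R →+* R) (a b d sb X ib isb iF iX h2 : R)
    (hb : b * ib = 1) (hsb : sb * isb = 1) (hσib : σ ib = isb) (hσa : σ a = -a) (hσd : σ d = -d)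
    (hσF : σ iF = iF) (hσiX : σ iX = iX) (hσh2 : σ h2 = h2)
    (hσisb : σ isb = ib)
    (hF : (1 + X) * iF = 1) (hX : X * iX = 1) (h2' : 2 * h2 = 1)
    (hrel : X ^ 2 = 1 + a * (d * ib * isb)) :
    ∃ v : Matrix (Fin 2) (Fin 2) R, IsUnit v ∧
      (v.map σ).transpose * Matrix.of ![![a, b], ![-sb, d]] * v =
        Matrix.of ![![(0 : R), 1], ![-1, 0]] := by
  set D := d * ib * isb with hD
  have hd : d = D * b * sb := by
    rw [hD]; linear_combination (-d) * (sb * isb * hb) + (-d) * hsb
  have hσD : σ D = -D := by rw [hD, map_mul, map_mul, hσd, hσib, hσisb]; ring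
  let M := D * iX * iX * h2
  let r := -a * iF
  have hσM : σ M = -M := by simp only [M, map_mul, hσD, hσiX, hσh2]; ring
  have hσr : σ r = -r := by simp only [r, map_mul, map_neg, hσa, hσF]; ring
  have q0 : a + 2 * r - D * r ^ 2 = 0 := by
    have : (1 + X) * (1 + X) * (a + 2 * r - D * r ^ 2) = 0 := by
      simp only [r]
      linear_combination a * hrel - (2 * a * (1 + X) + D * a ^ 2 * ((1 + X) * iF + 1)) * hF
    linear_combination (iF * iF) * this - (a + 2 * r - D * r ^ 2) * ((1 + X) * iF + 1) * hF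
  have q1 : 1 - r * D = X := by
    simp only [r]
    linear_combination (-iF) * hrel + (X - 1) * hF
  have q2 : D * iX - 2 * M * X = 0 := by
    simp only [M]
    linear_combination (-(2 * h2) * D * iX) * hX - D * iX * h2'
  let Q : Matrix (Fin 2) (Fin 2) R := Matrix.of ![![1, 0], ![0, ib]]
  let v₀ : Matrix (Fin 2) (Fin 2) R := Matrix.of ![![1, M], ![r, iX + M * r]]
  have hQ : (Q.map σ).transpose * Matrix.of ![![a, b], ![-sb, d]] * Q =
      Matrix.of ![![a, 1], ![-1, D]] := by
    ext i j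
    fin_cases i <;> fin_cases j <;> simp [Q, Matrix.mul_apply, Fin.sum_univ_two, hσib]
    · exact hb
    · linear_combination hsb
    · rw [hD]; ring
  refine ⟨Q * v₀, ?_, ?_⟩
  · rw [Matrix.isUnit_iff_isUnit_det, Matrix.det_mul]
    refine IsUnit.of_mul_eq_one (X * b) ?_
    simp [Q, v₀, Matrix.det_fin_two]
    linear_combination (X * iX) * hb + hX
  · rw [Matrix.map_mul, Matrix.transpose_mul,
      show (v₀.map σ).transpose * (Q.map σ).transpose * Matrix.of ![![a, b], ![-sb, d]] * (Q * v₀) =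
        (v₀.map σ).transpose * ((Q.map σ).transpose * Matrix.of ![![a, b], ![-sb, d]] * Q) * v₀ by
        simp only [Matrix.mul_assoc], hQ]
    ext i j
    fin_cases i <;> fin_cases j <;>
      simp [v₀, Matrix.mul_apply, Fin.sum_univ_two, hσM, hσr, hσiX]
    · linear_combination q0
    · linear_combination M * q0 + iX * q1 + hX
    · linear_combination (-M) * q0 - iX * q1 - hX
    · linear_combination (-M * M) * q0 + iX * q2 - 2 * iX * M * q1

lemma exists_v {B : Type u} {A : Type v} [CommRing B] [CommRing A] [Algebra B A] (lam : A ≃ₐ[B] A)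
    (hlam : ∀ a, lam (lam a) = a) (h : Matrix (Fin 2) (Fin 2) A) (ib : A) (hib : h 0 1 * ib = 1)
    (e00 : lam (h 0 0) = -h 0 0) (e11 : lam (h 1 1) = -h 1 1)
    (hheq : h = Matrix.of ![![h 0 0, h 0 1], ![-lam (h 0 1), h 1 1]]) (s₀ t₀ h2B : B)
    (hs₀ : algebraMap B A s₀ = 1 + h 0 0 * (h 1 1 * ib * lam ib)) (hst : s₀ * t₀ = 1)
    (hh2B : 2 * h2B = 1) {L : Type u} [CommRing L] [Algebra B L] (Y iF : L)
    (hY : Y ^ 2 = algebraMap B L s₀) (hiF : (1 + Y) * iF = 1) :
    ∃ v : Matrix (Fin 2) (Fin 2) (L ⊗[B] A), IsUnit v ∧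
      (v.map (Algebra.TensorProduct.congr (AlgEquiv.refl : L ≃ₐ[L] L) lam)).transpose *
        h.map (Algebra.TensorProduct.includeRight : A →ₐ[B] L ⊗[B] A) * v
        = (Matrix.of ![![(0 : A), 1], ![-1, 0]]).map
            (Algebra.TensorProduct.includeRight : A →ₐ[B] L ⊗[B] A) := by
  have hXi : Y * (Y * algebraMap B L t₀) = 1 := by
    rw [← mul_assoc, ← sq, hY, ← map_mul, hst, map_one]
  let ι : A →ₐ[B] L ⊗[B] A := Algebra.TensorProduct.includeRight
  let κ : L →ₐ[B] L ⊗[B] A := Algebra.TensorProduct.includeLeft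
  let σ := Algebra.TensorProduct.congr (AlgEquiv.refl : L ≃ₐ[L] L) lam
  have σι : ∀ x, σ (ι x) = ι (lam x) := fun x => by simp [σ, ι]
  have σκ : ∀ x, σ (κ x) = κ x := fun x => by simp [σ, κ]
  have key := exists_congr_std (σ : L ⊗[B] A →+* L ⊗[B] A) (ι (h 0 0)) (ι (h 0 1)) (ι (h 1 1))
    (ι (lam (h 0 1))) (κ Y) (ι ib) (ι (lam ib)) (κ iF) (κ (Y * algebraMap B L t₀))
    (κ (algebraMap B L h2B))
    (by rw [← map_mul, hib, map_one]) (by rw [← map_mul, ← map_mul, hib, map_one, map_one])
    (σι ib) (by rw [RingHom.coe_coe, σι, e00, map_neg]) (by rw [RingHom.coe_coe, σι, e11, map_neg])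
    (σκ _) (σκ _) (σκ _) (by rw [RingHom.coe_coe, σι, hlam])
    (by rw [← map_one κ, ← map_add, ← map_mul, hiF, map_one])
    (by rw [← map_mul, hXi, map_one])
    (by rw [← map_ofNat κ 2, ← map_mul, ← map_ofNat (algebraMap B L) 2, ← map_mul, hh2B, map_one, map_one])
    (by
      rw [← map_pow, hY, AlgHom.commutes, ← ι.commutes, hs₀]
      simp only [map_add, map_one, map_mul])
  obtain ⟨v, hv, hveq⟩ := key
  refine ⟨v, hv, ?_⟩
  have hm : h.map ι = Matrix.of ![![ι (h 0 0), ι (h 0 1)], ![-ι (lam (h 0 1)), ι (h 1 1)]] := by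
    conv_lhs => rw [hheq]
    ext p q; fin_cases p <;> fin_cases q <;> simp
  have hs : (Matrix.of ![![(0 : A), 1], ![-1, 0]]).map ι =
      Matrix.of ![![(0 : L ⊗[B] A), 1], ![-1, 0]] := by
    ext p q; fin_cases p <;> fin_cases q <;> simp
  show (v.map σ).transpose * h.map ι * v = (Matrix.of ![![(0 : A), 1], ![-1, 0]]).map ι
  rw [hm, hs]
  exact hveq

/-- Let `A` be a commutative ring with an involution `lam` whose fixed ring `B` is local; assume that
`lam` is the identity modulo the Jacobson radical of `A`, that `2` is a unit of `A`, and that `h` is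
an invertible `2 × 2` matrix over `A` with `h = -(lam h)ᵀ` whose entries are congruent modulo the
Jacobson radical to those of the matrix with rows `(0, 1)`, `(-1, 0)`. Then there are units `s, t`
of `B`, finitely many elements `f_i` of `B' = B[X, Y]/(X² - s, Y² - t)` (`B` with square roots of
`s` and `t` adjoined) that generate the unit ideal, and for every `i` an invertible `2 × 2` matrix
`v` over `B'_{f_i} ⊗_B A` (that is, `A` with the two square roots adjoined, localised at `f_i`;
`lam` extends so as to fix the square roots) such that `(lam v)ᵀ h v` is the matrix with rows `(0,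
1)`, `(-1, 0)`. (The published statement writes the congruence with the plain transpose `vᵀ h v`,
which fails in general: for a field `k` of characteristic not `2`, the ring `A` of formal power
series in `y` over `k`, with `B` its subring of series in `y²`, `lam y = -y` and `h` with rows `(y,
1)`, `(-1, y)`, satisfies every hypothesis, while `vᵀ h v` equal to the matrix with rows `(0, 1)`,
`(-1, 0)` would, added to its transpose, give `2y · vᵀ v = 0` and hence `det v = 0` over a nonzero
ring in which `y` is not a zero divisor. The proof computes the Gram matrix of the hermitian form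
`(a, b) ↦ (lam a)ᵀ h b` in a new basis, which is `(lam v)ᵀ h v`, and that is what is stated here.) -/
theorem result (B : Type u) (A : Type v) [CommRing B] [CommRing A]
    [Algebra B A] (lam : A ≃ₐ[B] A) (hlam : ∀ a, lam (lam a) = a) (hB : RInv.IsFixedRing B A lam.toRingEquiv)
    [IsLocalRing B] (hid : ∀ a : A, lam a - a ∈ Ring.jacobson A) (h2 : IsUnit (2 : A))
    (h : Matrix (Fin 2) (Fin 2) A) (hh : IsUnit h) (herm : -(h.map lam).transpose = h)
    (hJ : ∀ i j : Fin 2, h i j - Matrix.of ![![(0 : A), 1], ![-1, 0]] i j ∈ Ring.jacobson A) :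
    ∃ (s t : Bˣ) (r : ℕ) (f : Fin r → (MvPolynomial (Fin 2) B ⧸ Ideal.span ({MvPolynomial.X 0 ^ 2 - MvPolynomial.C (s : B), MvPolynomial.X 1 ^ 2 - MvPolynomial.C (t : B)} : Set (MvPolynomial (Fin 2) B)))),
      Ideal.span (Set.range f) = ⊤ ∧
      ∀ i : Fin r, ∃ v : Matrix (Fin 2) (Fin 2) (Localization.Away (f i) ⊗[B] A), IsUnit v ∧
        (v.map (Algebra.TensorProduct.congr (AlgEquiv.refl : Localization.Away (f i) ≃ₐ[Localization.Away (f i)] Localization.Away (f i)) lam)).transpose * h.map (Algebra.TensorProduct.includeRight : A →ₐ[B] Localization.Away (f i) ⊗[B] A) * v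
          = (Matrix.of ![![(0 : A), 1], ![-1, 0]]).map (Algebra.TensorProduct.includeRight : A →ₐ[B] Localization.Away (f i) ⊗[B] A) := by
  obtain ⟨hinj, hfix⟩ := hB
  have hfix' : ∀ r : A, lam r = r ↔ r ∈ Set.range (algebraMap B A) := hfix
  set a := h 0 0
  set b := h 0 1
  set d := h 1 1
  have e00 : lam a = -a := by
    have := congrFun (congrFun herm 0) 0; simp at this; linear_combination -this
  have e11 : lam d = -d := by
    have := congrFun (congrFun herm 1) 1; simp at this; linear_combination -this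
  have e10 : h 1 0 = -lam b := by
    have := congrFun (congrFun herm 1) 0; simp at this; exact this.symm
  have hheq : h = Matrix.of ![![a, b], ![-lam b, d]] := by
    ext i j; fin_cases i <;> fin_cases j <;> simp [a, b, d, e10]
  have hbu : IsUnit b := by
    have := hJ 0 1
    simp at this
    have h1 := isUnit_one_add_of_mem_jacobson this
    rwa [add_sub_cancel] at h1
  obtain ⟨bu, hbu'⟩ := hbu
  set ib : A := (↑bu⁻¹ : A)
  have hib : b * ib = 1 := by rw [← hbu']; exact bu.mul_inv
  set z := a * (d * ib * lam ib)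
  have hz : lam (1 + z) = 1 + z := by
    simp only [z, map_add, map_one, map_mul, e00, e11, hlam]; ring
  obtain ⟨s₀, hs₀⟩ := (hfix' _).mp hz
  have hzu : IsUnit (1 + z) := by
    have hz' : z ∈ Ring.jacobson A := by
      refine Ideal.mul_mem_right _ _ ?_
      simpa [a] using hJ 0 0
    exact isUnit_one_add_of_mem_jacobson hz'
  obtain ⟨zu, hzu'⟩ := hzu
  have hzinv : lam (↑zu⁻¹ : A) = ↑zu⁻¹ := by
    refine (zu.isUnit.mul_left_inj).mp ?_
    nth_rw 1 [hzu']
    rw [← hz, ← map_mul, ← hzu', zu.inv_mul, map_one]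
  obtain ⟨t₀, ht₀⟩ := (hfix' _).mp hzinv
  have hst : s₀ * t₀ = 1 := hinj (by rw [map_mul, hs₀, ht₀, map_one, ← hzu', zu.mul_inv])
  let su : Bˣ := ⟨s₀, t₀, hst, by rw [mul_comm, hst]⟩
  obtain ⟨h2B, hh2B⟩ : ∃ c : B, 2 * c = 1 := by
    obtain ⟨u2, hu2⟩ := h2
    have : lam (↑u2⁻¹ : A) = ↑u2⁻¹ := by
      refine (u2.isUnit.mul_left_inj).mp ?_
      nth_rw 1 [hu2]
      rw [← map_ofNat lam 2, ← map_mul, ← hu2, u2.inv_mul, map_one]
    obtain ⟨c, hc⟩ := (hfix' _).mp this
    exact ⟨c, hinj (by rw [map_mul, map_ofNat, hc, ← hu2, u2.mul_inv, map_one])⟩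
  set B' := MvPolynomial (Fin 2) B ⧸ Ideal.span ({MvPolynomial.X 0 ^ 2 - MvPolynomial.C (su : B),
    MvPolynomial.X 1 ^ 2 - MvPolynomial.C ((1 : Bˣ) : B)} : Set (MvPolynomial (Fin 2) B))
  let X0 : B' := Ideal.Quotient.mk _ (MvPolynomial.X 0)
  have hX0 : X0 ^ 2 = algebraMap B B' s₀ := by
    show Ideal.Quotient.mk _ _ ^ 2 = Ideal.Quotient.mk _ (MvPolynomial.C s₀)
    rw [← map_pow]
    exact Ideal.Quotient.eq.mpr (Ideal.subset_span (Set.mem_insert _ _))
  refine ⟨su, 1, 2, ![1 + X0, 1 - X0], ?_, fun i => ?_⟩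
  · rw [Ideal.eq_top_iff_one]
    have h₀ : (1 + X0) ∈ Ideal.span (Set.range ![1 + X0, 1 - X0]) := Ideal.subset_span ⟨0, rfl⟩
    have h₁ : (1 - X0) ∈ Ideal.span (Set.range ![1 + X0, 1 - X0]) := Ideal.subset_span ⟨1, rfl⟩
    convert Ideal.mul_mem_left _ (algebraMap B B' h2B) (add_mem h₀ h₁) using 1
    have := congrArg (algebraMap B B') hh2B
    simp only [map_mul, map_ofNat, map_one] at this
    linear_combination -this
  have hY : ∃ Y : B', Y ^ 2 = algebraMap B B' s₀ ∧ ![1 + X0, 1 - X0] i = 1 + Y := by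
    fin_cases i
    · exact ⟨X0, hX0, rfl⟩
    · exact ⟨-X0, by rw [← hX0]; ring, sub_eq_add_neg _ _⟩
  obtain ⟨Y, hY, hf⟩ := hY
  obtain ⟨iF, hiF⟩ := isUnit_iff_exists_inv.mp
    (IsLocalization.Away.algebraMap_isUnit (S := Localization.Away (![1 + X0, 1 - X0] i))
      (![1 + X0, 1 - X0] i))
  refine exists_v lam hlam h ib hib e00 e11 hheq s₀ t₀ h2B hs₀ hst hh2B
    (algebraMap B' (Localization.Away (![1 + X0, 1 - X0] i)) Y) iF ?_ ?_
  · rw [← map_pow, hY, ← IsScalarTower.algebraMap_apply]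
  · have h1 := congrArg (algebraMap B' (Localization.Away (![1 + X0, 1 - X0] i))) hf
    rw [map_add, map_one] at h1
    rw [← h1]
    exact hiF

end Groth.Agent.S17363
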