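import Groth.Statements.S17364
import Mathlib
-- import your own Groth.Agent.* helpers here

set_option autoImplicit false
universe u v
open scoped TensorProduct
open RInv

namespace Groth.Agent.S17364

section Helpers

open scoped TensorProduct

variable {B : Type u} [CommRing B] (S : Submonoid B)

/-- Surjective and injective up to multiplication by `S`. -/
private structure Up {X Y : Type*} [CommRing X] [CommRing Y] [Algebra B X] [Algebra B Y]
    (g : X →ₐ[B] Y) : Prop where
  surj : ∀ y, ∃ t ∈ S, ∃ x, g x = t • y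
  ker : ∀ x, g x = 0 → ∃ t ∈ S, t • x = 0

variable {S}
variable {X Y : Type*} [CommRing X] [CommRing Y] [Algebra B X] [Algebra B Y] {g : X →ₐ[B] Y}

private theorem Up.fin_surj (h : Up S g) {ι : Type*} [Fintype ι] (y : ι → Y) :
    ∃ t ∈ S, ∃ x : ι → X, ∀ j, g (x j) = t • y j := by
  classical
  choose t ht x hx using fun j => h.surj (y j)
  refine ⟨∏ j, t j, prod_mem fun j _ => ht j, fun j => (∏ i ∈ Finset.univ.erase j, t i) • x j,
    fun j => ?_⟩
  rw [map_smul, hx, smul_smul, mul_comm, Finset.mul_prod_erase _ _ (Finset.mem_univ j)]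

private theorem Up.fin_ker (h : Up S g) {ι : Type*} [Fintype ι] (x : ι → X) (hx : ∀ j, g (x j) = 0) :
    ∃ t ∈ S, ∀ j, t • x j = 0 := by
  classical
  choose t ht htx using fun j => h.ker (x j) (hx j)
  refine ⟨∏ j, t j, prod_mem fun j _ => ht j, fun j => ?_⟩
  rw [← Finset.prod_erase_mul _ _ (Finset.mem_univ j), mul_smul, htx, smul_zero]

private theorem Up.mvPolynomial (h : Up S g) (σ : Type*) :
    Up S (MvPolynomial.mapAlgHom (σ := σ) g) where
  surj y := by
    induction y using MvPolynomial.induction_on' with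
    | monomial d a =>
      obtain ⟨t, ht, x, hx⟩ := h.surj a
      refine ⟨t, ht, MvPolynomial.monomial d x, ?_⟩
      rw [MvPolynomial.mapAlgHom_apply, MvPolynomial.map_monomial]
      rw [MvPolynomial.smul_monomial]
      exact congrArg _ hx
    | add p q hp hq =>
      obtain ⟨t, ht, x, hx⟩ := hp
      obtain ⟨t', ht', x', hx'⟩ := hq
      exact ⟨t * t', mul_mem ht ht', t' • x + t • x', by
        rw [map_add, map_smul, map_smul, hx, hx', smul_smul, smul_smul, mul_comm t' t, smul_add]⟩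
  ker x hx := by
    have h0 : ∀ d : x.support, g (x.coeff d.1) = 0 := fun d => by
      have := congrArg (MvPolynomial.coeff d.1) hx
      simpa [MvPolynomial.coeff_map] using this
    obtain ⟨t, ht, hd⟩ := h.fin_ker _ h0
    refine ⟨t, ht, MvPolynomial.ext _ _ fun d => ?_⟩
    rw [MvPolynomial.coeff_smul, MvPolynomial.coeff_zero]
    by_cases hds : d ∈ x.support
    · exact hd ⟨d, hds⟩
    · rw [MvPolynomial.notMem_support_iff.1 hds, smul_zero]

private theorem Up.quotient (h : Up S g) {l : ℕ} (r : Fin l → X) (I : Ideal X) (J : Ideal Y)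
    (hI : I = Ideal.span (Set.range r)) (hJ : J = Ideal.span (Set.range fun k => g (r k)))
    (hle : I ≤ J.comap g) : Up S (Ideal.quotientMapₐ J g hle) where
  surj y := by
    obtain ⟨y, rfl⟩ := Ideal.Quotient.mk_surjective y
    obtain ⟨t, ht, x, hx⟩ := h.surj y
    exact ⟨t, ht, Ideal.Quotient.mk I x, (congrArg (Ideal.Quotient.mk J) hx).trans rfl⟩
  ker x hx := by
    obtain ⟨x, rfl⟩ := Ideal.Quotient.mk_surjective x
    have hx' : g x ∈ J := Ideal.Quotient.eq_zero_iff_mem.1 hx
    rw [hJ, Ideal.mem_span_range_iff_exists_fun] at hx'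
    obtain ⟨c, hc⟩ := hx'
    obtain ⟨t, ht, c', hc'⟩ := h.fin_surj c
    obtain ⟨u, hu, hu0⟩ := h.ker (t • x - ∑ k, c' k * r k) (by
      simp [hc', ← Finset.smul_sum, hc])
    refine ⟨u * t, mul_mem hu ht, Ideal.Quotient.eq_zero_iff_mem.2 ?_⟩
    rw [smul_sub, sub_eq_zero, smul_smul] at hu0
    show (u * t) • x ∈ I
    rw [hu0, Algebra.smul_def, hI]
    exact Ideal.mul_mem_left _ _ (Ideal.sum_mem _ fun k _ =>
      Ideal.mul_mem_left _ _ (Ideal.subset_span ⟨k, rfl⟩))

private theorem Up.away (h : Up S g) {X' Y' : Type*} [CommRing X'] [CommRing Y']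
    [Algebra B X'] [Algebra B Y'] [Algebra X X'] [Algebra Y Y'] [IsScalarTower B X X']
    [IsScalarTower B Y Y'] (x₀ : X) (y₀ : Y) [IsLocalization.Away x₀ X'] [IsLocalization.Away y₀ Y']
    (t₀ : B) (ht₀S : t₀ ∈ S) (ht₀ : g x₀ = t₀ • y₀) (g' : X' →ₐ[B] Y')
    (hg' : ∀ x, g' (algebraMap X X' x) = algebraMap Y Y' (g x)) : Up S g' where
  surj y := by
    obtain ⟨m, a, hma⟩ := IsLocalization.Away.surj y₀ y
    obtain ⟨t, ht, x, hx⟩ := h.surj a
    have hu := IsLocalization.Away.algebraMap_isUnit (S := X') x₀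
    obtain ⟨v, hv⟩ := (hu.pow m).exists_left_inv
    refine ⟨t, ht, v * algebraMap X X' (t₀ ^ m • x), ?_⟩
    have h1 := congrArg g' hv
    rw [map_mul, map_pow, hg', ht₀, map_one] at h1
    rw [map_mul, hg', map_smul, hx]
    simp only [Algebra.smul_def, map_mul, map_pow, ← IsScalarTower.algebraMap_apply, mul_pow, ← hma]
      at h1 ⊢
    linear_combination (algebraMap B Y' t * y) * h1
  ker x hx := by
    obtain ⟨m, a, hma⟩ := IsLocalization.Away.surj x₀ x
    have h1 := congrArg g' hma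
    rw [map_mul, hx, zero_mul, hg'] at h1
    obtain ⟨⟨_, N, rfl⟩, hN⟩ := (IsLocalization.map_eq_zero_iff (Submonoid.powers y₀) Y' (g a)).1 h1.symm
    obtain ⟨t, ht, hta⟩ := h.ker (x₀ ^ N * a) (by
      rw [map_mul, map_pow, ht₀, smul_pow, smul_mul_assoc, show y₀ ^ N * g a = 0 from hN, smul_zero])
    refine ⟨t, ht, ?_⟩
    have hu := IsLocalization.Away.algebraMap_isUnit (S := X') x₀
    refine ((hu.pow N).mul (hu.pow m)).mul_left_cancel ?_
    have h2 := congrArg (algebraMap X X') hta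
    simp only [Algebra.smul_def, map_mul, map_pow, map_zero, ← IsScalarTower.algebraMap_apply, ← hma]
      at h2 ⊢
    linear_combination h2

private theorem Up.tensor (h : Up S g) (hY : ∀ t ∈ S, IsUnit (algebraMap B Y t)) (A : Type v)
    [CommRing A] [Algebra B A] : Up S (Algebra.TensorProduct.map g (AlgHom.id B A)) := by
  haveI : IsLocalizedModule S g.toLinearMap :=
    { map_units := fun t => by
        rw [Module.End.isUnit_iff]
        obtain ⟨w, hw⟩ := (hY t t.2).exists_left_inv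
        refine ⟨fun a b hab => ?_, fun a => ⟨w * a, ?_⟩⟩
        · simp only [Module.algebraMap_end_apply, Algebra.smul_def] at hab
          exact (hY t t.2).mul_left_cancel hab
        · simp only [Module.algebraMap_end_apply, Algebra.smul_def]
          linear_combination a * hw
      surj := fun y => by
        obtain ⟨t, ht, x, hx⟩ := h.surj y
        exact ⟨(x, ⟨t, ht⟩), hx.symm⟩
      exists_of_eq := fun {x₁ x₂} he => by
        obtain ⟨t, ht, h0⟩ := h.ker (x₁ - x₂) (by rw [map_sub]; exact sub_eq_zero.2 he)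
        rw [smul_sub, sub_eq_zero] at h0
        exact ⟨⟨t, ht⟩, h0⟩ }
  have he : (Algebra.TensorProduct.map g (AlgHom.id B A)).toLinearMap =
      TensorProduct.AlgebraTensorModule.rTensor B A g.toLinearMap :=
    TensorProduct.ext' fun _ _ => rfl
  have he' : ∀ z, Algebra.TensorProduct.map g (AlgHom.id B A) z =
      TensorProduct.AlgebraTensorModule.rTensor B A g.toLinearMap z := LinearMap.congr_fun he
  refine ⟨fun y => ?_, fun x hx => ?_⟩
  · obtain ⟨⟨x, t⟩, hx⟩ := IsLocalizedModule.surj S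
      (TensorProduct.AlgebraTensorModule.rTensor B A g.toLinearMap) y
    exact ⟨t, t.2, x, (he' x).trans hx.symm⟩
  · rw [he'] at hx
    obtain ⟨t, ht⟩ := IsLocalizedModule.exists_of_eq (S := S)
      (f := TensorProduct.AlgebraTensorModule.rTensor B A g.toLinearMap) (x₁ := x) (x₂ := 0)
      (hx.trans (map_zero _).symm)
    exact ⟨t, t.2, by rw [← Submonoid.smul_def, ht, smul_zero]⟩

private noncomputable abbrev Qr {R : Type u} [CommRing R] {l : ℕ} (s : Fin l → Rˣ) :=
  MvPolynomial (Fin l) R ⧸ Ideal.span (Set.range fun k : Fin l =>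
    MvPolynomial.X k ^ 2 - MvPolynomial.C (s k : R))

private theorem qmap_le {R R' : Type u} [CommRing R] [CommRing R'] [Algebra B R] [Algebra B R']
    {l : ℕ} (s : Fin l → Rˣ) (s' : Fin l → R'ˣ) (φ : R →ₐ[B] R') (hs : ∀ k, φ (s k) = s' k) :
    Ideal.span (Set.range fun k : Fin l => MvPolynomial.X k ^ 2 - MvPolynomial.C (s k : R)) ≤
      (Ideal.span (Set.range fun k : Fin l => MvPolynomial.X k ^ 2 - MvPolynomial.C (s' k : R'))).comap
        (MvPolynomial.mapAlgHom φ) := by
  rw [Ideal.span_le]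
  rintro _ ⟨k, rfl⟩
  exact Ideal.subset_span ⟨k, by simp [hs]⟩

private noncomputable def qmap {R R' : Type u} [CommRing R] [CommRing R'] [Algebra B R] [Algebra B R']
    {l : ℕ} (s : Fin l → Rˣ) (s' : Fin l → R'ˣ) (φ : R →ₐ[B] R') (hs : ∀ k, φ (s k) = s' k) :
    Qr s →ₐ[B] Qr s' :=
  Ideal.quotientMapₐ _ (MvPolynomial.mapAlgHom φ) (qmap_le s s' φ hs)

private theorem Up.qmap {R R' : Type u} [CommRing R] [CommRing R'] [Algebra B R] [Algebra B R']
    {l : ℕ} (s : Fin l → Rˣ) (s' : Fin l → R'ˣ) (φ : R →ₐ[B] R') (hs : ∀ k, φ (s k) = s' k)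
    (h : Up S φ) : Up S (qmap s s' φ hs) :=
  (h.mvPolynomial (Fin l)).quotient _ _ _ rfl (by simp [hs]) _

private theorem congr_descent {A : Type v} [CommRing A] [Algebra B A] {lam : A ≃ₐ[B] A} (n : ℕ)
    (h h' : Matrix (Fin n) (Fin n) A) {C₀ Cp : Type u} [CommRing C₀] [CommRing Cp] [Algebra B C₀]
    [Algebra B Cp] (g₀ : C₀ →ₐ[B] Cp) (hg₀ : Up S g₀) (hCp : ∀ t ∈ S, IsUnit (algebraMap B Cp t))
    (v : Matrix (Fin n) (Fin n) (Cp ⊗[B] A)) (hvu : IsUnit v)
    (hveq : (v.map (Algebra.TensorProduct.congr (AlgEquiv.refl : Cp ≃ₐ[B] Cp) lam)).transpose *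
      h.map (Algebra.TensorProduct.includeRight : A →ₐ[B] Cp ⊗[B] A) * v =
      h'.map (Algebra.TensorProduct.includeRight : A →ₐ[B] Cp ⊗[B] A)) :
    ∃ t ∈ S, ∀ (C : Type u) [CommRing C] [Algebra B C] (ψ : C₀ →ₐ[B] C), IsUnit (algebraMap B C t) →
      ∃ v : Matrix (Fin n) (Fin n) (C ⊗[B] A), IsUnit v ∧
        (v.map (Algebra.TensorProduct.congr (AlgEquiv.refl : C ≃ₐ[B] C) lam)).transpose *
          h.map (Algebra.TensorProduct.includeRight : A →ₐ[B] C ⊗[B] A) * v =
          h'.map (Algebra.TensorProduct.includeRight : A →ₐ[B] C ⊗[B] A) := by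
  classical
  let G : C₀ ⊗[B] A →ₐ[B] Cp ⊗[B] A := Algebra.TensorProduct.map g₀ (AlgHom.id B A)
  have hG : Up S G := hg₀.tensor hCp A
  obtain ⟨w, hvw⟩ := hvu.exists_right_inv
  obtain ⟨t, ht, z, hz⟩ := hG.fin_surj (Sum.elim (fun ij : Fin n × Fin n => v ij.1 ij.2)
    (fun ij : Fin n × Fin n => w ij.1 ij.2))
  let v₀ : Matrix (Fin n) (Fin n) (C₀ ⊗[B] A) := fun x y => z (.inl (x, y))
  let w₀ : Matrix (Fin n) (Fin n) (C₀ ⊗[B] A) := fun x y => z (.inr (x, y))
  have hv₀ : v₀.map G = t • v := Matrix.ext fun x y => hz (.inl (x, y))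
  have hw₀ : w₀.map G = t • w := Matrix.ext fun x y => hz (.inr (x, y))
  let L₀ := Algebra.TensorProduct.congr (AlgEquiv.refl : C₀ ≃ₐ[B] C₀) lam
  let Lp := Algebra.TensorProduct.congr (AlgEquiv.refl : Cp ≃ₐ[B] Cp) lam
  have hGL : ∀ x, G (L₀ x) = Lp (G x) := fun x =>
    AlgHom.congr_fun (show G.comp L₀.toAlgHom = Lp.toAlgHom.comp G from
      Algebra.TensorProduct.ext' fun _ _ => rfl) x
  let ι₀ := (Algebra.TensorProduct.includeRight : A →ₐ[B] C₀ ⊗[B] A)
  let ιp := (Algebra.TensorProduct.includeRight : A →ₐ[B] Cp ⊗[B] A)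
  have hι : ∀ M : Matrix (Fin n) (Fin n) A, (M.map ι₀).map G = M.map ιp := fun M =>
    Matrix.ext fun _ _ => by simp [ι₀, ιp, G, Matrix.map_apply]
  have hveq' : (v.map Lp).transpose * h.map ιp * v = h'.map ιp := hveq
  let D : Bool → Matrix (Fin n) (Fin n) (C₀ ⊗[B] A) := fun o => bif o then
    v₀ * w₀ - (t * t) • 1 else (v₀.map L₀).transpose * h.map ι₀ * v₀ - (t * t) • h'.map ι₀
  have hD : ∀ o, (D o).map G = 0 := by
    rintro (_ | _)
    · show G.toRingHom.mapMatrix
        ((v₀.map L₀).transpose * h.map ι₀ * v₀ - (t * t) • h'.map ι₀) = 0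
      rw [map_sub, map_mul, map_mul]
      have e1 : G.toRingHom.mapMatrix (v₀.map L₀).transpose = t • (v.map Lp).transpose :=
        Matrix.ext fun x y => by
          show G (L₀ (v₀ y x)) = t • Lp (v y x)
          rw [hGL, ← map_smul]
          exact congrArg Lp (hz (.inl (y, x)))
      have e2 : G.toRingHom.mapMatrix ((t * t) • h'.map ι₀) = (t * t) • h'.map ιp :=
        Matrix.ext fun x y => by
          show G ((t * t) • ι₀ (h' x y)) = _
          rw [map_smul]
          simp [ι₀, ιp, G]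
      rw [e1, e2, show G.toRingHom.mapMatrix (h.map ι₀) = h.map ιp from hι h,
        show G.toRingHom.mapMatrix v₀ = t • v from hv₀, Matrix.smul_mul, Matrix.mul_smul,
        Matrix.smul_mul, smul_smul, hveq', sub_self]
    · show G.toRingHom.mapMatrix (v₀ * w₀ - (t * t) • 1) = 0
      have e2 : G.toRingHom.mapMatrix ((t * t) • (1 : Matrix (Fin n) (Fin n) (C₀ ⊗[B] A))) =
          (t * t) • 1 := Matrix.ext fun x y => by
        show G ((t * t) • (1 : Matrix (Fin n) (Fin n) (C₀ ⊗[B] A)) x y) = _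
        rw [map_smul, Matrix.one_apply, apply_ite G, map_one, map_zero]
        rfl
      rw [map_sub, map_mul, e2, show G.toRingHom.mapMatrix v₀ = t • v from hv₀,
        show G.toRingHom.mapMatrix w₀ = t • w from hw₀, Matrix.smul_mul, Matrix.mul_smul,
        smul_smul, hvw, sub_self]
  obtain ⟨w', hw', hD0⟩ := hG.fin_ker (fun o : Bool × Fin n × Fin n => D o.1 o.2.1 o.2.2)
    fun o => congrFun (congrFun (hD o.1) o.2.1) o.2.2
  refine ⟨t * w', mul_mem ht hw', fun C _ _ ψ htC => ?_⟩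
  have htu : IsUnit (algebraMap B C t) := isUnit_of_mul_isUnit_left (map_mul (algebraMap B C) t w' ▸ htC)
  have hwu : IsUnit (algebraMap B C w') := isUnit_of_mul_isUnit_right (map_mul (algebraMap B C) t w' ▸ htC)
  obtain ⟨c, hc⟩ := htu.exists_right_inv
  let Ψ : C₀ ⊗[B] A →ₐ[B] C ⊗[B] A := Algebra.TensorProduct.map ψ (AlgHom.id B A)
  let LC := Algebra.TensorProduct.congr (AlgEquiv.refl : C ≃ₐ[B] C) lam
  let ιC := (Algebra.TensorProduct.includeRight : A →ₐ[B] C ⊗[B] A)
  have hΨ0 : ∀ o, Ψ.toRingHom.mapMatrix (D o) = 0 := fun o => Matrix.ext fun x y => by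
    have h1 := congrArg Ψ (hD0 (o, x, y))
    rw [map_smul, map_zero, Algebra.smul_def] at h1
    exact (IsUnit.mul_right_eq_zero (by
      simpa using hwu.map (Algebra.TensorProduct.includeLeft : C →ₐ[B] C ⊗[B] A))).1 h1
  let V := Ψ.toRingHom.mapMatrix v₀
  let W := Ψ.toRingHom.mapMatrix w₀
  let T : C ⊗[B] A := algebraMap B (C ⊗[B] A) t
  let cc : C ⊗[B] A := c ⊗ₜ 1
  have hTc : T * cc = 1 := by
    rw [show T = algebraMap B C t ⊗ₜ (1 : A) from rfl, Algebra.TensorProduct.tmul_mul_tmul, hc,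
      one_mul]
    rfl
  have hVW : V * W = (T * T) • 1 := by
    have := hΨ0 true
    simp only [D, cond_true, map_sub, map_mul, sub_eq_zero] at this
    rw [this]
    refine Matrix.ext fun x y => ?_
    show Ψ ((t * t) • (1 : Matrix (Fin n) (Fin n) (C₀ ⊗[B] A)) x y) = _
    rw [map_smul, Matrix.one_apply, apply_ite Ψ, map_one, map_zero, Matrix.smul_apply,
      Matrix.one_apply, Algebra.smul_def, map_mul]
    rfl
  have hVeq : (V.map LC).transpose * h.map ιC * V = (T * T) • h'.map ιC := by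
    have := hΨ0 false
    simp only [D, cond_false, map_sub, map_mul, sub_eq_zero] at this
    have e1 : Ψ.toRingHom.mapMatrix (v₀.map L₀).transpose = (V.map LC).transpose :=
      Matrix.ext fun x y => AlgHom.congr_fun (show Ψ.comp L₀.toAlgHom = LC.toAlgHom.comp Ψ from
        Algebra.TensorProduct.ext' fun _ _ => rfl) (v₀ y x)
    have e3 : ∀ M : Matrix (Fin n) (Fin n) A, Ψ.toRingHom.mapMatrix (M.map ι₀) = M.map ιC :=
      fun M => Matrix.ext fun _ _ => by simp [ι₀, ιC, Ψ, Matrix.map_apply]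
    rw [e1, e3] at this
    rw [this]
    refine Matrix.ext fun x y => ?_
    show Ψ ((t * t) • ι₀ (h' x y)) = _
    rw [map_smul, Matrix.smul_apply, Algebra.smul_def, map_mul]
    simp [T, ι₀, ιC, Ψ]
  refine ⟨cc • V, ?_, ?_⟩
  · refine (Matrix.isUnit_iff_isUnit_det _).2 (IsUnit.of_mul_eq_one (cc • W).det ?_)
    rw [← Matrix.det_mul, Matrix.smul_mul, Matrix.mul_smul, hVW, smul_smul, smul_smul,
      show cc * cc * (T * T) = (T * cc) * (T * cc) by ring, hTc, one_mul, one_smul, Matrix.det_one]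
  · have hcc : LC cc = cc := by simp [LC, cc]
    rw [Matrix.map_smul' _ _ _ (map_mul LC), hcc, Matrix.transpose_smul, Matrix.smul_mul,
      Matrix.smul_mul, Matrix.mul_smul, hVeq, smul_smul, smul_smul,
      show cc * cc * (T * T) = (T * cc) * (T * cc) by ring, hTc, one_mul, one_smul]

end Helpers


/-- Let `A` be a commutative ring with an involution `lam` whose fixed ring is `B`, let `ε = ±1`, and
let `h, h'` be invertible `n × n` matrices over `A` with `h = ε (lam h)ᵀ` and `h' = ε (lam h')ᵀ`.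
Let `p` be a prime of `B` and suppose there are units `s_1, …, s_l` of the local ring `B_p`,
elements `f_1, …, f_r` of `B_p[X_1, …, X_l]/(X_k² - s_k)` (square roots of the `s_k` adjoined)
generating the unit ideal, and for each `i` an invertible matrix `v` over `C ⊗_B A` for the
localisation `C` of that ring at `f_i` (any `B`-algebra with the universal property of that
localisation) (`lam` extended so as to fix the square roots and `B_p`) with `(lam v)ᵀ h v = h'`.
Then there is `b ∉ p` in `B` such that the same kind of data exists with `B_p` replaced by `B_b`: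
units of `B_b`, a finite family generating the unit ideal of `B_b[X_1, …, X_l]/(X_k² - s_k)`, and
invertible matrices over the corresponding localisations tensored with `A` congruating `h` to `h'`. -/
theorem result (B : Type u) (A : Type v) [CommRing B] [CommRing A]
    [Algebra B A] (lam : A ≃ₐ[B] A) (hlam : ∀ a, lam (lam a) = a) (hB : RInv.IsFixedRing B A lam.toRingEquiv)
    (n : ℕ) (ε : A) (hε : ε = 1 ∨ ε = -1) (h h' : Matrix (Fin n) (Fin n) A) (hh : IsUnit h) (hh' : IsUnit h')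
    (herm : ε • (h.map lam).transpose = h) (herm' : ε • (h'.map lam).transpose = h')
    (p : Ideal B) [p.IsPrime]
    (hdata : (∃ (l : ℕ) (s : Fin l → (Localization.AtPrime p)ˣ) (r : ℕ) (f : Fin r → (MvPolynomial (Fin l) (Localization.AtPrime p) ⧸ Ideal.span (Set.range fun k : Fin l => MvPolynomial.X k ^ 2 - MvPolynomial.C (s k : Localization.AtPrime p)))),
        Ideal.span (Set.range f) = ⊤ ∧
        ∀ (i : Fin r) (C : Type u) [CommRing C] [Algebra B C]
          [Algebra (MvPolynomial (Fin l) (Localization.AtPrime p) ⧸ Ideal.span (Set.range fun k : Fin l => MvPolynomial.X k ^ 2 - MvPolynomial.C (s k : Localization.AtPrime p))) C]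
          [IsScalarTower B (MvPolynomial (Fin l) (Localization.AtPrime p) ⧸ Ideal.span (Set.range fun k : Fin l => MvPolynomial.X k ^ 2 - MvPolynomial.C (s k : Localization.AtPrime p))) C]
          [IsLocalization.Away (f i) C],
          ∃ v : Matrix (Fin n) (Fin n) (C ⊗[B] A), IsUnit v ∧
            (v.map (Algebra.TensorProduct.congr (AlgEquiv.refl : C ≃ₐ[C] C) lam)).transpose * h.map (Algebra.TensorProduct.includeRight : A →ₐ[B] C ⊗[B] A) * v = h'.map (Algebra.TensorProduct.includeRight : A →ₐ[B] C ⊗[B] A))) :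
    ∃ b : B, b ∉ p ∧
      (∃ (l : ℕ) (s : Fin l → (Localization.Away b)ˣ) (r : ℕ) (f : Fin r → (MvPolynomial (Fin l) (Localization.Away b) ⧸ Ideal.span (Set.range fun k : Fin l => MvPolynomial.X k ^ 2 - MvPolynomial.C (s k : Localization.Away b)))),
        Ideal.span (Set.range f) = ⊤ ∧
        ∀ (i : Fin r) (C : Type u) [CommRing C] [Algebra B C]
          [Algebra (MvPolynomial (Fin l) (Localization.Away b) ⧸ Ideal.span (Set.range fun k : Fin l => MvPolynomial.X k ^ 2 - MvPolynomial.C (s k : Localization.Away b))) C]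
          [IsScalarTower B (MvPolynomial (Fin l) (Localization.Away b) ⧸ Ideal.span (Set.range fun k : Fin l => MvPolynomial.X k ^ 2 - MvPolynomial.C (s k : Localization.Away b))) C]
          [IsLocalization.Away (f i) C],
          ∃ v : Matrix (Fin n) (Fin n) (C ⊗[B] A), IsUnit v ∧
            (v.map (Algebra.TensorProduct.congr (AlgEquiv.refl : C ≃ₐ[C] C) lam)).transpose * h.map (Algebra.TensorProduct.includeRight : A →ₐ[B] C ⊗[B] A) * v = h'.map (Algebra.TensorProduct.includeRight : A →ₐ[B] C ⊗[B] A)) := by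
  classical
  obtain ⟨l, s, r, f, hspan, hv⟩ := hdata
  set Bp := Localization.AtPrime p
  set S := p.primeCompl with hS
  -- b₀ and lifts of the units
  have hsx : ∀ k, ∃ a ∈ S, ∃ d ∈ S, (s k : Bp) * algebraMap B Bp d = algebraMap B Bp a := by
    intro k
    obtain ⟨⟨a, d⟩, had⟩ := IsLocalization.surj S (s k : Bp)
    exact ⟨a, (IsLocalization.AtPrime.isUnit_to_map_iff Bp p a).1
      (had ▸ (s k).isUnit.mul (IsLocalization.map_units Bp d)), d, d.2, had⟩
  choose a haS d hdS had using hsx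
  set b₀ := ∏ k, a k * d k
  have hb₀ : b₀ ∈ S := prod_mem fun k _ => mul_mem (haS k) (hdS k)
  let B₀ := Localization.Away b₀
  have hB₀ : IsUnit (algebraMap B B₀ b₀) := IsLocalization.Away.algebraMap_isUnit b₀
  have haU : ∀ k, IsUnit (algebraMap B B₀ (a k)) := fun k =>
    isUnit_of_dvd_unit (map_dvd _ ((dvd_mul_right _ _).trans
      (Finset.dvd_prod_of_mem (fun k => a k * d k) (Finset.mem_univ k)))) hB₀
  have hdU : ∀ k, IsUnit (algebraMap B B₀ (d k)) := fun k =>
    isUnit_of_dvd_unit (map_dvd _ ((dvd_mul_left _ _).trans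
      (Finset.dvd_prod_of_mem (fun k => a k * d k) (Finset.mem_univ k)))) hB₀
  let s₀ : Fin l → B₀ˣ := fun k => (haU k).unit * (hdU k).unit⁻¹
  let φ₀ : B₀ →ₐ[B] Bp := IsLocalization.liftAlgHom (M := Submonoid.powers b₀)
    (f := Algebra.ofId B Bp) fun y => IsLocalization.map_units Bp
      (⟨y, (Submonoid.powers_le.2 hb₀) y.2⟩ : S)
  have hs₀ : ∀ k, φ₀ (s₀ k) = s k := fun k => by
    have h1 : (s₀ k : B₀) * algebraMap B B₀ (d k) = algebraMap B B₀ (a k) := by
      rw [Units.val_mul, mul_assoc, (hdU k).val_inv_mul, mul_one, IsUnit.unit_spec]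
    have h2 := congrArg φ₀ h1
    rw [map_mul, φ₀.commutes, φ₀.commutes, ← had] at h2
    exact (IsLocalization.map_units Bp (⟨d k, hdS k⟩ : S)).mul_right_cancel h2
  have hφ₀ : Up S φ₀ := by
    refine ⟨fun y => ?_, fun x hx => ?_⟩
    · obtain ⟨⟨c, t⟩, hct⟩ := IsLocalization.surj S y
      exact ⟨t, t.2, algebraMap B B₀ c, by rw [φ₀.commutes, Algebra.smul_def, mul_comm]; exact hct.symm⟩
    · obtain ⟨m, c, hmc⟩ := IsLocalization.Away.surj b₀ x
      have h1 := congrArg φ₀ hmc
      rw [map_mul, hx, zero_mul, φ₀.commutes] at h1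
      obtain ⟨t, ht⟩ := (IsLocalization.map_eq_zero_iff S Bp c).1 h1.symm
      refine ⟨t, t.2, (hB₀.pow m).mul_left_cancel ?_⟩
      rw [Algebra.smul_def, mul_zero, mul_comm, mul_assoc, hmc, ← map_mul, ht, map_zero]
  let π : Qr s₀ →ₐ[B] Qr s := qmap s₀ s φ₀ hs₀
  have hπ : Up S π := hφ₀.qmap s₀ s φ₀ hs₀
  have hunitQ : ∀ t ∈ S, IsUnit (algebraMap B (Qr s) t) := fun t ht => by
    rw [IsScalarTower.algebraMap_apply B Bp (Qr s)]
    exact (IsLocalization.map_units Bp (⟨t, ht⟩ : S)).map _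
  -- lift the `f i` and the unit ideal relation
  obtain ⟨τ, hτ, f₀, hf₀⟩ := hπ.fin_surj f
  obtain ⟨τ', hτ', hspan₀⟩ : ∃ τ' ∈ S, algebraMap B (Qr s₀) τ' ∈ Ideal.span (Set.range f₀) := by
    obtain ⟨c, hc⟩ := Ideal.mem_span_range_iff_exists_fun.1
      (show (1 : Qr s) ∈ Ideal.span (Set.range f) by rw [hspan]; trivial)
    obtain ⟨t, ht, c₀, hc₀⟩ := hπ.fin_surj c
    obtain ⟨w, hw, hw0⟩ := hπ.ker ((∑ i, c₀ i * f₀ i) - (t * τ) • (1 : Qr s₀)) (by
      simp only [map_sub, map_sum, map_mul, hc₀, hf₀, map_smul, map_one, smul_mul_smul_comm,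
        ← Finset.smul_sum, hc, sub_self])
    refine ⟨w * (t * τ), mul_mem hw (mul_mem ht hτ), ?_⟩
    rw [smul_sub, sub_eq_zero, smul_smul] at hw0
    rw [Algebra.algebraMap_eq_smul_one, ← hw0]
    exact Submodule.smul_of_tower_mem _ w (Ideal.sum_mem _ fun i _ =>
      Ideal.mul_mem_left _ _ (Ideal.subset_span ⟨i, rfl⟩))
  -- lift the congruences
  have hstep : ∀ i, ∃ t ∈ S, ∀ (C : Type u) [CommRing C] [Algebra B C]
      (ψ : Localization.Away (f₀ i) →ₐ[B] C), IsUnit (algebraMap B C t) →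
      ∃ v : Matrix (Fin n) (Fin n) (C ⊗[B] A), IsUnit v ∧
        (v.map (Algebra.TensorProduct.congr (AlgEquiv.refl : C ≃ₐ[B] C) lam)).transpose *
          h.map (Algebra.TensorProduct.includeRight : A →ₐ[B] C ⊗[B] A) * v =
          h'.map (Algebra.TensorProduct.includeRight : A →ₐ[B] C ⊗[B] A) := by
    intro i
    obtain ⟨v, hvu, hveq⟩ := hv i (Localization.Away (f i))
    let C₀ := Localization.Away (f₀ i)
    let Cp := Localization.Away (f i)
    have hCp : ∀ t ∈ S, IsUnit (algebraMap B Cp t) := fun t ht => by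
      rw [IsScalarTower.algebraMap_apply B (Qr s) Cp]
      exact (hunitQ t ht).map _
    let g₀ : C₀ →ₐ[B] Cp := IsLocalization.liftAlgHom (M := Submonoid.powers (f₀ i))
      (f := (IsScalarTower.toAlgHom B (Qr s) Cp).comp π) (by
        rintro ⟨_, N, rfl⟩
        show IsUnit (algebraMap (Qr s) Cp (π (f₀ i ^ N)))
        rw [map_pow, hf₀, map_pow, Algebra.smul_def, map_mul]
        exact (((hunitQ τ hτ).map _).mul (IsLocalization.Away.algebraMap_isUnit (f i))).pow N)
    have hg₀ : Up S g₀ := hπ.away (f₀ i) (f i) τ hτ (hf₀ i) g₀ fun x =>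
      IsLocalization.lift_eq _ x
    exact congr_descent n (lam := lam) h h' g₀ hg₀ hCp v hvu hveq
  choose tt htt hcong using hstep
  set b := b₀ * (τ' * ∏ i, tt i)
  refine ⟨b, (mul_mem hb₀ (mul_mem hτ' (prod_mem fun i _ => htt i)) : b ∈ S), ?_⟩
  let Bb := Localization.Away b
  have hBb : IsUnit (algebraMap B Bb b) := IsLocalization.Away.algebraMap_isUnit b
  let φ₁ : B₀ →ₐ[B] Bb := IsLocalization.liftAlgHom (M := Submonoid.powers b₀)
    (f := Algebra.ofId B Bb) (by
      rintro ⟨_, N, rfl⟩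
      show IsUnit (algebraMap B Bb (b₀ ^ N))
      rw [map_pow]
      exact (isUnit_of_dvd_unit (map_dvd _ (dvd_mul_right b₀ _)) hBb).pow N)
  let sb : Fin l → Bbˣ := fun k => Units.map (φ₁ : B₀ →* Bb) (s₀ k)
  let π₁ : Qr s₀ →ₐ[B] Qr sb := qmap s₀ sb φ₁ fun k => rfl
  have hQb : IsUnit (algebraMap B (Qr sb) b) := by
    rw [IsScalarTower.algebraMap_apply B Bb (Qr sb)]
    exact hBb.map _
  refine ⟨l, sb, r, fun i => π₁ (f₀ i), ?_, fun i C _ _ _ _ _ => ?_⟩
  · refine Ideal.eq_top_of_isUnit_mem _ (?_ : algebraMap B (Qr sb) τ' ∈ _)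
      (isUnit_of_dvd_unit (map_dvd _ ((dvd_mul_right _ _).trans (dvd_mul_left _ b₀))) hQb)
    have := Ideal.mem_map_of_mem π₁ hspan₀
    rw [Ideal.map_span, ← Set.range_comp, π₁.commutes] at this
    exact this
  · have hC : IsUnit (algebraMap B C b) := by
      rw [IsScalarTower.algebraMap_apply B (Qr sb) C]
      exact hQb.map _
    refine hcong i C (IsLocalization.liftAlgHom (M := Submonoid.powers (f₀ i))
      (f := (IsScalarTower.toAlgHom B (Qr sb) C).comp π₁) ?_) ?_
    · rintro ⟨_, N, rfl⟩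
      show IsUnit (algebraMap (Qr sb) C (π₁ (f₀ i ^ N)))
      rw [map_pow, map_pow]
      exact (IsLocalization.Away.algebraMap_isUnit (S := C) (π₁ (f₀ i))).pow N
    · exact isUnit_of_dvd_unit (map_dvd _ ((Finset.dvd_prod_of_mem tt (Finset.mem_univ i)).trans
        ((dvd_mul_left _ τ').trans (dvd_mul_left _ b₀)))) hC

end Groth.Agent.S17364
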