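import Groth.Statements.S17365
import Groth.Agent.SmoothHartogs.Main
import Groth.Agent.PropsBasic.LocFree
import Groth.Agent.KTheory.OpenLocalization
import Groth.Agent.LocFree.Basic
import Groth.Agent.LocFree.Affine

set_option autoImplicit false
set_option linter.style.haveILetI false
universe u
open CategoryTheory CategoryTheory.Limits AlgebraicGeometry TopologicalSpace
open CInt

namespace Groth.Agent.S17365

/-- Let k be an algebraically closed field, X a smooth proper k-scheme admitting an ample invertible
sheaf, and S a locally Noetherian k-scheme. Let E be a finite locally free module on S ×_k X and Z a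
closed subset of S ×_k X whose intersection with every fibre {s} × X has codimension at least 2
there, i.e. at every point of Z the local ring of the fibre of the projection S ×_k X ⟶ S has Krull
dimension at least 2. Then, with j the inclusion of the complement of Z, the natural map E ⟶ j_*
(E|_{S × X ∖ Z}) is an isomorphism. -/
theorem result
    (k : Type u) [Field k] [IsAlgClosed k] (S X : Scheme.{u})
    (b : S ⟶ Spec (CommRingCat.of k)) (a : X ⟶ Spec (CommRingCat.of k))
    [IsLocallyNoetherian S] [Smooth a] [IsProper a]
    (hproj : ∃ H : X.Modules, CohB1.IsAmple H)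
    (E : (pullback b a).Modules) (hE : FlatMod.IsFinLocFree E)
    (Z : Closeds ↥(pullback b a))
    (hZ : ∀ x : ↥(pullback b a), x ∈ Z →
      (2 : WithBot ℕ∞) ≤ ringKrullDim ↑(CInt.fiberStalk (pullback.fst b a) x)) :
    IsIso ((Scheme.Modules.restrictAdjunction (Scheme.Opens.ι (Z.compl : (pullback b a).Opens))).unit.app E) := by
  haveI : Smooth (pullback.fst b a) := MorphismProperty.pullback_fst _ _ inferInstance
  haveI : IsLocallyNoetherian (pullback b a) := LocallyOfFiniteType.isLocallyNoetherian (pullback.fst b a)
  haveI := Groth.PropsBasic.LocFree.isFP_of_isFinLocFree E hE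
  have hEc : Coh.IsCoh E := ⟨inferInstance, inferInstance⟩
  refine RhoShLib.isIso_unit_of_goodRes (Groth.SmoothHartogs.goodRes_of_finLocFree (pullback.fst b a) _ ?_ hEc
    fun x => Groth.KTheory.LocFree.free_stalk hE x)
  exact fun y hy => hZ y (not_not.1 hy)

end Groth.Agent.S17365
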