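import Groth.Statements.S17366
import Groth.Agent.SmoothHartogs.Main
import Groth.Agent.PropsBasic.LocFree
import Groth.Agent.KTheory.OpenLocalization
import Groth.Agent.LocFree.Basic
import Groth.Agent.LocFree.Affine

set_option autoImplicit false
set_option linter.style.haveILetI false
universe u
open CategoryTheory CategoryTheory.Limits AlgebraicGeometry TopologicalSpace
open CInt

namespace Groth.Agent.S17366

/-- Let k be an algebraically closed field, X a smooth proper k-scheme admitting an ample invertible
sheaf, and S a locally Noetherian k-scheme. Let E be a coherent module on S ×_k X, flat over S,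
whose restriction to every fibre {s} × X is torsion-free, let F be a finite locally free module on S
×_k X, and let U be the largest open subset of S ×_k X over which E is finite locally free. Then
every homomorphism E|_U ⟶ F|_U is the restriction of a unique homomorphism E ⟶ F. (The published
statement also asserts the compatibility of this extension with base change along morphisms S' ⟶ S;
that clause is not restated here.) -/
theorem result
    (k : Type u) [Field k] [IsAlgClosed k] (S X : Scheme.{u})
    (b : S ⟶ Spec (CommRingCat.of k)) (a : X ⟶ Spec (CommRingCat.of k))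
    [IsLocallyNoetherian S] [Smooth a] [IsProper a]
    (hproj : ∃ H : X.Modules, CohB1.IsAmple H)
    (E F : (pullback b a).Modules) (hEcoh : Coh.IsCoh E)
    (hEfl : FlatMod.IsFlatOver (pullback.fst b a) E)
    (hEtf : ∀ s : ↥S, TorSh.IsTorsionFree
      ((Scheme.Modules.pullback ((pullback.fst b a).fiberι s)).obj E))
    (hF : FlatMod.IsFinLocFree F)
    (U : (pullback b a).Opens)
    (hU : ∀ x : ↥(pullback b a), x ∈ U ↔
      ∃ (V : (pullback b a).Opens) (n : ℕ), x ∈ V ∧ Nonempty (E.restrict V.ι ≅ FlatMod.freeMod (↑V) n))
    (ψ : E.restrict U.ι ⟶ F.restrict U.ι) :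
    ∃! φ : E ⟶ F, (Scheme.Modules.restrictFunctor U.ι).map φ = ψ := by
  haveI : Smooth (pullback.fst b a) := MorphismProperty.pullback_fst _ _ inferInstance
  haveI : IsLocallyNoetherian (pullback b a) := LocallyOfFiniteType.isLocallyNoetherian (pullback.fst b a)
  haveI := hEcoh.1
  haveI := Groth.PropsBasic.LocFree.isFP_of_isFinLocFree F hF
  have hFc : Coh.IsCoh F := ⟨inferInstance, inferInstance⟩
  have hEfp : CohB1.IsFP E := Groth.KTheory.OpenLoc.isFP_of_isCoh' hEcoh
  have hbig : RhoShLib.IsBig (pullback.fst b a) U := fun y hy => by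
    rcases le_or_gt (ringKrullDim ↑(CInt.fiberStalk (pullback.fst b a) y)) 1 with hd | hd
    · refine absurd ((hU y).2 ?_) hy
      haveI hreg : IsRegularLocalRing (((pullback.fst b a).fiber ((pullback.fst b a) y)).presheaf.stalk
          ((pullback.fst b a).asFiber y)) := Groth.Ega4b.isRegularLocalRing_fiberStalk (pullback.fst b a) y
      have hfr := Groth.SmoothHartogs.free_stalk_of_dim_le_one (pullback.fst b a) E hEfp hEfl
        ((pullback.fst b a) y) ((pullback.fst b a).asFiber y) (hEtf _ _) hd
      rw [Scheme.Hom.fiberι_asFiber] at hfr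
      obtain ⟨W, hW, hyW, -⟩ := exists_isAffineOpen_mem_and_subset (U := ⊤) (x := y) trivial
      haveI := Groth.PropsBasic.FPSections.finitePresentation_sections E hEfp hW
      haveI := hfr
      obtain ⟨g, n, m, hg, -, hm⟩ := Groth.LocFree.exists_basis_of_free_stalk (M := E) hW hyW
      exact ⟨_, n, hg, Groth.LocFree.nonempty_iso_of_basis hm⟩
    · exact Order.succ_le_of_lt hd
  haveI := RhoShLib.isIso_unit_of_goodRes (Groth.SmoothHartogs.goodRes_of_finLocFree (pullback.fst b a) U hbig hFc
    fun x => Groth.KTheory.LocFree.free_stalk hF x)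
  let adj := Scheme.Modules.restrictAdjunction U.ι
  refine ⟨adj.homEquiv _ _ ψ ≫ inv (adj.unit.app F), ?_, fun φ hφ => ?_⟩
  · apply (adj.homEquiv _ _).injective
    rw [adj.homEquiv_unit, adj.homEquiv_unit]
    refine (adj.unit.naturality
      ((adj.unit.app E ≫ (Scheme.Modules.pushforward U.ι).map ψ) ≫ inv (adj.unit.app F))).symm.trans ?_
    rw [Functor.id_map, Category.assoc]
    exact (congrArg _ (IsIso.inv_hom_id (adj.unit.app F))).trans (Category.comp_id _)
  · subst hφ
    rw [IsIso.eq_comp_inv, adj.homEquiv_unit]
    exact adj.unit.naturality φ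

end Groth.Agent.S17366
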