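import Groth.Statements.S1737
import Groth.Agent.LocCohBase.DepthLocal

set_option autoImplicit false
universe u
open LocCoh

namespace Groth.Agent.S1737

/-- Let A be a Noetherian ring, T ⊆ Spec A stable under specialization and M a finite A-module. There
are a finite A-module M' and a surjection M → M' which is bijective after localizing at every prime
outside T and such that M'_p has depth ≥ 1 over A_p for every p in T. (The source states this for
coherent modules on a Noetherian scheme, with uniqueness.) -/
theorem result (A : Type u) [CommRing A] [IsNoetherianRing A] (T : Set (PrimeSpectrum A)) (hT : StableUnderSpecialization T) (M : Type u) [AddCommGroup M] [Module A M] [Module.Finite A M] : ∃ (M' : Type u) (_ : AddCommGroup M') (_ : Module A M') (_ : Module.Finite A M') (f : M →ₗ[A] M'), Function.Surjective f ∧ (∀ p : PrimeSpectrum A, p ∉ T → Function.Bijective (LocalizedModule.map p.asIdeal.primeCompl f)) ∧ ∀ p : PrimeSpectrum A, p ∈ T → 1 ≤ LocCoh.depth (Localization.AtPrime p.asIdeal) (LocalizedModule p.asIdeal.primeCompl M') := by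
  let N : Submodule A M :=
    { carrier := {m | ∀ p : PrimeSpectrum A, p ∉ T → ∃ s ∉ p.asIdeal, s • m = 0}
      zero_mem' := fun p _ => ⟨1, fun h => p.2.ne_top ((Ideal.eq_top_iff_one _).2 h), smul_zero _⟩
      add_mem' := fun {a b} ha hb p hp => by
        obtain ⟨s, hs, hsa⟩ := ha p hp
        obtain ⟨t, ht, htb⟩ := hb p hp
        refine ⟨s * t, fun h => (p.2.mem_or_mem h).elim hs ht, ?_⟩
        rw [smul_add, mul_smul _ _ b, htb, smul_zero, mul_comm, mul_smul, hsa, smul_zero, add_zero]
      smul_mem' := fun c a ha p hp => by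
        obtain ⟨s, hs, hsa⟩ := ha p hp
        exact ⟨s, hs, by rw [smul_comm, hsa, smul_zero]⟩ }
  refine ⟨M ⧸ N, inferInstance, inferInstance, inferInstance, N.mkQ, N.mkQ_surjective,
    fun p hp => ⟨?_, LocalizedModule.map_surjective _ _ N.mkQ_surjective⟩, fun p hp => ?_⟩
  · rw [injective_iff_map_eq_zero]
    intro z hz
    induction z using LocalizedModule.induction_on with
    | h m s =>
      rw [LocalizedModule.map_mk, ← LocalizedModule.zero_mk (1 : p.asIdeal.primeCompl),
        LocalizedModule.mk_eq] at hz
      obtain ⟨⟨u, hu⟩, hz⟩ := hz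
      simp only [Submonoid.smul_def, smul_zero, Submodule.mkQ_apply, OneMemClass.coe_one, one_smul,
        ← Submodule.Quotient.mk_smul, Submodule.Quotient.mk_eq_zero] at hz
      obtain ⟨t, ht, htm⟩ := hz p hp
      rw [← mul_smul] at htm
      rw [← LocalizedModule.zero_mk (1 : p.asIdeal.primeCompl), LocalizedModule.mk_eq]
      refine ⟨⟨t * u, p.asIdeal.primeCompl.mul_mem ht hu⟩, ?_⟩
      simp only [Submonoid.smul_def, smul_zero, OneMemClass.coe_one, one_smul]
      exact htm
  · rw [Groth.LocCohBase.one_le_depth_localized_iff]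
    intro hass
    obtain ⟨-, z, hz⟩ := isAssociatedPrime_iff.1 hass
    obtain ⟨x, rfl⟩ := Submodule.Quotient.mk_surjective _ z
    have hxN : x ∈ N := by
      intro q hq
      have hpq : ¬ p.asIdeal ≤ q.asIdeal := fun h =>
        hq (hT ((PrimeSpectrum.le_iff_specializes p q).1 h) hp)
      obtain ⟨s, hsp, hsq⟩ := SetLike.not_le_iff_exists.1 hpq
      rw [hz, Submodule.mem_colon_singleton, Submodule.mem_bot, ← Submodule.Quotient.mk_smul,
        Submodule.Quotient.mk_eq_zero] at hsp
      obtain ⟨t, ht, htx⟩ := hsp q hq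
      exact ⟨t * s, fun h => (q.2.mem_or_mem h).elim ht hsq, by rw [mul_smul, htx]⟩
    refine p.2.ne_top ?_
    rw [hz, (Submodule.Quotient.mk_eq_zero N).2 hxN]
    simp

end Groth.Agent.S1737
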