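import Groth.Statements.S17371
import Groth.Agent.Misc12.AlgzApprox.Core
import Groth.Agent.Misc12.AlgzApprox.Iso
import Groth.Agent.Misc12.AlgzApprox.GrIso

set_option autoImplicit false
universe u
open CategoryTheory CategoryTheory.Limits
open Algz

namespace Groth.Agent.S17371

/-- Functor form. Let k be an algebraically closed field and F a set-valued functor on commutative
k-algebras which preserves filtered colimits (limit preserving). Let R be a complete local
Noetherian k-algebra with residue field k, ξ an element of F(R) and N a natural number. Then there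
exist a finitely generated k-algebra A, a maximal ideal m of A with residue field k, an element η of
F(A) and a k-algebra isomorphism φ from R/m_R^(N+1) to A/m^(N+1) such that the images of ξ and η in
F(A/m^(N+1)) agree (ξ pushed forward along R → R/m_R^(N+1) followed by φ, η along A → A/m^(N+1)),
and moreover a ring isomorphism between the associated graded rings of R along m_R and of A along m
which carries each graded piece m_R^n/m_R^(n+1) into m^n/m^(n+1) and commutes with the scalars from
k. (The published statement is for limit-preserving prestacks over k-schemes and does not require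
the residue field of R to be k, without which it fails (R = k(t)); this row is stated for set-valued
functors on k-algebras and assumes residue field k.) -/
theorem result (k : Type u) [Field k] [IsAlgClosed k]
    (F : CommAlgCat.{u} k ⥤ Type u)
    (hF : ∀ (J : Type u) [SmallCategory J] [IsFiltered J], PreservesColimitsOfShape J F)
    (R : Type u) [CommRing R] [Algebra k R] [IsLocalRing R] [IsNoetherianRing R]
    [IsAdicComplete (IsLocalRing.maximalIdeal R) R]
    (hres : Function.Surjective (fun c : k => IsLocalRing.residue R (algebraMap k R c)))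
    (ξ : F.obj (CommAlgCat.of k R)) (N : ℕ) :
    ∃ (A : Type u) (_ : CommRing A) (_ : Algebra k A) (_ : Algebra.FiniteType k A)
      (m : Ideal A) (_ : m.IsMaximal)
      (_ : Function.Surjective (fun c : k => Ideal.Quotient.mk m (algebraMap k A c)))
      (η : F.obj (CommAlgCat.of k A))
      (φ : (R ⧸ IsLocalRing.maximalIdeal R ^ (N + 1)) ≃ₐ[k] (A ⧸ m ^ (N + 1))),
      F.map (CommAlgCat.ofHom (φ.toAlgHom.comp
          (Ideal.Quotient.mkₐ k (IsLocalRing.maximalIdeal R ^ (N + 1))))) ξ =
        F.map (CommAlgCat.ofHom (Ideal.Quotient.mkₐ k (m ^ (N + 1)))) η ∧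
      ∃ e : AssocGr.GrRing (FiltBl.IdealFiltration.adic (IsLocalRing.maximalIdeal R)) ≃+*
          AssocGr.GrRing (FiltBl.IdealFiltration.adic m),
        (∀ (n : ℕ) (x : AssocGr.GrRing (FiltBl.IdealFiltration.adic (IsLocalRing.maximalIdeal R))),
            x ∈ AssocGr.gr (FiltBl.IdealFiltration.adic (IsLocalRing.maximalIdeal R)) n →
              e x ∈ AssocGr.gr (FiltBl.IdealFiltration.adic m) n) ∧
        (∀ c : k, e (algebraMap R _ (algebraMap k R c)) = algebraMap A _ (algebraMap k A c)) := by
  open Groth.Agent.Misc12.AlgzApprox in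
  obtain ⟨d, ε, A, iA, kA, fA, m, ι, η, ⟨hεb, hιb⟩, hkR, hkA, hsmall, hgrad, hη⟩ :=
    exists_core F hF R hres ξ N
  subst hιb
  obtain ⟨hmax, hsurj⟩ := Groth.Agent.Misc12.AlgzApprox.isMaximal_map _ hkA (fun h => by
    have h1 := (hsmall 1 (by omega) 1).2 (by rwa [pow_one, map_one])
    rw [pow_one, map_one] at h1
    exact (IsLocalRing.maximalIdeal.isMaximal R).ne_top (Ideal.eq_top_iff_one _ |>.2 h1))
  obtain ⟨φ₀, hφ₀⟩ : ∃ φ : (R ⧸ IsLocalRing.maximalIdeal R ^ (N + 1)) ≃ₐ[k]
      (A ⧸ ((Groth.Agent.Misc12.AlgzApprox.orig k d).map ι.toRingHom) ^ (N + 1)),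
      ∀ a, φ (Ideal.Quotient.mk _ (ε a)) = Ideal.Quotient.mk _ (ι a) := by
    rw [← hεb] at hkR hsmall ⊢
    exact Groth.Agent.Misc12.AlgzApprox.exists_quot_equiv _ ε ι hkR hkA (N + 1) (hsmall _ le_rfl)
  refine ⟨A, iA, kA, fA, _, hmax, hsurj, η, φ₀, hη _ (fun a => hφ₀ a), ?_⟩
  obtain ⟨e, he, hec⟩ := Groth.Agent.Misc12.AlgzApprox.exists_gr_iso
    (Groth.Agent.Misc12.AlgzApprox.orig k d) (IsLocalRing.maximalIdeal R) ε.toRingHom
    ((Groth.Agent.Misc12.AlgzApprox.orig k d).map ι.toRingHom) ι.toRingHom hεb.le le_rfl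
    (by rw [← hεb]; exact Groth.Agent.Misc12.AlgzApprox.graded_surj _ ε (hεb.symm ▸ hkR))
    (Groth.Agent.Misc12.AlgzApprox.graded_surj _ ι hkA) hgrad
  refine ⟨e, he, fun c => ?_⟩
  have h := hec (algebraMap k _ c)
  simp only [AlgHom.toRingHom_eq_coe, RingHom.coe_coe, AlgHom.commutes] at h
  exact h

end Groth.Agent.S17371
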