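import Groth.Statements.S17372
import Groth.Agent.Misc12.AlgzApprox.Versal

set_option autoImplicit false
universe u
open CategoryTheory CategoryTheory.Limits
open Algz

namespace Groth.Agent.S17372

/-- Functor form. Let k be an algebraically closed field and F a set-valued functor on commutative
k-algebras which preserves filtered colimits (limit preserving). Let R be a complete local
Noetherian k-algebra with residue field k and ξ an element of F(R) which is versal: for every
surjection π : B → B₀ of local Artinian k-algebras with residue field k, every k-algebra map g₀ : R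
→ B₀ and every y in F(B) whose image in F(B₀) is the image of ξ under g₀, there is a k-algebra map g
: R → B lifting g₀ along π with image of ξ equal to y. Then there exist a finitely generated
k-algebra A, a maximal ideal m of A with residue field k, an element η of F(A) and a ring
isomorphism α from R to the m-adic completion of A commuting with the scalars from k, such that for
every n, pushing ξ forward along the k-algebra map R → A/m^(n+1) obtained from α and the evaluation
of the completion gives the image of η under A → A/m^(n+1). (The published statement is for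
limit-preserving prestacks over k-schemes; this row is stated for set-valued functors on k-algebras,
with the residue field k that a formal deformation carries by definition made an explicit
hypothesis.) -/
theorem result (k : Type u) [Field k] [IsAlgClosed k]
    (F : CommAlgCat.{u} k ⥤ Type u)
    (hF : ∀ (J : Type u) [SmallCategory J] [IsFiltered J], PreservesColimitsOfShape J F)
    (R : Type u) [CommRing R] [Algebra k R] [IsLocalRing R] [IsNoetherianRing R]
    [IsAdicComplete (IsLocalRing.maximalIdeal R) R]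
    (hres : Function.Surjective (fun c : k => IsLocalRing.residue R (algebraMap k R c)))
    (ξ : F.obj (CommAlgCat.of k R))
    (hvers : ∀ (B B₀ : Type u) [CommRing B] [Algebra k B] [IsLocalRing B] [IsArtinianRing B]
        [CommRing B₀] [Algebra k B₀] [IsLocalRing B₀] [IsArtinianRing B₀],
        Function.Surjective (fun c : k => IsLocalRing.residue B (algebraMap k B c)) →
        ∀ (π : B →ₐ[k] B₀), Function.Surjective π →
          ∀ (g₀ : R →ₐ[k] B₀) (y : F.obj (CommAlgCat.of k B)),
            F.map (CommAlgCat.ofHom π) y = F.map (CommAlgCat.ofHom g₀) ξ →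
              ∃ g : R →ₐ[k] B, π.comp g = g₀ ∧ F.map (CommAlgCat.ofHom g) ξ = y) :
    ∃ (A : Type u) (_ : CommRing A) (_ : Algebra k A) (_ : Algebra.FiniteType k A)
      (m : Ideal A) (_ : m.IsMaximal)
      (_ : Function.Surjective (fun c : k => Ideal.Quotient.mk m (algebraMap k A c)))
      (η : F.obj (CommAlgCat.of k A))
      (α : R ≃+* AdicCompletion m A),
      (∀ c : k, α (algebraMap k R c) = algebraMap A (AdicCompletion m A) (algebraMap k A c)) ∧
      ∀ (n : ℕ) (ψ : R →ₐ[k] A ⧸ m ^ (n + 1)),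
        ψ.toRingHom = (AdicCompletion.evalₐ m (n + 1) :
            AdicCompletion m A →ₐ[A] A ⧸ m ^ (n + 1)).toRingHom.comp α.toRingHom →
          F.map (CommAlgCat.ofHom ψ) ξ = F.map (CommAlgCat.ofHom (Ideal.Quotient.mkₐ k (m ^ (n + 1)))) η := by
  open Groth.Agent.Misc12.AlgzApprox in
  obtain ⟨d, ε, A, iA, kA, fA, m, ι, η, ⟨hεb, hιb⟩, hkR, hkA, hsmall, hgrad, hη⟩ :=
    exists_core F hF R hres ξ 1
  obtain ⟨hmax, hsurj⟩ := Groth.Agent.Misc12.AlgzApprox.isMaximal_map m hkA (fun h => by
    have h1 := (hsmall 1 (by omega) 1).2 (by rwa [pow_one, map_one])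
    rw [pow_one, map_one] at h1
    exact (IsLocalRing.maximalIdeal.isMaximal R).ne_top (Ideal.eq_top_iff_one _ |>.2 h1))
  have : IsNoetherianRing A := Algebra.FiniteType.isNoetherianRing k A
  subst hιb
  generalize hb : Groth.Agent.Misc12.AlgzApprox.orig k d = b at hεb hkA hsmall hgrad hη hmax hsurj
  let m := b.map ι.toRingHom
  obtain ⟨g₂, hg₂, hg₂b⟩ : ∃ g : R →ₐ[k] A ⧸ m ^ 2,
      F.map (CommAlgCat.ofHom g) ξ = F.map (CommAlgCat.ofHom (Ideal.Quotient.mkₐ k (m ^ 2))) η ∧
      ∀ a, g (ε a) = Ideal.Quotient.mk _ (ι a) := by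
    obtain ⟨φ, hφ⟩ := Groth.Agent.Misc12.AlgzApprox.exists_quot_equiv b ε ι (hεb.symm ▸ hkR) hkA 2
      (hεb.symm ▸ hsmall 2 le_rfl)
    refine ⟨φ.toAlgHom.comp (Ideal.Quotient.mkₐ k _), hη _ (fun a => hφ a), fun a => hφ a⟩
  let Fac : ∀ (i j : ℕ), i ≤ j → (A ⧸ m ^ j →ₐ[k] A ⧸ m ^ i) := fun i j h =>
    Ideal.Quotient.factorₐ k (Ideal.pow_le_pow_right h)
  have hFmk : ∀ (i j : ℕ) (h : i ≤ j), CommAlgCat.ofHom (Ideal.Quotient.mkₐ k (m ^ j)) ≫
      CommAlgCat.ofHom (Fac i j h) = CommAlgCat.ofHom (Ideal.Quotient.mkₐ k (m ^ i)) := fun i j h => rfl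
  have hFF : ∀ (i j l : ℕ) (h1 : i ≤ j) (h2 : j ≤ l) (x : A ⧸ m ^ l),
      Fac i j h1 (Fac j l h2 x) = Fac i l (h1.trans h2) x := fun i j l h1 h2 x => by
    obtain ⟨y, rfl⟩ := Ideal.Quotient.mk_surjective x
    rfl
  have hFid : ∀ (i : ℕ) (h : i ≤ i) (x : A ⧸ m ^ i), Fac i i h x = x := fun i h x => by
    obtain ⟨y, rfl⟩ := Ideal.Quotient.mk_surjective x
    rfl
  let P : ℕ → Type u := fun n => {g : R →ₐ[k] A ⧸ m ^ (n + 2) //
    F.map (CommAlgCat.ofHom g) ξ = F.map (CommAlgCat.ofHom (Ideal.Quotient.mkₐ k (m ^ (n + 2)))) η}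
  have step : ∀ n (g : P n), ∃ g' : P (n + 1), (Fac (n + 2) (n + 1 + 2) (by omega)).comp g'.1 = g.1 := by
    intro n g
    obtain ⟨_, _⟩ := Groth.Agent.Misc12.AlgzApprox.quotient_pow_artinian_local m (n + 1)
    obtain ⟨_, _⟩ := Groth.Agent.Misc12.AlgzApprox.quotient_pow_artinian_local m (n + 2)
    obtain ⟨g', hg', hy⟩ := hvers (A ⧸ m ^ (n + 1 + 2)) (A ⧸ m ^ (n + 2))
      (fun y => by
        obtain ⟨y, rfl⟩ := IsLocalRing.residue_surjective y
        obtain ⟨y, rfl⟩ := Ideal.Quotient.mk_surjective y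
        obtain ⟨c, hc⟩ := hkA y
        refine ⟨c, ?_⟩
        show IsLocalRing.residue _ (algebraMap k _ c) = IsLocalRing.residue _ _
        rw [← sub_eq_zero, ← map_sub, IsLocalRing.residue_eq_zero_iff, IsLocalRing.mem_maximalIdeal,
          mem_nonunits_iff]
        refine IsNilpotent.not_isUnit (⟨n + 1 + 2, ?_⟩ : IsNilpotent _)
        rw [← Ideal.Quotient.mk_algebraMap, ← map_sub, ← map_pow, Ideal.Quotient.eq_zero_iff_mem]
        refine Ideal.pow_mem_pow ?_ _
        rw [← neg_sub, neg_mem_iff]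
        exact hc)
      (Fac (n + 2) (n + 1 + 2) (by omega)) (Ideal.Quotient.factor_surjective (Ideal.pow_le_pow_right (by omega : n + 2 ≤ n + 1 + 2))) g.1
      (F.map (CommAlgCat.ofHom (Ideal.Quotient.mkₐ k (m ^ (n + 1 + 2)))) η) (by
        rw [← types_comp_apply (F.map _) (F.map _), ← F.map_comp, hFmk (n + 2) (n + 1 + 2) (by omega)]
        exact g.2.symm)
    exact ⟨⟨g', hy⟩, hg'⟩
  choose nxt hnxt using step
  let Gs : ∀ n, P n := fun n => Nat.rec (⟨g₂, hg₂⟩ : P 0) (fun n g => nxt n g) n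
  let G : ∀ j, R →ₐ[k] A ⧸ m ^ j := fun j => (Fac j (j + 2) (by omega)).comp (Gs j).1
  have hG0 : ∀ j, (Fac j (j + 1) (by omega)).comp (G (j + 1)) = G j := fun j => by
    show _ = (Fac j (j + 2) (by omega)).comp (Gs j).1
    rw [← hnxt j (Gs j)]
    refine AlgHom.ext fun r => ?_
    exact (hFF j (j + 1) (j + 1 + 2) (by omega) (by omega) ((nxt j (Gs j)).1 r)).trans
      (hFF j (j + 2) (j + 1 + 2) (by omega) (by omega) ((nxt j (Gs j)).1 r)).symm
  have hG : ∀ {i j : ℕ} (h : i ≤ j), (Fac i j h).comp (G j) = G i := by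
    intro i j h
    induction j, h using Nat.le_induction with
    | base => exact AlgHom.ext fun r => hFid i le_rfl _
    | succ j h ih =>
      rw [← ih, ← hG0 j]
      exact AlgHom.ext fun r => (hFF i j (j + 1) h (by omega) (G (j + 1) r)).symm
  have hG2 : ∀ a, G 2 (ε a) = Ideal.Quotient.mk _ (ι a) := fun a => by
    have h1 : (Fac (0 + 2) (1 + 2) (by omega)).comp (Gs 1).1 = (Gs 0).1 := hnxt 0 (Gs 0)
    have h2 : (Fac (1 + 2) (2 + 2) (by omega)).comp (Gs 2).1 = (Gs 1).1 := hnxt 1 (Gs 1)
    have h3 : (Gs 0).1 (ε a) = Ideal.Quotient.mk _ (ι a) := hg₂b a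
    rw [← h3, ← h1, ← h2]
    exact (hFF 2 (1 + 2) (2 + 2) (by omega) (by omega) ((Gs 2).1 (ε a))).symm
  have hGb : ∀ n, ∀ a ∈ b ^ n, G (n + 1) (ε a) = Ideal.Quotient.mk _ (ι a) := by
    intro n a ha
    let M : Ideal (A ⧸ m ^ (n + 1)) := m.map (Ideal.Quotient.mk _)
    let f : MvPolynomial (Fin d) k →ₐ[k] A ⧸ m ^ (n + 1) := (G (n + 1)).comp ε
    let g : MvPolynomial (Fin d) k →ₐ[k] A ⧸ m ^ (n + 1) := (Ideal.Quotient.mkₐ k _).comp ι
    have hgM : ∀ i, g (MvPolynomial.X i) ∈ M := fun i => Ideal.mem_map_of_mem _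
      (Ideal.mem_map_of_mem _ (by rw [← hb]; exact Ideal.subset_span ⟨i, rfl⟩))
    have hfg : ∀ p, f p - g p ∈ M ^ 2 := fun p => by
      obtain ⟨y, hy⟩ := Ideal.Quotient.mk_surjective (f p - g p)
      rw [← hy]
      rcases Nat.eq_zero_or_pos n with rfl | hn
      · have h1 : f p - g p = 0 := by
          show G 1 (ε p) - Ideal.Quotient.mk _ (ι p) = 0
          rw [← hG (show 1 ≤ 2 by omega), AlgHom.comp_apply, hG2, sub_eq_zero]
          rfl
        rw [hy, h1]; exact zero_mem _
      refine (Ideal.map_pow (Ideal.Quotient.mk _) m 2).le (Ideal.mem_map_of_mem _ ?_)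
      rw [← Ideal.Quotient.eq_zero_iff_mem]
      have h1 : Fac 2 (n + 1) (by omega) (f p - g p) = 0 := by
        rw [map_sub, sub_eq_zero]
        show Fac 2 (n + 1) (by omega) (G (n + 1) (ε p)) = _
        have h2 : Fac 2 (n + 1) (by omega) (G (n + 1) (ε p)) = G 2 (ε p) :=
          DFunLike.congr_fun (hG (show 2 ≤ n + 1 by omega)) _
        rw [h2, hG2]
        rfl
      rw [← hy] at h1
      exact h1
    have hfM : ∀ i, f (MvPolynomial.X i) ∈ M := fun i => by
      rw [← sub_add_cancel (f (MvPolynomial.X i)) (g (MvPolynomial.X i))]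
      exact add_mem (Ideal.pow_le_self two_ne_zero (hfg _)) (hgM i)
    have h := (Groth.Agent.Misc12.AlgzApprox.sub_mem_pow_succ f g M hfM hgM fun i => hfg _).2 n a
      (hb.symm ▸ ha)
    have h' := (Ideal.map_pow (Ideal.Quotient.mk (m ^ (n + 1))) m (n + 1)).ge h
    rw [Ideal.map_quotient_self, Ideal.mem_bot, sub_eq_zero] at h'
    exact h'
  have hker := Groth.Agent.Misc12.AlgzApprox.trunc_kernel b ε ι (hεb.symm ▸ hkR) hkA
    (hεb.symm ▸ hgrad) G (fun h => hG h) hGb
  rw [hεb] at hker
  let α₀ : R →+* AdicCompletion m A := AdicCompletion.liftRingHom m (fun j => (G j).toRingHom)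
    (fun {i j} h => RingHom.ext fun r => DFunLike.congr_fun (hG h) r)
  have hα : ∀ j r, AdicCompletion.evalₐ m j (α₀ r) = G j r := fun j r =>
    AdicCompletion.evalₐ_liftRingHom _ _ _ j r
  have hbij : Function.Bijective α₀ := by
    constructor
    · rw [injective_iff_map_eq_zero]
      intro r hr
      refine (inferInstance : IsHausdorff (IsLocalRing.maximalIdeal R) R).haus _ fun j => ?_
      rw [SModEq.zero, smul_eq_mul, Ideal.mul_top]
      exact ((hker j).2 r).1 (by rw [← hα, hr, map_zero])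
    · intro z
      choose r hr using fun j => (hker j).1 (AdicCompletion.evalₐ m j z)
      obtain ⟨L, hL⟩ := IsPrecomplete.prec
        (inferInstance : IsPrecomplete (IsLocalRing.maximalIdeal R) R) (f := r) fun {i j} h => by
          rw [SModEq.sub_mem, smul_eq_mul, Ideal.mul_top]
          refine ((hker i).2 _).1 ?_
          have h1 : G i (r j) = Fac i j h (G j (r j)) := (DFunLike.congr_fun (hG h) _).symm
          rw [map_sub, h1, hr, hr, sub_eq_zero]
          refine AdicCompletion.induction_on m A (p := fun z => AdicCompletion.evalₐ m i z =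
            Fac i j h (AdicCompletion.evalₐ m j z)) z fun x => ?_
          rw [AdicCompletion.evalₐ_mk, AdicCompletion.evalₐ_mk]
          refine (Ideal.Quotient.eq.2 ?_ :
            Ideal.Quotient.mk (m ^ i) (x.val i) = Ideal.Quotient.mk (m ^ i) (x.val j))
          have h2 := SModEq.sub_mem.1 (x.2 h)
          rwa [smul_eq_mul, Ideal.mul_top] at h2
      refine ⟨L, AdicCompletion.ext_evalₐ fun j => ?_⟩
      rw [hα, ← hr j, ← sub_eq_zero, ← map_sub]
      have h1 := hL j
      rw [SModEq.sub_mem, smul_eq_mul, Ideal.mul_top, ← neg_sub, neg_mem_iff] at h1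
      exact ((hker j).2 _).2 h1
  refine ⟨A, iA, kA, fA, m, hmax, hsurj, η, RingEquiv.ofBijective α₀ hbij, fun c => ?_,
    fun n ψ hψ => ?_⟩
  · refine AdicCompletion.ext_evalₐ fun j => ?_
    show AdicCompletion.evalₐ m j (α₀ _) = _
    rw [hα, (G j).commutes, AlgHom.commutes]
    rfl
  · have h1 : ψ = G (n + 1) := AlgHom.ext fun r => (RingHom.congr_fun hψ r).trans (hα _ r)
    rw [h1]
    show F.map (CommAlgCat.ofHom ((Fac (n + 1) (n + 1 + 2) (by omega)).comp (Gs (n + 1)).1)) ξ = _
    rw [CommAlgCat.ofHom_comp, F.map_comp, types_comp_apply, (Gs (n + 1)).2,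
      ← types_comp_apply (F.map _) (F.map _), ← F.map_comp, hFmk (n + 1) (n + 1 + 2) (by omega)]

end Groth.Agent.S17372
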