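import Groth.Statements.S17377
import Groth.Agent.LocImm.Birational
import Groth.Agent.Cycles.NormScheme
import Groth.Agent.Divisors.EffCartier
import Groth.Agent.Divisors.BlowUpBasic
import Groth.Agent.BlowUpBasics.EffCartier
import Groth.Agent.BlowUpLCI.BaseChange
import Groth.Agent.EtaleBase.Rigidity

set_option backward.isDefEq.respectTransparency false

set_option autoImplicit false
universe u
open CategoryTheory CategoryTheory.Limits AlgebraicGeometry
open Variety

namespace Groth.Agent.S17377

/-- Let X and Y be integral normal schemes locally of finite type over a field k and f : Y → X a finite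
étale k-morphism; let D ⊆ X be a closed subscheme which is an effective Cartier divisor and is
integral and normal as a scheme, and E ⊆ Y an integral closed subscheme mapping to D by a surjective
morphism g compatible with the inclusions whose residue-field extension at the generic point of E
has degree 1 (so E is a prime divisor of Y over D with the same function field: D splits in Y at the
level of Weil divisors). Then g is an isomorphism and E is an effective Cartier divisor on Y; in
particular D is the image of the relative Cartier divisor E (D is c-split). (The source works with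
projective, geometrically normal and geometrically integral X, Y of dimension at least 2 and
geometrically normal, geometrically integral D; those hypotheses only serve base change to extension
fields and are dropped here.) -/
theorem result (k : Type u) [Field k] (X Y : Scheme.{u})
    [X.Over (Spec (CommRingCat.of k))] [Y.Over (Spec (CommRingCat.of k))]
    [LocallyOfFiniteType (X ↘ Spec (CommRingCat.of k))] [LocallyOfFiniteType (Y ↘ Spec (CommRingCat.of k))]
    [IsIntegral X] [IsIntegral Y] (hX : Pi1.IsNormalScheme X) (hY : Pi1.IsNormalScheme Y)
    (f : Y ⟶ X) (hf : f ≫ (X ↘ Spec (CommRingCat.of k)) = Y ↘ Spec (CommRingCat.of k)) [IsFinite f] [Etale f]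
    (D : X.IdealSheafData) (hD : FGA.IsEffCartier D) [IsIntegral D.subscheme] (hDn : Pi1.IsNormalScheme D.subscheme)
    (E : Y.IdealSheafData) [IsIntegral E.subscheme]
    (g : (E.subscheme : Scheme.{u}) ⟶ D.subscheme) (hg : g ≫ D.subschemeι = E.subschemeι ≫ f)
    (hsurj : Function.Surjective g.base) (hdeg : g.residueDegree (genericPoint E.subscheme) = 1) :
    IsIso g ∧ FGA.IsEffCartier E := by
  haveI : IsFinite (g ≫ D.subschemeι) := hg.symm ▸ inferInstance
  haveI : IsFinite g := MorphismProperty.of_postcomp @IsFinite g D.subschemeι (inferInstance : IsSeparated D.subschemeι) ‹_›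
  let η := genericPoint E.subscheme
  have hgen : g η = genericPoint D.subscheme := by
    apply ((genericPoint_spec D.subscheme).eq _).symm
    have h := (genericPoint_spec E.subscheme).image g.continuous
    rw [Set.image_univ, hsurj.range_eq, closure_univ] at h
    exact h
  have hbij : Function.Bijective (g.residueFieldMap η) := by
    refine ⟨(g.residueFieldMap η).hom.injective, ?_⟩
    letI := (g.residueFieldMap η).hom.toAlgebra
    have h1 : Module.finrank (D.subscheme.residueField (g η)) (E.subscheme.residueField η) = 1 := hdeg
    intro z
    obtain ⟨c, hc⟩ := (finrank_eq_one_iff_of_nonzero' (K := D.subscheme.residueField (g η))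
      (1 : E.subscheme.residueField η) one_ne_zero).1 h1 z
    refine ⟨c, ?_⟩
    rw [Algebra.smul_def, mul_one] at hc
    exact hc
  have hbir : IsIso (g.stalkMap η) := by
    refine (ConcreteCategory.isIso_iff_bijective _).2 ?_
    have hr : ∀ v, E.subscheme.residue η (g.stalkMap η v) =
        g.residueFieldMap η (D.subscheme.residue (g η) v) := fun v => by
      have := congrArg (fun φ => φ.hom v) (Scheme.residue_residueFieldMap g η)
      exact this.symm
    have hcomp : Function.Bijective (fun v => E.subscheme.residue η (g.stalkMap η v)) := by
      simp only [hr]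
      exact hbij.comp (Groth.Cycles.residue_generic_bijective hgen)
    exact Function.Bijective.of_comp_iff' (Groth.Cycles.residue_generic_bijective (rfl : η = genericPoint E.subscheme))
      _ |>.1 hcomp
  haveI hiso : IsIso g := Groth.LocImmersion.BirationalNormal.isIso_of_isIntegralHom (fun y => (hDn y).2) g hgen hbir
  refine ⟨hiso, ?_⟩
  -- `E` is open and closed in the inverse image of `D`
  let Dc := D.comap f
  have hDc : BlowUp.IsEffCartierIdeal Dc := Groth.BlowUpBasics.isEffCartierIdeal_comap_of_flat f hD
  let q : (Dc.subscheme : Scheme.{u}) ⟶ D.subscheme := (D.comapIso f).hom ≫ pullback.snd _ _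
  haveI : Etale q := inferInstanceAs (Etale ((D.comapIso f).hom ≫ pullback.snd f D.subschemeι))
  haveI : IsSeparated q := inferInstanceAs (IsSeparated ((D.comapIso f).hom ≫ pullback.snd f D.subschemeι))
  let j : (E.subscheme : Scheme.{u}) ⟶ Dc.subscheme :=
    pullback.lift E.subschemeι g hg.symm ≫ (D.comapIso f).inv
  have hj : j ≫ Dc.subschemeι = E.subschemeι := by
    simp [j, Dc, Category.assoc, Scheme.IdealSheafData.comapIso_inv_subschemeι]
  have hjq : (inv g ≫ j) ≫ q = 𝟙 _ := by
    simp only [j, q, Category.assoc, Iso.inv_hom_id_assoc, pullback.lift_snd, IsIso.inv_hom_id]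
  haveI : IsOpenImmersion (inv g ≫ j) := Groth.EtaleBase.isOpenImmersion_section q _ hjq
  haveI : IsOpenImmersion j := by
    have : j = g ≫ inv g ≫ j := by simp
    rw [this]; infer_instance
  refine Groth.BlowUpLCI.isEffCartierIdeal_of_openCover fun y => ?_
  by_cases hy : y ∈ E.support
  · have hcl : IsClosed (Dc.subschemeι '' (Set.range j)ᶜ) :=
      Dc.subschemeι.isClosedEmbedding.isClosedMap _ j.isOpenEmbedding.isOpen_range.isClosed_compl
    let V : Y.Opens := ⟨_, hcl.isOpen_compl⟩
    have hyV : y ∈ V := by
      rw [← SetLike.mem_coe, ← E.range_subschemeι] at hy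
      obtain ⟨e, rfl⟩ := hy
      rintro ⟨d, hd, hde⟩
      rw [← hj, Scheme.Hom.comp_apply] at hde
      exact hd ⟨e, (Dc.subschemeι.isClosedEmbedding.injective hde).symm⟩
    refine ⟨V, V.ι, inferInstance, ⟨⟨y, hyV⟩, rfl⟩, ?_⟩
    let k : pullback V.ι E.subschemeι ⟶ pullback V.ι Dc.subschemeι :=
      pullback.map _ _ _ _ (𝟙 _) j (𝟙 _) (by simp) (by rw [hj, Category.comp_id])
    have hk : IsPullback k (pullback.snd _ _) (pullback.snd _ _) j :=
      IsPullback.of_right (h₁₂ := pullback.fst _ _)
        (by
          simp only [k, pullback.lift_fst, Category.comp_id, hj]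
          exact IsPullback.of_hasPullback _ _)
        (by simp [k]) (IsPullback.of_hasPullback _ _)
    haveI : IsOpenImmersion k := MorphismProperty.of_isPullback hk.flip inferInstance
    haveI : IsIso k := by
      haveI : Surjective k := ⟨fun z => by
        have hz : pullback.snd V.ι Dc.subschemeι z ∈ Set.range j := by
          by_contra hz
          have h2 : (pullback.fst V.ι Dc.subschemeι z).1 ∈ V := (pullback.fst V.ι Dc.subschemeι z).2
          apply h2
          refine ⟨_, hz, ?_⟩
          exact congr($((pullback.condition (f := V.ι) (g := Dc.subschemeι)).symm).base z)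
        obtain ⟨e, he⟩ := hz
        obtain ⟨w, hw, -⟩ := Scheme.Pullback.exists_preimage_pullback z e he.symm
        exact ⟨hk.isoPullback.inv w, by rw [← hw, ← Scheme.Hom.comp_apply, IsPullback.isoPullback_inv_fst]⟩⟩
      haveI : Epi k.base := (TopCat.epi_iff_surjective _).2 k.surjective
      exact IsOpenImmersion.isIso k
    have heq : E.comap V.ι = Dc.comap V.ι := by
      show (pullback.fst V.ι E.subschemeι).ker = (pullback.fst V.ι Dc.subschemeι).ker
      rw [← Scheme.Hom.ker_comp_of_isIso k (pullback.fst V.ι Dc.subschemeι)]
      congr 1
      simp [k]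
    rw [heq]
    exact Groth.BlowUpBasics.isEffCartierIdeal_comap_of_flat V.ι hDc
  · let V : Y.Opens := ⟨_, E.support.isClosed.isOpen_compl⟩
    refine ⟨V, V.ι, inferInstance, ⟨⟨y, hy⟩, rfl⟩, ?_⟩
    have heq : E.comap V.ι = ⊤ := Groth.Divisors.comap_eq_top_of_disjoint E V.ι
      (fun z => z.2)
    rw [heq]
    exact Groth.Divisors.isEffCartierIdeal_top

end Groth.Agent.S17377
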