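import Groth.Statements.S1738
import Groth.Agent.SuppCx.InjGam
import Groth.Agent.SuppCx.Theorems
import Groth.Agent.LocCohBase.DepthLocal
import Groth.Agent.DualCore.Regular

set_option autoImplicit false
universe u
open CategoryTheory
attribute [local instance] HasDerivedCategory.standard
open LocCoh

namespace Groth.Agent.S1738

open Groth.LocCohTransform.SupportExt

theorem crit {A : Type u} [CommRing A] {T' : Set (PrimeSpectrum A)} {M : Type u} [AddCommGroup M] [Module A M]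
    (hM : ∀ p q : PrimeSpectrum A, p ⋖ q → q ∈ T' → p ∉ T' → 1 ≤ LocCoh.depth (Localization.AtPrime p.asIdeal) (LocalizedModule p.asIdeal.primeCompl M))
    {p q : PrimeSpectrum A} (hp : p ∉ T') (hq : q ∈ T') (hpq : p ≤ q) :
    ((1 : ℕ) : WithBot ℕ∞) < ((LocCoh.depth (Localization.AtPrime p.asIdeal)
          (LocalizedModule p.asIdeal.primeCompl M) : ℕ∞) : WithBot ℕ∞) + Order.krullDim (Set.Icc p q) := by
  have hlt : p < q := lt_of_le_of_ne hpq fun h => hp (h ▸ hq)
  haveI : Nonempty (Set.Icc p q) := ⟨⟨p, le_rfl, hpq⟩⟩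
  have key : ∀ n : ℕ, ∀ s : LTSeries (Set.Icc p q), s.length = n →
      ((n : ℕ∞) : WithBot ℕ∞) ≤ Order.krullDim (Set.Icc p q) := fun n s hs => by
    have := Order.LTSeries.length_le_krullDim s
    rw [hs] at this
    exact this
  have h1 := key 1 ((RelSeries.singleton _ (⟨p, le_rfl, hpq⟩ : Set.Icc p q)).snoc ⟨q, hpq, le_rfl⟩
    (show (⟨p, le_rfl, hpq⟩ : Set.Icc p q) < ⟨q, hpq, le_rfl⟩ from hlt)) rfl
  by_cases hc : p ⋖ q
  · refine lt_of_lt_of_le ?_ (add_le_add (WithBot.coe_le_coe.2 (hM p q hc hq hp)) h1)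
    decide
  · obtain ⟨r, hpr, hrq⟩ : ∃ r, p < r ∧ r < q := by
      by_contra h
      exact hc ⟨hlt, fun r hpr hrq => h ⟨r, hpr, hrq⟩⟩
    have h2 := key 2 (((RelSeries.singleton _ (⟨p, le_rfl, hpq⟩ : Set.Icc p q)).snoc ⟨r, hpr.le, hrq.le⟩
      (show (⟨p, le_rfl, hpq⟩ : Set.Icc p q) < ⟨r, hpr.le, hrq.le⟩ from hpr)).snoc ⟨q, hpq, le_rfl⟩
      (by simpa using (show (⟨r, hpr.le, hrq.le⟩ : Set.Icc p q) < ⟨q, hpq, le_rfl⟩ from hrq))) rfl
    refine lt_of_lt_of_le ?_ (add_le_add (WithBot.coe_le_coe.2 (zero_le (a := LocCoh.depth (Localization.AtPrime p.asIdeal)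
          (LocalizedModule p.asIdeal.primeCompl M)))) h2)
    decide

theorem exists_augmentation {A : Type u} [CommRing A] {M : Type u} [AddCommGroup M] [Module A M]
    (C : CochainComplex (ModuleCat.{u} A) ℤ) (e : DerivedCategory.Q.obj C ≅ Dual.inD A M)
    (hlow : ∀ n < (0 : ℤ), Subsingleton (C.X n)) :
    ∃ ι : M →ₗ[A] C.X 0, Function.Injective ι ∧ ∀ x, (C.d 0 1).hom x = 0 ↔ x ∈ LinearMap.range ι := by
  obtain ⟨φ⟩ := Groth.SuppCx.nonempty_HD_equiv (C := C) e (j := -1) (i := 0) (k := 1) rfl rfl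
  haveI := hlow (-1) (by omega)
  have hB : (Groth.SuppCx.Bc C (Groth.SuppCx.topC C) (-1) 0).comap
      (Groth.SuppCx.Zc C (Groth.SuppCx.topC C) 0 1).subtype = ⊥ := by
    refine le_bot_iff.1 fun x hx => Subtype.ext ?_
    obtain ⟨y, -, hy⟩ := Groth.SuppCx.mem_Bc.1 hx
    rw [← show (C.d (-1) 0).hom y = x.1 from hy, Subsingleton.elim y 0, map_zero]
    rfl
  let ψ := ((Groth.DualCore.HDinDEquiv M).symm ≪≫ₗ φ) ≪≫ₗ Submodule.quotEquivOfEqBot _ hB
  refine ⟨(Groth.SuppCx.Zc C (Groth.SuppCx.topC C) 0 1).subtype ∘ₗ ψ.toLinearMap,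
    Subtype.val_injective.comp ψ.injective, fun x => ⟨fun h => ⟨ψ.symm ⟨x, trivial, h⟩, by simp⟩, ?_⟩⟩
  rintro ⟨m, rfl⟩
  exact (ψ m).2.2

theorem finite_of_smul_mem {A : Type u} [CommRing A] [IsNoetherianRing A] {M Q : Type u} [AddCommGroup M]
    [Module A M] [Module.Finite A M] [AddCommGroup Q] [Module A Q] (f : M →ₗ[A] Q) (J : Ideal A)
    (h : ∀ g ∈ J, ∀ y : Q, g • y ∈ LinearMap.range f) (h0 : ∀ y : Q, (∀ g ∈ J, g • y = 0) → y = 0) :
    Module.Finite A Q := by
  obtain ⟨s, hs⟩ := IsNoetherian.noetherian J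
  haveI : IsNoetherian A (LinearMap.range f) := inferInstance
  refine Module.Finite.of_injective (LinearMap.pi fun g : s =>
    ((g : A) • LinearMap.id (R := A) (M := Q)).codRestrict (LinearMap.range f)
      fun y => h g (hs ▸ Submodule.subset_span g.2) y) ?_
  rw [← LinearMap.ker_eq_bot, LinearMap.ker_eq_bot']
  intro y hy
  refine h0 y fun g hg => ?_
  rw [← hs] at hg
  induction hg using Submodule.span_induction with
  | mem a ha => exact congrArg Subtype.val (congrFun hy ⟨a, ha⟩)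
  | zero => exact zero_smul _ _
  | add a b _ _ ha hb => rw [add_smul, ha, hb, add_zero]
  | smul r a _ ha => rw [smul_eq_mul, mul_smul, ha, smul_zero]

theorem bijective_map {A : Type u} [CommRing A] {M Q : Type u} [AddCommGroup M] [Module A M] [AddCommGroup Q]
    [Module A Q] (f : M →ₗ[A] Q) (p : PrimeSpectrum A)
    (h1 : ∀ m, f m = 0 → ∃ t ∉ p.asIdeal, t • m = 0) (h2 : ∀ y, ∃ t ∉ p.asIdeal, t • y ∈ LinearMap.range f) :
    Function.Bijective (LocalizedModule.map p.asIdeal.primeCompl f) := by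
  refine ⟨(injective_iff_map_eq_zero _).2 fun z hz => ?_, fun z => ?_⟩
  · induction z using LocalizedModule.induction_on with
    | h m s =>
      rw [LocalizedModule.map_mk, ← LocalizedModule.zero_mk s, LocalizedModule.mk_eq] at hz
      obtain ⟨t, ht⟩ := hz
      simp only [smul_zero, Submonoid.smul_def] at ht
      rw [← mul_smul, ← map_smul] at ht
      obtain ⟨u, hu, hum⟩ := h1 _ ht
      rw [← LocalizedModule.zero_mk s, LocalizedModule.mk_eq]
      refine ⟨⟨u, hu⟩ * t, ?_⟩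
      simp only [smul_zero, Submonoid.smul_def, Submonoid.coe_mul]
      rw [mul_smul, ← mul_smul (t : A), hum]
  · induction z using LocalizedModule.induction_on with
    | h y s =>
      obtain ⟨t, ht, m, hm⟩ := h2 y
      refine ⟨LocalizedModule.mk m (⟨t, ht⟩ * s), ?_⟩
      rw [LocalizedModule.map_mk, hm, ← LocalizedModule.mk_cancel_common_left ⟨t, ht⟩ s y]
      rfl

/-- Let A be a Noetherian ring with a dualizing complex, T' ⊆ Spec A stable under specialization, and M
a finite A-module such that depth(M_p) ≥ 1 whenever q covers p in Spec A with q in T' and p outside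
T'. Then there are a finite A-module M'' and a map M → M'' which is bijective after localizing at
every prime outside T' and such that M''_p has depth ≥ 2 for every p in T'. (The source: coherent
modules on a Noetherian scheme locally having a dualizing complex, with uniqueness and a pullback
clause.) -/
theorem result (A : Type u) [CommRing A] [IsNoetherianRing A] (hA : ∃ ω : Dual.D A, Dual.IsDualizing A ω) (T' : Set (PrimeSpectrum A)) (hT : StableUnderSpecialization T') (M : Type u) [AddCommGroup M] [Module A M] [Module.Finite A M] (hM : ∀ p q : PrimeSpectrum A, p ⋖ q → q ∈ T' → p ∉ T' → 1 ≤ LocCoh.depth (Localization.AtPrime p.asIdeal) (LocalizedModule p.asIdeal.primeCompl M)) : ∃ (M'' : Type u) (_ : AddCommGroup M'') (_ : Module A M'') (_ : Module.Finite A M'') (f : M →ₗ[A] M''), (∀ p : PrimeSpectrum A, p ∉ T' → Function.Bijective (LocalizedModule.map p.asIdeal.primeCompl f)) ∧ ∀ p : PrimeSpectrum A, p ∈ T' → 2 ≤ LocCoh.depth (Localization.AtPrime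 p.asIdeal) (LocalizedModule p.asIdeal.primeCompl M'') := by
  classical
  obtain ⟨ω, hω⟩ := hA
  obtain ⟨C, hKinj, hC, hlow, ⟨e⟩⟩ := Groth.SuppCx.exists_injective_rep (Dual.inD A M) 0
    fun i hi => Groth.DualCore.subsingleton_HD_inD M i (by omega)
  haveI := hC 0
  obtain ⟨J, hJ, hkill⟩ := (Groth.SuppCx.exists_kills_iff hω hC hlow e
    (fun j => Groth.DualCore.finite_HD_inD M j) hT hT 1).2
    ((Groth.SuppCx.crit_iff_depth (T := T') (T' := T') hω M 1).2 (fun p q hp hq hpq => crit hM hp hq hpq))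
  obtain ⟨ι, hιinj, hι⟩ := exists_augmentation C e hlow
  let E := (C.X 0 : Type u) ⧸ Gam T' (C.X 0)
  haveI : Module.Injective A E := Groth.SuppCx.injective_quotient_gam T' (C.X 0)
  let d := (C.d 0 1).hom
  let N0 : Submodule A (C.X 0) := (Gam T' (C.X 1)).comap d
  let Q : Submodule A E := N0.map (Gam T' (C.X 0)).mkQ
  have hgam : ∀ x ∈ Gam T' (C.X 0), x ∈ N0 := fun x hx => map_mem_gam d hx
  have hmemQ : ∀ x : C.X 0, (Submodule.Quotient.mk x : E) ∈ Q ↔ x ∈ N0 := fun x =>
    ⟨fun ⟨y, hy, hyx⟩ => by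
      have h := (Submodule.Quotient.eq (Gam T' (C.X 0))).1 hyx
      have := N0.sub_mem hy (hgam _ h)
      rwa [sub_sub_cancel] at this,
    fun h => ⟨x, h, rfl⟩⟩
  have hιN : ∀ m, ι m ∈ N0 := fun m => by
    show d (ι m) ∈ Gam T' (C.X 1)
    rw [show d (ι m) = 0 from (hι _).2 ⟨m, rfl⟩]
    exact Submodule.zero_mem _
  let f : M →ₗ[A] Q := ((Gam T' (C.X 0)).mkQ ∘ₗ ι).codRestrict Q fun m => (hmemQ _).2 (hιN m)
  -- the annihilation in degree one
  have hrange : ∀ g ∈ J, ∀ y : Q, g • y ∈ LinearMap.range f := by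
    rintro g hg ⟨y, x, hx, rfl⟩
    obtain ⟨z, hz, hzx⟩ := Groth.SuppCx.mem_Bc.1 (hkill 1 le_rfl g hg (j := 0) (k := 2) rfl rfl (d x) hx
      (Groth.SuppCx.d_d_apply 0 1 2 x))
    obtain ⟨m, hm⟩ := (hι (g • x - z)).1 (by
      rw [show (C.d 0 1).hom = d from rfl, map_sub, map_smul]
      exact sub_eq_zero.2 hzx.symm)
    refine ⟨m, Subtype.ext ?_⟩
    show Submodule.Quotient.mk (ι m) = g • (Submodule.Quotient.mk x : E)
    rw [hm, Submodule.Quotient.mk_sub, (Submodule.Quotient.mk_eq_zero _).2 hz, sub_zero,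
      Submodule.Quotient.mk_smul]
  haveI hfin : Module.Finite A Q := finite_of_smul_mem f J hrange fun y hy =>
    Subtype.ext (Groth.SuppCx.eq_zero_of_smul_quotient hJ fun a ha => congrArg Subtype.val (hy a ha))
  refine ⟨Q, inferInstance, inferInstance, hfin, f, fun p hp => bijective_map f p (fun m hm => ?_) fun y => ?_,
    fun p hp => ?_⟩
  · have h : ι m ∈ Gam T' (C.X 0) := (Submodule.Quotient.mk_eq_zero _).1 (congrArg Subtype.val hm)
    obtain ⟨t, ht, htm⟩ := h p hp
    exact ⟨t, ht, hιinj (by rw [map_smul, htm, map_zero])⟩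
  · obtain ⟨g, hg, hgp⟩ := SetLike.not_le_iff_exists.1 (show ¬ J ≤ p.asIdeal from fun h => hp (hJ h))
    exact ⟨g, hgp, hrange g hg y⟩
  · have hV := Groth.SuppCx.zeroLocus_prime_subset hT hp
    have h2 : (2 : ℕ∞) ≤ LocCoh.idealDepth p.asIdeal Q := by
      refine Groth.SuppCx.two_le_idealDepth Q (fun x hx => Groth.SuppCx.eq_zero_of_smul_quotient hV hx)
        fun x hx => ?_
      obtain ⟨x, rfl⟩ := Submodule.Quotient.mk_surjective _ x
      refine (hmemQ x).2 (Groth.SuppCx.mem_gam_of_smul_mem hV fun a ha => ?_)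
      rw [← map_smul]
      exact (hmemQ _).1 (by rw [Submodule.Quotient.mk_smul]; exact hx a ha)
    exact h2.trans ((Groth.LocCohBase.idealDepth_eq_iInf_depth p.asIdeal Q).trans_le (iInf₂_le p le_rfl))

end Groth.Agent.S1738
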