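import Groth.Statements.S17380
import Groth.Agent.Misc13.NumTriv.Volume

set_option autoImplicit false
universe u
open CategoryTheory CategoryTheory.Limits AlgebraicGeometry
open scoped ENNReal
open Variety

namespace Groth.Agent.S17380

/-- Let X be a geometrically integral scheme of dimension d, proper over a field k and admitting an
ample invertible module, and L an invertible module on X which is big, i.e. the lower limit of dim_k
H^0(X, L^m)/m^d as m → ∞ is positive. Then some power L^a, a > 0, is such that H^0(X, L^(aj) ⊗ N) ≠
0 for every j > 0 and every numerically trivial invertible module N (degree zero on every integral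
closed one-dimensional subscheme); in other words every invertible module numerically equivalent to
L^(aj) comes from an effective divisor. (The published statement asserts this for all sufficiently
large powers of L; its printed reduction to an ample module yields one power a and its multiples,
which is what is stated.) -/
theorem result (k : Type u) [Field k] (X : Scheme.{u})
    [X.Over (Spec (CommRingCat.of k))] [IsIntegral X] [GeometricallyIntegral (X ↘ Spec (CommRingCat.of k))]
    [IsProper (X ↘ Spec (CommRingCat.of k))] (hproj : ∃ A : X.Modules, CohB1.IsAmple A)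
    (d : ℕ) (hd : topologicalKrullDim X = d) (L : X.Modules) (hL : PicF.IsInvertible L)
    (hbig : 0 < Filter.liminf (fun m : ℕ => (Module.finrank k (Coh.HH X (CohB1.tensorPow L m) 0) : ℝ≥0∞) /
        (m : ℝ≥0∞) ^ d) Filter.atTop) :
    ∃ a : ℕ, 0 < a ∧ ∀ j : ℕ, 0 < j → ∀ N : X.Modules, PicF.IsInvertible N → Pic13.IsNumEquivZero k X N →
      0 < Module.finrank k (Coh.HH X (CohB1.tensorMod (CohB1.tensorPow L (a * j)) N) 0) := by
  obtain ⟨A, hA⟩ := hproj
  obtain ⟨a, ha, h⟩ := Groth.Misc13.NumTriv.exists_pow_effective k hA hL
    ((Groth.Misc13.Volume.limsup_pos_iff k hd hA hL).1 (hbig.trans_le Filter.liminf_le_limsup))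
  exact ⟨a, ha, fun j hj N hN hnum => h j hj N (Groth.Misc13.NumTriv.nt_of_numEquivZero k hN hnum)⟩

end Groth.Agent.S17380
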