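import Groth.Statements.S17381
import Groth.Agent.NagComp.Birational

set_option autoImplicit false
universe u
open FlatMor

namespace Groth.Agent.S17381

open AlgebraicGeometry CategoryTheory Limits in
/-- Let f : X' → X be a proper morphism with X quasi-compact and quasi-separated (so X' is too), and let
U ⊆ X be a quasi-compact dense open subscheme such that f restricts to an isomorphism over U and the
preimage of U is dense in X'. Then X' and X admit a common blow-up over f: there are a scheme X̃, a
morphism c' : X̃ → X' which is a blowing up of X' in a quasi-coherent ideal of finite type with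
support disjoint from the preimage of U, and a quasi-coherent ideal of finite type on X with support
disjoint from U in which the composite c' ≫ f is a blowing up of X. (A proper morphism is birational
in this sense exactly when source and target have a common admissible blow-up.) -/
theorem result
    {X X' : Scheme.{u}} [CompactSpace X] [QuasiSeparatedSpace X]
    (f : X' ⟶ X) [IsProper f] (U : X.Opens) (hU : IsCompact (U : Set X)) (hUd : Dense (U : Set X))
    [IsIso (f ∣_ U)] (hU' : Dense ((f ⁻¹ᵁ U : X'.Opens) : Set X')) :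
    ∃ (𝓘' : X'.IdealSheafData) (𝓘 : X.IdealSheafData) (Y : Scheme.{u}) (c' : Y ⟶ X'),
      BlowUp.IsBlowUp c' 𝓘' ∧ BlowUp.IsAdmissibleFor (f ⁻¹ᵁ U) 𝓘' ∧
      BlowUp.IsBlowUp (c' ≫ f) 𝓘 ∧ BlowUp.IsAdmissibleFor U 𝓘 := by
  obtain ⟨K, Y, Z, b, c, j, hb, hbA, hc, hcA, -, hj, hw, hsd⟩ :=
    Groth.NagComp.exists_openImmersion_blowUps f U hU
  haveI := HTopHyper.isProper_of_isBlowUp hb hbA.1
  haveI := HTopHyper.isProper_of_isBlowUp hc hcA.1
  haveI : IsProper (j ≫ c) := by rw [hw]; infer_instance
  haveI : IsProper j := IsProper.of_comp j c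
  haveI := BlowUpBasics.isIso_morphismRestrict hb (f ⁻¹ᵁ U) hbA.2
  haveI := BlowUpBasics.isIso_morphismRestrict hc U hcA.2
  have hsurj : Surjective j := ⟨fun z => by
    by_contra hz
    obtain ⟨z', hz', hzU⟩ := hsd.inter_nonempty
      (O := ⟨(Set.range j)ᶜ, j.isClosedMap.isClosed_range.isOpen_compl⟩) le_top ⟨z, hz⟩
    apply hz'
    obtain ⟨x, hx⟩ := (f ∣_ U).surjective ⟨c z', hzU⟩
    obtain ⟨y, hy⟩ := (b ∣_ (f ⁻¹ᵁ U)).surjective x
    have e1 : f x.1 = c z' := by
      have := congrArg Subtype.val hx
      rwa [morphismRestrict_base] at this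
    have e2 : b y.1 = x.1 := by
      have := congrArg Subtype.val hy
      rwa [morphismRestrict_base] at this
    have e3 : c (j y.1) = c z' := by
      rw [← Scheme.Hom.comp_apply, hw, Scheme.Hom.comp_apply, e2, e1]
    have hjU : j y.1 ∈ c ⁻¹ᵁ U := show c (j y.1) ∈ U by rw [e3]; exact hzU
    have e4 : (c ∣_ U) ⟨j y.1, hjU⟩ = (c ∣_ U) ⟨z', hzU⟩ := Subtype.ext (by
      rw [morphismRestrict_base]; exact e3)
    exact ⟨y.1, congrArg Subtype.val ((c ∣_ U).isOpenEmbedding.injective e4)⟩⟩
  haveI : IsIso j := (isIso_iff_isOpenImmersion_and_epi_base _).mpr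
    ⟨inferInstance, (TopCat.epi_iff_surjective _).mpr j.surjective⟩
  refine ⟨_, K, Y, b, hb, hbA, ?_, hcA⟩
  rw [← hw]
  exact RefRank.isBlowUp_iso_comp hc (asIso j)

end Groth.Agent.S17381
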