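import Groth.Statements.S9706
import Groth.Agent.Ega2Proj.QProjProper
-- import your own Groth.Agent.* helpers here

set_option autoImplicit false
universe u
open CategoryTheory CategoryTheory.Limits AlgebraicGeometry
open Mor

namespace Groth.Agent.S9706

/-- Let S be quasi-compact and quasi-separated and f : X ⟶ S quasi-projective. Then f factors as an open
immersion X ⟶ X' followed by a projective morphism X' ⟶ S. Here X' ⟶ S projective means isomorphic
over S to the relative Proj of a quasi-coherent graded algebra generated by its finite-type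
degree-one part; the published definition uses closed subschemes of P(E) with E of finite type, an
equivalent condition. -/
theorem result {X S : Scheme.{u}} [CompactSpace ↥S]
    [QuasiSeparatedSpace ↥S] (f : X ⟶ S) (hf : RelProj.IsQuasiProjective f) :
    ∃ (X' : Scheme.{u}) (j : X ⟶ X') (g : X' ⟶ S), IsOpenImmersion j ∧ RelProj.IsProjective g ∧ j ≫ g = f := by
  obtain ⟨hft, hqc, L, hL⟩ := hf
  obtain ⟨𝒮, P, p, chart, r, hgen, hft1, hP, hr, hrp⟩ := Groth.Ega2Proj.QEmb.exists_immersion_proj f hL
  have hp : RelProj.IsProjective p := ⟨𝒮, P, p, chart, Iso.refl P, hgen, hft1, hP, Category.id_comp p⟩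
  haveI : IsProper p := Groth.Chow.isProper_of_isProjective hp
  haveI : QuasiCompact (r ≫ p) := hrp ▸ hqc
  haveI : QuasiCompact r := QuasiCompact.of_comp r p
  exact ⟨_, r.toImage, r.imageι ≫ p, inferInstance,
    Groth.Ega2Proj.ClosedProj.isProjective_comp_closedImmersion hp r.imageι,
    by rw [Scheme.Hom.toImage_imageι_assoc, hrp]⟩

end Groth.Agent.S9706
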