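import Groth.Statements.S17383
import Groth.Agent.NagComp.ProperExtend
import Groth.Agent.S9706
import Groth.Agent.S9708
import Groth.Agent.S8910
import Groth.Agent.Chow.Projective

set_option autoImplicit false
universe u
open FlatMor

namespace Groth.Agent.S17383

open AlgebraicGeometry CategoryTheory Limits in
/-- Let S be a quasi-compact quasi-separated scheme, f : X → S a separated morphism of finite type, and
U ⊆ X a quasi-compact dense open subscheme which is quasi-projective over S (of finite type with a
relatively ample invertible module). Then there are a blowing up q : X' → X in a quasi-coherent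
ideal of finite type with support disjoint from U, a projective morphism g : P → S (P the relative
homogeneous spectrum of a quasi-coherent graded algebra generated in degree one with degree-one part
of finite type) and an open immersion j : X' → P with dense image such that j ≫ g = q ≫ f. The
centre of the blow-up misses the prescribed open U. -/
theorem result
    {X S : Scheme.{u}} [CompactSpace S] [QuasiSeparatedSpace S]
    (f : X ⟶ S) [IsSeparated f] [QuasiCompact f] [LocallyOfFiniteType f]
    (U : X.Opens) (hU : IsCompact (U : Set X)) (hUd : Dense (U : Set X))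
    (hq : RelProj.IsQuasiProjective (U.ι ≫ f)) :
    ∃ (𝓘 : X.IdealSheafData) (X' P : Scheme.{u}) (q : X' ⟶ X) (j : X' ⟶ P) (g : P ⟶ S),
      BlowUp.IsBlowUp q 𝓘 ∧ BlowUp.IsAdmissibleFor U 𝓘 ∧ RelProj.IsProjective g ∧
      IsOpenImmersion j ∧ IsDominant j ∧ j ≫ g = q ≫ f := by
  obtain ⟨P₀, h, g₀, hh, hg₀, hhg⟩ := Groth.Agent.S9706.result (U.ι ≫ f) hq
  haveI : IsProper g₀ := Groth.Chow.isProper_of_isProjective hg₀
  obtain ⟨K, L, X', P, q, c, j, hq', hK, hc, hL, hj, hjd, hjw⟩ :=
    Groth.NagComp.exists_dense_embedding f g₀ U hU h hhg
  exact ⟨K, X', P, q, j, c ≫ g₀, hq', hK,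
    Groth.Agent.S9708.result c g₀ (Groth.Agent.S8910.result L hL.1 c hc) hg₀, hj, hjd, hjw⟩

end Groth.Agent.S17383
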