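import Groth.Statements.S17386
import Groth.Agent.BlowUpBasics.Vanishing
-- import your own Groth.Agent.* helpers here

set_option autoImplicit false
universe u
open BlowUp

namespace Groth.Agent.S17386

open AlgebraicGeometry CategoryTheory Limits in
/-- Let X be any scheme, J_1, …, J_n quasi-coherent ideals on X with closed subschemes Y_i, and b : X' →
X a blowing up of X in the ideal J_1 + ⋯ + J_n of the intersection of the Y_i. For each i let b_i' :
Y_i' → Y_i be a blowing up of Y_i in the inverse image of J_1 + ⋯ + J_n and k_i : Y_i' → X' the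
morphism with k_i ≫ b = b_i' ≫ (Y_i → X), so that the image of k_i is the strict transform of Y_i.
Then the strict transforms have empty common intersection: no point of X' lies in the image of every
k_i. -/
theorem result
    {X X' : Scheme.{u}} {n : ℕ} (𝓙 : Fin n → X.IdealSheafData) (b : X' ⟶ X)
    (hb : BlowUp.IsBlowUp b (⨆ i, 𝓙 i))
    (Y' : Fin n → Scheme.{u}) (b' : ∀ i, Y' i ⟶ (𝓙 i).subscheme)
    (hb' : ∀ i, BlowUp.IsBlowUp (b' i) ((⨆ j, 𝓙 j).comap (𝓙 i).subschemeι))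
    (k : ∀ i, Y' i ⟶ X') (hk : ∀ i, k i ≫ b = b' i ≫ (𝓙 i).subschemeι) :
    (⋂ i, Set.range (fun y => k i y)) = (∅ : Set X') := by
  rw [Set.eq_empty_iff_forall_notMem]
  intro x hx
  rw [Set.mem_iInter] at hx
  obtain ⟨U, hxU, t, ht, hUt⟩ := hb.1 x
  obtain ⟨_, ⟨V, hV, rfl⟩, hxV, -⟩ :=
    X.isBasis_affineOpens.exists_subset_of_mem_open (Set.mem_univ (b x)) isOpen_univ
  obtain ⟨_, ⟨W, hW, rfl⟩, hxW, hWle⟩ :=
    X'.isBasis_affineOpens.exists_subset_of_mem_open (show x ∈ U.1 ⊓ b ⁻¹ᵁ V from ⟨hxU, hxV⟩)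
      (U.1 ⊓ b ⁻¹ᵁ V).isOpen
  have hWU : (⟨W, hW⟩ : X'.affineOpens) ≤ U := show W ≤ U.1 from le_trans hWle inf_le_left
  have hWV : W ≤ b ⁻¹ᵁ V := le_trans hWle inf_le_right
  set φ := (b.appLE V W hWV).hom
  set t' := (X'.presheaf.map (homOfLE (show W ≤ U.1 from hWU)).op).hom t
  have ht' : t' ∈ nonZeroDivisors Γ(X', W) := Groth.BlowUpBasics.restrict_mem_nonZeroDivisors hWU ht
  have hWt : ((⨆ i, 𝓙 i).comap b).ideal ⟨W, hW⟩ = Ideal.span {t'} := by
    rw [← ((⨆ i, 𝓙 i).comap b).map_ideal hWU, hUt, Ideal.map_span, Set.image_singleton]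
    rfl
  have hsup : (⨆ i, ((𝓙 i).ideal ⟨V, hV⟩).map φ) = Ideal.span {t'} := by
    rw [← hWt, Groth.BlowUpBasics.ideal_comap b _ ⟨V, hV⟩ ⟨W, hW⟩ hWV,
      Scheme.IdealSheafData.ideal_iSup, iSup_apply, Ideal.map_iSup]
  set G := {d : Γ(X', W) | ∃ i, d * t' ∈ ((𝓙 i).ideal ⟨V, hV⟩).map φ}
  have key : ∀ z ∈ ⨆ i, ((𝓙 i).ideal ⟨V, hV⟩).map φ, ∃ d ∈ Ideal.span G, z = d * t' := by
    intro z hz
    induction hz using Submodule.iSup_induction' with
    | mem i z hz =>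
      obtain ⟨d, hd⟩ := Ideal.mem_span_singleton'.mp (hsup.le (Submodule.mem_iSup_of_mem i hz))
      exact ⟨d, Ideal.subset_span ⟨i, hd.symm ▸ hz⟩, hd.symm⟩
    | zero => exact ⟨0, zero_mem _, by simp⟩
    | add z w _ _ hz hw =>
      obtain ⟨d, hd, rfl⟩ := hz
      obtain ⟨e, he, rfl⟩ := hw
      exact ⟨d + e, add_mem hd he, by ring⟩
  obtain ⟨d₀, hd₀, h⟩ := key t' (hsup.ge (Ideal.mem_span_singleton_self t'))
  have htop : Ideal.span G = ⊤ := by
    rw [Ideal.eq_top_iff_one]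
    have : d₀ = 1 := (mul_cancel_right_mem_nonZeroDivisors ht').mp (by rw [one_mul]; exact h.symm)
    exact this ▸ hd₀
  obtain ⟨d, ⟨i, hdi⟩, hdx⟩ : ∃ d ∈ G, x ∈ X'.basicOpen d := by
    by_contra! hc
    have : x ∈ X'.zeroLocus (U := W) G := (Scheme.mem_zeroLocus_iff X' _ x).mpr hc
    rw [← Scheme.zeroLocus_span, htop] at this
    exact ((Scheme.mem_zeroLocus_iff X' _ x).mp this 1 trivial) (by simpa using hxW)
  obtain ⟨y, hy⟩ := hx i
  have hdW : X'.basicOpen d ≤ W := X'.basicOpen_le d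
  let D : X'.affineOpens := ⟨X'.basicOpen d, hW.basicOpen d⟩
  have hu : IsUnit ((X'.presheaf.map (homOfLE hdW).op).hom d) := RingedSpace.isUnit_res_basicOpen _ d
  set ρ := (X'.presheaf.map (homOfLE hdW).op).hom
  have hD : ((⨆ i, 𝓙 i).comap b).ideal D = Ideal.span {ρ d * ρ t'} := by
    rw [Ideal.span_singleton_mul_left_unit hu,
      ← ((⨆ i, 𝓙 i).comap b).map_ideal (show D ≤ (⟨W, hW⟩ : X'.affineOpens) from hdW), hWt,
      Ideal.map_span, Set.image_singleton]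
    rfl
  refine Groth.BlowUpBasics.generator_pullback_ne_zero (k i) (J := (⨆ j, 𝓙 j).comap b) ?_ D hD
    (O := (k i) ⁻¹ᵁ D.1) le_rfl (y := y) ?_ ?_
  · rw [← Scheme.IdealSheafData.comap_comp, hk, Scheme.IdealSheafData.comap_comp]
    exact (hb' i).1
  · show k i y ∈ X'.basicOpen d
    rw [show k i y = x from hy]
    exact hdx
  · rw [← map_mul]
    have hres : ρ.comp φ = (b.appLE V D.1 (hdW.trans hWV)).hom := by
      rw [← CommRingCat.hom_comp, Scheme.Hom.appLE_map]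
    have hmem : ρ (d * t') ∈ ((𝓙 i).ideal ⟨V, hV⟩).map (b.appLE V D.1 (hdW.trans hWV)).hom := by
      rw [← hres, ← Ideal.map_map]
      exact Ideal.mem_map_of_mem ρ hdi
    have hle : ((𝓙 i).ideal ⟨V, hV⟩).map (b.appLE V D.1 (hdW.trans hWV)).hom ≤
        RingHom.ker ((k i).appLE D.1 ((k i) ⁻¹ᵁ D.1) le_rfl).hom := by
      rw [Ideal.map_le_iff_le_comap]
      intro s hs
      exact RingHom.mem_ker.mpr (Groth.BlowUpBasics.appLE_eq_zero_of_mem b (k i) (b' i) (hk i)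
        ⟨V, hV⟩ D.1 (hdW.trans hWV) _ le_rfl s hs)
    exact RingHom.mem_ker.mp (hle hmem)

end Groth.Agent.S17386
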