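import Groth.Statements.S17388
import Groth.Agent.NagComp.TwoBirational

set_option autoImplicit false
universe u
open FlatMor

namespace Groth.Agent.S17388

open AlgebraicGeometry CategoryTheory Limits in
theorem exists_image {X Y : Scheme.{u}} (π : X ⟶ Y) (U : Y.Opens) [IsIso (π ∣_ U)] (O : X.Opens)
    (hO : O ≤ π ⁻¹ᵁ U) (hOc : IsCompact (O : Set X)) :
    ∃ A : Y.Opens, A ≤ U ∧ IsCompact (A : Set Y) ∧ π ⁻¹ᵁ A = O ∧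
      (A : Set Y) = (fun x => π x) '' (O : Set X) := by
  haveI : IsOpenImmersion ((π ⁻¹ᵁ U).ι ≫ π) := by rw [← morphismRestrict_ι]; infer_instance
  refine ⟨⟨(fun x => π x) '' (O : Set X), ?_⟩, ?_, hOc.image π.continuous, ?_, rfl⟩
  · have e : (fun x => π x) '' (O : Set X) =
        ((π ⁻¹ᵁ U).ι ≫ π) '' ((π ⁻¹ᵁ U).ι ⁻¹' (O : Set X)) := by
      ext y
      constructor
      · rintro ⟨x, hx, rfl⟩; exact ⟨⟨x, hO hx⟩, hx, rfl⟩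
      · rintro ⟨x, hx, rfl⟩; exact ⟨x.1, hx, rfl⟩
    rw [e]
    exact ((π ⁻¹ᵁ U).ι ≫ π).isOpenEmbedding.isOpenMap _ (O.2.preimage (π ⁻¹ᵁ U).ι.continuous)
  · rintro _ ⟨x, hx, rfl⟩
    exact hO hx
  · ext x
    constructor
    · rintro ⟨x', hx', e⟩
      have hxU : π x ∈ U := e ▸ hO hx'
      have h := ((π ⁻¹ᵁ U).ι ≫ π).isOpenEmbedding.injective
        (a₁ := (⟨x', hO hx'⟩ : ↥((π ⁻¹ᵁ U : X.Opens) : Scheme.{u}))) (a₂ := ⟨x, hxU⟩) e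
      obtain rfl : x' = x := congrArg Subtype.val h
      exact hx'
    · exact fun hx => ⟨x, hx, rfl⟩

open AlgebraicGeometry CategoryTheory Limits in
/-- Let X, Y₁, Y₂ be quasi-compact quasi-separated schemes and π_i : X → Y_i (i = 1, 2) separated
morphisms of finite type which are birational: U_i ⊆ Y_i is a quasi-compact dense open subscheme
over which π_i restricts to an isomorphism and whose preimage is dense in X. Let U = π₁⁻¹(U₁) ∩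
π₂⁻¹(U₂), a dense quasi-compact open of X mapping isomorphically onto dense opens of Y₁ and Y₂. Then
there are blowing ups b : X̃ → X, c₁ : Ỹ₁ → Y₁, c₂ : Ỹ₂ → Y₂ in quasi-coherent ideals of finite type
whose supports are disjoint from U, π₁(U) and π₂(U) respectively, and open immersions j_i : X̃ → Ỹ_i
with j_i ≫ c_i = b ≫ π_i. -/
theorem result
    {X Y₁ Y₂ : Scheme.{u}} [CompactSpace X] [QuasiSeparatedSpace X]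
    [CompactSpace Y₁] [QuasiSeparatedSpace Y₁] [CompactSpace Y₂] [QuasiSeparatedSpace Y₂]
    (π₁ : X ⟶ Y₁) (π₂ : X ⟶ Y₂)
    [IsSeparated π₁] [QuasiCompact π₁] [LocallyOfFiniteType π₁]
    [IsSeparated π₂] [QuasiCompact π₂] [LocallyOfFiniteType π₂]
    (U₁ : Y₁.Opens) (U₂ : Y₂.Opens) (hU₁ : IsCompact (U₁ : Set Y₁)) (hU₂ : IsCompact (U₂ : Set Y₂))
    (hd₁ : Dense (U₁ : Set Y₁)) (hd₂ : Dense (U₂ : Set Y₂)) [IsIso (π₁ ∣_ U₁)] [IsIso (π₂ ∣_ U₂)]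
    (hd₁' : Dense ((π₁ ⁻¹ᵁ U₁ : X.Opens) : Set X)) (hd₂' : Dense ((π₂ ⁻¹ᵁ U₂ : X.Opens) : Set X)) :
    ∃ (𝓘 : X.IdealSheafData) (𝓙₁ : Y₁.IdealSheafData) (𝓙₂ : Y₂.IdealSheafData)
      (Xt Yt₁ Yt₂ : Scheme.{u}) (b : Xt ⟶ X) (c₁ : Yt₁ ⟶ Y₁) (c₂ : Yt₂ ⟶ Y₂) (j₁ : Xt ⟶ Yt₁) (j₂ : Xt ⟶ Yt₂),
      BlowUp.IsBlowUp b 𝓘 ∧ BlowUp.IsAdmissibleFor (π₁ ⁻¹ᵁ U₁ ⊓ π₂ ⁻¹ᵁ U₂) 𝓘 ∧
      BlowUp.IsBlowUp c₁ 𝓙₁ ∧ BlowUp.IsFiniteTypeIdeal 𝓙₁ ∧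
        Disjoint (𝓙₁.support : Set Y₁) ((fun x => π₁ x) '' ((π₁ ⁻¹ᵁ U₁ ⊓ π₂ ⁻¹ᵁ U₂ : X.Opens) : Set X)) ∧
      BlowUp.IsBlowUp c₂ 𝓙₂ ∧ BlowUp.IsFiniteTypeIdeal 𝓙₂ ∧
        Disjoint (𝓙₂.support : Set Y₂) ((fun x => π₂ x) '' ((π₁ ⁻¹ᵁ U₁ ⊓ π₂ ⁻¹ᵁ U₂ : X.Opens) : Set X)) ∧
      IsOpenImmersion j₁ ∧ IsOpenImmersion j₂ ∧ j₁ ≫ c₁ = b ≫ π₁ ∧ j₂ ≫ c₂ = b ≫ π₂ := by
  obtain ⟨A, hAU, hAc, hAp, hAi⟩ := exists_image π₁ U₁ (π₁ ⁻¹ᵁ U₁ ⊓ π₂ ⁻¹ᵁ U₂) inf_le_left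
    (QuasiSeparatedSpace.inter_isCompact _ _ (π₁ ⁻¹ᵁ U₁).2 (π₁.isCompact_preimage hU₁)
      (π₂ ⁻¹ᵁ U₂).2 (π₂.isCompact_preimage hU₂))
  obtain ⟨B, hBU, hBc, hBp, hBi⟩ := exists_image π₂ U₂ (π₁ ⁻¹ᵁ U₁ ⊓ π₂ ⁻¹ᵁ U₂) inf_le_right
    (QuasiSeparatedSpace.inter_isCompact _ _ (π₁ ⁻¹ᵁ U₁).2 (π₁.isCompact_preimage hU₁)
      (π₂ ⁻¹ᵁ U₂).2 (π₂.isCompact_preimage hU₂))
  haveI : IsIso (π₁ ∣_ A) := Groth.NagComp.isIso_restrict_mono π₁ hAU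
  haveI : IsIso (π₂ ∣_ B) := Groth.NagComp.isIso_restrict_mono π₂ hBU
  obtain ⟨I, J₁, J₂, Xt, Yt₁, Yt₂, b, c₁, c₂, j₁, j₂, hb, hbA, hc₁, hJ₁, hc₂, hJ₂, h₁, h₂, w₁, w₂⟩ :=
    Groth.NagComp.exists_two_openImmersions π₁ π₂ A B hAc hBc (hAp.trans hBp.symm)
  exact ⟨I, J₁, J₂, Xt, Yt₁, Yt₂, b, c₁, c₂, j₁, j₂, hb, hAp ▸ hbA, hc₁, hJ₁.1, hAi ▸ hJ₁.2,
    hc₂, hJ₂.1, hBi ▸ hJ₂.2, h₁, h₂, w₁, w₂⟩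

end Groth.Agent.S17388
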