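import Groth.Statements.S1739
import Groth.Agent.LocCohTor.Main

set_option autoImplicit false
universe u
open CategoryTheory
attribute [local instance] HasDerivedCategory.standard
open LocCoh

namespace Groth.Agent.S1739

/-- Let A be a Noetherian ring and I an ideal generated by at most t elements. There is an integer c ≥ 0
such that for every A-module M, every i > t and every q ≥ 0, the module Tor_i^A(M, A/I^q) is
annihilated by I^c. -/
theorem result (A : Type u) [CommRing A] [IsNoetherianRing A] (I : Ideal A) (t : ℕ) (s : Finset A) (hs : I = Ideal.span (s : Set A)) (ht : s.card ≤ t) : ∃ c : ℕ, ∀ (M : Type u) [AddCommGroup M] [Module A M] (i q : ℕ), t < i → ∀ a ∈ I ^ c, ∀ x : DRing.Tor A i M (A ⧸ I ^ q), a • x = 0 := by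
  exact Groth.LocCohTor.exists_annihilate I t s hs ht

end Groth.Agent.S1739
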