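import Groth.Statements.S17390
import Groth.Agent.GrpschAbsch.SchDense
import Groth.Agent.Divisors.EffCartierMore
import Groth.Agent.BlowUpBasics.Universal
import Groth.Agent.BlowUpBasics.Global
import Groth.Agent.BlowUpBasics.StrictTransform
import Groth.Agent.RefRank.AdmBlowUp
import Groth.Agent.HTopHyper.BlowUpProper
-- import your own Groth.Agent.* helpers here

set_option autoImplicit false
universe u
open FlatMor

namespace Groth.Agent.S17390

open AlgebraicGeometry CategoryTheory Limits in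
/-- Let S be a quasi-compact quasi-separated scheme, X and Y separated S-schemes of finite type, U a
quasi-compact scheme with an open immersion jX : U → X with dense image (so U is separated of finite
type over S), V ⊆ Y a quasi-compact open subscheme with an open immersion jV : U → V which is
schematically dense and such that U has dense image in Y, and φ : V → X an S-morphism with jV ≫ φ =
jX which is a quasi-domination of Y over X (its graph morphism V → Y ×_S X has closed image). Let I
be a quasi-coherent ideal of finite type on X with support disjoint from the image of U and b : X̃ →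
X a blowing up of X in I; let W ⊆ X̃ be an open subscheme, u : U → W the lift of jX (u ≫ W.ι ≫ b =
jX), assumed schematically dense as a morphism to X̃, and ψ : W → V an S-morphism with u ≫ ψ = jV
which is a quasi-domination of X̃ over V (its graph morphism W → X̃ ×_S V has closed image). Then ψ
is a blowing up of V in the inverse image ideal I·O_V, hence proper, and the graph morphism W → X̃
×_S Y of ψ followed by V ⊆ Y has closed image. -/
theorem result
    {S U X Y Xt : Scheme.{u}} [CompactSpace S] [QuasiSeparatedSpace S]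
    (gX : X ⟶ S) (gY : Y ⟶ S)
    [IsSeparated gX] [QuasiCompact gX] [LocallyOfFiniteType gX]
    [IsSeparated gY] [QuasiCompact gY] [LocallyOfFiniteType gY]
    (jX : U ⟶ X) [IsOpenImmersion jX] [IsDominant jX] [CompactSpace U]
    (V : Y.Opens) (hVc : IsCompact (V : Set Y))
    (jV : U ⟶ (V : Scheme.{u})) [IsOpenImmersion jV] [IsSchemeTheoreticallyDominant jV]
    [IsDominant (jV ≫ V.ι)]
    (φ : (V : Scheme.{u}) ⟶ X) (hφU : jV ≫ φ = jX) (hφ : V.ι ≫ gY = φ ≫ gX)
    (hφcl : IsClosed (Set.range (fun x => pullback.lift V.ι φ hφ x)))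
    (𝓘 : X.IdealSheafData) (h𝓘 : BlowUp.IsAdmissibleFor jX.opensRange 𝓘)
    (b : Xt ⟶ X) (hb : BlowUp.IsBlowUp b 𝓘)
    (W : Xt.Opens) (u : U ⟶ (W : Scheme.{u})) (hu : u ≫ W.ι ≫ b = jX)
    [IsSchemeTheoreticallyDominant (u ≫ W.ι)]
    (ψ : (W : Scheme.{u}) ⟶ (V : Scheme.{u})) (hψU : u ≫ ψ = jV)
    (hψ : W.ι ≫ b ≫ gX = ψ ≫ V.ι ≫ gY)
    (hψcl : IsClosed (Set.range (fun x => pullback.lift W.ι ψ hψ x))) :
    BlowUp.IsBlowUp ψ (𝓘.comap φ) ∧
      IsClosed (Set.range (fun x => pullback.lift (f := b ≫ gX) (g := gY) W.ι (ψ ≫ V.ι)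
        (hψ.trans (Category.assoc ψ V.ι gY).symm) x)) := by
  haveI : QuasiSeparatedSpace Y := quasiSeparatedSpace_of_quasiSeparated gY
  haveI : CompactSpace (V : Scheme.{u}) := isCompact_iff_compactSpace.mp hVc
  -- on `W` the two maps to `X` agree
  haveI : IsSchemeTheoreticallyDominant u := by
    haveI : CompactSpace X := QuasiCompact.compactSpace_of_compactSpace gX
    haveI : QuasiSeparatedSpace X := quasiSeparatedSpace_of_quasiSeparated gX
    haveI : IsProper b := Groth.HTopHyper.isProper_of_isBlowUp hb h𝓘.1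
    haveI : QuasiSeparatedSpace Xt := quasiSeparatedSpace_of_quasiSeparated b
    haveI : QuasiCompact (u ≫ W.ι) := quasiCompact_of_compactSpace _
    have H : IsPullback (𝟙 U) u (u ≫ W.ι) W.ι := by
      refine ⟨⟨by rw [Category.id_comp]⟩, ⟨PullbackCone.IsLimit.mk _ (fun c => c.fst)
        (fun c => Category.comp_id _) (fun c => ?_)
        (fun c k hk _ => by rw [← hk, Category.comp_id])⟩⟩
      rw [← cancel_mono W.ι, Category.assoc, c.condition]
    exact IsSchemeTheoreticallyDominant.of_isPullback H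
  have hbψ : W.ι ≫ b = ψ ≫ φ := by
    refine Groth.GrpschAbsch.ext_of_isSchemeTheoreticallyDominant gX ?_ u ?_
    · rw [Category.assoc, hψ, Category.assoc, hφ]
    · rw [hu, reassoc_of% hψU, hφU]
  -- the graph of `ψ`
  let γ := pullback.lift W.ι ψ hψ
  haveI : IsImmersion (γ ≫ pullback.fst (b ≫ gX) (V.ι ≫ gY)) := by
    rw [pullback.lift_fst]; infer_instance
  haveI : IsImmersion γ := IsImmersion.of_comp γ (pullback.fst _ _)
  haveI : IsClosedImmersion γ := IsClosedImmersion.of_isPreimmersion γ hψcl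
  obtain ⟨V', c, hc⟩ := Groth.BlowUpBasics.exists_isBlowUp (V : Scheme.{u}) (𝓘.comap φ)
  obtain ⟨t, ht, -⟩ := hb.2 V' (c ≫ φ) (by rw [Scheme.IdealSheafData.comap_comp]; exact hc.1)
  have hW : BlowUp.IsEffCartierIdeal ((𝓘.comap φ).comap ψ) := by
    rw [← Scheme.IdealSheafData.comap_comp, ← hbψ, Scheme.IdealSheafData.comap_comp]
    exact Groth.BlowUpBasics.isEffCartierIdeal_comap_of_flat _ hb.1
  obtain ⟨w, hw, -⟩ := hc.2 _ ψ hW
  have hwt : w ≫ t = W.ι := by
    obtain ⟨_, -, huniq⟩ := hb.2 _ (W.ι ≫ b)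
      (by rw [Scheme.IdealSheafData.comap_comp]
          exact Groth.BlowUpBasics.isEffCartierIdeal_comap_of_flat _ hb.1)
    rw [huniq (w ≫ t) (by simp only [Category.assoc, ht, reassoc_of% hw, hbψ]), huniq W.ι rfl]
  -- `U` is schematically dense in the blow-up
  let V₀ : (V : Scheme.{u}).Opens := Groth.Divisors.complOpens (𝓘.comap φ)
  have hr₀ : Set.range jV ⊆ Set.range V₀.ι := by
    rintro _ ⟨x, rfl⟩
    rw [Scheme.Opens.range_ι]
    show jV x ∉ ((𝓘.comap φ).support : Set _)
    rw [Scheme.IdealSheafData.support_comap]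
    show φ (jV x) ∉ (𝓘.support : Set X)
    rw [← Scheme.Hom.comp_apply, hφU]
    exact fun h => Set.disjoint_left.mp h𝓘.2 h ⟨x, rfl⟩
  let l₀ := IsOpenImmersion.lift V₀.ι jV hr₀
  have hl₀ : l₀ ≫ V₀.ι = jV := IsOpenImmersion.lift_fac _ _ _
  haveI : QuasiSeparatedSpace (V : Scheme.{u}) :=
    QuasiSeparatedSpace.of_isOpenEmbedding V.ι.isOpenEmbedding
  haveI : QuasiCompact jV := quasiCompact_of_compactSpace jV
  have H : IsPullback (𝟙 U) l₀ jV V₀.ι := by
    refine ⟨⟨by rw [Category.id_comp, hl₀]⟩, ⟨PullbackCone.IsLimit.mk _ (fun c => c.fst)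
      (fun c => Category.comp_id _) (fun c => ?_)
      (fun c k hk _ => by rw [← hk, Category.comp_id])⟩⟩
    rw [← cancel_mono V₀.ι, Category.assoc, hl₀, c.condition]
  haveI : IsSchemeTheoreticallyDominant l₀ := IsSchemeTheoreticallyDominant.of_isPullback H
  haveI := Groth.BlowUpBasics.isIso_morphismRestrict hc V₀ disjoint_compl_right
  have hV₀ : c ⁻¹ᵁ V₀ = Groth.Divisors.complOpens ((𝓘.comap φ).comap c) := by
    ext y
    simp [V₀, TopologicalSpace.Closeds.compl, Scheme.IdealSheafData.support_comap]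
  haveI : IsSchemeTheoreticallyDominant (c ⁻¹ᵁ V₀).ι := hV₀ ▸ Groth.Divisors.compl_dominant hc.1
  obtain ⟨u', hu'd, hu'c⟩ : ∃ u' : U ⟶ V', IsSchemeTheoreticallyDominant u' ∧ u' ≫ c = jV :=
    ⟨(l₀ ≫ inv (c ∣_ V₀)) ≫ (c ⁻¹ᵁ V₀).ι, inferInstance, by
      simp only [Category.assoc, ← morphismRestrict_ι, IsIso.inv_hom_id_assoc, hl₀]⟩
  haveI := hu'd
  have huw : u ≫ w = u' := by
    obtain ⟨_, -, huniq⟩ := hc.2 U jV (by
      rw [Groth.BlowUpBasics.comap_eq_top_of_range_subset _ _ (by
        rintro _ ⟨x, rfl⟩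
        rw [← hl₀]
        exact (l₀ x).2)]
      exact Groth.Divisors.isEffCartierIdeal_top)
    rw [huniq (u ≫ w) (by simp only [Category.assoc, hw, hψU]), huniq u' hu'c]
  let θ : V' ⟶ pullback (b ≫ gX) (V.ι ≫ gY) := pullback.lift t c (by rw [reassoc_of% ht, ← hφ])
  have hker : γ.ker ≤ θ.ker := by
    have h1 : (u' ≫ θ).ker = θ.ker := by
      rw [Scheme.Hom.ker_comp, u'.ker_eq_bot, Scheme.IdealSheafData.map_bot]
    rw [← h1, show u' ≫ θ = u ≫ γ by
      apply pullback.hom_ext
      · rw [Category.assoc, pullback.lift_fst, Category.assoc, pullback.lift_fst, ← huw,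
          Category.assoc, hwt]
      · rw [Category.assoc, pullback.lift_snd, Category.assoc, pullback.lift_snd, hu'c, hψU]]
    exact Scheme.Hom.le_ker_comp _ _
  let w' := IsClosedImmersion.lift γ θ hker
  have hw' : w' ≫ γ = θ := IsClosedImmersion.lift_fac _ _ _
  have hw't : w' ≫ W.ι = t := by
    rw [← pullback.lift_fst W.ι ψ hψ, ← Category.assoc, hw', pullback.lift_fst]
  have hw'c : w' ≫ ψ = c := by
    rw [← pullback.lift_snd W.ι ψ hψ, ← Category.assoc, hw', pullback.lift_snd]
  let e : (W : Scheme.{u}) ≅ V' :=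
    ⟨w, w', by rw [← cancel_mono W.ι, Category.assoc, hw't, hwt, Category.id_comp], by
      obtain ⟨_, -, huniq⟩ := hc.2 V' c hc.1
      rw [huniq (w' ≫ w) (by simp only [Category.assoc, hw, hw'c]), huniq (𝟙 V') (Category.id_comp c)]⟩
  refine ⟨?_, ?_⟩
  · have := Groth.RefRank.isBlowUp_iso_comp hc e
    rwa [show e.hom ≫ c = ψ from hw] at this
  · let m : pullback (b ≫ gX) (V.ι ≫ gY) ⟶ pullback (b ≫ gX) gY :=
      pullback.map _ _ _ _ (𝟙 Xt) V.ι (𝟙 S) (by simp) (by simp)
    have hm1 : m ≫ pullback.fst _ _ = pullback.fst _ _ := (pullback.lift_fst _ _ _).trans (Category.comp_id _)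
    have hm2 : m ≫ pullback.snd _ _ = pullback.snd _ _ ≫ V.ι := pullback.lift_snd _ _ _
    let δ := pullback.lift (f := b ≫ gX) (g := gY) W.ι (ψ ≫ V.ι) (hψ.trans (Category.assoc ψ V.ι gY).symm)
    have hδ : δ = γ ≫ m := by
      apply pullback.hom_ext
      · rw [pullback.lift_fst, Category.assoc, hm1, pullback.lift_fst]
      · rw [pullback.lift_snd, Category.assoc, hm2, pullback.lift_snd_assoc]
    let r : pullback (b ≫ gX) gY ⟶ pullback gY gX :=
      pullback.lift (pullback.snd _ _) (pullback.fst _ _ ≫ b)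
        (by rw [Category.assoc, pullback.condition])
    have hδr : δ ≫ r = ψ ≫ pullback.lift V.ι φ hφ := by
      apply pullback.hom_ext
      · rw [Category.assoc, pullback.lift_fst, pullback.lift_snd, Category.assoc, pullback.lift_fst]
      · rw [Category.assoc, pullback.lift_snd, pullback.lift_fst_assoc, Category.assoc, pullback.lift_snd, hbψ]
    show IsClosed (Set.range (fun x => δ x))
    refine isClosed_of_closure_subset fun z hz => ?_
    obtain ⟨v, hv⟩ : r z ∈ Set.range (fun x => pullback.lift V.ι φ hφ x) := by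
      refine closure_minimal ?_ hφcl (map_mem_closure r.continuous hz (t := r.base '' Set.range (fun x => δ x))
        (fun a ha => ⟨a, ha, rfl⟩))
      rintro _ ⟨_, ⟨x, rfl⟩, rfl⟩
      exact ⟨ψ x, (congr($hδr x)).symm⟩
    have hzV : pullback.snd (b ≫ gX) gY z ∈ V := by
      have h := congrArg (pullback.fst gY gX) hv
      rw [← Scheme.Hom.comp_apply, pullback.lift_fst, ← Scheme.Hom.comp_apply, pullback.lift_fst] at h
      rw [← h]
      exact v.2
    obtain ⟨z', rfl⟩ : z ∈ Set.range m := by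
      rw [Scheme.Pullback.range_map]
      exact ⟨⟨(pullback.fst (b ≫ gX) gY) z, rfl⟩, ⟨⟨_, hzV⟩, rfl⟩⟩
    have hz' : z' ∈ closure (Set.range (fun x => γ x)) := by
      rw [m.isOpenEmbedding.isInducing.closure_eq_preimage_closure_image]
      refine closure_mono ?_ hz
      rintro _ ⟨x, rfl⟩
      exact ⟨γ x, ⟨x, rfl⟩, (congr($hδ x)).symm⟩
    obtain ⟨x, hx⟩ := hψcl.closure_eq.le hz'
    exact ⟨x, (congr($hδ x)).trans (congrArg m hx)⟩

end Groth.Agent.S17390
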