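import Groth.Statements.S17391
import Groth.Agent.BlowUpBasics.Separate
import Groth.Agent.Divisors.BlowUpBasic
-- import your own Groth.Agent.* helpers here

set_option autoImplicit false
universe u
open BlowUp

namespace Groth.Agent.S17391

open AlgebraicGeometry CategoryTheory Limits in
/-- Let X and Z be schemes, p : Z → X a morphism, U ⊆ V ⊆ X open subschemes, and f : Y → Z a
quasi-compact immersion whose composite with p lands in U. Let I₁ be a quasi-coherent ideal on X
whose support contains V ∖ U and is disjoint from U, and I₂ a quasi-coherent ideal whose support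
lies in supp(I₁) ∖ V. Assume that the closed subscheme p⁻¹(V(I₁²)) ∩ Ȳ of Z, where Ȳ is the
scheme-theoretic image of f, is contained in p⁻¹(V(I₂)) as a closed subscheme: the inverse image
ideal of I₂ on Z lies in the sum of the inverse image ideal of I₁² and the kernel ideal of f. Then
for every blowing up q : X' → X of X in I₁ + I₂, writing Z' = Z ×_X X' → X' and Y' = Y ×_Z Z' → Z'
for the base changes, the closure in Z' of the image of Y' is disjoint from the preimage in Z' of
the closure in X' of q⁻¹(V ∖ U). (The blowing up is an isomorphism over V, since the support of I₁ +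
I₂ is that of I₂ and lies in X ∖ V; the point is that the closure of q⁻¹(V ∖ U) in X', which may
reach over X ∖ V, still misses the closure of Y'.) -/
theorem result
    {X Y Z X' : Scheme.{u}} (p : Z ⟶ X) (U V : X.Opens) (hUV : U ≤ V)
    (f : Y ⟶ Z) [IsImmersion f] [QuasiCompact f] (hY : Set.range (fun y => p (f y)) ⊆ (U : Set X))
    (𝓘₁ 𝓘₂ : X.IdealSheafData)
    (h₁ : (V : Set X) \ (U : Set X) ⊆ (𝓘₁.support : Set X)) (h₁' : Disjoint (𝓘₁.support : Set X) (U : Set X))
    (h₂ : (𝓘₂.support : Set X) ⊆ (𝓘₁.support : Set X) \ (V : Set X))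
    (hincl : 𝓘₂.comap p ≤ (𝓘₁ * 𝓘₁).comap p ⊔ f.ker)
    (q : X' ⟶ X) (hq : BlowUp.IsBlowUp q (𝓘₁ ⊔ 𝓘₂)) :
    Disjoint (closure (Set.range (fun y => (pullback.snd f (pullback.fst p q)) y)))
      ((fun z => (pullback.snd p q) z) ⁻¹'
        closure ((fun x' => q x') ⁻¹' ((V : Set X) \ (U : Set X)))) := by
  set K := (𝓘₁ ⊔ 𝓘₂).comap q
  set A := 𝓘₁.comap q
  set p' := pullback.snd p q
  set π' := pullback.fst p q
  have hsq : (𝓘₁ * 𝓘₁).comap p ≤ 𝓘₁.comap p :=
    Scheme.IdealSheafData.comap_mono p fun W ↦ by
      rw [Scheme.IdealSheafData.ideal_mul, Pi.mul_apply]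
      exact Ideal.mul_le_right
  have hZ : (𝓘₁ ⊔ 𝓘₂).comap p ≤ 𝓘₁.comap p ⊔ f.ker := by
    rw [Scheme.IdealSheafData.comap_sup]
    exact sup_le le_sup_left (hincl.trans (sup_le_sup_right hsq _))
  have hincl' : K.comap p' ≤ A.comap p' ⊔ f.ker.comap π' := by
    have h := Scheme.IdealSheafData.comap_mono π' hZ
    simp only at h
    rw [Scheme.IdealSheafData.comap_sup (𝓘₁.comap p) f.ker π'] at h
    rw [← Scheme.IdealSheafData.comap_comp, ← Scheme.IdealSheafData.comap_comp, pullback.condition,
      Scheme.IdealSheafData.comap_comp, Scheme.IdealSheafData.comap_comp] at h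
    exact h
  have h := Groth.BlowUpBasics.disjoint_closure_of_le p' (A := A) (K := K) hq.1
    (Scheme.IdealSheafData.comap_mono q le_sup_left) hincl'
    (S := (fun x' => q x') ⁻¹' ((V : Set X) \ (U : Set X)))
    (R := Set.range (fun y => (pullback.snd f π') y))
    (fun y hy ↦ ⟨?_, ?_⟩) ?_
  · exact h.symm
  · rw [Scheme.IdealSheafData.support_comap]
    exact h₁ hy
  · rw [Scheme.IdealSheafData.support_comap, Scheme.IdealSheafData.support_sup]
    intro h'
    exact (h₂ h'.2).2 hy.1
  · rintro _ ⟨y, rfl⟩
    have e : π' ((pullback.snd f π') y) = f ((pullback.fst f π') y) := by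
      rw [← Scheme.Hom.comp_apply, ← pullback.condition]; rfl
    refine ⟨?_, ?_⟩
    · rw [Scheme.IdealSheafData.support_comap]
      show π' _ ∈ (f.ker.support : Set Z)
      rw [e]
      exact f.range_subset_ker_support ⟨_, rfl⟩
    · rw [Scheme.IdealSheafData.support_comap, Scheme.IdealSheafData.support_sup]
      intro h'
      refine h₁'.ne_of_mem h'.1 (show q (p' ((pullback.snd f π') y)) ∈ (U : Set X) from ?_) rfl
      rw [← Scheme.Hom.comp_apply, ← pullback.condition, Scheme.Hom.comp_apply]
      show p (π' _) ∈ (U : Set X)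
      rw [e]
      exact hY ⟨_, rfl⟩

end Groth.Agent.S17391
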