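import Groth.Statements.S17394
import Mathlib
import Groth.Agent.FlatMorOne.MultiSep
import Groth.Agent.BlowUpBasics.Global

set_option autoImplicit false
universe u
open FlatMor

namespace Groth.Agent.S17394

open AlgebraicGeometry CategoryTheory Limits in
/-- Let S be a quasi-compact quasi-separated scheme, X → S separated of finite type, and for i = 1, …, m
let X̄_i → S be proper, o_i : X_i → X̄_i a quasi-compact open immersion and q_i : X_i → X a proper
S-morphism; let U be a scheme with quasi-compact open immersions jU : U → X and v_i : U → X_i such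
that v_i ≫ q_i = jU, with U dense in X, in each X_i and in each X̄_i (via v_i ≫ o_i). Let Y_i ⊆ X_i
be closed subschemes of finite presentation. Let Ū ⊆ X̄_1 ×_S ⋯ ×_S X̄_m be the closure of the image
of U (the scheme-theoretic closure, the morphism being quasi-compact) with projections π_i : Ū →
X̄_i, and assume ⋂_i π_i⁻¹(Y_i) = ∅. Then there are blowing ups c_i : X̄_i' → X̄_i in quasi-coherent
ideals of finite type with support disjoint from X_i (X_i-admissible), with the lifts v_i' : U →
X̄_i' of v_i ≫ o_i, such that, writing Ū' for the closure of the image of U in X̄_1' ×_S ⋯ ×_S X̄_m'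
with projections π_i' and Ȳ_i' for the closure in X̄_i' of c_i⁻¹(Y_i), one has ⋂_i (π_i')⁻¹(Ȳ_i') =
∅. -/
theorem result
    {S X U : Scheme.{u}} [CompactSpace S] [QuasiSeparatedSpace S] {m : ℕ}
    (gX : X ⟶ S) [IsSeparated gX] [QuasiCompact gX] [LocallyOfFiniteType gX]
    (Xi Xb : Fin m → Scheme.{u}) (gb : ∀ i, Xb i ⟶ S) [∀ i, IsProper (gb i)]
    (o : ∀ i, Xi i ⟶ Xb i) [∀ i, IsOpenImmersion (o i)] [∀ i, QuasiCompact (o i)]
    (q : ∀ i, Xi i ⟶ X) [∀ i, IsProper (q i)] (hq : ∀ i, q i ≫ gX = o i ≫ gb i)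
    (jU : U ⟶ X) [IsOpenImmersion jU] [QuasiCompact jU] [IsDominant jU]
    (v : ∀ i, U ⟶ Xi i) [∀ i, IsOpenImmersion (v i)] [∀ i, QuasiCompact (v i)] [∀ i, IsDominant (v i)]
    [∀ i, IsDominant (v i ≫ o i)]
    (hv : ∀ i, v i ≫ q i = jU) (w : ∀ i, (v i ≫ o i) ≫ gb i = jU ≫ gX)
    (Y : ∀ i, (Xi i).IdealSheafData) (hY : ∀ i, BlowUp.IsFiniteTypeIdeal (Y i))
    (hempty : ∀ z ∈ closure (Set.range (fun x => (WidePullback.lift (jU ≫ gX) (fun i => v i ≫ o i) w) x)),
      ∃ i, (WidePullback.π gb i) z ∉ (fun x => o i x) '' ((Y i).support : Set (Xi i))) :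
    ∃ (𝓔 : ∀ i, (Xb i).IdealSheafData) (Xb' : Fin m → Scheme.{u}) (c : ∀ i, Xb' i ⟶ Xb i)
      (v' : ∀ i, U ⟶ Xb' i) (w' : ∀ i, v' i ≫ c i ≫ gb i = jU ≫ gX),
      (∀ i, BlowUp.IsBlowUp (c i) (𝓔 i) ∧ BlowUp.IsAdmissibleFor (o i).opensRange (𝓔 i) ∧
        v' i ≫ c i = v i ≫ o i) ∧
      ∀ z ∈ closure (Set.range (fun x => (WidePullback.lift (jU ≫ gX) (fun i => v' i) w') x)),
        ∃ i, (WidePullback.π (fun i => c i ≫ gb i) i) z ∉
          closure ((fun y => c i y) ⁻¹' ((fun x => o i x) '' ((Y i).support : Set (Xi i)))) := by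
  classical
  have : CompactSpace X := QuasiCompact.compactSpace_of_compactSpace gX
  have : CompactSpace U := QuasiCompact.compactSpace_of_compactSpace jU
  have hXb : ∀ i, CompactSpace (Xb i) := fun i => QuasiCompact.compactSpace_of_compactSpace (gb i)
  have hXbq : ∀ i, QuasiSeparatedSpace (Xb i) := fun i => quasiSeparatedSpace_of_quasiSeparated (gb i)
  have hXi : ∀ i, CompactSpace (Xi i) := fun i => QuasiCompact.compactSpace_of_compactSpace (o i)
  let P := widePullback S Xb gb
  have : QuasiCompact (WidePullback.base gb) := Groth.FlatMorOne.quasiCompact_widePullback_base m Xb gb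
  have : CompactSpace P := QuasiCompact.compactSpace_of_compactSpace (WidePullback.base gb)
  have hπq : ∀ i, QuasiCompact (WidePullback.π gb i) := fun i => quasiCompact_of_compactSpace _
  let ι : U ⟶ P := WidePullback.lift (jU ≫ gX) (fun i => v i ≫ o i) w
  -- a point of the closure lying over some `X_k` lies over every `X_i`
  have hA : ∀ z ∈ closure (Set.range ι), ∀ k i, WidePullback.π gb k z ∈ Set.range (o k) →
      WidePullback.π gb i z ∈ Set.range (o i) := by
    intro z hz k i hk
    let γ : Xi i ⟶ pullback gX (gb i) := pullback.lift (q i) (o i) (hq i)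
    have : IsProper (γ ≫ pullback.fst gX (gb i)) := by rw [pullback.lift_fst]; infer_instance
    have : IsProper γ := IsProper.of_comp γ (pullback.fst gX (gb i))
    have hγ : IsClosed (Set.range γ) := γ.isClosedMap.isClosed_range
    let fst := pullback.fst (WidePullback.π gb k) (o k)
    let mm : pullback (WidePullback.π gb k) (o k) ⟶ pullback gX (gb i) :=
      pullback.lift (pullback.snd _ _ ≫ q k) (fst ≫ WidePullback.π gb i) (by
        rw [Category.assoc, Category.assoc, hq k, ← pullback.condition_assoc,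
          WidePullback.π_arrow, WidePullback.π_arrow])
    let u0 : U ⟶ pullback (WidePullback.π gb k) (o k) := pullback.lift ι (v k) (WidePullback.lift_π _ _ _ _ _)
    obtain ⟨t, rfl⟩ : z ∈ Set.range fst := by
      rw [Scheme.Pullback.range_fst]; exact hk
    have hu0 : fst ⁻¹' Set.range ι = Set.range u0 := by
      have hi : u0 ≫ fst = ι := pullback.lift_fst _ _ _
      rw [← hi]
      ext a
      constructor
      · rintro ⟨b, hb⟩
        exact ⟨b, fst.isOpenEmbedding.injective hb⟩
      · rintro ⟨b, rfl⟩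
        exact ⟨b, rfl⟩
    have ht : t ∈ closure (Set.range u0) := by
      rw [← hu0, ← fst.isOpenEmbedding.isOpenMap.preimage_closure_eq_closure_preimage fst.continuous]
      exact hz
    have hfac : u0 ≫ mm = v i ≫ γ := by
      apply pullback.hom_ext
      · simp only [Category.assoc, mm, γ, pullback.lift_fst]
        erw [pullback.lift_snd_assoc]
        rw [hv, hv]
      · simp only [Category.assoc, mm, γ, pullback.lift_snd]
        erw [pullback.lift_fst_assoc, WidePullback.lift_π]
    have : mm t ∈ closure (Set.range γ) := map_mem_closure mm.continuous ht (by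
      rintro _ ⟨b, rfl⟩
      exact ⟨v i b, congr($(hfac.symm) b)⟩)
    rw [hγ.closure_eq] at this
    obtain ⟨x, hx⟩ := this
    refine ⟨x, ?_⟩
    have hsnd := congrArg (pullback.snd gX (gb i)) hx
    rw [← Scheme.Hom.comp_apply, ← Scheme.Hom.comp_apply, pullback.lift_snd, pullback.lift_snd] at hsnd
    exact hsnd
  -- ideals extending the `Y i`
  have hI : ∀ i, ∃ I : (Xb i).IdealSheafData, (∀ V : (Xb i).affineOpens, (I.ideal V).FG) ∧
      ∀ x : Xi i, o i x ∈ I.support ↔ x ∈ (Y i).support := by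
    intro i
    have hO : IsOpen ((fun x => o i x) '' ((Y i).support : Set (Xi i))ᶜ) :=
      (o i).isOpenEmbedding.isOpenMap _ (Y i).support.isClosed.isOpen_compl
    have hc := (Groth.FlatMorOne.isCompact_compl_support (Y i) (hY i)).image (o i).continuous
    obtain ⟨I, hI, hIs⟩ := Groth.FlatMorOne.exists_ftIdeal_support_eq (X := Xb i)
      ⟨_, hO.isClosed_compl⟩ (show IsCompact (((fun x => o i x) '' ((Y i).support : Set (Xi i))ᶜ)ᶜ)ᶜ by
        rw [compl_compl]; exact hc)
    refine ⟨I, hI, fun x => ?_⟩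
    rw [← SetLike.mem_coe, hIs]
    show o i x ∈ ((fun x => o i x) '' ((Y i).support : Set (Xi i))ᶜ)ᶜ ↔ _
    rw [Set.mem_compl_iff, (o i).isOpenEmbedding.injective.mem_set_image]
    exact not_not
  choose I hIfg hIs using hI
  let L : P.IdealSheafData := Scheme.IdealSheafData.vanishingIdeal ⟨closure (Set.range ι), isClosed_closure⟩
  let T : P.IdealSheafData := (⨆ i, (I i).comap (WidePullback.π gb i)) ⊔ L
  have hT : ∀ i, Disjoint ((T.map (WidePullback.π gb i)).support : Set (Xb i)) (Set.range (o i)) := by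
    intro i
    have := hπq i
    rw [Scheme.IdealSheafData.support_map, TopologicalSpace.Closeds.coe_closure]
    refine Disjoint.closure_left ?_ (o i).isOpenEmbedding.isOpen_range
    rw [Set.disjoint_left]
    rintro _ ⟨p, hp, rfl⟩ hpi
    have hpcl : p ∈ closure (Set.range ι) := by
      have := Scheme.IdealSheafData.support_antitone (le_sup_right : L ≤ T) hp
      rw [← SetLike.mem_coe, Scheme.IdealSheafData.coe_support_vanishingIdeal] at this
      exact this
    obtain ⟨l, hl⟩ := hempty p hpcl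
    obtain ⟨x, hx⟩ := hA p hpcl i l hpi
    refine hl ⟨x, (hIs l x).mp ?_, hx⟩
    have := Scheme.IdealSheafData.support_antitone
      ((le_iSup (fun i => (I i).comap (WidePullback.π gb i)) l).trans le_sup_left : _ ≤ T) hp
    rw [Scheme.IdealSheafData.support_comap] at this
    rw [hx]
    exact this
  have hE : ∀ i, ∃ E : (Xb i).IdealSheafData, BlowUp.IsAdmissibleFor (o i).opensRange E ∧ I i ≤ E ∧
      E ≤ T.map (WidePullback.π gb i) := by
    intro i
    let O : (Xb i).Opens := (o i).opensRange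
    let J := Scheme.IdealSheafData.vanishingIdeal ⟨(O : Set (Xb i))ᶜ, O.2.isClosed_compl⟩ *
      T.map (WidePullback.π gb i)
    have hJs : (J.support : Set (Xb i)) = (O : Set (Xb i))ᶜ := by
      rw [Scheme.IdealSheafData.support_mul, TopologicalSpace.Closeds.coe_sup,
        Scheme.IdealSheafData.coe_support_vanishingIdeal]
      exact Set.union_eq_left.mpr ((hT i).subset_compl_right)
    obtain ⟨E₀, hE₀J, hE₀, hE₀s⟩ := Groth.FlatMorOne.exists_ftIdeal_le J
      (by rw [hJs, compl_compl]; exact isCompact_range (o i).continuous)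
    refine ⟨I i ⊔ E₀, ⟨fun W => Submodule.FG.sup (hIfg i W) (hE₀ W), ?_⟩, le_sup_left, sup_le ?_ ?_⟩
    · rw [Set.disjoint_left]
      intro x hx
      have := Scheme.IdealSheafData.support_antitone (le_sup_right : E₀ ≤ I i ⊔ E₀) hx
      rw [hE₀s, ← SetLike.mem_coe, hJs] at this
      exact this
    · rw [Scheme.IdealSheafData.le_map_iff_comap_le]
      exact (le_iSup (fun i => (I i).comap (WidePullback.π gb i)) i).trans le_sup_left
    · exact hE₀J.trans fun W => Ideal.mul_le_right
  choose E hEadm hIE hET using hE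
  choose Xb' c hc using fun i => Groth.BlowUpBasics.exists_isBlowUp (Xb i) (E i)
  have hv' : ∀ i, ∃ v' : U ⟶ Xb' i, v' ≫ c i = v i ≫ o i := by
    intro i
    have htop : (E i).comap (v i ≫ o i) = ⊤ := Groth.BlowUpBasics.comap_eq_top_of_range_subset _ _ (by
      rintro _ ⟨y, rfl⟩ hy
      exact Set.disjoint_left.mp (hEadm i).2 hy ⟨v i y, rfl⟩)
    obtain ⟨v', hv', -⟩ := (hc i).2 U (v i ≫ o i) (htop ▸ Groth.BlowUpBasics.isEffCartierIdeal_top)
    exact ⟨v', hv'⟩
  choose v' hv' using hv'
  have w' : ∀ i, v' i ≫ c i ≫ gb i = jU ≫ gX := fun i => by rw [← Category.assoc, hv']; exact w i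
  refine ⟨E, Xb', c, v', w', fun i => ⟨hc i, hEadm i, hv' i⟩, fun z hz => ?_⟩
  by_contra! hall
  let g' : ∀ i, Xb' i ⟶ S := fun i => c i ≫ gb i
  let ι' : U ⟶ widePullback S Xb' g' := WidePullback.lift (jU ≫ gX) v' w'
  let h : widePullback S Xb' g' ⟶ P := WidePullback.lift (WidePullback.base g')
    (fun i => WidePullback.π g' i ≫ c i) (fun i => (Category.assoc _ _ _).trans (WidePullback.π_arrow g' i))
  have hι : ι' ≫ h = ι := by
    refine WidePullback.hom_ext gb _ _ (fun i => ?_) ?_
    · rw [Category.assoc, WidePullback.lift_π, WidePullback.lift_π, WidePullback.lift_π_assoc, hv']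
    · rw [Category.assoc, WidePullback.lift_base, WidePullback.lift_base, WidePullback.lift_base]
  have hcl : closure (Set.range ι') ⊆ h ⁻¹' closure (Set.range ι) := fun p hp =>
    map_mem_closure h.continuous hp (by rintro _ ⟨b, rfl⟩; exact ⟨b, congr($(hι.symm) b)⟩)
  obtain ⟨i₀, -⟩ := hempty (h z) (hcl hz)
  -- local generators
  choose W hzW e he hW using fun i => (hc i).1 (WidePullback.π g' i z)
  obtain ⟨_, ⟨A, hAaff, rfl⟩, hzA, hAle⟩ :=
    (widePullback S Xb' g').isBasis_affineOpens.exists_subset_of_mem_open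
      (show z ∈ ⋂ i, (WidePullback.π g' i ⁻¹ᵁ (W i).1 : Set _) from Set.mem_iInter.mpr hzW)
      (isOpen_iInter_of_finite fun i => (WidePullback.π g' i ⁻¹ᵁ (W i).1).2)
  have hAW : ∀ i, A ≤ WidePullback.π g' i ⁻¹ᵁ (W i).1 := fun i x hx => Set.mem_iInter.mp (hAle hx) i
  let A' : (widePullback S Xb' g').affineOpens := ⟨A, hAaff⟩
  let φ : ∀ i, Γ(Xb' i, (W i).1) →+* Γ(widePullback S Xb' g', A) := fun i =>
    ((WidePullback.π g' i).appLE (W i).1 A (hAW i)).hom
  let Pz : Ideal Γ(widePullback S Xb' g', A) :=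
    (IsLocalRing.maximalIdeal _).comap ((widePullback S Xb' g').presheaf.germ A z hzA).hom
  let N : (widePullback S Xb' g').IdealSheafData :=
    Scheme.IdealSheafData.vanishingIdeal ⟨closure (Set.range ι'), isClosed_closure⟩
  -- the inverse image of `I i` lies in `e_i * Pz`
  have hIi : ∀ i, ((I i).comap (WidePullback.π g' i ≫ c i)).ideal A' ≤ Ideal.span {φ i (e i)} * Pz := by
    intro i
    rw [Scheme.IdealSheafData.comap_comp, Groth.BlowUpBasics.ideal_comap (WidePullback.π g' i) ((I i).comap (c i)) (W i) A' (hAW i),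
      Ideal.map_le_iff_le_comap]
    intro a ha
    have hae := Scheme.IdealSheafData.comap_mono (c i) (hIE i) (W i) ha
    rw [hW i] at hae
    obtain ⟨j, rfl⟩ := Ideal.mem_span_singleton.mp hae
    rw [Ideal.mem_comap]
    show φ i (e i * j) ∈ _
    rw [map_mul]
    refine Ideal.mul_mem_mul (Ideal.mem_span_singleton_self _) ?_
    show _ ∈ nonunits _
    intro hu
    have hzD : z ∈ (widePullback S Xb' g').basicOpen (φ i j) :=
      ((widePullback S Xb' g').mem_basicOpen _ _ hzA).mpr hu
    rw [show (widePullback S Xb' g').basicOpen (φ i j) = A ⊓ WidePullback.π g' i ⁻¹ᵁ (Xb' i).basicOpen j from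
      Scheme.basicOpen_appLE _ A (W i).1 (hAW i) j] at hzD
    refine Groth.FlatMorOne.not_mem_basicOpen_of_mul_mem (I := (I i).comap (c i)) (hW i)
      (by rw [mul_comm]; exact ha) ?_ ?_ (hall i) hzD.2
    · rintro p ⟨x, hx, hxp⟩
      rw [SetLike.mem_coe, Scheme.IdealSheafData.support_comap]
      show c i p ∈ (I i).support
      rw [← (show o i x = c i p from hxp)]
      exact (hIs i x).mpr hx
    · rw [Set.disjoint_left]
      rintro p ⟨x, -, hxp⟩ hp
      rw [SetLike.mem_coe, Scheme.IdealSheafData.support_comap] at hp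
      exact Set.disjoint_left.mp (hEadm i).2 hp ⟨x, hxp⟩
  let M : Submodule Γ(widePullback S Xb' g', A) (Γ(widePullback S Xb' g', A) ⧸ N.ideal A') :=
    Submodule.span _ (Set.range fun i => Ideal.Quotient.mk (N.ideal A') (φ i (e i)))
  have hM : M ≤ Pz • M := by
    rw [Submodule.span_le]
    rintro _ ⟨i, rfl⟩
    have h1 : φ i (e i) ∈ (T.comap h).ideal A' := by
      have hle : ((E i).comap (c i)).comap (WidePullback.π g' i) ≤ T.comap h := by
        rw [← Scheme.IdealSheafData.comap_comp, ← (WidePullback.lift_π _ _ _ _ i : h ≫ WidePullback.π gb i = _),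
          Scheme.IdealSheafData.comap_comp]
        exact Scheme.IdealSheafData.comap_mono h ((Scheme.IdealSheafData.le_map_iff_comap_le).mp (hET i))
      refine hle A' ?_
      rw [Groth.BlowUpBasics.ideal_comap (WidePullback.π g' i) ((E i).comap (c i)) (W i) A' (hAW i), hW i]
      exact Ideal.mem_map_of_mem _ (Ideal.mem_span_singleton_self _)
    have h2 : T.comap h ≤ (⨆ l, (I l).comap (WidePullback.π g' l ≫ c l)) ⊔ N := by
      show ((⨆ l, (I l).comap (WidePullback.π gb l)) ⊔ L).comap h ≤ _
      rw [Scheme.IdealSheafData.comap_sup, (Scheme.IdealSheafData.map_gc h).l_iSup]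
      refine sup_le_sup (iSup_mono fun l => le_of_eq ?_) ?_
      · rw [← Scheme.IdealSheafData.comap_comp, WidePullback.lift_π]
      · rw [← Scheme.IdealSheafData.le_support_iff_le_vanishingIdeal, Scheme.IdealSheafData.support_comap]
        intro p hp
        show h p ∈ L.support
        rw [← SetLike.mem_coe, Scheme.IdealSheafData.coe_support_vanishingIdeal]
        exact hcl hp
    have h3 := h2 A' h1
    rw [Scheme.IdealSheafData.ideal_sup, Pi.sup_apply, Scheme.IdealSheafData.ideal_iSup, iSup_apply] at h3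
    obtain ⟨a, ha, b, hb, hab⟩ := Submodule.mem_sup.mp h3
    show Ideal.Quotient.mk (N.ideal A') (φ i (e i)) ∈ Pz • M
    rw [← hab, map_add, Ideal.Quotient.eq_zero_iff_mem.mpr hb, add_zero]
    have : a ∈ Submodule.comap (Submodule.mkQ (N.ideal A')) (Pz • M) := by
      refine (iSup_le fun l => (hIi l).trans ?_ : _ ≤ _) ha
      rw [Ideal.span_singleton_mul_le_iff]
      intro r hr
      show Ideal.Quotient.mk (N.ideal A') (φ l (e l) * r) ∈ Pz • M
      rw [mul_comm, map_mul]
      have hmem : Ideal.Quotient.mk (N.ideal A') (φ l (e l)) ∈ M := Submodule.subset_span ⟨l, rfl⟩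
      exact Submodule.smul_mem_smul hr hmem
    exact this
  obtain ⟨r, hr1, hr0⟩ := Submodule.exists_sub_one_mem_and_smul_eq_zero_of_fg_of_le_smul Pz M
    (Submodule.fg_span (Set.finite_range _)) hM
  have hzr : z ∈ (widePullback S Xb' g').basicOpen r := by
    rw [(widePullback S Xb' g').mem_basicOpen _ _ hzA]
    by_contra hu
    refine (IsLocalRing.maximalIdeal.isMaximal ((widePullback S Xb' g').presheaf.stalk z)).ne_top
      ((Ideal.eq_top_iff_one _).mpr ?_)
    have hr1' : (widePullback S Xb' g').presheaf.germ A z hzA (r - 1) ∈ IsLocalRing.maximalIdeal _ := hr1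
    have hr' : (widePullback S Xb' g').presheaf.germ A z hzA r ∈ IsLocalRing.maximalIdeal _ := hu
    simpa [map_sub] using sub_mem hr' hr1'
  obtain ⟨p, hpr, u, rfl⟩ := mem_closure_iff.mp hz _ ((widePullback S Xb' g').basicOpen r).2 hzr
  have hpA : ι' u ∈ A := (widePullback S Xb' g').basicOpen_le _ hpr
  have hpe : ι' u ∈ (widePullback S Xb' g').basicOpen (φ i₀ (e i₀)) := by
    rw [show (widePullback S Xb' g').basicOpen (φ i₀ (e i₀)) = A ⊓ WidePullback.π g' i₀ ⁻¹ᵁ (Xb' i₀).basicOpen (e i₀) from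
      Scheme.basicOpen_appLE _ A (W i₀).1 (hAW i₀) (e i₀)]
    refine ⟨hpA, ?_⟩
    show WidePullback.π g' i₀ (ι' u) ∈ (Xb' i₀).basicOpen (e i₀)
    have hnot : WidePullback.π g' i₀ (ι' u) ∉ ((E i₀).comap (c i₀)).support := by
      rw [Scheme.IdealSheafData.support_comap]
      intro hp
      refine Set.disjoint_left.mp (hEadm i₀).2 hp ⟨v i₀ u, ?_⟩
      show (v i₀ ≫ o i₀) u = (ι' ≫ WidePullback.π g' i₀ ≫ c i₀) u
      rw [WidePullback.lift_π_assoc, hv']
    rw [Scheme.IdealSheafData.mem_support_iff_of_mem (hAW i₀ hpA), hW i₀, Scheme.zeroLocus_span,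
      Scheme.mem_zeroLocus_iff] at hnot
    simpa using hnot
  have hmem : r * φ i₀ (e i₀) ∈ N.ideal A' := by
    rw [← Ideal.Quotient.eq_zero_iff_mem]
    exact hr0 _ (Submodule.subset_span ⟨i₀, rfl⟩)
  have hN : ι' u ∈ N.support := by
    rw [← SetLike.mem_coe, Scheme.IdealSheafData.coe_support_vanishingIdeal]
    exact subset_closure ⟨u, rfl⟩
  rw [Scheme.IdealSheafData.mem_support_iff_of_mem (U := A') hpA, Scheme.mem_zeroLocus_iff] at hN
  refine hN _ hmem ?_
  rw [Scheme.basicOpen_mul]
  exact ⟨hpr, hpe⟩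

end Groth.Agent.S17394
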