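import Groth.Statements.S17396
import Groth.Agent.Calg6.CycCov.Cover

set_option autoImplicit false
universe u
open CycCov

namespace Groth.Agent.S17396

open Groth.Calg6.CycCov Polynomial Groth.PicAux

open CategoryTheory TopologicalSpace AlgebraicGeometry in
/-- For X integral and smooth over an algebraically closed field k, L an invertible module, N ≥ 1
invertible in k, D_1, …, D_r a strict normal crossing divisor on X with multiplicities α_j, s a
global section of the N-th tensor power of L whose divisor of zeros is D = Σ α_j D_j, and π : Y → X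
with its root datum the normalised cyclic N-th-root cover of X defined by s, the morphism π is étale
over every open W of X disjoint from the components D_j with α_j > 0. (The published claim allows
any effective divisor on a manifold; it is stated here for components forming a strict normal
crossing divisor.) -/
theorem result {k : Type u} [Field k] [IsAlgClosed k] {X Y : Scheme.{u}}
    (f : X ⟶ Spec (CommRingCat.of k)) [Smooth f] [IsIntegral X]
    (L : X.Modules) (hL : PicF.IsInvertible L) (N : ℕ) (hN : 0 < N) (hNk : (N : k) ≠ 0)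
    {r : ℕ} (D : Fin r → X.IdealSheafData) (α : Fin r → ℕ) (hD : LogNCD.IsNCD D f)
    (s : Coh.structureModule X ⟶ CohB1.tensorPow L N) (hs : CycCov.IsZeroDiv (CohB1.tensorPow L N) s (CycCov.divIdeal D α))
    (π : Y ⟶ X) (R : CycCov.Root L N s π) (hR : CycCov.IsCover R)
    (W : X.Opens) (hW : ∀ j : Fin r, 0 < α j → Disjoint (W : Set X) ((D j).support : Set X)) :
    Etale (π ∣_ W) := by
  have key : ∀ w : W, ∃ U : X.affineOpens, w.1 ∈ U.1 ∧ U.1 ≤ W ∧ Etale (π ∣_ U.1) := fun w => by
    obtain ⟨U, e, g, hw, hUW, he, hg⟩ := exists_frame hL N s w.2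
    refine ⟨U, hw, hUW, ?_⟩
    have hunit : IsUnit g := by
      rw [← Ideal.span_singleton_eq_top, ← ideal_eq_span hs U he hg, ideal_divIdeal, ← Ideal.one_eq_top]
      refine Finset.prod_eq_one fun j _ => ?_
      rcases Nat.eq_zero_or_pos (α j) with hj | hj
      · rw [hj, pow_zero]
      · rw [ideal_eq_top_of_disjoint (D j) U ((hW j hj).mono_left hUW), ← Ideal.one_eq_top, one_pow]
    have hb := chart_bijective_of_isUnit R U he hg f hN.ne' hNk hL hR hunit
    have hfin : IsFinite π := hR.1
    have : IsAffine U.1.toScheme := U.2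
    have : IsAffine (π ⁻¹ᵁ U.1).toScheme := U.2.preimage π
    rcases subsingleton_or_nontrivial Γ(X, U.1) with hsub | hnt
    · have : IsEmpty U.1 := ⟨fun z => by
        have : Nonempty U.1 := ⟨z⟩
        have := Scheme.component_nontrivial X U.1
        exact not_subsingleton _ hsub⟩
      have : IsEmpty (π ⁻¹ᵁ U.1).toScheme := Function.isEmpty (π ∣_ U.1)
      infer_instance
    have het := (Groth.EtaleAlgebra.Abhy.etale_adjoinRoot_X_pow_sub_C hN.ne' (natCast_isUnit f hNk U.1)
      hunit.unit).2
    rw [hunit.unit_spec] at het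
    have h1 : (AdjoinRoot.of ((Polynomial.X : Γ(X, U.1)[X]) ^ N - C g)).Etale :=
      RingHom.etale_algebraMap.mpr het
    have h2 : (π.app U.1).hom.Etale := by
      have h3 := RingHom.Etale.stableUnderComposition _ _ h1 (RingHom.Etale.of_bijective hb)
      rwa [show (chartU R U he hg).comp (AdjoinRoot.of _) = (π.app U.1).hom from
        RingHom.ext fun b => chartU_of R U he hg b] at h3
    rw [HasRingHomProperty.iff_of_isAffine (P := @Etale), morphismRestrict_appTop]
    have hle : U.1.ι ''ᵁ ⊤ = U.1 := U.1.ι_image_top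
    have key2 : ∀ (O : X.Opens) (O' : Y.Opens) (h : O' = π ⁻¹ᵁ O), O = U.1 →
        (π.appLE O O' h.le).hom.Etale := by
      rintro O O' rfl rfl
      rwa [Scheme.Hom.appLE_eq_app]
    refine RingHom.Etale.propertyIsLocal.respectsIso.cancel_right_isIso _ _ |>.mpr ?_
    have := key2 _ _ rfl hle
    rwa [Scheme.Hom.appLE_eq_app] at this
  choose U hwU hUW hEt using key
  refine (IsZariskiLocalAtTarget.iff_of_iSup_eq_top (P := @Etale) (fun w => W.ι ⁻¹ᵁ (U w).1)
    (top_le_iff.mp fun w _ => Opens.mem_iSup.mpr ⟨w, hwU w⟩)).mpr fun w => ?_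
  refine (MorphismProperty.arrow_mk_iso_iff @Etale (morphismRestrictRestrict π W (W.ι ⁻¹ᵁ (U w).1))).mpr ?_
  have himg : W.ι ''ᵁ W.ι ⁻¹ᵁ (U w).1 = (U w).1 := by
    rw [Scheme.Hom.image_preimage_eq_opensRange_inf, Scheme.Opens.opensRange_ι, inf_eq_right]
    exact hUW w
  rw [himg]
  exact hEt w

end Groth.Agent.S17396
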