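import Groth.Statements.S17397
import Groth.Agent.Calg6.CycCov.Local
import Groth.Agent.Misc3Bertini.Ring

set_option autoImplicit false
universe u
open CycCov

namespace Groth.Agent.S17397

open Groth.Calg6.CycCov TopologicalSpace

open CategoryTheory AlgebraicGeometry in
/-- For X integral and smooth over an algebraically closed field k, L an invertible module, N ≥ 1
invertible in k, D_1, …, D_r a strict normal crossing divisor on X with multiplicities α_j, s a
global section of the N-th tensor power of L whose divisor of zeros is D = Σ α_j D_j, and π : Y → X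
with its root datum the normalised cyclic N-th-root cover of X defined by s, the open π⁻¹W of Y is
smooth over k (Y is non-singular there) for every open W of X through each point of which at most
one of the components D_j with α_j > 0 passes, that is, W avoids the singular points of the reduced
divisor of D. (The published claim allows any effective divisor on a manifold; it is stated here for
components forming a strict normal crossing divisor.) -/
theorem result {k : Type u} [Field k] [IsAlgClosed k] {X Y : Scheme.{u}}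
    (f : X ⟶ Spec (CommRingCat.of k)) [Smooth f] [IsIntegral X]
    (L : X.Modules) (hL : PicF.IsInvertible L) (N : ℕ) (hN : 0 < N) (hNk : (N : k) ≠ 0)
    {r : ℕ} (D : Fin r → X.IdealSheafData) (α : Fin r → ℕ) (hD : LogNCD.IsNCD D f)
    (s : Coh.structureModule X ⟶ CohB1.tensorPow L N) (hs : CycCov.IsZeroDiv (CohB1.tensorPow L N) s (CycCov.divIdeal D α))
    (π : Y ⟶ X) (R : CycCov.Root L N s π) (hR : CycCov.IsCover R)
    (W : X.Opens) (hW : ∀ x ∈ W, ∀ j j' : Fin r, 0 < α j → 0 < α j' → x ∈ (D j).support → x ∈ (D j').support → j = j') :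
    Smooth ((π ⁻¹ᵁ W).ι ≫ π ≫ f) := by
  have hfin : IsFinite π := hR.1
  have key : ∀ y : (π ⁻¹ᵁ W : Y.Opens), ∃ U : X.affineOpens, π y.1 ∈ U.1 ∧ U.1 ≤ W ∧
      Smooth ((π ⁻¹ᵁ U.1).ι ≫ π ≫ f) := fun y => by
    obtain ⟨U, g, n, hxU, hUW, hreg, -⟩ := exists_kummer R f hN.ne' hNk hL D α hD hs hR {j | 0 < α j}
      (fun _ h => h) (show π y.1 ∈ W from y.2) fun j hj j' hj' h h' => hW _ y.2 j j' hj hj' h h'
    refine ⟨U, hxU, hUW, ?_⟩
    have : IsAffine (π ⁻¹ᵁ U.1).toScheme := U.2.preimage π
    rw [HasRingHomProperty.iff_of_isAffine (P := @Smooth)]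
    let F : Γ(Spec (CommRingCat.of k), ⊤) ⟶ Γ((π ⁻¹ᵁ U.1).toScheme, ⊤) := ((π ⁻¹ᵁ U.1).ι ≫ π ≫ f).appTop
    let e0 := Scheme.ΓSpecIso (CommRingCat.of k)
    have hft : ((e0.inv ≫ F) : CommRingCat.of k ⟶ _).hom.FiniteType := by
      have h1 : e0.inv.hom.FiniteType :=
        RingHom.FiniteType.of_surjective _ (ConcreteCategory.bijective_of_isIso e0.inv).2
      have h2 : LocallyOfFiniteType ((π ⁻¹ᵁ U.1).ι ≫ π ≫ f) := inferInstance
      rw [HasRingHomProperty.iff_of_isAffine (P := @LocallyOfFiniteType)] at h2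
      exact h2.comp h1
    have hreg' : IsRegularRing Γ((π ⁻¹ᵁ U.1).toScheme, ⊤) :=
      IsRegularRing.of_ringEquiv (π ⁻¹ᵁ U.1).topIso.symm.commRingCatIsoToRingEquiv
    letI := ((e0.inv ≫ F) : CommRingCat.of k ⟶ _).hom.toAlgebra
    have : Algebra.FiniteType k Γ((π ⁻¹ᵁ U.1).toScheme, ⊤) := hft
    have hsm : ((e0.inv ≫ F) : CommRingCat.of k ⟶ _).hom.Smooth :=
      Misc3Bertini.smooth_of_regular k fun q hq => IsRegularRing.isRegularLocalRing_localization q
    exact (RingHom.Smooth.propertyIsLocal.respectsIso.cancel_left_isIso e0.inv F).mp hsm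
  choose U hyU hUW hsm using key
  refine (IsZariskiLocalAtSource.iff_of_iSup_eq_top (P := @Smooth)
    (fun y => (π ⁻¹ᵁ W).ι ⁻¹ᵁ (π ⁻¹ᵁ (U y).1))
    (top_le_iff.mp fun y _ => Opens.mem_iSup.mpr ⟨y, hyU y⟩)).mpr fun y => ?_
  rw [← Category.assoc, ← morphismRestrict_ι, Category.assoc]
  have := hsm y
  infer_instance

end Groth.Agent.S17397
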