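import Groth.Statements.S17398
import Groth.Agent.Calg6.CycCov.Push
import Mathlib.RingTheory.RootsOfUnity.AlgebraicallyClosed
import Mathlib.CategoryTheory.Limits.Shapes.Biproducts

set_option autoImplicit false
universe u
open CycCov

namespace Groth.Agent.S17398

open Groth.Calg6.CycCov Groth.PicAux Polynomial TopologicalSpace CategoryTheory AlgebraicGeometry Limits Opposite

/-- Being an isomorphism is checked on small affine opens. -/
theorem isIso_of_small {X : Scheme.{u}} {A B : X.Modules} (φ : A ⟶ B) (P : X.affineOpens → Prop)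
    (hP : ∀ (x : X) (V : X.Opens), x ∈ V → ∃ U, x ∈ U.1 ∧ U.1 ≤ V ∧ P U)
    (h : ∀ U, P U → Function.Bijective (φ.app U.1)) : IsIso φ := by
  rw [Scheme.Modules.Hom.isIso_iff_isIso_app]
  intro V
  rw [ConcreteCategory.isIso_iff_bijective]
  have inj : ∀ V : X.Opens, Function.Injective (φ.app V) := fun V x y hxy => by
    choose U hxU hUV hU using fun z : (V : Type u) => hP z.1 V z.2
    refine res_ext (fun z => (U z).1) hUV (fun z hz => Opens.mem_iSup.mpr ⟨⟨z, hz⟩, hxU ⟨z, hz⟩⟩) fun z => ?_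
    exact (h _ (hU z)).1 (by rw [app_res, app_res, hxy])
  refine ⟨inj V, fun y => ?_⟩
  choose U hxU hUV hU using fun z : (V : Type u) => hP z.1 V z.2
  choose x hx using fun z => (h _ (hU z)).2 (res B (hUV z) y)
  obtain ⟨w, hw, -⟩ := res_glue (fun z => (U z).1) hUV (fun z hz => Opens.mem_iSup.mpr ⟨⟨z, hz⟩, hxU ⟨z, hz⟩⟩) x
    (fun a b => inj _ (by rw [app_res, app_res, hx, hx, res_res, res_res]))
  refine ⟨w, res_ext (fun z => (U z).1) hUV (fun z hz => Opens.mem_iSup.mpr ⟨⟨z, hz⟩, hxU ⟨z, hz⟩⟩) fun z => ?_⟩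
  rw [← app_res, hw, hx]

/-- Sections of sums of morphisms. -/
theorem app_sum {X : Scheme.{u}} {A B : X.Modules} (V : X.Opens) {ι : Type*} (s : Finset ι) (φ : ι → (A ⟶ B))
    (x : Γ(A, V)) : (∑ i ∈ s, φ i).app V x = ∑ i ∈ s, (φ i).app V x := by
  classical
  induction s using Finset.induction with
  | empty => simp only [Finset.sum_empty]; rfl
  | insert i s hi ih =>
    rw [Finset.sum_insert hi, Finset.sum_insert hi, ← ih]
    rfl

open CategoryTheory AlgebraicGeometry Limits in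
/-- For X integral and smooth over an algebraically closed field k, L an invertible module, N ≥ 1
invertible in k, D_1, …, D_r a strict normal crossing divisor on X with multiplicities α_j, s a
global section of the N-th tensor power of L whose divisor of zeros is D = Σ α_j D_j, and π : Y → X
with its root datum the normalised cyclic N-th-root cover of X defined by s, the direct image π_*O_Y
is the direct sum over 0 ≤ i < N of the inverses of the modules L^{(i)} = L^i ⊗ O_X(−[iD/N]): for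
any choice of tensor inverses M_i there are morphisms M_i → π_*O_Y exhibiting π_*O_Y as a coproduct
of the M_i (existence of such morphisms only; the inclusions themselves are not pinned here). (The
published claim allows any effective divisor on a manifold; it is stated here for components forming
a strict normal crossing divisor.) -/
theorem result {k : Type u} [Field k] [IsAlgClosed k] {X Y : Scheme.{u}}
    (f : X ⟶ Spec (CommRingCat.of k)) [Smooth f] [IsIntegral X]
    (L : X.Modules) (hL : PicF.IsInvertible L) (N : ℕ) (hN : 0 < N) (hNk : (N : k) ≠ 0)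
    {r : ℕ} (D : Fin r → X.IdealSheafData) (α : Fin r → ℕ) (hD : LogNCD.IsNCD D f)
    (s : Coh.structureModule X ⟶ CohB1.tensorPow L N) (hs : CycCov.IsZeroDiv (CohB1.tensorPow L N) s (CycCov.divIdeal D α))
    (π : Y ⟶ X) (R : CycCov.Root L N s π) (hR : CycCov.IsCover R)
    (M : Fin N → X.Modules) (hM : ∀ i : Fin N, ClSub.IsInverseOf (CycCov.intPart L D α N i) (M i)) :
    ∃ c : ∀ i : Fin N, M i ⟶ (Scheme.Modules.pushforward π).obj (Coh.structureModule Y),
      Nonempty (IsColimit (Cofan.mk ((Scheme.Modules.pushforward π).obj (Coh.structureModule Y)) c)) := by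
  classical
  have : HasFiniteBiproducts X.Modules := Abelian.hasFiniteBiproducts
  have hN0 := hN.ne'
  let ε : ∀ i : Fin N, CohB1.tensorMod (CohB1.tensorMod (CohB1.tensorPow L i.1)
      (ClSub.idealMod (floorIdeal D α N i.1))) (M i) ≅ Coh.structureModule X := fun i => (hM i).some
  let P : X.affineOpens → Prop := fun U =>
    Nonempty U.1 ∧ (∃ e : Γ(L, U.1), Gen L U.1 e) ∧ (∃ g, Good D U g) ∧ ∀ i, ∃ m : Γ(M i, U.1), Gen (M i) U.1 m
  have hfloor : ∀ i : Fin N, BlowUp.IsEffCartierIdeal (floorIdeal D α N i.1) := fun i x => by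
    obtain ⟨O, hxO, hO⟩ := exists_good f D hD x
    obtain ⟨_, ⟨U, hU, rfl⟩, hxU, hUO⟩ := X.isBasis_affineOpens.exists_subset_of_mem_open hxO O.2
    have : Nonempty (⟨U, hU⟩ : X.affineOpens).1 := ⟨⟨x, hxU⟩⟩
    obtain ⟨g, hg⟩ := hO ⟨U, hU⟩ hUO this
    refine ⟨⟨U, hU⟩, hxU, ∏ j, g j ^ (i.1 * α j / N), mem_nonZeroDivisors_of_ne_zero (hg.prod_ne_zero _), ?_⟩
    rw [floorIdeal, ideal_divIdeal]
    simp only [hg.eq, Ideal.span_singleton_pow, Ideal.prod_span_singleton]
  have hMinv : ∀ i, PicF.IsInvertible (M i) := fun i =>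
    isInvertible_of_isInverseOf (isInvertible_tensorMod (isInvertible_tensorPow hL i.1)
      (isInvertible_idealMod (hfloor i))) (show ClSub.IsInverseOf _ (M i) from hM i)
  have hP : ∀ (x : X) (V : X.Opens), x ∈ V → ∃ U, x ∈ U.1 ∧ U.1 ≤ V ∧ P U := fun x V hxV => by
    obtain ⟨O, hxO, hO⟩ := exists_good f D hD x
    obtain ⟨U₁, e, hxU₁, he⟩ := (isInvertible_iff_exists_gen L).1 hL x
    choose U₂ m hxU₂ hm using fun i => (isInvertible_iff_exists_gen (M i)).1 (hMinv i) x
    have hopen : IsOpen ((V : Set X) ∩ O ∩ U₁ ∩ ⋂ i, (U₂ i : Set X)) :=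
      ((V.2.inter O.2).inter U₁.2).inter (isOpen_iInter_of_finite fun i => (U₂ i).2)
    obtain ⟨_, ⟨U, hU, rfl⟩, hxU, hUle⟩ := X.isBasis_affineOpens.exists_subset_of_mem_open
      (show x ∈ (V : Set X) ∩ O ∩ U₁ ∩ ⋂ i, (U₂ i : Set X) from ⟨⟨⟨hxV, hxO⟩, hxU₁⟩, Set.mem_iInter.mpr hxU₂⟩) hopen
    exact ⟨⟨U, hU⟩, hxU, fun z hz => (hUle hz).1.1.1, ⟨⟨x, hxU⟩⟩,
      ⟨_, he.res (show U ≤ U₁ from fun z hz => (hUle hz).1.2)⟩,
      hO ⟨U, hU⟩ (fun z hz => (hUle hz).1.1.2) ⟨⟨x, hxU⟩⟩,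
      fun i => ⟨_, (hm i).res (show U ≤ U₂ i from fun z hz => Set.mem_iInter.mp (hUle hz).2 i)⟩⟩
  choose W hxW _ hW using fun x : X => hP x ⊤ trivial
  have key : ∀ i : Fin N, ∃ φ : M i ⟶ (Scheme.Modules.pushforward π).obj (Coh.structureModule Y),
      ∀ c : SumChart D α R i.1 (ε i), φ.app c.U.1 c.m = toPush c.ζ := fun i => by
    have hcov : iSup (fun c : SumChart D α R i.1 (ε i) => c.U.1) = ⊤ := top_le_iff.mp fun x _ => by
      obtain ⟨hne, ⟨e, he⟩, ⟨g, hg⟩, hm⟩ := hW x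
      obtain ⟨m, hm⟩ := hm i
      obtain ⟨c, hc⟩ := exists_sumChart R hN0 hR hL hs (ε i) (W x) hne e he g hg m hm
      exact Opens.mem_iSup.mpr ⟨c, hc ▸ hxW x⟩
    exact exists_hom_of_gen hcov (fun c => c.m) (fun c => c.hm) (fun c => toPush c.ζ) fun c d a ha => by
      rw [res_toPush, res_toPush, smul_toPush]
      exact congrArg toPush (sumChart_compat R hN0 hR hL c d a ha)
  choose φ hφ using key
  let Φ : (⨁ M) ⟶ (Scheme.Modules.pushforward π).obj (Coh.structureModule Y) := biproduct.desc φ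
  have hΦ : IsIso Φ := isIso_of_small Φ P hP fun U hU => by
    obtain ⟨hne, ⟨e, he⟩, ⟨g, hg⟩, hm⟩ := hU
    have := hne
    obtain ⟨a, ha⟩ := (he.pow N).exists_coeff le_rfl (show Γ(CohB1.tensorPow L N, U.1) from SecTwist.val s U.1)
    rw [res_self, powSec_eq_lpow] at ha
    have hspan : Ideal.span {a} = Ideal.span {∏ j, g j ^ α j} := by
      rw [← ideal_eq_span hs U he ha, ideal_divIdeal]
      simp only [hg.eq, Ideal.span_singleton_pow, Ideal.prod_span_singleton]
    obtain ⟨v, hv⟩ := Ideal.span_singleton_eq_span_singleton.mp hspan.symm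
    have hex : ∀ i : Fin N, ∃ (m : Γ(M i, U.1)) (ζ : Γ(Y, π ⁻¹ᵁ U.1)), Gen (M i) U.1 m ∧
        (π.app U.1).hom (∏ j, g j ^ (i.1 * α j / N)) * ζ = R.t U e (isGen_of_gen he) ^ i.1 ∧
        (φ i).app U.1 m = toPush ζ := fun i => by
      obtain ⟨m, hm⟩ := hm i
      obtain ⟨c, hc⟩ := exists_sumChart R hN0 hR hL hs (ε i) U hne e he g hg m hm
      subst hc
      obtain ⟨w, hw⟩ := c.he.exists_coeff le_rfl e
      rw [res_self] at hw
      obtain ⟨ζ', hζ'⟩ : ∃ z : Γ(Y, π ⁻¹ᵁ c.U.1),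
          (π.app c.U.1).hom (∏ j, g j ^ (i.1 * α j / N)) * z = R.t c.U e (isGen_of_gen he) ^ i.1 ∧
          ∃ b : (Γ(X, c.U.1))ˣ, z = (π.app c.U.1).hom (b : Γ(X, c.U.1)) * c.ζ := by
        obtain ⟨wu, hwu⟩ := c.he.exists_unit he
        obtain ⟨q, hq⟩ : ∃ q : (Γ(X, c.U.1))ˣ,
            (∏ j, g j ^ (i.1 * α j / N)) * (q : Γ(X, c.U.1)) = ∏ j, c.g j ^ (i.1 * α j / N) :=
          Ideal.span_singleton_eq_span_singleton.mp (by
            simp only [← Ideal.prod_span_singleton, ← Ideal.span_singleton_pow, ← hg.eq, ← c.hg.eq])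
        have hgen : CycCov.IsGen L c.U.1 ((wu : Γ(X, c.U.1)) • c.e) := hwu ▸ isGen_of_gen he
        have ht := R.t_smul c.U c.e (isGen_of_gen c.he) wu hgen
        have ht' : R.t c.U e (isGen_of_gen he) = R.t c.U c.e (isGen_of_gen c.he) * (π.app c.U.1).hom (↑wu⁻¹ : Γ(X, c.U.1)) := by
          rw [← ht, mul_assoc, ← map_mul, Units.mul_inv, map_one, mul_one]
          congr 1
        refine ⟨(π.app c.U.1).hom ((q : Γ(X, c.U.1)) * (↑wu⁻¹ : Γ(X, c.U.1)) ^ i.1) * c.ζ, ?_,
          q * wu⁻¹ ^ i.1, by rw [Units.val_mul, Units.val_pow_eq_pow_val]⟩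
        rw [ht', mul_pow, ← c.hζ, ← hq, map_mul, map_mul, map_pow]
        ring
      obtain ⟨hζ1, b, hb⟩ := hζ'
      refine ⟨(b : Γ(X, c.U.1)) • c.m, ζ', c.hm.smul_unit b.isUnit, hζ1, ?_⟩
      rw [Scheme.Modules.Hom.app_smul, hφ, smul_toPush, hb]
    choose m ζ hmgen hζ hmap using hex
    have hV : IsAffineOpen (π ⁻¹ᵁ U.1) := by have : IsFinite π := hR.1; exact U.2.preimage π
    have := isIntegrallyClosed_Γ_of_smooth f U.2
    letI := (π.app U.1).hom.toAlgebra
    have : Module.Finite Γ(X, U.1) Γ(Y, π ⁻¹ᵁ U.1) := by have : IsFinite π := hR.1; exact IsFinite.finite_app π U.1 U.2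
    have hg0 : (∏ j, g j) ≠ 0 := Finset.prod_ne_zero_iff.mpr fun j _ => hg.ne j
    have hfu : IsUnit (resX X (X.basicOpen_le (∏ j, g j)) a) := by
      rw [← hv, map_mul, map_prod]
      refine (IsUnit.prod_iff.mpr fun j _ => ?_).mul (v.isUnit.map _)
      rw [map_pow]
      refine IsUnit.pow _ (isUnit_of_dvd_unit (map_dvd _ (Finset.dvd_prod_of_mem g (Finset.mem_univ j))) ?_)
      exact RingedSpace.isUnit_res_basicOpen X.toLocallyRingedSpace.toRingedSpace _
    obtain ⟨hinj, hsurj⟩ := chart_generic R f hN0 hNk hL hR U he ha hg0 hfu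
    have : NeZero (N : k) := ⟨hNk⟩
    obtain ⟨w, hw⟩ := HasEnoughRootsOfUnity.exists_primitiveRoot k N
    let ι : k →+* Γ(X, U.1) :=
      (f.appLE ⊤ U.1 (fun z _ => trivial : U.1 ≤ f ⁻¹ᵁ ⊤)).hom.comp (Scheme.ΓSpecIso (CommRingCat.of k)).inv.hom
    let ψ : AdjoinRoot ((Polynomial.X : Γ(X, U.1)[X]) ^ N - Polynomial.C a) →ₐ[Γ(X, U.1)] Γ(Y, π ⁻¹ᵁ U.1) :=
      { chartU R U he ha with commutes' := fun b => chartU_of R U he ha b }
    have hbij := bijective_sum hN (natCast_isUnit f hNk U.1) (hw.map_of_injective ι.injective) g α hg.ne hg.red hg.reg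
      v.isUnit (show a = (v : Γ(X, U.1)) * ∏ j, g j ^ α j by rw [← hv, mul_comm]) (isNormalRing_Γ hR.2.1 hV)
      (fun b hb y hy => eq_zero_of_app_mul R U hN0 hR hL hb hy) ψ hinj hg0 hsurj ζ
      (fun i => by rw [show ψ (AdjoinRoot.root _) = R.t U e (isGen_of_gen he) from chartU_root R U he ha]; exact hζ i)
    have hcoef : ∀ x : Γ(⨁ M, U.1), ∃ b : Fin N → Γ(X, U.1),
        x = ∑ i, (biproduct.ι M i).app U.1 (b i • m i) := fun x => by
      choose b hb using fun i => (hmgen i).exists_coeff le_rfl ((biproduct.π M i).app U.1 x)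
      refine ⟨b, ?_⟩
      have h1 : (∑ i, biproduct.π M i ≫ biproduct.ι M i) = 𝟙 (⨁ M) := biproduct.total
      have h2 := congrArg (fun q : (⨁ M) ⟶ (⨁ M) => q.app U.1 x) h1
      simp only [app_sum] at h2
      refine (h2.trans ?_).symm.trans (Finset.sum_congr rfl fun i _ => ?_)
      · rfl
      · have := hb i; rw [res_self] at this
        exact congrArg ((biproduct.ι M i).app U.1) this
    have heval : ∀ b : Fin N → Γ(X, U.1), Φ.app U.1 (∑ i, (biproduct.ι M i).app U.1 (b i • m i)) =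
        toPush (∑ i, (π.app U.1).hom (b i) * ζ i) := fun b => by
      rw [map_sum]
      refine Finset.sum_congr rfl fun i _ => ?_
      rw [show Φ.app U.1 ((biproduct.ι M i).app U.1 (b i • m i)) = (biproduct.ι M i ≫ Φ).app U.1 (b i • m i) from rfl,
        biproduct.ι_desc, Scheme.Modules.Hom.app_smul, hmap, smul_toPush]
    refine ⟨fun x y hxy => ?_, fun y => ?_⟩
    · obtain ⟨b, rfl⟩ := hcoef x
      obtain ⟨b', rfl⟩ := hcoef y
      rw [heval, heval] at hxy
      rw [show b = b' from hbij.1 hxy]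
    · obtain ⟨b, hb⟩ := hbij.2 y
      exact ⟨_, (heval b).trans hb⟩
  exact ⟨φ, ⟨(biproduct.isColimit M).ofIsoColimit (Cofan.ext (@asIso _ _ _ _ Φ hΦ) fun i => biproduct.ι_desc φ i)⟩⟩

end Groth.Agent.S17398
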