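import Groth.Statements.S1740
import Groth.Agent.Calg7.Derived.Tor
import Groth.Agent.Calg2.TensorFP

set_option autoImplicit false
universe u
open CategoryTheory MonoidalCategory
attribute [local instance] HasDerivedCategory.standard
open LocCoh

namespace Groth.Agent.S1740

/-- The short complex of a kernel. -/
noncomputable abbrev kerSC {R : Type u} [CommRing R] {A B : Type u} [AddCommGroup A] [Module R A]
    [AddCommGroup B] [Module R B] (g : A →ₗ[R] B) : ShortComplex (ModuleCat.{u} R) :=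
  ShortComplex.mk (ModuleCat.ofHom (X := LinearMap.ker g) (Y := A) (LinearMap.ker g).subtype)
    (ModuleCat.ofHom (X := A) (Y := B) g) (by ext x; exact x.2)

theorem kerSC_shortExact {R : Type u} [CommRing R] {A B : Type u} [AddCommGroup A] [Module R A]
    [AddCommGroup B] [Module R B] (g : A →ₗ[R] B) (hg : Function.Surjective g) :
    (kerSC g).ShortExact where
  exact := (ShortComplex.ShortExact.moduleCat_exact_iff_function_exact _).2
    (LinearMap.exact_subtype_ker_map g)
  mono_f := (ModuleCat.mono_iff_injective _).2 Subtype.val_injective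
  epi_g := (ModuleCat.epi_iff_surjective _).2 hg

/-- A short exact sequence which stays injective under `Tor₀(-, N)` splits over a f.p. module. -/
theorem exists_section {R : Type u} [CommRing R] {S : ShortComplex (ModuleCat.{u} R)}
    (hS : S.ShortExact) [Module.FinitePresentation R S.X₃]
    (hinj : ∀ N : ModuleCat.{u} R, Function.Surjective (Groth.Calg7.Tor.mapL 1 S.g N).hom) :
    ∃ s : S.X₃ →ₗ[R] S.X₂, S.g.hom ∘ₗ s = LinearMap.id := by
  have huniv : CAlgX.UniversallyInjective R S.f.hom := by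
    intro Q _ _
    let N : ModuleCat.{u} R := ModuleCat.of R Q
    haveI : Epi (Groth.Calg7.Tor.mapL 1 S.g N) := (ModuleCat.epi_iff_surjective _).2 (hinj N)
    have hδ : Groth.Calg7.Tor.δL hS N 0 = 0 := by
      rw [← cancel_epi (Groth.Calg7.Tor.mapL 1 S.g N), Groth.Calg7.Tor.mapL_g_δL, Limits.comp_zero]
    haveI : Mono (Groth.Calg7.Tor.mapL 0 S.f N) :=
      (Groth.Calg7.Tor.exactL₁ hS N 0).mono_g hδ
    have e : S.f ▷ N = ((Groth.Calg7.Tor.zeroIso.{u} S.X₁).app N).inv ≫
        (Groth.Calg7.Tor.mapL 0 S.f N ≫ ((Groth.Calg7.Tor.zeroIso.{u} S.X₂).app N).hom) := by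
      rw [Iso.eq_inv_comp]
      exact (Groth.Calg7.Tor.mapL_zeroIso.{u} S.f N).symm
    haveI : Mono (S.f ▷ N) := by
      rw [e]
      exact @mono_comp _ _ _ _ _ _ (@IsIso.mono_of_iso _ _ _ _ _ (Iso.isIso_inv _)) _ (@mono_comp _ _ _ _ _ _ ‹_› _ (@IsIso.mono_of_iso _ _ _ _ _ (Iso.isIso_hom _)))
    exact (ModuleCat.mono_iff_injective.{u} (S.f ▷ N)).1 inferInstance
  exact Groth.Calg2.exists_section_of_universallyInjective.{u} S.f.hom S.g.hom
    ((ShortComplex.ShortExact.moduleCat_exact_iff_function_exact _).1 hS.exact)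
    ((ModuleCat.epi_iff_surjective _).1 hS.epi_g) huniv

/-- Let α : M → M' be a map of R-modules with M finitely presented such that the induced map Tor_1(M, N)
→ Tor_1(M', N) is zero for every R-module N. Then α is the composite of a map from M into a free
R-module and a map from that free module to M'. -/
theorem result (R : Type u) [CommRing R] (M M' : Type u) [AddCommGroup M] [Module R M] [Module.FinitePresentation R M] [AddCommGroup M'] [Module R M'] (α : M →ₗ[R] M') (h : ∀ (N : Type u) [AddCommGroup N] [Module R N], ((CategoryTheory.Tor (ModuleCat.{u} R) 1).map (ModuleCat.ofHom α)).app (ModuleCat.of R N) = 0) : ∃ (ι : Type u) (g : M →ₗ[R] (ι →₀ R)) (h : (ι →₀ R) →ₗ[R] M'), α = h ∘ₗ g := by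
  classical
  let π : (M' →₀ R) →ₗ[R] M' := Finsupp.linearCombination R (id : M' → M')
  have hπ : Function.Surjective π := fun q => ⟨Finsupp.single q 1, by simp [π]⟩
  let g : ((M' →₀ R) × M) →ₗ[R] M' :=
    π ∘ₗ LinearMap.fst R (M' →₀ R) M + α ∘ₗ LinearMap.snd R (M' →₀ R) M
  have hga : ∀ x, g x = π x.1 + α x.2 := fun x => rfl
  have hg : Function.Surjective g := fun q => by
    obtain ⟨f, hf⟩ := hπ q
    exact ⟨(f, 0), by rw [hga, map_zero, add_zero]; exact hf⟩
  let Pm : Submodule R ((M' →₀ R) × M) := LinearMap.ker g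
  let q : Pm →ₗ[R] M := LinearMap.snd R (M' →₀ R) M ∘ₗ Pm.subtype
  have hq : Function.Surjective q := fun m => by
    obtain ⟨f, hf⟩ := hπ (- α m)
    exact ⟨⟨(f, m), LinearMap.mem_ker.2 (by rw [hga]; exact (congrArg (· + α m) hf).trans (neg_add_cancel _))⟩, rfl⟩
  let S₁ := kerSC g
  have hS₁ : S₁.ShortExact := kerSC_shortExact g hg
  let S₂ := kerSC (A := Pm) q
  have hS₂ : S₂.ShortExact := kerSC_shortExact (A := Pm) q hq
  have hinj : ∀ N : ModuleCat.{u} R, Function.Surjective (Groth.Calg7.Tor.mapL 1 S₂.g N).hom := by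
    intro N
    let inr : ModuleCat.of R M ⟶ S₁.X₂ := ModuleCat.ofHom (LinearMap.inr R (M' →₀ R) M)
    let snd : S₁.X₂ ⟶ ModuleCat.of R M := ModuleCat.ofHom (LinearMap.snd R (M' →₀ R) M)
    have e1 : inr ≫ S₁.g = ModuleCat.ofHom α := by
      ext m
      show π 0 + α m = α m
      rw [map_zero, zero_add]
    have e2 : inr ≫ snd = 𝟙 (ModuleCat.of R M) := by ext m; rfl
    have e3 : S₁.f ≫ snd = S₂.g := by ext x; rfl
    have hcomp : ∀ {A B C : ModuleCat.{u} R} (a : A ⟶ B) (b : B ⟶ C),
        Groth.Calg7.Tor.mapL 1 (a ≫ b) N =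
          Groth.Calg7.Tor.mapL 1 a N ≫ Groth.Calg7.Tor.mapL 1 b N := fun a b => by
      simp only [Groth.Calg7.Tor.mapL, Functor.map_comp, NatTrans.comp_app]
    intro x
    have hy : (Groth.Calg7.Tor.mapL 1 S₁.g N).hom ((Groth.Calg7.Tor.mapL 1 inr N).hom x) = 0 := by
      rw [← ConcreteCategory.comp_apply, ← hcomp, e1]
      exact congrArg (fun t => t.hom x) (h N)
    obtain ⟨w, hw⟩ := ((ShortComplex.ShortExact.moduleCat_exact_iff_function_exact _).1
      (Groth.Calg7.Tor.exactL₂ hS₁ N 1) _).1 hy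
    refine ⟨w, ?_⟩
    have hw' : (Groth.Calg7.Tor.mapL 1 S₁.f N).hom w = (Groth.Calg7.Tor.mapL 1 inr N).hom x := hw
    rw [← e3, hcomp, ConcreteCategory.comp_apply]
    refine (congrArg _ hw').trans ?_
    rw [← ConcreteCategory.comp_apply, ← hcomp, e2]
    simp only [Groth.Calg7.Tor.mapL, CategoryTheory.Functor.map_id, NatTrans.id_app]
    rfl
  haveI : Module.FinitePresentation R S₂.X₃ := ‹Module.FinitePresentation R M›
  obtain ⟨s, hs⟩ := exists_section hS₂ hinj
  refine ⟨M', -(LinearMap.fst R (M' →₀ R) M ∘ₗ S₁.f.hom ∘ₗ s), π, ?_⟩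
  ext m
  have h1 : π (Pm.subtype (s m)).1 + α (Pm.subtype (s m)).2 = 0 := (s m).2
  have h2 : (Pm.subtype (s m)).2 = m := LinearMap.congr_fun hs m
  rw [h2] at h1
  rw [LinearMap.comp_apply, LinearMap.neg_apply, map_neg]
  exact (neg_eq_of_add_eq_zero_right h1).symm

end Groth.Agent.S1740
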