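import Groth.Statements.S17403
import Groth.Agent.Calg6.CycCov.Irreducible
import Mathlib.RingTheory.RootsOfUnity.AlgebraicallyClosed

set_option autoImplicit false
universe u
open CycCov

namespace Groth.Agent.S17403

open Groth.Calg6.CycCov Groth.PicAux Polynomial TopologicalSpace CategoryTheory AlgebraicGeometry Opposite

open CategoryTheory AlgebraicGeometry Opposite in
/-- For X integral and smooth over an algebraically closed field k, L an invertible module, N ≥ 1
invertible in k, D_1, …, D_r a strict normal crossing divisor on X with multiplicities α_j, s a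
global section of the N-th tensor power of L whose divisor of zeros is D = Σ α_j D_j, and π : Y → X
with its root datum the normalised cyclic N-th-root cover of X defined by s, the scheme Y fails to
be irreducible exactly when, for some divisor μ > 1 of N, s is the μ-th power of a global section s'
of the (N/μ)-th tensor power of L; the power relation is stated frame by frame: on every affine open
with a frame e of L, if s = a · e^{⊗N} and s' = b · e^{⊗(N/μ)} then a = b^μ. (The published claim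
allows any effective divisor on a manifold; it is stated here for components forming a strict normal
crossing divisor.) -/
theorem result {k : Type u} [Field k] [IsAlgClosed k] {X Y : Scheme.{u}}
    (f : X ⟶ Spec (CommRingCat.of k)) [Smooth f] [IsIntegral X]
    (L : X.Modules) (hL : PicF.IsInvertible L) (N : ℕ) (hN : 0 < N) (hNk : (N : k) ≠ 0)
    {r : ℕ} (D : Fin r → X.IdealSheafData) (α : Fin r → ℕ) (hD : LogNCD.IsNCD D f)
    (s : Coh.structureModule X ⟶ CohB1.tensorPow L N) (hs : CycCov.IsZeroDiv (CohB1.tensorPow L N) s (CycCov.divIdeal D α))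
    (π : Y ⟶ X) (R : CycCov.Root L N s π) (hR : CycCov.IsCover R) :
    ¬ IrreducibleSpace Y ↔
      ∃ μ : ℕ, 1 < μ ∧ μ ∣ N ∧ ∃ s' : Coh.structureModule X ⟶ CohB1.tensorPow L (N / μ),
        ∀ (U : X.affineOpens) (e : L.val.obj (op U.1)), CycCov.IsGen L U.1 e →
          ∀ a b : Γ(X, U.1), SecTwist.val s U.1 = a • CycCov.lpow L U.1 e N →
            SecTwist.val s' U.1 = b • CycCov.lpow L U.1 e (N / μ) → a = b ^ μ := by
  classical
  -- the generic point is off the divisor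
  have hη : ∀ j, genericPoint X ∉ (D j).support := fun j hj => by
    obtain ⟨W, hxW, n, v, em, -, het, hgen, -⟩ := hD (genericPoint X) ⟨⟨j, hj⟩⟩
    obtain ⟨_, ⟨U, hU, rfl⟩, hxU, hUW⟩ := X.isBasis_affineOpens.exists_subset_of_mem_open hxW W.2
    have : Nonempty (⟨U, hU⟩ : X.affineOpens).1 := ⟨⟨_, hxU⟩⟩
    obtain ⟨hne, -⟩ := isRegularRing_quot_coord f W v ⟨U, hU⟩ hUW (ULift.up (em ⟨j, hj⟩))
    have hid := hgen ⟨j, hj⟩ ⟨U, hU⟩ hUW
    set g := LogNCD.sectOn W hUW (v (ULift.up (em ⟨j, hj⟩)))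
    have hmem : genericPoint X ∈ X.zeroLocus (U := U) ((D j).ideal ⟨U, hU⟩) ∩ U :=
      ((D j).coe_support_inter ⟨U, hU⟩) ▸ (⟨hj, hxU⟩ : genericPoint X ∈ ((D j).support : Set X) ∩ U)
    have hgm : g ∈ (D j).ideal ⟨U, hU⟩ := hid ▸ Ideal.mem_span_singleton_self g
    refine (Scheme.mem_zeroLocus_iff X _ _).mp hmem.1 g hgm ?_
    refine ((genericPoint_spec X).mem_open_set_iff (X.basicOpen g).2).mpr ?_
    rw [Set.univ_inter, Set.nonempty_iff_ne_empty]
    exact fun h => hne ((basicOpen_eq_bot_iff g).mp (SetLike.coe_injective h))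
  have hopen : IsOpen (⋂ j : Fin r, ((D j).support : Set X)ᶜ) :=
    isOpen_iInter_of_finite fun j => (D j).support.isClosed.isOpen_compl
  obtain ⟨U₀, e₀, a₀, hηU, hUle, he₀, ha₀⟩ :=
    exists_frame hL N s (show genericPoint X ∈ (⟨_, hopen⟩ : X.Opens) from Set.mem_iInter.mpr hη)
  have : Nonempty U₀.1 := ⟨⟨_, hηU⟩⟩
  have hu : IsUnit a₀ := by
    rw [← Ideal.span_singleton_eq_top, ← ideal_eq_span hs U₀ he₀ ha₀, ideal_divIdeal, ← Ideal.one_eq_top]
    refine Finset.prod_eq_one fun j _ => ?_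
    rw [ideal_eq_top_of_disjoint (D j) U₀ (Set.disjoint_left.mpr fun z hz => Set.mem_iInter.mp (hUle hz) j),
      ← Ideal.one_eq_top, one_pow]
  have := isIntegrallyClosed_Γ_of_smooth f U₀.2
  rw [irreducibleSpace_iff R f hN.ne' hNk hL hR U₀ he₀ ha₀ hu, isDomain_adjoinRoot_iff hN.ne']
  have ha0 : algebraMap Γ(X, U₀.1) (FractionRing Γ(X, U₀.1)) a₀ ≠ 0 := (hu.map (algebraMap Γ(X, U₀.1) (FractionRing Γ(X, U₀.1)))).ne_zero
  constructor
  · intro h
    have : NeZero (N : k) := ⟨hNk⟩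
    obtain ⟨ζ, hζ⟩ := HasEnoughRootsOfUnity.exists_primitiveRoot k N
    let ι : k →+* (FractionRing Γ(X, U₀.1)) := (algebraMap Γ(X, U₀.1) (FractionRing Γ(X, U₀.1))).comp
      ((f.appLE ⊤ U₀.1 (fun z _ => trivial : U₀.1 ≤ f ⁻¹ᵁ ⊤)).hom.comp (Scheme.ΓSpecIso (CommRingCat.of k)).inv.hom)
    obtain ⟨μ, hμ1, hμN, β, hβ⟩ := exists_pow_eq_of_not_irreducible hN (hζ.map_of_injective ι.injective) ha0 h
    have hint : IsIntegral Γ(X, U₀.1) β := ⟨Polynomial.X ^ μ - C a₀, monic_X_pow_sub_C a₀ (by omega), by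
      rw [eval₂_sub, eval₂_X_pow, eval₂_C, hβ, sub_self]⟩
    obtain ⟨b, hb⟩ := IsIntegrallyClosed.algebraMap_eq_of_integral hint
    have hab : a₀ = b ^ μ := IsFractionRing.injective Γ(X, U₀.1) (FractionRing Γ(X, U₀.1)) (by rw [map_pow, hb, hβ])
    have hμM : N / μ * μ = N := Nat.div_mul_cancel hμN
    obtain ⟨s', hs'⟩ := exists_root_section f hN.ne' hL he₀ ha₀ (M := N / μ) (show 0 < μ by omega) hμM hab
    refine ⟨μ, hμ1, hμN, s', fun U e he c d hc hd => ?_⟩
    rcases isEmpty_or_nonempty U.1 with hU | hU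
    · have hbot : U.1 = ⊥ := by ext z; exact ⟨fun hz => (hU.false ⟨z, hz⟩).elim, fun hz => hz.elim⟩
      have : Subsingleton Γ(X, U.1) := by
        rw [hbot]; exact CommRingCat.subsingleton_of_isTerminal X.sheaf.isTerminalOfEmpty
      exact Subsingleton.elim _ _
    have hV : Nonempty (U.1 ⊓ U₀.1 : X.Opens) := nonempty_inf hU ‹_›
    obtain ⟨t, ht⟩ := he₀.exists_coeff (inf_le_right : U.1 ⊓ U₀.1 ≤ U₀.1) (res L (inf_le_left : U.1 ⊓ U₀.1 ≤ U.1) e)
    have : Nonempty U.1 := hU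
    have ht0 : t ≠ 0 := fun h0 => by
      rw [h0, zero_smul] at ht
      have he0 : (e : Γ(L, U.1)) = 0 := inv_sec_eq_zero hL _ hV e ht
      have h01 : (0 : Γ(X, U.1)) • e = (1 : Γ(X, U.1)) • e := by
        rw [show ((1 : Γ(X, U.1)) • e) = e from one_smul _ e, show ((0 : Γ(X, U.1)) • e) = 0 from zero_smul _ e]
        exact he0.symm
      exact zero_ne_one (he.1 h01)
    have hL1 := equation_res (inf_le_left : U.1 ⊓ U₀.1 ≤ U.1) hc
    have hR1 := equation_res (inf_le_right : U.1 ⊓ U₀.1 ≤ U₀.1) ha₀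
    rw [← powSec_eq_lpow] at hL1 hR1
    have hL2 := equation_res (s := s') (inf_le_left : U.1 ⊓ U₀.1 ≤ U.1) hd
    rw [← powSec_eq_lpow] at hL2
    have hs'' := hs'
    rw [powSec_eq_lpow] at hs''
    have hR2 := equation_res (s := s') (inf_le_right : U.1 ⊓ U₀.1 ≤ U₀.1) hs''
    rw [← powSec_eq_lpow] at hR2
    have h1 := hL1.symm.trans hR1
    have h2 := hL2.symm.trans hR2
    rw [ht, powSec_smul] at h1 h2
    erw [smul_smul] at h1 h2
    have h1' : resX X (inf_le_left : U.1 ⊓ U₀.1 ≤ U.1) c * t ^ N = resX X (inf_le_right : U.1 ⊓ U₀.1 ≤ U₀.1) a₀ :=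
      (he₀.pow N).smul_inj (inf_le_right : U.1 ⊓ U₀.1 ≤ U₀.1) (by rw [res_powSec]; exact h1)
    have h2' : resX X (inf_le_left : U.1 ⊓ U₀.1 ≤ U.1) d * t ^ (N / μ) = resX X (inf_le_right : U.1 ⊓ U₀.1 ≤ U₀.1) b :=
      (he₀.pow (N / μ)).smul_inj (inf_le_right : U.1 ⊓ U₀.1 ≤ U₀.1) (by rw [res_powSec]; exact h2)
    refine map_injective_of_isIntegral X (homOfLE (inf_le_left : U.1 ⊓ U₀.1 ≤ U.1)) ?_
    show resX X _ c = resX X _ (d ^ μ)
    refine mul_right_cancel₀ (pow_ne_zero N ht0) ?_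
    rw [h1', hab, map_pow, map_pow, ← h2', mul_pow, ← pow_mul, hμM]
  · rintro ⟨μ, hμ1, hμN, s', hs'⟩ hirr
    have hμM : N / μ * μ = N := Nat.div_mul_cancel hμN
    obtain ⟨b, hb⟩ := ((he₀.pow (N / μ)).exists_coeff le_rfl
      (show Γ(CohB1.tensorPow L (N / μ), U₀.1) from SecTwist.val s' U₀.1))
    rw [res_self, powSec_eq_lpow] at hb
    have hab : a₀ = b ^ μ := hs' U₀ e₀ (isGen_of_gen he₀) a₀ b ha₀ hb
    set M := N / μ
    set β := algebraMap Γ(X, U₀.1) (FractionRing Γ(X, U₀.1)) b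
    have hM : 0 < M := Nat.pos_of_ne_zero fun h0 => by rw [h0, zero_mul] at hμM; omega
    have hdvd : (Polynomial.X : (FractionRing Γ(X, U₀.1))[X]) ^ M - C β ∣ Polynomial.X ^ N - C (algebraMap Γ(X, U₀.1) (FractionRing Γ(X, U₀.1)) a₀) := by
      rw [← hμM, pow_mul, hab, map_pow, map_pow]
      exact sub_dvd_pow_sub_pow _ _ μ
    have hlt : M < N := Nat.div_lt_self hN hμ1
    obtain ⟨q, hq⟩ := hdvd
    rcases hirr.isUnit_or_isUnit hq with h1 | h1
    · exact not_isUnit_of_natDegree_pos _ (by rw [natDegree_X_pow_sub_C]; exact hM) h1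
    · have hmne : (Polynomial.X : (FractionRing Γ(X, U₀.1))[X]) ^ M - C β ≠ 0 := (monic_X_pow_sub_C β hM.ne').ne_zero
      have := congrArg natDegree hq
      rw [natDegree_mul hmne h1.ne_zero, natDegree_X_pow_sub_C, natDegree_X_pow_sub_C,
        natDegree_eq_zero_of_isUnit h1] at this
      omega

end Groth.Agent.S17403
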