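import Groth.Statements.S17407
import Groth.Agent.Calg6.CycCov.Local
import Groth.Agent.BlowUpBasics.IdealComap
import Groth.Agent.Calg6.CycCov.KummerEtale
import Groth.Agent.Calg6.CycCov.NCDBuild

set_option autoImplicit false
universe u
open CycCov

namespace Groth.Agent.S17407

open Groth.Calg6.CycCov Groth.PicAux Polynomial TopologicalSpace CategoryTheory AlgebraicGeometry Opposite

open CategoryTheory AlgebraicGeometry in
/-- For X integral and smooth over an algebraically closed field k, L an invertible module, N ≥ 1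
invertible in k, D_1, …, D_r a strict normal crossing divisor on X with multiplicities α_j, s a
global section of the N-th tensor power of L whose divisor of zeros is D = Σ α_j D_j, and π : Y → X
with its root datum the normalised cyclic N-th-root cover of X defined by s, assume that the
components D_j with α_j > 0 are pairwise disjoint (the reduced divisor of D is non-singular; the D_j
with α_j = 0 form an auxiliary reduced divisor Γ, D + Γ a normal crossing divisor). Then the reduced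
preimages (π^*D_j)_red, j = 1, …, r, form a strict normal crossing divisor on Y over k. (The
published claim is the local statement over an affine open where D has one component; normal
crossings being a local property, it is stated here on all of Y.) -/
theorem result {k : Type u} [Field k] [IsAlgClosed k] {X Y : Scheme.{u}}
    (f : X ⟶ Spec (CommRingCat.of k)) [Smooth f] [IsIntegral X]
    (L : X.Modules) (hL : PicF.IsInvertible L) (N : ℕ) (hN : 0 < N) (hNk : (N : k) ≠ 0)
    {r : ℕ} (D : Fin r → X.IdealSheafData) (α : Fin r → ℕ) (hD : LogNCD.IsNCD D f)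
    (s : Coh.structureModule X ⟶ CohB1.tensorPow L N) (hs : CycCov.IsZeroDiv (CohB1.tensorPow L N) s (CycCov.divIdeal D α))
    (π : Y ⟶ X) (R : CycCov.Root L N s π) (hR : CycCov.IsCover R)
    (hdisj : ∀ (x : X) (j j' : Fin r), 0 < α j → 0 < α j' → x ∈ (D j).support → x ∈ (D j').support → j = j') :
    LogNCD.IsNCD (fun j : Fin r => ((D j).comap π).radical) (π ≫ f) := by
  classical
  intro y hy
  obtain ⟨⟨j₁, hj₁⟩⟩ := hy
  have hsupp : ∀ j, y ∈ ((D j).comap π).radical.support ↔ π y ∈ (D j).support := fun j => by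
    rw [Scheme.IdealSheafData.support_radical, Scheme.IdealSheafData.support_comap]; rfl
  set x := π y with hx
  obtain ⟨W, hxW, m, v, em, hinj, het, hgen, htop⟩ := hD x ⟨⟨j₁, (hsupp j₁).mp hj₁⟩⟩
  obtain ⟨j₀, hj₀, hmax⟩ : ∃ j₀, x ∈ (D j₀).support ∧ ∀ j, x ∈ (D j).support → 0 < α j → j = j₀ := by
    by_cases h : ∃ j, x ∈ (D j).support ∧ 0 < α j
    · obtain ⟨j₀, h0, hα0⟩ := h
      exact ⟨j₀, h0, fun j hj hα => hdisj x j j₀ hα hα0 hj h0⟩
    · push Not at h
      exact ⟨j₁, (hsupp j₁).mp hj₁, fun j hj hα => absurd hα (h j hj).not_gt⟩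
  let i0 : ULift.{u} (Fin m) := ULift.up (em ⟨j₀, hj₀⟩)
  obtain ⟨U, e, g0, hxU, hUW, he, hg0⟩ := exists_frame hL N s hxW
  have : Nonempty U.1 := ⟨⟨x, hxU⟩⟩
  obtain ⟨hgne, hBg⟩ := isRegularRing_quot_coord f W v U hUW i0
  obtain ⟨φ, hφ, hφC, hφX⟩ := exists_etale_map_const f W v U hUW
  obtain ⟨g, hgdef⟩ : ∃ g, g = LogNCD.sectOn W hUW (v i0) := ⟨_, rfl⟩
  rw [← hgdef] at hgne hBg
  have hgj : ∀ (j) (hj : x ∈ (D j).support),
      (D j).ideal U = Ideal.span {φ (MvPolynomial.X (ULift.up (em ⟨j, hj⟩)))} := fun j hj => by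
    rw [hφX]; exact hgen ⟨j, hj⟩ U hUW
  have hφg : φ (MvPolynomial.X i0) = g := (hφX i0).trans hgdef.symm
  -- the equation
  have hf : Ideal.span {g0} = Ideal.span {g ^ α j₀} := by
    rw [← ideal_eq_span hs U he hg0, ideal_divIdeal, Finset.prod_eq_single j₀, hgj j₀ hj₀, hφg,
      Ideal.span_singleton_pow]
    · intro j _ hj
      rcases Nat.eq_zero_or_pos (α j) with h | h
      · rw [h, pow_zero]
      · rw [htop j (fun hxj => hj (hmax j hxj h)) U hUW, ← Ideal.one_eq_top, one_pow]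
    · intro h; exact absurd (Finset.mem_univ _) h
  obtain ⟨uu, huu⟩ := (Ideal.span_singleton_eq_span_singleton.mp hf).symm
  obtain ⟨u, hu, rfl⟩ : ∃ u, IsUnit u ∧ g0 = g ^ α j₀ * u := ⟨uu, uu.isUnit, huu.symm⟩
  -- the Kummer chart
  have hdpos : 0 < Nat.gcd N (α j₀) := Nat.gcd_pos_of_pos_left _ hN
  obtain ⟨n, a', hcop, hNd, had⟩ := Nat.exists_coprime N (α j₀)
  generalize hd : Nat.gcd N (α j₀) = d at hdpos hNd had
  have hn : n ≠ 0 := fun h => hN.ne' (by rw [hNd, h, zero_mul])
  obtain ⟨c, q, l, hexp⟩ := exists_exponents hn hcop.symm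
  rw [mul_comm] at had
  rw [had] at hg0
  have hfg : IsUnit (resX X (X.basicOpen_le g) (g ^ (d * a') * u)) := by
    rw [map_mul, map_pow]
    exact ((RingedSpace.isUnit_res_basicOpen X.toLocallyRingedSpace.toRingedSpace g).pow _).mul (hu.map _)
  have := isRegularRing_Γ f U.2
  obtain ⟨hψinj, hψsurj⟩ := chart_generic R f hN.ne' hNk hL hR U he hg0 hgne hfg
  letI := (π.app U.1).hom.toAlgebra
  have : IsFinite π := hR.1
  have hV : IsAffineOpen (π ⁻¹ᵁ U.1) := U.2.preimage π
  have : Module.Finite Γ(X, U.1) Γ(Y, π ⁻¹ᵁ U.1) := IsFinite.finite_app π U.1 U.2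
  let ψ : AdjoinRoot ((Polynomial.X : Γ(X, U.1)[X]) ^ N - Polynomial.C (g ^ (d * a') * u)) →ₐ[Γ(X, U.1)]
      Γ(Y, π ⁻¹ᵁ U.1) := { chartU R U he hg0 with commutes' := fun b => chartU_of R U he hg0 b }
  obtain ⟨-, ke, hke⟩ := exists_bijective_KE (N := N) (n := n) (a' := a') (c := c) (q := q) (m := l) hdpos.ne' hn
    (by rw [hNd, mul_comm]) (natCast_isUnit f hNk U.1) hexp hu hgne (isNormalRing_Γ hR.2.1 hV)
    (fun b hb z hz => eq_zero_of_app_mul R U hN.ne' hR hL hb hz) ψ hψinj hψsurj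
  let eq : KE d n u g c ≃+* Γ(Y, π ⁻¹ᵁ U.1) := RingEquiv.ofBijective ke.toRingHom hke
  have heq : ∀ b, eq (algebraMap Γ(X, U.1) (KE d n u g c) b) = (π.app U.1).hom b := ke.commutes
  -- the prime of the point
  let pt : (π ⁻¹ᵁ U.1 : Y.Opens) := ⟨y, hxU⟩
  have hmem : ∀ z : Γ(Y, π ⁻¹ᵁ U.1), z ∈ (hV.primeIdealOf pt).asIdeal ↔ y ∉ Y.basicOpen z := fun z => by
    have h := hV.fromSpec_preimage_basicOpen z
    have h' : (hV.primeIdealOf pt : Spec Γ(Y, π ⁻¹ᵁ U.1)) ∈ hV.fromSpec ⁻¹ᵁ Y.basicOpen z ↔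
        (hV.primeIdealOf pt) ∈ PrimeSpectrum.basicOpen z := by rw [h]; rfl
    rw [show (hV.primeIdealOf pt : Spec Γ(Y, π ⁻¹ᵁ U.1)) ∈ hV.fromSpec ⁻¹ᵁ Y.basicOpen z ↔ y ∈ Y.basicOpen z from by
      show hV.fromSpec (hV.primeIdealOf pt) ∈ Y.basicOpen z ↔ _
      rw [hV.fromSpec_primeIdealOf]] at h'
    rw [h', PrimeSpectrum.mem_basicOpen, not_not]
  have hgy : algebraMap Γ(X, U.1) (KE d n u g c) g ∈ (hV.primeIdealOf pt).asIdeal.comap eq.toRingHom := by
    rw [Ideal.mem_comap, hmem]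
    show y ∉ Y.basicOpen (eq _)
    rw [heq, ← Scheme.preimage_basicOpen]
    intro h
    have hz : x ∈ X.zeroLocus (U := U.1) ((D j₀).ideal U) ∩ U.1 :=
      ((D j₀).coe_support_inter U) ▸ (⟨hj₀, hxU⟩ : x ∈ ((D j₀).support : Set X) ∩ U.1)
    refine (Scheme.mem_zeroLocus_iff X _ _).mp hz.1 g ?_ h
    rw [hgj j₀ hj₀, hφg]; exact Ideal.mem_span_singleton_self g
  have hdu : IsUnit (d : Γ(X, U.1)) :=
    isUnit_of_mul_isUnit_right (show IsUnit ((n : Γ(X, U.1)) * d) by
      rw [← Nat.cast_mul, ← hNd]; exact natCast_isUnit f hNk U.1)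
  obtain ⟨t, htq, ht⟩ := exists_etale_chart φ hφ i0 hdpos.ne' hdu hu hφg
    ((hV.primeIdealOf pt).asIdeal.comap eq.toRingHom) hgy
  -- the open
  let V : Y.Opens := Y.basicOpen (eq t)
  have hyV : y ∈ V := by
    rw [Ideal.mem_comap, hmem, not_not] at htq
    exact htq
  have hVle : V ≤ π ⁻¹ᵁ U.1 := Y.basicOpen_le _
  have hVaff : IsAffineOpen V := hV.basicOpen _
  letI : Algebra Γ(Y, π ⁻¹ᵁ U.1) Γ(Y, V) := (resX Y hVle).toAlgebra
  have : IsLocalization.Away (eq t) Γ(Y, V) := hV.isLocalization_of_eq_basicOpen _ (homOfLE hVle) rfl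
  letI : Algebra (KE d n u g c) Γ(Y, V) := ((resX Y hVle).comp eq.toRingHom).toAlgebra
  have : IsLocalization.Away t Γ(Y, V) := by
    have h := IsLocalization.isLocalization_of_base_ringEquiv (Submonoid.powers (eq t)) Γ(Y, V) eq.symm
    rw [Submonoid.map_powers] at h
    simp only [RingEquiv.symm_apply_apply, RingEquiv.symm_symm] at h
    convert h
    · rfl
    · exact (RingEquiv.symm_symm eq).symm
  obtain ⟨χ, hχ, hχC, hχ0, hχi⟩ := ht Γ(Y, V)
  have hres : ∀ b, algebraMap (KE d n u g c) Γ(Y, V) (algebraMap Γ(X, U.1) (KE d n u g c) b) =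
      resX Y hVle ((π.app U.1).hom b) := fun b => congrArg (resX Y hVle) (heq b)
  have hconst : ∀ a, χ (MvPolynomial.C a) = constOn (π ≫ f) V a := fun a => by
    rw [hχC, hres, hφC]
    exact congrArg (fun q => q ((Scheme.ΓSpecIso (CommRingCat.of k)).inv a))
      (Scheme.Hom.appLE_comp_appLE π f ⊤ U.1 V (fun _ _ => trivial) hVle)
  refine ⟨V, hyV, m, fun i => V.topIso.inv (χ (MvPolynomial.X i)),
    fun i => em ⟨i.1, (hsupp i.1).mp i.2⟩, fun a b hab => ?_, etale_homOfVector (π ≫ f) hVaff χ hχ hconst,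
    fun i U' hU' => ?_, fun i hi U' hU' => ?_⟩
  · exact Subtype.ext (congrArg (·.1) (hinj hab))
  · have hle : U'.1 ≤ π ⁻¹ᵁ U.1 := hU'.trans hVle
    have hcomap : ((D i.1).comap π).radical.ideal U' =
        (Ideal.span {resX Y hU' (resX Y hVle ((π.app U.1).hom (φ (MvPolynomial.X
          (ULift.up (em ⟨i.1, (hsupp i.1).mp i.2⟩))))))}).radical := by
      rw [show ((D i.1).comap π).radical.ideal U' = (((D i.1).comap π).ideal U').radical from rfl,
        Groth.BlowUpBasics.ideal_comap π (D i.1) U U' hle, hgj i.1 ((hsupp i.1).mp i.2), Ideal.map_span,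
        Set.image_singleton]
      congr 3
      exact (resX_resX hVle hU' _).symm
    have hsect : ∀ z, LogNCD.sectOn V hU' (V.topIso.inv z) = resX Y hU' z := fun z => by
      rw [LogNCD.sectOn, ← CommRingCat.comp_apply V.topIso.inv, Iso.inv_hom_id, CommRingCat.id_apply]; rfl
    obtain ⟨ρ, hρ, -, hρX⟩ :=
      have := etale_homOfVector (π ≫ f) hVaff χ hχ hconst
      exists_etale_map_const (π ≫ f) V (fun i => V.topIso.inv (χ (MvPolynomial.X i))) U' hU'
    have hrad := fun i => isRadical_span_coord ρ hρ i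
    simp only [hρX, hsect] at hrad
    rw [hcomap, hsect]
    by_cases hi : ULift.up (em ⟨i.1, (hsupp i.1).mp i.2⟩) = i0
    · rw [hi, hφg, hχ0]
      have hw : resX Y hVle ((π.app U.1).hom g) * algebraMap (KE d n u g c) Γ(Y, V)
          (AdjoinRoot.of _ (AdjoinRoot.root _ ^ c)) = algebraMap (KE d n u g c) Γ(Y, V) (AdjoinRoot.root _) ^ n := by
        rw [← hres, ← map_mul, ← map_pow, root_pow, mul_comm]
        exact congrArg _ (map_mul (AdjoinRoot.of _) _ _).symm
      have hv : IsUnit (algebraMap (KE d n u g c) Γ(Y, V) (AdjoinRoot.of _ (AdjoinRoot.root _ ^ c))) := by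
        have : IsUnit (AdjoinRoot.root ((Polynomial.X : Γ(X, U.1)[X]) ^ d - Polynomial.C u)) := by
          rw [← isUnit_pow_iff hdpos.ne', root_pow]; exact hu.map _
        exact ((this.pow c).map _).map _
      have hw' := congrArg (resX Y hU') hw
      rw [map_mul, map_pow (resX Y hU') (algebraMap (KE d n u g c) Γ(Y, V) (AdjoinRoot.root _))] at hw'
      rw [← Ideal.span_singleton_mul_right_unit (hv.map (resX Y hU')), hw', ← Ideal.span_singleton_pow,
        Ideal.radical_pow _ hn]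
      have := hrad i0
      rw [hχ0] at this
      exact this.radical
    · rw [← hres, ← hχi _ hi]
      exact (hrad _).radical
  · rw [show ((D i).comap π).radical.ideal U' = (((D i).comap π).ideal U').radical from rfl,
      Groth.BlowUpBasics.ideal_comap π (D i) U U' (hU'.trans hVle),
      htop i (fun h => hi ((hsupp i).mpr h)) U hUW, Ideal.map_top, Ideal.radical_top]

end Groth.Agent.S17407
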