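import Groth.Statements.S17409
import Groth.Agent.Misc12.Quad2

set_option autoImplicit false
universe u
open Prym5

namespace Groth.Agent.S17409

/-- Over a perfect field K of characteristic different from 2 and 3, let G₂, G₃, G₄ be polynomials in
two variables x, y and consider G₂ z² + 2 G₃ z + G₄ as a polynomial in the three variables x, y, z.
If it lies in the square of the ideal (x, y, z) — the surface it defines has a double point at the
origin — then the discriminant G₃² − G₂ G₄ lies in the square of the ideal (x, y) of K[x, y], so the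
plane curve G₃² − G₂ G₄ = 0 is singular at the origin. (This is the affine-local form used in the
published proof: the surface is a quartic with a node at the centre of projection placed at infinity
on the z-axis, and the curve is the branch sextic of that projection.) -/
theorem result (K : Type u) [Field K] [PerfectField K]
    (h2 : (2 : K) ≠ 0) (h3 : (3 : K) ≠ 0) (G₂ G₃ G₄ : MvPolynomial (Fin 2) K)
    (h : MvPolynomial.rename (Fin.castSucc : Fin 2 → Fin 3) G₂ * MvPolynomial.X (2 : Fin 3) ^ 2
        + 2 * MvPolynomial.rename (Fin.castSucc : Fin 2 → Fin 3) G₃ * MvPolynomial.X (2 : Fin 3)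
        + MvPolynomial.rename (Fin.castSucc : Fin 2 → Fin 3) G₄
        ∈ (Ideal.span (Set.range (MvPolynomial.X : Fin 3 → MvPolynomial (Fin 3) K))) ^ 2) :
    G₃ ^ 2 - G₂ * G₄ ∈ (Ideal.span (Set.range (MvPolynomial.X : Fin 2 → MvPolynomial (Fin 2) K))) ^ 2 := by
  open Groth.Misc12.Quad2 in
  refine Ideal.sub_mem _ ?_ (Ideal.mul_mem_left _ _ (mem_sq_g4 G₂ G₃ G₄ h))
  refine Ideal.pow_mem_pow ?_ 2
  rw [Groth.Misc12.Quad2.mem_vars_iff]
  exact Groth.Misc12.Quad2.mem_sq_g3 G₂ G₃ G₄ h2 h

end Groth.Agent.S17409
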