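import Groth.Statements.S1741
import Groth.Agent.S1740
import Groth.Agent.Calg7.Derived.Balance

set_option autoImplicit false
universe u
open CategoryTheory
attribute [local instance] HasDerivedCategory.standard
open LocCoh

namespace Groth.Agent.S1741

open Groth.Calg7.Tor

variable {R : Type u} [CommRing R]

/-- Precomposition kills `Ext^{n+1}`. -/
def ExtZero (n : ℕ) {M M' : Type u} [AddCommGroup M] [Module R M] [AddCommGroup M'] [Module R M']
    (α : M →ₗ[R] M') : Prop :=
  ∀ (N : ModuleCat.{u} R) (ξ : Abelian.Ext (ModuleCat.of R M') N (n + 1)),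
    (Abelian.Ext.mk₀ (ModuleCat.ofHom α)).comp ξ (zero_add _) = 0

/-- The map on `Tor_{n+1}` vanishes. -/
def TorZero (n : ℕ) {M M' : Type u} [AddCommGroup M] [Module R M] [AddCommGroup M'] [Module R M']
    (α : M →ₗ[R] M') : Prop :=
  ∀ N : ModuleCat.{u} R, mapL (n + 1) (ModuleCat.ofHom α) N = 0

theorem of_factors (n : ℕ) {M M' F : Type u} [AddCommGroup M] [Module R M] [AddCommGroup M'] [Module R M']
    [AddCommGroup F] [Module R F] [Module.Projective R F] (g : M →ₗ[R] F) (h : F →ₗ[R] M') :
    ExtZero n (h ∘ₗ g) ∧ TorZero n (h ∘ₗ g) := by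
  constructor
  · intro N ξ
    haveI : Projective (ModuleCat.of R F) := (IsProjective.iff_projective _).1 inferInstance
    rw [ModuleCat.ofHom_comp, ← Abelian.Ext.mk₀_comp_mk₀, Abelian.Ext.comp_assoc _ _ _ (zero_add 0) (zero_add (n + 1)) (by omega),
      Abelian.Ext.eq_zero_of_projective ((Abelian.Ext.mk₀ (ModuleCat.ofHom h)).comp ξ (zero_add _)),
      Abelian.Ext.comp_zero]
  · intro N
    haveI : Module.Flat R (ModuleCat.of R F) := (Module.Flat.of_projective : Module.Flat R F)
    show ((CategoryTheory.Tor (ModuleCat.{u} R) (n + 1)).map (ModuleCat.ofHom g ≫ ModuleCat.ofHom h)).app N = 0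
    rw [Functor.map_comp, NatTrans.comp_app]
    rw [(isZero_of_flat_left (M := ModuleCat.of R F) N n).eq_of_tgt (((CategoryTheory.Tor (ModuleCat.{u} R) (n + 1)).map (ModuleCat.ofHom g)).app N) 0, Limits.zero_comp]

theorem extZero_zero {M M' : Type u} [AddCommGroup M] [Module R M] [AddCommGroup M'] [Module R M']
    (α : M →ₗ[R] M') (hα : ExtZero 0 α) :
    ∃ (ι : Type u) (g : M →ₗ[R] (ι →₀ R)) (h : (ι →₀ R) →ₗ[R] M'), α = h ∘ₗ g := by
  have hS := presentation_shortExact (ModuleCat.of R M')
  obtain ⟨x, hx⟩ := Abelian.Ext.covariant_sequence_exact₃ (ModuleCat.of R M) hS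
    (Abelian.Ext.mk₀ (ModuleCat.ofHom α)) (zero_add 1) (hα _ hS.extClass)
  refine ⟨M', (Abelian.Ext.homEquiv₀ x).hom, (presentation (ModuleCat.of R M')).g.hom, ?_⟩
  rw [← Abelian.Ext.mk₀_homEquiv₀_apply x, Abelian.Ext.mk₀_comp_mk₀] at hx
  exact (congrArg ModuleCat.Hom.hom ((Abelian.Ext.mk₀_bijective _ _).injective hx)).symm

theorem main [IsNoetherianRing R] (n : ℕ) : ∀ (M M' : Type u) [AddCommGroup M] [Module R M] [Module.Finite R M]
    [AddCommGroup M'] [Module R M'] (α : M →ₗ[R] M'), ExtZero n α ↔ TorZero n α := by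
  induction n with
  | zero =>
    intro M M' _ _ _ _ _ α
    haveI : Module.FinitePresentation R M := Module.finitePresentation_of_finite R M
    constructor
    · intro h
      obtain ⟨ι, g, k, rfl⟩ := extZero_zero α h
      exact (of_factors 0 g k).2
    · intro h
      obtain ⟨ι, g, k, rfl⟩ := S1740.result R M M' α fun N _ _ => h (ModuleCat.of R N)
      exact (of_factors 0 g k).1
  | succ n ih =>
    intro M M' _ _ _ _ _ α
    classical
    obtain ⟨m, π, hπ⟩ := Module.Finite.exists_fin' R M
    let π' : (M' →₀ R) →ₗ[R] M' := Finsupp.linearCombination R (id : M' → M')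
    have hπ' : Function.Surjective π' := fun q => ⟨Finsupp.single q 1, by simp [π']⟩
    obtain ⟨γ, hγ⟩ := Module.projective_lifting_property π' (α ∘ₗ π) hπ'
    have hmem : ∀ x : LinearMap.ker π, γ x.1 ∈ LinearMap.ker π' := fun x => by
      rw [LinearMap.mem_ker, ← LinearMap.comp_apply π' γ, hγ, LinearMap.comp_apply, LinearMap.mem_ker.1 x.2,
        map_zero]
    let β : LinearMap.ker π →ₗ[R] LinearMap.ker π' :=
      (γ ∘ₗ (LinearMap.ker π).subtype).codRestrict (LinearMap.ker π') hmem
    let S := S1740.kerSC π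
    let S' := S1740.kerSC π'
    have hS : S.ShortExact := S1740.kerSC_shortExact π hπ
    have hS' : S'.ShortExact := S1740.kerSC_shortExact π' hπ'
    let ψ : S ⟶ S' :=
      { τ₁ := ModuleCat.ofHom β
        τ₂ := ModuleCat.ofHom γ
        τ₃ := ModuleCat.ofHom α
        comm₁₂ := by ext x; rfl
        comm₂₃ := ModuleCat.hom_ext hγ }
    haveI : Module.Finite R (LinearMap.ker π) := inferInstance
    haveI : Projective S.X₂ := (IsProjective.iff_projective _).1 (inferInstance : Module.Projective R (Fin m → R))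
    haveI : Projective S'.X₂ := (IsProjective.iff_projective _).1 (inferInstance : Module.Projective R (M' →₀ R))
    haveI : Module.Flat R S.X₂ := (inferInstance : Module.Flat R (Fin m → R))
    haveI : Module.Flat R S'.X₂ := (inferInstance : Module.Flat R (M' →₀ R))
    have hE : ExtZero (n + 1) α ↔ ExtZero n (M := ↥(LinearMap.ker π)) (M' := ↥(LinearMap.ker π')) β := by
      constructor
      · intro h N y
        have h1 : hS.extClass.comp ((Abelian.Ext.mk₀ ψ.τ₁).comp y (zero_add _)) (show 1 + (n + 1) = n + 1 + 1 by omega) = 0 := by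
          rw [← Abelian.Ext.comp_assoc hS.extClass (Abelian.Ext.mk₀ ψ.τ₁) y (add_zero 1) (zero_add _) (by omega),
            hS.extClass_naturality hS' ψ,
            Abelian.Ext.comp_assoc (Abelian.Ext.mk₀ ψ.τ₃) hS'.extClass y (zero_add 1) (show 1 + (n + 1) = n + 1 + 1 by omega) (by omega)]
          exact h N _
        obtain ⟨z, hz⟩ := Abelian.Ext.contravariant_sequence_exact₁ hS N _ _ h1
        rw [← show _ = (Abelian.Ext.mk₀ (ModuleCat.ofHom β)).comp y (zero_add _) from hz,
          Abelian.Ext.eq_zero_of_projective z, Abelian.Ext.comp_zero]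
      · intro h N ξ
        obtain ⟨y, hy⟩ := Abelian.Ext.contravariant_sequence_exact₃ hS' N ξ
          (Abelian.Ext.eq_zero_of_projective _) (show 1 + (n + 1) = n + 1 + 1 by omega)
        rw [← hy, ← Abelian.Ext.comp_assoc (Abelian.Ext.mk₀ (ModuleCat.ofHom α)) hS'.extClass y (zero_add 1) _ (by omega)]
        show ((Abelian.Ext.mk₀ ψ.τ₃).comp hS'.extClass _).comp y _ = 0
        rw [← hS.extClass_naturality hS' ψ,
          Abelian.Ext.comp_assoc hS.extClass (Abelian.Ext.mk₀ ψ.τ₁) y (add_zero 1) (zero_add _) (by omega)]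
        show hS.extClass.comp ((Abelian.Ext.mk₀ (ModuleCat.ofHom β)).comp y _) _ = 0
        rw [h N y, Abelian.Ext.comp_zero]
    have hT : TorZero (n + 1) α ↔ TorZero n (M := ↥(LinearMap.ker π)) (M' := ↥(LinearMap.ker π')) β := by
      refine forall_congr' fun N => ?_
      haveI : Mono (δL hS' N (n + 1)) := (exactL₃ hS' N (n + 1)).mono_g
        ((isZero_of_flat_left (M := S'.X₂) N (n + 1)).eq_of_src _ _)
      haveI : Epi (δL hS N (n + 1)) := (exactL₁ hS N (n + 1)).epi_f
        ((isZero_of_flat_left (M := S.X₂) N n).eq_of_tgt _ _)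
      have hnat : mapL (n + 2) (ModuleCat.ofHom α) N ≫ δL hS' N (n + 1) =
          δL hS N (n + 1) ≫ mapL (n + 1) (ModuleCat.ofHom β) N := δL_naturality_seq hS hS' ψ N (n + 1)
      constructor
      · intro h
        rw [← cancel_epi (δL hS N (n + 1)), ← hnat, h, Limits.zero_comp, Limits.comp_zero]
      · intro h
        rw [← cancel_mono (δL hS' N (n + 1)), hnat, h, Limits.comp_zero, Limits.zero_comp]
    have hih : ExtZero n (M := ↥(LinearMap.ker π)) (M' := ↥(LinearMap.ker π')) β ↔ TorZero n (M := ↥(LinearMap.ker π)) (M' := ↥(LinearMap.ker π')) β :=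
      ih ↥(LinearMap.ker π) ↥(LinearMap.ker π') _
    exact hE.trans (hih.trans hT.symm)

/-- Equivalence of (4) and (7) in the Noetherian case. Let R be a Noetherian ring, α : M → M' a map of
R-modules with M finite, and e ≥ 0. Then precomposition with α kills all classes in Ext^{e+1}(M', N)
(maps M' → N[e+1] in D(R)) for every module N if and only if the map Tor_{e+1}(M, N) → Tor_{e+1}(M',
N) induced by α is zero for every module N. -/
theorem result (R : Type u) [CommRing R] [IsNoetherianRing R] (M M' : Type u) [AddCommGroup M] [Module R M] [Module.Finite R M] [AddCommGroup M'] [Module R M'] (α : M →ₗ[R] M') (e : ℕ) : (∀ (N : Type u) [AddCommGroup N] [Module R N] (φ : Dual.inD R M' ⟶ (Dual.inD R N)⟦((e : ℤ) + 1)⟧), (DerivedCategory.singleFunctor (ModuleCat.{u} R) 0).map (ModuleCat.ofHom α) ≫ φ = 0) ↔ (∀ (N : Type u) [AddCommGroup N] [Module R N], ((CategoryTheory.Tor (ModuleCat.{u} R) (e + 1)).map (ModuleCat.ofHom α)).app (ModuleCat.of R N) = 0) := by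
  refine Iff.trans ?_ ((main e M M' α).trans ⟨fun h N _ _ => h (ModuleCat.of R N), fun h N => h N⟩)
  constructor
  · intro h N ξ
    apply Abelian.Ext.homEquiv.injective
    have h1 := h N (ξ.hom)
    simp only [Abelian.Ext.comp_hom, Abelian.Ext.mk₀_hom, ShiftedHom.mk₀_comp, Abelian.Ext.zero_hom]
    exact h1
  · intro h N _ _ φ
    have h1 := congrArg Abelian.Ext.hom (h (ModuleCat.of R N) ((Abelian.Ext.homEquiv (X := ModuleCat.of R M') (Y := ModuleCat.of R N) (n := e + 1)).symm φ))
    simp only [Abelian.Ext.comp_hom, Abelian.Ext.mk₀_hom, ShiftedHom.mk₀_comp, Abelian.Ext.zero_hom] at h1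
    exact (congrArg (CategoryStruct.comp _) (Equiv.apply_symm_apply _ φ)).symm.trans h1

end Groth.Agent.S1741
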