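import Groth.Statements.S17410
import Mathlib

set_option autoImplicit false
universe u
open Prym5

namespace Groth.Agent.S17410

/-- Over a perfect field K of characteristic different from 2 and 3, let h be an irreducible polynomial
of degree 2 in the variable z with coefficients in K[x, y] and A = K[x, y][z]/(h). For every
multiplicative subset S of K[x, y], the localisation S⁻¹A is integral over S⁻¹K[x, y] if and only if
the leading coefficient of h is invertible in S⁻¹K[x, y]; and K(x, y) ⊗ A is a K(x, y)-vector space
of dimension 2. (Geometrically: for a quartic surface with an ordinary double point, written u₂ x₃²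
+ 2 u₃ x₃ + u₄ = 0 with the node at (0:0:0:1), the projection from the node restricted to a standard
affine chart of the plane is given by such an algebra A with leading coefficient the dehomogenised
u₂, so the projection is finite of degree two exactly over the locus u₂ ≠ 0. Stated for any
irreducible h of degree 2, which is all the argument uses.) -/
theorem result (K : Type u) [Field K]
    [PerfectField K] (h2 : (2 : K) ≠ 0) (h3 : (3 : K) ≠ 0)
    (h : Polynomial (MvPolynomial (Fin 2) K)) (hirr : Irreducible h) (hdeg : h.natDegree = 2)
    (S : Submonoid (MvPolynomial (Fin 2) K)) :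
    (Algebra.IsIntegral (Localization S) (Localization (Algebra.algebraMapSubmonoid (AdjoinRoot h) S))
        ↔ IsUnit (algebraMap (MvPolynomial (Fin 2) K) (Localization S) h.leadingCoeff))
      ∧ Module.finrank (FractionRing (MvPolynomial (Fin 2) K))
          (TensorProduct (MvPolynomial (Fin 2) K) (FractionRing (MvPolynomial (Fin 2) K)) (AdjoinRoot h)) = 2 := by
  classical
  set P := MvPolynomial (Fin 2) K
  have h0 : h ≠ 0 := hirr.ne_zero
  refine ⟨⟨fun hint => ?_, fun hu => ?_⟩, ?_⟩
  · -- integral ⇒ the leading coefficient becomes invertible
    by_cases hS : (0 : P) ∈ S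
    · have : Subsingleton (Localization S) := IsLocalization.subsingleton hS
      exact isUnit_of_subsingleton _
    obtain ⟨s, hs⟩ := IsIntegral.exists_multiple_integral_of_isLocalization S
      (algebraMap (AdjoinRoot h) (Localization (Algebra.algebraMapSubmonoid (AdjoinRoot h) S))
        (AdjoinRoot.root h)) (Algebra.IsIntegral.isIntegral (R := Localization S) _)
    obtain ⟨p, hp, hp0⟩ := hs
    have hp0' : algebraMap (AdjoinRoot h) (Localization (Algebra.algebraMapSubmonoid (AdjoinRoot h) S))
        (Polynomial.aeval ((s : P) • AdjoinRoot.root h) p) = 0 := by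
      rw [← Polynomial.aeval_algebraMap_apply, ← hp0]
      show Polynomial.aeval _ p = Polynomial.aeval _ p
      congr 1
      rw [Algebra.algebraMap_eq_smul_one, Algebra.algebraMap_eq_smul_one, smul_assoc]
      rfl
    obtain ⟨⟨m, hm⟩, hm0⟩ := (IsLocalization.map_eq_zero_iff
      (Algebra.algebraMapSubmonoid (AdjoinRoot h) S) _ _).mp hp0'
    obtain ⟨t, ht, rfl⟩ := hm
    have hdvd : h ∣ Polynomial.C t * p.comp (Polynomial.C (s : P) * Polynomial.X) := by
      rw [← AdjoinRoot.mk_eq_zero, map_mul, AdjoinRoot.mk_C, ← hm0]
      congr 1
      rw [← AdjoinRoot.aeval_eq (p.comp _), Polynomial.aeval_comp]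
      simp [Algebra.smul_def]
    obtain ⟨g, hg⟩ := hdvd
    have hlc := congrArg Polynomial.leadingCoeff hg
    have hs0 : (s : P) ≠ 0 := fun h => hS (h ▸ s.2)
    rw [Polynomial.leadingCoeff_mul, Polynomial.leadingCoeff_mul, Polynomial.leadingCoeff_C,
      Polynomial.leadingCoeff_comp (by rw [Polynomial.natDegree_C_mul_X _ hs0]; exact one_ne_zero),
      hp.leadingCoeff, one_mul, Polynomial.leadingCoeff_mul, Polynomial.leadingCoeff_C,
      Polynomial.leadingCoeff_X, mul_one] at hlc
    have hu : IsUnit (algebraMap P (Localization S) (t * (s : P) ^ p.natDegree)) :=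
      IsLocalization.map_units (Localization S) ⟨_, S.mul_mem ht (S.pow_mem s.2 _)⟩
    rw [hlc, map_mul] at hu
    exact isUnit_of_mul_isUnit_left hu
  · -- an invertible leading coefficient gives integrality
    constructor
    intro y
    obtain ⟨a, ⟨m, hm⟩, rfl⟩ := IsLocalization.exists_mk'_eq
      (Algebra.algebraMapSubmonoid (AdjoinRoot h) S) y
    have hroot : IsIntegral (Localization S)
        (algebraMap (AdjoinRoot h) (Localization (Algebra.algebraMapSubmonoid (AdjoinRoot h) S))
          (AdjoinRoot.root h)) := by
      set z := algebraMap (AdjoinRoot h) (Localization (Algebra.algebraMapSubmonoid (AdjoinRoot h) S))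
          (AdjoinRoot.root h)
      have hz : Polynomial.aeval z (h.map (algebraMap P (Localization S))) = 0 := by
        rw [Polynomial.aeval_map_algebraMap, Polynomial.aeval_algebraMap_apply, AdjoinRoot.aeval_eq,
          AdjoinRoot.mk_self, map_zero]
      by_cases hS : (0 : P) ∈ S
      · have : Subsingleton (Localization S) := IsLocalization.subsingleton hS
        exact ⟨Polynomial.X, Polynomial.monic_X,
          by
            have := (algebraMap (Localization S)
              (Localization (Algebra.algebraMapSubmonoid (AdjoinRoot h) S))).codomain_trivial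
            exact Subsingleton.elim _ _⟩
      have hinj : Function.Injective (algebraMap P (Localization S)) :=
        IsLocalization.injective (Localization S) (le_nonZeroDivisors_of_noZeroDivisors hS)
      obtain ⟨w, hw⟩ := hu
      have hint := isIntegral_leadingCoeff_smul _ z hz
      rw [Polynomial.leadingCoeff_map_of_injective hinj, ← hw] at hint
      have := (isIntegral_algebraMap (R := Localization S)
        (A := Localization (Algebra.algebraMapSubmonoid (AdjoinRoot h) S))
        (x := ((w⁻¹ : (Localization S)ˣ) : Localization S))).mul hint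
      rwa [Algebra.smul_def, ← mul_assoc, ← map_mul, Units.inv_mul, map_one, one_mul] at this
    obtain ⟨s, hs, rfl⟩ := hm
    have ha : IsIntegral (Localization S)
        (algebraMap (AdjoinRoot h) (Localization (Algebra.algebraMapSubmonoid (AdjoinRoot h) S)) a) := by
      obtain ⟨q, rfl⟩ := AdjoinRoot.mk_surjective a
      rw [← AdjoinRoot.aeval_eq, ← Polynomial.aeval_algebraMap_apply,
        ← Polynomial.aeval_map_algebraMap (Localization S)]
      exact adjoin_le_integralClosure hroot (Polynomial.aeval_mem_adjoin_singleton _ _)
    have hu' : IsUnit (algebraMap P (Localization S) s) :=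
      IsLocalization.map_units (Localization S) ⟨s, hs⟩
    obtain ⟨w, hw⟩ := hu'
    have heq : IsLocalization.mk' (Localization (Algebra.algebraMapSubmonoid (AdjoinRoot h) S)) a
        ⟨algebraMap P (AdjoinRoot h) s, Algebra.mem_algebraMapSubmonoid_of_mem ⟨s, hs⟩⟩ =
        ((w⁻¹ : (Localization S)ˣ) : Localization S) •
          algebraMap (AdjoinRoot h) (Localization (Algebra.algebraMapSubmonoid (AdjoinRoot h) S)) a := by
      rw [IsLocalization.mk'_eq_iff_eq_mul]
      show _ = _ * algebraMap (AdjoinRoot h) _ (algebraMap P (AdjoinRoot h) s)
      rw [← IsScalarTower.algebraMap_apply, IsScalarTower.algebraMap_apply P (Localization S), ← hw,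
        Algebra.smul_def, mul_right_comm, ← map_mul, Units.inv_mul, map_one, one_mul]
    rw [heq]
    rw [Algebra.smul_def]
    exact isIntegral_algebraMap.mul ha
  · -- dimension two
    set F := FractionRing P
    let e : TensorProduct P F P ≃ₐ[F] F := Algebra.TensorProduct.rid P F F
    let q : Polynomial (TensorProduct P F P) :=
      h.map Algebra.TensorProduct.includeRight.toRingHom
    let e2 := (AdjoinRoot.tensorAlgEquiv (T := F) h q rfl).trans
      (AdjoinRoot.mapAlgEquiv e q (q.map (e : TensorProduct P F P →+* F)) (Associated.refl _))
    rw [e2.toLinearEquiv.finrank_eq]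
    show Module.finrank F (Polynomial F ⧸ Ideal.span {q.map (e : TensorProduct P F P →+* F)}) = 2
    rw [finrank_quotient_span_eq_natDegree]
    have hcomp : q.map (e : TensorProduct P F P →+* F) = h.map (algebraMap P F) := by
      show (h.map _).map _ = _
      rw [Polynomial.map_map]
      congr 1
      ext x <;> simp [e, Algebra.smul_def]
    rw [hcomp, Polynomial.natDegree_map_eq_of_injective (IsFractionRing.injective P F), hdeg]

end Groth.Agent.S17410
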