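import Groth.Statements.S17411
import Groth.Agent.Variety2.DimScheme

set_option autoImplicit false
universe u
open CategoryTheory AlgebraicGeometry
open Prym5

namespace Groth.Agent.S17411

/-- Let k be an algebraically closed field of characteristic zero and X, Y, Z schemes of finite type
over k, with Y and Z irreducible of the same dimension, η : Y → Z a dominant k-morphism and ρ : X →
Y a k-morphism. Then the composite ρ ≫ η is dominant exactly when ρ is dominant. (The published
statement concerns the forgetful map from the moduli space of étale double covers of genus-five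
curves to the moduli space of genus-five curves, both irreducible of dimension 12, and a morphism
into the former; its argument uses only the hypotheses kept here.) -/
theorem result (k : Type u) [Field k] [IsAlgClosed k]
    [CharZero k] (X Y Z : Scheme.{u}) [X.Over (Spec (CommRingCat.of k))] [Y.Over (Spec (CommRingCat.of k))]
    [Z.Over (Spec (CommRingCat.of k))]
    [LocallyOfFiniteType (X ↘ Spec (CommRingCat.of k))] [QuasiCompact (X ↘ Spec (CommRingCat.of k))]
    [LocallyOfFiniteType (Y ↘ Spec (CommRingCat.of k))] [QuasiCompact (Y ↘ Spec (CommRingCat.of k))]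
    [LocallyOfFiniteType (Z ↘ Spec (CommRingCat.of k))] [QuasiCompact (Z ↘ Spec (CommRingCat.of k))]
    [IrreducibleSpace Y] [IrreducibleSpace Z] (hdim : topologicalKrullDim Y = topologicalKrullDim Z)
    (ρ : X ⟶ Y) [ρ.IsOver (Spec (CommRingCat.of k))] (η : Y ⟶ Z) [η.IsOver (Spec (CommRingCat.of k))]
    [IsDominant η] :
    IsDominant (ρ ≫ η) ↔ IsDominant ρ := by
  classical
  refine ⟨fun hdom => ?_, fun h => by infer_instance⟩
  have : IsLocallyNoetherian Y := LocallyOfFiniteType.isLocallyNoetherian (Y ↘ Spec (CommRingCat.of k))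
  have : CompactSpace Y := QuasiCompact.compactSpace_of_compactSpace (Y ↘ Spec (CommRingCat.of k))
  have : IsNoetherian Y := {}
  have hη : η ≫ (Z ↘ Spec (CommRingCat.of k)) = Y ↘ Spec (CommRingCat.of k) := comp_over η _
  set fY := Y ↘ Spec (CommRingCat.of k)
  set fZ := Z ↘ Spec (CommRingCat.of k)
  rw [isDominant_iff, denseRange_iff_closure_range]
  by_contra hne
  obtain ⟨Ts, hTfin, hTc, hTi, hTu⟩ :=
    TopologicalSpace.NoetherianSpace.exists_finite_set_isClosed_irreducible
      (isClosed_closure (s := Set.range ρ))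
  have hgen : ∀ T ∈ Ts, ∃ c ∈ T, closure {c} = T := fun T hT =>
    ⟨(hTi T hT).genericPoint, by
      have := (hTi T hT).isGenericPoint_genericPoint_closure.mem
      rwa [(hTc T hT).closure_eq] at this, by
      have := (hTi T hT).isGenericPoint_genericPoint_closure.def
      rwa [(hTc T hT).closure_eq] at this⟩
  choose c hc hcT using hgen
  -- the image of some generic point is the generic point of `Z`
  have hcover : Set.range (ρ ≫ η) ⊆ ⋃ T : Ts, closure {η (c T.1 T.2)} := by
    rintro _ ⟨x, rfl⟩
    have hx : ρ x ∈ ⋃₀ Ts := hTu ▸ subset_closure ⟨x, rfl⟩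
    obtain ⟨T, hT, hxT⟩ := Set.mem_sUnion.mp hx
    refine Set.mem_iUnion.mpr ⟨⟨T, hT⟩, ?_⟩
    rw [← hcT T hT] at hxT
    exact specializes_iff_mem_closure.mp ((specializes_iff_mem_closure.mpr hxT).map η.continuous)
  have := hTfin.to_subtype
  have hclosed : IsClosed (⋃ T : Ts, closure {η (c T.1 T.2)}) :=
    isClosed_iUnion_of_finite fun _ => isClosed_closure
  have huniv : (⋃ T : Ts, closure {η (c T.1 T.2)}) = Set.univ := by
    apply Set.univ_subset_iff.mp
    rw [← (ρ ≫ η).denseRange.closure_range]
    exact closure_minimal hcover hclosed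
  obtain ⟨⟨T, hT⟩, hgT⟩ := Set.mem_iUnion.mp (huniv ▸ Set.mem_univ (genericPoint Z))
  have heq : η (c T hT) = genericPoint Z :=
    ((specializes_iff_mem_closure.mpr hgT).antisymm (genericPoint_specializes _)).eq
  have hcne : c T hT ≠ genericPoint Y := by
    intro he
    apply hne
    refine Set.univ_subset_iff.mp ?_
    rw [← genericPoint_spec Y, ← he, hcT T hT]
    exact fun y hy => hTu ▸ Set.mem_sUnion.mpr ⟨T, hT, hy⟩
  have hlt : Order.height (c T hT) < Order.height (genericPoint Y) :=
    Groth.Variety2.Dim.height_toNat_lt fY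
      (Groth.Variety2.Dim.lt_iff.mpr ⟨genericPoint_specializes _, hcne⟩)
  have hdimeq : Order.height (genericPoint Y) = Order.height (genericPoint Z) := by
    rw [Groth.Variety2.Dim.dim_eq_height_genericPoint,
      Groth.Variety2.Dim.dim_eq_height_genericPoint] at hdim
    exact WithBot.coe_inj.mp hdim
  obtain ⟨a, ha, ha'⟩ := Groth.Variety2.Dim.exists_trdegAt_eq_height fY (c T hT)
  obtain ⟨b, hb, hb'⟩ := Groth.Variety2.Dim.exists_trdegAt_eq_height fZ (genericPoint Z)
  have hadd := Groth.Variety2.Dim.trdegAt_eq_add fY fZ η hη (c T hT)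
  rw [heq, ha, hb] at hadd
  have hle : b ≤ a := by
    have : (b : Cardinal.{u}) ≤ (a : Cardinal.{u}) := hadd ▸ self_le_add_right _ _
    exact_mod_cast this
  rw [hdimeq, ha', hb', Nat.cast_lt] at hlt
  omega

end Groth.Agent.S17411
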