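import Groth.Statements.S17413
import Groth.Agent.VarietyBC.CotangentInjective
import Groth.Agent.Variety2.SmoothCriterion
-- import your own Groth.Agent.* helpers here

set_option autoImplicit false
universe u
open CategoryTheory AlgebraicGeometry
open Prym5

namespace Groth.Agent.S17413

/-- Let k be an algebraically closed field of characteristic zero, X a reduced scheme of finite type
over k, Y an integral scheme of finite type over k and u : X → Y a k-morphism. Then u is dominant if
and only if there is a closed point P of X such that X is regular at P and the differential of u at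
P is surjective onto the tangent space of Y at u(P); surjectivity of the differential is written
dually as injectivity of the map of cotangent spaces m_{u(P)}/m_{u(P)}² → m_P/m_P² induced by the
local homomorphism of u at P. (The published statement asks only that Y be irreducible, puts no
condition on P and concludes that the scheme-theoretic image is all of Y. Without regularity at P
the backward implication fails: the inclusion of the union of the two coordinate axes into the
affine plane induces a bijection of tangent spaces at the origin and is not dominant. Without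
reducedness of Y the forward implication fails: the reduced line inside the doubled line y² = 0 is
dominant but its differential is nowhere surjective. For Y integral and u quasi-compact, dominance
is the same as the scheme-theoretic image being Y.) -/
theorem result (k : Type u) [Field k]
    [IsAlgClosed k] [CharZero k] (X Y : Scheme.{u})
    [X.Over (Spec (CommRingCat.of k))] [Y.Over (Spec (CommRingCat.of k))]
    [LocallyOfFiniteType (X ↘ Spec (CommRingCat.of k))] [QuasiCompact (X ↘ Spec (CommRingCat.of k))]
    [LocallyOfFiniteType (Y ↘ Spec (CommRingCat.of k))] [QuasiCompact (Y ↘ Spec (CommRingCat.of k))]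
    [AlgebraicGeometry.IsReduced X] [AlgebraicGeometry.IsIntegral Y] (u : X ⟶ Y) [u.IsOver (Spec (CommRingCat.of k))] :
    IsDominant u ↔
      ∃ P : X, IsClosed ({P} : Set X) ∧ IsRegularLocalRing (X.presheaf.stalk P) ∧
        ∀ a ∈ IsLocalRing.maximalIdeal (Y.presheaf.stalk (u P)),
          (u.stalkMap P).hom a ∈ IsLocalRing.maximalIdeal (X.presheaf.stalk P) ^ 2 →
            a ∈ IsLocalRing.maximalIdeal (Y.presheaf.stalk (u P)) ^ 2 := by
  classical
  let qX := X ↘ Spec (CommRingCat.of k)
  let qY := Y ↘ Spec (CommRingCat.of k)
  have hu : u ≫ qY = qX := comp_over u _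
  have := LocallyOfFiniteType.isLocallyNoetherian qX
  have := LocallyOfFiniteType.isLocallyNoetherian qY
  have : CompactSpace X := QuasiCompact.compactSpace_of_compactSpace qX
  have : IsNoetherian X := {}
  have : LocallyOfFiniteType u := by
    have : LocallyOfFiniteType (u ≫ qY) := hu ▸ inferInstanceAs (LocallyOfFiniteType qX)
    exact locallyOfFiniteType_of_comp u qY
  have := Groth.Variety2.locallyOfFinitePresentation_of_noetherian u
  have := Groth.Variety2.locallyOfFinitePresentation_of_noetherian qX
  constructor
  · intro hdom
    -- a component of `X` dominates `Y`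
    obtain ⟨Z, hZ, hη⟩ : ∃ Z ∈ irreducibleComponents X, genericPoint Y ∈ closure (u '' Z) := by
      have h1 : Set.range u = ⋃ Z ∈ irreducibleComponents X, u '' Z := by
        rw [← Set.image_univ, ← sUnion_irreducibleComponents, Set.sUnion_eq_biUnion, Set.image_iUnion₂]
      have h2 : genericPoint Y ∈ closure (Set.range u) := u.denseRange _
      rw [h1, Set.Finite.closure_biUnion finite_irreducibleComponents_of_isNoetherian] at h2
      simpa using h2
    let ξ := hZ.1.genericPoint
    have hξ : closure ({ξ} : Set X) = Z := by
      rw [hZ.1.isGenericPoint_genericPoint_closure.def,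
        (isClosed_of_mem_irreducibleComponents Z hZ).closure_eq]
    have hξη : u ξ = genericPoint Y := by
      have h1 : IsGenericPoint (u ξ) (closure (u '' closure ({ξ} : Set X))) :=
        (isGenericPoint_closure).image u.continuous
      rw [hξ] at h1
      exact ((h1.specializes hη).antisymm (genericPoint_specializes _)).eq
    have hfX : IsField (X.presheaf.stalk ξ) :=
      isField_stalk_of_closure_mem_irreducibleComponents X ξ (hξ ▸ hZ)
    have h0Y : CharZero Y.functionField :=
      charZero_of_injective_ringHom (Curv2.stalkMap k Y (genericPoint Y)).injective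
    have hmem : ∀ {W : Scheme.{u}} [IsIntegral W] (v : X ⟶ W) [LocallyOfFinitePresentation v],
        CharZero W.functionField → v ξ = genericPoint W → ξ ∈ v.smoothLocus := by
      intro W _ v _ h0 e
      have := LocallyOfFiniteType.stalkMap v ξ
      rw [Scheme.Hom.mem_smoothLocus]
      have h1 : CharZero (W.presheaf.stalk (v ξ)) := e.symm ▸ h0
      let : Field (W.presheaf.stalk (v ξ)) := (Groth.Variety2.isField_stalk e).toField
      let : Field (X.presheaf.stalk ξ) := hfX.toField
      have : CharZero (W.presheaf.stalk (v ξ)) := h1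
      algebraize [(v.stalkMap ξ).hom]
      exact Algebra.FormallySmooth.of_perfectField
    have h0k : CharZero (Spec (CommRingCat.of k)).functionField := by
      let φ : k →+* (Spec (CommRingCat.of k)).functionField :=
        ((Scheme.ΓSpecIso (CommRingCat.of k)).inv ≫
          (Spec (CommRingCat.of k)).presheaf.germ ⊤ (genericPoint _) trivial).hom
      exact charZero_of_injective_ringHom φ.injective
    let W : X.Opens := qX.smoothLocus ⊓ u.smoothLocus
    have hξW : ξ ∈ W :=
      ⟨hmem qX h0k (Subsingleton.elim _ _), hmem u h0Y hξη⟩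
    obtain ⟨P, hPW, hP⟩ := Groth.Variety2.Dim.exists_isClosed_singleton_mem qX
      W.isOpen.isLocallyClosed ⟨ξ, hξW⟩
    refine ⟨P, hP, Groth.VarietyBC.isRegularLocalRing_of_mem_smoothLocus (k := k) hPW.1, ?_⟩
    have : Smooth (W.ι ≫ qX) := Groth.Variety2.smooth_of_le_smoothLocus qX W inf_le_left
    have : Smooth (W.ι ≫ u) := Groth.Variety2.smooth_of_le_smoothLocus u W inf_le_right
    have hPc : IsClosed ({(⟨P, hPW⟩ : W)} : Set W) := by
      have h1 : ({(⟨P, hPW⟩ : W)} : Set W) = (Subtype.val : W → X) ⁻¹' {P} := by
        ext ⟨z, hz⟩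
        exact Subtype.ext_iff
      rw [h1]
      exact hP.preimage continuous_subtype_val
    have hinj := Groth.Variety2.CotSmooth.injective_of_smooth (W.ι ≫ qX) qY (W.ι ≫ u)
      (by rw [Category.assoc, hu]) hPc
    intro a ha ha2
    have h2 : ((W.ι ≫ u).stalkMap ⟨P, hPW⟩).hom a ∈
        IsLocalRing.maximalIdeal ((W : Scheme).presheaf.stalk ⟨P, hPW⟩) ^ 2 := by
      rw [Scheme.Hom.stalkMap_comp]
      show (W.ι.stalkMap ⟨P, hPW⟩).hom ((u.stalkMap P).hom a) ∈ _
      have h3 := Ideal.mem_map_of_mem (W.ι.stalkMap ⟨P, hPW⟩).hom ha2
      erw [Ideal.map_pow] at h3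
      refine Ideal.pow_right_mono ?_ 2 h3
      exact ((IsLocalRing.local_hom_TFAE (W.ι.stalkMap ⟨P, hPW⟩).hom).out 0 2).mp
        (inferInstance : IsLocalHom (W.ι.stalkMap ⟨P, hPW⟩).hom)
    have h3 : FixPt.cotangentMapAt (W.ι ≫ u) ⟨P, hPW⟩ _ rfl
        ((IsLocalRing.maximalIdeal _).toCotangent ⟨a, ha⟩) = 0 := by
      rw [FixPt.cotangentMapAt, Ideal.mapCotangent_toCotangent, Ideal.toCotangent_eq_zero]
      show FixPt.stalkMapAt (W.ι ≫ u) ⟨P, hPW⟩ _ rfl a ∈ _
      rw [Groth.Variety2.CotSmooth.stalkMapAt_eq]
      exact h2
    exact (Ideal.toCotangent_eq_zero _ _).mp ((map_eq_zero_iff _ hinj).mp h3)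
  · rintro ⟨P, hP, hreg, hcot⟩
    have hinj : Function.Injective (u.stalkMap P).hom := by
      have : IsLocalHom (u.stalkMap P).hom := inferInstance
      refine Groth.VarietyBC.CotInj.injective_of_cotangent _ (fun y => ?_) hcot
      obtain ⟨c, hc⟩ := (Groth.Variety2.CotSmooth.bijective_algebraMap_residue (k := k) hP).2
        (IsLocalRing.residue _ y)
      refine ⟨Curv2.stalkMap k Y (u P) c, ?_⟩
      rw [show (u.stalkMap P).hom (Curv2.stalkMap k Y (u P) c) = Curv2.stalkMap k X P c from
        RingHom.congr_fun (Groth.Variety2.CotSmooth.stalkMap_comp (k := k) u hu P) c]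
      exact (Ideal.Quotient.mk_eq_mk_iff_sub_mem _ _).mp hc.symm
    have : IsDomain (X.presheaf.stalk P) := Groth.Ega4Algebra1.isDomain_of_isRegularLocalRing _
    let b : Spec (X.presheaf.stalk P) := ⟨⊥, Ideal.isPrime_bot⟩
    have hb : u (X.fromSpecStalk P b) = genericPoint Y := by
      rw [← Scheme.Hom.comp_apply, ← Scheme.SpecMap_stalkMap_fromSpecStalk, Scheme.Hom.comp_apply]
      obtain ⟨q, hq⟩ : genericPoint Y ∈ Set.range (Y.fromSpecStalk (u P)) := by
        rw [Scheme.range_fromSpecStalk]
        exact genericPoint_specializes _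
      have h1 : Spec.map (u.stalkMap P) b ⤳ q := by
        refine (PrimeSpectrum.le_iff_specializes (Spec.map (u.stalkMap P) b) q).mp ?_
        intro x hx
        have h2 : (u.stalkMap P).hom x ∈ (⊥ : Ideal _) := hx
        rw [(injective_iff_map_eq_zero _).mp hinj x h2]
        exact zero_mem _
      exact ((h1.map (Y.fromSpecStalk (u P)).continuous).trans (hq ▸ specializes_rfl)).antisymm
        (genericPoint_specializes _) |>.eq
    refine ⟨dense_iff_closure_eq.mpr (Set.eq_univ_of_univ_subset ?_)⟩
    rw [← (genericPoint_spec Y).def]
    exact closure_mono (Set.singleton_subset_iff.mpr ⟨_, hb⟩)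

end Groth.Agent.S17413
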