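import Groth.Statements.S17414
import Groth.Agent.Misc12.Quad2

set_option autoImplicit false
universe u
open Prym5

namespace Groth.Agent.S17414

/-- Over a perfect field K of characteristic different from 2 and 3, let G₂, G₃, G₄ be polynomials in x,
y, let h = G₂ z² + 2 G₃ z + G₄ in K[x, y, z] and D = G₃² − G₂ G₄ in K[x, y]. Suppose h ∈ (x, y, z) —
the origin Q lies on the surface h = 0 — and D ∈ (x, y) — the image of Q under (x, y, z) ↦ (x, y)
lies on the discriminant curve D = 0. Then D ∈ (x, y)², i.e. the image point is singular on the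
discriminant curve, if and only if either h ∈ (x, y, z)², i.e. Q is a singular point of the surface,
or G₂, G₃, G₄ ∈ (x, y), i.e. Q lies on all three cones G₂ = G₃ = G₄ = 0. (Affine-local form, in a
chart where the node projected from sits at infinity on the z-axis and Q at the origin, of the
published claim: for a point Q ≠ P of the nodal quartic whose projection lies on the branch sextic,
the projection is singular on the sextic exactly when Q is singular on the quartic or lies on the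
cones u₂ = u₃ = u₄ = 0.) -/
theorem result (K : Type u) [Field K] [PerfectField K]
    (h2 : (2 : K) ≠ 0) (h3 : (3 : K) ≠ 0) (G₂ G₃ G₄ : MvPolynomial (Fin 2) K)
    (hQ : MvPolynomial.rename (Fin.castSucc : Fin 2 → Fin 3) G₂ * MvPolynomial.X (2 : Fin 3) ^ 2
        + 2 * MvPolynomial.rename (Fin.castSucc : Fin 2 → Fin 3) G₃ * MvPolynomial.X (2 : Fin 3)
        + MvPolynomial.rename (Fin.castSucc : Fin 2 → Fin 3) G₄
        ∈ Ideal.span (Set.range (MvPolynomial.X : Fin 3 → MvPolynomial (Fin 3) K)))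
    (hD : G₃ ^ 2 - G₂ * G₄ ∈ Ideal.span (Set.range (MvPolynomial.X : Fin 2 → MvPolynomial (Fin 2) K))) :
    G₃ ^ 2 - G₂ * G₄ ∈ (Ideal.span (Set.range (MvPolynomial.X : Fin 2 → MvPolynomial (Fin 2) K))) ^ 2 ↔
      (MvPolynomial.rename (Fin.castSucc : Fin 2 → Fin 3) G₂ * MvPolynomial.X (2 : Fin 3) ^ 2
          + 2 * MvPolynomial.rename (Fin.castSucc : Fin 2 → Fin 3) G₃ * MvPolynomial.X (2 : Fin 3)
          + MvPolynomial.rename (Fin.castSucc : Fin 2 → Fin 3) G₄
          ∈ (Ideal.span (Set.range (MvPolynomial.X : Fin 3 → MvPolynomial (Fin 3) K))) ^ 2 ∨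
        (G₂ ∈ Ideal.span (Set.range (MvPolynomial.X : Fin 2 → MvPolynomial (Fin 2) K)) ∧
          G₃ ∈ Ideal.span (Set.range (MvPolynomial.X : Fin 2 → MvPolynomial (Fin 2) K)) ∧
          G₄ ∈ Ideal.span (Set.range (MvPolynomial.X : Fin 2 → MvPolynomial (Fin 2) K)))) := by
  set m := Ideal.span (Set.range (MvPolynomial.X : Fin 2 → MvPolynomial (Fin 2) K))
  have cf : ∀ f, f ∈ m ↔ MvPolynomial.constantCoeff f = 0 := Groth.Misc12.Quad2.mem_vars_iff
  have h4 : G₄ ∈ m := by
    have := Ideal.mem_map_of_mem (Groth.Misc12.Quad2.retr (K := K)) hQ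
    change Groth.Misc12.Quad2.retr (K := K) (Groth.Misc12.Quad2.h3 G₂ G₃ G₄) ∈ _ at this
    rw [Groth.Misc12.Quad2.retr_h3] at this
    exact Groth.Misc12.Quad2.map_vars_le this
  have h3' : G₃ ∈ m := by
    rw [cf, map_sub, map_pow, map_mul, (cf _).1 h4, mul_zero, sub_zero] at hD
    rw [cf]; exact pow_eq_zero_iff (n := 2) (by norm_num) |>.1 hD
  have h33 : G₃ ^ 2 ∈ m ^ 2 := Ideal.pow_mem_pow h3' 2
  constructor
  · intro h
    by_cases c2 : MvPolynomial.constantCoeff G₂ = 0
    · exact Or.inr ⟨(cf _).2 c2, h3', h4⟩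
    · refine Or.inl (Groth.Misc12.Quad2.h3_mem_sq G₂ G₃ G₄ ((cf _).1 h3') ?_)
      have hm : G₂ * G₄ ∈ m ^ 2 := by
        have := Ideal.sub_mem _ h33 h
        rwa [sub_sub_cancel] at this
      have hc : (G₂ - MvPolynomial.C (MvPolynomial.constantCoeff G₂)) * G₄ ∈ m ^ 2 := by
        rw [pow_two]
        refine Ideal.mul_mem_mul ((cf _).2 ?_) h4
        simp
      have hh := Ideal.mul_mem_left _ (MvPolynomial.C (MvPolynomial.constantCoeff G₂)⁻¹) (Ideal.sub_mem _ hm hc)
      rw [← sub_mul, sub_sub_cancel, ← mul_assoc, ← map_mul, inv_mul_cancel₀ c2, map_one, one_mul] at hh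
      exact hh
  · rintro (h | ⟨g2, g3, g4⟩)
    · exact Ideal.sub_mem _ h33 (Ideal.mul_mem_left _ _ (Groth.Misc12.Quad2.mem_sq_g4 G₂ G₃ G₄ h))
    · refine Ideal.sub_mem _ h33 ?_
      rw [pow_two]
      exact Ideal.mul_mem_mul g2 g4

end Groth.Agent.S17414
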