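import Groth.Statements.S1742
import Groth.Agent.LocCohBase.IdealDepthNhds

set_option autoImplicit false
universe u
open LocCoh

namespace Groth.Agent.S1742

/-- Let A be a Noetherian ring, I an ideal, M a finite A-module and p a prime containing I such that the
IA_p-depth of M_p is a finite number e. Then there is an open subset U of Spec A meeting V(p) such
that the IA_q-depth of M_q is at least e for every q in U ∩ V(p). -/
theorem result (A : Type u) [CommRing A] [IsNoetherianRing A] (I : Ideal A) (M : Type u) [AddCommGroup M] [Module A M] [Module.Finite A M] (p : PrimeSpectrum A) (hp : I ≤ p.asIdeal) (e : ℕ) (he : LocCoh.idealDepth (I.map (algebraMap A (Localization.AtPrime p.asIdeal))) (LocalizedModule p.asIdeal.primeCompl M) = e) : ∃ U : Set (PrimeSpectrum A), IsOpen U ∧ (U ∩ PrimeSpectrum.zeroLocus (p.asIdeal : Set A)).Nonempty ∧ ∀ q : PrimeSpectrum A, q ∈ U → p ≤ q → (e : ℕ∞) ≤ LocCoh.idealDepth (I.map (algebraMap A (Localization.AtPrime q.asIdeal))) (LocalizedModule q.asIdeal.primeCompl M) := by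
  obtain ⟨f, hf, h⟩ := Groth.LocCohBase.exists_idealDepth_ge_nhds I p.asIdeal hp e M he.ge
  exact ⟨PrimeSpectrum.basicOpen f, (PrimeSpectrum.basicOpen f).2, ⟨p, hf, fun a ha => ha⟩,
    fun q hq _ => h q.asIdeal hq⟩

end Groth.Agent.S1742
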