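import Groth.Statements.S17426
import Groth.Agent.LimGen.Stage
import Groth.Agent.Limits.OpenPullback
import Groth.Agent.Ega2Proj.RelAmple
import Groth.Agent.VarietyBC.FFSections

set_option autoImplicit false
universe u
open CategoryTheory AlgebraicGeometry
open Lim

namespace Groth.Agent.S17426

set_option backward.isDefEq.respectTransparency false
set_option backward.defeqAttrib.useBackward true
set_option backward.isDefEq.respectTransparency.types false

open Groth.Ega2Proj Groth.PicAux Limits in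
/-- The piece of a base change over an open, with its comparison to the preimage. -/
theorem piece_spec {X₀ Y₀ B A Y X : Scheme.{u}} {f₀ : X₀ ⟶ Y₀} {g₀ : Y₀ ⟶ B} {h : A ⟶ B}
    {f : X ⟶ Y} {g : Y ⟶ A} {qY : Y ⟶ Y₀} {qX : X ⟶ X₀}
    (hY : IsPullback qY g g₀ h) (hX : IsPullback qX f f₀ qY) (L₀ : X₀.Modules) (W : Y₀.Opens) :
    SpansStalks (((Scheme.Modules.pullback qX).obj L₀).restrict (f ⁻¹ᵁ (qY ⁻¹ᵁ W)).ι) ↔
      SpansStalks ((Scheme.Modules.pullback (pullback.snd h ((f₀ ⁻¹ᵁ W).ι ≫ f₀ ≫ g₀))).obj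
        ((Scheme.Modules.pullback (f₀ ⁻¹ᵁ W).ι).obj L₀)) := by
  let a := (f₀ ⁻¹ᵁ W).ι ≫ f₀ ≫ g₀
  let D := f ⁻¹ᵁ (qY ⁻¹ᵁ W)
  have h' : IsPullback qX (f ≫ g) (f₀ ≫ g₀) h := hX.paste_vert hY
  let j := h'.lift (pullback.snd h a ≫ (f₀ ⁻¹ᵁ W).ι) (pullback.fst h a)
    (by rw [Category.assoc]; exact (pullback.condition).symm)
  have hjq : j ≫ qX = pullback.snd h a ≫ (f₀ ⁻¹ᵁ W).ι := h'.lift_fst _ _ _
  have hsq : IsPullback (pullback.snd h a) j (f₀ ⁻¹ᵁ W).ι qX :=
    IsPullback.of_bot (by rw [h'.lift_snd]; exact (IsPullback.of_hasPullback _ _).flip)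
      (h'.lift_fst _ _ _).symm h'
  haveI : IsOpenImmersion j := MorphismProperty.of_isPullback (P := @IsOpenImmersion) hsq inferInstance
  have e : qX ⁻¹ᵁ (f₀ ⁻¹ᵁ W) = D := by
    rw [← Scheme.Hom.comp_preimage, hX.w, Scheme.Hom.comp_preimage]
  have hr : Set.range j = Set.range D.ι := by
    rw [← hsq.isoPullback_hom_snd, Scheme.Hom.comp_base, TopCat.coe_comp, Set.range_comp,
      (show Function.Surjective hsq.isoPullback.hom from Surjective.surj).range_eq, Set.image_univ,
      Scheme.Pullback.range_snd, Scheme.Opens.range_ι, Scheme.Opens.range_ι, ← e]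
    rfl
  let L := (Scheme.Modules.pullback qX).obj L₀
  let ej : (Scheme.Modules.pullback j).obj L ≅ (Scheme.Modules.pullback (pullback.snd h a)).obj
      ((Scheme.Modules.pullback (f₀ ⁻¹ᵁ W).ι).obj L₀) :=
    (Scheme.Modules.pullbackComp j qX).app L₀ ≪≫ (Scheme.Modules.pullbackCongr hjq).app L₀ ≪≫
      ((Scheme.Modules.pullbackComp _ _).app L₀).symm
  constructor
  · intro hs
    let l := IsOpenImmersion.lift D.ι j hr.le
    exact ((Groth.VarietyBC.FFSections.spansStalks_pullback l hs).of_iso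
      ((Scheme.Modules.pullback l).mapIso (restrictIsoPullback D.ι L) ≪≫
        (Scheme.Modules.pullbackComp l D.ι).app L ≪≫
        (Scheme.Modules.pullbackCongr (IsOpenImmersion.lift_fac D.ι j hr.le)).app L ≪≫ ej))
  · intro hs
    let l := IsOpenImmersion.lift j D.ι hr.ge
    exact ((Groth.VarietyBC.FFSections.spansStalks_pullback l hs).of_iso
      ((Scheme.Modules.pullback l).mapIso ej.symm ≪≫
        (Scheme.Modules.pullbackComp l j).app L ≪≫
        (Scheme.Modules.pullbackCongr (IsOpenImmersion.lift_fac j D.ι hr.ge)).app L ≪≫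
        (restrictIsoPullback D.ι L).symm))

/-- Let S = lim S_i be a cofiltered limit of schemes with affine transition morphisms, with S_{i₀} a
quasi-compact quasi-separated stage; let X₀ and Y₀ be schemes of finite presentation over S_{i₀}, f₀
: X₀ → Y₀ an S_{i₀}-morphism and L₀ an invertible O_{X₀}-module. Let f : X → Y be the base change of
f₀ along S → S_{i₀} and L the pullback of L₀ to X (base changes are expressed by pullback squares).
Call an invertible module generated relative to a morphism when the counit of the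
pullback–pushforward adjunction, f^*f_*L → L, is an epimorphism. If L is generated relative to f,
then there is an index j over i₀ such that for every index k over j and every base change f_k : X_k
→ Y_k of f₀ along S_k → S_{i₀}, the pullback L_k of L₀ to X_k is generated relative to f_k. (Stated
for X₀, Y₀ of finite presentation over the quasi-compact quasi-separated stage, the setting in which
all the schemes involved are quasi-compact and quasi-separated; the semi-ample variant of the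
source, some positive tensor power generated, is not restated.) -/
theorem result {I : Type u} [SmallCategory I] [IsCofiltered I]
    (D : I ⥤ Scheme.{u}) (c : Limits.Cone D) (hc : Limits.IsLimit c)
    [∀ (i j : I) (u : i ⟶ j), IsAffineHom (D.map u)] (i₀ : I) [CompactSpace (D.obj i₀)] [QuasiSeparatedSpace (D.obj i₀)]
    {X₀ Y₀ : Scheme.{u}} (f₀ : X₀ ⟶ Y₀) (g₀ : Y₀ ⟶ D.obj i₀)
    [LocallyOfFinitePresentation g₀] [QuasiCompact g₀] [QuasiSeparated g₀]
    [LocallyOfFinitePresentation (f₀ ≫ g₀)] [QuasiCompact (f₀ ≫ g₀)] [QuasiSeparated (f₀ ≫ g₀)]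
    (L₀ : X₀.Modules) (hL₀ : PicF.IsInvertible L₀)
    {X Y : Scheme.{u}} (f : X ⟶ Y) (g : Y ⟶ c.pt) (qY : Y ⟶ Y₀) (qX : X ⟶ X₀)
    (hY : IsPullback qY g g₀ (c.π.app i₀)) (hX : IsPullback qX f f₀ qY)
    (hgen : Epi ((Scheme.Modules.pullbackPushforwardAdjunction f).counit.app ((Scheme.Modules.pullback qX).obj L₀))) :
    ∃ (j : I) (φ : j ⟶ i₀), ∀ (k : I) (ψ : k ⟶ j) (Xk Yk : Scheme.{u}) (fk : Xk ⟶ Yk) (gk : Yk ⟶ D.obj k)
      (pY : Yk ⟶ Y₀) (pX : Xk ⟶ X₀), IsPullback pY gk g₀ (D.map (ψ ≫ φ)) → IsPullback pX fk f₀ pY →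
        Epi ((Scheme.Modules.pullbackPushforwardAdjunction fk).counit.app ((Scheme.Modules.pullback pX).obj L₀)) := by
  classical
  have : ∀ {i j : I} (f : i ⟶ j), IsAffineHom (D.map f) := fun {i j} f => inferInstance
  haveI : QuasiCompact f₀ := QuasiCompact.of_comp f₀ g₀
  haveI : QuasiSeparated f₀ := QuasiSeparated.of_comp f₀ g₀
  haveI : QuasiCompact f := MorphismProperty.of_isPullback hX ‹QuasiCompact f₀›
  haveI : QuasiSeparated f := MorphismProperty.of_isPullback hX ‹QuasiSeparated f₀›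
  haveI := isAffineHom_π_app _ _ hc i₀
  haveI : IsAffineHom qY := MorphismProperty.of_isPullback hY.flip ‹IsAffineHom (c.π.app i₀)›
  haveI : CompactSpace Y₀ := QuasiCompact.compactSpace_of_compactSpace g₀
  have : ((Scheme.Modules.pullback qX).obj L₀).IsQuasicoherent :=
    Groth.PicAux.isQCoh_of_isInvertible (Groth.PicAux.isInvertible_pullback _ hL₀)
  choose W hW hyW using fun y : Y₀ => Groth.QCohMod.exists_affine_mem y
  obtain ⟨S, hS⟩ := isCompact_univ.elim_finite_subcover (fun y => (W y : Set Y₀)) (fun y => (W y).2)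
    fun y _ => Set.mem_iUnion.2 ⟨y, hyW y⟩
  let LT := fun y => (Scheme.Modules.pullback (f₀ ⁻¹ᵁ W y).ι).obj L₀
  let pm := fun y => (f₀ ⁻¹ᵁ W y).ι ≫ f₀ ≫ g₀
  have key : ∀ y, ∃ (j : I) (φ : j ⟶ i₀), Groth.Ega2Proj.SpansStalks ((Scheme.Modules.pullback
      (Limits.pullback.snd (D.map φ) (pm y))).obj (LT y)) := by
    intro y
    let a := pm y
    haveI : CompactSpace (f₀ ⁻¹ᵁ W y : X₀.Opens) :=
      isCompact_iff_compactSpace.mp (f₀.isCompact_preimage (hW y).isCompact)
    haveI : QuasiSeparatedSpace (f₀ ⁻¹ᵁ W y : X₀.Opens) := by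
      haveI : IsAffine (W y : Scheme.{u}) := hW y
      haveI : QuasiSeparated (f₀ ∣_ W y) :=
        MorphismProperty.of_isPullback (isPullback_morphismRestrict f₀ (W y)).flip ‹QuasiSeparated f₀›
      exact quasiSeparatedSpace_of_quasiSeparated (f₀ ∣_ W y)
    let D' := Groth.Limits.pullbackDiagram D i₀ a
    let c' := Groth.Limits.pullbackCone D i₀ a c
    haveI : ∀ j : CategoryTheory.Over i₀, IsAffineHom
        (Limits.pullback.snd ((CategoryTheory.Over.post D).obj j).hom a) := fun j =>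
      MorphismProperty.of_isPullback (IsPullback.of_hasPullback _ a)
        (inferInstanceAs (IsAffineHom (D.map j.hom)))
    haveI : ∀ j, CompactSpace (D'.obj j) := fun j =>
      QuasiCompact.compactSpace_of_compactSpace
        (Limits.pullback.snd ((CategoryTheory.Over.post D).obj j).hom a)
    haveI : ∀ j, QuasiSeparatedSpace (D'.obj j) := fun j =>
      quasiSeparatedSpace_of_quasiSeparated
        (Limits.pullback.snd ((CategoryTheory.Over.post D).obj j).hom a)
    let o : CategoryTheory.Over i₀ := CategoryTheory.Over.mk (𝟙 i₀)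
    let s₀ : D'.obj o ⟶ _ := Limits.pullback.snd (D.map (𝟙 i₀)) a
    have hπ : c'.π.app o ≫ s₀ = Limits.pullback.snd (c.π.app i₀) a :=
      CategoryTheory.Over.w ((CategoryTheory.Over.pullback a).map
        (((CategoryTheory.Over.conePost D i₀).obj c).π.app o))
    haveI : IsAffineHom (Limits.pullback.snd (c.π.app i₀) a) :=
      MorphismProperty.of_isPullback (IsPullback.of_hasPullback _ a) ‹IsAffineHom (c.π.app i₀)›
    haveI : CompactSpace c'.pt :=
      QuasiCompact.compactSpace_of_compactSpace (Limits.pullback.snd (c.π.app i₀) a)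
    have hL' : Groth.Ega2Proj.SpansStalks ((Scheme.Modules.pullback (c'.π.app o)).obj
        ((Scheme.Modules.pullback s₀).obj (LT y))) :=
      ((piece_spec hY hX L₀ (W y)).1 (Groth.LimGen.spansStalks_restrict_of_epi_counit f _ hgen
        ((hW y).preimage qY))).of_iso (((Scheme.Modules.pullbackComp (c'.π.app o) s₀).app (LT y) ≪≫
          (Scheme.Modules.pullbackCongr hπ).app (LT y)).symm)
    obtain ⟨j, φ, hj⟩ := Groth.LimGen.exists_stage_spansStalks (D := D')
      (Groth.Limits.isLimitPullbackCone D i₀ a hc) o _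
      (Groth.PicAux.isInvertible_pullback _ (Groth.PicAux.isInvertible_pullback _ hL₀)) hL'
    have hφ : φ = CategoryTheory.Over.homMk j.hom := by
      ext
      simpa [o] using CategoryTheory.Over.w φ
    subst hφ
    exact ⟨j.left, j.hom, hj.of_iso ((Scheme.Modules.pullbackComp _ s₀).app (LT y) ≪≫
      (Scheme.Modules.pullbackCongr (Groth.Limits.pullbackDiagram_map_π D i₀ a j)).app (LT y))⟩
  choose j φ hjφ using key
  have common : ∀ T : Finset Y₀, ∃ (k : I) (ψ : k ⟶ i₀), ∀ y ∈ T, ∃ u : k ⟶ j y, u ≫ φ y = ψ := by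
    intro T
    induction T using Finset.induction_on with
    | empty => exact ⟨i₀, 𝟙 _, fun y hy => absurd hy (Finset.notMem_empty y)⟩
    | insert a T ha ih =>
      obtain ⟨k, ψ, hk⟩ := ih
      obtain ⟨m, u, v, huv⟩ := IsCofiltered.cospan (φ a) ψ
      refine ⟨m, v ≫ ψ, fun y hy => ?_⟩
      rcases Finset.mem_insert.1 hy with rfl | hy
      · exact ⟨u, huv⟩
      · obtain ⟨w, hw⟩ := hk y hy
        exact ⟨v ≫ w, by rw [Category.assoc, hw]⟩
  obtain ⟨j₁, ψ₁, hj₁⟩ := common S
  refine ⟨j₁, ψ₁, fun k ψ Xk Yk fk gk pY pX hYk hXk => ?_⟩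
  refine Groth.LimGen.epi_counit_of_spansStalks fk _ fun z => ?_
  obtain ⟨y, hy, hzy⟩ := Set.mem_iUnion₂.1 (hS (Set.mem_univ (pY z)))
  refine ⟨pY ⁻¹ᵁ W y, hzy, (piece_spec hYk hXk L₀ (W y)).2 ?_⟩
  obtain ⟨u, hu⟩ := hj₁ y hy
  have hw : (Limits.pullback.fst (D.map (ψ ≫ ψ₁)) (pm y) ≫ D.map (ψ ≫ u)) ≫ D.map (φ y) =
      Limits.pullback.snd (D.map (ψ ≫ ψ₁)) (pm y) ≫ pm y := by
    rw [Category.assoc, ← D.map_comp, Category.assoc, hu, Limits.pullback.condition]
  let m : Limits.pullback (D.map (ψ ≫ ψ₁)) (pm y) ⟶ Limits.pullback (D.map (φ y)) (pm y) :=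
    Limits.pullback.lift _ _ hw
  have hm : m ≫ Limits.pullback.snd _ _ = Limits.pullback.snd (D.map (ψ ≫ ψ₁)) (pm y) :=
    Limits.pullback.lift_snd _ _ _
  exact (Groth.VarietyBC.FFSections.spansStalks_pullback m (hjφ y)).of_iso
    ((Scheme.Modules.pullbackComp m _).app (LT y) ≪≫
      (Scheme.Modules.pullbackCongr hm).app (LT y))

end Groth.Agent.S17426
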