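import Groth.Statements.S17428
import Mathlib
import Groth.Agent.FrobLCI.RelFrob

set_option autoImplicit false
set_option linter.style.haveILetI false
universe u
open FrobAlg

namespace Groth.Agent.S17428

open TensorProduct

section

variable (p : ℕ) [Fact p.Prime] {A : Type u} [CommRing A] [CharP A p] (I : Ideal A)

theorem mem_pow_of_toTwist_mem {m n : ℕ} (hmn : m ≤ n) (a : A)
    (h : FrobAlg.toTwist p A a ∈ I ^ n • (⊤ : Submodule A (FrobAlg.Twist p A))) : a ∈ I ^ m := by
  suffices ∀ t ∈ I ^ n • (⊤ : Submodule A (FrobAlg.Twist p A)), (FrobAlg.toTwist p A).symm t ∈ I ^ m by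
    simpa using this _ h
  intro t ht
  refine Submodule.smul_induction_on ht (fun r hr t _ => ?_) (fun x y hx hy => by rw [map_add]; exact add_mem hx hy)
  rw [Algebra.smul_def, map_mul, FrobAlg.algebraMap_twist, RingEquiv.symm_apply_apply]
  exact Ideal.mul_mem_right _ _ (Ideal.pow_le_pow_right hmn (Ideal.pow_mem_of_mem _ hr p (Nat.Prime.pos Fact.out)))

theorem exists_toTwist_mem [IsNoetherianRing A] : ∃ c : ℕ, 1 ≤ c ∧
    ∀ n, ∀ a ∈ I ^ (c * n), FrobAlg.toTwist p A a ∈ I ^ n • (⊤ : Submodule A (FrobAlg.Twist p A)) := by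
  obtain ⟨c, hc⟩ := Ideal.exists_pow_le_of_le_radical_of_fg (I := I) (J := I.map (frobenius A p))
    (fun x hx => ⟨p, by rw [← frobenius_def]; exact Ideal.mem_map_of_mem _ hx⟩) I.fg_of_isNoetherianRing
  refine ⟨max c 1, le_max_right _ _, fun n a ha => ?_⟩
  have h1 : a ∈ (I ^ n).map (frobenius A p) := by
    rw [Ideal.map_pow]
    refine Ideal.pow_right_mono ((Ideal.pow_le_pow_right (le_max_left c 1)).trans hc) n ?_
    rwa [← pow_mul]
  clear ha
  induction h1 using Submodule.span_induction with
  | mem x hx =>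
    obtain ⟨r, hr, rfl⟩ := hx
    have e : FrobAlg.toTwist p A (frobenius A p r) = r • (1 : FrobAlg.Twist p A) := by
      rw [Algebra.smul_def, mul_one, FrobAlg.algebraMap_twist, frobenius_def]
    rw [e]
    exact Submodule.smul_mem_smul hr Submodule.mem_top
  | zero => rw [map_zero]; exact zero_mem _
  | add x y _ _ hx hy => rw [map_add]; exact add_mem hx hy
  | smul r x _ hx =>
    rw [smul_eq_mul, map_mul]
    refine Submodule.smul_induction_on hx (fun q hq t _ => ?_) (fun x y hx hy => by rw [mul_add]; exact add_mem hx hy)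
    rw [mul_smul_comm]
    exact Submodule.smul_mem_smul hq Submodule.mem_top

variable [IsNoetherianRing A] [Module.Finite A (FrobAlg.Twist p A)] [CharP (AdicCompletion I A) p]

/-- The components of the relative Frobenius. -/
theorem evalₐ_relFrob (z : AdicCompletion I A ⊗[A] FrobAlg.Twist p A) :
    ∀ (m n : ℕ), m ≤ n → ∀ a : A,
      (AdicCompletion.ofTensorProduct I (FrobAlg.Twist p A) z).val n =
        Submodule.Quotient.mk (FrobAlg.toTwist p A a) →
      AdicCompletion.evalₐ I m (FrobAlg.relFrob p A (AdicCompletion I A) z) = Ideal.Quotient.mk (I ^ m) a := by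
  induction z using TensorProduct.induction_on with
  | zero =>
    intro m n hmn a h
    rw [map_zero, map_zero, eq_comm, Ideal.Quotient.eq_zero_iff_mem]
    refine mem_pow_of_toTwist_mem p I hmn a ?_
    rw [← Submodule.Quotient.mk_eq_zero, ← h, map_zero]
    rfl
  | tmul x t =>
    intro m n hmn a h
    obtain ⟨s, rfl⟩ := AdicCompletion.mk_surjective I A x
    rw [AdicCompletion.ofTensorProduct_tmul, AdicCompletion.smul_eval, AdicCompletion.mk_apply_coe,
      AdicCompletion.of_apply] at h
    have h1 : (Submodule.Quotient.mk (s.val n • t) : FrobAlg.Twist p A ⧸ (I ^ n • ⊤ : Submodule A _)) =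
        Submodule.Quotient.mk (FrobAlg.toTwist p A a) := h
    rw [Submodule.Quotient.eq] at h1
    have e : s.val n • t - FrobAlg.toTwist p A a =
        FrobAlg.toTwist p A (s.val n ^ p * (FrobAlg.toTwist p A).symm t - a) := by
      rw [map_sub, map_mul, RingEquiv.apply_symm_apply, Algebra.smul_def, FrobAlg.algebraMap_twist]
    rw [e] at h1
    have h2 := mem_pow_of_toTwist_mem p I hmn _ h1
    rw [Groth.FrobLCI.RelFrob.relFrob_tmul, map_mul, map_pow, AdicCompletion.evalₐ_mk, AlgHom.commutes,
      Ideal.Quotient.algebraMap_eq, ← map_pow, ← map_mul, ← Ideal.Quotient.mk_eq_mk_iff_sub_mem _ _ |>.mpr h2]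
    rw [map_mul, map_mul, map_pow, map_pow]
    congr 2
    rw [Ideal.Quotient.eq]
    have := s.property hmn
    rw [SModEq.sub_mem, smul_eq_mul, Ideal.mul_top] at this
    exact this
  | add z z' hz hz' =>
    intro m n hmn a h
    rw [map_add] at h
    obtain ⟨b, hb⟩ := Submodule.Quotient.mk_surjective _
      ((AdicCompletion.ofTensorProduct I (FrobAlg.Twist p A) z).val n)
    obtain ⟨b', hb'⟩ := Submodule.Quotient.mk_surjective _
      ((AdicCompletion.ofTensorProduct I (FrobAlg.Twist p A) z').val n)
    rw [map_add, map_add, hz m n hmn ((FrobAlg.toTwist p A).symm b) (by rw [RingEquiv.apply_symm_apply, hb]),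
      hz' m n hmn ((FrobAlg.toTwist p A).symm b') (by rw [RingEquiv.apply_symm_apply, hb']), ← map_add,
      Ideal.Quotient.eq]
    refine mem_pow_of_toTwist_mem p I hmn _ ?_
    rw [map_sub, map_add, RingEquiv.apply_symm_apply, RingEquiv.apply_symm_apply, ← Submodule.Quotient.eq,
      Submodule.Quotient.mk_add, hb, hb', ← h]
    rfl

theorem relFrob_bijective : Function.Bijective (FrobAlg.relFrob p A (AdicCompletion I A)) := by
  let Φ := AdicCompletion.ofTensorProduct I (FrobAlg.Twist p A)
  have hΦ : Function.Bijective Φ := AdicCompletion.ofTensorProduct_bijective_of_finite_of_isNoetherian I _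
  obtain ⟨c, hc1, hc⟩ := exists_toTwist_mem p I
  refine ⟨(injective_iff_map_eq_zero _).mpr fun z hz => hΦ.1 ?_, fun y => ?_⟩
  · rw [map_zero]
    ext n
    obtain ⟨b, hb⟩ := Submodule.Quotient.mk_surjective _ ((Φ z).val (c * n))
    have h0 := evalₐ_relFrob p I z (c * n) (c * n) le_rfl ((FrobAlg.toTwist p A).symm b)
      (by rw [RingEquiv.apply_symm_apply, hb])
    rw [hz, map_zero, eq_comm, Ideal.Quotient.eq_zero_iff_mem] at h0
    have h1 := hc n _ h0
    rw [RingEquiv.apply_symm_apply] at h1
    rw [← (Φ z).property (Nat.le_mul_of_pos_left n hc1), ← hb]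
    exact (Submodule.Quotient.mk_eq_zero _).mpr h1
  · choose r hr using fun k => Ideal.Quotient.mk_surjective (AdicCompletion.evalₐ I k y)
    have hcomp : ∀ {i j : ℕ}, i ≤ j → r j - r i ∈ I ^ i := fun {i j} hij => by
      rw [← Ideal.Quotient.eq, hr i]
      obtain ⟨s, rfl⟩ := AdicCompletion.mk_surjective I A y
      have hj := hr j
      rw [AdicCompletion.evalₐ_mk, Ideal.Quotient.eq] at hj
      rw [AdicCompletion.evalₐ_mk, Ideal.Quotient.eq]
      have hs := s.property hij
      rw [SModEq.sub_mem, smul_eq_mul, Ideal.mul_top] at hs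
      have := sub_mem (Ideal.pow_le_pow_right hij hj) hs
      convert this using 1
      ring
    let w : AdicCompletion I (FrobAlg.Twist p A) :=
      ⟨fun n => Submodule.Quotient.mk (FrobAlg.toTwist p A (r (c * n))), fun {i j} hij => by
        change Submodule.Quotient.mk (FrobAlg.toTwist p A (r (c * j))) = _
        rw [Submodule.Quotient.eq, ← map_sub]
        exact hc i _ (hcomp (Nat.mul_le_mul_left c hij))⟩
    obtain ⟨z, hz⟩ := hΦ.2 w
    refine ⟨z, AdicCompletion.ext_evalₐ fun m => ?_⟩
    rw [evalₐ_relFrob p I z m m le_rfl (r (c * m)) (by rw [hz]), ← hr m, Ideal.Quotient.eq]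
    exact hcomp (Nat.le_mul_of_pos_left m hc1)

end

/-- Let p be a prime, A a regular local ring of characteristic p whose absolute Frobenius a ↦ a^p is a
finite ring homomorphism, I an ideal of A and Â the I-adic completion of A. Then Spec Â → Spec A is
relatively perfect: the relative Frobenius Â ⊗_{A,Frob} A → Â, b ⊗ a ↦ b^p a, is bijective. (Â is
also flat over A since A is Noetherian, so the morphism is flat and relatively perfect. The instance
hypothesis that Â has characteristic p holds as soon as I ≠ A.) -/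
theorem result (p : ℕ) [Fact p.Prime]
    (A : Type u) [CommRing A] [IsRegularLocalRing A] [CharP A p] (hF : (frobenius A p).Finite)
    (I : Ideal A) [CharP (AdicCompletion I A) p] :
    Function.Bijective (FrobAlg.relFrob p A (AdicCompletion I A)) := by
  haveI : Module.Finite A (FrobAlg.Twist p A) := by
    exact RingHom.finite_algebraMap.mp (RingHom.Finite.comp (RingHom.Finite.of_surjective
      (FrobAlg.toTwist p A : A →+* FrobAlg.Twist p A) (FrobAlg.toTwist p A).surjective) hF)
  exact relFrob_bijective p I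

end Groth.Agent.S17428
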