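import Groth.Statements.S17429
import Groth.Agent.LocCohTransform.FlatExteriorKaehler
import Groth.Agent.Calg1.Popescu.FieldCase
import Groth.Agent.Calg4.GeomRegular
import Groth.Agent.Ega4Algebra2.GRing
import Groth.Agent.LocCohBase.ExtVanish
import Groth.Agent.LocCohBase.Cd
import Groth.Agent.LocCohBase.Depth

set_option autoImplicit false
universe u
open LocCoh

namespace Groth.Agent.S17429

/-- Let p be a prime, A a regular local ring of characteristic p, t_1, …, t_r an A-regular sequence such
that A/(t_1, …, t_r) is again a regular local ring (a regular closed immersion Z ↪ X = Spec A of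
codimension r with Z regular and non-empty), and I = (t_1, …, t_r). Then for every i and every j ≠ r
the local cohomology module H^j_I(Ω^i_A) vanishes, where Ω^i_A is the i-th exterior power over A of
the module of Kähler differentials of A over ℤ (the same module as over the prime field). (Module
form, for X local, of the vanishing of the local cohomology sheaves H^j_Z(X, Ω^i_X), j ≠ r; the same
vanishing holds more generally for the de Rham–Witt sheaves W_mΩ^i_X and their quotients by
dV^{m-1}Ω^{i-1}_X on the étale site of a regular F_p-scheme, a form not stated here.) -/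
theorem result (p : ℕ) [Fact p.Prime]
    (A : Type u) [CommRing A] [IsRegularLocalRing A] [CharP A p]
    (ts : List A) (hreg : RingTheory.Sequence.IsRegular A ts)
    (hZ : IsRegularLocalRing (A ⧸ Ideal.ofList ts))
    (i j : ℕ) (hj : j ≠ ts.length) :
    Subsingleton (LocCoh.H (Ideal.ofList ts) j
      ↥(ExteriorAlgebra.exteriorPower A i (KaehlerDifferential ℤ A))) := by
  classical
  let K := ULift.{u} (ZMod p)
  let _ : Field K := ULift.field
  let _ : Algebra K A := ((ZMod.castHom dvd_rfl A).comp ULift.ringEquiv.toRingHom).toAlgebra
  have hk : Function.Surjective (algebraMap ℤ K) := fun c => ⟨(c.down.val : ℤ), by rw [eq_intCast, Int.cast_natCast]; exact ULift.ringEquiv.injective ((map_natCast ULift.ringEquiv _).trans (ZMod.natCast_zmod_val _))⟩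
  have : IsRegularRing A := Groth.Ega4b.isRegularRing_of_isRegularLocalRing A
  have hgeo : CAlg.IsGeometricallyRegular K A := by
    intro k' _ _ _
    have : Finite K := inferInstance
    have : Algebra.IsAlgebraic K k' := Algebra.IsAlgebraic.of_finite K k'
    have : Algebra.IsSeparable K k' := Algebra.IsAlgebraic.isSeparable_of_perfectField
    have : Algebra.FormallyEtale K k' := Algebra.FormallyEtale.of_isSeparable K k'
    exact Groth.Calg4.isRegularRing_tensor_of_formallySmooth K k' A
  have hflat : Module.Flat A (KaehlerDifferential ℤ A) :=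
    Groth.LocCohTransform.FlatExt.flat_kaehler (k := K) (R₀ := ℤ) hk
      fun S _ _ hS f => Groth.Calg1.Popescu.indSmooth_of_geometricallyRegular hgeo S hS f
  have := Groth.LocCohTransform.FlatExt.flat_exteriorPower (R := A) i (KaehlerDifferential ℤ A)
  let M := ↥(ExteriorAlgebra.exteriorPower A i (KaehlerDifferential ℤ A))
  have hM : RingTheory.Sequence.IsWeaklyRegular M ts :=
    (LinearEquiv.isWeaklyRegular_congr (TensorProduct.rid A M) ts).1
      hreg.toIsWeaklyRegular.isWeaklyRegular_lTensor
  have hs : ts.toFinset.card ≤ ts.length := List.toFinset_card_le ts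
  have hI : Ideal.span (ts.toFinset : Set A) = Ideal.ofList ts := by
    rw [List.coe_toFinset]
  rcases lt_or_gt_of_ne hj with h | h
  · refine Groth.LocCohBase.H_subsingleton_of_ext (Ideal.ofList ts) (A ⧸ Ideal.ofList ts)
      (Groth.LocCohBase.support_quotient_eq _) ts.length M (fun k hk => ?_) j h
    refine Groth.LocCohBase.ext_subsingleton_of_isWeaklyRegular (ModuleCat.of A (A ⧸ Ideal.ofList ts))
      (ModuleCat.of A M) ts hM (fun r hr => ⟨1, ?_⟩) k hk
    rw [pow_one, Ideal.annihilator_quotient]
    exact Ideal.subset_span hr
  · have hcd := Groth.LocCohBase.cdLE_span_finset ts.toFinset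
    rw [hI] at hcd
    exact hcd M j (lt_of_le_of_lt hs h)

end Groth.Agent.S17429
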