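import Groth.Statements.S1743
import Groth.Agent.LocFinite.Annihilated

set_option autoImplicit false
universe u
open LocCoh

namespace Groth.Agent.S1743

/-- Let A be a Noetherian ring, J ⊆ I ideals and i ≥ 0. If H^i_I(A) is annihilated by J^n for some n,
then for every finite A-module M such that M_f is a projective A_f-module for every f in I, the
module H^i_I(M) is annihilated by J^m for some m. (The source allows any ring with finitely
generated ideals and finitely presented M.) -/
theorem result (A : Type u) [CommRing A] [IsNoetherianRing A] (J I : Ideal A) (hJI : J ≤ I) (i n : ℕ) (hA : ∀ a ∈ J ^ n, ∀ x : LocCoh.H I i A, a • x = 0) (M : Type u) [AddCommGroup M] [Module A M] [Module.Finite A M] (hM : ∀ f ∈ I, Module.Projective (Localization.Away f) (LocalizedModule (Submonoid.powers f) M)) : ∃ m : ℕ, ∀ a ∈ J ^ m, ∀ x : LocCoh.H I i M, a • x = 0 := by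
  obtain ⟨m, hm⟩ := Groth.LocFinite.exists_pow_le_annihilator_H_of_projective J I hJI i n
    (fun a ha => Module.mem_annihilator.2 fun x => hA a ha x) M hM
  exact ⟨m, fun a ha x => Module.mem_annihilator.1 (hm ha) x⟩

end Groth.Agent.S1743
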