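import Groth.Statements.S17432
import Groth.Agent.Misc13.AdjBorel

set_option autoImplicit false
universe u v w
open LieAlgebra LieModule
open AdjVar

namespace Groth.Agent.S17432

/-- Let L be a finite-dimensional simple Lie algebra over an algebraically closed field K of
characteristic zero, H a Cartan subalgebra and b a basis of (L, H) in Mathlib's sense (Chevalley
generators h_i, e_i, f_i indexed by a finite type, with simple roots α_i = b.baseSupp i and upper
Borel subalgebra 𝔟 = H + the Lie subalgebra generated by the e_i). Let ρ be the highest root: a root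
of H on L whose root space is nonzero and such that no ρ + α_i is a root (the root space of ρ + α_i
is zero for every i). Assume that exactly one simple root α_j is not orthogonal to ρ (ρ(h_i) ≠ 0 if
and only if i = j) and that ρ(h_j) = 1; for simple L these two conditions say precisely that L is
not of type A_r or C_r (r ≥ 1), the case excluded in the source. Let W be a three-dimensional linear
subspace of L stable under 𝔟 and q a quadratic form on W which is semi-invariant under 𝔟: for every
x in 𝔟 there is a scalar c with polar_q([x, w], w) = c q(w) for all w in W (this is the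
infinitesimal condition for the line spanned by q, equivalently the conic q = 0 of the plane P(W),
to be stable under the Borel subgroup). Then q is a scalar multiple of the square of a linear form
on W. In the source's words: P(L) contains no Borel-stable conic which is smooth or reducible (a
pair of distinct lines); only double lines occur. (Over the complex numbers a conic of rank at least
two is Borel-stable exactly when its plane is 𝔟-stable and its equation is 𝔟-semi-invariant, which
is the form stated here.) -/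
theorem result {ι : Type u} {K : Type v} {L : Type w} [Fintype ι] [Field K] [CharZero K]
    [IsAlgClosed K] [LieRing L] [LieAlgebra K L] [FiniteDimensional K L] [LieAlgebra.IsSimple K L]
    (H : LieSubalgebra K L) [H.IsCartanSubalgebra] (b : LieAlgebra.Basis ι H)
    (ρ : Module.Dual K H) (hρ : rootSpace H ρ ≠ ⊥) (htop : ∀ i, rootSpace H (ρ + b.baseSupp i) = ⊥)
    (j : ι) (hN : ∀ i, ρ (b.h' i) ≠ 0 ↔ i = j) (hj : ρ (b.h' j) = 1)
    (W : Submodule K L) (hW : Module.finrank K W = 3)
    (hst : ∀ x ∈ H.toSubmodule ⊔ (b.borelUpper : Submodule K L), ∀ w ∈ W, ⁅x, w⁆ ∈ W)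
    (q : QuadraticForm K W)
    (hq : ∀ (x : L) (hx : x ∈ H.toSubmodule ⊔ (b.borelUpper : Submodule K L)), ∃ c : K, ∀ w : W,
      QuadraticMap.polar q ⟨⁅x, (w : L)⁆, hst x hx w w.property⟩ w = c * q w) :
    ∃ (ℓ : Module.Dual K W) (c : K), ∀ w : W, q w = c * ℓ w ^ 2 := by
  obtain ⟨v, hv, hk, hv0⟩ := Groth.Misc13.Adj.exists_hw b ρ hρ htop
  obtain ⟨i, hij, hne, heq⟩ := Groth.Misc13.Adj.exists_w b ρ j hN hj hv hk hv0 hst hW
  set u := Groth.Misc13.Adj.uu b j v
  set w := Groth.Misc13.Adj.ww b j v i
  have hvW : v ∈ W := heq ▸ Submodule.subset_span (by simp)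
  have huW : u ∈ W := heq ▸ Submodule.subset_span (by simp)
  have hwW : w ∈ W := heq ▸ Submodule.subset_span (by simp)
  let V : W := ⟨v, hvW⟩
  let U : W := ⟨u, huW⟩
  let Z : W := ⟨w, hwW⟩
  have hγ : (-(b.A j i : K)) ≠ 0 := neg_ne_zero.2 (Int.cast_ne_zero.2
    (Groth.Misc13.Adj.ww_adj b ρ j hN hj hv hk hv0 hij hne).1)
  set γ : K := -(b.A j i : K)
  set β := QuadraticMap.polarBilin q
  have hβ : ∀ x y, β x y = QuadraticMap.polar q x y := fun _ _ => rfl
  have hβq : ∀ x, β x x = 2 * q x := fun x => by rw [hβ, QuadraticMap.polar_self, nsmul_eq_mul]; norm_num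
  -- the polarised semi-invariance identity
  have hpol : ∀ k, ∃ c : K, ∀ a a' z z' : W, (a' : L) = ⁅b.e k, (a : L)⁆ → (z' : L) = ⁅b.e k, (z : L)⁆ →
      β a' z + β z' a = c * β a z := by
    intro k
    obtain ⟨c, hc⟩ := hq (b.e k) (Groth.Misc13.Adj.e_mem_borel b k)
    refine ⟨c, fun a a' z z' ha hz => ?_⟩
    have h1 := hc (a + z)
    have h2 := hc a
    have h3 := hc z
    rw [show (⟨⁅b.e k, (a : L)⁆, hst _ (Groth.Misc13.Adj.e_mem_borel b k) a a.property⟩ : W) = a' from
      Subtype.ext ha.symm] at h2
    rw [show (⟨⁅b.e k, (z : L)⁆, hst _ (Groth.Misc13.Adj.e_mem_borel b k) z z.property⟩ : W) = z' from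
      Subtype.ext hz.symm] at h3
    rw [show (⟨⁅b.e k, ((a + z : W) : L)⁆, hst _ (Groth.Misc13.Adj.e_mem_borel b k) _ (a + z).property⟩ : W) = a' + z' from
      Subtype.ext (show ⁅b.e k, (a : L) + (z : L)⁆ = (a' : L) + (z' : L) by rw [lie_add, ha, hz]), ← hβ] at h1
    simp only [map_add, LinearMap.add_apply] at h1
    rw [QuadraticMap.map_add q a z] at h1
    rw [← hβ] at h2 h3
    rw [← hβ] at h1
    linear_combination h1 - h2 - h3
  obtain ⟨c, hc⟩ := hpol j
  have ev : ((0 : W) : L) = ⁅b.e j, (V : L)⁆ := (hk j).symm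
  have eu : (V : L) = ⁅b.e j, (U : L)⁆ := (Groth.Misc13.Adj.e_u b ρ j hj hv hk).symm
  have ew : ((0 : W) : L) = ⁅b.e j, (Z : L)⁆ :=
    (Groth.Misc13.Adj.e_ww_ne b ρ j hN hj hv hk hv0 hij hij.symm).symm
  have h1 := hc V 0 V 0 ev ev
  have h2 := hc U V V 0 eu ev
  have h3 := hc U V U V eu eu
  have h4 := hc Z 0 Z 0 ew ew
  have h5 := hc U V Z 0 eu ew
  have h6 := hc V 0 Z 0 ev ew
  obtain ⟨d, hd⟩ := hpol i
  have ev' : ((0 : W) : L) = ⁅b.e i, (V : L)⁆ := (hk i).symm
  have eu' : ((0 : W) : L) = ⁅b.e i, (U : L)⁆ := (Groth.Misc13.Adj.e_u_ne b j hk hij).symm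
  have ew' : ((γ • U : W) : L) = ⁅b.e i, (Z : L)⁆ := (Groth.Misc13.Adj.e_ww b ρ j hN hj hv hk hij).symm
  have g1 := hd U 0 U 0 eu' eu'
  have g2 := hd Z (γ • U) U 0 ew' eu'
  have g3 := hd Z (γ • U) Z (γ • U) ew' ew'
  simp only [map_zero, LinearMap.zero_apply, zero_add, add_zero, map_smul, LinearMap.smul_apply, smul_eq_mul] at h1 h2 h3 h4 h5 h6 g1 g2 g3
  have hsymm : ∀ x y, β x y = β y x := fun x y => QuadraticMap.polar_comm q x y
  rw [hsymm Z U] at g2
  have expand : ∀ a b' c' : K, q (a • V + b' • U + c' • Z) = a * a * q V + b' * b' * q U + c' * c' * q Z +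
      a * b' * β U V + a * c' * β V Z + b' * c' * β U Z := by
    intro a b' c'
    rw [QuadraticMap.map_add q, QuadraticMap.map_add q (a • V), ← hβ, ← hβ,
      QuadraticMap.map_smul, QuadraticMap.map_smul, QuadraticMap.map_smul]
    simp only [map_add, LinearMap.add_apply, map_smul, LinearMap.smul_apply, smul_eq_mul]
    try simp only [LinearMap.add_apply, LinearMap.smul_apply, map_smul, smul_eq_mul]
    rw [hsymm V U]
    ring
  have hspan : ∀ x : W, ∃ a b' c' : K, x = a • V + b' • U + c' • Z := fun x => by
    have hx : (x : L) ∈ Submodule.span K {v, u, w} := heq ▸ x.2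
    obtain ⟨a, b', c', he⟩ := Submodule.mem_span_triple.1 hx
    exact ⟨a, b', c', Subtype.ext he.symm⟩
  by_cases hc0 : c = 0
  · subst hc0
    simp only [zero_mul] at h2 h3 h5
    have hVV : q V = 0 := by rw [hβq] at h2; simpa using h2
    have hUV : β U V = 0 := by
      have : (2 : K) * β U V = 0 := by rw [hsymm V U] at h3; linear_combination h3
      simpa using this
    by_cases hd0 : d = 0
    · subst hd0
      simp only [zero_mul] at g2 g3
      have hUU : q U = 0 := by
        have : γ * (2 * q U) = 0 := by rw [← hβq]; linear_combination g2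
        simpa [hγ] using this
      have hUZ : β U Z = 0 := by
        have : (2 * γ) * β U Z = 0 := by linear_combination g3
        simpa [hγ] using this
      -- linear form: the Z-coordinate
      have hli : LinearIndependent K ![V, U, Z] := by
        apply linearIndependent_of_top_le_span_of_card_eq_finrank
        · intro x _
          obtain ⟨a, b', c', rfl⟩ := hspan x
          exact add_mem (add_mem (Submodule.smul_mem _ _ (Submodule.subset_span ⟨0, rfl⟩))
            (Submodule.smul_mem _ _ (Submodule.subset_span ⟨1, rfl⟩))) (Submodule.smul_mem _ _ (Submodule.subset_span ⟨2, rfl⟩))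
        · simp [hW]
      let B : Module.Basis (Fin 3) K W := basisOfLinearIndependentOfCardEqFinrank hli (by simp [hW])
      refine ⟨B.coord 2, q Z, fun x => ?_⟩
      obtain ⟨a, b', c', rfl⟩ := hspan x
      have hcoord : B.coord 2 (a • V + b' • U + c' • Z) = c' := by
        have hB : ∀ n, B n = ![V, U, Z] n := fun n => by simp [B]
        have hx : a • V + b' • U + c' • Z = ∑ n, (![a, b', c'] n) • B n := by simp [Fin.sum_univ_three, hB]
        rw [hx, Module.Basis.coord_apply, B.repr_sum_self]
        rfl
      rw [expand, hcoord, hVV, hUU, hUV, hUZ, show β V Z = 0 by linear_combination h5]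
      ring
    · have hUU : q U = 0 := by rw [hβq] at g1; simpa [hd0] using g1
      have hUZ : β U Z = 0 := by rw [hβq, hUU, mul_zero, mul_zero] at g2; simpa [hd0] using g2.symm
      have hZZ : q Z = 0 := by rw [hUZ, mul_zero, add_zero, hβq] at g3; simpa [hd0] using g3.symm
      refine ⟨0, 0, fun x => ?_⟩
      obtain ⟨a, b', c', rfl⟩ := hspan x
      rw [expand, hVV, hUU, hZZ, hUV, hUZ, show β V Z = 0 by linear_combination h5]
      ring
  · have hVV : q V = 0 := by rw [hβq] at h1; simpa [hc0] using h1
    have hUV : β U V = 0 := by rw [hβq, hVV, mul_zero] at h2; simpa [hc0] using h2.symm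
    have hUU : q U = 0 := by rw [hsymm V U, hUV, add_zero, hβq] at h3; simpa [hc0] using h3.symm
    have hZZ : q Z = 0 := by rw [hβq] at h4; simpa [hc0] using h4
    have hVZ : β V Z = 0 := by simpa [hc0] using h6
    have hUZ : β U Z = 0 := by rw [hVZ] at h5; simpa [hc0] using h5.symm
    refine ⟨0, 0, fun x => ?_⟩
    obtain ⟨a, b', c', rfl⟩ := hspan x
    rw [expand, hVV, hUU, hZZ, hUV, hVZ, hUZ]
    ring

end Groth.Agent.S17432
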