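import Groth.Statements.S17435
import Groth.Agent.Misc13.DefoExt

set_option autoImplicit false
universe u
open CategoryTheory AlgebraicGeometry
open DefoSh

namespace Groth.Agent.S17435

/-- Let k be a field, X a locally Noetherian scheme over k and E a coherent O_X-module. There is a
bijection e between the isomorphism classes of deformations of E over the dual numbers k[ε]
(O_X-modules with a k[ε]-action, flat stalkwise, with reduction identified with E) and Ext¹(E, E)
such that, for every such deformation D with reduction π : D.sheaf → E and for the map i : E →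
D.sheaf with π ≫ i = ε (multiplication by ε), e sends the class of D to the extension class of the
short exact sequence 0 → E → D.sheaf → E → 0 formed by i and π; and e sends the class of the trivial
deformation E ⊕ εE to 0. The published statement takes X to be any scheme over k; this row assumes X
locally Noetherian, so that coherent means quasi-coherent of finite type. -/
theorem result (k : Type u) [Field k] (X : Scheme.{u})
    [X.Over (Spec (CommRingCat.of k))] [IsLocallyNoetherian X] (E : X.Modules) (hE : Coh.IsCoh E)
    [HasExt.{u} X.Modules] :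
    ∃ e : DefoSh.FirstOrder k E ≃ Abelian.Ext E E 1,
      e (DefoSh.Defo.trivDual k E).cl = 0 ∧
      ∀ (D : DefoSh.Defo E (ArtFun.Art.dual k k)) (i : E ⟶ D.sheaf)
        (hi : D.π ≫ i = D.act (DualNumber.eps : DualNumber k))
        (h0 : i ≫ D.π = 0) (hS : (ShortComplex.mk i D.π h0).ShortExact),
        e D.cl = hS.extClass := by
  open Groth.Misc13.DefoBase Limits Abelian in
  · classical
    have hex := fun D : DefoSh.Defo E (ArtFun.Art.dual k k) => exists_ι D
    choose ι hι using hex
    let cls : DefoSh.Defo E (ArtFun.Art.dual k k) → Ext E E 1 := fun D =>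
      (shortExact_defo (ι D) (hι D)).extClass
    have huniq : ∀ (D : DefoSh.Defo E (ArtFun.Art.dual k k)) (i : E ⟶ D.sheaf),
        D.π ≫ i = D.act (DualNumber.eps : DualNumber k) → i = ι D := fun D i hi => by
      have := epi_π D
      rw [← cancel_epi D.π, hi, hι]
    have hwd : ∀ D D' : DefoSh.Defo E (ArtFun.Art.dual k k), Nonempty (DefoSh.Defo.Iso D D') →
        cls D = cls D' := by
      rintro D D' ⟨θ⟩
      have := epi_π D
      have h1 : ι D ≫ θ.iso.hom = ι D' := by
        have e := θ.act_hom (DualNumber.eps : DualNumber k)
        rw [← hι D, ← hι D', Category.assoc, reassoc_of% θ.hom_π] at e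
        exact (cancel_epi D.π).1 e
      let f : ShortComplex.mk (ι D) D.π (ι_π _ (hι D)) ⟶ ShortComplex.mk (ι D') D'.π (ι_π _ (hι D')) :=
        { τ₁ := 𝟙 E
          τ₂ := θ.iso.hom
          τ₃ := 𝟙 E
          comm₁₂ := by
            show 𝟙 E ≫ ι D' = ι D ≫ θ.iso.hom
            rw [Category.id_comp, h1]
          comm₂₃ := by
            show θ.iso.hom ≫ D'.π = D.π ≫ 𝟙 E
            rw [Category.comp_id, θ.hom_π] }
      have hn : (cls D).comp (Ext.mk₀ (𝟙 E)) (add_zero 1) = (Ext.mk₀ (𝟙 E)).comp (cls D') (zero_add 1) :=
        ShortComplex.ShortExact.extClass_naturality _ _ f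
      rwa [Ext.comp_mk₀_id, Ext.mk₀_id_comp] at hn
    have hinj : ∀ D D' : DefoSh.Defo E (ArtFun.Art.dual k k), cls D = cls D' →
        Nonempty (DefoSh.Defo.Iso D D') := by
      intro D D' e
      obtain ⟨θ, h1, h2⟩ := exists_hom_of_extClass_eq _ _ e
      have hact : ∀ a : ArtFun.Art.dual k k, D.act a ≫ θ = θ ≫ D'.act a := by
        intro a
        let a' : DualNumber k := a
        rw [show D.act a = _ from act_eq (ι D) (hι D) a', show D'.act a = _ from act_eq (ι D') (hι D') a',
          Preadditive.add_comp, Preadditive.comp_add, Linear.smul_comp, Linear.comp_smul, Category.assoc, h1,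
          reassoc_of% h2]
        congr 1
        exact (KLin.comp_smulModΓ θ _).symm
      have : IsIso θ := isIso_of_comm D D' θ hact h2
      exact ⟨⟨asIso θ, hact, h2⟩⟩
    let e : DefoSh.FirstOrder k E → Ext E E 1 := Quotient.lift cls hwd
    have hbij : Function.Bijective e := by
      constructor
      · intro a b h
        induction a using Quotient.ind with
        | _ D =>
          induction b using Quotient.ind with
          | _ D' => exact Quotient.sound (hinj D D' h)
      · intro c
        obtain ⟨S, i, p, w, hS, hc⟩ := Groth.SGA7.Ext1.exists_shortExact_extClass_eq c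
        refine ⟨(ofExtension (k := k) S i p w hS).cl, ?_⟩
        have hi := huniq (ofExtension (k := k) S i p w hS) i (ofExtension_act_eps S i p w hS)
        exact ((extClass_congr (hι _) (ofExtension_act_eps S i p w hS) hi.symm).trans
          (extClass_ofExtension S i p w hS)).trans hc
    refine ⟨Equiv.ofBijective e hbij, ?_, fun D i hi h0 hS => ?_⟩
    · show cls (DefoSh.Defo.trivDual k E) = 0
      exact extClass_trivDual _ (hι _)
    · show (shortExact_defo (ι D) (hι D)).extClass = hS.extClass
      obtain rfl := huniq D i hi
      rfl

end Groth.Agent.S17435
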