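import Groth.Statements.S17436
import Groth.Agent.Misc13.DefoConnBase

set_option autoImplicit false
universe u
open CategoryTheory AlgebraicGeometry
open DefoSh

namespace Groth.Agent.S17436

/-- Let k be a field, X a scheme over k with a receptacle of differentials (Ω′, δ) over k, Ω′
quasi-coherent, and E a finite locally free O_X-module with a connection ∇ : E → E ⊗ Ω′. Let D be a
first-order deformation of E (over k[ε]) with reduction π : D.sheaf → E, let ι : E → D.sheaf be
multiplication by ε (π ≫ ι = ε), and let c₀ be a deformation of ∇ over D (a connection on D.sheaf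
commuting with k[ε] and reducing to ∇ along π). Then the deformations c of ∇ over D correspond
bijectively to the O_X-linear maps φ : E → E ⊗ Ω′ (the global sections of End(E) ⊗ Ω′ for a vector
bundle), the bijection Φ being pinned by c − c₀ = π ≫ Φ(c) ≫ (ι ⊗ 1). The printed statement is the
case of the trivial deformation E ⊕ εE; its clause on connections with fixed determinant is not
stated. The published statement is for a curve with its sheaf of differentials; this row takes any
scheme over k with any quasi-coherent receptacle of differentials, which the printed computation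
does not use. -/
theorem result (k : Type u) [Field k] (X : Scheme.{u})
    [X.Over (Spec (CommRingCat.of k))] (Ω' : X.Modules) (δ : OmegaSh.Der (X ↘ Spec (CommRingCat.of k)) Ω')
    (hΩ' : Coh.IsQCoh Ω') (E : X.Modules) (hE : FlatMod.IsFinLocFree E)
    (nabla : Coh.toAb E ⟶ Coh.toAb (CohB1.tensorMod E Ω')) (hn : ConnSh.IsConn δ E nabla)
    (D : DefoSh.Defo E (ArtFun.Art.dual k k)) (ι : E ⟶ D.sheaf)
    (hι : D.π ≫ ι = D.act (DualNumber.eps : DualNumber k)) (c₀ : DefoSh.DefoConn δ nabla D) :
    ∃ Φ : DefoSh.DefoConn δ nabla D ≃ (E ⟶ CohB1.tensorMod E Ω'),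
      ∀ c : DefoSh.DefoConn δ nabla D,
        c.conn - c₀.conn = (SheafOfModules.toSheaf X.ringCatSheaf).map (D.π ≫ Φ c ≫ KoszTw.tensorMap ι (𝟙 Ω')) := by
  open Groth.Misc13.DefoBase Limits in
  · have hπ : Epi D.π := epi_π D
    have hTι := shortExact_defo_tensor ι hι hE Ω'
    have hmono : Mono (T Ω' ι) := hTι.mono_f
    have w : T Ω' ι ≫ T Ω' D.π = 0 := by rw [T, T, ← tensorMap_comp_left, ι_π ι hι, tensorMap_zero_left]
    have hc₀ := act_horizontal_of_eps (δ := δ) D ι hι c₀.isConn
    let m : (E ⟶ CohB1.tensorMod E Ω') → (D.sheaf ⟶ CohB1.tensorMod D.sheaf Ω') :=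
      fun φ => D.π ≫ φ ≫ T Ω' ι
    have hm₁ : ∀ φ, (D.π ≫ ι) ≫ m φ = 0 := fun φ => by
      simp only [m, Category.assoc]
      rw [← Category.assoc ι, ι_π ι hι, zero_comp, comp_zero]
    have hm₂ : ∀ φ, m φ ≫ T Ω' (D.π ≫ ι) = 0 := fun φ => by
      simp only [m, T, Category.assoc, tensorMap_comp_left]
      rw [← Category.assoc (KoszTw.tensorMap ι _)]
      simp only [T] at w
      rw [w, zero_comp, comp_zero, comp_zero]
    have hm₃ : ∀ φ, m φ ≫ T Ω' D.π = 0 := fun φ => by
      simp only [m, Category.assoc, w, comp_zero]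
    have hε : ∀ c : DefoSh.DefoConn δ nabla D,
        ab (D.π ≫ ι) ≫ c.conn = c.conn ≫ ab (T Ω' (D.π ≫ ι)) := fun c => by
      rw [hι]
      exact (horizontal_iff _).1 (c.act_horizontal _)
    let mk : (E ⟶ CohB1.tensorMod E Ω') → DefoSh.DefoConn δ nabla D := fun φ =>
      { conn := c₀.conn + ab (m φ)
        isConn := isConn_add c₀.isConn _
        act_horizontal := act_horizontal_of_eps D ι hι (isConn_add c₀.isConn _) (by
          rw [Preadditive.comp_add, Preadditive.add_comp, hε c₀, ← ab_comp, ← ab_comp, hm₁, hm₂])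
        π_horizontal := (horizontal_iff _).2 (by
          rw [Preadditive.add_comp, ← ab_comp, hm₃, ab_zero, add_zero]
          exact (horizontal_iff _).1 c₀.π_horizontal) }
    have hbij : Function.Bijective mk := by
      constructor
      · intro φ φ' h
        have h' : c₀.conn + ab (m φ) = c₀.conn + ab (m φ') := congrArg DefoSh.DefoConn.conn h
        have h'' : m φ = m φ' := ab_injective (add_left_cancel h')
        simp only [m] at h''
        exact (cancel_mono (T Ω' ι)).1 ((cancel_epi D.π).1 h'')
      · intro c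
        obtain ⟨d, hd⟩ := exists_ab_eq_sub c.isConn c₀.isConn
        have h1 : d ≫ T Ω' D.π = 0 := ab_injective (by
          rw [ab_comp, hd, Preadditive.sub_comp, ab_zero, ← (horizontal_iff _).1 c.π_horizontal,
            ← (horizontal_iff _).1 c₀.π_horizontal, sub_self])
        have h2 : (D.π ≫ ι) ≫ d = 0 := by
          have : (D.π ≫ ι) ≫ d = d ≫ T Ω' (D.π ≫ ι) := ab_injective (by
            rw [ab_comp, ab_comp d, hd, Preadditive.sub_comp, Preadditive.comp_sub, hε c, hε c₀])
          rw [this]
          simp only [T, tensorMap_comp_left, ← Category.assoc]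
          simp only [T] at h1
          rw [h1, zero_comp]
        rw [Category.assoc] at h2
        have h3 : ι ≫ d = 0 := (cancel_epi D.π).1 (h2.trans comp_zero.symm)
        obtain ⟨φ, hφ⟩ := exists_factor hι d (T Ω' ι) (T Ω' D.π) w hTι h1 h3
        refine ⟨φ, ?_⟩
        have hext : ∀ a b : DefoSh.DefoConn δ nabla D, a.conn = b.conn → a = b := by
          rintro ⟨⟩ ⟨⟩ h; congr
        apply hext
        show c₀.conn + ab (D.π ≫ φ ≫ T Ω' ι) = c.conn
        rw [hφ, hd]
        exact add_sub_cancel _ _
    refine ⟨(Equiv.ofBijective mk hbij).symm, fun c => ?_⟩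
    obtain ⟨φ, rfl⟩ := hbij.2 c
    rw [Equiv.ofBijective_symm_apply_apply mk hbij φ]
    exact add_sub_cancel_left _ _

end Groth.Agent.S17436
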