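import Groth.Statements.S17437
import Groth.Agent.Misc13.DefoConnBase

set_option autoImplicit false
universe u
open CategoryTheory AlgebraicGeometry
open DefoSh

namespace Groth.Agent.S17437

/-- Let k be a field, X a scheme over k with a receptacle of differentials (Ω′, δ) over k, Ω′
quasi-coherent, and E a finite locally free O_X-module with a connection ∇ : E → E ⊗ Ω′. Let D be a
first-order deformation of E with reduction π : D.sheaf → E and let ι : E → D.sheaf be
multiplication by ε (π ≫ ι = ε). Two deformations c and c′ of ∇ over D are transport equivalent —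
some automorphism of D inducing the identity of E carries c to c′ — if and only if there is a global
endomorphism S of E with c′ − c = π ≫ (∇ ≫ (S ⊗ 1) − S ≫ ∇) ≫ (ι ⊗ 1); the middle map is minus the
covariant derivative of S for the connection induced on End(E), so together with the bijection
between deformations of ∇ over D and Hom(E, E ⊗ Ω′) this identifies transport classes with H⁰(End(E)
⊗ Ω′) modulo the derivatives of global endomorphisms. The printed statement is the case of the
trivial deformation. The published statement is for a curve with its sheaf of differentials; this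
row takes any scheme over k with any quasi-coherent receptacle of differentials, which the printed
computation does not use. -/
theorem result (k : Type u) [Field k] (X : Scheme.{u})
    [X.Over (Spec (CommRingCat.of k))] (Ω' : X.Modules) (δ : OmegaSh.Der (X ↘ Spec (CommRingCat.of k)) Ω')
    (hΩ' : Coh.IsQCoh Ω') (E : X.Modules) (hE : FlatMod.IsFinLocFree E)
    (nabla : Coh.toAb E ⟶ Coh.toAb (CohB1.tensorMod E Ω')) (hn : ConnSh.IsConn δ E nabla)
    (D : DefoSh.Defo E (ArtFun.Art.dual k k)) (ι : E ⟶ D.sheaf)
    (hι : D.π ≫ ι = D.act (DualNumber.eps : DualNumber k)) (c c' : DefoSh.DefoConn δ nabla D) :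
    DefoSh.DefoConn.Transport c c' ↔ ∃ S : E ⟶ E,
      c'.conn - c.conn = (SheafOfModules.toSheaf X.ringCatSheaf).map D.π ≫
        (nabla ≫ (SheafOfModules.toSheaf X.ringCatSheaf).map (KoszTw.tensorMap S (𝟙 Ω')) - (SheafOfModules.toSheaf X.ringCatSheaf).map S ≫ nabla) ≫
          (SheafOfModules.toSheaf X.ringCatSheaf).map (KoszTw.tensorMap ι (𝟙 Ω')) := by
  open Groth.Misc13.DefoBase Limits in
  · have hπ : Epi D.π := epi_π D
    have hπab : Epi (ab D.π) := epi_ab D.π
    have hS := shortExact_defo ι hι
    have hε : ab (D.π ≫ ι) ≫ c'.conn = c'.conn ≫ ab (T Ω' (D.π ≫ ι)) := by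
      rw [hι]; exact (horizontal_iff _).1 (c'.act_horizontal _)
    have hπc := (horizontal_iff _).1 c.π_horizontal
    have hπc' := (horizontal_iff _).1 c'.π_horizontal
    have hιc : ab ι ≫ c'.conn = nabla ≫ ab (T Ω' ι) := by
      rw [← cancel_epi (ab D.π), ← Category.assoc, ← ab_comp, hε, reassoc_of% hπc']
      simp only [T, tensorMap_comp_left, ab_comp]
    have hmain : ∀ S : E ⟶ E,
        (ab (𝟙 D.sheaf + D.π ≫ S ≫ ι) ≫ c'.conn = c.conn ≫ ab (T Ω' (𝟙 D.sheaf + D.π ≫ S ≫ ι))) ↔
        c'.conn - c.conn = ab D.π ≫ (nabla ≫ ab (T Ω' S) - ab S ≫ nabla) ≫ ab (T Ω' ι) := by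
      intro S
      simp only [T, tensorMap_add_left, KoszTw.tensorMap_id, tensorMap_comp_left]
      simp only [ab_add, ab_id, ab_comp, Preadditive.add_comp, Preadditive.comp_add, Category.id_comp,
        Category.comp_id, Category.assoc, Preadditive.sub_comp, Preadditive.comp_sub]
      simp only [T] at hιc hπc
      rw [hιc, ← reassoc_of% hπc]
      constructor
      · intro h
        rw [sub_eq_sub_iff_add_eq_add]
        rw [h]
        abel
      · intro h
        rw [sub_eq_sub_iff_add_eq_add] at h
        rw [h]
        abel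
    constructor
    · rintro ⟨e, he⟩
      have hg : (e.iso.hom - 𝟙 D.sheaf) ≫ D.π = 0 := by
        rw [Preadditive.sub_comp, e.hom_π, Category.id_comp, sub_self]
      have hg' : ι ≫ (e.iso.hom - 𝟙 D.sheaf) = 0 := by
        rw [← cancel_epi D.π, comp_zero, ← Category.assoc, hι, Preadditive.comp_sub, Category.comp_id]
        erw [e.act_hom]
        rw [← hι]
        have h0 : (e.iso.hom - 𝟙 D.sheaf) ≫ D.π ≫ ι = 0 := by rw [← Category.assoc, hg, zero_comp]
        rw [Preadditive.sub_comp, Category.id_comp] at h0
        exact h0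
      obtain ⟨S, hS'⟩ := exists_factor hι _ ι D.π (ι_π ι hι) hS hg hg'
      refine ⟨S, (hmain S).1 ?_⟩
      rw [hS', add_sub_cancel]
      exact (horizontal_iff _).1 he
    · rintro ⟨S, hS'⟩
      let f : D.sheaf ⟶ D.sheaf := 𝟙 D.sheaf + D.π ≫ S ≫ ι
      have hfπ : f ≫ D.π = D.π := by
        simp only [f, Preadditive.add_comp, Category.assoc, ι_π ι hι, comp_zero, Category.id_comp, add_zero]
      have hact : ∀ a, D.act a ≫ f = f ≫ D.act a := fun a => act_comm_of_eps hι f (by
        simp only [f, Preadditive.comp_add, Preadditive.add_comp, Category.assoc, Category.comp_id,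
          Category.id_comp, reassoc_of% (ι_π ι hι), zero_comp, comp_zero]) a
      have : IsIso f := isIso_of_comm D D f hact hfπ
      exact ⟨⟨asIso f, hact, hfπ⟩, (horizontal_iff _).2 ((hmain S).2 hS')⟩

end Groth.Agent.S17437
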