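import Groth.Statements.S17439
import Groth.Agent.Misc13.DefoConnBase

set_option autoImplicit false
universe u
open CategoryTheory AlgebraicGeometry
open DefoSh

namespace Groth.Agent.S17439

/-- Let k be a field, X a scheme over k with a receptacle of differentials (Ω′, δ) over k, Ω′
quasi-coherent, and E a finite locally free O_X-module with a connection ∇ : E → E ⊗ Ω′. Then ∇ has
at least one deformation over the trivial first-order deformation E ⊕ εE of E (a connection on E ⊕
εE commuting with k[ε] and reducing to ∇), so the set of deformations of ∇ over the trivial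
deformation (the set that corresponds to H⁰(End(E) ⊗ Ω′)) is not empty. The published statement is
for a curve with its sheaf of differentials; this row takes any scheme over k with any
quasi-coherent receptacle of differentials, which the printed computation does not use. -/
theorem result (k : Type u) [Field k] (X : Scheme.{u})
    [X.Over (Spec (CommRingCat.of k))] (Ω' : X.Modules) (δ : OmegaSh.Der (X ↘ Spec (CommRingCat.of k)) Ω')
    (hΩ' : Coh.IsQCoh Ω') (E : X.Modules) (hE : FlatMod.IsFinLocFree E)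
    (nabla : Coh.toAb E ⟶ Coh.toAb (CohB1.tensorMod E Ω')) (hn : ConnSh.IsConn δ E nabla) :
    Nonempty (DefoSh.DefoConn δ nabla (DefoSh.Defo.trivDual k E)) := by
  open Groth.Misc13.DefoBase Limits in
  · let D := DefoSh.Defo.trivDual k E
    let p₁ : D.sheaf ⟶ E := (biprod.fst : E ⊞ E ⟶ E)
    let p₂ : D.sheaf ⟶ E := (biprod.snd : E ⊞ E ⟶ E)
    let j₁ : E ⟶ D.sheaf := (biprod.inl : E ⟶ E ⊞ E)
    let j₂ : E ⟶ D.sheaf := (biprod.inr : E ⟶ E ⊞ E)
    have e11 : j₁ ≫ p₁ = 𝟙 E := biprod.inl_fst
    have e12 : j₁ ≫ p₂ = 0 := biprod.inl_snd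
    have e21 : j₂ ≫ p₁ = 0 := biprod.inr_fst
    have e22 : j₂ ≫ p₂ = 𝟙 E := biprod.inr_snd
    have htot : p₁ ≫ j₁ + p₂ ≫ j₂ = 𝟙 D.sheaf := biprod.total
    let c : Coh.toAb D.sheaf ⟶ Coh.toAb (CohB1.tensorMod D.sheaf Ω') :=
      ab p₁ ≫ nabla ≫ ab (T Ω' j₁) + ab p₂ ≫ nabla ≫ ab (T Ω' j₂)
    have hc : ConnSh.IsConn δ D.sheaf c := by
      intro U t e
      have ht : p₁.app U (t • e) = t • p₁.app U e := Scheme.Modules.Hom.app_smul _ _ _
      have ht' : p₂.app U (t • e) = t • p₂.app U e := Scheme.Modules.Hom.app_smul _ _ _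
      change ConnSh.secApp (ab (T Ω' j₁)) U (ConnSh.secApp nabla U (p₁.app U (t • e))) +
          ConnSh.secApp (ab (T Ω' j₂)) U (ConnSh.secApp nabla U (p₂.app U (t • e))) =
        t • (ConnSh.secApp (ab (T Ω' j₁)) U (ConnSh.secApp nabla U (p₁.app U e)) +
          ConnSh.secApp (ab (T Ω' j₂)) U (ConnSh.secApp nabla U (p₂.app U e))) +
          SecTwist.tmul D.sheaf Ω' U e (δ.app U t)
      have key : ∀ (j : E ⟶ D.sheaf) (a : (CohB1.tensorMod E Ω').val.obj (Opposite.op U))
          (x : E.val.obj (Opposite.op U)) (y : Γ(Ω', U)),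
          ConnSh.secApp (ab (T Ω' j)) U (t • a + SecTwist.tmul E Ω' U x y) =
            t • ConnSh.secApp (ab (T Ω' j)) U a + SecTwist.tmul D.sheaf Ω' U (j.app U x) y := by
        intro j a x y
        rw [map_add]
        exact congrArg₂ (· + ·) (Scheme.Modules.Hom.app_smul (T Ω' j) t a) (KoszTw.tensorMap_tmul j (𝟙 Ω') U x y)
      rw [ht, ht']
      erw [hn U t, hn U t, key, key]
      have he : SecTwist.tmul D.sheaf Ω' U e (δ.app U t) =
          SecTwist.tmul D.sheaf Ω' U (j₁.app U (p₁.app U e)) (δ.app U t) +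
          SecTwist.tmul D.sheaf Ω' U (j₂.app U (p₂.app U e)) (δ.app U t) := by
        refine Eq.trans ?_ (Groth.PicAux.tmulSec_add_left (L := D.sheaf) (M := Ω') _ _ _)
        congr 1
        exact (congr($(congrArg (fun f : D.sheaf ⟶ D.sheaf => f.app U) htot) e)).symm
      rw [he]
      refine Eq.trans ?_ (congrArg (· + _) (smul_add t _ _).symm)
      abel
    have hι : D.π ≫ j₂ = D.act (DualNumber.eps : DualNumber k) := (DefoSh.dualAct_eps E).symm
    refine ⟨{ conn := c, isConn := hc, act_horizontal := act_horizontal_of_eps D j₂ hι hc ?_,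
              π_horizontal := (horizontal_iff _).2 ?_ }⟩
    · show ab (p₁ ≫ j₂) ≫ c = c ≫ ab (T Ω' (p₁ ≫ j₂))
      simp only [c, T, Preadditive.comp_add, Preadditive.add_comp, Category.assoc, ab_comp,
        tensorMap_comp_left]
      simp only [← Category.assoc (ab j₂), ← ab_comp, ← tensorMap_comp_left, e21, e22,
        ← Category.assoc j₁, ← Category.assoc j₂, e11,
        Category.id_comp, zero_comp, tensorMap_zero_left, ab_zero, ab_id, comp_zero, zero_add, add_zero]
    · show ab p₁ ≫ nabla = c ≫ ab (T Ω' p₁)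
      simp only [c, T, Preadditive.add_comp, Category.assoc, ← ab_comp, ← tensorMap_comp_left, e11, e21,
        KoszTw.tensorMap_id, tensorMap_zero_left, ab_id, ab_zero, Category.comp_id, comp_zero, add_zero]

end Groth.Agent.S17439
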