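import Groth.Statements.S1744
import Groth.Agent.LocCohBase.Basic
import Mathlib.Algebra.Category.ModuleCat.EnoughInjectives
import Mathlib.Algebra.Homology.DerivedCategory.Ext.ExactSequences

set_option autoImplicit false
universe u
open CategoryTheory
attribute [local instance] HasDerivedCategory.standard
open LocCoh

namespace Groth.Agent.S1744

/-- Let I be an ideal of a Noetherian ring A and e a natural number with cd(A, I) ≤ e. For every n ≥ 1
there is m > n such that for every A-module N and every i > e, precomposing with A/I^m → A/I^n kills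
every map A/I^n → N[i] in D(A), i.e. the transition maps annihilate Ext^i_A(A/I^n, N) for i > e. -/
theorem result (A : Type u) [CommRing A] [IsNoetherianRing A] (I : Ideal A) (e : ℕ) (he : LocCoh.CdLE A I e) (n : ℕ) (hn : 1 ≤ n) : ∃ (m : ℕ) (hm : n < m), ∀ (N : Type u) [AddCommGroup N] [Module A N] (i : ℕ), e < i → ∀ φ : Dual.inD A (A ⧸ I ^ n) ⟶ (Dual.inD A N)⟦(i : ℤ)⟧, (DerivedCategory.singleFunctor (ModuleCat.{u} A) 0).map (ModuleCat.ofHom (Submodule.mapQ (I ^ m) (I ^ n) LinearMap.id (Ideal.pow_le_pow_right (Nat.le_of_lt hm)))) ≫ φ = 0 := by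
  classical
  -- the universal class in degree e + 1
  let X : ModuleCat.{u} A := Groth.LocCohBase.quotPow I n
  let P := projectiveResolution X
  let K : ModuleCat.{u} A := ModuleCat.of A
    (P.complex.X (e + 1) ⧸ LinearMap.range (P.complex.d (e + 2) (e + 1)).hom)
  let π : P.complex.X (e + 1) ⟶ K :=
    ModuleCat.ofHom (LinearMap.range (P.complex.d (e + 2) (e + 1)).hom).mkQ
  have hπ : P.complex.d (e + 2) (e + 1) ≫ π = 0 := by
    ext x
    exact (Submodule.Quotient.mk_eq_zero _).2 ⟨x, rfl⟩
  let uc : Abelian.Ext X K (e + 1) := P.extMk π (e + 2) rfl hπ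
  have hz : Groth.LocCohBase.ι I (e + 1) K n uc = 0 :=
    @Subsingleton.elim _ (he K (e + 1) (Nat.lt_succ_self e)) _ _
  obtain ⟨m₀, hm₀, hu⟩ := (Groth.LocCohBase.ι_eq_zero_iff (e + 1) K uc).1 hz
  let m := max m₀ (n + 1)
  have hnm : n < m := lt_of_lt_of_le (Nat.lt_succ_self n) (le_max_right _ _)
  refine ⟨m, hnm, ?_⟩
  let tr := Groth.LocCohBase.trans I (Nat.le_of_lt hnm)
  have htr : Groth.LocCohBase.trans I (le_max_left m₀ (n + 1)) ≫ Groth.LocCohBase.trans I hm₀ = tr :=
    Groth.LocCohBase.trans_comp I _ _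
  have key : ∀ (d : ℕ) (N : ModuleCat.{u} A) (α : Abelian.Ext X N (e + 1 + d)),
      (Abelian.Ext.mk₀ tr).comp α (zero_add _) = 0 := by
    intro d
    induction d with
    | zero =>
      intro N α
      obtain ⟨f, hf, rfl⟩ := P.extMk_surjective α (e + 2) rfl
      have hker : LinearMap.range (P.complex.d (e + 2) (e + 1)).hom ≤ LinearMap.ker f.hom := by
        rintro x ⟨y, rfl⟩
        exact congrArg (fun g => g.hom y) hf
      let g : K ⟶ N := ModuleCat.ofHom (Submodule.liftQ _ f.hom hker)
      have hg : π ≫ g = f := by ext x; rfl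
      have h1 : P.extMk f (e + 2) rfl hf =
          uc.comp (Abelian.Ext.mk₀ g) (add_zero (e + 1)) := by
        rw [P.extMk_comp_mk₀]
        exact Groth.LocCohBase.extMk_congr P hg.symm hf _
      rw [h1, ← htr, ← Abelian.Ext.mk₀_comp_mk₀,
        Abelian.Ext.comp_assoc_of_second_deg_zero,
        ← Abelian.Ext.comp_assoc_of_third_deg_zero (Abelian.Ext.mk₀ (Groth.LocCohBase.trans I hm₀))
          uc (Abelian.Ext.mk₀ g) (zero_add _), hu, Abelian.Ext.zero_comp, Abelian.Ext.comp_zero]
    | succ d ih =>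
      intro N α
      let S : ShortComplex (ModuleCat.{u} A) :=
        ShortComplex.mk (Injective.ι N) (Limits.cokernel.π (Injective.ι N))
          (Limits.cokernel.condition _)
      have hS : S.ShortExact :=
        { exact := ShortComplex.exact_of_g_is_cokernel S (Limits.cokernelIsCokernel _)
          mono_f := inferInstanceAs (Mono (Injective.ι N))
          epi_g := inferInstanceAs (Epi (Limits.cokernel.π (Injective.ι N))) }
      have hJ : α.comp (Abelian.Ext.mk₀ S.f) (add_zero _) = 0 :=
        Abelian.Ext.eq_zero_of_injective _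
      obtain ⟨β, hβ⟩ := Abelian.Ext.covariant_sequence_exact₁ X hS α hJ
        (show (e + 1 + d) + 1 = e + 1 + (d + 1) by omega)
      rw [← hβ, ← Abelian.Ext.comp_assoc _ _ _ (zero_add _) (by omega) (by omega), ih,
        Abelian.Ext.zero_comp]
  intro N _ _ i hi φ
  obtain ⟨d, rfl⟩ : ∃ d, i = e + 1 + d := ⟨i - (e + 1), by omega⟩
  have h2 := congrArg Abelian.Ext.hom
    (key d (ModuleCat.of A N) (Abelian.Ext.homEquiv.symm φ))
  rw [Abelian.Ext.comp_hom, Abelian.Ext.mk₀_hom, ShiftedHom.mk₀_comp, Abelian.Ext.zero_hom] at h2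
  have h3 : (Abelian.Ext.homEquiv.symm φ).hom = φ := Equiv.apply_symm_apply _ φ
  rw [h3] at h2
  exact h2

end Groth.Agent.S1744
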