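import Groth.Statements.S17440
import Groth.Agent.Misc13.DefoLocTriv

set_option autoImplicit false
universe u
open CategoryTheory AlgebraicGeometry
open DefoSh

namespace Groth.Agent.S17440

/-- Let k be a field, X a scheme over k, E a finite locally free O_X-module and D a first-order
deformation of E, with reduction π : D.sheaf → E. Then D is locally trivial: every point of X has an
open neighbourhood U together with an isomorphism of O_U-modules between the restrictions to U of
D.sheaf and of E ⊕ εE which commutes with the actions of k[ε] and with the reductions to E. In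
particular the deformed module is again a vector bundle over the dual numbers. -/
theorem result (k : Type u) [Field k] (X : Scheme.{u})
    [X.Over (Spec (CommRingCat.of k))] (E : X.Modules) (hE : FlatMod.IsFinLocFree E)
    (D : DefoSh.Defo E (ArtFun.Art.dual k k)) (x : X) :
    ∃ (U : X.Opens) (e : D.sheaf.restrict U.ι ≅ (DefoSh.Defo.trivDual k E).sheaf.restrict U.ι), x ∈ U ∧
      e.hom ≫ (Scheme.Modules.restrictFunctor U.ι).map (DefoSh.Defo.trivDual k E).π =
        (Scheme.Modules.restrictFunctor U.ι).map D.π ∧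
      ∀ a : ArtFun.Art.dual k k, (Scheme.Modules.restrictFunctor U.ι).map (D.act a) ≫ e.hom =
        e.hom ≫ (Scheme.Modules.restrictFunctor U.ι).map ((DefoSh.Defo.trivDual k E).act a) := by
  open Groth.Misc13.DefoBase Limits in
  · obtain ⟨ι, hι⟩ := exists_ι D
    have hπ : Epi D.π := epi_π D
    obtain ⟨V, hxV, σ, hσ⟩ := exists_local_section D.π hE x
    let F := Scheme.Modules.restrictFunctor V.ι
    have : PreservesFiniteLimits F := Groth.CohBase.preservesFiniteLimits_restrictFunctor V.ι
    have : PreservesColimitsOfSize.{u, u} F := inferInstance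
    have : PreservesFiniteColimits F := ⟨fun _ _ _ => inferInstance⟩
    have : PreservesBinaryBiproducts F := preservesBinaryBiproducts_of_preservesBinaryProducts F
    have : F.Additive := Functor.additive_of_preservesBinaryBiproducts F
    have hS := (shortExact_defo ι hι).map_of_exact F
    have hm : Mono (F.map ι) := hS.mono_f
    let s : (ShortComplex.mk (F.map ι) (F.map D.π) (by rw [← F.map_comp, ι_π ι hι, F.map_zero])).Splitting :=
      ShortComplex.Splitting.ofExactOfSection _ hS.exact σ hσ hm
    let T := DefoSh.Defo.trivDual k E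
    let p₁ : T.sheaf ⟶ E := (biprod.fst : E ⊞ E ⟶ E)
    let p₂ : T.sheaf ⟶ E := (biprod.snd : E ⊞ E ⟶ E)
    let j₁ : E ⟶ T.sheaf := (biprod.inl : E ⟶ E ⊞ E)
    let j₂ : E ⟶ T.sheaf := (biprod.inr : E ⟶ E ⊞ E)
    have e11 : j₁ ≫ p₁ = 𝟙 E := biprod.inl_fst
    have e12 : j₁ ≫ p₂ = 0 := biprod.inl_snd
    have e21 : j₂ ≫ p₁ = 0 := biprod.inr_fst
    have e22 : j₂ ≫ p₂ = 𝟙 E := biprod.inr_snd
    have htot : p₁ ≫ j₁ + p₂ ≫ j₂ = 𝟙 T.sheaf := biprod.total
    have hιT : T.π ≫ j₂ = T.act (DualNumber.eps : DualNumber k) := (DefoSh.dualAct_eps E).symm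
    have f1 : F.map ι ≫ s.r = 𝟙 _ := s.f_r
    have f2 : σ ≫ s.r = 0 := s.s_r
    have f3 : s.r ≫ F.map ι + F.map D.π ≫ σ = 𝟙 _ := s.id
    have f4 : F.map ι ≫ F.map D.π = 0 := by rw [← F.map_comp, ι_π ι hι, F.map_zero]
    have f0 : σ ≫ F.map D.π = 𝟙 (F.obj E) := hσ
    let hom : F.obj D.sheaf ⟶ F.obj T.sheaf := F.map D.π ≫ F.map j₁ + s.r ≫ F.map j₂
    let inv : F.obj T.sheaf ⟶ F.obj D.sheaf := F.map p₁ ≫ σ + F.map p₂ ≫ F.map ι
    have g1 : F.map j₁ ≫ inv = σ := by
      simp only [inv, Preadditive.comp_add, ← Category.assoc, ← F.map_comp, e11, e12, F.map_id, F.map_zero,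
        Category.id_comp, zero_comp, add_zero]
    have g2 : F.map j₂ ≫ inv = F.map ι := by
      simp only [inv, Preadditive.comp_add, ← Category.assoc, ← F.map_comp, e21, e22, F.map_id, F.map_zero,
        Category.id_comp, zero_comp, zero_add]
    have hhi : hom ≫ inv = 𝟙 _ := by
      simp only [hom, Preadditive.add_comp, Category.assoc, g1, g2]
      rw [add_comm]; exact f3
    have hih : inv ≫ hom = 𝟙 _ := by
      simp only [inv, hom, Preadditive.add_comp, Preadditive.comp_add, Category.assoc, reassoc_of% f0,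
        reassoc_of% f2, reassoc_of% f4, reassoc_of% f1, zero_comp, comp_zero, add_zero, zero_add]
      rw [Category.id_comp, ← F.map_comp, ← F.map_comp, ← F.map_add, htot, F.map_id]
    refine ⟨V, ⟨hom, inv, hhi, hih⟩, hxV, ?_, fun a => ?_⟩
    · show hom ≫ F.map p₁ = F.map D.π
      simp only [hom, Preadditive.add_comp, Category.assoc, ← F.map_comp, e11, e21, Category.comp_id, F.map_id,
        F.map_zero, comp_zero, add_zero]
    · show F.map (D.act a) ≫ hom = hom ≫ F.map (T.act a)
      have hε : F.map (D.π ≫ ι) ≫ hom = hom ≫ F.map (T.π ≫ j₂) := by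
        show F.map (D.π ≫ ι) ≫ hom = hom ≫ F.map (p₁ ≫ j₂)
        simp only [hom, Preadditive.comp_add, Preadditive.add_comp, F.map_comp, Category.assoc,
          reassoc_of% f4, reassoc_of% f1, zero_comp, comp_zero, zero_add]
        simp only [← Category.assoc (F.map j₁), ← Category.assoc (F.map j₂), ← F.map_comp, reassoc_of% e11, reassoc_of% e21,
          F.map_id, F.map_zero, Category.id_comp, zero_comp, comp_zero, add_zero]
      let a' : DualNumber k := a
      rw [show D.act a = _ from act_eq ι hι a', show T.act a = _ from act_eq j₂ hιT a', KLin.smul_def,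
        KLin.smul_def]
      clear_value hom
      have hc : ∀ c : k, F.map (Formal.smulMod k D.sheaf c) ≫ hom = hom ≫ F.map (Formal.smulMod k T.sheaf c) :=
        fun c => restrict_smulModΓ_comm _ hom
      simp only [F.map_add, F.map_comp, Preadditive.add_comp, Preadditive.comp_add, Category.assoc] at hε ⊢
      rw [hc, hε, reassoc_of% (hc a'.snd)]

end Groth.Agent.S17440
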