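import Groth.Statements.S17443
import Groth.Agent.Abvar.Dual.PicZero

set_option autoImplicit false
universe u
open CategoryTheory CategoryTheory.Limits MonoidalCategory CartesianMonoidalCategory MonObj GrpObj AlgebraicGeometry
open AbVar

namespace Groth.Agent.S17443

open Groth.Abvar.PicCalc Groth.Abvar.Dual

/-- Let k be a field, A an abelian variety over k (a proper smooth k-group scheme with geometrically
connected fibres), (A^t, φ) a given dual abelian variety of A for the fppf topology with A^t itself
an abelian variety, and P an invertible module on A ×_k A^t whose class is a Poincaré class (it lies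
in Pic⁰ fibrewise over A^t, corresponds to the identity of A^t under φ, and is rigidified along the
unit section of A). Write [-1] for the inverse of the identity in the group of endomorphisms of A,
resp. of A^t (the inversion). Then the pull back of P along id_A × [-1] and the pull back of P along
[-1] × id_{A^t} are both inverse to P: their tensor products with P have the class of the structure
sheaf. (This is the case n = -1 of the published statement, which asserts (id_A × [n])^*P ≅ P^{⊗n} ≅
([n] × id_{A^t})^*P for every integer n; together with the case n ≥ 0 it yields every integer n.) -/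
theorem result (k : Type u) [Field k]
    (A At : Over (Spec (CommRingCat.of k))) [GrpObj A] [IsProper A.hom] [Smooth A.hom] [GeometricallyConnected A.hom]
    [GrpObj At] [IsProper At.hom] [Smooth At.hom] [GeometricallyConnected At.hom]
    (φ : ∀ T : Over (Spec (CommRingCat.of k)), PicF.Cl (PicF.XT A.hom T) → (T ⟶ At))
    (hφ : AbDual.IsDualAV Scheme.fppfPrecoverage A At φ)
    (P : (PicF.XT A.hom At).Modules) (hP : PicF.IsInvertible P)
    (hξ : AbDual.IsPoincareCl A At φ (PicF.cl P)) :
    PicF.IsTrivialCl (PicF.cl (CohB1.tensorMod ((Scheme.Modules.pullback (PicF.XTmap A.hom (𝟙 At)⁻¹)).obj P) P)) ∧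
      PicF.IsTrivialCl (PicF.cl (CohB1.tensorMod ((Scheme.Modules.pullback (AbDual.bcMap (𝟙 A)⁻¹ At)).obj P) P)) := by
  have := geometricallyIntegral_of_smooth A
  have := geometricallyIntegral_of_smooth At
  have : IsLocallyNoetherian At.left := LocallyOfFiniteType.isLocallyNoetherian At.hom
  have : IsReduced At.left := GeometricallyReduced.isReduced_of_flat_of_isLocallyNoetherian At.hom
  have hp : AbDual.IsPoincareCl A At φ (cls hP).1 := hξ
  rw [bcMap_eq]
  refine ⟨congrArg Subtype.val (?_ : cls (isInvertible_tensorMod
      (PicLoc.isInvertible_pullback (PicF.XTmap A.hom (𝟙 At)⁻¹) hP) hP) = 1),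
    congrArg Subtype.val (?_ : cls (isInvertible_tensorMod
      (PicLoc.isInvertible_pullback ((Over.pullback At.hom).map (𝟙 A)⁻¹).left hP) hP) = 1)⟩
  · rw [cls_tensorMod (PicLoc.isInvertible_pullback (PicF.XTmap A.hom (𝟙 At)⁻¹) hP) hP,
      ← pull_cls _ hP]
    exact poincare_inv_right hφ hp
  · rw [cls_tensorMod (PicLoc.isInvertible_pullback ((Over.pullback At.hom).map (𝟙 A)⁻¹).left hP) hP,
      ← pull_cls _ hP]
    exact poincare_inv hp

end Groth.Agent.S17443
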