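import Groth.Statements.S17444


set_option autoImplicit false
universe u v
open SSRed

namespace Groth.Agent.S17444

/-- Let K be a field of characteristic zero, V a K-vector space and g a K-linear endomorphism of V such
that g - 1 is nilpotent (a unipotent automorphism). Then for every integer n > 0 the endomorphisms
gⁿ - 1 and g - 1 have the same kernel: a vector fixed by gⁿ is fixed by g. (The published statement
assumes V finite-dimensional; this row allows any V.) -/
theorem result (K : Type u) (V : Type v) [Field K] [CharZero K]
    [AddCommGroup V] [Module K V] (g : Module.End K V) (hg : IsNilpotent (g - 1)) (n : ℕ) (hn : 0 < n) :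
    LinearMap.ker (g ^ n - 1) = LinearMap.ker (g - 1) := by
  obtain ⟨m, hm⟩ := hg
  have hc : Commute (g - 1) (∑ i ∈ Finset.range n, g ^ i - (n : Module.End K V)) :=
    Commute.sub_right (Commute.sum_right _ _ _ fun i _ =>
      ((Commute.refl g).sub_left (Commute.one_left g)).pow_right i) (Nat.cast_commute n _).symm
  have key : IsUnit (∑ i ∈ Finset.range n, g ^ i) := by
    have h1 : IsUnit (n : Module.End K V) := by
      have : IsUnit (n : K) := isUnit_iff_ne_zero.mpr (Nat.cast_ne_zero.mpr hn.ne')
      simpa using this.map (algebraMap K (Module.End K V))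
    have hdvd : ∃ w, Commute (g - 1) w ∧
        ∑ i ∈ Finset.range n, g ^ i - (n : Module.End K V) = (g - 1) * w := by
      refine ⟨∑ i ∈ Finset.range n, ∑ j ∈ Finset.range i, g ^ j, ?_, ?_⟩
      · exact Commute.sum_right _ _ _ fun i _ => Commute.sum_right _ _ _ fun j _ =>
          ((Commute.refl g).sub_left (Commute.one_left g)).pow_right j
      · rw [Finset.mul_sum]
        simp only [mul_geom_sum]
        simp [Finset.sum_sub_distrib]
    obtain ⟨w, hw, he⟩ := hdvd
    have hnil : IsNilpotent (∑ i ∈ Finset.range n, g ^ i - (n : Module.End K V)) := by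
      rw [he]; exact Commute.isNilpotent_mul_right hw ⟨m, hm⟩
    simpa using IsNilpotent.isUnit_add_right_of_commute hnil h1
      (Nat.cast_commute n _).symm
  have hinj : Function.Injective (∑ i ∈ Finset.range n, g ^ i : Module.End K V) :=
    ((Module.End.isUnit_iff _).mp key).1
  ext v
  rw [LinearMap.mem_ker, LinearMap.mem_ker, ← geom_sum_mul, Module.End.mul_apply]
  constructor
  · intro h
    exact hinj (h.trans (map_zero _).symm)
  · intro h
    rw [h, map_zero]

end Groth.Agent.S17444
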