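import Groth.Statements.S17446


set_option autoImplicit false
universe u v
open SSRed

namespace Groth.Agent.S17446

/-- Let K be a field, V a finite-dimensional K-vector space and H₁, H₂ subgroups of the group of
K-linear automorphisms of V such that H₂ normalizes H₁. Call the action of a subgroup H unipotent
when, for some n, every product (h₁ - 1)(h₂ - 1)⋯(hₙ - 1) with all hᵢ in H is the zero endomorphism
(equivalently, V has an H-stable flag on whose successive quotients H acts trivially). If H₁ and H₂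
act unipotently, then the subgroup generated by H₁ and H₂ acts unipotently. (In the published result
H₁ and H₂ are the absolute Galois groups of two finite Galois extensions of a strictly henselian
discretely valued field over which an abelian variety becomes semistable, acting on its rational
ℓ-adic Tate module, and the conclusion is semistability over the intersection of the two fields; the
printed argument uses only that H₂ normalizes H₁.) -/
theorem result (K : Type u) (V : Type v) [Field K]
    [AddCommGroup V] [Module K V] [FiniteDimensional K V]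
    (H₁ H₂ : Subgroup (V ≃ₗ[K] V)) (hnorm : ∀ g ∈ H₂, ∀ h ∈ H₁, g * h * g⁻¹ ∈ H₁)
    (h₁ : ∃ n : ℕ, ∀ f : Fin n → ↥H₁,
      (List.ofFn fun i => (((f i : ↥H₁) : V ≃ₗ[K] V) : Module.End K V) - 1).prod = 0)
    (h₂ : ∃ n : ℕ, ∀ f : Fin n → ↥H₂,
      (List.ofFn fun i => (((f i : ↥H₂) : V ≃ₗ[K] V) : Module.End K V) - 1).prod = 0) :
    ∃ n : ℕ, ∀ f : Fin n → ↥(H₁ ⊔ H₂),
      (List.ofFn fun i => (((f i : ↥(H₁ ⊔ H₂)) : V ≃ₗ[K] V) : Module.End K V) - 1).prod = 0 := by
  obtain ⟨n₁, hn₁⟩ := h₁
  obtain ⟨n₂, hn₂⟩ := h₂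
  -- F k : vectors killed by all k-products from H₁
  let D : (V ≃ₗ[K] V) → Module.End K V := fun h => (h : Module.End K V) - 1
  let F : ℕ → Submodule K V := fun k =>
    ⨅ f : Fin k → ↥H₁, LinearMap.ker ((List.ofFn fun i => D (f i : V ≃ₗ[K] V)).prod)
  have memF : ∀ k (v : V), v ∈ F k ↔
      ∀ f : Fin k → ↥H₁, (List.ofFn fun i => D (f i : V ≃ₗ[K] V)).prod v = 0 := by
    intro k v; simp [F]
  have F0 : ∀ v, v ∈ F 0 → v = 0 := by
    intro v hv
    simpa using (memF 0 v).mp hv (fun i => i.elim0)
  have down : ∀ k (v : V), v ∈ F (k + 1) → ∀ h ∈ H₁, D h v ∈ F k := by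
    intro k v hv h hh
    rw [memF]
    intro f
    have := (memF (k+1) v).mp hv (Fin.snoc f ⟨h, hh⟩)
    rw [List.ofFn_succ'] at this
    simpa [Fin.snoc_castSucc, Fin.snoc_last] using this
  have top : ∀ v, v ∈ F n₁ := by
    intro v; rw [memF]; intro f
    have := congrArg (fun e : Module.End K V => e v) (hn₁ f)
    simpa [D] using this
  have conj : ∀ g ∈ H₂, ∀ h ∈ H₁, ∀ v : V, D h (g v) = g (D (g⁻¹ * h * g) v) := by
    intro g _ h _ v
    simp [D, map_sub]
  have stable₂ : ∀ k (v : V), v ∈ F k → ∀ g ∈ H₂, g v ∈ F k := by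
    intro k
    induction k with
    | zero => intro v hv g _; rw [F0 v hv, map_zero]; exact Submodule.zero_mem _
    | succ k ih =>
      intro v hv g hg
      rw [memF]
      intro f
      rw [List.ofFn_succ']
      simp only [List.concat_eq_append, List.prod_append, List.prod_cons, List.prod_nil, mul_one, Module.End.mul_apply]
      have hmem : g⁻¹ * (f (Fin.last k) : V ≃ₗ[K] V) * g ∈ H₁ := by
        simpa using hnorm g⁻¹ (H₂.inv_mem hg) _ (f (Fin.last k)).2
      rw [conj g hg _ (f (Fin.last k)).2 v]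
      exact (memF k _).mp (ih _ (down k v hv _ hmem) g hg) _
  have hsup : ∀ g ∈ H₁ ⊔ H₂, ∃ b ∈ H₂, ∃ a ∈ H₁, b * a = g := by
    have hle : H₂ ≤ Subgroup.normalizer (H₁ : Set (V ≃ₗ[K] V)) := by
      intro g hg
      rw [Subgroup.mem_normalizer_iff]
      intro h
      constructor
      · exact hnorm g hg h
      · intro hh
        have := hnorm g⁻¹ (H₂.inv_mem hg) _ hh
        simpa [mul_assoc] using this
    intro g hg
    rw [sup_comm] at hg
    have : g ∈ ((H₂ ⊔ H₁ : Subgroup (V ≃ₗ[K] V)) : Set (V ≃ₗ[K] V)) := hg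
    rw [Subgroup.coe_mul_of_left_le_normalizer_right H₂ H₁ hle] at this
    exact this
  -- on F (k+1)/F k the element g - 1 acts as b - 1
  have step : ∀ k m (f : Fin m → ↥(H₁ ⊔ H₂)), ∃ c : Fin m → ↥H₂, ∀ v ∈ F (k+1),
      (List.ofFn fun i => D (f i : V ≃ₗ[K] V)).prod v ∈ F (k+1) ∧
      (List.ofFn fun i => D (f i : V ≃ₗ[K] V)).prod v -
        (List.ofFn fun i => D (c i : V ≃ₗ[K] V)).prod v ∈ F k := by
    intro k m
    induction m with
    | zero => intro f; exact ⟨fun i => i.elim0, fun v hv => by simpa using hv⟩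
    | succ m ih =>
      intro f
      obtain ⟨c, hc⟩ := ih (fun i => f i.succ)
      obtain ⟨b, hb, a, ha, hab⟩ := hsup _ (f 0).2
      refine ⟨Fin.cons ⟨b, hb⟩ c, fun v hv => ?_⟩
      obtain ⟨hm1, hm2⟩ := hc v hv
      simp only [List.ofFn_succ, List.prod_cons, Module.End.mul_apply, Fin.cons_zero, Fin.cons_succ]
      set w := (List.ofFn fun i : Fin m => D (f i.succ : V ≃ₗ[K] V)).prod v with hw
      set w' := (List.ofFn fun i : Fin m => D (c i : V ≃ₗ[K] V)).prod v with hw'
      have e : D (f 0 : V ≃ₗ[K] V) w = b (D a w) + D b w := by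
        simp only [D, LinearMap.sub_apply, Module.End.one_apply, LinearEquiv.coe_coe, map_sub, ← hab,
          LinearEquiv.mul_apply]
        abel
      have h3 : b (D a w) ∈ F k := stable₂ k _ (down k w hm1 a ha) b hb
      refine ⟨?_, ?_⟩
      · have : D (f 0 : V ≃ₗ[K] V) w = (f 0 : V ≃ₗ[K] V) w - w := rfl
        rw [this]
        refine Submodule.sub_mem _ ?_ hm1
        rw [← hab, LinearEquiv.mul_apply]
        refine stable₂ _ _ ?_ b hb
        have hkk : F k ≤ F (k+1) := by
          intro x hx; rw [memF]; intro f'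
          rw [List.ofFn_succ, List.prod_cons, Module.End.mul_apply, (memF k x).mp hx _, map_zero]
        have : a w = D a w + w := by simp [D]
        rw [this]
        exact Submodule.add_mem _ (hkk (down k w hm1 a ha)) hm1
      · have : D (f 0 : V ≃ₗ[K] V) w - D b w' = b (D a w) + D b (w - w') := by
          rw [e, map_sub]; abel
        rw [this]
        refine Submodule.add_mem _ h3 ?_
        exact Submodule.sub_mem _ (stable₂ k _ hm2 b hb) hm2
  have main : ∀ k (f : Fin (k * n₂) → ↥(H₁ ⊔ H₂)), ∀ v ∈ F k,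
      (List.ofFn fun i => D (f i : V ≃ₗ[K] V)).prod v = 0 := by
    intro k
    induction k with
    | zero => intro f v hv; rw [F0 v hv, map_zero]
    | succ k ih =>
      intro f v hv
      rw [List.ofFn_congr (show (k+1) * n₂ = k * n₂ + n₂ from Nat.succ_mul k n₂), List.ofFn_add,
        List.prod_append, Module.End.mul_apply]
      apply ih
      obtain ⟨c, hc⟩ := step k n₂ (fun i => f (Fin.cast (Nat.succ_mul k n₂).symm (Fin.natAdd (k * n₂) i)))
      have := (hc v hv).2
      have hz : (List.ofFn fun i => D (c i : V ≃ₗ[K] V)).prod = 0 := hn₂ c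
      rw [hz, LinearMap.zero_apply, sub_zero] at this
      exact this
  refine ⟨n₁ * n₂, fun f => ?_⟩
  apply LinearMap.ext
  intro v
  exact main n₁ f v (top v)

end Groth.Agent.S17446
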