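import Groth.Statements.S17448
import Groth.Agent.Hensel1.Local
import Mathlib.AlgebraicGeometry.Morphisms.Etale

set_option autoImplicit false
universe u
open CategoryTheory CategoryTheory.Limits AlgebraicGeometry
open Hensel

namespace Groth.Agent.S17448

/-- Sections over henselian rings: let R be a henselian local ring with residue field k and X → Spec R a
quasi-finite (quasi-compact with discrete fibres), separated and étale morphism. Then the natural
map from sections X(R) to points X(k) of the special fibre is bijective: for every morphism t : Spec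
k → X over Spec k → Spec R there is exactly one section s : Spec R → X of X → Spec R whose
restriction to Spec k is t. -/
theorem result (R : Type u) [CommRing R]
    [HenselianLocalRing R] {X : Scheme.{u}} (f : X ⟶ Spec (CommRingCat.of R))
    [LocallyQuasiFinite f] [QuasiCompact f] [IsSeparated f] [Etale f]
    (t : Spec (CommRingCat.of (IsLocalRing.ResidueField R)) ⟶ X)
    (ht : t ≫ f = Spec.map (CommRingCat.ofHom (IsLocalRing.residue R))) :
    ∃! s : Spec (CommRingCat.of R) ⟶ X,
      s ≫ f = 𝟙 (Spec (CommRingCat.of R)) ∧ Spec.map (CommRingCat.ofHom (IsLocalRing.residue R)) ≫ s = t := by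
  set k := IsLocalRing.ResidueField R
  let pt : Spec (CommRingCat.of k) := IsLocalRing.closedPoint k
  obtain ⟨_, ⟨U : X.Opens, hU, rfl⟩, hxU, -⟩ :=
    X.isBasis_affineOpens.exists_subset_of_mem_open (Set.mem_univ (t.base pt)) isOpen_univ
  let j := hU.fromSpec
  have : IsOpenImmersion j := hU.isOpenImmersion_fromSpec
  have hrange : ∀ {y : X}, y ∈ U → y ∈ Set.range j.base := fun hy => by rw [hU.range_fromSpec]; exact hy
  let φ : CommRingCat.of R ⟶ Γ(X, U) := Spec.preimage (j ≫ f)
  have hφ : Spec.map φ = j ≫ f := Spec.map_preimage _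
  have hφe : φ.hom.Etale := by
    rw [← HasRingHomProperty.Spec_iff (P := @Etale), hφ]
    infer_instance
  let := φ.hom.toAlgebra
  have : Algebra.Etale R Γ(X, U) := hφe
  let t₀ : Spec (CommRingCat.of k) ⟶ Spec Γ(X, U) := IsOpenImmersion.lift j t (by
    rintro _ ⟨q, rfl⟩
    rw [Subsingleton.elim q pt]
    exact hrange hxU)
  have ht₀ : t₀ ≫ j = t := IsOpenImmersion.lift_fac _ _ _
  have hσ : φ ≫ Spec.preimage t₀ = CommRingCat.ofHom (IsLocalRing.residue R) := Spec.map_injective (by
    rw [Spec.map_comp, hφ, Spec.map_preimage, ← Category.assoc, ht₀, ht])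
  let σ : Γ(X, U) →ₐ[R] R ⧸ IsLocalRing.maximalIdeal R :=
    { toRingHom := (Spec.preimage t₀).hom
      commutes' := fun r => RingHom.congr_fun (congrArg CommRingCat.Hom.hom hσ) r }
  obtain ⟨τ, hτ⟩ := Groth.Hensel1.exists_etale_lift Groth.Hensel1.gabber_of_henselianRing σ
  have hres : CommRingCat.ofHom τ.toRingHom ≫ CommRingCat.ofHom (IsLocalRing.residue R) = Spec.preimage t₀ :=
    CommRingCat.hom_ext (RingHom.ext fun x => DFunLike.congr_fun hτ x)
  refine ⟨Spec.map (CommRingCat.ofHom τ.toRingHom) ≫ j, ⟨?_, ?_⟩, fun s hs => ?_⟩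
  · rw [Category.assoc, ← hφ, ← Spec.map_comp, show φ ≫ CommRingCat.ofHom τ.toRingHom = 𝟙 _ from
      CommRingCat.hom_ext τ.comp_algebraMap, Spec.map_id]
  · rw [← Category.assoc, ← Spec.map_comp, hres, Spec.map_preimage, ht₀]
  · obtain ⟨hs1, hs2⟩ := hs
    have hclosed : s.base (IsLocalRing.closedPoint R) ∈ U := by
      have : (Spec.map (CommRingCat.ofHom (IsLocalRing.residue R))).base pt = IsLocalRing.closedPoint R :=
        IsLocalRing.comap_closedPoint (IsLocalRing.residue R)
      rw [← this, ← Scheme.Hom.comp_apply, hs2]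
      exact hxU
    let s₀ : Spec (CommRingCat.of R) ⟶ Spec Γ(X, U) := IsOpenImmersion.lift j s (by
      rintro _ ⟨q, rfl⟩
      exact hrange (((IsLocalRing.specializes_closedPoint (R := R) q).map s.continuous).mem_open U.2 hclosed))
    have hs₀ : s₀ ≫ j = s := IsOpenImmersion.lift_fac _ _ _
    have h1 : φ ≫ Spec.preimage s₀ = 𝟙 _ := Spec.map_injective (by
      rw [Spec.map_comp, hφ, Spec.map_preimage, ← Category.assoc, hs₀, hs1, Spec.map_id])
    have h2 : Spec.preimage s₀ ≫ CommRingCat.ofHom (IsLocalRing.residue R) = Spec.preimage t₀ :=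
      Spec.map_injective (by
        rw [Spec.map_comp, Spec.map_preimage, Spec.map_preimage]
        refine (cancel_mono j).1 ?_
        rw [Category.assoc, hs₀, ht₀, hs2])
    let τ' : Γ(X, U) →ₐ[R] R :=
      { toRingHom := (Spec.preimage s₀).hom
        commutes' := fun r => RingHom.congr_fun (congrArg CommRingCat.Hom.hom h1) r }
    have heq : τ' = τ := Groth.Hensel1.algHom_eq_of_mk_eq (IsLocalRing.maximalIdeal_le_jacobson ⊥) fun x =>
      Ideal.Quotient.eq.1 ((RingHom.congr_fun (congrArg CommRingCat.Hom.hom h2) x).trans (DFunLike.congr_fun hτ x).symm)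
    rw [← hs₀, ← Spec.map_preimage s₀]
    congr 2
    exact CommRingCat.hom_ext (congrArg AlgHom.toRingHom heq)

end Groth.Agent.S17448
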