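import Groth.Statements.S17449
import Groth.Agent.ModelsGraphs.GlobalFunctions
import Groth.Agent.HensPair.SteinNormalization
import Groth.Agent.Misc3Stein.Connected
import Groth.Agent.FBaseGeom.Descent
import Groth.Agent.HTopHyper.PtFunDVR
-- import your own Groth.Agent.* helpers here

set_option autoImplicit false
universe u
open CategoryTheory CategoryTheory.Limits AlgebraicGeometry
open Stein

namespace Groth.Agent.S17449

set_option backward.isDefEq.respectTransparency false

theorem comp_iff (P : MorphismProperty Scheme.{u}) [P.RespectsIso] {X Y T U : Scheme.{u}} (f : X ⟶ Y)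
    (b : T ⟶ Y) (a : U ⟶ T) :
    P (pullback.snd (pullback.snd f b) a) ↔ P (pullback.snd f (a ≫ b)) := by
  rw [← pullbackLeftPullbackSndIso_hom_snd f b a, MorphismProperty.cancel_left_of_respectsIso (P := P)]

theorem geometricallyConnected_dvr {D : Type u} [CommRing D] [IsDomain D] [IsDiscreteValuationRing D]
    {P : Scheme.{u}} (p : P ⟶ Spec (CommRingCat.of D)) [IsProper p] [Flat p]
    (hs : Smooth (pullback.snd p (Spec.map (CommRingCat.ofHom (algebraMap D (FractionRing D))))))
    (hc : GeometricallyConnected (pullback.snd p (Spec.map (CommRingCat.ofHom (algebraMap D (FractionRing D)))))) :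
    GeometricallyConnected p := by
  haveI := hs; haveI := hc
  have h := Groth.ModelsGraphs.GlobalFun.toGlobal_bijective_of_generic p
    (pullback.fst p _) (pullback.snd p _) (IsPullback.of_hasPullback p _)
  haveI : IsIso p.appTop := by
    have h' : Function.Bijective ((Scheme.ΓSpecIso (CommRingCat.of D)).inv ≫ p.appTop) := h
    haveI := (ConcreteCategory.isIso_iff_bijective _).2 h'
    exact IsIso.of_isIso_comp_left (Scheme.ΓSpecIso (CommRingCat.of D)).inv p.appTop
  let φ : (Spec (CommRingCat.of D)).sheaf ⟶ (TopCat.Sheaf.pushforward CommRingCat p.base).obj P.sheaf := ⟨p.c⟩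
  haveI : IsIso (p.app ⊤) := ‹IsIso p.appTop›
  have : IsIso φ := TopCat.Sheaf.isIso_iff_isIso_basis (isBasis_basicOpen (Spec (CommRingCat.of D))) fun r =>
    Groth.HensPair.isIso_app_basicOpen p (isAffineOpen_top _) r
  have hc : IsIso p.c :=
    inferInstanceAs (IsIso ((TopCat.Sheaf.forget CommRingCat _).map φ))
  exact Misc3Stein.geometricallyConnected_of_isIso_app p fun U _ =>
    inferInstanceAs (IsIso (p.c.app (Opposite.op U)))

/-- Let S be a Noetherian scheme and f : X → S a proper, flat and surjective morphism. Suppose that for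
every generic point η of an irreducible component of S the fibre of f at η is geometrically
connected and smooth over the residue field κ(η). Then every fibre of f is geometrically connected. -/
theorem result {X S : Scheme.{u}}
    (f : X ⟶ S) [IsProper f] [Flat f] [Surjective f] [IsNoetherian S]
    (h : ∀ (Z : Set ↑S) (η : ↑S), Z ∈ irreducibleComponents ↑S → IsGenericPoint η Z →
      GeometricallyConnected (f.fiberToSpecResidueField η) ∧ Smooth (f.fiberToSpecResidueField η)) :
    GeometricallyConnected f := by
  rw [GeometricallyConnected.iff_geometricallyConnected_fiber]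
  intro s
  obtain ⟨_, ⟨U, hU, rfl⟩, hsU, -⟩ := S.isBasis_affineOpens.exists_subset_of_mem_open (Set.mem_univ s) isOpen_univ
  let A := Γ(S, U)
  haveI : IsNoetherianRing A := IsLocallyNoetherian.component_noetherian ⟨U, hU⟩
  obtain ⟨P, rfl⟩ : s ∈ Set.range hU.fromSpec.base := hU.range_fromSpec.ge hsU
  haveI : P.asIdeal.IsPrime := P.isPrime
  obtain ⟨m, hm, hmP⟩ := Ideal.exists_minimalPrimes_le (bot_le : (⊥ : Ideal A) ≤ P.asIdeal)
  haveI : m.IsPrime := hm.1.1
  let M : PrimeSpectrum A := ⟨m, hm.1.1⟩
  let η : S := hU.fromSpec.base M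
  have hηU : η ∈ U := hU.range_fromSpec.le ⟨M, rfl⟩
  have hη : closure {η} ∈ irreducibleComponents ↥S := by
    refine ⟨isIrreducible_singleton.closure, fun Z hZ hle => ?_⟩
    have hg := hZ.isGenericPoint_genericPoint_closure
    have hspec : hZ.genericPoint ⤳ η := hg.specializes (subset_closure (hle (subset_closure rfl)))
    obtain ⟨Q, hQ⟩ : hZ.genericPoint ∈ Set.range hU.fromSpec.base :=
      hU.range_fromSpec.ge (hspec.mem_open U.2 hηU)
    have hQM : Q ⤳ M := hU.fromSpec.isOpenEmbedding.toIsInducing.specializes_iff.1 (hQ ▸ hspec)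
    have hQm : Q.asIdeal ≤ m := (PrimeSpectrum.le_iff_specializes Q M).2 hQM
    have : Q = M := PrimeSpectrum.ext (le_antisymm hQm (hm.2 ⟨Q.isPrime, bot_le⟩ hQm))
    subst this
    intro z hz
    have h1 := subset_closure hz
    rw [← hg.def, ← hQ] at h1
    exact h1
  obtain ⟨hηc, hηs⟩ := h _ η hη rfl
  obtain ⟨D, _, _, _, _, θ, hθk, hθm⟩ := Groth.HTopHyper.PtFunDVR.exists_completeDVR_chain (A := A) hmP
  let q : Spec (CommRingCat.of D) ⟶ S := Spec.map (CommRingCat.ofHom θ) ≫ hU.fromSpec
  have hclosed : q.base (IsLocalRing.closedPoint D) = hU.fromSpec.base P := by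
    refine congrArg hU.fromSpec.base (PrimeSpectrum.ext ?_)
    exact hθm
  let K := FractionRing D
  let j : Spec (CommRingCat.of K) ⟶ Spec (CommRingCat.of D) := Spec.map (CommRingCat.ofHom (algebraMap D K))
  have hgen : (j ≫ q).base (IsLocalRing.closedPoint K) = η := by
    refine congrArg hU.fromSpec.base (PrimeSpectrum.ext ?_)
    show ((IsLocalRing.maximalIdeal K).comap (algebraMap D K)).comap θ = m
    rw [IsLocalRing.maximalIdeal_eq_bot, ← RingHom.ker_eq_comap_bot,
      (RingHom.injective_iff_ker_eq_bot _).1 (IsFractionRing.injective D K), ← RingHom.ker_eq_comap_bot, hθk]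
  obtain ⟨⟨z, c⟩, hc⟩ := (Scheme.SpecToEquivOfField K S).symm.surjective (j ≫ q)
  have hz : η = z := by
    rw [← hgen, ← hc]
    show S.fromSpecResidueField z _ = z
    rw [Scheme.fromSpecResidueField_apply]
  subst hz
  have hc' : Spec.map c ≫ S.fromSpecResidueField η = j ≫ q := hc
  have hgenP : ∀ (P : MorphismProperty Scheme.{u}) [P.RespectsIso] [P.IsStableUnderBaseChange],
      P (f.fiberToSpecResidueField η) → P (pullback.snd (pullback.snd f q) j) := by
    intro P _ _ hP
    rw [comp_iff P f q j, ← hc', ← comp_iff P f (S.fromSpecResidueField η) (Spec.map c)]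
    exact MorphismProperty.pullback_snd _ _ hP
  haveI := geometricallyConnected_dvr (pullback.snd f q) (hgenP @Smooth hηs) (hgenP @GeometricallyConnected hηc)
  rw [← hclosed]
  let x := IsLocalRing.closedPoint D
  let t := Spec.map (q.residueFieldMap x)
  haveI : Surjective t := ⟨fun p => ⟨Classical.arbitrary _, Subsingleton.elim _ _⟩⟩
  apply Groth.FBaseGeom.geometricallyConnected_of_pullback_snd _ t
  show GeometricallyConnected (pullback.snd (pullback.snd f (S.fromSpecResidueField (q.base x))) t)
  rw [comp_iff @GeometricallyConnected f _ t, Scheme.Hom.SpecMap_residueFieldMap_fromSpecResidueField,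
    ← comp_iff @GeometricallyConnected f q _]
  infer_instance

end Groth.Agent.S17449
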