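import Groth.Statements.S17450
import Groth.Agent.SemiAb.TorusEll
import Groth.Agent.AlgGrp1.AffineKernelBC
import Groth.Agent.GrpschAbsch.NeutralSet
import Groth.Agent.AlgGrp1.Extension
import Groth.Agent.AlgGrp1.Geom
import Groth.Agent.EtaleBase.FpqcDescent
import Groth.Agent.Reductive.MultTypeComm
import Groth.Agent.GrpschAbsch.TorusToAbelian
import Groth.Agent.AbVarMul.Degree
import Groth.Agent.GrpschAbsch.AbVarEtale
import Groth.Agent.PropsBasic.ZeroDim
import Groth.Agent.FibreDim.Constructible

set_option autoImplicit false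
set_option linter.style.haveILetI false
set_option maxHeartbeats 2000000
set_option synthInstance.maxHeartbeats 100000
universe u
open CategoryTheory MonoidalCategory CartesianMonoidalCategory MonObj GrpObj AlgebraicGeometry CategoryTheory.Limits
open AlgGrp

namespace Groth.Agent.S17450

/-- Let k be a field with algebraic closure K and G a semi-abelian variety over k, that is, a smooth
connected commutative k-group scheme of finite type whose base change to K is an extension of an
abelian variety by a torus (there are a closed subgroup scheme T of G_K which is a torus and a flat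
surjective homomorphism from G_K onto a proper smooth connected K-group scheme with kernel T). Let H
be a closed subgroup scheme of G and ℓ a prime number such that the ℓ-torsion subgroup scheme H[ℓ]
is trivial: every point h of H with values in any k-scheme satisfying h^ℓ = 1 is the unit. Then H is
finite over k. -/
theorem result (k : Type u) [Field k]
    (G : Over (Spec (CommRingCat.of k))) [GrpObj G] [IsCommMonObj G] [Smooth G.hom] [QuasiCompact G.hom]
    [ConnectedSpace ↥G.left]
    (hK : (∃ (T : Over (Spec (CommRingCat.of (AlgebraicClosure k)))) (_ : GrpObj T) (i : T ⟶ Red.bc (Spec.map (CommRingCat.ofHom (algebraMap k (AlgebraicClosure k)))) G) (A : Over (Spec (CommRingCat.of (AlgebraicClosure k)))) (_ : GrpObj A) (q : Red.bc (Spec.map (CommRingCat.ofHom (algebraMap k (AlgebraicClosure k)))) G ⟶ A),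
        IsMonHom i ∧ IsClosedImmersion i.left ∧ Red.IsTorus T ∧ IsMonHom q ∧ Surjective q.left ∧ Flat q.left ∧
        AlgGrp.IsKernel i q ∧ IsProper A.hom ∧ Smooth A.hom ∧ ConnectedSpace ↥A.left))
    (H : Over (Spec (CommRingCat.of k))) [GrpObj H] (j : H ⟶ G) [IsMonHom j] [IsClosedImmersion j.left]
    (ℓ : ℕ) (hℓ : ℓ.Prime)
    (htors : ∀ (Y : Over (Spec (CommRingCat.of k))) (h : Y ⟶ H), h ^ ℓ = 1 → h = 1) :
    IsFinite H.hom := by
  open Groth.AlgGrp1 in
  let φ := Spec.map (CommRingCat.ofHom (algebraMap k (AlgebraicClosure k)))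
  obtain ⟨T, _, i, A, _, q, hi, hic, hT, hq, hqs, hqf, hker, hAp, hAs, hAc⟩ := hK
  haveI := hi; haveI := hic; haveI := hq; haveI := hqs; haveI := hqf; haveI := hAp
  haveI : Mono i := Over.mono_of_mono_left i
  haveI : LocallyOfFiniteType G.hom := inferInstance
  haveI : LocallyOfFiniteType H.hom := by rw [← Over.w j]; infer_instance
  haveI : QuasiCompact H.hom := by rw [← Over.w j]; infer_instance
  haveI : Surjective φ := ⟨fun x => ⟨IsLocalRing.closedPoint (AlgebraicClosure k),
    Subsingleton.elim (α := ↥(Spec (CommRingCat.of k))) _ _⟩⟩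
  haveI : Flat φ := inferInstance
  haveI : QuasiCompact φ := inferInstance
  suffices hfin : IsFinite (Red.bc φ H).hom from
    MorphismProperty.of_isPullback_of_descendsAlong (P := @IsFinite) (Q := Groth.EtaleBase.Fpqc)
      (IsPullback.of_hasPullback H.hom φ).flip ⟨⟨inferInstance, inferInstance⟩, inferInstance⟩ hfin
  haveI : Smooth (Red.bc φ G).hom := inferInstanceAs (Smooth (Limits.pullback.snd G.hom φ))
  haveI : QuasiCompact (Red.bc φ G).hom := inferInstanceAs (QuasiCompact (Limits.pullback.snd G.hom φ))
  haveI : LocallyOfFiniteType (Red.bc φ G).hom := inferInstance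
  haveI : QuasiCompact (Red.bc φ H).hom := inferInstanceAs (QuasiCompact (Limits.pullback.snd H.hom φ))
  haveI : LocallyOfFiniteType (Red.bc φ H).hom := inferInstanceAs (LocallyOfFiniteType (Limits.pullback.snd H.hom φ))
  let jK := (Over.pullback φ).map j
  haveI : IsMonHom jK := Groth.Abvar.isMonHom_map (f := φ) j
  haveI : IsClosedImmersion jK.left :=
    MorphismProperty.of_isPullback (isPullback_bc_map (φ := φ) j) ‹IsClosedImmersion j.left›
  haveI : Mono jK := Over.mono_of_mono_left jK
  have htK : ∀ (Y : Over (Spec (CommRingCat.of (AlgebraicClosure k)))) (y : Y ⟶ Red.bc φ H), y ^ ℓ = 1 → y = 1 := by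
    intro Y y hy
    let e := (Over.mapPullbackAdj φ).homEquiv Y H
    have hu : ∀ z, e z = (Over.mapPullbackAdj φ).unit.app Y ≫ (Over.pullback φ).map z := fun z => by
      rw [Adjunction.homEquiv_unit]
    obtain ⟨z, rfl⟩ := e.surjective y
    have h1 : e 1 = 1 := by rw [hu, Functor.map_one, MonObj.comp_one]
    have h2 : ∀ n : ℕ, e (z ^ n) = e z ^ n := fun n => by
      induction n with
      | zero => rw [pow_zero, pow_zero, h1]
      | succ n ih => rw [pow_succ, pow_succ, hu, Functor.map_mul, MonObj.comp_mul, ← hu, ← hu, ih]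
    rw [htors _ z (e.injective (by rw [h2, hy, h1])), h1]
  obtain ⟨Z, _, c, hc, hcc, hcs, hZs, hZq⟩ := exists_reduced_subgroup (Red.bc φ H)
  haveI := hc; haveI := hcc; haveI := hcs; haveI := hZs; haveI := hZq
  obtain ⟨U, _, e, he, heo, her, hUc⟩ := Groth.GrpschAbsch.NeutralSet.exists_neutral_openSubgroup Z
  haveI := he; haveI := heo; haveI := hUc
  haveI : IsClosedImmersion e.left := IsClosedImmersion.of_isPreimmersion _ (isClosed_range_of_openSubgroup e)
  haveI : Smooth U.hom := by rw [← Over.w e]; infer_instance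
  haveI : QuasiCompact U.hom := by rw [← Over.w e]; infer_instance
  haveI : LocallyOfFiniteType U.hom := by rw [← Over.w e]; infer_instance
  let u : U ⟶ Red.bc φ G := e ≫ c ≫ jK
  haveI : IsMonHom u := inferInstanceAs (IsMonHom (_ ≫ _))
  haveI : IsClosedImmersion u.left := inferInstanceAs (IsClosedImmersion (e.left ≫ c.left ≫ jK.left))
  haveI : Mono u := Over.mono_of_mono_left u
  haveI : Mono e := Over.mono_of_mono_left e
  haveI : Mono c := Over.mono_of_mono_left c
  have htU : ∀ (Y : Over (Spec (CommRingCat.of (AlgebraicClosure k)))) (y : Y ⟶ U), y ^ ℓ = 1 → y = 1 := by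
    intro Y y hy
    rw [← cancel_mono (e ≫ c), MonObj.one_comp]
    exact htK Y _ (by rw [← MonObj.pow_comp, hy, MonObj.one_comp])
  have hone : ∀ {M Z' W' : Over (Spec (CommRingCat.of (AlgebraicClosure k)))} [GrpObj M] [GrpObj Z'] [GrpObj W']
      [LocallyOfFiniteType M.hom] [QuasiCompact M.hom] (c' : Z' ⟶ M) [IsMonHom c'] [IsClosedImmersion c'.left]
      [Surjective c'.left] (e' : W' ⟶ Z') [IsMonHom e'] [Subsingleton W'.left], IsOpen (Set.range e'.left) →
      IsFinite M.hom := by
    intro M Z' W' _ _ _ _ _ c' _ _ _ e' _ _ ho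
    refine Groth.SemiAb.isFinite_of_isOpen_unit M ?_
    haveI : Nonempty W'.left := ⟨η[W'].left.base (IsLocalRing.closedPoint (AlgebraicClosure k))⟩
    have h1 : Set.range e'.left = {e'.left.base (η[W'].left.base (IsLocalRing.closedPoint (AlgebraicClosure k)))} :=
      Set.range_eq_singleton fun t => congrArg e'.left.base (Subsingleton.elim _ _)
    have h2 := (c'.left.isClosedEmbedding.isEmbedding.toHomeomorphOfSurjective c'.left.surjective).isOpenMap _ ho
    rw [h1, Set.image_singleton] at h2
    have h3 : η[M].left = η[W'].left ≫ e'.left ≫ c'.left := by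
      rw [← Over.comp_left, ← Over.comp_left, IsMonHom.one_hom (e' ≫ c')]
    rw [h3]
    exact h2
  suffices hU : Subsingleton U.left from hone c e (by rw [her]; exact her ▸ e.left.isOpenEmbedding.isOpen_range)
  haveI : IsMonHom (u ≫ q) := inferInstanceAs (IsMonHom (_ ≫ _))
  obtain ⟨B, _, b, r, hb, hbc, hr, hBlft, hBqc, hrfl, hrsur, hrb⟩ := exists_image_hom (u ≫ q)
  haveI := hb; haveI := hbc; haveI := hr; haveI := hBlft; haveI := hBqc; haveI := hrfl; haveI := hrsur
  haveI : IsProper B.hom := by rw [← Over.w b]; infer_instance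
  obtain ⟨M, _, m, hmm, hmc, hmk⟩ : ∃ (M : Over (Spec (CommRingCat.of (AlgebraicClosure k)))) (_ : GrpObj M)
      (m : M ⟶ U), IsMonHom m ∧ IsClosedImmersion m.left ∧ AlgGrp.IsKernel m r := by
    let m : Limits.pullback r η[B] ⟶ U := Limits.pullback.fst r η[B]
    have hk0 : AlgGrp.IsKernel m r := by
      have := IsPullback.of_hasPullback r η[B]
      rwa [toUnit_unique (Limits.pullback.snd r η[B]) (toUnit _)] at this
    have := IsKernel.mono hk0
    obtain ⟨_, hi0⟩ := Groth.Agf.exists_grpObj_of_subgroup m (fun T x => x ≫ r = 1)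
      (fun T x => IsKernel.exists_iff hk0 x) (fun T => MonObj.one_comp r)
      (fun T a b ha hb => by rw [MonObj.mul_comp, ha, hb, _root_.mul_one])
      (fun T a ha => by rw [GrpObj.inv_comp, ha, inv_one])
    haveI : IsClosedImmersion η[B].left := isClosedImmersion_of_comp_eq_id B.hom η[B].left (Over.w η[B])
    exact ⟨_, inferInstance, m, hi0,
      MorphismProperty.of_isPullback (hk0.map (Over.forget _)).flip ‹IsClosedImmersion η[B].left›, hk0⟩
  haveI := hmm; haveI := hmc
  haveI : Mono m := Over.mono_of_mono_left m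
  haveI : LocallyOfFiniteType M.hom := by rw [← Over.w m]; infer_instance
  haveI : QuasiCompact M.hom := by rw [← Over.w m]; infer_instance
  haveI hMfin : IsFinite M.hom := by
    obtain ⟨mT, hmT⟩ := IsKernel.exists_lift hker (m ≫ u) (by
      rw [Category.assoc, ← hrb, ← Category.assoc, IsKernel.comp_eq_one hmk, MonObj.one_comp])
    obtain ⟨Z', _, c', hc', hcc', hcs', hZs', hZq'⟩ := exists_reduced_subgroup M
    haveI := hc'; haveI := hcc'; haveI := hcs'; haveI := hZs'; haveI := hZq'
    haveI : LocallyOfFiniteType Z'.hom := by rw [← Over.w c']; infer_instance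
    obtain ⟨W, _, e', he', heo', her', hWc⟩ := Groth.GrpschAbsch.NeutralSet.exists_neutral_openSubgroup Z'
    haveI := he'; haveI := heo'; haveI := hWc
    haveI : IsClosedImmersion e'.left := IsClosedImmersion.of_isPreimmersion _ (isClosed_range_of_openSubgroup e')
    haveI : Smooth W.hom := by rw [← Over.w e']; infer_instance
    haveI : Mono e' := Over.mono_of_mono_left e'
    haveI : Mono c' := Over.mono_of_mono_left c'
    haveI : Mono mT := mono_of_mono_fac hmT
    haveI : IsMonHom (mT ≫ i) := hmT ▸ inferInstance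
    haveI : IsMonHom mT := Groth.URad.isMonHom_of_comp_mono mT i
    let w : W ⟶ T := e' ≫ c' ≫ mT
    haveI : IsMonHom w := inferInstanceAs (IsMonHom (_ ≫ _))
    obtain ⟨hTa, hTs, hTc⟩ := isAffine_smooth_connected_of_isTorus hT
    haveI := hTa
    haveI : QuasiCompact W.hom := by rw [← Over.w e']; infer_instance
    haveI : QuasiCompact T.hom := by rw [← Over.w i]; infer_instance
    haveI : LocallyOfFiniteType T.hom := by rw [← Over.w i]; infer_instance
    haveI : LocallyOfFiniteType W.hom := by rw [← Over.w e']; infer_instance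
    haveI : IsClosedImmersion w.left := isClosedImmersion_of_mono_hom w
    haveI : IsAffine W.left := isAffine_of_isAffineHom w.left
    haveI : IsCommMonObj W := by
      rw [isCommMonObj_iff_isMulCommutative]
      exact fun X => ⟨⟨fun a a' => by
        rw [← cancel_mono w, MonObj.mul_comp, MonObj.mul_comp, Groth.Reductive.FreeDiag.comm_of_multTypeFT
          (Groth.Reductive.FreeDiag.isMultTypeFT_of_isTorus hT) X]⟩⟩
    have hW := Groth.SemiAb.isTorus_of_mono hT w
    haveI : Subsingleton W.left := Groth.SemiAb.subsingleton_of_torsionFree hW hℓ.two_le fun Y y hy => by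
      rw [← cancel_mono (e' ≫ c' ≫ m), MonObj.one_comp]
      exact htU Y _ (by rw [← MonObj.pow_comp, hy, MonObj.one_comp])
    exact hone c' e' (by exact e'.left.isOpenEmbedding.isOpen_range)
  haveI : QuasiCompact r.left := by
    haveI : QuasiCompact (r.left ≫ B.hom) := by rw [Over.w]; infer_instance
    exact QuasiCompact.of_comp r.left B.hom
  haveI : IsFinite r.left := IsKernel.descends hmk @IsFinite hMfin
  haveI : IsProper U.hom := by rw [← Over.w r]; infer_instance
  haveI := geometricallyIntegral_of_smooth U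
  obtain ⟨g, hg⟩ : ∃ g : ℕ, topologicalKrullDim U.left = g := by
    haveI : Subsingleton ↥(Spec (CommRingCat.of (AlgebraicClosure k))) :=
      inferInstanceAs (Subsingleton (PrimeSpectrum (AlgebraicClosure k)))
    let p : Spec (CommRingCat.of (AlgebraicClosure k)) := IsLocalRing.closedPoint _
    have hs : Function.Surjective (U.hom.fiberι p).base := fun v => (U.hom.range_fiberι p).ge (Subsingleton.elim _ _)
    have e0 := ((U.hom.fiberι p).isEmbedding.toHomeomorphOfSurjective hs).isHomeomorph.topologicalKrullDim_eq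
    have hne := Groth.FibreDim.dim_fiber_ne_top U.hom p
    rw [e0] at hne
    have hbot : topologicalKrullDim U.left ≠ ⊥ := by
      haveI : Nonempty U.left := ⟨η[U].left.base p⟩
      exact Order.krullDim_ne_bot_iff.2 ⟨⟨closure {η[U].left.base p}, isIrreducible_singleton.closure, isClosed_closure⟩⟩
    obtain ⟨a, ha⟩ := WithBot.ne_bot_iff_exists.1 hbot
    rw [← ha] at hne
    obtain ⟨n, rfl⟩ := ENat.ne_top_iff_exists.1 (show a ≠ ⊤ from fun h => hne (by rw [h]; rfl))
    exact ⟨n, ha.symm⟩
  let f : U ⟶ U := 𝟙 U ^ (ℓ : ℤ)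
  have hℓ0 : (ℓ : ℤ) ≠ 0 := by exact_mod_cast hℓ.ne_zero
  obtain ⟨hf1, hf2, hf3⟩ := Groth.AbVarMul.isogeny_zpow (A := U) hℓ0
  haveI : IsCommMonObj U := Groth.GrpschAbsch.isCommMonObj_of_isProper U
  haveI : Mono f := ⟨fun {Y} a a' h => by
    have h' : (a * a'⁻¹) ^ ℓ = 1 := by
      simp only [f, zpow_natCast, MonObj.comp_pow, Category.comp_id] at h
      rw [mul_pow, inv_pow, h, mul_inv_cancel]
    exact mul_inv_eq_one.1 (htU Y _ h')⟩
  haveI : IsIso f := by
    haveI := hf2; haveI := hf3
    exact isIso_of_mono_cover (isCover f)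
  haveI : IsIso f.left := inferInstanceAs (IsIso ((Over.forget _).map f))
  let x₀ := η[U].left.base (IsLocalRing.closedPoint (AlgebraicClosure k))
  have hdeg := Groth.AbVarMul.finrank_zpow (A := U) hg hℓ0 x₀
  rw [Int.natAbs_natCast, show Scheme.Hom.finrank f.left x₀ = 1 from by
    simp [Scheme.Hom.finrank_eq_one_of_isIso]] at hdeg
  have hg0 : g = 0 := by
    by_contra hne
    exact absurd hdeg.symm (Nat.one_lt_pow (by omega) hℓ.one_lt).ne'
  haveI := irreducibleSpace_of_connected U
  exact ⟨fun a a' => by
    have h := Groth.PropsBasic.ZD.eq_of_specializes_of_dim_le_zero (X := U.left) (by rw [hg, hg0]; rfl) (genericPoint U.left)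
    exact (h a ((genericPoint_spec U.left).specializes (Set.mem_univ a))).symm.trans
      (h a' ((genericPoint_spec U.left).specializes (Set.mem_univ a')))⟩

end Groth.Agent.S17450
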