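import Groth.Statements.S17454
import Groth.Agent.SemiAb.AffineProper
import Groth.Agent.AlgGrpAb.Basic
import Groth.Agent.AlgGrp1.AntiAffineProd

set_option autoImplicit false
set_option linter.style.haveILetI false
universe u
open CategoryTheory MonoidalCategory CartesianMonoidalCategory MonObj GrpObj AlgebraicGeometry CategoryTheory.Limits
open AlgGrp

namespace Groth.Agent.S17454

/-- Let k be a perfect field and f : G' → G a surjective homomorphism of smooth connected k-group
schemes of finite type. Let N' → G' and N → G be Chevalley decompositions: normal closed subgroup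
schemes which are smooth, connected and affine, kernels of flat surjective homomorphisms q' : G' →
A' and q : G → A onto proper smooth connected k-group schemes. Then f maps N' onto N: there is a
homomorphism g : N' → N, compatible with f and the two inclusions, whose underlying map is
surjective; and f induces a homomorphism A' → A compatible with q' and q whose underlying map is
surjective. (The isogeny refinement of the published statement is not stated.) -/
theorem result (k : Type u) [Field k] [PerfectField k]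
    (G' G : Over (Spec (CommRingCat.of k))) [GrpObj G'] [GrpObj G]
    [Smooth G'.hom] [QuasiCompact G'.hom] [ConnectedSpace ↥G'.left]
    [Smooth G.hom] [QuasiCompact G.hom] [ConnectedSpace ↥G.left]
    (f : G' ⟶ G) [IsMonHom f] [Surjective f.left]
    (N' : Over (Spec (CommRingCat.of k))) [GrpObj N'] (i' : N' ⟶ G') [IsMonHom i'] [IsClosedImmersion i'.left]
    [Smooth N'.hom] [ConnectedSpace ↥N'.left] [IsAffine N'.left] (hn' : AlgGrp.IsNormalHom i')
    (A' : Over (Spec (CommRingCat.of k))) [GrpObj A'] (q' : G' ⟶ A') [IsMonHom q'] [Surjective q'.left] [Flat q'.left]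
    [IsProper A'.hom] [Smooth A'.hom] [ConnectedSpace ↥A'.left] (hk' : AlgGrp.IsKernel i' q')
    (N : Over (Spec (CommRingCat.of k))) [GrpObj N] (i : N ⟶ G) [IsMonHom i] [IsClosedImmersion i.left]
    [Smooth N.hom] [ConnectedSpace ↥N.left] [IsAffine N.left] (hn : AlgGrp.IsNormalHom i)
    (A : Over (Spec (CommRingCat.of k))) [GrpObj A] (q : G ⟶ A) [IsMonHom q] [Surjective q.left] [Flat q.left]
    [IsProper A.hom] [Smooth A.hom] [ConnectedSpace ↥A.left] (hk : AlgGrp.IsKernel i q) :
    (∃ g : N' ⟶ N, IsMonHom g ∧ g ≫ i = i' ≫ f ∧ Surjective g.left) ∧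
      (∃ h : A' ⟶ A, IsMonHom h ∧ q' ≫ h = f ≫ q ∧ Surjective h.left) := by
  open Groth.AlgGrp1 in
  haveI : Mono i := Over.mono_of_mono_left i
  haveI : Mono i' := Over.mono_of_mono_left i'
  haveI : QuasiCompact N'.hom := inferInstance
  haveI : QuasiCompact N.hom := inferInstance
  have h1 : i' ≫ f ≫ q = 1 := Groth.SemiAb.eq_one_of_affine_to_proper _
  obtain ⟨g, hg⟩ := IsKernel.exists_lift hk (i' ≫ f) (by rw [Category.assoc, h1])
  haveI : IsMonHom (g ≫ i) := by rw [hg]; infer_instance
  haveI hgm : IsMonHom g := Groth.URad.isMonHom_of_comp_mono g i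
  obtain ⟨h, hhm, hh⟩ := Groth.AlgGrpAb.exists_desc_hom q' (isCover q') hk' (f ≫ q) h1
  haveI : Surjective (q'.left ≫ h.left) := by
    rw [← Over.comp_left, hh, Over.comp_left]; infer_instance
  haveI : Surjective h.left := Surjective.of_comp q'.left h.left
  refine ⟨⟨g, hgm, hg, ?_⟩, ⟨h, hhm, hh, inferInstance⟩⟩
  obtain ⟨U, _, u, d, hu, huc, hUs, hUq, hUcon, hd, hdsur, hud⟩ := Groth.SemiAb.exists_preimage f i
  haveI := hu; haveI := huc; haveI := hUs; haveI := hUq; haveI := hUcon; haveI := hd; haveI := hdsur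
  haveI : Mono u := Over.mono_of_mono_left u
  obtain ⟨B, _, c, r, hc, hcc, hr, hBlft, hBqc, hrfl, hrsur, hrc⟩ := exists_image_hom (u ≫ q')
  haveI := hc; haveI := hcc; haveI := hr; haveI := hBlft; haveI := hBqc; haveI := hrfl; haveI := hrsur
  haveI : IsProper B.hom := by rw [← Over.w c]; infer_instance
  haveI := connectedSpace_of_surjective r
  obtain ⟨Nu, _, nu, hnum, hnuc, hnuk⟩ : ∃ (Nu : Over (Spec (CommRingCat.of k))) (_ : GrpObj Nu) (nu : Nu ⟶ U),
      IsMonHom nu ∧ IsClosedImmersion nu.left ∧ AlgGrp.IsKernel nu r := by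
    let nu : Limits.pullback r η[B] ⟶ U := Limits.pullback.fst r η[B]
    have hk0 : AlgGrp.IsKernel nu r := by
      have := IsPullback.of_hasPullback r η[B]
      rwa [toUnit_unique (Limits.pullback.snd r η[B]) (toUnit _)] at this
    have := IsKernel.mono hk0
    obtain ⟨_, hi0⟩ := Groth.Agf.exists_grpObj_of_subgroup nu (fun T x => x ≫ r = 1)
      (fun T x => IsKernel.exists_iff hk0 x) (fun T => MonObj.one_comp r)
      (fun T a b ha hb => by rw [MonObj.mul_comp, ha, hb, _root_.mul_one])
      (fun T a ha => by rw [GrpObj.inv_comp, ha, inv_one])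
    haveI : IsClosedImmersion η[B].left := isClosedImmersion_of_comp_eq_id B.hom η[B].left (Over.w η[B])
    exact ⟨_, inferInstance, nu, hi0,
      MorphismProperty.of_isPullback (hk0.map (Over.forget _)).flip ‹IsClosedImmersion η[B].left›, hk0⟩
  haveI := hnum; haveI := hnuc
  obtain ⟨K, _, e, he, hec, -, -, hK, hsur⟩ := Groth.AlgGrp1.AntiAffineProd.surjective_mul_hullKernel nu r hnuk
    (Groth.AlgGrp1.AntiAffineProd.affTopConst_of_proper B)
  haveI := he; haveI := hec
  obtain ⟨ν, hν⟩ := IsKernel.exists_lift hk' (nu ≫ u) (by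
    rw [Category.assoc, ← hrc, ← Category.assoc, IsKernel.comp_eq_one hnuk, MonObj.one_comp])
  have hK1 : e ≫ d = 1 := by
    rw [Groth.AlgGrp1.AntiAffineSmooth.eq_const hK η[K] (e ≫ d),
      show η[K] ≫ e ≫ d = η[N] from IsMonHom.one_hom (e ≫ d), ← Hom.one_def]
  have hN1 : nu ≫ d = ν ≫ g := by
    rw [← cancel_mono i, Category.assoc, Category.assoc, hud, hg, reassoc_of% hν]
  haveI : Surjective (((nu ⊗ₘ e) ≫ μ[U]).left ≫ d.left) :=
    ⟨(Surjective.surj (f := d.left)).comp hsur.surj⟩
  have e1 : ((nu ⊗ₘ e) ≫ μ[U]).left ≫ d.left = (fst Nu K ≫ ν).left ≫ g.left := by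
    rw [← Over.comp_left, ← Over.comp_left]
    congr 1
    rw [show (nu ⊗ₘ e) ≫ μ[U] = (fst Nu K ≫ nu) * (snd Nu K ≫ e) by
      rw [Hom.mul_def]; congr 1, MonObj.mul_comp, Category.assoc, Category.assoc, hK1,
      MonObj.comp_one, _root_.mul_one, hN1, Category.assoc]
  haveI : Surjective ((fst Nu K ≫ ν).left ≫ g.left) := e1 ▸ inferInstance
  exact Surjective.of_comp (fst Nu K ≫ ν).left g.left

end Groth.Agent.S17454
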