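import Groth.Statements.S17455
import Groth.Agent.GrpschAbsch.TorusToAbelian

set_option autoImplicit false
set_option linter.style.haveILetI false
universe u
open CategoryTheory MonoidalCategory CartesianMonoidalCategory MonObj GrpObj AlgebraicGeometry CategoryTheory.Limits
open AlgGrp

namespace Groth.Agent.S17455

/-- Let k be a field and G a k-group scheme of finite type. If i₁ : T₁ → G and i₂ : T₂ → G are
homomorphisms and closed immersions from tori, and each is the kernel of a flat surjective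
homomorphism from G onto a proper smooth connected k-group scheme, then the two subgroups coincide:
there is an isomorphism e : T₁ ≅ T₂ with e ≫ i₂ = i₁. (So the structure of extension of an abelian
variety by a torus on G, when it exists, is unique.) -/
theorem result (k : Type u) [Field k]
    (G : Over (Spec (CommRingCat.of k))) [GrpObj G] [LocallyOfFiniteType G.hom] [QuasiCompact G.hom]
    (T₁ T₂ A₁ A₂ : Over (Spec (CommRingCat.of k))) [GrpObj T₁] [GrpObj T₂] [GrpObj A₁] [GrpObj A₂]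
    (i₁ : T₁ ⟶ G) [IsMonHom i₁] [IsClosedImmersion i₁.left] (h₁ : Red.IsTorus T₁)
    (i₂ : T₂ ⟶ G) [IsMonHom i₂] [IsClosedImmersion i₂.left] (h₂ : Red.IsTorus T₂)
    (q₁ : G ⟶ A₁) [IsMonHom q₁] [Surjective q₁.left] [Flat q₁.left] (hk₁ : AlgGrp.IsKernel i₁ q₁)
    [IsProper A₁.hom] [Smooth A₁.hom] [ConnectedSpace ↥A₁.left]
    (q₂ : G ⟶ A₂) [IsMonHom q₂] [Surjective q₂.left] [Flat q₂.left] (hk₂ : AlgGrp.IsKernel i₂ q₂)
    [IsProper A₂.hom] [Smooth A₂.hom] [ConnectedSpace ↥A₂.left] :
    ∃ e : T₁ ≅ T₂, e.hom ≫ i₂ = i₁ := by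
  have hfib : ∀ (A : Over (Spec (CommRingCat.of k))) [ConnectedSpace ↥A.left], ∀ s, ConnectedSpace ↥(A.hom.fiber s) := by
    intro A _ s
    have : Subsingleton ↥(Spec (CommRingCat.of k)) := inferInstanceAs (Subsingleton (PrimeSpectrum k))
    have : ConnectedSpace ↥(A.hom.base ⁻¹' {s}) := by
      rw [show A.hom.base ⁻¹' {s} = Set.univ from Set.eq_univ_of_forall fun x => Subsingleton.elim (A.hom.base x) s]
      exact isConnected_iff_connectedSpace.1 isConnected_univ
    exact (A.hom.fiberHomeo s).symm.surjective.connectedSpace (A.hom.fiberHomeo s).symm.continuous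
  have key : ∀ {T A N : Over (Spec (CommRingCat.of k))} [GrpObj T] [GrpObj A] [GrpObj N] (_ : Red.IsTorus T)
      (i : T ⟶ G) [IsMonHom i] (n : N ⟶ G) (q : G ⟶ A) [IsMonHom q] [IsProper A.hom] [Smooth A.hom]
      [ConnectedSpace ↥A.left] (_ : AlgGrp.IsKernel n q), ∃ e : T ⟶ N, e ≫ n = i := by
    intro T A N _ _ _ hT i _ n q _ _ _ _ hk
    refine ⟨hk.lift i (toUnit T) ?_, hk.lift_fst _ _ _⟩
    rw [Groth.GrpschAbsch.TorusToAbelian.eq_one T A hT (hfib A) (i ≫ q), Hom.one_def]
  obtain ⟨e, he⟩ := key h₁ i₁ i₂ q₂ hk₂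
  obtain ⟨e', he'⟩ := key h₂ i₂ i₁ q₁ hk₁
  haveI : Mono i₁ := (Over.forget _).mono_of_mono_map (f := i₁) (inferInstanceAs (Mono i₁.left))
  haveI : Mono i₂ := (Over.forget _).mono_of_mono_map (f := i₂) (inferInstanceAs (Mono i₂.left))
  exact ⟨⟨e, e', by rw [← cancel_mono i₁, Category.assoc, he', he, Category.id_comp],
    by rw [← cancel_mono i₂, Category.assoc, he, he', Category.id_comp]⟩, he⟩

end Groth.Agent.S17455
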