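import Groth.Statements.S17456
import Groth.Agent.SemiAb.TorusPow
import Groth.Agent.AlgGrp1.Extension
import Groth.Agent.AlgGrp1.ImageHom
import Groth.Agent.AlgGrp1.Geom
import Groth.Agent.AlgGrpAb.Basic
import Groth.Agent.AbVarMul.KernelComp
import Groth.Agent.AbVarMul.Degree
import Groth.Agent.URad.Unip

set_option autoImplicit false
set_option linter.style.haveILetI false
set_option maxHeartbeats 1000000
universe u
open CategoryTheory MonoidalCategory CartesianMonoidalCategory MonObj GrpObj AlgebraicGeometry CategoryTheory.Limits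
open AlgGrp

namespace Groth.Agent.S17456

/-- Let k be a field and G a smooth connected commutative k-group scheme of finite type which is an
extension of an abelian variety B of dimension a by a torus T of dimension t: T → G is a
homomorphism and a closed immersion with T a torus, G → B is a flat surjective homomorphism onto a
proper smooth connected k-group scheme, and T is its kernel. Then for every integer N ≥ 1, the
characteristic of k being allowed to divide N, the N-torsion subgroup scheme G[N] (the kernel of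
multiplication by N on G) is finite locally free over Spec k of degree N^(t + 2a). (In the source G
is the identity component of the special fibre of the Néron model of an abelian variety with
semistable reduction, which is such an extension.) -/
theorem result (k : Type u) [Field k]
    (G T B : Over (Spec (CommRingCat.of k))) [GrpObj G] [IsCommMonObj G] [GrpObj T] [GrpObj B]
    [Smooth G.hom] [QuasiCompact G.hom] [ConnectedSpace ↥G.left]
    (i : T ⟶ G) [IsMonHom i] [IsClosedImmersion i.left] (hT : Red.IsTorus T)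
    (q : G ⟶ B) [IsMonHom q] [Surjective q.left] [Flat q.left] (hk : AlgGrp.IsKernel i q)
    [IsProper B.hom] [Smooth B.hom] [ConnectedSpace ↥B.left]
    (t a : ℕ) (ht : topologicalKrullDim ↥T.left = t) (ha : topologicalKrullDim ↥B.left = a)
    (N : ℕ) (hN : 0 < N)
    (K : Over (Spec (CommRingCat.of k))) [GrpObj K] (κ : K ⟶ G) [IsMonHom κ]
    (hK : AlgGrp.IsKernel κ ((𝟙 G) ^ N)) :
    Mor2.IsFinLocFreeOfDeg (N ^ (t + 2 * a)) K.hom := by
  open Groth.AlgGrp1 in
  haveI hiMono : Mono i := Over.mono_of_mono_left i
  haveI : IsCommMonObj T := Groth.AbVarMul.isCommMonObj_of_mono i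
  haveI : LocallyOfFiniteType G.hom := inferInstance
  haveI : LocallyOfFiniteType T.hom := by rw [← Over.w i]; infer_instance
  haveI : QuasiCompact T.hom := by rw [← Over.w i]; infer_instance
  haveI : LocallyOfFiniteType B.hom := inferInstance
  haveI : QuasiCompact B.hom := inferInstance
  have hqc : IsCover q := isCover q
  haveI : IsCommMonObj B := Groth.AlgGrpAb.isCommMonObj_of_cover q hqc
  haveI : GeometricallyIntegral B.hom := geometricallyIntegral_of_smooth B
  have hpm : ∀ (X : Over (Spec (CommRingCat.of k))) [GrpObj X] [IsCommMonObj X], IsMonHom ((𝟙 X) ^ N) :=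
    fun X _ _ => isMonHom_of_points _ fun Y u v => by
      simp only [MonObj.comp_pow, Category.comp_id, mul_pow]
  haveI := hpm T; haveI := hpm B
  -- the kernel of `[N]` on the torus
  obtain ⟨hTfin, hTflat, hTsurj, hTrank⟩ := Groth.SemiAb.isogeny_pow_torus hT ht hN
  haveI := hTfin; haveI := hTflat; haveI := hTsurj
  obtain ⟨KT, _, kT, -, hkTm, hkTc, hkT⟩ := Groth.AlgGrpAb.exists_kernel ((𝟙 T) ^ N)
  haveI := hkTm; haveI := hkTc
  haveI : Mono kT := Over.mono_of_mono_left kT
  -- the kernel of `[N]` on the abelian variety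
  have hN0 : (N : ℤ) ≠ 0 := by exact_mod_cast hN.ne'
  obtain ⟨hBfin, hBflat, hBsurj⟩ := Groth.AbVarMul.isogeny_zpow (A := B) hN0
  have hBrank := Groth.AbVarMul.finrank_zpow (A := B) ha hN0
  rw [zpow_natCast] at hBfin hBflat hBsurj hBrank
  haveI := hBfin; haveI := hBflat
  obtain ⟨KB, _, kB, -, hkBm, hkBc, hkB⟩ := Groth.AlgGrpAb.exists_kernel ((𝟙 B) ^ N)
  haveI := hkBm; haveI := hkBc
  haveI : Mono kB := Over.mono_of_mono_left kB
  have sT : IsPullback kT.left KT.hom ((𝟙 T) ^ N).left η[T].left := by
    have h := hkT.map (Over.forget _)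
    have e : (toUnit KT).left = KT.hom := (Category.comp_id _).symm.trans (Over.w (toUnit KT))
    rw [← e]; exact h
  have sB : IsPullback kB.left KB.hom ((𝟙 B) ^ N).left η[B].left := by
    have h := hkB.map (Over.forget _)
    have e : (toUnit KB).left = KB.hom := (Category.comp_id _).symm.trans (Over.w (toUnit KB))
    rw [← e]; exact h
  haveI hKTfin : IsFinite KT.hom := MorphismProperty.of_isPullback sT hTfin
  haveI hKTflat : Flat KT.hom := MorphismProperty.of_isPullback sT hTflat
  haveI hKBfin : IsFinite KB.hom := MorphismProperty.of_isPullback sB hBfin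
  haveI hKBflat : Flat KB.hom := MorphismProperty.of_isPullback sB hBflat
  have hKTdeg : ∀ y, KT.hom.finrank y = N ^ t := fun y =>
    (Scheme.Hom.finrank_of_isPullback _ _ _ _ sT y).trans (hTrank _)
  have hKBdeg : ∀ y, KB.hom.finrank y = N ^ (2 * a) := fun y =>
    (Scheme.Hom.finrank_of_isPullback _ _ _ _ sB y).trans ((hBrank _).trans (by rw [Int.natAbs_natCast]))
  -- the kernel on `G`
  haveI hκmono : Mono κ := IsKernel.mono hK
  haveI : IsClosedImmersion κ.left := by
    haveI := isSeparated_grpObj G
    haveI : IsClosedImmersion η[G].left := inferInstance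
    exact MorphismProperty.of_isPullback (hK.map (Over.forget _)).flip ‹IsClosedImmersion η[G].left›
  haveI : LocallyOfFiniteType K.hom := by rw [← Over.w κ]; infer_instance
  haveI : QuasiCompact K.hom := by rw [← Over.w κ]; infer_instance
  have hκN : κ ^ N = 1 := by
    have := IsKernel.comp_eq_one hK
    rwa [MonObj.comp_pow, Category.comp_id] at this
  obtain ⟨r, hr⟩ := IsKernel.exists_lift hkB (κ ≫ q) (by
    rw [MonObj.comp_pow, Category.comp_id, ← Groth.SemiAb.pow_comp_hom, hκN, MonObj.one_comp])
  haveI : IsMonHom (r ≫ kB) := hr ▸ inferInstance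
  haveI : IsMonHom r := Groth.URad.isMonHom_of_comp_mono r kB
  -- the kernel of `r`
  obtain ⟨j, hj⟩ := IsKernel.exists_lift hK (kT ≫ i) (by
    have h1 : kT ^ N = 1 := by
      have := IsKernel.comp_eq_one hkT
      rwa [MonObj.comp_pow, Category.comp_id] at this
    rw [MonObj.comp_pow, Category.comp_id, ← Groth.SemiAb.pow_comp_hom, h1, MonObj.one_comp])
  haveI : Mono j := mono_of_mono_fac hj
  have hjr : j ≫ r = 1 := by
    rw [← cancel_mono kB, Category.assoc, hr, ← Category.assoc, hj, Category.assoc, IsKernel.comp_eq_one hk,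
      MonObj.comp_one, MonObj.one_comp]
  have hker : AlgGrp.IsKernel j r := IsKernel.mk' inferInstance fun Y g => by
    refine ⟨?_, fun hg => ?_⟩
    · rintro ⟨n, rfl⟩
      rw [Category.assoc, hjr, MonObj.comp_one]
    · obtain ⟨z, hz⟩ := IsKernel.exists_lift hk (g ≫ κ) (by
        rw [Category.assoc, ← hr, ← Category.assoc, hg, MonObj.one_comp])
      obtain ⟨w, hw⟩ := IsKernel.exists_lift hkT z (by
        rw [MonObj.comp_pow, Category.comp_id, ← cancel_mono i, Groth.SemiAb.pow_comp_hom, hz, ← MonObj.comp_pow,
          hκN, MonObj.comp_one, MonObj.one_comp])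
      exact ⟨w, by rw [← cancel_mono κ, Category.assoc, hj, ← Category.assoc, hw, hz]⟩
  -- `r` is faithfully flat
  have hTcover : IsCover ((𝟙 T) ^ N) := isCover _
  obtain ⟨C, _, c, g, hcm, hcc, hgm, hClft, hCqc, hgfl, hgsur, hgc⟩ := exists_image_hom r
  haveI := hcc; haveI := hgfl; haveI := hgsur
  haveI : Mono c := Over.mono_of_mono_left c
  have hciso : IsIso c := by
    obtain ⟨T₁, e₁, y, he₁, hy⟩ := hqc.exists_lift kB
    have hkBN : kB ^ N = 1 := by
      have := IsKernel.comp_eq_one hkB
      rwa [MonObj.comp_pow, Category.comp_id] at this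
    obtain ⟨s, hs⟩ := IsKernel.exists_lift hk (y ^ N) (by
      rw [Groth.SemiAb.pow_comp_hom, hy, ← MonObj.comp_pow, hkBN, MonObj.comp_one])
    obtain ⟨T₂, e₂, s', he₂, hs'⟩ := hTcover.exists_lift s
    rw [MonObj.comp_pow, Category.comp_id] at hs'
    obtain ⟨z, hz⟩ := IsKernel.exists_lift hK ((e₂ ≫ y) * (s' ≫ i)⁻¹) (by
      rw [MonObj.comp_pow, Category.comp_id, mul_pow, inv_pow, ← MonObj.comp_pow, ← Groth.SemiAb.pow_comp_hom,
        hs', Category.assoc, hs, mul_inv_cancel])
    have hzr : (z ≫ g) ≫ c = (e₂ ≫ e₁) ≫ 𝟙 KB := by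
      rw [← cancel_mono kB, Category.assoc z, hgc, Category.assoc, hr, ← Category.assoc, hz, MonObj.mul_comp,
        GrpObj.inv_comp, Category.assoc, Category.assoc, IsKernel.comp_eq_one hk, MonObj.comp_one, inv_one,
        _root_.mul_one, hy, Category.comp_id, Category.assoc]
    obtain ⟨x, hx⟩ := factor_of_cover (he₂.comp he₁) (i := c) (𝟙 KB) ⟨z ≫ g, hzr⟩
    refine ⟨⟨x, ?_, hx⟩⟩
    rw [← cancel_mono c, Category.assoc, hx, Category.comp_id, Category.id_comp]
  haveI : IsIso c.left := inferInstanceAs (IsIso ((Over.forget _).map c))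
  haveI : Flat r.left := by rw [← hgc, Over.comp_left]; infer_instance
  haveI : Surjective r.left := by rw [← hgc, Over.comp_left]; infer_instance
  haveI : QuasiCompact r.left := by
    haveI : QuasiCompact (r.left ≫ KB.hom) := by rw [Over.w r]; infer_instance
    exact QuasiCompact.of_comp r.left KB.hom
  haveI : IsFinite r.left := IsKernel.descends hker @IsFinite hKTfin
  have hrdeg : ∀ y, r.left.finrank y = N ^ t := fun y => by
    obtain ⟨x, rfl⟩ := r.left.surjective y
    rw [← Scheme.Hom.finrank_of_isPullback _ _ _ _ (IsKernel.isPullback_mul_left hker) x]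
    exact (Scheme.Hom.finrank_of_isPullback _ _ _ _ (IsPullback.of_hasPullback K.hom KT.hom).flip x).trans
      (hKTdeg _)
  have hw : r.left ≫ KB.hom = K.hom := Over.w r
  refine ⟨?_, fun y => ?_⟩
  · rw [← hw]
    haveI : LocallyOfFinitePresentation (r.left ≫ KB.hom) := by rw [hw]; infer_instance
    exact ⟨inferInstance, inferInstance, inferInstance⟩
  · rw [← hw, Groth.BTExact.finrank_comp r.left KB.hom (N ^ t) hrdeg y, hKBdeg, ← pow_add]

end Groth.Agent.S17456
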