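import Groth.Statements.S17459
import Groth.Agent.GrpschLoci.Fibres
import Groth.Agent.S17449
import Groth.Agent.S10830
import Groth.Agent.DescentBase.DimEtale
import Groth.Agent.Variety2.DimScheme
import Groth.Agent.Abvar.Rigidity

set_option backward.isDefEq.respectTransparency false

set_option autoImplicit false
universe u
open CategoryTheory CategoryTheory.Limits AlgebraicGeometry MonObj
open SGA7

namespace Groth.Agent.S17459

/-- Let R be a discrete valuation ring with fraction field K, let N and N' be group schemes over Spec R
which are Néron models of their generic fibres A = N_K and B = N'_K, abelian varieties (proper and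
geometrically integral) of the same dimension, and let u : N → N' be a homomorphism (the extension
of u_K : A → B). If the homomorphism induced by u on the special fibres is locally quasi-finite — as
it is when it restricts to an isogeny between the identity components, the printed hypothesis, which
also forces dim A = dim B — then u_K is an isogeny: its underlying map is surjective and its kernel
is finite. -/
theorem result (R K : Type u) [CommRing R] [IsDomain R]
    [IsDiscreteValuationRing R] [Field K] [Algebra R K] [IsFractionRing R K]
    (N N' : Over (Spec (CommRingCat.of R))) [GrpObj N] [GrpObj N']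
    (hN : SGA7.IsNeron R K N) (hN' : SGA7.IsNeron R K N')
    [IsProper ((SGA7.genFib R K).obj N).hom] [GeometricallyIntegral ((SGA7.genFib R K).obj N).hom]
    [IsProper ((SGA7.genFib R K).obj N').hom] [GeometricallyIntegral ((SGA7.genFib R K).obj N').hom]
    (hdim : topologicalKrullDim ↥((SGA7.genFib R K).obj N).left = topologicalKrullDim ↥((SGA7.genFib R K).obj N').left)
    (u : N ⟶ N') [IsMonHom u]
    [LocallyQuasiFinite (SGA7.fibreHom (IsLocalRing.closedPoint R) u).left] :
    SGA7.IsIsogenyOver ((SGA7.genFib R K).map u) := by
  obtain ⟨hs, hsep, hqc, -⟩ := hN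
  obtain ⟨hs', hsep', -, -⟩ := hN'
  haveI := hs; haveI := hsep; haveI := hqc; haveI := hs'; haveI := hsep'
  haveI : LocallyOfFiniteType (u.left ≫ N'.hom) := by rw [Over.w]; infer_instance
  haveI : LocallyOfFiniteType u.left := locallyOfFiniteType_of_comp u.left N'.hom
  let S := Spec (CommRingCat.of R)
  obtain ⟨hopen, -⟩ := Groth.GrpschLoci.lqf_locus_eq u
  have hgen : genericPoint ↥S ∈ {s : S |
      LocallyQuasiFinite ((Over.pullback (S.fromSpecResidueField s)).map u).left} :=
    (genericPoint_specializes (IsLocalRing.closedPoint R : S)).mem_open hopen
      ‹LocallyQuasiFinite (SGA7.fibreHom (IsLocalRing.closedPoint R) u).left›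
  -- transfer to `K`
  let j : Spec (CommRingCat.of K) ⟶ S := Spec.map (CommRingCat.ofHom (algebraMap R K))
  let v := (SGA7.genFib R K).map u
  haveI hv : LocallyQuasiFinite v.left := by
    obtain ⟨⟨w, d⟩, hd⟩ := (Scheme.SpecToEquivOfField K S).symm.surjective j
    have hd' : Spec.map d ≫ S.fromSpecResidueField w = j := hd
    have hw : genericPoint ↥S = w := by
      have h2 : w = j.base (IsLocalRing.closedPoint _) := by
        rw [← hd']
        show w = S.fromSpecResidueField w _
        rw [Scheme.fromSpecResidueField_apply]
      rw [h2, genericPoint_eq_bot_of_affine]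
      refine PrimeSpectrum.ext ?_
      show (⊥ : Ideal R) = (IsLocalRing.maximalIdeal K).comap (algebraMap R K)
      rw [IsLocalRing.maximalIdeal_eq_bot, ← RingHom.ker_eq_comap_bot,
        (RingHom.injective_iff_ker_eq_bot _).1 (IsFractionRing.injective R K)]
    rw [hw] at hgen
    let t := S.fromSpecResidueField w
    let a : (pullback N.hom j) ⟶ pullback N.hom t :=
      pullback.lift (pullback.fst _ _) (pullback.snd _ _ ≫ Spec.map d)
        (by rw [Category.assoc, hd']; exact pullback.condition)
    let b : (pullback N'.hom j) ⟶ pullback N'.hom t :=
      pullback.lift (pullback.fst _ _) (pullback.snd _ _ ≫ Spec.map d)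
        (by rw [Category.assoc, hd']; exact pullback.condition)
    have hb : IsPullback b (pullback.snd N'.hom j) (pullback.snd N'.hom t) (Spec.map d) :=
      IsPullback.of_right (h₁₂ := pullback.fst _ _) (by rw [pullback.lift_fst, hd']; exact IsPullback.of_hasPullback _ _)
        (pullback.lift_snd _ _ _) (IsPullback.of_hasPullback _ _)
    have ha : IsPullback a (pullback.snd N.hom j) (pullback.snd N.hom t) (Spec.map d) :=
      IsPullback.of_right (h₁₂ := pullback.fst _ _) (by rw [pullback.lift_fst, hd']; exact IsPullback.of_hasPullback _ _)
        (pullback.lift_snd _ _ _) (IsPullback.of_hasPullback _ _)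
    let ut := ((Over.pullback t).map u).left
    have w1 : v.left ≫ pullback.snd N'.hom j = pullback.snd N.hom j := Over.w v
    have w2 : ut ≫ pullback.snd N'.hom t = pullback.snd N.hom t := Over.w ((Over.pullback t).map u)
    have hsq : IsPullback a v.left ut b := by
      refine IsPullback.of_bot (w1 ▸ w2 ▸ ha) ?_ hb
      apply pullback.hom_ext <;> simp [a, b, ut, v, t, j]
    exact MorphismProperty.of_isPullback hsq hgen
  haveI hvp : IsProper v.left := by
    haveI : IsProper (v.left ≫ ((SGA7.genFib R K).obj N').hom) := by rw [Over.w]; infer_instance
    exact IsProper.of_comp _ ((SGA7.genFib R K).obj N').hom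
  haveI : IsFinite v.left := IsFinite.of_isProper_of_locallyQuasiFinite _
  refine ⟨?_, fun M i hk => ?_⟩
  · let A := (SGA7.genFib R K).obj N
    let B := (SGA7.genFib R K).obj N'
    haveI : IsIntegral A.left := Groth.Abvar.isIntegral_left A
    haveI : IsIntegral B.left := Groth.Abvar.isIntegral_left B
    obtain ⟨n, hn⟩ := Groth.Variety2.Dim.exists_height_eq B.hom (genericPoint B.left)
    have hfin : topologicalKrullDim B.left ≠ ⊤ := by
      have h1 := Groth.Variety2.Dim.dim_closure_singleton (genericPoint B.left)
      rw [genericPoint_closure, hn] at h1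
      rw [← (Homeomorph.Set.univ B.left).isHomeomorph.topologicalKrullDim_eq, h1]
      intro h
      exact ENat.natCast_ne_top n (WithBot.coe_injective h)
    refine ⟨Set.range_eq_univ.1 ?_⟩
    by_contra hne
    have hcl : IsClosed (Set.range v.left) := v.left.isClosedMap.isClosed_range
    have hlt := Groth.Agent.S10830.result B.left hfin _ hcl hne
    haveI : QuasiSober ↥(Set.range v.left) := hcl.isClosedEmbedding_subtypeVal.quasiSober
    have hle : topologicalKrullDim A.left ≤ topologicalKrullDim ↥(Set.range v.left) := by
      refine Groth.DescentBase.topologicalKrullDim_le_of_discrete_fibres (Set.rangeFactorization v.left)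
        (v.left.continuous.subtype_mk _) fun y => ?_
      have : Set.rangeFactorization v.left ⁻¹' {y} = v.left ⁻¹' {y.1} := by
        ext z; simp [Set.rangeFactorization, Subtype.ext_iff]
      rw [this]
      exact v.left.isDiscrete_preimage_singleton _
    exact absurd (hdim ▸ hle) (not_le.2 hlt)
  · have h := Functor.map_isPullback (Over.forget _) hk
    exact MorphismProperty.of_isPullback (P := @IsFinite) h ‹IsFinite v.left›

end Groth.Agent.S17459
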