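import Groth.Statements.S1746
import Groth.Agent.DualCore.FiniteHomUnbounded

set_option autoImplicit false
universe u
open CategoryTheory
attribute [local instance] HasDerivedCategory.standard
open Dual

namespace Groth.Agent.S1746

/-- Let A be a Noetherian ring and K, L objects of D(A) all of whose cohomology modules are finite
A-modules, with L of finite injective dimension. Then for every integer i the A-module of maps K →
L[i] in D(A) (the i-th cohomology of RHom(K, L)) is a finite A-module. -/
theorem result (A : Type u) [CommRing A] [IsNoetherianRing A] (K L : Dual.D A) (hK : ∀ i : ℤ, Module.Finite A (Dual.HD A K i)) (hL : ∀ i : ℤ, Module.Finite A (Dual.HD A L i)) (hLi : DRing.HasFiniteInjDim A L) (i : ℤ) : Module.Finite A (K ⟶ L⟦i⟧) := by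
  obtain ⟨a, b, -, -, hab⟩ := Groth.DualCore.bounds_of_hasFiniteInjDim L hLi
  obtain ⟨r⟩ := Groth.DualCore.exists_injRep L a b hab
  exact Groth.DualCore.finite_hom_of_injRep r hK hL i

end Groth.Agent.S1746
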