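import Groth.Statements.S17461
-- import your own Groth.Agent.* helpers here

set_option autoImplicit false
universe u
open CategoryTheory CategoryTheory.Limits AlgebraicGeometry
open Hensel

namespace Groth.Agent.S17461

/-- Let R be a henselian local ring and let X and Y be quasi-finite separated schemes over Spec R
(locally of finite type, quasi-compact, with discrete fibres, separated). Let W_X ⊆ X and W_Y ⊆ Y be
their finite parts: open and closed subsets which are finite over Spec R as open subschemes and
contain every point over the closed point. Then every morphism g : X → Y over Spec R carries W_X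
into W_Y. -/
theorem result (R : Type u) [CommRing R] [HenselianLocalRing R]
    {X Y : Scheme.{u}} (f : X ⟶ Spec (CommRingCat.of R)) (f' : Y ⟶ Spec (CommRingCat.of R))
    [LocallyQuasiFinite f] [LocallyOfFiniteType f] [QuasiCompact f] [IsSeparated f]
    [LocallyQuasiFinite f'] [LocallyOfFiniteType f'] [QuasiCompact f'] [IsSeparated f']
    (WX : X.Opens) (hWX : (IsClosed (WX : Set ↥X) ∧ IsFinite (WX.ι ≫ f) ∧ ∀ x : ↥X, f.base x = IsLocalRing.closedPoint R → x ∈ WX))
    (WY : Y.Opens) (hWY : (IsClosed (WY : Set ↥Y) ∧ IsFinite (WY.ι ≫ f') ∧ ∀ x : ↥Y, f'.base x = IsLocalRing.closedPoint R → x ∈ WY))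
    (g : X ⟶ Y) (hg : g ≫ f' = f) (x : X) (hx : x ∈ WX) :
    g.base x ∈ WY := by
  obtain ⟨hXc, hXfin, -⟩ := hWX
  obtain ⟨-, -, hYmem⟩ := hWY
  have : CompactSpace ↥X := QuasiCompact.compactSpace_of_compactSpace f
  have : CompactSpace (WX : Set X) := isCompact_iff_compactSpace.1 hXc.isCompact
  have : CompactSpace ↥WX.toScheme := ‹CompactSpace (WX : Set X)›
  obtain ⟨w, hw, hwc⟩ := (isClosed_closure (s := {(⟨x, hx⟩ : WX.toScheme)})).exists_closed_singleton
    ⟨_, subset_closure rfl⟩
  have hclosed : IsClosed ({(WX.ι ≫ f).base w} : Set ↥(Spec (CommRingCat.of R))) := by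
    have := (WX.ι ≫ f).isClosedMap _ hwc
    convert this using 1
    exact (Set.image_singleton (f := ⇑(WX.ι ≫ f))).symm
  have hcl : f.base w.1 = IsLocalRing.closedPoint R := by
    have := (IsLocalRing.specializes_closedPoint (R := R) (f.base w.1)).mem_closed hclosed rfl
    exact this.symm
  have hgw : g.base w.1 ∈ WY := hYmem _ (by rw [← hcl, ← hg]; rfl)
  have hsp : x ⤳ w.1 := (specializes_iff_mem_closure.2 hw).map WX.ι.continuous
  exact (hsp.map g.continuous).mem_open WY.2 hgw

end Groth.Agent.S17461
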