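import Groth.Statements.S17462
import Groth.Agent.S17461

set_option autoImplicit false
universe u
open CategoryTheory CategoryTheory.Limits AlgebraicGeometry
open Hensel

namespace Groth.Agent.S17462

/-- Let R be a henselian local ring and let X and Y be quasi-finite separated schemes over Spec R
(locally of finite type, quasi-compact, with discrete fibres, separated), with finite parts W_X ⊆ X
and W_Y ⊆ Y (open and closed subsets, finite over Spec R as open subschemes, containing every point
over the closed point). If W ⊆ X ×_R Y is the finite part of the fibre product (same three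
conditions, for the structure morphism of X ×_R Y), then W = W_X ×_R W_Y: a point of X ×_R Y lies in
W if and only if its first projection lies in W_X and its second projection lies in W_Y. -/
theorem result (R : Type u) [CommRing R] [HenselianLocalRing R]
    {X Y : Scheme.{u}} (f : X ⟶ Spec (CommRingCat.of R)) (f' : Y ⟶ Spec (CommRingCat.of R))
    [LocallyQuasiFinite f] [LocallyOfFiniteType f] [QuasiCompact f] [IsSeparated f]
    [LocallyQuasiFinite f'] [LocallyOfFiniteType f'] [QuasiCompact f'] [IsSeparated f']
    (WX : X.Opens) (hWX : (IsClosed (WX : Set ↥X) ∧ IsFinite (WX.ι ≫ f) ∧ ∀ x : ↥X, f.base x = IsLocalRing.closedPoint R → x ∈ WX))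
    (WY : Y.Opens) (hWY : (IsClosed (WY : Set ↥Y) ∧ IsFinite (WY.ι ≫ f') ∧ ∀ x : ↥Y, f'.base x = IsLocalRing.closedPoint R → x ∈ WY))
    (W : (pullback f f').Opens)
    (hW : (IsClosed (W : Set ↥(pullback f f')) ∧ IsFinite (W.ι ≫ (pullback.fst f f' ≫ f)) ∧ ∀ x : ↥(pullback f f'), (pullback.fst f f' ≫ f).base x = IsLocalRing.closedPoint R → x ∈ W))
    (z : ↥(pullback f f')) :
    z ∈ W ↔ ((pullback.fst f f').base z ∈ WX ∧ (pullback.snd f f').base z ∈ WY) := by
  obtain ⟨hXc, hXfin, hXmem⟩ := hWX
  obtain ⟨hYc, hYfin, hYmem⟩ := hWY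
  obtain ⟨hWc, hWfin, hWmem⟩ := hW
  set p := pullback.fst f f'
  set q := pullback.snd f f'
  have hpq : q ≫ f' = p ≫ f := pullback.condition.symm
  constructor
  · intro hz
    refine ⟨Groth.Agent.S17461.result R (p ≫ f) f W ⟨hWc, hWfin, hWmem⟩ WX
      ⟨hXc, hXfin, hXmem⟩ p rfl z hz, Groth.Agent.S17461.result R (p ≫ f) f' W ⟨hWc, hWfin, hWmem⟩ WY
      ⟨hYc, hYfin, hYmem⟩ q hpq z hz⟩
  · rintro ⟨hzX, hzY⟩
    set V : (pullback f f').Opens := (p ⁻¹ᵁ WX) ⊓ (q ⁻¹ᵁ WY)
    have hVc : IsClosed (V : Set ↥(pullback f f')) :=
      (hXc.preimage p.continuous).inter (hYc.preimage q.continuous)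
    have : CompactSpace ↥(pullback f f') := QuasiCompact.compactSpace_of_compactSpace (p ≫ f)
    obtain ⟨w, hw, hwc⟩ := (isClosed_closure (s := {z})).exists_closed_singleton ⟨z, subset_closure rfl⟩
    have hwV : w ∈ V := closure_minimal (Set.singleton_subset_iff.2 (show z ∈ (V : Set ↥(pullback f f')) from ⟨hzX, hzY⟩)) hVc hw
    have key : (p ≫ f).base w = IsLocalRing.closedPoint R := by
      have hfw : IsClosed ({(p ≫ f).base w} : Set ↥(Spec (CommRingCat.of R))) := by
        have hpw : IsClosed ({p.base w} : Set ↥X) := by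
          obtain ⟨w', hw'⟩ : w ∈ Set.range (pullback.fst q WY.ι).base := by
            rw [Scheme.Pullback.range_fst, Scheme.Opens.range_ι]; exact hwV.2
          have hw'c : IsClosed ({w'} : Set ↥(pullback q WY.ι)) := by
            convert hwc.preimage (pullback.fst q WY.ι).continuous
            refine Set.ext fun v => ⟨fun hv => ?_, fun hv => ?_⟩
            · rw [Set.mem_singleton_iff.1 hv]; exact hw'
            · exact (pullback.fst q WY.ι).isOpenEmbedding.injective (hv.trans hw'.symm)
          have hfin : IsFinite (pullback.fst q WY.ι ≫ p) := by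
            rw [← pullbackLeftPullbackSndIso_hom_fst f f' WY.ι]
            infer_instance
          have := (pullback.fst q WY.ι ≫ p).isClosedMap _ hw'c
          convert this using 1
          rw [← hw']
          exact (Set.image_singleton (f := ⇑(pullback.fst q WY.ι ≫ p))).symm
        have hpw' : IsClosed ({(⟨p.base w, hwV.1⟩ : WX.toScheme)} : Set WX.toScheme) := by
          convert hpw.preimage WX.ι.continuous
          refine Set.ext fun v => ⟨fun hv => ?_, fun hv => ?_⟩
          · rw [Set.mem_singleton_iff.1 hv]; rfl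
          · exact WX.ι.isOpenEmbedding.injective hv
        have := (WX.ι ≫ f).isClosedMap _ hpw'
        convert this using 1
        exact (Set.image_singleton (f := ⇑(WX.ι ≫ f)) (a := ⟨p.base w, hwV.1⟩)).symm
      exact ((IsLocalRing.specializes_closedPoint (R := R) ((p ≫ f).base w)).mem_closed hfw rfl).symm
    exact (specializes_iff_mem_closure.2 hw).mem_open W.2 (hWmem w key)

end Groth.Agent.S17462
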