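import Groth.Statements.S17463
import Groth.Agent.S17444

set_option autoImplicit false
universe u v w
open SSRed

namespace Groth.Agent.S17463

/-- Let K be a field of characteristic zero, V a K-vector space, G a group with a K-linear action ρ : G
→ GL(V) such that every ρ(g) is unipotent (ρ(g) - 1 is nilpotent), and H a subgroup of G of finite
index. Then the H-invariants equal the G-invariants: a vector fixed by every element of H is fixed
by every element of G. (In the source G and H are the absolute Galois groups of K and of a finite
extension K', acting unipotently on the rational ℓ-adic Tate module of an abelian variety.) -/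
theorem result (K : Type u) (V : Type v) (G : Type w) [Field K] [CharZero K]
    [AddCommGroup V] [Module K V] [Group G] (ρ : G →* (V ≃ₗ[K] V))
    (hunip : ∀ g : G, IsNilpotent (((ρ g : V ≃ₗ[K] V) : Module.End K V) - 1))
    (H : Subgroup G) [H.FiniteIndex] (v : V) (hv : ∀ h ∈ H, ρ h v = v) (g : G) :
    ρ g v = v := by
  obtain ⟨n, hn, -, hgn⟩ := H.exists_pow_mem_of_index_ne_zero H.index_ne_zero_of_finite g
  set a : Module.End K V := ((ρ g : V ≃ₗ[K] V) : Module.End K V) with ha
  have h1 : a ^ n = ((ρ (g ^ n) : V ≃ₗ[K] V) : Module.End K V) := by
    rw [map_pow, ha]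
    exact (map_pow (LinearEquiv.automorphismGroup.toLinearMapMonoidHom (R := K) (M := V)) (ρ g) n).symm
  have h2 : v ∈ LinearMap.ker (a ^ n - 1) := by
    rw [LinearMap.mem_ker, LinearMap.sub_apply, h1]
    change ρ (g ^ n) v - v = 0
    rw [hv _ hgn, sub_self]
  rw [Groth.Agent.S17444.result K V a (hunip g) n hn] at h2
  rw [LinearMap.mem_ker, LinearMap.sub_apply] at h2
  exact sub_eq_zero.mp h2

end Groth.Agent.S17463
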