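import Groth.Statements.S17466
-- import your own Groth.Agent.* helpers here

set_option autoImplicit false
universe u v
open BigOperators
open NRGIT

namespace Groth.Agent.S17466

/-- the degree-zero fractions with numerator in a given product of graded pieces. -/
private theorem loc_spec {A : Type*} [CommRing A] {S : Submonoid A} (x : A) (y : S) :
    Localization.mk x y * algebraMap A (Localization S) (y : A) = algebraMap A (Localization S) x := by
  rw [Localization.mk_eq_mk', IsLocalization.mk'_spec]

open HomogeneousLocalization in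
private theorem algebraMap_val {R : Type u} {A : Type v} [CommRing R] [CommRing A] [Algebra R A]
    (𝒜 : ℕ → Submodule R A) [GradedAlgebra 𝒜] (S : Submonoid A) (r : 𝒜 0) :
    (algebraMap (𝒜 0) (HomogeneousLocalization 𝒜 S) r).val = algebraMap A (Localization S) r := by
  rw [HomogeneousLocalization.algebraMap_eq, ← Localization.mk_one_eq_algebraMap]
  rfl

private theorem numerator_mem {R : Type u} {A : Type v} [CommRing R] [CommRing A] [Algebra R A]
    (𝒜 : ℕ → Submodule R A) [GradedAlgebra 𝒜] {s : ℕ} (σ : A) (hσs : σ ^ s ∈ 𝒜 s)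
    (z : HomogeneousLocalization.Away 𝒜 σ)
    (hz : z ∈ Algebra.adjoin (𝒜 0) {z : HomogeneousLocalization.Away 𝒜 σ |
      ∃ f ∈ 𝒜 s, z.val = Localization.mk f ⟨σ ^ s, Submonoid.pow_mem _ (Submonoid.mem_powers σ) s⟩}) :
    ∃ n, ∃ g ∈ (𝒜 s) ^ n * 𝒜 0, z.val * algebraMap A _ ((σ ^ s) ^ n) = algebraMap A _ g := by
  have hone : (1 : A) ∈ 𝒜 0 := SetLike.one_mem_graded 𝒜
  induction hz using Algebra.adjoin_induction with
  | mem z h =>
    obtain ⟨f, hf, hz⟩ := h
    refine ⟨1, f * 1, Submodule.mul_mem_mul (by rwa [pow_one]) hone, ?_⟩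
    rw [hz, mul_one, pow_one]
    exact loc_spec f _
  | algebraMap r =>
    refine ⟨0, 1 * r, Submodule.mul_mem_mul (by rw [pow_zero]; exact Submodule.one_le.mp le_rfl) r.2, ?_⟩
    rw [pow_zero, map_one, mul_one, one_mul, algebraMap_val]
  | add x y _ _ hx hy =>
    obtain ⟨n, g, hg, hx⟩ := hx
    obtain ⟨m, h, hh, hy⟩ := hy
    refine ⟨n + m, g * (σ ^ s) ^ m + h * (σ ^ s) ^ n, Submodule.add_mem _ ?_ ?_, ?_⟩
    · have := Submodule.mul_mem_mul hg (Submodule.pow_mem_pow _ hσs m)
      rwa [mul_right_comm, ← pow_add] at this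
    · have := Submodule.mul_mem_mul hh (Submodule.pow_mem_pow _ hσs n)
      rwa [mul_right_comm, ← pow_add, add_comm m n] at this
    · rw [HomogeneousLocalization.val_add, map_add, map_mul, map_mul, ← hx, ← hy, pow_add, map_mul]
      ring
  | mul x y _ _ hx hy =>
    obtain ⟨n, g, hg, hx⟩ := hx
    obtain ⟨m, h, hh, hy⟩ := hy
    refine ⟨n + m, g * h, ?_, ?_⟩
    · have h00 : 𝒜 0 * 𝒜 0 ≤ 𝒜 0 := Submodule.mul_le.mpr fun u hu v hv => by
        have h2 : u * v ∈ 𝒜 (0 + 0) := SetLike.mul_mem_graded hu hv
        rwa [add_zero] at h2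
      have h1 := Submodule.mul_mem_mul hg hh
      rw [mul_mul_mul_comm, ← pow_add] at h1
      exact mul_le_mul_right h00 _ h1
    · rw [HomogeneousLocalization.val_mul, map_mul, ← hx, ← hy, pow_add, map_mul]
      ring

private theorem Ideal_prod_mem {R : Type u} {A : Type v} [CommRing R] [CommRing A] [Algebra R A] {ι : Type*}
    [Fintype ι] (M : ι → Submodule R A) {x : ι → A} (h : ∀ i, x i ∈ M i) : ∏ i, x i ∈ ∏ i, M i := by
  classical
  exact Finset.cons_induction (by simpa only [Finset.prod_empty] using Submodule.one_le.mp (le_refl (1 : Submodule R A))) (fun a F ha ih => by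
    rw [Finset.prod_cons, Finset.prod_cons]; exact Submodule.mul_mem_mul (h a) ih) Finset.univ

private theorem fraction_mem {R : Type u} {A : Type v} [CommRing R] [CommRing A] [Algebra R A]
    (𝒜 : ℕ → Submodule R A) [GradedAlgebra 𝒜] {s : ℕ} (P : A) (hP : P ∈ 𝒜 s) (N : ℕ) :
    ∀ g ∈ (𝒜 s) ^ N * 𝒜 0, ∃ z ∈ Algebra.adjoin (𝒜 0) {z : HomogeneousLocalization.Away 𝒜 P |
      ∃ f ∈ 𝒜 s, z.val = Localization.mk f ⟨P, Submonoid.mem_powers _⟩},
      z.val * algebraMap A _ (P ^ N) = algebraMap A _ g := by
  induction N with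
  | zero =>
    intro g hg
    rw [pow_zero, one_mul] at hg
    refine ⟨algebraMap (𝒜 0) _ ⟨g, hg⟩, Subalgebra.algebraMap_mem _ _, ?_⟩
    rw [pow_zero, map_one, mul_one, algebraMap_val]
  | succ N ih =>
    intro g hg
    rw [pow_succ', mul_assoc] at hg
    induction hg using Submodule.mul_induction_on' with
    | mem_mul_mem f hf h hh =>
      obtain ⟨z, hz, hzg⟩ := ih h hh
      let w : HomogeneousLocalization.Away 𝒜 P :=
        HomogeneousLocalization.Away.mk 𝒜 hP 1 f (by rwa [one_smul])
      have hw : w.val = Localization.mk f ⟨P, Submonoid.mem_powers _⟩ := by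
        rw [HomogeneousLocalization.Away.val_mk]
        congr 1
        exact Subtype.ext (pow_one P)
      refine ⟨w * z, mul_mem (Algebra.subset_adjoin ⟨f, hf, hw⟩) hz, ?_⟩
      rw [HomogeneousLocalization.val_mul, pow_succ', map_mul, map_mul, ← hzg, mul_mul_mul_comm, hw]
      congr 1
      exact loc_spec f (⟨P, Submonoid.mem_powers _⟩ : Submonoid.powers P)
    | add a _ b _ ha hb =>
      obtain ⟨z, hz, hza⟩ := ha
      obtain ⟨w, hw, hwb⟩ := hb
      exact ⟨z + w, add_mem hz hw, by rw [HomogeneousLocalization.val_add, add_mul, hza, hwb, map_add]⟩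

/-- Let A be a commutative algebra graded by the natural numbers, let σ_1, …, σ_n be homogeneous
elements of degree 1 and let s ≥ 1 be an integer such that, for every i, the degree-zero homogeneous
localisation of A away from σ_i is generated over A_0 by the fractions f / σ_i ^ s with f
homogeneous of degree s. Then for every exponent vector K = (k_1, …, k_n) with k_1 + ⋯ + k_n = s,
the degree-zero homogeneous localisation of A away from the monomial σ^K = ∏ σ_i ^ (k_i) is
generated over A_0 by the fractions f / σ^K with f homogeneous of degree s. (Equivalently: the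
natural map from the degree-zero localisation of the symmetric algebra on A_s, taken away from σ^K
viewed as an element of degree one, to the degree-zero localisation of A away from σ^K is
surjective. The published lemma concerns the algebra of invariant sections of the powers of a
linearised line bundle on an irreducible projective scheme over a field, with the σ_i a basis of a
weight space of sections, and concludes a closed immersion of a quotient into an open piece of a
projective space; this row keeps only the graded-algebra step, for any commutative graded algebra,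
with the base field replaced by A_0, which generates nothing new since a / 1 = a σ^s / σ^s for a of
degree zero.) -/
theorem result
    {R : Type u} {A : Type v} [CommRing R] [CommRing A] [Algebra R A]
    (𝒜 : ℕ → Submodule R A) [GradedAlgebra 𝒜]
    {n : ℕ} (σ : Fin n → A) (hσ : ∀ i, σ i ∈ 𝒜 1) {s : ℕ} (hs : 0 < s)
    (hgen : ∀ i, Algebra.adjoin (𝒜 0)
      {z : HomogeneousLocalization.Away 𝒜 (σ i) |
        ∃ f ∈ 𝒜 s, z.val = Localization.mk f ⟨σ i ^ s, Submonoid.pow_mem _ (Submonoid.mem_powers (σ i)) s⟩} = ⊤)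
    (K : Fin n → ℕ) (hK : ∑ i, K i = s) :
    Algebra.adjoin (𝒜 0)
      {z : HomogeneousLocalization.Away 𝒜 (∏ i, σ i ^ K i) |
        ∃ f ∈ 𝒜 s, z.val = Localization.mk f ⟨∏ i, σ i ^ K i, Submonoid.mem_powers _⟩} = ⊤ := by
  classical
  obtain ⟨i, hi⟩ : ∃ i, 0 < K i := by
    by_contra h
    push Not at h
    rw [Finset.sum_eq_zero fun j _ => Nat.le_zero.mp (h j)] at hK
    omega
  set P := ∏ j, σ j ^ K j with hPdef
  have hσs : ∀ j, σ j ^ s ∈ 𝒜 s := fun j => by
    simpa using SetLike.pow_mem_graded s (hσ j)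
  have hP : P ∈ 𝒜 s := by
    have h := SetLike.prod_pow_mem_graded (fun _ : Fin n => 1) σ K (F := Finset.univ) (A := 𝒜) fun j _ => hσ j
    simpa [hK] using h
  rw [eq_top_iff]
  intro z _
  obtain ⟨m, a, ha, rfl⟩ := HomogeneousLocalization.Away.mk_surjective 𝒜 hP z
  -- the numerator becomes a sum of products after multiplying by a power of `σ i ^ s`
  let zi : HomogeneousLocalization.Away 𝒜 (σ i) :=
    HomogeneousLocalization.Away.mk 𝒜 (hσ i) (m * s) a (by simpa using ha)
  obtain ⟨N, g, hg, hzi⟩ := numerator_mem 𝒜 (σ i) (hσs i) zi (hgen i ▸ Algebra.mem_top)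
  rw [HomogeneousLocalization.Away.val_mk] at hzi
  have h1 : algebraMap A (Localization (Submonoid.powers (σ i))) (a * (σ i ^ s) ^ N) =
      algebraMap A _ (g * σ i ^ (m * s)) := by
    rw [map_mul, map_mul, ← hzi, mul_right_comm, loc_spec a
      (⟨σ i ^ (m * s), m * s, rfl⟩ : Submonoid.powers (σ i))]
  obtain ⟨⟨_, e, rfl⟩, he⟩ := (IsLocalization.eq_iff_exists (Submonoid.powers (σ i)) _).mp h1
  simp only at he
  -- multiply up to a power of `σ i ^ s`
  let k := N + e
  have hak : a * (σ i ^ s) ^ k ∈ (𝒜 s) ^ (m + k) * 𝒜 0 := by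
    have heq : a * (σ i ^ s) ^ k = (σ i ^ s) ^ (m + e) * g := by
      have hse : (σ i ^ s) ^ e = σ i ^ e * σ i ^ ((s - 1) * e) := by
        rw [← pow_mul, ← pow_add]; congr 1
        obtain ⟨s', rfl⟩ : ∃ s', s = s' + 1 := ⟨s - 1, by omega⟩
        simp; ring
      calc a * (σ i ^ s) ^ k = σ i ^ e * (a * (σ i ^ s) ^ N) * σ i ^ ((s - 1) * e) := by
            rw [pow_add, hse]; ring
        _ = σ i ^ e * (g * σ i ^ (m * s)) * σ i ^ ((s - 1) * e) := by rw [he]
        _ = (σ i ^ s) ^ (m + e) * g := by rw [pow_add, hse, mul_comm m s, pow_mul]; ring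
    rw [heq, show m + k = (m + e) + N by omega, pow_add, mul_assoc]
    exact Submodule.mul_mem_mul (Submodule.pow_mem_pow _ (hσs i) _) hg
  -- the rest of `P ^ (s * k)` is a product of `σ j ^ s`
  let K' : Fin n → ℕ := fun j => (if j = i then K j - 1 else K j) * k
  have hsplit : P ^ (s * k) = (σ i ^ s) ^ k * ∏ j, (σ j ^ s) ^ K' j := by
    rw [hPdef, ← Finset.prod_pow, ← Finset.mul_prod_erase Finset.univ _ (Finset.mem_univ i),
      ← Finset.mul_prod_erase Finset.univ (fun j => (σ j ^ s) ^ K' j) (Finset.mem_univ i), ← mul_assoc]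
    congr 1
    · simp only [K', ← pow_mul, ← pow_add]
      congr 1
      obtain ⟨c, hc⟩ : ∃ c, K i = c + 1 := ⟨K i - 1, by omega⟩
      rw [hc]; simp; ring
    · refine Finset.prod_congr rfl fun j hj => ?_
      simp only [K', if_neg (Finset.ne_of_mem_erase hj), ← pow_mul]
      congr 1; ring
  have hsum : ∑ j, K' j = (s - 1) * k := by
    have h2 : ∀ j, (if j = i then K j - 1 else K j) + (if j = i then 1 else 0) = K j := fun j => by
      split_ifs with h
      · subst h; omega
      · rfl
    have h3 : ∑ j, (if j = i then K j - 1 else K j) + 1 = s := by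
      conv_rhs => rw [← hK, ← Finset.sum_congr rfl fun j _ => h2 j, Finset.sum_add_distrib]
      simp
    rw [← Finset.sum_mul]
    congr 1; omega
  have hrest : ∏ j, (σ j ^ s) ^ K' j ∈ (𝒜 s) ^ ((s - 1) * k) := by
    rw [← hsum, ← Finset.prod_pow_eq_pow_sum]
    exact Ideal_prod_mem _ fun j => Submodule.pow_mem_pow _ (hσs j) _
  have hfin : a * P ^ (s * k) ∈ (𝒜 s) ^ (m + s * k) * 𝒜 0 := by
    rw [hsplit, ← mul_assoc, show m + s * k = (m + k) + (s - 1) * k by
      obtain ⟨s', rfl⟩ : ∃ s', s = s' + 1 := ⟨s - 1, by omega⟩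
      simp; ring]
    have := Submodule.mul_mem_mul hak hrest
    rwa [mul_right_comm, ← pow_add] at this
  obtain ⟨w, hw, hwv⟩ := fraction_mem 𝒜 P hP _ _ hfin
  convert hw using 1
  apply HomogeneousLocalization.val_injective
  rw [HomogeneousLocalization.Away.val_mk]
  have hu : IsUnit (algebraMap A (Localization (Submonoid.powers P)) (P ^ (m + s * k))) :=
    IsLocalization.map_units _ (⟨_, m + s * k, rfl⟩ : Submonoid.powers P)
  apply hu.mul_right_cancel
  rw [hwv, pow_add, map_mul, ← mul_assoc, loc_spec a (⟨P ^ m, m, rfl⟩ : Submonoid.powers P), map_mul]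

end Groth.Agent.S17466
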