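import Groth.Statements.S17467
import Groth.Agent.Misc12.DescendFunction
import Groth.Agent.Variety2.Normal

set_option autoImplicit false
set_option linter.style.haveILetI false
universe u
open CategoryTheory AlgebraicGeometry
open Variety
open scoped TensorProduct

namespace Groth.Agent.S17467

/-- Let k be an algebraically closed field of characteristic zero, X and Y integral separated schemes of
finite type over k with Y normal, and f : X → Y a k-morphism surjective on points. A global function
s on X which takes equal values at any two k-rational points of X having the same image under f is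
the pull-back of a global function on Y. (The published statement is phrased for set-theoretic
sections of a vector bundle on Y whose pull-back along f is a regular section; that form reduces to
the present one locally on Y, and the present one is the case of the trivial line bundle.) -/
theorem result
    (k : Type u) [Field k] [IsAlgClosed k] [CharZero k]
    (X Y : Over (Spec (CommRingCat.of k)))
    [AlgebraicGeometry.IsIntegral X.left] [AlgebraicGeometry.IsIntegral Y.left]
    [LocallyOfFiniteType X.hom] [QuasiCompact X.hom] [IsSeparated X.hom]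
    [LocallyOfFiniteType Y.hom] [QuasiCompact Y.hom] [IsSeparated Y.hom]
    (hY : Pi1.IsNormalScheme Y.left)
    (f : X ⟶ Y) (hf : Function.Surjective f.left.base)
    (s : Γ(X.left, ⊤))
    (hs : ∀ x₁ x₂ : Spec (CommRingCat.of k) ⟶ X.left,
      x₁ ≫ X.hom = 𝟙 _ → x₂ ≫ X.hom = 𝟙 _ → x₁ ≫ f.left = x₂ ≫ f.left →
        x₁.appTop.hom s = x₂.appTop.hom s) :
    ∃ r : Γ(Y.left, ⊤), f.left.appTop.hom r = s := by
  classical
  haveI : IsLocallyNoetherian Y.left := LocallyOfFiniteType.isLocallyNoetherian Y.hom
  have hgen : f.left (genericPoint X.left) = genericPoint Y.left := by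
    refine (genericPoint_spec Y.left).eq ?_ |>.symm
    have := (genericPoint_spec X.left).image f.left.continuous
    rwa [Set.image_univ, Set.range_eq_univ.2 hf, closure_univ] at this
  -- the map of function fields
  let Ψ : Y.left.functionField ⟶ X.left.functionField :=
    Y.left.presheaf.stalkSpecializes (specializes_of_eq hgen) ≫ f.left.stalkMap (genericPoint X.left)
  have hΨ : ∀ (V : Y.left.Opens) (W : X.left.Opens) (_ : Nonempty V) (_ : Nonempty W) (e : W ≤ f.left ⁻¹ᵁ V)
      (a : Γ(Y.left, V)), Ψ (Y.left.germToFunctionField V a) = X.left.germToFunctionField W (f.left.appLE V W e a) := by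
    intro V W hV hW e a
    simp only [Ψ, Scheme.germToFunctionField, CommRingCat.comp_apply]
    rw [TopCat.Presheaf.germ_stalkSpecializes_apply, Scheme.Hom.germ_stalkMap_apply, Scheme.Hom.appLE,
      CommRingCat.comp_apply, TopCat.Presheaf.germ_res_apply]
  obtain ⟨V, hV, hVg, -⟩ := exists_isAffineOpen_mem_and_subset (U := (⊤ : Y.left.Opens)) (x := genericPoint Y.left) trivial
  obtain ⟨W, hW, hWg, hWV⟩ := exists_isAffineOpen_mem_and_subset (U := f.left ⁻¹ᵁ V) (x := genericPoint X.left)
    (show f.left (genericPoint X.left) ∈ V by rw [hgen]; exact hVg)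
  haveI : Nonempty V := ⟨⟨_, hVg⟩⟩
  haveI : Nonempty W := ⟨⟨_, hWg⟩⟩
  let res : Γ(X.left, ⊤) ⟶ Γ(X.left, W) := X.left.presheaf.map (homOfLE le_top).op
  -- algebras
  letI : Algebra Γ(Y.left, V) Γ(X.left, W) := (f.left.appLE V W hWV).hom.toAlgebra
  let σ : Γ(X.left, W) := res s
  let kY : CommRingCat.of k ⟶ Γ(Y.left, V) := (Scheme.ΓSpecIso (CommRingCat.of k)).inv ≫ Y.hom.appLE ⊤ V le_top
  letI : Algebra k Γ(Y.left, V) := kY.hom.toAlgebra
  letI : Algebra k Γ(X.left, W) := (kY ≫ f.left.appLE V W hWV).hom.toAlgebra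
  haveI : IsScalarTower k Γ(Y.left, V) Γ(X.left, W) := IsScalarTower.of_algebraMap_eq fun r => rfl
  have hkX : kY ≫ f.left.appLE V W hWV = (Scheme.ΓSpecIso (CommRingCat.of k)).inv ≫ X.hom.appLE ⊤ W le_top := by
    simp only [kY, Category.assoc, Scheme.Hom.appLE_comp_appLE, Over.w]
  haveI : Algebra.FiniteType k Γ(X.left, W) := by
    show RingHom.FiniteType (kY ≫ f.left.appLE V W hWV).hom
    rw [hkX, CommRingCat.hom_comp]
    exact (LocallyOfFiniteType.finiteType_appLE X.hom (isAffineOpen_top _) hW le_top).comp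
      (RingHom.FiniteType.of_surjective _ (Scheme.ΓSpecIso (CommRingCat.of k)).commRingCatIsoToRingEquiv.symm.surjective)
  let E := Γ(X.left, W) ⊗[Γ(Y.left, V)] Γ(X.left, W)
  haveI : Algebra.FiniteType Γ(X.left, W) E := by
    haveI : Algebra.FiniteType Γ(Y.left, V) Γ(X.left, W) := Algebra.FiniteType.of_restrictScalars_finiteType k _ _
    infer_instance
  haveI : Algebra.FiniteType k E := Algebra.FiniteType.trans (S := Γ(X.left, W)) inferInstance inferInstance
  haveI : IsJacobsonRing E := isJacobsonRing_of_finiteType (A := k)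
  have hnil : IsNilpotent (σ ⊗ₜ[Γ(Y.left, V)] (1 : Γ(X.left, W)) - (1 : Γ(X.left, W)) ⊗ₜ σ) := by
    rw [← mem_nilradical, show nilradical E = (⊥ : Ideal E).radical from rfl, ← IsJacobsonRing.out inferInstance (Ideal.radical_isRadical (⊥ : Ideal E)), Ideal.jacobson, Submodule.mem_sInf]
    rintro (m : Ideal E) ⟨-, hm⟩
    haveI : Ideal.IsMaximal m := hm
    letI := Ideal.Quotient.field m
    haveI := finite_of_finite_type_of_isJacobsonRing k (E ⧸ m)
    haveI : Algebra.IsIntegral k (E ⧸ m) := inferInstance
    let e : (E ⧸ m) ≃ₐ[k] k := (AlgEquiv.ofBijective (Algebra.ofId k _)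
      IsAlgClosed.algebraMap_bijective_of_isIntegral).symm
    let χ : E →ₐ[k] k := e.toAlgHom.comp (Ideal.Quotient.mkₐ k m)
    let u₁ : Γ(X.left, W) →ₐ[k] k := χ.comp ((Algebra.TensorProduct.includeLeft : _ →ₐ[k] E))
    let u₂ : Γ(X.left, W) →ₐ[k] k := χ.comp ((Algebra.TensorProduct.includeRight : _ →ₐ[Γ(Y.left, V)] E).restrictScalars k)
    let pt : (Γ(X.left, W) →ₐ[k] k) → (Spec (CommRingCat.of k) ⟶ X.left) := fun u =>
      Spec.map (CommRingCat.ofHom u.toRingHom) ≫ hW.fromSpec
    have hptX : ∀ u, pt u ≫ X.hom = 𝟙 _ := fun u => by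
      have : hW.fromSpec ≫ X.hom = Spec.map (kY ≫ f.left.appLE V W hWV) := by
        rw [hkX, Spec.map_comp, ← (isAffineOpen_top _).SpecMap_appLE_fromSpec X.hom hW le_top,
          IsAffineOpen.fromSpec_top, Scheme.isoSpec_Spec_inv, ← Spec.map_comp]
      show Spec.map _ ≫ hW.fromSpec ≫ X.hom = _
      rw [this, ← Spec.map_comp, ← Spec.map_id]
      congr 1
      exact CommRingCat.hom_ext u.comp_algebraMap
    have hptY : pt u₁ ≫ f.left = pt u₂ ≫ f.left := by
      show (Spec.map _ ≫ hW.fromSpec) ≫ f.left = (Spec.map _ ≫ hW.fromSpec) ≫ f.left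
      rw [Category.assoc, Category.assoc, ← hV.SpecMap_appLE_fromSpec f.left hW hWV, ← Spec.map_comp_assoc,
        ← Spec.map_comp_assoc]
      congr 2
      ext a
      exact congrArg χ ((Algebra.TensorProduct.includeLeft : _ →ₐ[Γ(Y.left, V)] E).commutes a |>.trans
        ((Algebra.TensorProduct.includeRight : _ →ₐ[Γ(Y.left, V)] E).commutes a).symm)
    have hval : ∀ u, (pt u).appTop s = (Scheme.ΓSpecIso (CommRingCat.of k)).inv (u σ) := fun u => by
      have h1 : hW.fromSpec.appTop = res ≫ (Scheme.ΓSpecIso Γ(X.left, W)).inv := by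
        rw [Scheme.Hom.appTop, hW.fromSpec_app_of_le ⊤ le_top]; simp [res]
      have h2 : (pt u).appTop = res ≫ CommRingCat.ofHom u.toRingHom ≫ (Scheme.ΓSpecIso (CommRingCat.of k)).inv := by
        rw [Scheme.ΓSpecIso_inv_naturality, Scheme.Hom.comp_appTop, h1, Category.assoc]
      exact congr($h2 s)
    have h := hs (pt u₁) (pt u₂) (hptX _) (hptX _) hptY
    rw [hval, hval] at h
    have h' : u₁ σ = u₂ σ := (Scheme.ΓSpecIso (CommRingCat.of k)).commRingCatIsoToRingEquiv.symm.injective h
    rw [← Ideal.Quotient.eq_zero_iff_mem]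
    apply e.injective
    show χ _ = e 0
    rw [map_zero, map_sub, sub_eq_zero]
    exact h'
  -- into the function fields
  letI : Algebra Y.left.functionField X.left.functionField := Ψ.hom.toAlgebra
  haveI hKB := functionField_isFractionRing_of_isAffineOpen Y.left V hV
  haveI hLB := functionField_isFractionRing_of_isAffineOpen X.left W hW
  haveI : CharZero Y.left.functionField :=
    charZero_of_injective_ringHom ((Y.left.germToFunctionField V).hom.comp kY.hom).injective
  let ι : Γ(X.left, W) →+* X.left.functionField := (X.left.germToFunctionField W).hom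
  have hι : ∀ a, ι (algebraMap _ _ a) = algebraMap Y.left.functionField X.left.functionField (Y.left.germToFunctionField V a) :=
    fun a => (hΨ V W inferInstance inferInstance hWV a).symm
  let E' := X.left.functionField ⊗[Y.left.functionField] X.left.functionField
  letI : Algebra Γ(Y.left, V) E' := ((algebraMap Y.left.functionField E').comp (Y.left.germToFunctionField V).hom).toAlgebra
  let w₁ : Γ(X.left, W) →ₐ[Γ(Y.left, V)] E' :=
    { (Algebra.TensorProduct.includeLeftRingHom : X.left.functionField →+* E').comp ι with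
      commutes' := fun a => congrArg (Algebra.TensorProduct.includeLeftRingHom : X.left.functionField →+* E') (hι a) }
  let w₂ : Γ(X.left, W) →ₐ[Γ(Y.left, V)] E' :=
    { (Algebra.TensorProduct.includeRight (R := Y.left.functionField) (A := X.left.functionField) :
        X.left.functionField →ₐ[Y.left.functionField] E').toRingHom.comp ι with
      commutes' := fun a => by
        show Algebra.TensorProduct.includeRight (R := Y.left.functionField) (A := X.left.functionField) (ι _) = _
        rw [hι, AlgHom.commutes]; rfl }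
  have hK := hnil.map (Algebra.TensorProduct.lift w₁ w₂ fun _ _ => Commute.all _ _)
  rw [map_sub, Algebra.TensorProduct.lift_tmul, Algebra.TensorProduct.lift_tmul, map_one, map_one, one_mul, mul_one] at hK
  obtain ⟨ρ, hρ⟩ := Groth.Misc12.DescendFunction.mem_range_of_isNilpotent (ι σ) hK
  -- `ρ` is regular
  haveI : Nonempty (⊤ : Y.left.Opens) := ⟨⟨genericPoint Y.left, trivial⟩⟩
  haveI : Nonempty (⊤ : X.left.Opens) := ⟨⟨genericPoint X.left, trivial⟩⟩
  have hσ : ι σ = X.left.germToFunctionField ⊤ s := TopCat.Presheaf.germ_res_apply _ _ _ _ _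
  obtain ⟨t, ht⟩ := Groth.Variety2.exists_section_of_forall_stalk ⊤ ρ (fun y _ => by
    obtain ⟨V', hV', hyV', -⟩ := exists_isAffineOpen_mem_and_subset (U := (⊤ : Y.left.Opens)) (x := y) trivial
    haveI : Nonempty V' := ⟨⟨y, hyV'⟩⟩
    haveI := functionField_isFractionRing_of_isAffineOpen Y.left V' hV'
    haveI : IsNoetherianRing Γ(Y.left, V') := IsLocallyNoetherian.component_noetherian ⟨V', hV'⟩
    haveI : IsIntegrallyClosed Γ(Y.left, V') := Groth.Variety2.isIntegrallyClosed_Γ (fun z => (hY z).2) V'
    obtain ⟨⟨a, b⟩, hab⟩ := IsLocalization.surj (nonZeroDivisors Γ(Y.left, V')) ρ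
    have hb0 : (b : Γ(Y.left, V')) ≠ 0 := nonZeroDivisors.ne_zero b.2
    obtain ⟨c, hc⟩ : (b : Γ(Y.left, V')) ∣ a := by
      refine Groth.RefRank.dvd_of_height_one hb0 fun p hp hp1 => ?_
      haveI := hp
      let y' := hV'.fromSpec ⟨p, hp⟩
      have hy' : y' ∈ V' := hV'.range_fromSpec.subset ⟨_, rfl⟩
      letI := Y.left.presheaf.algebra_section_stalk ⟨y', hy'⟩
      haveI : IsLocalization.AtPrime (Y.left.presheaf.stalk y') p := hV'.isLocalization_stalk' ⟨p, hp⟩ hy'
      haveI := (hY y').2
      obtain ⟨x, hx⟩ := hf y'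
      have hd : ringKrullDim (Y.left.presheaf.stalk y') = 1 := by
        rw [IsLocalization.AtPrime.ringKrullDim_eq_height p (Y.left.presheaf.stalk y'), hp1]; rfl
      let A' := algebraMap Γ(Y.left, V') (Y.left.presheaf.stalk y')
      suffices A' b ∣ A' a by
        obtain ⟨q, hq⟩ := this
        obtain ⟨⟨q₀, ⟨d, hd'⟩⟩, hqd⟩ := IsLocalization.surj p.primeCompl q
        have : A' (d * a) = A' (b * q₀) := by
          rw [map_mul, map_mul, hq, ← hqd]
          ring
        obtain ⟨⟨e, he⟩, he'⟩ := (IsLocalization.eq_iff_exists p.primeCompl _).1 this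
        exact ⟨e * d, mul_mem he hd', e * q₀, by linear_combination he'⟩
      rcases Groth.Misc12.DescendFunction.dvd_or_dvd hd (A' b) (A' a) with h | ⟨q, hq⟩
      · exact h
      -- `q` inverts `ρ`, hence is a unit
      by_cases ha0 : A' a = 0
      · rw [ha0]; exact dvd_zero _
      let ψ := f.left.stalkMap x
      let SP : (Y.left.presheaf.stalk y') ⟶ Y.left.presheaf.stalk (f.left x) :=
        Y.left.presheaf.stalkSpecializes (specializes_of_eq hx)
      have hcompat : ∀ z, algebraMap (X.left.presheaf.stalk x) X.left.functionField (ψ (SP z)) =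
          Ψ (algebraMap (Y.left.presheaf.stalk y') Y.left.functionField z) := by
        intro z
        obtain ⟨O, hO, z, rfl⟩ := Y.left.presheaf.exists_germ_eq z
        haveI : Nonempty O := ⟨⟨y', hO⟩⟩
        have hxO : x ∈ f.left ⁻¹ᵁ O := show f.left x ∈ O by rw [hx]; exact hO
        haveI : Nonempty (f.left ⁻¹ᵁ O) := ⟨⟨x, hxO⟩⟩
        rw [Scheme.algebraMap_germ_eq_germToFunctionField, hΨ O (f.left ⁻¹ᵁ O) inferInstance inferInstance le_rfl,
          TopCat.Presheaf.germ_stalkSpecializes_apply, Scheme.Hom.germ_stalkMap_apply,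
          Scheme.algebraMap_germ_eq_germToFunctionField]
        simp [Scheme.Hom.appLE]
      have hg : ∀ c, algebraMap (Y.left.presheaf.stalk y') Y.left.functionField (A' c) =
          algebraMap Γ(Y.left, V') Y.left.functionField c := fun c =>
        Scheme.algebraMap_germ_eq_germToFunctionField Y.left hy' c
      have h1 : ρ * algebraMap (Y.left.presheaf.stalk y') _ q = 1 := by
        have h0 : algebraMap (Y.left.presheaf.stalk y') Y.left.functionField (A' a) ≠ 0 :=
          (map_ne_zero_iff _ (IsFractionRing.injective _ _)).2 ha0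
        apply mul_left_cancel₀ h0
        rw [mul_one, mul_left_comm, ← map_mul, ← hq, hg, hg, hab]
      have h2 : IsUnit q := by
        have hu : IsUnit (ψ (SP q)) := by
          refine IsUnit.of_mul_eq_one_right (X.left.presheaf.germ ⊤ x trivial s) (IsFractionRing.injective (X.left.presheaf.stalk x) X.left.functionField ?_)
          rw [map_mul, map_one, hcompat, Scheme.algebraMap_germ_eq_germToFunctionField, ← hσ, ← hρ]
          exact (map_mul Ψ.hom ρ _).symm.trans (by rw [h1, map_one])
        have hu' := isUnit_of_map_unit ψ.hom _ hu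
        haveI : IsIso SP := by
          refine ⟨⟨Y.left.presheaf.stalkSpecializes (specializes_of_eq hx.symm), ?_, ?_⟩⟩ <;> simp [SP]
        exact (isUnit_map_iff (asIso SP).commRingCatIsoToRingEquiv q).1 hu'
      exact ⟨↑h2.unit⁻¹, by rw [hq, mul_assoc, IsUnit.mul_val_inv, mul_one]⟩
    refine ⟨Y.left.presheaf.germ V' y hyV' c, ?_⟩
    rw [Scheme.algebraMap_germ_eq_germToFunctionField]
    have hb : algebraMap Γ(Y.left, V') Y.left.functionField b ≠ 0 :=
      (map_ne_zero_iff _ (IsFractionRing.injective _ _)).2 hb0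
    apply mul_left_cancel₀ hb
    show algebraMap Γ(Y.left, V') Y.left.functionField b * algebraMap Γ(Y.left, V') Y.left.functionField c = _
    rw [← map_mul, ← hc, ← hab, mul_comm])
  refine ⟨t, X.left.germToFunctionField_injective ⊤ ?_⟩
  have h := hΨ ⊤ ⊤ inferInstance inferInstance le_rfl t
  rw [ht] at h
  have e : f.left.appTop = f.left.appLE ⊤ ⊤ le_rfl := Scheme.Hom.app_eq_appLE _
  rw [e]
  exact h.symm.trans (hρ.trans hσ)

end Groth.Agent.S17467
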