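import Groth.Statements.S17469
import Mathlib
import Groth.Agent.Variety2.Normal

set_option autoImplicit false
universe u
open CategoryTheory AlgebraicGeometry
open Variety

namespace Groth.Agent.S17469

/-- Let X be a locally Noetherian integral scheme all of whose local rings are integrally closed domains
and U an open subset of X. A section of O_X over U that is integral over the ring of global sections
of X, the latter acting through restriction, is itself the restriction of a global section. (The
published lemma is stated for an irreducible normal variety and for the graded ring of sections over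
U of all non-negative powers of a line bundle, integral over the corresponding ring of sections over
X; for the trivial line bundle its homogeneous components are the present statement, which is made
here for any locally Noetherian normal integral scheme.) -/
theorem result
    (X : Scheme.{u}) [AlgebraicGeometry.IsIntegral X] [IsLocallyNoetherian X]
    (hX : Pi1.IsNormalScheme X) (U : X.Opens) (b : Γ(X, U))
    (hb : (X.presheaf.map (homOfLE le_top : U ⟶ ⊤).op).hom.IsIntegralElem b) :
    b ∈ Set.range (X.presheaf.map (homOfLE le_top : U ⟶ ⊤).op).hom := by
  rcases (U : Set X).eq_empty_or_nonempty with h | ⟨x₀, hx₀⟩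
  · have : Subsingleton Γ(X, U) :=
      CommRingCat.subsingleton_of_isTerminal (X.sheaf.isTerminalOfEqEmpty (SetLike.ext' h))
    exact ⟨0, this.elim _ _⟩
  have : Nonempty U := ⟨⟨x₀, hx₀⟩⟩
  have : Nonempty (⊤ : X.Opens) := ⟨⟨x₀, trivial⟩⟩
  have hz : IsIntegral Γ(X, ⊤) (X.germToFunctionField U b) := by
    obtain ⟨q, hq, hq0⟩ := hb
    refine ⟨q, hq, ?_⟩
    have := congrArg (X.germToFunctionField U).hom hq0
    rw [Polynomial.hom_eval₂, map_zero] at this
    have e : algebraMap Γ(X, ⊤) X.functionField =
        (X.germToFunctionField U).hom.comp (X.presheaf.map (homOfLE le_top : U ⟶ ⊤).op).hom :=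
      RingHom.ext fun a => (X.presheaf.germ_res_apply _ _ _ _).symm
    rw [e]
    exact this
  obtain ⟨s, hs⟩ := Groth.Variety2.exists_section_of_forall_stalk ⊤ (X.germToFunctionField U b)
    fun x hx => by
      let := (X.presheaf.germ ⊤ x hx).hom.toAlgebra
      have : IsScalarTower Γ(X, ⊤) (X.presheaf.stalk x) X.functionField :=
        functionField_isScalarTower X ⊤ ⟨x, hx⟩
      have := (hX x).2
      exact IsIntegrallyClosed.isIntegral_iff.1 (hz.tower_top (A := X.presheaf.stalk x))
  refine ⟨s, X.germToFunctionField_injective U ?_⟩
  exact (X.presheaf.germ_res_apply _ _ _ _).trans hs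

end Groth.Agent.S17469
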