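import Groth.Statements.S17471
import Mathlib

set_option autoImplicit false
universe u v w x
open RootCh

namespace Groth.Agent.S17471

/-- Let Φ be a finite, reduced, crystallographic, irreducible root system with a base, and θ a positive
root such that θ + β is a root for no positive root β (so θ is the highest root). Then Σ_{β>0} ⟨β,
θ^∨⟩² = 2 + Σ_{β>0} ⟨β, θ^∨⟩ = 2(1 + ⟨ρ, θ^∨⟩), ρ being half the sum of the positive roots; in the
source the left side is the index of the adjoint representation obtained from its formal character,
and 1 + ⟨ρ, θ^∨⟩ is the dual Coxeter number. -/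
theorem result
    {ι : Type u} {R : Type v} {M : Type w} {N : Type x}
    [Field R] [LinearOrder R] [IsStrictOrderedRing R]
    [AddCommGroup M] [Module R M] [AddCommGroup N] [Module R N] [Fintype ι]
    (P : RootPairing ι R M N) [P.IsRootSystem] [P.IsCrystallographic] [P.IsReduced]
    [P.IsIrreducible] (b : P.Base) (θ : ι) (hθ : b.IsPos θ)
    (hmax : ∀ i : ι, b.IsPos i → P.root θ + P.root i ∉ Set.range P.root) :
    ∑ i ∈ Finset.univ.filter (fun i => 0 < b.height i), P.pairing i θ ^ 2 =
      2 + ∑ i ∈ Finset.univ.filter (fun i => 0 < b.height i), P.pairing i θ := by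
  classical
  have hmax' : ∀ i j : ι, b.IsPos i → P.root j ≠ P.root θ + P.root i := fun i j hi h =>
    hmax i hi ⟨j, h⟩
  have hnn : ∀ i, b.IsPos i → 0 ≤ P.pairingIn ℤ i θ := by
    intro i hi
    by_contra! h
    have hne : P.root i ≠ -P.root θ := fun e => by
      let := P.indexNeg
      have hθi : i = -θ := P.root.injective (by rw [P.indexNeg_neg, P.root_reflectionPerm, P.reflection_apply_self]; exact e)
      rw [hθi, RootPairing.Base.IsPos.neg_iff_not] at hi
      exact hi hθ
    have := P.root_add_root_mem_of_pairingIn_neg h hne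
    rw [add_comm] at this
    exact hmax i hi this
  have hle : ∀ i, b.IsPos i → i ≠ θ → P.pairingIn ℤ i θ ≤ 1 := by
    intro i hi hne
    by_contra! h
    obtain ⟨d, hd⟩ := P.root_sub_root_mem_of_pairingIn_pos (by omega : 0 < P.pairingIn ℤ i θ) hne
    let := P.indexNeg
    rcases RootPairing.Base.IsPos.or_neg b d with hd' | hd'
    · exact hmax' d i hd' (by rw [hd]; abel)
    · have hg : P.root (-d) = P.root θ - P.root i := by
        rw [P.indexNeg_neg, P.root_reflectionPerm, P.reflection_apply_self, hd]; abel
      have hpair : P.pairing i θ = (P.pairingIn ℤ i θ : R) := by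
        rw [← P.algebraMap_pairingIn ℤ]; rfl
      have hgp : P.pairingIn ℤ (-d) θ = 2 - P.pairingIn ℤ i θ := by
        apply (Int.cast_injective (α := R))
        have h1 : P.pairing (-d) θ = P.pairing θ θ - P.pairing i θ := by
          rw [← P.root_coroot_eq_pairing, hg, map_sub, LinearMap.sub_apply,
            P.root_coroot_eq_pairing, P.root_coroot_eq_pairing]
        rw [← P.algebraMap_pairingIn ℤ, hpair, P.pairing_same] at h1
        push_cast
        exact h1
      rcases (show P.pairingIn ℤ i θ = 2 ∨ 2 < P.pairingIn ℤ i θ by omega) with h2 | h2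
      · refine hmax' (-d) (-(P.reflectionPerm θ i)) hd' ?_
        rw [P.indexNeg_neg (P.reflectionPerm θ i), P.root_reflectionPerm, P.reflection_apply_self, P.root_reflectionPerm, P.reflection_apply_root,
          hg, hpair, h2]
        push_cast
        module
      · have := hnn (-d) hd'
        omega
  have hterm : ∀ i ∈ (Finset.univ.filter (fun i => 0 < b.height i)),
      P.pairing i θ ^ 2 = (if i = θ then 2 else 0) + P.pairing i θ := by
    intro i hi
    have hi' : b.IsPos i := (Finset.mem_filter.1 hi).2
    by_cases he : i = θ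
    · rw [if_pos he, he, P.pairing_same]; norm_num
    · rw [if_neg he, zero_add, ← P.algebraMap_pairingIn ℤ]
      rcases (show P.pairingIn ℤ i θ = 0 ∨ P.pairingIn ℤ i θ = 1 by
        have := hnn i hi'; have := hle i hi' he; omega) with h | h <;> rw [h] <;> simp
  rw [Finset.sum_congr rfl hterm, Finset.sum_add_distrib, Finset.sum_ite_eq',
    if_pos ((Finset.mem_filter (p := fun i => 0 < b.height i)).2 ⟨Finset.mem_univ θ, hθ⟩)]

end Groth.Agent.S17471
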