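import Groth.Statements.S17472
import Groth.Agent.PropsBasic.HomogKrull
import Groth.Agent.Sga3.HopfFiniteGroup

set_option autoImplicit false
set_option linter.style.haveILetI false
universe u
open HopfAlg

namespace Groth.Agent.S17472

/-- Let k be an algebraically closed field and A a commutative Hopf algebra over k, finitely generated
as a k-algebra, whose only idempotents are 0 and 1 (so that Spec A is a connected affine algebraic
group over k, possibly non-reduced). Let m be the kernel of the counit, the ideal of the neutral
element. Then the intersection of the powers m^n, n ≥ 0, is the zero ideal; equivalently the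
infinitesimal neighbourhoods Spec (A/m^n) of the neutral element are jointly schematically dense.
(The published statement assumes the group smooth, that is, a connected linear algebraic group; the
statement here allows any connected affine algebraic group, possibly non-reduced, a case the
published argument also treats.) -/
theorem result (k : Type u) [Field k] [IsAlgClosed k]
    (A : Type u) [CommRing A] [HopfAlgebra k A] [Algebra.FiniteType k A]
    (hconn : ∀ e : A, IsIdempotentElem e → e = 0 ∨ e = 1) :
    (⨅ n : ℕ, RingHom.ker (Bialgebra.counitAlgHom k A) ^ n) = ⊥ := by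
  classical
  haveI : IsNoetherianRing A := Algebra.FiniteType.isNoetherianRing k A
  haveI : IsJacobsonRing A := isJacobsonRing_of_finiteType (A := k)
  haveI : Nontrivial A := (Bialgebra.counitAlgHom k A).toRingHom.domain_nontrivial
  have hpoint : ∀ M : Ideal A, M.IsMaximal → ∃ g : A →ₐ[k] k, RingHom.ker g = M := fun M hM => by
    letI := Ideal.Quotient.field M
    haveI : Module.Finite k (A ⧸ M) := finite_of_finite_type_of_isJacobsonRing k (A ⧸ M)
    let e : (A ⧸ M) →ₐ[k] k := IsAlgClosed.lift
    refine ⟨e.comp (Ideal.Quotient.mkₐ k M), ?_⟩
    ext a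
    rw [RingHom.mem_ker, AlgHom.comp_apply, Ideal.Quotient.mkₐ_eq_mk,
      map_eq_zero_iff e e.toRingHom.injective, Ideal.Quotient.eq_zero_iff_mem]
  have htrans : ∀ M M' : Ideal A, M.IsMaximal → M'.IsMaximal →
      ∃ σ : A ≃+* A, M'.comap σ.toRingHom = M := fun M M' hM hM' => by
    obtain ⟨g, hg⟩ := hpoint M hM
    obtain ⟨g', hg'⟩ := hpoint M' hM'
    refine ⟨((Groth.Sga3.HopfFin.translateEquiv k A (.toConv g)).trans
      (Groth.Sga3.HopfFin.translateEquiv k A (.toConv g')).symm).toRingEquiv, ?_⟩
    subst hg hg'
    ext a
    rw [Ideal.mem_comap, RingHom.mem_ker, RingHom.mem_ker]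
    show g' ((Groth.Sga3.HopfFin.translateEquiv k A (.toConv g')).symm
      (Groth.Sga3.HopfFin.translateEquiv k A (.toConv g) a)) = 0 ↔ g a = 0
    have h1 := Groth.Sga3.HopfFin.counit_translate k A (.toConv g) a
    have h2 := Groth.Sga3.HopfFin.counit_translate k A (.toConv g')
      ((Groth.Sga3.HopfFin.translateEquiv k A (.toConv g')).symm
        (Groth.Sga3.HopfFin.translateEquiv k A (.toConv g) a))
    have h3 := (Groth.Sga3.HopfFin.translateEquiv k A (.toConv g')).apply_symm_apply
      (Groth.Sga3.HopfFin.translateEquiv k A (.toConv g) a)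
    change Groth.Sga3.HopfFin.translate k A (.toConv g') _ = _ at h3
    rw [h3] at h2
    exact Iff.of_eq (congrArg (· = 0) (h2.symm.trans h1))
  exact Groth.HomogKrull.iInf_pow_eq_bot htrans hconn _
    (RingHom.ker_isMaximal_of_surjective _ fun c => ⟨algebraMap k A c, AlgHom.commutes _ c⟩)

end Groth.Agent.S17472
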