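import Groth.Statements.S17473
import Groth.Agent.AlgGrp1.Blanchard

set_option autoImplicit false
universe u
open CategoryTheory MonoidalCategory CartesianMonoidalCategory MonObj GrpObj AlgebraicGeometry CategoryTheory.Limits
open AlgGrp

namespace Groth.Agent.S17473

/-- Let k be a field, G a k-group scheme locally of finite type, X and Y separated k-schemes, f : X → Y
a proper k-morphism such that O_Y → f_*O_X is an isomorphism (on sections over every open subset of
Y), and a an action of G on X. The following are equivalent: (i) some action of G on Y makes f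
equivariant; (ii) X ×_Y X is stable under G acting diagonally on X × X, i.e. for every k-scheme T,
every T-point g of G and all T-points x₁, x₂ of X with f x₁ = f x₂ one has f (g · x₁) = f (g · x₂);
(iii) the underlying map of the composite G × X → X → Y is constant on the topological fibres of G ×
X → G × Y. (The published text works over an algebraically closed field; any field is allowed here.) -/
theorem result (k : Type u) [Field k]
    (G X Y : Over (Spec (CommRingCat.of k))) [GrpObj G] [LocallyOfFiniteType G.hom]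
    [IsSeparated X.hom] [IsSeparated Y.hom]
    (f : X ⟶ Y) [IsProper f.left] (hf : ∀ U : Y.left.Opens, IsIso (f.left.app U))
    (a : AlgGrp.Action G X) :
    [∃ b : AlgGrp.Action G Y, (G ◁ f) ≫ b.act = a.act ≫ f,
      ∀ (T : Over (Spec (CommRingCat.of k))) (g : T ⟶ G) (x₁ x₂ : T ⟶ X),
        x₁ ≫ f = x₂ ≫ f → lift g x₁ ≫ a.act ≫ f = lift g x₂ ≫ a.act ≫ f,
      ∀ p q : ↥(G ⊗ X).left, (G ◁ f).left.base p = (G ◁ f).left.base q →
        (a.act ≫ f).left.base p = (a.act ≫ f).left.base q].TFAE := by
  tfae_have 1 → 2 := by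
    rintro ⟨b, hb⟩ T g x₁ x₂ h
    rw [← hb, lift_whiskerLeft_assoc, lift_whiskerLeft_assoc, h]
  tfae_have 2 → 3 := by
    intro h p q hpq
    obtain ⟨Q, u₁, u₂, hu, -, hQ⟩ := Groth.AlgGrp1.exists_fibreSquare (G ◁ f)
    obtain ⟨r, hr, hr'⟩ := hQ p q hpq
    have hg : u₁ ≫ fst G X = u₂ ≫ fst G X := by
      have := congrArg (· ≫ fst G Y) hu
      simpa using this
    have hx : u₁ ≫ snd G X ≫ f = u₂ ≫ snd G X ≫ f := by
      have := congrArg (· ≫ snd G Y) hu
      simpa using this
    have key := h Q (u₁ ≫ fst G X) (u₁ ≫ snd G X) (u₂ ≫ snd G X) (by simpa using hx)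
    rw [← comp_lift_assoc, lift_fst_snd, Category.id_comp] at key
    rw [hg, ← comp_lift_assoc, lift_fst_snd, Category.id_comp] at key
    rw [← hr, ← hr']
    exact congrArg (fun m : Q ⟶ Y => m.left.base r) key
  tfae_have 3 → 1 := by
    intro h
    have hf' : ∀ U : Y.left.Opens, IsAffineOpen U → IsIso (f.left.app U) := fun U _ => hf U
    have he : (η[G] ▷ X) ≫ a.act ≫ f = snd _ X ≫ f := by
      rw [← Category.assoc, a.one_act, leftUnitor_hom]
    obtain ⟨b, hb⟩ := Groth.AlgGrp1.exists_desc_whiskerLeft hf' G (a.act ≫ f) h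
    refine ⟨⟨b, ?_, ?_⟩, hb⟩
    · apply Groth.AlgGrp1.cancel_whiskerLeft hf'
      rw [whisker_exchange_assoc, hb, he, leftUnitor_hom, whiskerLeft_snd]
    · apply Groth.AlgGrp1.cancel_whiskerLeft hf'
      rw [whisker_exchange_assoc, hb, ← Category.assoc, a.mul_act]
      simp only [Category.assoc]
      rw [← hb, ← whiskerLeft_comp_assoc G a.act f, ← hb, whiskerLeft_comp_assoc,
        tensor_whiskerLeft_assoc, Iso.inv_hom_id_assoc]
  tfae_finish

end Groth.Agent.S17473
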