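import Groth.Statements.S17474
import Groth.Agent.Abvar.Square.Action

set_option autoImplicit false
universe u
open CategoryTheory MonoidalCategory CartesianMonoidalCategory MonObj GrpObj AlgebraicGeometry CategoryTheory.Limits
open AlgGrp

namespace Groth.Agent.S17474

/-- Over an algebraically closed field k, let X be a projective variety (an integral k-scheme admitting
a closed immersion into some projective space over k) and let a connected k-group scheme of finite
type G act on X. For a k-point g of G write t_g : X → X, x ↦ g · x. Then for every invertible
O_X-module L and every invertible M with L ⊗ M ≅ O_X (an inverse of L), the invertible module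
t_g^*(L) ⊗ M is algebraically equivalent to zero. Equivalently, the neutral component of the
automorphism group scheme of X acts trivially on the Néron–Severi group of X. -/
theorem result (k : Type u) [Field k] [IsAlgClosed k]
    (G X : Over (Spec (CommRingCat.of k))) [GrpObj G] [LocallyOfFiniteType G.hom] [QuasiCompact G.hom]
    [ConnectedSpace ↥G.left] [IsIntegral X.left] (hX : RelProj.IsHProjective X.hom)
    (a : AlgGrp.Action G X) (g : 𝟙_ (Over (Spec (CommRingCat.of k))) ⟶ G)
    (L M : X.left.Modules) (hL : PicF.IsInvertible L) (hM : PicF.IsInvertible M)
    (hLM : Nonempty (CohB1.tensorMod L M ≅ Coh.structureModule X.left)) :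
    @Pic13.IsAlgEquivZero k _ X.left ⟨X.hom⟩
      (CohB1.tensorMod ((Scheme.Modules.pullback (lift (toUnit X ≫ g) (𝟙 X) ≫ a.act).left).obj L) M) := by
  exact Groth.Abvar.Square.isAlgEquivZero_translate_tensor a g hL hM hLM

end Groth.Agent.S17474
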