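import Groth.Statements.S1748
import Groth.Agent.Gorenstein.PolyInjective

set_option autoImplicit false
universe u
open CategoryTheory
open scoped TensorProduct Polynomial
attribute [local instance] HasDerivedCategory.standard
open InjHull

namespace Groth.Agent.S1748

/-- Let A be a Noetherian ring and E an injective A-module. Then A[x] ⊗_A E, as an object of D(A[x]) in
degree 0, has injective amplitude in [0, 1]: it is quasi-isomorphic to a complex of injective
A[x]-modules concentrated in degrees 0 and 1. In particular it has finite injective dimension. -/
theorem result (A : Type u) [CommRing A] [IsNoetherianRing A] (E : Type u) [AddCommGroup E] [Module A E] [Module.Injective A E] : DRing.HasInjAmplitudeIn A[X] 0 1 (Dual.inD A[X] (A[X] ⊗[A] E)) := by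
  exact Groth.PolyInj.hasInjAmplitudeIn (A := A) (N := A[X] ⊗[A] E)
    (Groth.PolyInj.injective_baseChange ‹Module.Injective A E›)


end Groth.Agent.S1748
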