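import Groth.Statements.S17485
import Groth.Agent.CohTwo.Degeneracy.BlockTriangular
import Groth.Agent.VBCurves.KrullSchmidt
import Groth.Agent.Variety2.ProjBasics

set_option autoImplicit false
universe u
open CategoryTheory CategoryTheory.Limits AlgebraicGeometry
open Coherent

namespace Groth.Agent.S17485

open TopologicalSpace Groth.CohTwo.Degeneracy in
private theorem exists_bases {X : Scheme.{u}} {A₁ A₂ B₁ B₂ : X.Modules} {a₁ a₂ b₁ b₂ : ℕ}
    (hA₁ : FlatMod.IsFinLocFreeOfRank a₁ A₁) (hA₂ : FlatMod.IsFinLocFreeOfRank a₂ A₂)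
    (hB₁ : FlatMod.IsFinLocFreeOfRank b₁ B₁) (hB₂ : FlatMod.IsFinLocFreeOfRank b₂ B₂) (x : X) :
    ∃ U : X.affineOpens, x ∈ U.1 ∧ Nonempty (Module.Basis (Fin a₁) Γ(X, U.1) Γ(A₁, U.1)) ∧
      Nonempty (Module.Basis (Fin a₂) Γ(X, U.1) Γ(A₂, U.1)) ∧
      Nonempty (Module.Basis (Fin b₁) Γ(X, U.1) Γ(B₁, U.1)) ∧
      Nonempty (Module.Basis (Fin b₂) Γ(X, U.1) Γ(B₂, U.1)) := by
  obtain ⟨U₁, s₁, -, hx₁, hs₁⟩ := Groth.LocFree.exists_affine_basis_ofRank hA₁ x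
  obtain ⟨U₂, s₂, -, hx₂, hs₂⟩ := Groth.LocFree.exists_affine_basis_ofRank hA₂ x
  obtain ⟨U₃, s₃, -, hx₃, hs₃⟩ := Groth.LocFree.exists_affine_basis_ofRank hB₁ x
  obtain ⟨U₄, s₄, -, hx₄, hs₄⟩ := Groth.LocFree.exists_affine_basis_ofRank hB₂ x
  obtain ⟨_, ⟨V, hV, rfl⟩, hxV, hle⟩ := X.isBasis_affineOpens.exists_subset_of_mem_open
    (show x ∈ ((U₁ ⊓ U₂ ⊓ (U₃ ⊓ U₄) : X.Opens) : Set X) from ⟨⟨hx₁, hx₂⟩, hx₃, hx₄⟩) (U₁ ⊓ U₂ ⊓ (U₃ ⊓ U₄)).2
  exact ⟨⟨V, hV⟩, hxV, ⟨Groth.LocFree.basisOfBasis' hs₁ fun y hy => (hle hy).1.1⟩,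
    ⟨Groth.LocFree.basisOfBasis' hs₂ fun y hy => (hle hy).1.2⟩,
    ⟨Groth.LocFree.basisOfBasis' hs₃ fun y hy => (hle hy).2.1⟩,
    ⟨Groth.LocFree.basisOfBasis' hs₄ fun y hy => (hle hy).2.2⟩⟩

open TopologicalSpace in
/-- A bound on the quotients at the points of a closed subscheme bounds its components. -/
private theorem bound_components {k : Type u} [Field k] {X : Scheme.{u}} (g : X ⟶ Spec (CommRingCat.of k))
    [LocallyOfFiniteType g] (D : X.IdealSheafData) (n c : ℕ)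
    (h : ∀ x : X, ∃ U : X.affineOpens, x ∈ U.1 ∧ ∀ P : Ideal Γ(X, U.1), P.IsPrime → D.ideal U ≤ P →
      ringKrullDim (Γ(X, U.1) ⧸ P) + ((c : ℕ) : WithBot ℕ∞) ≤ (n : ℕ)) :
    (D.support : Set X) = ∅ ∨ (c ≤ n ∧
      ∀ T ∈ irreducibleComponents (D.support : Set X), topologicalKrullDim T ≤ ((n - c : ℕ) : WithBot ℕ∞)) := by
  have key : ∀ x ∈ (D.support : Set X), c ≤ n ∧ (Order.height x : WithBot ℕ∞) ≤ ((n - c : ℕ) : WithBot ℕ∞) := by
    intro x hx
    obtain ⟨U, hxU, hU⟩ := h x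
    obtain ⟨P, hP⟩ := Groth.Variety2.Dim.exists_prime_of_mem U.2 hxU
    have hle : D.ideal U ≤ P.asIdeal := by
      have h1 : U.2.fromSpec P ∈ X.zeroLocus (U := U.1) (D.ideal U) := hP.symm ▸
        (Scheme.IdealSheafData.mem_support_iff_of_mem hxU).1 hx
      have h2 : P ∈ U.2.fromSpec ⁻¹' X.zeroLocus (U := U.1) (D.ideal U) := h1
      rw [U.2.fromSpec_preimage_zeroLocus] at h2
      exact h2
    obtain ⟨ψ, -, hψft⟩ := Groth.Variety2.Dim.exists_algebra g U.2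
    letI := ψ.hom.toAlgebra
    haveI : Algebra.FiniteType k Γ(X, U.1) := hψft
    obtain ⟨d, hd, -⟩ := Groth.Variety2.Dim.exists_dim_quotient k Γ(X, U.1) P
    have hb := hU P.asIdeal P.isPrime hle
    rw [hd] at hb
    have hb' : d + c ≤ n := by exact_mod_cast hb
    have hh := Groth.Variety2.Dim.height_fromSpec g U.2 P d hd
    rw [hP] at hh
    rw [hh]
    exact ⟨by omega, WithBot.coe_le_coe.2 (Nat.cast_le.2 (show d ≤ n - c by omega))⟩
  rcases (D.support : Set X).eq_empty_or_nonempty with he | ⟨x, hx⟩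
  · exact Or.inl he
  refine Or.inr ⟨(key x hx).1, fun T hT => ?_⟩
  have hTc : IsClosed T := isClosed_of_mem_irreducibleComponents T hT
  let e : T ≃ₜ (Subtype.val '' T : Set X) := Topology.IsEmbedding.subtypeVal.homeomorphImage T
  have hirr : IsIrreducible (Subtype.val '' T : Set X) := hT.1.image _ continuous_subtype_val.continuousOn
  have hcl : IsClosed (Subtype.val '' T : Set X) := D.support.isClosed.isClosedMap_subtype_val T hTc
  obtain ⟨η, hη⟩ : ∃ η : X, IsGenericPoint η (Subtype.val '' T : Set X) :=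
    ⟨_, hirr.isGenericPoint_genericPoint hcl⟩
  have hmem : η ∈ (D.support : Set X) := by
    obtain ⟨t, -, ht⟩ := hη.mem
    exact ht ▸ t.2
  have h2 : topologicalKrullDim (Subtype.val '' T : Set X) = (Order.height η : ℕ∞) := by
    rw [← hη.def]
    exact Groth.Variety2.Dim.dim_closure_singleton η
  rw [IsHomeomorph.topologicalKrullDim_eq _ e.isHomeomorph, h2]
  exact (key η hmem).2

/-- Let k be an algebraically closed field of characteristic zero and Y a smooth projective variety over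
k (an integral scheme, smooth over k, with a closed immersion into some P^n_k over k), of dimension
n. Let A = A₁ ⊕ A₂ and B = B₁ ⊕ B₂ be finite locally free O_Y-modules with A_i of rank a_i ≥ 1 and
B_j of rank b_j ≥ 1, a₁ + a₂ ≤ b₁ + b₂, such that the sheaves Hom(A₁, B₁), Hom(A₁, B₂), Hom(A₂, B₂)
(right adjoints of A_i ⊗ -, whose existence is the stated instance hypothesis; it holds) are
globally generated while every morphism A₂ → B₁ is zero (the sheaf Hom(A₂, B₁) has no nonzero global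
section). For φ : A → B let Z(φ) ⊆ Y be the closed set where φ drops rank, i.e. where the rank of φ
on fibres is less than a₁ + a₂: the zero set of the (b₁ + b₂ - a₁ - a₂)-th Fitting ideal sheaf of
the cokernel of φ (locally generated by the maximal minors of φ). Assume b₂ ≥ a₂. Then for φ general
— for all φ in a non-empty Zariski-open subset of the finite-dimensional k-vector space Hom(A, B),
namely all φ at which some fixed nonzero polynomial in linear coordinates on Hom(A, B) does not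
vanish — the set Z(φ) is either empty, or min(b₂ - a₂, b₁ + b₂ - a₁ - a₂) + 1 ≤ n and every
irreducible component of Z(φ) has dimension at most n - min(b₂ - a₂, b₁ + b₂ - a₁ - a₂) - 1. (The
published statement says that this locus is empty or has codimension min(b₂ - a₂, b - a) + 1; the
row records the bound on every irreducible component, which is what the dimension count in the
argument gives.) -/
theorem result
    (k : Type u) [Field k] [IsAlgClosed k] [CharZero k]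
    (Y : Scheme.{u}) [Y.Over (Spec (CommRingCat.of k))] [AlgebraicGeometry.IsIntegral Y]
    [Smooth (Y ↘ Spec (CommRingCat.of k))]
    (hproj : ∃ (N : ℕ) (ι : Y ⟶ CohB1.ProjSpace N k), IsClosedImmersion ι ∧
      ι ≫ CohB1.ProjSpace.toSpec N k = (Y ↘ (Spec (CommRingCat.of k))))
    (n : ℕ) (hdim : topologicalKrullDim Y = n)
    (A₁ A₂ B₁ B₂ : Y.Modules) (a₁ a₂ b₁ b₂ : ℕ)
    (hA₁ : FlatMod.IsFinLocFreeOfRank a₁ A₁) (hA₂ : FlatMod.IsFinLocFreeOfRank a₂ A₂)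
    (hB₁ : FlatMod.IsFinLocFreeOfRank b₁ B₁) (hB₂ : FlatMod.IsFinLocFreeOfRank b₂ B₂)
    (ha₁ : 1 ≤ a₁) (ha₂ : 1 ≤ a₂) (hb₁ : 1 ≤ b₁) (hb₂ : 1 ≤ b₂) (hab : a₁ + a₂ ≤ b₁ + b₂)
    [DCoh.HasSheafHom A₁] [DCoh.HasSheafHom A₂]
    (h₁₁ : Curv2.IsGloballyGenerated ((DCoh.sheafHom A₁).obj B₁))
    (h₁₂ : Curv2.IsGloballyGenerated ((DCoh.sheafHom A₁).obj B₂))
    (h₂₂ : Curv2.IsGloballyGenerated ((DCoh.sheafHom A₂).obj B₂))
    (h₂₁ : ∀ ψ : A₂ ⟶ B₁, ψ = 0) (hab₂ : a₂ ≤ b₂) :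
    ∃ (m : ℕ) (c : ((A₁ ⊞ A₂) ⟶ (B₁ ⊞ B₂)) ≃ₗ[k] (Fin m → k)) (p : MvPolynomial (Fin m) k), p ≠ 0 ∧
      ∀ φ : (A₁ ⊞ A₂) ⟶ (B₁ ⊞ B₂), MvPolynomial.eval (c φ) p ≠ 0 →
        letI Z : Set Y := ((Fitt.sheafIdeal (cokernel φ) (b₁ + b₂ - (a₁ + a₂))).support : TopologicalSpace.Closeds Y)
        Z = ∅ ∨ (min (b₂ - a₂) (b₁ + b₂ - (a₁ + a₂)) + 1 ≤ n ∧
          ∀ T ∈ irreducibleComponents Z,
            topologicalKrullDim T ≤ ((n - (min (b₂ - a₂) (b₁ + b₂ - (a₁ + a₂)) + 1) : ℕ) : WithBot ℕ∞)) := by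
  classical
  obtain ⟨N, ι, hι, hcomp⟩ := hproj
  haveI : IsProper (Y ↘ Spec (CommRingCat.of k)) := hcomp ▸
    (inferInstance : IsProper (ι ≫ CohB1.ProjSpace.toSpec N k))
  haveI := Groth.EulerDeg.isNoetherian_of_proper k Y
  have hcA₁ := Groth.KTheory.LocFree.isCoh (Groth.LocFree.isFinLocFree_of_rank hA₁)
  have hcA₂ := Groth.KTheory.LocFree.isCoh (Groth.LocFree.isFinLocFree_of_rank hA₂)
  have hcB₁ := Groth.KTheory.LocFree.isCoh (Groth.LocFree.isFinLocFree_of_rank hB₁)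
  have hcB₂ := Groth.KTheory.LocFree.isCoh (Groth.LocFree.isFinLocFree_of_rank hB₂)
  have hA : Coh.IsCoh (A₁ ⊞ A₂) := Groth.QCohMod.isCoh_biprod hcA₁ hcA₂
  have hB : Coh.IsCoh (B₁ ⊞ B₂) := Groth.QCohMod.isCoh_biprod hcB₁ hcB₂
  haveI := Groth.VBCurves.KS.finite_hom k hcA₁ hB
  haveI := Groth.VBCurves.KS.finite_hom k hcA₂ hcB₂
  let c₁ := (Module.finBasis k (A₁ ⟶ B₁ ⊞ B₂)).equivFun
  let c₂ := (Module.finBasis k (A₂ ⟶ B₂)).equivFun
  have hfst : ∀ φ : A₁ ⊞ A₂ ⟶ B₁ ⊞ B₂, biprod.inr ≫ φ ≫ biprod.fst = 0 := fun φ => h₂₁ _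
  let e : ((A₁ ⊞ A₂) ⟶ (B₁ ⊞ B₂)) ≃ₗ[k] (A₁ ⟶ B₁ ⊞ B₂) × (A₂ ⟶ B₂) :=
    LinearEquiv.ofLinearMap
      (((Linear.leftComp k _ biprod.inl)).prod
        ((Linear.leftComp k _ biprod.inr).comp (Linear.rightComp k _ biprod.snd)))
      ((Linear.leftComp k _ biprod.fst).coprod
        ((Linear.leftComp k _ biprod.snd).comp (Linear.rightComp k _ biprod.inr)))
      (LinearMap.ext fun z => by simp)
      (LinearMap.ext fun φ => by
        have h1 : biprod.inr ≫ φ = (biprod.inr ≫ φ ≫ biprod.snd) ≫ biprod.inr := by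
          conv_lhs => rw [← Category.comp_id φ, ← biprod.total, Preadditive.comp_add, Preadditive.comp_add,
            ← Category.assoc φ, ← Category.assoc biprod.inr, hfst, zero_comp, zero_add]
          simp only [Category.assoc]
        simp only [LinearMap.comp_apply, LinearMap.coprod_apply, LinearMap.prod_apply, Pi.prod,
          Linear.leftComp_apply, Linear.rightComp_apply, LinearMap.id_apply, Category.assoc] at h1 ⊢
        apply biprod.hom_ext' <;> simp [← h1])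
  let c := ((e.trans (c₁.prodCongr c₂)).trans (LinearEquiv.sumArrowLequivProdArrow _ _ k k).symm).trans
    (LinearEquiv.funCongrLeft k k finSumFinEquiv.symm)
  have hx : ∀ x : Y, ∃ U : Y.affineOpens, x ∈ U.1 ∧ ∃ p : MvPolynomial (_ ⊕ _) k, p ≠ 0 ∧ _ := fun x => by
    obtain ⟨U, hxU, ⟨α₁⟩, ⟨α₂⟩, ⟨β₁⟩, ⟨β₂⟩⟩ := exists_bases hA₁ hA₂ hB₁ hB₂ x
    haveI : Nonempty U.1 := ⟨⟨x, hxU⟩⟩
    have hl₁ := Groth.LocFree.isFinLocFree_of_rank hA₁
    have hl₂ := Groth.LocFree.isFinLocFree_of_rank hA₂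
    exact ⟨U, hxU, Groth.CohTwo.Degeneracy.chart_blockBound k n hdim hA hB c₁ c₂ U α₁ α₂ β₁ β₂
      (Groth.CohTwo.Degeneracy.span_appₗ_eq_top hl₁ (Groth.LocFree.isFinLocFree_of_rank hB₁) h₁₁ U.2)
      (Groth.CohTwo.Degeneracy.span_appₗ_eq_top hl₁ (Groth.LocFree.isFinLocFree_of_rank hB₂) h₁₂ U.2)
      (Groth.CohTwo.Degeneracy.span_appₗ_eq_top hl₂ (Groth.LocFree.isFinLocFree_of_rank hB₂) h₂₂ U.2)
      hab hab₂⟩
  choose U hxU p hp hgood using hx
  obtain ⟨S, hS⟩ := CompactSpace.isCompact_univ.elim_finite_subcover (fun x : Y => ((U x).1 : Set Y))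
    (fun x => (U x).1.2) (fun x _ => Set.mem_iUnion.2 ⟨x, hxU x⟩)
  refine ⟨_, c, MvPolynomial.rename finSumFinEquiv (∏ x ∈ S, p x), fun h0 =>
    Finset.prod_ne_zero_iff.2 (fun x _ => hp x)
      (MvPolynomial.rename_injective _ finSumFinEquiv.injective (h0.trans (map_zero _).symm)), fun φ hφ => ?_⟩
  rw [MvPolynomial.eval_rename,
    show c φ ∘ finSumFinEquiv = Sum.elim (c₁ (biprod.inl ≫ φ)) (c₂ (biprod.inr ≫ φ ≫ biprod.snd)) from
      funext fun z => by rcases z with z | z <;> simp [c, e, LinearEquiv.funCongrLeft_apply] <;> rfl,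
    map_prod, Finset.prod_ne_zero_iff] at hφ
  refine bound_components (Y ↘ Spec (CommRingCat.of k)) _ n _ fun x => ?_
  obtain ⟨y, hy, hxy⟩ := Set.mem_iUnion₂.1 (hS (Set.mem_univ x))
  exact ⟨U y, hxy, hgood y φ (hfst φ) (hφ y hy)⟩

end Groth.Agent.S17485
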