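import Groth.Statements.S17486
import Groth.Agent.RefRank.FittSheaf
import Groth.Agent.LocFree.SES
import Groth.Agent.LocFree.Rank
import Groth.Agent.Duality.StalkHom
import Groth.Agent.KTheory.LocFree
import Groth.Agent.TFOne.Simple

set_option autoImplicit false
universe u
open CategoryTheory CategoryTheory.Limits AlgebraicGeometry
open Coherent

namespace Groth.Agent.S17486

/-- Let k be an algebraically closed field of characteristic zero and Y a smooth projective variety over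
k (an integral scheme, smooth over k, with a closed immersion into some P^n_k over k). Let A = A₁ ⊕
A₂ and B = B₁ ⊕ B₂ be finite locally free O_Y-modules with A_i of rank a_i ≥ 1 and B_j of rank b_j ≥
1, a₁ + a₂ ≤ b₁ + b₂, such that the sheaves Hom(A₁, B₁), Hom(A₁, B₂), Hom(A₂, B₂) (right adjoints of
A_i ⊗ -, whose existence is the stated instance hypothesis; it holds) are globally generated while
every morphism A₂ → B₁ is zero (the sheaf Hom(A₂, B₁) has no nonzero global section). For φ : A → B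
let Z(φ) ⊆ Y be the closed set where φ drops rank, i.e. where the rank of φ on fibres is less than
a₁ + a₂: the zero set of the (b₁ + b₂ - a₁ - a₂)-th Fitting ideal sheaf of the cokernel of φ
(locally generated by the maximal minors of φ). If b₂ < a₂, then every φ : A → B drops rank at every
point of Y, i.e. Z(φ) = Y. -/
theorem result
    (k : Type u) [Field k] [IsAlgClosed k] [CharZero k]
    (Y : Scheme.{u}) [Y.Over (Spec (CommRingCat.of k))] [AlgebraicGeometry.IsIntegral Y]
    [Smooth (Y ↘ Spec (CommRingCat.of k))]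
    (hproj : ∃ (N : ℕ) (ι : Y ⟶ CohB1.ProjSpace N k), IsClosedImmersion ι ∧
      ι ≫ CohB1.ProjSpace.toSpec N k = (Y ↘ (Spec (CommRingCat.of k))))
    (A₁ A₂ B₁ B₂ : Y.Modules) (a₁ a₂ b₁ b₂ : ℕ)
    (hA₁ : FlatMod.IsFinLocFreeOfRank a₁ A₁) (hA₂ : FlatMod.IsFinLocFreeOfRank a₂ A₂)
    (hB₁ : FlatMod.IsFinLocFreeOfRank b₁ B₁) (hB₂ : FlatMod.IsFinLocFreeOfRank b₂ B₂)
    (ha₁ : 1 ≤ a₁) (ha₂ : 1 ≤ a₂) (hb₁ : 1 ≤ b₁) (hb₂ : 1 ≤ b₂) (hab : a₁ + a₂ ≤ b₁ + b₂)
    [DCoh.HasSheafHom A₁] [DCoh.HasSheafHom A₂]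
    (h₁₁ : Curv2.IsGloballyGenerated ((DCoh.sheafHom A₁).obj B₁))
    (h₁₂ : Curv2.IsGloballyGenerated ((DCoh.sheafHom A₁).obj B₂))
    (h₂₂ : Curv2.IsGloballyGenerated ((DCoh.sheafHom A₂).obj B₂))
    (h₂₁ : ∀ ψ : A₂ ⟶ B₁, ψ = 0) (hlt : b₂ < a₂) (φ : (A₁ ⊞ A₂) ⟶ (B₁ ⊞ B₂)) :
    (((Fitt.sheafIdeal (cokernel φ) (b₁ + b₂ - (a₁ + a₂))).support : TopologicalSpace.Closeds Y) : Set Y) = Set.univ := by
  classical
  have hA₁' := Groth.LocFree.isFinLocFree_of_rank hA₁
  have hA₂' := Groth.LocFree.isFinLocFree_of_rank hA₂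
  haveI : (B₁ ⊞ B₂).IsQuasicoherent := Groth.KTheory.LocFree.isQCoh
    (Groth.LocFree.isFinLocFree_of_rank (Groth.LocFree.isFinLocFreeOfRank_biprod hB₁ hB₂))
  haveI : (A₁ ⊞ A₂).IsQuasicoherent := Groth.KTheory.LocFree.isQCoh
    (Groth.LocFree.isFinLocFree_of_rank (Groth.LocFree.isFinLocFreeOfRank_biprod hA₁ hA₂))
  have hcB : Coh.IsCoh (B₁ ⊞ B₂) := Groth.KTheory.LocFree.isCoh
    (Groth.LocFree.isFinLocFree_of_rank (Groth.LocFree.isFinLocFreeOfRank_biprod hB₁ hB₂))
  have hc := Groth.QCohMod.isCoh_cokernel φ hcB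
  haveI := hc.1
  refine Set.eq_univ_of_forall fun y => ?_
  by_contra hy
  obtain ⟨g, hg⟩ := (Groth.RefRank.FittSheaf.notMem_support_iff_spans _ hc.2 _ y).1 hy
  let R := Y.presheaf.stalk y
  haveI : IsLocalRing R := inferInstance
  haveI := Groth.LocFree.finite_stalk hA₁' y
  haveI := Groth.LocFree.finite_stalk (Groth.LocFree.isFinLocFree_of_rank hB₂) y
  haveI := Groth.KTheory.LocFree.free_stalk hA₁' y
  haveI := Groth.KTheory.LocFree.free_stalk (Groth.LocFree.isFinLocFree_of_rank hB₂) y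
  let e₁ : Fin a₁ → A₁.presheaf.stalk y :=
    Module.finBasisOfFinrankEq R _ (Groth.LocFree.finrank_stalk hA₁ y)
  let e₂ : Fin b₂ → B₂.presheaf.stalk y :=
    Module.finBasisOfFinrankEq R _ (Groth.LocFree.finrank_stalk hB₂ y)
  let π := RefHull.stalkMapₗ (cokernel.π φ) y
  have hπ : Function.Surjective π := (Groth.QCohMod.epi_iff_stalk (cokernel.π φ)).1 inferInstance y
  choose l hl using fun i => hπ (g i)
  let w : (Fin (b₁ + b₂ - (a₁ + a₂)) ⊕ Fin a₁) ⊕ Fin b₂ → (B₁ ⊞ B₂).presheaf.stalk y :=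
    Sum.elim (Sum.elim l fun i => RefHull.stalkMapₗ (biprod.inl ≫ φ) y (e₁ i))
      fun i => RefHull.stalkMapₗ biprod.inr y (e₂ i)
  let S := Submodule.span R (Set.range w)
  have hA₁S : ∀ v, RefHull.stalkMapₗ (biprod.inl ≫ φ) y v ∈ S := by
    intro v
    have hv : v ∈ Submodule.span R (Set.range e₁) := by rw [Module.Basis.span_eq]; trivial
    induction hv using Submodule.span_induction with
    | mem v hv => obtain ⟨i, rfl⟩ := hv; exact Submodule.subset_span ⟨Sum.inl (Sum.inr i), rfl⟩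
    | zero => rw [map_zero]; exact Submodule.zero_mem _
    | add _ _ _ _ h h' => rw [map_add]; exact Submodule.add_mem _ h h'
    | smul c _ _ h => rw [map_smul]; exact Submodule.smul_mem _ _ h
  have hB₂S : ∀ v, RefHull.stalkMapₗ (biprod.inr : B₂ ⟶ B₁ ⊞ B₂) y v ∈ S := by
    intro v
    have hv : v ∈ Submodule.span R (Set.range e₂) := by rw [Module.Basis.span_eq]; trivial
    induction hv using Submodule.span_induction with
    | mem v hv => obtain ⟨i, rfl⟩ := hv; exact Submodule.subset_span ⟨Sum.inr i, rfl⟩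
    | zero => rw [map_zero]; exact Submodule.zero_mem _
    | add _ _ _ _ h h' => rw [map_add]; exact Submodule.add_mem _ h h'
    | smul c _ _ h => rw [map_smul]; exact Submodule.smul_mem _ _ h
  have h22 : biprod.inr ≫ φ = (biprod.inr ≫ φ ≫ biprod.snd) ≫ biprod.inr := by
    apply biprod.hom_ext <;> simp [h₂₁ (biprod.inr ≫ φ ≫ biprod.fst)]
  have himg : ∀ v, RefHull.stalkMapₗ φ y v ∈ S := by
    intro v
    have hv : v = RefHull.stalkMapₗ biprod.inl y (RefHull.stalkMapₗ biprod.fst y v) +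
        RefHull.stalkMapₗ biprod.inr y (RefHull.stalkMapₗ biprod.snd y v) := by
      rw [← Duality.StalkHom.stalkMapₗ_comp_apply, ← Duality.StalkHom.stalkMapₗ_comp_apply,
        ← Groth.TFOneAux.stalkMap_add, biprod.total]
      exact (Groth.TFOneAux.stalkMap_id _ _).symm
    rw [hv, map_add]
    refine Submodule.add_mem _ ?_ ?_
    · rw [← Duality.StalkHom.stalkMapₗ_comp_apply (A := A₁)]
      exact hA₁S _
    · rw [← Duality.StalkHom.stalkMapₗ_comp_apply (A := A₂), h22, Duality.StalkHom.stalkMapₗ_comp_apply]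
      exact hB₂S _
  have hS : S = ⊤ := by
    refine eq_top_iff.2 fun v _ => ?_
    have hv : π v ∈ Submodule.span R (Set.range g) := by rw [hg]; trivial
    obtain ⟨c, hcv⟩ := (Submodule.mem_span_range_iff_exists_fun R).1 hv
    have h0 : π (v - ∑ i, c i • l i) = 0 := by
      rw [map_sub, map_sum, ← hcv, sub_eq_zero]
      exact Finset.sum_congr rfl fun i _ => by rw [map_smul, hl]
    have hex := (ShortComplex.exact_of_g_is_cokernel (ShortComplex.mk φ (cokernel.π φ) (cokernel.condition φ))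
      (cokernelIsCokernel φ)).map (Groth.QCohMod.stalk y)
    obtain ⟨u, hu⟩ := (ShortComplex.ab_exact_iff _).1 hex _ h0
    rw [← sub_add_cancel v (∑ i, c i • l i)]
    refine Submodule.add_mem _ ?_
      (Submodule.sum_mem _ fun i _ => Submodule.smul_mem _ _ (Submodule.subset_span ⟨Sum.inl (Sum.inl i), rfl⟩))
    exact hu ▸ himg u
  have h1 := finrank_range_le_card (R := R) w
  rw [Set.finrank, show Submodule.span R (Set.range w) = S from rfl, hS, finrank_top,
    Groth.LocFree.finrank_stalk (Groth.LocFree.isFinLocFreeOfRank_biprod hB₁ hB₂)] at h1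
  simp only [Fintype.card_sum, Fintype.card_fin] at h1
  omega

end Groth.Agent.S17486
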