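import Groth.Statements.S17488
import Groth.Agent.PnCoh.TwistHom
import Groth.Agent.PnCoh.GlobalFun
import Groth.Agent.Variety2.ProjBasics
import Mathlib.LinearAlgebra.TensorProduct.Basis

set_option autoImplicit false
universe u
open CategoryTheory CategoryTheory.Limits AlgebraicGeometry
open Coherent
open CategoryTheory.Abelian

namespace Groth.Agent.S17488

open Groth.PnCoh.TwistHom
open Groth.Variety2.Reg (fT)

variable {k : Type u} [Field k]

attribute [local instance] Groth.EulerDeg.secModule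

theorem finrank_h0_structure (n : ℕ) :
    Module.finrank k (Coh.HH (CohB1.ProjSpace n k) (Coh.structureModule (CohB1.ProjSpace n k)) 0) = 1 := by
  obtain ⟨hi, hs⟩ := Groth.PnCoh.toGlobal_bijective (n := n) (R := k)
  let e := Groth.EulerDeg.h0Equiv k (Coh.structureModule (CohB1.ProjSpace n k))
  let one : Γ(Coh.structureModule (CohB1.ProjSpace n k), ⊤) := Groth.PicAux.oneSec (CohB1.ProjSpace n k) ⊤
  refine finrank_eq_one (e.symm one) ?_ fun w => ?_
  · intro h
    have h1 : one = 0 := e.symm.map_eq_zero_iff.1 h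
    haveI : Nontrivial Γ(CohB1.ProjSpace n k, ⊤) := hi.nontrivial
    exact one_ne_zero (α := Γ(CohB1.ProjSpace n k, ⊤)) h1
  · obtain ⟨c, hc⟩ := hs (e w)
    refine ⟨c, e.injective ?_⟩
    rw [map_smul, LinearEquiv.apply_symm_apply, Groth.EulerDeg.smul_sec]
    refine (show _ * (1 : Γ(CohB1.ProjSpace n k, ⊤)) = _ from ?_)
    exact (mul_one _).trans ((Groth.PicAux.resX_self _ _).trans hc)

theorem subsingleton_mid {A B C : Type*} [AddCommGroup A] [AddCommGroup B] [AddCommGroup C]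
    [Module k A] [Module k B] [Module k C] {f : A →ₗ[k] B} {g : B →ₗ[k] C} (h : Function.Exact f g)
    (hA : Subsingleton A) (hC : Subsingleton C) : Subsingleton B := by
  refine subsingleton_of_forall_eq 0 fun x => ?_
  obtain ⟨y, rfl⟩ := (h x).1 (Subsingleton.elim _ _)
  rw [Subsingleton.elim y 0, map_zero]

theorem subsingleton_HH_biprod {n : ℕ} {A B : (CohB1.ProjSpace n k).Modules} (b : ℤ) (q : ℕ)
    (hA : Subsingleton (Coh.HH _ (fT A b) q)) (hB : Subsingleton (Coh.HH _ (fT B b) q)) :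
    Subsingleton (Coh.HH _ ((T n k b).obj (A ⊞ B)) q) := by
  have hS : (ShortComplex.mk (biprod.inl : A ⟶ A ⊞ B) biprod.snd biprod.inl_snd).ShortExact :=
    (ShortComplex.Splitting.ofHasBinaryBiproduct A B).shortExact
  exact subsingleton_mid (Groth.EulerDeg.exact_mid k (Groth.Variety2.Reg.shortExact_fT hS b) q) hA hB

theorem finite_HH' {n : ℕ} {A : (CohB1.ProjSpace n k).Modules} (hA : Coh.IsCoh A) (q : ℕ) :
    Module.Finite k (Coh.HH _ A q) :=
  haveI : IsProper (CohB1.ProjSpace n k ↘ Spec (CommRingCat.of k)) :=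
    Groth.Variety2.isProper_projSpace_toSpec n k
  Groth.CohC3.finite_HH_of_proper k _ hA q

/-- The endomorphisms of `O` are scalars. -/
theorem nonempty_hom_structure_end {n : ℕ} : Nonempty (∀ σ : Coh.structureModule (CohB1.ProjSpace n k) ⟶
    Coh.structureModule _, ∃ c : k, σ = c • 𝟙 _) := by
  refine ⟨fun σ => ?_⟩
  letI : HasExt.{u} (CohB1.ProjSpace n k).Modules := hasExt_of_enoughInjectives _
  obtain ⟨eO⟩ := Groth.Variety2.Reg.nonempty_twist_zero (n := n) (k := k)
  obtain ⟨c, hc⟩ := exists_smul_id (finrank_h0_structure n) 0 (eO.hom ≫ σ ≫ eO.inv)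
  refine ⟨c, ?_⟩
  rw [← cancel_epi eO.hom, ← cancel_mono eO.inv, Category.assoc, hc]
  simp

theorem nonempty_ext_structure {n : ℕ} [HasExt.{u} (CohB1.ProjSpace n k).Modules]
    (M : (CohB1.ProjSpace n k).Modules) :
    Nonempty (Ext (Coh.structureModule (CohB1.ProjSpace n k)) M 1 ≃ₗ[k] Coh.HH _ (fT M 0) 1) := by
  obtain ⟨eO⟩ := Groth.Variety2.Reg.nonempty_twist_zero (n := n) (k := k)
  let O := Coh.structureModule (CohB1.ProjSpace n k)
  haveI := Groth.Duality.SheafHom.hasSheafHom O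
  obtain ⟨e⟩ := Groth.Duality.SheafHom.nonempty_ext_linearEquiv k O
    (Groth.LocFree.isFinLocFree_of_rank (Groth.LocFree.isInvertible_iff_ofRank_one.1
      (PicLoc.isInvertible_structureModule _))) 1 M
  have hi : ClSub.IsInverseOf O O := ⟨(Groth.Inter.tensor_one _).some⟩
  obtain ⟨t⟩ := Groth.Duality.SheafHom.nonempty_sheafHom_inverse_app hi M
  exact ⟨e.trans (Groth.EulerDeg.hEquiv k (t ≪≫ PicGrp.tensorModIso (Iso.refl M) eO.symm) 1)⟩

theorem coeff_eq_zero {n r : ℕ} (c : Fin r → k)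
    (h : (∑ i, c i • Sigma.ι (fun _ : Fin r => Coh.structureModule (CohB1.ProjSpace n k)) i) = 0)
    (i : Fin r) : c i = 0 := by
  classical
  have hne : (𝟙 (Coh.structureModule (CohB1.ProjSpace n k))) ≠ 0 := fun h0 => by
    have h1 := finrank_h0_structure (k := k) n
    haveI := Module.nontrivial_of_finrank_eq_succ h1
    obtain ⟨v, hv⟩ := exists_ne (0 : Coh.HH (CohB1.ProjSpace n k) (Coh.structureModule _) 0)
    refine hv ((Groth.EulerDeg.h0Equiv k _).injective ?_)
    rw [map_zero, ← Groth.PicAux.homOfSection_one (Groth.EulerDeg.h0Equiv k _ v), ← Category.id_comp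
      (Groth.PicAux.homOfSection (Groth.EulerDeg.h0Equiv k _ v)), h0, zero_comp]
    rfl
  have h' := congrArg (· ≫ Groth.PnCoh.sigmaProj (fun _ : Fin r => Coh.structureModule (CohB1.ProjSpace n k)) i) h
  simp only [Preadditive.sum_comp, Linear.smul_comp, Groth.PnCoh.sigmaProj, Sigma.ι_desc, zero_comp] at h'
  rw [Finset.sum_eq_single i (fun j _ hj => by rw [dif_neg hj, smul_zero]) (by simp), dif_pos rfl] at h'
  rw [eqToHom_refl] at h'
  exact (smul_eq_zero.1 h').resolve_right hne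

theorem comp_coeff_eq_zero {n r : ℕ} {A : (CohB1.ProjSpace n k).Modules}
    (ψ : Fin r → (A ⟶ Coh.structureModule (CohB1.ProjSpace n k)))
    (h : (∑ i, ψ i ≫ Sigma.ι (fun _ : Fin r => Coh.structureModule (CohB1.ProjSpace n k)) i) = 0)
    (i : Fin r) : ψ i = 0 := by
  classical
  have h' := congrArg (· ≫ Groth.PnCoh.sigmaProj (fun _ : Fin r => Coh.structureModule (CohB1.ProjSpace n k)) i) h
  simp only [Preadditive.sum_comp, Category.assoc, Groth.PnCoh.sigmaProj, Sigma.ι_desc, zero_comp] at h'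
  rw [Finset.sum_eq_single i (fun j _ hj => by rw [dif_neg hj, comp_zero]) (by simp), dif_pos rfl] at h'
  simpa using h'

theorem exists_tensor_basis {V W : Type*} [AddCommGroup V] [Module k V] [AddCommGroup W] [Module k W]
    {r : ℕ} (B : Module.Basis (Fin r) k W) (x : TensorProduct k V W) :
    ∃ ψ : Fin r → V, x = ∑ i, ψ i ⊗ₜ[k] B i := by
  induction x using TensorProduct.induction_on with
  | zero => exact ⟨0, by simp⟩
  | tmul v w =>
    refine ⟨fun i => B.repr w i • v, ?_⟩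
    conv_lhs => rw [← B.sum_repr w, TensorProduct.tmul_sum]
    simp [TensorProduct.smul_tmul]
  | add x y hx hy =>
    obtain ⟨a, rfl⟩ := hx
    obtain ⟨b, rfl⟩ := hy
    exact ⟨a + b, by simp [TensorProduct.add_tmul, Finset.sum_add_distrib]⟩

theorem tensor_basis_eq_zero {V W : Type*} [AddCommGroup V] [Module k V] [AddCommGroup W] [Module k W]
    {r : ℕ} (B : Module.Basis (Fin r) k W) (ψ : Fin r → V)
    (h : (∑ i, ψ i ⊗ₜ[k] B i) = 0) (i : Fin r) : ψ i = 0 := by
  classical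
  have h' := congrArg ((TensorProduct.rid k V).toLinearMap.comp ((B.coord i).lTensor V)) h
  simpa [Finsupp.single_apply, ite_smul] using h'

theorem isCoh_sigma_tw (r : ℕ) (a : ℤ) : Coh.IsCoh (∐ fun _ : Fin r => tw 2 k a) :=
  haveI := Groth.PnCoh.isLocallyNoetherian_projSpace 2 k
  Groth.PnCoh.isCoh_sigma _ fun _ => Groth.PnCoh.isCoh_twist 2 k a

theorem isCoh_of_iso_sigma {A : (CohB1.ProjSpace 2 k).Modules} {r : ℕ} {a : ℤ}
    (e : A ≅ ∐ fun _ : Fin r => tw 2 k a) : Coh.IsCoh A :=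
  Groth.QCohMod.isCoh_of_iso e.symm (isCoh_sigma_tw r a)

theorem subsingleton_h0_twist {n : ℕ} [HasExt.{u} (CohB1.ProjSpace n k).Modules] {a b : ℤ}
    (hab : a + b = 0) {F : (CohB1.ProjSpace n k).Modules} (h : ∀ σ : tw n k a ⟶ F, σ = 0) :
    Subsingleton (Coh.HH _ (fT F b) 0) := by
  obtain ⟨e⟩ := nonempty_hom_twist a F
  haveI : Subsingleton (tw n k a ⟶ F) := subsingleton_of_forall_eq 0 h
  obtain rfl : b = -a := by omega
  exact e.symm.toEquiv.subsingleton


/-- Let k be an algebraically closed field of characteristic zero, P = P²_k the projective plane with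
its line bundles O(m), and F a coherent O_P-module; write F(m) = F ⊗ O(m). Then F has a Gaeta
resolution for the sequence (O(-2), O(-1), O), that is, there is a short exact sequence 0 →
O(-2)^{α₁} → O(-1)^{α₂} ⊕ O^{α₃} → F → 0 for some natural numbers α₁, α₂, α₃, if and only if:
H^0(F(-1)) = 0 and H^2(F(-1)) = 0, H^1(F) = 0 and H^2(F) = 0, H^1(F(1)) = 0 and H^2(F(1)) = 0, and
the k-linear map Hom(O(-1), O) ⊗_k Hom(O, F) → Hom(O(-1), F) induced by composition, ψ ⊗ s ↦ s ∘ ψ
(the multiplication map H^0(O(1)) ⊗ H^0(F) → H^0(F(1))), is injective. (The published statement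
phrases the left side as F admitting a Gaeta resolution, meaning that the minimal complex of F built
from the sequence has this shape; a two-term resolution of this shape is automatically that minimal
complex, so this amounts to the existence of such a resolution. Cohomology in degrees above two,
which vanishes on P², is not mentioned on the right.) -/
theorem result
    (k : Type u) [Field k] [IsAlgClosed k] [CharZero k]
    (F : (CohB1.ProjSpace 2 k).Modules) (hF : Coh.IsCoh F) :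
    letI P := CohB1.ProjSpace 2 k
    letI O : P.Modules := Coh.structureModule P
    letI Om1 : P.Modules := Twist.twistProjSpace 2 k (-1)
    (∃ (α₁ α₂ α₃ : ℕ) (S : ShortComplex P.Modules), S.ShortExact ∧
        Nonempty (S.X₁ ≅ ∐ fun _ : Fin α₁ => Twist.twistProjSpace 2 k (-2)) ∧
        Nonempty (S.X₂ ≅ (∐ fun _ : Fin α₂ => Om1) ⊞ (∐ fun _ : Fin α₃ => O)) ∧
        Nonempty (S.X₃ ≅ F)) ↔
      (Subsingleton (Coh.HH P (CohB1.tensorMod F Om1) 0) ∧
        Subsingleton (Coh.HH P (CohB1.tensorMod F Om1) 2) ∧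
        Subsingleton (Coh.HH P F 1) ∧ Subsingleton (Coh.HH P F 2) ∧
        Subsingleton (Coh.HH P (CohB1.tensorMod F (Twist.twistProjSpace 2 k 1)) 1) ∧
        Subsingleton (Coh.HH P (CohB1.tensorMod F (Twist.twistProjSpace 2 k 1)) 2) ∧
        Function.Injective (TensorProduct.lift
          (CategoryTheory.Linear.comp Om1 O F : (Om1 ⟶ O) →ₗ[k] (O ⟶ F) →ₗ[k] (Om1 ⟶ F)))) := by
  letI : HasExt.{u} (CohB1.ProjSpace 2 k).Modules := hasExt_of_enoughInjectives _
  haveI := hF.1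
  haveI := Groth.PnCoh.isLocallyNoetherian_projSpace 2 k
  have h1 : Module.finrank k (Coh.HH (CohB1.ProjSpace 2 k) (Coh.structureModule _) 0) = 1 :=
    finrank_h0_structure 2
  obtain ⟨eO⟩ := Groth.Variety2.Reg.nonempty_twist_zero (n := 2) (k := k)
  let O : (CohB1.ProjSpace 2 k).Modules := Coh.structureModule _
  let Om1 : (CohB1.ProjSpace 2 k).Modules := tw 2 k (-1)
  -- morphisms from `O` and from `O(-1)` into the middle term
  have zO : ∀ {r : ℕ} (σ : O ⟶ ∐ fun _ : Fin r => Om1), σ = 0 := fun {r} σ => by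
    rw [← cancel_epi eO.hom, comp_zero]
    exact hom_eq_zero (subsingleton_HH_sum (Iso.refl _) (b := -0) (c := -1) (by norm_num)
      (by omega) (by omega)) _
  have sO : ∀ {r : ℕ} (σ : O ⟶ ∐ fun _ : Fin r => O),
      ∃ c : Fin r → k, σ = ∑ i, c i • Sigma.ι (fun _ : Fin r => O) i := fun {r} σ => by
    obtain ⟨e⟩ := nonempty_hom_structure_end (k := k)
    choose c hc using fun i => e (σ ≫ Groth.PnCoh.sigmaProj (fun _ : Fin r => O) i)
    refine ⟨c, ?_⟩
    calc σ = σ ≫ ∑ i, Groth.PnCoh.sigmaProj (fun _ : Fin r => O) i ≫ Sigma.ι (fun _ : Fin r => O) i := by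
          rw [Groth.PnCoh.sigmaProj_total]
          exact (Category.comp_id _).symm
      _ = _ := by
          rw [Preadditive.comp_sum]
          refine Finset.sum_congr rfl fun i _ => ?_
          rw [← Category.assoc, hc i, Linear.smul_comp]
          exact congrArg (c i • ·) (Category.id_comp _)
  have sM : ∀ {r r' : ℕ} (σ : Om1 ⟶ (∐ fun _ : Fin r => Om1) ⊞ (∐ fun _ : Fin r' => O)),
      ∃ (c : Fin r → k) (ψ : Fin r' → (Om1 ⟶ O)),
        σ = (∑ j, c j • Sigma.ι (fun _ : Fin r => Om1) j) ≫ biprod.inl +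
          (∑ i, ψ i ≫ Sigma.ι (fun _ : Fin r' => O) i) ≫ biprod.inr := fun {r r'} σ => by
    obtain ⟨c, hc⟩ := hom_sigma_eq h1 (σ ≫ biprod.fst)
    refine ⟨c, fun i => σ ≫ biprod.snd ≫ Groth.PnCoh.sigmaProj (fun _ : Fin r' => O) i, ?_⟩
    have hs : σ ≫ biprod.snd = ∑ i, (σ ≫ biprod.snd ≫ Groth.PnCoh.sigmaProj (fun _ : Fin r' => O) i) ≫
        Sigma.ι (fun _ : Fin r' => O) i := by
      simp only [Category.assoc, ← Preadditive.comp_sum, Groth.PnCoh.sigmaProj_total]
      exact congrArg (σ ≫ ·) (Category.comp_id _).symm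
    rw [← hc, ← hs]
    calc σ = σ ≫ (biprod.fst ≫ biprod.inl + biprod.snd ≫ biprod.inr) := by
          rw [biprod.total, Category.comp_id]
      _ = _ := by rw [Preadditive.comp_add, Category.assoc, Category.assoc]
  let μ : TensorProduct k (Om1 ⟶ O) (O ⟶ F) →ₗ[k] (Om1 ⟶ F) := TensorProduct.lift
    (CategoryTheory.Linear.comp Om1 O F : (Om1 ⟶ O) →ₗ[k] (O ⟶ F) →ₗ[k] (Om1 ⟶ F))
  constructor
  · rintro ⟨α₁, α₂, α₃, S, hS, ⟨e₁⟩, ⟨e₂⟩, ⟨e₃⟩⟩
    have hHF : ∀ (b : ℤ) (q : ℕ),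
        Subsingleton (Coh.HH _ ((T 2 k b).obj ((∐ fun _ : Fin α₂ => Om1) ⊞ (∐ fun _ : Fin α₃ => O))) q) →
        Subsingleton (Coh.HH _ (fT S.X₁ b) (q + 1)) →
        Subsingleton (Coh.HH _ (fT F b) q) := fun b q ha hb => by
      haveI := isEquivalence_T (n := 2) (k := k) b
      have hT := Groth.Variety2.Reg.shortExact_fT hS b
      let t := EulerDeg.hEquiv k ((T 2 k b).mapIso e₂) q
      haveI : Subsingleton (Coh.HH _ (fT S.X₂ b) q) := t.toEquiv.subsingleton
      exact @Equiv.subsingleton _ _ (EulerDeg.hEquiv k ((T 2 k b).mapIso e₃) q).symm.toEquiv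
        (subsingleton_mid (EulerDeg.exact_right k hT q) this hb)
    have hE : ∀ (b : ℤ) (q : ℕ) (hb : ¬ (q = 0 ∧ 0 ≤ b) ∧ ¬ (q = 2 ∧ b ≤ -2)),
        Subsingleton (Coh.HH _ ((T 2 k b).obj ((∐ fun _ : Fin α₂ => Om1) ⊞ (∐ fun _ : Fin α₃ => O))) q) :=
      fun b q hb => subsingleton_HH_biprod b q
        (subsingleton_HH_sum (Iso.refl _) (b := b) (c := -1 + b) rfl (by omega) (by omega))
        (subsingleton_HH_sum (Sigma.mapIso fun _ : Fin α₃ => eO.symm) (b := b) (c := 0 + b) rfl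
          (by omega) (by omega))
    have hF1 : ∀ (b : ℤ) (q : ℕ), ¬ (q = 0 ∧ 0 ≤ b) → ¬ (q = 2 ∧ b ≤ -2) →
        ¬ (q + 1 = 2 ∧ b ≤ -1) → Subsingleton (Coh.HH _ (fT F b) q) := fun b q ha hb hc =>
      hHF b q (hE b q ⟨ha, hb⟩)
        (subsingleton_HH_sum e₁ (b := b) (c := -2 + b) rfl (by omega) (by omega))
    have hz : ∀ q, Subsingleton (Coh.HH _ (fT F 0) q) → Subsingleton (Coh.HH _ F q) := fun q h =>
      @Equiv.subsingleton _ _
        (EulerDeg.hEquiv k (Groth.Variety2.Reg.nonempty_fT_zero F).some q).symm.toEquiv h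
    refine ⟨hF1 (-1) 0 (by omega) (by omega) (by omega), hF1 (-1) 2 (by omega) (by omega) (by omega),
      hz 1 (hF1 0 1 (by omega) (by omega) (by omega)), hz 2 (hF1 0 2 (by omega) (by omega) (by omega)),
      hF1 1 1 (by omega) (by omega) (by omega), hF1 1 2 (by omega) (by omega) (by omega), ?_⟩
    -- injectivity of the multiplication
    let g : ((∐ fun _ : Fin α₂ => Om1) ⊞ (∐ fun _ : Fin α₃ => O)) ⟶ F := e₂.inv ≫ S.g ≫ e₃.hom
    let s : Fin α₃ → (O ⟶ F) := fun i => Sigma.ι (fun _ : Fin α₃ => O) i ≫ biprod.inr ≫ g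
    have hker : ∀ {a : ℤ}, (-2 + -a : ℤ) < 0 →
        ∀ σ : tw 2 k a ⟶ ((∐ fun _ : Fin α₂ => Om1) ⊞ (∐ fun _ : Fin α₃ => O)), σ ≫ g = 0 → σ = 0 :=
      fun {a} ha σ hσ => by
        have hw : (σ ≫ e₂.inv) ≫ S.g = 0 := by
          rw [← cancel_mono e₃.hom]
          simpa [g] using hσ
        haveI := hS.mono_f
        let σ' := hS.exact.lift (σ ≫ e₂.inv) hw
        have hσ' : σ' ≫ S.f = σ ≫ e₂.inv := hS.exact.lift_f (σ ≫ e₂.inv) hw
        rw [hom_eq_zero (subsingleton_HH_sum e₁ (b := -a) (c := -2 + -a) rfl (by omega) (by omega)) σ',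
          zero_comp] at hσ'
        rw [← cancel_mono e₂.inv, ← hσ', zero_comp]
    have hOE : ∀ σ : O ⟶ ((∐ fun _ : Fin α₂ => Om1) ⊞ (∐ fun _ : Fin α₃ => O)), σ ≫ g = 0 → σ = 0 :=
      fun σ hσ => by
        rw [← cancel_epi eO.hom, comp_zero]
        exact hker (by norm_num) _ (by rw [Category.assoc, hσ, comp_zero])
    have hspan : ⊤ ≤ Submodule.span k (Set.range s) := by
      intro φ _
      obtain ⟨τ, hτ⟩ : ∃ τ, τ ≫ g = φ := by
        have hlift : ∀ σ : O ⟶ S.X₃, ∃ τ, τ ≫ S.g = σ := fun σ => by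
          haveI : Subsingleton (Ext O S.X₁ 1) := by
            obtain ⟨e⟩ := nonempty_ext_structure (k := k) S.X₁
            exact @Equiv.subsingleton _ _ e.toEquiv (subsingleton_HH_sum e₁ (b := 0) (c := -2)
              (by norm_num) (by omega) (by omega))
          obtain ⟨x, hx⟩ := Ext.covariant_sequence_exact₃ (X := O) hS (Ext.mk₀ σ) (zero_add 1)
            (Subsingleton.elim _ _)
          obtain ⟨τ, rfl⟩ := (Ext.mk₀_bijective _ _).2 x
          rw [Ext.mk₀_comp_mk₀] at hx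
          exact ⟨τ, (Ext.mk₀_bijective _ _).1 hx⟩
        obtain ⟨τ, hτ⟩ := hlift (φ ≫ e₃.inv)
        exact ⟨τ ≫ e₂.hom, by simp [g, reassoc_of% hτ]⟩
      obtain ⟨c, hc⟩ := sO (τ ≫ biprod.snd)
      have : τ = (∑ i, c i • Sigma.ι (fun _ : Fin α₃ => O) i) ≫ biprod.inr := by
        apply biprod.hom_ext
        · rw [zO (τ ≫ biprod.fst)]; simp
        · rw [hc]; simp
      rw [← hτ, this, Preadditive.sum_comp, Preadditive.sum_comp]
      refine Submodule.sum_mem _ fun i _ => ?_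
      rw [Linear.smul_comp, Linear.smul_comp, Category.assoc]
      exact Submodule.smul_mem _ _ (Submodule.subset_span ⟨i, rfl⟩)
    have hli : LinearIndependent k s := by
      refine Fintype.linearIndependent_iff.2 fun c hc i => ?_
      have hz0 := hOE ((∑ i, c i • Sigma.ι (fun _ : Fin α₃ => O) i) ≫ biprod.inr) (by
        rw [← hc]; simp [Preadditive.sum_comp, Linear.smul_comp, s])
      exact coeff_eq_zero c ((cancel_mono biprod.inr).1 (hz0.trans zero_comp.symm)) i
    let B := Module.Basis.mk hli hspan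
    show Function.Injective μ
    refine (injective_iff_map_eq_zero μ).2 fun x hx => ?_
    obtain ⟨ψ, rfl⟩ := exists_tensor_basis B x
    have hsum : μ (∑ i, ψ i ⊗ₜ[k] B i) =
        ((∑ i, ψ i ≫ Sigma.ι (fun _ : Fin α₃ => O) i) ≫ biprod.inr) ≫ g := by
      simp only [μ, map_sum, TensorProduct.lift.tmul, Preadditive.sum_comp, Category.assoc, B,
        Module.Basis.mk_apply, s]
      rfl
    rw [hsum] at hx
    have h0 := (cancel_mono biprod.inr).1 ((hker (by norm_num) _ hx).trans zero_comp.symm)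
    refine Finset.sum_eq_zero fun i _ => ?_
    rw [comp_coeff_eq_zero ψ h0 i, TensorProduct.zero_tmul]
  · rintro ⟨hm0, hm2, h01, h02, hp1, hp2, hinj⟩
    have hinj' : Function.Injective μ := hinj
    haveI : Module.Finite k (Coh.HH (CohB1.ProjSpace 2 k) (fT F 1) 0) :=
      finite_HH' (Groth.Variety2.Reg.isCoh_fT F hF 1) 0
    haveI : Module.Finite k (Coh.HH (CohB1.ProjSpace 2 k) (fT F (-0)) 0) :=
      finite_HH' (Groth.Variety2.Reg.isCoh_fT F hF _) 0
    obtain ⟨eH⟩ := nonempty_hom_twist (0 : ℤ) F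
    haveI : Module.Finite k (O ⟶ F) :=
      Module.Finite.equiv (eH.symm.trans (Linear.homCongr k eO (Iso.refl F)))
    obtain ⟨eH1⟩ := nonempty_hom_twist (-1 : ℤ) F
    haveI : Module.Finite k (Coh.HH (CohB1.ProjSpace 2 k) (fT F (- -1)) 0) :=
      finite_HH' (Groth.Variety2.Reg.isCoh_fT F hF _) 0
    haveI : Module.Finite k (Om1 ⟶ F) := Module.Finite.equiv eH1.symm
    obtain ⟨W, hW⟩ := (LinearMap.range μ).exists_isCompl
    let B := Module.finBasis k (O ⟶ F)
    let C := Module.finBasis k W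
    let α₂ := Module.finrank k W
    let α₃ := Module.finrank k (O ⟶ F)
    let E := (∐ fun _ : Fin α₂ => Om1) ⊞ (∐ fun _ : Fin α₃ => O)
    let g : E ⟶ F := biprod.desc (Sigma.desc fun j => ((C j : W) : Om1 ⟶ F)) (Sigma.desc fun i => B i)
    have gl : ∀ c : Fin α₂ → k, ((∑ j, c j • Sigma.ι (fun _ : Fin α₂ => Om1) j) ≫ biprod.inl) ≫ g =
        ∑ j, c j • ((C j : W) : Om1 ⟶ F) := fun c => by
      simp [g, E, Preadditive.sum_comp, Linear.smul_comp]
    have gr : ∀ {A : (CohB1.ProjSpace 2 k).Modules} (ψ : Fin α₃ → (A ⟶ O)),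
        ((∑ i, ψ i ≫ Sigma.ι (fun _ : Fin α₃ => O) i) ≫ biprod.inr) ≫ g = ∑ i, ψ i ≫ B i :=
      fun {A} ψ => by simp [g, E, Preadditive.sum_comp]
    have gr' : ∀ c : Fin α₃ → k, ((∑ i, c i • Sigma.ι (fun _ : Fin α₃ => O) i) ≫ biprod.inr) ≫ g =
        ∑ i, c i • B i := fun c => by simp [g, E, Preadditive.sum_comp, Linear.smul_comp]
    -- morphisms into the middle term
    have surjO : ∀ σ : O ⟶ F, ∃ τ : O ⟶ E, τ ≫ g = σ := fun σ =>
      ⟨_, (gr' (fun i => B.repr σ i)).trans (B.sum_repr σ)⟩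
    have injO : ∀ τ : O ⟶ E, τ ≫ g = 0 → τ = 0 := fun τ hτ => by
      obtain ⟨c, hc⟩ := sO (τ ≫ biprod.snd)
      have e : τ = (∑ i, c i • Sigma.ι (fun _ : Fin α₃ => O) i) ≫ biprod.inr := by
        apply biprod.hom_ext
        · rw [zO (τ ≫ biprod.fst)]; simp
        · rw [hc]; simp
      rw [e, gr'] at hτ
      have hc0 : ∀ i, c i = 0 := Fintype.linearIndependent_iff.1 B.linearIndependent c hτ
      rw [e]; simp [hc0]
    have μsum : ∀ ψ : Fin α₃ → (Om1 ⟶ O), μ (∑ i, ψ i ⊗ₜ[k] B i) = ∑ i, ψ i ≫ B i := fun ψ => by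
      simp only [μ, map_sum, TensorProduct.lift.tmul]
      rfl
    have surjM : ∀ σ : Om1 ⟶ F, ∃ τ : Om1 ⟶ E, τ ≫ g = σ := fun σ => by
      obtain ⟨_, ⟨x, rfl⟩, w, hw, rfl⟩ :=
        Submodule.mem_sup.1 (hW.sup_eq_top.ge (Submodule.mem_top : σ ∈ ⊤))
      obtain ⟨ψ, rfl⟩ := exists_tensor_basis B x
      refine ⟨(∑ j, (C.repr ⟨w, hw⟩ j) • Sigma.ι (fun _ : Fin α₂ => Om1) j) ≫ biprod.inl +
        (∑ i, ψ i ≫ Sigma.ι (fun _ : Fin α₃ => O) i) ≫ biprod.inr, ?_⟩
      rw [Preadditive.add_comp, gl, gr, μsum, add_comm]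
      refine congrArg (_ + ·) ?_
      have h := congrArg Subtype.val (C.sum_repr ⟨w, hw⟩)
      simpa only [Submodule.coe_sum, Submodule.coe_smul] using h
    have injM : ∀ τ : Om1 ⟶ E, τ ≫ g = 0 → τ = 0 := fun τ hτ => by
      obtain ⟨c, ψ, rfl⟩ := sM τ
      rw [Preadditive.add_comp, gl, gr, ← μsum] at hτ
      have hcW : (∑ j, c j • ((C j : W) : Om1 ⟶ F)) ∈ W :=
        W.sum_mem fun j _ => W.smul_mem _ (C j).2
      have hcR : (∑ j, c j • ((C j : W) : Om1 ⟶ F)) ∈ LinearMap.range μ :=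
        ⟨-(∑ i, ψ i ⊗ₜ[k] B i), by rw [map_neg, eq_neg_of_add_eq_zero_left hτ]⟩
      have h0 := Submodule.disjoint_def.1 hW.disjoint _ hcR hcW
      rw [h0, zero_add] at hτ
      have hψ : ∀ i, ψ i = 0 := tensor_basis_eq_zero B ψ (hinj' (hτ.trans (map_zero μ).symm))
      have hc : ∀ j, c j = 0 := Fintype.linearIndependent_iff.1 C.linearIndependent c
        (Subtype.ext (by simpa using h0))
      simp [hψ, hc]
    -- the map is an epimorphism
    have hregF : Curv2.IsMRegular k 2 F 1 := fun i hi hi2 => by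
      rcases (show i = 1 ∨ i = 2 by omega) with rfl | rfl
      · exact @Equiv.subsingleton _ _
          (EulerDeg.hEquiv k (Groth.Variety2.Reg.nonempty_fT_zero F).some 1).toEquiv h01
      · exact hm2
    haveI hgepi : Epi g := epi_of_lifts hF g hregF surjM
    -- the kernel
    have hE : ∀ (b : ℤ) (q : ℕ) (hb : ¬ (q = 0 ∧ 0 ≤ b) ∧ ¬ (q = 2 ∧ b ≤ -2)),
        Subsingleton (Coh.HH _ ((T 2 k b).obj E) q) :=
      fun b q hb => subsingleton_HH_biprod b q
        (subsingleton_HH_sum (Iso.refl _) (b := b) (c := -1 + b) rfl (by omega) (by omega))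
        (subsingleton_HH_sum (Sigma.mapIso fun _ : Fin α₃ => eO.symm) (b := b) (c := 0 + b) rfl
          (by omega) (by omega))
    let K := kernel g
    let S : ShortComplex (CohB1.ProjSpace 2 k).Modules :=
      ShortComplex.mk (kernel.ι g) g (kernel.condition g)
    have hS : S.ShortExact := { exact := ShortComplex.exact_of_f_is_kernel _ (kernelIsKernel g) }
    have hEc : Coh.IsCoh E := Groth.QCohMod.isCoh_biprod (isCoh_sigma_tw _ _)
      (isCoh_of_iso_sigma (Sigma.mapIso fun _ : Fin α₃ => eO.symm))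
    have hKc : Coh.IsCoh K := Groth.QCohMod.isCoh_kernel g hEc
    haveI := hKc.1
    have hz : ∀ q, Subsingleton (Coh.HH _ F q) → Subsingleton (Coh.HH _ (fT F 0) q) := fun q h =>
      @Equiv.subsingleton _ _ (EulerDeg.hEquiv k (Groth.Variety2.Reg.nonempty_fT_zero F).some q).toEquiv h
    have sK : ∀ (b : ℤ) (q : ℕ), Subsingleton (Coh.HH _ (fT F b) q) → ¬ (q + 1 = 2 ∧ b ≤ -2) →
        Subsingleton (Coh.HH _ (fT K b) (q + 1)) := fun b q h hb =>
      subsingleton_mid (EulerDeg.exact_left k (Groth.Variety2.Reg.shortExact_fT hS b) q) h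
        (hE b (q + 1) ⟨by omega, hb⟩)
    have sK1 : ∀ (b : ℤ), -1 ≤ b →
        (∀ σ : tw 2 k (-b) ⟶ F, ∃ τ, τ ≫ g = σ) → Subsingleton (Coh.HH _ (fT K b) 1) := by
      intro b hb hl
      have hsur := surjective_hMap_zero (k := k) ((T 2 k b).map g)
        (exists_lift_twist g (neg_add_cancel b) hl)
      refine subsingleton_of_forall_eq 0 fun x => ?_
      obtain ⟨y, rfl⟩ := ((EulerDeg.exact_left k (Groth.Variety2.Reg.shortExact_fT hS b) 0) x).1
        (@Subsingleton.elim _ (hE b 1 ⟨by omega, by omega⟩) _ _)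
      obtain ⟨z, rfl⟩ := hsur y
      exact ((EulerDeg.exact_right k (Groth.Variety2.Reg.shortExact_fT hS b) 0) _).2 ⟨z, rfl⟩
    have hK11 : Subsingleton (Coh.HH _ (fT K 1) 1) := sK1 1 (by norm_num) surjM
    have hK01 : Subsingleton (Coh.HH _ (fT K 0) 1) := sK1 0 (by norm_num) fun σ => by
      obtain ⟨τ, hτ⟩ := surjO (eO.inv ≫ σ)
      exact ⟨eO.hom ≫ τ, by rw [Category.assoc, hτ, Iso.hom_inv_id_assoc]⟩
    have hK02 : Subsingleton (Coh.HH _ (fT K 0) 2) := sK 0 1 (hz 1 h01) (by omega)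
    have hK12 : Subsingleton (Coh.HH _ (fT K 1) 2) := sK 1 1 hp1 (by omega)
    have zK0 : ∀ σ : tw 2 k 0 ⟶ K, σ = 0 := fun σ => by
      rw [← cancel_mono (kernel.ι g), zero_comp, ← cancel_epi eO.inv, comp_zero]
      exact injO _ (by simp)
    have zK1 : ∀ σ : Om1 ⟶ K, σ = 0 := fun σ => by
      rw [← cancel_mono (kernel.ι g), zero_comp]
      exact injM _ (by simp)
    have hregK : Curv2.IsMRegular k 2 K 2 := fun i hi hi2 => by
      rcases (show i = 1 ∨ i = 2 by omega) with rfl | rfl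
      · exact hK11
      · exact hK02
    haveI : Module.Finite k (Coh.HH (CohB1.ProjSpace 2 k) (fT K (- -2)) 0) :=
      finite_HH' (Groth.Variety2.Reg.isCoh_fT K hKc _) 0
    obtain ⟨eH2⟩ := nonempty_hom_twist (-2 : ℤ) K
    haveI : Module.Finite k (tw 2 k (-2) ⟶ K) := Module.Finite.equiv eH2.symm
    let D := Module.finBasis k (tw 2 k (-2) ⟶ K)
    let α₁ := Module.finrank k (tw 2 k (-2) ⟶ K)
    let h : (∐ fun _ : Fin α₁ => tw 2 k (-2)) ⟶ K := Sigma.desc fun i => D i
    have hh : ∀ c : Fin α₁ → k,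
        (∑ i, c i • Sigma.ι (fun _ : Fin α₁ => tw 2 k (-2)) i) ≫ h = ∑ i, c i • D i := fun c => by
      simp [h, Preadditive.sum_comp, Linear.smul_comp]
    haveI hhepi : Epi h := epi_of_lifts hKc h hregK fun σ =>
      ⟨_, (hh fun i => D.repr σ i).trans (D.sum_repr σ)⟩
    let M := kernel h
    let S' : ShortComplex (CohB1.ProjSpace 2 k).Modules :=
      ShortComplex.mk (kernel.ι h) h (kernel.condition h)
    have hS' : S'.ShortExact := { exact := ShortComplex.exact_of_f_is_kernel _ (kernelIsKernel h) }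
    have hMc : Coh.IsCoh M := Groth.QCohMod.isCoh_kernel h (isCoh_sigma_tw _ _)
    haveI := hMc.1
    have hM2 : Subsingleton (Coh.HH _ (fT M 0) 2) :=
      subsingleton_mid (EulerDeg.exact_left k (Groth.Variety2.Reg.shortExact_fT hS' 0) 1) hK01
        (subsingleton_HH_sum (Iso.refl _) (b := 0) (c := -2) (by norm_num) (by omega) (by omega))
    have hM1 : Subsingleton (Coh.HH _ (fT M 1) 1) :=
      subsingleton_mid (EulerDeg.exact_left k (Groth.Variety2.Reg.shortExact_fT hS' 1) 0)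
        (subsingleton_h0_twist (k := k) (by norm_num : (-1 : ℤ) + 1 = 0) zK1)
        (subsingleton_HH_sum (Iso.refl _) (b := 1) (c := -1) (by norm_num) (by omega) (by omega))
    have hregM : Curv2.IsMRegular k 2 M 2 := fun i hi hi2 => by
      rcases (show i = 1 ∨ i = 2 by omega) with rfl | rfl
      · exact hM1
      · exact hM2
    have zM : ∀ σ : tw 2 k (-2) ⟶ M, σ = 0 := fun σ => by
      obtain ⟨c, hc⟩ := hom_sigma_eq h1 (σ ≫ kernel.ι h)
      have hz' : ∑ i, c i • D i = 0 := by rw [← hh, ← hc]; simp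
      rw [← cancel_mono (kernel.ι h), zero_comp, hc]
      simp [Fintype.linearIndependent_iff.1 D.linearIndependent c hz']
    have hM0 : IsZero M := by
      have : Epi (0 : (kernel (𝟙 M)) ⟶ M) :=
        epi_of_lifts hMc _ hregM fun σ => ⟨0, by rw [zM σ]; simp⟩
      exact IsZero.of_epi_eq_zero (0 : (kernel (𝟙 M)) ⟶ M) rfl
    haveI : Mono h := Preadditive.mono_of_kernel_zero (hM0.eq_of_src _ _)
    haveI : IsIso h := isIso_of_mono_of_epi h
    exact ⟨α₁, α₂, α₃, S, hS, ⟨(asIso h).symm⟩, ⟨Iso.refl _⟩, ⟨Iso.refl _⟩⟩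

end Groth.Agent.S17488
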