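import Groth.Statements.S17489
import Groth.Agent.CohTwo.Degeneracy.Gaeta

set_option autoImplicit false
universe u
open CategoryTheory CategoryTheory.Limits AlgebraicGeometry
open Coherent

namespace Groth.Agent.S17489

/-- Let k be an algebraically closed field of characteristic zero and P = P²_k with its line bundles
O(m). Fix natural numbers α₁, α₂, α₃ and consider morphisms φ : O(-2)^{α₁} → O(-1)^{α₂} ⊕ O^{α₃}
(candidate Gaeta resolutions for the sequence (O(-2), O(-1), O)), which form a finite-dimensional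
k-vector space; 'for general φ' means: for all φ at which some fixed nonzero polynomial in linear
coordinates on that space does not vanish. If r = α₂ + α₃ - α₁ ≥ 2, then for general φ the map φ is
a monomorphism and its cokernel F_φ is finite locally free of rank r. -/
theorem result
    (k : Type u) [Field k] [IsAlgClosed k] [CharZero k] (α₁ α₂ α₃ : ℕ) (hr : α₁ + 2 ≤ α₂ + α₃) :
    letI P := CohB1.ProjSpace 2 k
    letI A : P.Modules := ∐ fun _ : Fin α₁ => Twist.twistProjSpace 2 k (-2)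
    letI B : P.Modules := (∐ fun _ : Fin α₂ => Twist.twistProjSpace 2 k (-1)) ⊞ (∐ fun _ : Fin α₃ => Coh.structureModule P)
    ∃ (m : ℕ) (c : (A ⟶ B) ≃ₗ[k] (Fin m → k)) (p : MvPolynomial (Fin m) k), p ≠ 0 ∧
      ∀ φ : A ⟶ B, MvPolynomial.eval (c φ) p ≠ 0 →
        Mono φ ∧ FlatMod.IsFinLocFreeOfRank (α₂ + α₃ - α₁) (cokernel φ) := by
  classical
  let P := CohB1.ProjSpace 2 k
  haveI : IsIntegral P := Groth.SerreH0.isIntegral_projSpace 2 k
  haveI : Smooth (P ↘ Spec (CommRingCat.of k)) := Groth.Duality.Pn.smooth_toSpec 2 k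
  haveI : IsProper (P ↘ Spec (CommRingCat.of k)) := Groth.Variety2.isProper_projSpace_toSpec 2 k
  haveI := Groth.EulerDeg.isNoetherian_of_proper k P
  obtain ⟨hA, hB, hch⟩ := Groth.CohTwo.Degeneracy.Gaeta.exists_charts k α₁ α₂ α₃
  have hcA := Groth.KTheory.LocFree.isCoh (Groth.LocFree.isFinLocFree_of_rank hA)
  have hcB := Groth.KTheory.LocFree.isCoh (Groth.LocFree.isFinLocFree_of_rank hB)
  haveI := Groth.VBCurves.KS.finite_hom k hcA hcB
  let c := (Module.finBasis k (Groth.CohTwo.Degeneracy.Gaeta.src k α₁ ⟶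
    Groth.CohTwo.Degeneracy.Gaeta.tgt k α₂ α₃)).equivFun
  choose a b hspan using hch
  have key : ∀ i : Groth.PnCoh.Idx.{u} 2, ∃ p : MvPolynomial (Fin _) k, p ≠ 0 ∧ ∀ φ, MvPolynomial.eval (c φ) p ≠ 0 →
      Groth.CohTwo.Degeneracy.minorIdeal α₁
        (LinearMap.toMatrix (a i) (b i) (Groth.QCohMod.appₗ φ (Groth.PnCoh.stdOpen 2 k i))) = ⊤ := by
    intro i
    by_cases hne : Nonempty (Groth.PnCoh.stdOpen 2 k i)
    · refine Groth.CohTwo.Degeneracy.chart_fullRank k 2 Groth.Variety2.PSpace.dim_projSpace c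
        ⟨_, Groth.CohTwo.Degeneracy.Gaeta.isAffineOpen_stdOpen i⟩ (a i) (b i) (hspan i) fun r hr' => ?_
      calc 2 < α₂ + α₃ - r := by omega
        _ ≤ (α₁ - r) * (α₂ + α₃ - r) := Nat.le_mul_of_pos_left _ (by omega)
    · refine ⟨1, one_ne_zero, fun φ _ => ?_⟩
      haveI : Subsingleton Γ(P, Groth.PnCoh.stdOpen 2 k i) := by
        have : Groth.PnCoh.stdOpen 2 k i = ⊥ := by
          ext x
          exact ⟨fun hx => (hne ⟨⟨x, hx⟩⟩).elim, fun hx => hx.elim⟩
        rw [this]; infer_instance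
      exact Subsingleton.elim _ _
  choose p hp hgood using key
  refine ⟨_, c, ∏ i, p i, Finset.prod_ne_zero_iff.2 fun i _ => hp i, fun φ hφ => ?_⟩
  rw [map_prod, Finset.prod_ne_zero_iff] at hφ
  refine Groth.CohTwo.Degeneracy.mono_and_locFree_cokernel (by omega) hcA hcB φ fun x => ?_
  obtain ⟨i, hi⟩ := TopologicalSpace.Opens.mem_iSup.1
    ((Groth.Duality.Pn.iSup_stdOpen (n := 2) (R := k)).ge (Set.mem_univ x))
  exact ⟨⟨_, Groth.CohTwo.Degeneracy.Gaeta.isAffineOpen_stdOpen i⟩, a i, b i, hi, hgood i φ (hφ i (Finset.mem_univ _))⟩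

end Groth.Agent.S17489
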