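import Groth.Statements.S17490
import Groth.Agent.CohTwo.Degeneracy.Gaeta
import Groth.Agent.CohTwo.Degeneracy.HilbertBurch

set_option autoImplicit false
universe u
open CategoryTheory CategoryTheory.Limits AlgebraicGeometry
open Coherent

namespace Groth.Agent.S17490

/-- Let k be an algebraically closed field of characteristic zero and P = P²_k with its line bundles
O(m). Fix natural numbers α₁, α₂, α₃ and consider morphisms φ : O(-2)^{α₁} → O(-1)^{α₂} ⊕ O^{α₃}
(candidate Gaeta resolutions for the sequence (O(-2), O(-1), O)), which form a finite-dimensional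
k-vector space; 'for general φ' means: for all φ at which some fixed nonzero polynomial in linear
coordinates on that space does not vanish. If r = α₂ + α₃ - α₁ = 1, then for general φ the map φ is
a monomorphism and its cokernel F_φ is torsion-free: a nonzero coherent O_P-module pure of dimension
two. -/
theorem result
    (k : Type u) [Field k] [IsAlgClosed k] [CharZero k] (α₁ α₂ α₃ : ℕ) (hr : α₂ + α₃ = α₁ + 1) :
    letI P := CohB1.ProjSpace 2 k
    letI A : P.Modules := ∐ fun _ : Fin α₁ => Twist.twistProjSpace 2 k (-2)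
    letI B : P.Modules := (∐ fun _ : Fin α₂ => Twist.twistProjSpace 2 k (-1)) ⊞ (∐ fun _ : Fin α₃ => Coh.structureModule P)
    ∃ (m : ℕ) (c : (A ⟶ B) ≃ₗ[k] (Fin m → k)) (p : MvPolynomial (Fin m) k), p ≠ 0 ∧
      ∀ φ : A ⟶ B, MvPolynomial.eval (c φ) p ≠ 0 →
        Mono φ ∧ Coh.IsCoh (cokernel φ) ∧ ¬ IsZero (cokernel φ) ∧ ShStab.IsPure P (cokernel φ) 2 := by
  classical
  let P := CohB1.ProjSpace 2 k
  haveI : IsIntegral P := Groth.SerreH0.isIntegral_projSpace 2 k
  haveI : Smooth (P ↘ Spec (CommRingCat.of k)) := Groth.Duality.Pn.smooth_toSpec 2 k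
  haveI : IsProper (P ↘ Spec (CommRingCat.of k)) := Groth.Variety2.isProper_projSpace_toSpec 2 k
  haveI := Groth.EulerDeg.isNoetherian_of_proper k P
  obtain ⟨hA, hB, hch⟩ := Groth.CohTwo.Degeneracy.Gaeta.exists_charts k α₁ α₂ α₃
  have hcA := Groth.KTheory.LocFree.isCoh (Groth.LocFree.isFinLocFree_of_rank hA)
  have hcB := Groth.KTheory.LocFree.isCoh (Groth.LocFree.isFinLocFree_of_rank hB)
  haveI := hcA.1
  haveI := hcB.1
  haveI := Groth.VBCurves.KS.finite_hom k hcA hcB
  let c := (Module.finBasis k (Groth.CohTwo.Degeneracy.Gaeta.src k α₁ ⟶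
    Groth.CohTwo.Degeneracy.Gaeta.tgt k α₂ α₃)).equivFun
  let St := fun i : Groth.PnCoh.Idx.{u} 2 => Groth.PnCoh.stdOpen 2 k i
  have hcov : ∀ x : P, ∃ i, x ∈ St i := fun x => TopologicalSpace.Opens.mem_iSup.1
    ((Groth.Duality.Pn.iSup_stdOpen (n := 2) (R := k)).ge (Set.mem_univ x))
  choose a b' hspan using hch
  let b := fun i => (b' i).reindex (finCongr hr)
  have hdim : topologicalKrullDim P = (2 : ℕ) := Groth.Variety2.PSpace.dim_projSpace
  have key : ∀ i, ∃ p : MvPolynomial (Fin _) k, p ≠ 0 ∧ ∀ φ, MvPolynomial.eval (c φ) p ≠ 0 →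
      Nonempty (St i) → ∀ Q : Ideal Γ(P, St i), Q.IsPrime → Q.height ≤ 1 →
        ¬ Groth.CohTwo.Degeneracy.minorIdeal α₁
          (LinearMap.toMatrix (a i) (b i) (Groth.QCohMod.appₗ φ (St i))) ≤ Q := by
    intro i
    by_cases hne : Nonempty (St i)
    · obtain ⟨p, hp, h⟩ := Groth.CohTwo.Degeneracy.chart_codimTwo k hdim c
        ⟨_, Groth.CohTwo.Degeneracy.Gaeta.isAffineOpen_stdOpen i⟩ (a i) (b i) (hspan i)
      exact ⟨p, hp, fun φ hφ _ => h φ hφ⟩
    · exact ⟨1, one_ne_zero, fun φ _ h => absurd h hne⟩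
  choose p hp hgood using key
  refine ⟨_, c, ∏ i, p i, Finset.prod_ne_zero_iff.2 fun i _ => hp i, fun φ hφ => ?_⟩
  rw [map_prod, Finset.prod_ne_zero_iff] at hφ
  have hc : Coh.IsCoh (cokernel φ) := Groth.QCohMod.isCoh_cokernel φ hcB
  haveI := hc.1
  have hgood' := fun i (hne : Nonempty (St i)) => hgood i φ (hφ i (Finset.mem_univ _)) hne
  have hnormal : ∀ i, Nonempty (St i) → IsIntegrallyClosed Γ(P, St i) := fun i hne =>
    haveI := hne
    letI : Algebra k Γ(P, St i) := (Groth.CohTwo.Degeneracy.scalarRes k P (St i)).toAlgebra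
    haveI : Algebra.Smooth k Γ(P, St i) := RingHom.smooth_algebraMap.1
      (Groth.CohTwo.Degeneracy.smooth_scalarRes k (Groth.CohTwo.Degeneracy.Gaeta.isAffineOpen_stdOpen i))
    Groth.CohTwo.Degeneracy.isIntegrallyClosed_of_smooth k Γ(P, St i)
  refine ⟨Groth.CohTwo.Degeneracy.mono_of_affine_cover φ fun x => ?_, hc, fun hz => ?_,
    Groth.HilbStab.isPure_of_isTorsionFree (Groth.CohTwo.Degeneracy.isTorsionFree_of_affine_cover fun x => ?_) hdim⟩
  · obtain ⟨i, hi⟩ := hcov x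
    haveI : Nonempty (St i) := ⟨⟨x, hi⟩⟩
    refine ⟨⟨St i, Groth.CohTwo.Degeneracy.Gaeta.isAffineOpen_stdOpen i⟩, hi, ?_⟩
    refine (injective_iff_map_eq_zero _).2 fun v hv => ?_
    have hne : Groth.CohTwo.Degeneracy.minorIdeal α₁
        (LinearMap.toMatrix (a i) (b i) (Groth.QCohMod.appₗ φ (St i))) ≠ ⊥ := fun h0 =>
      hgood' i ⟨⟨x, hi⟩⟩ ⊥ Ideal.isPrime_bot (by simp) h0.le
    obtain ⟨d, hd, hd0⟩ := (Submodule.ne_bot_iff _).1 hne
    have h1 : Matrix.mulVec (LinearMap.toMatrix (a i) (b i) (Groth.QCohMod.appₗ φ (St i))) ⇑((a i).repr v) = 0 := by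
      rw [LinearMap.toMatrix_mulVec_repr, hv, map_zero]; rfl
    have h2 := Groth.CohTwo.Degeneracy.mulVec_eq_zero_of_minorIdeal _ h1 hd
    apply (a i).repr.injective
    rw [map_zero]
    ext j
    exact (mul_eq_zero.1 (congrFun h2 j)).resolve_left hd0
  · obtain ⟨x⟩ := (inferInstance : Nonempty P)
    obtain ⟨i, hi⟩ := hcov x
    haveI : Nonempty (St i) := ⟨⟨x, hi⟩⟩
    have hU := Groth.CohTwo.Degeneracy.Gaeta.isAffineOpen_stdOpen (n := 2) (k := k) i
    have hsurj : Function.Surjective (Groth.QCohMod.appₗ φ (St i)) := fun y => by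
      refine Groth.QCohMod.exists_app_eq_of_exact
        (S := ShortComplex.mk φ (cokernel.π φ) (cokernel.condition φ))
        (ShortComplex.exact_of_g_is_cokernel _ (cokernelIsCokernel φ)) hU y ?_
      exact congr(($(hz.eq_of_tgt (cokernel.π φ) 0)).app (St i) y)
    haveI := Module.Free.of_basis (a i)
    haveI := Module.Finite.of_basis (a i)
    have h := LinearMap.finrank_le_finrank_of_surjective hsurj
    rw [Module.finrank_eq_card_basis (a i), Module.finrank_eq_card_basis (b i)] at h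
    simp at h
  · obtain ⟨i, hi⟩ := hcov x
    haveI : Nonempty (St i) := ⟨⟨x, hi⟩⟩
    haveI := hnormal i ⟨⟨x, hi⟩⟩
    exact ⟨⟨St i, Groth.CohTwo.Degeneracy.Gaeta.isAffineOpen_stdOpen i⟩, hi,
      fun s m => Groth.CohTwo.Degeneracy.torsionFree_sections hcA hcB φ
        ⟨St i, Groth.CohTwo.Degeneracy.Gaeta.isAffineOpen_stdOpen i⟩ (a i) (b i) (hgood' i ⟨⟨x, hi⟩⟩) s m⟩

end Groth.Agent.S17490
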