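import Groth.Statements.S17491
import Groth.Agent.CohTwo.Degeneracy.Gaeta
import Groth.Agent.CohTwo.Degeneracy.Surjective

set_option autoImplicit false
universe u
open CategoryTheory CategoryTheory.Limits AlgebraicGeometry
open Coherent

namespace Groth.Agent.S17491

/-- Let k be an algebraically closed field of characteristic zero and P = P²_k with its line bundles
O(m). Fix natural numbers α₁, α₂, α₃ and consider morphisms φ : O(-2)^{α₁} → O(-1)^{α₂} ⊕ O^{α₃}
(candidate Gaeta resolutions for the sequence (O(-2), O(-1), O)), which form a finite-dimensional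
k-vector space; 'for general φ' means: for all φ at which some fixed nonzero polynomial in linear
coordinates on that space does not vanish. If r = α₂ + α₃ - α₁ ≥ 0 and α₃ ≥ r + 2 (equivalently α₂ +
2 ≤ α₁ ≤ α₂ + α₃), then for general φ the map φ is a monomorphism and its cokernel F_φ is globally
generated. -/
theorem result
    (k : Type u) [Field k] [IsAlgClosed k] [CharZero k] (α₁ α₂ α₃ : ℕ) (hr : α₁ ≤ α₂ + α₃) (h₃ : α₂ + 2 ≤ α₁) :
    letI P := CohB1.ProjSpace 2 k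
    letI A : P.Modules := ∐ fun _ : Fin α₁ => Twist.twistProjSpace 2 k (-2)
    letI B : P.Modules := (∐ fun _ : Fin α₂ => Twist.twistProjSpace 2 k (-1)) ⊞ (∐ fun _ : Fin α₃ => Coh.structureModule P)
    ∃ (m : ℕ) (c : (A ⟶ B) ≃ₗ[k] (Fin m → k)) (p : MvPolynomial (Fin m) k), p ≠ 0 ∧
      ∀ φ : A ⟶ B, MvPolynomial.eval (c φ) p ≠ 0 →
        Mono φ ∧ Curv2.IsGloballyGenerated (cokernel φ) := by
  classical
  let P := CohB1.ProjSpace 2 k
  haveI : IsIntegral P := Groth.SerreH0.isIntegral_projSpace 2 k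
  haveI : Smooth (P ↘ Spec (CommRingCat.of k)) := Groth.Duality.Pn.smooth_toSpec 2 k
  haveI : IsProper (P ↘ Spec (CommRingCat.of k)) := Groth.Variety2.isProper_projSpace_toSpec 2 k
  haveI := Groth.EulerDeg.isNoetherian_of_proper k P
  obtain ⟨hA, hB, hch⟩ := Groth.CohTwo.Degeneracy.Gaeta.exists_charts k α₁ α₂ α₃
  obtain ⟨dA⟩ := Groth.CohTwo.Degeneracy.nonempty_splitting_sigma (fun _ : Fin α₁ => Twist.twistProjSpace 2 k (-2))
  obtain ⟨d₂⟩ := Groth.CohTwo.Degeneracy.nonempty_splitting_sigma (fun _ : Fin α₂ => Twist.twistProjSpace 2 k (-1))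
  let St := fun i : Groth.PnCoh.Idx.{u} 2 => Groth.PnCoh.stdOpen 2 k i
  have hcov : ∀ x : P, ∃ i, x ∈ St i := fun x => TopologicalSpace.Opens.mem_iSup.1
    ((Groth.Duality.Pn.iSup_stdOpen (n := 2) (R := k)).ge (Set.mem_univ x))
  have h₂ : FlatMod.IsFinLocFreeOfRank α₂ (∐ fun _ : Fin α₂ => Twist.twistProjSpace 2 k (-1)) :=
    Groth.CohTwo.Degeneracy.Gaeta.isFinLocFreeOfRank_of_splitting d₂ fun x => by
      obtain ⟨i, hi⟩ := hcov x
      exact ⟨St i, fun _ => Groth.Duality.Pn.chartGen (-1) i, hi, fun _ => Groth.Duality.Pn.gen_chartGen (-1) i⟩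
  have hcA := Groth.KTheory.LocFree.isCoh (Groth.LocFree.isFinLocFree_of_rank hA)
  have hcB := Groth.KTheory.LocFree.isCoh (Groth.LocFree.isFinLocFree_of_rank hB)
  have hc₂ := Groth.KTheory.LocFree.isCoh (Groth.LocFree.isFinLocFree_of_rank h₂)
  haveI := hcA.1
  haveI := hcB.1
  haveI := hc₂.1
  haveI := Groth.VBCurves.KS.finite_hom k hcA hcB
  haveI := Groth.VBCurves.KS.finite_hom k hcA hc₂
  let c := (Module.finBasis k (Groth.CohTwo.Degeneracy.Gaeta.src k α₁ ⟶
    Groth.CohTwo.Degeneracy.Gaeta.tgt k α₂ α₃)).equivFun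
  let c' := (Module.finBasis k (Groth.CohTwo.Degeneracy.Gaeta.src k α₁ ⟶
    ∐ fun _ : Fin α₂ => Twist.twistProjSpace 2 k (-1))).equivFun
  let L := c'.toLinearMap.comp
    ((CategoryTheory.Linear.rightComp k (Groth.CohTwo.Degeneracy.Gaeta.src k α₁) biprod.fst).comp c.symm.toLinearMap)
  have hL : Function.Surjective L := fun w =>
    ⟨c (c'.symm w ≫ biprod.inl), by simp [L]⟩
  choose a b hspan using hch
  have hdim : topologicalKrullDim P = (2 : ℕ) := Groth.Variety2.PSpace.dim_projSpace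
  have hbig : ∀ r < α₂, 2 < (α₂ - r) * (α₁ - r) := fun r hr' =>
    lt_of_lt_of_le (show 2 < α₁ - r by omega) (Nat.le_mul_of_pos_left _ (by omega))
  have key : ∀ i, ∃ p : MvPolynomial (Fin _) k, p ≠ 0 ∧ ∀ φ, MvPolynomial.eval (c φ) p ≠ 0 →
      Nonempty (St i) → Function.Injective (Groth.QCohMod.appₗ φ (St i)) ∧
        Function.Surjective (Groth.QCohMod.appₗ (φ ≫ biprod.fst) (St i)) := by
    intro i
    by_cases hne : Nonempty (St i)
    · obtain ⟨p, hp, h⟩ := Groth.CohTwo.Degeneracy.chart_injective k 2 hdim c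
        ⟨_, Groth.CohTwo.Degeneracy.Gaeta.isAffineOpen_stdOpen i⟩ (a i) (b i) (hspan i) hr
      obtain ⟨p', hp', h'⟩ := Groth.CohTwo.Degeneracy.chart_surjective k 2 hdim c'
        ⟨_, Groth.CohTwo.Degeneracy.Gaeta.isAffineOpen_stdOpen i⟩
        (dA.basis (fun _ => Groth.Duality.Pn.chartGen (-2) i) fun _ => Groth.Duality.Pn.gen_chartGen (-2) i)
        (d₂.basis (fun _ => Groth.Duality.Pn.chartGen (-1) i) fun _ => Groth.Duality.Pn.gen_chartGen (-1) i)
        (Groth.CohTwo.Degeneracy.span_appₗ_of_gens dA d₂ _ (fun _ => Groth.Duality.Pn.gen_chartGen (-2) i) _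
          (fun _ => Groth.Duality.Pn.gen_chartGen (-1) i)
          fun _ _ => Groth.CohTwo.Degeneracy.Gaeta.exists_chart_map (-2) (-1) (by norm_num) i) hbig
      obtain ⟨q, hq, hev⟩ := Groth.CohTwo.Degeneracy.exists_pullback_poly L hL hp'
      refine ⟨p * q, mul_ne_zero hp hq, fun φ hφ _ => ?_⟩
      rw [map_mul, mul_ne_zero_iff] at hφ
      refine ⟨h φ hφ.1, h' _ ?_⟩
      rw [show c' (φ ≫ biprod.fst) = L (c φ) by simp [L], ← hev]
      exact hφ.2
    · exact ⟨1, one_ne_zero, fun φ _ h => absurd h hne⟩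
  choose p hp hgood using key
  refine ⟨_, c, ∏ i, p i, Finset.prod_ne_zero_iff.2 fun i _ => hp i, fun φ hφ => ?_⟩
  rw [map_prod, Finset.prod_ne_zero_iff] at hφ
  have hgood' := fun i (hne : Nonempty (St i)) => hgood i φ (hφ i (Finset.mem_univ _)) hne
  refine ⟨Groth.CohTwo.Degeneracy.mono_of_affine_cover φ fun x => ?_, ?_⟩
  · obtain ⟨i, hi⟩ := hcov x
    exact ⟨⟨St i, Groth.CohTwo.Degeneracy.Gaeta.isAffineOpen_stdOpen i⟩, hi, (hgood' i ⟨⟨x, hi⟩⟩).1⟩
  haveI : Epi (φ ≫ biprod.fst) := Groth.CohTwo.Degeneracy.epi_of_affine_cover _ fun x => by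
    obtain ⟨i, hi⟩ := hcov x
    exact ⟨⟨St i, Groth.CohTwo.Degeneracy.Gaeta.isAffineOpen_stdOpen i⟩, hi, (hgood' i ⟨⟨x, hi⟩⟩).2⟩
  let q : (∐ fun _ : ULift.{u} (Fin α₃) => Coh.structureModule P : P.Modules) ⟶ cokernel φ :=
    Sigma.desc fun j => Sigma.ι (fun _ : Fin α₃ => Coh.structureModule P) j.down ≫ biprod.inr ≫ cokernel.π φ
  have hq : Epi q := ⟨fun {Z} g g' hgg => by
    have h3 : biprod.inr ≫ cokernel.π φ ≫ g = biprod.inr ≫ cokernel.π φ ≫ g' := Sigma.hom_ext _ _ fun j => by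
      simpa only [q, colimit.ι_desc_assoc, Cofan.mk_pt, Cofan.mk_ι_app, Category.assoc] using
        congrArg (fun z => Sigma.ι _ (ULift.up.{u} j) ≫ z) hgg
    have h5 : biprod.inl ≫ cokernel.π φ ≫ g = biprod.inl ≫ cokernel.π φ ≫ g' := by
      refine (cancel_epi (φ ≫ biprod.fst)).1 ?_
      have h := congrArg (fun z => φ ≫ biprod.snd ≫ z) h3
      have e := fun (z : cokernel φ ⟶ Z) =>
        show (φ ≫ biprod.fst) ≫ biprod.inl ≫ cokernel.π φ ≫ z + φ ≫ biprod.snd ≫ biprod.inr ≫ cokernel.π φ ≫ z = 0 by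
          rw [Category.assoc, ← Preadditive.comp_add, ← Category.assoc biprod.fst, ← Category.assoc biprod.snd,
            ← Preadditive.add_comp, biprod.total, Category.id_comp, cokernel.condition_assoc, zero_comp]
      rw [eq_neg_of_add_eq_zero_left (e g), eq_neg_of_add_eq_zero_left (e g'), h]
    exact (cancel_epi (cokernel.π φ)).1 (biprod.hom_ext' _ _ h5 h3)⟩
  exact ⟨ULift.{u} (Fin α₃), q, hq⟩

end Groth.Agent.S17491
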