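import Groth.Statements.S17498
import Groth.Agent.Misc10.SymZeta.Multiply

set_option autoImplicit false
universe u
open RelQuot

namespace Groth.Agent.S17498

open CategoryTheory CategoryTheory.Limits AlgebraicGeometry in
/-- Let k be an algebraically closed field of characteristic zero, Y a scheme of finite type over k, and
f : X → Y, f′ : X′ → Y morphisms of finite type. For every n ≥ 0 let (S_n, q_n, g_n) be an n-th
symmetric power of X over Y (q_n : X ×_Y ⋯ ×_Y X → S_n a quotient of the n-fold fibre power by the
symmetric group permuting the factors: affine, invariant, with the sections of S_n the invariant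
sections; g_n : S_n → Y its structure map, of finite type; for n = 0 this forces S_0 ≅ Y), and
likewise (S′_n, q′_n, g′_n) for X′ over Y and (T_n, Q_n, h_n) for the disjoint union X ⊔ X′ over Y
(structure map f on X and f′ on X′). Then the relative motivic zeta functions multiply: in the ring
of power series with coefficients in the Grothendieck ring of finite-type Y-schemes (multiplication
given by fibre product over Y), the series with n-th coefficient [T_n → Y] equals the product of the
series with n-th coefficients [S_n → Y] and [S′_n → Y]. The published proposition asserts that the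
motivic zeta function defines a pre-lambda structure on the whole Grothendieck ring; this row states
the multiplicativity on disjoint unions, which is the part established there, and it does not assume
f, f′ quasi-projective (that hypothesis only serves the existence of the symmetric powers, which are
taken as data here). -/
theorem result
    (k : Type u) [Field k] [IsAlgClosed k] [CharZero k] {X X' Y : Scheme.{u}}
    (pY : Y ⟶ Spec (CommRingCat.of k)) [LocallyOfFiniteType pY] [QuasiCompact pY]
    (f : X ⟶ Y) [LocallyOfFiniteType f] [QuasiCompact f]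
    (f' : X' ⟶ Y) [LocallyOfFiniteType f'] [QuasiCompact f']
    (Sy : ℕ → Scheme.{u}) (q : ∀ n, SymProd.fibPow f n ⟶ Sy n) (g : ∀ n, Sy n ⟶ Y)
    (hS : ∀ n, SymProd.IsSymProd f n (q n) (g n))
    [∀ n, LocallyOfFiniteType (g n)] [∀ n, QuasiCompact (g n)]
    (Sy' : ℕ → Scheme.{u}) (q' : ∀ n, SymProd.fibPow f' n ⟶ Sy' n) (g' : ∀ n, Sy' n ⟶ Y)
    (hS' : ∀ n, SymProd.IsSymProd f' n (q' n) (g' n))
    [∀ n, LocallyOfFiniteType (g' n)] [∀ n, QuasiCompact (g' n)]
    (T : ℕ → Scheme.{u}) (Q : ∀ n, SymProd.fibPow (coprod.desc f f') n ⟶ T n) (h : ∀ n, T n ⟶ Y)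
    (hT : ∀ n, SymProd.IsSymProd (coprod.desc f f') n (Q n) (h n))
    [∀ n, LocallyOfFiniteType (h n)] [∀ n, QuasiCompact (h n)] :
    PowerSeries.mk (fun n => K0Var.cl (h n)) =
      PowerSeries.mk (fun n => K0Var.cl (g n)) * PowerSeries.mk (fun n => K0Var.cl (g' n)) := by
  ext n
  rw [PowerSeries.coeff_mk, PowerSeries.coeff_mul]
  simp only [PowerSeries.coeff_mk]
  exact Groth.Misc10.SymZeta.cl_symProd_coprod pY Sy q g hS Sy' q' g' hS' (Q n) (h n) (hT n)

end Groth.Agent.S17498
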