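import Groth.Statements.S17499
import Groth.Agent.Misc10.RelQuot.Fibration


set_option autoImplicit false
universe u
open RelQuot

namespace Groth.Agent.S17499

open CategoryTheory CategoryTheory.Limits AlgebraicGeometry in
/-- Let k be an algebraically closed field of characteristic zero, X, Y and F schemes of finite type
over k, and f : X → Y a morphism over k which is a Zariski locally trivial fibration with fibre F:
every point of Y has an open neighbourhood U together with an isomorphism from f⁻¹(U) to U ×_k F
whose composite with the first projection is the restriction of f. Then in the Grothendieck ring of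
k-schemes of finite type the class of X equals [Y] · [F]. The published statement is for varieties;
it is stated here for schemes of finite type over k, which present the same ring. -/
theorem result
    (k : Type u) [Field k] [IsAlgClosed k] [CharZero k] {X Y F : Scheme.{u}}
    (pY : Y ⟶ Spec (CommRingCat.of k)) [LocallyOfFiniteType pY] [QuasiCompact pY]
    (pF : F ⟶ Spec (CommRingCat.of k)) [LocallyOfFiniteType pF] [QuasiCompact pF]
    (f : X ⟶ Y) [LocallyOfFiniteType f] [QuasiCompact f]
    (hf : ∀ y : Y, ∃ (U : Y.Opens) (e : (f ⁻¹ᵁ U).toScheme ≅ pullback (U.ι ≫ pY) pF),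
      y ∈ U ∧ e.hom ≫ pullback.fst (U.ι ≫ pY) pF = f ∣_ U) :
    K0Var.cl (f ≫ pY) = K0Var.cl pY * K0Var.cl pF := by
  classical
  have : CompactSpace Y := QuasiCompact.compactSpace_of_compactSpace pY
  obtain ⟨s, hs⟩ := isCompact_univ.elim_finite_subcover (fun y : Y => ((hf y).choose : Set Y))
    (fun y => (hf y).choose.isOpen) fun y _ =>
      Set.mem_iUnion.2 ⟨y, (hf y).choose_spec.choose_spec.1⟩
  have h := Groth.Misc10.RelQuot.cl_pullback_of_trivial pY pF f hf s (𝟙 Y) fun z => by
    obtain ⟨y, hy⟩ := Set.mem_iUnion.1 (hs (Set.mem_univ z))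
    obtain ⟨hys, hy⟩ := Set.mem_iUnion.1 hy
    exact ⟨y, hys, by simpa using hy⟩
  have e₁ : K0Var.cl (𝟙 Y ≫ pY) = K0Var.cl pY := K0Var.cl_congr _ _ (Iso.refl _) (by simp)
  rw [← e₁, ← h]
  exact K0Var.cl_congr _ _ (asIso (pullback.snd (𝟙 Y) f)).symm (by
    rw [Iso.symm_hom, asIso_inv, IsIso.inv_comp_eq, Category.id_comp, ← Category.assoc,
      ← pullback.condition, Category.comp_id])

end Groth.Agent.S17499
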