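import Groth.Statements.S1750
import Groth.Agent.Matlis.Criterion

set_option autoImplicit false
universe u
open InjHull

namespace Groth.Agent.S1750

/-- Let R → S be a flat local homomorphism of Noetherian local rings with m_R S = m_S inducing a
bijection on residue fields. If κ_S → E is an injective hull of the residue field of S over S, then
E regarded as an R-module is an injective hull of the residue field of R (for a suitable R-linear
map κ_R → E). -/
theorem result (R S : Type u) [CommRing R] [CommRing S] [IsLocalRing R] [IsLocalRing S] [IsNoetherianRing R] [IsNoetherianRing S] [Algebra R S] [IsLocalHom (algebraMap R S)] [Module.Flat R S] (hm : (IsLocalRing.maximalIdeal R).map (algebraMap R S) = IsLocalRing.maximalIdeal S) (hk : Function.Bijective (IsLocalRing.ResidueField.map (algebraMap R S))) (E : Type u) [AddCommGroup E] [Module S E] [Module R E] [IsScalarTower R S E] (f : IsLocalRing.ResidueField S →ₗ[S] E) (hf : InjHull.IsInjectiveHull f) : ∃ g : IsLocalRing.ResidueField R →ₗ[R] E, InjHull.IsInjectiveHull g := by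
  have := hf.isInjective
  have hinj : Module.Injective R E := by
    refine Module.Baer.injective fun a g => ?_
    obtain ⟨h, hh⟩ := (Module.Baer.of_injective (R := S) (Q := E) inferInstance).extension_property
      (LinearMap.baseChange S a.subtype)
      (Module.Flat.lTensor_preserves_injective_linearMap (M := S) a.subtype a.injective_subtype)
      (LinearMap.liftBaseChange S g)
    refine ⟨(h.restrictScalars R) ∘ₗ (TensorProduct.mk R S R 1), fun x hx => ?_⟩
    have := LinearMap.congr_fun hh (TensorProduct.tmul R 1 ⟨x, hx⟩)
    simpa using this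
  let σ := IsLocalRing.ResidueField.map (algebraMap R S)
  let e : IsLocalRing.ResidueField R →ₗ[R] IsLocalRing.ResidueField S :=
    { toFun := σ
      map_add' := map_add σ
      map_smul' := fun r x => by
        rw [RingHom.id_apply, Algebra.smul_def, Algebra.smul_def, map_mul]
        congr 1 }
  let φ : IsLocalRing.ResidueField R →ₗ[R] E := f.restrictScalars R ∘ₗ e
  refine ⟨φ, GrothMatlis.essential_of_socle_le (I := IsLocalRing.maximalIdeal R)
    (hf.injective.comp hk.1) (fun x => ?_) (fun x hx => ?_), hinj⟩
  · obtain ⟨n, hn⟩ := GrothMatlis.hull_isPowerTorsion hf x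
    refine ⟨n, fun r hr => ?_⟩
    rw [← algebraMap_smul S r x]
    refine hn _ ?_
    rw [← hm, ← Ideal.map_pow]
    exact Ideal.mem_map_of_mem _ hr
  · have hxS : x ∈ LocCoh.torsionBy (IsLocalRing.maximalIdeal S) E := by
      rw [Submodule.mem_torsionBySet_iff]
      rintro ⟨s, hs⟩
      rw [← hm] at hs
      show s • x = 0
      refine Submodule.span_induction (fun y hy => ?_) (zero_smul S x)
        (fun y y' _ _ h h' => by rw [add_smul, h, h', add_zero])
        (fun c y _ h => by rw [smul_eq_mul, mul_smul, h, smul_zero]) hs
      obtain ⟨t, ht, rfl⟩ := hy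
      rw [algebraMap_smul]
      exact (Submodule.mem_torsionBySet_iff _ _).1 hx ⟨t, ht⟩
    rw [GrothMatlis.socle_eq hf.toIsEssentialInj] at hxS
    obtain ⟨c, hc⟩ := hxS
    obtain ⟨d, hd⟩ := hk.2 c
    exact ⟨d, by rw [← hc, ← hd]; rfl⟩

end Groth.Agent.S1750
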