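import Groth.Statements.S17500
import Mathlib.RingTheory.Flat.Tensor
import Mathlib.RingTheory.PrincipalIdealDomain

set_option autoImplicit false
universe u
open TorsMod

namespace Groth.Agent.S17500

/-- Let p be a prime number, n a natural number and H a module over ℤ/p^nℤ. Then H is flat over ℤ/p^nℤ
if and only if, for every i with 0 ≤ i ≤ n, the kernel of multiplication by p^i on H coincides with
the image of multiplication by p^(n-i) on H. (The published item is phrased for an fppf sheaf of
ℤ/p^nℤ-modules on a scheme; this is the case of a single module, which is the case the argument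
treats.) -/
theorem result (p n : ℕ) [Fact p.Prime]
    (H : Type u) [AddCommGroup H] [Module (ZMod (p ^ n)) H] :
    Module.Flat (ZMod (p ^ n)) H ↔
      ∀ i : ℕ, i ≤ n →
        LinearMap.ker ((p ^ i : ZMod (p ^ n)) • (LinearMap.id : H →ₗ[ZMod (p ^ n)] H)) =
          LinearMap.range ((p ^ (n - i) : ZMod (p ^ n)) • (LinearMap.id : H →ₗ[ZMod (p ^ n)] H)) := by
  have hpn : (p : ZMod (p ^ n)) ^ n = 0 := by rw [← Nat.cast_pow]; exact ZMod.natCast_self _
  constructor
  · intro hflat i hi
    apply le_antisymm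
    · intro h hh
      have hker : ∀ h, h ∈ LinearMap.ker ((p ^ i : ZMod (p ^ n)) • (LinearMap.id : H →ₗ[ZMod (p ^ n)] H)) ↔ (p ^ i : ZMod (p ^ n)) • h = 0 := fun h => by simp
      rw [hker] at hh
      have hex : Function.Exact (LinearMap.lsmul (ZMod (p ^ n)) (ZMod (p ^ n)) ((p : ZMod (p ^ n)) ^ (n - i)))
          (LinearMap.lsmul (ZMod (p ^ n)) (ZMod (p ^ n)) ((p : ZMod (p ^ n)) ^ i)) := by
        intro a
        simp only [LinearMap.lsmul_apply, smul_eq_mul, Set.mem_range]
        constructor
        · intro ha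
          obtain ⟨z, rfl⟩ := ZMod.intCast_surjective a
          have hd : ((p ^ n : ℕ) : ℤ) ∣ (p : ℤ) ^ i * z := by
            rw [← ZMod.intCast_zmod_eq_zero_iff_dvd]
            push_cast
            exact ha
          obtain ⟨c, hc⟩ := hd
          refine ⟨(c : ZMod (p ^ n)), ?_⟩
          have : z = (p : ℤ) ^ (n - i) * c := by
            have hp0 : (p : ℤ) ^ i ≠ 0 := pow_ne_zero _ (Int.natCast_ne_zero.mpr (Fact.out : p.Prime).ne_zero)
            apply mul_left_cancel₀ hp0
            rw [hc, ← mul_assoc, ← pow_add, Nat.add_sub_cancel' hi]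
            push_cast; ring
          rw [this]; push_cast; ring
        · rintro ⟨c, rfl⟩
          rw [← mul_assoc, ← pow_add, Nat.add_sub_cancel' hi, hpn, zero_mul]
      have hT := Module.Flat.rTensor_exact H hex
      let e := TensorProduct.lid (ZMod (p ^ n)) H
      have h0 : (LinearMap.rTensor H (LinearMap.lsmul (ZMod (p ^ n)) (ZMod (p ^ n)) ((p : ZMod (p ^ n)) ^ i))) ((1 : ZMod (p ^ n)) ⊗ₜ h) = 0 := by
        apply e.injective
        simpa [e, smul_smul] using hh
      obtain ⟨t, ht⟩ := (hT _).mp h0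
      refine ⟨e t, ?_⟩
      have := congrArg e ht
      have h2 : e ((1 : ZMod (p ^ n)) ⊗ₜ h) = h := by simp [e]
      rw [h2] at this
      have hgen : ∀ t, e (LinearMap.rTensor H (LinearMap.lsmul (ZMod (p ^ n)) (ZMod (p ^ n)) ((p : ZMod (p ^ n)) ^ (n - i))) t) = (p : ZMod (p ^ n)) ^ (n - i) • e t := by
        intro t
        induction t using TensorProduct.induction_on with
        | zero => simp
        | tmul a x => simp [e, mul_smul]
        | add x y hx hy => simp only [map_add, smul_add, hx, hy]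
      rw [← this, hgen, LinearMap.smul_apply, LinearMap.id_apply]
    · rintro _ ⟨x, rfl⟩
      simp [smul_smul, ← pow_add, Nat.sub_add_cancel hi, Nat.add_sub_cancel' hi, hpn]
  · intro hyp
    rw [Module.Flat.iff_lift_lsmul_comp_subtype_injective]
    intro I _
    obtain ⟨i, hi, rfl⟩ : ∃ i ≤ n, I = Ideal.span {(p : ZMod (p ^ n)) ^ i} := by
      obtain ⟨m, hm⟩ := (IsPrincipalIdealRing.principal (I.comap (Int.castRingHom (ZMod (p ^ n))))).principal
      have hI : I = Ideal.span {((m : ℤ) : ZMod (p ^ n))} := by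
        rw [← Ideal.map_comap_of_surjective (Int.castRingHom (ZMod (p ^ n))) ZMod.intCast_surjective I, hm]
        rw [Ideal.submodule_span_eq, Ideal.map_span]
        simp
      have hdvd : m ∣ ((p ^ n : ℕ) : ℤ) := by
        rw [← Ideal.mem_span_singleton, ← Ideal.submodule_span_eq, ← hm, Ideal.mem_comap]
        simp [hpn]
      obtain ⟨i, hi, hmi⟩ := (Nat.dvd_prime_pow (Fact.out : p.Prime)).mp (Int.natAbs_dvd_natAbs.mpr hdvd |>.trans (by rw [Int.natAbs_natCast]))
      refine ⟨i, hi, ?_⟩
      rw [hI]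
      rcases Int.natAbs_eq m with hm' | hm' <;> rw [hm', hmi] <;> simp [Ideal.span_singleton_neg]
    set I := Ideal.span {(p : ZMod (p ^ n)) ^ i}
    have hgen : (p : ZMod (p ^ n)) ^ i ∈ I := Ideal.mem_span_singleton_self _
    have hs : ∀ t : TensorProduct (ZMod (p ^ n)) I H, ∃ h, t = (⟨_, hgen⟩ : I) ⊗ₜ[ZMod (p ^ n)] h := by
      intro t
      induction t using TensorProduct.induction_on with
      | zero => exact ⟨0, by simp⟩
      | tmul a x =>
        obtain ⟨c, hc⟩ := Ideal.mem_span_singleton'.mp a.2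
        refine ⟨c • x, ?_⟩
        rw [TensorProduct.tmul_smul, TensorProduct.smul_tmul']
        congr 1
        exact Subtype.ext hc.symm
      | add x y hx hy =>
        obtain ⟨a, rfl⟩ := hx; obtain ⟨b, rfl⟩ := hy
        exact ⟨a + b, by rw [TensorProduct.tmul_add]⟩
    rw [← LinearMap.ker_eq_bot, LinearMap.ker_eq_bot']
    intro t ht
    obtain ⟨h, rfl⟩ := hs t
    simp at ht
    have hk : h ∈ LinearMap.ker ((p ^ i : ZMod (p ^ n)) • (LinearMap.id : H →ₗ[ZMod (p ^ n)] H)) := by simpa using ht
    rw [hyp i hi] at hk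
    obtain ⟨x, rfl⟩ := hk
    rw [LinearMap.smul_apply, LinearMap.id_apply, TensorProduct.tmul_smul, TensorProduct.smul_tmul']
    have : (p ^ (n - i) : ZMod (p ^ n)) • (⟨_, hgen⟩ : I) = 0 := by
      apply Subtype.ext
      simp [← pow_add, Nat.sub_add_cancel hi, hpn]
    rw [this, TensorProduct.zero_tmul]

end Groth.Agent.S17500
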