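import Groth.Statements.S17502
import Groth.Agent.Variety2.Growth.Lipschitz
import Groth.Agent.Variety2.Reg.Ample
import Groth.Agent.Variety2.ProjBasics
import Groth.Agent.Duality.SupportVanish

set_option autoImplicit false
universe u
open CategoryTheory CategoryTheory.Limits MonoidalCategory CartesianMonoidalCategory MonObj GrpObj AlgebraicGeometry
open Coherent

namespace Groth.Agent.S17502

/-- Let k be a field, Y a projective k-scheme of dimension d (a k-scheme with a closed immersion c into
projective N-space over k, compatible with the structure morphisms, whose underlying topological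
space has Krull dimension d), L_1, …, L_r invertible O_Y-modules, and F a family of O_Y-modules
indexed by a ∈ ℤ^r with F(0) ≅ O_Y and F(a + e_j) ≅ F(a) ⊗ L_j for all a and j, so that F(a) ≅
L_1^{⊗ a_1} ⊗ ⋯ ⊗ L_r^{⊗ a_r} for every a. Then there is a real constant C > 0, depending only on Y
and the L_j, such that dim_k H^i(Y, F(a)) ≤ C · (1 + |a|^d) for every i and every a, where |a| =
|a_1| + ⋯ + |a_r|. (The published statement prints the exponent as the number r of line bundles
instead of the dimension d of Y; that bound fails as soon as r < d — on the projective plane with r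
= 1 and L_1 = O(1) the dimension of H^0(O(a)) grows like a²/2 — while the printed induction on d + r
over hyperplane sections yields the exponent d, which is what is stated here.) -/
theorem result
    (k : Type u) [Field k] (Y : Scheme.{u}) [Y.Over (Spec (CommRingCat.of k))]
    (N : ℕ) (c : Y ⟶ CohB1.ProjSpace N k) [IsClosedImmersion c]
    (hc : c ≫ CohB1.ProjSpace.toSpec N k = Y ↘ Spec (CommRingCat.of k))
    (d : ℕ) (hd : topologicalKrullDim ↥Y = d)
    (r : ℕ) (Lb : Fin r → Y.Modules) (hLb : ∀ j, PicF.IsInvertible (Lb j))
    (F : (Fin r → ℤ) → Y.Modules) (hF0 : Nonempty (F 0 ≅ Coh.structureModule Y))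
    (hF : ∀ (a : Fin r → ℤ) (j : Fin r), Nonempty (F (a + Pi.single j 1) ≅ CohB1.tensorMod (F a) (Lb j))) :
    ∃ C : ℝ, 0 < C ∧ ∀ (i : ℕ) (a : Fin r → ℤ),
      (Module.finrank k (Coh.HH Y (F a) i) : ℝ) ≤ C * (1 + (∑ j, |(a j : ℝ)|) ^ d) := by
  open Groth Groth.Variety2.Growth Groth.Inter Groth.PicAux in
  exact by
    classical
    have : IsProper (Y ↘ Spec (CommRingCat.of k)) := by
      rw [← hc]
      infer_instance
    have hNoe : AlgebraicGeometry.IsNoetherian Y := Groth.Inter.isNoetherian k
    have hA : CohB1.IsAmple ((Scheme.Modules.pullback c).obj (Twist.twistProjSpace N k 1)) :=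
      Groth.Ega2Proj.isAmple_pullback c c.isClosedEmbedding.isInducing Groth.Variety2.Reg.isAmple_tw_one
    choose M hM hLM using fun j => exists_isInverseOf (hLb j)
    let T : (Fin r ⊕ Fin r → ℕ) → Y.Modules := fun e => F (fun j => (e (.inl j) : ℤ) - e (.inr j))
    let G : Fin r ⊕ Fin r → Y.Modules := Sum.elim Lb M
    have hG : ∀ t, PicF.IsInvertible (G t) := fun t => by cases t; exacts [hLb _, hM _]
    have hstep : ∀ e t, Nonempty (T (e + Pi.single t 1) ≅ CohB1.tensorMod (T e) (G t)) := fun e t => by
      cases t with
      | inl j =>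
        have h1 : (fun i => ((e + Pi.single (Sum.inl j) 1 : Fin r ⊕ Fin r → ℕ) (.inl i) : ℤ) -
            (e + Pi.single (Sum.inl j) 1 : Fin r ⊕ Fin r → ℕ) (.inr i)) =
            (fun i => (e (.inl i) : ℤ) - e (.inr i)) + Pi.single j 1 := funext fun i => by
          rcases eq_or_ne i j with rfl | hij
          · simp; ring
          · simp [hij]
        simp only [T, h1]
        exact hF _ j
      | inr j =>
        have h1 : (fun i => (e (.inl i) : ℤ) - e (.inr i)) =
            (fun i => ((e + Pi.single (Sum.inr j) 1 : Fin r ⊕ Fin r → ℕ) (.inl i) : ℤ) -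
              (e + Pi.single (Sum.inr j) 1 : Fin r ⊕ Fin r → ℕ) (.inr i)) + Pi.single j 1 := funext fun i => by
          rcases eq_or_ne i j with rfl | hij
          · simp; ring
          · simp [hij]
        obtain ⟨e1⟩ := hF (fun i => ((e + Pi.single (Sum.inr j) 1 : Fin r ⊕ Fin r → ℕ) (.inl i) : ℤ) -
              (e + Pi.single (Sum.inr j) 1 : Fin r ⊕ Fin r → ℕ) (.inr i)) j
        rw [← h1] at e1
        exact ⟨(tensor_one _).some.symm ≪≫ (tensor_comm _ _).some ≪≫
          (tensor_congr ⟨Iso.refl _⟩ ⟨(hLM j).some.symm⟩).some ≪≫ (tensor_assoc _ (Lb j) (M j)).some.symm ≪≫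
          (tensor_congr ⟨e1.symm⟩ ⟨Iso.refl _⟩).some⟩
    have hT : ∀ e, PicF.IsInvertible (T e) := by
      suffices h : ∀ (n : ℕ) (e : Fin r ⊕ Fin r → ℕ), ∑ t, e t = n → PicF.IsInvertible (T e) from
        fun e => h _ e rfl
      intro n
      induction n with
      | zero =>
        intro e he
        have he0 : e = 0 := funext fun t => Finset.sum_eq_zero_iff.1 he t (Finset.mem_univ t)
        have : T e = F 0 := congrArg F (funext fun j => by simp [he0])
        rw [this]
        exact isInvertible_of_iso (EulerDeg.isInvertible_structureModule Y) hF0.some.symm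
      | succ n ih =>
        intro e he
        obtain ⟨t, ht⟩ : ∃ t, e t ≠ 0 := by
          by_contra h
          simp only [not_exists, not_not] at h
          simp [h] at he
        let e' : Fin r ⊕ Fin r → ℕ := Function.update e t (e t - 1)
        have h1 : e' + Pi.single t 1 = e := funext fun u => by
          rcases eq_or_ne u t with rfl | hu
          · simp [e']; omega
          · simp [e', hu]
        have h2 : ∑ u, e' u = n := by
          have h3 := congrArg (fun g : Fin r ⊕ Fin r → ℕ => ∑ u, g u) h1
          simp only [Pi.add_apply, Finset.sum_add_distrib, Finset.sum_pi_single', Finset.mem_univ,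
            if_true] at h3
          omega
        rw [← h1]
        exact isInvertible_of_iso (isInvertible_tensorMod (ih e' h2) (hG t)) (hstep e' t).some.symm
    have hOc := Groth.Inter.isCoh_of_isInvertible (EulerDeg.isInvertible_structureModule Y)
    have b := bndF_of_dim (k := k) hT hG hstep hA d hOc ((topologicalKrullDim_subspace_le Y _).trans hd.le)
    choose C hC using b
    let D := ∑ q ∈ Finset.range (d + 1), C q
    refine ⟨((D : ℝ) + 1) * 2 ^ d, by positivity, fun i a => ?_⟩
    have hTe : T (zexp a) = F a := congrArg F (funext fun j => by simp [zexp])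
    have hS : ∑ t, (zexp a t : ℝ) = ∑ j, |(a j : ℝ)| := by
      rw [Fintype.sum_sum_type, ← Finset.sum_add_distrib]
      refine Finset.sum_congr rfl fun j _ => ?_
      have h1 : ((zexp a (.inl j) + zexp a (.inr j) : ℕ) : ℤ) = |a j| := by
        simp [zexp]
      rw [← Int.cast_abs, ← h1]
      push_cast
      rfl
    have e1 : Module.finrank k (Coh.HH Y (F a) i) = Groth.Variety2.Growth.hF k T (Coh.structureModule Y) i (zexp a) :=
      (congrArg (fun Z => Module.finrank k (Coh.HH Y Z i)) hTe.symm).trans
        (h_congr k (tensor_one (T (zexp a))).some.symm i)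
    rw [← hS]
    set S : ℝ := ∑ t, (zexp a t : ℝ) with hSdef
    have hS0 : 0 ≤ S := by positivity
    rcases le_or_gt i d with hi | hi
    · have h1 : Groth.Variety2.Growth.hF k T (Coh.structureModule Y) i (zexp a) ≤ D * fwgt d (zexp a) :=
        (hC i (zexp a)).trans (Nat.mul_le_mul_right _ (Finset.single_le_sum (fun q _ => Nat.zero_le (C q))
          (Finset.mem_range.2 (Nat.lt_succ_of_le hi))))
      have h2 : ((Module.finrank k (Coh.HH Y (F a) i) : ℕ) : ℝ) ≤ (D : ℝ) * (S + 1) ^ d := by
        rw [e1]
        have := (Nat.cast_le (α := ℝ)).2 h1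
        simp only [fwgt, Nat.cast_mul, Nat.cast_pow, Nat.cast_add, Nat.cast_sum, Nat.cast_one] at this
        exact this
      have h3 : (S + 1) ^ d ≤ 2 ^ d * (1 + S ^ d) := by
        rcases le_total S 1 with hs | hs
        · calc (S + 1) ^ d ≤ 2 ^ d := by gcongr; linarith
            _ ≤ _ := le_mul_of_one_le_right (by positivity) (by linarith [pow_nonneg hS0 d])
        · calc (S + 1) ^ d ≤ (2 * S) ^ d := by gcongr; linarith
            _ = 2 ^ d * S ^ d := mul_pow _ _ _
            _ ≤ _ := by gcongr; linarith
      calc _ ≤ (D : ℝ) * (S + 1) ^ d := h2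
        _ ≤ ((D : ℝ) + 1) * (2 ^ d * (1 + S ^ d)) := by gcongr; linarith
        _ = _ := by ring
    · have : Subsingleton (Coh.HH Y (F a) i) :=
        Groth.Duality.SupportVanish.subsingleton_HH_of_support (F a) isClosed_univ
          (((IsHomeomorph.topologicalKrullDim_eq _ (Homeomorph.Set.univ Y).isHomeomorph).trans hd).le)
          (Set.subset_univ _) hi
      rw [Module.finrank_zero_of_subsingleton, Nat.cast_zero]
      positivity

end Groth.Agent.S17502
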