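import Groth.Statements.S17505
import Groth.Agent.AbvarAmple.Degenerate

set_option autoImplicit false
universe u
open CategoryTheory CategoryTheory.Limits MonoidalCategory CartesianMonoidalCategory MonObj GrpObj AlgebraicGeometry
open AbVar

namespace Groth.Agent.S17505

/-- In the Riemann–Roch formula χ(L)² = deg φ_L the degree is 0 by convention when φ_L is not finite,
i.e. when L is degenerate; this is that case. Let k be an algebraically closed field, X an abelian
variety over k (a proper, geometrically integral k-group scheme) and L an invertible O_X-module
which is degenerate: infinitely many k-rational points x of X satisfy t_x^*L ≅ L, where t_x : X → X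
is translation by x (the product of the identity and the constant map x in the group of maps X → X).
Then χ(X, L) = 0. (Stated over an algebraically closed field, where degeneracy of L, i.e. K(L) not
finite, amounts to infinitely many rational points x with t_x^*L ≅ L.) -/
theorem result
    (k : Type u) [Field k] [IsAlgClosed k] (X : Over (Spec (CommRingCat.of k))) [GrpObj X] [IsProper X.hom] [GeometricallyIntegral X.hom]
    (L : X.left.Modules) (hL : PicF.IsInvertible L)
    (hdeg : Set.Infinite {x : 𝟙_ (Over (Spec (CommRingCat.of k))) ⟶ X |
      Nonempty ((Scheme.Modules.pullback (𝟙 X * (toUnit X ≫ x)).left).obj L ≅ L)}) :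
    @Curv2.euler k _ X.left ⟨X.hom⟩ L = 0 := by
  open Groth.AbvarAmple in (
    exact euler_eq_zero_of_degenerate hL (setOf_translate_iso_eq hL ▸ hdeg))

end Groth.Agent.S17505
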