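import Groth.Statements.S1751
import Groth.Agent.SuppCx.FiniteIff

set_option autoImplicit false
universe u
open LocCoh

namespace Groth.Agent.S1751

/-- (1)⇔(2) for a general subset T ⊆ Spec A stable under specialization. Let A be a Noetherian ring, M a
finite A-module and n ≥ 0. Then H^i_T(M) is a finite A-module for all i ≤ n if and only if there is
an ideal J with V(J) ⊆ T annihilating H^i_T(M) for all i ≤ n. -/
theorem result (A : Type u) [CommRing A] [IsNoetherianRing A] (T : Set (PrimeSpectrum A)) (hT : StableUnderSpecialization T) (M : Type u) [AddCommGroup M] [Module A M] [Module.Finite A M] (n : ℕ) : (∀ i : ℕ, i ≤ n → Module.Finite A (Dual2.HT T i M)) ↔ ∃ J : Ideal A, PrimeSpectrum.zeroLocus (J : Set A) ⊆ T ∧ ∀ i : ℕ, i ≤ n → ∀ a ∈ J, ∀ x : Dual2.HT T i M, a • x = 0 := by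
  obtain ⟨C, hCK, hC, hlow, ⟨e⟩⟩ := Groth.SuppCx.exists_injective_rep (Dual.inD A M) 0 fun i hi =>
    Groth.DualCore.subsingleton_HD_inD M i (by omega)
  have hfin : ∀ j : ℤ, Module.Finite A (Groth.SuppCx.Hc C (Groth.SuppCx.topC C) j (j + 1) (j + 1 + 1)) := by
    intro j
    obtain ⟨f⟩ := Groth.SuppCx.nonempty_HD_equiv (C := C) e (j := j) (i := j + 1) (k := j + 1 + 1) rfl rfl
    haveI := Groth.DualCore.finite_HD_inD (A := A) M (j + 1)
    exact Module.Finite.equiv f
  have key := Groth.SuppCx.finite_iff_exists_kills (T := T) hC hlow hfin (n : ℤ)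
  have f := fun i : ℕ => (Groth.SuppCx.nonempty_HT_equiv (T := T) e i (sub_add_cancel (i : ℤ) 1) (k := (i : ℤ) + 1) rfl).some
  have hk : ∀ (i : ℕ) (a : A), (∀ x : Dual2.HT T i M, a • x = 0) ↔
      Groth.SuppCx.Kills C (Groth.SuppCx.gamC T C) a (i : ℤ) := by
    intro i a
    rw [Groth.SuppCx.kills_iff a (sub_add_cancel (i : ℤ) 1) rfl]
    exact ⟨fun h z => (f i).symm.injective (by rw [map_smul, h, map_zero]),
      fun h y => (f i).injective (by rw [map_smul, h, map_zero])⟩
  constructor
  · intro h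
    obtain ⟨J, hJ, hJk⟩ := key.1 fun i hi => by
      rcases lt_or_ge i 0 with hneg | hnn
      · haveI := hlow i hneg
        haveI : Subsingleton (Groth.SuppCx.Hc C (Groth.SuppCx.gamC T C) (i - 1) i (i + 1)) :=
          inferInstance
        infer_instance
      · obtain ⟨i, rfl⟩ := Int.eq_ofNat_of_zero_le hnn
        haveI := h i (by omega)
        exact Module.Finite.equiv (f i)
    exact ⟨J, hJ, fun i hi a ha => (hk i a).2 (hJk i (by omega) a ha)⟩
  · rintro ⟨J, hJ, hJk⟩ i hi
    haveI := key.2 ⟨J, hJ, fun i' hi' g hg => by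
      rcases lt_or_ge i' 0 with hneg | hnn
      · haveI := hlow i' hneg
        exact Groth.SuppCx.kills_of_low g i'
      · obtain ⟨i', rfl⟩ := Int.eq_ofNat_of_zero_le hnn
        exact (hk i' g).1 (hJk i' (by omega) g hg)⟩ (i : ℤ) (by omega)
    exact Module.Finite.equiv (f i).symm

end Groth.Agent.S1751
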