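import Groth.Statements.S17510
import Groth.Agent.AbvarAmple.HilbertRoots

set_option autoImplicit false
universe u
open CategoryTheory CategoryTheory.Limits MonoidalCategory CartesianMonoidalCategory MonObj GrpObj AlgebraicGeometry
open AbVar
open Groth.Abvar Groth.Abvar.PicCalc Groth.AbvarAmple

namespace Groth.Agent.S17510

/-- Let X be an abelian variety over a field k (a proper, geometrically integral k-group scheme), let L
be an invertible O_X-module with H^j(X, L) = 0 for j ≠ i and H^i(X, L) ≠ 0, H an ample invertible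
O_X-module, and M an O_X-module isomorphic to L ⊗ H with H^j(X, M) = 0 for j ≠ i' and H^{i'}(X, M) ≠
0 (so L and L ⊗ H are non-degenerate with indices i and i'). Let Φ be a polynomial with rational
coefficients such that Φ(n) = χ(X, L ⊗ H^{⊗ n}) for every natural number n, and suppose Φ has
exactly one real root τ in the interval [0, 1], with τ ≠ 1. Then i ≤ i' + μ, where μ is the
multiplicity of τ as a root of Φ. (Non-degeneracy with index i is expressed by the equivalent
condition that the cohomology is concentrated in degree i and non-zero there.) -/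
theorem result
    (k : Type u) [Field k] (X : Over (Spec (CommRingCat.of k))) [GrpObj X] [IsProper X.hom] [GeometricallyIntegral X.hom]
    (L H M : X.left.Modules) (hL : PicF.IsInvertible L) (hH : CohB1.IsAmple H)
    (hM : Nonempty (M ≅ CohB1.tensorMod L H)) (i i' : ℕ)
    (hvan : ∀ j : ℕ, j ≠ i → Subsingleton (Coh.HH X.left L j)) (hne : Nontrivial (Coh.HH X.left L i))
    (hvan' : ∀ j : ℕ, j ≠ i' → Subsingleton (Coh.HH X.left M j)) (hne' : Nontrivial (Coh.HH X.left M i'))
    (Φ : Polynomial ℚ)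
    (hΦ : ∀ n : ℕ, Φ.eval (n : ℚ) =
      (@Curv2.euler k _ X.left ⟨X.hom⟩ (CohB1.tensorMod L (CohB1.tensorPow H n)) : ℚ))
    (τ : ℝ) (hτ0 : 0 ≤ τ) (hτ1 : τ < 1) (hτ : (Φ.map (algebraMap ℚ ℝ)).eval τ = 0)
    (huniq : ∀ t : ℝ, 0 ≤ t → t ≤ 1 → (Φ.map (algebraMap ℚ ℝ)).eval t = 0 → t = τ) :
    i ≤ i' + (Φ.map (algebraMap ℚ ℝ)).rootMultiplicity τ := by
  obtain ⟨e⟩ := hM
  have hMi : PicF.IsInvertible M := isInvertible_of_iso (isInvertible_tensorMod hL hH.1) e.symm
  have hMc : cls hMi = cls hL * cls hH.1 := by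
    rw [← cls_tensorMod hL hH.1, ← nonempty_iso_iff hMi (isInvertible_tensorMod hL hH.1)]
    exact ⟨e⟩
  have hi := (isIdx_cls_iff X.hom hL i).2 ⟨hvan, hne⟩
  have hi' : IsIdx (cls hL * cls hH.1) i' := hMc ▸ (isIdx_cls_iff X.hom hMi i').2 ⟨hvan', hne'⟩
  exact index_le_add_rootMultiplicity hH (hilbert_hyp hL hH hΦ) hi hi' hτ0 hτ1 hτ huniq

end Groth.Agent.S17510
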