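import Groth.Statements.S17511
import Groth.Agent.AbvarAmple.IndexField

set_option autoImplicit false
universe u
open CategoryTheory CategoryTheory.Limits MonoidalCategory CartesianMonoidalCategory MonObj GrpObj AlgebraicGeometry
open AbVar
open Groth.Abvar Groth.Abvar.PicCalc

namespace Groth.Agent.S17511

/-- In an algebraic family of line bundles the index cannot jump locally. Let X be an abelian variety
over a field k (a proper, geometrically integral k-group scheme), let T be a locally Noetherian
k-scheme, M an invertible module on X ×_k T, and for each point t of T let M_t be the pull-back of M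
to the fibre X ×_k Spec k(t). Suppose every M_t is non-degenerate, with index idx(t): H^j(X ×_k Spec
k(t), M_t) = 0 for j ≠ idx(t) and H^{idx(t)} ≠ 0. Then t ↦ idx(t) is a locally constant function on
T. (Non-degeneracy with index i is expressed by the equivalent condition that the cohomology is
concentrated in degree i and non-zero there.) -/
theorem result
    (k : Type u) [Field k] (X : Over (Spec (CommRingCat.of k))) [GrpObj X] [IsProper X.hom] [GeometricallyIntegral X.hom]
    (T : Over (Spec (CommRingCat.of k))) [IsLocallyNoetherian T.left]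
    (M : (X ⊗ T).left.Modules) (hM : PicF.IsInvertible M)
    (idx : ↥T.left → ℕ)
    (hidx : ∀ t : ↥T.left,
      (∀ j : ℕ, j ≠ idx t →
        Subsingleton (Coh.HH (pullback (snd X T).left (T.left.fromSpecResidueField t))
          ((Scheme.Modules.pullback (pullback.fst (snd X T).left (T.left.fromSpecResidueField t))).obj M) j)) ∧
      Nontrivial (Coh.HH (pullback (snd X T).left (T.left.fromSpecResidueField t))
          ((Scheme.Modules.pullback (pullback.fst (snd X T).left (T.left.fromSpecResidueField t))).obj M) (idx t))) :
    IsLocallyConstant idx := by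
  have hsq : IsPullback (snd X T).left (fst X T).left T.hom X.hom :=
    (IsPullback.of_hasPullback X.hom T.hom).flip
  have : IsProper (snd X T).left := MorphismProperty.of_isPullback hsq.flip ‹IsProper X.hom›
  have : Flat (snd X T).left := MorphismProperty.of_isPullback hsq.flip (inferInstance : Flat X.hom)
  have : IsLocallyNoetherian (X ⊗ T).left :=
    LocallyOfFiniteType.isLocallyNoetherian (snd X T).left
  have := Seesaw.locallyOfFinitePresentation_of_isNoetherian (snd X T).left
  have hcoh := Groth.EulerDeg.isCoh_of_isInvertible hM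
  have : M.IsQuasicoherent := hcoh.1
  have hFP := Groth.FlatStrata.isFP_of_isCoh hcoh
  have hfl := Seesaw.isFlatOver_of_isInvertible (snd X T).left hM
  let U : ℕ → Set T.left := fun j => {t | Subsingleton (CohIII.fiberH (snd X T).left M t j)}
  have hU : ∀ j, IsOpen (U j) := fun j =>
    Groth.CohBase.isOpen_subsingleton_fiberH (snd X T).left hFP hfl j
  have hne : ∀ t, t ∉ U (idx t) := fun t h => not_subsingleton_iff_nontrivial.2 (hidx t).2 h
  have hmem : ∀ t j, j ≠ idx t → t ∈ U j := fun t j hj => (hidx t).1 j hj
  rw [IsLocallyConstant.iff_isOpen_fiber]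
  intro i
  rw [isOpen_iff_forall_mem_open]
  intro t ht
  obtain ⟨_, ⟨V, hV, rfl⟩, htV, -⟩ := T.left.isBasis_affineOpens.exists_subset_of_mem_open
    (Set.mem_univ t) isOpen_univ
  obtain ⟨L, hL⟩ := Groth.CohBase.exists_isModel_fp (snd X T).left M hFP hfl hV
  obtain ⟨b, hb⟩ := hL.bdd
  have hhigh : ∀ j : ℕ, b < (j : ℤ) → ∀ y ∈ V, y ∈ U j := by
    intro j hj y hy
    obtain ⟨e⟩ := hL.fibres j y hy
    let := (T.left.evaluation V y hy).hom.toAlgebra
    have := ModuleCat.subsingleton_of_isZero (hb j hj)
    have : Subsingleton (Groth.CohBase.CxRank.Qc L (j : ℤ)) :=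
      (Submodule.mkQ_surjective _).subsingleton
    have : Subsingleton (TensorProduct Γ(T.left, V) (T.left.residueField y) (Groth.CohBase.CxRank.Qc L (j : ℤ))) :=
      subsingleton_of_forall_eq 0 fun a => by
        induction a using TensorProduct.induction_on with
        | zero => rfl
        | tmul u v => rw [Subsingleton.elim v 0, TensorProduct.tmul_zero]
        | add u v hu hv => rw [hu, hv, add_zero]
    exact e.toEquiv.subsingleton
  refine ⟨(V : Set T.left) ∩ ⋂ j ∈ (Finset.range (b.toNat + 1)).erase i, U j, fun s hs => ?_,
    V.isOpen.inter (isOpen_biInter_finset fun j _ => hU j), htV, ?_⟩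
  · obtain ⟨hsV, hs⟩ := hs
    by_contra hsi
    refine hne s ?_
    by_cases hj : idx s < b.toNat + 1
    · exact Set.mem_iInter₂.1 hs (idx s) (Finset.mem_erase.2 ⟨hsi, Finset.mem_range.2 hj⟩)
    · exact hhigh (idx s) (by omega) s hsV
  · exact Set.mem_iInter₂.2 fun j hj => hmem t j (fun h => (Finset.mem_erase.1 hj).1 (h.trans ht))

end Groth.Agent.S17511
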