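import Groth.Statements.S17517
import Groth.Agent.GitQuot.LatticeMax
-- import your own Groth.Agent.* helpers here

set_option autoImplicit false
universe u
open GIT

namespace Groth.Agent.S17517

/-- Let `E` be a finite-dimensional real inner product space and `L` a full lattice in `E` (a discrete
subgroup spanning `E`) on which the inner product is integer valued; let `F` and `G` be nonempty
finite sets of real linear functionals on `E` taking integer values on `L`, with `f_min v = min_{f ∈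
F} f v` and `g_min v = min_{g ∈ G} g v`. If some vector `v` has `f_min v ≥ 0` and `g_min v > 0`,
then on the set `C_F` of nonzero `v` with `f_min v ≥ 0` the function `v ↦ g_min v / ‖v‖` attains a
greatest value `M`, and there is exactly one lattice vector `v₀ ∈ C_F` with `g_min v₀ / ‖v₀‖ = M` of
which every lattice vector `v ∈ C_F` with `g_min v / ‖v‖ = M` is an integer multiple. -/
theorem result
    (E : Type u) [NormedAddCommGroup E] [InnerProductSpace ℝ E] [FiniteDimensional ℝ E]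
    (L : Submodule ℤ E) [DiscreteTopology L] [IsZLattice ℝ L]
    (hint : ∀ x ∈ L, ∀ y ∈ L, ∃ n : ℤ, inner ℝ x y = (n : ℝ))
    (F G : Finset (Module.Dual ℝ E)) (hF : F.Nonempty) (hG : G.Nonempty)
    (hFi : ∀ f ∈ F, ∀ x ∈ L, ∃ n : ℤ, f x = (n : ℝ)) (hGi : ∀ g ∈ G, ∀ x ∈ L, ∃ n : ℤ, g x = (n : ℝ))
    (hpos : ∃ v : E, 0 ≤ F.inf' hF (fun f => f v) ∧ 0 < G.inf' hG (fun g => g v)) :
    ∃ M : ℝ, IsGreatest ((fun v => G.inf' hG (fun g => g v) / ‖v‖) ''
        {v : E | v ≠ 0 ∧ 0 ≤ F.inf' hF (fun f => f v)}) M ∧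
      ∃! v₀ : E, v₀ ∈ L ∧ v₀ ≠ 0 ∧ 0 ≤ F.inf' hF (fun f => f v₀) ∧
        G.inf' hG (fun g => g v₀) / ‖v₀‖ = M ∧
        ∀ v ∈ L, v ≠ 0 → 0 ≤ F.inf' hF (fun f => f v) → G.inf' hG (fun g => g v) / ‖v‖ = M →
          ∃ n : ℤ, v = n • v₀ := by
  exact Groth.LatticeMax.exists_max L hint F G hF hG hFi hGi hpos

end Groth.Agent.S17517
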