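import Groth.Statements.S17518
import Groth.Agent.HTopHyper.FtDescent

set_option autoImplicit false
universe u
open CategoryTheory AlgebraicGeometry
open HTop

namespace Groth.Agent.S17518

/-- Let `f : X' ⟶ X` be a universally submersive morphism of Noetherian schemes (every base change of
`f` is a quotient map of topological spaces) and `g : X ⟶ Y` a morphism to a Noetherian scheme. If
`f ≫ g` is locally of finite type, then `g` is locally of finite type. (Both morphisms are then of
finite type, their sources being Noetherian.) -/
theorem result
    {X' X Y : Scheme.{u}} [IsNoetherian X'] [IsNoetherian X] [IsNoetherian Y]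
    (f : X' ⟶ X) (hf : SGA1.UnivSubmersive f) (g : X ⟶ Y)
    [LocallyOfFiniteType (f ≫ g)] : LocallyOfFiniteType g := by
  refine ⟨fun {U} hU {V} hV e => ?_⟩
  let R := Γ(Y, U)
  let A := Γ(X, V)
  let φ : R ⟶ A := g.appLE U V e
  have : IsNoetherianRing R := IsLocallyNoetherian.component_noetherian ⟨U, hU⟩
  have : IsNoetherianRing A := IsLocallyNoetherian.component_noetherian ⟨V, hV⟩
  letI : Algebra R A := φ.hom.toAlgebra
  let f' := Limits.pullback.snd f hV.fromSpec
  have : QuasiCompact f := inferInstance
  have hlft : LocallyOfFiniteType (f' ≫ Spec.map φ) := by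
    have h : LocallyOfFiniteType ((f' ≫ Spec.map φ) ≫ hU.fromSpec) := by
      rw [Category.assoc, IsAffineOpen.SpecMap_appLE_fromSpec g hU hV,
        ← Limits.pullback.condition_assoc]
      infer_instance
    exact locallyOfFiniteType_of_comp _ hU.fromSpec
  have : LocallyOfFiniteType (f' ≫ Spec.map (CommRingCat.ofHom (algebraMap R A))) := hlft
  have h := Groth.HTopHyper.finiteType_of_univSubmersive f'
    (Groth.HTopHyper.univSubmersive_pullback_snd f _ hf) (R := R) (A := A)
  exact h

end Groth.Agent.S17518
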