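import Groth.Statements.S17525
import Groth.Agent.Sga3.HopfSplit
import Groth.Agent.Sga3.UnipotentExt
import Groth.Agent.Hopf.Reductive
import Groth.Agent.Hopf.Push
import Groth.Agent.Misc1.Unip.FG

set_option autoImplicit false
universe u
open HopfRep

namespace Groth.Agent.S17525

open TensorProduct Groth.ComodLib Groth.Sga3

section Aux

variable {k : Type u} [Field k] {Q G K : Type u} [CommRing Q] [HopfAlgebra k Q] [CommRing G]
  [HopfAlgebra k G] [CommRing K] [HopfAlgebra k K] {φ : Q →ₐc[k] G} {ψ : G →ₐc[k] K}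
  (hker : RingHom.ker (ψ : G →ₐ[k] K) = Ideal.map (φ : Q →ₐ[k] G) (RingHom.ker (Bialgebra.counitAlgHom k Q)))

include hker in
theorem ψ_φ (b : Q) : ψ (φ b) = algebraMap k K (Coalgebra.counit (R := k) b) := by
  have h : (φ : Q →ₐ[k] G) (b - algebraMap k Q (Coalgebra.counit (R := k) b)) ∈
      RingHom.ker (ψ : G →ₐ[k] K) := by
    rw [hker]
    exact Ideal.mem_map_of_mem _ (by simp [RingHom.mem_ker])
  rw [RingHom.mem_ker, map_sub, map_sub, AlgHom.commutes, AlgHom.commutes, sub_eq_zero] at h
  exact h

/-- translation invariance from the other side -/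
theorem slice_antipode {α : Q →ₗ[k] k}
    (hα : ∀ c, α.rTensor Q (Coalgebra.comul (R := k) c) = α c ⊗ₜ[k] (1 : Q)) (c : Q) :
    slice (α ∘ₗ HopfAlgebra.antipode k) (Coalgebra.comul (R := k) c) = α (HopfAlgebra.antipode k c) • (1 : Q) := by
  let S := HopfAlgebra.antipode k (A := Q)
  have h1 : TensorProduct.lid k Q (α.rTensor Q (Coalgebra.comul (R := k) (S c))) =
      S (slice (α ∘ₗ S) (Coalgebra.comul (R := k) c)) := by
    rw [Groth.Misc12.comul_antipode_eq]
    generalize Coalgebra.comul (R := k) c = z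
    induction z using TensorProduct.induction_on with
    | zero => simp
    | add p q hp hq => simp only [map_add, hp, hq]
    | tmul p q => simp [S]
  rw [hα, TensorProduct.lid_tmul] at h1
  have h2 := congrArg S h1
  rw [Groth.Misc1.Unip.antipode_antipode, map_smul, HopfAlgebra.antipode_one] at h2
  exact h2.symm

include hker in
/-- an invariant integral of the group restricts to one of the normal subgroup -/
theorem isLinearlyReductive_ker (hψ : Function.Surjective ψ) (hG : HopfRep.IsLinearlyReductive k G) :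
    HopfRep.IsLinearlyReductive k K := by
  classical
  obtain ⟨α, hα, hα1⟩ := isLinearlyReductive_iff_integral.1 hG
  obtain ⟨r, hr1⟩ := HopfSplit.exists_retraction_range φ
  let R := (φ : Q →ₐ[k] G).range
  let e : G ⊗[k] G →ₗ[k] G := TensorProduct.lift
    ((LinearMap.mul k G).comp (R.val.toLinearMap ∘ₗ r.restrictScalars k ∘ₗ HopfAlgebra.antipode k))
  let F : G →ₗ[k] G := e ∘ₗ Coalgebra.comul (R := k)
  have he : ∀ x y, e (x ⊗ₜ[k] y) = (r (HopfAlgebra.antipode k x) : G) * y := fun x y => rfl
  have hmul : ∀ (b c : Q) (x y : G),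
      e ((x ⊗ₜ[k] y) * (φ b ⊗ₜ[k] φ c)) = φ (HopfAlgebra.antipode k b * c) * e (x ⊗ₜ[k] y) := by
    intro b c x y
    rw [Algebra.TensorProduct.tmul_mul_tmul, he, he, HopfAlgebra.antipode_mul, ← SubHopfFlat.map_antipode φ b]
    have h : r (φ (HopfAlgebra.antipode k b) * HopfAlgebra.antipode k x) =
        (⟨φ (HopfAlgebra.antipode k b), _, rfl⟩ : R) * r (HopfAlgebra.antipode k x) :=
      map_smul r (⟨φ (HopfAlgebra.antipode k b), _, rfl⟩ : R) (HopfAlgebra.antipode k x)
    rw [h, map_mul]
    change φ (HopfAlgebra.antipode k b) * _ * _ = _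
    ring
  have hFφ : ∀ (a : G) (b : Q), F (a * φ b) = Coalgebra.counit (R := k) b • F a := by
    intro a b
    simp only [F, LinearMap.comp_apply, Bialgebra.comul_mul, ← CoalgHomClass.map_comp_comul_apply φ b]
    have key : ∀ (z : G ⊗[k] G) (w : Q ⊗[k] Q),
        e (z * TensorProduct.map (φ : Q →ₗ[k] G) (φ : Q →ₗ[k] G) w) =
          φ (LinearMap.mul' k Q ((HopfAlgebra.antipode k).rTensor Q w)) * e z := by
      intro z w
      induction z using TensorProduct.induction_on with
      | zero => simp
      | add p q hp hq => simp only [add_mul, map_add, mul_add, hp, hq]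
      | tmul x y =>
        induction w using TensorProduct.induction_on with
        | zero => simp
        | add p q hp hq => simp only [mul_add, map_add, add_mul, hp, hq]
        | tmul p q =>
          rw [TensorProduct.map_tmul, LinearMap.rTensor_tmul, LinearMap.mul'_apply]
          exact hmul p q x y
    refine (key _ _).trans ?_
    rw [HopfAlgebra.mul_antipode_rTensor_comul_apply, AlgHomClass.commutes, Algebra.smul_def]
  have hF1 : F 1 = 1 := by
    simp [F, Algebra.TensorProduct.one_def, he, HopfAlgebra.antipode_one, hr1]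
  have hFker : RingHom.ker (ψ : G →ₐ[k] K) ≤
      { carrier := {x | ∀ a : G, F (a * x) = 0}
        add_mem' := fun {x y} hx hy a => by rw [mul_add, map_add, hx, hy, add_zero]
        zero_mem' := fun a => by simp
        smul_mem' := fun c x hx a => by rw [smul_eq_mul, ← mul_assoc, hx] } := by
    rw [hker, Ideal.map_le_iff_le_comap]
    intro b hb a
    change F (a * φ b) = 0
    rw [hFφ, show Coalgebra.counit (R := k) b = 0 from hb, zero_smul]
  obtain ⟨g, hg⟩ := (ψ : G →ₗ[k] K).exists_rightInverse_of_surjective (LinearMap.range_eq_top.2 hψ)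
  let β : K →ₗ[k] k := α ∘ₗ F ∘ₗ g
  have hβψ : ∀ a, β (ψ a) = α (F a) := by
    intro a
    have h : g (ψ a) - a ∈ RingHom.ker (ψ : G →ₐ[k] K) := by
      rw [RingHom.mem_ker, map_sub, sub_eq_zero]
      exact LinearMap.congr_fun hg (ψ a)
    have h2 : F (1 * (g (ψ a) - a)) = 0 := hFker h 1
    rw [one_mul, map_sub, sub_eq_zero] at h2
    exact congrArg α h2
  have hΔF : ∀ a, (ψ : G →ₗ[k] K).lTensor G (Coalgebra.comul (R := k) (F a)) =
      TensorProduct.map F (ψ : G →ₗ[k] K) (Coalgebra.comul (R := k) a) := by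
    intro a
    have hright : ∀ b : Q, (ψ : G →ₗ[k] K).lTensor G (Coalgebra.comul (R := k) (φ b)) = φ b ⊗ₜ[k] (1 : K) := by
      intro b
      rw [← CoalgHomClass.map_comp_comul_apply φ b]
      have key : ∀ w : Q ⊗[k] Q, (ψ : G →ₗ[k] K).lTensor G (TensorProduct.map (φ : Q →ₗ[k] G) (φ : Q →ₗ[k] G) w) =
          φ (TensorProduct.rid k Q ((Coalgebra.counit (R := k) (A := Q)).lTensor Q w)) ⊗ₜ[k] (1 : K) := by
        intro w
        induction w using TensorProduct.induction_on with
        | zero => simp
        | add p q hp hq => simp only [map_add, TensorProduct.add_tmul, hp, hq]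
        | tmul p q => simp [ψ_φ hker, Algebra.algebraMap_eq_smul_one, TensorProduct.smul_tmul]
      refine (key _).trans ?_
      rw [Coalgebra.lTensor_counit_comul, TensorProduct.rid_tmul, one_smul]
    let π := Algebra.TensorProduct.map (AlgHom.id k G) (ψ : G →ₐ[k] K)
    let π₂ : G ⊗[k] (G ⊗[k] G) →ₗ[k] G ⊗[k] K :=
      TensorProduct.map e (ψ : G →ₗ[k] K) ∘ₗ (TensorProduct.assoc k G G G).symm.toLinearMap
    have h1 : ∀ z : G ⊗[k] G, (ψ : G →ₗ[k] K).lTensor G (Coalgebra.comul (R := k) (e z)) =
        π₂ ((Coalgebra.comul (R := k) (A := G)).lTensor G z) := by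
      intro z
      induction z using TensorProduct.induction_on with
      | zero => simp
      | add p q hp hq => simp only [map_add, hp, hq]
      | tmul x y =>
        rw [he, Bialgebra.comul_mul, LinearMap.lTensor_tmul]
        change π (_ * _) = _
        obtain ⟨b, hb⟩ := (r (HopfAlgebra.antipode k x)).2
        rw [map_mul, show π (Coalgebra.comul (R := k) (r (HopfAlgebra.antipode k x) : G)) =
          (r (HopfAlgebra.antipode k x) : G) ⊗ₜ[k] (1 : K) by rw [← hb]; exact hright b]
        generalize Coalgebra.comul (R := k) y = w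
        induction w using TensorProduct.induction_on with
        | zero => simp
        | add p q hp hq => simp only [map_add, mul_add, TensorProduct.tmul_add, hp, hq]
        | tmul p q => simp [π, π₂, he]
    refine (h1 _).trans ?_
    rw [← Coalgebra.coassoc_apply]
    simp only [π₂, LinearMap.comp_apply, LinearEquiv.coe_coe, LinearEquiv.symm_apply_apply]
    generalize Coalgebra.comul (R := k) a = w
    induction w using TensorProduct.induction_on with
    | zero => simp
    | add p q hp hq => simp only [map_add, hp, hq]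
    | tmul p q => simp [F]
  refine isLinearlyReductive_iff_integral.2 ⟨β, ?_, ?_⟩
  · refine LinearMap.ext fun x => ?_
    obtain ⟨a, rfl⟩ := hψ x
    change β (ψ a) ⊗ₜ[k] (1 : K) = β.rTensor K (Coalgebra.comul (R := k) (ψ a))
    rw [← CoalgHomClass.map_comp_comul_apply ψ a, hβψ]
    have key : ∀ w : G ⊗[k] G, β.rTensor K (TensorProduct.map (ψ : G →ₗ[k] K) (ψ : G →ₗ[k] K) w) =
        α.rTensor K (TensorProduct.map F (ψ : G →ₗ[k] K) w) := by
      intro w
      induction w using TensorProduct.induction_on with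
      | zero => simp
      | add p q hp hq => simp only [map_add, hp, hq]
      | tmul p q => simp [hβψ]
    refine Eq.trans ?_ (key _).symm
    rw [← hΔF, ← LinearMap.comp_apply (α.rTensor K), LinearMap.rTensor_comp_lTensor,
      ← LinearMap.lTensor_comp_rTensor, LinearMap.comp_apply]
    have h := LinearMap.congr_fun hα (F a)
    change α (F a) ⊗ₜ[k] (1 : G) = α.rTensor G (Coalgebra.comul (R := k) (F a)) at h
    refine Eq.trans ?_ (congrArg ((ψ : G →ₗ[k] K).lTensor k) h)
    rw [LinearMap.lTensor_tmul]
    simp [F]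
  · rw [← map_one ψ, hβψ, hF1, hα1]

/-- a quotient of a linearly reductive group is linearly reductive -/
theorem isLinearlyReductive_quotient (hφ : Function.Injective φ) (hG : HopfRep.IsLinearlyReductive k G) :
    HopfRep.IsLinearlyReductive k Q := by
  intro V _ _ c hfin W hW
  letI cG : HopfRep.Comod k G V := pushComod (φ : Q →ₗc[k] G) c
  obtain ⟨W', hW', hc⟩ := hG V hfin W ((isSubcomod_push_iff hφ c W).2 hW)
  exact ⟨W', (isSubcomod_push_iff hφ c W').1 hW', hc⟩

include hker in
/-- an extension of linearly reductive groups is linearly reductive -/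
theorem isLinearlyReductive_extension (hφ : Function.Injective φ)
    (hK : HopfRep.IsLinearlyReductive k K) (hQ : HopfRep.IsLinearlyReductive k Q) :
    HopfRep.IsLinearlyReductive k G := by
  classical
  refine isLinearlyReductive_iff_crit.2 fun V _ _ cG hfin π hsurj hπ => ?_
  obtain ⟨v, hv, hv0⟩ : ∃ v : V, (∀ χ : K →ₗ[k] k, op (χ ∘ₗ (ψ : G →ₗ[k] K)) v = χ 1 • v) ∧ π v ≠ 0 := by
    letI cK : HopfRep.Comod k K V := pushComod (ψ : G →ₗc[k] K) cG
    obtain ⟨v, hv, hv0⟩ := fixedCrit_of_isLinearlyReductive hK V hfin π hsurj (LinearMap.ext fun x => by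
      change π.rTensor K ((ψ : G →ₗ[k] K).lTensor V (cG.coact x)) = π x ⊗ₜ[k] (1 : K)
      rw [← LinearMap.comp_apply (π.rTensor K), LinearMap.rTensor_comp_lTensor,
        ← LinearMap.lTensor_comp_rTensor, LinearMap.comp_apply,
        show π.rTensor G (cG.coact x) = π x ⊗ₜ[k] (1 : G) from LinearMap.congr_fun hπ x, LinearMap.lTensor_tmul]
      simp)
    refine ⟨v, fun χ => ?_, hv0⟩
    have h := congrArg (slice χ) (hv : HopfRep.Comod.coact (k := k) (A := K) v = v ⊗ₜ[k] (1 : K))
    rw [slice_tmul] at h
    exact (op_push (ψ : G →ₗc[k] K) cG χ v).symm.trans h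
  let J := RingHom.ker (ψ : G →ₐ[k] K)
  let ψb : G ⧸ J →ₐ[k] K := Ideal.Quotient.liftₐ J (ψ : G →ₐ[k] K) fun a ha => ha
  have hψb : Function.Injective ψb := RingHom.kerLift_injective (ψ : G →ₐ[k] K).toRingHom
  obtain ⟨g, hg⟩ := ψb.toLinearMap.exists_leftInverse_of_injective (LinearMap.ker_eq_bot.2 hψb)
  have hcf : ∀ f : V →ₗ[k] k, ∃ c, φ c = cf (A := G) f v := by
    intro f
    refine UnipotentExt.mem_range_of_tmul φ fun T _ _ i₁ i₂ h => UnipotentExt.eq_of_coinv_right hker i₁ i₂ h ?_
    change (Ideal.Quotient.mkₐ k J).toLinearMap.lTensor G (Coalgebra.comul (R := k) (cf (A := G) f v)) = _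
    refine ext_slice fun χ => ?_
    rw [slice_lTensor, slice_tmul]
    have e : χ ∘ₗ (Ideal.Quotient.mkₐ k J).toLinearMap = (χ ∘ₗ g) ∘ₗ (ψ : G →ₗ[k] K) :=
      LinearMap.ext fun a => congrArg χ (LinearMap.congr_fun hg (Ideal.Quotient.mk J a)).symm
    have e1 : (χ ∘ₗ g) 1 = χ 1 := by
      have h1 := LinearMap.congr_fun hg 1
      simp only [LinearMap.comp_apply, AlgHom.toLinearMap_apply, map_one, LinearMap.id_apply] at h1
      rw [LinearMap.comp_apply, h1]
    refine (isComodHom_op (isComodHom_cf f) _ v).symm.trans ?_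
    rw [e, hv, e1, map_smul]
  obtain ⟨α, hα, hα1⟩ := isLinearlyReductive_iff_integral.1 hQ
  obtain ⟨gφ, hgφ⟩ := (φ : Q →ₗ[k] G).exists_leftInverse_of_injective (LinearMap.ker_eq_bot.2 hφ)
  let Φ : G →ₗ[k] k := α ∘ₗ HopfAlgebra.antipode k ∘ₗ gφ
  have hΦ : ∀ c, Φ (φ c) = α (HopfAlgebra.antipode k c) := fun c =>
    congrArg (fun t => α (HopfAlgebra.antipode k t)) (LinearMap.congr_fun hgφ c)
  have hΦ1 : Φ 1 = 1 := by rw [← map_one φ, hΦ, HopfAlgebra.antipode_one, hα1]
  refine ⟨op Φ v, ?_, ?_⟩
  · refine ext_slice fun χ => ?_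
    rw [slice_tmul, ← op_apply, ← sub_eq_zero]
    refine (Module.forall_dual_apply_eq_zero_iff k _).1 fun f => ?_
    obtain ⟨c, hc⟩ := hcf f
    have hcst : cf (A := G) f (op Φ v) = α (HopfAlgebra.antipode k c) • (1 : G) := by
      rw [isComodHom_op (isComodHom_cf f), ← hc]
      change slice Φ (Coalgebra.comul (R := k) (φ c)) = _
      rw [← CoalgHomClass.map_comp_comul_apply φ c]
      have key : ∀ w : Q ⊗[k] Q, slice Φ (TensorProduct.map (φ : Q →ₗ[k] G) (φ : Q →ₗ[k] G) w) =
          φ (slice (α ∘ₗ HopfAlgebra.antipode k) w) := by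
        intro w
        induction w using TensorProduct.induction_on with
        | zero => simp
        | add p q hp hq => simp only [map_add, hp, hq]
        | tmul p q => simp [hΦ]
      refine (key _).trans ?_
      rw [slice_antipode (fun c => (LinearMap.congr_fun hα c).symm), map_smul, map_one]
    have h1 : f (op Φ v) = α (HopfAlgebra.antipode k c) := by
      conv_lhs => rw [← op_counit (k := k) (A := G) (op Φ v)]
      rw [← apply_cf, hcst, map_smul, Bialgebra.counit_one, smul_eq_mul, mul_one]
    rw [map_sub, map_smul, ← apply_cf, hcst, h1, map_smul, smul_eq_mul, smul_eq_mul, mul_comm, sub_self]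
  · rw [op_apply, ← slice_rTensor,
      show π.rTensor G (cG.coact v) = π v ⊗ₜ[k] (1 : G) from LinearMap.congr_fun hπ v, slice_tmul, hΦ1, one_smul]
    exact hv0

end Aux

/-- Let `k` be a field and `1 → K → G → Q → 1` an exact sequence of affine group schemes of finite type
over `k`, written on coordinate rings: `AQ`, `AG`, `AK` are commutative Hopf algebras of finite type
over `k`, `φ : AQ → AG` is an injective bialgebra map (so `G → Q` is faithfully flat) and `ψ : AG →
AK` is a surjective bialgebra map (so `K` is a closed subgroup of `G`) whose kernel is the ideal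
generated by the image under `φ` of the augmentation ideal of `AQ` (so `K` is the kernel of `G →
Q`). Then `G` is linearly reductive — every finite-dimensional comodule is semisimple — if and only
if both `K` and `Q` are. -/
theorem result
    (k : Type u) [Field k]
    (AQ AG AK : Type u) [CommRing AQ] [HopfAlgebra k AQ] [Algebra.FiniteType k AQ]
    [CommRing AG] [HopfAlgebra k AG] [Algebra.FiniteType k AG]
    [CommRing AK] [HopfAlgebra k AK] [Algebra.FiniteType k AK]
    (φ : AQ →ₐc[k] AG) (hφ : Function.Injective φ)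
    (ψ : AG →ₐc[k] AK) (hψ : Function.Surjective ψ)
    (hker : RingHom.ker (ψ : AG →ₐ[k] AK) =
      Ideal.map (φ : AQ →ₐ[k] AG) (RingHom.ker (Bialgebra.counitAlgHom k AQ))) :
    HopfRep.IsLinearlyReductive k AG ↔
      HopfRep.IsLinearlyReductive k AK ∧ HopfRep.IsLinearlyReductive k AQ := by
  exact ⟨fun h => ⟨isLinearlyReductive_ker hker hψ h, isLinearlyReductive_quotient hφ h⟩,
    fun h => isLinearlyReductive_extension hker hφ h.1 h.2⟩

end Groth.Agent.S17525
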