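import Groth.Statements.S17526
import Groth.Agent.GitQuot.Hilbert

set_option autoImplicit false
universe u
open GLin

namespace Groth.Agent.S17526

/-- Let `k` be a field, `H` a commutative Hopf algebra of finite type over `k` which is linearly
reductive (every finite-dimensional comodule is semisimple; `G = Spec H` is a linearly reductive
affine group), and `A` a Noetherian commutative `k`-algebra with a coaction of `H` that is an
algebra map (an action of `G` on `Spec A`). Then the ring of invariants `A^G` is Noetherian. (The
published corollary is stated over an algebraically closed field; it is the affine case of a
statement about good moduli spaces valid over any field, and is stated here over any field.) -/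
theorem result
    (k : Type u) [Field k] (H : Type u) [CommRing H] [HopfAlgebra k H] [Algebra.FiniteType k H]
    (hG : HopfRep.IsLinearlyReductive k H)
    (A : Type u) [CommRing A] [Algebra k A] [IsNoetherianRing A]
    [HopfRep.Comod k H A] [GLin.IsCoactAlg k H A] :
    IsNoetherianRing ↥(GLin.invariants k H A) := by
  let f : Ideal (GLin.invariants k H A) → Ideal A := Ideal.map (GLin.invariants k H A).val.toRingHom
  have hinj : Function.Injective f :=
    Function.LeftInverse.injective (Groth.GitQuot.map_comap_invariants (A := H) (R := A) hG)
  have hmono : StrictMono f := Monotone.strictMono_of_injective (fun _ _ h => Ideal.map_mono h) hinj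
  exact isNoetherian_iff'.2 hmono.wellFoundedGT

end Groth.Agent.S17526
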