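import Groth.Statements.S1753
import Groth.Agent.Lichtenbaum.TopVanish

set_option autoImplicit false
universe u
open CategoryTheory AlgebraicGeometry
open Dual

namespace Groth.Agent.S1753

/-- Let U be a variety over a field k (integral, separated and of finite type over k) and F a coherent
O_U-module with H^d(U, F) ≠ 0. Then dim U ≥ d, and if dim U = d then U is proper over k. -/
theorem result (k : Type u) [Field k] (U : Scheme.{u}) (f : U ⟶ Spec (CommRingCat.of k)) [IsIntegral U] [IsSeparated f] [LocallyOfFiniteType f] [QuasiCompact f] (F : U.Modules) (hF : Coh.IsCoh F) (d : ℕ) (h : Nontrivial (Coh.HH U F d)) : (d : WithBot ℕ∞) ≤ topologicalKrullDim U ∧ (topologicalKrullDim U = d → IsProper f) := by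
  haveI := Groth.Lichtenbaum.isNoetherian_of_field f
  obtain ⟨m, hm⟩ := Groth.Variety2.Dim.exists_height_eq f (genericPoint U)
  have hdim : topologicalKrullDim U = ((m : ℕ∞) : WithBot ℕ∞) := by
    rw [Groth.Variety2.Dim.dim_eq_height_genericPoint, hm]
  refine ⟨?_, fun hd => ?_⟩
  · by_contra hlt
    rw [hdim] at hlt
    have hmd : m < d := by
      by_contra hc
      push Not at hc
      exact hlt (by exact_mod_cast hc)
    haveI := Groth.Inter.Vanishing.subsingleton_H_of_dim_le hdim.le (Coh.toAb F) d hmd
    exact not_nontrivial (Coh.HH U F d) h
  · by_contra hnp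
    haveI := Groth.Lichtenbaum.subsingleton_HH_top f d hd.le (fun Z i _ _ hZ hp => hnp ?_) F hF
    · exact not_nontrivial (Coh.HH U F d) h
    · have hmd : m = d := by
        rw [hdim] at hd
        exact_mod_cast hd
      have hgen : i (genericPoint Z) = genericPoint U := by
        by_contra hne
        have hh : Order.height (i (genericPoint Z)) = (d : ℕ∞) := by
          rw [Groth.Variety2.Dim.height_eq_of_isPreimmersion (i ≫ f) f i rfl]
          have := (Groth.Variety2.Dim.dim_eq_height_genericPoint (X := Z)).symm.trans hZ
          exact_mod_cast this
        have hlt : i (genericPoint Z) < genericPoint U :=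
          lt_of_le_not_ge (genericPoint_specializes _)
            fun h' => hne ((show i (genericPoint Z) ⤳ genericPoint U from h').antisymm
              (genericPoint_specializes _)).eq
        have := Order.height_strictMono hlt (hh ▸ ENat.natCast_lt_top d)
        rw [hh, hm, hmd] at this
        exact lt_irrefl _ this
      haveI : Surjective i := ⟨fun x => by
        have := i.isClosedEmbedding.isClosed_range
        exact (genericPoint_specializes x).mem_closed this ⟨_, hgen⟩⟩
      haveI : IsIso i := isIso_of_isClosedImmersion_of_surjective i
      exact (MorphismProperty.cancel_left_of_respectsIso @IsProper i f).1 hp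

end Groth.Agent.S1753
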