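import Groth.Statements.S17537
import Mathlib
import Groth.Agent.Calg8.DecayingCompletion

set_option autoImplicit false
universe u v
open CAlg

namespace Groth.Agent.S17537

/-- For a commutative ring A, an ideal I and an A-module M, the I-adic completion M^ of M is itself
I-adically complete if and only if, for every n, every element of M^ is congruent modulo I^n M^ to
the image of an element of M (the maps M/I^n M → M^/I^n M^ are surjective). -/
theorem result {A : Type u} [CommRing A] (I : Ideal A)
    (M : Type v) [AddCommGroup M] [Module A M] :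
    IsAdicComplete I (AdicCompletion I M) ↔
      ∀ (n : ℕ) (x : AdicCompletion I M), ∃ y : M,
        x - AdicCompletion.of I M y ∈ (I ^ n • ⊤ : Submodule A (AdicCompletion I M)) := by
  refine ⟨fun h n x => ?_, fun h => ?_⟩
  · obtain ⟨y, hy⟩ := Groth.Calg8.exists_mem_sub_of x n
    exact ⟨y, Groth.Calg8.ker_eval_le n _ hy⟩
  · have hker : ∀ (n : ℕ) (x : AdicCompletion I M), AdicCompletion.eval I M n x = 0 →
        x ∈ (I ^ n • ⊤ : Submodule A (AdicCompletion I M)) := by
      intro n x hx
      obtain ⟨y, hy⟩ := h n x
      have h1 := AdicCompletion.pow_smul_top_le_ker_eval I n hy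
      rw [LinearMap.mem_ker, map_sub, hx, zero_sub, neg_eq_zero, AdicCompletion.eval_of,
        Submodule.mkQ_apply, Submodule.Quotient.mk_eq_zero] at h1
      simpa using add_mem hy (Groth.Calg8.map_mem_smul_top (AdicCompletion.of I M) _ h1)
    refine { toIsHausdorff := inferInstance, toIsPrecomplete := ⟨fun x hx => ?_⟩ }
    refine ⟨⟨fun n => (x n).val n, fun {a b} hab => ?_⟩, fun n => ?_⟩
    · have := AdicCompletion.pow_smul_top_le_ker_eval I a (SModEq.sub_mem.1 (hx hab))
      rw [LinearMap.mem_ker, map_sub, sub_eq_zero] at this
      exact ((x b).property hab).trans this.symm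
    · refine SModEq.sub_mem.2 (hker n _ ?_)
      show (x n).val n - (x n).val n = 0
      exact sub_self _

end Groth.Agent.S17537
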