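import Groth.Statements.S17540
import Mathlib
import Groth.Agent.Calg8.DecayingCompletion

set_option autoImplicit false
universe u v w
open W4c5adicflatcompl
open CAlg

namespace Groth.Agent.S17540

/-- Let A be I-adically complete, M an I-adically complete A-module and m : Z → M a family. The images
of the m z generate M/IM (the span of the family together with IM is all of M) if and only if the
family I-adically generates M: every x in M is the I-adically convergent sum of g z • m z for some
I-adically decaying function g : Z → A. -/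
theorem result {A : Type u} [CommRing A] (I : Ideal A) [IsAdicComplete I A]
    (M : Type v) [AddCommGroup M] [Module A M] [IsAdicComplete I M] (Z : Type w) (m : Z → M) :
    Submodule.span A (Set.range m) ⊔ I • ⊤ = ⊤ ↔
      ∀ x : M, ∃ g : Z → A, g ∈ decaying I Z A ∧
        ∀ n : ℕ, ∃ S : Finset Z,
          (∀ z, z ∉ S → g z • m z ∈ (I ^ n • ⊤ : Submodule A M)) ∧
          x - (∑ z ∈ S, g z • m z) ∈ (I ^ n • ⊤ : Submodule A M) := by
  classical
  constructor
  · intro h x
    have step : ∀ (k : ℕ) (y : M), y ∈ (I ^ k • ⊤ : Submodule A M) →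
        ∃ c : Z →₀ A, (∀ z, c z ∈ I ^ k) ∧
          y - Finsupp.linearCombination A m c ∈ (I ^ (k + 1) • ⊤ : Submodule A M) := by
      intro k y hy
      rw [← h, Submodule.smul_sup, ← Submodule.mul_smul, ← pow_succ, Submodule.mem_sup] at hy
      obtain ⟨u, hu, v, hv, rfl⟩ := hy
      obtain ⟨c, hc, rfl⟩ := (Submodule.mem_ideal_smul_span_iff_exists_sum _ _ _).1 hu
      exact ⟨c, hc, by simpa [Finsupp.linearCombination_apply] using hv⟩
    choose! c hc hc' using step
    let G : ℕ → (Z →₀ A) := fun n => Nat.rec (motive := fun _ => Z →₀ A) 0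
      (fun k g => g + c k (x - Finsupp.linearCombination A m g)) n
    have hG : ∀ n, G (n + 1) = G n + c n (x - Finsupp.linearCombination A m (G n)) := fun n => rfl
    have hmem : ∀ n, x - Finsupp.linearCombination A m (G n) ∈ (I ^ n • ⊤ : Submodule A M) := by
      intro n
      induction n with
      | zero => exact Groth.Calg8.mem_pow_zero_smul_top _
      | succ n ih =>
        rw [hG, map_add, ← sub_sub]
        exact hc' n _ ih
    have hGsub : ∀ (a b : ℕ) (z : Z), a ≤ b → G b z - G a z ∈ I ^ a := by
      intro a b z hab
      induction b, hab using Nat.le_induction with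
      | base => simp
      | succ b hab ih =>
        rw [hG, Finsupp.add_apply, add_sub_right_comm]
        exact add_mem ih (Ideal.pow_le_pow_right hab (hc b _ (hmem b) z))
    have hl : ∀ z, ∃ L : A, ∀ n, G n z ≡ L [SMOD (I ^ n • ⊤ : Submodule A A)] := fun z =>
      IsPrecomplete.prec inferInstance fun {a b} hab => SModEq.sub_mem.2
        (Groth.Calg8.mem_smul_top_ring.2 (by
          rw [← neg_sub]
          exact neg_mem (hGsub a b z hab)))
    choose g hg using hl
    have hg' : ∀ n z, g z - G n z ∈ I ^ n := fun n z => by
      rw [← neg_sub]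
      exact neg_mem (Groth.Calg8.mem_smul_top_ring.1 (SModEq.sub_mem.1 (hg z n)))
    refine ⟨g, fun n => (G n).support.finite_toSet.subset fun z hz => ?_, fun n =>
      ⟨(G n).support, fun z hz => ?_, ?_⟩⟩
    · by_contra hz'
      refine hz (Groth.Calg8.mem_smul_top_ring.2 ?_)
      simpa [Finsupp.notMem_support_iff.1 (by simpa using hz')] using hg' n z
    · have : g z ∈ I ^ n := by simpa [Finsupp.notMem_support_iff.1 hz] using hg' n z
      exact Submodule.smul_mem_smul this trivial
    · have h1 : ∑ z ∈ (G n).support, g z • m z = Finsupp.linearCombination A m (G n) +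
          ∑ z ∈ (G n).support, (g z - G n z) • m z := by
        simp [Finsupp.linearCombination_apply, Finsupp.sum, sub_smul]
      rw [h1, ← sub_sub]
      exact sub_mem (hmem n) (Submodule.sum_mem _ fun z _ =>
        Submodule.smul_mem_smul (hg' n z) trivial)
  · intro h
    rw [eq_top_iff]
    intro x _
    obtain ⟨g, -, hg⟩ := h x
    obtain ⟨S, -, hS⟩ := hg 1
    rw [pow_one] at hS
    refine Submodule.mem_sup.2 ⟨_, Submodule.sum_mem _ fun z _ =>
      Submodule.smul_mem _ (g z) (Submodule.subset_span ⟨z, rfl⟩), _, hS, add_sub_cancel _ _⟩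

end Groth.Agent.S17540
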