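import Groth.Statements.S17541
import Mathlib
import Groth.Agent.Calg8.DecayingCompletion

set_option autoImplicit false
universe u v w
open W4c5adicflatcompl
open CAlg

namespace Groth.Agent.S17541

/-- Over a Noetherian ring A which is I-adically complete, for a finitely generated A-module M, a
submodule N and a set Z, a function Z → N decays I-adically in N exactly when it decays I-adically
in M (decaying functions into N are the decaying functions into M with values in N). -/
theorem result {A : Type u} [CommRing A] [IsNoetherianRing A] (I : Ideal A)
    [IsAdicComplete I A] (Z : Type v) (M : Type w) [AddCommGroup M] [Module A M]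
    [Module.Finite A M] (N : Submodule A M) (f : Z → N) :
    f ∈ decaying I Z N ↔ (fun z => (f z : M)) ∈ decaying I Z M := by
  refine ⟨fun h => Groth.Calg8.comp_mem_decaying N.subtype h, fun h => ?_⟩
  obtain ⟨c, hc⟩ := Groth.Calg8.exists_artin_rees I N
  exact Groth.Calg8.mem_decaying_of_le c (fun z k hk => hc k (f z) hk) h

end Groth.Agent.S17541
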