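import Groth.Statements.S17542
import Mathlib
import Groth.Agent.Calg8.DecayingCompletion

set_option autoImplicit false
universe u v w
open W4c5adicflatcompl
open CAlg

namespace Groth.Agent.S17542

/-- Over a Noetherian ring A which is I-adically complete, for a surjection φ : M → M'' of A-modules
with M finitely generated and a set Z, every I-adically decaying function Z → M'' is the composite
of φ with an I-adically decaying function Z → M. (This is the right exactness of the
decaying-functions functor on finitely generated modules; left exactness is the statement about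
submodules.) -/
theorem result {A : Type u} [CommRing A] [IsNoetherianRing A] (I : Ideal A)
    [IsAdicComplete I A] (Z : Type v) {M : Type w} {M'' : Type w} [AddCommGroup M] [Module A M]
    [Module.Finite A M] [AddCommGroup M''] [Module A M''] (φ : M →ₗ[A] M'')
    (hφ : Function.Surjective φ) (g : Z → M'') (hg : g ∈ decaying I Z M'') :
    ∃ f : Z → M, f ∈ decaying I Z M ∧ ∀ z, φ (f z) = g z := by
  have : Module.Finite A M'' := Module.Finite.of_surjective φ hφ
  have := Groth.Calg8.isHausdorff_of_finite (I := I) (M := M'')
  obtain ⟨f, hf⟩ := Groth.Calg8.exists_choice (I := I) g (fun y x => φ x = y)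
    (fun k => ((I ^ k • ⊤ : Submodule A M) : Set M)) (fun a b hab x hx => Groth.Calg8.pow_smul_top_mono hab hx)
    0 (map_zero φ) (fun k => zero_mem _) (fun k y hy => by
      rw [← LinearMap.range_eq_top.2 hφ, LinearMap.range_eq_map, ← Submodule.map_smul''] at hy
      obtain ⟨x, hx, hxy⟩ := hy
      exact ⟨x, hxy, hx⟩)
  exact ⟨f, Groth.Calg8.mem_decaying_of_le 0 (fun z k hk => (hf z).2 k hk) hg, fun z => (hf z).1⟩

end Groth.Agent.S17542
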