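import Groth.Statements.S17543
import Mathlib
import Groth.Agent.Calg8.DecayingCompletion

set_option autoImplicit false
universe u v w
open W4c5adicflatcompl
open scoped TensorProduct
open CAlg

namespace Groth.Agent.S17543

/-- Over a Noetherian ring A which is I-adically complete, for a finitely generated A-module M and a set
Z, the canonical map from M ⊗ (decaying functions Z → A) to functions Z → M is injective and its
image is the module of decaying functions Z → M. -/
theorem result {A : Type u} [CommRing A] [IsNoetherianRing A] (I : Ideal A)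
    [IsAdicComplete I A] (Z : Type v) (M : Type w) [AddCommGroup M] [Module A M]
    [Module.Finite A M] :
    Function.Injective
        ((TensorProduct.piScalarRightHom A A M Z) ∘ₗ ((decaying I Z A).subtype.lTensor M)) ∧
      LinearMap.range
        ((TensorProduct.piScalarRightHom A A M Z) ∘ₗ ((decaying I Z A).subtype.lTensor M)) =
        decaying I Z M := by
  classical
  have hM := Groth.Calg8.isHausdorff_of_finite (I := I) (M := M)
  obtain ⟨q, m, hm⟩ := Module.Finite.exists_fin (R := A) (M := M)
  have hgen : ∀ t : M ⊗[A] decaying I Z A, ∃ g : Fin q → decaying I Z A,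
      t = ∑ i, m i ⊗ₜ[A] g i := by
    intro t
    induction t using TensorProduct.induction_on with
    | zero => exact ⟨0, by simp⟩
    | tmul x d =>
      obtain ⟨c, rfl⟩ := (Submodule.mem_span_range_iff_exists_fun A).1 (hm ▸ Submodule.mem_top :
        x ∈ Submodule.span A (Set.range m))
      refine ⟨fun i => c i • d, ?_⟩
      rw [TensorProduct.sum_tmul]
      simp [TensorProduct.smul_tmul]
    | add a b ha hb =>
      obtain ⟨g, rfl⟩ := ha
      obtain ⟨g', rfl⟩ := hb
      exact ⟨g + g', by simp [TensorProduct.tmul_add, Finset.sum_add_distrib]⟩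
  have happly : ∀ (g : Fin q → decaying I Z A) (z : Z),
      ((TensorProduct.piScalarRightHom A A M Z) ∘ₗ ((decaying I Z A).subtype.lTensor M))
        (∑ i, m i ⊗ₜ[A] g i) z = ∑ i, (g i : Z → A) z • m i := by
    intro g z
    simp [map_sum, Finset.sum_apply]
  constructor
  · rw [injective_iff_map_eq_zero]
    intro t ht
    obtain ⟨g, rfl⟩ := hgen t
    let p : (Fin q → A) →ₗ[A] M := Fintype.linearCombination A m
    have hK : ∀ z, (fun i => (g i : Z → A) z) ∈ LinearMap.ker p := fun z => by
      have := congrFun ht z
      rw [happly] at this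
      simpa [p, Fintype.linearCombination_apply] using this
    let G : Z → LinearMap.ker p := fun z => ⟨_, hK z⟩
    obtain ⟨c, hc⟩ := Groth.Calg8.exists_artin_rees I (LinearMap.ker p)
    have hG : G ∈ decaying I Z (LinearMap.ker p) := by
      refine Groth.Calg8.mem_decaying_of_le c (f := fun z => ((G z : Fin q → A))) (fun z k hk => hc k (G z) hk) ?_
      intro n
      refine (Set.finite_iUnion fun i => (g i).2 n).subset fun z hz => ?_
      by_contra hzU
      simp only [Set.mem_iUnion, not_exists, Set.mem_ofPred_eq, not_not] at hzU
      refine hz ?_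
      show (G z : Fin q → A) ∈ _
      rw [show (G z : Fin q → A) = ∑ i, (g i : Z → A) z • (Pi.single i 1 : Fin q → A) from
        pi_eq_sum_univ' _]
      exact Submodule.sum_mem _ fun i _ =>
        Submodule.smul_mem_smul (Groth.Calg8.mem_smul_top_ring.1 (hzU i)) trivial
    have := Groth.Calg8.isHausdorff_of_finite (I := I) (M := LinearMap.ker p)
    obtain ⟨r, k, hk⟩ := Module.Finite.exists_fin (R := A) (M := LinearMap.ker p)
    obtain ⟨d, hd⟩ := Groth.Calg8.exists_decaying_coeff k hk hG
    have hg : ∀ i, g i = ∑ j, (k j : Fin q → A) i • d j := fun i => Subtype.ext (funext fun z => by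
      have := congrArg (fun v : LinearMap.ker p => (v : Fin q → A) i) (hd z)
      simp [G] at this
      simp [← this, mul_comm])
    simp only [hg, TensorProduct.tmul_sum]
    rw [Finset.sum_comm]
    refine Finset.sum_eq_zero fun j _ => ?_
    rw [Finset.sum_congr rfl fun i _ => (TensorProduct.smul_tmul _ _ _).symm, ← TensorProduct.sum_tmul]
    have := (k j).2
    rw [LinearMap.mem_ker] at this
    simp only [p, Fintype.linearCombination_apply] at this
    rw [this, TensorProduct.zero_tmul]
  · refine le_antisymm ?_ fun f hf => ?_
    · rintro f ⟨t, rfl⟩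
      obtain ⟨g, rfl⟩ := hgen t
      rw [show _ = fun z => ∑ i, (g i : Z → A) z • m i from funext (happly g)]
      have : (∑ i, fun z => (g i : Z → A) z • m i) ∈ decaying I Z M :=
        Submodule.sum_mem _ fun i _ => Groth.Calg8.smul_mem_decaying (g i).2 _
      convert this using 1
      ext z
      simp
    · obtain ⟨c, hc⟩ := Groth.Calg8.exists_decaying_coeff m hm hf
      exact ⟨∑ i, m i ⊗ₜ[A] c i, funext fun z => by rw [happly, hc]⟩

end Groth.Agent.S17543
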