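import Groth.Statements.S17545
import Mathlib
import Groth.Agent.Calg8.DecayingCompletion
import Groth.Agent.S17543

set_option autoImplicit false
universe u v w
open W4c5adicflatcompl
open scoped TensorProduct
open CAlg

namespace Groth.Agent.S17545

/-- For a Noetherian ring A which is I-adically complete and any set Z, the A-module of I-adically
decaying functions Z → A is flat. -/
theorem result {A : Type u} [CommRing A] [IsNoetherianRing A]
    (I : Ideal A) [IsAdicComplete I A] (Z : Type v) :
    Module.Flat A (decaying I Z A) := by
  refine Module.Flat.iff_lTensor_injective'.2 fun J => ?_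
  have : Module.Finite A J := Module.Finite.iff_fg.2 (IsNoetherian.noetherian J)
  have hinj := (Groth.Agent.S17543.result I Z J).1
  have key : ∀ (t : decaying I Z A ⊗[A] J) (z : Z),
      ((((TensorProduct.piScalarRightHom A A J Z) ∘ₗ ((decaying I Z A).subtype.lTensor J))
        (TensorProduct.comm A _ _ t) z : J) : A) =
      (((TensorProduct.rid A (decaying I Z A)) (J.subtype.lTensor (decaying I Z A) t) :
        decaying I Z A) : Z → A) z := by
    intro t z
    induction t using TensorProduct.induction_on with
    | zero => simp
    | tmul d j => simp [mul_comm]
    | add a b ha hb => simp only [map_add, Pi.add_apply, Submodule.coe_add, ha, hb]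
  rw [injective_iff_map_eq_zero]
  intro t ht
  have : TensorProduct.comm A _ _ t = 0 := by
    apply hinj
    rw [map_zero]
    funext z
    apply Subtype.ext
    rw [key t z, ht]
    simp
  exact (TensorProduct.comm A _ _).map_eq_zero_iff.1 this

end Groth.Agent.S17545
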