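import Groth.Statements.S17549
import Mathlib
import Groth.Agent.Calg8.DecayingCompletion

set_option autoImplicit false
universe u
open W4c5adicflatcompl
open CAlg

namespace Groth.Agent.S17549

/-- Over a Noetherian ring A with I-adic completion Â, an A-module P is I-adically projective
(I-adically complete, and every A-linear map from P to the target of a surjection between I-adically
complete modules lifts along that surjection) exactly when P is a retract of some module of
I-adically decaying functions Z → Â: there are a set Z, an A-linear map i from P to the decaying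
functions Z → Â and an A-linear map r back with r ∘ i the identity of P. Test modules, P and Z live
in the universe of A. -/
theorem result {A : Type u} [CommRing A] [IsNoetherianRing A]
    (I : Ideal A) (P : Type u) [AddCommGroup P] [Module A P] :
    IsAdicProjective I P ↔
      ∃ (Z : Type u) (i : P →ₗ[A] decaying I Z (AdicCompletion I A))
        (r : decaying I Z (AdicCompletion I A) →ₗ[A] P), r ∘ₗ i = LinearMap.id := by
  classical
  have hI : I.FG := IsNoetherian.noetherian I
  have : IsAdicComplete I (AdicCompletion I A) := AdicCompletion.isAdicComplete hI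
  constructor
  · rintro ⟨hP, hlift⟩
    obtain ⟨r, hr, -⟩ := Groth.Calg8.existsUnique_linearMap_single hI (fun p : P => p)
    have hsurj : Function.Surjective r := fun p => ⟨_, hr p⟩
    obtain ⟨i, hi⟩ := hlift (decaying I P (AdicCompletion I A)) P
      (Groth.Calg8.isAdicComplete_decaying hI) hP r hsurj LinearMap.id
    exact ⟨P, i, r, hi⟩
  · rintro ⟨Z, i, r, hri⟩
    have hri' : ∀ p, r (i p) = p := LinearMap.congr_fun hri
    have hD : IsAdicComplete I (decaying I Z (AdicCompletion I A)) :=
      Groth.Calg8.isAdicComplete_decaying hI
    refine ⟨{ haus' := fun p hp => ?_, prec' := fun f hf => ?_ }, ?_⟩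
    · have := Groth.Calg8.eq_zero_of_forall_mem (I := I) (x := i p) fun n =>
        Groth.Calg8.map_mem_smul_top i _ (SModEq.zero.1 (hp n))
      rw [← hri' p, this, map_zero]
    · obtain ⟨L, hL⟩ := IsPrecomplete.prec hD.toIsPrecomplete (f := fun n => i (f n))
        (fun {a b} hab => SModEq.sub_mem.2 (by
          rw [← map_sub]
          exact Groth.Calg8.map_mem_smul_top i _ (SModEq.sub_mem.1 (hf hab))))
      refine ⟨r L, fun n => SModEq.sub_mem.2 ?_⟩
      have := Groth.Calg8.map_mem_smul_top r _ (SModEq.sub_mem.1 (hL n))
      rwa [map_sub, hri'] at this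
    · intro M N _ _ _ _ hM hN φ hφ ψ
      choose g hg using hφ
      obtain ⟨χ, hχ, -⟩ := Groth.Calg8.existsUnique_linearMap_single hI
        (fun z => g ((ψ ∘ₗ r) (single I z (1 : AdicCompletion I A))))
      obtain ⟨u, -, hu⟩ := Groth.Calg8.existsUnique_linearMap_single hI
        (fun z => (ψ ∘ₗ r) (single I z (1 : AdicCompletion I A)))
      have h : φ ∘ₗ χ = ψ ∘ₗ r :=
        (hu _ fun z => by simp [hχ, hg]).trans (hu _ fun z => rfl).symm
      refine ⟨χ ∘ₗ i, ?_⟩
      rw [← LinearMap.comp_assoc, h, LinearMap.comp_assoc, hri, LinearMap.comp_id]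

end Groth.Agent.S17549
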