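import Groth.Statements.S17550
import Mathlib
import Groth.Agent.Calg8.AdicFree

set_option autoImplicit false
universe u
open W4c5adicflatcompl
open scoped TensorProduct
open CAlg

namespace Groth.Agent.S17550

/-- For Noetherian rings A and B with B an A-algebra, ideals I of A and J of B with I B contained in J,
and an I-adically free A-module P, the J-adic completion of B ⊗ P is a J-adically free B-module (the
completed base change of an adically free module is adically free). -/
theorem result {A B : Type u} [CommRing A] [CommRing B] [Algebra A B]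
    [IsNoetherianRing A] [IsNoetherianRing B] (I : Ideal A) (J : Ideal B)
    (hIJ : I.map (algebraMap A B) ≤ J) (P : Type u) [AddCommGroup P] [Module A P]
    (hP : IsAdicFree I P) :
    IsAdicFree J (AdicCompletion J (B ⊗[A] P)) := by
  classical
  obtain ⟨Z, ⟨e⟩⟩ := hP
  have : IsAdicComplete I (AdicCompletion I A) := AdicCompletion.isAdicComplete (IsNoetherian.noetherian I)
  have : IsAdicComplete I (AdicCompletion I (Z →₀ A)) := AdicCompletion.isAdicComplete (IsNoetherian.noetherian I)
  let e' : P ≃ₗ[A] AdicCompletion I (Z →₀ A) := e.trans (Groth.Calg8.complEquiv I Z A).symm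
  let j : (Z →₀ A) →ₗ[A] P := e'.symm.toLinearMap ∘ₗ AdicCompletion.of I (Z →₀ A)
  let f : (Z →₀ B) →ₗ[B] B ⊗[A] P :=
    Finsupp.linearCombination B fun z => (1 : B) ⊗ₜ[A] j (Finsupp.single z 1)
  let Ψ : (Z →₀ A) →ₗ[A] (Z →₀ B) := Finsupp.mapRange.linearMap (Algebra.linearMap A B)
  have hΨ : ∀ c, f (Ψ c) = (1 : B) ⊗ₜ[A] j c := by
    intro c
    induction c using Finsupp.induction_linear with
    | zero => simp
    | add a b ha hb => simp [TensorProduct.tmul_add, ha, hb]
    | single z a =>
      have h1 : Finsupp.single z a = a • Finsupp.single z (1 : A) := by simp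
      rw [h1, map_smul Ψ, LinearMap.map_smul_of_tower, map_smul j, TensorProduct.tmul_smul]
      simp [Ψ, f]
  have hpow : ∀ (n : ℕ) (r : A), r ∈ I ^ n → algebraMap A B r ∈ J ^ n := fun n r hr =>
    Ideal.pow_right_mono hIJ n (by rw [← Ideal.map_pow]; exact Ideal.mem_map_of_mem _ hr)
  refine Groth.Calg8.isAdicFree_completion_of_bijective_mod J f (fun n y => ?_) (fun n x hx => ?_)
  · induction y using TensorProduct.induction_on with
    | zero => exact ⟨0, by simp⟩
    | add a b ha hb =>
      obtain ⟨u, hu⟩ := ha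
      obtain ⟨v, hv⟩ := hb
      exact ⟨u + v, by simpa [add_sub_add_comm] using add_mem hu hv⟩
    | tmul b p =>
      obtain ⟨c, hc⟩ := Groth.Calg8.exists_mem_sub_of (e' p) n
      have h1 : p - j c ∈ (I ^ n • ⊤ : Submodule A P) := by
        have := Groth.Calg8.map_mem_smul_top e'.symm.toLinearMap _ (Groth.Calg8.ker_eval_le n _ hc)
        rwa [map_sub, LinearEquiv.coe_coe, LinearEquiv.symm_apply_apply] at this
      refine ⟨b • Ψ c, ?_⟩
      rw [map_smul, hΨ, TensorProduct.smul_tmul', smul_eq_mul, mul_one, ← TensorProduct.tmul_sub]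
      rw [← neg_sub p (j c), TensorProduct.tmul_neg]
      refine Submodule.neg_mem _ ?_
      refine Submodule.smul_induction_on h1 (fun r hr q _ => ?_) (fun u v hu hv => ?_)
      · rw [TensorProduct.tmul_smul, ← IsScalarTower.algebraMap_smul B r]
        exact Submodule.smul_mem_smul (hpow n r hr) trivial
      · rw [TensorProduct.tmul_add]
        exact add_mem hu hv
  · let K : Submodule B (Z →₀ B) := J ^ n • ⊤
    let u : (Z →₀ A) →ₗ[A] (Z →₀ B) ⧸ K := (K.mkQ.restrictScalars A) ∘ₗ Ψ
    have hu : (I ^ n • ⊤ : Submodule A (Z →₀ A)) ≤ LinearMap.ker u := by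
      intro c hc
      rw [LinearMap.mem_ker, LinearMap.comp_apply, LinearMap.coe_restrictScalars, Submodule.mkQ_apply,
        Submodule.Quotient.mk_eq_zero, Groth.Calg8.finsupp_mem_smul_top_iff]
      intro z
      rw [Groth.Calg8.mem_smul_top_ring]
      exact hpow n _ (Groth.Calg8.mem_smul_top_ring.1 ((Groth.Calg8.finsupp_mem_smul_top_iff _ _).1 hc z))
    let v : P →ₗ[A] (Z →₀ B) ⧸ K :=
      (Submodule.liftQ _ u hu) ∘ₗ AdicCompletion.eval I (Z →₀ A) n ∘ₗ e'.toLinearMap
    let V : B ⊗[A] P →ₗ[B] (Z →₀ B) ⧸ K := LinearMap.liftBaseChange B v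
    have hV : V ∘ₗ f = K.mkQ := by
      refine Finsupp.lhom_ext fun z b => ?_
      have hv : v (j (Finsupp.single z 1)) = K.mkQ (Finsupp.single z 1) := by
        simp [v, j, u, Ψ]
      simp only [V, f, LinearMap.comp_apply, Finsupp.linearCombination_single, map_smul,
        LinearMap.liftBaseChange_one_tmul, hv]
      rw [← map_smul, Finsupp.smul_single, smul_eq_mul, mul_one]
    have hKx : V (f x) ∈ (J ^ n • ⊤ : Submodule B ((Z →₀ B) ⧸ K)) := Groth.Calg8.map_mem_smul_top V _ hx
    have h0 : (J ^ n • ⊤ : Submodule B ((Z →₀ B) ⧸ K)) = ⊥ :=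
      Groth.Calg8.smul_top_quotient_eq_bot _ _
    rw [h0, Submodule.mem_bot, ← LinearMap.comp_apply, hV, Submodule.mkQ_apply,
      Submodule.Quotient.mk_eq_zero] at hKx
    exact hKx

end Groth.Agent.S17550
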