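import Groth.Statements.S17551
import Mathlib
import Groth.Agent.Calg8.AdicFree

set_option autoImplicit false
universe u
open W4c5adicflatcompl
open scoped TensorProduct
open CAlg

namespace Groth.Agent.S17551

/-- For a complete Noetherian local ring A (maximal ideal m, m-adic completion Â) and an m-adic system
(M n, ψ n : M (n+1) → M n) of A-modules, meaning that each M n is a module over A/m^(n+1) and each ψ
n is surjective with kernel m^(n+1) M (n+1), if every M n is flat over A/m^(n+1) then the inverse
limit of the system is m-adically free (isomorphic to the m-adically decaying functions Z → Â for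
some set Z), and for every n its projection to M n is surjective with kernel m^(n+1) times the
limit. A, the M n and Z share one universe. -/
theorem result {A : Type u} [CommRing A] [IsNoetherianRing A] [IsLocalRing A]
    [IsAdicComplete (IsLocalRing.maximalIdeal A) A]
    (M : ℕ → Type u) [∀ n, AddCommGroup (M n)] [∀ n, Module A (M n)]
    [∀ n, Module (A ⧸ IsLocalRing.maximalIdeal A ^ (n + 1)) (M n)]
    [∀ n, IsScalarTower A (A ⧸ IsLocalRing.maximalIdeal A ^ (n + 1)) (M n)]
    [∀ n, Module.Flat (A ⧸ IsLocalRing.maximalIdeal A ^ (n + 1)) (M n)]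
    (ψ : ∀ n, M (n + 1) →ₗ[A] M n) (hψ : ∀ n, Function.Surjective (ψ n))
    (hker : ∀ n, LinearMap.ker (ψ n) =
      (IsLocalRing.maximalIdeal A ^ (n + 1) • ⊤ : Submodule A (M (n + 1)))) :
    IsAdicFree (IsLocalRing.maximalIdeal A) (sysLim M ψ) ∧
      ∀ n, Function.Surjective (sysProj M ψ n) ∧
        LinearMap.ker (sysProj M ψ n) =
          (IsLocalRing.maximalIdeal A ^ (n + 1) • ⊤ : Submodule A (sysLim M ψ)) := by
  let m := IsLocalRing.maximalIdeal A
  have hkill : ∀ (n : ℕ) (q : M n), q ∈ (m ^ (n + 1) • ⊤ : Submodule A (M n)) → q = 0 := fun n q hq => by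
    refine Submodule.smul_induction_on hq (fun r hr x _ => ?_) (fun a b ha hb => by rw [ha, hb, add_zero])
    rw [← IsScalarTower.algebraMap_smul (A ⧸ m ^ (n + 1)) r x, Ideal.Quotient.algebraMap_eq,
      Ideal.Quotient.eq_zero_iff_mem.2 hr, zero_smul]
  -- composites down to level 0
  let π : ∀ n, M n →ₗ[A] M 0 := fun n => Nat.rec (motive := fun n => M n →ₗ[A] M 0) LinearMap.id (fun k g => g ∘ₗ ψ k) n
  have hπ : ∀ n, Function.Surjective (π n) ∧ LinearMap.ker (π n) = (m • ⊤ : Submodule A (M n)) := by
    intro n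
    induction n with
    | zero =>
      refine ⟨fun x => ⟨x, rfl⟩, ?_⟩
      show LinearMap.ker (LinearMap.id : M 0 →ₗ[A] M 0) = _
      rw [LinearMap.ker_id, eq_comm, eq_bot_iff]
      intro x hx
      exact hkill 0 x (by rwa [pow_one])
    | succ n ih =>
      refine ⟨ih.1.comp (hψ n), ?_⟩
      show LinearMap.ker (π n ∘ₗ ψ n) = _
      rw [LinearMap.ker_comp, ih.2]
      have : (m • ⊤ : Submodule A (M n)) = Submodule.map (ψ n) (m • ⊤) := by
        rw [Submodule.map_smul'', Submodule.map_top, LinearMap.range_eq_top.2 (hψ n)]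
      rw [this, Submodule.comap_map_eq, hker, sup_eq_left]
      exact Submodule.smul_mono_left (Ideal.pow_le_self (Nat.succ_ne_zero n))
  have hfield : IsField (A ⧸ m) := (Ideal.Quotient.maximal_ideal_iff_isField_quotient m).1 (IsLocalRing.maximalIdeal.isMaximal A)
  let : Field (A ⧸ m) := hfield.toField
  let : Module (A ⧸ m) (M 0) := Module.IsTorsionBySet.module (I := m) (fun x r => by
    rcases r with ⟨r, hr⟩
    exact hkill 0 _ (Submodule.smul_mem_smul (by rwa [pow_one]) trivial))
  have : IsScalarTower A (A ⧸ m) (M 0) := ⟨fun r s x => by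
    obtain ⟨s, rfl⟩ := Ideal.Quotient.mk_surjective s
    show (r * s) • x = r • s • x
    rw [mul_smul]⟩
  obtain ⟨⟨Z, b⟩⟩ := Module.Free.exists_basis (R := A ⧸ m) (M := M 0)
  choose g hg using hψ
  let v : ∀ n, Z → M n := fun n => Nat.rec (motive := fun n => Z → M n) (fun z => b z) (fun k w z => g k (w z)) n
  have hv : ∀ n z, ψ n (v (n + 1) z) = v n z := fun n z => hg n _
  have hπv : ∀ n z, π n (v n z) = b z := by
    intro n
    induction n with
    | zero => intro z; rfl
    | succ n ih =>
      intro z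
      show π n (ψ n (v (n + 1) z)) = _
      rw [hv, ih]
  let f : ∀ n, (Z →₀ A) →ₗ[A] M n := fun n => Finsupp.linearCombination A (v n)
  have hfψ : ∀ n, ψ n ∘ₗ f (n + 1) = f n := fun n => Finsupp.lhom_ext fun z a => by simp [f, hv]
  have hb : ∀ c : Z →₀ A, Finsupp.linearCombination A (fun z => b z) c =
      b.repr.symm (Finsupp.mapRange (Ideal.Quotient.mk m) (map_zero _) c) := by
    intro c
    rw [Module.Basis.repr_symm_apply, Finsupp.linearCombination_apply,
      Finsupp.linearCombination_apply, Finsupp.sum_mapRange_index (by simp)]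
    refine Finsupp.sum_congr fun z _ => ?_
    rw [← Ideal.Quotient.algebraMap_eq, IsScalarTower.algebraMap_smul]
  have hπf : ∀ n c, π n (f n c) = Finsupp.linearCombination A (fun z => b z) c := by
    intro n c
    simp [f, Finsupp.linearCombination_apply, map_finsuppSum, hπv]
  have hbij : ∀ n, Function.Surjective (f n) ∧
      LinearMap.ker (f n) = (m ^ (n + 1) • ⊤ : Submodule A (Z →₀ A)) := fun n =>
    Groth.Calg8.bijMod_of_flat (m ^ (n + 1)) (Ideal.pow_le_self (Nat.succ_ne_zero n)) (n + 1) le_rfl (v n)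
      (fun c hc => by
        have h := hπf n c
        rw [LinearMap.mem_ker.1 ((hπ n).2.symm ▸ hc : f n c ∈ LinearMap.ker (π n)), hb, eq_comm,
          LinearEquiv.map_eq_zero_iff] at h
        intro z
        have := congrArg (fun d => d z) h
        simp only [Finsupp.mapRange_apply, Finsupp.zero_apply, Ideal.Quotient.eq_zero_iff_mem] at this
        exact this)
      (fun q => by
        obtain ⟨c, hc⟩ := Finsupp.mapRange_surjective (Ideal.Quotient.mk m) (map_zero _)
          Ideal.Quotient.mk_surjective (b.repr (π n q))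
        refine ⟨c, ?_⟩
        rw [← (hπ n).2, LinearMap.mem_ker, map_sub, hπf, hb, hc, LinearEquiv.symm_apply_apply, sub_self])
  have hI : m.FG := IsNoetherian.noetherian _
  have : IsAdicComplete m (AdicCompletion m A) := AdicCompletion.isAdicComplete hI
  have : IsAdicComplete m (AdicCompletion m (Z →₀ A)) := AdicCompletion.isAdicComplete hI
  let θ' : ∀ n, AdicCompletion m (Z →₀ A) →ₗ[A] M n := fun n =>
    (Submodule.liftQ _ (f n) (hbij n).2.ge) ∘ₗ AdicCompletion.eval m (Z →₀ A) (n + 1)
  have hθ'zero : ∀ n y, θ' n y = 0 ↔ y ∈ (m ^ (n + 1) • ⊤ : Submodule A (AdicCompletion m (Z →₀ A))) := by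
    intro n y
    rw [← Groth.Calg8.eval_eq_zero_iff, LinearMap.comp_apply, ← LinearMap.mem_ker,
      Submodule.ker_liftQ_eq_bot _ _ _ (hbij n).2.le, Submodule.mem_bot]
  let θ : AdicCompletion m (Z →₀ A) →ₗ[A] sysLim M ψ := LinearMap.codRestrict _ (LinearMap.pi θ') (fun y n => by
    show ψ n (θ' (n + 1) y) = θ' n y
    obtain ⟨c, hc⟩ := Submodule.Quotient.mk_surjective _ (AdicCompletion.eval m (Z →₀ A) (n + 1 + 1) y)
    have hc' : AdicCompletion.eval m (Z →₀ A) (n + 1) y = Submodule.Quotient.mk c := by
      rw [AdicCompletion.eval_apply, ← y.property (Nat.le_succ (n + 1)), ← AdicCompletion.eval_apply, ← hc]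
      rfl
    simp only [θ', LinearMap.comp_apply, ← hc, hc', Submodule.liftQ_apply]
    exact LinearMap.congr_fun (hfψ n) c)
  have hθ : Function.Bijective θ := by
    constructor
    · rw [injective_iff_map_eq_zero]
      intro y hy
      refine Groth.Calg8.eq_zero_of_forall_mem (I := m) fun n => ?_
      exact Groth.Calg8.pow_smul_top_mono (Nat.le_succ n)
        ((hθ'zero n y).1 (congrArg (fun t : sysLim M ψ => (t : ∀ k, M k) n) hy))
    · intro x
      choose c hc using fun n => (hbij n).1 ((x : ∀ k, M k) n)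
      let s : ℕ → (Z →₀ A) := fun k => c (k - 1)
      have hs : ∀ k, s k ≡ s (k + 1) [SMOD (m ^ k • ⊤ : Submodule A (Z →₀ A))] := by
        intro k
        rw [SModEq.sub_mem]
        rcases k with _ | k
        · exact Groth.Calg8.mem_pow_zero_smul_top _
        · rw [← (hbij k).2, LinearMap.mem_ker, map_sub, sub_eq_zero]
          show f k (c k) = f k (c (k + 1))
          have h2 := LinearMap.congr_fun (hfψ k) (c (k + 1))
          rw [LinearMap.comp_apply, hc (k + 1), x.2 k] at h2
          rw [hc k]
          exact h2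
      refine ⟨AdicCompletion.mk m _ (AdicCompletion.AdicCauchySequence.mk m _ s hs), Subtype.ext (funext fun n => ?_)⟩
      exact hc n
  let e := LinearEquiv.ofBijective θ hθ
  refine ⟨⟨Z, ⟨e.symm.trans (Groth.Calg8.complEquiv m Z A)⟩⟩, fun n => ⟨fun q => ?_, ?_⟩⟩
  · obtain ⟨c, hc⟩ := (hbij n).1 q
    exact ⟨θ (AdicCompletion.of m _ c), hc⟩
  · ext x
    obtain ⟨y, rfl⟩ := e.surjective x
    rw [LinearMap.mem_ker]
    refine (hθ'zero n y).trans ⟨fun h => Groth.Calg8.map_mem_smul_top e.toLinearMap _ h, fun h => ?_⟩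
    simpa using Groth.Calg8.map_mem_smul_top e.symm.toLinearMap _ h

end Groth.Agent.S17551
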