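import Groth.Statements.S17552
import Mathlib
import Groth.Agent.Calg8.AdicFree
import Groth.Agent.S17545

set_option autoImplicit false
universe u
open W4c5adicflatcompl
open scoped TensorProduct
open CAlg

namespace Groth.Agent.S17552

/-- For a complete Noetherian local ring A (maximal ideal m, m-adic completion Â), an A-module M is
isomorphic to the module of m-adically decaying functions Z → Â for some set Z (m-adically free)
exactly when M is flat and m-adically complete. M and Z live in the universe of A. -/
theorem result {A : Type u} [CommRing A] [IsNoetherianRing A] [IsLocalRing A]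
    [IsAdicComplete (IsLocalRing.maximalIdeal A) A]
    (M : Type u) [AddCommGroup M] [Module A M] :
    IsAdicFree (IsLocalRing.maximalIdeal A) M ↔
      Module.Flat A M ∧ IsAdicComplete (IsLocalRing.maximalIdeal A) M := by
  constructor
  · rintro ⟨Z, ⟨e⟩⟩
    have hI : (IsLocalRing.maximalIdeal A).FG := IsNoetherian.noetherian _
    have hD : IsAdicComplete (IsLocalRing.maximalIdeal A) (decaying (IsLocalRing.maximalIdeal A) Z A) :=
      Groth.Calg8.isAdicComplete_decaying hI
    let e' : M ≃ₗ[A] decaying (IsLocalRing.maximalIdeal A) Z A := e.trans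
      (Groth.Calg8.decayingCongr (AdicCompletion.ofLinearEquiv _ A).symm)
    have := Groth.Agent.S17545.result (IsLocalRing.maximalIdeal A) Z
    refine ⟨Module.Flat.of_linearEquiv e', { haus' := fun p hp => ?_, prec' := fun f hf => ?_ }⟩
    · apply e'.injective
      rw [map_zero]
      exact Groth.Calg8.eq_zero_of_forall_mem (I := IsLocalRing.maximalIdeal A) fun n =>
        Groth.Calg8.map_mem_smul_top e'.toLinearMap _ (SModEq.zero.1 (hp n))
    · obtain ⟨L, hL⟩ := IsPrecomplete.prec hD.toIsPrecomplete (f := fun n => e' (f n))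
        (fun {a b} hab => SModEq.sub_mem.2 (by
          rw [← map_sub]
          exact Groth.Calg8.map_mem_smul_top e'.toLinearMap _ (SModEq.sub_mem.1 (hf hab))))
      refine ⟨e'.symm L, fun n => SModEq.sub_mem.2 ?_⟩
      have := Groth.Calg8.map_mem_smul_top e'.symm.toLinearMap _ (SModEq.sub_mem.1 (hL n))
      simpa using this
  · rintro ⟨hflat, hM⟩
    let m := IsLocalRing.maximalIdeal A
    have hfield : IsField (A ⧸ m) := (Ideal.Quotient.maximal_ideal_iff_isField_quotient m).1 (IsLocalRing.maximalIdeal.isMaximal A)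
    let : Field (A ⧸ m) := hfield.toField
    obtain ⟨⟨Z, b⟩⟩ := Module.Free.exists_basis (R := A ⧸ m) (M := M ⧸ (m • ⊤ : Submodule A M))
    choose v hv using fun z => Submodule.Quotient.mk_surjective _ (b z)
    let f : (Z →₀ A) →ₗ[A] M := Finsupp.linearCombination A v
    have hmk : ∀ c : Z →₀ A, (Submodule.Quotient.mk (f c) : M ⧸ (m • ⊤ : Submodule A M)) =
        b.repr.symm (Finsupp.mapRange (Ideal.Quotient.mk m) (map_zero _) c) := by
      intro c
      rw [Module.Basis.repr_symm_apply]
      rw [Finsupp.linearCombination_apply (A ⧸ m), Finsupp.sum_mapRange_index (by simp)]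
      show (m • ⊤ : Submodule A M).mkQ (f c) = _
      simp only [f, Finsupp.linearCombination_apply, map_finsuppSum, map_smul, Submodule.mkQ_apply, hv]
      refine Finsupp.sum_congr fun z _ => ?_
      rw [← Ideal.Quotient.algebraMap_eq, IsScalarTower.algebraMap_smul]
    have key : ∀ n : ℕ, 1 ≤ n → Function.Surjective ((m ^ n • ⊤ : Submodule A M).mkQ ∘ₗ f) ∧
        ∀ x, f x ∈ (m ^ n • ⊤ : Submodule A M) → x ∈ (m ^ n • ⊤ : Submodule A (Z →₀ A)) := by
      intro n hn
      let Q := M ⧸ (m ^ n • ⊤ : Submodule A M)
      have hQ : Module.Flat (A ⧸ m ^ n) Q := Module.Flat.of_linearEquiv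
        ((TensorProduct.quotTensorEquivQuotSMul M (m ^ n)).symm.extendScalarsOfSurjective
          (S := A ⧸ m ^ n) Ideal.Quotient.mk_surjective)
      have hcomp : ∀ c, Finsupp.linearCombination A (fun z => (Submodule.Quotient.mk (v z) : Q)) c =
          (Submodule.Quotient.mk (f c) : Q) := fun c => by
        show _ = (m ^ n • ⊤ : Submodule A M).mkQ (f c)
        simp [f, Finsupp.linearCombination_apply, map_finsuppSum]
      have hle : (m ^ n • ⊤ : Submodule A M) ≤ m • ⊤ :=
        Submodule.smul_mono_left (Ideal.pow_le_self (by omega))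
      obtain ⟨h1, h2⟩ := Groth.Calg8.bijMod_of_flat (m ^ n) (Ideal.pow_le_self (by omega)) n le_rfl
        (Q := Q) (fun z => (Submodule.Quotient.mk (v z) : Q)) (fun c hc => by
          have hc' := Groth.Calg8.map_mem_smul_top (Submodule.factor hle) _ hc
          rw [hcomp] at hc'
          change (Submodule.Quotient.mk (f c) : M ⧸ (m • ⊤ : Submodule A M)) ∈ (m • ⊤ : Submodule A _) at hc'
          have h0 := Groth.Calg8.smul_top_quotient_eq_bot m M
          rw [h0, Submodule.mem_bot, hmk, LinearEquiv.map_eq_zero_iff] at hc'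
          intro z
          have := congrArg (fun d => d z) hc'
          simp only [Finsupp.mapRange_apply, Finsupp.zero_apply, Ideal.Quotient.eq_zero_iff_mem] at this
          exact this) (fun q => by
          obtain ⟨x, rfl⟩ := Submodule.Quotient.mk_surjective _ q
          obtain ⟨c, hc⟩ := Finsupp.mapRange_surjective (Ideal.Quotient.mk m) (map_zero _)
            Ideal.Quotient.mk_surjective (b.repr (Submodule.Quotient.mk x))
          refine ⟨c, ?_⟩
          rw [hcomp, ← Submodule.Quotient.mk_sub]
          refine Groth.Calg8.map_mem_smul_top (m ^ n • ⊤ : Submodule A M).mkQ _ ?_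
          rw [← Submodule.Quotient.mk_eq_zero, Submodule.Quotient.mk_sub, hmk, hc,
            LinearEquiv.symm_apply_apply, sub_self])
      refine ⟨fun q => ?_, fun x hx => ?_⟩
      · obtain ⟨c, hc⟩ := h1 q
        exact ⟨c, (hcomp c).symm.trans hc⟩
      · rw [← h2, LinearMap.mem_ker, hcomp, Submodule.Quotient.mk_eq_zero]
        exact hx
    have hfree := Groth.Calg8.isAdicFree_completion_of_bijective_mod m f (fun n y => by
      rcases Nat.eq_zero_or_pos n with rfl | hn
      · exact ⟨0, Groth.Calg8.mem_pow_zero_smul_top _⟩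
      · obtain ⟨x, hx⟩ := (key n hn).1 (Submodule.Quotient.mk y)
        exact ⟨x, (Submodule.Quotient.eq _).1 hx⟩) (fun n x hx => by
      rcases Nat.eq_zero_or_pos n with rfl | hn
      · exact Groth.Calg8.mem_pow_zero_smul_top _
      · exact (key n hn).2 x hx)
    obtain ⟨Z', ⟨e⟩⟩ := hfree
    exact ⟨Z', ⟨(AdicCompletion.ofLinearEquiv m M).trans e⟩⟩

end Groth.Agent.S17552
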