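import Groth.Statements.S17553
import Mathlib
import Groth.Agent.Calg8.DecayingCompletion

set_option autoImplicit false
universe u v w
open W4c5adicflatcompl
open CAlg

namespace Groth.Agent.S17553

/-- Let A be I-adically complete, M an I-adically complete A-module, Z a set and f : Z → M a function.
There is an A-linear map from the I-adically decaying functions Z → A to M whose value on g is the
I-adically convergent sum of the g z • f z. -/
theorem result {A : Type u} [CommRing A] (I : Ideal A) [IsAdicComplete I A]
    (Z : Type v) (M : Type w) [AddCommGroup M] [Module A M] [IsAdicComplete I M] (f : Z → M) :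
    ∃ φ : decaying I Z A →ₗ[A] M, ∀ (g : decaying I Z A) (n : ℕ), ∃ S : Finset Z,
      (∀ z, z ∉ S → (g : Z → A) z • f z ∈ (I ^ n • ⊤ : Submodule A M)) ∧
      φ g - (∑ z ∈ S, (g : Z → A) z • f z) ∈ (I ^ n • ⊤ : Submodule A M) := by
  have hex : ∀ g : decaying I Z A, ∃ s, Groth.Calg8.IsSum I (fun z => (g : Z → A) z • f z) s :=
    fun g => Groth.Calg8.exists_isSum (Groth.Calg8.smul_mem_decaying g.2 f)
  choose s hs using hex
  let φ : decaying I Z A →ₗ[A] M :=
    { toFun := s
      map_add' := fun a b => (hs (a + b)).unique (by
        convert (hs a).add (hs b) using 1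
        ext z
        simp [add_smul])
      map_smul' := fun r a => (hs (r • a)).unique (by
        have h := (hs a).smul r
        convert h using 1
        · ext z
          simp [mul_smul]
        · rfl) }
  exact ⟨φ, fun g n => hs g n⟩

end Groth.Agent.S17553
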