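import Groth.Statements.S1756
import Groth.Agent.LocFinite.KollarFormal

set_option autoImplicit false
universe u
open LocCoh

namespace Groth.Agent.S1756

/-- Let A be a universally catenary Noetherian ring and I an ideal such that for every prime q
containing I the formal fibres of A_q satisfy (S_1), and let M be a finite A-module. If for every
associated prime p of M not containing I and every prime q containing both p and I the longest chain
of primes from p to q has length at least 2, then the local cohomology module H^1_I(M) is a finite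
A-module. (Affine form: finiteness of H^1_I(M) stands in for coherence of the pushforward of the
restriction of M~ to Spec A ∖ V(I).) -/
theorem result (A : Type u) [CommRing A] [IsNoetherianRing A] (hA : CAlg.IsUniversallyCatenary A) (I : Ideal A) (hF : ∀ q : PrimeSpectrum A, I ≤ q.asIdeal → EGA4.HasSnFormalFibres 1 (Localization.AtPrime q.asIdeal)) (M : Type u) [AddCommGroup M] [Module A M] [Module.Finite A M] (h : ∀ (p q : PrimeSpectrum A) (hpq : p ≤ q), p.asIdeal ∈ associatedPrimes A M → ¬ I ≤ p.asIdeal → I ≤ q.asIdeal → (2 : ℕ∞) ≤ Order.height (⟨q, hpq⟩ : Set.Ici p)) : Module.Finite A (LocCoh.H I 1 M) := by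
  refine Groth.LocFinite.Kollar.finite_H_one_of_formal hA I M (fun q hIq J _ P hP => ?_) h
  haveI : Module.Flat (Localization.AtPrime q.asIdeal ⧸ J)
      (EGA4.Cpl (Localization.AtPrime q.asIdeal ⧸ J)) := AdicCompletion.flat_of_isNoetherian _
  haveI := Groth.Ega4b.isNoetherianRing_cpl (Localization.AtPrime q.asIdeal ⧸ J)
  haveI := Ideal.isPrime_bot (α := Localization.AtPrime q.asIdeal ⧸ J)
  obtain ⟨ψ, e, -⟩ := Groth.Ega4b.exists_fibreEquiv_cplQuot (Localization.AtPrime q.asIdeal) J ⊥
  exact Groth.LocFinite.Kollar.mem_minimalPrimes_of_fibre e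
    (hF q hIq ((⊥ : Ideal (Localization.AtPrime q.asIdeal ⧸ J)).comap (Ideal.Quotient.mk J))) hP

end Groth.Agent.S1756
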