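import Groth.Statements.S17570
import Groth.Agent.CycInter.BivC1

set_option autoImplicit false
universe u
open CategoryTheory AlgebraicGeometry
open Bivar

namespace Groth.Agent.S17570

/-- Let L be an invertible O_X-module. Then the rule assigning to every g : Y → X locally of finite type
the operation c_1(g^*L) ∩ − : CH_k(Y) → CH_{k−1}(Y) is a bivariant class of degree 1: there is an
operational class c ∈ A^1(X) such that on every test scheme g : Y → X (with its induced dimension
function) and every k-cycle α on Y, c ∩ [α] is the class of any cycle whose coefficients are those
of c_1(g^*L) ∩ α computed from any nowhere-zero choice of rational sections of g^*L (the binder
Bivar.IsC1Class, which also records invertibility of L). In particular the operation passes to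
rational equivalence and does not depend on the sections. Here a pair (X, δ) with Cyc.IsSetup plays
the role of a scheme locally of finite type over the base (S, δ) (X locally Noetherian with
universally catenary local rings, δ a dimension function), Cyc.DeltaCompat records that a dimension
function is the induced one, and bivariant classes are taken in the operational sense of the
prelude: additive operations on the Chow groups CH_k (k-cycles modulo rational equivalence) of all
test schemes, compatible with proper pushforward, flat pullback and the Gysin maps of zero schemes
of sections of invertible modules in representative form (Bivar.Cl for A^p(X → Y), Bivar.OpCl for
A^p(X)). -/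
theorem result (X : Scheme.{u}) (δX : X → ℤ) (hX : Cyc.IsSetup X δX) (L : X.Modules) (hL : PicF.IsInvertible L) : ∃ c : Bivar.OpCl 1 X δX, Bivar.IsC1Class L c := by
  exact Groth.CycInter.Biv.exists_isC1Class hX hL

end Groth.Agent.S17570
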