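import Groth.Statements.S17572
import Groth.Agent.CycInter.PbChernCl

set_option autoImplicit false
universe u
open CategoryTheory AlgebraicGeometry
open Bivar

namespace Groth.Agent.S17572

/-- Fix a finite locally free O_X-module E whose rank is r. Let π : P → X denote the projective bundle
attached to E and put ξ := c_1(O_P(1)); then the c_j(E) ∩ α form the only sequence of classes α_j,
starting with α_0 = α, such that the alternating sum, taken over indices i from 0 up to r, of the
terms (−1)^i ξ^i ∩ π^*α_{r−i} vanishes in CH_*(P). Consequently two families of operational classes
c, c' : ℕ → A^*(X) which both are Chern classes of E in the sense of the binder Bivar.IsChernClasses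
E r (c_0 = 1, c_j = 0 for j > r, and on every test scheme g : Y → X, every projective bundle of g^*E
with induced dimension function and every k-cycle α on Y, all representatives of the c_j ∩ [α]
satisfy that relation up to rational equivalence on P) coincide. Here a pair (X, δ) with Cyc.IsSetup
plays the role of a scheme locally of finite type over the base (S, δ) (X locally Noetherian with
universally catenary local rings, δ a dimension function), Cyc.DeltaCompat records that a dimension
function is the induced one, and bivariant classes are taken in the operational sense of the
prelude: additive operations on the Chow groups CH_k (k-cycles modulo rational equivalence) of all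
test schemes, compatible with proper pushforward, flat pullback and the Gysin maps of zero schemes
of sections of invertible modules in representative form (Bivar.Cl for A^p(X → Y), Bivar.OpCl for
A^p(X)). -/
theorem result (X : Scheme.{u}) (δX : X → ℤ) (hX : Cyc.IsSetup X δX) (E : X.Modules) (r : ℕ) (hE : FlatMod.IsFinLocFreeOfRank r E) (c c' : (j : ℕ) → Bivar.OpCl (j : ℤ) X δX) (hc : Bivar.IsChernClasses E r c) (hc' : Bivar.IsChernClasses E r c') : c = c' := by
  exact Groth.CycInter.PB.isChernClasses_unique hX c c' hc hc'

end Groth.Agent.S17572
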