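import Groth.Statements.S17573
import Groth.Agent.CycInter.BivC1Gysin

set_option autoImplicit false
universe u
open CategoryTheory AlgebraicGeometry
open Bivar

namespace Groth.Agent.S17573

/-- Let L be an invertible O_X-module and c_1(L) ∈ A^1(X) its first Chern class. Then c_1(L) is in the
centre of the ring A^*(X) of operational classes: for every operational class d ∈ A^q(X), every test
scheme g : Y → X locally of finite type (with induced dimension function) and every x ∈ CH_k(Y) one
has c_1(L) ∩ (d ∩ x) = d ∩ (c_1(L) ∩ x) in CH_{k−q−1}(Y). Here c_1(L) is given through the binder
Bivar.IsC1Class (on every test scheme it caps a cycle class to the class of c_1(g^*L) ∩ α computed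
with any nowhere-zero rational sections), and the two sides, of weights k − q − 1 and k − 1 − q, are
compared through the transport Bivar.chCast. Here a pair (X, δ) with Cyc.IsSetup plays the role of a
scheme locally of finite type over the base (S, δ) (X locally Noetherian with universally catenary
local rings, δ a dimension function), Cyc.DeltaCompat records that a dimension function is the
induced one, and bivariant classes are taken in the operational sense of the prelude: additive
operations on the Chow groups CH_k (k-cycles modulo rational equivalence) of all test schemes,
compatible with proper pushforward, flat pullback and the Gysin maps of zero schemes of sections of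
invertible modules in representative form (Bivar.Cl for A^p(X → Y), Bivar.OpCl for A^p(X)). -/
theorem result (X : Scheme.{u}) (δX : X → ℤ) (hX : Cyc.IsSetup X δX) (L : X.Modules) (c : Bivar.OpCl 1 X δX) (hc : Bivar.IsC1Class L c) (q : ℤ) (d : Bivar.OpCl q X δX) (s : Bivar.OSq X δX) (k : ℤ) (x : ChowOps.CH s.Y s.δ k) : c.op s (k - q) (d.op s k x) = Bivar.chCast s.Y s.δ (sub_right_comm k 1 q) (d.op s (k - 1) (c.op s k x)) := by
  exact Groth.CycInter.Biv.opCl_c1_comm hX hc q d s k x

end Groth.Agent.S17573
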