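import Groth.Statements.S1758
import Groth.Agent.LechIndep.Basic

set_option autoImplicit false
universe u
open LocCoh

namespace Groth.Agent.S1758

/-- Let A → B be a flat ring map. If a family f_1, …, f_r of elements of A is independent (every linear
relation has coefficients in the ideal the family generates), then so is the family of their images
in B. -/
theorem result (A B : Type u) [CommRing A] [CommRing B] [Algebra A B] [Module.Flat A B] (r : ℕ) (f : Fin r → A) (hf : Dual2.Independent f) : Dual2.Independent (fun i => algebraMap A B (f i)) := by
  exact Groth.LechIndep.independent_map_of_flat B f hf

end Groth.Agent.S1758
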