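import Groth.Statements.S17580
import Groth.Agent.Misc13.BaseLocus

set_option autoImplicit false
open CategoryTheory CategoryTheory.Limits AlgebraicGeometry
open PosLin

namespace Groth.Agent.S17580

/-- Let X be a projective variety over the complex numbers (an integral scheme, proper over ℂ, with an
ample invertible module) and L an invertible O_X-module. For m ≥ 1 let Bs(L^⊗m) ⊆ X be the base
locus of the complete linear series of L^⊗m, the set of points x lying in no open X_s over which a
global section s : O_X → L^⊗m is an isomorphism, and let B(L) = ⋂_{m ≥ 1} Bs(L^⊗m) be the stable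
base locus (an intersection of closed subsets, scheme structures disregarded). Then there is an
integer n₀ > 0 such that B(L) = Bs(L^⊗kn₀) for every k ≥ 1. -/
theorem result (X : Scheme.{0}) [X.Over (Spec (CommRingCat.of ℂ))] [IsIntegral X]
    [IsProper (X ↘ Spec (CommRingCat.of ℂ))] (H : X.Modules) (hH : CohB1.IsAmple H)
    (L : X.Modules) (hL : PicF.IsInvertible L) :
    ∃ n₀ : ℕ, 0 < n₀ ∧ ∀ k : ℕ, 0 < k →
      {x : X | ∀ m : ℕ, 0 < m → ∀ s : Coh.structureModule X ⟶ CohB1.tensorPow L m, x ∉ CohB1.genLocus (CohB1.tensorPow L m) s} =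
        {x : X | ∀ s : Coh.structureModule X ⟶ CohB1.tensorPow L (k * n₀), x ∉ CohB1.genLocus (CohB1.tensorPow L (k * n₀)) s} := by
  have := Groth.Misc13.BaseLocus.noetherianSpace_of_lft X (X ↘ Spec (CommRingCat.of ℂ))
  exact Groth.Misc13.BaseLocus.exists_SBs_eq hL

end Groth.Agent.S17580
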