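import Groth.Statements.S17584
import Groth.Agent.Misc13.FibreSpace
import Groth.Agent.Variety2.Normal

set_option autoImplicit false
open CategoryTheory CategoryTheory.Limits AlgebraicGeometry
open PosLin

namespace Groth.Agent.S17584

/-- Let X and Y each be a projective variety over the complex numbers (an integral scheme, proper over
ℂ, with an ample invertible module), and f : X → Y an algebraic fibre space (a surjective morphism
over ℂ with O_Y → f_*O_X an isomorphism). If X is normal, then Y is normal. -/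
theorem result (X : Scheme.{0}) [X.Over (Spec (CommRingCat.of ℂ))] [IsIntegral X] [IsProper (X ↘ Spec (CommRingCat.of ℂ))]
    (HX : X.Modules) (hHX : CohB1.IsAmple HX)
    (Y : Scheme.{0}) [Y.Over (Spec (CommRingCat.of ℂ))] [IsIntegral Y] [IsProper (Y ↘ Spec (CommRingCat.of ℂ))]
    (HY : Y.Modules) (hHY : CohB1.IsAmple HY)
    (f : X ⟶ Y) (hf : f ≫ (Y ↘ Spec (CommRingCat.of ℂ)) = X ↘ Spec (CommRingCat.of ℂ)) [Surjective f]
    (hfs : IsIso (ClSub.unitToPush f))
    (hX : Pi1.IsNormalScheme X) : Pi1.IsNormalScheme Y := by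
  intro y
  refine ⟨inferInstance, ?_⟩
  obtain ⟨_, ⟨U, hU, rfl⟩, hy, -⟩ := Y.isBasis_affineOpens.exists_subset_of_mem_open
    (Set.mem_univ y) isOpen_univ
  have : Nonempty U := ⟨⟨y, hy⟩⟩
  have : Nonempty (f ⁻¹ᵁ U : X.Opens) := by
    obtain ⟨x, rfl⟩ := f.surjective y
    exact ⟨⟨x, hy⟩⟩
  have := Groth.Variety2.isIntegrallyClosed_Γ (fun x => (hX x).2) (f ⁻¹ᵁ U)
  let e : Γ(Y, U) ≃+* Γ(X, f ⁻¹ᵁ U) :=
    RingEquiv.ofBijective (f.app U).hom (Groth.Misc13.FibreSpace.app_bijective f hfs U)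
  have : IsIntegrallyClosed Γ(Y, U) := IsIntegrallyClosed.of_equiv e.symm
  let := TopCat.Presheaf.algebra_section_stalk Y.presheaf (⟨y, hy⟩ : U)
  have := hU.isLocalization_stalk ⟨y, hy⟩
  exact isIntegrallyClosed_of_isLocalization (R := Γ(Y, U)) (Y.presheaf.stalk y)
    (hU.primeIdealOf ⟨y, hy⟩).asIdeal.primeCompl (Ideal.primeCompl_le_nonZeroDivisors _)

end Groth.Agent.S17584
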