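import Groth.Statements.S17589
import Groth.Agent.Variety2.Reg.Gen
import Groth.Agent.Variety2.Reg.Ample
import Groth.Agent.Quot.RegularQuot
import Groth.Agent.Chow.VeryAmplePn
import Groth.Agent.VarietyBC.GGen
import Groth.Agent.Inter.PushProper
import Groth.Agent.PnCoh.ProjectionFormula
import Groth.Agent.Curves1.PolDesc.Pol
import Groth.Agent.PicAux.PullTensor
import Groth.Agent.PnCoh.VanishingClosed
import Groth.Agent.Variety2.Growth.StableBase

set_option autoImplicit false
open CategoryTheory CategoryTheory.Limits AlgebraicGeometry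
open PosLin

namespace Groth.Agent.S17589

/-- Let X be a projective variety over the complex numbers (an integral scheme, proper over ℂ, with an
ample invertible module) which is normal, L a globally generated invertible O_X-module and F a
coherent O_X-module. Then there is an integer m₀ > 0 such that for all a, b ≥ m₀ the map H^0(X, F ⊗
L^⊗a) ⊗ H^0(X, L^⊗b) → H^0(X, F ⊗ L^⊗a ⊗ L^⊗b) given by multiplication of sections is surjective
(such a multiplication map is written as the map from the global sections of the sectionwise tensor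
product presheaf to the global sections of its sheafification). The case F = O_X is the first
assertion of the lemma, surjectivity of H^0(X, L^⊗a) ⊗ H^0(X, L^⊗b) → H^0(X, L^⊗(a+b)) for a, b
large. -/
theorem result (X : Scheme.{0}) [X.Over (Spec (CommRingCat.of ℂ))] [IsIntegral X]
    [IsProper (X ↘ Spec (CommRingCat.of ℂ))] (H : X.Modules) (hH : CohB1.IsAmple H)
    (hXn : Pi1.IsNormalScheme X)
    (L : X.Modules) (hL : PicF.IsInvertible L) (hLg : Curv2.IsGloballyGenerated L)
    (F : X.Modules) (hF : Coh.IsCoh F) :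
    ∃ m₀ : ℕ, 0 < m₀ ∧ ∀ a b : ℕ, m₀ ≤ a → m₀ ≤ b →
      Function.Surjective
        ((toSheafify (Opens.grothendieckTopology X)
          (CohB1.tensorPre (CohB1.tensorMod F (CohB1.tensorPow L a)) (CohB1.tensorPow L b)).presheaf).app
          (Opposite.op ⊤)) := by
  open CategoryTheory CategoryTheory.Limits AlgebraicGeometry TopologicalSpace Groth.PicAux Groth.PropsBasic.Ample in
  exact by
    classical
    haveI : CompactSpace X := QuasiCompact.compactSpace_of_compactSpace (X ↘ Spec (CommRingCat.of ℂ))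
    -- the morphism to projective space
    choose t ht using fun x : X => Groth.VarietyBC.GGen.exists_mem_gloc hL hLg x
    obtain ⟨T, hT⟩ := CompactSpace.isCompact_univ.elim_finite_subcover
      (fun x : X => ((gloc (t x)) : Set X)) (fun x => (gloc (t x)).2)
      (fun x _ => Set.mem_iUnion.2 ⟨x, ht x⟩)
    let l := T.toList
    obtain ⟨x₀⟩ : Nonempty X := inferInstance
    let s : Fin (l.length + 1) → ProjUP.Γm L := Fin.cons (t x₀) fun i => t (l.get i)
    have hU : ⨆ i, Groth.Chow.ToPn.U L s i = ⊤ := top_le_iff.1 fun x _ => by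
      obtain ⟨y, hy, hxy⟩ := Set.mem_iUnion₂.1 (hT (Set.mem_univ x))
      obtain ⟨i, hi⟩ := List.get_of_mem (Finset.mem_toList.2 hy)
      refine Opens.mem_iSup.2 ⟨i.succ, ?_⟩
      change x ∈ CohB1.genLocus L (homOfSection (s i.succ))
      rw [Groth.PropsBasic.Ample.genLocus_eq_gloc, show s i.succ = t y from (by simp [s, ← hi, l])]
      simpa [gsec_homOfSection] using hxy
    obtain ⟨r, hr⟩ := Groth.Chow.ToPn.exists_r (X ↘ Spec (CommRingCat.of ℂ)) L s hU
    obtain ⟨τ, -⟩ := Groth.Chow.ToPn.exists_tau hr hU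
    have hrq := Groth.Chow.ToPn.r_toSpec hr hU
    let N := l.length
    haveI : IsProper (r ≫ CohB1.ProjSpace.toSpec N ℂ) := by rw [hrq]; infer_instance
    haveI : IsProper r := IsProper.of_comp r (CohB1.ProjSpace.toSpec N ℂ)
    haveI : IsProper (CohB1.ProjSpace.toSpec N ℂ) := Groth.Variety2.isProper_projSpace_toSpec N ℂ
    haveI : IsLocallyNoetherian (CohB1.ProjSpace N ℂ) :=
      LocallyOfFiniteType.isLocallyNoetherian (CohB1.ProjSpace.toSpec N ℂ)
    let G := (Scheme.Modules.pushforward r).obj F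
    have hG : Coh.IsCoh G := Groth.Inter.isCoh_push_proper r hF
    haveI : G.IsQuasicoherent := hG.1
    obtain ⟨m, hm⟩ := Groth.Quot.exists_mReg hG
    let O : ℕ → (CohB1.ProjSpace N ℂ).Modules := fun a => Twist.twistProjSpace N ℂ (a : ℤ)
    have hpow : ∀ a : ℕ, Nonempty ((Scheme.Modules.pullback r).obj (O a) ≅ CohB1.tensorPow L a) :=
      fun a => by
        obtain ⟨e⟩ := Groth.Variety2.Reg.nonempty_tensorPow_tw (n := N) (k := ℂ) 1 a
        obtain ⟨e'⟩ := Groth.PicAux.pullback_tensorPow r (Twist.twistProjSpace N ℂ 1) a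
        obtain ⟨e''⟩ := Groth.PicAux.nonempty_tensorPow_iso (show (Scheme.Modules.pullback r).obj
          (Twist.twistProjSpace N ℂ 1) ≅ L from τ) a
        exact ⟨(Scheme.Modules.pullback r).mapIso (eqToIso (by simp [O]) ≪≫ e.symm) ≪≫ e' ≪≫ e''⟩
    refine ⟨m.toNat + 1, Nat.succ_pos _, fun a b ha hb z => ?_⟩
    obtain ⟨ea⟩ := hpow a
    obtain ⟨eb⟩ := hpow b
    have hOa : PicF.IsInvertible (O a) := Groth.PnCoh.isInvertible_twist N ℂ _
    have hOb : PicF.IsInvertible (O b) := Groth.PnCoh.isInvertible_twist N ℂ _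
    let M := CohB1.tensorMod F ((Scheme.Modules.pullback r).obj (O a))
    obtain ⟨p1, -⟩ := Groth.PnCoh.exists_projectionFormula r F hOa
    obtain ⟨p2, hp2⟩ := Groth.PnCoh.exists_projectionFormula r M hOb
    let A := CohB1.tensorMod F (CohB1.tensorPow L a)
    let B := CohB1.tensorPow L b
    let α : M ≅ A := PicGrp.tensorModIso (Iso.refl F) ea
    let P : CohB1.tensorMod (CohB1.tensorMod G (O a)) (O b) ≅
        (Scheme.Modules.pushforward r).obj (CohB1.tensorMod A B) :=
      PicGrp.tensorModIso p1 (Iso.refl _) ≪≫ p2 ≪≫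
        (Scheme.Modules.pushforward r).mapIso (PicGrp.tensorModIso α eb)
    obtain ⟨w, hw⟩ : ∃ w, P.hom.app ⊤ w = (show Γ(CohB1.tensorMod A B, ⊤) from z) :=
      ⟨P.inv.app ⊤ z, by rw [← ConcreteCategory.comp_apply, ← Scheme.Modules.Hom.comp_app,
        Iso.inv_hom_id]; rfl⟩
    have key : ∀ w, (show Γ(CohB1.tensorMod A B, ⊤) from P.hom.app ⊤ w) ∈
        (ptenUnit A B ⊤).range := by
      intro w
      obtain ⟨q, rfl⟩ := Groth.Variety2.Reg.surjective_toSheafify G (d := (a : ℤ)) (by omega) hm b w
      induction q using TensorProduct.induction_on with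
      | zero => erw [map_zero, map_zero]; exact zero_mem _
      | tmul y u =>
        refine ⟨(α.hom.app ⊤ (p1.hom.app ⊤ y)) ⊗ₜ (eb.hom.app ⊤ (pullSec r (O b) u)), ?_⟩
        change tmulSec _ _ = ((Scheme.Modules.pushforward r).map (PicGrp.tensorModIso α eb).hom).app ⊤
          (p2.hom.app ⊤ ((PicGrp.tensorModIso p1 (Iso.refl _)).hom.app ⊤ (tmulSec y u)))
        rw [Groth.Curves1.PolDesc.tensorModIso_tmulSec, hp2]
        exact (Groth.Curves1.PolDesc.tensorModIso_tmulSec α eb ⊤ _ _).symm
      | add q q' hq hq' => erw [map_add, map_add]; exact add_mem hq hq'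
    obtain ⟨q, hq⟩ := hw ▸ key w
    exact ⟨q, hq⟩

end Groth.Agent.S17589
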