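import Groth.Statements.S17592
import Groth.Agent.HensPair.Universal

set_option autoImplicit false
universe u
open Hensel

namespace Groth.Agent.S17592

/-- Let R → S be an étale ring map and I an ideal of R such that the induced map R/I → S/IS is
bijective. Then a Henselization of the pair (S, IS), regarded as an R-algebra, is a Henselization of
the pair (R, I). -/
theorem result (R : Type u) [CommRing R] (I : Ideal R)
    (S : Type u) [CommRing S] [Algebra R S] [Algebra.Etale R S]
    (hq : Function.Bijective
      (Ideal.quotientMap (I.map (algebraMap R S)) (algebraMap R S) Ideal.le_comap_map))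
    (H : Type u) [CommRing H] [Algebra S H] [Algebra R H] [IsScalarTower R S H]
    (hH : Hens2.IsPairHenselization S (I.map (algebraMap R S)) H) :
    Hens2.IsPairHenselization R I H := by
  have hn : Groth.HensPair.IsNbhd I S := .of_bijective hq
  have hmap : (I.map (algebraMap R S)).map (algebraMap S H) = I.map (algebraMap R H) := by
    rw [Ideal.map_map, ← IsScalarTower.algebraMap_eq]
  refine ⟨hmap ▸ hH.1, fun C _ J f hC hJ => ?_⟩
  let _ := f.toAlgebra
  obtain ⟨g⟩ := hn.nonempty_algHom J hJ
  obtain ⟨h, hh, hu⟩ := hH.2 C J g.toRingHom hC (by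
    rw [Ideal.map_map, show g.toRingHom.comp (algebraMap R S) = f from g.comp_algebraMap]; exact hJ)
  refine ⟨h, ?_, fun h' hh' => hu h' ?_⟩
  · show RingHom.comp h _ = f
    rw [IsScalarTower.algebraMap_eq R S H, ← RingHom.comp_assoc, hh]
    exact g.comp_algebraMap
  · have hc : ∀ a, h' (algebraMap S H (algebraMap R S a)) = f a := fun a => by
      rw [← IsScalarTower.algebraMap_apply]; exact RingHom.congr_fun hh' a
    exact congrArg AlgHom.toRingHom (hn.algHom_unique J hJ
      { h'.comp (algebraMap S H) with commutes' := hc } g)

end Groth.Agent.S17592
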