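import Groth.Statements.S17593
import Groth.Agent.HensPair.Basic
import Groth.Agent.FlatMorOne.FlatLocusOpen
-- import your own Groth.Agent.* helpers here

set_option autoImplicit false
universe u
open Hensel

namespace Groth.Agent.S17593

/-- Suppose (A, I) is a Henselian pair, and R is an A-algebra of finite presentation for which A → R is
flat at each prime of R that contains IR. Then there is an étale R-algebra R' such that R/IR →
R'/IR' is bijective and A → R' is flat. -/
theorem result (A : Type u) [CommRing A] (I : Ideal A) [HenselianRing A I]
    (R : Type u) [CommRing R] [Algebra A R] [Algebra.FinitePresentation A R]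
    (h : ∀ (p : Ideal R) [p.IsPrime], I.map (algebraMap A R) ≤ p → Module.Flat A (Localization.AtPrime p))
    : ∃ (R' : Type u) (_ : CommRing R') (_ : Algebra R R') (_ : Algebra A R') (_ : IsScalarTower A R R'),
      Algebra.Etale R R' ∧
      Function.Bijective (Ideal.quotientMap ((I.map (algebraMap A R)).map (algebraMap R R'))
        (algebraMap R R') Ideal.le_comap_map) ∧ Module.Flat A R' := by
  classical
  set J := I.map (algebraMap A R)
  set U : Set (PrimeSpectrum R) :=
    {q | Module.Flat A (LocalizedModule q.asIdeal.primeCompl R)}
  have hU : IsOpen U := Groth.FlatMorOne.isOpen_flatLocus A R R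
  have key : ∀ q : PrimeSpectrum R, q ∈ U ↔ Module.Flat A (Localization.AtPrime q.asIdeal) := fun q =>
    ⟨fun (_ : Module.Flat A _) => Module.Flat.of_linearEquiv ((IsLocalizedModule.iso q.asIdeal.primeCompl
        (Algebra.linearMap R (Localization.AtPrime q.asIdeal))).restrictScalars A).symm,
     fun _ => Module.Flat.of_linearEquiv ((IsLocalizedModule.iso q.asIdeal.primeCompl
        (Algebra.linearMap R (Localization.AtPrime q.asIdeal))).restrictScalars A)⟩
  obtain ⟨f, hf, hfU⟩ := Groth.HensPair.exists_basicOpen_subset_of_zeroLocus_subset J hU
    fun p hp => (key p).2 (h p.asIdeal ((PrimeSpectrum.mem_zeroLocus _ _).1 hp))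
  refine ⟨Localization.Away f, inferInstance, inferInstance, inferInstance, inferInstance,
    Algebra.Etale.of_isLocalizationAway f, Groth.HensPair.quotientMap_away_bijective J hf _, ?_⟩
  refine Module.flat_of_isLocalized_maximal (Localization.Away f) (R := A) (Localization.Away f)
    (fun P _ => Localization.AtPrime P) (fun P _ => Algebra.linearMap _ _) fun P hP => ?_
  let q : PrimeSpectrum R := PrimeSpectrum.comap (algebraMap R (Localization.Away f)) ⟨P, hP.isPrime⟩
  have hq : q ∈ U := hfU (by
    rw [SetLike.mem_coe, ← SetLike.mem_coe, ← PrimeSpectrum.localization_away_comap_range (Localization.Away f) f]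
    exact ⟨_, rfl⟩)
  have := (key q).1 hq
  have : IsLocalization.AtPrime (Localization.AtPrime P) q.asIdeal :=
    IsLocalization.isLocalization_isLocalization_atPrime_isLocalization (Submonoid.powers f) _ P
  exact Module.Flat.of_linearEquiv ((IsLocalization.algEquiv q.asIdeal.primeCompl
    (Localization.AtPrime P) (Localization.AtPrime q.asIdeal)).toLinearEquiv.restrictScalars A)

end Groth.Agent.S17593
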