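import Groth.Statements.S17595
import Groth.Agent.HensPair.Basic
import Mathlib.RingTheory.ZariskisMainTheorem

set_option autoImplicit false
universe u
open Hensel

namespace Groth.Agent.S17595

/-- Suppose (A, I) is a Henselian pair, and R is an A-algebra of finite presentation for which A → R is
quasi-finite at each prime of R that contains IR. Then there is an étale R-algebra R' such that R/IR
→ R'/IR' is bijective and A → R' is quasi-finite. -/
theorem result (A : Type u) [CommRing A] (I : Ideal A) [HenselianRing A I]
    (R : Type u) [CommRing R] [Algebra A R] [Algebra.FinitePresentation A R]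
    (h : ∀ (p : Ideal R) [p.IsPrime], I.map (algebraMap A R) ≤ p → Algebra.QuasiFiniteAt A p)
    : ∃ (R' : Type u) (_ : CommRing R') (_ : Algebra R R') (_ : Algebra A R') (_ : IsScalarTower A R R'),
      Algebra.Etale R R' ∧
      Function.Bijective (Ideal.quotientMap ((I.map (algebraMap A R)).map (algebraMap R R'))
        (algebraMap R R') Ideal.le_comap_map) ∧ Algebra.QuasiFinite A R' := by
  classical
  set J := I.map (algebraMap A R)
  set U : Set (PrimeSpectrum R) :=
    {q | ∃ g, g ∉ q.asIdeal ∧ Algebra.QuasiFinite A (Localization.Away g)}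
  have hU : IsOpen U := by
    rw [isOpen_iff_forall_mem_open]
    rintro q ⟨g, hg, hQ⟩
    exact ⟨PrimeSpectrum.basicOpen g, fun r hr => ⟨g, hr, hQ⟩, (PrimeSpectrum.basicOpen g).2, hg⟩
  obtain ⟨f, hf, hfU⟩ := Groth.HensPair.exists_basicOpen_subset_of_zeroLocus_subset J hU
    fun p hp => by
      have := h p.asIdeal ((PrimeSpectrum.mem_zeroLocus _ _).1 hp)
      obtain ⟨S', hS', r, hrp, H⟩ :=
        (Algebra.ZariskisMainProperty.of_finiteType (R := A) p.asIdeal).exists_fg_and_exists_notMem_and_awayMap_bijective
      have : Module.Finite A S' := ⟨(Submodule.fg_top _).mpr hS'⟩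
      have : Algebra.QuasiFinite A (Localization.Away r) := .trans _ S' _
      exact ⟨r.1, hrp, .of_surjective_algHom (Localization.awayMapₐ S'.val r) H.2⟩
  have : Algebra.FinitePresentation R (Localization.Away f) := IsLocalization.Away.finitePresentation f
  have : Algebra.FinitePresentation A (Localization.Away f) := .trans _ R _
  refine ⟨Localization.Away f, inferInstance, inferInstance, inferInstance, inferInstance,
    Algebra.Etale.of_isLocalizationAway f, Groth.HensPair.quotientMap_away_bijective J hf _,
    Algebra.QuasiFinite.iff_finite_comap_preimage_singleton.2 fun x => ?_⟩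
  choose g hg hQ using fun q : (PrimeSpectrum.basicOpen f : Set (PrimeSpectrum R)) => hfU q.2
  obtain ⟨s, hs⟩ := (PrimeSpectrum.isCompact_basicOpen f).elim_finite_subcover
    (fun q => (PrimeSpectrum.basicOpen (g q) : Set (PrimeSpectrum R)))
    (fun q => (PrimeSpectrum.basicOpen (g q)).2) (fun q hq => Set.mem_iUnion.2 ⟨⟨q, hq⟩, hg ⟨q, hq⟩⟩)
  refine Set.Finite.of_finite_image (f := PrimeSpectrum.comap (algebraMap R (Localization.Away f))) ?_
    (PrimeSpectrum.localization_comap_injective _ (Submonoid.powers f)).injOn
  refine Set.Finite.subset (s.finite_toSet.biUnion fun q _ =>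
    ((haveI := hQ q; Algebra.QuasiFinite.finite_comap_preimage_singleton (R := A)
      (S := Localization.Away (g q)) x).image
        (PrimeSpectrum.comap (algebraMap R (Localization.Away (g q)))))) ?_
  rintro _ ⟨y, hy, rfl⟩
  have hyf : PrimeSpectrum.comap (algebraMap R (Localization.Away f)) y ∈
      (PrimeSpectrum.basicOpen f : Set (PrimeSpectrum R)) := by
    rw [← PrimeSpectrum.localization_away_comap_range (Localization.Away f) f]
    exact ⟨y, rfl⟩
  obtain ⟨q, hqs, hq⟩ := Set.mem_iUnion₂.1 (hs hyf)
  obtain ⟨z, hz⟩ : PrimeSpectrum.comap (algebraMap R (Localization.Away f)) y ∈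
      Set.range (PrimeSpectrum.comap (algebraMap R (Localization.Away (g q)))) := by
    rw [PrimeSpectrum.localization_away_comap_range (Localization.Away (g q)) (g q)]; exact hq
  refine Set.mem_iUnion₂.2 ⟨q, hqs, z, ?_, hz⟩
  simp only [Set.mem_preimage, Set.mem_singleton_iff] at hy ⊢
  rw [← hy, IsScalarTower.algebraMap_eq A R (Localization.Away f), IsScalarTower.algebraMap_eq A R (Localization.Away (g q)),
    PrimeSpectrum.comap_comp_apply, PrimeSpectrum.comap_comp_apply, hz]

end Groth.Agent.S17595
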