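import Groth.Statements.S17598
import Groth.Agent.Misc12.HensSpread.Cover
import Groth.Agent.EtaleAlgebra.QuotLift
import Mathlib.RingTheory.TensorProduct.Quotient

set_option autoImplicit false
universe u
open Hensel

namespace Groth.Agent.S17598

/-- Let (A, I) be a Henselian pair and let B be a Henselization of the pair (R₀, IR₀) for a finitely
presented A-algebra R₀ (so A → B is a Henselian finitely presented map of Henselian pairs). Assume
that A/I^r → B/I^rB is étale for every r ≥ 1 (for Henselian finitely presented maps this is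
equivalent to the h-formally étale lifting property). Then there exist an étale A-algebra R, a
Henselization H of the pair (R, IR) and a surjective A-algebra map H → B whose kernel is a finitely
generated ideal contained in I^n H for every n. -/
theorem result (A : Type u) [CommRing A] (I : Ideal A)
    [HenselianRing A I] (R₀ : Type u) [CommRing R₀] [Algebra A R₀] [Algebra.FinitePresentation A R₀]
    (B : Type u) [CommRing B] [Algebra R₀ B] [Algebra A B] [IsScalarTower A R₀ B]
    (hB : Hens2.IsPairHenselization R₀ (I.map (algebraMap A R₀)) B)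
    (het : ∀ r : ℕ, 1 ≤ r → Algebra.Etale (A ⧸ I ^ r) (B ⧸ (I ^ r).map (algebraMap A B))) :
    ∃ (R : Type u) (_ : CommRing R) (_ : Algebra A R) (H : Type u) (_ : CommRing H) (_ : Algebra R H)
      (_ : Algebra A H) (_ : IsScalarTower A R H),
      Algebra.Etale A R ∧ Hens2.IsPairHenselization R (I.map (algebraMap A R)) H ∧
      ∃ φ : H →ₐ[A] B, Function.Surjective φ ∧ (RingHom.ker φ).FG ∧
        ∀ n : ℕ, RingHom.ker φ ≤ (I ^ n).map (algebraMap A H) := by
  have h1 : Algebra.Etale (A ⧸ I) (B ⧸ I.map (algebraMap A B)) := by
    have h := het 1 le_rfl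
    rwa [pow_one] at h
  obtain ⟨R, _, _, hR, ⟨e⟩⟩ := Groth.EtaleAlgebra.exists_etale_lift_quot A I (B ⧸ I.map (algebraMap A B))
  haveI := hR
  let f : (R ⧸ I.map (algebraMap A R)) ≃ₐ[A] TensorProduct A (A ⧸ I) R :=
    ((Algebra.TensorProduct.quotIdealMapEquivTensorQuot (A := A) R I).restrictScalars A).trans
      (Algebra.TensorProduct.comm A R (A ⧸ I))
  obtain ⟨H, _, _, _, _, hH, φ, hφ⟩ := Groth.Misc12.HensSpread.exists_cover I hB
    (fun r hr => by have := het r hr; infer_instance) R
    (((e.toAlgHom.restrictScalars A).comp f.toAlgHom).comp (Ideal.Quotient.mkₐ A _))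
    ((e.surjective.comp f.surjective).comp Ideal.Quotient.mk_surjective)
    (fun x hx => Ideal.Quotient.eq_zero_iff_mem.1 (f.injective (e.injective (hx.trans
      (by rw [map_zero, map_zero])))))
  exact ⟨R, inferInstance, inferInstance, H, inferInstance, inferInstance, inferInstance, inferInstance,
    hR, hH, φ, hφ⟩

end Groth.Agent.S17598
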