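import Groth.Statements.S1760
import Groth.Agent.DualCore.FieldExt

set_option autoImplicit false
universe u
open scoped TensorProduct
open Goren

namespace Groth.Agent.S1760

/-- First assertion, written for the local ring B = O_{X,x}. Let k'/k be a finitely generated field
extension, B a Noetherian local k-algebra, and q a prime of B ⊗_k k' lying over the maximal ideal of
B. Then B is Gorenstein if and only if the localization of B ⊗_k k' at q is Gorenstein. -/
theorem result (k k' : Type u) [Field k] [Field k'] [Algebra k k'] (hfg : ∃ s : Finset k', IntermediateField.adjoin k (s : Set k') = ⊤) (B : Type u) [CommRing B] [IsLocalRing B] [IsNoetherianRing B] [Algebra k B] (q : PrimeSpectrum (B ⊗[k] k')) (hq : q.asIdeal.comap (algebraMap B (B ⊗[k] k')) = IsLocalRing.maximalIdeal B) : LocCoh.IsGorensteinLocalRing B ↔ LocCoh.IsGorensteinLocalRing (Localization.AtPrime q.asIdeal) := by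
  haveI : IsNoetherianRing (B ⊗[k] k') := by
    haveI : Algebra.EssFiniteType k k' := IntermediateField.essFiniteType_iff.2 hfg |>.of_surjective IntermediateField.topEquiv.toAlgHom IntermediateField.topEquiv.surjective
    exact Algebra.EssFiniteType.isNoetherianRing B _
  have h := GrothGoren.exists_injLT_atPrime_iff (A := B) q.asIdeal
  obtain ⟨Q, hQ, ⟨e⟩⟩ := Groth.DualCore.exists_fibre_localization_equiv (A := B) q.asIdeal
  haveI := GrothGoren.isGorensteinRing_of_isRegularRing (q.asIdeal.comap (algebraMap B (B ⊗[k] k'))).ResidueField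
  haveI := GrothGoren.isGorensteinRing_tensor_fg hfg (q.asIdeal.comap (algebraMap B (B ⊗[k] k'))).ResidueField
  haveI := GrothGoren.isGorensteinRing_of_ringEquiv ((Algebra.TensorProduct.comm k k' _).toRingEquiv.trans
    (Groth.DualCore.fibreTensorEquiv (k := k) B k' (q.asIdeal.comap (algebraMap B (B ⊗[k] k')))).symm.toRingEquiv)
  haveI := LocCoh.IsGorensteinRing.isGorensteinLocalRing_localization
    (A := (q.asIdeal.comap (algebraMap B (B ⊗[k] k'))).Fiber (B ⊗[k] k')) Q
  have hfib := (GrothGoren.exists_injLT_iff_of_ringEquiv (R := Localization.AtPrime Q) e).1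
    ((GrothGoren.isGorenstein_iff _).1 inferInstance)
  haveI : IsNoetherianRing (Localization.AtPrime q.asIdeal) :=
    IsLocalization.isNoetherianRing q.asIdeal.primeCompl _ inferInstance
  let eB : B ≃+* Localization.AtPrime (q.asIdeal.comap (algebraMap B (B ⊗[k] k'))) :=
    (IsLocalization.atUnits B (q.asIdeal.comap (algebraMap B (B ⊗[k] k'))).primeCompl fun x hx =>
      by_contra fun hu => hx (show x ∈ q.asIdeal.comap (algebraMap B (B ⊗[k] k')) from hq ▸ hu)).toRingEquiv
  rw [GrothGoren.isGorenstein_iff, GrothGoren.isGorenstein_iff, h, ← GrothGoren.exists_injLT_iff_of_ringEquiv eB]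
  exact ⟨fun hB => ⟨hB, hfib⟩, fun hB => hB.1⟩

end Groth.Agent.S1760
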