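import Groth.Statements.S17604
import Groth.Agent.HensPair.Universal

open scoped TensorProduct

set_option autoImplicit false
universe u
open Hensel

namespace Groth.Agent.S17604

/-- Let (A, I) be a Henselian pair, R and R' étale A-algebras, and B, B' Henselizations of the pairs (R,
IR), (R', IR') with their induced A-algebra structures (so B and B' are h-étale over A). Then
reduction modulo I is a bijection from A-algebra maps B → B' to A-algebra maps B/IB → B'/IB': two
A-algebra maps B → B' that agree modulo IB' are equal, and every A-algebra map B/IB → B'/IB' is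
induced by an A-algebra map B → B'. -/
theorem result (A : Type u) [CommRing A]
    (I : Ideal A) [HenselianRing A I]
    (R : Type u) [CommRing R] [Algebra A R] [Algebra.Etale A R]
    (B : Type u) [CommRing B] [Algebra R B] [Algebra A B] [IsScalarTower A R B]
    (hB : Hens2.IsPairHenselization R (I.map (algebraMap A R)) B)
    (R' : Type u) [CommRing R'] [Algebra A R'] [Algebra.Etale A R']
    (B' : Type u) [CommRing B'] [Algebra R' B'] [Algebra A B'] [IsScalarTower A R' B']
    (hB' : Hens2.IsPairHenselization R' (I.map (algebraMap A R')) B') :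
    (∀ φ ψ : B →ₐ[A] B', (∀ b : B, φ b - ψ b ∈ I.map (algebraMap A B')) → φ = ψ) ∧
    ∀ χ : (B ⧸ I.map (algebraMap A B)) →ₐ[A] (B' ⧸ I.map (algebraMap A B')),
      ∃ φ : B →ₐ[A] B', ∀ b : B,
        Ideal.Quotient.mk (I.map (algebraMap A B')) (φ b) = χ (Ideal.Quotient.mk (I.map (algebraMap A B)) b) := by
  have hB1 := hB'.1
  have hB'1 : HenselianRing B' (I.map (algebraMap A B')) := by
    rw [IsScalarTower.algebraMap_eq A R' B', ← Ideal.map_map]; exact hB1
  have hle : ∀ g : R →+* B', g.comp (algebraMap A R) = algebraMap A B' →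
      (I.map (algebraMap A R)).map g ≤ I.map (algebraMap A B') := fun g hg => by
    rw [Ideal.map_map, hg]
  have hext : ∀ φ ψ : B →ₐ[A] B', (∀ x : R, φ (algebraMap R B x) = ψ (algebraMap R B x)) → φ = ψ := by
    intro φ ψ h
    have h0 : (φ.toRingHom.comp (algebraMap R B)).comp (algebraMap A R) = algebraMap A B' := by
      rw [RingHom.comp_assoc, ← IsScalarTower.algebraMap_eq]; exact φ.comp_algebraMap
    exact AlgHom.coe_ringHom_injective ((hB.2 B' _ (φ.toRingHom.comp (algebraMap R B)) hB'1
      (hle _ h0)).unique rfl (RingHom.ext fun x => (h x).symm))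
  have hG : Groth.Hensel1.Gabber (I.map (algebraMap A B')) := Groth.Hensel1.gabber_of_henselianRing
  refine ⟨fun φ ψ h => hext φ ψ fun x => ?_, fun χ => ?_⟩
  · let L : (B →ₐ[A] B') → (B' ⊗[A] R →ₐ[B'] B') := fun θ => Algebra.TensorProduct.lift (AlgHom.id B' B')
      (θ.comp (IsScalarTower.toAlgHom A R B)) fun _ _ => Commute.all _ _
    have key : L φ = L ψ := Groth.Hensel1.algHom_eq_of_mk_eq hG.jac fun z => by
      induction z with
      | zero => simp
      | add z₁ z₂ h₁ h₂ => rw [map_add, map_add, add_sub_add_comm]; exact add_mem h₁ h₂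
      | tmul c y =>
        simp only [L, Algebra.TensorProduct.lift_tmul, AlgHom.id_apply, ← mul_sub]
        exact Ideal.mul_mem_left _ _ (h _)
    simpa [L] using DFunLike.congr_fun key ((1 : B') ⊗ₜ[A] x)
  · let q := Ideal.Quotient.mkₐ A (I.map (algebraMap A B))
    let σ : B' ⊗[A] R →ₐ[B'] B' ⧸ I.map (algebraMap A B') :=
      Algebra.TensorProduct.lift (Algebra.ofId B' _)
        ((χ.comp q).comp (IsScalarTower.toAlgHom A R B)) fun _ _ => Commute.all _ _
    obtain ⟨τ, hτ⟩ := Groth.Hensel1.exists_etale_lift hG σ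
    let g : R →ₐ[A] B' := (τ.restrictScalars A).comp Algebra.TensorProduct.includeRight
    obtain ⟨φ, hφ, -⟩ := hB.2 B' _ g.toRingHom hB'1 (hle _ g.comp_algebraMap)
    refine ⟨{ φ with commutes' := fun a => ?_ }, fun b => ?_⟩
    · rw [IsScalarTower.algebraMap_apply A R B]
      exact (RingHom.congr_fun hφ (algebraMap A R a)).trans (g.commutes a)
    obtain ⟨r, hr⟩ := Groth.HensPair.exists_sub_mem hB b
    rw [Ideal.map_map, ← IsScalarTower.algebraMap_eq] at hr
    have e1 : φ b - φ (algebraMap R B r) ∈ I.map (algebraMap A B') := by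
      have := Ideal.mem_map_of_mem φ hr
      rw [map_sub, Ideal.map_map, IsScalarTower.algebraMap_eq A R B, ← RingHom.comp_assoc, hφ] at this
      rwa [show g.toRingHom.comp (algebraMap A R) = algebraMap A B' from g.comp_algebraMap] at this
    show Ideal.Quotient.mk _ (φ b) = _
    rw [Ideal.Quotient.eq.2 e1, Ideal.Quotient.eq.2 hr]
    have := DFunLike.congr_fun hτ ((1 : B') ⊗ₜ[A] r)
    have hr' : φ (algebraMap R B r) = τ ((1 : B') ⊗ₜ[A] r) := RingHom.congr_fun hφ r
    rw [hr']
    simpa [σ, q] using this

end Groth.Agent.S17604
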