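import Groth.Statements.S17605
-- import your own Groth.Agent.* helpers here

set_option autoImplicit false
universe u
open Hensel

namespace Groth.Agent.S17605

/-- Let A be a ring with an ideal I and let f₁, f₂ be elements of A such that D(f₂) ∩ V(I) ⊆ D(f₁) ∩
V(I) in Spec A. If H₁ is a Henselization of the pair (A_{f₁}, IA_{f₁}) and H₂ a Henselization of the
pair (A_{f₂}, IA_{f₂}), with their induced A-algebra structures, then there is exactly one A-algebra
map H₁ → H₂. -/
theorem result (A : Type u) [CommRing A]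
    (I : Ideal A) (f₁ f₂ : A)
    (h : (PrimeSpectrum.basicOpen f₂ : Set (PrimeSpectrum A)) ∩ PrimeSpectrum.zeroLocus (I : Set A) ⊆
      (PrimeSpectrum.basicOpen f₁ : Set (PrimeSpectrum A)) ∩ PrimeSpectrum.zeroLocus (I : Set A))
    (H₁ : Type u) [CommRing H₁] [Algebra (Localization.Away f₁) H₁] [Algebra A H₁]
    [IsScalarTower A (Localization.Away f₁) H₁]
    (hH₁ : Hens2.IsPairHenselization (Localization.Away f₁)
      (I.map (algebraMap A (Localization.Away f₁))) H₁)
    (H₂ : Type u) [CommRing H₂] [Algebra (Localization.Away f₂) H₂] [Algebra A H₂]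
    [IsScalarTower A (Localization.Away f₂) H₂]
    (hH₂ : Hens2.IsPairHenselization (Localization.Away f₂)
      (I.map (algebraMap A (Localization.Away f₂))) H₂) :
    Nonempty (H₁ →ₐ[A] H₂) ∧ Subsingleton (H₁ →ₐ[A] H₂) := by
  have hjac := hH₂.1.jac
  have hI2 : (I.map (algebraMap A (Localization.Away f₂))).map
      (algebraMap (Localization.Away f₂) H₂) = I.map (algebraMap A H₂) := by
    rw [Ideal.map_map, ← IsScalarTower.algebraMap_eq]
  rw [hI2] at hjac
  have hu2 : IsUnit (algebraMap A H₂ f₂) := by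
    rw [IsScalarTower.algebraMap_apply A (Localization.Away f₂) H₂]
    exact (IsLocalization.Away.algebraMap_isUnit f₂).map _
  have hu : IsUnit (algebraMap A H₂ f₁) := by
    by_contra hn
    obtain ⟨M, hM, hmem⟩ := exists_max_ideal_of_mem_nonunits (mem_nonunits_iff.2 hn)
    let p : PrimeSpectrum A := ⟨M.comap (algebraMap A H₂), Ideal.IsPrime.comap _⟩
    have hp : p ∈ (PrimeSpectrum.basicOpen f₂ : Set (PrimeSpectrum A)) ∩
        PrimeSpectrum.zeroLocus (I : Set A) := by
      refine ⟨fun hf => hM.ne_top (Ideal.eq_top_of_isUnit_mem _ hf hu2), fun x hx => ?_⟩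
      exact (Ideal.mem_sInf.1 (hjac (Ideal.mem_map_of_mem _ hx))) ⟨bot_le, hM⟩
    exact (h hp).1 hmem
  have hh := hH₂.1
  rw [hI2] at hh
  set j : Localization.Away f₁ →+* H₂ := IsLocalization.Away.lift f₁ hu with hj
  have hjA : j.comp (algebraMap A (Localization.Away f₁)) = algebraMap A H₂ :=
    IsLocalization.Away.lift_comp f₁ hu
  obtain ⟨g, hg, huniq⟩ := hH₁.2 H₂ (I.map (algebraMap A H₂)) j hh (by
    rw [Ideal.map_map, hjA])
  refine ⟨⟨⟨g, fun a => ?_⟩⟩, ⟨fun φ ψ => ?_⟩⟩
  · rw [IsScalarTower.algebraMap_apply A (Localization.Away f₁) H₁]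
    have := RingHom.congr_fun hg (algebraMap A _ a)
    simp only [RingHom.comp_apply] at this
    exact this.trans (RingHom.congr_fun hjA a)
  · have key : ∀ χ : H₁ →ₐ[A] H₂, χ.toRingHom = g := fun χ => huniq _ <|
      IsLocalization.ringHom_ext (Submonoid.powers f₁) (by
        rw [hjA, RingHom.comp_assoc, ← IsScalarTower.algebraMap_eq]
        exact χ.comp_algebraMap)
    exact AlgHom.coe_ringHom_injective ((key φ).trans (key ψ).symm)

end Groth.Agent.S17605
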