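import Groth.Statements.S17607
import Groth.Agent.HensPair.Ops
open scoped TensorProduct

set_option autoImplicit false
universe u
open Hensel

namespace Groth.Agent.S17607

/-- Let (A, I) and (B, IB) be Henselian pairs with B an A-algebra. Then the following are equivalent:
(i) A → B is Henselian finitely presented, i.e. there are n, a Henselization P of the pair
(A[X₁,…,Xₙ], I·A[X₁,…,Xₙ]) (a Henselized polynomial ring) and a surjective A-algebra map P → B with
finitely generated kernel; (ii) there are a finitely presented A-algebra R and an R-algebra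
structure on B compatible with that of A for which B is a Henselization of the pair (R, IR). -/
theorem result (A : Type u) [CommRing A] (I : Ideal A)
    [HenselianRing A I] (B : Type u) [CommRing B] [Algebra A B]
    [HenselianRing B (I.map (algebraMap A B))] :
    (∃ (n : ℕ) (P : Type u) (_ : CommRing P) (_ : Algebra (MvPolynomial (Fin n) A) P) (_ : Algebra A P)
        (_ : IsScalarTower A (MvPolynomial (Fin n) A) P),
        Hens2.IsPairHenselization (MvPolynomial (Fin n) A)
          (I.map (algebraMap A (MvPolynomial (Fin n) A))) P ∧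
        ∃ φ : P →ₐ[A] B, Function.Surjective φ ∧ (RingHom.ker φ).FG) ↔
    ∃ (R : Type u) (_ : CommRing R) (_ : Algebra A R) (_ : Algebra R B) (_ : IsScalarTower A R B),
      Algebra.FinitePresentation A R ∧ Hens2.IsPairHenselization R (I.map (algebraMap A R)) B := by
  constructor
  · rintro ⟨n, P, _, _, _, _, hP, φ, hφ, s, hs⟩
    obtain ⟨R', _, _, θ, t, hR', ht⟩ :=
      Groth.HensPair.exists_isNbhd_of_finite hP (fun k : s => (k : P))
    let _ := θ.toRingHom.toAlgebra
    have : IsScalarTower (MvPolynomial (Fin n) A) R' P :=
      IsScalarTower.of_algebraMap_eq fun a => (θ.commutes a).symm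
    have hP' := Groth.HensPair.isPairHenselization_of_isNbhd hP hR'
    let _ : Algebra A R' := ((algebraMap (MvPolynomial (Fin n) A) R').comp (algebraMap A _)).toAlgebra
    have : IsScalarTower A (MvPolynomial (Fin n) A) R' := IsScalarTower.of_algebraMap_eq fun _ => rfl
    have : IsScalarTower A R' P := IsScalarTower.of_algebraMap_eq fun a => by
      show algebraMap A P a = θ (algebraMap (MvPolynomial (Fin n) A) R' (algebraMap A _ a))
      rw [θ.commutes, ← IsScalarTower.algebraMap_apply]
    have := hR'.etale
    have : Algebra.FinitePresentation A R' := .trans A (MvPolynomial (Fin n) A) R'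
    let K : Ideal R' := Ideal.span (Set.range t)
    have hKL : RingHom.ker φ = K.map (algebraMap R' P) := by
      rw [Ideal.map_span, ← Set.range_comp, ← hs]
      refine congrArg Ideal.span (Set.ext fun x => ⟨fun hx => ⟨⟨x, hx⟩, ht ⟨x, hx⟩⟩, ?_⟩)
      rintro ⟨k, rfl⟩
      show θ (t k) ∈ (s : Set P)
      rw [ht k]; exact k.2
    have hle : K ≤ (RingHom.ker φ).comap (algebraMap R' P) :=
      Ideal.map_le_iff_le_comap.1 hKL.ge
    let _ := (Ideal.quotientMap (RingHom.ker φ) (algebraMap R' P) hle).toAlgebra
    have hquot := Groth.HensPair.isPairHenselization_quotient hP' K (RingHom.ker φ) hKL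
      (RingHom.ext fun _ => rfl)
    let _ : Algebra (R' ⧸ K) B :=
      (Ideal.Quotient.lift K (φ.toRingHom.comp (algebraMap R' P))
        fun x hx => RingHom.mem_ker.1 (hle hx)).toAlgebra
    have hB' : ∀ x : R', algebraMap (R' ⧸ K) B (Ideal.Quotient.mk K x) = φ (algebraMap R' P x) :=
      fun x => rfl
    have : IsScalarTower A (R' ⧸ K) B := IsScalarTower.of_algebraMap_eq fun a => by
      show _ = algebraMap (R' ⧸ K) B (Ideal.Quotient.mk K (algebraMap A R' a))
      rw [hB', ← IsScalarTower.algebraMap_apply, φ.commutes]
    have hfg : K.FG := Submodule.fg_span (Set.finite_range t)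
    have : Algebra.FinitePresentation A (R' ⧸ K) := Algebra.FinitePresentation.quotient hfg
    refine ⟨R' ⧸ K, inferInstance, inferInstance, inferInstance, inferInstance, inferInstance, ?_⟩
    let e : (P ⧸ RingHom.ker φ) ≃ₐ[R' ⧸ K] B :=
      AlgEquiv.ofRingEquiv (f := (Ideal.quotientKerAlgEquivOfSurjective hφ).toRingEquiv) fun x => by
        obtain ⟨x, rfl⟩ := Ideal.Quotient.mk_surjective x
        rw [hB']; rfl
    have he := Groth.HensPair.isPairHenselization_of_algEquiv e hquot
    rwa [Ideal.map_map, Ideal.map_map, RingHom.comp_assoc, ← IsScalarTower.algebraMap_eq A (MvPolynomial (Fin n) A) R',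
      ← Ideal.Quotient.algebraMap_eq, ← IsScalarTower.algebraMap_eq A R' (R' ⧸ K)] at he
  · rintro ⟨R, _, _, _, _, _, hB⟩
    obtain ⟨n, f, hf, s, hs⟩ := (inferInstance : Algebra.FinitePresentation A R).out
    let J := I.map (algebraMap A (MvPolynomial (Fin n) A))
    let P := Groth.HensPair.Hz J
    let _ : Algebra A P := ((algebraMap (MvPolynomial (Fin n) A) P).comp (algebraMap A _)).toAlgebra
    have : IsScalarTower A (MvPolynomial (Fin n) A) P := IsScalarTower.of_algebraMap_eq fun _ => rfl
    have hP := Groth.HensPair.isPairHenselization J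
    let K := RingHom.ker f
    let L := K.map (algebraMap (MvPolynomial (Fin n) A) P)
    let _ := (Ideal.quotientMap L (algebraMap (MvPolynomial (Fin n) A) P) Ideal.le_comap_map
      : MvPolynomial (Fin n) A ⧸ K →+* P ⧸ L).toAlgebra
    have hquot := Groth.HensPair.isPairHenselization_quotient hP K L rfl (RingHom.ext fun _ => rfl)
    let eR : (MvPolynomial (Fin n) A ⧸ K) ≃ₐ[A] R := Ideal.quotientKerAlgEquivOfSurjective hf
    let _ : Algebra (MvPolynomial (Fin n) A ⧸ K) B :=
      ((algebraMap R B).comp eR.toAlgHom.toRingHom).toAlgebra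
    have hB' : Hens2.IsPairHenselization (MvPolynomial (Fin n) A ⧸ K)
        (J.map (Ideal.Quotient.mk K)) B := by
      have hJ : J.map (Ideal.Quotient.mk K) = I.map (algebraMap A (MvPolynomial (Fin n) A ⧸ K)) := by
        rw [Ideal.map_map, ← Ideal.Quotient.algebraMap_eq, ← IsScalarTower.algebraMap_eq]
      have hIR : ∀ {C : Type u} [CommRing C] (g : R →+* C), (I.map (algebraMap A R)).map g =
          (I.map (algebraMap A (MvPolynomial (Fin n) A ⧸ K))).map (g.comp eR.toAlgHom.toRingHom) := by
        intro C _ g
        rw [Ideal.map_map, Ideal.map_map, RingHom.comp_assoc,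
          AlgHom.toRingHom_eq_coe, eR.toAlgHom.comp_algebraMap]
      refine ⟨?_, fun C _ J' g hC hg => ?_⟩
      · rw [hJ, show algebraMap (MvPolynomial (Fin n) A ⧸ K) B =
          (algebraMap R B).comp eR.toAlgHom.toRingHom from rfl, ← hIR]
        exact hB.1
      · obtain ⟨h, hh, hu⟩ := hB.2 C J' (g.comp eR.symm.toAlgHom.toRingHom) hC (by
          rw [hIR, RingHom.comp_assoc]
          refine le_of_eq_of_le ?_ hg
          rw [hJ]
          congr 1
          ext x <;> simp)
        refine ⟨h, ?_, fun h' hh' => hu h' (RingHom.ext fun x => ?_)⟩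
        · refine RingHom.ext fun x => ?_
          have := RingHom.congr_fun hh (eR x)
          simpa [RingHom.algebraMap_toAlgebra] using this
        · have := RingHom.congr_fun hh' (eR.symm x)
          simpa [RingHom.algebraMap_toAlgebra] using this
    obtain ⟨e⟩ := Groth.HensPair.nonempty_algEquiv hquot hB'
    let φ : P →ₐ[A] B :=
      { e.toAlgHom.toRingHom.comp (Ideal.Quotient.mk L) with
        commutes' := fun a => by
          have := e.commutes (Ideal.Quotient.mk K (algebraMap A (MvPolynomial (Fin n) A) a))
          refine Eq.trans this ?_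
          show algebraMap R B (f (algebraMap A _ a)) = _
          rw [f.commutes, ← IsScalarTower.algebraMap_apply] }
    refine ⟨n, P, inferInstance, inferInstance, inferInstance, inferInstance, hP, φ,
      e.surjective.comp Ideal.Quotient.mk_surjective, ?_⟩
    have hker : RingHom.ker φ = L := Ideal.ext fun x => by
      rw [RingHom.mem_ker, ← Ideal.Quotient.eq_zero_iff_mem]
      exact map_eq_zero_iff e.toAlgHom.toRingHom e.injective
    rw [hker]
    exact Ideal.FG.map ⟨s, hs⟩ _

end Groth.Agent.S17607
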