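import Groth.Statements.S17608
import Groth.Agent.HensPair.Ops

set_option autoImplicit false
universe u
open Hensel

namespace Groth.Agent.S17608

/-- Let (A, I) be a Henselian pair, let B be a Henselization of the pair (R, IR) for a finitely
presented A-algebra R, and let C be a Henselization of the pair (S, IS) for a finitely presented
B-algebra S, all algebra structures being compatible (so A → B and B → C are Henselian finitely
presented maps of Henselian pairs). Then the composite A → C is Henselian finitely presented: there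
are a finitely presented A-algebra T and a T-algebra structure on C compatible with that of A for
which C is a Henselization of the pair (T, IT). -/
theorem result (A : Type u) [CommRing A] (I : Ideal A) [HenselianRing A I]
    (R : Type u) [CommRing R] [Algebra A R] [Algebra.FinitePresentation A R]
    (B : Type u) [CommRing B] [Algebra R B] [Algebra A B] [IsScalarTower A R B]
    (hB : Hens2.IsPairHenselization R (I.map (algebraMap A R)) B)
    (S : Type u) [CommRing S] [Algebra B S] [Algebra A S] [IsScalarTower A B S] [Algebra.FinitePresentation B S]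
    (C : Type u) [CommRing C] [Algebra S C] [Algebra B C] [Algebra A C] [IsScalarTower B S C]
    [IsScalarTower A B C]
    (hC : Hens2.IsPairHenselization S (I.map (algebraMap A S)) C) :
    ∃ (T : Type u) (_ : CommRing T) (_ : Algebra A T) (_ : Algebra T C) (_ : IsScalarTower A T C),
      Algebra.FinitePresentation A T ∧ Hens2.IsPairHenselization T (I.map (algebraMap A T)) C := by
  classical
  obtain ⟨n, f, hf, s, hs⟩ := (inferInstance : Algebra.FinitePresentation B S).out
  obtain ⟨R', _, _, θ, t, hR', ht⟩ := Groth.HensPair.exists_isNbhd_of_finite hB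
    (fun k : (g : s) × (g : MvPolynomial (Fin n) B).support => MvPolynomial.coeff k.2 (k.1 : MvPolynomial (Fin n) B))
  let _ := θ.toRingHom.toAlgebra
  have : IsScalarTower R R' B := IsScalarTower.of_algebraMap_eq fun a => (θ.commutes a).symm
  have hB' := Groth.HensPair.isPairHenselization_of_isNbhd hB hR'
  let _ : Algebra A R' := ((algebraMap R R').comp (algebraMap A R)).toAlgebra
  have : IsScalarTower A R R' := IsScalarTower.of_algebraMap_eq fun _ => rfl
  have : IsScalarTower A R' B := IsScalarTower.of_algebraMap_eq fun a => by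
    show algebraMap A B a = θ (algebraMap R R' (algebraMap A R a))
    rw [θ.commutes, ← IsScalarTower.algebraMap_apply]
  rw [Ideal.map_map, ← IsScalarTower.algebraMap_eq] at hB'
  have := hR'.etale
  have : Algebra.FinitePresentation A R' := .trans A R R'
  let g' : s → MvPolynomial (Fin n) R' := fun g =>
    ∑ m : (g : MvPolynomial (Fin n) B).support, MvPolynomial.monomial m.1 (t ⟨g, m⟩)
  have hg' : ∀ g : s, MvPolynomial.map (algebraMap R' B) (g' g) = g := fun g => by
    conv_rhs => rw [MvPolynomial.as_sum (g : MvPolynomial (Fin n) B)]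
    rw [map_sum, ← Finset.sum_coe_sort (g : MvPolynomial (Fin n) B).support
      (fun m => MvPolynomial.monomial m (MvPolynomial.coeff m (g : MvPolynomial (Fin n) B)))]
    refine Finset.sum_congr rfl fun m _ => ?_
    rw [MvPolynomial.map_monomial]
    exact congrArg _ (ht ⟨g, m⟩)
  let K : Ideal (MvPolynomial (Fin n) R') := Ideal.span (Set.range g')
  have : Algebra.FinitePresentation A (MvPolynomial (Fin n) R') :=
    .trans A R' (MvPolynomial (Fin n) R')
  have : Algebra.FinitePresentation A (MvPolynomial (Fin n) R' ⧸ K) :=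
    Algebra.FinitePresentation.quotient (Submodule.fg_span (Set.finite_range g'))
  let ρ : MvPolynomial (Fin n) R' →+* C :=
    (algebraMap S C).comp (f.toRingHom.comp (MvPolynomial.map (algebraMap R' B)))
  have hρ : ∀ x ∈ K, ρ x = 0 := by
    intro x hx
    refine RingHom.mem_ker.1 (Ideal.span_le.2 ?_ hx)
    rintro _ ⟨g, rfl⟩
    have hg0 : f (g : MvPolynomial (Fin n) B) = 0 := RingHom.mem_ker.1 (hs ▸ Ideal.subset_span g.2)
    simp [ρ, hg', hg0]
  let _ : Algebra (MvPolynomial (Fin n) R' ⧸ K) C := (Ideal.Quotient.lift K ρ hρ).toAlgebra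
  have hρA : ∀ a : A, ρ (algebraMap A (MvPolynomial (Fin n) R') a) = algebraMap A C a := fun a => by
    rw [IsScalarTower.algebraMap_apply A R' (MvPolynomial (Fin n) R')]
    simp only [ρ, RingHom.comp_apply, MvPolynomial.algebraMap_eq, MvPolynomial.map_C,
      AlgHom.toRingHom_eq_coe, RingHom.coe_coe, MvPolynomial.algHom_C]
    rw [← IsScalarTower.algebraMap_apply A R' B, ← IsScalarTower.algebraMap_apply B S C,
      ← IsScalarTower.algebraMap_apply A B C]
  have : IsScalarTower A (MvPolynomial (Fin n) R' ⧸ K) C :=
    @IsScalarTower.of_algebraMap_eq A (MvPolynomial (Fin n) R' ⧸ K) C _ _ _ _ _ _ fun a => (hρA a).symm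
  have hIC : (I.map (algebraMap A (MvPolynomial (Fin n) R' ⧸ K))).map
      (algebraMap (MvPolynomial (Fin n) R' ⧸ K) C) = (I.map (algebraMap A S)).map (algebraMap S C) := by
    rw [Ideal.map_map, Ideal.map_map, ← IsScalarTower.algebraMap_eq, IsScalarTower.algebraMap_eq A B C,
      IsScalarTower.algebraMap_eq B S C, IsScalarTower.algebraMap_eq A B S, RingHom.comp_assoc]
  refine ⟨MvPolynomial (Fin n) R' ⧸ K, inferInstance, inferInstance, inferInstance, inferInstance,
    inferInstance, hIC.symm ▸ hC.1, fun C' _ J h hC' hJ => ?_⟩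
  rw [Ideal.map_map] at hJ
  let h' : MvPolynomial (Fin n) R' →+* C' := h.comp (Ideal.Quotient.mk K)
  have hA' : h.comp (algebraMap A (MvPolynomial (Fin n) R' ⧸ K)) =
      (h'.comp MvPolynomial.C).comp (algebraMap A R') := rfl
  obtain ⟨β, hβ, -⟩ := hB'.2 C' J (h'.comp MvPolynomial.C) hC' (by rwa [Ideal.map_map, ← hA'])
  let ev : MvPolynomial (Fin n) B →+* C' := MvPolynomial.eval₂Hom β fun i => h' (MvPolynomial.X i)
  have hev : ∀ p, ev (MvPolynomial.map (algebraMap R' B) p) = h' p := fun p => by
    refine RingHom.congr_fun (MvPolynomial.ringHom_ext (f := ev.comp (MvPolynomial.map _)) (g := h')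
      (fun r => ?_) fun i => ?_) p
    · simpa [ev] using RingHom.congr_fun hβ r
    · simp [ev]
  have hevk : RingHom.ker f ≤ RingHom.ker ev := by
    refine le_of_eq_of_le hs.symm (Ideal.span_le.2 ?_)
    intro x hx
    show ev x = 0
    rw [show x = MvPolynomial.map (algebraMap R' B) (g' ⟨x, hx⟩) from (hg' ⟨x, hx⟩).symm, hev]
    show h (Ideal.Quotient.mk K (g' ⟨x, hx⟩)) = 0
    rw [Ideal.Quotient.eq_zero_iff_mem.2 (Ideal.subset_span ⟨⟨x, hx⟩, rfl⟩ : g' ⟨x, hx⟩ ∈ K), map_zero]
  let σ : S →+* C' := f.toRingHom.liftOfRightInverse (Function.surjInv hf)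
    (Function.rightInverse_surjInv hf) ⟨ev, hevk⟩
  have hσ : ∀ p, σ (f p) = ev p := fun p =>
    RingHom.liftOfRightInverse_comp_apply f.toRingHom _ (Function.rightInverse_surjInv hf) ⟨ev, hevk⟩ p
  have hσB : ∀ b, σ (algebraMap B S b) = β b := fun b => by
    rw [← f.commutes, hσ, MvPolynomial.algebraMap_eq]
    simp [ev]
  obtain ⟨γ, hγ, hγu⟩ := hC.2 C' J σ hC' (by
    rw [Ideal.map_map, hA', show σ.comp (algebraMap A S) = (h'.comp MvPolynomial.C).comp (algebraMap A R') from
      RingHom.ext fun a => by
        rw [RingHom.comp_apply, IsScalarTower.algebraMap_apply A B S, hσB,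
          IsScalarTower.algebraMap_apply A R' B, ← RingHom.comp_apply β, hβ]
        rfl] at *
    exact hJ)
  refine ⟨γ, Ideal.Quotient.ringHom_ext (RingHom.ext fun p => ?_), fun γ' hγ' => hγu γ' ?_⟩
  · show γ (ρ p) = h' p
    rw [← hev p, ← hσ]
    exact RingHom.congr_fun hγ _
  · have hp : ∀ p, γ' (ρ p) = h' p := fun p => RingHom.congr_fun hγ' (Ideal.Quotient.mk K p)
    have hBeq : (γ'.comp (algebraMap S C)).comp (algebraMap B S) = β :=
      Groth.HensPair.ringHom_ext_of_isPairHenselization hB' J (RingHom.ext fun r => by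
        rw [hβ]
        simpa [ρ] using hp (MvPolynomial.C r)) (by
        rw [Ideal.map_map]
        refine le_of_eq_of_le ?_ hJ
        rw [hA']
        congr 1
        ext a
        simpa [ρ] using hp (MvPolynomial.C (algebraMap A R' a)))
    show RingHom.comp γ' (algebraMap S C) = σ
    refine RingHom.ext fun x => ?_
    obtain ⟨p, rfl⟩ := hf x
    rw [hσ]
    refine RingHom.congr_fun (MvPolynomial.ringHom_ext
      (f := (γ'.comp (algebraMap S C)).comp f.toRingHom) (g := ev) (fun b => ?_) fun i => ?_) p
    · simpa [ev] using RingHom.congr_fun hBeq b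
    · simpa [ρ, ev] using hp (MvPolynomial.X i)

end Groth.Agent.S17608
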