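import Groth.Statements.S17611
import Groth.Agent.HensPair.Truncation

set_option autoImplicit false
universe u
open Hensel

namespace Groth.Agent.S17611

/-- Let (A, I) be a Henselian pair and let B be a Henselization of the pair (R₀, IR₀) for a finitely
presented A-algebra R₀ (so A → B is a Henselian finitely presented map of Henselian pairs). Then A →
B is h-formally smooth, meaning that for all A-algebras E and C annihilated by some power I^N (N ≥
1), every surjective A-algebra map p : E → C with nilpotent kernel and every A-algebra map u : B →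
C, there is an A-algebra map v : B → E with p ∘ v = u, if and only if A/I^r → B/I^rB is smooth for
every r ≥ 1. (Test algebras E, C are taken in the universe of A.) -/
theorem result (A : Type u) [CommRing A] (I : Ideal A)
    [HenselianRing A I] (R₀ : Type u) [CommRing R₀] [Algebra A R₀] [Algebra.FinitePresentation A R₀]
    (B : Type u) [CommRing B] [Algebra R₀ B] [Algebra A B] [IsScalarTower A R₀ B]
    (hB : Hens2.IsPairHenselization R₀ (I.map (algebraMap A R₀)) B) :
    (∀ (E C : Type u) [CommRing E] [CommRing C] [Algebra A E] [Algebra A C] (N : ℕ), 1 ≤ N →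
        (I ^ N).map (algebraMap A E) = ⊥ → (I ^ N).map (algebraMap A C) = ⊥ →
        ∀ (p : E →ₐ[A] C), Function.Surjective p → (∃ M : ℕ, 1 ≤ M ∧ RingHom.ker p ^ M = ⊥) →
        ∀ u : B →ₐ[A] C, ∃ v : B →ₐ[A] E, p.comp v = u) ↔
    ∀ r : ℕ, 1 ≤ r → Algebra.Smooth (A ⧸ I ^ r) (B ⧸ (I ^ r).map (algebraMap A B)) := by
  have hfp := Groth.HensPair.finitePresentation_quotPow I hB
  constructor
  · intro h r hr
    refine { finitePresentation := hfp r, formallySmooth := Algebra.FormallySmooth.iff_comp_surjective.2 ?_ }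
    intro E _ _ K hK u
    let _ : Algebra A E := ((algebraMap (A ⧸ I ^ r) E).comp (Ideal.Quotient.mk _)).toAlgebra
    have : IsScalarTower A (A ⧸ I ^ r) E := IsScalarTower.of_algebraMap_eq fun _ => rfl
    have hE : (I ^ r).map (algebraMap A E) = ⊥ := by
      rw [IsScalarTower.algebraMap_eq A (A ⧸ I ^ r) E, ← Ideal.map_map,
        show algebraMap A (A ⧸ I ^ r) = Ideal.Quotient.mk _ from rfl, Ideal.map_quotient_self,
        Ideal.map_bot]
    have hC : (I ^ r).map (algebraMap A (E ⧸ K)) = ⊥ := by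
      rw [IsScalarTower.algebraMap_eq A E (E ⧸ K), ← Ideal.map_map, hE, Ideal.map_bot]
    obtain ⟨w, hw⟩ := h E (E ⧸ K) r hr hE hC (Ideal.Quotient.mkₐ A K) Ideal.Quotient.mk_surjective
      ⟨2, one_le_two, by rw [show RingHom.ker (Ideal.Quotient.mkₐ A K) = K from Ideal.Quotient.mkₐ_ker A K, hK]⟩
      ((u.restrictScalars A).comp (Ideal.Quotient.mkₐ A _))
    have hkw : ∀ b ∈ (I ^ r).map (algebraMap A B), w b = 0 := fun b hb => by
      have := Groth.HensPair.algHom_map_le w hb
      rwa [hE, Ideal.mem_bot] at this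
    refine ⟨(Ideal.Quotient.liftₐ _ w hkw).extendScalarsOfSurjective Ideal.Quotient.mk_surjective, ?_⟩
    refine AlgHom.ext fun x => ?_
    obtain ⟨b, rfl⟩ := Ideal.Quotient.mk_surjective x
    exact DFunLike.congr_fun hw b
  · intro h E C _ _ _ _ N hN hE hC p hp hM u
    obtain ⟨M, hM1, hM⟩ := hM
    have := h N hN
    let _ : Algebra (A ⧸ I ^ N) E := (Ideal.Quotient.lift (I ^ N) (algebraMap A E) fun a ha =>
      (Ideal.mem_bot).1 (hE ▸ Ideal.mem_map_of_mem _ ha)).toAlgebra
    let _ : Algebra (A ⧸ I ^ N) C := (Ideal.Quotient.lift (I ^ N) (algebraMap A C) fun a ha =>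
      (Ideal.mem_bot).1 (hC ▸ Ideal.mem_map_of_mem _ ha)).toAlgebra
    have : IsScalarTower A (A ⧸ I ^ N) E := IsScalarTower.of_algebraMap_eq fun _ => rfl
    have : IsScalarTower A (A ⧸ I ^ N) C := IsScalarTower.of_algebraMap_eq fun _ => rfl
    let p' := p.extendScalarsOfSurjective (S := A ⧸ I ^ N) Ideal.Quotient.mk_surjective
    have hker : ∀ (D : Type u) [CommRing D] [Algebra A D], (I ^ N).map (algebraMap A D) = ⊥ →
        ∀ v : B →ₐ[A] D, ∀ b ∈ (I ^ N).map (algebraMap A B), v b = 0 := fun D _ _ hD v b hb => by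
      have := Groth.HensPair.algHom_map_le v hb
      rwa [hD, Ideal.mem_bot] at this
    let u' : (B ⧸ (I ^ N).map (algebraMap A B)) →ₐ[A ⧸ I ^ N] C :=
      (Ideal.Quotient.liftₐ _ u (hker C hC u)).extendScalarsOfSurjective Ideal.Quotient.mk_surjective
    have hnil : IsNilpotent (RingHom.ker (p' : E →+* C)) := ⟨M, hM⟩
    let v₀ := Algebra.FormallySmooth.liftOfSurjective u' p' hp hnil
    have hv₀ : p'.comp v₀ = u' := Algebra.FormallySmooth.comp_liftOfSurjective u' p' hp hnil
    refine ⟨(v₀.restrictScalars A).comp (Ideal.Quotient.mkₐ A _), ?_⟩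
    refine AlgHom.ext fun b => ?_
    exact DFunLike.congr_fun hv₀ (Ideal.Quotient.mk _ b)

end Groth.Agent.S17611
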