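import Groth.Statements.S17613
import Groth.Agent.HensPair.Ops
import Groth.Agent.HensPair.Limit

set_option autoImplicit false
universe u
open Hensel

namespace Groth.Agent.S17613

/-- Let (A, I) be a Henselian pair and let B be a Henselization of the pair (R₀, IR₀) for a finitely
presented A-algebra R₀ (so A → B is Henselian finitely presented). Let (R_a) be a directed system of
A-algebras with A-compatible transition maps such that each (R_a, IR_a) is a Henselian pair, and let
L be its direct limit with the induced A-algebra structure. Then the canonical map from the colimit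
of the Hom_A(B, R_a) to Hom_A(B, L) is bijective: every A-algebra map B → L factors through some
R_a, and two A-algebra maps B → R_a whose composites with R_a → L agree become equal after passing
to some R_b. (Index set in the universe of the rings.) -/
theorem result (A : Type u) [CommRing A] (I : Ideal A)
    [HenselianRing A I] (R₀ : Type u) [CommRing R₀] [Algebra A R₀] [Algebra.FinitePresentation A R₀]
    (B : Type u) [CommRing B] [Algebra R₀ B] [Algebra A B] [IsScalarTower A R₀ B]
    (hB : Hens2.IsPairHenselization R₀ (I.map (algebraMap A R₀)) B)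
    {κ : Type u} [Preorder κ] [IsDirectedOrder κ] [Nonempty κ]
    (Ra : κ → Type u) [∀ a, CommRing (Ra a)] [∀ a, Algebra A (Ra a)]
    [∀ a, HenselianRing (Ra a) (I.map (algebraMap A (Ra a)))]
    (t : ∀ a b : κ, a ≤ b → (Ra a →+* Ra b)) [DirectedSystem Ra (fun a b h => t a b h)]
    (ht : ∀ (a b : κ) (h : a ≤ b), (t a b h).comp (algebraMap A (Ra a)) = algebraMap A (Ra b))
    [Algebra A (DirectLimit Ra t)]
    (halg : ∀ (a : κ) (x : A), algebraMap A (DirectLimit Ra t) x =
      DirectLimit.Ring.of Ra t a (algebraMap A (Ra a) x)) :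
    (∀ χ : B →ₐ[A] DirectLimit Ra t, ∃ (a : κ) (φ : B →ₐ[A] Ra a),
        ∀ x : B, DirectLimit.Ring.of Ra t a (φ x) = χ x) ∧
    ∀ (a : κ) (φ ψ : B →ₐ[A] Ra a),
      (∀ x : B, DirectLimit.Ring.of Ra t a (φ x) = DirectLimit.Ring.of Ra t a (ψ x)) →
      ∃ (b : κ) (h : a ≤ b), ∀ x : B, t a b h (φ x) = t a b h (ψ x) := by
  classical
  let ψ : ∀ a, Ra a →+* DirectLimit Ra t := fun a =>
    DirectLimit.Ring.of Ra t a
  have hψ : ∀ a b h x, ψ b (t a b h x) = ψ a x := fun a b h x => DirectLimit.Ring.of_f h x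
  have hex : ∀ x : DirectLimit Ra t, ∃ a, ∃ y, ψ a y = x := fun x => by
    obtain ⟨a, y, rfl⟩ := DirectLimit.exists_eq_mk _ x
    exact ⟨a, y, rfl⟩
  have heq : ∀ a x y, ψ a x = ψ a y → ∃ b h, t a b h x = t a b h y := fun a x y h => by
    obtain ⟨b, h₁, h₂, hb⟩ := Quotient.exact h
    exact ⟨b, h₁, hb⟩
  have hImap : ∀ a b h, (I.map (algebraMap A (Ra a))).map (t a b h) ≤ I.map (algebraMap A (Ra b)) :=
    fun a b h => by rw [Ideal.map_map, ht a b h]
  have hψA : ∀ a, (ψ a).comp (algebraMap A (Ra a)) = algebraMap A (DirectLimit Ra t) := fun a =>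
    RingHom.ext fun x => (halg a x).symm
  have hL : HenselianRing (DirectLimit Ra t) (I.map (algebraMap A (DirectLimit Ra t))) := by
    have h := Groth.HensPair.henselianRing_of_exhaustion t ψ hψ hex heq
      (fun a => I.map (algebraMap A (Ra a))) hImap (fun a => inferInstance)
    simp only [Ideal.map_map, hψA, ciSup_const] at h
    exact h
  have htA : ∀ a b (h : a ≤ b) (z : A), t a b h (algebraMap A (Ra a) z) = algebraMap A (Ra b) z :=
    fun a b h => RingHom.congr_fun (ht a b h)
  let tA : ∀ a b (h : a ≤ b), Ra a →ₐ[A] Ra b := fun a b h => { t a b h with commutes' := htA a b h }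
  have hext : ∀ {D : Type u} [CommRing D] [Algebra A D] [HenselianRing D (I.map (algebraMap A D))]
      (g₁ g₂ : B →ₐ[A] D), (∀ r, g₁ (algebraMap R₀ B r) = g₂ (algebraMap R₀ B r)) → g₁ = g₂ := by
    intro D _ _ _ g₁ g₂ h
    refine AlgHom.coe_ringHom_injective (Groth.HensPair.ringHom_ext_of_isPairHenselization hB
      (I.map (algebraMap A D)) (RingHom.ext h) ?_)
    rw [Ideal.map_map, RingHom.comp_assoc, ← IsScalarTower.algebraMap_eq]
    exact (congrArg I.map g₁.comp_algebraMap).le
  obtain ⟨n, f, hf, s, hs⟩ := (inferInstance : Algebra.FinitePresentation A R₀).out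
  constructor
  · intro χ
    choose c y hy using fun k : Fin n => hex (χ (algebraMap R₀ B (f (MvPolynomial.X k))))
    obtain ⟨a, ha⟩ := Finset.exists_le (Finset.univ.image c)
    let ev : ∀ b, a ≤ b → MvPolynomial (Fin n) A →ₐ[A] Ra b := fun b h =>
      MvPolynomial.aeval fun k => t (c k) b ((ha _ (by simp)).trans h) (y k)
    have hev : ∀ b (h : a ≤ b) p, ψ b (ev b h p) = χ (algebraMap R₀ B (f p)) := by
      intro b h p
      refine RingHom.congr_fun (MvPolynomial.ringHom_ext (f := (ψ b).comp (ev b h).toRingHom)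
        (g := (χ.toRingHom.comp (algebraMap R₀ B)).comp f.toRingHom) (fun z => ?_) fun k => ?_) p
      · simp [ev, ← IsScalarTower.algebraMap_apply, halg b]
        rfl
      · simp [ev, hψ, hy]
    have hcomp : ∀ b d (h₁ : a ≤ b) (h₂ : b ≤ d), (tA b d h₂).comp (ev b h₁) = ev d (h₁.trans h₂) := by
      intro b d h₁ h₂
      refine MvPolynomial.algHom_ext fun k => ?_
      show t b d h₂ (ev b h₁ (MvPolynomial.X k)) = ev d (h₁.trans h₂) (MvPolynomial.X k)
      simp only [ev, MvPolynomial.aeval_X]
      exact DirectedSystem.map_map' t _ h₂ _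
    have hzero : ∀ g : s, ∃ b, ∃ h : a ≤ b, ev b h g = 0 := fun g => by
      have hg : f g = 0 := RingHom.mem_ker.1 (hs ▸ Ideal.subset_span g.2)
      obtain ⟨b, h, hb⟩ := heq a (ev a le_rfl g) 0 (by rw [hev a le_rfl, hg, map_zero, map_zero, map_zero])
      refine ⟨b, h, ?_⟩
      rw [← hcomp a b le_rfl h]
      exact hb.trans (map_zero _)
    choose d had hd using hzero
    obtain ⟨b, hb⟩ := Finset.exists_le (insert a (Finset.univ.image d))
    have hab : a ≤ b := hb a (by simp)
    have hker : RingHom.ker f ≤ RingHom.ker (ev b hab) := by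
      refine le_of_eq_of_le hs.symm (Ideal.span_le.2 fun g hg => ?_)
      show ev b hab g = 0
      have hdb : d ⟨g, hg⟩ ≤ b := hb _ (by simp)
      rw [← hcomp (d ⟨g, hg⟩) b (had _) hdb]
      show t _ b hdb (ev (d ⟨g, hg⟩) (had _) g) = 0
      rw [hd ⟨g, hg⟩, map_zero]
    let φ₀ : R₀ →ₐ[A] Ra b := (Ideal.Quotient.liftₐ (RingHom.ker f) (ev b hab) fun p hp => hker hp).comp
      (Ideal.quotientKerAlgEquivOfSurjective hf).symm.toAlgHom
    have hφ₀ : ∀ p, φ₀ (f p) = ev b hab p := fun p => by
      have : (Ideal.quotientKerAlgEquivOfSurjective hf).symm (f p) = Ideal.Quotient.mk _ p := by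
        rw [AlgEquiv.symm_apply_eq]; rfl
      simp only [φ₀, AlgHom.comp_apply, AlgEquiv.coe_toAlgHom]
      rw [this]
      rfl
    obtain ⟨φ, hφ, -⟩ := hB.2 (Ra b) (I.map (algebraMap A (Ra b))) φ₀.toRingHom inferInstance
      (by rw [Ideal.map_map, show φ₀.toRingHom.comp (algebraMap A R₀) = algebraMap A (Ra b) from φ₀.comp_algebraMap])
    have hφA : ∀ z : A, φ (algebraMap A B z) = algebraMap A (Ra b) z := fun z => by
      rw [IsScalarTower.algebraMap_apply A R₀ B]
      exact (RingHom.congr_fun hφ _).trans (φ₀.commutes z)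
    let φA : B →ₐ[A] Ra b := { φ with commutes' := hφA }
    refine ⟨b, φA, fun x => ?_⟩
    let ψA : Ra b →ₐ[A] DirectLimit Ra t := { ψ b with commutes' := fun z => (halg b z).symm }
    refine DFunLike.congr_fun (hext (ψA.comp φA) χ fun r => ?_) x
    obtain ⟨p, rfl⟩ := hf r
    show ψ b (φ (algebraMap R₀ B (f p))) = _
    rw [← RingHom.comp_apply φ, hφ]
    exact (congrArg (ψ b) (hφ₀ p)).trans (hev b hab p)
  · intro a φ ψ' hφψ
    have : ∀ k : Fin n, ∃ b h, t a b h (φ (algebraMap R₀ B (f (MvPolynomial.X k)))) =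
        t a b h (ψ' (algebraMap R₀ B (f (MvPolynomial.X k)))) := fun k => heq _ _ _ (hφψ _)
    choose d had hd using this
    obtain ⟨b, hb⟩ := Finset.exists_le (insert a (Finset.univ.image d))
    have hab : a ≤ b := hb a (by simp)
    refine ⟨b, hab, fun x => DFunLike.congr_fun (hext ((tA a b hab).comp φ) ((tA a b hab).comp ψ') fun r => ?_) x⟩
    obtain ⟨p, rfl⟩ := hf r
    refine DFunLike.congr_fun (MvPolynomial.algHom_ext (f := (((tA a b hab).comp φ).comp (IsScalarTower.toAlgHom A R₀ B)).comp f)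
      (g := (((tA a b hab).comp ψ').comp (IsScalarTower.toAlgHom A R₀ B)).comp f) fun k => ?_) p
    show t a b hab (φ _) = t a b hab (ψ' _)
    have hkb : d k ≤ b := hb _ (by simp)
    rw [← DirectedSystem.map_map' t (had k) hkb, ← DirectedSystem.map_map' t (had k) hkb]
    exact congrArg _ (hd k)

end Groth.Agent.S17613
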