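import Groth.Statements.S17615
import Groth.Agent.Misc12.HensSpread.Basic

set_option autoImplicit false
universe u
open Hensel

namespace Groth.Agent.S17615

/-- Let (A, I) be a Henselian pair and let B be a Henselization of the pair (R₀, IR₀) for a finitely
presented A-algebra R₀ (so A → B is a Henselian finitely presented map of Henselian pairs). If B is
flat over A, then there are a finitely presented A-algebra S that is flat over A and an S-algebra
structure on B compatible with that of A for which B is a Henselization of the pair (S, IS). -/
theorem result (A : Type u) [CommRing A]
    (I : Ideal A) [HenselianRing A I]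
    (R₀ : Type u) [CommRing R₀] [Algebra A R₀] [Algebra.FinitePresentation A R₀]
    (B : Type u) [CommRing B] [Algebra R₀ B] [Algebra A B] [IsScalarTower A R₀ B]
    (hB : Hens2.IsPairHenselization R₀ (I.map (algebraMap A R₀)) B) [Module.Flat A B] :
    ∃ (S : Type u) (_ : CommRing S) (_ : Algebra A S) (_ : Algebra S B) (_ : IsScalarTower A S B),
      Algebra.FinitePresentation A S ∧ Module.Flat A S ∧
      Hens2.IsPairHenselization S (I.map (algebraMap A S)) B := by
  exact Groth.Misc12.HensSpread.exists_flat hB

end Groth.Agent.S17615
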