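import Groth.Statements.S17617
import Groth.Agent.HensPair.Universal
open scoped TensorProduct

set_option autoImplicit false
universe u
open Hensel

namespace Groth.Agent.S17617

/-- Let (A, I) be a Henselian pair and let M' → M → M'' be A-linear maps with zero composite. Then M' →
M → M'' is exact if and only if for every prime ideal p of A containing I and every Henselization H
of the pair (A_p, IA_p), the sequence H ⊗_A M' → H ⊗_A M → H ⊗_A M'' is exact. (The modules H ⊗_A M
are the stalks at p of the sheaf associated to M on the affine Henselian scheme of (A, I), and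
exactness of a sequence of such sheaves is exactness at every stalk, so this is the statement that
the sequence of modules is exact exactly when the associated sequence of sheaves is.) -/
theorem result (A : Type u) [CommRing A]
    (I : Ideal A) [HenselianRing A I]
    (M' M M'' : Type u) [AddCommGroup M'] [Module A M'] [AddCommGroup M] [Module A M]
    [AddCommGroup M''] [Module A M''] (f : M' →ₗ[A] M) (g : M →ₗ[A] M'') (hfg : g.comp f = 0) :
    Function.Exact f g ↔
    ∀ (p : Ideal A) [p.IsPrime], I ≤ p →
      ∀ (H : Type u) [CommRing H] [Algebra (Localization.AtPrime p) H] [Algebra A H]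
        [IsScalarTower A (Localization.AtPrime p) H],
        Hens2.IsPairHenselization (Localization.AtPrime p)
          (I.map (algebraMap A (Localization.AtPrime p))) H →
        Function.Exact (f.baseChange H) (g.baseChange H) := by
  constructor
  · intro hex p _ _ H _ _ _ _ hH
    have := Groth.HensPair.flat_of_isPairHenselization hH
    have : Module.Flat A H := Module.Flat.trans A (Localization.AtPrime p) H
    exact Module.Flat.lTensor_exact H hex
  · intro h y
    refine ⟨fun hy => ?_, fun ⟨x, hx⟩ => hx ▸ LinearMap.congr_fun hfg x⟩
    by_contra hne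
    let Q := M ⧸ LinearMap.range f
    let J : Ideal A := LinearMap.ker (LinearMap.toSpanSingleton A Q (Submodule.Quotient.mk y))
    have hJ : J ≠ ⊤ := fun htop => hne (by
      have h1 : (1 : A) ∈ J := htop ▸ trivial
      rw [LinearMap.mem_ker, LinearMap.toSpanSingleton_apply, one_smul,
        Submodule.Quotient.mk_eq_zero] at h1
      exact h1)
    obtain ⟨m, hm, hJm⟩ := Ideal.exists_le_maximal J hJ
    have hIm : I ≤ m := (HenselianRing.jac (I := I)).trans (sInf_le ⟨bot_le, hm⟩)
    let Am := Localization.AtPrime m
    let H := Groth.HensPair.Hz (I.map (algebraMap A Am))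
    let _ : Algebra A H := ((algebraMap Am H).comp (algebraMap A Am)).toAlgebra
    have : IsScalarTower A Am H := IsScalarTower.of_algebraMap_eq fun _ => rfl
    have hH := Groth.HensPair.isPairHenselization (I.map (algebraMap A Am))
    have hex := h m hIm H hH
    have := Groth.HensPair.flat_of_isPairHenselization hH
    have : Module.Flat A H := Module.Flat.trans A Am H
    obtain ⟨z, hz⟩ := (hex ((1 : H) ⊗ₜ[A] y)).1 (by rw [LinearMap.baseChange_tmul, hy, TensorProduct.tmul_zero])
    -- `1 ⊗ y = 0` in `H ⊗ Q`
    have h0 : (1 : H) ⊗ₜ[A] (Submodule.Quotient.mk y : Q) = 0 := by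
      have h2 := congrArg (LinearMap.baseChange H (LinearMap.range f).mkQ) hz
      rw [LinearMap.baseChange_tmul, ← LinearMap.comp_apply, ← LinearMap.baseChange_comp,
        LinearMap.range_mkQ_comp, LinearMap.baseChange_zero, LinearMap.zero_apply] at h2
      exact h2.symm
    -- hence `1 ∈ J H`
    have hinj : Function.Injective (LinearMap.lTensor H
        (J.liftQ (LinearMap.toSpanSingleton A Q (Submodule.Quotient.mk y)) le_rfl)) :=
      Module.Flat.lTensor_preserves_injective_linearMap _
        (LinearMap.ker_eq_bot.1 (Submodule.ker_liftQ_eq_bot _ _ _ le_rfl))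
    have h1 : (1 : H) ⊗ₜ[A] (Submodule.Quotient.mk 1 : A ⧸ J) = 0 := hinj (by
      rw [map_zero, LinearMap.lTensor_tmul, Submodule.liftQ_apply,
        LinearMap.toSpanSingleton_apply, one_smul, h0])
    have h3 : (1 : H) ∈ J.map (algebraMap A H) := by
      rw [← Ideal.Quotient.eq_zero_iff_mem]
      apply (Algebra.TensorProduct.quotIdealMapEquivTensorQuot H J).injective
      rw [map_zero, Algebra.TensorProduct.quotIdealMapEquivTensorQuot_mk]
      exact h1
    -- but `m` is not the unit ideal in `H`
    obtain ⟨σ⟩ := Groth.HensPair.exists_toQuotient (I.map (algebraMap A Am))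
    have h4 := Ideal.mem_map_of_mem σ.toRingHom (Ideal.map_mono hJm h3)
    rw [Ideal.map_map, IsScalarTower.algebraMap_eq A Am H, ← RingHom.comp_assoc,
      AlgHom.toRingHom_eq_coe, σ.comp_algebraMap, ← Ideal.map_map] at h4
    have hle : I.map (algebraMap A Am) ≤ m.map (algebraMap A Am) := Ideal.map_mono hIm
    have h5 : (m.map (algebraMap A Am)).map (algebraMap Am (Am ⧸ I.map (algebraMap A Am))) ≠ ⊤ := by
      rw [show algebraMap Am (Am ⧸ I.map (algebraMap A Am)) = Ideal.Quotient.mk _ from rfl]
      intro htop
      have := Ideal.comap_map_of_surjective (Ideal.Quotient.mk (I.map (algebraMap A Am)))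
        Ideal.Quotient.mk_surjective (m.map (algebraMap A Am))
      rw [htop, Ideal.comap_top, ← RingHom.ker_eq_comap_bot, Ideal.mk_ker, sup_eq_left.2 hle,
        Localization.AtPrime.map_eq_maximalIdeal] at this
      exact (IsLocalRing.maximalIdeal.isMaximal Am).ne_top this.symm
    rw [map_one] at h4
    exact h5 ((Ideal.eq_top_iff_one _).2 h4)

end Groth.Agent.S17617
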