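import Groth.Statements.S17618
import Groth.Agent.HensPair.Limit
import Groth.Agent.HensPair.Hfp

set_option autoImplicit false
universe u
open Hensel

namespace Groth.Agent.S17618

/-- Let (A, I) and (B, IB) be Henselian pairs with B an A-algebra. Assume that for every directed system
(R_a) of A-algebras with A-compatible transition maps such that each (R_a, IR_a) is a Henselian
pair, with direct limit L carrying the induced A-algebra structure, the canonical map from the
colimit of the Hom_A(B, R_a) to Hom_A(B, L) is bijective (every A-algebra map B → L factors through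
some R_a, and two A-algebra maps B → R_a with equal composites to L agree after passing to some
R_b). Then A → B is Henselian finitely presented: there are a finitely presented A-algebra R and an
R-algebra structure on B compatible with that of A for which B is a Henselization of the pair (R,
IR). (Index sets in the universe of the rings.) -/
theorem result (A : Type u) [CommRing A] (I : Ideal A)
    [HenselianRing A I] (B : Type u) [CommRing B] [Algebra A B]
    [HenselianRing B (I.map (algebraMap A B))]
    (h : ∀ (κ : Type u) [Preorder κ] [IsDirectedOrder κ] [Nonempty κ]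
      (Ra : κ → Type u) [∀ a, CommRing (Ra a)] [∀ a, Algebra A (Ra a)]
      [∀ a, HenselianRing (Ra a) (I.map (algebraMap A (Ra a)))]
      (t : ∀ a b : κ, a ≤ b → (Ra a →+* Ra b)) [DirectedSystem Ra (fun a b hab => t a b hab)],
      (∀ (a b : κ) (hab : a ≤ b), (t a b hab).comp (algebraMap A (Ra a)) = algebraMap A (Ra b)) →
      ∀ [Algebra A (DirectLimit Ra t)],
      (∀ (a : κ) (x : A), algebraMap A (DirectLimit Ra t) x =
        DirectLimit.Ring.of Ra t a (algebraMap A (Ra a) x)) →
      (∀ χ : B →ₐ[A] DirectLimit Ra t, ∃ (a : κ) (φ : B →ₐ[A] Ra a),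
          ∀ x : B, DirectLimit.Ring.of Ra t a (φ x) = χ x) ∧
      ∀ (a : κ) (φ ψ : B →ₐ[A] Ra a),
        (∀ x : B, DirectLimit.Ring.of Ra t a (φ x) = DirectLimit.Ring.of Ra t a (ψ x)) →
        ∃ (b : κ) (hab : a ≤ b), ∀ x : B, t a b hab (φ x) = t a b hab (ψ x)) :
    ∃ (R : Type u) (_ : CommRing R) (_ : Algebra A R) (_ : Algebra R B) (_ : IsScalarTower A R B),
      Algebra.FinitePresentation A R ∧ Hens2.IsPairHenselization R (I.map (algebraMap A R)) B := by
  classical
  let ev₀ : MvPolynomial B A →ₐ[A] B := MvPolynomial.aeval id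
  have hev₀ : Function.Surjective ev₀ := fun b => ⟨MvPolynomial.X b, by simp [ev₀]⟩
  let κ : Type u := {p : Finset B × Finset (MvPolynomial B A) // ∀ g ∈ p.2, ev₀ g = 0}
  have hdir : IsDirectedOrder κ := ⟨fun p q => ⟨⟨(p.1.1 ∪ q.1.1, p.1.2 ∪ q.1.2), fun g hg =>
    (Finset.mem_union.1 hg).elim (p.2 g) (q.2 g)⟩, ⟨Finset.subset_union_left, Finset.subset_union_left⟩,
    ⟨Finset.subset_union_right, Finset.subset_union_right⟩⟩⟩
  have : Nonempty κ := ⟨⟨(∅, ∅), by simp⟩⟩
  let P : κ → Type u := fun p => MvPolynomial {x // x ∈ p.1.1} A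
  let pre : ∀ p : κ, Set (MvPolynomial {x // x ∈ p.1.1} A) := fun p =>
    MvPolynomial.rename Subtype.val ⁻¹' (p.1.2 : Set (MvPolynomial B A))
  let K : ∀ p : κ, Ideal (MvPolynomial {x // x ∈ p.1.1} A) := fun p => Ideal.span (pre p)
  let R : κ → Type u := fun p => MvPolynomial {x // x ∈ p.1.1} A ⧸ K p
  have hfp : ∀ p, Algebra.FinitePresentation A (R p) := fun p =>
    Algebra.FinitePresentation.quotient (Submodule.fg_span ((p.1.2.finite_toSet).preimage
      (MvPolynomial.rename_injective _ Subtype.val_injective).injOn))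
  let J : ∀ p, Ideal (R p) := fun p => I.map (algebraMap A (R p))
  let H : κ → Type u := fun p => Groth.HensPair.Hz (J p)
  let _ : ∀ p, Algebra A (H p) := fun p =>
    ((algebraMap (R p) (H p)).comp (algebraMap A (R p))).toAlgebra
  have htow : ∀ p, IsScalarTower A (R p) (H p) := fun p =>
    @IsScalarTower.of_algebraMap_eq A (R p) (H p) _ _ _ _ _ _ fun _ => rfl
  have hH : ∀ p, Hens2.IsPairHenselization (R p) (J p) (H p) := fun p =>
    Groth.HensPair.isPairHenselization (J p)
  have hmapH : ∀ p, (J p).map (algebraMap (R p) (H p)) = I.map (algebraMap A (H p)) := fun p => by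
    rw [Ideal.map_map, ← IsScalarTower.algebraMap_eq]
  have hHh : ∀ p, HenselianRing (H p) (I.map (algebraMap A (H p))) := fun p => by
    rw [← hmapH]; exact (hH p).1
  let gen : ∀ p : κ, {x // x ∈ p.1.1} → H p := fun p i =>
    algebraMap (R p) (H p) (Ideal.Quotient.mk (K p) (MvPolynomial.X i))
  -- maps out of a stage are determined by the generators
  have hext : ∀ (p : κ) {D : Type u} [CommRing D] [Algebra A D] (_ : HenselianRing D (I.map (algebraMap A D)))
      (g₁ g₂ : H p →ₐ[A] D), (∀ i, g₁ (gen p i) = g₂ (gen p i)) → g₁ = g₂ := by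
    intro p D _ _ hD g₁ g₂ hg
    refine AlgHom.coe_ringHom_injective (Groth.HensPair.ringHom_ext_of_isPairHenselization (hH p)
      (I.map (algebraMap A D)) ?_ ?_)
    · exact congrArg AlgHom.toRingHom (Ideal.Quotient.algHom_ext A (I := K p)
        (f := g₁.comp (IsScalarTower.toAlgHom A (R p) (H p)))
        (g := g₂.comp (IsScalarTower.toAlgHom A (R p) (H p))) (MvPolynomial.algHom_ext hg))
    · rw [Ideal.map_map, RingHom.comp_assoc, ← IsScalarTower.algebraMap_eq]
      exact (congrArg I.map g₁.comp_algebraMap).le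
  -- maps out of a stage from maps of polynomial algebras
  have hlift : ∀ (p : κ) {D : Type u} [CommRing D] [Algebra A D] (_ : HenselianRing D (I.map (algebraMap A D)))
      (v : MvPolynomial {x // x ∈ p.1.1} A →ₐ[A] D), (∀ g ∈ pre p, v g = 0) →
      ∃ g : H p →ₐ[A] D, ∀ i, g (gen p i) = v (MvPolynomial.X i) := by
    intro p D _ _ hD v hv
    have hle : ∀ g ∈ K p, v g = 0 := fun g hg =>
      RingHom.mem_ker.1 ((Ideal.span_le.2 hv : K p ≤ RingHom.ker v) hg)
    let v' : R p →ₐ[A] D := Ideal.Quotient.liftₐ (K p) v hle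
    obtain ⟨g, hg, -⟩ := (hH p).2 D _ v'.toRingHom hD (by
      rw [Ideal.map_map, show v'.toRingHom.comp (algebraMap A (R p)) = algebraMap A D from v'.comp_algebraMap])
    exact ⟨{ g with commutes' := fun z => (RingHom.congr_fun hg (algebraMap A (R p) z)).trans (v'.commutes z) },
      fun i => RingHom.congr_fun hg _⟩
  have hψex : ∀ p : κ, ∃ g : H p →ₐ[A] B, ∀ i, g (gen p i) = (i : B) := fun p => by
    obtain ⟨g, hg⟩ := hlift p inferInstance (MvPolynomial.aeval Subtype.val) (fun g hg => by
      have h0 := p.2 _ hg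
      rw [MvPolynomial.aeval_rename] at h0
      exact h0)
    exact ⟨g, fun i => (hg i).trans (MvPolynomial.aeval_X _ _)⟩
  choose ψ hψ using hψex
  have htex : ∀ p q : κ, p ≤ q → ∃ g : H p →ₐ[A] H q, ∀ (i : {x // x ∈ p.1.1}) (hi : (i : B) ∈ q.1.1),
      g (gen p i) = gen q ⟨i, hi⟩ := fun p q hpq => by
    let inc : {x // x ∈ p.1.1} → {x // x ∈ q.1.1} := fun i => ⟨i, hpq.1 i.2⟩
    obtain ⟨g, hg⟩ := hlift p (hHh q)
      (((IsScalarTower.toAlgHom A (R q) (H q)).comp (Ideal.Quotient.mkₐ A (K q))).comp
        (MvPolynomial.rename inc)) (fun g hg => by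
        have : MvPolynomial.rename inc g ∈ K q := Ideal.subset_span (by
          show MvPolynomial.rename Subtype.val (MvPolynomial.rename inc g) ∈ (q.1.2 : Set (MvPolynomial B A))
          rw [MvPolynomial.rename_rename]
          exact hpq.2 hg)
        show algebraMap (R q) (H q) (Ideal.Quotient.mk (K q) (MvPolynomial.rename inc g)) = 0
        rw [Ideal.Quotient.eq_zero_iff_mem.2 this, map_zero])
    exact ⟨g, fun i hi => (hg i).trans (congrArg (algebraMap (R q) (H q))
      (congrArg (Ideal.Quotient.mk (K q)) (MvPolynomial.rename_X inc i)))⟩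
  choose tA htA using htex
  let t : ∀ p q : κ, p ≤ q → H p →+* H q := fun p q h => (tA p q h).toRingHom
  have : DirectedSystem H (fun p q h => t p q h) :=
    { map_self := fun p x => DFunLike.congr_fun
        (hext p (hHh p) (tA p p le_rfl) (AlgHom.id A (H p)) fun i => htA p p _ i i.2) x
      map_map := fun k j i hij hjk x => DFunLike.congr_fun
        (hext i (hHh k) ((tA j k hjk).comp (tA i j hij)) (tA i k (hij.trans hjk)) fun v => by
          rw [AlgHom.comp_apply, htA i j hij v (hij.1 v.2), htA j k hjk _ (hjk.1 (hij.1 v.2)),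
            htA i k _ v ((hij.trans hjk).1 v.2)]) x }
  have hψt : ∀ p q h x, ψ q (t p q h x) = ψ p x := fun p q h x => DFunLike.congr_fun
    (hext p inferInstance ((ψ q).comp (tA p q h)) (ψ p) fun v => by
      rw [AlgHom.comp_apply, htA p q h v (h.1 v.2), hψ, hψ]) x
  let crL : CommRing (DirectLimit H t) := inferInstance
  let p₀ : κ := Classical.arbitrary κ
  let of : ∀ p, H p →+* DirectLimit H t := fun p => DirectLimit.Ring.of H t p
  let _ : Algebra A (DirectLimit H t) :=
    @RingHom.toAlgebra A (DirectLimit H t) _ _ ((of p₀).comp (algebraMap A (H p₀)))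
  have halg : ∀ (p : κ) (x : A), algebraMap A (DirectLimit H t) x = of p (algebraMap A (H p) x) := by
    intro p x
    obtain ⟨q, h₁, h₂⟩ := exists_ge_ge p₀ p
    show of p₀ (algebraMap A (H p₀) x) = _
    rw [← DirectLimit.Ring.of_f h₁, ← DirectLimit.Ring.of_f (f := fun a b h => t a b h) h₂]
    exact congrArg (of q) (((tA p₀ q h₁).commutes x).trans ((tA p q h₂).commutes x).symm)
  have hofA : ∀ p, (of p).comp (algebraMap A (H p)) = algebraMap A (DirectLimit H t) := fun p =>
    RingHom.ext fun x => (halg p x).symm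
  have hL : HenselianRing (DirectLimit H t) (I.map (algebraMap A (DirectLimit H t))) := by
    have h := Groth.HensPair.henselianRing_of_exhaustion t of
      (fun a b h x => DirectLimit.Ring.of_f h x)
      (fun x => by obtain ⟨a, y, rfl⟩ := DirectLimit.exists_eq_mk _ x; exact ⟨a, y, rfl⟩)
      (fun a x y h => by obtain ⟨b, h₁, h₂, hb⟩ := Quotient.exact h; exact ⟨b, h₁, hb⟩)
      (fun a => I.map (algebraMap A (H a)))
      (fun a b h => by rw [Ideal.map_map, show (t a b h).comp (algebraMap A (H a)) = algebraMap A (H b) from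
        (tA a b h).comp_algebraMap])
      hHh
    simp only [Ideal.map_map, hofA, ciSup_const] at h
    exact h
  let ofA : ∀ p, H p →ₐ[A] DirectLimit H t := fun p =>
    { of p with commutes' := fun z => (halg p z).symm }
  let Φ : DirectLimit H t →+* B :=
    DirectLimit.Ring.lift H t B (fun p => (ψ p).toRingHom) hψt
  -- the section
  let sing : B → κ := fun b => ⟨({b}, ∅), by simp⟩
  let ev : MvPolynomial B A →ₐ[A] DirectLimit H t :=
    MvPolynomial.aeval fun b => of (sing b) (gen (sing b) ⟨b, Finset.mem_singleton_self b⟩)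
  have hker : ∀ g, ev₀ g = 0 → ev g = 0 := by
    intro g hg
    obtain ⟨s, g₀, rfl⟩ := MvPolynomial.exists_finset_rename g
    let q : κ := ⟨(s, {MvPolynomial.rename Subtype.val g₀}), by simpa using hg⟩
    have hq : ∀ v : MvPolynomial {x // x ∈ q.1.1} A, ev (MvPolynomial.rename Subtype.val v) =
        ofA q (algebraMap (R q) (H q) (Ideal.Quotient.mk (K q) v)) := by
      intro v
      refine DFunLike.congr_fun (MvPolynomial.algHom_ext
        (f := ev.comp (MvPolynomial.rename Subtype.val))
        (g := ((ofA q).comp (IsScalarTower.toAlgHom A (R q) (H q))).comp (Ideal.Quotient.mkₐ A (K q)))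
        fun i => ?_) v
      rw [AlgHom.comp_apply, MvPolynomial.rename_X, MvPolynomial.aeval_X]
      have hle : sing i.1 ≤ q := ⟨Finset.singleton_subset_iff.2 i.2, Finset.empty_subset _⟩
      rw [← DirectLimit.Ring.of_f hle]
      exact congrArg (of q) (htA (sing i.1) q hle ⟨i.1, Finset.mem_singleton_self i.1⟩ i.2)
    refine (hq g₀).trans ?_
    rw [Ideal.Quotient.eq_zero_iff_mem.2 (Ideal.subset_span (show g₀ ∈ pre q by simp [pre, q])),
      map_zero, map_zero]
  let σ : B →ₐ[A] DirectLimit H t := (Ideal.Quotient.liftₐ (RingHom.ker ev₀) ev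
    fun g hg => hker g (RingHom.mem_ker.1 hg)).comp
      (Ideal.quotientKerAlgEquivOfSurjective hev₀).symm.toAlgHom
  have hσ : ∀ b, σ b = of (sing b) (gen (sing b) ⟨b, Finset.mem_singleton_self b⟩) := fun b => by
    have : (Ideal.quotientKerAlgEquivOfSurjective hev₀).symm b =
        Ideal.Quotient.mk _ (MvPolynomial.X b) := by
      rw [AlgEquiv.symm_apply_eq]
      exact (show ev₀ (MvPolynomial.X b) = b by simp [ev₀]).symm
    simp only [σ, AlgHom.comp_apply, AlgEquiv.coe_toAlgHom]
    rw [this]
    exact MvPolynomial.aeval_X _ b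
  have hΦσ : ∀ b, Φ (σ b) = b := fun b => by
    rw [hσ]
    exact (DirectLimit.Ring.lift_of B (fun p => (ψ p).toRingHom) hψt (sing b) (gen (sing b) ⟨b, Finset.mem_singleton_self b⟩)).trans (hψ (sing b) ⟨b, Finset.mem_singleton_self b⟩)
  obtain ⟨a, φ, hφ⟩ := (h κ H t (fun a b hab => (tA a b hab).comp_algebraMap) halg).1 σ
  have hψφ : ∀ x, ψ a (φ x) = x := fun x => by
    conv_rhs => rw [← hΦσ x, ← hφ x]
    exact (DirectLimit.Ring.lift_of B (fun p => (ψ p).toRingHom) hψt a (φ x)).symm
  -- the kernel is finitely generated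
  let K' : Ideal (H a) := Ideal.span (Set.range fun i => gen a i - φ (ψ a (gen a i)))
  have hK' : RingHom.ker (ψ a) = K' := by
    refine le_antisymm (fun x hx => ?_) (Ideal.span_le.2 ?_)
    · have hq : HenselianRing (H a ⧸ K') (I.map (algebraMap A (H a ⧸ K'))) := by
        have := hHh a
        have h' := Groth.Hensel1.henselianRing_quotient (I := I.map (algebraMap A (H a))) K'
        rwa [Ideal.map_map, ← Ideal.Quotient.algebraMap_eq, ← IsScalarTower.algebraMap_eq] at h'
      have := DFunLike.congr_fun (hext a hq (Ideal.Quotient.mkₐ A K')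
        ((Ideal.Quotient.mkₐ A K').comp (φ.comp (ψ a))) fun i =>
          Ideal.Quotient.eq.2 (Ideal.subset_span ⟨i, rfl⟩)) x
      simp only [AlgHom.comp_apply, RingHom.mem_ker.1 hx, map_zero] at this
      exact Ideal.Quotient.eq_zero_iff_mem.1 this
    · rintro _ ⟨i, rfl⟩
      rw [SetLike.mem_coe, RingHom.mem_ker, map_sub, hψφ, sub_self]
  exact Groth.HensPair.exists_presentation_of_surjective (hH a) (ψ a) (fun x => ⟨φ x, hψφ x⟩)
    (hK' ▸ Submodule.fg_span (Set.finite_range _))

end Groth.Agent.S17618
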