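import Groth.Statements.S17619
import Groth.Agent.RaynaudGruson.AdicProjective
import Groth.Agent.RaynaudGruson.GeomIntegral

set_option autoImplicit false
universe u
open FlatMor

namespace Groth.Agent.S17619

/-- Let A be a Noetherian ring and B a smooth A-algebra whose fibres are geometrically integral, and let
u : B → A be an A-algebra retraction with kernel I (the situation reached, after a faithfully flat
base change, in the proof that flat and pure modules are projective). Let B̂ be the I-adic
completion of B, presented as a B-algebra, compatibly an A-algebra, that is I B̂-adically complete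
and for which every truncation B/I^n → B̂/I^n B̂ is bijective. Then the canonical map B → B̂ is
universally injective over A: it remains injective after tensoring over A with any A-module (modules
in the universe of A). -/
theorem result (A : Type u) [CommRing A]
    [IsNoetherianRing A] (B : Type u) [CommRing B] [Algebra A B] [Algebra.Smooth A B]
    (hfib : FlatCA.GeomIntegralFibres A B) (u : B →ₐ[A] A)
    (Bh : Type u) [CommRing Bh] [Algebra B Bh] [Algebra A Bh] [IsScalarTower A B Bh]
    [IsAdicComplete ((RingHom.ker u).map (algebraMap B Bh)) Bh]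
    (hq : ∀ n : ℕ, Function.Bijective (Ideal.quotientMap ((RingHom.ker u ^ n).map (algebraMap B Bh))
      (algebraMap B Bh) Ideal.le_comap_map)) :
    FlatCA.UnivInj A (IsScalarTower.toAlgHom A B Bh).toLinearMap := by
  classical
  haveI : IsNoetherianRing B := Algebra.FiniteType.isNoetherianRing A B
  refine Groth.RaynaudGruson.univInj_of_detects (S := B) (N := B) (RingHom.ker u) ?_ _ fun n => ?_
  · intro Q _ _ hQ q hq
    refine Groth.RaynaudGruson.assoc_tensor_meet_of_fibers _ (fun p q _ _ _ hass htop => ?_) Q hq
    obtain rfl := Groth.RaynaudGruson.eq_map_of_assoc_fiber hfib p (LinearEquiv.refl B B) q hass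
    refine Ideal.IsPrime.ne_top ‹p.IsPrime› (eq_top_iff.mpr ?_)
    have h1 : Ideal.map u (RingHom.ker u ⊔ p.map (algebraMap A B)) = ⊤ := by rw [htop, Ideal.map_top]
    rw [Ideal.map_sup] at h1
    refine h1.ge.trans (sup_le ?_ ?_)
    · exact Ideal.map_le_iff_le_comap.mpr fun x hx => by
        rw [Ideal.mem_comap, RingHom.mem_ker.mp hx]; exact zero_mem _
    · rw [Ideal.map_le_iff_le_comap, Ideal.map_le_iff_le_comap]
      intro a ha
      rw [Ideal.mem_comap, Ideal.mem_comap, AlgHom.commutes]
      exact ha
  · let J : Ideal B := RingHom.ker u ^ n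
    let Jh : Ideal Bh := (RingHom.ker u ^ n).map (algebraMap B Bh)
    let φ : (B ⧸ J.restrictScalars A) →ₗ[A] Bh ⧸ Jh.restrictScalars A :=
      Submodule.mapQ _ _ (IsScalarTower.toAlgHom A B Bh).toLinearMap (fun x hx => Ideal.mem_map_of_mem _ hx)
    have hφ : Function.Bijective φ := by
      refine ⟨fun a b hab => ?_, fun y => ?_⟩
      · obtain ⟨a, rfl⟩ := Submodule.Quotient.mk_surjective _ a
        obtain ⟨b, rfl⟩ := Submodule.Quotient.mk_surjective _ b
        have h := (hq n).1 (a₁ := Ideal.Quotient.mk _ a) (a₂ := Ideal.Quotient.mk _ b)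
          (Ideal.Quotient.eq.mpr ((Submodule.Quotient.eq _).mp hab))
        exact (Submodule.Quotient.eq _).mpr (Ideal.Quotient.eq.mp h)
      · obtain ⟨y, rfl⟩ := Submodule.Quotient.mk_surjective _ y
        obtain ⟨z, hz⟩ := (hq n).2 (Ideal.Quotient.mk _ y)
        obtain ⟨z, rfl⟩ := Ideal.Quotient.mk_surjective z
        exact ⟨Submodule.Quotient.mk z, (Submodule.Quotient.eq _).mpr (Ideal.Quotient.eq.mp hz)⟩
    refine ⟨J.restrictScalars A, (LinearEquiv.ofBijective φ hφ).symm.toLinearMap ∘ₗ (Jh.restrictScalars A).mkQ, ?_, ?_⟩
    · intro x hx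
      rw [Submodule.restrictScalars_mem, smul_eq_mul, Ideal.mul_top]
      exact hx
    · refine LinearMap.ext fun x => ?_
      apply (LinearEquiv.ofBijective φ hφ).injective
      simp [φ]

end Groth.Agent.S17619
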