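import Groth.Statements.S17620
-- import your own Groth.Agent.* helpers here

set_option autoImplicit false
universe u
open Hensel

namespace Groth.Agent.S17620

/-- Let R be a local ring and J an ideal of R contained in the maximal ideal, let H be a Henselization
of the pair (R, J) which is a local ring with local structure map R → H, and let S be a strict
Henselization of the local ring H. Then S, with its composite R-algebra structure, is a strict
Henselization of the local ring R. (This is the identification of the strict Henselization of the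
local ring of a scheme at a point with that of the local ring of its Henselization along a closed
subscheme through the point.) -/
theorem result
    (R : Type u) [CommRing R] [IsLocalRing R] (J : Ideal R) (hJ : J ≤ IsLocalRing.maximalIdeal R)
    (H : Type u) [CommRing H] [IsLocalRing H] [Algebra R H] [IsLocalHom (algebraMap R H)]
    (hH : Hens2.IsPairHenselization R J H)
    (S : Type u) [CommRing S] [IsLocalRing S] [Algebra H S] [IsLocalHom (algebraMap H S)]
    [Hensel.IsStrictHenselization H S]
    [Algebra R S] [IsScalarTower R H S] [IsLocalHom (algebraMap R S)] :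
    Hensel.IsStrictHenselization R S := by
  let kR := IsLocalRing.ResidueField R
  let kH := IsLocalRing.ResidueField H
  have hJ0 : J.map (IsLocalRing.residue R) ≤ IsLocalRing.maximalIdeal kR := by
    rw [Ideal.map_le_iff_le_comap]
    intro x hx
    rw [Ideal.mem_comap, (IsLocalRing.residue_eq_zero_iff x).2 (hJ hx)]
    exact zero_mem _
  obtain ⟨g₀, hg₀, -⟩ := hH.2 kR (IsLocalRing.maximalIdeal kR) (IsLocalRing.residue R) inferInstance hJ0
  have hg₀s : Function.Surjective g₀ := fun y => by
    obtain ⟨x, rfl⟩ := IsLocalRing.residue_surjective y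
    exact ⟨algebraMap R H x, RingHom.congr_fun hg₀ x⟩
  have hker₀ : RingHom.ker g₀ = IsLocalRing.maximalIdeal H := IsLocalRing.ker_eq_maximalIdeal g₀ hg₀s
  set mRH : kR →+* kH := IsLocalRing.ResidueField.map (algebraMap R H) with hmRH
  have hsurj : Function.Surjective mRH := by
    intro y
    obtain ⟨y, rfl⟩ := IsLocalRing.residue_surjective y
    obtain ⟨x, hx⟩ := IsLocalRing.residue_surjective (g₀ y)
    refine ⟨IsLocalRing.residue R x, ?_⟩
    rw [hmRH, IsLocalRing.ResidueField.map_residue]
    refine (Ideal.Quotient.eq).2 ?_
    rw [← hker₀, RingHom.mem_ker, map_sub, sub_eq_zero]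
    exact (RingHom.congr_fun hg₀ x).trans hx
  have hcomp : IsLocalRing.ResidueField.map (algebraMap R S) =
      (IsLocalRing.ResidueField.map (algebraMap H S)).comp mRH := by
    refine Ideal.Quotient.ringHom_ext (RingHom.ext fun x => ?_)
    show IsLocalRing.ResidueField.map _ (IsLocalRing.residue R x) =
      IsLocalRing.ResidueField.map _ (mRH (IsLocalRing.residue R x))
    rw [hmRH, IsLocalRing.ResidueField.map_residue, IsLocalRing.ResidueField.map_residue,
      IsLocalRing.ResidueField.map_residue, ← IsScalarTower.algebraMap_apply]
  refine ⟨Hensel.IsStrictHenselization.henselian (R := H) (S := S), ?_, fun T _ _ f _ τ hτ => ?_⟩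
  · have hSC : IsSepClosure kH (IsLocalRing.ResidueField S) :=
      Hensel.IsStrictHenselization.isSepClosure (R := H) (S := S)
    have := hSC.separable
    refine ⟨hSC.sep_closed, ⟨fun y => ?_⟩⟩
    have hy := Algebra.IsSeparable.isSeparable kH y
    let e := RingEquiv.ofBijective mRH ⟨mRH.injective, hsurj⟩
    refine hy.of_equiv_equiv e.symm (RingEquiv.refl _) (RingHom.ext fun z => ?_)
    show algebraMap kR (IsLocalRing.ResidueField S) (e.symm z) = algebraMap kH _ z
    have : mRH (e.symm z) = z := e.apply_symm_apply z
    conv_rhs => rw [← this]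
    exact RingHom.congr_fun hcomp _
  · have hJT : J.map f ≤ IsLocalRing.maximalIdeal T := by
      rw [Ideal.map_le_iff_le_comap]
      exact fun x hx => map_nonunit f x (hJ hx)
    obtain ⟨g, hg, hgu⟩ := hH.2 T (IsLocalRing.maximalIdeal T) f inferInstance hJT
    let kT := IsLocalRing.ResidueField T
    have hgloc : (IsLocalRing.residue T).comp g = (IsLocalRing.ResidueField.map f).comp g₀ := by
      have h0 : J.map ((IsLocalRing.ResidueField.map f).comp (IsLocalRing.residue R)) ≤
          IsLocalRing.maximalIdeal kT := by
        rw [← Ideal.map_map, Ideal.map_le_iff_le_comap]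
        refine hJ0.trans ?_
        intro x hx
        exact map_nonunit _ x hx
      obtain ⟨w, -, hw⟩ := hH.2 kT (IsLocalRing.maximalIdeal kT)
        ((IsLocalRing.ResidueField.map f).comp (IsLocalRing.residue R)) inferInstance h0
      rw [hw ((IsLocalRing.residue T).comp g) (RingHom.ext fun x => ?_),
        hw ((IsLocalRing.ResidueField.map f).comp g₀) (by show RingHom.comp (RingHom.comp _ _) _ = _; rw [RingHom.comp_assoc, hg₀])]
      simp only [RingHom.comp_apply, IsLocalRing.ResidueField.map_residue]
      rw [← RingHom.comp_apply g, hg]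
    have : IsLocalHom g := ⟨fun x hx => by
      by_contra hn
      have h1 : g₀ x = 0 := by
        rw [← RingHom.mem_ker, hker₀]; exact hn
      have h2 := RingHom.congr_fun hgloc x
      simp only [RingHom.comp_apply, h1, map_zero] at h2
      exact (IsLocalRing.residue_eq_zero_iff _).1 h2 hx⟩
    have hτ' : τ.comp (IsLocalRing.ResidueField.map (algebraMap H S)) =
        IsLocalRing.ResidueField.map g := by
      refine RingHom.ext fun z => ?_
      obtain ⟨z, rfl⟩ := hsurj z
      obtain ⟨x, rfl⟩ := IsLocalRing.residue_surjective z
      have := RingHom.congr_fun hτ (IsLocalRing.residue R x)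
      rw [hcomp] at this
      refine this.trans ?_
      simp only [hmRH, IsLocalRing.ResidueField.map_residue]
      rw [IsLocalRing.ResidueField.map_residue (algebraMap R H), IsLocalRing.ResidueField.map_residue g,
        ← RingHom.congr_fun hg x]
      rfl
    obtain ⟨s, ⟨hs1, hs2⟩, hsu⟩ :=
      Hensel.IsStrictHenselization.universal (R := H) (S := S) T g τ hτ'
    refine ⟨s, ⟨?_, hs2⟩, fun s' ⟨h1, h2⟩ => hsu s' ⟨hgu _ ?_, h2⟩⟩
    · rw [IsScalarTower.algebraMap_eq R H S, ← RingHom.comp_assoc, hs1, hg]
    · show RingHom.comp (RingHom.comp _ _) _ = _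
      rw [RingHom.comp_assoc, ← IsScalarTower.algebraMap_eq, h1]

end Groth.Agent.S17620
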