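import Groth.Statements.S17623
import Groth.Agent.Variety2.Growth.Acyc
import Groth.Agent.Variety2.Growth.Homog

set_option autoImplicit false
universe u
open CategoryTheory CategoryTheory.Limits AlgebraicGeometry
open Variety

namespace Groth.Agent.S17623

/-- Let X and Y be integral schemes, proper over an algebraically closed field k of characteristic zero
and each admitting an ample invertible module (stated in the source over the complex numbers), with
X of dimension n, and let f : Y → X be a k-morphism which is dominant and generically finite of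
degree d ≥ 1: f maps the generic point of Y to the generic point of X and the residue-field
extension there has finite degree d (so f is proper and surjective and Y has dimension n). Then for
every invertible O_X-module L and every i ≥ 0, ĥ^i(Y, f^*L) = d · ĥ^i(X, L), where ĥ^i(−, L) =
limsup_m dim_k H^i(−, L^{⊗m}) · n!/m^n. -/
theorem result (k : Type u) [Field k] [IsAlgClosed k] [CharZero k]
    (X Y : Scheme.{u}) [X.Over (Spec (CommRingCat.of k))] [Y.Over (Spec (CommRingCat.of k))]
    [AlgebraicGeometry.IsIntegral X] [AlgebraicGeometry.IsIntegral Y]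
    [IsProper (X ↘ Spec (CommRingCat.of k))] [IsProper (Y ↘ Spec (CommRingCat.of k))]
    (hXproj : ∃ A : X.Modules, CohB1.IsAmple A) (hYproj : ∃ B : Y.Modules, CohB1.IsAmple B)
    (n : ℕ) (hn : topologicalKrullDim X = n)
    (f : Y ⟶ X) (hf : f ≫ (X ↘ Spec (CommRingCat.of k)) = Y ↘ Spec (CommRingCat.of k))
    (hdom : f.base (genericPoint Y) = genericPoint X) (d : ℕ) (hd : f.residueDegree (genericPoint Y) = d)
    (hd0 : 1 ≤ d) (L : X.Modules) (hL : PicF.IsInvertible L) (i : ℕ) :
    W4c5asymptcohfn.hhat k Y n i ((Scheme.Modules.pullback f).obj L) =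
      (d : ℝ) * W4c5asymptcohfn.hhat k X n i L := by
  open Groth.Variety2.Growth Groth.Inter Groth.PicAux Groth.HilbStab Groth in
  exact by
    obtain ⟨A, hA⟩ := hXproj
    obtain ⟨B, hB⟩ := hYproj
    have hN : IsNoetherian X := Groth.Inter.isNoetherian k
    have : IsProper f := by
      have : IsProper (f ≫ (X ↘ Spec (CommRingCat.of k))) := hf ▸ inferInstance
      exact IsProper.of_comp f (X ↘ Spec (CommRingCat.of k))
    have hu : ∀ y : Y, f y = f (genericPoint Y) → y = genericPoint Y :=
      eq_genericPoint_of_apply f hf hn hdom (hd ▸ hd0)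
    have hnY : topologicalKrullDim Y = n := by
      have h1 := Groth.WeilCoh.height_eq_of_residueDegree_ne_zero f (X ↘ Spec (CommRingCat.of k))
        (Y ↘ Spec (CommRingCat.of k)) hf (genericPoint Y) (by omega)
      rw [hdom] at h1
      have hX := (Groth.Variety2.Dim.dim_eq_height_genericPoint (X := X)).symm.trans hn
      obtain ⟨m, hm⟩ := ENat.ne_top_iff_exists.1
        (Groth.Variety2.Dim.height_ne_top (Y ↘ Spec (CommRingCat.of k)) (genericPoint Y))
      rw [WithBot.coe_inj.1 hX, ← hm, ENat.toNat_natCast, ENat.toNat_natCast] at h1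
      rw [Groth.Variety2.Dim.dim_eq_height_genericPoint, ← hm, h1]
      rfl
    have hO := Groth.EulerDeg.isInvertible_structureModule Y
    have hOc := isCoh_of_isInvertible hO
    have := hOc.1
    obtain ⟨j₀, hj₀⟩ := exists_pushAcyclic f hB hOc
    obtain ⟨p₁, hp₁⟩ := Groth.Chow.exists_isGloballyGenerated_twist hB (Coh.structureModule Y) hOc.2
    let G := CohB1.tensorMod (CohB1.tensorPow B (j₀ + p₁)) (Coh.structureModule Y)
    have hG : PicF.IsInvertible G := isInvertible_tensorMod (isInvertible_tensorPow hB.1 _) hO
    have hac := hj₀ (j₀ + p₁) (Nat.le_add_right _ _)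
    let C := CohB1.tensorMod (Coh.structureModule Y) (CohB1.tensorPow B (j₀ + p₁))
    have hC : PicF.IsInvertible C := isInvertible_tensorMod hO (isInvertible_tensorPow hB.1 _)
    obtain ⟨c, hc⟩ := Groth.VarietyBC.GGen.exists_mem_gloc hC (hp₁ _ (Nat.le_add_left _ _)) (genericPoint Y)
    let e : CohB1.tensorMod (Coh.structureModule Y) C ≅ G :=
      (tensor_one C).some ≪≫ (tensor_comm _ _).some
    let φ : Coh.structureModule Y ⟶ G := mulSec c (Coh.structureModule Y) ≫ e.hom
    have hφ : Function.Bijective ((Groth.QCohMod.stalk (genericPoint Y)).map φ) := by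
      rw [Functor.map_comp, ConcreteCategory.coe_comp]
      exact (ConcreteCategory.bijective_of_isIso ((Groth.QCohMod.stalk (genericPoint Y)).map e.hom)).comp
        (mulSec_stalk_bijective c _ hc)
    have hb := bijective_stalk_push_map f f.isClosedMap (genericPoint Y) hu φ hφ
    rw [hdom] at hb
    have hr : Module.finrank (X.presheaf.stalk (genericPoint X))
        (((Scheme.Modules.pushforward f).obj G).presheaf.stalk (genericPoint X)) = d := by
      rw [← (LinearEquiv.ofBijective
        (RefHull.stalkMapₗ ((Scheme.Modules.pushforward f).map φ) (genericPoint X)) hb).finrank_eq]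
      exact (Groth.Curves1.RR.finrank_push_stalk f f.isClosedMap hu hdom).trans hd
    have hP := isCoh_push_proper f (isCoh_of_isInvertible hG)
    have hL' := Groth.PicAux.isInvertible_pullback f hL
    rw [← hhatF_structureModule, ← hhatF_eq_of_close hB hL' hnY hOc (close_invertible hB hL' hnY hG) i,
      ← hhatF_eq_rank_mul hA hL hn hP d hr i]
    unfold W4c5asymptcohfn.hhatF
    refine congrArg (fun u => Filter.limsup u Filter.atTop) (funext fun m => ?_)
    rw [cohSeq_eq, cohSeq_eq, hT_push_acyclic f hf hac hL i m]

end Groth.Agent.S17623
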