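import Groth.Statements.S17624
import Groth.Agent.Variety2.Growth.Acyc
import Groth.Agent.Variety2.Growth.Homog

set_option autoImplicit false
universe u
open CategoryTheory CategoryTheory.Limits AlgebraicGeometry
open Variety

namespace Groth.Agent.S17624

/-- Let X and Y be integral schemes, proper over an algebraically closed field k of characteristic zero
and each admitting an ample invertible module (stated in the source over the complex numbers), of
dimensions n and e with e > n, and let f : Y → X be a dominant k-morphism (so proper and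
surjective). Then for every invertible O_X-module L and every i ≥ 0, ĥ^i(Y, f^*L) = 0, where ĥ^i(Y,
M) = limsup_m dim_k H^i(Y, M^{⊗m}) · e!/m^e is normalised by the dimension e of Y. -/
theorem result (k : Type u) [Field k] [IsAlgClosed k] [CharZero k]
    (X Y : Scheme.{u}) [X.Over (Spec (CommRingCat.of k))] [Y.Over (Spec (CommRingCat.of k))]
    [AlgebraicGeometry.IsIntegral X] [AlgebraicGeometry.IsIntegral Y]
    [IsProper (X ↘ Spec (CommRingCat.of k))] [IsProper (Y ↘ Spec (CommRingCat.of k))]
    (hXproj : ∃ A : X.Modules, CohB1.IsAmple A) (hYproj : ∃ B : Y.Modules, CohB1.IsAmple B)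
    (n e : ℕ) (hn : topologicalKrullDim X = n) (he : topologicalKrullDim Y = e) (hne : n < e)
    (f : Y ⟶ X) (hf : f ≫ (X ↘ Spec (CommRingCat.of k)) = Y ↘ Spec (CommRingCat.of k))
    (hdom : f.base (genericPoint Y) = genericPoint X) (L : X.Modules) (hL : PicF.IsInvertible L) (i : ℕ) :
    W4c5asymptcohfn.hhat k Y e i ((Scheme.Modules.pullback f).obj L) = 0 := by
  open Groth.Variety2.Growth Groth.Inter Groth.PicAux Groth.HilbStab Groth Filter in
  exact by
    obtain ⟨A, hA⟩ := hXproj
    obtain ⟨B, hB⟩ := hYproj
    have hN : IsNoetherian X := Groth.Inter.isNoetherian k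
    have : IsProper f := by
      have : IsProper (f ≫ (X ↘ Spec (CommRingCat.of k))) := hf ▸ inferInstance
      exact IsProper.of_comp f (X ↘ Spec (CommRingCat.of k))
    have hO := Groth.EulerDeg.isInvertible_structureModule Y
    have hOc := isCoh_of_isInvertible hO
    obtain ⟨j₀, hj₀⟩ := exists_pushAcyclic f hB hOc
    let G := CohB1.tensorMod (CohB1.tensorPow B j₀) (Coh.structureModule Y)
    have hG : PicF.IsInvertible G := isInvertible_tensorMod (isInvertible_tensorPow hB.1 _) hO
    have hP := isCoh_push_proper f (isCoh_of_isInvertible hG)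
    have hL' := Groth.PicAux.isInvertible_pullback f hL
    rw [← hhatF_structureModule, ← hhatF_eq_of_close hB hL' he hOc (close_invertible hB hL' he hG) i]
    obtain ⟨C, hC⟩ := bndQ_of_dim (k := k) hL hA n hP
      ((topologicalKrullDim_subspace_le X _).trans hn.le) i
    obtain ⟨e', rfl⟩ : ∃ e', e = e' + 1 := ⟨e - 1, by omega⟩
    unfold W4c5asymptcohfn.hhatF
    refine Tendsto.limsup_eq (squeeze_zero' (Eventually.of_forall (cohSeq_nonneg (e' + 1) i G _)) ?_
      (wgt_div_tendsto (e' + 1) ((C : ℝ) * ((e' + 1).factorial : ℝ))))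
    filter_upwards [eventually_gt_atTop 0] with m hm
    rw [cohSeq_eq, ← hT_push_acyclic f hf (hj₀ j₀ le_rfl) hL i m]
    have h1 : hT k L ((Scheme.Modules.pushforward f).obj G) i m ≤ C * wgt (e' + 1) m :=
      (hC m).trans (Nat.mul_le_mul_left _ (Nat.pow_le_pow_right (by omega) (by omega)))
    have h2 : (hT k L ((Scheme.Modules.pushforward f).obj G) i m : ℝ) ≤ (C : ℝ) * wgt (e' + 1) m := by
      exact_mod_cast h1
    calc (hT k L ((Scheme.Modules.pushforward f).obj G) i m : ℝ) * ((e' + 1).factorial : ℝ) / (m : ℝ) ^ (e' + 1)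
        ≤ (C : ℝ) * wgt (e' + 1) m * ((e' + 1).factorial : ℝ) / (m : ℝ) ^ (e' + 1) := by gcongr
      _ = _ := by ring

end Groth.Agent.S17624
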