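import Groth.Statements.S17626
import Groth.Agent.Variety2.Growth.Homog
import Groth.Agent.Misc13.Volume
import Groth.Agent.Lichtenbaum.SmallSupp
import Groth.Agent.Duality.SupportVanish

set_option autoImplicit false
universe u
open CategoryTheory CategoryTheory.Limits AlgebraicGeometry
open Variety

namespace Groth.Agent.S17626

/-- Let X be an integral scheme, proper over an algebraically closed field k of characteristic zero and
admitting an ample invertible module, of dimension n ≥ 1 (stated in the source over the complex
numbers), and L an invertible O_X-module which is big, in the sense that its volume ĥ^0(X, L) =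
limsup_m dim_k H^0(X, L^{⊗m}) · n!/m^n is positive. Then ĥ^n(X, L) = 0. (The published statement
allows n = 0, where it fails: X is then a point, every L is big and ĥ^0(X, L) = 1; the printed
argument uses that L and its inverse cannot both be big, which needs n ≥ 1.) -/
theorem result (k : Type u) [Field k] [IsAlgClosed k] [CharZero k] (X : Scheme.{u})
    [X.Over (Spec (CommRingCat.of k))] [AlgebraicGeometry.IsIntegral X]
    [IsProper (X ↘ Spec (CommRingCat.of k))] (hproj : ∃ A : X.Modules, CohB1.IsAmple A)
    (n : ℕ) (hn : topologicalKrullDim X = n) (hn1 : 1 ≤ n)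
    (L : X.Modules) (hL : PicF.IsInvertible L) (hbig : 0 < W4c5asymptcohfn.hhat k X n 0 L) :
    W4c5asymptcohfn.hhat k X n n L = 0 := by
  open Groth Groth.Inter Groth.PicAux Groth.HilbStab Groth.Variety2.Growth Filter in
  exact by
    obtain ⟨H, hH⟩ := hproj
    have hN : IsNoetherian X := Groth.Inter.isNoetherian k
    obtain ⟨e, rfl⟩ : ∃ e, n = e + 1 := ⟨n - 1, by omega⟩
    have hb : Groth.Inter.HasAmpleSub L := by
      by_contra hb
      obtain ⟨C, hC⟩ := Groth.Misc13.Volume.h0_le_of_not_hasAmpleSub k hn hH hL hb
      refine hbig.ne' ?_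
      unfold W4c5asymptcohfn.hhat
      refine Tendsto.limsup_eq (squeeze_zero' (Eventually.of_forall fun m => by positivity) ?_
        (wgt_div_tendsto (e + 1) ((C : ℝ) * ((e + 1).factorial : ℝ))))
      filter_upwards [eventually_ge_atTop 1] with m hm
      have h2 : (Module.finrank k (Coh.HH X (CohB1.tensorPow L m) 0) : ℝ) ≤ (C : ℝ) * wgt (e + 1) m := by
        exact_mod_cast hC m hm
      calc _ ≤ (C : ℝ) * wgt (e + 1) m * ((e + 1).factorial : ℝ) / (m : ℝ) ^ (e + 1) := by gcongr
        _ = _ := by ring
    obtain ⟨ν, A, φ, hν, hA, hφ⟩ := hb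
    have hLν := isInvertible_tensorPow hL ν
    choose d hd using fun t : ℕ => PnCoh.exists_subsingleton_of_isAmple (X ↘ Spec (CommRingCat.of k)) hA
      (CohB1.tensorPow L t) (isCoh_of_isInvertible (isInvertible_tensorPow hL t))
    let D := (Finset.range ν).sup d
    have key : ∀ m, ν * (D + 1) ≤ m → Subsingleton (Coh.HH X (CohB1.tensorPow L m) (e + 1)) := fun m hm => by
      have ht := Nat.mod_lt m hν
      have hj : d (m % ν) ≤ m / ν := (Finset.le_sup (Finset.mem_range.2 ht)).trans
        ((Nat.le_succ D).trans ((Nat.le_div_iff_mul_le hν).2 (by rwa [mul_comm])))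
      obtain ⟨ψ, hψ⟩ := exists_mono_pow hA.1 hLν φ (m / ν)
      have hAj := isInvertible_tensorPow hA.1 (m / ν)
      have hLj := isInvertible_tensorPow hLν (m / ν)
      have hAc := isCoh_of_isInvertible hAj
      have hLc := isCoh_of_isInvertible hLj
      have := hAc.1
      have := hLc.1
      have hQ : Coh.IsCoh (cokernel ψ) := Groth.QCohMod.isCoh_cokernel ψ hLc
      have hξ : genericPoint X ∉ CohB1.support (cokernel ψ) := fun hx => by
        refine Groth.KTheory.Devissage.subsingleton_cokernel_stalk ψ (genericPoint X) ?_ hx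
        letI : Field (X.presheaf.stalk (genericPoint X)) := inferInstanceAs (Field X.functionField)
        obtain ⟨a⟩ := exists_stalk_equiv hAj (genericPoint X)
        obtain ⟨b⟩ := exists_stalk_equiv hLj (genericPoint X)
        let g := RefHull.stalkMapₗ ψ (genericPoint X)
        let g' := b.symm.toLinearMap ∘ₗ g ∘ₗ a.toLinearMap
        have hg : Function.Injective g :=
          (AddCommGrpCat.mono_iff_injective ((Groth.QCohMod.stalk (genericPoint X)).map ψ)).1 inferInstance
        have hg' : Function.Injective g' := b.symm.injective.comp (hg.comp a.injective)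
        intro y
        obtain ⟨x, hx⟩ := LinearMap.surjective_of_injective hg' (b.symm y)
        exact ⟨a x, b.symm.injective hx⟩
      have hsupp := dim_lt_of_notMem hn (CohTwo.isClosed_support _ hQ) hξ
      have h1 := hd (m % ν) (m / ν) hj (e + 1) e.succ_pos
      let T := CohB1.tensorPow L (m % ν)
      have hT := isInvertible_tensorPow hL (m % ν)
      have h1' : Subsingleton (Coh.HH X (CohB1.tensorMod (CohB1.tensorPow A (m / ν)) T) (e + 1)) :=
        @Equiv.subsingleton _ _ (EulerDeg.hEquiv k (tensor_comm _ _).some (e + 1)).toEquiv h1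
      have h3 : Subsingleton (Coh.HH X (CohB1.tensorMod (cokernel ψ) T) (e + 1)) :=
        Groth.Duality.SupportVanish.subsingleton_HH_of_support _ (CohTwo.isClosed_support _ hQ)
          (topologicalKrullDim_le_of_lt hsupp) (support_tensorMod_subset hT _) e.lt_succ_self
      have h2 := Groth.Lichtenbaum.subsingleton_HH_ext
        (shortExact_tensorRightMod hT (Groth.CohTwo.cokerSeq_shortExact ψ)) (e + 1) h1' h3
      let E : CohB1.tensorPow L m ≅ CohB1.tensorMod (CohB1.tensorPow (CohB1.tensorPow L ν) (m / ν)) T :=
        eqToIso (congrArg (CohB1.tensorPow L) (Nat.div_add_mod m ν).symm) ≪≫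
          (PicAux.tensorPow_add L (ν * (m / ν)) (m % ν)).some ≪≫
          (tensor_congr ⟨(Inter.tensorPow_mul' L ν (m / ν)).some.symm⟩ ⟨Iso.refl _⟩).some
      exact @Equiv.subsingleton _ _ (EulerDeg.hEquiv k E (e + 1)).toEquiv h2
    unfold W4c5asymptcohfn.hhat
    refine Tendsto.limsup_eq (tendsto_const_nhds.congr' ?_)
    filter_upwards [eventually_ge_atTop (ν * (D + 1))] with m hm
    have := key m hm
    rw [Module.finrank_zero_of_subsingleton]
    simp

end Groth.Agent.S17626
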