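import Groth.Statements.S1763
import Groth.Agent.LocFinite.AssFiltration

set_option autoImplicit false
universe u
open LocCoh

namespace Groth.Agent.S1763

/-- Fix a Noetherian ring A, an ideal I of A and a finitely generated A-module M. The local cohomology
module H¹_I(M) is finitely generated over A if and only if, for each associated prime p of M with I
⊄ p, the module H¹_I(A/p) is finitely generated over A. (Affine form, through finiteness of H¹_I, of
a statement about coherence of direct images along the inclusion of the open complement of V(I).) -/
theorem result (A : Type u) [CommRing A] [IsNoetherianRing A] (I : Ideal A) (M : Type u) [AddCommGroup M] [Module A M] [Module.Finite A M] : Module.Finite A (LocCoh.H I 1 M) ↔ ∀ p : Ideal A, p ∈ associatedPrimes A M → ¬ I ≤ p → Module.Finite A (LocCoh.H I 1 (A ⧸ p)) := by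
  constructor
  · intro hM p hp hpI
    obtain ⟨hpp, x, hx⟩ := isAssociatedPrime_iff.1 hp
    let f : (A ⧸ p) →ₗ[A] M := Submodule.liftQ p (LinearMap.toSpanSingleton A M x) fun a ha => by
      rw [hx, Submodule.mem_colon_singleton, Submodule.mem_bot] at ha
      exact ha
    have hf : Function.Injective f := by
      rw [← LinearMap.ker_eq_bot]
      refine Submodule.ker_liftQ_eq_bot _ _ _ fun a ha => ?_
      rw [hx, Submodule.mem_colon_singleton, Submodule.mem_bot]
      exact ha
    have hS := GrothGoren.seqCx_shortExact f (LinearMap.range f).mkQ (LinearMap.exact_map_mkQ_range f) hf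
      (Submodule.mkQ_surjective _)
    haveI := Groth.LocFinite.finite_H_zero_of_finite I (M ⧸ LinearMap.range f)
    exact Groth.LocFinite.finite_of_exact (Groth.LocCohBase.exact₁ (I := I) hS 0)
  · intro h
    let e := Submodule.quotEquivOfEqBot (⊥ : Submodule A M) rfl
    haveI := Groth.LocFinite.finite_H_one_of_associatedPrimes I M ⊥ fun p hp hpI =>
      h p (by rwa [LinearEquiv.AssociatedPrimes.eq e] at hp) hpI
    exact Module.Finite.equiv ((localCohomology I 1).mapIso e.toModuleIso).toLinearEquiv

end Groth.Agent.S1763
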