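import Groth.Statements.S17631
import Groth.Agent.Variety2.Growth.FibreGrowth
import Groth.Agent.LimitMod.Snapper
import Groth.Agent.FibreDim.BaseChange
import Groth.Agent.FlatStrata.ProjSpace
import Groth.Agent.Ega2Proj.RelAmple
import Groth.Agent.CohTwo.FieldExtension

set_option autoImplicit false
universe u
open CategoryTheory CategoryTheory.Limits AlgebraicGeometry
open Coherent

open TopologicalSpace
namespace Groth.S17631Aux

open Groth.CohBase Groth.PicAux Groth.Variety2.Growth

variable {T XX : Scheme.{u}} [IsNoetherian T] (r : ℕ) (ι : XX ⟶ CohB1.ProjSpaceOver r T)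
  [IsClosedImmersion ι]

/-- Over one affine open of the base. -/
theorem exists_bound_over_affine (F : XX.Modules) (hF : Coh.IsCoh F) (L : XX.Modules)
    (hL : PicF.IsInvertible L) (V : T.affineOpens) :
    ∃ C : ℕ, ∀ t ∈ V.1, ∀ e : ℕ,
      topologicalKrullDim ↥((ι ≫ CohB1.ProjSpaceOver.toBase r T).fiber t) = e → ∀ m : ℕ, 1 ≤ m → ∀ i : ℕ,
        CohIII.fiberRank (ι ≫ CohB1.ProjSpaceOver.toBase r T)
          (CohB1.tensorMod F (CohB1.tensorPow L m)) i t ≤ C * m ^ e := by
  obtain ⟨V, hV⟩ := V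
  let π := CohB1.ProjSpaceOver.toBase r T
  let f := ι ≫ π
  let A := Γ(T, V)
  let U : XX.Opens := f ⁻¹ᵁ V
  let : (U : Scheme.{u}).Over (Spec (CommRingCat.of A)) := ⟨preimageToSpec f⟩
  have : IsNoetherianRing A := IsLocallyNoetherian.component_noetherian ⟨V, hV⟩
  have : IsProper ((U : Scheme.{u}) ↘ Spec (CommRingCat.of A)) :=
    MorphismProperty.of_isPullback (isPullback_preimageToSpec f hV) (inferInstance : IsProper f)
  have hR := FlatStrata.isRelAmple_twistOne r T
  have hO : CohB1.IsAmple ((Twist.twistOver r T 1).restrict (π ⁻¹ᵁ V).ι) := hR.2 ⟨V, hV⟩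
  let jU : (U : Scheme.{u}) ⟶ ((π ⁻¹ᵁ V : (CohB1.ProjSpaceOver r T).Opens) : Scheme.{u}) :=
    ι ∣_ (π ⁻¹ᵁ V)
  have : IsClosedImmersion jU := inferInstanceAs (IsClosedImmersion (ι ∣_ (π ⁻¹ᵁ V)))
  have hAm := Chow.isAmple_pullback_of_isAffineHom jU hO
  have hFU : Coh.IsCoh ((Scheme.Modules.pullback U.ι).obj F) := FlatStrata.isCoh_pullback U.ι hF
  have hLU := isInvertible_pullback U.ι hL
  choose C hC using fun d q : ℕ =>
    exists_affine_bound (A := A) (X := (U : Scheme.{u})) hAm hFU hLU d q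
  obtain ⟨n, hn⟩ := LimitMod.exists_dim_bound f hV
  refine ⟨∑ d ∈ Finset.range (n + 1), ∑ q ∈ Finset.range (n + 1), C d q * 2 ^ d,
    fun t ht e he m hm i => ?_⟩
  have hen : e ≤ n := by
    have h := hn t ht
    rw [he] at h
    exact_mod_cast h
  let M := CohB1.tensorMod F (CohB1.tensorPow L m)
  have hMc : Coh.IsCoh M := FlatStrata.isCoh_tw hF hL m
  let k := T.residueField t
  let : Algebra A k := (T.evaluation V t ht).hom.toAlgebra
  let Xt := f.fiber t
  let : Xt.Over (Spec (CommRingCat.of k)) := ⟨f.fiberToSpecResidueField t⟩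
  have : IsProper (Xt ↘ Spec (CommRingCat.of k)) :=
    MorphismProperty.pullback_snd _ _ (inferInstance : IsProper f)
  have : IsNoetherian Xt := Inter.isNoetherian k
  have : NoetherianSpace Xt.toTopCat := inferInstanceAs (NoetherianSpace Xt)
  change Module.finrank k (Coh.HH Xt (CohIII.fiberMod f M t) i) ≤ _
  rcases lt_or_ge e i with hei | hie
  · have : Subsingleton (Coh.HH Xt (CohIII.fiberMod f M t) i) :=
      Inter.Vanishing.subsingleton_H_of_dim_le (X := Xt.toTopCat) he.le _ i hei
    rw [Module.finrank_zero_of_subsingleton]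
    exact Nat.zero_le _
  let K := AlgebraicClosure k
  let W := Limits.pullback (Xt ↘ Spec (CommRingCat.of k))
    (Spec.map (CommRingCat.ofHom (algebraMap k K)))
  let : W.Over (Spec (CommRingCat.of K)) := ⟨pullback.snd _ _⟩
  let h : W ⟶ Xt := pullback.fst _ _
  have hh : IsBC (A := k) (A' := K) h := IsPullback.of_hasPullback _ _
  have hb : IsBC (A := A) (A' := k) (fibreToPreimage f t ht) :=
    isPullback_fibreToPreimage f hV t ht
  let g := h ≫ fibreToPreimage f t ht
  have hg : IsBC (A := A) (A' := K) g := FlatStrata.isBC_comp hb hh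
  have hdim : topologicalKrullDim ↥W ≤ (e : WithBot ℕ∞) := by
    have hq := (IsPullback.of_hasPullback (Xt ↘ Spec (CommRingCat.of k))
      (Spec.map (CommRingCat.ofHom (algebraMap k K))))
    have key : ∀ {k' : Type u} [Field k'] {Y : Scheme.{u}} (q : Y ⟶ Spec (CommRingCat.of k'))
        (y : Spec (CommRingCat.of k')), topologicalKrullDim ↥(q.fiber y) = topologicalKrullDim ↥Y := by
      intro k' _ Y q y
      have : Subsingleton ↥(Spec (CommRingCat.of k')) := inferInstanceAs (Subsingleton (PrimeSpectrum k'))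
      have he' : q ⁻¹' {y} = Set.univ := Set.eq_univ_of_forall fun _ => Subsingleton.elim _ _
      exact ((q.fiberHomeo y).trans ((Homeomorph.setCongr he').trans
        (Homeomorph.Set.univ _))).isHomeomorph.topologicalKrullDim_eq
    have hd := FibreDim.dim_fiber_baseChange _ _ (pullback.snd _ _) h hq (IsLocalRing.closedPoint K)
    rw [key, key] at hd
    exact (hd.trans he).le
  have h1 := hC e i ⟨K, W, g, hg, hdim⟩ m
  have hι' : g ≫ U.ι = h ≫ f.fiberι t := by
    rw [Category.assoc, fibreToPreimage_ι]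
  let θ : (Scheme.Modules.pullback g).obj (CohB1.tensorMod ((Scheme.Modules.pullback U.ι).obj F)
      (CohB1.tensorPow ((Scheme.Modules.pullback U.ι).obj L) m)) ≅
      (Scheme.Modules.pullback h).obj (CohIII.fiberMod f M t) :=
    (Scheme.Modules.pullback g).mapIso (FlatStrata.nonempty_pullback_tw U.ι F L m).some.symm ≪≫
      (Scheme.Modules.pullbackComp g U.ι).app M ≪≫
      eqToIso (congrArg (fun a => (Scheme.Modules.pullback a).obj M) hι') ≪≫
      ((Scheme.Modules.pullbackComp h (f.fiberι t)).app M).symm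
  have : Xt.IsSeparated := CohFin.isSeparated_of_proper (Xt ↘ Spec (CommRingCat.of k))
  have := hMc.1
  have := QCohMod.isQCoh_pullback_obj (f.fiberι t) M
  rw [← CohTwo.finrank_HH_fieldExt hh (CohIII.fiberMod f M t) i]
  refine (le_of_eq_of_le (h_congr K θ i).symm h1).trans ?_
  calc C e i * (m + 1) ^ e ≤ C e i * (2 ^ e * m ^ e) := by
        rw [← mul_pow]
        exact Nat.mul_le_mul_left _ (Nat.pow_le_pow_left (by omega) e)
    _ = C e i * 2 ^ e * m ^ e := (mul_assoc _ _ _).symm
    _ ≤ _ := Nat.mul_le_mul_right _ ((Finset.single_le_sum (f := fun q => C e q * 2 ^ e)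
        (fun _ _ => Nat.zero_le _) (Finset.mem_range.2 (by omega))).trans
        (Finset.single_le_sum (f := fun d => ∑ q ∈ Finset.range (n + 1), C d q * 2 ^ d)
          (fun _ _ => Nat.zero_le _) (Finset.mem_range.2 (by omega))))

end Groth.S17631Aux

namespace Groth.Agent.S17631

/-- Let T be a Noetherian scheme and f : 𝒳 → T a projective morphism, given here as a closed immersion 𝒳
→ P^r_T followed by the projection, let F be a coherent O_𝒳-module and L an invertible O_𝒳-module.
Then there is a constant C, depending only on f, F and L, such that for every point t of T, with 𝒳_t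
the fibre and e its dimension, every m ≥ 1 and every i ≥ 0, dim_{k(t)} H^i(𝒳_t, (F ⊗ L^{⊗m})|_{𝒳_t})
≤ C · m^e. -/
theorem result (T XX : Scheme.{u}) [IsNoetherian T]
    (f : XX ⟶ T) (r : ℕ) (ι : XX ⟶ CohB1.ProjSpaceOver r T) [IsClosedImmersion ι]
    (hι : ι ≫ CohB1.ProjSpaceOver.toBase r T = f)
    (F : XX.Modules) (hF : Coh.IsCoh F) (L : XX.Modules) (hL : PicF.IsInvertible L) :
    ∃ C : ℝ, ∀ (t : T) (e : ℕ), topologicalKrullDim ↥(f.fiber t) = e →
      ∀ (m : ℕ), 1 ≤ m → ∀ i : ℕ,
        (CohIII.fiberRank f (CohB1.tensorMod F (CohB1.tensorPow L m)) i t : ℝ) ≤ C * (m : ℝ) ^ e := by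
  open Groth.S17631Aux in
  exact by
    classical
    subst hι
    let π := CohB1.ProjSpaceOver.toBase r T
    choose C hC using fun V : T.affineOpens => exists_bound_over_affine r ι F hF L hL V
    obtain ⟨s, hs⟩ := isCompact_univ.elim_finite_subcover (fun V : T.affineOpens => (V.1 : Set T))
      (fun V => V.1.isOpen) (fun t _ => by
        obtain ⟨V, hV, ht, -⟩ := exists_isAffineOpen_mem_and_subset (x := t) (U := (⊤ : T.Opens)) trivial
        exact Set.mem_iUnion.2 ⟨⟨V, hV⟩, ht⟩)
    refine ⟨((∑ V ∈ s, C V : ℕ) : ℝ), fun t e he m hm i => ?_⟩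
    obtain ⟨V, hVs, htV⟩ := Set.mem_iUnion₂.1 (hs (Set.mem_univ t))
    have h := hC V t htV e he m hm i
    have h' := h.trans (Nat.mul_le_mul_right (m ^ e) (Finset.single_le_sum (f := C) (fun _ _ => Nat.zero_le _) hVs))
    exact_mod_cast h'

end Groth.Agent.S17631
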