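import Groth.Statements.S17635
import Mathlib

set_option autoImplicit false
open Finset
open Variety

namespace Groth.Agent.S17635

/-- Let r and n be natural numbers and f : ℚ^r → ℝ a nonnegative function which is homogeneous of degree
n for positive rational scalars, f(q · v) = q^n · f(v) for q > 0; give ℚ^r the maximum norm ‖v‖ =
max_j |v_j| of its standard basis. Suppose that for every standard basis vector e_i there is a
constant C_i with |f(v − b · e_i) − f(v)| ≤ C_i · Σ_{q=1}^{n} ‖v‖^{n−q} · b^q for all v ∈ ℚ^r and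
all integers b ≥ 1. Then there is a constant C > 0 such that |f(v) − f(w)| ≤ C · Σ_{q=1}^{n}
max(‖v‖, ‖w‖)^{n−q} · ‖v − w‖^q for all v, w ∈ ℚ^r. (The source allows any norm on an r-dimensional
rational vector space with a chosen basis and argues with the maximum norm of that basis, which is
the case stated here.) -/
theorem result (r n : ℕ) (f : (Fin r → ℚ) → ℝ)
    (hf0 : ∀ v, 0 ≤ f v)
    (hhom : ∀ (q : ℚ) (v : Fin r → ℚ), 0 < q → f (q • v) = (q : ℝ) ^ n * f v)
    (hdir : ∀ i : Fin r, ∃ Ci : ℝ, ∀ (v : Fin r → ℚ) (b : ℕ), 1 ≤ b →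
      |f (v - (b : ℚ) • Pi.single i 1) - f v| ≤
        Ci * (Finset.Icc 1 n).sum (fun q => ‖(fun j => ((v j : ℚ) : ℝ))‖ ^ (n - q) * (b : ℝ) ^ q)) :
    ∃ C : ℝ, 0 < C ∧ ∀ v w : Fin r → ℚ,
      |f v - f w| ≤ C * (Finset.Icc 1 n).sum (fun q =>
        (max ‖(fun j => ((v j : ℚ) : ℝ))‖ ‖(fun j => ((w j : ℚ) : ℝ))‖) ^ (n - q) *
          ‖(fun j => ((v j - w j : ℚ) : ℝ))‖ ^ q) := by
  choose Ci hCi using hdir
  let K : Fin r → ℝ := fun i => max (Ci i) 0
  refine ⟨1 + ∑ i, K i, by positivity, fun v w => ?_⟩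
  set S : (Fin r → ℚ) → (Fin r → ℚ) → ℝ := fun v w => (Finset.Icc 1 n).sum (fun q =>
    (max ‖(fun j => ((v j : ℚ) : ℝ))‖ ‖(fun j => ((w j : ℚ) : ℝ))‖) ^ (n - q) *
      ‖(fun j => ((v j - w j : ℚ) : ℝ))‖ ^ q) with hS
  have hint : ∀ v w : Fin r → ℚ, (∀ i, ∃ z : ℤ, v i - w i = z) → |f v - f w| ≤ (∑ i, K i) * S v w := by
    intro v w hvw
    have h : ∀ s : Finset (Fin r), |f (s.piecewise w v) - f v| ≤ (∑ i ∈ s, K i) * S v w := by
      intro s
      refine Finset.induction_on s (by simp) fun a s ha ih => ?_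
      rw [Finset.sum_insert ha, add_mul]
      refine (abs_sub_le _ (f (s.piecewise w v)) _).trans (add_le_add ?_ ih)
      obtain ⟨z, hz⟩ := hvw a
      have hua : s.piecewise w v a = v a := Finset.piecewise_eq_of_notMem _ _ _ ha
      have hins : (insert a s).piecewise w v = Function.update (s.piecewise w v) a (w a) :=
        Finset.piecewise_insert _ _ _ _
      have hnorm : ∀ t : Finset (Fin r), ‖(fun j => ((t.piecewise w v j : ℚ) : ℝ))‖ ≤
          max ‖(fun j => ((v j : ℚ) : ℝ))‖ ‖(fun j => ((w j : ℚ) : ℝ))‖ := by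
        intro t
        refine (pi_norm_le_iff_of_nonneg (le_max_of_le_left (norm_nonneg _))).2 fun j => ?_
        by_cases hj : j ∈ t
        · rw [Finset.piecewise_eq_of_mem _ _ _ hj]
          exact le_max_of_le_right (norm_le_pi_norm (fun j => ((w j : ℚ) : ℝ)) j)
        · rw [Finset.piecewise_eq_of_notMem _ _ _ hj]
          exact le_max_of_le_left (norm_le_pi_norm (fun j => ((v j : ℚ) : ℝ)) j)
      have main : ∀ (x : Fin r → ℚ) (b : ℕ), ‖(fun j => ((x j : ℚ) : ℝ))‖ ≤
          max ‖(fun j => ((v j : ℚ) : ℝ))‖ ‖(fun j => ((w j : ℚ) : ℝ))‖ → (b : ℝ) ≤ |((z : ℤ) : ℝ)| →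
          |f (x - (b : ℚ) • Pi.single a 1) - f x| ≤ K a * S v w := by
        intro x b hx hb
        rcases Nat.eq_zero_or_pos b with rfl | hb1
        · simp only [Nat.cast_zero, zero_smul, sub_zero, sub_self, abs_zero]
          positivity
        refine (hCi a x b hb1).trans ?_
        refine mul_le_mul (le_max_left _ _) ?_ (Finset.sum_nonneg fun q _ => by positivity) (le_max_right _ _)
        refine Finset.sum_le_sum fun q _ => ?_
        gcongr
        refine hb.trans (le_trans (le_of_eq ?_) (norm_le_pi_norm (fun j => ((v j - w j : ℚ) : ℝ)) a))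
        simp [hz]
      rcases le_total 0 z with hz0 | hz0
      · obtain ⟨b, rfl⟩ := Int.eq_ofNat_of_zero_le hz0
        have e : (insert a s).piecewise w v = s.piecewise w v - (b : ℚ) • Pi.single a 1 := by
          rw [hins]; ext j
          rcases eq_or_ne j a with rfl | hj
          · rw [Function.update_self]; simp [hua]; push_cast at hz; linarith
          · simp [Function.update_of_ne hj, hj]
        rw [e]
        exact main _ b (hnorm s) (by simp)
      · obtain ⟨b, hb⟩ := Int.exists_eq_neg_ofNat hz0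
        subst hb
        have e : s.piecewise w v = (insert a s).piecewise w v - (b : ℚ) • Pi.single a 1 := by
          rw [hins]; ext j
          rcases eq_or_ne j a with rfl | hj
          · simp [hua, Function.update_self]; push_cast at hz; linarith
          · simp [Function.update_of_ne hj, hj]
        rw [abs_sub_comm]
        nth_rewrite 1 [e]
        exact main _ b (hnorm (insert a s)) (by simp)
    have := h Finset.univ
    rw [Finset.piecewise_univ, abs_sub_comm] at this
    exact this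
  obtain ⟨D, hD, hDv⟩ : ∃ D : ℕ, 0 < D ∧ ∀ i, ∃ z : ℤ, (D : ℚ) * (v i - w i) = z := by
    refine ⟨∏ i, (v i - w i).den, Finset.prod_pos fun i _ => Rat.den_pos _, fun i => ?_⟩
    obtain ⟨c, hc⟩ := Finset.dvd_prod_of_mem (fun i => (v i - w i).den) (Finset.mem_univ i)
    refine ⟨c * (v i - w i).num, ?_⟩
    rw [hc]; push_cast
    have := Rat.mul_den_eq_num (v i - w i)
    linear_combination (c : ℚ) * this
  have hD' : (0 : ℚ) < D := by exact_mod_cast hD
  have h := hint ((D : ℚ) • v) ((D : ℚ) • w) fun i => by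
    obtain ⟨z, hz⟩ := hDv i
    exact ⟨z, by simpa [mul_sub] using hz⟩
  have hscale : S ((D : ℚ) • v) ((D : ℚ) • w) = (D : ℝ) ^ n * S v w := by
    simp only [hS, Finset.mul_sum]
    refine Finset.sum_congr rfl fun q hq => ?_
    have hn : ∀ g : Fin r → ℝ, ‖(fun j => (D : ℝ) * g j)‖ = (D : ℝ) * ‖g‖ := fun g => by
      rw [show (fun j => (D : ℝ) * g j) = (D : ℝ) • g from rfl, norm_smul, Real.norm_natCast]
    have : n - q + q = n := Nat.sub_add_cancel (Finset.mem_Icc.1 hq).2
    simp only [Pi.smul_apply, smul_eq_mul, Rat.cast_mul, Rat.cast_natCast, ← mul_sub, hn,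
      ← mul_max_of_nonneg _ _ (Nat.cast_nonneg D), mul_pow, Rat.cast_sub]
    have e : (D : ℝ) ^ n = (D : ℝ) ^ (n - q) * (D : ℝ) ^ q := by rw [← pow_add, this]
    rw [e]; ring
  rw [hhom _ _ hD', hhom _ _ hD', Rat.cast_natCast, ← mul_sub, abs_mul, abs_of_nonneg (by positivity : (0:ℝ) ≤ (D:ℝ)^n),
    hscale, mul_left_comm] at h
  have h' := le_of_mul_le_mul_left h (by positivity)
  have hS0 : 0 ≤ S v w := by positivity
  calc |f v - f w| ≤ (∑ i, K i) * S v w := h'
    _ ≤ (1 + ∑ i, K i) * S v w := mul_le_mul_of_nonneg_right (by linarith) hS0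

end Groth.Agent.S17635
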