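import Groth.Statements.S17637
import Groth.Agent.Misc13.NumTriv.VeryAmple

set_option autoImplicit false
universe u
open CategoryTheory CategoryTheory.Limits AlgebraicGeometry
open Variety

namespace Groth.Agent.S17637

/-- Let X be an integral scheme, proper over an algebraically closed field k of characteristic zero and
admitting an ample invertible module (the published statement is over the complex numbers). Then
there is a very ample invertible O_X-module A — A ≅ i^*O(1) for an immersion i : X → P^N_k over k —
such that A ⊗ N is again very ample for every invertible O_X-module N which is numerically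
equivalent to zero. (The published statement also provides one flat family over a quasi-projective
base whose fibres include every divisor of every |A ⊗ N|; that clause is not stated here.) -/
theorem result (k : Type u) [Field k] [IsAlgClosed k] [CharZero k] (X : Scheme.{u})
    [X.Over (Spec (CommRingCat.of k))] [AlgebraicGeometry.IsIntegral X]
    [IsProper (X ↘ Spec (CommRingCat.of k))] (hproj : ∃ A : X.Modules, CohB1.IsAmple A) :
    ∃ A : X.Modules, PicF.IsInvertible A ∧
      RelAmple.IsRelVeryAmplePn (X ↘ Spec (CommRingCat.of k)) A ∧
      ∀ N : X.Modules, PicF.IsInvertible N → Pic13.IsNumEquivZero k X N →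
        RelAmple.IsRelVeryAmplePn (X ↘ Spec (CommRingCat.of k)) (CohB1.tensorMod A N) := by
  obtain ⟨A₀, hA₀⟩ := hproj
  obtain ⟨A, hA, h⟩ := Groth.Misc13.NumTriv.exists_veryAmple_twist k hA₀
  exact ⟨A, hA, Groth.Misc13.NumTriv.veryAmple_of_twist k h,
    fun N hN hnum => h N (Groth.Misc13.NumTriv.nt_of_numEquivZero k hN hnum)⟩

end Groth.Agent.S17637
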