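import Groth.Statements.S17638
import Groth.Agent.SurfRR.Asymptotic

set_option autoImplicit false
universe u
open CategoryTheory CategoryTheory.Limits AlgebraicGeometry
open Surf

namespace Groth.Agent.S17638

/-- Let X be an integral scheme, smooth and proper over an uncountable algebraically closed field k of
characteristic zero and admitting an ample invertible module, of dimension 2 (a smooth projective
surface; stated in the source over the complex numbers), and L an invertible O_X-module. Suppose a ≥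
1 and L^{⊗a} ≅ L_P ⊗ L_N is a Zariski decomposition: L_P is invertible and nef (degree ≥ 0 on every
integral closed curve of X); L_N ≅ ⊗_j O(N_j)^{⊗ b_j} for finitely many integral closed curves N_1,
…, N_s ⊆ X and integers b_j ≥ 1, where O(N_j) is an inverse of the ideal sheaf of N_j; the
intersection matrix (N_j · N_l) is negative definite; and (L_P · N_j) = deg(L_P|_{N_j}) = 0 for
every j. Then, with M_P and M_N inverses of L_P and L_N and intersection numbers on X computed as
alternating sums of Euler characteristics, ĥ^0(X, L) = (L_P · L_P)/a², ĥ^1(X, L) = −(L_N · L_N)/a²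
and ĥ^2(X, L) = 0, where ĥ^i(X, L) = limsup_m dim_k H^i(X, L^{⊗m}) · 2!/m². (The source states this
for any pseudo-effective real divisor class D = P_D + N_D; for an integral D a positive multiple aD
has an integral decomposition as here.) -/
theorem result (k : Type u) [Field k] [IsAlgClosed k] [CharZero k]
    [Uncountable k] (X : Scheme.{u}) [X.Over (Spec (CommRingCat.of k))] [AlgebraicGeometry.IsIntegral X]
    [IsProper (X ↘ Spec (CommRingCat.of k))] [Smooth (X ↘ Spec (CommRingCat.of k))]
    (hproj : ∃ A : X.Modules, CohB1.IsAmple A) (hX2 : topologicalKrullDim X = 2)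
    (L LP LN MP MN : X.Modules) (hL : PicF.IsInvertible L) (hLP : PicF.IsInvertible LP)
    (hLN : PicF.IsInvertible LN) (hMP : ClSub.IsInverseOf LP MP) (hMN : ClSub.IsInverseOf LN MN)
    (a : ℕ) (ha : 1 ≤ a) (hdec : Nonempty (CohB1.tensorPow L a ≅ CohB1.tensorMod LP LN))
    (hnef : ∀ (Y : Scheme.{u}) (i : Y ⟶ X) [IsClosedImmersion i], AlgebraicGeometry.IsIntegral Y →
      topologicalKrullDim Y = 1 →
        0 ≤ Pic13.curveDeg k (i ≫ (X ↘ Spec (CommRingCat.of k))) ((Scheme.Modules.pullback i).obj LP))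
    (s : ℕ) (N : Fin s → X.IdealSheafData)
    (hN : ∀ j, AlgebraicGeometry.IsIntegral (N j).subscheme ∧ topologicalKrullDim (N j).subscheme = 1)
    (O : Fin s → X.Modules) (hO : ∀ j, ClSub.IsInverseOf (ClSub.idealMod (N j)) (O j))
    (b : Fin s → ℕ) (hb : ∀ j, 1 ≤ b j) (hLNeq : Nonempty (LN ≅ FGA.multiTwist O b))
    (hneg : (-(Matrix.of fun j l : Fin s =>
      FGA.intNum k X 2 ![ClSub.idealMod (N j), ClSub.idealMod (N l)] (Coh.structureModule X))).PosDef)
    (horth : ∀ j, Pic13.curveDeg k ((N j).subschemeι ≫ (X ↘ Spec (CommRingCat.of k)))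
      ((Scheme.Modules.pullback (N j).subschemeι).obj LP) = 0) :
    W4c5asymptcohfn.hhat k X 2 0 L =
        (FGA.intNum k X 2 ![MP, MP] (Coh.structureModule X) : ℝ) / (a : ℝ) ^ 2 ∧
      W4c5asymptcohfn.hhat k X 2 1 L =
        -(FGA.intNum k X 2 ![MN, MN] (Coh.structureModule X) : ℝ) / (a : ℝ) ^ 2 ∧
      W4c5asymptcohfn.hhat k X 2 2 L = 0 := by
  obtain ⟨A, hA⟩ := hproj
  haveI : IsNoetherian X := Groth.Inter.isNoetherian k
  have hreg : ∀ x : X, IsRegularLocalRing (X.presheaf.stalk x) := Groth.SurfRR.isRegularLocalRing_stalk k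
  obtain ⟨hWi, hDD⟩ := Groth.SurfRR.dualDim_topForms' k hX2 (Groth.LocFree.isExtPow_extPow 2 _)
  have hC : ∀ j, Groth.SurfNum.IsCurve (N j) := fun j => by
    haveI := (hN j).1
    have h := Groth.SurfRR.isCurve_ker (N j).subschemeι (hN j).2
    rwa [Scheme.IdealSheafData.ker_subschemeι] at h
  have hIi := fun j => (hC j).isInvertible k hX2 hreg
  have hOi := fun j => Groth.PicAux.isInvertible_of_isInverseOf (hIi j) (hO j)
  have hnef' := Groth.Inter.nonneg_of_isNef k hLP hMP hnef
  have horth' : ∀ j, Groth.Inter.pair k (ClSub.idealMod (N j)) LP = 0 := fun j => by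
    have h := horth j
    rw [Groth.Inter.curveDeg_eq k (N j).subschemeι hLP (by simpa using (hN j).2.le), neg_eq_zero] at h
    rw [Groth.SurfNum.pair_idealMod k ((hC j).isEffCartier k hX2 hreg) hLP]
    exact h
  have hneg' : (-(Matrix.of fun j l : Fin s =>
      Groth.Inter.pair k (ClSub.idealMod (N j)) (ClSub.idealMod (N l)))).PosDef := by
    simpa only [Groth.Inter.intNum_eq_pair k hX2.le] using hneg
  obtain ⟨h0, h1, h2⟩ := Groth.SurfRR.Asymptotic.hhat_of_decomposition k hX2 hreg hC hO hneg' hA hWi hDD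
    hLP hMP hnef' horth' b
  obtain ⟨e⟩ := hLNeq
  have key : ∀ q, Filter.limsup (Groth.SurfRR.Asymptotic.hSeq k q (CohB1.tensorMod LP (FGA.multiTwist O b)))
      Filter.atTop = (a : ℝ) ^ 2 * W4c5asymptcohfn.hhat k X 2 q L := fun q => by
    rw [Groth.SurfRR.Asymptotic.hhat_eq, ← Groth.SurfRR.Asymptotic.hhat_tensorPow k hA hX2 hL a ha q]
    refine congrArg (fun u => Filter.limsup u Filter.atTop) (funext fun m => ?_)
    unfold Groth.SurfRR.Asymptotic.hSeq
    rw [EulerDeg.finrank_congr (k := k) ((Groth.PicAux.nonempty_tensorPow_iso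
      (hdec.some ≪≫ (Groth.Inter.tensor_congr ⟨Iso.refl LP⟩ ⟨e⟩).some) m).some) q]
  have hP2 : (FGA.intNum k X 2 ![MP, MP] (Coh.structureModule X) : ℤ) = Groth.Inter.pair k LP LP := by
    rw [Groth.Inter.intNum_eq_pair k hX2.le, Groth.Inter.pair_inverse_inverse k hX2.le hLP hMP hLP hMP]
  have hN2 : (FGA.intNum k X 2 ![MN, MN] (Coh.structureModule X) : ℤ) =
      Groth.Inter.pair k (FGA.multiTwist O b) (FGA.multiTwist O b) := by
    rw [Groth.Inter.intNum_eq_pair k hX2.le, Groth.Inter.pair_inverse_inverse k hX2.le hLN hMN hLN hMN,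
      Groth.Inter.pair_congr k ⟨e⟩, Groth.Inter.pair_comm k, Groth.Inter.pair_congr k ⟨e⟩]
  have ha' : (a : ℝ) ^ 2 ≠ 0 := pow_ne_zero _ (Nat.cast_ne_zero.2 (by omega))
  rw [key] at h0 h1 h2
  rw [hP2, hN2, eq_div_iff ha', eq_div_iff ha']
  exact ⟨by linarith, by linarith, (mul_eq_zero.1 h2).resolve_left ha'⟩

end Groth.Agent.S17638
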