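import Groth.Statements.S1764
import Groth.Agent.SuppCx.FiniteIff

set_option autoImplicit false
universe u
open CategoryTheory
attribute [local instance] HasDerivedCategory.standard
open LocCoh

namespace Groth.Agent.S1764

/-- (1)⇔(2): Let A be a Noetherian ring, T ⊆ Spec A stable under specialization, n an integer and K an
object of D(A) which is bounded below with finite cohomology modules. Then H^i_T(K) (the direct
limit of Hom(A/J, K[i]) over ideals J with V(J) ⊆ T) is a finite A-module for every i ≤ n if and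
only if there is an ideal J with V(J) ⊆ T annihilating H^i_T(K) for every i ≤ n. -/
theorem result (A : Type u) [CommRing A] [IsNoetherianRing A] (T : Set (PrimeSpectrum A)) (hT : StableUnderSpecialization T) (K : Dual.D A) (a : ℤ) (hKa : ∀ i : ℤ, i < a → Subsingleton (Dual.HD A K i)) (hK : ∀ i : ℤ, Module.Finite A (Dual.HD A K i)) (n : ℤ) : (∀ i : ℤ, i ≤ n → Module.Finite A (Dual2.HDT A T K i)) ↔ ∃ J : Ideal A, PrimeSpectrum.zeroLocus (J : Set A) ⊆ T ∧ ∀ i : ℤ, i ≤ n → ∀ x : A, x ∈ J → ∀ y : Dual2.HDT A T K i, x • y = 0 := by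
  obtain ⟨C, hCK, hC, hlow, ⟨e⟩⟩ := Groth.SuppCx.exists_injective_rep K a hKa
  have hfin : ∀ j : ℤ, Module.Finite A (Groth.SuppCx.Hc C (Groth.SuppCx.topC C) j (j + 1) (j + 1 + 1)) := by
    intro j
    obtain ⟨f⟩ := Groth.SuppCx.nonempty_HD_equiv (C := C) e (j := j) (i := j + 1) (k := j + 1 + 1) rfl rfl
    haveI := hK (j + 1)
    exact Module.Finite.equiv f
  have key := Groth.SuppCx.finite_iff_exists_kills (T := T) hC hlow hfin n
  have f := fun i : ℤ => (Groth.SuppCx.nonempty_HDT_equiv (T := T) e (sub_add_cancel i 1) (k := i + 1) rfl).some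
  have hk : ∀ (i : ℤ) (x : A), (∀ y : Dual2.HDT A T K i, x • y = 0) ↔
      Groth.SuppCx.Kills C (Groth.SuppCx.gamC T C) x i := by
    intro i x
    rw [Groth.SuppCx.kills_iff x (sub_add_cancel i 1) rfl]
    exact ⟨fun h z => (f i).symm.injective (by rw [map_smul, h, map_zero]),
      fun h y => (f i).injective (by rw [map_smul, h, map_zero])⟩
  constructor
  · intro h
    obtain ⟨J, hJ, hJk⟩ := key.1 fun i hi => haveI := h i hi; Module.Finite.equiv (f i)
    exact ⟨J, hJ, fun i hi x hx => (hk i x).2 (hJk i hi x hx)⟩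
  · rintro ⟨J, hJ, hJk⟩ i hi
    haveI := key.2 ⟨J, hJ, fun i hi g hg => (hk i g).1 (hJk i hi g hg)⟩ i hi
    exact Module.Finite.equiv (f i).symm

end Groth.Agent.S1764
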