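import Groth.Agent.CohTwo.PointDecomposition
import Groth.Agent.SiteCohomology.ModulesGrothendieck
import Groth.Agent.SiteCohomology.SchemeModules

set_option autoImplicit false
universe u
open CategoryTheory CategoryTheory.Limits AlgebraicGeometry
attribute [local instance] HasDerivedCategory.standard
open DCoh

namespace Groth.Agent.S17641

open Groth.CohTwo Groth.CohTwo.PtSummand Groth.CohTwo.PtDecomp in
/-- The restriction map of a sum of skyscrapers at points of `U` is injective. -/
lemma mono_unit_sum {U X : Scheme.{u}} (j : U ⟶ X) [IsOpenImmersion j] {κ : Type u} (x : κ → X)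
    (A : κ → Type u) [∀ i, AddCommGroup (A i)] [∀ i, Module (X.presheaf.stalk (x i)) (A i)]
    (hx : ∀ i, x i ∈ j.opensRange) :
    Mono ((Scheme.Modules.restrictAdjunction j).unit.app (∐ fun i => SkyMod.sky (x i) (A i))) := by
  classical
  let P := fun i => SkyMod.sky (x i) (A i)
  refine Preadditive.mono_of_kernel_zero (hom_ext_app fun W k => ?_)
  change (kernel.ι ((Scheme.Modules.restrictAdjunction j).unit.app (∐ P))).app W k = 0
  let m : Γ(∐ P, W) := (kernel.ι ((Scheme.Modules.restrictAdjunction j).unit.app (∐ P))).app W k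
  change m = 0
  have h0 : res (∐ P) (Scheme.Hom.image_preimage_le j W) m = 0 :=
    congr(($(kernel.condition ((Scheme.Modules.restrictAdjunction j).unit.app (∐ P)))).app W k)
  refine eq_zero_of_germ _ m fun y hy => ?_
  obtain ⟨F, v, hv⟩ := exists_stalk_sum P y ((∐ P).presheaf.germ W y hy m)
  let comp : ∀ i, ∐ P ⟶ P i := fun i =>
    Sigma.desc fun j' => if h : j' = i then eqToHom (by rw [h]) else 0
  have hcomp : ∀ i, Sigma.ι P i ≫ comp i = 𝟙 _ := fun i =>
    (Sigma.ι_desc _ _).trans ((dif_pos rfl).trans (eqToHom_refl _ _))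
  have hcomp' : ∀ i i', i ≠ i' → Sigma.ι P i' ≫ comp i = 0 := fun i i' h =>
    (Sigma.ι_desc _ _).trans (dif_neg (Ne.symm h))
  rw [hv]
  refine Finset.sum_eq_zero fun i hi => ?_
  suffices v i = 0 by rw [this, map_zero]
  have h1 : (P i).presheaf.germ W y hy ((comp i).app W m) = v i := by
    rw [← stalkLin_germ (comp i) y hy, hv, map_sum, Finset.sum_eq_single i]
    · rw [← stalkLin_comp, hcomp, stalkLin_id]
    · intro b _ hne
      rw [← stalkLin_comp, hcomp' i b (Ne.symm hne), stalkLin_zero]
    · exact fun h => absurd hi h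
  rw [← h1]
  have h2 : (comp i).app W m = 0 := by
    funext h
    have hmem : x i ∈ j ''ᵁ (j ⁻¹ᵁ W) := by
      rw [Scheme.Hom.image_preimage_eq_opensRange_inf]
      exact ⟨hx i, h.down⟩
    have h3 := app_res (comp i) (Scheme.Hom.image_preimage_le j W) m
    rw [h0, map_zero] at h3
    exact (congrFun h3.symm ⟨hmem⟩)
  rw [h2, map_zero]

/-- Let X be a Noetherian scheme, j : U ⟶ X an open immersion with closed complement Z = X ∖ j(U), and I
a quasi-coherent O_X-module which is injective as an O_X-module. Then Γ_Z(I), the kernel of I ⟶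
j_*(I|_U) (the subsheaf of sections supported in Z), is an injective O_X-module. (Injectivity is
taken in the category of all O_X-modules; on a Noetherian scheme a quasi-coherent module is
injective there exactly when it is injective among quasi-coherent modules. The published statement
works with the functor of sections killed by some power of a defining ideal, which agrees with Γ_Z
on quasi-coherent modules over a Noetherian scheme.) -/
theorem result {U X : Scheme.{u}} [IsNoetherian X]
    (j : U ⟶ X) [IsOpenImmersion j] (I : X.Modules) (hI : Coh.IsQCoh I) [Injective I] :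
    Injective ((DCoh.gammaZ j).obj I) := by
  classical
  obtain ⟨ι, p, hp, hiso⟩ := Groth.CohTwo.PtDecomp.exists_decomposition I
  haveI := hiso
  let P := fun i => Groth.CohTwo.SkyMod.sky (p i).pt (p i).A
  let d : ∐ P ⟶ I := Sigma.desc fun i => (p i).f
  let η := (Scheme.Modules.restrictAdjunction j).unit
  let PU := fun i : {i // (p i).pt ∈ j.opensRange} => P i.1
  let πU : ∐ P ⟶ ∐ PU :=
    Sigma.desc fun i => if h : (p i).pt ∈ j.opensRange then Sigma.ι PU ⟨i, h⟩ else 0
  let πZ : ∐ P ⟶ ∐ P :=
    Sigma.desc fun i => if (p i).pt ∈ j.opensRange then 0 else Sigma.ι P i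
  haveI : Mono (η.app (∐ PU)) :=
    mono_unit_sum j (fun i : {i // (p i).pt ∈ j.opensRange} => (p i.1).pt) _ fun i => i.2
  let ιU : ∐ PU ⟶ ∐ P := Sigma.desc fun i => Sigma.ι P i.1
  have hsplit : πU ≫ ιU + πZ = 𝟙 (∐ P) := by
    refine Sigma.hom_ext _ _ fun i => ?_
    simp only [πU, πZ, ιU, Preadditive.comp_add, Sigma.ι_desc_assoc, Sigma.ι_desc, Category.comp_id]
    by_cases h : (p i).pt ∈ j.opensRange
    · simp [h]
    · simp [h]
  -- the summand at points outside `U` has sections supported on `Z`
  have hZ : (πZ ≫ d) ≫ η.app I = 0 := by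
    refine Sigma.hom_ext _ _ fun i => ?_
    rw [Category.assoc, comp_zero, ← Category.assoc, show Sigma.ι P i ≫ πZ = _ from Sigma.ι_desc _ _]
    by_cases h : (p i).pt ∈ j.opensRange
    · rw [if_pos h, zero_comp]
    · rw [if_neg h, ← Category.assoc, show Sigma.ι P i ≫ d = (p i).f from Sigma.ι_desc _ _]
      have hn : (p i).f ≫ η.app I =
          η.app (P i) ≫ (Scheme.Modules.restrictFunctor j ⋙ Scheme.Modules.pushforward j).map (p i).f :=
        η.naturality (p i).f
      have h0 : η.app (P i) = 0 := Groth.CohTwo.hom_ext_app fun W s => funext fun hx =>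
        absurd (Scheme.Hom.image_le_opensRange j (j ⁻¹ᵁ W) hx.down) h
      rw [hn, h0, zero_comp]
  let κ : (DCoh.gammaZ j).obj I ⟶ I := kernel.ι (η.app I)
  have hU : κ ≫ inv d ≫ πU = 0 := by
    have hn := η.naturality (inv d ≫ πU)
    simp only [Functor.id_map] at hn
    rw [← cancel_mono (η.app (∐ PU)), zero_comp, Category.assoc]
    exact (congrArg (κ ≫ ·) hn).trans
      (((Category.assoc _ _ _).symm).trans ((congrArg (· ≫ _) (kernel.condition _)).trans zero_comp))
  let s : I ⟶ (DCoh.gammaZ j).obj I := kernel.lift (η.app I) (inv d ≫ πZ ≫ d) (by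
    rw [Category.assoc, hZ, comp_zero])
  have hs : s ≫ κ = inv d ≫ πZ ≫ d := kernel.lift_ι _ _ _
  refine Retract.injective (X := (DCoh.gammaZ j).obj I) (Y := I) ⟨κ, s, ?_⟩
  haveI : Mono κ := inferInstanceAs (Mono (kernel.ι (η.app I)))
  rw [← cancel_mono κ, Category.assoc, hs, Category.id_comp]
  have h1 : κ ≫ inv d ≫ (πU ≫ ιU + πZ) ≫ d = κ := by simp [hsplit]
  rw [Preadditive.add_comp, Preadditive.comp_add, Preadditive.comp_add, Category.assoc,
    reassoc_of% hU] at h1
  simpa using h1

end Groth.Agent.S17641
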