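import Groth.Statements.S17642
import Groth.Agent.Misc13.ProjFactor

set_option autoImplicit false
universe u
open CategoryTheory AlgebraicGeometry
open DerSch

namespace Groth.Agent.S17642

/-- Consider Noetherian schemes X and Y together with a morphism f : X ⟶ Y that is locally of finite
type. Given affine open subsets U ⊆ X and V ⊆ Y such that f(U) ⊆ V, the restriction of f to U can be
written as a composite U ⟶ W ⟶ P ⟶ Y in which the first map U ⟶ W is an open immersion, the middle
map W ⟶ P is a closed immersion, and the last map P ⟶ Y is both smooth and proper. In the published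
section every morphism is taken to be separated as a standing convention; since the printed proof
never uses this, no separatedness hypothesis appears here. -/
theorem result {X Y : Scheme.{u}}
    [IsNoetherian X] [IsNoetherian Y] (f : X ⟶ Y) [LocallyOfFiniteType f]
    (U : X.Opens) (hU : IsAffineOpen U) (V : Y.Opens) (hV : IsAffineOpen V) (hUV : U ≤ f ⁻¹ᵁ V) :
    ∃ (W P : Scheme.{u}) (g : (U : Scheme.{u}) ⟶ W) (h : W ⟶ P) (k : P ⟶ Y),
      IsOpenImmersion g ∧ IsClosedImmersion h ∧ Smooth k ∧ IsProper k ∧ g ≫ h ≫ k = U.ι ≫ f := by
  exact Groth.Misc13.ProjFactor.exists_factor f U hU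

end Groth.Agent.S17642
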