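import Groth.Statements.S17643
import Groth.Agent.Misc13.TorDimFactor
import Groth.Agent.KoszulLCI.Perfect

set_option autoImplicit false
universe u
open CategoryTheory AlgebraicGeometry
attribute [local instance] HasDerivedCategory.standard
open DerSch

namespace Groth.Agent.S17643
open Groth.Misc13.TorDimFactor

/-- Let f : X ⟶ Y be a morphism of finite type between Noetherian schemes which is of finite
Tor-dimension (the structure sheaf of X, placed in degree 0, has finite tor amplitude stalkwise over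
the local rings of Y), U ⊆ X an affine open subset and V ⊆ Y an affine open subset with f(U) ⊆ V.
Then the restriction of f to U factors as U ⟶ W ⟶ Y with U ⟶ W a closed immersion of finite
Tor-dimension and W ⟶ Y smooth. The published section's standing conventions also take all morphisms
separated; the printed argument does not use this, so separatedness is not assumed here. -/
theorem result {X Y : Scheme.{u}}
    [IsNoetherian X] [IsNoetherian Y] (f : X ⟶ Y) [LocallyOfFiniteType f] (hf : DerSch.HasFiniteTorDim f)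
    (U : X.Opens) (hU : IsAffineOpen U) (V : Y.Opens) (hV : IsAffineOpen V) (hUV : U ≤ f ⁻¹ᵁ V) :
    ∃ (W : Scheme.{u}) (g : (U : Scheme.{u}) ⟶ W) (h : W ⟶ Y),
      IsClosedImmersion g ∧ DerSch.HasFiniteTorDim g ∧ Smooth h ∧ g ≫ h = U.ι ≫ f := by
  classical
  have hfU : DerSch.HasFiniteTorDim (U.ι ≫ f) := by
    obtain ⟨a, b, hab⟩ := hf
    refine ⟨a, b, fun x => (hasTorAmplitudeAt_unit_iff (U.ι ≫ f) x a b).2 ?_⟩
    have h0 := (hasTorAmplitudeAt_unit_iff f (U.ι x) a b).1 (hab _)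
    let := (f.stalkMap (U.ι x)).hom.toAlgebra
    let : Algebra (Y.presheaf.stalk (f (U.ι x))) ((U : Scheme.{u}).presheaf.stalk x) :=
      ((U.ι ≫ f).stalkMap x).hom.toAlgebra
    have key : (U.ι ≫ f).stalkMap x = f.stalkMap (U.ι x) ≫ U.ι.stalkMap x :=
      Scheme.Hom.stalkMap_comp U.ι f x
    let l : X.presheaf.stalk (U.ι x) ≃ₗ[Y.presheaf.stalk (f (U.ι x))]
        (U : Scheme.{u}).presheaf.stalk x :=
      AddEquiv.toLinearEquiv (asIso (U.ι.stalkMap x)).commRingCatIsoToRingEquiv.toAddEquiv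
        fun r y => by
          show U.ι.stalkMap x (f.stalkMap (U.ι x) r * y) = (U.ι ≫ f).stalkMap x r * U.ι.stalkMap x y
          rw [map_mul, key]
          rfl
    exact Groth.KoszulLCI.hasTorAmp_congr l h0
  let φ := f.appLE V U hUV
  have hφ : φ.hom.FiniteType :=
    HasRingHomProperty.appLE @LocallyOfFiniteType f inferInstance ⟨V, hV⟩ ⟨U, hU⟩ hUV
  let := φ.hom.toAlgebra
  have : Algebra.FiniteType Γ(Y, V) Γ(X, U) := hφ
  obtain ⟨m, ψ, hψ⟩ := Algebra.FiniteType.iff_quotient_mvPolynomial''.1 this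
  let P : CommRingCat.{u} := CommRingCat.of (MvPolynomial (Fin m) Γ(Y, V))
  let C : Γ(Y, V) ⟶ P := CommRingCat.ofHom MvPolynomial.C
  let ψ' : P ⟶ Γ(X, U) := CommRingCat.ofHom ψ.toRingHom
  have hfac : C ≫ ψ' = φ := CommRingCat.hom_ext ψ.comp_algebraMap
  let g : (U : Scheme.{u}) ⟶ Spec P := hU.isoSpec.hom ≫ Spec.map ψ'
  let h : Spec P ⟶ Y := Spec.map C ≫ hV.fromSpec
  have hgh : g ≫ h = U.ι ≫ f := by
    show (hU.isoSpec.hom ≫ Spec.map ψ') ≫ Spec.map C ≫ hV.fromSpec = U.ι ≫ f
    rw [Category.assoc, ← Spec.map_comp_assoc, hfac, IsAffineOpen.SpecMap_appLE_fromSpec f hV hU hUV,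
      IsAffineOpen.isoSpec_hom_fromSpec_assoc]
  have : IsClosedImmersion (Spec.map ψ') := IsClosedImmersion.spec_of_surjective ψ' hψ
  have hC : Smooth (Spec.map C) :=
    (HasRingHomProperty.Spec_iff (P := @Smooth)).2
      ((RingHom.smooth_algebraMap (R := Γ(Y, V)) (S := MvPolynomial (Fin m) Γ(Y, V))).2 ⟨inferInstance, inferInstance⟩)
  have hle : ⊤ ≤ h ⁻¹ᵁ V := by
    show ⊤ ≤ Spec.map C ⁻¹ᵁ (hV.fromSpec ⁻¹ᵁ V)
    rw [hV.fromSpec_preimage_self]
    exact le_rfl
  refine ⟨Spec P, g, h, inferInstance, hasFiniteTorDim_factor g h hV hle m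
    (Scheme.ΓSpecIso P).symm.commRingCatIsoToRingEquiv ?_ (hgh ▸ hfU), inferInstance, hgh⟩
  have e : C ≫ (Scheme.ΓSpecIso P).inv = h.appLE V ⊤ hle := by
    show _ = (Spec.map C ≫ hV.fromSpec).appLE V ⊤ hle
    rw [Scheme.Hom.comp_appLE, hV.fromSpec_app_self, Category.assoc]
    refine (Scheme.ΓSpecIso_inv_naturality C).trans ?_
    congr 1
  exact congrArg CommRingCat.Hom.hom e

end Groth.Agent.S17643
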