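import Groth.Statements.S17647
import Groth.Agent.QCohMod.OpenSupport
import Groth.Agent.QCohMod.QCohCatBasic
import Mathlib.CategoryTheory.Adjunction.Restrict
import Mathlib.CategoryTheory.Localization.Adjunction

set_option autoImplicit false
universe u
open CategoryTheory CategoryTheory.Limits AlgebraicGeometry
open QCohCat

namespace Groth.Agent.S17647

section
open CategoryTheory CategoryTheory.Limits AlgebraicGeometry Groth.QCohMod

variable {X : Scheme.{u}} (U : X.Opens)

lemma isIso_restrict_iff {A B : X.Modules} (f : A ⟶ B) :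
    IsIso ((Scheme.Modules.restrictFunctor U.ι).map f) ↔
      CohB1.support (kernel f) ⊆ (↑U : Set X)ᶜ ∧ CohB1.support (cokernel f) ⊆ (↑U : Set X)ᶜ := by
  have key : ∀ M : X.Modules, CohB1.support M ⊆ (↑U : Set X)ᶜ ↔
      ∀ x ∈ U, IsZero ((stalk x).obj M) := fun M => by
    refine ⟨fun h x hx => ?_, fun h x hx hxU => ?_⟩
    · have hns : ¬ ¬ Subsingleton (M.presheaf.stalk x) := fun hn => h hn hx
      exact @AddCommGrpCat.isZero_of_subsingleton _ (not_not.mp hns)
    · exact hx (AddCommGrpCat.subsingleton_of_isZero (h x hxU))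
  rw [key, key, ← forall₂_and]
  have key' : ∀ x : X, IsIso ((stalk x).map f) ↔
      IsZero ((stalk x).obj (kernel f)) ∧ IsZero ((stalk x).obj (cokernel f)) := fun x => by
    constructor
    · intro _
      exact ⟨(isZero_kernel_of_mono ((stalk x).map f)).of_iso (PreservesKernel.iso (stalk x) f),
        (isZero_cokernel_of_epi ((stalk x).map f)).of_iso (PreservesCokernel.iso (stalk x) f)⟩
    · rintro ⟨h1, h2⟩
      have : Mono ((stalk x).map f) := Preadditive.mono_of_kernel_zero
        ((h1.of_iso (PreservesKernel.iso (stalk x) f).symm).eq_of_src _ _)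
      have : Epi ((stalk x).map f) := Preadditive.epi_of_cokernel_zero
        ((h2.of_iso (PreservesCokernel.iso (stalk x) f).symm).eq_of_tgt _ _)
      exact isIso_of_mono_of_epi _
  constructor
  · intro h x hx
    exact (key' x).mp ((NatIso.isIso_map_iff (Scheme.Modules.restrictStalkNatIso U.ι ⟨x, hx⟩) f).mp
      (by dsimp only [Functor.comp_map]; infer_instance))
  · intro h
    refine isIso_of_stalk _ fun x => ?_
    exact (NatIso.isIso_map_iff (Scheme.Modules.restrictStalkNatIso U.ι x) f).mpr
      ((key' x.1).mpr (h x.1 x.2))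

end

/-- Let X be a scheme and U ⊆ X an open subset whose inclusion U ⟶ X is quasi-compact, Z = X ∖ U. Then
the restriction functor QCoh(X) ⥤ QCoh(U) between the categories of quasi-coherent modules is a
localization functor for the class of morphisms of quasi-coherent O_X-modules whose kernel and
cokernel (computed in O_X-modules) have support contained in Z: the category QCoh(U) is the quotient
of QCoh(X) by the localizing subcategory of quasi-coherent modules supported in Z, the direct image
along U ⟶ X being the fully faithful right adjoint. No hypothesis is made on X beyond the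
quasi-compactness of U ⟶ X. -/
theorem result (X : Scheme.{u})
    (U : X.Opens) [QuasiCompact U.ι] :
    (ObjectProperty.lift (QCohCat.isQCoh (↑U : Scheme.{u}))
        (ObjectProperty.ι (QCohCat.isQCoh X) ⋙ Scheme.Modules.restrictFunctor U.ι)
        (fun M => @Scheme.Modules.isQuasicoherent_restrictFunctor (↑U : Scheme.{u}) X U.ι
          inferInstance M.obj M.property)).IsLocalization
      (fun (A B : QCohCat.QCoh X) (f : A ⟶ B) =>
        CohB1.support (kernel f.hom) ⊆ (↑U : Set X)ᶜ ∧
          CohB1.support (cokernel f.hom) ⊆ (↑U : Set X)ᶜ) := by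
  let L := ObjectProperty.lift (QCohCat.isQCoh (↑U : Scheme.{u}))
    (ObjectProperty.ι (QCohCat.isQCoh X) ⋙ Scheme.Modules.restrictFunctor U.ι)
    (fun M => @Scheme.Modules.isQuasicoherent_restrictFunctor (↑U : Scheme.{u}) X U.ι
      inferInstance M.obj M.property)
  let R := ObjectProperty.lift (QCohCat.isQCoh X)
    (ObjectProperty.ι (QCohCat.isQCoh (↑U : Scheme.{u})) ⋙ Scheme.Modules.pushforward U.ι)
    (fun M => @Groth.QCohMod.isQCoh_pushforward _ _ M.obj M.property U.ι _ _)
  let adj : L ⊣ R := (Scheme.Modules.restrictAdjunction U.ι).restrictFullyFaithful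
    (QCohCat.isQCoh X).fullyFaithfulι (QCohCat.isQCoh (↑U : Scheme.{u})).fullyFaithfulι
    (Iso.refl _) (Iso.refl _)
  haveI : R.Full := Functor.Full.of_comp_faithful_iso (F := R) (G := (QCohCat.isQCoh X).ι)
    (H := ObjectProperty.ι (QCohCat.isQCoh (↑U : Scheme.{u})) ⋙ Scheme.Modules.pushforward U.ι)
    (Iso.refl _)
  haveI : R.Faithful := Functor.Faithful.of_comp_iso (F := R) (G := (QCohCat.isQCoh X).ι)
    (H := ObjectProperty.ι (QCohCat.isQCoh (↑U : Scheme.{u})) ⋙ Scheme.Modules.pushforward U.ι)
    (Iso.refl _)
  have h := adj.isLocalization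
  have hW : ((MorphismProperty.isomorphisms (QCohCat.QCoh (↑U : Scheme.{u}))).inverseImage L) =
      (fun (A B : QCohCat.QCoh X) (f : A ⟶ B) =>
        CohB1.support (Limits.kernel f.hom) ⊆ (↑U : Set X)ᶜ ∧
          CohB1.support (Limits.cokernel f.hom) ⊆ (↑U : Set X)ᶜ) := by
    ext A B f
    rw [MorphismProperty.inverseImage_iff, MorphismProperty.isomorphisms.iff,
      ← isIso_iff_of_reflects_iso (L.map f) (QCohCat.isQCoh (↑U : Scheme.{u})).ι]
    exact isIso_restrict_iff U f.hom
  exact hW ▸ h

end Groth.Agent.S17647
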