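import Groth.Statements.S17649
import Groth.Agent.QCohMod.OpenSupport

set_option autoImplicit false
universe u
open CategoryTheory CategoryTheory.Limits AlgebraicGeometry
open QCohCat

namespace Groth.Agent.S17649

/-- Suppose the scheme X is quasi-compact and quasi-separated, and take two quasi-compact opens U, V ⊆
X. Given a quasi-compact open W, denote by S_W the class of quasi-coherent O_X-modules that restrict
to zero on W. Then S_{U ∩ V} is the smallest localizing subcategory of Qcoh(X) that contains both
S_U and S_V; concretely (this is the inclusion that is not formal): any quasi-coherent O_X-module F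
satisfying F|_{U ∩ V} = 0 arises as an extension of a quasi-coherent module that is zero on V by a
quasi-coherent submodule that is zero on U — one can find a monomorphism A ⟶ F where A is
quasi-coherent, A|_U = 0 and (F/A)|_V = 0. -/
theorem result {X : Scheme.{u}}
    [CompactSpace X] [QuasiSeparatedSpace X] (U V : X.Opens) [QuasiCompact U.ι] [QuasiCompact V.ι]
    (F : X.Modules) (hF : Coh.IsQCoh F) (h : IsZero ((Scheme.Modules.restrictFunctor (U ⊓ V).ι).obj F)) :
    ∃ (A : X.Modules) (i : A ⟶ F), Mono i ∧ Coh.IsQCoh A ∧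
      IsZero ((Scheme.Modules.restrictFunctor U.ι).obj A) ∧
      IsZero ((Scheme.Modules.restrictFunctor V.ι).obj (cokernel i)) := by
  have : F.IsQuasicoherent := hF
  have hq : ((Scheme.Modules.pushforward U.ι).obj
      ((Scheme.Modules.restrictFunctor U.ι).obj F)).IsQuasicoherent :=
    Groth.QCohMod.isQCoh_pushforward _ U.ι
  let η := Groth.QCohMod.openUnit U F
  refine ⟨kernel η, kernel.ι η, inferInstance, Groth.QCohMod.isQCoh_kernel η, ?_, ?_⟩
  · rw [Groth.QCohMod.isZero_restrict_iff_stalk]
    intro x hx
    have := Groth.QCohMod.isIso_stalk_openUnit U F hx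
    exact (isZero_kernel_of_mono ((Groth.QCohMod.stalk x).map η)).of_iso
      (PreservesKernel.iso (Groth.QCohMod.stalk x) η)
  · rw [Groth.QCohMod.isZero_restrict_iff_stalk]
    intro x hx
    rw [Groth.QCohMod.isZero_restrict_iff_stalk] at h
    have hS := (ShortComplex.exact_of_f_is_kernel (ShortComplex.mk _ _ (kernel.condition η))
      (kernelIsKernel η)).map (Groth.QCohMod.stalk x)
    have h0 : IsZero ((Groth.QCohMod.stalk x).obj ((Scheme.Modules.pushforward U.ι).obj
        ((Scheme.Modules.restrictFunctor U.ι).obj F))) := by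
      refine @AddCommGrpCat.isZero_of_subsingleton _ ⟨fun a b => ?_⟩
      suffices ∀ c : ((Groth.QCohMod.stalk x).obj ((Scheme.Modules.pushforward U.ι).obj
          ((Scheme.Modules.restrictFunctor U.ι).obj F))), c = 0 from (this a).trans (this b).symm
      intro c
      obtain ⟨W, hxW, t, rfl⟩ := TopCat.Presheaf.exists_germ_eq _ c
      have := Groth.QCohMod.subsingleton_sections_of_stalk F (U.ι ''ᵁ (U.ι ⁻¹ᵁ (W ⊓ V)))
        (by
          rintro _ ⟨y, hy, rfl⟩
          exact h _ ⟨y.2, hy.2⟩)
      rw [← TopCat.Presheaf.germ_res_apply _ (homOfLE inf_le_left) x ⟨hxW, hx⟩ t]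
      exact (congrArg _ (Subsingleton.elim (α := Γ(F, U.ι ''ᵁ (U.ι ⁻¹ᵁ (W ⊓ V)))) _ _)).trans
        (map_zero _)
    have : Epi ((Groth.QCohMod.stalk x).map (kernel.ι η)) :=
      hS.epi_f (h0.eq_of_tgt _ _)
    exact (isZero_cokernel_of_epi ((Groth.QCohMod.stalk x).map (kernel.ι η))).of_iso
      (PreservesCokernel.iso (Groth.QCohMod.stalk x) (kernel.ι η))

end Groth.Agent.S17649
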