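import Groth.Statements.S1765
import Groth.Agent.SuppCx.IdealForms

set_option autoImplicit false
universe u
open CategoryTheory
attribute [local instance] HasDerivedCategory.standard
open LocCoh

namespace Groth.Agent.S1765

/-- Let A be a Noetherian ring with a dualizing complex, I an ideal, M a finite A-module, p a prime not
containing I and s ≥ 0. Suppose that for all primes p' ⊆ p and all primes q ⊇ I with p' ⊆ q,
depth(M_{p'}) plus the Krull dimension of the interval of primes [p', q] exceeds s. Then there is f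
∉ p annihilating H^i_I(M) for all i ≤ s. -/
theorem result (A : Type u) [CommRing A] [IsNoetherianRing A] (hA : ∃ ω : Dual.D A, Dual.IsDualizing A ω) (I : Ideal A) (M : Type u) [AddCommGroup M] [Module A M] [Module.Finite A M] (p : PrimeSpectrum A) (hp : ¬ I ≤ p.asIdeal) (s : ℕ) (h : ∀ p' q : PrimeSpectrum A, p' ≤ p → I ≤ q.asIdeal → p' ≤ q → (s : WithBot ℕ∞) < ((LocCoh.depth (Localization.AtPrime p'.asIdeal) (LocalizedModule p'.asIdeal.primeCompl M) : ℕ∞) : WithBot ℕ∞) + Order.krullDim (Set.Icc p' q)) : ∃ f : A, f ∉ p.asIdeal ∧ ∀ i : ℕ, i ≤ s → ∀ x : LocCoh.H I i M, f • x = 0 := by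
  obtain ⟨ω, hω⟩ := hA
  obtain ⟨C, hCK, hC, hlow, ⟨e⟩⟩ := Groth.SuppCx.exists_injective_rep (Dual.inD A M) 0 fun i hi =>
    Groth.DualCore.subsingleton_HD_inD M i (by omega)
  let T : Set (PrimeSpectrum A) := PrimeSpectrum.zeroLocus (I : Set A)
  let T' : Set (PrimeSpectrum A) := {x | ¬ x ≤ p}
  have hT : StableUnderSpecialization T := (PrimeSpectrum.isClosed_zeroLocus _).stableUnderSpecialization
  have hT' : StableUnderSpecialization T' := fun x y hxy hx hy =>
    hx (((PrimeSpectrum.le_iff_specializes x y).2 hxy).trans hy)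
  obtain ⟨J, hJT, hJ⟩ := (Groth.SuppCx.exists_kills_iff hω hC hlow e (Groth.DualCore.finite_HD_inD M) hT hT' (s : ℤ)).2
    ((Groth.SuppCx.crit_iff_depth hω M s).2 fun p' q hp' hq hpq => h p' q (not_not.1 hp') hq hpq)
  obtain ⟨f, hfJ, hf⟩ := SetLike.not_le_iff_exists.1 (show ¬ J ≤ p.asIdeal from fun hle => hJT hle le_rfl)
  refine ⟨f, hf, fun i hi x => ?_⟩
  obtain ⟨g⟩ := Groth.SuppCx.nonempty_H_equiv (I := I) e i (sub_add_cancel (i : ℤ) 1) (k := (i : ℤ) + 1) rfl
  have hk := (Groth.SuppCx.kills_iff f (sub_add_cancel (i : ℤ) 1) rfl).1 (hJ i (by omega) f hfJ) (g x)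
  exact g.injective (by rw [map_smul, hk, map_zero])

end Groth.Agent.S1765
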