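import Groth.Statements.S17651
import Groth.Agent.Curves1.Lipman.Field

set_option autoImplicit false
universe u
open CategoryTheory CategoryTheory.Limits AlgebraicGeometry TopologicalSpace
open Curves

namespace Groth.Agent.S17651

/-- Let k be an algebraically closed field and B a connected scheme, proper over k, of dimension one,
with at-worst-nodal singularities and with H^1(B, O_B) = 0. Let E be a finite locally free
O_B-module generated by its global sections and p a closed point of B, with I_p the ideal sheaf of
functions vanishing at p. Then H^1(B, E ⊗ I_p) = 0; since E is locally free, E ⊗ I_p is the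
submodule I_p E of sections vanishing at p. (The source works over the complex numbers; the
statement and its proof are unchanged over any algebraically closed field.) -/
theorem result (k : Type u) [Field k] [IsAlgClosed k]
    (B : Scheme.{u}) [B.Over (Spec (CommRingCat.of k))] [IsProper (B ↘ Spec (CommRingCat.of k))]
    [ConnectedSpace ↥B] (hdim : topologicalKrullDim ↥B = 1) (hnod : Curv2.AtWorstNodal k B)
    (hg : Subsingleton (Coh.HH B (Coh.structureModule B) 1))
    (E : B.Modules) (hE : FlatMod.IsFinLocFree E) (hgg : Curv2.IsGloballyGenerated E)
    (p : ↥B) (hp : IsClosed ({p} : Set ↥B)) :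
    Subsingleton (Coh.HH B (CohB1.tensorMod E
      (ClSub.idealMod (Scheme.IdealSheafData.vanishingIdeal (⟨{p}, hp⟩ : Closeds ↥B)))) 1) := by
  exact Groth.Curves1.Lipman.subsingleton_h1_gg_tensor k hdim.le hE hgg _
    (Groth.Curves1.Lipman.subsingleton_h1_pointIdeal k hg p hp)

end Groth.Agent.S17651
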