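import Groth.Statements.S17653
import Groth.Agent.Variety2.QuasiFiniteDim
import Groth.Agent.Variety2.IrrFibres

set_option autoImplicit false
universe u
open CategoryTheory CategoryTheory.Limits AlgebraicGeometry TopologicalSpace
open Variety

namespace Groth.Agent.S17653

/-- Suppose X and Y are locally Noetherian schemes of the same pure dimension d (every irreducible
component of X and every irreducible component of Y has topological Krull dimension d), and π : X →
Y is a proper morphism between them. If there is a point x of X which is isolated in its fibre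
π⁻¹(π(x)), i.e. some open neighbourhood of x meets that fibre only in x, then the image of π, with
the subspace topology, has the same dimension as Y. -/
theorem result
    (X Y : Scheme.{u}) [IsLocallyNoetherian X] [IsLocallyNoetherian Y] (π : X ⟶ Y) [IsProper π]
    (d : WithBot ℕ∞) (hX : ∀ Z ∈ irreducibleComponents ↥X, topologicalKrullDim ↥Z = d)
    (hY : ∀ Z ∈ irreducibleComponents ↥Y, topologicalKrullDim ↥Z = d)
    (x : ↥X) (hx : ∃ U : X.Opens, x ∈ U ∧ ∀ x' ∈ U, π x' = π x → x' = x) :
    topologicalKrullDim ↥(Set.range (fun z : ↥X => π z)) = topologicalKrullDim ↥Y := by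
  obtain ⟨U, hxU, hU⟩ := hx
  have hqf : π.QuasiFiniteAt x := by
    rw [Scheme.Hom.quasiFiniteAt_iff_isOpen_singleton_asFiber]
    convert U.2.preimage (π.fiberι (π x)).continuous using 1
    refine Set.eq_of_subset_of_subset (Set.singleton_subset_iff.2 ?_) fun z hz => ?_
    · change π.fiberι (π x) (π.asFiber x) ∈ U
      rw [Scheme.Hom.fiberι_asFiber]; exact hxU
    · refine (π.fiberι (π x)).isEmbedding.injective ?_
      rw [Scheme.Hom.fiberι_asFiber]
      exact hU _ hz ((π.range_fiberι (π x)).le ⟨z, rfl⟩)
  obtain ⟨Z, hZ, ξ, hξZ, -, hξx⟩ := Groth.Variety2.Dim.exists_component_generic x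
  have hξ : π.QuasiFiniteAt ξ := hξx.mem_open π.quasiFiniteLocus.2 hqf
  have hd : (Order.height ξ : WithBot ℕ∞) = d := by
    rw [← hX Z hZ, ← Groth.Variety2.Dim.dim_closure_singleton ξ]
    exact congrArg (fun s : Set X => topologicalKrullDim ↥s) (hξZ : closure {ξ} = Z)
  have hS : IsClosed (Set.range (fun z : X => π z)) := π.isClosedMap.isClosed_range
  rw [Groth.Variety2.Dim.dim_closed hS, Groth.Variety2.Dim.dim_eq_iSup_height]
  refine le_antisymm (iSup₂_le fun y _ => le_iSup (fun y : Y => ((Order.height y : ℕ∞) : WithBot ℕ∞)) y)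
    (iSup_le fun y => ?_)
  obtain ⟨Z', hZ', η, hηZ', -, hηy⟩ := Groth.Variety2.Dim.exists_component_generic y
  have hy : ((Order.height y : ℕ∞) : WithBot ℕ∞) ≤ d := by
    rw [← hY Z' hZ', ← show closure {η} = Z' from hηZ', Groth.Variety2.Dim.dim_closure_singleton η]
    exact WithBot.coe_le_coe.2 (Order.height_mono (Scheme.le_iff_specializes.2 hηy))
  refine hy.trans (hd.symm.trans_le ?_)
  exact le_trans (WithBot.coe_le_coe.2 (Groth.Variety2.Dim.height_le_of_quasiFiniteAt π hξ))
    (le_iSup₂ (f := fun y (_ : y ∈ Set.range (fun z : X => π z)) => ((Order.height y : ℕ∞) : WithBot ℕ∞))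
      (π ξ) ⟨ξ, rfl⟩)

end Groth.Agent.S17653
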