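import Groth.Statements.S17655
import Groth.Agent.Curves2.DefAmple
import Groth.Agent.S10945
import Groth.Agent.PicAux.TensorLift
import Groth.Agent.KTheory.LocFree
-- import your own Groth.Agent.* helpers here

set_option autoImplicit false
universe u
open CategoryTheory CategoryTheory.Limits AlgebraicGeometry TopologicalSpace
attribute [local instance] HasDerivedCategory.standard
open Curves

namespace Groth.Agent.S17655

/-- Let k be an algebraically closed field and B a connected scheme, proper over k, of dimension one,
with at-worst-nodal singularities and H^1(B, O_B) = 0, and let ω_B be its dualizing module over k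
(the cohomology sheaf in degree −1 of the upper-shriek pull-back of O_{Spec k}; the existence of the
upper-shriek functor is assumed). Call a finite locally free O_B-module deformation ample when it is
generated by global sections and H^1(B, E ⊗ ω_B) = 0. If φ : E₁ → E₂ is a morphism of finite locally
free O_B-modules whose cokernel is a torsion module (every point of its support is closed) and E₁ is
deformation ample, then E₂ is deformation ample. (The source states this for a family of prestable
genus-zero curves over an arbitrary base T, with relative global generation and R^1 of the direct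
image in place of global generation and H^1; this is the case T = Spec k of a field base, the
general case needing relative duality not available here. The source also assumes the sheaves
nonzero (positive rank), which the conclusion does not need.) -/
theorem result (k : Type u) [Field k] [IsAlgClosed k]
    (B : Scheme.{u}) [B.Over (Spec (CommRingCat.of k))] [IsProper (B ↘ Spec (CommRingCat.of k))]
    [ConnectedSpace ↥B] (hdim : topologicalKrullDim ↥B = 1) (hnod : Curv2.AtWorstNodal k B)
    (hg : Subsingleton (Coh.HH B (Coh.structureModule B) 1))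
    [DCoh.HasRpush (B ↘ Spec (CommRingCat.of k))] (h : DCoh.RpushPreservesQCoh (B ↘ Spec (CommRingCat.of k))) [DCoh.HasShriek (B ↘ Spec (CommRingCat.of k)) h]
    (OY : DCoh.DQCoh (Spec (CommRingCat.of k))) (hOY : Nonempty (OY.obj ≅ DCoh.inD (Spec (CommRingCat.of k)) (Coh.structureModule (Spec (CommRingCat.of k)))))
    (E₁ E₂ : B.Modules) (hE₁ : FlatMod.IsFinLocFree E₁) (hE₂ : FlatMod.IsFinLocFree E₂) (φ : E₁ ⟶ E₂)
    (htors : ∀ x ∈ CohB1.support (cokernel φ), IsClosed ({x} : Set ↥B))
    (h₁ : (Curv2.IsGloballyGenerated E₁ ∧ Subsingleton (Coh.HH B (CohB1.tensorMod E₁ (DCoh.dualizingMod (B ↘ Spec (CommRingCat.of k)) h OY 1)) 1))) :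
    (Curv2.IsGloballyGenerated E₂ ∧ Subsingleton (Coh.HH B (CohB1.tensorMod E₂ (DCoh.dualizingMod (B ↘ Spec (CommRingCat.of k)) h OY 1)) 1)) := by
  haveI : IsNoetherian B := Groth.EulerDeg.isNoetherian_of_proper k B
  have hd : topologicalKrullDim ↥B ≤ 1 := hdim.le
  obtain ⟨⟨ι, p, hp⟩, hω⟩ := h₁
  have hK : (ShortComplex.mk (Limits.kernel.ι (Limits.cokernel.π φ)) (Limits.cokernel.π φ)
      (Limits.kernel.condition _)).ShortExact :=
    { exact := ShortComplex.exact_of_f_is_kernel _ (Limits.kernelIsKernel _)
      mono_f := inferInstanceAs (Mono (Limits.kernel.ι _))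
      epi_g := inferInstanceAs (Epi (Limits.cokernel.π φ)) }
  have hφ : (ShortComplex.mk φ (Limits.cokernel.π φ) (Limits.cokernel.condition φ)).Exact :=
    ShortComplex.exact_of_g_is_cokernel _ (Limits.cokernelIsCokernel φ)
  have hl : Epi (Limits.kernel.lift (Limits.cokernel.π φ) φ (Limits.cokernel.condition φ)) := hφ.epi_kernelLift
  set l := Limits.kernel.lift (Limits.cokernel.π φ) φ (Limits.cokernel.condition φ)
  refine ⟨Groth.Agent.S10945.result B _ hK ?_ ⟨ι, p ≫ l, ?_⟩ ?_, ?_⟩
  · exact Groth.Curves2.DefAmple.surjective_app_top k hK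
      (@Groth.Curves1.Lipman.subsingleton_h1_of_epi k _ _ _ _ hd _ _ l hl
        (Groth.Curves2.DefAmple.subsingleton_h1_of_gg k hd hg (Groth.KTheory.LocFree.isCoh hE₁) ⟨ι, p, hp⟩))
  · haveI := hp
    exact @epi_comp _ _ _ _ _ p hp l hl
  · refine Groth.Ega2Proj.SpansStalks.isGloballyGenerated fun x => ?_
    rw [eq_top_iff]
    intro v _
    obtain ⟨s, rfl⟩ := Groth.EulerDeg.surjective_germ_top (M := Limits.cokernel φ) htors x v
    exact Submodule.subset_span ⟨s, rfl⟩
  · obtain ⟨b₁, -⟩ := Groth.PicAux.exists_braiding (DCoh.dualizingMod (B ↘ Spec (CommRingCat.of k)) h OY 1) E₁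
    obtain ⟨b₂, -⟩ := Groth.PicAux.exists_braiding E₂ (DCoh.dualizingMod (B ↘ Spec (CommRingCat.of k)) h OY 1)
    refine @Equiv.subsingleton _ _ (Groth.EulerDeg.hEquiv k b₂ 1).toEquiv ?_
    exact Groth.Curves2.DefAmple.subsingleton_h1_middle k hd
      (S := ShortComplex.mk _ _ (Limits.cokernel.condition (KoszTw.tensorMap (𝟙 _) φ)))
      (ShortComplex.exact_of_g_is_cokernel _ (Limits.cokernelIsCokernel _))
      (@Equiv.subsingleton _ _ (Groth.EulerDeg.hEquiv k b₁ 1).toEquiv hω)
      (Groth.EulerDeg.subsingleton_HH_of_supportedAtClosed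
        (Groth.Curves2.DefAmple.supportedAtClosed_cokernel_tensorMap _ φ htors) 1 le_rfl)

end Groth.Agent.S17655
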