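import Groth.Statements.S17656
import Groth.Agent.Curves2.DefAmple
import Groth.Agent.S10945
import Groth.Agent.PicAux.TensorLift
import Groth.Agent.KTheory.LocFree
import Groth.Agent.DerivedCoh.KFlat.Scheme
import Groth.Agent.DerivedCoh.PCoh.Pullback
-- import your own Groth.Agent.* helpers here

set_option autoImplicit false
universe u
open CategoryTheory CategoryTheory.Limits AlgebraicGeometry TopologicalSpace
attribute [local instance] HasDerivedCategory.standard
open Curves

namespace Groth.Agent.S17656

/-- Let k be an algebraically closed field and B a connected scheme, proper over k, of dimension one,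
with at-worst-nodal singularities and H^1(B, O_B) = 0, and let ω_B be its dualizing module over k
(the cohomology sheaf in degree −1 of the upper-shriek pull-back of O_{Spec k}; the existence of the
upper-shriek functor is assumed). Call a finite locally free O_B-module deformation ample when it is
generated by global sections and H^1(B, E ⊗ ω_B) = 0. If 0 → E₁ → E₂ → E₃ → 0 is a short exact
sequence of finite locally free O_B-modules with E₁ and E₃ deformation ample, then E₂ is deformation
ample. (The source states this for a family of prestable genus-zero curves over an arbitrary base T,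
with relative global generation and R^1 of the direct image in place of global generation and H^1;
this is the case T = Spec k of a field base, the general case needing relative duality not available
here. The source also assumes the sheaves nonzero (positive rank), which the conclusion does not
need.) -/
theorem result (k : Type u) [Field k] [IsAlgClosed k]
    (B : Scheme.{u}) [B.Over (Spec (CommRingCat.of k))] [IsProper (B ↘ Spec (CommRingCat.of k))]
    [ConnectedSpace ↥B] (hdim : topologicalKrullDim ↥B = 1) (hnod : Curv2.AtWorstNodal k B)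
    (hg : Subsingleton (Coh.HH B (Coh.structureModule B) 1))
    [DCoh.HasRpush (B ↘ Spec (CommRingCat.of k))] (h : DCoh.RpushPreservesQCoh (B ↘ Spec (CommRingCat.of k))) [DCoh.HasShriek (B ↘ Spec (CommRingCat.of k)) h]
    (OY : DCoh.DQCoh (Spec (CommRingCat.of k))) (hOY : Nonempty (OY.obj ≅ DCoh.inD (Spec (CommRingCat.of k)) (Coh.structureModule (Spec (CommRingCat.of k)))))
    (S : ShortComplex B.Modules) (hS : S.ShortExact)
    (hE₁ : FlatMod.IsFinLocFree S.X₁) (hE₂ : FlatMod.IsFinLocFree S.X₂) (hE₃ : FlatMod.IsFinLocFree S.X₃)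
    (h₁ : (Curv2.IsGloballyGenerated S.X₁ ∧ Subsingleton (Coh.HH B (CohB1.tensorMod S.X₁ (DCoh.dualizingMod (B ↘ Spec (CommRingCat.of k)) h OY 1)) 1))) (h₃ : (Curv2.IsGloballyGenerated S.X₃ ∧ Subsingleton (Coh.HH B (CohB1.tensorMod S.X₃ (DCoh.dualizingMod (B ↘ Spec (CommRingCat.of k)) h OY 1)) 1))) :
    (Curv2.IsGloballyGenerated S.X₂ ∧ Subsingleton (Coh.HH B (CohB1.tensorMod S.X₂ (DCoh.dualizingMod (B ↘ Spec (CommRingCat.of k)) h OY 1)) 1)) := by
  haveI : IsNoetherian B := Groth.EulerDeg.isNoetherian_of_proper k B
  have hd : topologicalKrullDim ↥B ≤ 1 := hdim.le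
  refine ⟨Groth.Agent.S10945.result B S hS (Groth.Curves2.DefAmple.surjective_app_top k hS
    (Groth.Curves2.DefAmple.subsingleton_h1_of_gg k hd hg (Groth.KTheory.LocFree.isCoh hE₁) h₁.1))
    h₁.1 h₃.1, ?_⟩
  set W := DCoh.dualizingMod (B ↘ Spec (CommRingCat.of k)) h OY 1
  obtain ⟨b₁, -⟩ := Groth.PicAux.exists_braiding W S.X₁
  obtain ⟨b₂, -⟩ := Groth.PicAux.exists_braiding S.X₂ W
  obtain ⟨b₃, -⟩ := Groth.PicAux.exists_braiding W S.X₃
  have hT := Groth.DerivedCoh.KFlat.shortExact_tensor_of_flat₃ S hS
    (Groth.DerivedCoh.PCoh.isFlat_of_isFinLocFree hE₃) W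
  refine @Equiv.subsingleton _ _ (Groth.EulerDeg.hEquiv k b₂ 1).toEquiv ?_
  haveI := hT.epi_g
  exact Groth.Curves2.DefAmple.subsingleton_h1_middle k hd hT.exact
      (@Equiv.subsingleton _ _ (Groth.EulerDeg.hEquiv k b₁ 1).toEquiv h₁.2)
      (@Equiv.subsingleton _ _ (Groth.EulerDeg.hEquiv k b₃ 1).toEquiv h₃.2)

end Groth.Agent.S17656
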