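import Groth.Statements.S17658
-- import your own Groth.Agent.* helpers here

set_option autoImplicit false
universe u
open Surf

namespace Groth.Agent.S17658

open MvPolynomial in
lemma span_monomial_le_of_degree {σ : Type*} {k : Type u} [Field k] (mo : MonomialOrder σ)
    (s : Set (σ →₀ ℕ)) (Z : Submodule k (MvPolynomial σ k))
    (hZs : ∀ z ∈ Z, ∀ e ∈ z.support, e ∈ s)
    (h : ∀ e ∈ s, ∃ z ∈ Z, z ≠ 0 ∧ mo.degree z = e) :
    ∀ e ∈ s, monomial e (1 : k) ∈ Z := by
  classical
  have : WellFoundedLT mo.syn := mo.wellFoundedLT_syn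
  suffices H : ∀ x : mo.syn, ∀ e, mo.toSyn e = x → e ∈ s → monomial e (1 : k) ∈ Z from
    fun e hes => H _ e rfl hes
  intro x
  induction x using WellFoundedLT.induction with
  | _ x ih =>
    intro e he hes
    obtain ⟨z, hzZ, hz0, hzd⟩ := h e hes
    have hsum : ∑ e' ∈ z.support.erase e, monomial e' (coeff e' z) ∈ Z := by
      refine Z.sum_mem (fun e' he' => ?_)
      obtain ⟨hne, hmem⟩ := Finset.mem_erase.mp he'
      have hlt : mo.toSyn e' < x := by
        rw [← he]
        refine lt_of_le_of_ne ?_ (fun heq => hne (mo.toSyn.injective heq))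
        rw [← hzd]
        exact mo.le_degree_of_mem_support hmem
      have := Z.smul_mem (coeff e' z) (ih _ hlt e' rfl (hZs z hzZ e' hmem))
      rwa [smul_monomial, smul_eq_mul, mul_one] at this
    have hc : coeff e z ≠ 0 := by rw [← hzd]; exact (mo.coeff_degree_ne_zero_iff).mpr hz0
    have hmem : e ∈ z.support := mem_support_iff.mpr hc
    have htop : monomial e (coeff e z) ∈ Z := by
      have h2 := Finset.add_sum_erase z.support (fun e' => monomial e' (coeff e' z)) hmem
      rw [← as_sum] at h2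
      rw [eq_sub_of_add_eq h2]
      exact Z.sub_mem hzZ hsum
    have := Z.smul_mem (coeff e z)⁻¹ htop
    rwa [smul_monomial, smul_eq_mul, inv_mul_cancel₀ hc] at this

open MvPolynomial in
lemma support_subset_of_mem_span {σ : Type*} {k : Type u} [Field k] (P : (σ →₀ ℕ) → Prop)
    {z : MvPolynomial σ k}
    (hz : z ∈ Submodule.span k {f : MvPolynomial σ k | ∃ e, P e ∧ f = monomial e 1}) :
    ∀ e ∈ z.support, P e := by
  classical
  induction hz using Submodule.span_induction with
  | mem f hf =>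
    obtain ⟨e, he, rfl⟩ := hf
    intro e' he'
    rw [support_monomial, if_neg one_ne_zero, Finset.mem_singleton] at he'
    exact he' ▸ he
  | zero => simp
  | add f g _ _ hf hg =>
    intro e he
    rcases Finset.mem_union.mp (support_add he) with h | h
    · exact hf e h
    · exact hg e h
  | smul c f _ hf => exact fun e he => hf e (Finsupp.support_smul he)

/-- In the polynomial ring k[T₀,T₁,U,V] over a field k, bigraded by deg T₀ = deg T₁ = (0,1), deg U =
(1,−1), deg V = (1,0) (the Cox ring of the Hirzebruch surface F₁; its piece of bidegree (a,b) is the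
space of sections of O(a(E+F)+bF)), let S_(a,b) denote the k-span of the monomials of bidegree
(a,b), so that S_(0,c) is the space of forms of degree c in T₀, T₁. A subspace W ⊆ S_(a,b) is called
c-generating when W·S_(0,c) = S_(a,b+c). Fix a monomial order and natural numbers a, b, c, and let
W₀(a,b,c) be the set of monomials U^i V^(a−i) T₀^(b+i−j(c+1)) T₁^(j(c+1)) with 0 ≤ i ≤ a, j ≥ 0 and
j(c+1) < b+i, together with the monomials U^i V^(a−i) T₁^(b+i) with 0 ≤ i ≤ a. If every monomial of
W₀(a,b,c) is the leading monomial of some nonzero element of W, then W is c-generating. (The source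
fixes the graded lexicographic order with U > V > T₀ > T₁ and works over the complex numbers; its
argument uses only that leading monomials are multiplicative and that W₀(a,b,c)·S_(0,c) contains
every monomial of S_(a,b+c), so any monomial order and any field are allowed here. The printed index
j runs from 1; with that range the statement fails already for a = 0, b = c = 1 and W spanned by T₁,
and the range from 0 used here is the one matching the accompanying dimension count.) Variables are
indexed T₀ = 0, T₁ = 1, U = 2, V = 3. -/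
theorem result (k : Type u) [Field k]
    (mo : MonomialOrder (Fin 4)) (a b c : ℕ) (W : Submodule k (MvPolynomial (Fin 4) k))
    (hW : W ≤ Submodule.span k {f : MvPolynomial (Fin 4) k | ∃ e : Fin 4 →₀ ℕ, e 2 + e 3 = a ∧ e 0 + e 1 = b + e 2 ∧ f = MvPolynomial.monomial e 1})
    (h₁ : ∀ i j : ℕ, i ≤ a → j * (c + 1) < b + i → ∃ w ∈ W, w ≠ 0 ∧
      mo.degree w = Finsupp.single 0 (b + i - j * (c + 1)) + Finsupp.single 1 (j * (c + 1)) +
        Finsupp.single 2 i + Finsupp.single 3 (a - i))
    (h₂ : ∀ i : ℕ, i ≤ a → ∃ w ∈ W, w ≠ 0 ∧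
      mo.degree w = Finsupp.single 1 (b + i) + Finsupp.single 2 i + Finsupp.single 3 (a - i)) :
    W * Submodule.span k {f : MvPolynomial (Fin 4) k | ∃ e : Fin 4 →₀ ℕ, e 2 + e 3 = 0 ∧ e 0 + e 1 = c + e 2 ∧ f = MvPolynomial.monomial e 1} =
      Submodule.span k {f : MvPolynomial (Fin 4) k | ∃ e : Fin 4 →₀ ℕ, e 2 + e 3 = a ∧ e 0 + e 1 = (b + c) + e 2 ∧ f = MvPolynomial.monomial e 1} := by
  classical
  have hand : ∀ a' b' : ℕ,
      {f : MvPolynomial (Fin 4) k | ∃ e : Fin 4 →₀ ℕ, e 2 + e 3 = a' ∧ e 0 + e 1 = b' + e 2 ∧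
        f = MvPolynomial.monomial e 1} =
      {f : MvPolynomial (Fin 4) k | ∃ e : Fin 4 →₀ ℕ, (e 2 + e 3 = a' ∧ e 0 + e 1 = b' + e 2) ∧
        f = MvPolynomial.monomial e 1} := by
    intro a' b'; simp [and_assoc]
  rw [hand a b] at hW
  rw [hand 0 c, hand a (b + c)]
  apply le_antisymm
  · refine (mul_le_mul_left hW _).trans ?_
    rw [Submodule.span_mul_span]
    refine Submodule.span_mono ?_
    rintro _ ⟨_, ⟨e, ⟨he1, he2⟩, rfl⟩, _, ⟨e', ⟨he1', he2'⟩, rfl⟩, rfl⟩
    refine ⟨e + e', ⟨?_, ?_⟩, by simp⟩ <;>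
      simp only [Finsupp.add_apply] <;> omega
  · rw [Submodule.span_le]
    rintro _ ⟨e, he, rfl⟩
    refine span_monomial_le_of_degree mo
      {e : Fin 4 →₀ ℕ | e 2 + e 3 = a ∧ e 0 + e 1 = (b + c) + e 2} _ ?_ ?_ e he
    · intro z hz e' he'
      have hz' := (mul_le_mul_left hW _) hz
      rw [Submodule.span_mul_span] at hz'
      refine support_subset_of_mem_span (fun e => e 2 + e 3 = a ∧ e 0 + e 1 = (b + c) + e 2)
        (Submodule.span_mono ?_ hz') e' he'
      rintro _ ⟨_, ⟨e, ⟨he1, he2⟩, rfl⟩, _, ⟨e', ⟨he1', he2'⟩, rfl⟩, rfl⟩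
      refine ⟨e + e', ⟨?_, ?_⟩, by simp⟩ <;>
        simp only [Finsupp.add_apply] <;> omega
    · rintro e ⟨he1, he2⟩
      obtain ⟨w, hwW, hw0, m, hwd, hm2, hm3, hm01, hm0, hm1⟩ :
          ∃ w ∈ W, w ≠ 0 ∧ ∃ m : Fin 4 →₀ ℕ, mo.degree w = m ∧ m 2 = e 2 ∧ m 3 = e 3 ∧
            m 0 + m 1 = b + e 2 ∧ m 0 ≤ e 0 ∧ m 1 ≤ e 1 := by
        by_cases hbig : b + e 2 ≤ e 1
        · obtain ⟨w, hw, hw0, hwd⟩ := h₂ (e 2) (by omega)
          refine ⟨w, hw, hw0, _, hwd, ?_⟩
          simp [Finsupp.single_apply]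
          omega
        · have hj : e 1 / (c + 1) * (c + 1) ≤ e 1 := Nat.div_mul_le_self _ _
          have hj2 : e 1 < e 1 / (c + 1) * (c + 1) + (c + 1) :=
            Nat.lt_div_mul_add (by omega : 0 < c + 1)
          obtain ⟨w, hw, hw0, hwd⟩ := h₁ (e 2) (e 1 / (c + 1)) (by omega) (by omega)
          refine ⟨w, hw, hw0, _, hwd, ?_⟩
          simp [Finsupp.single_apply]
          omega
      have hle : m ≤ e := by
        intro v
        fin_cases v <;> simp_all
      refine ⟨w * MvPolynomial.monomial (e - m) 1, Submodule.mul_mem_mul hwW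
        (Submodule.subset_span ⟨e - m, ⟨?_, ?_⟩, rfl⟩), ?_, ?_⟩
      · simp only [Finsupp.tsub_apply]; omega
      · simp only [Finsupp.tsub_apply]; omega
      · exact mul_ne_zero hw0 (by simp)
      · rw [mo.degree_mul hw0 (by simp), hwd, MonomialOrder.degree_monomial, if_neg one_ne_zero,
          add_tsub_cancel_of_le hle]

end Groth.Agent.S17658
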