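import Groth.Statements.S1767
import Groth.Agent.Misc4.QCohCd
-- import your own Groth.Agent.* helpers here

set_option autoImplicit false
universe u
open CategoryTheory CategoryTheory.Limits AlgebraicGeometry
attribute [local instance] HasDerivedCategory.standard
open Dual

namespace Groth.Agent.S1767

/-- Let f : X → Y be a morphism between quasi-compact quasi-separated schemes. Assume the derived direct
image Rf_* exists and preserves quasi-coherence of cohomology sheaves (both known results), so that
it restricts to a functor D_QCoh(O_X) → D_QCoh(O_Y), and let a : D_QCoh(O_Y) → D_QCoh(O_X) be a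
right adjoint of this restricted functor. Then there is an integer N ≥ 0 such that for every K in
D_QCoh(O_Y) and every integer c, if H^i(K) = 0 for all i ≤ c then H^i(a(K)) = 0 for all i ≤ c − N;
in particular a sends bounded-below objects to bounded-below objects. -/
theorem result (X Y : Scheme.{u}) [CompactSpace X] [QuasiSeparatedSpace X] [CompactSpace Y] [QuasiSeparatedSpace Y] (f : X ⟶ Y) [DCoh.HasRpush f] (h : ∀ K : DCoh.D X, DCoh.IsQCohD K → DCoh.IsQCohD ((DCoh.Rpush f).obj K)) (a : DCoh.DQCoh Y ⥤ DCoh.DQCoh X) (adj : (ObjectProperty.lift DCoh.IsQCohD (ObjectProperty.ι DCoh.IsQCohD ⋙ DCoh.Rpush f) (fun K => h K.obj K.property)) ⊣ a) : ∃ N : ℕ, ∀ (K : DCoh.DQCoh Y) (c : ℤ), (∀ i : ℤ, i ≤ c → IsZero (DCoh.HD K.obj i)) → ∀ i : ℤ, i ≤ c - N → IsZero (DCoh.HD (a.obj K).obj i) := by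
  obtain ⟨N, hN, hb⟩ := Groth.Misc4.QCohCd.exists_isZero_HD f
  refine ⟨N.toNat, fun K c hK i hi => ?_⟩
  have hN' : ((N.toNat : ℕ) : ℤ) = N := Int.toNat_of_nonneg hN
  obtain ⟨A, B, hA, hB, α, β, γ, hT⟩ :=
    DerivedCategory.TStructure.t.exists_triangle (a.obj K).obj (c - N) (c - N + 1) rfl
  haveI : DerivedCategory.IsLE A (c - N) := ⟨hA⟩
  haveI : DerivedCategory.IsGE B (c - N + 1) := ⟨hB⟩
  have hiso : ∀ j : ℤ, j ≤ c - N → IsIso ((DerivedCategory.homologyFunctor X.Modules j).map α) := by
    intro j hj
    have h1 : Mono ((DerivedCategory.homologyFunctor X.Modules j).map α) := by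
      refine (DerivedCategory.HomologySequence.mono_homologyMap_mor₁_iff (Pretriangulated.Triangle.mk α β γ) hT (j - 1) j).2 ?_
      exact (DerivedCategory.isZero_of_isGE B (c - N + 1) (j - 1) (by omega)).eq_of_src _ _
    have h2 : Epi ((DerivedCategory.homologyFunctor X.Modules j).map α) :=
      (DerivedCategory.HomologySequence.epi_homologyMap_mor₁_iff (Pretriangulated.Triangle.mk α β γ) hT j).2
        ((DerivedCategory.isZero_of_isGE B (c - N + 1) j (by omega)).eq_of_tgt _ _)
    exact isIso_of_mono_of_epi _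
  have hAq : DCoh.IsQCohD A := by
    intro j
    by_cases hj : j ≤ c - N
    · haveI := hiso j hj
      exact (SheafOfModules.isQuasicoherent (R := X.ringCatSheaf)).prop_of_iso
        (asIso ((DerivedCategory.homologyFunctor X.Modules j).map α)).symm ((a.obj K).property j)
    · exact Groth.Misc4.QCohDPerf.isQCoh_isZero (DerivedCategory.isZero_of_isLE A (c - N) j (by omega))
  haveI : DerivedCategory.IsLE ((DCoh.Rpush f).obj A) c :=
    (DerivedCategory.isLE_iff _ c).2 fun m hm => hb A hAq (c - N) inferInstance m (by omega)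
  haveI : DerivedCategory.IsGE K.obj (c + 1) :=
    (DerivedCategory.isGE_iff _ _).2 fun j hj => hK j (by omega)
  have h0 : ∀ φ : (⟨A, hAq⟩ : DCoh.DQCoh X) ⟶ a.obj K, φ = 0 := fun φ => by
    apply (adj.homEquiv _ _).symm.injective
    refine ObjectProperty.hom_ext _ ?_
    have key : ∀ ψ : (DCoh.Rpush f).obj A ⟶ K.obj, ψ = 0 := fun ψ =>
      DerivedCategory.TStructure.t.zero ψ c (c + 1)
    exact (key _).trans (key _).symm
  have hz : α = 0 := congrArg InducedCategory.Hom.hom (h0 (ObjectProperty.homMk α))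
  haveI := hiso i (by omega)
  rw [IsZero.iff_id_eq_zero, ← IsIso.inv_hom_id ((DerivedCategory.homologyFunctor X.Modules i).map α)]
  simp [hz]

end Groth.Agent.S1767
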