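import Groth.Statements.S17677
-- import your own Groth.Agent.* helpers here

set_option autoImplicit false
universe u
open Hoch

namespace Groth.Agent.S17677

/-- Let k be a commutative ring, M a commutative monoid and V a right comodule over the monoid bialgebra
k[M] (a quasi-coherent module with an action of the diagonalizable monoid scheme Spec k[M]). Then
every 1-cocycle of the Hochschild complex of V is a 1-coboundary, i.e. the first Hochschild
cohomology module of the diagonalizable monoid with coefficients in V is zero. (The source works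
over an algebraic space with M finitely generated and cancellative, hypotheses it uses only to
identify modules under the monoid with comodules; the cocycle computation, which is the affine
statement given here, uses neither.) -/
theorem result (k : Type u) [CommRing k] (M : Type u)
    [AddCommMonoid M] (V : Type u) [AddCommGroup V] [Module k V]
    [HopfRep.Comod k (AddMonoidAlgebra k M) V] :
    Hoch.cocycles k (AddMonoidAlgebra k M) V 1 ≤ Hoch.coboundaries k (AddMonoidAlgebra k M) V 1 := by
  classical
  let A := AddMonoidAlgebra k M
  let e0 : A →ₗ[k] k := Finsupp.lapply (0 : M) ∘ₗ (AddMonoidAlgebra.coeffLinearEquiv k).toLinearMap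
  let G : TensorProduct k V A →ₗ[k] V := (TensorProduct.rid k V).toLinearMap ∘ₗ e0.lTensor V
  let F : TensorProduct k (TensorProduct k V A) A →ₗ[k] TensorProduct k V A :=
    (TensorProduct.rid k (TensorProduct k V A)).toLinearMap ∘ₗ e0.lTensor (TensorProduct k V A)
  have key : F ∘ₗ Hoch.d k A V 1 = LinearMap.id + Hoch.d k A V 0 ∘ₗ G := by
    refine TensorProduct.ext' fun v b => ?_
    have hG : ∀ (w : V) (c : A), G (w ⊗ₜ[k] c) = e0 c • w := fun w c => by simp [G]
    have hF : ∀ (x : TensorProduct k V A) (c : A), F (x ⊗ₜ[k] c) = e0 c • x := fun x c => by simp [F]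
    have hc : ∀ z : TensorProduct k A A, F ((TensorProduct.assoc k V A A).symm (v ⊗ₜ z)) =
        v ⊗ₜ[k] ((TensorProduct.rid k A) (e0.lTensor A z)) := by
      intro z
      induction z using TensorProduct.induction_on with
      | zero => simp
      | tmul x y => simp [hF, TensorProduct.tmul_smul]
      | add x y hx hy => simp only [TensorProduct.tmul_add, map_add, hx, hy]
    have h1 : e0 (1 : A) = 1 := by
      show (AddMonoidAlgebra.single (0 : M) (1 : k)).coeff 0 = 1
      simp
    have hΔ : (TensorProduct.rid k A).toLinearMap ∘ₗ e0.lTensor A ∘ₗ Coalgebra.comul (R := k) =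
        (LinearMap.toSpanSingleton k A 1) ∘ₗ e0 := by
      ext m
      simp [A, e0, AddMonoidAlgebra.one_def, AddMonoidAlgebra.comul_single]
      by_cases hm : m = 0 <;> simp [hm]
    have hΔb := LinearMap.congr_fun hΔ b
    simp only [LinearMap.comp_apply, LinearEquiv.coe_coe, LinearMap.toSpanSingleton_apply] at hΔb
    show F ((Hoch.d k A V 0).rTensor A (v ⊗ₜ b) + ((-1 : k) ^ 1) • Hoch.tail k A V (v ⊗ₜ b)) =
      v ⊗ₜ b + Hoch.d k A V 0 (G (v ⊗ₜ b))
    rw [map_add, map_smul, Hoch.tail_tmul, hc, LinearMap.rTensor_tmul, hF, hG, map_smul, Hoch.d_zero_apply]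
    simp only [map_sub, hΔb, LinearMap.lTensor_tmul, TensorProduct.rid_tmul, h1, one_smul,
      TensorProduct.tmul_sub, TensorProduct.tmul_smul, smul_sub, pow_one]
    module
  intro c hc
  refine ⟨-G c, ?_⟩
  have h := LinearMap.congr_fun key c
  simp only [LinearMap.comp_apply, LinearMap.mem_ker.mp hc, map_zero, LinearMap.add_apply,
    LinearMap.id_coe, id_eq] at h
  exact (map_neg (Hoch.d k A V 0) (G c)).trans (neg_eq_of_add_eq_zero_left (h.symm.trans ((congrArg F hc).trans (map_zero F))))

end Groth.Agent.S17677
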