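import Groth.Statements.S17678
-- import your own Groth.Agent.* helpers here

set_option autoImplicit false
universe u v
open DiagMon

namespace Groth.Agent.S17678

/-- Let R be a commutative ring and N an abelian group. Then the ring map R[N] → R[N × N] of monoid
algebras induced by the diagonal n ↦ (n, n), which is the comorphism of the multiplication morphism
of the diagonalizable group scheme Spec R[N] over Spec R, is flat. (The published statement asserts
flatness for every cancellative commutative monoid N, on the ground that N acts freely on N × N
through the diagonal; but for the submonoid N of the natural numbers generated by 2 and 3, the pairs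
(x, x − 1) with x ≥ 3 form one orbit class that is not a free orbit, and the corresponding direct
summand of k[N × N] is the ideal t³k[t] viewed as a module over k[t², t³], which is not flat. The
statement is therefore given for groups, where N × N is a free N-set with basis the pairs (0, b).) -/
theorem result (R : Type u) [CommRing R] (N : Type v)
    [AddCommGroup N] :
    (AddMonoidAlgebra.mapDomainRingHom R ((AddMonoidHom.id N).prod (AddMonoidHom.id N))).Flat := by
  let sh : N × N ≃+ N × N :=
    { toFun := fun p => (p.1 + p.2, p.2)
      invFun := fun p => (p.1 - p.2, p.2)
      left_inv := fun p => by simp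
      right_inv := fun p => by simp
      map_add' := fun p q => Prod.ext (add_add_add_comm _ _ _ _) rfl }
  let e := (AddMonoidAlgebra.curryAlgEquiv R (A := R) (M := N) (N := N)).symm.trans (AddMonoidAlgebra.domCongr R R sh)
  have hflat : (AddMonoidAlgebra.singleZeroRingHom :
      AddMonoidAlgebra R N →+* AddMonoidAlgebra (AddMonoidAlgebra R N) N).Flat := by
    show (algebraMap (AddMonoidAlgebra R N) (AddMonoidAlgebra (AddMonoidAlgebra R N) N)).Flat
    rw [RingHom.flat_algebraMap_iff]
    infer_instance
  have heq : AddMonoidAlgebra.mapDomainRingHom R ((AddMonoidHom.id N).prod (AddMonoidHom.id N)) =
      e.toRingEquiv.toRingHom.comp AddMonoidAlgebra.singleZeroRingHom := by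
    apply AddMonoidAlgebra.ringHom_ext
    · intro r
      simp [e, sh]
    · intro n
      simp [e, sh]
  rw [heq]
  exact hflat.comp (RingHom.Flat.of_bijective e.toRingEquiv.bijective)

end Groth.Agent.S17678
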