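import Groth.Statements.S17679
import Mathlib.LinearAlgebra.Dimension.OrzechProperty
import Mathlib.RingTheory.Noetherian.Orzech
import Mathlib.LinearAlgebra.Dimension.Constructions
import Mathlib.LinearAlgebra.Dimension.StrongRankCondition
import Mathlib.RingTheory.PrincipalIdealDomain
import Mathlib.LinearAlgebra.FreeModule.StrongRankCondition
-- import your own Groth.Agent.* helpers here

set_option autoImplicit false
open DiagMon

namespace Groth.Agent.S17679

/-- For n ≥ 1 the minimal number of generators of ℤ^n as an additive monoid is n + 1: some n + 1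
elements generate ℤ^n as a monoid, and every finite set generating ℤ^n as a monoid has at least n +
1 elements. (For n = 0 the empty set generates the zero monoid, so the count n + 1 is stated for n ≥
1 only.) -/
theorem result (n : ℕ) (hn : 1 ≤ n) :
    (∃ s : Finset (Fin n → ℤ), s.card = n + 1 ∧ AddSubmonoid.closure (s : Set (Fin n → ℤ)) = ⊤) ∧
    ∀ s : Finset (Fin n → ℤ), AddSubmonoid.closure (s : Set (Fin n → ℤ)) = ⊤ → n + 1 ≤ s.card := by
  classical
  let e : Fin n → Fin n → ℤ := fun i => Pi.single i 1
  let e' : Fin (n + 1) → Fin n → ℤ := Fin.cases (fun _ => -1) e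
  have he' : Function.Injective e' := by
    intro i j h
    induction i using Fin.cases with
    | zero =>
      induction j using Fin.cases with
      | zero => rfl
      | succ j => exact absurd (congrFun h j) (by simp [e', e])
    | succ i =>
      induction j using Fin.cases with
      | zero => exact absurd (congrFun h i) (by simp [e', e])
      | succ j =>
        refine congrArg Fin.succ ?_
        by_contra hij
        exact absurd (congrFun h i) (by simp [e', e, hij])
  constructor
  · refine ⟨Finset.univ.image e', by rw [Finset.card_image_of_injective _ he']; simp, ?_⟩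
    refine eq_top_iff.mpr fun v _ => ?_
    set C := AddSubmonoid.closure ((Finset.univ.image e' : Finset (Fin n → ℤ)) : Set (Fin n → ℤ))
    have hmem : ∀ j, e' j ∈ C := fun j => AddSubmonoid.subset_closure (by simp)
    obtain ⟨t, ht⟩ : ∃ t : ℕ, ∀ i, 0 ≤ v i + t :=
      ⟨∑ i, (v i).natAbs, fun i => by
        have : (v i).natAbs ≤ ∑ i, (v i).natAbs :=
          Finset.single_le_sum (f := fun i => (v i).natAbs) (fun _ _ => zero_le) (Finset.mem_univ i)
        omega⟩
    have hv : v = t • e' 0 + ∑ i, (v i + t).toNat • e' i.succ := by
      funext j
      simp [e', e, Finset.sum_apply, Pi.single_apply]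
      have := ht j
      omega
    rw [hv]
    exact C.add_mem (C.nsmul_mem (hmem _) _) (C.sum_mem fun i _ => C.nsmul_mem (hmem _) _)
  · intro s hs
    by_contra! hlt
    have hspan : ⊤ ≤ Submodule.span ℤ (Set.range (Subtype.val : s → Fin n → ℤ)) := by
      intro v _
      have hv : v ∈ AddSubmonoid.closure (s : Set (Fin n → ℤ)) := hs ▸ trivial
      rw [Subtype.range_coe_subtype]
      exact (AddSubmonoid.closure_le (S := (Submodule.span ℤ (s : Set (Fin n → ℤ))).toAddSubmonoid)).mpr
        Submodule.subset_span hv
    have hcard : s.card = n := by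
      refine le_antisymm (Nat.lt_succ_iff.mp hlt) ?_
      have h := finrank_range_le_card (R := ℤ) (Subtype.val : s → Fin n → ℤ)
      rw [Set.finrank, top_le_iff.mp hspan, finrank_top, Module.finrank_pi, Fintype.card_fin, Fintype.card_coe] at h
      exact h
    have hli : LinearIndependent ℤ (Subtype.val : s → Fin n → ℤ) :=
      _root_.linearIndependent_of_top_le_span_of_card_eq_finrank hspan (by simpa using hcard)
    let b := Module.Basis.mk hli hspan
    obtain ⟨g, hg⟩ : s.Nonempty := Finset.card_pos.mp (by omega)
    have hnn : ∀ v ∈ AddSubmonoid.closure (s : Set (Fin n → ℤ)), 0 ≤ b.repr v ⟨g, hg⟩ := by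
      intro v hv
      induction hv using AddSubmonoid.closure_induction with
      | mem x hx =>
        have : b.repr x = Finsupp.single ⟨x, hx⟩ 1 := by
          rw [← b.repr_self ⟨x, hx⟩, Module.Basis.mk_apply]
        rw [this, Finsupp.single_apply]
        split <;> norm_num
      | zero => simp
      | add x y _ _ hx hy => simp only [map_add, Finsupp.add_apply]; omega
    have h := hnn (-g) (hs ▸ trivial)
    have : b.repr g = Finsupp.single ⟨g, hg⟩ 1 := by
      rw [← b.repr_self ⟨g, hg⟩, Module.Basis.mk_apply]
    simp [this] at h

end Groth.Agent.S17679
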