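import Groth.Statements.S17681
import Groth.Agent.AlgGrp1.Geom
import Groth.Agent.AlgGrp1.Act
import Groth.Prelude.Def_Red
-- import your own Groth.Agent.* helpers here

set_option autoImplicit false
universe u
open CategoryTheory MonoidalCategory CartesianMonoidalCategory MonObj GrpObj AlgebraicGeometry
open AlgGrp

namespace Groth.Agent.S17681

/-- The locus where two morphisms with the same composite to a scheme with open diagonal agree. -/
lemma exists_agree_open {W X Y : Scheme.{u}} (f : X ⟶ Y) [IsOpenImmersion (Limits.pullback.diagonal f)]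
    (A B : W ⟶ X) (h : A ≫ f = B ≫ f) :
    ∃ U : W.Opens, U.ι ≫ A = U.ι ≫ B ∧ ∀ ⦃Q : Scheme.{u}⦄ (q : Q ⟶ W), q ≫ A = q ≫ B → ∀ z, q z ∈ U := by
  let l := Limits.pullback.lift A B h
  let U : W.Opens := l ⁻¹ᵁ (Limits.pullback.diagonal f).opensRange
  refine ⟨U, ?_, fun Q q hq z => ?_⟩
  · let m := IsOpenImmersion.lift (Limits.pullback.diagonal f) (U.ι ≫ l) (by
      rintro _ ⟨z, rfl⟩
      exact z.2)
    have hm : m ≫ Limits.pullback.diagonal f = U.ι ≫ l := IsOpenImmersion.lift_fac _ _ _
    have h1 := congrArg (· ≫ Limits.pullback.fst f f) hm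
    have h2 := congrArg (· ≫ Limits.pullback.snd f f) hm
    simp only [l, Category.assoc, Limits.pullback.lift_fst, Limits.pullback.lift_snd,
      Limits.pullback.diagonal_fst, Limits.pullback.diagonal_snd, Category.comp_id] at h1 h2
    exact h1.symm.trans h2
  · show l (q z) ∈ Set.range (Limits.pullback.diagonal f)
    refine ⟨(q ≫ A) z, ?_⟩
    have e : (q ≫ A) ≫ Limits.pullback.diagonal f = q ≫ l := by
      apply Limits.pullback.hom_ext
      · rw [Category.assoc, Limits.pullback.diagonal_fst, Category.comp_id, Category.assoc,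
          Limits.pullback.lift_fst A B h]
      · rw [Category.assoc, Limits.pullback.diagonal_snd, Category.comp_id, Category.assoc,
          Limits.pullback.lift_snd A B h, hq]
    rw [← Scheme.Hom.comp_apply, e]
    rfl

/-- Fibres of a group scheme with connected fibres are irreducible over every field. -/
lemma irreducibleSpace_tensor {S : Scheme.{u}} (G P : Over S) [GrpObj G] [LocallyOfFiniteType G.hom]
    [QuasiCompact G.hom] (hconn : ∀ s : S, ConnectedSpace (G.hom.fiber s)) {K : Type u} [Field K]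
    (s : S) (ψ : Spec (CommRingCat.of K) ⟶ Spec (S.residueField s)) (e : Spec (CommRingCat.of K) ≅ P.left)
    (hψ : ψ ≫ S.fromSpecResidueField s = e.hom ≫ P.hom) : IrreducibleSpace (G ⊗ P).left := by
  let F : Over (Spec (CommRingCat.of (S.residueField s))) := Red.bc (S.fromSpecResidueField s) G
  have : LocallyOfFiniteType F.hom := inferInstanceAs (LocallyOfFiniteType (Limits.pullback.snd _ _))
  have : QuasiCompact F.hom := inferInstanceAs (QuasiCompact (Limits.pullback.snd _ _))
  have : ConnectedSpace F.left := hconn s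
  have hF := Groth.AlgGrp1.geometricallyIrreducible_of_connected F
  have h0 : IrreducibleSpace ↥(Limits.pullback F.hom ψ) :=
    hF.geometrically_irreducibleSpace ψ (Limits.pullback.fst F.hom ψ) (Limits.pullback.snd F.hom ψ)
      (CategoryTheory.IsPullback.of_hasPullback _ _)
  have h1 : IsPullback (Limits.pullback.fst F.hom ψ ≫ Limits.pullback.fst G.hom (S.fromSpecResidueField s))
      (Limits.pullback.snd F.hom ψ ≫ e.hom) G.hom P.hom := by
    have h2 := ((CategoryTheory.IsPullback.of_hasPullback F.hom ψ).paste_horiz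
      (CategoryTheory.IsPullback.of_hasPullback G.hom (S.fromSpecResidueField s)))
    refine h2.of_iso (Iso.refl _) (Iso.refl _) e (Iso.refl _) ?_ ?_ ?_ ?_
    · simp
    · simp
    · simp
    · simp [hψ]
  let φ := Scheme.homeoOfIso h1.isoPullback
  have : IrreducibleSpace ↥(Limits.pullback G.hom P.hom) := by
    rw [irreducibleSpace_def, Set.top_eq_univ, ← φ.surjective.range_eq, ← Set.image_univ]
    exact (IrreducibleSpace.isIrreducible_univ _).image _ φ.continuous.continuousOn
  exact this

/-- Let S be a scheme, G a flat S-group scheme of finite presentation with connected fibres, X and Y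
S-schemes locally of finite presentation with actions of G, and f : X → Y an étale G-equivariant
S-morphism; assume that S is locally Noetherian or that X and Y are quasi-separated over S. Then f
reflects fixed points: a T-point x of X whose image in Y is fixed by G after every base change T' →
T is itself fixed by G after every base change, so that the fixed-point subfunctor of X is the
preimage of that of Y. (The source allows X and Y to be algebraic spaces over S; this row is the
case of schemes.) -/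
theorem result (S : Scheme.{u})
    (G : Over S) [GrpObj G] [Flat G.hom] [LocallyOfFinitePresentation G.hom] [QuasiCompact G.hom]
    [QuasiSeparated G.hom] (hconn : ∀ s : S, ConnectedSpace (G.hom.fiber s))
    (X Y : Over S) [LocallyOfFinitePresentation X.hom] [LocallyOfFinitePresentation Y.hom]
    (hS : IsLocallyNoetherian S ∨ (QuasiSeparated X.hom ∧ QuasiSeparated Y.hom))
    (a : AlgGrp.Action G X) (b : AlgGrp.Action G Y) (f : X ⟶ Y) [Etale f.left]
    (hf : a.act ≫ f = (G ◁ f) ≫ b.act) (T : Over S) (x : T ⟶ X)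
    (hx : ∀ (T' : Over S) (t : T' ⟶ T) (g : T' ⟶ G), lift g (t ≫ x ≫ f) ≫ b.act = t ≫ x ≫ f)
    (T' : Over S) (t : T' ⟶ T) (g : T' ⟶ G) : lift g (t ≫ x) ≫ a.act = t ≫ x := by
  have : IsOpenImmersion (Limits.pullback.diagonal f.left) := inferInstance
  have hAB : ∀ {W : Over S} (t₀ : W ⟶ T) (g₀ : W ⟶ G),
      (lift g₀ (t₀ ≫ x) ≫ a.act).left ≫ f.left = (t₀ ≫ x).left ≫ f.left := by
    intro W t₀ g₀
    rw [← Over.comp_left, ← Over.comp_left, Category.assoc, hf, lift_whiskerLeft_assoc, Category.assoc,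
      hx W t₀ g₀]
  obtain ⟨U, hU, hUq⟩ := exists_agree_open f.left _ _ (hAB t g)
  suffices hw : ∀ w, w ∈ U by
    have hUt : U = ⊤ := top_unique fun w _ => hw w
    subst hUt
    have : IsIso (Scheme.Opens.ι (⊤ : T'.left.Opens)) := inferInstanceAs (IsIso T'.left.topIso.hom)
    exact Over.OverMorphism.ext ((cancel_epi (Scheme.Opens.ι (⊤ : T'.left.Opens))).1 hU)
  intro w
  let p := T'.left.fromSpecResidueField w
  let P : Over S := Over.mk (p ≫ T'.hom)
  let p₀ : P ⟶ T' := Over.homMk p rfl
  let g₀ := p₀ ≫ g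
  let x₀ := (p₀ ≫ t) ≫ x
  have hirr : IrreducibleSpace (G ⊗ P).left :=
    irreducibleSpace_tensor G P hconn (K := T'.left.residueField w) (T'.hom w)
      (Spec.map (T'.hom.residueFieldMap w)) (Iso.refl _)
      (by
        rw [Scheme.Hom.SpecMap_residueFieldMap_fromSpecResidueField]
        exact (Category.id_comp _).symm)
  obtain ⟨V, hV, hVq⟩ := exists_agree_open f.left _ _ (hAB (snd G P ≫ p₀ ≫ t) (fst G P))
  let τ : G ⊗ P ≅ G ⊗ P :=
    { hom := lift ((snd G P ≫ g₀) * fst G P) (snd G P)
      inv := lift ((snd G P ≫ g₀)⁻¹ * fst G P) (snd G P)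
      hom_inv_id := by
        apply CartesianMonoidalCategory.hom_ext
        · simp only [Category.assoc, lift_fst, MonObj.comp_mul, GrpObj.comp_inv, lift_snd_assoc, Category.id_comp]
          rw [inv_mul_cancel_left]
        · simp
      inv_hom_id := by
        apply CartesianMonoidalCategory.hom_ext
        · simp only [Category.assoc, lift_fst, MonObj.comp_mul, lift_snd_assoc, Category.id_comp]
          rw [mul_inv_cancel_left]
        · simp }
  let eP : P ⟶ G ⊗ P := lift 1 (𝟙 P)
  let x' : P.left := IsLocalRing.closedPoint (T'.left.residueField w)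
  have he : eP.left x' ∈ V := hVq eP.left (by
    rw [← Over.comp_left, ← Over.comp_left]
    congr 1
    simp only [eP, comp_lift_assoc, lift_fst, lift_snd_assoc, Category.id_comp]
    rw [a.lift_one_act, Category.assoc]) x'
  have e1 : τ.hom.left ≫ τ.inv.left = 𝟙 _ := congrArg Over.Hom.left τ.hom_inv_id
  obtain ⟨ψ, hψ⟩ : ∃ ψ : (G ⊗ P).left ⟶ (G ⊗ P).left, ψ = τ.inv.left := ⟨_, rfl⟩
  let V' : (G ⊗ P).left.Opens := ψ ⁻¹ᵁ V
  have he' : τ.hom.left (eP.left x') ∈ V' := by
    have e2 : (τ.hom.left ≫ ψ) (eP.left x') ∈ V := by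
      rw [hψ, e1]; exact he
    exact e2
  obtain ⟨z, hz, hz'⟩ := nonempty_preirreducible_inter V.2 V'.2 ⟨_, he⟩ ⟨_, he'⟩
  let q := (G ⊗ P).left.fromSpecResidueField z
  let Q : Over S := Over.mk (q ≫ (G ⊗ P).hom)
  let z₀ : Q ⟶ G ⊗ P := Over.homMk q rfl
  have hzero : ∀ (u : Q ⟶ G ⊗ P), (∀ y, u.left y ∈ V) →
      lift (u ≫ fst G P) ((u ≫ snd G P) ≫ x₀) ≫ a.act = (u ≫ snd G P) ≫ x₀ := by
    intro u hu
    let m := IsOpenImmersion.lift V.ι u.left (by
      rintro _ ⟨y, rfl⟩
      rw [Scheme.Opens.range_ι]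
      exact hu y)
    have hm : m ≫ V.ι = u.left := IsOpenImmersion.lift_fac _ _ _
    have h' : u ≫ lift (fst G P) ((snd G P ≫ p₀ ≫ t) ≫ x) ≫ a.act = u ≫ (snd G P ≫ p₀ ≫ t) ≫ x := by
      apply Over.OverMorphism.ext
      have h5 := congrArg (m ≫ ·) hV
      simp only [← Category.assoc, hm] at h5
      exact h5
    simpa [x₀, comp_lift_assoc] using h'
  have h1 := hzero z₀ fun y => by
    show q y ∈ V
    rw [Scheme.fromSpecResidueField_apply]; exact hz
  have h2 := hzero (z₀ ≫ τ.inv) fun y => by
    show τ.inv.left (q y) ∈ V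
    rw [Scheme.fromSpecResidueField_apply, ← hψ]; exact hz'
  let r := z₀ ≫ snd G P
  have hr : (z₀ ≫ τ.inv) ≫ snd G P = r := by simp [τ, r]
  have hh : (z₀ ≫ τ.inv) ≫ fst G P = (r ≫ g₀)⁻¹ * (z₀ ≫ fst G P) := by
    simp [τ, r, MonObj.comp_mul, GrpObj.comp_inv]
  rw [hr, hh] at h2
  have h3 : lift (r ≫ g₀) (r ≫ x₀) ≫ a.act = r ≫ x₀ := by
    conv_lhs => rw [show r ≫ g₀ = (z₀ ≫ fst G P) * ((r ≫ g₀)⁻¹ * (z₀ ≫ fst G P))⁻¹ by group]
    have h4 := Groth.AlgGrp1.inv_act_cancel a ((r ≫ g₀)⁻¹ * (z₀ ≫ fst G P)) (r ≫ x₀)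
    rw [h2] at h4
    rw [a.lift_mul_act, h4, h1]
  let y₀ : Q.left := IsLocalRing.closedPoint ((G ⊗ P).left.residueField z)
  have hq := hUq (r ≫ p₀).left (by
    rw [← Over.comp_left, ← Over.comp_left]
    congr 1
    simp only [g₀, x₀, Category.assoc] at h3
    simpa [comp_lift_assoc] using h3) y₀
  rwa [Over.comp_left, Scheme.Hom.comp_apply, show p₀.left (r.left y₀) = w from
    Scheme.fromSpecResidueField_apply w _] at hq

end Groth.Agent.S17681
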