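import Groth.Statements.S17682
-- import your own Groth.Agent.* helpers here

set_option autoImplicit false
universe u v w u'
open DiagMon

namespace Groth.Agent.S17682

/-- Let R be a commutative ring, A a commutative R-algebra graded by a commutative monoid M, N a
submonoid of M and R' a commutative R-algebra. For every R-algebra homomorphism F : A → R' vanishing
on the homogeneous elements of degree outside N there is a unique R-algebra homomorphism f : A →
R'[M] which is graded (a homogeneous element of degree m goes to a multiple of X^m), vanishes on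
homogeneous elements of degree outside N, and composes with the augmentation X^m ↦ 1 to F. In the
dictionary where an M-grading of A is an action of the diagonalizable monoid scheme Spec R[M] on
Spec A and graded maps A → R'[M] supported on N are equivariant maps from the monoid scheme of N
over R', this says that the attractor of Spec A for the magnet N is represented by the closed
subscheme of Spec A defined by the homogeneous elements of degree outside N. -/
theorem result (R : Type u) [CommRing R]
    (A : Type v) [CommRing A] [Algebra R A] (M : Type w) [AddCommMonoid M] [DecidableEq M]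
    (𝒜 : M → Submodule R A) [GradedAlgebra 𝒜] (N : AddSubmonoid M) (R' : Type u') [CommRing R']
    [Algebra R R'] (F : A →ₐ[R] R') (hF : ∀ m, m ∉ N → ∀ a ∈ 𝒜 m, F a = 0) :
    ∃! f : A →ₐ[R] AddMonoidAlgebra R' M,
      (∀ m, ∀ a ∈ 𝒜 m, f a =
          AddMonoidAlgebra.single m (Bialgebra.counitAlgHom R' (AddMonoidAlgebra R' M) (f a))) ∧
      (∀ m, m ∉ N → ∀ a ∈ 𝒜 m, f a = 0) ∧
      ∀ a, Bialgebra.counitAlgHom R' (AddMonoidAlgebra R' M) (f a) = F a := by
  let c := Bialgebra.counitAlgHom R' (AddMonoidAlgebra R' M)
  have hc : ∀ (m : M) (r : R'), c (AddMonoidAlgebra.single m r) = r := fun m r => by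
    simp [c, AddMonoidAlgebra.counit_single]
  let g : ∀ i, 𝒜 i →ₗ[R] AddMonoidAlgebra R' M := fun i =>
    { toFun := fun a => AddMonoidAlgebra.single i (F a)
      map_add' := fun a b => by simp
      map_smul' := fun r a => by simp }
  have hone : g 0 (GradedMonoid.GOne.one (A := fun i => 𝒜 i)) = 1 := by simp [g, AddMonoidAlgebra.one_def]
  have hmul : ∀ {i j} (ai : 𝒜 i) (aj : 𝒜 j), g (i + j) (GradedMonoid.GMul.mul (A := fun i => 𝒜 i) ai aj) = g i ai * g j aj :=
    fun {i j} ai aj => by simp [g, AddMonoidAlgebra.single_mul_single]
  let f : A →ₐ[R] AddMonoidAlgebra R' M :=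
    (DirectSum.toAlgebra R (fun i => 𝒜 i) g hone hmul).comp (DirectSum.decomposeAlgEquiv 𝒜).toAlgHom
  have hf : ∀ m, ∀ a ∈ 𝒜 m, f a = AddMonoidAlgebra.single m (F a) := by
    intro m a ha
    refine (congrArg (DirectSum.toAlgebra R (fun i => 𝒜 i) g hone hmul) (DirectSum.decompose_of_mem 𝒜 ha)).trans ?_
    exact DirectSum.toSemiring_of (fun i => (g i).toAddMonoidHom) hone hmul m ⟨a, ha⟩
  refine ⟨f, ⟨fun m a ha => by rw [hf m a ha, hc], fun m hm a ha => by rw [hf m a ha, hF m hm a ha, AddMonoidAlgebra.single_zero],
    fun a => ?_⟩, ?_⟩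
  · refine DFunLike.congr_fun (show (c.restrictScalars R).comp f = F from ?_) a
    refine AlgHom.ext fun a => ?_
    induction a using DirectSum.Decomposition.inductionOn 𝒜 with
    | zero => rw [map_zero, map_zero]
    | homogeneous x => exact (congrArg c (hf _ _ x.2)).trans (hc _ _)
    | add x y hx hy => rw [map_add, map_add, hx, hy]
  · rintro f' ⟨h1, h2, h3⟩
    refine AlgHom.ext fun a => ?_
    induction a using DirectSum.Decomposition.inductionOn 𝒜 with
    | zero => rw [map_zero, map_zero]
    | homogeneous x => rw [h1 _ _ x.2, h3, hf _ _ x.2]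
    | add x y hx hy => rw [map_add, map_add, hx, hy]

end Groth.Agent.S17682
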