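import Groth.Statements.S17683

set_option autoImplicit false
universe u
open DiagMon

namespace Groth.Agent.S17683

/-- Let N be a commutative monoid and F a submonoid of N. The additive projection ℤ[N] → ℤ[F] of monoid
algebras keeping the monomials with exponent in F and killing the others is multiplicative, i.e. F
is a face of N, if and only if for all x, y in N the sum x + y lies in F exactly when both x and y
do. -/
theorem result {N : Type u} [AddCommMonoid N] (F : AddSubmonoid N) :
    (∀ a b : AddMonoidAlgebra ℤ N,
        AddMonoidAlgebra.comapDomain ((↑) : F → N) Subtype.val_injective (a * b) =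
          AddMonoidAlgebra.comapDomain ((↑) : F → N) Subtype.val_injective a *
            AddMonoidAlgebra.comapDomain ((↑) : F → N) Subtype.val_injective b) ↔
      ∀ x y : N, x + y ∈ F ↔ (x ∈ F ∧ y ∈ F) := by
  classical
  have hout : ∀ (z : N) (c : ℤ), z ∉ F → AddMonoidAlgebra.comapDomain ((↑) : F → N)
      Subtype.val_injective (AddMonoidAlgebra.single z c) = 0 := fun z c hz =>
    AddMonoidAlgebra.ext (Finsupp.ext fun f => by
      rw [AddMonoidAlgebra.coeff_comapDomain, Finsupp.comapDomain_apply, AddMonoidAlgebra.coeff_single]
      exact Finsupp.single_eq_of_ne fun e => hz (e ▸ f.2))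
  have hin : ∀ (z : N) (c : ℤ) (hz : z ∈ F), AddMonoidAlgebra.comapDomain ((↑) : F → N)
      Subtype.val_injective (AddMonoidAlgebra.single z c) = AddMonoidAlgebra.single ⟨z, hz⟩ c :=
    fun z c hz => AddMonoidAlgebra.comapDomain_single_map ((↑) : F → N) Subtype.val_injective ⟨z, hz⟩ c
  constructor
  · intro h x y
    refine ⟨fun hxy => ?_, fun hxy => F.add_mem hxy.1 hxy.2⟩
    by_contra hc
    have h1 := h (AddMonoidAlgebra.single x 1) (AddMonoidAlgebra.single y 1)
    rw [AddMonoidAlgebra.single_mul_single, hin _ _ hxy] at h1
    rcases not_and_or.1 hc with hz | hz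
    · rw [hout x 1 hz, zero_mul] at h1
      simp at h1
    · rw [hout y 1 hz, mul_zero] at h1
      simp at h1
  · intro h a b
    induction a using AddMonoidAlgebra.induction_linear with
    | zero => simp
    | add p q hp hq => simp [add_mul, hp, hq]
    | single x r =>
      induction b using AddMonoidAlgebra.induction_linear with
      | zero => simp
      | add p q hp hq => simp [mul_add, hp, hq]
      | single y s =>
        rw [AddMonoidAlgebra.single_mul_single]
        by_cases hxy : x + y ∈ F
        · obtain ⟨hx, hy⟩ := (h x y).1 hxy
          rw [hin _ _ hxy, hin _ _ hx, hin _ _ hy, AddMonoidAlgebra.single_mul_single]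
          rfl
        · rw [hout _ _ hxy]
          by_cases hx : x ∈ F
          · rw [hout y s (fun hy => hxy ((h x y).2 ⟨hx, hy⟩)), mul_zero]
          · rw [hout x r hx, zero_mul]

end Groth.Agent.S17683
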