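import Groth.Statements.S17685
import Groth.Agent.AlgGrp2.EqLocus

set_option autoImplicit false
universe u
open CategoryTheory MonoidalCategory CartesianMonoidalCategory MonObj GrpObj AlgebraicGeometry
open AlgGrp

namespace Groth.Agent.S17685

/-- Let S be a scheme, F an S-scheme that is finite locally free over S (finite, flat and locally of
finite presentation) with a section e of F over S which is a surjective closed immersion (an
infinitesimal pointed S-scheme), and X an S-scheme with an action of the pointed scheme F, i.e. an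
S-morphism F ×_S X → X through which e acts as the identity. Then the subfunctor of F-fixed points
of X, whose T-points are the T-points x of X with g · x_{T'} = x_{T'} for every S-scheme T' over T
and every T'-point g of F, is represented by a closed subscheme of X. (The source allows F and X to
be algebraic spaces over S; this row is the case of schemes.) -/
theorem result (S : Scheme.{u})
    (F X : Over S) (e : 𝟙_ (Over S) ⟶ F) (act : F ⊗ X ⟶ X) (he : (e ▷ X) ≫ act = (λ_ X).hom)
    [IsFinite F.hom] [Flat F.hom] [LocallyOfFinitePresentation F.hom]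
    [IsClosedImmersion e.left] [Surjective e.left] :
    ∃ (Z : Scheme.{u}) (i : Z ⟶ X.left), IsClosedImmersion i ∧
      ∀ (T : Over S) (x : T ⟶ X), (∃ y : T.left ⟶ Z, y ≫ i = x.left) ↔
        ∀ (T' : Over S) (t : T' ⟶ T) (g : T' ⟶ F), lift g (t ≫ x) ≫ act = t ≫ x := by
  have hsurj : Surjective (e ▷ X).left :=
    MorphismProperty.of_isPullback (Groth.AlgGrp2.isPullback_whiskerRight_fst X e).flip inferInstance
  have hstab : ∀ U : X.left.Opens, (CartesianMonoidalCategory.snd F X).left ⁻¹ᵁ U ≤ act.left ⁻¹ᵁ U := by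
    intro U p hp
    obtain ⟨q, rfl⟩ := hsurj.surj p
    have h1 : ((e ▷ X) ≫ act).left = ((e ▷ X) ≫ CartesianMonoidalCategory.snd F X).left := by
      rw [he]; simp
    show ((e ▷ X) ≫ act).left q ∈ U
    rw [h1]
    exact hp
  obtain ⟨Z, i, hi, hZ⟩ := Groth.AlgGrp2.exists_closed_equalizer act
    (CartesianMonoidalCategory.snd F X) fun x => by
    obtain ⟨_, ⟨U0, hU0, rfl⟩, hxU0, -⟩ :=
      S.isBasis_affineOpens.exists_subset_of_mem_open (Set.mem_univ (X.hom x)) isOpen_univ
    obtain ⟨_, ⟨U, hU, rfl⟩, hxU, hle⟩ :=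
      X.left.isBasis_affineOpens.exists_subset_of_mem_open
        (show x ∈ ((X.hom ⁻¹ᵁ U0 : X.left.Opens) : Set X.left) from hxU0) (X.hom ⁻¹ᵁ U0).2
    refine ⟨⟨U0, hU0⟩, ⟨U, hU⟩, hxU, hle, fun y hy =>
      ⟨⟨F.hom ⁻¹ᵁ U0, hU0.preimage F.hom⟩, le_rfl, U, hy, ?_, ?_,
        inf_le_right.trans (le_inf (hstab U) le_rfl)⟩⟩
    · letI := (F.hom.appLE U0 (F.hom ⁻¹ᵁ U0) le_rfl).hom.toAlgebra
      haveI : Module.Finite Γ(S, U0) Γ(F.left, F.hom ⁻¹ᵁ U0) := by
        have h := F.hom.finite_app U0 hU0
        rw [Scheme.Hom.app_eq_appLE] at h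
        exact RingHom.finite_algebraMap.mp (show (algebraMap _ _).Finite from h)
      haveI : Module.Flat Γ(S, U0) Γ(F.left, F.hom ⁻¹ᵁ U0) :=
        RingHom.flat_algebraMap_iff.mp
          (HasRingHomProperty.appLE (P := @Flat) F.hom inferInstance ⟨U0, hU0⟩
            ⟨_, hU0.preimage F.hom⟩ le_rfl)
      haveI : Algebra.FinitePresentation Γ(S, U0) Γ(F.left, F.hom ⁻¹ᵁ U0) :=
        RingHom.finitePresentation_algebraMap.mp
          (F.hom.finitePresentation_appLE hU0 (hU0.preimage F.hom) le_rfl)
      haveI := Module.FinitePresentation.of_finite_of_finitePresentation Γ(S, U0)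
        Γ(F.left, F.hom ⁻¹ᵁ U0)
      exact Module.Flat.projective_of_finitePresentation
    · haveI : IsAffine (Scheme.Opens.toScheme (X := X.left) U) := hU
      infer_instance
  refine ⟨Z.left, i.left, hi, fun T x => Iff.trans ?_ (Iff.trans (hZ T x).symm
    ⟨fun h T' t g => ?_, fun h => ?_⟩)⟩
  · exact ⟨fun ⟨y, hy⟩ => ⟨Over.homMk y (by
        calc y ≫ Z.hom = (y ≫ i.left) ≫ X.hom := by rw [Category.assoc, Over.w]
          _ = T.hom := by rw [hy, Over.w]), Over.OverMorphism.ext hy⟩,
      fun ⟨z, hz⟩ => ⟨z.left, congrArg CommaMorphism.left hz⟩⟩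
  · have := congrArg (lift g t ≫ ·) h
    simpa [lift_whiskerLeft_assoc, ← Category.assoc] using this
  · have := h (F ⊗ T) (CartesianMonoidalCategory.snd F T) (CartesianMonoidalCategory.fst F T)
    rw [whiskerLeft_snd]
    exact (congrArg (· ≫ act) (by ext <;> simp)).trans this

end Groth.Agent.S17685
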