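import Groth.Statements.S17687
-- import your own Groth.Agent.* helpers here

set_option autoImplicit false
universe u v w
open DiagMon

namespace Groth.Agent.S17687

/-- Let R be a commutative ring and A a commutative R-algebra of finite type graded by a commutative
monoid M. Then the set of ideals J_N, N running over all submonoids of M, where J_N is generated by
the homogeneous elements of degree not in N (the ideal of the attractor of Spec A for the magnet N),
is finite: Spec A has finitely many attractors and hence finitely many pure magnets. (The source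
assumes Spec A of finite presentation over the base; its proof uses only a finite set of homogeneous
algebra generators, so finite type is assumed here.) -/
theorem result (R : Type u) [CommRing R] (A : Type v) [CommRing A]
    [Algebra R A] [Algebra.FiniteType R A] (M : Type w) [AddCommMonoid M] [DecidableEq M]
    (𝒜 : M → Submodule R A) [GradedAlgebra 𝒜] :
    (Set.range fun N : AddSubmonoid M => Ideal.span {a : A | ∃ m : M, m ∉ N ∧ a ∈ 𝒜 m}).Finite := by
  classical
  obtain ⟨s₀, hs₀⟩ := (‹Algebra.FiniteType R A›).out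
  let S : Finset (M × A) :=
    s₀.biUnion fun a => (DirectSum.decompose 𝒜 a).support.image fun m => (m, (DirectSum.decompose 𝒜 a m : A))
  refine (S.powerset.finite_toSet.image fun T => Ideal.span ((T.image Prod.snd : Finset A) : Set A)).subset ?_
  rintro _ ⟨N, rfl⟩
  refine ⟨S.filter fun p => p.1 ∉ N, Finset.mem_coe.mpr (Finset.mem_powerset.mpr (Finset.filter_subset _ _)), ?_⟩
  set J' := Ideal.span (((S.filter fun p => p.1 ∉ N).image Prod.snd : Finset A) : Set A)
  refine le_antisymm (Ideal.span_le.mpr fun a ha => ?_) (Ideal.span_le.mpr ?_)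
  · obtain ⟨p, hp, rfl⟩ := Finset.mem_image.mp (Finset.mem_coe.mp ha)
    obtain ⟨hpS, hpN⟩ := Finset.mem_filter.mp hp
    obtain ⟨a, ha0, hpa⟩ := Finset.mem_biUnion.mp hpS
    obtain ⟨m, hm, rfl⟩ := Finset.mem_image.mp hpa
    exact Ideal.subset_span ⟨m, hpN, SetLike.coe_mem _⟩
  rintro a ⟨m, hm, ha⟩
  suffices key : ∀ x : A, ∀ m ∉ N, (DirectSum.decompose 𝒜 x m : A) ∈ J' by
    have := key a m hm
    rwa [DirectSum.decompose_of_mem_same 𝒜 ha] at this
  intro x
  have hx : x ∈ Algebra.adjoin R (s₀ : Set A) := hs₀ ▸ trivial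
  induction hx using Algebra.adjoin_induction with
  | mem y hy =>
    intro m hm
    by_cases h0 : DirectSum.decompose 𝒜 y m = 0
    · simp [h0]
    refine Ideal.subset_span (Finset.mem_coe.mpr (Finset.mem_image.mpr
      ⟨(m, (DirectSum.decompose 𝒜 y m : A)), Finset.mem_filter.mpr ⟨?_, hm⟩, rfl⟩))
    exact Finset.mem_biUnion.mpr ⟨y, hy, Finset.mem_image.mpr ⟨m, DFinsupp.mem_support_iff.mpr h0, rfl⟩⟩
  | algebraMap r =>
    intro m hm
    rw [DirectSum.decompose_of_mem_ne 𝒜 (SetLike.algebraMap_mem_graded 𝒜 r) (fun h : (0 : M) = m => hm (h ▸ N.zero_mem))]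
    exact J'.zero_mem
  | add x y _ _ hx hy =>
    intro m hm
    rw [DirectSum.decompose_add]
    exact J'.add_mem (hx m hm) (hy m hm)
  | mul x y _ _ hx hy =>
    intro m hm
    rw [DirectSum.decompose_mul, DirectSum.coe_mul_apply]
    refine J'.sum_mem fun ij hij => ?_
    obtain ⟨-, hsum⟩ := Finset.mem_filter.mp hij
    by_cases h1 : ij.1 ∈ N
    · exact J'.mul_mem_left _ (hy _ fun h2 => hm (hsum ▸ N.add_mem h1 h2))
    · exact J'.mul_mem_right _ (hx _ h1)

end Groth.Agent.S17687
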