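import Groth.Statements.S17688
import Groth.Agent.NeronArea.GenericDense


set_option autoImplicit false
universe u
open CategoryTheory CategoryTheory.Limits AlgebraicGeometry MonObj
open Neron

namespace Groth.Agent.S17688

/-- Let R be a discrete valuation ring whose fraction field K has characteristic p > 0, and let U be a
flat, separated, commutative group scheme over Spec R whose generic fibre U_K is annihilated by a
power p^N of p (in the group of endomorphisms of U_K as a K-scheme, the p^N-th power of the identity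
is the unit). Then for every prime ℓ invertible in R the ℓ-th power map of U (the ℓ-th power of the
identity in the group of R-morphisms U → U) is an isomorphism. -/
theorem result
    (R : Type u) [CommRing R] [IsDomain R] [IsDiscreteValuationRing R]
    (p : ℕ) (hp : p.Prime) [CharP (FractionRing R) p]
    (U : Over (Spec (CommRingCat.of R))) [GrpObj U] [IsCommMonObj U] [Flat U.hom] [IsSeparated U.hom]
    (N : ℕ) (hN : (𝟙 (Red.bc (Neron.genPt R) U) : Red.bc (Neron.genPt R) U ⟶ Red.bc (Neron.genPt R) U) ^ (p ^ N) = 1)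
    (ℓ : ℕ) (hℓ : ℓ.Prime) (hℓu : IsUnit (ℓ : R)) :
    IsIso ((𝟙 U : U ⟶ U) ^ ℓ) := by
  have hp1 : 0 < p ^ N := Nat.pow_pos hp.pos
  have hcharR : CharP R p := (RingHom.charP_iff (algebraMap R (FractionRing R)) (IsFractionRing.injective R (FractionRing R)) p).2 inferInstance
  have hne : ℓ ≠ p := by
    rintro rfl
    exact not_isUnit_zero ((CharP.cast_eq_zero R ℓ) ▸ hℓu)
  have h1 : (𝟙 U : U ⟶ U) ^ (p ^ N) = 1 := by
    apply Groth.NeronArea.map_injective_of_flat (Neron.genPt R) U U
    let F := Over.pullback (Neron.genPt R)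
    show F.map _ = F.map _
    have e := (Functor.homMonoidHom (F := F) (X := U) (M := U)).map_pow (𝟙 U) (p ^ N)
    have e1 := (Functor.homMonoidHom (F := F) (X := U) (M := U)).map_one
    refine (e.trans ?_).trans e1.symm
    rw [← hN]
    congr 1
    exact F.map_id U
  have hcop : Nat.Coprime ℓ (p ^ N) := ((Nat.coprime_primes hℓ hp).2 hne).pow_right N
  obtain ⟨a, c, hac⟩ : ∃ a c : ℕ, ℓ * a = 1 + p ^ N * c := by
    rcases eq_or_ne (p ^ N) 1 with h | h
    · exact ⟨1, ℓ - 1, by rw [h]; have := hℓ.one_le; omega⟩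
    · obtain ⟨a, ha⟩ := Nat.exists_mul_mod_eq_one_of_coprime hcop (by omega)
      refine ⟨a, ℓ * a / p ^ N, ?_⟩
      have := Nat.div_add_mod (ℓ * a) (p ^ N)
      omega
  have hpow : (𝟙 U : U ⟶ U) ^ (ℓ * a) = 𝟙 U := by
    rw [hac, pow_add, pow_one, pow_mul, h1, one_pow, _root_.mul_one]
  refine ⟨(𝟙 U) ^ a, ?_, ?_⟩
  · rw [MonObj.comp_pow, Category.comp_id, ← pow_mul]; exact hpow
  · rw [MonObj.comp_pow, Category.comp_id, ← pow_mul, mul_comm]; exact hpow

end Groth.Agent.S17688
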