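import Groth.Statements.S17689
import Groth.Agent.HTopHyper.UnivHomeo
import Mathlib.RingTheory.Kaehler.Basic
import Mathlib.RingTheory.IntegralClosure.IntegrallyClosed
import Mathlib.RingTheory.Polynomial.RationalRoot
import Mathlib.RingTheory.Ideal.GoingUp
import Mathlib.FieldTheory.PurelyInseparable.Basic


set_option autoImplicit false
universe u
open CategoryTheory AlgebraicGeometry
open Neron

open TensorProduct

namespace Groth.Agent.S17689

/-- Let R ⊆ S be a finite extension of discrete valuation rings (the structure map R → S is injective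
and S is a finite R-module) such that the induced extension K ⊆ L of fraction fields is purely
inseparable. Then the morphism Spec S → Spec R is a universal homeomorphism: every base change of it
is a homeomorphism on underlying spaces. (No excellence hypothesis is needed here.) -/
theorem result
    (R S K L : Type u) [CommRing R] [IsDomain R] [IsDiscreteValuationRing R]
    [CommRing S] [IsDomain S] [IsDiscreteValuationRing S] [Algebra R S] [Module.Finite R S] [FaithfulSMul R S]
    [Field K] [Field L] [Algebra R K] [IsFractionRing R K] [Algebra S L] [IsFractionRing S L]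
    [Algebra K L] [Algebra R L] [IsScalarTower R S L] [IsScalarTower R K L] [IsPurelyInseparable K L] :
    FlatMor.IsUnivHomeo (Spec.map (CommRingCat.ofHom (algebraMap R S))) := by
  have hRS : Function.Injective (algebraMap R S) := FaithfulSMul.algebraMap_injective R S
  have hint : IsIntegralHom (Spec.map (CommRingCat.ofHom (algebraMap R S))) :=
    IsIntegralHom.SpecMap_iff.mpr (Algebra.IsIntegral.of_finite R S).isIntegral
  have hsurj : Surjective (Spec.map (CommRingCat.ofHom (algebraMap R S))) :=
    ⟨fun P => by
      haveI := P.isPrime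
      obtain ⟨Q, -, hQ, hQP⟩ := Ideal.exists_ideal_over_prime_of_isIntegral (S := S) P.asIdeal ⊥
        (by rw [← RingHom.ker_eq_comap_bot, (RingHom.injective_iff_ker_eq_bot _).1 hRS]; exact bot_le)
      exact ⟨⟨Q, hQ⟩, PrimeSpectrum.ext hQP⟩⟩
  refine Groth.HTopHyper.isUnivHomeo_iff.mpr ⟨hint, ?_, hsurj⟩
  rw [UniversallyInjective.iff_diagonal, diagonal_SpecMap R S]
  suffices Surjective (Spec.map (CommRingCat.ofHom (Algebra.TensorProduct.lmul' (S := S) R).toRingHom)) by
    infer_instance
  obtain ⟨q, hq⟩ := ExpChar.exists K
  have : ExpChar L q := expChar_of_injective_algebraMap (algebraMap K L).injective q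
  have : ExpChar R q := (RingHom.expChar_iff (algebraMap R K) (IsFractionRing.injective R K) q).2 hq
  have : ExpChar S q := expChar_of_injective_algebraMap hRS q
  have : Nontrivial (S ⊗[R] S) := (Algebra.TensorProduct.lmul' (S := S) R).toRingHom.domain_nontrivial
  constructor
  intro P
  have hker : RingHom.ker (Algebra.TensorProduct.lmul' (S := S) R) ≤ nilradical (S ⊗[R] S) := by
    show KaehlerDifferential.ideal R S ≤ _
    rw [← KaehlerDifferential.span_range_eq_ideal, Ideal.span_le]
    rintro _ ⟨s, rfl⟩
    obtain ⟨n, y, hy⟩ := IsPurelyInseparable.pow_mem K q (algebraMap S L s)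
    obtain ⟨r, hr⟩ : ∃ r : R, algebraMap R K r = y := by
      refine (IsIntegrallyClosed.isIntegral_iff (R := R) (K := K)).mp ?_
      rw [← isIntegral_algebraMap_iff (A := K) (B := L) (algebraMap K L).injective, hy, ← map_pow]
      exact (Algebra.IsIntegral.isIntegral (R := R) (s ^ q ^ n)).map (IsScalarTower.toAlgHom R S L)
    have hs : s ^ q ^ n = algebraMap R S r := by
      apply IsFractionRing.injective S L
      rw [map_pow, ← hy, ← hr, ← IsScalarTower.algebraMap_apply, ← IsScalarTower.algebraMap_apply]
    refine ⟨q ^ n, ?_⟩
    have : ExpChar (S ⊗[R] S) q := expChar_of_injective_algebraMap (R := S) (A := S ⊗[R] S) (fun a b h => by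
      simpa using congrArg (Algebra.TensorProduct.lmul' (S := S) R) h) q
    rw [sub_pow_expChar_pow, Algebra.TensorProduct.tmul_pow, Algebra.TensorProduct.tmul_pow, one_pow, hs,
      Algebra.algebraMap_eq_smul_one, TensorProduct.tmul_smul, TensorProduct.smul_tmul', sub_self]
    exact Submodule.zero_mem _
  have hsur : Function.Surjective (Algebra.TensorProduct.lmul' (S := S) R) := fun s => ⟨s ⊗ₜ 1, by simp⟩
  haveI := P.isPrime
  let f := (Algebra.TensorProduct.lmul' (S := S) R).toRingHom
  have hkP : RingHom.ker f ≤ P.asIdeal := hker.trans (nilradical_le_prime P.asIdeal)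
  refine ⟨⟨P.asIdeal.map f, Ideal.map_isPrime_of_surjective hsur hkP⟩, PrimeSpectrum.ext ?_⟩
  show (P.asIdeal.map f).comap f = P.asIdeal
  rw [Ideal.comap_map_of_surjective f hsur, ← RingHom.ker_eq_comap_bot, sup_eq_left]
  exact hkP

end Groth.Agent.S17689
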