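import Groth.Statements.S17690
import Groth.Agent.Ega4Algebra1.AnalyticN1
import Groth.Agent.Ega4Algebra1.NagataQE
import Groth.Agent.Calg4.Japanese
import Groth.Agent.Calg1.NagataTheorem
import Groth.Agent.EGA43Valuative.DominatingDVR


set_option autoImplicit false
universe u
open Neron

namespace Groth.Agent.S17690

/-- Let R be an excellent discrete valuation ring (Noetherian, universally catenary, G-ring, J-2) with
fraction field K, and let L be a finite purely inseparable field extension of K. Then the integral
closure S of R in L is a discrete valuation ring, and S is a finite R-module. -/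
theorem result
    (R K L : Type u) [CommRing R] [IsDomain R] [IsDiscreteValuationRing R] (hR : EGA4.IsExcellent R)
    [Field K] [Algebra R K] [IsFractionRing R K] [Field L] [Algebra K L] [FiniteDimensional K L]
    [IsPurelyInseparable K L] [Algebra R L] [IsScalarTower R K L] :
    IsDiscreteValuationRing ↥(integralClosure R L) ∧ Module.Finite R ↥(integralClosure R L) := by
  have hN := Groth.Ega4Algebra1.isNagata_of_isQuasiExcellent
    Groth.Ega4Algebra1.analyticallyUnramifiedN1 R ⟨hR.1, hR.2.2.1, hR.2.2.2⟩
  have hfin : Module.Finite R (integralClosure R L) :=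
    Groth.Calg4.finite_ic_of_isN2 (Groth.Calg1.isN2_self_of_isNagata hN) K L
  refine ⟨?_, hfin⟩
  have : IsDedekindDomain (integralClosure R L) :=
    Groth.EGA43Val.isDedekindDomain_integralClosure R K L
  have hinj : Function.Injective (algebraMap R (integralClosure R L)) := fun a b h =>
    IsFractionRing.injective R K ((algebraMap K L).injective (by
      rw [← IsScalarTower.algebraMap_apply, ← IsScalarTower.algebraMap_apply]
      exact congrArg Subtype.val h))
  -- locality
  have hall : ∀ M : Ideal (integralClosure R L), M.IsMaximal → ∀ x : integralClosure R L,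
      x ∈ M ↔ ∃ n : ℕ, ∃ r ∈ IsLocalRing.maximalIdeal R,
        (x : L) ^ ringExpChar K ^ n = algebraMap R L r := by
    intro M hM x
    have hMR : M.comap (algebraMap R (integralClosure R L)) = IsLocalRing.maximalIdeal R :=
      IsLocalRing.eq_maximalIdeal (Ideal.isMaximal_comap_of_isIntegral_of_isMaximal M)
    constructor
    · intro hx
      obtain ⟨n, k, hk⟩ := IsPurelyInseparable.pow_mem K (ringExpChar K) (x : L)
      have hkint : IsIntegral R k := by
        rw [← isIntegral_algHom_iff (IsScalarTower.toAlgHom R K L) (algebraMap K L).injective]
        rw [IsScalarTower.toAlgHom_apply, hk]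
        exact (x.2 : IsIntegral R (x : L)).pow _
      obtain ⟨r, rfl⟩ := IsIntegrallyClosed.algebraMap_eq_of_integral hkint
      rw [← IsScalarTower.algebraMap_apply] at hk
      refine ⟨n, r, ?_, hk.symm⟩
      rw [← hMR, Ideal.mem_comap]
      have : algebraMap R (integralClosure R L) r = x ^ ringExpChar K ^ n := Subtype.ext (by
        simpa using hk)
      rw [this]
      exact Ideal.pow_mem_of_mem M hx _ (pow_pos (expChar_pos K _) _)
    · rintro ⟨n, r, hr, hx⟩
      have : x ^ ringExpChar K ^ n = algebraMap R (integralClosure R L) r := Subtype.ext (by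
        simpa using hx)
      refine hM.isPrime.mem_of_pow_mem (ringExpChar K ^ n) ?_
      rw [this, ← Ideal.mem_comap, hMR]
      exact hr
  have : IsLocalRing (integralClosure R L) := IsLocalRing.of_unique_max_ideal (by
    obtain ⟨M, hM⟩ := Ideal.exists_maximal (integralClosure R L)
    exact ⟨M, hM, fun N hN => Ideal.ext fun x => (hall N hN x).trans (hall M hM x).symm⟩)
  have hnf : ¬ IsField (integralClosure R L) := fun h =>
    IsDiscreteValuationRing.not_isField R (isField_of_isIntegral_of_isField hinj h)
  exact ((IsDiscreteValuationRing.TFAE (integralClosure R L) hnf).out 0 2).mpr ‹IsDedekindDomain ↥(integralClosure R L)›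

end Groth.Agent.S17690
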