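import Groth.Statements.S17703
import Groth.Agent.Ega4Algebra1.DedekindExcellent
import Groth.Agent.Ega4Algebra1.N1Criterion
import Groth.Agent.PropsBasic.GRingLocal


set_option autoImplicit false
universe u
open Neron

namespace Groth.NeronArea.DVRExcellent

open TensorProduct IsLocalRing

theorem isRegularHom_cpl_dvr (A : Type u) [CommRing A] [IsDomain A]
    [IsDiscreteValuationRing A]
    (hgr : Algebra.IsGeometricallyReduced (⊥ : Ideal A).ResidueField (EGA4.formalFibre A (⊥ : Ideal A))) : CAlg.IsRegularHom A (EGA4.Cpl A) := by
  let C := EGA4.Cpl A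
  obtain ⟨hdom, hdvr⟩ := (Groth.Calg1.isDVR_iff_adicCompletion A).mp ⟨inferInstance, inferInstance⟩
  have := hdom
  have := hdvr
  have : Module.Flat A C := AdicCompletion.flat_of_isNoetherian _
  refine ⟨inferInstance, fun q _ => ?_⟩
  let K := q.ResidueField
  by_cases hq : q = ⊥
  · have hinj : Function.Injective (algebraMap A K) := by
      rw [RingHom.injective_iff_ker_eq_bot]
      exact (Ideal.ker_algebraMap_residueField q).trans hq
    have hC : Function.Injective (algebraMap A C) := by
      have : IsLocalHom (algebraMap A C) := by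
        refine ((local_hom_TFAE _).out 0 2).mpr ?_
        rw [AdicCompletion.maximalIdeal_eq_map]
      have : Module.FaithfullyFlat A C := Module.FaithfullyFlat.of_flat_of_isLocalHom
      exact FaithfulSMul.algebraMap_injective A C
    subst hq
    let M := Algebra.algebraMapSubmonoid C (nonZeroDivisors A)
    have : IsFractionRing A K := by
      have : IsLocalization.AtPrime (Localization.AtPrime (⊥ : Ideal A)) (⊥ : Ideal A) := inferInstance
      have e : (⊥ : Ideal A).primeCompl = nonZeroDivisors A := by
        ext x
        simp [Ideal.primeCompl, mem_nonZeroDivisors_iff_ne_zero]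
      have h1 : IsFractionRing A (Localization.AtPrime (⊥ : Ideal A)) := by
        unfold IsFractionRing
        rw [← e]
        infer_instance
      have hbot : maximalIdeal (Localization.AtPrime (⊥ : Ideal A)) = ⊥ :=
        (Localization.AtPrime.map_eq_maximalIdeal (I := (⊥ : Ideal A))).symm.trans Ideal.map_bot
      have hinj' : Function.Injective (residue (Localization.AtPrime (⊥ : Ideal A))) := by
        rw [RingHom.injective_iff_ker_eq_bot, ker_residue, hbot]
      exact IsLocalization.isLocalization_of_algEquiv (nonZeroDivisors A)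
        (AlgEquiv.ofBijective (IsScalarTower.toAlgHom A (Localization.AtPrime (⊥ : Ideal A)) K)
          ⟨hinj', residue_surjective⟩)
    have : IsLocalization M (C ⊗[A] K) := IsLocalization.tensor K (nonZeroDivisors A)
    have hM : M ≤ nonZeroDivisors C := by
      rintro _ ⟨a, ha, rfl⟩
      exact mem_nonZeroDivisors_of_ne_zero ((map_ne_zero_iff _ hC).mpr (nonZeroDivisors.ne_zero ha))
    have : IsDomain (C ⊗[A] K) := IsLocalization.isDomain_of_le_nonZeroDivisors (C ⊗[A] K) hM
    obtain ⟨ϖ, hϖ⟩ := IsDiscreteValuationRing.exists_irreducible A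
    have hirr : Irreducible (algebraMap A C ϖ) := by
      refine (IsDiscreteValuationRing.irreducible_iff_uniformizer _).mpr ?_
      refine AdicCompletion.maximalIdeal_eq_map.trans ((congrArg (Ideal.map (algebraMap A C)) hϖ.maximalIdeal_eq).trans ?_)
      rw [Ideal.map_span, Set.image_singleton]
    have hfield : IsField (C ⊗[A] K) := by
      refine ⟨exists_pair_ne _, mul_comm, fun {z} hz => ?_⟩
      suffices IsUnit z from this.exists_right_inv
      obtain ⟨c, s, rfl⟩ := IsLocalization.exists_mk'_eq M z
      have hc : c ≠ 0 := fun h0 => hz (by rw [h0]; exact IsLocalization.mk'_zero s)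
      obtain ⟨n, u, rfl⟩ := IsDiscreteValuationRing.eq_unit_mul_pow_irreducible hc hirr
      rw [IsLocalization.mk'_eq_mul_mk'_one]
      refine IsUnit.mul ?_ ⟨⟨_, algebraMap C (C ⊗[A] K) s, ?_, ?_⟩, rfl⟩
      · rw [map_mul, map_pow]
        exact (u.isUnit.map _).mul ((IsLocalization.map_units (C ⊗[A] K)
          (⟨_, ϖ, mem_nonZeroDivisors_of_ne_zero hϖ.ne_zero, rfl⟩ : M)).pow n)
      · exact (IsLocalization.mk'_spec _ (1 : C) s).trans (map_one _)
      · rw [mul_comm]; exact (IsLocalization.mk'_spec _ (1 : C) s).trans (map_one _)
    have : IsField ((⊥ : Ideal A).Fiber C) :=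
      MulEquiv.isField hfield (Algebra.TensorProduct.comm A C K).symm.toMulEquiv
    let := this.toField
    refine ⟨inferInstance, fun L _ _ hL => ?_⟩
    let F := (⊥ : Ideal A).Fiber C
    have : IsArtinianRing (F ⊗[K] L) := by exact IsArtinianRing.of_finite F (F ⊗[K] L)
    have : IsReduced L := inferInstance
    have : Algebra.IsGeometricallyReduced K F := hgr
    have : IsReduced (F ⊗[K] L) := Groth.VarietyBC.isReduced_tensor_of_isGeometricallyReduced
    have := Groth.Agent.S9256.isRegularRing_of_isReduced (F ⊗[K] L)
    exact IsRegularRing.of_ringEquiv (Algebra.TensorProduct.comm K F L).toRingEquiv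
  · have hmax : q.IsMaximal := Ideal.IsPrime.isMaximal ‹_› hq
    have hqm : q = maximalIdeal A := IsLocalRing.eq_maximalIdeal hmax
    have hsurj : Function.Surjective (algebraMap K (q.Fiber C)) := by
      intro x
      induction x using TensorProduct.induction_on with
      | zero => exact ⟨0, map_zero _⟩
      | tmul k c =>
        obtain ⟨a, ha⟩ := Ideal.Quotient.mk_surjective (AdicCompletion.evalOneₐ (maximalIdeal A) c)
        have hmem : c - algebraMap A C a ∈ q.map (algebraMap A C) := by
          rw [hqm, ← AdicCompletion.ker_evalOneₐ_eq_map _ (maximalIdeal A).fg_of_isNoetherianRing]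
          show AdicCompletion.evalOneₐ (maximalIdeal A) _ = 0
          rw [map_sub, AlgHom.commutes, ← ha]
          exact sub_self _
        have h0 : ∀ y ∈ q.map (algebraMap A C), k ⊗ₜ[A] y = (0 : q.Fiber C) := by
          intro y hy
          induction hy using Submodule.span_induction with
          | mem y hy =>
            obtain ⟨b, hb, rfl⟩ := hy
            rw [Algebra.algebraMap_eq_smul_one, ← TensorProduct.smul_tmul,
              show b • k = 0 by
                rw [Algebra.smul_def, show algebraMap A K b = 0 from
                  RingHom.mem_ker.mp ((Ideal.ker_algebraMap_residueField q).ge hb), zero_mul],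
              TensorProduct.zero_tmul]
          | zero => exact TensorProduct.tmul_zero _ _
          | add y z _ _ hy hz => rw [TensorProduct.tmul_add, hy, hz, add_zero]
          | smul r y _ hy =>
            rw [show k ⊗ₜ[A] (r • y) = (1 ⊗ₜ[A] r) * (k ⊗ₜ[A] y) by
              rw [Algebra.TensorProduct.tmul_mul_tmul, one_mul, smul_eq_mul], hy, mul_zero]
        refine ⟨k * algebraMap A K a, ?_⟩
        rw [Algebra.TensorProduct.algebraMap_apply, Algebra.algebraMap_self, RingHom.id_apply,
          eq_comm, ← sub_eq_zero, mul_comm, ← Algebra.smul_def, TensorProduct.smul_tmul,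
          ← TensorProduct.tmul_sub, ← Algebra.algebraMap_eq_smul_one]
        exact h0 _ hmem
      | add x y hx hy =>
        obtain ⟨a, rfl⟩ := hx
        obtain ⟨b, rfl⟩ := hy
        exact ⟨a + b, map_add _ _ _⟩
    have : Nontrivial (q.Fiber C) := by
      have : IsLocalHom (algebraMap A C) := by
        refine ((local_hom_TFAE _).out 0 2).mpr ?_
        rw [AdicCompletion.maximalIdeal_eq_map]
      have : Module.FaithfullyFlat A C := Module.FaithfullyFlat.of_flat_of_isLocalHom
      infer_instance
    let e : K ≃ₐ[K] q.Fiber C := AlgEquiv.ofBijective (Algebra.ofId K _) ⟨RingHom.injective _, hsurj⟩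
    refine ⟨isNoetherianRing_of_ringEquiv K e.toRingEquiv, fun L _ _ _ => ?_⟩
    exact IsRegularRing.of_ringEquiv
      (((Algebra.TensorProduct.congr (AlgEquiv.refl (R := K) (A₁ := L)) e.symm).trans
        (Algebra.TensorProduct.rid K K L)).toRingEquiv.symm)


end Groth.NeronArea.DVRExcellent

namespace Groth.Agent.S17703

/-- Let R be a discrete valuation ring with fraction field K, R̂ its completion and K̂ = Frac R̂. Then R
is excellent (Noetherian, universally catenary, G-ring and J-2) if and only if K̂ is geometrically
reduced over K, i.e. K ⊆ K̂ is separable; here K̂ is written as the generic formal fibre κ(0) ⊗_R R̂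
of R, which is R̂ with the uniformizer inverted. -/
theorem result
    (R : Type u) [CommRing R] [IsDomain R] [IsDiscreteValuationRing R] :
    EGA4.IsExcellent R ↔
      Algebra.IsGeometricallyReduced (⊥ : Ideal R).ResidueField (EGA4.formalFibre R (⊥ : Ideal R)) := by
  constructor
  · rintro ⟨_, -, hG, -⟩
    let m := IsLocalRing.maximalIdeal R
    let e : Localization.AtPrime m ≃+* R :=
      (IsLocalization.atUnits R m.primeCompl (S := Localization.AtPrime m) (fun x hx => by
        by_contra hu; exact hx ((IsLocalRing.mem_maximalIdeal x).mpr hu))).toRingEquiv.symm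
    have he : (IsLocalRing.maximalIdeal (Localization.AtPrime m)).map (e : Localization.AtPrime m →+* R)
        = IsLocalRing.maximalIdeal R := by
      rw [Ideal.map_comap_of_equiv]
      exact IsLocalRing.eq_maximalIdeal (Ideal.comap_isMaximal_of_equiv e.symm)
    obtain ⟨σ, hσ⟩ := Groth.PropsBasic.GRingLocal.exists_cplEquiv _ _ e he
    exact Groth.Ega4Algebra1.hasGeomReducedFormalFibres_of_isRegularHom R
      (Groth.PropsBasic.GRingLocal.isRegularHom_of_equiv e σ hσ (hG.2 m)) ⊥
  · intro hgr
    refine ⟨inferInstance, Groth.Ega4Algebra1.isUniversallyCatenary_of_regular_surjective (RingHom.id R)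
      Function.surjective_id, Groth.PropsBasic.GRingMaximal.isGRing_of_maximal
        (fun C _ _ _ _ => Groth.Ega4b.isGRing_of_isAdicComplete C) R fun m hm => ?_,
      Groth.Ega4Algebra1.isJ2_of_semilocal_dim_le_one R ((Set.finite_singleton
        (IsLocalRing.maximalIdeal R)).subset fun I hI => IsLocalRing.eq_maximalIdeal hI)
        (IsDiscreteValuationRing.ringKrullDim_eq_one R).le⟩
    obtain rfl := IsLocalRing.eq_maximalIdeal hm
    let m := IsLocalRing.maximalIdeal R
    let e : R ≃+* Localization.AtPrime m :=
      (IsLocalization.atUnits R m.primeCompl (S := Localization.AtPrime m) (fun x hx => by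
        by_contra hu; exact hx ((IsLocalRing.mem_maximalIdeal x).mpr hu))).toRingEquiv
    have he : (IsLocalRing.maximalIdeal R).map (e : R →+* Localization.AtPrime m)
        = IsLocalRing.maximalIdeal (Localization.AtPrime m) := by
      rw [Ideal.map_comap_of_equiv]
      exact IsLocalRing.eq_maximalIdeal (Ideal.comap_isMaximal_of_equiv e.symm)
    obtain ⟨σ, hσ⟩ := Groth.PropsBasic.GRingLocal.exists_cplEquiv _ _ e he
    exact Groth.PropsBasic.GRingLocal.isRegularHom_of_equiv e σ hσ
      (Groth.NeronArea.DVRExcellent.isRegularHom_cpl_dvr R hgr)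

end Groth.Agent.S17703
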