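import Groth.Statements.S1771
import Groth.Agent.LocFinite.KollarFormal
import Groth.Agent.Calg1.AnalyticUnramifiedNagata
import Groth.Agent.PropsBasic.NagataLocal
import Groth.Agent.Calg1.NagataBasic

set_option autoImplicit false
universe u
open LocCoh

namespace Groth.Agent.S1771

/-- Let A be a Noetherian ring which is Nagata and universally catenary, I an ideal of A and M a finite
A-module. Suppose that for every associated prime p of M not containing I and every prime q
containing both p and I, the longest chain of primes from p to q has length at least 2. Then the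
local cohomology module H^1_I(M) is a finite A-module. The published statement asserts that the
pushforward of a coherent sheaf from the open complement of V(I) is coherent; this is its affine
form, stated as finiteness of H^1_I(M). -/
theorem result (A : Type u) [CommRing A] [IsNoetherianRing A] (hN : CAlg.IsNagata A) (hU : CAlg.IsUniversallyCatenary A) (I : Ideal A) (M : Type u) [AddCommGroup M] [Module A M] [Module.Finite A M] (h : ∀ (p q : PrimeSpectrum A) (hpq : p ≤ q), p.asIdeal ∈ associatedPrimes A M → ¬ I ≤ p.asIdeal → I ≤ q.asIdeal → (2 : ℕ∞) ≤ Order.height (⟨q, hpq⟩ : Set.Ici p)) : Module.Finite A (LocCoh.H I 1 M) := by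
  refine Groth.LocFinite.Kollar.finite_H_one_of_formal hU I M (fun q hIq J _ P hP => ?_) h
  haveI : IsReduced (EGA4.Cpl (Localization.AtPrime q.asIdeal ⧸ J)) :=
    Groth.Calg1.isReduced_completion_of_isNagata _ (Groth.Calg1.isNagata_of_surjective
      (Ideal.Quotient.mk J) Ideal.Quotient.mk_surjective
      (Groth.PropsBasic.isNagata_of_isLocalization q.asIdeal.primeCompl _ hN))
  haveI := Groth.Ega4b.isNoetherianRing_cpl (Localization.AtPrime q.asIdeal ⧸ J)
  exact Groth.LocFinite.Kollar.mem_minimalPrimes_of_reduced hP

end Groth.Agent.S1771
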