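import Groth.Statements.S17719
import Groth.Agent.SpinCurv.PowNode
import Groth.Agent.PicAux.RegularUFD
import Groth.Agent.EGA43Valuative.DominatingDVR
import Groth.Agent.S7924
-- import your own Groth.Agent.* helpers here

set_option autoImplicit false
universe u
open scoped TensorProduct
open CAlg

namespace Groth.Agent.S17719

section Helpers

open IsLocalRing PowerSeries

section Lemmas

/-- Divisibility of a product of two series by a prime power forces it on all products of coefficients. -/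
theorem dvd_mul_coeff {V : Type u} [CommRing V] [IsDomain V] {p : V} (hp : Prime p) :
    ∀ (K : ℕ) (P Q : PowerSeries V), (∀ n, p ^ K ∣ coeff n (P * Q)) → ∀ i j, p ^ K ∣ coeff i P * coeff j Q := by
  intro K
  induction K with
  | zero => intro P Q _ i j; simp
  | succ K ih =>
    intro P Q h i j
    haveI : (Ideal.span {p}).IsPrime := (Ideal.span_singleton_prime hp.ne_zero).mpr hp
    set q := Ideal.Quotient.mk (Ideal.span {p})
    have h0 : P.map q * Q.map q = 0 := by
      ext n
      rw [← map_mul, coeff_map, map_zero, Ideal.Quotient.eq_zero_iff_mem, Ideal.mem_span_singleton]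
      exact (dvd_pow_self p K.succ_ne_zero).trans (h n)
    have key : ∀ P Q : PowerSeries V, (∀ n, p ^ (K + 1) ∣ coeff n (P * Q)) → P.map q = 0 →
        ∀ i j, p ^ (K + 1) ∣ coeff i P * coeff j Q := by
      intro P Q h hP i j
      have hdiv : ∀ n, p ∣ coeff n P := fun n => by
        have := congrArg (coeff n) hP
        rwa [coeff_map, map_zero, Ideal.Quotient.eq_zero_iff_mem, Ideal.mem_span_singleton] at this
      choose c hc using hdiv
      have hPc : P = C p * PowerSeries.mk c := by ext n; simp [hc]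
      have h1 := ih (PowerSeries.mk c) Q (fun n => by
        have := h n
        rw [hPc, mul_assoc, coeff_C_mul, pow_succ'] at this
        exact (mul_dvd_mul_iff_left hp.ne_zero).mp this) i j
      rw [coeff_mk] at h1
      rw [hc i, mul_assoc, pow_succ']
      exact mul_dvd_mul_left p h1
    rcases mul_eq_zero.mp h0 with hP | hQ
    · exact key P Q h hP i j
    · rw [mul_comm]
      exact key Q P (fun n => by rw [mul_comm]; exact h n) hQ j i

theorem dvd_of_forall_prime_pow {R : Type u} [CommRing R] [IsDomain R] [UniqueFactorizationMonoid R]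
    {t : R} (ht : t ≠ 0) :
    ∀ z : R, (∀ p : R, Prime p → ∀ K : ℕ, p ^ K ∣ t → p ^ K ∣ z) → t ∣ z := by
  revert ht
  induction t using UniqueFactorizationMonoid.induction_on_prime with
  | h₁ => intro h; exact absurd rfl h
  | h₂ x hx => intro _ z _; exact hx.dvd
  | h₃ x p hx hp ih =>
    intro _ z h
    obtain ⟨z', rfl⟩ : p ∣ z := by simpa using h p hp 1 (by simp)
    refine mul_dvd_mul_left p (ih hx z' fun q hq K hK => ?_)
    by_cases hass : Associated q p
    · have h1 := h q hq (K + 1) (by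
        rw [pow_succ']; exact mul_dvd_mul hass.dvd hK)
      rw [pow_succ'] at h1
      obtain ⟨u, hu⟩ := hass
      rw [← hu, mul_assoc, mul_dvd_mul_iff_left hq.ne_zero] at h1
      exact (Units.dvd_mul_left).mp h1
    · refine (hq.pow_dvd_of_dvd_mul_left K (fun hd => hass (hq.irreducible.associated_of_dvd hp.irreducible hd)) ?_)
      exact h q hq K (hK.mul_left p)

end Lemmas

/-- An algebra with coordinates like the node `R⟦x, y⟧/(x y - r)`. -/
structure Coord (R : Type u) [CommRing R] (A : Type u) [CommRing A] [Algebra R A] (r : R) where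
  x : A
  y : A
  xy : x * y = algebraMap R A r
  ofX : PowerSeries R →+* A
  ofY : PowerSeries R →+* A
  ofX_X : ofX PowerSeries.X = x
  ofY_X : ofY PowerSeries.X = y
  ofX_C : ∀ a, ofX (PowerSeries.C a) = algebraMap R A a
  ofY_C : ∀ a, ofY (PowerSeries.C a) = algebraMap R A a
  c : A → ℤ → R
  decomp : ∀ a, a = ofX (PowerSeries.mk fun n => c a n) + y * ofY (PowerSeries.mk fun n => c a (-(n + 1 : ℕ)))
  detect : ∀ (J : Ideal R) (P : PowerSeries R), ofX P ∈ J.map (algebraMap R A) → ∀ n, coeff n P ∈ J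
  detectY : ∀ (J : Ideal R) (P : PowerSeries R), ofY P ∈ J.map (algebraMap R A) → ∀ n, coeff n P ∈ J
  c_smul : ∀ (s : R) (a : A) (m : ℤ), c (algebraMap R A s * a) m = s * c a m

namespace Coord

variable {R A : Type u} [CommRing R] [CommRing A] [Algebra R A] {r : R} (S : Coord R A r)

theorem eq_C_add (f : PowerSeries R) (g : PowerSeries R →+* A) (v : A) (hg : g PowerSeries.X = v)
    (hC : ∀ a, g (PowerSeries.C a) = algebraMap R A a) :
    g f = algebraMap R A (coeff 0 f) + v * g (PowerSeries.mk fun n => coeff (n + 1) f) := by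
  conv_lhs => rw [PowerSeries.eq_X_mul_shift_add_const f]
  rw [map_add, map_mul, hg, hC, coeff_zero_eq_constantCoeff_apply, add_comm]

theorem decompY (a : A) :
    a = S.ofY (PowerSeries.mk fun n => S.c a (-(n : ℤ))) + S.x * S.ofX (PowerSeries.mk fun n => S.c a ((n + 1 : ℕ) : ℤ)) := by
  conv_lhs => rw [S.decomp a]
  rw [eq_C_add (PowerSeries.mk fun n : ℕ => S.c a n) S.ofX S.x S.ofX_X S.ofX_C,
    eq_C_add (PowerSeries.mk fun n : ℕ => S.c a (-(n : ℤ))) S.ofY S.y S.ofY_X S.ofY_C]
  simp only [coeff_mk, Nat.cast_zero, neg_zero]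
  ring

/-- The same coordinates with the two branches exchanged. -/
def swap : Coord R A r where
  x := S.y
  y := S.x
  xy := by rw [mul_comm]; exact S.xy
  ofX := S.ofY
  ofY := S.ofX
  ofX_X := S.ofY_X
  ofY_X := S.ofX_X
  ofX_C := S.ofY_C
  ofY_C := S.ofX_C
  c a m := S.c a (-m)
  decomp a := by
    simpa only [neg_neg] using S.decompY a
  detect := S.detectY
  detectY := S.detect
  c_smul s a m := S.c_smul s a (-m)

/-- The coefficients of `x^K a` along the first branch. -/
noncomputable def P (a : A) (K : ℕ) : PowerSeries R :=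
  PowerSeries.mk fun i => S.c a ((i : ℤ) - K) * r ^ (-((i : ℤ) - K)).toNat

theorem x_pow_mul (a : A) (K : ℕ) :
    S.x ^ K * a = S.ofX (S.P a K) +
      algebraMap R A (r ^ K) * (S.y * S.ofY (PowerSeries.mk fun n => S.c a (-(n + K + 1 : ℕ)))) := by
  induction K with
  | zero =>
    rw [pow_zero, one_mul, pow_zero, map_one, one_mul]
    conv_lhs => rw [S.decomp a]
    congr 2
    ext i
    simp [P]
  | succ K ih =>
    rw [pow_succ', mul_assoc, ih, mul_add]
    have h1 : S.ofX (S.P a (K + 1)) =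
        S.x * S.ofX (S.P a K) + algebraMap R A (r ^ (K + 1) * S.c a (-(K + 1 : ℕ))) := by
      rw [← S.ofX_X, ← map_mul, ← S.ofX_C, ← map_add]
      congr 1
      ext i
      rcases i with _ | i
      · simp only [P, coeff_mk, map_add, PowerSeries.coeff_zero_X_mul, PowerSeries.coeff_C, if_pos, zero_add]
        rw [show -(((0 : ℕ) : ℤ) - (K + 1 : ℕ)) = ((K + 1 : ℕ) : ℤ) by omega, Int.toNat_natCast,
          show ((0 : ℕ) : ℤ) - (K + 1 : ℕ) = -(K + 1 : ℕ) by omega, mul_comm]
      · simp only [P, coeff_mk, map_add, PowerSeries.coeff_succ_X_mul, PowerSeries.coeff_C, Nat.succ_ne_zero,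
          if_false, add_zero]
        rw [show ((i + 1 : ℕ) : ℤ) - (K + 1 : ℕ) = (i : ℤ) - K by omega]
    rw [h1, eq_C_add (PowerSeries.mk fun n : ℕ => S.c a (-(n + K + 1 : ℕ))) S.ofY S.y S.ofY_X S.ofY_C]
    simp only [coeff_mk, Nat.zero_add]
    have e : ∀ n : ℕ, S.c a (-((n + 1 + K + 1 : ℕ) : ℤ)) = S.c a (-((n + (K + 1) + 1 : ℕ) : ℤ)) := fun n => by
      congr 2; omega
    simp only [e]
    rw [map_mul, map_pow, map_pow]
    linear_combination (algebraMap R A r ^ K * (algebraMap R A (S.c a (-((K + 1 : ℕ) : ℤ))) +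
      S.y * S.ofY (PowerSeries.mk fun n => S.c a (-((n + (K + 1) + 1 : ℕ) : ℤ))))) * S.xy

theorem mul_mem (J : Ideal R) (K : ℕ) (hJ : r ^ K ∈ J) {a b : A} {t : R} (hab : a * b = algebraMap R A t)
    (ht : t ∈ J) : ∀ n, coeff n (S.P a K * S.P b K) ∈ J := by
  refine S.detect J _ ?_
  set Wa := S.y * S.ofY (PowerSeries.mk fun n => S.c a (-(n + K + 1 : ℕ)))
  set Wb := S.y * S.ofY (PowerSeries.mk fun n => S.c b (-(n + K + 1 : ℕ)))
  have h : S.ofX (S.P a K * S.P b K) = algebraMap R A t * (S.x ^ K * S.x ^ K) -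
      algebraMap R A (r ^ K) * (S.ofX (S.P a K) * Wb + Wa * (S.x ^ K * b)) := by
    rw [map_mul]
    have ha := S.x_pow_mul a K
    have hb := S.x_pow_mul b K
    linear_combination (-(S.x ^ K * b)) * ha + (-(S.ofX (S.P a K))) * hb + (S.x ^ K * S.x ^ K) * hab
  rw [h]
  exact sub_mem (Ideal.mul_mem_right _ _ (Ideal.mem_map_of_mem _ ht))
    (Ideal.mul_mem_right _ _ (Ideal.mem_map_of_mem _ hJ))

theorem dvd_image [IsDomain R] {V : Type u} [CommRing V] [IsDomain V] {p : V} (hp : Prime p) (φ : R →+* V)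
    (hr : p ∣ φ r) {a b : A} {t : R} (hab : a * b = algebraMap R A t) (K : ℕ) (ht : p ^ K ∣ φ t) (m l : ℤ) :
    p ^ K ∣ φ (S.c a m * r ^ (-m).toNat * (S.c b l * r ^ (-l).toNat)) := by
  have hsmall : ∀ (z : A) (m : ℤ), m < -(K : ℤ) → p ^ K ∣ φ (S.c z m * r ^ (-m).toNat) := by
    intro z m hm
    rw [map_mul, map_pow]
    exact dvd_mul_of_dvd_right ((pow_dvd_pow p (by omega)).trans (pow_dvd_pow_of_dvd hr _)) _
  by_cases hm : m < -(K : ℤ)
  · rw [map_mul]; exact dvd_mul_of_dvd_left (hsmall a m hm) _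
  by_cases hl : l < -(K : ℤ)
  · rw [map_mul]; exact dvd_mul_of_dvd_right (hsmall b l hl) _
  have hJ := S.mul_mem ((Ideal.span {p ^ K}).comap φ) K
    (by rw [Ideal.mem_comap, Ideal.mem_span_singleton, map_pow]; exact pow_dvd_pow_of_dvd hr K) hab
    (by rwa [Ideal.mem_comap, Ideal.mem_span_singleton])
  have h := dvd_mul_coeff hp K ((S.P a K).map φ) ((S.P b K).map φ) (fun n => by
    rw [← map_mul, coeff_map, ← Ideal.mem_span_singleton, ← Ideal.mem_comap]; exact hJ n)
    (m + K).toNat (l + K).toNat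
  rw [coeff_map, coeff_map, ← map_mul] at h
  simp only [P, coeff_mk] at h
  rw [show ((m + K).toNat : ℤ) - K = m by omega, show ((l + K).toNat : ℤ) - K = l by omega] at h
  exact h

theorem eq_smul_of_dvd {s : R} {a : A} (h : ∀ m, s ∣ S.c a m) : ∃ a', a = algebraMap R A s * a' := by
  choose d hd using h
  refine ⟨S.ofX (PowerSeries.mk fun n => d n) + S.y * S.ofY (PowerSeries.mk fun n => d (-(n + 1 : ℕ))), ?_⟩
  conv_lhs => rw [S.decomp a]
  rw [mul_add, mul_left_comm]
  conv_rhs => rw [← S.ofX_C, ← map_mul, S.ofX_C, ← S.ofY_C, ← map_mul]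
  congr 3 <;> ext n <;> simp [← hd]

include S in
theorem cancel [IsDomain R] {s : R} (hs : s ≠ 0) {z w : A} (h : algebraMap R A s * z = algebraMap R A s * w) : z = w := by
  have hc : ∀ m, S.c z m = S.c w m := fun m => by
    have := congrArg (fun v => S.c v m) h
    simp only [S.c_smul] at this
    exact mul_left_cancel₀ hs this
  rw [S.decomp z, S.decomp w]
  simp only [hc]

theorem pow_dvd_of_not_dvd [IsDomain R] [IsNoetherianRing R] [IsLocalRing R] (hrm : r ∈ maximalIdeal R)
    {p : R} (hp : Prime p) (hpr : ¬ p ∣ r) :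
    ∀ (K : ℕ) (a b : A) (t : R), a * b = algebraMap R A t → p ^ K ∣ t → ∀ m l, p ^ K ∣ S.c a m * S.c b l := by
  intro K
  induction K with
  | zero => intros; simp
  | succ K ih =>
    intro a b t hab ht
    haveI : (Ideal.span {p}).IsPrime := (Ideal.span_singleton_prime hp.ne_zero).mpr hp
    haveI : Nontrivial (R ⧸ Ideal.span {p}) := Ideal.Quotient.nontrivial_iff.mpr (Ideal.IsPrime.ne_top inferInstance)
    haveI : IsLocalRing (R ⧸ Ideal.span {p}) := IsLocalRing.of_surjective' _ Ideal.Quotient.mk_surjective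
    have hr0 : Ideal.Quotient.mk (Ideal.span {p}) r ≠ 0 := by
      rwa [Ne, Ideal.Quotient.eq_zero_iff_mem, Ideal.mem_span_singleton]
    haveI : IsLocalHom (Ideal.Quotient.mk (Ideal.span {p})) :=
      Ideal.Quotient.mk_surjective.isLocalHom _
    have hru : ¬ IsUnit (Ideal.Quotient.mk (Ideal.span {p}) r) := fun h => hrm ((isUnit_map_iff _ r).mp h)
    have hD : ¬ IsField (R ⧸ Ideal.span {p}) := fun h => hru (by
      obtain ⟨v, hv⟩ := h.mul_inv_cancel hr0
      exact IsUnit.of_mul_eq_one _ hv)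
    obtain ⟨V, _, _, _, φ, hφ, hφl⟩ := Groth.EGA43Val.exists_dvr_dominating (R ⧸ Ideal.span {p}) hD
    obtain ⟨ϖ, hϖ⟩ := IsDiscreteValuationRing.exists_irreducible V
    set χ := φ.comp (Ideal.Quotient.mk (Ideal.span {p}))
    have hχr : ϖ ∣ χ r := by
      rw [← Ideal.mem_span_singleton, ← hϖ.maximalIdeal_eq]
      exact fun h => hru (IsLocalHom.map_nonunit (f := φ) _ h)
    have hχ0 : ∀ z, χ z = 0 → p ∣ z := fun z hz => by
      rw [← Ideal.mem_span_singleton, ← Ideal.Quotient.eq_zero_iff_mem]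
      exact hφ (by rw [map_zero]; exact hz)
    have hχt : χ t = 0 := by
      show φ _ = 0
      rw [Ideal.Quotient.eq_zero_iff_mem.mpr (Ideal.mem_span_singleton.mpr ((dvd_pow_self p K.succ_ne_zero).trans ht)),
        map_zero]
    have h1 : ∀ m l, p ∣ S.c a m * S.c b l := by
      intro m l
      have h0 : χ (S.c a m * r ^ (-m).toNat * (S.c b l * r ^ (-l).toNat)) = 0 := by
        refine IsHausdorff.haus' (I := maximalIdeal V) _ fun N => ?_
        rw [SModEq.zero, smul_eq_mul, Ideal.mul_top, hϖ.maximalIdeal_eq, Ideal.span_singleton_pow,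
          Ideal.mem_span_singleton]
        exact S.dvd_image hϖ.prime χ hχr hab N (by rw [hχt]; exact dvd_zero _) m l
      have h2 := hχ0 _ h0
      rw [show S.c a m * r ^ (-m).toNat * (S.c b l * r ^ (-l).toNat) =
        (S.c a m * S.c b l) * (r ^ (-m).toNat * r ^ (-l).toNat) by ring] at h2
      refine (hp.dvd_or_dvd h2).resolve_right fun h3 => ?_
      rcases hp.dvd_or_dvd h3 with h4 | h4 <;> exact hpr (hp.dvd_of_dvd_pow h4)
    obtain ⟨t', rfl⟩ : p ∣ t := (dvd_pow_self p K.succ_ne_zero).trans ht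
    have ht' : p ^ K ∣ t' := (mul_dvd_mul_iff_left hp.ne_zero).mp (by rwa [← pow_succ'])
    have key : ∀ a b : A, a * b = algebraMap R A (p * t') → (∀ m, p ∣ S.c a m) →
        ∀ m l, p ^ (K + 1) ∣ S.c a m * S.c b l := by
      intro a b hab ha m l
      obtain ⟨a', rfl⟩ := S.eq_smul_of_dvd ha
      have h3 : a' * b = algebraMap R A t' := S.cancel hp.ne_zero (by rw [← mul_assoc, hab, map_mul])
      rw [S.c_smul, mul_assoc, pow_succ']
      exact mul_dvd_mul_left p (ih a' b t' h3 ht' m l)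
    intro m l
    by_cases ha : ∀ m, p ∣ S.c a m
    · exact key a b hab ha m l
    · push Not at ha
      obtain ⟨m₀, hm₀⟩ := ha
      rw [mul_comm]
      exact key b a (by rw [mul_comm]; exact hab) (fun l => (hp.dvd_or_dvd (h1 m₀ l)).resolve_left hm₀) l m

theorem dvd_all [IsDomain R] [UniqueFactorizationMonoid R] [IsNoetherianRing R] [IsLocalRing R]
    (hrm : r ∈ maximalIdeal R) {a b : A} {t : R} (ht : t ≠ 0) (hab : a * b = algebraMap R A t) (m l : ℤ) :
    t ∣ S.c a m * r ^ (-m).toNat * (S.c b l * r ^ (-l).toNat) := by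
  refine dvd_of_forall_prime_pow ht _ fun p hp K hK => ?_
  by_cases hpr : p ∣ r
  · exact S.dvd_image hp (RingHom.id R) hpr hab K hK m l
  · rw [show S.c a m * r ^ (-m).toNat * (S.c b l * r ^ (-l).toNat) =
        (S.c a m * S.c b l) * (r ^ (-m).toNat * r ^ (-l).toNat) by ring]
    exact dvd_mul_of_dvd_left (S.pow_dvd_of_not_dvd hrm hp hpr K a b t hab hK m l) _

theorem exists_dominant [IsDomain R] [UniqueFactorizationMonoid R] [IsNoetherianRing R] [IsLocalRing R]
    (hrm : r ∈ maximalIdeal R) {a b : A} {t : R} (ht : t ≠ 0) (hab : a * b = algebraMap R A t) :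
    ∃ n : ℤ, ∃ v : Rˣ, S.c a n * r ^ (-n).toNat * (S.c b (-n) * r ^ n.toNat) = t * v := by
  by_contra hne
  push Not at hne
  have hd : ∀ n : ℤ, S.c a n * r ^ (-n).toNat * (S.c b (-n) * r ^ n.toNat) ∈ Ideal.span {t} * maximalIdeal R := by
    intro n
    obtain ⟨q, hq⟩ := S.dvd_all hrm ht hab n (-n)
    rw [neg_neg] at hq
    rw [hq]
    refine Ideal.mul_mem_mul (Ideal.mem_span_singleton_self t) ?_
    intro hu
    exact hne n hu.unit hq
  have hmem : ∀ K : ℕ, t ∈ maximalIdeal R ^ K ⊔ Ideal.span {t} * maximalIdeal R := by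
    intro K
    set J := maximalIdeal R ^ K ⊔ Ideal.span {t} * maximalIdeal R
    have hrK : r ^ K ∈ J := Ideal.mem_sup_left (Ideal.pow_mem_pow hrm K)
    have h : S.ofX (S.P a K * S.P b K - PowerSeries.C t * PowerSeries.X ^ (2 * K)) ∈
        (Ideal.span {r ^ K}).map (algebraMap R A) := by
      rw [map_sub, map_mul, map_mul, map_pow, S.ofX_X, S.ofX_C, Ideal.map_span, Set.image_singleton,
        Ideal.mem_span_singleton]
      refine ⟨-(S.ofX (S.P a K) * (S.y * S.ofY (PowerSeries.mk fun n => S.c b (-(n + K + 1 : ℕ)))) +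
        (S.y * S.ofY (PowerSeries.mk fun n => S.c a (-(n + K + 1 : ℕ)))) * (S.x ^ K * b)), ?_⟩
      have ha := S.x_pow_mul a K
      have hb := S.x_pow_mul b K
      linear_combination (-(S.x ^ K * b)) * ha + (-(S.ofX (S.P a K))) * hb + (S.x ^ K * S.x ^ K) * hab
    have h2 := S.detect _ _ h (2 * K)
    rw [map_sub, coeff_C_mul, coeff_X_pow_self, mul_one, coeff_mul] at h2
    have h3 : ∑ p ∈ Finset.HasAntidiagonal.antidiagonal (2 * K), coeff p.1 (S.P a K) * coeff p.2 (S.P b K) ∈ J := by
      refine Ideal.sum_mem _ fun p hp => Ideal.mem_sup_right ?_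
      rw [Finset.HasAntidiagonal.mem_antidiagonal] at hp
      simp only [P, coeff_mk]
      rw [show ((p.2 : ℤ) - K) = -((p.1 : ℤ) - K) by omega, neg_neg]
      exact hd _
    have h4 : Ideal.span {r ^ K} ≤ J := (Ideal.span_singleton_le_iff_mem _).mpr hrK
    simpa using sub_mem h3 (h4 h2)
  have ht' : t ∈ Ideal.span {t} * maximalIdeal R := Groth.Agent.S7924.mem_of_forall_pow_sup _ _ hmem
  rw [Ideal.mem_span_singleton_mul] at ht'
  obtain ⟨q, hq, hq'⟩ := ht'
  have : q = 1 := mul_left_cancel₀ ht (hq'.trans (mul_one t).symm)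
  exact (maximalIdeal.isMaximal R).ne_top ((Ideal.eq_top_iff_one _).mpr (this ▸ hq))

theorem isUnit_of_c_zero [IsLocalRing A] (hy : S.y ∈ maximalIdeal A) (u : A) (h : S.c u 0 = 1) : IsUnit u := by
  have h1 : IsUnit (S.ofX (PowerSeries.mk fun n => S.c u n)) :=
    (PowerSeries.isUnit_iff_constantCoeff.mpr (by simp [h])).map S.ofX
  by_contra hu
  have h2 : S.ofX (PowerSeries.mk fun n => S.c u n) ∈ maximalIdeal A := by
    have := sub_mem (show u ∈ maximalIdeal A from hu) (Ideal.mul_mem_right (S.ofY (PowerSeries.mk fun n => S.c u (-(n + 1 : ℕ)))) _ hy)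
    nth_rw 1 [S.decomp u] at this
    simpa using this
  exact h2 h1

theorem factor [IsDomain R] [UniqueFactorizationMonoid R] [IsNoetherianRing R] [IsLocalRing R]
    (hrm : r ∈ maximalIdeal R) [IsLocalRing A] (hy : S.y ∈ maximalIdeal A) {a b : A} {t : R} (ht : t ≠ 0)
    (hab : a * b = algebraMap R A t) (n : ℕ) (v : Rˣ)
    (hn : S.c a n * (S.c b (-(n : ℤ)) * r ^ n) = t * v) :
    ∃ u : Aˣ, a = algebraMap R A (S.c a n) * S.x ^ n * u := by
  set q := S.c b (-(n : ℤ))
  have hne : q * r ^ n ≠ 0 := fun h => mul_ne_zero ht v.ne_zero (by rw [← hn, h, mul_zero])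
  have hA : ∀ m : ℤ, S.c a n ∣ S.c a m * r ^ (-m).toNat := by
    intro m
    obtain ⟨z, hz⟩ := S.dvd_all hrm ht hab m (-(n : ℤ))
    rw [neg_neg, Int.toNat_natCast] at hz
    refine ⟨z * ↑v⁻¹, mul_right_cancel₀ hne ?_⟩
    calc S.c a m * r ^ (-m).toNat * (q * r ^ n) = t * z * (↑v * ↑v⁻¹) := by rw [hz]; simp
      _ = t * v * (z * ↑v⁻¹) := by ring
      _ = _ := by rw [← hn]; ring
  have hB : ∀ m : ℤ, S.c a n * r ^ n ∣ S.c a m * r ^ m.toNat := by
    intro m
    obtain ⟨z, hz⟩ := S.swap.dvd_all hrm ht hab (-m) (n : ℤ)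
    simp only [swap, neg_neg, show (-(n : ℤ)).toNat = 0 by omega, pow_zero, mul_one] at hz
    have hq : q ≠ 0 := left_ne_zero_of_mul hne
    refine ⟨z * ↑v⁻¹, mul_right_cancel₀ hq ?_⟩
    calc S.c a m * r ^ m.toNat * q = t * z * (↑v * ↑v⁻¹) := by rw [hz]; simp
      _ = t * v * (z * ↑v⁻¹) := by ring
      _ = _ := by rw [← hn]; ring
  have hdivX : ∀ i : ℕ, S.c a n * r ^ (n - i) ∣ S.c a i := by
    intro i
    by_cases hi : n ≤ i
    · rw [Nat.sub_eq_zero_of_le hi, pow_zero, mul_one]
      simpa using hA i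
    · have h := hB i
      rw [Int.toNat_natCast] at h
      have hr0 : r ^ i ≠ 0 := fun h0 => hne (by
        rw [show r ^ n = r ^ (n - i) * r ^ i by rw [← pow_add]; congr 1; omega, h0, mul_zero, mul_zero])
      rw [show S.c a n * r ^ n = S.c a n * r ^ (n - i) * r ^ i by
        rw [mul_assoc, ← pow_add]; congr 2; omega] at h
      exact (mul_dvd_mul_iff_right hr0).mp h
  have hdivY : ∀ j : ℕ, S.c a n * r ^ n ∣ S.c a (-((j + 1 : ℕ) : ℤ)) := by
    intro j
    have h := hB (-((j + 1 : ℕ) : ℤ))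
    rw [show (-((j + 1 : ℕ) : ℤ)).toNat = 0 by omega, pow_zero, mul_one] at h
    exact h
  choose X hX using hdivX
  choose Y hY using hdivY
  -- the coordinates of the unit
  let d : ℤ → R := fun k => if 0 ≤ k + n then X (k + n).toNat else Y (-(k + n) - 1).toNat
  let w : A := S.ofX (PowerSeries.mk fun i => d i) + S.y * S.ofY (PowerSeries.mk fun i => d (-(i + 1 : ℕ)))
  have hdec : algebraMap R A (S.c a n) * S.x ^ n * w = a := by
    have hx : ∀ (K : ℕ) (g : ℤ → R), S.x ^ K * (S.ofX (PowerSeries.mk fun i => g i) +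
        S.y * S.ofY (PowerSeries.mk fun i => g (-(i + 1 : ℕ)))) =
        S.ofX (PowerSeries.mk fun i => g ((i : ℤ) - K) * r ^ (-((i : ℤ) - K)).toNat) +
        algebraMap R A (r ^ K) * (S.y * S.ofY (PowerSeries.mk fun i => g (-(i + K + 1 : ℕ)))) := by
      intro K
      induction K with
      | zero =>
        intro g
        simp only [pow_zero, one_mul, map_one, Nat.cast_zero, sub_zero, add_zero]
        congr 2
        ext i; simp
      | succ K ih =>
        intro g
        rw [pow_succ', mul_assoc, ih, mul_add]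
        have h1 : S.ofX (PowerSeries.mk fun i => g ((i : ℤ) - (K + 1 : ℕ)) * r ^ (-((i : ℤ) - (K + 1 : ℕ))).toNat) =
            S.x * S.ofX (PowerSeries.mk fun i => g ((i : ℤ) - K) * r ^ (-((i : ℤ) - K)).toNat) +
              algebraMap R A (r ^ (K + 1) * g (-(K + 1 : ℕ))) := by
          rw [← S.ofX_X, ← map_mul, ← S.ofX_C, ← map_add]
          congr 1
          ext i
          rcases i with _ | i
          · simp only [coeff_mk, map_add, PowerSeries.coeff_zero_X_mul, PowerSeries.coeff_C, if_pos, zero_add]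
            rw [show -(((0 : ℕ) : ℤ) - (K + 1 : ℕ)) = ((K + 1 : ℕ) : ℤ) by omega, Int.toNat_natCast,
              show ((0 : ℕ) : ℤ) - (K + 1 : ℕ) = -(K + 1 : ℕ) by omega, mul_comm]
          · simp only [coeff_mk, map_add, PowerSeries.coeff_succ_X_mul, PowerSeries.coeff_C, Nat.succ_ne_zero,
              if_false, add_zero]
            rw [show ((i + 1 : ℕ) : ℤ) - (K + 1 : ℕ) = (i : ℤ) - K by omega]
        rw [h1, eq_C_add (PowerSeries.mk fun i : ℕ => g (-(i + K + 1 : ℕ))) S.ofY S.y S.ofY_X S.ofY_C]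
        simp only [coeff_mk, Nat.zero_add]
        have e : ∀ i : ℕ, g (-((i + 1 + K + 1 : ℕ) : ℤ)) = g (-((i + (K + 1) + 1 : ℕ) : ℤ)) := fun i => by
          congr 2; omega
        simp only [e]
        rw [map_mul, map_pow, map_pow]
        linear_combination (algebraMap R A r ^ K * (algebraMap R A (g (-((K + 1 : ℕ) : ℤ))) +
          S.y * S.ofY (PowerSeries.mk fun i => g (-((i + (K + 1) + 1 : ℕ) : ℤ))))) * S.xy
    rw [mul_assoc, hx n d, mul_add]
    conv_rhs => rw [S.decomp a]
    congr 1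
    · rw [← S.ofX_C, ← map_mul]
      congr 1
      ext i
      simp only [coeff_C_mul, coeff_mk, d]
      rw [if_pos (by omega), show (((i : ℤ) - n + n)).toNat = i by omega, hX i,
        show (-((i : ℤ) - n)).toNat = n - i by omega]
      ring
    · rw [← mul_assoc, ← map_mul, ← S.ofY_C, mul_left_comm, ← map_mul]
      congr 2
      ext i
      simp only [coeff_C_mul, coeff_mk, d]
      rw [if_neg (by omega), show (-(-((i + n + 1 : ℕ) : ℤ) + n) - 1).toNat = i by omega, hY i]
  have hd0 : d 0 = 1 := by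
    have h := hX n
    rw [Nat.sub_self, pow_zero, mul_one] at h
    have hc : S.c a n ≠ 0 := fun h0 => mul_ne_zero ht v.ne_zero (by rw [← hn, h0, zero_mul])
    simp only [d, zero_add, Nat.cast_nonneg, if_true, Int.toNat_natCast]
    exact mul_left_cancel₀ hc (h.symm.trans (mul_one _).symm)
  have hw : IsUnit w := by
    by_contra hu
    have h1 : IsUnit (S.ofX (PowerSeries.mk fun i => d i)) :=
      (PowerSeries.isUnit_iff_constantCoeff.mpr (by simp [hd0])).map S.ofX
    have h2 := sub_mem (show w ∈ maximalIdeal A from hu)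
      (Ideal.mul_mem_right (S.ofY (PowerSeries.mk fun i => d (-(i + 1 : ℕ)))) _ hy)
    simp only [w, add_sub_cancel_right] at h2
    exact h2 h1
  exact ⟨hw.unit, hdec.symm⟩

end Coord

open _root_.SpinCurv in
theorem exists_coord (R : Type u) [CommRing R] [IsNoetherianRing R] [IsLocalRing R]
    [IsAdicComplete (maximalIdeal R) R] (r : R) (hr : r ∈ maximalIdeal R) :
    ∃ S : Coord R (NodeRing R r) r, S.x = NodeRing.x R r ∧ S.y = NodeRing.y R r := by
  let c : NodeRing R r → ℤ → R := Quotient.lift (fun f m => Groth.SpinCurv.pcoord hr f m) (fun f g h => funext fun m =>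
    (Groth.SpinCurv.mk_eq_mk_iff hr f g).mp (Quotient.sound h) m)
  have hcmk : ∀ f m, c (Ideal.Quotient.mk _ f) m = Groth.SpinCurv.pcoord hr f m := fun f m => rfl
  have hsmul : ∀ (s : R) (a : NodeRing R r) (m : ℤ), c (algebraMap R _ s * a) m = s * c a m := by
    intro s a m
    obtain ⟨f, rfl⟩ := Ideal.Quotient.mk_surjective a
    rw [show algebraMap R (NodeRing R r) s = Ideal.Quotient.mk _ (MvPowerSeries.C s) from rfl, ← map_mul, hcmk, hcmk]
    simp only [Groth.SpinCurv.pcoord, MvPowerSeries.coeff_C_mul]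
    exact Groth.SpinCurv.adicSum_eq_of hr ((Groth.SpinCurv.adicSum_spec hr _).const_mul s)
  have hadd : ∀ (a b : NodeRing R r) (m : ℤ), c (a + b) m = c a m + c b m := by
    intro a b m
    obtain ⟨f, rfl⟩ := Ideal.Quotient.mk_surjective a
    obtain ⟨g, rfl⟩ := Ideal.Quotient.mk_surjective b
    rw [← map_add, hcmk, hcmk, hcmk, Groth.SpinCurv.pcoord_add]
  have hext : ∀ a b : NodeRing R r, (∀ m, c a m = c b m) → a = b := by
    intro a b h
    obtain ⟨f, rfl⟩ := Ideal.Quotient.mk_surjective a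
    obtain ⟨g, rfl⟩ := Ideal.Quotient.mk_surjective b
    exact (Groth.SpinCurv.mk_eq_mk_iff hr f g).mpr h
  have hJ : ∀ (J : Ideal R) (z : NodeRing R r), z ∈ J.map (algebraMap R _) → ∀ m, c z m ∈ J := by
    intro J z hz
    suffices h : ∀ d, ∀ m, c (d * z) m ∈ J by simpa using h 1
    induction hz using Submodule.span_induction with
    | mem w hw =>
      obtain ⟨j, hj, rfl⟩ := hw
      intro d m
      rw [mul_comm, hsmul]
      exact J.mul_mem_right _ hj
    | zero =>
      intro d m
      rw [mul_zero, show (0 : NodeRing R r) = algebraMap R _ 0 * 0 by simp, hsmul, zero_mul]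
      exact zero_mem _
    | add u v _ _ hu hv =>
      intro d m
      rw [mul_add, hadd]
      exact add_mem (hu d m) (hv d m)
    | smul s u _ hu =>
      intro d m
      rw [smul_eq_mul, ← mul_assoc]
      exact hu (d * s) m
  let S : Coord R (NodeRing R r) r :=
    { x := NodeRing.x R r
      y := NodeRing.y R r
      xy := Ideal.Quotient.mk_eq_mk_iff_sub_mem (MvPowerSeries.X 0 * MvPowerSeries.X 1) (MvPowerSeries.C r) |>.2
        (Ideal.mem_span_singleton_self _)
      ofX := (Ideal.Quotient.mk _).comp (PowerSeries.toMvPowerSeries (0 : Fin 2)).toRingHom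
      ofY := (Ideal.Quotient.mk _).comp (PowerSeries.toMvPowerSeries (1 : Fin 2)).toRingHom
      ofX_X := by simp [PowerSeries.toMvPowerSeries_X]
      ofY_X := by simp [PowerSeries.toMvPowerSeries_X]
      ofX_C := fun a => by simp [PowerSeries.toMvPowerSeries_C]; rfl
      ofY_C := fun a => by simp [PowerSeries.toMvPowerSeries_C]; rfl
      c := c
      c_smul := hsmul
      detect := fun J P h n => by
        have := hJ J _ h (n : ℤ)
        erw [hcmk, Groth.SpinCurv.pcoord_toMv_zero] at this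
        simpa using this
      detectY := fun J P h n => by
        have := hJ J _ h (-(n : ℤ))
        erw [hcmk, Groth.SpinCurv.pcoord_toMv_one] at this
        simpa using this
      decomp := fun a => by
        refine hext _ _ fun m => ?_
        show _ = c (Ideal.Quotient.mk _ (PowerSeries.toMvPowerSeries 0 (PowerSeries.mk fun n => c a n)) +
          Ideal.Quotient.mk _ (MvPowerSeries.X 1) * Ideal.Quotient.mk _
            (PowerSeries.toMvPowerSeries 1 (PowerSeries.mk fun n => c a (-(n + 1 : ℕ))))) m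
        rw [← map_mul, show (MvPowerSeries.X 1 : MvPowerSeries (Fin 2) R) * PowerSeries.toMvPowerSeries 1
          (PowerSeries.mk fun n => c a (-(n + 1 : ℕ))) = PowerSeries.toMvPowerSeries 1 (PowerSeries.X *
          PowerSeries.mk fun n => c a (-(n + 1 : ℕ))) by rw [map_mul, PowerSeries.toMvPowerSeries_X], hadd, hcmk, hcmk,
          Groth.SpinCurv.pcoord_toMv_zero, Groth.SpinCurv.pcoord_toMv_one]
        rcases lt_trichotomy m 0 with h | rfl | h
        · obtain ⟨n, rfl⟩ : ∃ n : ℕ, m = -((n + 1 : ℕ) : ℤ) := ⟨(-m).toNat - 1, by omega⟩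
          rw [if_neg (by omega), if_pos (by omega), show (-(-((n + 1 : ℕ) : ℤ))).toNat = n + 1 by omega,
            PowerSeries.coeff_succ_X_mul, PowerSeries.coeff_mk, zero_add]
        · simp
        · rw [if_pos h.le, if_neg (by omega), PowerSeries.coeff_mk, add_zero,
            show ((m.toNat : ℕ) : ℤ) = m by omega] }
  exact ⟨S, rfl, rfl⟩

end Helpers

open MvPowerSeries in
/-- Let R be a regular local ring, complete for its maximal ideal, with fraction field K; let r be a
non-zero element of R and A the quotient of the power series ring in two variables x, y over R by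
the ideal generated by xy − r. If an element a of A maps to a unit of A ⊗_R K, then there are an
element s of R, natural numbers m and n with mn = 0 and a unit u of A with a = s xⁿ yᵐ u. -/
theorem result
    (R : Type u) [CommRing R] [IsRegularLocalRing R]
    [IsAdicComplete (IsLocalRing.maximalIdeal R) R]
    (r : R) (hr : r ≠ 0)
    (a : (MvPowerSeries (Fin 2) R ⧸ Ideal.span {(X 0 * X 1 - C r : MvPowerSeries (Fin 2) R)}))
    (ha : IsUnit (a ⊗ₜ[R] (1 : FractionRing R) :
      (MvPowerSeries (Fin 2) R ⧸ Ideal.span {(X 0 * X 1 - C r : MvPowerSeries (Fin 2) R)}) ⊗[R] FractionRing R)) :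
    ∃ (s : R) (m n : ℕ) (u : (MvPowerSeries (Fin 2) R ⧸ Ideal.span {(X 0 * X 1 - C r : MvPowerSeries (Fin 2) R)})ˣ),
      m * n = 0 ∧ a = Ideal.Quotient.mk _ (C s * X 0 ^ n * X 1 ^ m) * (u : (MvPowerSeries (Fin 2) R ⧸ Ideal.span {(X 0 * X 1 - C r : MvPowerSeries (Fin 2) R)})) := by
  classical
  open IsLocalRing MvPowerSeries in
  haveI : IsDomain R := Groth.Ega4Algebra1.isDomain_of_isRegularLocalRing R
  haveI : UniqueFactorizationMonoid R := Groth.PicAux.ufd_of_isRegularLocalRing R
  let A := MvPowerSeries (Fin 2) R ⧸ Ideal.span {(MvPowerSeries.X 0 * MvPowerSeries.X 1 - MvPowerSeries.C r : MvPowerSeries (Fin 2) R)}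
  by_cases hru : IsUnit r
  · have hu : IsUnit (MvPowerSeries.X 0 * MvPowerSeries.X 1 - MvPowerSeries.C r : MvPowerSeries (Fin 2) R) := MvPowerSeries.isUnit_iff_constantCoeff.mpr (by simp [hru])
    haveI : Subsingleton A := Ideal.Quotient.subsingleton_iff.mpr (Ideal.span_singleton_eq_top.mpr hu)
    exact ⟨0, 0, 0, 1, rfl, Subsingleton.elim (α := A) _ _⟩
  -- a multiple of `a` is a nonzero constant
  obtain ⟨b, t, ht, hab⟩ : ∃ (b : A) (t : R), t ≠ 0 ∧ a * b = algebraMap R A t := by
    let ι : A →ₗ[R] A ⊗[R] FractionRing R := (TensorProduct.comm R (FractionRing R) A).toLinearMap ∘ₗ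
      TensorProduct.mk R (FractionRing R) A 1
    haveI : IsLocalizedModule (nonZeroDivisors R) ι :=
      IsLocalizedModule.of_linearEquiv (nonZeroDivisors R) (TensorProduct.mk R (FractionRing R) A 1) _
    obtain ⟨z, hz⟩ := ha.exists_right_inv
    obtain ⟨⟨b, s⟩, hbs⟩ := IsLocalizedModule.surj (nonZeroDivisors R) ι z
    have h1 : ι (a * b) = ι (algebraMap R A s) := by
      show (a * b) ⊗ₜ[R] (1 : FractionRing R) = algebraMap R A s ⊗ₜ[R] (1 : FractionRing R)
      have hb : (s : R) • z = b ⊗ₜ[R] (1 : FractionRing R) := hbs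
      calc (a * b) ⊗ₜ[R] (1 : FractionRing R) = a ⊗ₜ[R] (1 : FractionRing R) * (b ⊗ₜ[R] (1 : FractionRing R)) := by
            rw [Algebra.TensorProduct.tmul_mul_tmul, one_mul]
        _ = (s : R) • (a ⊗ₜ[R] (1 : FractionRing R) * z) := by rw [← hb, mul_smul_comm]
        _ = (s : R) • ((1 : A) ⊗ₜ[R] (1 : FractionRing R)) := by rw [hz]; rfl
        _ = _ := by rw [TensorProduct.smul_tmul', Algebra.algebraMap_eq_smul_one]
    obtain ⟨s', hs'⟩ := (IsLocalizedModule.eq_iff_exists (nonZeroDivisors R) ι).mp h1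
    refine ⟨algebraMap R A s' * b, s' * s, mul_ne_zero (nonZeroDivisors.coe_ne_zero s') (nonZeroDivisors.coe_ne_zero s), ?_⟩
    have h2 : (s' : R) • (a * b) = (s' : R) • algebraMap R A s := hs'
    have h3 : algebraMap R A (s' * s : R) = algebraMap R A s' * (a * b) := by
      rw [map_mul]
      simp only [Algebra.algebraMap_eq_smul_one, smul_one_mul, one_mul, smul_mul_assoc] at h2 ⊢
      exact h2.symm
    rw [h3]; ring
  have hrm : r ∈ maximalIdeal R := hru
  haveI : Nontrivial A := Ideal.Quotient.nontrivial_iff.mpr fun htop => by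
    have h1 : IsUnit (MvPowerSeries.X 0 * MvPowerSeries.X 1 - MvPowerSeries.C r : MvPowerSeries (Fin 2) R) := Ideal.span_singleton_eq_top.mp htop
    have h2 := MvPowerSeries.isUnit_iff_constantCoeff.mp h1
    rw [map_sub, map_mul, constantCoeff_X, constantCoeff_X, constantCoeff_C, mul_zero, zero_sub, IsUnit.neg_iff] at h2
    exact hru h2
  haveI : IsLocalRing A := IsLocalRing.of_surjective' _ Ideal.Quotient.mk_surjective
  haveI : IsLocalHom (Ideal.Quotient.mk (Ideal.span {(MvPowerSeries.X 0 * MvPowerSeries.X 1 - MvPowerSeries.C r : MvPowerSeries (Fin 2) R)})) := Ideal.Quotient.mk_surjective.isLocalHom _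
  have hXm : ∀ i : Fin 2, (Ideal.Quotient.mk (Ideal.span {(MvPowerSeries.X 0 * MvPowerSeries.X 1 - MvPowerSeries.C r : MvPowerSeries (Fin 2) R)}) (MvPowerSeries.X i)) ∈ maximalIdeal A := by
    intro i hu
    have := MvPowerSeries.isUnit_iff_constantCoeff.mp ((isUnit_map_iff (Ideal.Quotient.mk (Ideal.span {(MvPowerSeries.X 0 * MvPowerSeries.X 1 - MvPowerSeries.C r : MvPowerSeries (Fin 2) R)})) _).mp hu)
    rw [constantCoeff_X] at this
    exact not_isUnit_zero this
  obtain ⟨S, hSx, hSy⟩ := exists_coord R r hrm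
  obtain ⟨n, v, hn⟩ := S.exists_dominant hrm ht hab
  have hC : ∀ s : R, algebraMap R A s = Ideal.Quotient.mk _ (MvPowerSeries.C s) := fun s => rfl
  rcases le_or_gt 0 n with h0 | h0
  · obtain ⟨N, rfl⟩ : ∃ N : ℕ, n = N := ⟨n.toNat, by omega⟩
    rw [show (-(N : ℤ)).toNat = 0 by omega, pow_zero, mul_one, Int.toNat_natCast] at hn
    obtain ⟨u, hu⟩ := S.factor hrm (by rw [hSy]; exact hXm 1) ht hab N v hn
    refine ⟨S.c a N, 0, N, u, zero_mul _, ?_⟩
    rw [pow_zero, mul_one, map_mul, map_pow, ← hC]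
    rw [hSx] at hu
    exact hu
  · obtain ⟨N, rfl⟩ : ∃ N : ℕ, n = -(N : ℤ) := ⟨(-n).toNat, by omega⟩
    rw [show (-(N : ℤ)).toNat = 0 by omega, pow_zero, mul_one, neg_neg, Int.toNat_natCast] at hn
    obtain ⟨u, hu⟩ := S.swap.factor hrm (show S.x ∈ _ by rw [hSx]; exact hXm 0) ht hab N v (by
      simp only [Coord.swap, neg_neg]
      linear_combination hn)
    refine ⟨S.c a (-(N : ℤ)), N, 0, u, mul_zero _, ?_⟩
    rw [pow_zero, mul_one, map_mul, map_pow, ← hC]
    change a = algebraMap R A (S.c a (-(N : ℤ))) * S.y ^ N * u at hu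
    rw [hSy] at hu
    exact hu

end Groth.Agent.S17719
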