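import Groth.Statements.S17720
import Mathlib

set_option autoImplicit false
universe u
open CAlg

namespace Groth.Agent.S17720

section Aux

open IsLocalRing

variable {A : Type u} [CommRing A]

/-- `F G` constant with a simple root modulo the maximal ideal forces the constant to vanish. -/
theorem eq_zero_of_mul_eq_C [IsLocalRing A] [IsNoetherianRing A] (F G : PowerSeries A) (a : A)
    (h : F * G = PowerSeries.C a) (hF : PowerSeries.constantCoeff F ∈ maximalIdeal A)
    (_hG : PowerSeries.constantCoeff G ∈ maximalIdeal A)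
    (hu : IsUnit (PowerSeries.coeff 1 F)) : a = 0 := by
  have hcoeff : ∀ j, ∑ p ∈ Finset.HasAntidiagonal.antidiagonal (j + 1), PowerSeries.coeff p.1 F * PowerSeries.coeff p.2 G = 0 := by
    intro j
    rw [← PowerSeries.coeff_mul, h, PowerSeries.coeff_C, if_neg (Nat.succ_ne_zero j)]
  have hall : ∀ n j, PowerSeries.coeff j G ∈ maximalIdeal A ^ n := by
    intro n
    induction n with
    | zero => intro j; simp
    | succ n ih =>
      intro j
      induction j using Nat.strong_induction_on with
      | _ j ihj =>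
        have h1 : PowerSeries.coeff 1 F * PowerSeries.coeff j G ∈ maximalIdeal A ^ (n + 1) := by
          rw [← sub_zero (PowerSeries.coeff 1 F * PowerSeries.coeff j G), ← hcoeff j]
          rw [← Finset.sum_erase_add _ _ (show ((1, j) : ℕ × ℕ) ∈ Finset.HasAntidiagonal.antidiagonal (j + 1) from
            Finset.HasAntidiagonal.mem_antidiagonal.2 (by omega)), sub_add_cancel_right]
          refine neg_mem (sum_mem fun p hp => ?_)
          obtain ⟨p, q⟩ := p
          rw [Finset.mem_erase, Finset.HasAntidiagonal.mem_antidiagonal, Ne, Prod.mk.injEq] at hp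
          rcases Nat.eq_zero_or_pos p with rfl | hp0
          · rw [pow_succ']
            exact Ideal.mul_mem_mul (by rwa [PowerSeries.coeff_zero_eq_constantCoeff_apply]) (ih q)
          · exact Ideal.mul_mem_left _ _ (ihj q (by omega))
        obtain ⟨u, hu⟩ := hu
        rw [← hu] at h1
        have := Ideal.mul_mem_left (maximalIdeal A ^ (n + 1)) (↑u⁻¹) h1
        rwa [Units.inv_mul_cancel_left] at this
  have hG0 : G = 0 := PowerSeries.ext fun j => by
    have h1 : PowerSeries.coeff j G ∈ ⨅ n, maximalIdeal A ^ n := Submodule.mem_iInf _ |>.2 fun n => hall n j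
    rw [Ideal.iInf_pow_eq_bot_of_isLocalRing _ (maximalIdeal.isMaximal A).ne_top] at h1
    simpa using h1
  rw [hG0, mul_zero] at h
  have := congrArg PowerSeries.constantCoeff h
  simpa using this.symm

/-- Restriction of a power series in two variables to the first axis. -/
noncomputable def axis : MvPowerSeries (Fin 2) A →+* PowerSeries A where
  toFun f := PowerSeries.mk fun n => MvPowerSeries.coeff (Finsupp.single 0 n) f
  map_one' := by
    classical
    ext n
    rw [PowerSeries.coeff_mk, MvPowerSeries.coeff_one, PowerSeries.coeff_one]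
    simp
  map_zero' := by ext n; simp
  map_add' f g := by ext n; simp
  map_mul' f g := by
    classical
    ext n
    rw [PowerSeries.coeff_mk, MvPowerSeries.coeff_mul, PowerSeries.coeff_mul, Finsupp.antidiagonal_single,
      Finset.sum_map]
    simp

theorem coeff_axis (f : MvPowerSeries (Fin 2) A) (n : ℕ) :
    PowerSeries.coeff n (axis f) = MvPowerSeries.coeff (Finsupp.single 0 n) f :=
  PowerSeries.coeff_mk n fun n => MvPowerSeries.coeff (Finsupp.single 0 n) f

theorem axis_C (a : A) : axis (MvPowerSeries.C (σ := Fin 2) a) = PowerSeries.C a := by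
  classical
  ext n
  rw [coeff_axis, MvPowerSeries.coeff_C, PowerSeries.coeff_C]
  simp

theorem axis_X_zero : axis (MvPowerSeries.X (0 : Fin 2) : MvPowerSeries (Fin 2) A) = PowerSeries.X := by
  classical
  ext n
  rw [coeff_axis, MvPowerSeries.coeff_X, PowerSeries.coeff_X]
  refine if_congr ⟨fun h => ?_, fun h => by rw [h]⟩ rfl rfl
  simpa using congrArg (fun d => d 0) h

theorem axis_X_one : axis (MvPowerSeries.X (1 : Fin 2) : MvPowerSeries (Fin 2) A) = 0 := by
  classical
  ext n
  rw [coeff_axis, MvPowerSeries.coeff_X, map_zero, if_neg]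
  intro h
  simpa using congrArg (fun d => d 1) h

theorem exists_eq_C_add (f : MvPowerSeries (Fin 2) A) : ∃ g h : MvPowerSeries (Fin 2) A,
    f = MvPowerSeries.C (MvPowerSeries.constantCoeff f) + MvPowerSeries.X 0 * g + MvPowerSeries.X 1 * h := by
  classical
  let f' : MvPowerSeries (Fin 2) A := fun d =>
    if d 0 = 0 then MvPowerSeries.coeff d (f - MvPowerSeries.C (MvPowerSeries.constantCoeff f)) else 0
  have hf' : ∀ d, MvPowerSeries.coeff d f' =
      if d 0 = 0 then MvPowerSeries.coeff d (f - MvPowerSeries.C (MvPowerSeries.constantCoeff f)) else 0 :=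
    fun d => rfl
  obtain ⟨g, hg⟩ : MvPowerSeries.X (0 : Fin 2) ∣ f - MvPowerSeries.C (MvPowerSeries.constantCoeff f) - f' := by
    rw [MvPowerSeries.X_dvd_iff]
    intro d hd
    rw [map_sub, hf', if_pos hd, sub_self]
  obtain ⟨h, hh⟩ : MvPowerSeries.X (1 : Fin 2) ∣ f' := by
    rw [MvPowerSeries.X_dvd_iff]
    intro d hd
    rw [hf']
    split_ifs with h0
    · have : d = 0 := Finsupp.ext fun i => by fin_cases i <;> assumption
      rw [this, map_sub, MvPowerSeries.coeff_zero_C, MvPowerSeries.coeff_zero_eq_constantCoeff_apply, sub_self]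
    · rfl
  exact ⟨g, h, by rw [← hg, ← hh]; ring⟩

open MvPowerSeries in
/-- One inclusion. -/
theorem le_of_algEquiv [IsLocalRing A] [IsNoetherianRing A] (α β : A) (hα : α ∈ maximalIdeal A)
    (hβ : β ∈ maximalIdeal A)
    (φ : (MvPowerSeries (Fin 2) A ⧸ Ideal.span {(X 0 * X 1 - C α : MvPowerSeries (Fin 2) A)}) ≃ₐ[A]
      (MvPowerSeries (Fin 2) A ⧸ Ideal.span {(X 0 * X 1 - C β : MvPowerSeries (Fin 2) A)})) :
    α ∈ Ideal.span {β} := by
  classical
  set Iα := Ideal.span {(X 0 * X 1 - C α : MvPowerSeries (Fin 2) A)} with hIα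
  set Iβ := Ideal.span {(X 0 * X 1 - C β : MvPowerSeries (Fin 2) A)} with hIβ
  let q := Ideal.Quotient.mk (Ideal.span {β})
  have : Nontrivial (A ⧸ Ideal.span {β}) := Ideal.Quotient.nontrivial_iff.2 fun h =>
    (maximalIdeal.isMaximal A).ne_top (top_le_iff.1 (h ▸ (Ideal.span_singleton_le_iff_mem _).2 hβ))
  have : IsLocalRing (A ⧸ Ideal.span {β}) := .of_surjective' q Ideal.Quotient.mk_surjective
  let π : MvPowerSeries (Fin 2) A →+* PowerSeries (A ⧸ Ideal.span {β}) := (PowerSeries.map q).comp axis
  have hπC : ∀ a, π (C a) = PowerSeries.C (q a) := fun a => by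
    show PowerSeries.map q (axis _) = _
    rw [axis_C, PowerSeries.map_C]
  let p : (MvPowerSeries (Fin 2) A ⧸ Iβ) →+* PowerSeries (A ⧸ Ideal.span {β}) :=
    Ideal.Quotient.lift Iβ π fun f hf => by
      obtain ⟨g, rfl⟩ := Ideal.mem_span_singleton'.1 hf
      rw [map_mul, map_sub π, map_mul, hπC]
      show _ * (PowerSeries.map q (axis _) * PowerSeries.map q (axis _) - _) = 0
      rw [axis_X_one, map_zero, mul_zero, zero_sub, show q β = 0 from
        Ideal.Quotient.eq_zero_iff_mem.2 (Ideal.mem_span_singleton_self β), map_zero, neg_zero, mul_zero]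
  have hp : ∀ f, p (Ideal.Quotient.mk Iβ f) = π f := fun f => rfl
  let Φ : MvPowerSeries (Fin 2) A →+* PowerSeries (A ⧸ Ideal.span {β}) :=
    p.comp ((φ.toRingEquiv.toRingHom).comp (Ideal.Quotient.mk Iα))
  have hΦC : ∀ a, Φ (C a) = PowerSeries.C (q a) := fun a => by
    show p (φ (algebraMap A _ a)) = _
    rw [φ.commutes]
    exact (hp (C a)).trans (hπC a)
  have hUV : Φ (X 0) * Φ (X 1) = PowerSeries.C (q α) := by
    rw [← map_mul, ← hΦC]
    show p (φ _) = p (φ _)
    rw [show Ideal.Quotient.mk Iα (X 0 * X 1) = Ideal.Quotient.mk Iα (C α) from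
      Ideal.Quotient.eq.2 (Ideal.mem_span_singleton_self _)]
  have hnon : ∀ i, PowerSeries.constantCoeff (Φ (X i)) ∈ maximalIdeal (A ⧸ Ideal.span {β}) := by
    intro i
    obtain ⟨f, hf⟩ := Ideal.Quotient.mk_surjective (φ (Ideal.Quotient.mk Iα (X i)))
    have hval : Φ (X i) = π f := by show p _ = _; rw [← hp, hf]; rfl
    rw [hval, mem_maximalIdeal, mem_nonunits_iff, show PowerSeries.constantCoeff (π f) = q (constantCoeff f) by
      show PowerSeries.constantCoeff (PowerSeries.map q (axis f)) = _
      rw [← PowerSeries.coeff_zero_eq_constantCoeff_apply, PowerSeries.coeff_map,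
        PowerSeries.coeff_zero_eq_constantCoeff_apply]
      congr 1
      rw [← PowerSeries.coeff_zero_eq_constantCoeff_apply, coeff_axis]
      simp]
    intro hunit
    have : IsLocalHom q := .of_surjective q Ideal.Quotient.mk_surjective
    have h1 : IsUnit f := isUnit_iff_constantCoeff.2 (isUnit_of_map_unit q _ hunit)
    have h2 : IsUnit (Ideal.Quotient.mk Iα (X i) : MvPowerSeries (Fin 2) A ⧸ Iα) := by
      have := (h1.map (Ideal.Quotient.mk Iβ)).map φ.symm
      rwa [hf, AlgEquiv.symm_apply_apply] at this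
    let ev : (MvPowerSeries (Fin 2) A ⧸ Iα) →+* ResidueField A :=
      Ideal.Quotient.lift Iα ((residue A).comp constantCoeff) fun g hg => by
        obtain ⟨c, rfl⟩ := Ideal.mem_span_singleton'.1 hg
        simp [residue_eq_zero_iff, hα]
    have h3 := h2.map ev
    rw [show ev (Ideal.Quotient.mk Iα (X i)) = residue A (constantCoeff (X i : MvPowerSeries (Fin 2) A)) from rfl,
      constantCoeff_X, map_zero] at h3
    exact not_isUnit_zero h3
  have hq : q α = 0 := by
    by_cases h0 : IsUnit (PowerSeries.coeff 1 (Φ (X 0)))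
    · exact eq_zero_of_mul_eq_C _ _ _ hUV (hnon 0) (hnon 1) h0
    by_cases h1 : IsUnit (PowerSeries.coeff 1 (Φ (X 1)))
    · exact eq_zero_of_mul_eq_C _ _ _ (by rwa [mul_comm] at hUV) (hnon 1) (hnon 0) h1
    exfalso
    obtain ⟨z, hz⟩ := φ.surjective (Ideal.Quotient.mk Iβ (X 0))
    obtain ⟨f, rfl⟩ := Ideal.Quotient.mk_surjective z
    have hx : Φ f = PowerSeries.X := by
      show p (φ (Ideal.Quotient.mk Iα f)) = _
      rw [hz, hp]
      show PowerSeries.map q (axis _) = _
      rw [axis_X_zero, PowerSeries.map_X]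
    obtain ⟨g, h, hf⟩ := exists_eq_C_add f
    rw [hf, map_add, map_add, map_mul, map_mul, hΦC] at hx
    have := congrArg (PowerSeries.coeff 1) hx
    simp only [map_add, PowerSeries.coeff_one_mul, PowerSeries.coeff_C, one_ne_zero, if_false, zero_add,
      PowerSeries.coeff_one_X] at this
    have hmem : (1 : A ⧸ Ideal.span {β}) ∈ maximalIdeal (A ⧸ Ideal.span {β}) := by
      rw [← this]
      exact add_mem (add_mem (Ideal.mul_mem_right _ _ h0) (Ideal.mul_mem_left _ _ (hnon 0)))
        (add_mem (Ideal.mul_mem_right _ _ h1) (Ideal.mul_mem_left _ _ (hnon 1)))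
    exact hmem isUnit_one
  exact Ideal.Quotient.eq_zero_iff_mem.1 hq

end Aux

open MvPowerSeries IsLocalRing in
/-- Let A be a Noetherian local ring and α, β two elements of its maximal ideal. If the quotient of the
power series ring in two variables over A by xy − α is isomorphic, as an A-algebra, to the quotient
by xy − β, then αA = βA. (The published statement allows any local ring A; it is taken Noetherian
here, the case in which an algebra isomorphism between these complete local rings is continuous for
their adic topologies.) -/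
theorem result
    (A : Type u) [CommRing A] [IsLocalRing A] [IsNoetherianRing A]
    (α β : A) (hα : α ∈ maximalIdeal A) (hβ : β ∈ maximalIdeal A)
    (φ : (MvPowerSeries (Fin 2) A ⧸ Ideal.span {(X 0 * X 1 - C α : MvPowerSeries (Fin 2) A)}) ≃ₐ[A] (MvPowerSeries (Fin 2) A ⧸ Ideal.span {(X 0 * X 1 - C β : MvPowerSeries (Fin 2) A)})) :
    Ideal.span {α} = Ideal.span {β} := by
  exact le_antisymm ((Ideal.span_singleton_le_iff_mem _).2 (le_of_algEquiv α β hα hβ φ))
    ((Ideal.span_singleton_le_iff_mem _).2 (le_of_algEquiv β α hβ hα φ.symm))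

end Groth.Agent.S17720
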