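import Groth.Statements.S17721
import Mathlib

set_option autoImplicit false
universe u
open CAlg

namespace Groth.Agent.S17721

open Polynomial IsLocalRing in
/-- Let R be a complete discrete valuation ring with fraction field K, and f a polynomial over R with
non-zero constant term a₀ such that a₀ does not divide some coefficient of f of positive degree
(equivalently, the Newton polygon of f has a side of negative slope). Let b be the power series over
K with b · f = a₀, the expansion of the geometric series in 1 − f/a₀. Then the valuations of the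
coefficients b_j are not bounded below: for every non-zero c in R there is an index j with c · b_j
outside R. -/
theorem result
    (R : Type u) [CommRing R] [IsDomain R] [IsDiscreteValuationRing R]
    [IsAdicComplete (maximalIdeal R) R]
    (K : Type u) [Field K] [Algebra R K] [IsFractionRing R K]
    (f : R[X]) (h0 : f.coeff 0 ≠ 0) (hslope : ∃ i : ℕ, 0 < i ∧ ¬ (f.coeff 0 ∣ f.coeff i))
    (b : PowerSeries K)
    (hb : b * ((f.map (algebraMap R K) : K[X]) : PowerSeries K) = PowerSeries.C (algebraMap R K (f.coeff 0))) :
    ∀ c : R, c ≠ 0 → ∃ j : ℕ, algebraMap R K c * PowerSeries.coeff j b ∉ (algebraMap R K).range := by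
  classical
  intro c hc
  by_contra! hall
  choose g hg using hall
  let G : PowerSeries R := PowerSeries.mk g
  let φ := algebraMap R K
  have hφ : Function.Injective φ := IsFractionRing.injective R K
  have hGF : G * (f : PowerSeries R) = PowerSeries.C (c * f.coeff 0) := by
    apply PowerSeries.map_injective φ hφ
    rw [map_mul, PowerSeries.map_C, map_mul φ, map_mul, ← hb, ← mul_assoc, Polynomial.polynomial_map_coe]
    congr 1
    ext j
    rw [PowerSeries.coeff_C_mul, PowerSeries.coeff_map, PowerSeries.coeff_mk]
    exact hg j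
  obtain ⟨π, hπ⟩ := IsDiscreteValuationRing.exists_irreducible R
  have hprime : Prime π := hπ.prime
  obtain ⟨α, hα⟩ := IsDiscreteValuationRing.associated_pow_irreducible h0 hπ
  obtain ⟨i, -, hi⟩ := hslope
  have hex : ∃ n, ∃ i, ¬ π ^ n ∣ f.coeff i := ⟨α, i, fun h => hi (hα.dvd.trans h)⟩
  obtain ⟨e, he⟩ : ∃ e, Nat.find hex = e + 1 := ⟨Nat.find hex - 1, by
    have : Nat.find hex ≠ 0 := fun h => by
      obtain ⟨i, hi⟩ := Nat.find_spec hex
      rw [h, pow_zero] at hi
      exact hi (one_dvd _)
    omega⟩
  have hle : ∀ i, π ^ e ∣ f.coeff i := fun i => by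
    by_contra h
    exact Nat.find_min hex (m := e) (by omega) ⟨i, h⟩
  obtain ⟨i₁, hi₁⟩ := Nat.find_spec hex
  rw [he] at hi₁
  choose a ha using hle
  let F : PowerSeries R := PowerSeries.mk a
  have hfF : (f : PowerSeries R) = PowerSeries.C (π ^ e) * F := by
    ext j
    rw [Polynomial.coeff_coe, PowerSeries.coeff_C_mul, PowerSeries.coeff_mk, ← ha]
  have hF0 : π ∣ a 0 := by
    by_contra h
    have hlt : α ≤ e := by
      by_contra hlt
      have h1 : π ^ (e + 1) ∣ f.coeff 0 := (pow_dvd_pow π (by omega)).trans hα.symm.dvd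
      rw [ha 0, pow_succ] at h1
      exact h ((mul_dvd_mul_iff_left (pow_ne_zero e hπ.ne_zero)).1 h1)
    exact hi (hα.dvd.trans ((pow_dvd_pow π hlt).trans ⟨a i, ha i⟩))
  have hFi : ¬ π ∣ a i₁ := fun h => hi₁ (by rw [ha i₁, pow_succ]; exact mul_dvd_mul_left _ h)
  let q := Ideal.Quotient.mk (Ideal.span {π})
  have : (Ideal.span {π}).IsPrime := (Ideal.span_singleton_prime hπ.ne_zero).2 hprime
  have hq : ∀ x, q x = 0 ↔ π ∣ x := fun x => by
    rw [Ideal.Quotient.eq_zero_iff_mem, Ideal.mem_span_singleton]
  have key : ∀ (k : ℕ) (H : PowerSeries R) (d : R), H * F = PowerSeries.C d → ∀ j, π ^ k ∣ PowerSeries.coeff j H := by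
    intro k
    induction k with
    | zero => exact fun H d _ j => by simp
    | succ k ih =>
      intro H d hHF j
      have hd : π ∣ d := by
        have h := congrArg (PowerSeries.constantCoeff) hHF
        rw [map_mul, PowerSeries.constantCoeff_C, ← PowerSeries.coeff_zero_eq_constantCoeff_apply F,
          PowerSeries.coeff_mk] at h
        exact h ▸ dvd_mul_of_dvd_right hF0 _
      have hFne : PowerSeries.map q F ≠ 0 := fun h => hFi ((hq _).1 (by
        simpa [F] using congrArg (PowerSeries.coeff i₁) h))
      have hH : PowerSeries.map q H = 0 := by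
        have h := congrArg (PowerSeries.map q) hHF
        rw [map_mul, PowerSeries.map_C, (hq d).2 hd, map_zero] at h
        exact (mul_eq_zero.1 h).resolve_right hFne
      have hdiv : ∀ j, π ∣ PowerSeries.coeff j H := fun j => (hq _).1 (by
        simpa using congrArg (PowerSeries.coeff j) hH)
      choose h' hh' using hdiv
      obtain ⟨d', rfl⟩ := hd
      have hH' : H = PowerSeries.C π * PowerSeries.mk h' := by
        ext j
        rw [PowerSeries.coeff_C_mul, PowerSeries.coeff_mk, ← hh']
      have h1 : PowerSeries.mk h' * F = PowerSeries.C d' := by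
        rw [hH', map_mul, mul_assoc] at hHF
        exact mul_left_cancel₀ (fun h => hπ.ne_zero (PowerSeries.C_injective (by rw [h, map_zero]))) hHF
      have h2 := ih _ _ h1 j
      rw [PowerSeries.coeff_mk] at h2
      rw [hh' j, pow_succ']
      exact mul_dvd_mul_left π h2
  have hGFz : (G * PowerSeries.C (π ^ e)) * F = PowerSeries.C (c * f.coeff 0) := by rw [mul_assoc, ← hfF, hGF]
  have hz : G * PowerSeries.C (π ^ e) = 0 := by
    ext j
    rw [map_zero]
    by_contra hne
    obtain ⟨n, hn⟩ := IsDiscreteValuationRing.associated_pow_irreducible hne hπ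
    have := (key (n + 1) _ _ hGFz j).trans hn.dvd
    exact hπ.not_isUnit (isUnit_of_dvd_one ((mul_dvd_mul_iff_left (pow_ne_zero n hπ.ne_zero)).1
      (by rwa [mul_one, ← pow_succ])))
  rw [hz, zero_mul] at hGFz
  exact mul_ne_zero hc h0 (PowerSeries.C_injective (by rw [map_zero, ← hGFz]))

end Groth.Agent.S17721
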