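import Groth.Statements.S17725
import Mathlib.Topology.Sober

set_option autoImplicit false
universe u
open SpecSp

namespace Groth.Agent.S17725

open AlgebraicGeometry in
/-- In a connected Noetherian scheme any two points p, q are linked by a finite chain of points p = x₁,
…, xₙ = q such that for each i one of x_i, x_{i+1} is a specialization of the other; equivalently, p
and q are related by the equivalence relation generated by the specialization relation. -/
theorem result
    (X : Scheme.{u}) [IsNoetherian X] [ConnectedSpace X] (p q : X) :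
    Relation.EqvGen (fun x y : X => x ⤳ y) p q := by
  classical
  let S : Set X := {x | Relation.EqvGen (fun a b : X => a ⤳ b) p x}
  have hclass : ∀ x ∈ S, ∀ y : X, (x ⤳ y ∨ y ⤳ x) → y ∈ S := fun x hx y h ↦ by
    rcases h with h | h
    · exact .trans _ _ _ hx (.rel _ _ h)
    · exact .trans _ _ _ hx (.symm _ _ (.rel _ _ h))
  have hclosed : ∀ S : Set X, (∀ x ∈ S, ∀ y : X, (x ⤳ y ∨ y ⤳ x) → y ∈ S) → IsClosed S := by
    intro S hS
    have heq : S = ⋃ Z ∈ {Z ∈ irreducibleComponents X | (Z ∩ S).Nonempty}, Z := by
      ext x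
      simp only [Set.mem_iUnion, Set.mem_ofPred_eq, exists_prop]
      refine ⟨fun hx ↦ ⟨irreducibleComponent x, ⟨irreducibleComponent_mem_irreducibleComponents x,
        ⟨x, mem_irreducibleComponent, hx⟩⟩, mem_irreducibleComponent⟩, ?_⟩
      rintro ⟨Z, ⟨hZ, z, hzZ, hzS⟩, hxZ⟩
      have hη := hZ.1.isGenericPoint_genericPoint (isClosed_of_mem_irreducibleComponents Z hZ)
      exact hS _ (hS z hzS _ (Or.inr (hη.specializes hzZ))) x (Or.inl (hη.specializes hxZ))
    rw [heq]
    exact (TopologicalSpace.NoetherianSpace.finite_irreducibleComponents.subset fun Z hZ ↦ hZ.1)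
      |>.isClosed_biUnion fun Z hZ ↦ isClosed_of_mem_irreducibleComponents Z hZ.1
  have hclopen : IsClopen S := ⟨hclosed S hclass, isClosed_compl_iff.1 (hclosed Sᶜ
    fun x hx y h hy ↦ hx (hclass y hy x h.symm))⟩
  exact Set.eq_univ_iff_forall.1 (hclopen.eq_univ ⟨p, .refl p⟩) q

end Groth.Agent.S17725
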