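import Groth.Statements.S17726
import Mathlib

set_option autoImplicit false
universe u
open CAlg

namespace Groth.Agent.S17726

/-- Let f and g be non-zero-divisors of a commutative ring A, not both units; think of them as local
equations, at a point of the union of the supports, of two effective Cartier divisors E and D. If
the ideals generated by g^{m₁} and f^{n₁} coincide, and likewise for g^{m₂} and f^{n₂}, then m₁ n₂ =
m₂ n₁. So all pairs (m, n) with m D = n E locally at the point are proportional, and the saturation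
of the monoid they form is generated by a single element. -/
theorem result
    (A : Type u) [CommRing A] (f g : A)
    (hf : f ∈ nonZeroDivisors A) (hg : g ∈ nonZeroDivisors A) (hfg : ¬ (IsUnit f ∧ IsUnit g))
    (m₁ n₁ m₂ n₂ : ℕ)
    (h₁ : Ideal.span {g ^ m₁} = Ideal.span {f ^ n₁})
    (h₂ : Ideal.span {g ^ m₂} = Ideal.span {f ^ n₂}) :
    m₁ * n₂ = m₂ * n₁ := by
  have assoc : ∀ {a b : A} {m n : ℕ}, Ideal.span {a ^ m} = Ideal.span {b ^ n} → ∀ k : ℕ,
      Ideal.span {a ^ (m * k)} = Ideal.span {b ^ (n * k)} := by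
    intro a b m n h k
    rw [pow_mul, pow_mul, ← Ideal.span_singleton_pow, ← Ideal.span_singleton_pow _ k, h]
  have unit : ∀ {a : A}, a ∈ nonZeroDivisors A → ∀ {i j : ℕ},
      Ideal.span {a ^ i} = Ideal.span {a ^ j} → i ≠ j → IsUnit a := by
    intro a ha
    have main : ∀ {i j : ℕ}, Ideal.span {a ^ i} = Ideal.span {a ^ j} → i < j → IsUnit a := by
      intro i j h hij
      obtain ⟨c, hc⟩ := Ideal.mem_span_singleton.1 (h ▸ Ideal.mem_span_singleton_self (a ^ i) :
        a ^ i ∈ Ideal.span {a ^ j})
      obtain ⟨k, rfl⟩ := Nat.exists_eq_add_of_lt hij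
      have hz : (a * (a ^ k * c) - 1) * a ^ i = 0 := by
        rw [sub_mul, one_mul, sub_eq_zero]
        calc a * (a ^ k * c) * a ^ i = a ^ (i + k + 1) * c := by ring
          _ = a ^ i := hc.symm
      exact IsUnit.of_mul_eq_one _
        (sub_eq_zero.1 ((mem_nonZeroDivisors_iff_right.1 (pow_mem ha i)) _ hz))
    intro i j h hne
    rcases lt_or_gt_of_ne hne with h' | h'
    · exact main h h'
    · exact main h.symm h'
  by_contra hne
  apply hfg
  constructor
  · refine unit hf (i := n₁ * m₂) (j := n₂ * m₁) ?_ (fun h => hne (by linarith))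
    rw [← assoc h₁ m₂, mul_comm m₁ m₂, assoc h₂ m₁]
  · refine unit hg (i := m₁ * n₂) (j := m₂ * n₁) ?_ hne
    rw [assoc h₁ n₂, mul_comm n₁ n₂, assoc h₂ n₁]

end Groth.Agent.S17726
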