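import Groth.Statements.S17727
import Groth.Agent.GrpschAbsch.SchDense


set_option autoImplicit false
universe u
open Neron

namespace Groth.Agent.S17727

open CategoryTheory AlgebraicGeometry in
/-- Let f : E → S be a morphism of schemes and U ⊆ S a schematically dense open subscheme such that f
restricts to an isomorphism over U and the preimage of U is schematically dense in E. Then for every
section σ of f and every point s of S there is an open neighbourhood W of σ(s) in E on which f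
restricts to an open immersion. (The published statements conclude that the section lands in the
étale locus of f, in one published form for an algebraic space E, in another for f locally of finite
type over a Noetherian base; the affine-local argument gives the sharper conclusion recorded here,
for schemes.) -/
theorem result
    {E S : Scheme.{u}} (f : E ⟶ S) (U : S.Opens) (hU : CInt.IsSchematicallyDense U)
    (hiso : IsIso (morphismRestrict f U)) (hdense : CInt.IsSchematicallyDense (f ⁻¹ᵁ U))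
    (σ : S ⟶ E) (hσ : σ ≫ f = 𝟙 S) (s : S) :
    ∃ W : E.Opens, σ.base s ∈ W ∧ IsOpenImmersion (W.ι ≫ f) := by
  obtain ⟨-, ⟨W₀, hW₀, rfl⟩, hsW₀, -⟩ :=
    E.isBasis_affineOpens.exists_subset_of_mem_open (Set.mem_univ (σ.base s)) isOpen_univ
  change E.Opens at W₀
  have hW₀' : IsAffine (W₀ : Scheme.{u}) := hW₀
  let W : E.Opens := W₀ ⊓ f ⁻¹ᵁ (σ ⁻¹ᵁ W₀)
  have hfσ : ∀ x : S, f.base (σ.base x) = x := fun x =>
    congrArg (fun g : S ⟶ S => g.base x) hσ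
  refine ⟨W, ⟨hsW₀, by show σ.base (f.base (σ.base s)) ∈ W₀; rw [hfσ]; exact hsW₀⟩, ?_⟩
  have hWle : W ≤ f ⁻¹ᵁ (σ ⁻¹ᵁ W₀) := inf_le_right
  let a : (W : Scheme.{u}) ⟶ W₀ := E.homOfLE inf_le_left
  let fW : (W : Scheme.{u}) ⟶ (σ ⁻¹ᵁ W₀ : S.Opens) := f.resLE (σ ⁻¹ᵁ W₀) W hWle
  have hdW : CInt.IsSchematicallyDense (W.ι ⁻¹ᵁ (f ⁻¹ᵁ U)) := by
    intro V x y hxy
    apply hdense (W.ι ''ᵁ V)
    have e : W.ι ''ᵁ (V ⊓ W.ι ⁻¹ᵁ (f ⁻¹ᵁ U)) = W.ι ''ᵁ V ⊓ f ⁻¹ᵁ U := by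
      ext z; constructor
      · rintro ⟨w, ⟨h1, h2⟩, rfl⟩; exact ⟨⟨w, h1, rfl⟩, h2⟩
      · rintro ⟨⟨w, h1, rfl⟩, h2⟩; exact ⟨w, ⟨h1, h2⟩, rfl⟩
    have h := congrArg (E.presheaf.map (eqToHom e.symm).op).hom hxy
    have c : ∀ {A B C : E.Opensᵒᵖ} (g : A ⟶ B) (h : B ⟶ C) (k : A ⟶ C) (z : E.presheaf.obj A),
        E.presheaf.map h (E.presheaf.map g z) = E.presheaf.map k z := by
      intro A B C g h k z
      rw [← ConcreteCategory.comp_apply, ← Functor.map_comp, Subsingleton.elim (g ≫ h) k]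
    exact (c _ _ _ x).symm.trans (h.trans (c _ _ _ y))
  have hd := Groth.GrpschAbsch.isSchemeTheoreticallyDominant_ι _ hdW
  have key : fW ≫ σ ∣_ W₀ = a := by
    refine Groth.GrpschAbsch.ext_of_isSchemeTheoreticallyDominant (Limits.terminal.from (W₀ : Scheme.{u}))
      (Limits.terminal.hom_ext _ _) (W.ι ⁻¹ᵁ (f ⁻¹ᵁ U)).ι ?_
    rw [← cancel_mono W₀.ι]
    simp only [Category.assoc, a, fW, morphismRestrict_ι, Scheme.homOfLE_ι, Scheme.Hom.resLE_comp_ι_assoc]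
    let j : (↑(W.ι ⁻¹ᵁ (f ⁻¹ᵁ U)) : Scheme.{u}) ⟶ (f ⁻¹ᵁ U : E.Opens) := W.ι ∣_ (f ⁻¹ᵁ U)
    rw [← morphismRestrict_ι_assoc W.ι (f ⁻¹ᵁ U), ← morphismRestrict_ι W.ι (f ⁻¹ᵁ U)]
    congr 1
    let σU : (U : Scheme.{u}) ⟶ (f ⁻¹ᵁ U : E.Opens) := σ.resLE (f ⁻¹ᵁ U) U (fun x hx => by
      show f.base (σ.base x) ∈ U; rw [hfσ]; exact hx)
    have hσU : σU ≫ f ∣_ U = 𝟙 _ := by
      rw [← cancel_mono U.ι]; simp [σU, morphismRestrict_ι, hσ]
    have : σU = inv (f ∣_ U) := IsIso.eq_inv_of_inv_hom_id hσU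
    calc (f ⁻¹ᵁ U).ι ≫ f ≫ σ = f ∣_ U ≫ U.ι ≫ σ := (morphismRestrict_ι_assoc f U σ).symm
      _ = f ∣_ U ≫ σU ≫ (f ⁻¹ᵁ U).ι := by simp [σU]
      _ = (f ⁻¹ᵁ U).ι := by rw [this]; simp
  have hσW : σ ⁻¹ᵁ W₀ ≤ σ ⁻¹ᵁ W := fun x hx => ⟨hx, by show σ.base (f.base (σ.base x)) ∈ W₀; rw [hfσ]; exact hx⟩
  let σW : ((σ ⁻¹ᵁ W₀ : S.Opens) : Scheme.{u}) ⟶ W := σ.resLE W (σ ⁻¹ᵁ W₀) hσW
  have : IsIso fW := by
    refine ⟨σW, ?_, ?_⟩
    · rw [← cancel_mono W.ι]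
      have := congrArg (· ≫ W₀.ι) key
      simp only [Category.assoc, a, Scheme.homOfLE_ι, morphismRestrict_ι] at this
      simpa [σW] using this
    · rw [← cancel_mono (σ ⁻¹ᵁ W₀).ι]
      simp [σW, fW, hσ]
  have : W.ι ≫ f = fW ≫ (σ ⁻¹ᵁ W₀).ι := (Scheme.Hom.resLE_comp_ι f hWle).symm
  rw [this]
  infer_instance

end Groth.Agent.S17727
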