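import Groth.Statements.S17729
import Groth.Agent.Calg4.CompletionPowerSeries
import Groth.Agent.Misc5Node.FirstOrder

set_option autoImplicit false
universe u
open DualGr

namespace Groth.Agent.S17729

section Alg

open IsLocalRing TrivSqZeroExt Groth.Misc5Node

/-- A ring map into the range of an injective one factors through it. -/
theorem exists_factor {B T S : Type u} [CommRing B] [Semiring T] [Semiring S] (f : T →+* S)
    (hf : Function.Injective f) (h : B →+* S) (hr : ∀ b, ∃ x, f x = h b) :
    ∃ H : B →+* T, ∀ b, f (H b) = h b := by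
  choose H hH using hr
  exact ⟨{ toFun := H
           map_one' := hf (by simp [hH])
           map_mul' := fun x y => hf (by simp [hH])
           map_zero' := hf (by simp [hH])
           map_add' := fun x y => hf (by simp [hH]) }, hH⟩

/-- Ring maps respect powers of ideals. -/
theorem map_mem_pow {S T : Type u} [CommRing S] [CommRing T] (f : S →+* T) {I : Ideal S} {J : Ideal T}
    (hf : ∀ x ∈ I, f x ∈ J) {n : ℕ} {x : S} (hx : x ∈ I ^ n) : f x ∈ J ^ n :=
  Ideal.pow_right_mono (Ideal.map_le_iff_le_comap.2 hf) n (Ideal.map_pow f I n ▸ Ideal.mem_map_of_mem f hx)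

set_option maxHeartbeats 1000000 in
/-- Over a prime containing the thickness, the fibre of a node is not smooth at all its points:
the prime is the kernel of `θ : R → D` and `K` is the fraction field of `D`. -/
theorem aux {R : Type u} [CommRing R] [IsLocalRing R] {B A : Type u} [CommRing B] [Algebra R B]
    [Algebra.FiniteType R B] [CommRing A] [Algebra B A] [IsLocalRing A] [IsNoetherianRing A]
    (q : Ideal B) [q.IsPrime] [IsLocalization.AtPrime A q] (a : R)
    (hnode : DualGr.IsThickNode ((algebraMap B A).comp (algebraMap R B)) a)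
    {D K : Type u} [CommRing D] [IsDomain D] [IsLocalRing D] [IsNoetherianRing D] [CommRing K] [IsDomain K]
    (θ : R →+* D) (hθs : Function.Surjective θ) (hθa : θ a = 0)
    (ρ : Curv2.cpl R →+* D) (hρ : ∀ r, ρ (algebraMap R (Curv2.cpl R) r) = θ r)
    (j : D →+* K) (hj : Function.Injective j) (hunit : ∀ x : K, x ≠ 0 → IsUnit x)
    (hden : ∀ G : Finset K, ∃ s : D, s ≠ 0 ∧ ∀ x ∈ G, ∃ d, j d = j s * x)
    (hsm : ∀ P : PrimeSpectrum B, P.asIdeal.comap (algebraMap R B) = RingHom.ker θ →
      ∃ g ∉ P.asIdeal, Algebra.FormallySmooth R (Localization.Away g)) : False := by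
  classical
  obtain ⟨e, he⟩ := hnode
  let Ψ : DualGr.nodeRing R a →+* T₁ D := Ideal.Quotient.lift _ (truncHom ρ) (by
    suffices Ideal.span _ ≤ RingHom.ker (truncHom ρ) from fun x hx => this hx
    rw [Ideal.span_le, Set.singleton_subset_iff]
    have ha := hθa
    show truncHom ρ _ = 0
    rw [map_sub, map_mul]
    ext <;> simp [truncHom, MvPowerSeries.coeff_C, MvPowerSeries.coeff_X, hρ, ha, Finsupp.single_eq_single_iff])
  have hΨC : ∀ r, Ψ (Ideal.Quotient.mk _ (MvPowerSeries.C (algebraMap R (Curv2.cpl R) r))) =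
      inl (θ r) := fun r => by
    show truncHom ρ _ = _
    ext <;> simp [truncHom, MvPowerSeries.coeff_C, hρ]
  have : IsLocalRing (DualGr.nodeRing R a) := e.isLocalRing
  let ε : DualGr.nodeRing R a →+* D := (fstHom D D (D × D)).toRingHom.comp Ψ
  have hεs : Function.Surjective ε := fun d => by
    obtain ⟨r, rfl⟩ := hθs d
    exact ⟨Ideal.Quotient.mk _ (MvPowerSeries.C (algebraMap R (Curv2.cpl R) r)), (congrArg TrivSqZeroExt.fst (hΨC r)).trans (fst_inl _ _)⟩
  have hεm : ∀ x ∈ maximalIdeal (DualGr.nodeRing R a), ε x ∈ maximalIdeal D := fun x hx => by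
    have := Ideal.comap_isMaximal_of_surjective ε hεs (K := maximalIdeal D)
    rw [← IsLocalRing.eq_maximalIdeal this] at hx
    exact hx
  let τ : A →+* T₁ D := Ψ.comp (e.toRingHom.comp (algebraMap A (Curv2.cpl A)))
  have hτR : ∀ r, τ (algebraMap B A (algebraMap R B r)) = inl (θ r) := fun r =>
    (congrArg Ψ (he r)).trans (hΨC r)
  have hem : ∀ x ∈ maximalIdeal (Curv2.cpl A), e x ∈ maximalIdeal (DualGr.nodeRing R a) := fun x hx => by
    rw [mem_maximalIdeal, mem_nonunits_iff] at hx ⊢
    exact fun h => hx (by simpa using h.map e.symm)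
  have hofm : ∀ x ∈ maximalIdeal A, algebraMap A (Curv2.cpl A) x ∈ maximalIdeal (Curv2.cpl A) := fun x hx => by
    rw [AdicCompletion.maximalIdeal_eq_map]
    exact Ideal.mem_map_of_mem _ hx
  have hτm : ∀ x ∈ maximalIdeal A, (τ x).fst ∈ maximalIdeal D := fun x hx => hεm _ (hem _ (hofm x hx))
  -- first order data at the point over `p`
  let τK : B →+* T₁ K := (map₁ j).comp (τ.comp (algebraMap B A))
  let εK : B →+* K := (fstHom K K (K × K)).toRingHom.comp τK
  let P : PrimeSpectrum B := ⟨RingHom.ker εK, RingHom.ker_isPrime _⟩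
  have hPp : P.asIdeal.comap (algebraMap R B) = RingHom.ker θ := Ideal.ext fun r => by
    show εK (algebraMap R B r) = 0 ↔ θ r = 0
    rw [show εK (algebraMap R B r) = j (τ (algebraMap B A (algebraMap R B r))).fst by simp [εK, τK, map₁],
      hτR, fst_inl, map_eq_zero_iff j hj]
  obtain ⟨g, hg, hgs⟩ := hsm P hPp
  let φ₂ : R →+* T₂ K := (map₂ j).comp ((inlHom (DualNumber D) (DualNumber D)).comp ((inlHom D D).comp θ))
  letI : Algebra R (T₂ K) := @RingHom.toAlgebra R (T₂ K) _ _ φ₂
  letI : Algebra R (T₁ K) := ((piHom K).comp (algebraMap R (T₂ K))).toAlgebra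
  have hu : IsUnit (τK g) := isUnit_iff_isUnit_fst.2 (hunit _ hg)
  let τg : Localization.Away g →ₐ[R] T₁ K :=
    { toRingHom := IsLocalization.Away.lift g hu
      commutes' := fun r => by
        show IsLocalization.Away.lift g hu (algebraMap R (Localization.Away g) r) = piHom K (map₂ j _)
        rw [IsScalarTower.algebraMap_apply R B (Localization.Away g), IsLocalization.Away.lift_eq]
        ext <;> simp [τK, hτR, map₁, map₂, piHom] }
  let π : T₂ K →ₐ[R] T₁ K := { piHom K with commutes' := fun _ => rfl }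
  have hπs : Function.Surjective π := fun x => ⟨inl (inl x.fst + inr x.snd.1) + inr (inl x.snd.2), by
    ext <;> simp [π, piHom]⟩
  have hsq : ∀ x y, π x = 0 → π y = 0 → x * y = 0 := fun x y hx hy => by
    have hx' : piHom K x = 0 := hx
    have hy' : piHom K y = 0 := hy
    simp [piHom, TrivSqZeroExt.ext_iff, Prod.ext_iff] at hx' hy'
    ext <;> simp [hx', hy']
  obtain ⟨hg', hlift⟩ := exists_lift_of_sq_zero (S := T₂ K) (T := T₁ K) τg π hπs hsq
  let hB : B →+* T₂ K := hg'.toRingHom.comp (algebraMap B (Localization.Away g))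
  have hπB : (piHom K).comp hB = τK := RingHom.ext fun b =>
    (hlift (algebraMap B _ b)).trans (IsLocalization.Away.lift_eq g hu b)
  -- clear the denominators
  obtain ⟨G, hG⟩ := Algebra.FiniteType.out (R := R) (A := B)
  obtain ⟨s, hs, hsG⟩ := hden (G.image fun b => (hB b).snd.snd : Finset K)
  have hcomp : ∀ b, (hB b).fst.fst = j (τ (algebraMap B A b)).fst ∧
      (hB b).fst.snd = j (τ (algebraMap B A b)).snd.1 ∧ (hB b).snd.fst = j (τ (algebraMap B A b)).snd.2 := by
    intro b
    have := RingHom.congr_fun hπB b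
    simp [τK, piHom, map₁, TrivSqZeroExt.ext_iff, Prod.ext_iff] at this
    exact this
  let hs' : B →+* T₂ K := (scale₂ (j s)).comp hB
  have hrange : ∀ b, hs' b ∈ (map₂ j).range := by
    let S : Subring (T₂ K) := (map₂ j).range
    let Sb : Subalgebra R B := { (S.comap hs').toSubsemiring with
      algebraMap_mem' := fun r => by
        refine ⟨inl (inl (θ r)), ?_⟩
        have e1 : hB (algebraMap R B r) = algebraMap R (T₂ K) r := by
          show hg' (algebraMap B _ (algebraMap R B r)) = _
          rw [← IsScalarTower.algebraMap_apply, AlgHom.commutes]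
        show _ = scale₂ (j s) (hB _)
        rw [e1]
        show _ = scale₂ (j s) (map₂ j _)
        ext <;> simp [map₂, scale₂] }
    have hle : Algebra.adjoin R (G : Set B) ≤ Sb := Algebra.adjoin_le fun b hb => by
      obtain ⟨d, hd⟩ := hsG _ (Finset.mem_image_of_mem (fun b => (hB b).snd.snd) hb)
      obtain ⟨h0, h1, h2⟩ := hcomp b
      refine ⟨inl (inl (τ (algebraMap B A b)).fst + inr (s * (τ (algebraMap B A b)).snd.1)) +
        inr (inl (s * (τ (algebraMap B A b)).snd.2) + inr (s * d)), ?_⟩
      have hd' : j d = j s * (hB b).snd.snd := hd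
      show _ = scale₂ (j s) (hB b)
      ext <;> simp [map₂, scale₂, h0, h1, h2, hd', mul_assoc]
    exact fun b => hle (hG ▸ Algebra.mem_top)
  have hinj : Function.Injective (map₂ j) := fun x y h => by
    simp [map₂, TrivSqZeroExt.ext_iff, hj.eq_iff] at h
    ext <;> simp [h]
  obtain ⟨H, hH⟩ := exists_factor (map₂ j) hinj hs' hrange
  have hHτ : ∀ b, piHom D (H b) = scale₁ s (τ (algebraMap B A b)) := by
    intro b
    obtain ⟨h0, h1, h2⟩ := hcomp b
    have h := hH b
    simp [map₂, hs', scale₂, TrivSqZeroExt.ext_iff, h0, h1, h2, ← map_mul, hj.eq_iff] at h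
    ext <;> simp [piHom, scale₁, h]
  have hHu : ∀ b : q.primeCompl, IsUnit (H b) := fun b => by
    refine isUnit_iff_isUnit_fst.2 (isUnit_iff_isUnit_fst.2 ?_)
    rw [show (H b).fst.fst = (τ (algebraMap B A b)).fst by
      simpa [piHom, scale₁] using congrArg TrivSqZeroExt.fst (hHτ b)]
    exact ((IsLocalization.map_units A b).map τ).map (fstHom D D (D × D))
  let HA : A →+* T₂ D := IsLocalization.lift (P := T₂ D) (M := q.primeCompl) hHu
  have hHA : (piHom D).comp HA = (scale₁ s).comp τ :=
    IsLocalization.ringHom_ext q.primeCompl (RingHom.ext fun b => by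
      simp [HA, IsLocalization.lift_eq, hHτ])
  have hHc : ∀ x, (HA x).fst.fst = (τ x).fst ∧ (HA x).fst.snd = s * (τ x).snd.1 ∧
      (HA x).snd.fst = s * (τ x).snd.2 := fun x => by
    have := RingHom.congr_fun hHA x
    simp [piHom, scale₁, TrivSqZeroExt.ext_iff, Prod.ext_iff] at this
    exact this
  -- the product of the two branches
  have hkey : ∀ n, s * s ∈ maximalIdeal D ^ n := by
    intro n
    have hlift : ∀ f : MvPowerSeries (Fin 2) (Curv2.cpl R), ∃ c : A,
        e (algebraMap A (Curv2.cpl A) c) - Ideal.Quotient.mk _ f ∈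
          maximalIdeal (DualGr.nodeRing R a) ^ (n + 2) := fun f => by
      obtain ⟨c, hc⟩ := Groth.Calg4.CompletionPS.exists_sub_mem_pow A (n + 2) (e.symm (Ideal.Quotient.mk _ f))
      refine ⟨c, ?_⟩
      have h1 := map_mem_pow e.toRingHom hem hc
      simpa using neg_mem h1
    obtain ⟨cx, hcx⟩ := hlift (MvPowerSeries.X 0)
    obtain ⟨cy, hcy⟩ := hlift (MvPowerSeries.X 1)
    have hdeep : ∀ (i : Fin 2) (c : A), e (algebraMap A (Curv2.cpl A) c) -
        Ideal.Quotient.mk _ (MvPowerSeries.X i) ∈ maximalIdeal (DualGr.nodeRing R a) ^ (n + 2) →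
        τ c - truncHom ρ (MvPowerSeries.X i) ∈ deep₁ (maximalIdeal D) (n + 1) := fun i c hc => by
      have := pow_le_deep₁ (maximalIdeal D) (n + 1) Ψ _ hεm hc
      rw [Ideal.mem_comap] at this
      rw [map_sub] at this
      exact this
    have hmem : cx * cy - algebraMap B A (algebraMap R B a) ∈ maximalIdeal A ^ (n + 2) := by
      have h1 : e (algebraMap A (Curv2.cpl A) (cx * cy - algebraMap B A (algebraMap R B a))) ∈
          maximalIdeal (DualGr.nodeRing R a) ^ (n + 2) := by
        have h0 : Ideal.Quotient.mk _ (MvPowerSeries.X 0 * MvPowerSeries.X 1 -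
            MvPowerSeries.C (algebraMap R (Curv2.cpl R) a)) = (0 : DualGr.nodeRing R a) :=
          Ideal.Quotient.eq_zero_iff_mem.2 (Ideal.mem_span_singleton_self _)
        rw [map_sub, map_mul, ← he] at h0
        have := sub_mem (add_mem (Ideal.mul_mem_right (e (algebraMap A (Curv2.cpl A) cy)) _ hcx)
          (Ideal.mul_mem_left _ (Ideal.Quotient.mk _ (MvPowerSeries.X 0)) hcy)) (zero_mem _)
        rw [map_sub, map_mul, map_sub, map_mul]
        rw [sub_mul, mul_sub, sub_add_sub_cancel, sub_zero] at this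
        rw [sub_eq_zero] at h0
        have e1 : e (algebraMap A (Curv2.cpl A) (algebraMap B A (algebraMap R B a))) =
            Ideal.Quotient.mk _ (MvPowerSeries.X 0) * Ideal.Quotient.mk _ (MvPowerSeries.X 1) := by
          exact h0.symm
        rw [e1]
        exact this
      have h2 : algebraMap A (Curv2.cpl A) (cx * cy - algebraMap B A (algebraMap R B a)) ∈
          maximalIdeal (Curv2.cpl A) ^ (n + 2) := by
        have := map_mem_pow e.symm.toRingHom (J := maximalIdeal (Curv2.cpl A)) (fun x hx => by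
          show e.symm x ∈ maximalIdeal (Curv2.cpl A)
          rw [mem_maximalIdeal, mem_nonunits_iff] at hx ⊢
          exact fun h => hx (by simpa using h.map e)) h1
        simpa using this
      have h4 := Groth.Calg4.CompletionPS.evalₐ_eq_zero A (n + 2) h2
      rw [Groth.AdicLinTop.CompletionQuot.evalₐ_algebraMap, Ideal.Quotient.eq_zero_iff_mem] at h4
      exact h4
    have h2 := (pow_le_deep₂ (maximalIdeal D) n HA (maximalIdeal A)
      (fun x hx => by rw [(hHc x).1]; exact hτm x hx) hmem).2.2.2
    have ha : HA (algebraMap B A (algebraMap R B a)) = 0 := by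
      rw [show HA (algebraMap B A (algebraMap R B a)) = H (algebraMap R B a) from IsLocalization.lift_eq _ _]
      refine hinj ?_
      rw [hH, map_zero]
      show scale₂ (j s) (hg' (algebraMap B _ (algebraMap R B a))) = 0
      rw [← IsScalarTower.algebraMap_apply, AlgHom.commutes]
      show scale₂ (j s) (map₂ j _) = 0
      simp [hθa]
    rw [map_sub, map_mul, ha, sub_zero] at h2
    simp only [(mul₂ _ _).2.2.2, (hHc cx).1, (hHc cx).2.1, (hHc cx).2.2,
      (hHc cy).1, (hHc cy).2.1, (hHc cy).2.2] at h2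
    obtain ⟨hx0, hx1, hx2⟩ := hdeep 0 cx hcx
    obtain ⟨hy0, hy1, hy2⟩ := hdeep 1 cy hcy
    simp [truncHom, MvPowerSeries.coeff_X, Finsupp.single_eq_single_iff] at hx0 hx1 hx2 hy0 hy1 hy2
    have hle : maximalIdeal D ^ (n + 1) ≤ maximalIdeal D ^ n := Ideal.pow_le_pow_right (Nat.le_succ _)
    have hle2 : maximalIdeal D ^ (n + 1 + 1) ≤ maximalIdeal D ^ n := Ideal.pow_le_pow_right (by omega)
    rw [← Ideal.Quotient.eq_zero_iff_mem] at h2 ⊢
    have q0 : Ideal.Quotient.mk (maximalIdeal D ^ n) (τ cx).fst = 0 := Ideal.Quotient.eq_zero_iff_mem.2 (hle2 hx0)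
    have q1 : Ideal.Quotient.mk (maximalIdeal D ^ n) (τ cx).snd.1 = 1 := Ideal.Quotient.eq.2 (hle hx1)
    have q2 : Ideal.Quotient.mk (maximalIdeal D ^ n) (τ cx).snd.2 = 0 := Ideal.Quotient.eq_zero_iff_mem.2 (hle hx2)
    have r0 : Ideal.Quotient.mk (maximalIdeal D ^ n) (τ cy).fst = 0 := Ideal.Quotient.eq_zero_iff_mem.2 (hle2 hy0)
    have r1 : Ideal.Quotient.mk (maximalIdeal D ^ n) (τ cy).snd.1 = 0 := Ideal.Quotient.eq_zero_iff_mem.2 (hle hy1)
    have r2 : Ideal.Quotient.mk (maximalIdeal D ^ n) (τ cy).snd.2 = 1 := Ideal.Quotient.eq.2 (hle hy2)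
    simp only [map_add, map_mul, q0, q1, q2, r0, r1, r2] at h2
    simpa using h2
  have h0 : s * s ∈ ⨅ n : ℕ, maximalIdeal D ^ n := Submodule.mem_iInf _ |>.2 hkey
  rw [Ideal.iInf_pow_eq_bot_of_isLocalRing _ (maximalIdeal.isMaximal D).ne_top, Ideal.mem_bot,
    mul_self_eq_zero] at h0
  exact hs h0

/-- Over a prime containing the thickness, the fibre of a node is not smooth at all its points. -/
theorem not_formallySmooth_of_node {R : Type u} [CommRing R] [IsLocalRing R] [IsNoetherianRing R]
    [IsAdicComplete (maximalIdeal R) R] {B A : Type u} [CommRing B] [Algebra R B]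
    [Algebra.FiniteType R B] [CommRing A] [Algebra B A] [IsLocalRing A] [IsNoetherianRing A]
    (q : Ideal B) [q.IsPrime] [IsLocalization.AtPrime A q] (a : R)
    (hnode : DualGr.IsThickNode ((algebraMap B A).comp (algebraMap R B)) a)
    (p : PrimeSpectrum R) (hap : a ∈ p.asIdeal)
    (hsm : ∀ P : PrimeSpectrum B, PrimeSpectrum.comap (algebraMap R B) P = p →
      ∃ g ∉ P.asIdeal, Algebra.FormallySmooth R (Localization.Away g)) : False := by
  have : IsLocalRing (R ⧸ p.asIdeal) :=
    IsLocalRing.of_surjective' (Ideal.Quotient.mk p.asIdeal) Ideal.Quotient.mk_surjective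
  refine aux q a hnode (K := FractionRing (R ⧸ p.asIdeal)) (Ideal.Quotient.mk p.asIdeal)
    Ideal.Quotient.mk_surjective (Ideal.Quotient.eq_zero_iff_mem.2 hap)
    ((Ideal.Quotient.mk p.asIdeal).comp (AdicCompletion.ofAlgEquiv (maximalIdeal R)).symm.toRingHom)
    (fun r => congrArg (Ideal.Quotient.mk p.asIdeal)
      ((AdicCompletion.ofAlgEquiv (maximalIdeal R)).symm.commutes r))
    (algebraMap _ _) (IsFractionRing.injective _ _) (fun x hx => isUnit_iff_ne_zero.2 hx) (fun G => ?_)
    fun P hP => hsm P (PrimeSpectrum.ext (hP.trans Ideal.mk_ker))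
  obtain ⟨⟨s, hs⟩, hsG⟩ := IsLocalization.exist_integer_multiples_of_finset (nonZeroDivisors (R ⧸ p.asIdeal)) G
  refine ⟨s, nonZeroDivisors.ne_zero hs, fun x hx => ?_⟩
  obtain ⟨d, hd⟩ := hsG x hx
  exact ⟨d, hd.trans (Algebra.smul_def _ _)⟩

end Alg

open CategoryTheory AlgebraicGeometry IsLocalRing in
/-- Let R be a complete Noetherian local ring and C → Spec R a morphism locally of finite type, smooth
over a schematically dense open subscheme U of Spec R. Let c be a point of C over the closed point
whose local ring is formally a node of thickness (a) over R for an element a of R: the completion of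
the local ring at c is isomorphic, compatibly with R, to R̂[[x,y]]/(xy − a). Then a is a
non-zero-divisor in R. (The published statement is for a semistable curve over a locally Noetherian
base and a non-smooth point over a separably closed field, with the node presentation supplied by
the local structure of such curves; it is stated here over the spectrum of a complete Noetherian
local ring with the node presentation as a hypothesis, the case to which the argument reduces, and
semistability plays no further role.) -/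
theorem result
    (R : Type u) [CommRing R] [IsNoetherianRing R] [IsLocalRing R]
    [IsAdicComplete (maximalIdeal R) R]
    {C : Scheme.{u}} (f : C ⟶ Spec (CommRingCat.of R)) [LocallyOfFiniteType f]
    (U : (Spec (CommRingCat.of R)).Opens) (hU : CInt.IsSchematicallyDense U)
    (hsm : Smooth (morphismRestrict f U))
    (c : C) (hc : f.base c = closedPoint R) (a : R)
    (hnode : DualGr.IsThickNode (DualGr.stalkHom f c) a) :
    a ∈ nonZeroDivisors R := by
  have hUa : ∀ p ∈ U, a ∉ (p : PrimeSpectrum R).asIdeal := by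
    intro p hp hap
    obtain ⟨W, hW, hcW, -⟩ := exists_isAffineOpen_mem_and_subset (U := (⊤ : C.Opens)) (x := c) trivial
    let φ₀ : CommRingCat.of R ⟶ Γ(C, ⊤) := (Scheme.ΓSpecIso _).inv ≫ f.appTop
    let φ : CommRingCat.of R ⟶ Γ(C, W) := φ₀ ≫ C.presheaf.map (homOfLE le_top).op
    have hφ : hW.fromSpec ≫ f = Spec.map φ := by
      have hf : C.toSpecΓ ≫ Spec.map φ₀ = f := by
        simp only [φ₀, Spec.map_comp, ← Scheme.toSpecΓ_naturality_assoc]
        simp
      rw [Spec.map_comp, ← IsAffineOpen.fromSpec_toSpecΓ hW, Category.assoc, hf]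
    letI : Algebra R Γ(C, W) := φ.hom.toAlgebra
    have : LocallyOfFiniteType (Spec.map φ) := hφ ▸ inferInstance
    have : Algebra.FiniteType R Γ(C, W) := (HasRingHomProperty.Spec_iff (P := @LocallyOfFiniteType)).1 this
    letI : Algebra Γ(C, W) (C.presheaf.stalk c) := C.presheaf.algebra_section_stalk ⟨c, hcW⟩
    have := hW.isLocalization_stalk ⟨c, hcW⟩
    have : IsLocallyNoetherian C := LocallyOfFiniteType.isLocallyNoetherian f
    refine not_formallySmooth_of_node (B := Γ(C, W)) (A := C.presheaf.stalk c)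
      (hW.primeIdealOf ⟨c, hcW⟩).asIdeal a ?_ p hap fun P hP => ?_
    · rw [show (algebraMap Γ(C, W) (C.presheaf.stalk c)).comp (algebraMap R Γ(C, W)) = DualGr.stalkHom f c from
        RingHom.ext fun r => TopCat.Presheaf.germ_res_apply C.presheaf (homOfLE le_top) c hcW ((φ₀.hom : R →+* Γ(C, ⊤)) r)]
      exact hnode
    · obtain ⟨P', hP'⟩ : ∃ P' : Spec Γ(C, W), P' = P := ⟨P, rfl⟩
      have hx : P' ∈ hW.fromSpec ⁻¹ᵁ (f ⁻¹ᵁ U) := by
        show (hW.fromSpec ≫ f).base P' ∈ U
        rw [hφ, show (Spec.map φ).base P' = p from hP' ▸ hP]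
        exact hp
      obtain ⟨_, ⟨g, rfl⟩, hgP, hgU⟩ := PrimeSpectrum.isTopologicalBasis_basic_opens.exists_subset_of_mem_open
        (show P ∈ (hW.fromSpec ⁻¹ᵁ (f ⁻¹ᵁ U)).carrier from hP' ▸ hx) (hW.fromSpec ⁻¹ᵁ (f ⁻¹ᵁ U)).2
      refine ⟨g, hgP, ?_⟩
      let i : Spec (.of (Localization.Away g)) ⟶ C :=
        Spec.map (CommRingCat.ofHom (algebraMap Γ(C, W) (Localization.Away g))) ≫ hW.fromSpec
      have : IsOpenImmersion (Spec.map (CommRingCat.ofHom (algebraMap Γ(C, W) (Localization.Away g)))) :=
        IsOpenImmersion.of_isLocalization g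
      have hr : Set.range i.base ⊆ Set.range (f ⁻¹ᵁ U).ι.base := by
        rw [Scheme.Opens.range_ι]
        rintro _ ⟨z, rfl⟩
        exact hgU ((PrimeSpectrum.localization_away_comap_range (Localization.Away g) g).le ⟨z, rfl⟩)
      let l := IsOpenImmersion.lift (f ⁻¹ᵁ U).ι i hr
      have hl : l ≫ (f ⁻¹ᵁ U).ι = i := IsOpenImmersion.lift_fac _ _ _
      have : IsOpenImmersion (l ≫ (f ⁻¹ᵁ U).ι) := hl.symm ▸ inferInstance
      have : IsOpenImmersion l := IsOpenImmersion.of_comp l (f ⁻¹ᵁ U).ι
      have hsm' : Smooth (Spec.map (φ ≫ CommRingCat.ofHom (algebraMap Γ(C, W) (Localization.Away g)))) := by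
        rw [Spec.map_comp, ← hφ, ← Category.assoc, show Spec.map _ ≫ hW.fromSpec = i from rfl, ← hl,
          Category.assoc, ← morphismRestrict_ι]
        have := hsm
        infer_instance
      have : Algebra.Smooth R (Localization.Away g) :=
        RingHom.smooth_algebraMap.1 ((HasRingHomProperty.Spec_iff (P := @Smooth)).1 hsm')
      infer_instance
  rw [mem_nonZeroDivisors_iff_right]
  intro s hs
  have h0 : (Scheme.ΓSpecIso (CommRingCat.of R)).inv.hom s = 0 := by
    refine hU ⊤ ?_
    rw [map_zero]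
    refine TopCat.Presheaf.section_ext (Spec (CommRingCat.of R)).sheaf _ _ _ fun x hx => ?_
    have hu : IsUnit ((Spec (CommRingCat.of R)).presheaf.germ ⊤ x trivial
        ((Scheme.ΓSpecIso (CommRingCat.of R)).inv.hom a)) := by
      have hmem : x ∈ (Spec (CommRingCat.of R)).basicOpen ((Scheme.ΓSpecIso (CommRingCat.of R)).inv.hom a) := by
        rw [basicOpen_eq_of_affine]
        exact hUa x hx.2
      exact ((Spec (CommRingCat.of R)).mem_basicOpen _ x (show x ∈ (⊤ : (Spec (CommRingCat.of R)).Opens) from trivial)).1 hmem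
    refine Eq.trans ?_ (map_zero _).symm
    refine (TopCat.Presheaf.germ_res_apply (Spec (CommRingCat.of R)).presheaf (homOfLE inf_le_left) x hx _).trans ?_
    refine hu.mul_left_eq_zero.1 ?_
    rw [← map_mul, ← map_mul, hs, map_zero, map_zero]
  exact (ConcreteCategory.injective_of_mono_of_preservesPullback (Scheme.ΓSpecIso (CommRingCat.of R)).inv) (h0.trans (map_zero _).symm)

end Groth.Agent.S17729
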