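import Groth.Statements.S1773
import Groth.Agent.DualCore.FiniteMap
import Groth.Agent.DualCore.FiniteLength

set_option autoImplicit false
universe u
open CategoryTheory
attribute [local instance] HasDerivedCategory.standard
open Dual

namespace Groth.Agent.S1773

/-- Let A → B be a finite local homomorphism of Noetherian local rings and ω a normalized dualizing
complex for A. If R : D(A) → D(B) is right adjoint to restriction of scalars, then R(ω) is a
normalized dualizing complex for B. -/
theorem result (A B : Type u) [CommRing A] [CommRing B] [IsLocalRing A] [IsLocalRing B] [Algebra A B] [IsLocalHom (algebraMap A B)] [IsNoetherianRing A] [IsNoetherianRing B] [Module.Finite A B] (R : Dual.D A ⥤ Dual.D B) (adj : DRing.restrictD (algebraMap A B) ⊣ R) (ω : Dual.D A) (hω : Dual.IsDualizing A ω) (hn : Dual.IsNormalized A ω) : Dual.IsDualizing B (R.obj ω) ∧ Dual.IsNormalized B (R.obj ω) := by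
  have hrep := Groth.DualCore.represents_counit R adj ω
  refine ⟨Groth.DualCore.isDualizing_of_represents hrep hω, fun i hi => ?_⟩
  rw [hrep.subsingleton_iff (IsLocalRing.ResidueField B) i]
  haveI : (IsLocalRing.maximalIdeal B).IsMaximal := inferInstance
  haveI : Module.Finite A (IsLocalRing.ResidueField B) :=
    Module.Finite.of_surjective ((Submodule.mkQ (IsLocalRing.maximalIdeal B)).restrictScalars A)
      (Submodule.mkQ_surjective _)
  obtain ⟨r, ⟨er⟩⟩ := Groth.DualCore.exists_pi_equiv (IsLocalRing.maximalIdeal A) (IsLocalRing.ResidueField B) (fun a ha x => by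
    obtain ⟨y, rfl⟩ := Submodule.Quotient.mk_surjective (IsLocalRing.maximalIdeal B) x
    show a • (Submodule.Quotient.mk y : B ⧸ IsLocalRing.maximalIdeal B) = 0
    rw [← Submodule.Quotient.mk_smul, Algebra.smul_def]
    exact (Submodule.Quotient.mk_eq_zero _).2 (Ideal.mul_mem_right y _ (map_nonunit (algebraMap A B) a ha)))
  haveI := hn i hi
  haveI : Subsingleton (Dual.inD A (A ⧸ IsLocalRing.maximalIdeal A) ⟶ (shiftFunctor (Dual.D A) i).obj ω) := hn i hi
  haveI := (Groth.DualCore.homPiEquiv r (A ⧸ IsLocalRing.maximalIdeal A) ω i).toEquiv.subsingleton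
  exact Groth.DualCore.subsingleton_hom_congr ω er i

end Groth.Agent.S1773
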