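import Groth.Statements.S17730
import Groth.Agent.Hensel1.SmoothBranches
import Groth.Agent.Hensel1.UnibranchSepClosed
import Groth.Agent.PropsBasic.UnibranchPunctured
import Groth.Agent.Hensel1.UnibranchCriterion
import Groth.Agent.HensPair.Basic

set_option autoImplicit false
universe u
open Hensel

namespace Groth.Agent.S17730

open IsLocalRing TensorProduct in
/-- Let R be a Noetherian local ring which is strictly henselian (henselian with separably closed
residue field), Δ a prime element of R, R' a smooth R-algebra, q a prime ideal of R' containing the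
image of the maximal ideal of R, and T a strict henselization of the localization R'_q. Then the
image of Δ in T is a prime element of T. (This is the published statement, that a prime element of
the étale local ring of the base at a geometric point remains prime in the étale local ring of a
smooth scheme over it at a geometric point above, written for the base the spectrum of R; the
published hypothesis that the base be smooth-factorial, meaning that all its smooth schemes are
locally factorial, is not used by the argument and is omitted; R is taken Noetherian, which the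
published statement does not state and the argument requires.) -/
theorem result
    (R R' T : Type u) [CommRing R] [IsNoetherianRing R] [HenselianLocalRing R]
    [IsSepClosed (ResidueField R)]
    [CommRing R'] [Algebra R R'] [Algebra.Smooth R R']
    (q : Ideal R') [q.IsPrime] (hq : (maximalIdeal R).map (algebraMap R R') ≤ q)
    [CommRing T] [IsLocalRing T] [Algebra (Localization.AtPrime q) T]
    [IsLocalHom (algebraMap (Localization.AtPrime q) T)]
    [Hensel.IsStrictHenselization (Localization.AtPrime q) T]
    (Δ : R) (hΔ : Prime Δ) :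
    Prime (algebraMap (Localization.AtPrime q) T
      (algebraMap R' (Localization.AtPrime q) (algebraMap R R' Δ))) := by
  let B := Localization.AtPrime q
  let I : Ideal R := Ideal.span {Δ}
  have hI : I.IsPrime := (Ideal.span_singleton_prime hΔ.ne_zero).mpr hΔ
  let Rq := R ⧸ I
  have : IsLocalRing Rq := IsLocalRing.of_surjective' _ Ideal.Quotient.mk_surjective
  have : IsLocalHom (algebraMap R B) := ⟨fun a ha => by
    by_contra hna
    rw [IsScalarTower.algebraMap_apply R R' B, IsLocalization.AtPrime.isUnit_to_map_iff B q] at ha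
    exact ha (hq (Ideal.mem_map_of_mem _ ((mem_maximalIdeal a).mpr hna)))⟩
  let J : Ideal B := I.map (algebraMap R B)
  have hJle : J ≤ maximalIdeal B := Ideal.map_le_iff_le_comap.mpr fun a ha =>
    map_nonunit _ a (IsLocalRing.le_maximalIdeal hI.ne_top ha)
  have : Nontrivial (B ⧸ J) := Ideal.Quotient.nontrivial_iff.mpr fun h =>
    (maximalIdeal.isMaximal B).ne_top (top_le_iff.mp (h ▸ hJle))
  have : IsLocalRing (B ⧸ J) := IsLocalRing.of_surjective' _ Ideal.Quotient.mk_surjective
  -- the reduced fibre is a geometrically unibranch domain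
  let _ : Algebra (Rq ⊗[R] R') (Rq ⊗[R] B) :=
    (Algebra.TensorProduct.map (AlgHom.id R Rq) (IsScalarTower.toAlgHom R R' B)).toAlgebra
  have : IsScalarTower Rq (Rq ⊗[R] R') (Rq ⊗[R] B) :=
    IsScalarTower.of_algebraMap_eq (R := Rq) (S := Rq ⊗[R] R') (A := Rq ⊗[R] B) fun c => (show c ⊗ₜ[R] (1 : B) = Algebra.TensorProduct.map (AlgHom.id R Rq) (IsScalarTower.toAlgHom R R' B) (c ⊗ₜ[R] (1 : R')) by rw [Algebra.TensorProduct.map_tmul, map_one]; rfl)
  have hloc := IsLocalization.tensorProduct_tensorProduct_right R Rq q.primeCompl B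
    (by ext; simp [RingHom.algebraMap_toAlgebra])
  let e : Rq ⊗[R] B ≃+* B ⧸ J := (Algebra.TensorProduct.comm R Rq B).toRingEquiv.trans
    (Algebra.TensorProduct.quotIdealMapEquivTensorQuot B I).symm.toRingEquiv
  have : IsLocalRing (Rq ⊗[R] B) := e.symm.isLocalRing
  have : IsLocalHom (algebraMap Rq (Rq ⊗[R] B)) := ⟨fun a ha => by
    obtain ⟨a, rfl⟩ := Ideal.Quotient.mk_surjective a
    by_contra hna
    have hm : a ∈ maximalIdeal R := by
      rw [mem_maximalIdeal]; exact fun h => hna (h.map (Ideal.Quotient.mk I))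
    have h1 : (1 : Rq) ⊗ₜ[R] algebraMap R B a = algebraMap Rq (Rq ⊗[R] B) (Ideal.Quotient.mk I a) := by
      show (1 : Rq) ⊗ₜ[R] algebraMap R B a = Ideal.Quotient.mk I a ⊗ₜ[R] (1 : B)
      rw [Algebra.algebraMap_eq_smul_one, ← TensorProduct.smul_tmul, Algebra.smul_def, mul_one]; rfl
    rw [← h1] at ha
    have h2 : IsUnit (Ideal.Quotient.mk J (algebraMap R B a)) := by
      convert ha.map e using 1
      rw [show e ((1 : Rq) ⊗ₜ[R] algebraMap R B a) = (Algebra.TensorProduct.quotIdealMapEquivTensorQuot B I).symm
        (algebraMap R B a ⊗ₜ[R] 1) from rfl, AlgEquiv.eq_symm_apply,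
        Algebra.TensorProduct.quotIdealMapEquivTensorQuot_mk]
    have : IsLocalHom (Ideal.Quotient.mk J) := .of_surjective _ Ideal.Quotient.mk_surjective
    exact map_nonunit (algebraMap R B) a hm
      ((isUnit_map_iff (Ideal.Quotient.mk J) _).mp h2)⟩
  have : IsLocalHom (algebraMap R Rq) := Groth.Hensel1.isLocalHom_of_isIntegral' R Rq
  have hR : CAlg2.IsGeomUnibranch Rq := by
    have : HenselianLocalRing Rq := Groth.HensPair.henselianLocalRing_quotient I hI.ne_top
    have : IsSepClosed (ResidueField Rq) :=
      have := Groth.Hensel1.isAlgebraic_residueField R Rq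
      Groth.Hensel1.isSepClosed_of_isAlgebraic (ResidueField R) _
    refine Groth.Hensel1.isGeomUnibranch_of_isUnibranch_of_isSepClosed ?_
    have : IsDomain (CAlg2.red Rq) := (Ideal.Quotient.isDomain_iff_prime _).mpr
      (by rw [nilradical_eq_zero]; exact Ideal.isPrime_bot)
    refine ⟨this, ?_⟩
    have : IsDomain (CAlg2.normRed Rq) := inferInstance
    have : Algebra.IsIntegral Rq (CAlg2.normRed Rq) := Algebra.IsIntegral.trans (CAlg2.red Rq)
    exact Groth.Hensel1.isLocalRing_of_isIntegral_of_isDomain Rq (CAlg2.normRed Rq)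
  have : IsLocalization.AtPrime Rq (maximalIdeal Rq) :=
    IsLocalization.self fun r hr => IsLocalRing.notMem_maximalIdeal.mp hr
  obtain ⟨_, hgu⟩ := Groth.Hensel1.isDomain_and_isGeomUnibranch_of_smooth (R := Rq) (S := Rq ⊗[R] R')
    (A := Rq) (B := Rq ⊗[R] B) (maximalIdeal Rq).primeCompl
    (q.primeCompl.map (Algebra.TensorProduct.includeRight (R := R) (A := Rq))) hR
  have : IsDomain (B ⧸ J) := e.symm.toMulEquiv.isDomain _
  let _ : Algebra (Rq ⊗[R] B) (B ⧸ J) := e.toRingHom.toAlgebra
  have : IsLocalization.AtPrime (Rq ⊗[R] B) (maximalIdeal (Rq ⊗[R] B)) :=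
    IsLocalization.self fun r hr => IsLocalRing.notMem_maximalIdeal.mp hr
  have : IsLocalization.AtPrime (B ⧸ J) (maximalIdeal (Rq ⊗[R] B)) :=
    IsLocalization.isLocalization_of_algEquiv _
      ({ e with commutes' := fun _ => rfl } : (Rq ⊗[R] B) ≃ₐ[Rq ⊗[R] B] B ⧸ J)
  have hgu' := Groth.PropsBasic.UnibranchPunctured.isGeomUnibranch_of_isLocalization (Rq ⊗[R] B)
    (maximalIdeal (Rq ⊗[R] B)) (Rq ⊗[R] B) (B ⧸ J) hgu
  -- the strict henselization of the fibre is `T / ΔT`
  have : IsLocalHom (algebraMap B (B ⧸ J)) := Groth.Hensel1.isLocalHom_of_isIntegral' B (B ⧸ J)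
  have : IsPurelyInseparable (ResidueField B) (ResidueField (B ⧸ J)) := by
    obtain ⟨p, hp⟩ := ExpChar.exists (ResidueField B)
    refine (isPurelyInseparable_iff_pow_mem _ p).mpr fun x => ⟨0, ?_⟩
    obtain ⟨x, rfl⟩ := residue_surjective x
    obtain ⟨x, rfl⟩ := Ideal.Quotient.mk_surjective x
    exact ⟨residue B x, by rw [pow_zero, pow_one]; rfl⟩
  obtain ⟨_, _, hT⟩ := Groth.Hensel1.isStrictHenselization_tensor B (B ⧸ J) T
  have hdom : IsDomain ((B ⧸ J) ⊗[B] T) :=
    (Groth.Hensel1.reduced_isGeomUnibranch_iff_isDomain (B ⧸ J) ((B ⧸ J) ⊗[B] T)).mp ⟨inferInstance, hgu'⟩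
  let d := algebraMap B T (algebraMap R' B (algebraMap R R' Δ))
  have hspan : J.map (algebraMap B T) = Ideal.span {d} := by
    show (Ideal.span {Δ} |>.map (algebraMap R B)).map (algebraMap B T) = _
    rw [Ideal.map_span, Set.image_singleton, Ideal.map_span, Set.image_singleton,
      IsScalarTower.algebraMap_apply R R' B]
  let c : (T ⧸ J.map (algebraMap B T)) ≃+* (B ⧸ J) ⊗[B] T :=
    (Algebra.TensorProduct.quotIdealMapEquivTensorQuot T J).toRingEquiv.trans
      (Algebra.TensorProduct.comm B T (B ⧸ J)).toRingEquiv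
  have : IsDomain (T ⧸ J.map (algebraMap B T)) := Function.Injective.isDomain c c.injective
  have hp := (Ideal.Quotient.isDomain_iff_prime (J.map (algebraMap B T))).mp this
  rw [hspan] at hp
  refine (Ideal.span_singleton_prime ?_).mp hp
  obtain ⟨M⟩ := Groth.Hensel1.hensModel_of_isStrictHenselization (R := B) (S := T)
  have := M.faithfullyFlat
  have : Module.Flat R B := Module.Flat.trans R R' B
  have : Module.FaithfullyFlat R B := Module.FaithfullyFlat.of_flat_of_isLocalHom
  intro h
  have h1 : algebraMap R' B (algebraMap R R' Δ) = 0 :=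
    FaithfulSMul.algebraMap_injective B T (h.trans (map_zero _).symm)
  rw [← IsScalarTower.algebraMap_apply] at h1
  exact hΔ.ne_zero (FaithfulSMul.algebraMap_injective R B (h1.trans (map_zero _).symm))

end Groth.Agent.S17730
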