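import Groth.Statements.S17731
import Groth.Agent.NeronArea.Mapping


set_option autoImplicit false
universe u
open Neron

open CategoryTheory MonoidalCategory CartesianMonoidalCategory Groth.NeronArea

namespace Groth.Agent.S17731

open CategoryTheory AlgebraicGeometry in
/-- Let S be a scheme, U ⊆ S a schematically dense open subscheme and N → S a smooth S-scheme having
uniqueness in the Néron mapping property with respect to U: for every smooth S-scheme Y, restriction
to U is injective on S-morphisms Y → N. Then for every smooth morphism g : S' → S the base change N
×_S S' → S' has uniqueness in the Néron mapping property with respect to g⁻¹(U): for every smooth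
S'-scheme Y', restriction to g⁻¹(U) is injective on S'-morphisms Y' → N ×_S S'. (The published
statement is for models which are algebraic spaces, tested against smooth algebraic spaces; this row
states the case of a scheme model tested against smooth schemes. The companion assertion that Néron
models are preserved by smooth base change is not restated here.) -/
theorem result
    {S S' : Scheme.{u}} (g : S' ⟶ S) [Smooth g]
    (U : S.Opens) (hU : CInt.IsSchematicallyDense U) (N : Over S) [Smooth N.hom]
    (hN : ∀ Y : Over S, Smooth Y.hom →
      Function.Injective (fun f : Y ⟶ N => (Over.pullback U.ι).map f))
    (Y' : Over S') [Smooth Y'.hom] :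
    Function.Injective (fun f : Y' ⟶ (Over.pullback g).obj N => (Over.pullback (g ⁻¹ᵁ U).ι).map f) := by
  exact (injective_baseChange_iff U.ι g (g ⁻¹ᵁ U).ι (isPullback_morphismRestrict g U).flip.flip Y' N).2
    (hN ((Over.map g).obj Y') (inferInstanceAs (Smooth (Y'.hom ≫ g))))

end Groth.Agent.S17731
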