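import Groth.Statements.S17732
import Mathlib

set_option autoImplicit false
universe u
open CDiv

namespace Groth.Agent.S17732

open AlgebraicGeometry in
/-- Let X be a Noetherian scheme and D, E effective Cartier divisors on X, encoded by their ideal
sheaves, each locally generated on an affine open by a single non-zero-divisor. Assume that the
union of the supports of D and E is connected (or empty) and that every point of X has an affine
open neighbourhood on which the m-th power of the ideal of D equals the n-th power of the ideal of E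
for some (m, n) ≠ (0, 0). Then there is a pair (m, n) ≠ (0, 0) for which this equality holds on
every affine open of X, that is, m D = n E globally. -/
theorem result
    (X : Scheme.{u}) [IsNoetherian X] (D E : X.IdealSheafData)
    (hD : (∀ x : X, ∃ U : X.affineOpens, x ∈ (U : X.Opens) ∧ ∃ g : Γ(X, U), g ∈ nonZeroDivisors Γ(X, U) ∧ D.ideal U = Ideal.span {g}))
    (hE : (∀ x : X, ∃ U : X.affineOpens, x ∈ (U : X.Opens) ∧ ∃ g : Γ(X, U), g ∈ nonZeroDivisors Γ(X, U) ∧ E.ideal U = Ideal.span {g}))
    (hconn : IsPreconnected ((D.support : Set X) ∪ (E.support : Set X)))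
    (hloc : ∀ x : X, ∃ U : X.affineOpens, x ∈ (U : X.Opens) ∧
      ∃ m n : ℕ, (m, n) ≠ (0, 0) ∧ D.ideal U ^ m = E.ideal U ^ n) :
    ∃ m n : ℕ, (m, n) ≠ (0, 0) ∧ ∀ U : X.affineOpens, D.ideal U ^ m = E.ideal U ^ n := by
  classical
  obtain ⟨m, n, hne, h⟩ : ∃ m n : ℕ, (m, n) ≠ (0, 0) ∧ D ^ m = E ^ n := by
    let Valid : X.affineOpens → ℕ → ℕ → Prop := fun V m n => D.ideal V ^ m = E.ideal V ^ n
    have hdown : ∀ {U V : X.affineOpens}, U ≤ V → ∀ {m n}, Valid V m n → Valid U m n := by
      intro U V h m n hv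
      show D.ideal U ^ m = E.ideal U ^ n
      rw [← D.map_ideal h, ← E.map_ideal h, ← Ideal.map_pow, ← Ideal.map_pow]
      exact congrArg _ hv
    have hnbhd : ∀ (x : X) (O : X.Opens), x ∈ O → ∃ W : X.affineOpens, x ∈ (W : X.Opens) ∧ (W : X.Opens) ≤ O := by
      intro x O hx
      obtain ⟨_, ⟨W, hW, rfl⟩, hxW, hWO⟩ := X.isBasis_affineOpens.exists_subset_of_mem_open (a := x) (u := (O : Set X)) hx O.2
      exact ⟨⟨W, hW⟩, hxW, hWO⟩
    have hnzd : ∀ (W : X.affineOpens) (x : X) (hx : x ∈ (W : X.Opens)) (g : Γ(X, W)), g ∈ nonZeroDivisors Γ(X, W) →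
        X.presheaf.germ _ x hx g ∈ nonZeroDivisors (X.presheaf.stalk x) := by
      intro W x hx g hg
      let _ := TopCat.Presheaf.algebra_section_stalk X.presheaf ⟨x, hx⟩
      have := W.2.isLocalization_stalk ⟨x, hx⟩
      exact IsLocalization.nonZeroDivisors_le_comap (W.2.primeIdealOf ⟨x, hx⟩).asIdeal.primeCompl (X.presheaf.stalk x) hg
    have huniq : ∀ x ∈ (D.support : Set X) ∪ (E.support : Set X), ∀ (V V' : X.affineOpens) (m n m' n' : ℕ),
        x ∈ (V : X.Opens) → x ∈ (V' : X.Opens) → (m, n) ≠ (0, 0) → (m', n') ≠ (0, 0) → Valid V m n → Valid V' m' n' → m * n' = m' * n := by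
      intro x hxS V V' m n m' n' hxV hxV' hmn hmn' hv hv'
      obtain ⟨Uf, hxf, f, hf, hDf⟩ := hD x
      obtain ⟨Ug, hxg, g, hg, hEg⟩ := hE x
      obtain ⟨W, hxW, hWle⟩ := hnbhd x ((Uf : X.Opens) ⊓ Ug ⊓ V ⊓ V') ⟨⟨⟨hxf, hxg⟩, hxV⟩, hxV'⟩
      simp only [le_inf_iff] at hWle
      obtain ⟨⟨⟨h1, h2⟩, h3⟩, h4⟩ := hWle
      let γ := (X.presheaf.germ (W : X.Opens) x hxW).hom
      let a := X.presheaf.germ (Uf : X.Opens) x hxf f
      let b := X.presheaf.germ (Ug : X.Opens) x hxg g
      have hDW : (D.ideal W).map γ = Ideal.span {a} := by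
        rw [← D.map_ideal (U := W) (V := Uf) h1, hDf, Ideal.map_map, ← CommRingCat.hom_comp]
        erw [X.presheaf.germ_res (CategoryTheory.homOfLE h1) x hxW]
        rw [          Ideal.map_span, Set.image_singleton]
      have hEW : (E.ideal W).map γ = Ideal.span {b} := by
        rw [← E.map_ideal (U := W) (V := Ug) h2, hEg, Ideal.map_map, ← CommRingCat.hom_comp]
        erw [X.presheaf.germ_res (CategoryTheory.homOfLE h2) x hxW]
        rw [          Ideal.map_span, Set.image_singleton]
      have hab : ∀ {k l : ℕ}, Valid W k l → Ideal.span {a ^ k} = Ideal.span {b ^ l} := by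
        intro k l hkl
        have := congrArg (Ideal.map γ) hkl
        rwa [Ideal.map_pow, Ideal.map_pow, hDW, hEW, Ideal.span_singleton_pow, Ideal.span_singleton_pow] at this
      have e1 := hab (hdown h3 hv)
      have e2 := hab (hdown h4 hv')
      have hpow : ∀ {c : X.presheaf.stalk x}, c ∈ nonZeroDivisors (X.presheaf.stalk x) → ¬ IsUnit c →
          ∀ {k l : ℕ}, Ideal.span {c ^ k} = Ideal.span {c ^ l} → k = l := by
        intro c hc hu k l
        wlog hkl : k ≤ l generalizing k l
        · exact fun e => (this (le_of_not_ge hkl) e.symm).symm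
        intro e
        obtain ⟨j, rfl⟩ := Nat.exists_eq_add_of_le hkl
        obtain ⟨r, hr⟩ := Ideal.mem_span_singleton.1 (e ▸ Ideal.mem_span_singleton_self (c ^ k))
        rcases Nat.eq_zero_or_pos j with rfl | hj
        · rfl
        · exfalso
          refine hu (isUnit_pow_iff hj.ne' |>.1 (.of_mul_eq_one r ?_))
          refine (isUnit_one.mul_left_cancel (a := (1 : X.presheaf.stalk x)) ?_)
          rw [one_mul, one_mul]
          refine mul_cancel_left_mem_nonZeroDivisors (pow_mem hc k) |>.1 ?_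
          rw [mul_one, ← mul_assoc, ← pow_add, ← hr]
      by_cases hau : IsUnit a
      · have hbu : ¬ IsUnit b := by
          intro hbu
          rcases hxS with hx' | hx'
          · have := (D.mem_supportSet_iff_of_mem hxf).1 hx'
            rw [hDf, X.zeroLocus_span, Scheme.zeroLocus_singleton] at this
            exact this ((Scheme.mem_basicOpen X f x hxf).2 hau)
          · have := (E.mem_supportSet_iff_of_mem hxg).1 hx'
            rw [hEg, X.zeroLocus_span, Scheme.zeroLocus_singleton] at this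
            exact this ((Scheme.mem_basicOpen X g x hxg).2 hbu)
        rw [Ideal.span_singleton_eq_top.2 (hau.pow m), eq_comm, ← Ideal.span_singleton_eq_top.2 isUnit_one, ← pow_zero b] at e1
        rw [Ideal.span_singleton_eq_top.2 (hau.pow m'), eq_comm, ← Ideal.span_singleton_eq_top.2 isUnit_one, ← pow_zero b] at e2
        rw [hpow (hnzd Ug x hxg g hg) hbu e1, hpow (hnzd Ug x hxg g hg) hbu e2, mul_zero, mul_zero]
      · refine hpow (hnzd Uf x hxf f hf) hau ?_
        rw [pow_mul, pow_mul, ← Ideal.span_singleton_pow, e1, ← Ideal.span_singleton_pow (a ^ m') n, e2, Ideal.span_singleton_pow, Ideal.span_singleton_pow, ← pow_mul, ← pow_mul, mul_comm n n']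
    choose V hxV m n hmn hv using hloc
    let S := (D.support : Set X) ∪ (E.support : Set X)
    obtain ⟨p, q, hpq, hS⟩ : ∃ p q : ℕ, (p, q) ≠ (0, 0) ∧ ∀ x ∈ S, m x * q = p * n x := by
      rcases S.eq_empty_or_nonempty with hS | ⟨x₀, hx₀⟩
      · exact ⟨1, 1, by simp, fun x hx => absurd hx (by simp [hS])⟩
      refine ⟨m x₀, n x₀, hmn x₀, fun x hx => by_contra fun hne => ?_⟩
      let A : Set X := ⋃ y ∈ {y : X | y ∈ S ∧ m y * n x₀ = m x₀ * n y}, ((V y : X.Opens) : Set X)
      let B : Set X := ⋃ y ∈ {y : X | y ∈ S ∧ ¬ m y * n x₀ = m x₀ * n y}, ((V y : X.Opens) : Set X)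
      have hcov : S ⊆ A ∪ B := fun y hy => by
        by_cases h : m y * n x₀ = m x₀ * n y
        · exact Or.inl (Set.mem_biUnion (x := y) ⟨hy, h⟩ (hxV y))
        · exact Or.inr (Set.mem_biUnion (x := y) ⟨hy, h⟩ (hxV y))
      obtain ⟨z, hzS, hzA, hzB⟩ := hconn A B (isOpen_biUnion fun y _ => (V y : X.Opens).2) (isOpen_biUnion fun y _ => (V y : X.Opens).2) hcov
        ⟨x₀, hx₀, Set.mem_biUnion (x := x₀) ⟨hx₀, rfl⟩ (hxV x₀)⟩ ⟨x, hx, Set.mem_biUnion (x := x) ⟨hx, hne⟩ (hxV x)⟩
      obtain ⟨y, ⟨-, hy⟩, hzy⟩ := Set.mem_iUnion₂.1 hzA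
      obtain ⟨w, ⟨-, hw⟩, hzw⟩ := Set.mem_iUnion₂.1 hzB
      have h1 := huniq z hzS (V y) (V w) (m y) (n y) (m w) (n w) hzy hzw (hmn y) (hmn w) (hv y) (hv w)
      apply hw
      rcases Nat.eq_zero_or_pos (m y) with h0 | h0
      · have hn0 : n y ≠ 0 := fun e => hmn y (by rw [h0, e])
        rw [h0, zero_mul, eq_comm, mul_eq_zero] at h1
        rw [h0, zero_mul, eq_comm, mul_eq_zero] at hy
        rw [h1.resolve_right hn0, hy.resolve_right hn0, zero_mul, zero_mul]
      · refine Nat.eq_of_mul_eq_mul_left h0 ?_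
        calc m y * (m w * n x₀) = m w * (m y * n x₀) := by ring
          _ = m x₀ * (m w * n y) := by rw [hy]; ring
          _ = m y * (m x₀ * n w) := by rw [← h1]; ring
    have key : ∀ x : X, ∃ W : X.affineOpens, x ∈ (W : X.Opens) ∧ ∃ K : ℕ, 0 < K ∧ Valid W (K * p) (K * q) := by
      intro x
      by_cases hx : x ∈ S
      · refine ⟨V x, hxV x, m x + n x, ?_, ?_⟩
        · rcases Nat.eq_zero_or_pos (m x + n x) with h | h
          · exact absurd (show (m x, n x) = (0, 0) by simp [Nat.add_eq_zero_iff.1 h]) (hmn x)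
          · exact h
        · show D.ideal (V x) ^ ((m x + n x) * p) = E.ideal (V x) ^ ((m x + n x) * q)
          rw [show (m x + n x) * p = m x * (p + q) by rw [add_mul, mul_comm (n x) p, ← hS x hx]; ring,
            show (m x + n x) * q = n x * (p + q) by rw [add_mul, hS x hx]; ring, pow_mul, pow_mul]
          exact congrArg (· ^ (p + q)) (hv x)
      · obtain ⟨Uf, hxf, f, hf, hDf⟩ := hD x
        obtain ⟨Ug, hxg, g, hg, hEg⟩ := hE x
        have hxD : x ∉ (D.support : Set X) := fun h => hx (Or.inl h)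
        have hxE : x ∉ (E.support : Set X) := fun h => hx (Or.inr h)
        have h1 : x ∈ X.basicOpen f := by
          by_contra h
          apply hxD
          refine (D.mem_supportSet_iff_of_mem hxf).2 ?_
          rw [hDf, X.zeroLocus_span, Scheme.zeroLocus_singleton]
          exact h
        have h2 : x ∈ X.basicOpen g := by
          by_contra h
          apply hxE
          refine (E.mem_supportSet_iff_of_mem hxg).2 ?_
          rw [hEg, X.zeroLocus_span, Scheme.zeroLocus_singleton]
          exact h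
        obtain ⟨W, hxW, hW⟩ := hnbhd x (X.basicOpen f ⊓ X.basicOpen g) ⟨h1, h2⟩
        simp only [le_inf_iff] at hW
        have hu : ∀ {U : X.affineOpens} (r : Γ(X, U)) (h : (W : X.Opens) ≤ X.basicOpen r),
            Ideal.map (X.presheaf.map (CategoryTheory.homOfLE (h.trans (X.basicOpen_le r))).op).hom (Ideal.span {r}) = ⊤ := by
          intro U r h
          rw [Ideal.map_span, Set.image_singleton, Ideal.span_singleton_eq_top]
          have := (RingedSpace.isUnit_res_basicOpen X.toRingedSpace r).map (X.presheaf.map (CategoryTheory.homOfLE h).op).hom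
          erw [← CommRingCat.comp_apply, ← CategoryTheory.Functor.map_comp] at this
          exact this
        refine ⟨W, hxW, 1, one_pos, ?_⟩
        show D.ideal W ^ (1 * p) = E.ideal W ^ (1 * q)
        rw [← D.map_ideal (U := W) (V := Uf) (hW.1.trans (X.basicOpen_le f)), ← E.map_ideal (U := W) (V := Ug) (hW.2.trans (X.basicOpen_le g)), hDf, hEg]
        erw [hu f hW.1, hu g hW.2]
        rw [← Ideal.one_eq_top, one_pow, one_pow]
    choose W hxW K hK hWv using key
    obtain ⟨T, hT⟩ := (CompactSpace.isCompact_univ (X := X)).elim_finite_subcover (fun x => ((W x : X.Opens) : Set X)) (fun x => (W x : X.Opens).2) fun x _ => Set.mem_iUnion.2 ⟨x, hxW x⟩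
    let L := ∏ x ∈ T, K x
    have hL : L ≠ 0 := Finset.prod_ne_zero_iff.2 fun x _ => (hK x).ne'
    refine ⟨L * p, L * q, fun e => hpq ?_, ?_⟩
    · simp only [Prod.mk.injEq, mul_eq_zero, hL, false_or] at e
      simp [e]
    · refine Scheme.IdealSheafData.ext_of_iSup_eq_top (fun x : T => W x) ?_ fun x => ?_
      · refine top_le_iff.1 fun z _ => ?_
        obtain ⟨x, hx, hz⟩ := Set.mem_iUnion₂.1 (hT (Set.mem_univ z))
        exact TopologicalSpace.Opens.mem_iSup.2 ⟨⟨x, hx⟩, hz⟩
      · obtain ⟨j, hj⟩ := Finset.dvd_prod_of_mem K x.2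
        show D.ideal (W x) ^ (L * p) = E.ideal (W x) ^ (L * q)
        rw [show L * p = (K x * p) * j by rw [show L = K x * j from hj]; ring,
          show L * q = (K x * q) * j by rw [show L = K x * j from hj]; ring, pow_mul _ (K x * p) j, pow_mul _ (K x * q) j]
        exact congrArg (· ^ j) (hWv x)
  exact ⟨m, n, hne, fun U => congrArg (fun I : X.IdealSheafData => I.ideal U) h⟩

end Groth.Agent.S17732
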