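import Groth.Statements.S17734
import Groth.Agent.PicAux.SpreadLocal

set_option autoImplicit false
universe u
open PicF

namespace Groth.Agent.S17734

open CategoryTheory AlgebraicGeometry Limits in
/-- Let f : X → S be a proper morphism of finite presentation, s a point of S, and L an invertible
module on the base change X^s of X to the spectrum of the local ring of S at s. Then there are an
open neighbourhood V of s in S and an invertible module L' on the open subscheme f⁻¹(V) = X ×_S V
such that the pullback of L' along the canonical morphism X^s → f⁻¹(V) (the unique one compatible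
with the projection X^s → X) is isomorphic to L. -/
theorem result
    {X S : Scheme.{u}} (f : X ⟶ S) [IsProper f] [LocallyOfFinitePresentation f] (s : S)
    (L : (pullback f (S.fromSpecStalk s)).Modules) (hL : PicF.IsInvertible L) :
    ∃ (V : S.Opens) (_ : s ∈ V) (L' : (↑(f ⁻¹ᵁ V) : Scheme.{u}).Modules), PicF.IsInvertible L' ∧
      ∀ (ι : pullback f (S.fromSpecStalk s) ⟶ ↑(f ⁻¹ᵁ V)),
        ι ≫ (f ⁻¹ᵁ V).ι = pullback.fst f (S.fromSpecStalk s) →
        Nonempty ((Scheme.Modules.pullback ι).obj L' ≅ L) := by
  exact Groth.PicAux.SpreadLocal.exists_spread f s hL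

end Groth.Agent.S17734
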