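import Groth.Statements.S17735
import Groth.Agent.NodeFibral.Primes
import Groth.Agent.PicAux.RegularUFD
-- import your own Groth.Agent.* helpers here

set_option autoImplicit false
universe u
open CAlg

namespace Groth.Agent.S17735

open IsLocalRing in
/-- Let R be a regular local ring complete for its maximal ideal, r a non-zero element of R, A the
quotient of the power series ring in x, y over R by xy − r, B the quotient of the polynomial ring in
x, y over R by xy − r, ι : B → A the natural map, P the ideal of B generated by x, y and the maximal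
ideal of R, à the localization of B at P and φ : à → A the map extending ι. Call a prime of height
one of A (or of Ã) fibral when it contains a non-zero element of R. Then contraction along φ is a
bijection from the set of fibral height-one primes of A onto the set of fibral height-one primes of
Ã; equivalently it induces an isomorphism between the free abelian groups of fibral Weil divisors. -/
theorem result
    (R : Type u) [CommRing R] [IsRegularLocalRing R]
    [IsAdicComplete (maximalIdeal R) R]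
    (r : R) (hr : r ≠ 0)
    (ι : (MvPolynomial (Fin 2) R ⧸ Ideal.span {(MvPolynomial.X 0 * MvPolynomial.X 1 - MvPolynomial.C r : MvPolynomial (Fin 2) R)}) →+*
      (MvPowerSeries (Fin 2) R ⧸ Ideal.span {(MvPowerSeries.X 0 * MvPowerSeries.X 1 - MvPowerSeries.C r : MvPowerSeries (Fin 2) R)}))
    (hι : ι.comp (Ideal.Quotient.mk _) =
      (Ideal.Quotient.mk _).comp (MvPolynomial.coeToMvPowerSeries.ringHom : MvPolynomial (Fin 2) R →+* MvPowerSeries (Fin 2) R))
    (P : Ideal (MvPolynomial (Fin 2) R ⧸ Ideal.span {(MvPolynomial.X 0 * MvPolynomial.X 1 - MvPolynomial.C r : MvPolynomial (Fin 2) R)})) [P.IsPrime]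
    (hP : P = Ideal.span {Ideal.Quotient.mk _ (MvPolynomial.X 0), Ideal.Quotient.mk _ (MvPolynomial.X 1)} ⊔
      (maximalIdeal R).map (algebraMap R _))
    (φ : Localization.AtPrime P →+* (MvPowerSeries (Fin 2) R ⧸ Ideal.span {(MvPowerSeries.X 0 * MvPowerSeries.X 1 - MvPowerSeries.C r : MvPowerSeries (Fin 2) R)}))
    (hφ : φ.comp (algebraMap _ (Localization.AtPrime P)) = ι) :
    Set.BijOn (fun 𝔓 => Ideal.comap φ 𝔓)
      {𝔓 | 𝔓.IsPrime ∧ 𝔓.height = 1 ∧ Ideal.comap (algebraMap R _) 𝔓 ≠ ⊥}
      {𝔮 : Ideal (Localization.AtPrime P) | 𝔮.IsPrime ∧ @Ideal.height (Localization.AtPrime P) _ 𝔮 = 1 ∧ Ideal.comap (algebraMap R (Localization.AtPrime P)) 𝔮 ≠ ⊥} := by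
  classical
  have hdom : IsDomain R := Groth.Ega4Algebra1.isDomain_of_isRegularLocalRing R
  have := Groth.PicAux.ufd_of_isRegularLocalRing R
  have hrm : r ∈ maximalIdeal R := by
    by_contra hu
    rw [mem_maximalIdeal, mem_nonunits_iff, not_not] at hu
    apply (inferInstance : P.IsPrime).ne_top
    rw [Ideal.eq_top_iff_one]
    obtain ⟨u, rfl⟩ := hu
    have h1 : (Ideal.Quotient.mk _ (MvPolynomial.X 0) : MvPolynomial (Fin 2) R ⧸ Ideal.span {(MvPolynomial.X 0 * MvPolynomial.X 1 - MvPolynomial.C (u : R) : MvPolynomial (Fin 2) R)}) *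
        Ideal.Quotient.mk _ (MvPolynomial.X 1) ∈ P := by
      rw [hP]
      exact Ideal.mul_mem_right _ _ (Ideal.mem_sup_left (Ideal.subset_span (by simp)))
    rw [← map_mul, (Ideal.Quotient.eq (I := Ideal.span {(MvPolynomial.X 0 * MvPolynomial.X 1 - MvPolynomial.C (u : R) : MvPolynomial (Fin 2) R)})).2
        (Ideal.mem_span_singleton_self _)] at h1
    have h2 := P.mul_mem_left (Ideal.Quotient.mk _ (MvPolynomial.C ((u⁻¹ : Rˣ) : R))) h1
    rwa [← map_mul, ← map_mul, Units.inv_mul, map_one, map_one] at h2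
  have eι : ι = Groth.NodeFibral.ι r := Ideal.Quotient.ringHom_ext (hι.trans (by ext <;> simp [Groth.NodeFibral.ι_mk]))
  subst eι
  set L := Localization.AtPrime P
  have hA := Groth.NodeFibral.isDomain_nodeRing hrm hr
  have hφa : ∀ b, φ (algebraMap _ L b) = Groth.NodeFibral.ι r b := fun b => by
    rw [← RingHom.comp_apply, hφ]
  have hmap : ∀ J : Ideal (SpinCurv.PolyNodeRing R r), (J.map (algebraMap _ L)).map φ = J.map (Groth.NodeFibral.ι r) := fun J => by
    rw [Ideal.map_map, hφ]
  have hcomap : ∀ π : R, Prime π → ∀ o ∈ Groth.NodeFibral.gens r π,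
      (Groth.NodeFibral.primeA r π o).comap φ = (Groth.NodeFibral.primeB r π o).map (algebraMap _ L) := by
    intro π hπ o ho
    rw [← IsLocalization.map_under P.primeCompl L ((Groth.NodeFibral.primeA r π o).comap φ),
      Ideal.under, Ideal.comap_comap, hφ, Groth.NodeFibral.comap_primeA r π hrm hπ ho]
  have hRL : ∀ a : R, φ (algebraMap R L a) = Groth.NodeFibral.cA r a := fun a => by
    rw [IsScalarTower.algebraMap_apply R (SpinCurv.PolyNodeRing R r) L, hφa]
    exact Groth.NodeFibral.ι_cB r a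
  -- every fibral prime contains a prime element of the base
  have hex : ∀ p : Ideal R, p.IsPrime → p ≠ ⊥ → ∃ π ∈ p, Prime π := fun p hp hne => by
    exact Ideal.IsPrime.exists_mem_prime_of_ne_bot hp hne
  -- the primes downstairs
  have hexL : ∀ q : Ideal L, q.IsPrime → ∀ π : R, algebraMap R L π ∈ q →
      ∃ o ∈ Groth.NodeFibral.gens r π, (Groth.NodeFibral.primeB r π o).map (algebraMap _ L) ≤ q := by
    intro q hq π hπ
    obtain ⟨o, ho, hle⟩ := Groth.NodeFibral.exists_primeB_le r π
      (q := q.comap (algebraMap (SpinCurv.PolyNodeRing R r) L))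
      (by rw [Ideal.mem_comap]; rw [IsScalarTower.algebraMap_apply R (SpinCurv.PolyNodeRing R r) L] at hπ; exact hπ)
    exact ⟨o, ho, Ideal.map_le_iff_le_comap.2 hle⟩
  have hne0 : ∀ π : R, π ≠ 0 → algebraMap R L π ≠ 0 := fun π hπ h => by
    have := congrArg φ h
    rw [hRL, map_zero] at this
    exact Groth.NodeFibral.cA_ne_zero r hrm hr hπ this
  have hclass : ∀ 𝔓 : Ideal (SpinCurv.NodeRing R r), 𝔓.IsPrime → 𝔓.height = 1 → 𝔓.comap (algebraMap R _) ≠ ⊥ →
      ∃ π, Prime π ∧ ∃ o ∈ Groth.NodeFibral.gens r π, 𝔓 = Groth.NodeFibral.primeA r π o := by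
    intro 𝔓 h𝔓 hh hf
    obtain ⟨π, hπm, hπ⟩ := hex _ (h𝔓.comap _) hf
    obtain ⟨o, ho, hle⟩ := Groth.NodeFibral.exists_primeA_le r π (Q := 𝔓) hπm
    refine ⟨π, hπ, o, ho, ?_⟩
    rcases hle.eq_or_lt with h | h
    · exact h.symm
    · exfalso
      have := Groth.NodeFibral.isPrime_primeA r π hrm hπ ho
      have : (Groth.NodeFibral.primeA r π o).FiniteHeight :=
        ⟨Or.inr (by rw [Groth.NodeFibral.height_primeA r π hrm hπ hr ho]; exact ENat.one_ne_top)⟩
      have h2 := Ideal.height_strict_mono_of_isPrime h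
      rw [Groth.NodeFibral.height_primeA r π hrm hπ hr ho, hh] at h2
      exact lt_irrefl _ h2
  refine ⟨?_, ?_, ?_⟩
  · rintro 𝔓 ⟨h𝔓, hh, hf⟩
    obtain ⟨π, hπ, o, ho, rfl⟩ := hclass 𝔓 h𝔓 hh hf
    have hmemL : algebraMap R L π ∈ (Groth.NodeFibral.primeA r π o).comap φ := by
      rw [Ideal.mem_comap, hRL]; exact Groth.NodeFibral.cA_mem r π hrm hπ o
    refine ⟨h𝔓.comap φ, le_antisymm ?_ ?_, ?_⟩
    · refine Ideal.height_le_one_of_isPrincipal_of_mem_minimalPrimes (Ideal.span {algebraMap R L π}) _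
        ⟨⟨h𝔓.comap φ, Ideal.span_le.2 (Set.singleton_subset_iff.2 hmemL)⟩, ?_⟩
      rintro q ⟨hq, hqπ⟩ hle
      obtain ⟨o', ho', hle'⟩ := hexL q hq π (hqπ (Ideal.subset_span rfl))
      have h3 := Ideal.map_mono (f := φ) (hle'.trans hle)
      rw [hmap] at h3
      have := Groth.NodeFibral.eq_of_le r π hrm hπ ho ho' (h3.trans Ideal.map_comap_le)
      subst this
      show Ideal.comap φ _ ≤ _
      rw [hcomap π hπ _ ho]
      exact hle'
    · rw [Order.one_le_iff_ne_zero]
      intro h0
      haveI := h𝔓.comap φ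
      rw [Ideal.height_eq_zero_iff] at h0
      haveI : IsDomain L := by
        have hinj : Function.Injective (Groth.NodeFibral.ι r) := by
          refine (injective_iff_map_eq_zero _).2 fun x hx => ?_
          obtain ⟨f, rfl⟩ := Ideal.Quotient.mk_surjective x
          rw [Groth.NodeFibral.ι_mk, Ideal.Quotient.eq_zero_iff_mem] at hx
          exact Ideal.Quotient.eq_zero_iff_mem.2 (Groth.NodeFibral.mem_span_of_coe_mem hrm hx)
        haveI : IsDomain (SpinCurv.PolyNodeRing R r) := hinj.isDomain _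
        exact IsLocalization.isDomain_localization P.primeCompl_le_nonZeroDivisors
      rw [IsDomain.minimalPrimes_eq_singleton_bot] at h0
      rw [show (Groth.NodeFibral.primeA r π o).comap φ = ⊥ from h0, Ideal.mem_bot] at hmemL
      exact hne0 π hπ.ne_zero hmemL
    · intro hb
      have : π ∈ (Ideal.comap φ (Groth.NodeFibral.primeA r π o)).comap (algebraMap R L) := hmemL
      rw [hb, Ideal.mem_bot] at this
      exact hπ.ne_zero this
  · rintro 𝔓₁ ⟨h1, hh1, hf1⟩ 𝔓₂ ⟨h2, hh2, hf2⟩ he
    obtain ⟨π₁, hπ₁, o₁, ho₁, rfl⟩ := hclass 𝔓₁ h1 hh1 hf1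
    obtain ⟨π₂, hπ₂, o₂, ho₂, rfl⟩ := hclass 𝔓₂ h2 hh2 hf2
    have h3 := congrArg (Ideal.map φ) he
    simp only [hcomap π₁ hπ₁ o₁ ho₁, hcomap π₂ hπ₂ o₂ ho₂, hmap] at h3
    exact h3
  · rintro q ⟨hq, hh, hf⟩
    obtain ⟨π, hπm, hπ⟩ := hex _ (hq.comap _) hf
    obtain ⟨o, ho, hle⟩ := hexL q hq π hπm
    have hp := Groth.NodeFibral.isPrime_primeA r π hrm hπ ho
    refine ⟨Groth.NodeFibral.primeA r π o, ⟨hp, Groth.NodeFibral.height_primeA r π hrm hπ hr ho, ?_⟩, ?_⟩
    · intro hb
      have : π ∈ (Groth.NodeFibral.primeA r π o).comap (algebraMap R _) :=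
        Groth.NodeFibral.cA_mem r π hrm hπ o
      rw [hb, Ideal.mem_bot] at this
      exact hπ.ne_zero this
    · show Ideal.comap φ _ = q
      rw [← hcomap π hπ o ho] at hle
      rcases hle.eq_or_lt with h | h
      · exact h
      · exfalso
        haveI := hp.comap φ
        haveI : @Ideal.FiniteHeight L _ q := ⟨Or.inr (by rw [hh]; exact ENat.one_ne_top)⟩
        haveI : ((Groth.NodeFibral.primeA r π o).comap φ).FiniteHeight := @Ideal.finiteHeight_of_le L _ _ q h.le hq.ne_top _
        have h2 := @Ideal.height_strict_mono_of_isPrime L _ _ q _ h (by assumption)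
        rw [hh, Order.lt_one_iff, Ideal.height_eq_zero_iff] at h2
        haveI : IsDomain L := by
          have hinj : Function.Injective (Groth.NodeFibral.ι r) := by
            refine (injective_iff_map_eq_zero _).2 fun x hx => ?_
            obtain ⟨f, rfl⟩ := Ideal.Quotient.mk_surjective x
            rw [Groth.NodeFibral.ι_mk, Ideal.Quotient.eq_zero_iff_mem] at hx
            exact Ideal.Quotient.eq_zero_iff_mem.2 (Groth.NodeFibral.mem_span_of_coe_mem hrm hx)
          haveI : IsDomain (SpinCurv.PolyNodeRing R r) := hinj.isDomain _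
          exact IsLocalization.isDomain_localization P.primeCompl_le_nonZeroDivisors
        rw [IsDomain.minimalPrimes_eq_singleton_bot] at h2
        have : algebraMap R L π ∈ (Groth.NodeFibral.primeA r π o).comap φ := by
          rw [Ideal.mem_comap, hRL]; exact Groth.NodeFibral.cA_mem r π hrm hπ o
        rw [show (Groth.NodeFibral.primeA r π o).comap φ = ⊥ from h2, Ideal.mem_bot] at this
        exact hne0 π hπ.ne_zero this

end Groth.Agent.S17735
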