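import Groth.Statements.S17737
import Groth.Agent.PlaneCurve.ThickUnique

set_option autoImplicit false
universe u
open DualGr

namespace Groth.Agent.S17737

open IsLocalRing in
/-- Let R be a Noetherian local ring, A a local ring with a ring map φ : R → A, and a, b two elements of
the maximal ideal of R such that A is formally a node over R both of thickness (a) and of thickness
(b): the completion of A is isomorphic, compatibly with R, to R̂[[x,y]]/(xy − a) and also to
R̂[[x,y]]/(xy − b). Then aR = bR. (This is the uniqueness assertion: the element in a node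
presentation is not unique but the principal ideal it generates is; it is stated for presentations
with the element taken in R, whose ideal in R is then determined.) -/
theorem result
    (R A : Type u) [CommRing R] [IsLocalRing R] [IsNoetherianRing R] [CommRing A] [IsLocalRing A]
    (φ : R →+* A) (a b : R) (ha : a ∈ maximalIdeal R) (hb : b ∈ maximalIdeal R)
    (h₁ : DualGr.IsThickNode φ a) (h₂ : DualGr.IsThickNode φ b) :
    Ideal.span {a} = Ideal.span {b} := by
  obtain ⟨e₁, he₁⟩ := h₁
  obtain ⟨e₂, he₂⟩ := h₂
  have key : ∀ {a b : R}, a ∈ maximalIdeal R → b ∈ maximalIdeal R →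
      (e : DualGr.nodeRing R a ≃+* DualGr.nodeRing R b) →
      (∀ r : R, e (Ideal.Quotient.mk _ (MvPowerSeries.C (algebraMap R (Curv2.cpl R) r))) =
        Ideal.Quotient.mk _ (MvPowerSeries.C (algebraMap R (Curv2.cpl R) r))) → a ∈ Ideal.span {b} := by
    intro a b ha hb e he
    haveI : Module.FaithfullyFlat R (Curv2.cpl R) := Module.FaithfullyFlat.of_flat_of_isLocalHom
    have h := Groth.PlaneCurve.ThickUnique.mem_span_of_equiv a b ha hb e he
    rw [← Ideal.comap_map_eq_self_of_faithfullyFlat (B := Curv2.cpl R) (Ideal.span {b}), Ideal.mem_comap,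
      Ideal.map_span, Set.image_singleton]
    exact h
  refine le_antisymm ?_ ?_ <;> rw [Ideal.span_le, Set.singleton_subset_iff]
  · exact key ha hb (e₁.symm.trans e₂) fun r => by rw [RingEquiv.trans_apply, ← he₁, e₁.symm_apply_apply, he₂]
  · exact key hb ha (e₂.symm.trans e₁) fun r => by rw [RingEquiv.trans_apply, ← he₂, e₂.symm_apply_apply, he₁]

end Groth.Agent.S17737
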