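import Groth.Statements.S17742
import Groth.Agent.Misc13.QsChowPres

set_option autoImplicit false
open QsChow

namespace Groth.Agent.S17742

/-- For an integer n ≥ 2 put s := n / 2 + 1 (integer part) and, for 2 ≤ j ≤ s, let k_j be the integer
part of the base-2 logarithm of (2n - 1)/(2j - 3); let P := F_2[ε_1, …, ε_s]/(ε_1^n, ε_2^(2^k_2), …,
ε_s^(2^k_s)) over the field F_2 with two elements; let ē_1 := ε_1, ē_2 := ε_2^2 + ε_1 ε_2, ē_j :=
ε_j + ε_1^(2j-4) ε_2 for 3 ≤ j ≤ s and x̄ := ε_1^(n-1) ε_2, and let φ : F_2[e_1, …, e_s, x] → P be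
the F_2-algebra homomorphism with e_j ↦ ē_j and x ↦ x̄. Then the kernel of φ is the ideal generated
by e_1^n, e_1 x, x^2, h_2 := e_1^(2^k_2 - n) x + S_2 and, for 3 ≤ j ≤ s, h_j := e_j^(2^k_j) +
e_1^((2j-3)·2^k_j - n) x + e_1^((2j-4)·2^k_j) S_j, where S_j := Σ_{t < k_j} e_1^(2^k_j - 2^(t+1))
e_2^(2^t). (The printed statement is the resulting presentation of the τ-fixed subalgebra modulo
ε_1^m for 1 ≤ m ≤ n, for the involution τ fixing ε_1 and sending ε_j to ε_j + ε_1^(2j-3); since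
ε_1^n = 0 the case m = n carries all the others.) -/
theorem result (n : ℕ) (hn : 2 ≤ n) :
    RingHom.ker (QsChow.phi n) = QsChow.presIdeal n := by
  obtain ⟨τ, h1, h2⟩ := Groth.Misc13.QsC.exists_tau hn
  exact Groth.Misc13.QsC.ker_phi τ hn h1 h2

end Groth.Agent.S17742
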