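import Groth.Statements.S17743
import Groth.Agent.Misc13.PtChow

set_option autoImplicit false
universe u
open CategoryTheory AlgebraicGeometry
open QsChow

namespace Groth.Agent.S17743

/-- Let K be a separable algebraic field extension of k and suppose that some intermediate field L of K
over k is finite Galois over k with degree [L:k] not of the form p^n for a prime p and n ≥ 0 (so
[L:k] has at least two prime factors). Then the subgroup of the Chow group of zero-cycles of Spec k
generated by the classes of push-forwards from Spec F, over the intermediate fields F of K over k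
that are finite over k and different from k, is the whole group; that is, the conormed Chow group of
the point relative to K over k is zero. (Degree 1 = p^0 must be excluded: for L = K = k the quotient
is ℤ.) -/
theorem result
    (k : Type u) [Field k] (K : Type u) [Field K] [Algebra k K] [Algebra.IsSeparable k K]
    (L : IntermediateField k K) [FiniteDimensional k L] [IsGalois k L]
    (hL : ∀ p n : ℕ, p.Prime → Module.finrank k L ≠ p ^ n) :
    QsChow.ptNormSubgroup k K = ⊤ := by
  classical
  have key := Groth.Misc13.PtChow.exists_intermediateField_finrank_eq_index k K L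
  rw [Groth.Misc13.PtChow.eq_top_iff]
  set H := Groth.Misc13.PtChow.normImage k K with hH
  obtain ⟨d, hd⟩ := Int.subgroup_cyclic H
  have hmem : ∀ F : IntermediateField k K, FiniteDimensional k F →
      Module.finrank k F ≠ 1 → d ∣ (Module.finrank k F : ℤ) := by
    intro F hF hne
    have hm := Groth.Misc13.PtChow.finrank_mem k K F (fun h => hne (IntermediateField.finrank_eq_one_iff.2 h))
    rw [← hH, hd, ← AddSubgroup.zmultiples_eq_closure, Int.mem_zmultiples_iff] at hm
    exact hm
  have hdL : d ∣ (Module.finrank k L : ℤ) :=
    hmem L inferInstance (by simpa using hL 2 0 Nat.prime_two)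
  have hd1 : d.natAbs = 1 := by
    by_contra hne
    obtain ⟨p, hp, hpd⟩ := Nat.exists_prime_and_dvd hne
    have := Fact.mk hp
    obtain ⟨P⟩ := (inferInstance : Nonempty (Sylow p (L ≃ₐ[k] L)))
    obtain ⟨F, hF, hdeg⟩ := key P.toSubgroup
    obtain ⟨n, hn⟩ := IsPGroup.iff_card.1 P.isPGroup'
    have hne1 : Module.finrank k F ≠ 1 := by
      rw [hdeg]
      intro h1
      have h2 := P.toSubgroup.index_mul_card
      rw [h1, one_mul, IsGalois.card_aut_eq_finrank] at h2
      exact hL p n hp (h2.symm.trans hn)
    have h3 : (d.natAbs) ∣ Module.finrank k F := by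
      simpa using Int.natAbs_dvd_natAbs.2 (hmem F hF hne1)
    exact P.not_dvd_index (hdeg ▸ hpd.trans h3)
  rw [hd, ← AddSubgroup.zmultiples_eq_closure, AddSubgroup.eq_top_iff']
  intro x
  rw [Int.mem_zmultiples_iff, ← Int.natAbs_dvd, hd1, Nat.cast_one]
  exact one_dvd _

end Groth.Agent.S17743
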