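import Groth.Statements.S17744
import Groth.Agent.Misc13.PtChow

set_option autoImplicit false
universe u
open CategoryTheory AlgebraicGeometry
open QsChow

namespace Groth.Agent.S17744

/-- Let K be a separable algebraic field extension of k, let L be an intermediate field of K over k that
is finite Galois over k of degree p^n with p prime and n ≥ 1, and suppose that every intermediate
field of K over k that is finite over k has degree a power of p. Then the subgroup of the Chow group
of zero-cycles of Spec k generated by the classes of push-forwards from Spec F, over the
intermediate fields F of K over k that are finite over k and different from k, has index p; that is,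
the conormed Chow group of the point relative to K over k is cyclic of order p (the field with p
elements, in the source's ring language). (For n = 0, i.e. L = k, the assertion fails with K = k, so
n ≥ 1 is required.) -/
theorem result
    (k : Type u) [Field k] (K : Type u) [Field K] [Algebra k K] [Algebra.IsSeparable k K]
    (L : IntermediateField k K) [FiniteDimensional k L] [IsGalois k L]
    (p n : ℕ) (hp : p.Prime) (hn : 1 ≤ n) (hL : Module.finrank k L = p ^ n)
    (hF : ∀ F : IntermediateField k K, FiniteDimensional k F → ∃ e : ℕ, Module.finrank k F = p ^ e) :
    (QsChow.ptNormSubgroup k K).index = p := by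
  classical
  have := Fact.mk hp
  have key := Groth.Misc13.PtChow.exists_intermediateField_finrank_eq_index k K L
  rw [Groth.Misc13.PtChow.index_eq]
  have hcard : Nat.card (L ≃ₐ[k] L) = p ^ n := by rw [IsGalois.card_aut_eq_finrank, hL]
  obtain ⟨G, hG⟩ := Sylow.exists_subgroup_card_pow_prime p
    (G := L ≃ₐ[k] L) (n := n - 1) (by rw [hcard]; exact pow_dvd_pow p (Nat.sub_le n 1))
  obtain ⟨F, hFd, hdeg⟩ := key G
  have hFp : Module.finrank k F = p := by
    rw [hdeg]
    have h2 := G.index_mul_card
    rw [hG, hcard, show p ^ n = p * p ^ (n - 1) by rw [← pow_succ', Nat.sub_add_cancel hn]] at h2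
    exact Nat.eq_of_mul_eq_mul_right (pow_pos hp.pos _) h2
  have heq : Groth.Misc13.PtChow.normImage k K = AddSubgroup.zmultiples (p : ℤ) := by
    refine le_antisymm (Groth.Misc13.PtChow.normImage_le k K _ fun E hE hne => ?_) ?_
    · obtain ⟨e, he⟩ := hF E hE
      rw [Int.mem_zmultiples_iff, Int.natCast_dvd_natCast, he]
      refine dvd_pow_self p fun h0 => hne ?_
      rw [h0, pow_zero] at he
      exact IntermediateField.finrank_eq_one_iff.1 he
    · rw [AddSubgroup.zmultiples_le, ← hFp]
      refine Groth.Misc13.PtChow.finrank_mem k K F fun h => hp.ne_one ?_
      rw [← hFp, IntermediateField.finrank_eq_one_iff.2 h]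
  rw [heq, Int.index_zmultiples, Int.natAbs_natCast]

end Groth.Agent.S17744
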