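import Groth.Statements.S17752
import Groth.Agent.LocCohDim.Avoid

set_option autoImplicit false
universe u
open LocCoh

namespace Groth.Agent.S17752

/-- Let R be a Noetherian ring of Krull dimension d and I an ideal of R. Then there are d + 1 elements
f_0, …, f_d of I such that I and the ideal they generate have the same radical; in other words the
arithmetic rank of I is at most d + 1. -/
theorem result (R : Type u) [CommRing R] [IsNoetherianRing R] (d : ℕ) (hd : ringKrullDim R = d) (I : Ideal R) : ∃ f : Fin (d + 1) → R, (∀ i, f i ∈ I) ∧ I.radical = (Ideal.span (Set.range f)).radical := by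
  obtain ⟨f, hf, h⟩ := Groth.LocCohDim.exists_fin_height I (d + 1)
  refine ⟨f, hf, Groth.LocCohDim.radical_eq_of_forall (Ideal.span_le.2 (by rintro _ ⟨i, rfl⟩; exact hf i))
    fun p _ hp => ?_⟩
  by_contra hI
  have h1 := h p hp hI
  have h2 : ((p.height : ℕ∞) : WithBot ℕ∞) ≤ ((d : ℕ∞) : WithBot ℕ∞) :=
    (Ideal.height_le_ringKrullDim_of_isPrime).trans (le_of_eq (by rw [hd]; rfl))
  have h3 : ((d + 1 : ℕ) : ℕ∞) ≤ (d : ℕ∞) := h1.trans (WithBot.coe_le_coe.1 h2)
  exact Nat.not_succ_le_self d (by exact_mod_cast h3)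

end Groth.Agent.S17752
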