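import Groth.Statements.S17753
import Groth.Agent.LocCohDim.Avoid

set_option autoImplicit false
universe u
open LocCoh

namespace Groth.Agent.S17753

/-- Let R be a Noetherian local ring of Krull dimension d and I a proper ideal of R. Then there are d
elements f_1, …, f_d of I such that I and the ideal they generate have the same radical, so the
arithmetic rank of I is at most d. (The published statement has no properness hypothesis; for the
unit ideal of a field, d = 0 and no empty family generates the unit ideal up to radical, and the
published proof uses that the maximal ideal contains I.) -/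
theorem result (R : Type u) [CommRing R] [IsNoetherianRing R] [IsLocalRing R] (d : ℕ) (hd : ringKrullDim R = d) (I : Ideal R) (hI : I ≠ ⊤) : ∃ f : Fin d → R, (∀ i, f i ∈ I) ∧ I.radical = (Ideal.span (Set.range f)).radical := by
  obtain ⟨f, hf, h⟩ := Groth.LocCohDim.exists_fin_height I d
  refine ⟨f, hf, Groth.LocCohDim.radical_eq_of_forall (Ideal.span_le.2 (by rintro _ ⟨i, rfl⟩; exact hf i))
    fun p _ hp => ?_⟩
  by_contra hIp
  have h1 := h p hp hIp
  have hlt : p < IsLocalRing.maximalIdeal R :=
    lt_of_le_of_ne (IsLocalRing.le_maximalIdeal (Ideal.IsPrime.ne_top inferInstance))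
      fun e => hIp (e.symm ▸ IsLocalRing.le_maximalIdeal hI)
  have h2 := Ideal.height_add_one_le_of_lt_of_isPrime hlt
  have h3 : ((IsLocalRing.maximalIdeal R).height : WithBot ℕ∞) = ((d : ℕ∞) : WithBot ℕ∞) := by
    rw [IsLocalRing.maximalIdeal_height_eq_ringKrullDim, hd]; rfl
  rw [WithBot.coe_inj.1 h3] at h2
  have h4 : (d : ℕ∞) + 1 ≤ (d : ℕ∞) := le_trans (by gcongr) h2
  exact Nat.not_succ_le_self d (by exact_mod_cast h4)

end Groth.Agent.S17753
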