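import Groth.Statements.S17754
import Mathlib

set_option autoImplicit false
universe u
open CAlg

namespace Groth.Agent.S17754

/-- Let R be a complete Noetherian local ring with maximal ideal m, and let I_0 ⊇ I_1 ⊇ I_2 ⊇ ⋯ be a
descending sequence of ideals of R whose intersection is zero. Then for every natural number n there
is an index s with I_s contained in m^n; that is, the filtration by the I_s is at least as fine as
the m-adic one. -/
theorem result (R : Type u) [CommRing R] [IsNoetherianRing R] [IsLocalRing R] [IsAdicComplete (IsLocalRing.maximalIdeal R) R] (I : ℕ → Ideal R) (hI : Antitone I) (hinf : ⨅ s, I s = ⊥) (n : ℕ) : ∃ s : ℕ, I s ≤ IsLocalRing.maximalIdeal R ^ n := by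
  let m := IsLocalRing.maximalIdeal R
  have hart : ∀ k, IsArtinianRing (R ⧸ m ^ k) := by
    intro k
    rcases Nat.eq_zero_or_pos k with rfl | hk
    · have : Subsingleton (R ⧸ m ^ 0) := Ideal.Quotient.subsingleton_iff.2 (by rw [pow_zero, Ideal.one_eq_top])
      infer_instance
    have : Nontrivial (R ⧸ m ^ k) := Ideal.Quotient.nontrivial_iff.2 fun h =>
      (IsLocalRing.maximalIdeal.isMaximal R).ne_top (top_le_iff.1 (h ▸ Ideal.pow_le_self hk.ne'))
    have : IsLocalRing (R ⧸ m ^ k) :=
      IsLocalRing.of_surjective' (Ideal.Quotient.mk (m ^ k)) Ideal.Quotient.mk_surjective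
    have hle : IsLocalRing.maximalIdeal (R ⧸ m ^ k) ≤ m.map (Ideal.Quotient.mk (m ^ k)) := by
      intro y hy
      obtain ⟨x, rfl⟩ := Ideal.Quotient.mk_surjective y
      refine Ideal.mem_map_of_mem _ ?_
      by_contra hx
      exact hy ((IsLocalRing.notMem_maximalIdeal.1 hx).map _)
    refine (isArtinianRing_iff_isNilpotent_maximalIdeal _).2 ⟨k, ?_⟩
    rw [Ideal.zero_eq_bot, eq_bot_iff]
    refine (Ideal.pow_right_mono hle k).trans ?_
    rw [← Ideal.map_pow, Ideal.map_quotient_self]
  have hstab : ∀ k, ∃ N, ∀ s, N ≤ s → I s ⊔ m ^ k = I N ⊔ m ^ k := by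
    intro k
    have := hart k
    obtain ⟨N, hN⟩ := IsArtinian.monotone_stabilizes (R := R ⧸ m ^ k) (M := R ⧸ m ^ k)
      ⟨fun s => OrderDual.toDual ((I s).map (Ideal.Quotient.mk (m ^ k))), fun a b hab => Ideal.map_mono (hI hab)⟩
    refine ⟨N, fun s hs => ?_⟩
    have h := congrArg (fun J => Ideal.comap (Ideal.Quotient.mk (m ^ k)) (OrderDual.ofDual J)) (hN s hs)
    change Ideal.comap (Ideal.Quotient.mk (m ^ k)) ((I N).map (Ideal.Quotient.mk (m ^ k))) =
      Ideal.comap (Ideal.Quotient.mk (m ^ k)) ((I s).map (Ideal.Quotient.mk (m ^ k))) at h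
    rw [Ideal.comap_map_of_surjective _ Ideal.Quotient.mk_surjective, Ideal.comap_map_of_surjective _
      Ideal.Quotient.mk_surjective, ← RingHom.ker_eq_comap_bot, Ideal.mk_ker] at h
    exact h.symm
  choose N hN using hstab
  let J : ℕ → Ideal R := fun k => I (N k) ⊔ m ^ k
  have hJ : ∀ k s, J k ≤ I s ⊔ m ^ k := fun k s => by
    show I (N k) ⊔ m ^ k ≤ _
    rw [← hN k (max (N k) s) (le_max_left _ _)]
    exact sup_le_sup_right (hI (le_max_right _ _)) _
  have hstep : ∀ k, ∀ x ∈ J k, ∃ y ∈ J (k + 1), y - x ∈ m ^ k := by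
    intro k x hx
    obtain ⟨a, ha, b, hb, rfl⟩ := Submodule.mem_sup.1 (hJ k (N (k + 1)) hx)
    exact ⟨a, le_sup_left (b := m ^ (k + 1)) ha, by simpa using neg_mem hb⟩
  choose! g hg hg' using hstep
  refine ⟨N n, fun x hx => ?_⟩
  let y : ℕ → R := fun j => Nat.rec (motive := fun _ => R) x (fun j z => g (n + j) z) j
  have hy : ∀ j, y j ∈ J (n + j) := by
    intro j
    induction j with
    | zero => exact Submodule.mem_sup_left hx
    | succ j ih => exact hg _ _ ih
  have hcauchy : ∀ a b, a ≤ b → y b - y a ∈ m ^ (n + a) := by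
    intro a b hab
    induction b, hab using Nat.le_induction with
    | base => simp
    | succ b hab ih =>
      have h1 : y (b + 1) - y b ∈ m ^ (n + a) :=
        Ideal.pow_le_pow_right (by omega) (hg' _ _ (hy b))
      simpa using add_mem h1 ih
  obtain ⟨L, hL⟩ := IsPrecomplete.prec (I := m) (M := R) inferInstance (f := y) (fun {a b} hab =>
    SModEq.sub_mem.2 (by
      simp only [smul_eq_mul, Ideal.mul_top]
      rw [← neg_sub]
      exact neg_mem (Ideal.pow_le_pow_right (by omega) (hcauchy a b hab))))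
  have hL' : ∀ a, y a - L ∈ m ^ a := fun a => by simpa [SModEq.sub_mem] using hL a
  have hLs : ∀ s, L ∈ I s := by
    intro s
    rw [← Ideal.Quotient.eq_zero_iff_mem]
    by_cases hs : I s = ⊤
    · exact Ideal.Quotient.eq_zero_iff_mem.2 (hs ▸ Submodule.mem_top)
    refine IsHausdorff.haus (I := m) (M := R ⧸ I s) inferInstance _ fun j => SModEq.zero.2 ?_
    have h1 : L ∈ I s ⊔ m ^ j := by
      have h2 : y j ∈ I s ⊔ m ^ j := (hJ (n + j) s).trans
        (sup_le_sup_left (Ideal.pow_le_pow_right (by omega)) _) (hy j)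
      simpa using sub_mem h2 (Submodule.mem_sup_right (S := I s) (hL' j))
    obtain ⟨a, ha, b, hb, rfl⟩ := Submodule.mem_sup.1 h1
    rw [map_add, Ideal.Quotient.eq_zero_iff_mem.2 ha, zero_add,
      ← mul_one (Ideal.Quotient.mk (I s) b), ← Ideal.Quotient.algebraMap_eq, ← Algebra.smul_def]
    exact Submodule.smul_mem_smul hb trivial
  have hL0 : L = 0 := by
    rw [← Ideal.mem_bot, ← hinf]
    exact Submodule.mem_iInf _ |>.2 hLs
  have h1 := hcauchy 0 n (Nat.zero_le _)
  have h2 := hL' n
  rw [hL0, sub_zero] at h2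
  simpa [y] using sub_mem h2 h1

end Groth.Agent.S17754
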