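import Groth.Statements.S17755
import Groth.Agent.LocDual.EquidimGorenstein
import Groth.Agent.Calg1.SerreConditions
import Groth.Agent.S5765
import Groth.Agent.LocCohBase.TopDegree

set_option autoImplicit false
universe u
open LocCoh

namespace Groth.Agent.S17755

/-- Let R be a Noetherian local ring with maximal ideal m which is a homomorphic image of a Gorenstein
local ring, and let M be a finitely generated R-module whose support has dimension n. Then the
following are equivalent: (1) M is generalized Cohen–Macaulay, i.e. the local cohomology module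
H^i_m(M) has finite length for every i < n; (2) M is equidimensional, i.e. R ⧸ p has dimension n for
every minimal prime p of the annihilator of M, and for every prime p ≠ m containing the annihilator
of M the localization M_p is a Cohen–Macaulay module over R_p (its depth equals the dimension of its
support). -/
theorem result (R : Type u) [CommRing R] [IsNoetherianRing R] [IsLocalRing R] (R' : Type u) [CommRing R'] [LocCoh.IsGorensteinLocalRing R'] (g : R' →+* R) (hg : Function.Surjective g) (M : Type u) [AddCommGroup M] [Module R M] [Module.Finite R M] (n : ℕ) (hn : Module.supportDim R M = n) : (∀ i : ℕ, i < n → IsFiniteLength R (LocCoh.H (IsLocalRing.maximalIdeal R) i M)) ↔ ((∀ p ∈ (Module.annihilator R M).minimalPrimes, ringKrullDim (R ⧸ p) = n) ∧ ∀ (p : Ideal R) [p.IsPrime], p ≠ IsLocalRing.maximalIdeal R → Module.annihilator R M ≤ p → LocCoh.IsCohenMacaulayModule (Localization.AtPrime p) (LocalizedModule p.primeCompl M)) := by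
  letI := g.toAlgebra
  have hinj := (GrothGoren.isGorenstein_iff R').1 inferInstance
  obtain ⟨k, hk⟩ := hinj
  have hcoh : ∀ (p : Ideal R) [p.IsPrime], ∃ e : ℕ, ringKrullDim (R ⧸ p) = e ∧
      Order.coheight (⟨p, inferInstance⟩ : PrimeSpectrum R) = e := by
    intro p _
    obtain ⟨e, he⟩ := ENat.ne_top_iff_exists.1
      (Groth.Ega4Algebra1.coheight_ne_top R (⟨p, inferInstance⟩ : PrimeSpectrum R))
    refine ⟨e, ?_, he.symm⟩
    rw [show ringKrullDim (R ⧸ p) = _ from
      Groth.Ega4Algebra1.ringKrullDim_quotient_eq_coheight R ⟨p, inferInstance⟩, ← he]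
    rfl
  have hup : ∀ (p : Ideal R) [p.IsPrime] (e : ℕ), Module.annihilator R M ≤ p →
      ringKrullDim (R ⧸ p) = e → Module.supportDim (Localization.AtPrime p)
        (LocalizedModule p.primeCompl M) + (e : WithBot ℕ∞) ≤ n := by
    intro p _ e hp he
    refine le_trans (add_le_add le_rfl ?_) ((Groth.Agent.S5765.result R M p).trans hn.le)
    rw [← he, Module.supportDim_eq_ringKrullDim_quotient_annihilator]
    refine ringKrullDim_le_of_surjective _ (Ideal.Quotient.factor_surjective ?_)
    refine Module.mem_support_iff_of_finite.1 (show (⟨p, inferInstance⟩ : PrimeSpectrum R) ∈ _ from ?_)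
    rw [Module.support_quotient]
    exact ⟨Module.mem_support_iff_of_finite.2 hp, fun x hx => hx⟩
  constructor
  · intro hgen
    have hdep : ∀ (p : Ideal R) [p.IsPrime], p ≠ IsLocalRing.maximalIdeal R → ∀ e : ℕ,
        ringKrullDim (R ⧸ p) = e → ((n - e : ℕ) : ℕ∞) ≤
          LocCoh.depth (Localization.AtPrime p) (LocalizedModule p.primeCompl M) := by
      intro p _ hp e he
      haveI : Module.Finite (Localization.AtPrime p) (LocalizedModule p.primeCompl M) :=
        Module.Finite.of_isLocalizedModule p.primeCompl (LocalizedModule.mkLinearMap p.primeCompl M)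
      refine (Groth.LocCohBase.le_idealDepth_iff_localCohomology _ _ _).2 fun j hj => ?_
      exact (Groth.LocDual.isFiniteLength_H_iff_atPrime (R := R') ⟨k, hk⟩ hg M (j + e)).1
        (hgen (j + e) (by omega)) p hp e j he rfl
    refine ⟨fun P hP => ?_, fun p _ hpm hp => ?_⟩
    · haveI := hP.1.1
      obtain ⟨e, he, -⟩ := hcoh P
      have hle : e ≤ n := by
        have h1 : ringKrullDim (R ⧸ P) ≤ Module.supportDim R M := by
          rw [Module.supportDim_eq_ringKrullDim_quotient_annihilator]
          exact ringKrullDim_le_of_surjective _ (Ideal.Quotient.factor_surjective hP.1.2)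
        rw [he, hn] at h1
        exact_mod_cast h1
      rw [he]
      by_cases hPm : P = IsLocalRing.maximalIdeal R
      · have hn0 : (n : WithBot ℕ∞) ≤ 0 := by
          rw [← hn]
          refine Order.krullDim_nonpos_iff_forall_isMax.2 fun a b _ => ?_
          have key : ∀ c : Module.support R M, c.1.asIdeal = P := fun c => by
            refine le_antisymm (le_of_le_of_eq (IsLocalRing.le_maximalIdeal c.1.2.ne_top) hPm.symm)
              (hP.2 ⟨c.1.2, Module.mem_support_iff_of_finite.1 c.2⟩ ?_)
            exact le_of_le_of_eq (IsLocalRing.le_maximalIdeal c.1.2.ne_top) hPm.symm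
          exact le_of_eq (Subtype.ext (PrimeSpectrum.ext ((key b).trans (key a).symm)))
        have : n ≤ 0 := by exact_mod_cast hn0
        have h' : e = n := by omega
        rw [h']
      · have h1 := hdep P hPm e he
        haveI : Module.Finite (Localization.AtPrime P) (LocalizedModule P.primeCompl M) :=
          Module.Finite.of_isLocalizedModule P.primeCompl (LocalizedModule.mkLinearMap P.primeCompl M)
        haveI : Nontrivial (LocalizedModule P.primeCompl M) :=
          Module.mem_support_iff.1 ((Module.mem_support_iff_of_finite (p := ⟨P, inferInstance⟩)).2 hP.1.2)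
        have h2 := (Groth.LocCohBase.depth_le_supportDim _).trans
          (Groth.Calg1.supportDim_localized_le_zero_of_minimal hP)
        have h3 := (WithBot.coe_le_coe.2 h1).trans h2
        have h4 : n - e ≤ 0 := by exact_mod_cast h3
        have h' : e = n := by omega
        rw [h']
    · haveI : Module.Finite (Localization.AtPrime p) (LocalizedModule p.primeCompl M) :=
        Module.Finite.of_isLocalizedModule p.primeCompl (LocalizedModule.mkLinearMap p.primeCompl M)
      haveI : Nontrivial (LocalizedModule p.primeCompl M) :=
        Module.mem_support_iff.1 ((Module.mem_support_iff_of_finite (p := ⟨p, inferInstance⟩)).2 hp)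
      obtain ⟨e, he, -⟩ := hcoh p
      have h1 := hdep p hpm e he
      have h2 := hup p e hp he
      refine le_antisymm ?_ (Groth.LocCohBase.depth_le_supportDim _)
      refine le_trans ?_ (WithBot.coe_le_coe.2 h1)
      revert h2
      generalize Module.supportDim (Localization.AtPrime p) (LocalizedModule p.primeCompl M) = D
      intro h2
      induction D with
      | bot => exact bot_le
      | coe D =>
        cases D with
        | top =>
          rw [← WithBot.coe_natCast, ← WithBot.coe_natCast, ← WithBot.coe_add, WithBot.coe_le_coe, top_add] at h2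
          exact absurd h2 (by simp)
        | coe D =>
          have h5 : D + e ≤ n := by exact_mod_cast h2
          exact_mod_cast (show D ≤ n - e by omega)
  · rintro ⟨hequi, hCM⟩ i hi
    refine (Groth.LocDual.isFiniteLength_H_iff_atPrime (R := R') ⟨k, hk⟩ hg M i).2
      fun p _ hpm e j he hje => ?_
    haveI : Module.Finite (Localization.AtPrime p) (LocalizedModule p.primeCompl M) :=
      Module.Finite.of_isLocalizedModule p.primeCompl (LocalizedModule.mkLinearMap p.primeCompl M)
    by_cases hp : Module.annihilator R M ≤ p
    · haveI : Nontrivial (LocalizedModule p.primeCompl M) :=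
        Module.mem_support_iff.1 ((Module.mem_support_iff_of_finite (p := ⟨p, inferInstance⟩)).2 hp)
      obtain ⟨P, hP, hPp⟩ := Ideal.exists_minimalPrimes_le hp
      haveI := hP.1.1
      obtain ⟨c, hc, hc'⟩ := hcoh P
      obtain ⟨e', he', he''⟩ := hcoh p
      rw [hequi P hP] at hc
      rw [he] at he'
      have hce : c = n := by exact_mod_cast hc.symm
      have hee : e' = e := by exact_mod_cast he'.symm
      have hadd := Groth.LocDual.coheight_eq_add_height_Ici hk hg
        (p := (⟨P, inferInstance⟩ : PrimeSpectrum R)) (q := ⟨p, inferInstance⟩) hPp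
      rw [hc', he'', hce, hee] at hadd
      have hdep := Groth.LocFinite.depth_eq_height_of_CM (p := (⟨P, inferInstance⟩ : PrimeSpectrum R))
        (p' := ⟨p, inferInstance⟩) hPp hP (hCM p hpm hp)
      refine (Groth.LocCohBase.le_idealDepth_iff_localCohomology _ (j + 1) _).1 ?_ j (Nat.lt_succ_self j)
      refine le_trans ?_ (le_of_eq hdep.symm)
      revert hadd
      generalize Order.height (⟨(⟨p, inferInstance⟩ : PrimeSpectrum R), hPp⟩ :
        Set.Ici (⟨P, inferInstance⟩ : PrimeSpectrum R)) = H
      cases H with
      | top => simp
      | coe H =>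
        intro hadd
        norm_cast at hadd ⊢
        omega
    · haveI : Subsingleton (LocalizedModule p.primeCompl M) := Module.notMem_support_iff.1
        (fun h => hp ((Module.mem_support_iff_of_finite (p := ⟨p, inferInstance⟩)).1 h))
      exact Groth.LocCohBase.subsingleton_H_of_supportDim_lt _ _ (by
        rw [Module.supportDim_eq_bot_of_subsingleton]; exact WithBot.bot_lt_coe _)

end Groth.Agent.S17755
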