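import Groth.Statements.S17756
import Groth.Agent.Matlis.Duality
import Mathlib.Algebra.Module.SpanRankOperations

set_option autoImplicit false
universe u
open Matlis

namespace Groth.Agent.S17756

/-- Let R be a Noetherian local ring with maximal ideal m and residue field k, E an injective hull of k,
and M a finitely generated R-module with Matlis dual M^v = Hom_R(M, E). Then the minimal number of
generators of M equals the k-dimension of the socle of M^v, the submodule of elements of M^v killed
by m (stated as its length as an R-module). -/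
theorem result (R : Type u) [CommRing R] [IsNoetherianRing R] [IsLocalRing R] (E : Type u) [AddCommGroup E] [Module R E] (f : IsLocalRing.ResidueField R →ₗ[R] E) (hf : InjHull.IsInjectiveHull f) (M : Type u) [AddCommGroup M] [Module R M] [Module.Finite R M] : ((⊤ : Submodule R M).spanFinrank : ℕ∞) = Module.length R (LocCoh.torsionBy (IsLocalRing.maximalIdeal R) (M →ₗ[R] E)) := by
  let m := IsLocalRing.maximalIdeal R
  let S : Submodule R M := m • ⊤
  have hkill : ∀ r ∈ m, ∀ q : M ⧸ S, r • q = 0 := fun r hr q => by
    obtain ⟨x, rfl⟩ := S.mkQ_surjective q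
    rw [← map_smul]
    exact (Submodule.Quotient.mk_eq_zero S).2 (Submodule.smul_mem_smul hr Submodule.mem_top)
  letI := Ideal.Quotient.field m
  haveI : Module.Finite (R ⧸ m) (M ⧸ S) := Module.Finite.of_restrictScalars_finite R _ _
  have hlenQ : Module.length R (M ⧸ S) = Module.finrank (R ⧸ m) (M ⧸ S) := by
    rw [Module.length_eq_of_surjective (R := R ⧸ m) (S := R) Ideal.Quotient.mk_surjective,
      Module.length_eq_finrank]
  have hfl : IsFiniteLength R (M ⧸ S) := by
    rw [← Module.length_ne_top_iff, hlenQ]
    exact ENat.coe_ne_top _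
  let g : ((M ⧸ S) →ₗ[R] E) →ₗ[R] LocCoh.torsionBy m (M →ₗ[R] E) :=
    (LinearMap.lcomp R E S.mkQ).codRestrict _ fun φ => (Submodule.mem_torsionBySet_iff _ _).2 fun r =>
      LinearMap.ext fun x => by
        show (r : R) • φ (S.mkQ x) = 0
        rw [← map_smul, hkill r r.2, map_zero]
  have hg : Function.Bijective g := by
    refine ⟨fun a b hab => Submodule.linearMap_qext _ (congrArg Subtype.val hab), fun φ => ?_⟩
    refine ⟨S.liftQ φ.1 (Submodule.smul_le.2 fun r hr x _ => ?_), Subtype.ext (LinearMap.ext fun x => rfl)⟩
    rw [LinearMap.mem_ker, map_smul]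
    exact LinearMap.congr_fun ((Submodule.mem_torsionBySet_iff _ _).1 φ.2 ⟨r, hr⟩) x
  rw [← (LinearEquiv.ofBijective g hg).length_eq, GrothMatlis.length_dual hf hfl, hlenQ,
    IsLocalRing.spanFinrank_eq_finrank_quotient (⊤ : Submodule R M) Module.Finite.fg_top]
  congr 1
  have e : ((⊤ : Submodule R M) ⧸ (m • ⊤ : Submodule R (⊤ : Submodule R M))) ≃ₗ[R] M ⧸ S :=
    Submodule.Quotient.equiv _ _ Submodule.topEquiv (by
      rw [Submodule.map_smul'', Submodule.map_top, LinearEquiv.range])
  exact (e.extendScalarsOfSurjective Ideal.Quotient.mk_surjective).finrank_eq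

end Groth.Agent.S17756
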