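import Groth.Statements.S17764
import Groth.Agent.Matlis.Hull

set_option autoImplicit false
universe u
open InjHull

namespace Groth.Agent.S17764

/-- Let R be a commutative ring and M an R-module which is torsion-free (no nonzero element of R kills a
nonzero element of M) and divisible (multiplication by every nonzero element of R is surjective on
M). Then M is an injective R-module. (Over a ring with zero divisors the two hypotheses force M =
0.) -/
theorem result (R : Type u) [CommRing R] (M : Type u) [AddCommGroup M] [Module R M] [NoZeroSMulDivisors R M] (hdiv : ∀ r : R, r ≠ 0 → Function.Surjective (fun m : M => r • m)) : Module.Injective R M := by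
  refine Module.Baer.injective fun a g => ?_
  rcases eq_or_ne a ⊥ with rfl | ha
  · exact ⟨0, fun x hx => by
      obtain rfl : x = 0 := hx
      simp only [LinearMap.zero_apply]
      exact (map_zero g).symm⟩
  obtain ⟨r, hr, hr0⟩ := Submodule.exists_mem_ne_zero_of_ne_bot ha
  obtain ⟨m, hm⟩ := hdiv r hr0 (g ⟨r, hr⟩)
  refine ⟨LinearMap.toSpanSingleton R M m, fun x hx => ?_⟩
  rw [LinearMap.toSpanSingleton_apply]
  have h : r • g ⟨x, hx⟩ = r • (x • m) := by
    rw [← map_smul, smul_comm r x m, show r • m = g ⟨r, hr⟩ from hm, ← map_smul]
    congr 1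
    exact Subtype.ext (mul_comm r x)
  refine Eq.symm (sub_eq_zero.1 ?_)
  exact (eq_zero_or_eq_zero_of_smul_eq_zero (by rw [smul_sub, h, sub_self] : r • (g ⟨x, hx⟩ - x • m) = 0)).resolve_left hr0

end Groth.Agent.S17764
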