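import Groth.Statements.S17765
import Groth.Agent.LocCohTransform.PdAnnihilation
import Groth.Agent.FrobLCI.AusBuch
import Groth.Agent.Ega4Algebra1.RegularParams
import Groth.Agent.Ega4Algebra1.RegularDescent

set_option autoImplicit false
universe u
open CategoryTheory
open LocCoh

namespace Groth.Agent.S17765

/-- Let B be a regular local ring, M a finitely generated B-module and p an associated prime ideal of M.
Then the height of p is at most the projective dimension of M: for every n such that M has
projective dimension at most n, ht p ≤ n. -/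
theorem result (B : Type u) [CommRing B] [IsRegularLocalRing B] (M : Type u) [AddCommGroup M] [Module B M] [Module.Finite B M] (p : Ideal B) (hp : p ∈ associatedPrimes B M) (n : ℕ) (hn : HasProjectiveDimensionLE (ModuleCat.of B M) n) : p.height ≤ n := by
  have := hp.isPrime
  have : IsRegularLocalRing (Localization.AtPrime p) :=
    Groth.Ega4Algebra1.isRegularLocalRing_localization_atPrime B p
  have hloc : ∀ (n : ℕ) (M : Type u) [AddCommGroup M] [Module B M] [Module.Finite B M],
      HasProjectiveDimensionLE (ModuleCat.of B M) n →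
        Groth.LocCohTransform.PdLE p.primeCompl M n := by
    intro n
    induction n with
    | zero =>
      intro M _ _ _ h
      obtain ⟨k, π, hπ⟩ := Module.Finite.exists_fin' B M
      have : Module.Projective B M := Groth.Ega4Algebra1.PdLT.one_iff.1 h
      obtain ⟨g, hg⟩ := Module.projective_lifting_property π LinearMap.id hπ
      exact Groth.LocCohTransform.pdLE_zero_of_lift _ M π (one_mem _) g
        fun m => (LinearMap.congr_fun hg m).trans (one_smul B m).symm
    | succ n ih =>
      intro M _ _ _ h
      obtain ⟨k, π, hπ⟩ := Module.Finite.exists_fin' B M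
      have := Module.Finite.of_fg (IsNoetherian.noetherian (LinearMap.ker π))
      exact (Groth.LocCohTransform.pdLE_succ_iff _ M π hπ n).2
        (ih _ ((Groth.Ega4Algebra1.PdLT.ker_iff π hπ n).1 h))
  have hnt : Nontrivial (LocalizedModule p.primeCompl M) :=
    Module.mem_support_iff.1 (Module.mem_support_iff_of_finite.2
      (le_of_eq_of_le Submodule.annihilator_top.symm (IsAssociatedPrime.annihilator_le hp)) :
        (⟨p, hp.isPrime⟩ : PrimeSpectrum B) ∈ Module.support B M)
  have hd0 : LocCoh.depth (Localization.AtPrime p) (LocalizedModule p.primeCompl M) = 0 :=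
    Order.lt_one_iff.1 (not_le.1 fun h =>
      (Groth.LocCohBase.one_le_depth_localized_iff p M).1 h hp)
  classical
  have hex : ∃ e, Groth.LocCohTransform.PdLE p.primeCompl M e := ⟨n, hloc n M hn⟩
  obtain ⟨e, he, hen, hmin⟩ : ∃ e, Groth.LocCohTransform.PdLE p.primeCompl M e ∧ e ≤ n ∧
      ∀ k < e, ¬ Groth.LocCohTransform.PdLE p.primeCompl M k :=
    ⟨Nat.find hex, Nat.find_spec hex, Nat.find_le (hloc n M hn), fun k hk => Nat.find_min hex hk⟩
  have hne : ¬ Groth.Ega4Algebra1.PdLT (Localization.AtPrime p)
      (LocalizedModule p.primeCompl M) e := by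
    rcases e with _ | e
    · rw [Groth.Ega4Algebra1.PdLT.zero_iff]; exact not_subsingleton _
    · exact hmin e (Nat.lt_succ_self e)
  have hAB := Groth.FrobLCI.auslander_buchsbaum e (LocalizedModule p.primeCompl M) he hne
  rw [hd0, add_zero] at hAB
  obtain ⟨d, hd⟩ : ∃ d : ℕ, p.height = d :=
    ⟨_, (ENat.natCast_toNat (Ideal.height_ne_top (Ideal.IsPrime.ne_top inferInstance))).symm⟩
  have hsf : (IsLocalRing.maximalIdeal (Localization.AtPrime p)).spanFinrank = d := by
    refine Groth.Ega4Algebra1.spanFinrank_eq_of_ringKrullDim ?_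
    rw [IsLocalization.AtPrime.ringKrullDim_eq_height p (Localization.AtPrime p), hd]
    rfl
  obtain ⟨x, hx⟩ : ∃ x : Fin d → Localization.AtPrime p, Ideal.span (Set.range x) =
      IsLocalRing.maximalIdeal (Localization.AtPrime p) := by
    obtain ⟨s, hs, hspan⟩ := Submodule.FG.exists_span_finset_card_eq_spanFinrank
      (IsNoetherian.noetherian (IsLocalRing.maximalIdeal (Localization.AtPrime p)))
    rw [hsf] at hs
    refine ⟨fun i => ((s.equivFinOfCardEq hs).symm i).1, ?_⟩
    refine Eq.trans ?_ hspan
    change Submodule.span _ _ = _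
    congr 1
    ext y
    refine ⟨?_, fun hy => ⟨s.equivFinOfCardEq hs ⟨y, hy⟩, by simp⟩⟩
    rintro ⟨i, rfl⟩
    exact Subtype.coe_prop _
  have h1 : (d : ℕ∞) ≤ LocCoh.depth (Localization.AtPrime p) (Localization.AtPrime p) :=
    (Groth.LocCohBase.le_idealDepth_iff_exists _
      (Groth.LocCohBase.smul_maximalIdeal_ne_top _ (IsLocalRing.maximalIdeal.isMaximal _).ne_top) d).2
      ⟨List.ofFn x, List.length_ofFn, Groth.Ega4Algebra1.isWeaklyRegular_of_span_eq d _ hsf x hx,
        fun r hr => by
          obtain ⟨i, rfl⟩ := List.mem_ofFn.1 hr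
          exact hx.le (Ideal.subset_span ⟨i, rfl⟩)⟩
  rw [hAB] at h1
  rw [hd]
  exact h1.trans (Nat.cast_le.2 hen)

end Groth.Agent.S17765
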