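import Groth.Statements.S17766
import Groth.Agent.LocDual.CanonGorenstein
import Groth.Agent.CanMod.End
import Groth.Agent.LocCohBase.CM
import Groth.Agent.LocDual.Duality
import Mathlib.LinearAlgebra.Dual.Lemmas

set_option autoImplicit false
universe u
open CategoryTheory Opposite
open LocCoh

namespace Groth.Agent.S17766

/-- Let B be a regular local ring, p a prime ideal of B of height r, and suppose that A = B ⧸ p is
Cohen–Macaulay. Then the B-module Ext^r_B(A, B) is isomorphic either to A itself or to a proper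
ideal I of A which is unmixed of height one, i.e. every associated prime of A ⧸ I has height one in
A (existence of a B-linear isomorphism in each case). -/
theorem result (B : Type u) [CommRing B] [IsRegularLocalRing B] (p : Ideal B) [p.IsPrime] [LocCoh.IsCohenMacaulayLocalRing (B ⧸ p)] (r : ℕ) (hr : p.height = r) : Nonempty (((Ext B (ModuleCat.{u} B) r).obj (op (ModuleCat.of B (B ⧸ p)))).obj (ModuleCat.of B B) ≃ₗ[B] (B ⧸ p)) ∨ ∃ I : Ideal (B ⧸ p), I ≠ ⊤ ∧ (∀ q ∈ associatedPrimes (B ⧸ p) ((B ⧸ p) ⧸ I), q.height = 1) ∧ Nonempty (((Ext B (ModuleCat.{u} B) r).obj (op (ModuleCat.of B (B ⧸ p)))).obj (ModuleCat.of B B) ≃ₗ[B] I) := by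
  classical
  let A := B ⧸ p
  have hCM : LocCoh.IsCohenMacaulayLocalRing A := inferInstance
  have hB : ∃ k, GrothGoren.InjLT B B k := GrothGoren.exists_injLT_of_regular _ B le_rfl
  obtain ⟨dB, hdB, -⟩ := GrothGoren.exists_dim B hB
  obtain ⟨a, n, han, ha, hn⟩ := Groth.LocDual.exists_dim_split (GrothGoren.isCohenMacaulay B hB) hdB p
  rw [IsLocalization.AtPrime.ringKrullDim_eq_height p, hr] at ha
  have har : r = a := by
    have h0 : (r : ℕ∞) = a := WithBot.coe_injective ha
    exact_mod_cast h0
  subst har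
  obtain ⟨E, _, _, f, hf⟩ := GrothMatlis.exists_hull A (IsLocalRing.ResidueField A)
  have hπ : Function.Surjective (algebraMap B A) := Ideal.Quotient.mk_surjective
  obtain ⟨Kc, hKfin, ⟨eK⟩⟩ := Groth.LocDual.exists_canonical (S := B) hB hπ hn hf
  haveI := hKfin
  letI : Module B Kc := Module.compHom Kc (algebraMap B A)
  haveI : IsScalarTower B A Kc := IsScalarTower.of_algebraMap_smul fun _ _ => rfl
  obtain ⟨ε⟩ := Groth.LocDual.nonempty_canonical_ext_equiv hB hπ hf hdB (j := r) (by omega) eK
  let εX := ε.trans (Groth.LocDual.oldExtEquiv (ModuleCat.of B A) (ModuleCat.of B B) r).symm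
  -- `K` is torsion free
  have hcoh : ∀ q : PrimeSpectrum A, Order.coheight q ≤ (n : ℕ∞) := fun q => by
    have := Order.coheight_le_krullDim q
    rw [show Order.krullDim (PrimeSpectrum A) = ringKrullDim A from rfl, hn] at this
    exact WithBot.coe_le_coe.1 this
  have hlt : ∀ q : PrimeSpectrum A, q.asIdeal ≠ ⊥ → Order.coheight q < (n : ℕ∞) := fun q hq => by
    have h1 := (Order.coheight_add_one_le (show (⟨⊥, Ideal.isPrime_bot⟩ : PrimeSpectrum A) < q from
      lt_of_le_not_ge bot_le fun h => hq (le_bot_iff.1 h))).trans (hcoh _)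
    revert h1
    generalize Order.coheight q = t
    cases t with
    | top => simp
    | coe t => intro h1; norm_cast at h1 ⊢
  have htf : ∀ c : A, c ≠ 0 → IsSMulRegular Kc c := fun c hc =>
    Groth.LocCohBase.isSMulRegular_of_dual hn hf eK fun q hcq =>
      hlt q fun h => hc ((Submodule.mem_bot A).1 (h ▸ hcq))
  haveI : Nontrivial Kc := by
    by_contra hK
    rw [not_nontrivial_iff_subsingleton] at hK
    haveI := Groth.LocCohBase.nontrivial_H_supportDim A n
      (by rw [Module.supportDim_self_eq_ringKrullDim, hn])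
    exact not_subsingleton (LocCoh.H (IsLocalRing.maximalIdeal A) n A) eK.symm.toEquiv.subsingleton
  -- a nonzero functional
  obtain ⟨x₀, hx₀⟩ := exists_ne (0 : Kc)
  let F := FractionRing A
  let V := LocalizedModule (nonZeroDivisors A) Kc
  have hinjV : Function.Injective (LocalizedModule.mkLinearMap (nonZeroDivisors A) Kc) := by
    rw [injective_iff_map_eq_zero]
    intro x hx
    obtain ⟨c, hc⟩ := LocalizedModule.mk_eq.1
      ((LocalizedModule.mkLinearMap_apply _ _ x).symm.trans (hx.trans (LocalizedModule.zero_mk 1).symm))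
    simp only [one_smul, smul_zero] at hc
    exact (htf c (nonZeroDivisors.coe_ne_zero c)).right_eq_zero_of_smul hc
  have hv : LocalizedModule.mkLinearMap (nonZeroDivisors A) Kc x₀ ≠ 0 := fun h =>
    hx₀ (hinjV (h.trans (map_zero _).symm))
  haveI : Module.Free F V := Module.Free.of_divisionRing F V
  haveI : Module.Projective F V := Module.Projective.of_free
  obtain ⟨lam, hlam⟩ := not_forall.1 (fun h => hv ((Module.forall_dual_apply_eq_zero_iff F _).1 h))
  let g : Kc →ₗ[A] F := lam.restrictScalars A ∘ₗ LocalizedModule.mkLinearMap (nonZeroDivisors A) Kc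
  obtain ⟨G, hG⟩ := Module.Finite.fg_top (R := A) (M := Kc)
  obtain ⟨b, hb⟩ := IsLocalization.exist_integer_multiples_of_finset (nonZeroDivisors A) (G.image g)
  have hint : ∀ x, ∃ y : A, algebraMap A F y = (b : A) • g x := fun x => by
    have hx : x ∈ Submodule.span A (G : Set Kc) := hG.symm ▸ Submodule.mem_top
    induction hx using Submodule.span_induction with
    | mem x hx => exact hb (g x) (Finset.mem_image_of_mem g hx)
    | zero => exact ⟨0, by rw [map_zero g, smul_zero, map_zero]⟩
    | add x y _ _ hx hy =>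
      obtain ⟨u, hu⟩ := hx
      obtain ⟨v, hv⟩ := hy
      exact ⟨u + v, by rw [map_add g, smul_add, map_add, hu, hv]⟩
    | smul c x _ hx =>
      obtain ⟨u, hu⟩ := hx
      exact ⟨c * u, by rw [map_smul g, smul_comm, ← hu, map_mul, Algebra.smul_def]⟩
  have hFinj : Function.Injective (algebraMap A F) := IsFractionRing.injective A F
  choose w hw using hint
  let ψ : Kc →ₗ[A] A :=
    { toFun := w
      map_add' := fun x y => hFinj (by rw [map_add (algebraMap A F), hw, hw, hw, map_add g, smul_add])
      map_smul' := fun c x => hFinj (by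
        rw [RingHom.id_apply, smul_eq_mul, map_mul, hw, hw, map_smul g, smul_comm, Algebra.smul_def]) }
  have hψ0 : ψ x₀ ≠ 0 := fun h => by
    have h1 := congrArg (algebraMap A F) h
    rw [map_zero, show algebraMap A F (ψ x₀) = _ from hw x₀, Algebra.smul_def] at h1
    rcases mul_eq_zero.1 h1 with h2 | h2
    · exact nonZeroDivisors.coe_ne_zero b (hFinj (h2.trans (map_zero _).symm))
    · exact hlam h2
  -- rank one
  obtain ⟨c, hc⟩ := (Groth.CanMod.bijective_smul_id (R := A) hCM hn hf eK).2
    (LinearMap.toSpanSingleton A Kc x₀ ∘ₗ ψ)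
  have hcomp : ∀ y, c • y = ψ y • x₀ := fun y => LinearMap.congr_fun hc y
  have hψinj : Function.Injective ψ := by
    rw [injective_iff_map_eq_zero]
    intro y hy
    have hc0 : c ≠ 0 := by
      rintro rfl
      have h1 := hcomp x₀
      rw [zero_smul] at h1
      exact hx₀ ((htf _ hψ0).right_eq_zero_of_smul h1.symm)
    exact (htf c hc0).right_eq_zero_of_smul (by rw [hcomp, hy, zero_smul])
  set I := LinearMap.range ψ
  by_cases hI : I = ⊤
  · left
    exact ⟨εX.symm.trans ((LinearEquiv.ofBijective ψ
      ⟨hψinj, LinearMap.range_eq_top.1 hI⟩).restrictScalars B)⟩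
  right
  refine ⟨I, hI, fun q hq => ?_, ⟨εX.symm.trans ((LinearEquiv.ofInjective ψ hψinj).restrictScalars B)⟩⟩
  haveI := hq.isPrime
  let eI : Kc ≃ₗ[A] I := LinearEquiv.ofInjective ψ hψinj
  haveI : Module.Finite A I := Module.Finite.equiv eI
  have hdepI : (n : ℕ∞) ≤ LocCoh.idealDepth (IsLocalRing.maximalIdeal A) I := by
    obtain ⟨hcm, hdim⟩ := Groth.CanMod.cm_and_dim (R := A) hCM hn hf eK
    rw [← Groth.LocCohBase.idealDepth_congr eI]
    have h1 : Module.supportDim A Kc = _ := hcm
    rw [hdim] at h1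
    exact WithBot.coe_le_coe.1 h1.le
  have hdepA : (n : ℕ∞) ≤ LocCoh.idealDepth (IsLocalRing.maximalIdeal A) A :=
    (Groth.CanMod.depth_self (R := A) hCM hn).ge
  have hquot := (Groth.LocCohBase.idealDepth_shortExact (IsLocalRing.maximalIdeal A)
    I.subtype I.mkQ I.injective_subtype I.mkQ_surjective (LinearMap.exact_subtype_mkQ I)).2.1
  have hdepQ : ((n - 1 : ℕ) : ℕ∞) ≤ LocCoh.depth A (A ⧸ I) := by
    refine le_trans ?_ hquot
    refine le_min (le_trans (by exact_mod_cast Nat.sub_le n 1) hdepA) ?_
    revert hdepI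
    cases LocCoh.idealDepth (IsLocalRing.maximalIdeal A) I with
    | top => simp
    | coe t =>
      intro h
      rw [← ENat.natCast_one, ← ENat.natCast_sub]
      norm_cast at h ⊢
      omega
  have hq0 : q ≠ ⊥ := by
    rintro rfl
    have hle : I ≤ ⊥ := by
      refine le_trans ?_ (IsAssociatedPrime.annihilator_le hq |>.trans' (by rw [Submodule.annihilator_top]))
      rw [Ideal.annihilator_quotient]
    exact hψ0 ((Submodule.mem_bot A).1 (hle (LinearMap.mem_range_self ψ x₀)))
  have hqdim := (WithBot.coe_le_coe.2 hdepQ).trans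
    (Groth.LocCohBase.depth_le_ringKrullDim_quotient hq)
  obtain ⟨g', e, hge, hg', he⟩ := Groth.LocDual.exists_dim_split hCM hn q
  rw [he] at hqdim
  rw [IsLocalization.AtPrime.ringKrullDim_eq_height q] at hg'
  have hlt' := hlt ⟨q, inferInstance⟩ hq0
  rw [show ringKrullDim (A ⧸ q) = _ from
    Groth.Ega4Algebra1.ringKrullDim_quotient_eq_coheight A ⟨q, inferInstance⟩] at he
  rw [show Order.coheight (⟨q, inferInstance⟩ : PrimeSpectrum A) = (e : ℕ∞) from
    WithBot.coe_injective he] at hlt'
  have h1 : n - 1 ≤ e := by exact_mod_cast hqdim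
  have h2 : e < n := by exact_mod_cast hlt'
  rw [show q.height = (g' : ℕ∞) from WithBot.coe_injective hg']
  have h3 : g' = 1 := by omega
  rw [h3, Nat.cast_one]

end Groth.Agent.S17766
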