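import Groth.Statements.S1777
import Groth.Agent.DualCore.FlatRadical

set_option autoImplicit false
universe u
open CategoryTheory
attribute [local instance] HasDerivedCategory.standard
open Dual

namespace Groth.Agent.S1777

/-- Let A → B be a flat local homomorphism of Noetherian local rings with m_A B = m_B and ω a normalized
dualizing complex for A. Assuming the derived base change functor D(A) → D(B) exists, the base
change of ω is a normalized dualizing complex for B. -/
theorem result (A B : Type u) [CommRing A] [CommRing B] [IsLocalRing A] [IsLocalRing B] [Algebra A B] [IsLocalHom (algebraMap A B)] [IsNoetherianRing A] [IsNoetherianRing B] [Module.Flat A B] (hm : (IsLocalRing.maximalIdeal A).map (algebraMap A B) = IsLocalRing.maximalIdeal B) [DRing.HasLBaseChange (algebraMap A B)] (ω : Dual.D A) (hω : Dual.IsDualizing A ω) (hn : Dual.IsNormalized A ω) : Dual.IsDualizing B ((DRing.LBaseChange (algebraMap A B)).obj ω) ∧ Dual.IsNormalized B ((DRing.LBaseChange (algebraMap A B)).obj ω) := by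
  classical
  let e := (Groth.DualCore.LBaseChangeIso A B).app ω
  have hd : Dual.IsDualizing B ((Groth.DualCore.extD A B).obj ω) := by
    refine Groth.DualCore.isDualizing_extD_of_maximal hω fun n hn => ⟨IsLocalRing.maximalIdeal A, inferInstance, ?_⟩
    rw [hm]
    exact (IsLocalRing.eq_maximalIdeal hn).symm
  refine ⟨Groth.DualCore.isDualizing_of_iso e.symm hd, fun i hi => ?_⟩
  obtain ⟨a, _, ha, _⟩ := Groth.DualCore.exists_bounds hω
  haveI : Subsingleton (Dual.inD A (A ⧸ IsLocalRing.maximalIdeal A) ⟶ ω⟦i⟧) := hn i hi
  haveI := (Groth.DualCore.homQuotMapEquiv (B := B) ω a (IsLocalRing.maximalIdeal A) i).symm.toEquiv.subsingleton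
  exact ((CategoryTheory.Linear.homCongr B ((DerivedCategory.singleFunctor (ModuleCat.{u} B) 0).mapIso
    (Submodule.quotEquivOfEq _ _ hm.symm).toModuleIso)
    ((CategoryTheory.shiftFunctor (Dual.D B) i).mapIso e))).toEquiv.subsingleton

end Groth.Agent.S1777
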