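import Groth.Statements.S17771
import Groth.Agent.GrMod.Euler
import Groth.Agent.GrMod.PolynomialRing

set_option autoImplicit false
universe u
open GrLC

namespace Groth.Agent.S17771

/-- Let R = ⊕_{n ≥ 0} R_n be a positively ℤ-graded ring which is standard graded (irrelevant ideal
generated by R_1), with R_0 Artinian, *local with unique homogeneous maximal ideal m, and
Cohen–Macaulay of Krull dimension d. Then the a-invariant of R is at least −d: the end (largest
nonzero degree) of the graded local cohomology module H^d_m(R), computed from any *injective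
resolution of R in the graded category, is ≥ −d. (Equality holds exactly for polynomial rings
R_0[T_1, …, T_d]; that characterisation is not part of this statement.) -/
theorem result (R : Type u) [CommRing R] [LocCoh.IsCohenMacaulayRing R] (𝒜 : ℤ → AddSubgroup R) [GradedRing 𝒜] (hpos : ∀ n : ℤ, n < 0 → 𝒜 n = ⊥) (hstd : Ideal.span (⋃ n ∈ Set.Ioi (0 : ℤ), (𝒜 n : Set R)) = Ideal.span ((𝒜 1 : AddSubgroup R) : Set R)) [IsArtinianRing (GrLC.deg0 𝒜)] (m : HomogeneousIdeal 𝒜) (hm : GrLC.IsStarLocal 𝒜 m) (d : ℕ) (hd : ringKrullDim R = d) (I : GrLC.StarInjRes 𝒜 𝒜) : (((-(d : ℤ) : ℤ) : WithTop ℤ) : WithBot (WithTop ℤ)) ≤ GrLC.endDeg (I.Hgr m d) := by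
  haveI := GrothGr.isMaximal_of_isStarLocal hpos hm
  by_contra hlt
  have hbot : ∀ j : ℤ, -(d : ℤ) ≤ j → I.Hgr m d j = ⊥ := fun j hj => by
    by_contra hne
    exact hlt (le_iSup₂_of_le (f := fun n (_ : I.Hgr m d n ≠ ⊥) => ((n : WithTop ℤ) : WithBot (WithTop ℤ)))
      j hne le_rfl |> le_trans (WithBot.coe_le_coe.2 (WithTop.coe_le_coe.2 hj)))
  have hz : ∀ j : ℤ, -(d : ℤ) ≤ j →
      GrothGr.eul I m d j = ((GrothGr.plen 𝒜 𝒜 j).toNat : ℤ) := fun j hj => by
    rw [GrothGr.eul_self_of_cm hm hd I, GrothGr.Hcomp_eq_bot_of_Hgr I m d (hbot j hj),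
      Module.length_eq_zero_iff.2 inferInstance, ENat.toNat_zero, Nat.cast_zero, mul_zero, sub_zero]
  have hkill := congrFun (GrothGr.eul_killed_pow hpos hstd hm d I
    (le_of_eq ((Module.supportDim_self_eq_ringKrullDim (R := R)).trans hd))) 0
  rw [map_pow, map_sub, Polynomial.aeval_X, map_one,
    GrothGr.shiftEnd_sub_one_pow_apply_zero d _ (fun i h1 h2 => by
      haveI : Subsingleton (GrLC.comp 𝒜 𝒜 i) := subsingleton_of_forall_eq 0 fun y => Subtype.ext (by
        have hy : (y : R) ∈ 𝒜 i := y.2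
        rw [hpos i (by omega), AddSubgroup.mem_bot] at hy
        exact hy)
      rw [hz i h1, GrothGr.plen, Module.length_eq_zero_iff.2 inferInstance, ENat.toNat_zero, Nat.cast_zero]),
    Pi.zero_apply, hz 0 (by omega), mul_eq_zero] at hkill
  rcases hkill with hk | hk
  · simp at hk
  · have hl : GrothGr.plen 𝒜 𝒜 0 = 0 := by
      rw [← ENat.coe_toNat (GrothGr.plen_ne_top_artinian hpos 𝒜 0), Nat.cast_eq_zero.1 hk, Nat.cast_zero]
    haveI := Module.length_eq_zero_iff.1 hl
    have h1 : (⟨1, SetLike.one_mem_graded 𝒜⟩ : GrLC.comp 𝒜 𝒜 0) = 0 := Subsingleton.elim _ _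
    have h2 : (1 : R) = 0 := congrArg Subtype.val h1
    exact GrothGr.ne_top_of_isStarLocal 𝒜 hm ((Ideal.eq_top_iff_one _).2 (h2 ▸ zero_mem _))

end Groth.Agent.S17771
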