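import Groth.Statements.S17772
import Groth.Agent.GrMod.Euler

set_option autoImplicit false
universe u
open GrLC

namespace Groth.Agent.S17772

/-- Let R = ⊕_{n ≥ 0} R_n be a positively ℤ-graded ring which is standard graded (irrelevant ideal
generated by R_1), with R_0 Artinian, *local with unique homogeneous maximal ideal m, and
Cohen–Macaulay of Krull dimension d; let H_R(n) = ℓ_{R_0}(R_n) be its Hilbert function and P_R ∈
ℚ[X] its Hilbert polynomial (a polynomial agreeing with H_R for all large n, taken as given). Then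
the a-invariant of R, the largest degree in which H^d_m(R) is nonzero (computed from any *injective
resolution of R), equals the supremum of the integers n with P_R(n) ≠ H_R(n). (The published text
writes 'min' for this supremum; the set of such n is unbounded below whenever it is nonempty, e.g.
all n < 0 for a polynomial ring over a field, and the published one-line proof H_R(n) − P_R(n) =
(−1)^d ℓ(H^d_m(R)_n) identifies the set with the nonzero degrees of H^d_m(R), whose largest element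
is a(R).) -/
theorem result (R : Type u) [CommRing R] [LocCoh.IsCohenMacaulayRing R] (𝒜 : ℤ → AddSubgroup R) [GradedRing 𝒜] (hpos : ∀ n : ℤ, n < 0 → 𝒜 n = ⊥) (hstd : Ideal.span (⋃ n ∈ Set.Ioi (0 : ℤ), (𝒜 n : Set R)) = Ideal.span ((𝒜 1 : AddSubgroup R) : Set R)) [IsArtinianRing (GrLC.deg0 𝒜)] (m : HomogeneousIdeal 𝒜) (hm : GrLC.IsStarLocal 𝒜 m) (d : ℕ) (hd : ringKrullDim R = d) (I : GrLC.StarInjRes 𝒜 𝒜) (P : Polynomial ℚ) (hP : ∃ N : ℤ, ∀ n : ℤ, N ≤ n → P.eval (n : ℚ) = ((Module.length (GrLC.deg0 𝒜) (GrLC.comp 𝒜 𝒜 n)).toNat : ℚ)) : GrLC.endDeg (I.Hgr m d) = ⨆ (n : ℤ) (_ : P.eval (n : ℚ) ≠ ((Module.length (GrLC.deg0 𝒜) (GrLC.comp 𝒜 𝒜 n)).toNat : ℚ)), ((n : WithTop ℤ) : WithBot (WithTop ℤ)) := by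
  haveI := GrothGr.isMaximal_of_isStarLocal hpos hm
  refine iSup_congr fun n => ?_
  have h := GrothGr.hilbert_sub_eq hpos hstd hm d I
    (le_of_eq ((Module.supportDim_self_eq_ringKrullDim (R := R)).trans hd)) P hP n
  rw [GrothGr.eul_self_of_cm hm hd I] at h
  have hiff : I.Hgr m d n ≠ ⊥ ↔
      P.eval (n : ℚ) ≠ ((Module.length (GrLC.deg0 𝒜) (GrLC.comp 𝒜 𝒜 n)).toNat : ℚ) := by
    rw [h]
    push_cast
    rw [ne_eq, ne_eq, sub_eq_self, mul_eq_zero, Nat.cast_eq_zero]
    refine not_congr ⟨fun hb => Or.inr ?_, fun hb => ?_⟩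
    · rw [GrothGr.Hcomp_eq_bot_of_Hgr I m d hb, Module.length_eq_zero_iff.2 inferInstance]
      rfl
    · have hl : Module.length (GrLC.deg0 𝒜) (I.Hcomp m d n) = 0 := by
        rw [← ENat.coe_toNat (GrothGr.length_Hcomp_ne_top hpos hm I d n),
          hb.resolve_left (pow_ne_zero _ (by norm_num)), Nat.cast_zero]
      haveI := Module.length_eq_zero_iff.1 hl
      exact (AddSubgroup.eq_bot_iff_forall _).2 fun x hx =>
        congrArg Subtype.val (Subsingleton.elim (⟨x, hx⟩ : I.Hcomp m d n) 0)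
  exact iSup_congr_Prop hiff fun _ => rfl

end Groth.Agent.S17772
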