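import Groth.Statements.S17773
import Groth.Agent.FlatCxBase.BoundedFlat
import Groth.Agent.DAlg.Classes
import Mathlib.CategoryTheory.Abelian.Projective.Extend
import Mathlib.Algebra.Homology.Embedding.ExtendHomology
import Mathlib.CategoryTheory.Monoidal.Tor

set_option autoImplicit false
universe u
open CategoryTheory CategoryTheory.Limits
open CAlg

attribute [local instance] HasDerivedCategory.standard

namespace Groth.Agent.S17773

set_option backward.isDefEq.respectTransparency false

open MonoidalCategory ComplexShape

section

variable {R : Type u} [CommRing R] (G : ModuleCat.{u} R ⥤ ModuleCat.{u} R) [G.Additive]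

private noncomputable def mapXIso (K : ChainComplex (ModuleCat.{u} R) ℕ) : ∀ o : Option ℕ,
    G.obj (HomologicalComplex.extend.X K o) ≅
      HomologicalComplex.extend.X ((G.mapHomologicalComplex (down ℕ)).obj K) o
  | some _ => Iso.refl _
  | none => (G.map_isZero (HomologicalComplex.extend.isZero_X K rfl)).iso
      (HomologicalComplex.extend.isZero_X _ rfl)

private lemma mapXIso_d (K : ChainComplex (ModuleCat.{u} R) ℕ) : ∀ o o' : Option ℕ,
    (mapXIso G K o).hom ≫ HomologicalComplex.extend.d ((G.mapHomologicalComplex (down ℕ)).obj K) o o' =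
      G.map (HomologicalComplex.extend.d K o o') ≫ (mapXIso G K o').hom
  | none, _ => (G.map_isZero (HomologicalComplex.extend.isZero_X K rfl)).eq_of_src _ _
  | some _, none => (HomologicalComplex.extend.isZero_X _ rfl).eq_of_tgt _ _
  | some _, some _ => by simp [mapXIso, HomologicalComplex.extend.d]

private noncomputable def mapExtendIso (K : ChainComplex (ModuleCat.{u} R) ℕ) :
    (G.mapHomologicalComplex (up ℤ)).obj (K.extend embeddingDownNat) ≅
      ((G.mapHomologicalComplex (down ℕ)).obj K).extend embeddingDownNat :=
  HomologicalComplex.Hom.isoOfComponents (fun i => mapXIso G K _) fun i j _ => mapXIso_d G K _ _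

private lemma flat_extend (F : ChainComplex (ModuleCat.{u} R) ℕ) (hF : ∀ i, Module.Flat R (F.X i)) (i : ℤ) :
    Module.Flat R ((F.extend embeddingDownNat).X i) := by
  by_cases h : i ≤ 0
  · have := hF (-i).toNat
    exact Module.Flat.of_linearEquiv
      (F.extendXIso embeddingDownNat (i := (-i).toNat) (show -((-i).toNat : ℤ) = i by omega)).toLinearEquiv
  · have := ModuleCat.subsingleton_of_isZero
      (CochainComplex.isZero_of_isStrictlyLE (F.extend embeddingDownNat) 0 i (not_le.mp h))
    infer_instance

end

/-- Let R be a commutative ring, M and N two R-modules, and F a flat resolution of M: a chain complex F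
of flat R-modules concentrated in non-negative degrees together with a quasi-isomorphism from F to M
placed in degree 0. Then for every i ≥ 0 the i-th homology module of the complex F ⊗_R N is
isomorphic to Tor_i^R(M, N), the i-th left derived functor of − ⊗_R N evaluated at M (existence of
an isomorphism of R-modules). -/
theorem result (R : Type u) [CommRing R] (M N : Type u) [AddCommGroup M] [Module R M] [AddCommGroup N] [Module R N] (F : ChainComplex (ModuleCat.{u} R) ℕ) (hF : ∀ i : ℕ, Module.Flat R (F.X i)) (φ : F ⟶ (ChainComplex.single₀ (ModuleCat.{u} R)).obj (ModuleCat.of R M)) [QuasiIso φ] (i : ℕ) : Nonempty ((((MonoidalCategory.tensorRight (ModuleCat.of R N)).mapHomologicalComplex (ComplexShape.down ℕ)).obj F).homology i ≅ ((Tor' (ModuleCat.{u} R) i).obj (ModuleCat.of R M)).obj (ModuleCat.of R N)) := by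
  let P := projectiveResolution (ModuleCat.of R M)
  let G : ModuleCat.{u} R ⥤ ModuleCat.{u} R := tensorRight (ModuleCat.of R N)
  let F' : CochainComplex (ModuleCat.{u} R) ℤ := F.extend embeddingDownNat
  let φ' : F' ⟶ (CochainComplex.singleFunctor (ModuleCat.{u} R) 0).obj (ModuleCat.of R M) :=
    HomologicalComplex.extendMap φ embeddingDownNat ≫ (HomologicalComplex.extendSingleIso _ _ _ _ (by simp)).hom
  haveI : QuasiIso φ' := by dsimp [φ']; infer_instance
  have hP : ∀ j, Module.Projective R (P.cochainComplex.X j) := fun j =>
    (IsProjective.iff_projective _).2 (inferInstance : Projective (P.cochainComplex.X j))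
  have hPb : DRing.VanishesAbove P.cochainComplex 0 := fun j hj =>
    CochainComplex.isZero_of_isStrictlyLE _ 0 j hj
  have hFb : ∀ j : ℤ, 0 < j → IsZero (F'.X j) := fun j hj =>
    CochainComplex.isZero_of_isStrictlyLE (F.extend embeddingDownNat) 0 j hj
  obtain ⟨g, hg⟩ := DAlg.exists_map_of_projective hPb hP
    (DerivedCategory.Q.map P.π' ≫ inv (DerivedCategory.Q.map φ'))
  haveI : QuasiIso g := by
    rw [← DerivedCategory.isIso_Q_map_iff_quasiIso, hg]
    infer_instance
  haveI : ∀ j, Module.Flat R (P.cochainComplex.X j) := fun j => haveI := hP j; inferInstance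
  haveI : ∀ j, Module.Flat R (F'.X j) := flat_extend F hF
  haveI : QuasiIso (((tensorRight (ModuleCat.of R N)).mapHomologicalComplex (up ℤ)).map g) :=
    FlatCxBase.quasiIso_tensor 0 0 hPb hFb g (ModuleCat.of R N)
  let e : ((G.mapHomologicalComplex (down ℕ)).obj F).homology i ≅
      ((G.mapHomologicalComplex (down ℕ)).obj P.complex).homology i :=
    (HomologicalComplex.extendHomologyIso _ embeddingDownNat (j' := -(i : ℤ)) rfl).symm ≪≫
      (HomologicalComplex.homologyFunctor _ _ _).mapIso (mapExtendIso G F).symm ≪≫
      (asIso (HomologicalComplex.homologyMap ((G.mapHomologicalComplex (up ℤ)).map g) (-(i : ℤ)))).symm ≪≫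
      (HomologicalComplex.homologyFunctor _ _ _).mapIso (mapExtendIso G P.complex) ≪≫
      HomologicalComplex.extendHomologyIso _ embeddingDownNat (j' := -(i : ℤ)) rfl
  exact ⟨e ≪≫ (P.isoLeftDerivedObj ((tensoringRight (ModuleCat.{u} R)).obj (ModuleCat.of R N)) i).symm⟩

end Groth.Agent.S17773
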