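import Groth.Statements.S17775
import Groth.Agent.KoszulCone.Top
import Groth.Agent.KoszulCone.LocalCoh
import Groth.Agent.LocDual.Top
import Groth.Agent.Gorenstein.Basic
import Groth.Agent.LocCohTransform.TopVanish

set_option autoImplicit false
universe u
open BigOperators
open Goren

namespace Groth.Agent.S17775

/-- Let R be a Gorenstein local ring of Krull dimension d with maximal ideal m and residue field k, and
let x_1, …, x_d be a system of parameters of R, i.e. d elements generating an ideal whose radical is
m. Put t = x_1 ⋯ x_d. Then the R-module R_t ⧸ Σ_i R_{x_1⋯x̂_i⋯x_d}, realised as the quotient of the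
localization R_t by the R-submodule spanned by the fractions x_i^n / t^n (i = 1, …, d, n ≥ 0), is an
injective hull of k: some R-linear map from k into it is an injective hull. -/
theorem result (R : Type u) [CommRing R] [LocCoh.IsGorensteinLocalRing R] (d : ℕ) (hd : ringKrullDim R = d) (x : Fin d → R) (hx : (Ideal.span (Set.range x)).radical = IsLocalRing.maximalIdeal R) : ∃ f : IsLocalRing.ResidueField R →ₗ[R] (Localization.Away (∏ i, x i) ⧸ Submodule.span R {y : Localization.Away (∏ i, x i) | ∃ (i : Fin d) (n : ℕ), y = algebraMap R (Localization.Away (∏ i, x i)) (x i ^ n) * IsLocalization.Away.invSelf (∏ i, x i) ^ n}), InjHull.IsInjectiveHull f := by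
  classical
  let fs := List.ofFn x
  have hlen : fs.length = d := List.length_ofFn
  have hfs : {a | a ∈ fs} = Set.range x := by
    ext a
    exact List.mem_ofFn
  have hprod : fs.prod = ∏ i, x i := List.prod_ofFn
  have hKL : ∀ k : ℕ, Ideal.ofList (fs.map (· ^ k)) = Ideal.span (Set.range fun i => x i ^ k) := by
    intro k
    show Ideal.span {a | a ∈ fs.map (· ^ k)} = _
    congr 1
    ext a
    simp only [Set.mem_ofPred_eq, List.mem_map, Set.mem_range, fs, List.mem_ofFn]
    constructor
    · rintro ⟨b, ⟨i, rfl⟩, rfl⟩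
      exact ⟨i, rfl⟩
    · rintro ⟨i, rfl⟩
      exact ⟨x i, ⟨i, rfl⟩, rfl⟩
  obtain ⟨n₀, hn₀⟩ := (GrothGoren.isGorenstein_iff R).1 ‹LocCoh.IsGorensteinLocalRing R›
  obtain ⟨-, f, hf⟩ := Groth.LocDual.exists_hull_H_top d R ⟨n₀, hn₀⟩ hd
  obtain ⟨e₁⟩ := Groth.KoszulCone.nonempty_HH'_equiv_Kinf fs d (ModuleCat.of R R)
  have hrad : (IsLocalRing.maximalIdeal R).radical = (Ideal.span {a | a ∈ fs}).radical := by
    rw [hfs, hx, Ideal.IsPrime.radical (IsLocalRing.maximalIdeal.isMaximal R).isPrime]
  let e₀ := ((localCohomology.isoOfSameRadical hrad d).app (ModuleCat.of R R)).toLinearEquiv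
  obtain ⟨c, hcs, hct, hcz⟩ := Groth.KoszulCone.exists_topH (ModuleCat.of R R) fs
  set t : R := ∏ i, x i with ht
  set inv : Localization.Away t := IsLocalization.Away.invSelf t with hinv
  set S : Submodule R (Localization.Away t) := Submodule.span R {y : Localization.Away t |
    ∃ (i : Fin d) (n : ℕ), y = algebraMap R (Localization.Away t) (x i ^ n) * inv ^ n} with hSdef
  have hti : algebraMap R (Localization.Away t) t * inv = 1 := IsLocalization.Away.mul_invSelf t
  have hscale : ∀ (n j : ℕ) (m : R),
      algebraMap R (Localization.Away t) (t ^ j * m) * inv ^ (n + j) = algebraMap R _ m * inv ^ n := by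
    intro n j m
    have : algebraMap R (Localization.Away t) (t ^ j) * inv ^ j = 1 := by
      rw [map_pow, ← mul_pow, hti, one_pow]
    rw [map_mul, pow_add]
    linear_combination (algebraMap R (Localization.Away t) m * inv ^ n) * this
  have hraise : ∀ (k j : ℕ), ∀ b ∈ Ideal.span (Set.range fun i => x i ^ k),
      t ^ j * b ∈ Ideal.span (Set.range fun i => x i ^ (k + j)) := by
    intro k j b hb
    induction hb using Submodule.span_induction with
    | mem p hp =>
      obtain ⟨i, rfl⟩ := hp
      rw [ht, ← Finset.mul_prod_erase _ _ (Finset.mem_univ i), mul_pow]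
      rw [show x i ^ j * ((Finset.univ.erase i).prod x) ^ j * x i ^ k =
        ((Finset.univ.erase i).prod x) ^ j * x i ^ (k + j) by ring]
      exact Ideal.mul_mem_left _ _ (Ideal.subset_span ⟨i, rfl⟩)
    | zero => rw [mul_zero]; exact zero_mem _
    | add p q _ _ hp hq => rw [mul_add]; exact add_mem hp hq
    | smul r p _ hp => rw [smul_eq_mul, mul_left_comm]; exact Ideal.mul_mem_left _ _ hp
  have hmemS : ∀ (k : ℕ), ∀ b ∈ Ideal.span (Set.range fun i => x i ^ k),
      algebraMap R (Localization.Away t) b * inv ^ k ∈ S := by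
    intro k b hb
    induction hb using Submodule.span_induction with
    | mem p hp =>
      obtain ⟨i, rfl⟩ := hp
      exact Submodule.subset_span ⟨i, k, rfl⟩
    | zero => rw [map_zero, zero_mul]; exact zero_mem _
    | add p q _ _ hp hq => rw [map_add, add_mul]; exact add_mem hp hq
    | smul r p _ hp =>
      rw [smul_eq_mul, map_mul, mul_assoc, ← Algebra.smul_def]
      exact S.smul_mem r hp
  have hSmem : ∀ y ∈ S, ∃ k, ∃ b ∈ Ideal.span (Set.range fun i => x i ^ k),
      y = algebraMap R (Localization.Away t) b * inv ^ k := by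
    intro y hy
    rw [hSdef] at hy
    induction hy using Submodule.span_induction with
    | mem p hp =>
      obtain ⟨i, k, rfl⟩ := hp
      exact ⟨k, _, Ideal.subset_span ⟨i, rfl⟩, rfl⟩
    | zero => exact ⟨0, 0, zero_mem _, by rw [map_zero, zero_mul]⟩
    | add p q _ _ hp hq =>
      obtain ⟨k, b, hb, rfl⟩ := hp
      obtain ⟨l, b', hb', rfl⟩ := hq
      refine ⟨k + l, t ^ l * b + t ^ k * b', add_mem (hraise k l b hb)
        (add_comm l k ▸ hraise l k b' hb'), ?_⟩
      rw [map_add, add_mul, hscale k l b, add_comm k l, hscale l k b']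
    | smul r p _ hp =>
      obtain ⟨k, b, hb, rfl⟩ := hp
      exact ⟨k, r * b, Ideal.mul_mem_left _ r hb, by rw [Algebra.smul_def, map_mul, mul_assoc]⟩
  let q : ℕ → (R →ₗ[R] Localization.Away t ⧸ S) := fun n =>
    S.mkQ ∘ₗ LinearMap.toSpanSingleton R (Localization.Away t) (inv ^ n)
  have hq : ∀ n m, q n m = S.mkQ (algebraMap R (Localization.Away t) m * inv ^ n) := fun n m => by
    show S.mkQ (m • inv ^ n) = _
    rw [Algebra.smul_def]
  have hqs : ∀ y, ∃ n m, q n m = y := by
    intro y
    obtain ⟨z, rfl⟩ := S.mkQ_surjective y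
    obtain ⟨n, m, hm⟩ := IsLocalization.Away.surj t z
    refine ⟨n, m, ?_⟩
    rw [hq, ← hm, mul_assoc, ← mul_pow, hti, one_pow, mul_one]
  have hqt : ∀ n k, n ≤ k → ∀ m : R, q k (t ^ (k - n) • m) = q n m := fun n k h m => by
    rw [hq, hq, smul_eq_mul]
    have := hscale n (k - n) m
    rw [Nat.add_sub_cancel' h] at this
    rw [this]
  have hqz : ∀ n m, q n m = 0 ↔ ∃ k, n ≤ k ∧ t ^ (k - n) • m ∈ Ideal.span (Set.range fun i => x i ^ k) := by
    intro n m
    constructor
    · intro h
      rw [hq, Submodule.mkQ_apply, Submodule.Quotient.mk_eq_zero] at h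
      obtain ⟨k, b, hb, heq⟩ := hSmem _ h
      have h1 : algebraMap R (Localization.Away t) (t ^ k * m) =
          algebraMap R (Localization.Away t) (t ^ n * b) := by
        have hu : algebraMap R (Localization.Away t) (t ^ (n + k)) * inv ^ (n + k) = 1 := by
          rw [map_pow, ← mul_pow, hti, one_pow]
        have e1 := hscale n k m
        have e2 := hscale k n b
        rw [add_comm k n] at e2
        have h3 : algebraMap R (Localization.Away t) (t ^ k * m) * inv ^ (n + k) =
            algebraMap R (Localization.Away t) (t ^ n * b) * inv ^ (n + k) :=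
          e1.trans (heq.trans e2.symm)
        linear_combination (algebraMap R (Localization.Away t) (t ^ (n + k))) * h3 -
          (algebraMap R (Localization.Away t) (t ^ k * m) - algebraMap R (Localization.Away t) (t ^ n * b)) * hu
      obtain ⟨⟨_, l, rfl⟩, hl⟩ := (IsLocalization.eq_iff_exists (Submonoid.powers t) _).1 h1
      have hl' : t ^ (l + k) * m = t ^ (l + n) * b := by
        rw [pow_add, pow_add, mul_assoc, mul_assoc]
        exact hl
      refine ⟨k + (l + n), by omega, ?_⟩
      rw [smul_eq_mul, show k + (l + n) - n = l + k by omega, hl']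
      exact hraise k (l + n) b hb
    · rintro ⟨k, hk, hb⟩
      rw [← hqt n k hk m, hq, Submodule.mkQ_apply, Submodule.Quotient.mk_eq_zero]
      exact hmemS k _ hb
  have hctt : ∀ n k, n ≤ k → ∀ m : R, c k (t ^ (k - n) • m) = c n m := fun n k h m => by
    have := hct n k h m
    rwa [hprod] at this
  have hczt : ∀ n m, c n m = 0 ↔ ∃ k, n ≤ k ∧ t ^ (k - n) • m ∈ Ideal.span (Set.range fun i => x i ^ k) := by
    intro n m
    rw [hcz, hprod]
    refine exists_congr fun k => and_congr_right fun _ => ?_
    rw [hKL, Ideal.smul_top_eq_map, Algebra.algebraMap_self, Ideal.map_id]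
    rfl
  let F := Finsupp.lsum R c
  let G := Finsupp.lsum R q
  have hFs : Function.Surjective F := fun y => by
    obtain ⟨n, m, rfl⟩ := hcs y
    exact ⟨Finsupp.single n m, Finsupp.lsum_single R c n m⟩
  have hGs : Function.Surjective G := fun y => by
    obtain ⟨n, m, rfl⟩ := hqs y
    exact ⟨Finsupp.single n m, Finsupp.lsum_single R q n m⟩
  have hker : ∀ v : ℕ →₀ R, F v = 0 ↔ G v = 0 := by
    intro v
    let N := v.support.sup id
    have hN : ∀ n ∈ v.support, n ≤ N := fun n hn => Finset.le_sup (f := id) hn
    let m := v.support.sum fun n => t ^ (N - n) • v n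
    have hF : F v = c N m := by
      show v.sum (fun n r => c n r) = _
      rw [Finsupp.sum, map_sum]
      exact Finset.sum_congr rfl fun n hn => (hctt n N (hN n hn) _).symm
    have hG : G v = q N m := by
      show v.sum (fun n r => q n r) = _
      rw [Finsupp.sum, map_sum]
      exact Finset.sum_congr rfl fun n hn => (hqt n N (hN n hn) _).symm
    rw [hF, hG, hczt, hqz]
  have hd0 : (d : ℤ) - fs.length = 0 := by rw [hlen, sub_self]
  rw [hd0] at e₁
  let e := e₀.trans (e₁.trans (Groth.KoszulCone.linearEquivOfKer F G hFs hGs hker))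
  exact ⟨e.toLinearMap ∘ₗ f, GrothMatlis.hull_transport hf e⟩


end Groth.Agent.S17775
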