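import Groth.Statements.S17780
import Groth.Agent.Misc13.AltSum
import Mathlib.Data.Nat.Choose.Dvd
import Mathlib.Algebra.Ring.Parity

set_option autoImplicit false
universe u
open DRR

namespace Groth.Agent.S17780

/-- For x, y in a commutative ring and a natural number n, (n+1)! · x · y^n equals the sum over j = 0,
…, n of (−1)^(n−j) C(n, j) (x + j y)^(n+1), minus (n · (n+1)!/2) · y^(n+1). (The published identity
is stated in ℚ[x, y] with an overall factor 1/(n+1) and the coefficients C(n, j)(−1)^(n−j)/n!; it is
given here multiplied through by (n+1)!, which makes it an identity with integer coefficients valid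
in every commutative ring; n · (n+1)!/2 is an integer.) -/
theorem result (A : Type u) [CommRing A] (x y : A) (n : ℕ) :
    ((n + 1).factorial : A) * x * y ^ n =
      (∑ j ∈ Finset.range (n + 1), (-1 : A) ^ (n - j) * (n.choose j : A) * (x + (j : A) * y) ^ (n + 1))
        - ((n * (n + 1).factorial / 2 : ℕ) : A) * y ^ (n + 1) := by
  have hexp : ∀ j : ℕ, (x + (j : A) * y) ^ (n + 1) =
      ∑ i ∈ Finset.range (n + 2), ((n + 1).choose i : A) * x ^ (n + 1 - i) * y ^ i * (j : A) ^ i := fun j => by
    rw [add_comm, add_pow]
    exact Finset.sum_congr rfl fun i _ => by rw [mul_pow]; ring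
  have hswap : (∑ j ∈ Finset.range (n + 1), (-1 : A) ^ (n - j) * (n.choose j : A) * (x + (j : A) * y) ^ (n + 1)) =
      ∑ i ∈ Finset.range (n + 2), ((n + 1).choose i : A) * x ^ (n + 1 - i) * y ^ i * ((Groth.Misc13.AltSum.T n i : ℤ) : A) := by
    simp only [hexp, Finset.mul_sum, Groth.Misc13.AltSum.T]
    rw [Finset.sum_comm]
    refine Finset.sum_congr rfl fun i _ => ?_
    push_cast
    rw [Finset.mul_sum]
    exact Finset.sum_congr rfl fun j _ => by ring
  rw [hswap, Finset.sum_range_succ, Finset.sum_range_succ, Finset.sum_eq_zero fun i hi => by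
    rw [Groth.Misc13.AltSum.T_lt (Finset.mem_range.mp hi), Int.cast_zero, mul_zero]]
  rw [Groth.Misc13.AltSum.T_self, Groth.Misc13.AltSum.T_succ_self]
  have e : (n * (n + 1).factorial / 2 : ℕ) = (n + 1).choose 2 * n.factorial := by
    have h2 : (n + 1).choose 2 * 2 = (n + 1) * n := by
      rw [Nat.choose_two_right, Nat.add_sub_cancel]
      exact Nat.div_mul_cancel (Nat.even_mul_pred_self (n + 1)).two_dvd
    rw [show n * (n + 1).factorial = 2 * ((n + 1).choose 2 * n.factorial) by
      rw [← mul_assoc, mul_comm 2 ((n + 1).choose 2), h2, Nat.factorial_succ]; ring]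
    rw [Nat.mul_div_cancel_left _ two_pos]
  rw [e, Nat.factorial_succ]
  simp only [Nat.choose_self, Nat.sub_self, pow_zero, Int.cast_natCast, Nat.choose_succ_self_right, Nat.add_sub_cancel_left, pow_one]
  push_cast
  ring

end Groth.Agent.S17780
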