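import Groth.Statements.S17781
import Mathlib

set_option autoImplicit false
open Variety

namespace Groth.Agent.S17781

theorem factorization_choose_pred_eq_zero {p d v : ℕ} (hp : p.Prime) (hd : 0 < d) (hdv : p ^ v ∣ d) :
    ∀ i, i < p ^ v → ¬ p ∣ (d - 1).choose i := by
  intro i
  induction i with
  | zero => intro; simpa using hp.one_lt.ne'
  | succ i ih =>
    intro hi
    have hle : p ^ v ≤ d := Nat.le_of_dvd hd hdv
    have hb : 0 < (d - 1).choose i := Nat.choose_pos (by omega)
    have hc : 0 < (d - 1).choose (i + 1) := Nat.choose_pos (by omega)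
    have hs := Nat.choose_succ_right_eq (d - 1) i
    have he : (d - 1 - i).factorization p = (i + 1).factorization p := by
      have key : ∀ k, k ≤ v → (p ^ k ∣ d - 1 - i ↔ p ^ k ∣ i + 1) := fun k hk => by
        have h1 : p ^ k ∣ d := (pow_dvd_pow p hk).trans hdv
        rw [show d - 1 - i = d - (i + 1) by omega]
        exact Nat.dvd_sub_iff_right (by omega) h1
      have ha : (i + 1).factorization p < v := by
        have h3 : p ^ (i + 1).factorization p ≤ i + 1 := Nat.le_of_dvd (by omega) (Nat.ordProj_dvd _ _)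
        exact (Nat.pow_lt_pow_iff_right hp.one_lt).1 (lt_of_le_of_lt h3 hi)
      refine le_antisymm (not_lt.1 fun h => ?_) ?_
      · have := (key _ ha).1 ((hp.pow_dvd_iff_le_factorization (by omega)).2 h)
        exact absurd ((hp.pow_dvd_iff_le_factorization (by omega)).1 this) (by omega)
      · exact (hp.pow_dvd_iff_le_factorization (by omega)).1 ((key _ ha.le).2 (Nat.ordProj_dvd _ _))
    have hf := congrArg (fun x => x.factorization p) hs
    simp only [Nat.factorization_mul hc.ne' (Nat.add_one_ne_zero i),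
      Nat.factorization_mul hb.ne' (show d - 1 - i ≠ 0 by omega), Finsupp.add_apply, he] at hf
    rw [Nat.factorization_eq_zero_of_not_dvd (ih (by omega))] at hf
    intro hdiv
    have := hp.factorization_pos_of_dvd hc.ne' hdiv
    omega

theorem gcd_choose (d N : ℕ) (hd : 1 ≤ d) (hN : 1 ≤ N) :
    (Finset.Icc 1 N).gcd (fun j => d.choose j) =
      ((Finset.Icc 1 N).filter (fun δ => δ ∣ d)).gcd (fun δ => d / δ) := by
  apply Nat.dvd_antisymm
  · refine Finset.dvd_gcd fun δ hδ => ?_
    simp only [Finset.mem_filter, Finset.mem_Icc] at hδ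
    obtain ⟨⟨h1, h2⟩, h3⟩ := hδ
    rw [Nat.dvd_iff_prime_pow_dvd_dvd]
    intro p e hp hpe
    rcases Nat.eq_zero_or_pos e with rfl | he
    · simp
    set v := δ.factorization p
    have hvδ : p ^ v ∣ δ := Nat.ordProj_dvd _ _
    have hvd : p ^ v ∣ d := hvδ.trans h3
    have hvN : p ^ v ≤ N := (Nat.le_of_dvd (by omega) hvδ).trans h2
    have hvle : p ^ v ≤ d := Nat.le_of_dvd (by omega) hvd
    have hj : p ^ e ∣ d.choose (p ^ v) :=
      hpe.trans (Finset.gcd_dvd (Finset.mem_Icc.2 ⟨Nat.one_le_pow _ _ hp.pos, hvN⟩))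
    have hmul := Nat.add_one_mul_choose_eq (d - 1) (p ^ v - 1)
    rw [Nat.sub_add_cancel hd, Nat.sub_add_cancel (Nat.one_le_pow _ _ hp.pos)] at hmul
    have hndvd := factorization_choose_pred_eq_zero hp hd hvd (p ^ v - 1)
      (Nat.sub_lt (pow_pos hp.pos v) one_pos)
    have hdvd : p ^ e * p ^ v ∣ d := by
      rw [← pow_add]
      refine (Nat.Coprime.pow_left (e + v) (hp.coprime_iff_not_dvd.2 hndvd)).dvd_of_dvd_mul_right ?_
      rw [hmul, pow_add]
      exact mul_dvd_mul hj dvd_rfl
    rw [← pow_add] at hdvd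
    have hd0 : d / δ ≠ 0 := (Nat.div_pos (Nat.le_of_dvd (by omega) h3) (by omega)).ne'
    rw [hp.pow_dvd_iff_le_factorization hd0, Nat.factorization_div h3, Finsupp.tsub_apply]
    have := (hp.pow_dvd_iff_le_factorization (by omega)).1 hdvd
    omega
  · refine Finset.dvd_gcd fun j hj => ?_
    simp only [Finset.mem_Icc] at hj
    rcases lt_or_ge d j with h | h
    · rw [Nat.choose_eq_zero_of_lt h]; exact dvd_zero _
    have hg : 0 < Nat.gcd j d := Nat.gcd_pos_of_pos_left _ hj.1
    refine (Finset.gcd_dvd (Finset.mem_filter.2 ⟨Finset.mem_Icc.2 ⟨hg, (Nat.gcd_le_left _ hj.1).trans hj.2⟩,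
      Nat.gcd_dvd_right j d⟩)).trans ?_
    have hmul := Nat.add_one_mul_choose_eq (d - 1) (j - 1)
    rw [Nat.sub_add_cancel hd, Nat.sub_add_cancel hj.1] at hmul
    have h1 : d / Nat.gcd j d ∣ (j / Nat.gcd j d) * d.choose j := by
      refine ⟨(d - 1).choose (j - 1), ?_⟩
      apply Nat.eq_of_mul_eq_mul_left hg
      rw [← mul_assoc, Nat.mul_div_cancel' (Nat.gcd_dvd_left _ _), ← mul_assoc,
        Nat.mul_div_cancel' (Nat.gcd_dvd_right _ _), hmul, mul_comm]
    exact (Nat.coprime_div_gcd_div_gcd hg).symm.dvd_of_dvd_mul_left h1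

/-- Let d ≥ 1 and N ≥ 1 be integers and let I(d, N) be the greatest common divisor of the quotients d/δ
over the divisors δ of d with 1 ≤ δ ≤ N. Then I(d, N) equals the greatest common divisor of the
integers χ(d, n) = 1 − (−1)^n C(d − 1, n) for 1 ≤ n ≤ N (χ(d, n) is the Euler characteristic of O_H
for a degree-d hypersurface H in projective n-space). Both greatest common divisors are taken in ℤ,
normalised to be non-negative. -/
theorem result (d N : ℕ) (hd : 1 ≤ d) (hN : 1 ≤ N) :
    (Finset.Icc 1 N).gcd (fun n => 1 - (-1 : ℤ) ^ n * ((d - 1).choose n : ℤ)) =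
      ((Finset.Icc 1 N).filter (fun δ => δ ∣ d)).gcd (fun δ => ((d / δ : ℕ) : ℤ)) := by
  set χ : ℕ → ℤ := fun n => 1 - (-1 : ℤ) ^ n * ((d - 1).choose n : ℤ) with hχ
  have step : ∀ n, χ (n + 1) = χ n + (-1) ^ n * (d.choose (n + 1) : ℤ) := fun n => by
    have : d.choose (n + 1) = (d - 1).choose n + (d - 1).choose (n + 1) := by
      conv_lhs => rw [← Nat.sub_add_cancel hd, Nat.choose_succ_succ]
    simp only [hχ, this, Nat.cast_add]
    ring
  have key : ∀ x : ℤ, (∀ n ∈ Finset.Icc 1 N, x ∣ χ n) ↔ ∀ j ∈ Finset.Icc 1 N, x ∣ (d.choose j : ℤ) := by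
    intro x
    have h0 : χ 0 = 0 := by simp [hχ]
    constructor
    · intro h j hj
      simp only [Finset.mem_Icc] at hj
      obtain ⟨j, rfl⟩ : ∃ i, j = i + 1 := ⟨j - 1, by omega⟩
      have h1 : x ∣ χ j := by
        rcases Nat.eq_zero_or_pos j with rfl | hj'
        · simp [h0]
        · exact h j (Finset.mem_Icc.2 ⟨hj', by omega⟩)
      have h2 := dvd_sub (h (j + 1) (Finset.mem_Icc.2 hj)) h1
      rw [step, add_sub_cancel_left] at h2
      have h3 := h2.mul_left ((-1) ^ j)
      rwa [← mul_assoc, ← mul_pow, neg_one_mul, neg_neg, one_pow, one_mul] at h3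
    · intro h n hn
      simp only [Finset.mem_Icc] at hn
      have : ∀ m ≤ N, x ∣ χ m := by
        intro m
        induction m with
        | zero => intro; simp [h0]
        | succ m ih => intro hm; rw [step]; exact dvd_add (ih (by omega)) ((h _ (Finset.mem_Icc.2 ⟨by omega, hm⟩)).mul_left _)
      exact this n hn.2
  have e1 : (Finset.Icc 1 N).gcd χ = (Finset.Icc 1 N).gcd (fun j => (d.choose j : ℤ)) :=
    dvd_antisymm_of_normalize_eq Finset.normalize_gcd Finset.normalize_gcd
      (Finset.dvd_gcd ((key _).1 fun n hn => Finset.gcd_dvd hn))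
      (Finset.dvd_gcd ((key _).2 fun n hn => Finset.gcd_dvd hn))
  have hcast : ∀ (s : Finset ℕ) (g : ℕ → ℕ), s.gcd (fun i => (g i : ℤ)) = ((s.gcd g : ℕ) : ℤ) := by
    intro s g
    refine Finset.induction_on s (by simp) fun a s ha ih => ?_
    rw [Finset.gcd_insert, Finset.gcd_insert, ih, gcd_eq_nat_gcd, ← Int.coe_gcd, Int.gcd_natCast_natCast]
  rw [e1, hcast, hcast, gcd_choose d N hd hN]

end Groth.Agent.S17781
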