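import Groth.Statements.S17783
import Groth.Agent.ModelsGraphs.GenusFormula
import Groth.Agent.Quot.ClosedSub
import Groth.Agent.Misc13.NumTriv.Uniform
import Groth.Agent.CohTwo.PushClosed

set_option autoImplicit false
universe u
open CategoryTheory CategoryTheory.Limits AlgebraicGeometry
open Variety

namespace Groth.Agent.S17783

/-- Let R be a discrete valuation ring with fraction field K, let 𝒳 be a normal scheme, proper and flat
over Spec R, with generic fibre the K-scheme X, and let m ≥ 1 be an integer such that the special
fibre of 𝒳 is m times an effective Cartier divisor D, i.e. the ideal sheaf 𝔪_R · O_𝒳 of the special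
fibre is the m-th power of the ideal sheaf of D. Then m divides the Euler characteristic χ(X, O_X).
(The published statement asks only that the special fibre be divisible by m as a Cartier divisor and
deduces from normality that the quotient divisor is effective; the divisor is taken effective here.) -/
theorem result (R : Type u) [CommRing R] [IsDomain R]
    [IsDiscreteValuationRing R] (𝒳 : Scheme.{u}) (p : 𝒳 ⟶ Spec (CommRingCat.of R)) [IsProper p] [Flat p]
    (hn : Pi1.IsNormalScheme 𝒳) (X : Scheme.{u}) [X.Over (Spec (CommRingCat.of (FractionRing R)))]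
    (hX : Models.IsModel R 𝒳 p X (X ↘ Spec (CommRingCat.of (FractionRing R)))) (m : ℕ) (hm : 1 ≤ m)
    (I : 𝒳.IdealSheafData) (hI : BlowUp.IsEffCartierIdeal I)
    (hIm : I ^ m = Models.specialFibreIdeal R (Over.mk p)) :
    (m : ℤ) ∣ Curv2.euler (FractionRing R) X (Coh.structureModule X) := by
  open Groth.ModelsGraphs in
  exact by
    classical
    let K := FractionRing R
    let kR := IsLocalRing.ResidueField R
    obtain ⟨-, -, -, g, hg⟩ := hX
    let σ := Spec.map (CommRingCat.ofHom (IsLocalRing.residue R))
    haveI : IsClosedImmersion σ :=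
      IsClosedImmersion.spec_of_surjective _ IsLocalRing.residue_surjective
    let Z := pullback p σ
    let i : Z ⟶ 𝒳 := pullback.fst _ _
    letI : Z.Over (Spec (CommRingCat.of kR)) := ⟨pullback.snd _ _⟩
    haveI : IsProper (Z ↘ Spec (CommRingCat.of kR)) := inferInstanceAs (IsProper (pullback.snd p σ))
    haveI : IsProper (X ↘ Spec (CommRingCat.of K)) := MorphismProperty.of_isPullback hg ‹IsProper p›
    haveI : IsLocallyNoetherian 𝒳 := LocallyOfFiniteType.isLocallyNoetherian p
    haveI : IsLocallyNoetherian Z :=
      LocallyOfFiniteType.isLocallyNoetherian (Z ↘ Spec (CommRingCat.of kR))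
    have hker : i.ker = I ^ m := by
      rw [Scheme.IdealSheafData.ker_fst_of_isClosedImmersion, GenusFormula.ker_residue, hIm]
      rfl
    have hcO : ∀ (Y : Scheme.{u}), Coh.IsCoh (Coh.structureModule Y) := fun Y =>
      Groth.EulerDeg.isCoh_of_isInvertible (Groth.EulerDeg.isInvertible_structureModule _)
    -- the generic fibre has the Euler characteristic of the closed fibre
    have heul : Curv2.euler K X (Coh.structureModule X) =
        Curv2.euler kR Z (Coh.structureModule Z) := by
      haveI : PreconnectedSpace (Spec (CommRingCat.of R)) := inferInstance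
      haveI : (Coh.structureModule 𝒳).IsQuasicoherent := Groth.QCohMod.isQCoh_unit 𝒳
      have h1 := Groth.Inter.euler_point_eq p (Coh.structureModule 𝒳) K _ g hg
      have h2 := Groth.Inter.euler_point_eq p (Coh.structureModule 𝒳) kR σ i
        (IsPullback.of_hasPullback p σ)
      rw [Groth.EulerDeg.euler_congr _ (Groth.PicAux.pullback_structure_iso g).some] at h1
      rw [Groth.EulerDeg.euler_congr _ (Groth.PicAux.pullback_structure_iso i).some] at h2
      rw [h1, h2]
      exact Groth.Inter.euler_fiber_eq p _ (hcO _) (Groth.FBaseGeom.isFlatOver_structureModule p) _ _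
    -- the reduced piece `D`
    let D := I.subscheme
    have hpowle : ∀ l, l ≤ m → I ^ m ≤ I ^ l := fun l hl U => by
      simpa [Scheme.IdealSheafData.ideal_pow] using Ideal.pow_le_pow_right (I := I.ideal U) hl
    have hle : i.ker ≤ I.subschemeι.ker := by
      rw [hker, Scheme.IdealSheafData.ker_subschemeι]
      simpa using hpowle 1 hm
    let a : D ⟶ Z := IsClosedImmersion.lift i I.subschemeι hle
    have ha : a ≫ i = I.subschemeι := IsClosedImmersion.lift_fac _ _ _
    haveI : IsClosedImmersion a := by
      have : IsClosedImmersion (a ≫ i) := by rw [ha]; infer_instance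
      exact IsClosedImmersion.of_comp a i
    letI : D.Over (Spec (CommRingCat.of kR)) := ⟨a ≫ (Z ↘ Spec (CommRingCat.of kR))⟩
    haveI : IsProper (D ↘ Spec (CommRingCat.of kR)) :=
      inferInstanceAs (IsProper (a ≫ (Z ↘ Spec (CommRingCat.of kR))))
    let N : ℕ → D.Modules := fun j =>
      (Scheme.Modules.pullback I.subschemeι).obj (ClSub.idealMod (I ^ j))
    have hIp : ∀ j, BlowUp.IsEffCartierIdeal (I ^ j) := Groth.Divisors.isEffCartierIdeal_pow hI
    have hN : ∀ j, PicF.IsInvertible (N j) := fun j =>
      Groth.PicAux.isInvertible_pullback _ (Groth.PicAux.isInvertible_idealMod (hIp j))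
    have hsucc : ∀ j, Nonempty (CohB1.tensorMod (N 1) (N j) ≅ N (j + 1)) := fun j => by
      obtain ⟨e⟩ := Groth.PicAux.idealMod_mul (hIp 1) (hIp j)
      obtain ⟨e'⟩ := Groth.PicAux.pullback_tensorMod I.subschemeι
        (Groth.PicAux.isInvertible_idealMod (hIp 1)) (Groth.PicAux.isInvertible_idealMod (hIp j))
      rw [show I ^ 1 * I ^ j = I ^ (j + 1) from (pow_add I 1 j).symm.trans (by rw [add_comm])] at e
      exact ⟨e'.symm ≪≫ (Scheme.Modules.pullback I.subschemeι).mapIso e⟩
    -- periodicity
    have hNm : Nonempty (N m ≅ Coh.structureModule D) := by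
      haveI : Flat (Over.mk p).hom := ‹Flat p›
      obtain ⟨e⟩ := InterForm.nonempty_idealMod_specialFibre (R := R) (X := Over.mk p)
      obtain ⟨e'⟩ := Groth.PicAux.pullback_structure_iso I.subschemeι
      change Nonempty ((Scheme.Modules.pullback I.subschemeι).obj (ClSub.idealMod (I ^ m)) ≅ _)
      rw [hIm]
      exact ⟨(Scheme.Modules.pullback I.subschemeι).mapIso e ≪≫ e'⟩
    have hper : ∀ j, Nonempty (N (j + m) ≅ N j) := fun j => by
      induction j with
      | zero =>
        obtain ⟨e⟩ := hNm
        obtain ⟨e'⟩ := Groth.PicAux.idealMod_mul (hIp 0) (hIp m)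
        obtain ⟨u⟩ := Groth.PicAux.pullback_tensorMod I.subschemeι
          (Groth.PicAux.isInvertible_idealMod (hIp 0)) (Groth.PicAux.isInvertible_idealMod (hIp m))
        rw [show I ^ 0 * I ^ m = I ^ (0 + m) from (pow_add I 0 m).symm] at e'
        exact ⟨(Scheme.Modules.pullback I.subschemeι).mapIso e'.symm ≪≫ u ≪≫
          (Groth.Inter.tensor_congr ⟨Iso.refl _⟩ ⟨e⟩).some ≪≫
          (Groth.Inter.tensor_comm _ _).some ≪≫ (Groth.Inter.tensor_one _).some⟩
      | succ j ih =>
        rw [show j + 1 + m = (j + m) + 1 by omega]
        exact ⟨(hsucc (j + m)).some.symm ≪≫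
          (Groth.Inter.tensor_congr ⟨Iso.refl _⟩ ih).some ≪≫ (hsucc j).some⟩
    -- iterated differences of a periodic function
    let f : ℕ → ℕ → ℤ := fun r j => Groth.Inter.delta kR (List.replicate r (N 1)) (N j)
    have hf0 : ∀ r j, f (r + 1) j = f r j - f r (j + 1) := fun r j => by
      change Groth.Inter.delta kR (N 1 :: List.replicate r (N 1)) (N j) = _
      rw [Groth.Inter.delta_cons, Groth.Inter.delta_congr kR _ (hsucc j)]
    have hfper : ∀ r j, f r (j + m) = f r j := fun r j =>
      Groth.Inter.delta_congr kR _ (hper j)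
    haveI : IsLocallyNoetherian D :=
      LocallyOfFiniteType.isLocallyNoetherian (D ↘ Spec (CommRingCat.of kR))
    have hbig : ∃ r, ∀ j, f (r + 1) j = 0 := by
      obtain ⟨d, hd⟩ := Groth.Misc13.NumTriv.exists_dim_le kR (X := D)
      refine ⟨d, fun j => Groth.Inter.delta_eq_zero kR _ (fun M hM => ?_) _
        (Groth.EulerDeg.isCoh_of_isInvertible (hN j)) ?_⟩
      · rw [List.eq_of_mem_replicate hM]; exact hN 1
      · rw [List.length_replicate]
        exact lt_of_le_of_lt ((Topology.IsInducing.subtypeVal.topologicalKrullDim_le).trans hd)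
          (by exact_mod_cast Nat.lt_succ_self d)
    have hconst : ∀ j, f 0 j = f 0 0 := by
      obtain ⟨r, hr⟩ := hbig
      have key : ∀ r, (∀ j, f (r + 1) j = 0) → ∀ j, f 0 j = f 0 0 := by
        intro r
        induction r with
        | zero =>
          intro h j
          induction j with
          | zero => rfl
          | succ j ihj => have := h j; rw [hf0] at this; omega
        | succ r ih =>
          intro h
          have hc : ∀ j, f (r + 1) j = f (r + 1) 0 := fun j => by
            induction j with
            | zero => rfl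
            | succ j ihj => have := h j; rw [hf0] at this; omega
          have ht : ∀ t : ℕ, f r t = f r 0 - t * f (r + 1) 0 := fun t => by
            induction t with
            | zero => simp
            | succ t iht =>
              have := hf0 r t
              rw [hc t] at this
              push_cast
              linarith
          refine ih fun j => ?_
          rw [hc j]
          have := ht m
          rw [show f r m = f r 0 by simpa using hfper r 0] at this
          have : (m : ℤ) * f (r + 1) 0 = 0 := by linarith
          rcases mul_eq_zero.1 this with h' | h'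
          · omega
          · exact h'
      exact key r hr
    -- the filtration of the closed fibre
    let P := Scheme.Modules.pullback i
    let e : ℕ → ℤ := fun j => Curv2.euler kR Z (P.obj (ClSub.quotMod (I ^ j)))
    have hem : e m = Curv2.euler kR Z (Coh.structureModule Z) := by
      obtain ⟨q⟩ := GenusFormula.nonempty_quotMod_ker i
      haveI : (Coh.structureModule Z).IsQuasicoherent := Groth.QCohMod.isQCoh_unit Z
      refine Groth.EulerDeg.euler_congr kR (?_ ≪≫ Groth.Quot.counitIso i (Coh.structureModule Z))
      exact P.mapIso (eqToIso (by rw [hker]) ≪≫ q)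
    have he0 : e 0 = 0 := by
      change Curv2.euler kR Z (P.obj (ClSub.quotMod (I ^ 0))) = 0
      rw [pow_zero]
      exact Groth.Inter.euler_of_isZero kR (P.map_isZero GenusFormula.isZero_quotMod_one)
    have hstep : ∀ j, j < m → e (j + 1) = e j + f 0 j := by
      intro j hj
      obtain ⟨S, hS, ⟨e1⟩, ⟨e2⟩, ⟨e3⟩⟩ := QuotMulSeq.exists_shortExact (hIp j) hI
      rw [← pow_succ] at e2
      let F := Scheme.Modules.pushforward i
      have hquot : ∀ l, l ≤ m → ∃ T : Z.Modules, Coh.IsCoh T ∧
          Nonempty (ClSub.quotMod (I ^ l) ≅ F.obj T) := fun l hl => by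
        have hl' : i.ker ≤ (I ^ l).subschemeι.ker := by
          rw [hker, Scheme.IdealSheafData.ker_subschemeι]
          exact hpowle l hl
        let b := IsClosedImmersion.lift i (I ^ l).subschemeι hl'
        have hb : b ≫ i = (I ^ l).subschemeι := IsClosedImmersion.lift_fac _ _ _
        have : IsClosedImmersion b := by
          have : IsClosedImmersion (b ≫ i) := by rw [hb]; infer_instance
          exact IsClosedImmersion.of_comp b i
        obtain ⟨q⟩ := GenusFormula.nonempty_quotMod_ker (I ^ l).subschemeι
        rw [Scheme.IdealSheafData.ker_subschemeι] at q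
        have : IsLocallyNoetherian (I ^ l).subscheme :=
          LocallyOfFiniteType.isLocallyNoetherian (b ≫ (Z ↘ Spec (CommRingCat.of kR)))
        exact ⟨(Scheme.Modules.pushforward b).obj (Coh.structureModule _),
          Groth.CohTwo.isCoh_push b (hcO _),
          ⟨q ≪≫ (Scheme.Modules.pushforwardCongr hb.symm).app _ ≪≫
            ((Scheme.Modules.pushforwardComp b i).app _).symm⟩⟩
      obtain ⟨T2, hT2, ⟨q2⟩⟩ := hquot (j + 1) hj
      obtain ⟨T3, hT3, ⟨q3⟩⟩ := hquot j hj.le
      let T1 : Z.Modules := (Scheme.Modules.pushforward a).obj (N j)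
      have hT1 : Coh.IsCoh T1 :=
        Groth.CohTwo.isCoh_push a (Groth.EulerDeg.isCoh_of_isInvertible (hN j))
      obtain ⟨q⟩ := GenusFormula.nonempty_quotMod_ker I.subschemeι
      rw [Scheme.IdealSheafData.ker_subschemeι] at q
      obtain ⟨t⟩ := Groth.Inter.tensor_push I.subschemeι (Groth.PicAux.isInvertible_idealMod (hIp j))
        (Coh.structureModule D)
      let q1 : S.X₁ ≅ F.obj T1 := e1 ≪≫ (Groth.Inter.tensor_comm _ _).some ≪≫
        (Groth.Inter.tensor_congr ⟨Iso.refl _⟩ ⟨q⟩).some ≪≫ t ≪≫
        (Scheme.Modules.pushforward I.subschemeι).mapIso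
          ((Groth.Inter.tensor_comm _ _).some ≪≫ (Groth.Inter.tensor_one _).some) ≪≫
        (Scheme.Modules.pushforwardCongr ha.symm).app _ ≪≫
        ((Scheme.Modules.pushforwardComp a i).app _).symm
      have hres : ∀ (M : 𝒳.Modules) (T : Z.Modules), Coh.IsCoh T → (M ≅ F.obj T) →
          Nonempty (P.obj M ≅ T) ∧
            IsIso ((Scheme.Modules.pullbackPushforwardAdjunction i).unit.app M) := by
        intro M T hT r
        haveI := hT.1
        let adj := Scheme.Modules.pullbackPushforwardAdjunction i
        have : IsIso (adj.counit.app T) := Groth.QCohMod.isIso_counit_closedImmersion i T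
        have hu : IsIso (adj.unit.app (F.obj T)) := by
          have h := adj.right_triangle_components T
          have : IsIso (adj.unit.app (F.obj T) ≫ F.map (adj.counit.app T)) := by
            rw [h]; infer_instance
          exact IsIso.of_isIso_comp_right _ (F.map (adj.counit.app T))
        exact ⟨⟨P.mapIso r ≪≫ Groth.Quot.counitIso i T⟩,
          (NatTrans.isIso_app_iff_of_iso adj.unit r).2 hu⟩
      obtain ⟨⟨r1⟩, u1⟩ := hres _ _ hT1 q1
      obtain ⟨⟨r2⟩, u2⟩ := hres _ _ hT2 (e2 ≪≫ q2)
      obtain ⟨⟨r3⟩, u3⟩ := hres _ _ hT3 (e3 ≪≫ q3)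
      let adj := Scheme.Modules.pullbackPushforwardAdjunction i
      let S' : ShortComplex Z.Modules := S.map P
      have hiso : S ≅ S'.map F := ShortComplex.isoMk (@asIso _ _ _ _ _ u1) (@asIso _ _ _ _ _ u2)
        (@asIso _ _ _ _ _ u3) (adj.unit.naturality S.f).symm (adj.unit.naturality S.g).symm
      have hS'F : (S'.map F).ShortExact := ShortComplex.shortExact_of_iso hiso hS
      haveI : F.Faithful := inferInstance
      haveI : PreservesLimitsOfSize.{0, 0} F := adj.rightAdjoint_preservesLimits
      haveI : ReflectsLimit (parallelPair S'.g 0) F := reflectsLimit_of_reflectsIsomorphisms _ F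
      have hS' : S'.ShortExact :=
        { exact := ShortComplex.exact_of_f_is_kernel S' (isLimitOfReflects F
            ((KernelFork.isLimitMapConeEquiv _ F).symm hS'F.fIsKernel))
          mono_f := F.mono_of_mono_map hS'F.mono_f
          epi_g := F.epi_of_epi_map hS'F.epi_g }
      have hadd := Groth.Inter.euler_add kR hS' (QCohMod.isCoh_of_iso r1.symm hT1)
        (QCohMod.isCoh_of_iso r3.symm hT3)
      change Curv2.euler kR Z (P.obj S.X₂) = Curv2.euler kR Z (P.obj S.X₁) +
        Curv2.euler kR Z (P.obj S.X₃) at hadd
      rw [Groth.EulerDeg.euler_congr kR r1, show Curv2.euler kR Z T1 = f 0 j from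
        Groth.Inter.euler_push kR a rfl (N j)] at hadd
      change Curv2.euler kR Z (P.obj (ClSub.quotMod (I ^ (j + 1)))) = _
      rw [← Groth.EulerDeg.euler_congr kR (P.mapIso e2), hadd,
        Groth.EulerDeg.euler_congr kR (P.mapIso e3), add_comm]
    have hall : ∀ j, j ≤ m → e j = j * f 0 0 := fun j => by
      induction j with
      | zero => intro _; simpa using he0
      | succ j ih =>
        intro hj
        rw [hstep j hj, ih (by omega), hconst j]
        push_cast
        ring
    rw [heul, ← hem, hall m le_rfl]
    exact dvd_mul_right _ _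

end Groth.Agent.S17783
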