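import Groth.Statements.S17785
import Mathlib

set_option autoImplicit false
universe u
open Variety

namespace Groth.Agent.S17785

open Polynomial in
/-- `X ^ e - ϖ` is irreducible over the fraction field. -/
theorem irreducible_X_pow_sub (R : Type u) [CommRing R] [IsDomain R] [IsDiscreteValuationRing R]
    (K : Type u) [Field K] [Algebra R K] [IsFractionRing R K] (ϖ : R) (hϖ : Irreducible ϖ) (e : ℕ)
    (he : 0 < e) : Irreducible ((X : K[X]) ^ e - C (algebraMap R K ϖ)) := by
  have hm : ((X : R[X]) ^ e - C ϖ).Monic := monic_X_pow_sub_C ϖ he.ne'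
  have hirr : Irreducible ((X : R[X]) ^ e - C ϖ) := by
    refine IsEisensteinAt.irreducible (𝓟 := Ideal.span {ϖ}) ⟨?_, ?_, ?_⟩
      ((Ideal.span_singleton_prime hϖ.ne_zero).2 hϖ.prime) hm.isPrimitive
      (by rw [natDegree_X_pow_sub_C]; exact he)
    · rw [hm.leadingCoeff, Ideal.mem_span_singleton]
      exact fun h => hϖ.not_isUnit (isUnit_of_dvd_one h)
    · intro n hn
      rw [natDegree_X_pow_sub_C] at hn
      rw [coeff_sub, coeff_X_pow, if_neg hn.ne, zero_sub, coeff_C]
      refine Ideal.neg_mem_iff _ |>.2 ?_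
      split
      · exact Ideal.mem_span_singleton_self ϖ
      · exact zero_mem _
    · rw [coeff_sub, coeff_X_pow, if_neg he.ne, zero_sub, coeff_C_zero, Ideal.neg_mem_iff,
        Ideal.span_singleton_pow, Ideal.mem_span_singleton]
      exact fun ⟨c, hc⟩ => hϖ.not_isUnit (IsUnit.of_mul_eq_one c
        (mul_left_cancel₀ hϖ.ne_zero (by linear_combination -hc)))
  have := (hm.irreducible_iff_irreducible_map_fraction_map (K := K)).1 hirr
  simpa using this

theorem torsionFree_aux (A C : Type u) [CommRing A] [IsDomain A] [CommRing C] [IsDomain C] [Algebra A C]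
    [FaithfulSMul A C] : Module.IsTorsionFree A C :=
  Module.isTorsionFree_iff_faithfulSMul.2 inferInstance

/-- A vanishing sum has two distinct terms of the same nonzero maximal value, unless all vanish. -/
theorem exists_pair {L : Type*} [Field L] (v : Valuation L (WithZero (Multiplicative ℤ))) {n : ℕ}
    (S : Fin n → L) (hsum : ∑ i, S i = 0) (hne : ∃ i, S i ≠ 0) :
    ∃ i j, i ≠ j ∧ S i ≠ 0 ∧ v (S i) = v (S j) := by
  classical
  obtain ⟨i₁, hi₁⟩ := hne
  obtain ⟨j, -, hj⟩ := Finset.univ.exists_max_image (fun i => v (S i)) ⟨i₁, Finset.mem_univ _⟩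
  have hjne : S j ≠ 0 := fun h => hi₁ (v.zero_iff.1 (by
    have := hj i₁ (Finset.mem_univ _)
    rw [h, map_zero] at this
    exact le_bot_iff.1 this))
  by_contra hall
  push Not at hall
  have := v.map_sum_eq_of_lt (s := Finset.univ) (f := S) (Finset.mem_univ j) fun i hi => by
    obtain ⟨-, hij⟩ := Finset.mem_sdiff.1 hi
    exact lt_of_le_of_ne (hj i (Finset.mem_univ _)) fun h =>
      hall j i (fun e => hij (by simp [e])) hjne h.symm
  rw [hsum, map_zero] at this
  exact hjne (v.zero_iff.1 this.symm)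

open scoped WithZero in
/-- For a solution over `L` the index divides `m` for a valuation with `v ϖ = exp (-m)`. -/
theorem index_dvd {L : Type*} [Field L] (v : Valuation L (WithZero (Multiplicative ℤ))) (d N : ℕ)
    (hd : 1 ≤ d) (P : L) (m : ℕ) (hP : v P = WithZero.exp (-(m : ℤ))) (x : Fin (N + 1) → L)
    (hx : x ≠ 0) (heq : x 0 ^ d = ∑ i : Fin N, P ^ ((i : ℕ) + 1) * x i.succ ^ d) :
    ((Finset.Icc 1 N).filter (fun δ => δ ∣ d)).gcd (fun δ => d / δ) ∣ m := by
  classical
  have hP0 : P ≠ 0 := fun h => by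
    rw [h, map_zero] at hP; exact WithZero.exp_ne_zero hP.symm
  let S : Fin (N + 1) → L := Fin.cases (x 0 ^ d) fun i => -(P ^ ((i : ℕ) + 1) * x i.succ ^ d)
  have hS : ∀ i, v (S i) = v (P ^ (i : ℕ) * x i ^ d) := fun i => by
    refine Fin.cases ?_ (fun i => ?_) i
    · simp [S]
    · simp [S, Valuation.map_neg]
  have hsum : ∑ i, S i = 0 := by
    rw [Fin.sum_univ_succ]
    simp [S, Finset.sum_neg_distrib, heq]
  have hS0 : ∀ i, S i ≠ 0 ↔ x i ≠ 0 := fun i => by
    rw [← v.ne_zero_iff, hS, v.ne_zero_iff, mul_ne_zero_iff, pow_ne_zero_iff (by omega : d ≠ 0)]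
    exact and_iff_right (pow_ne_zero _ hP0)
  obtain ⟨i₁, hi₁⟩ := Function.ne_iff.1 hx
  obtain ⟨i, j, hij, hi, hv⟩ := exists_pair v S hsum ⟨i₁, (hS0 i₁).2 hi₁⟩
  have hj : x j ≠ 0 := (hS0 j).1 (v.ne_zero_iff.1 (hv ▸ v.ne_zero_iff.2 hi))
  have hxi : x i ≠ 0 := (hS0 i).1 hi
  rw [hS, hS, map_mul, map_mul, map_pow, map_pow, map_pow, map_pow, hP] at hv
  obtain ⟨a, ha⟩ : ∃ a : ℤ, v (x i) = WithZero.exp a :=
    ⟨_, (WithZero.exp_log (v.ne_zero_iff.2 hxi)).symm⟩
  obtain ⟨b, hb⟩ : ∃ b : ℤ, v (x j) = WithZero.exp b :=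
    ⟨_, (WithZero.exp_log (v.ne_zero_iff.2 hj)).symm⟩
  rw [ha, hb, ← WithZero.exp_nsmul, ← WithZero.exp_nsmul, ← WithZero.exp_nsmul, ← WithZero.exp_nsmul,
    ← WithZero.exp_add, ← WithZero.exp_add, WithZero.exp_inj] at hv
  simp only [nsmul_eq_mul] at hv
  set δ₀ := ((i : ℤ) - (j : ℤ)).natAbs
  set δ := Nat.gcd d δ₀
  have h1 : d ∣ δ₀ * m := by
    have h : (d : ℤ) ∣ ((i : ℤ) - (j : ℤ)) * m := ⟨a - b, by linear_combination -hv⟩
    have := Int.natAbs_dvd_natAbs.2 h
    simpa [Int.natAbs_mul] using this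
  have h2 : d ∣ δ * m := by
    rw [← Nat.gcd_mul_right]
    exact Nat.dvd_gcd (dvd_mul_right d m) h1
  have hδ₀ : 0 < δ₀ := by
    have : (i : ℕ) ≠ j := fun h => hij (Fin.ext h)
    omega
  have hδ : 0 < δ := Nat.gcd_pos_of_pos_right _ hδ₀
  have hmem : δ ∈ (Finset.Icc 1 N).filter (fun δ => δ ∣ d) := by
    refine Finset.mem_filter.2 ⟨Finset.mem_Icc.2 ⟨hδ, ?_⟩, Nat.gcd_dvd_left _ _⟩
    have h3 : δ ≤ δ₀ := Nat.le_of_dvd hδ₀ (Nat.gcd_dvd_right _ _)
    have := i.2
    have := j.2
    omega
  exact (Finset.gcd_dvd hmem).trans ((Nat.div_dvd_iff_dvd_mul (Nat.gcd_dvd_left _ _) hδ).2 h2)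

set_option linter.deprecated false in
/-- The index divides the degree of any field with a solution. -/
theorem index_dvd_finrank (R : Type u) [CommRing R] [IsDomain R]
    [IsDiscreteValuationRing R] (K : Type u) [Field K] [Algebra R K] [IsFractionRing R K]
    (ϖ : R) (hϖ : Irreducible ϖ) (d N : ℕ) (hd : 1 ≤ d) (L : Type u) [Field L] [Algebra K L]
    [FiniteDimensional K L] (x : Fin (N + 1) → L) (hx : x ≠ 0)
    (heq : x 0 ^ d = ∑ i : Fin N, algebraMap K L (algebraMap R K (ϖ ^ ((i : ℕ) + 1))) * x i.succ ^ d) :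
    ((Finset.Icc 1 N).filter (fun δ => δ ∣ d)).gcd (fun δ => d / δ) ∣ Module.finrank K L := by
  classical
  let M := separableClosure K L
  let := ((algebraMap K M).comp (algebraMap R K)).toAlgebra
  have : IsScalarTower R K M := IsScalarTower.of_algebraMap_eq' rfl
  let B := integralClosure R M
  have : Algebra.IsSeparable K M := separableClosure.isSeparable K L
  have : Module.Finite R B := IsIntegralClosure.finite R K M B
  have : IsDedekindDomain B := integralClosure.isDedekindDomain R K M
  have : IsFractionRing B M := IsIntegralClosure.isFractionRing_of_finite_extension R K M B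
  have : IsScalarTower R B M := IsScalarTower.of_algebraMap_eq' rfl
  have hinjB : Function.Injective (algebraMap R B) := fun a b h => by
    have h1 : algebraMap R M a = algebraMap R M b := by
      rw [IsScalarTower.algebraMap_apply R B M, IsScalarTower.algebraMap_apply R B M, h]
    exact (IsFractionRing.injective R K) ((algebraMap K M).injective h1)
  have : FaithfulSMul R B := (faithfulSMul_iff_algebraMap_injective R B).2 hinjB
  have : Module.IsTorsionFree R B := torsionFree_aux R B
  let q := IsLocalRing.maximalIdeal R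
  have hq0 : q ≠ ⊥ := IsDiscreteValuationRing.not_a_field R
  obtain ⟨p, hp⟩ := ExpChar.exists K
  have : ExpChar M p := expChar_of_injective_ringHom (algebraMap K M).injective p
  have : IsPurelyInseparable M L := separableClosure.isPurelyInseparable K L
  obtain ⟨b, hb⟩ := IsPurelyInseparable.finrank_eq_pow M L p
  have hexp : IsPurelyInseparable.exponent M L ≤ b := by
    by_contra hlt
    obtain ⟨a, ha⟩ := IsPurelyInseparable.exponent_min' (K := M) (L := L) p (not_le.1 hlt)
    refine ha ?_
    have h1 := minpoly.degree_dvd (K := M) (L := L) (IsIntegral.of_finite M a)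
    rw [IsPurelyInseparable.minpoly_natDegree_eq' M p a, hb] at h1
    rcases ‹ExpChar M p› with _ | ⟨hprime⟩
    · have := IsPurelyInseparable.elemExponent_def' M 1 a
      simpa using this
    · have hle := (Nat.pow_dvd_pow_iff_le_right hprime.one_lt).1 h1
      obtain ⟨y, hy⟩ := IsPurelyInseparable.elemExponent_def' M p a
      refine ⟨y ^ p ^ (b - IsPurelyInseparable.elemExponent M a), ?_⟩
      rw [map_pow, hy, ← pow_mul, ← pow_add, Nat.add_sub_cancel' hle]
  let φ : L →+* M := IsPurelyInseparable.iterateFrobenius M L p hexp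
  have key : ∀ P ∈ IsDedekindDomain.primesOverFinset q B,
      ((Finset.Icc 1 N).filter (fun δ => δ ∣ d)).gcd (fun δ => d / δ) ∣
        q.ramificationIdx' P * p ^ b := by
    intro P hP
    obtain ⟨hPp, hPo⟩ := (IsDedekindDomain.mem_primesOverFinset_iff hq0 _).1 hP
    let vq : IsDedekindDomain.HeightOneSpectrum R := ⟨q, inferInstance, hq0⟩
    let w : IsDedekindDomain.HeightOneSpectrum B := ⟨P, hPp, fun h => hq0 (by
      rw [hPo.over, h]
      exact Ideal.comap_bot_of_injective _ hinjB)⟩
    have : w.asIdeal.LiesOver vq.asIdeal := hPo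
    refine index_dvd ((w.valuation M).comap φ) d N hd (algebraMap K L (algebraMap R K ϖ))
      (q.ramificationIdx' P * p ^ b) ?_ x hx (by rw [heq]; simp [map_pow])
    have hφ : φ (algebraMap K L (algebraMap R K ϖ)) = algebraMap R M ϖ ^ p ^ b := by
      apply (algebraMap M L).injective
      rw [map_pow, IsPurelyInseparable.algebraMap_iterateFrobenius M p hexp,
        IsScalarTower.algebraMap_apply R K M, ← IsScalarTower.algebraMap_apply K M L]
    show w.valuation M (φ _) = _
    rw [hφ, map_pow, IsScalarTower.algebraMap_apply R B M, IsDedekindDomain.HeightOneSpectrum.valuation_of_algebraMap,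
      ← IsDedekindDomain.HeightOneSpectrum.intValuation_liesOver vq w,
      vq.intValuation_singleton hϖ.ne_zero
        ((IsDiscreteValuationRing.irreducible_iff_uniformizer ϖ).1 hϖ),
      ← WithZero.exp_nsmul, ← WithZero.exp_nsmul, nsmul_eq_mul, nsmul_eq_mul]
    congr 1
    push_cast
    ring
  have hsum := Ideal.sum_ramification_inertia B K M hq0
  rw [← Module.finrank_mul_finrank K M L, hb, ← hsum, Finset.sum_mul]
  refine Finset.dvd_sum fun P hP => ?_
  rw [mul_right_comm]
  exact (key P hP).mul_right _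

/-- Let R be a discrete valuation ring with fraction field K and uniformizer π, and let d, N ≥ 1.
Consider the hypersurface X in projective N-space over K defined by x_0^d = π x_1^d + π^2 x_2^d + ⋯
+ π^N x_N^d. Its index over K — the greatest common divisor of the degrees of its closed points,
equivalently of the degrees [L : K] of the finite field extensions L over which the equation has a
non-zero solution — equals I(d, N), the greatest common divisor of the quotients d/δ over the
divisors δ of d with 1 ≤ δ ≤ N. Stated as an equality of subgroups of ℤ: the subgroup generated by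
those degrees [L : K] is the subgroup generated by I(d, N). -/
theorem result (R : Type u) [CommRing R] [IsDomain R]
    [IsDiscreteValuationRing R] (K : Type u) [Field K] [Algebra R K] [IsFractionRing R K]
    (ϖ : R) (hϖ : Irreducible ϖ) (d N : ℕ) (hd : 1 ≤ d) (hN : 1 ≤ N) :
    AddSubgroup.closure {m : ℤ | ∃ (L : Type u) (_ : Field L) (_ : Algebra K L),
        FiniteDimensional K L ∧ m = (Module.finrank K L : ℤ) ∧
        ∃ x : Fin (N + 1) → L, x ≠ 0 ∧
          x 0 ^ d = ∑ i : Fin N, algebraMap K L (algebraMap R K (ϖ ^ ((i : ℕ) + 1))) * x i.succ ^ d} =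
      AddSubgroup.zmultiples ((((Finset.Icc 1 N).filter (fun δ => δ ∣ d)).gcd (fun δ => d / δ) : ℕ) : ℤ) := by
  classical
  apply le_antisymm
  · refine (AddSubgroup.closure_le _).2 ?_
    rintro m ⟨L, hfL, hKL, hfin, rfl, x, hx, heq⟩
    rw [SetLike.mem_coe, Int.mem_zmultiples_iff]
    exact Int.natCast_dvd_natCast.2 (index_dvd_finrank R K ϖ hϖ d N hd L x hx heq)
  · rw [AddSubgroup.zmultiples_le]
    obtain ⟨g, hg⟩ := Int.subgroup_cyclic (AddSubgroup.closure {m : ℤ | ∃ (L : Type u) (_ : Field L) (_ : Algebra K L),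
        FiniteDimensional K L ∧ m = (Module.finrank K L : ℤ) ∧
        ∃ x : Fin (N + 1) → L, x ≠ 0 ∧
          x 0 ^ d = ∑ i : Fin N, algebraMap K L (algebraMap R K (ϖ ^ ((i : ℕ) + 1))) * x i.succ ^ d})
    rw [← AddSubgroup.zmultiples_eq_closure] at hg
    rw [hg, Int.mem_zmultiples_iff, Int.dvd_natCast]
    refine Finset.dvd_gcd fun δ hδ => ?_
    obtain ⟨hδI, hδd⟩ := Finset.mem_filter.1 hδ
    obtain ⟨hδ1, hδN⟩ := Finset.mem_Icc.1 hδI
    rw [← Int.dvd_natCast, ← Int.mem_zmultiples_iff, ← hg]
    apply AddSubgroup.subset_closure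
    have he : 0 < d / δ := Nat.div_pos (Nat.le_of_dvd (by omega) hδd) (by omega)
    have hirr := irreducible_X_pow_sub R K ϖ hϖ (d / δ) he
    have := Fact.mk hirr
    let pb := AdjoinRoot.powerBasis hirr.ne_zero
    refine ⟨AdjoinRoot ((Polynomial.X : Polynomial K) ^ (d / δ) - Polynomial.C (algebraMap R K ϖ)),
      inferInstance, inferInstance, pb.finite, ?_, ?_⟩
    · rw [pb.finrank, AdjoinRoot.powerBasis_dim, Polynomial.natDegree_X_pow_sub_C]
    set Q := (Polynomial.X : Polynomial K) ^ (d / δ) - Polynomial.C (algebraMap R K ϖ) with hQ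
    have hroot : AdjoinRoot.root Q ^ (d / δ) = algebraMap K (AdjoinRoot Q) (algebraMap R K ϖ) := by
      have h : Polynomial.eval₂ (AdjoinRoot.of Q) (AdjoinRoot.root Q)
          ((Polynomial.X : Polynomial K) ^ (d / δ) - Polynomial.C (algebraMap R K ϖ)) = 0 :=
        AdjoinRoot.eval₂_root Q
      rw [Polynomial.eval₂_sub, Polynomial.eval₂_X_pow, Polynomial.eval₂_C, sub_eq_zero] at h
      exact h
    let i₀ : Fin N := ⟨δ - 1, by omega⟩
    refine ⟨fun i => if i = 0 then AdjoinRoot.root Q else if i = i₀.succ then 1 else 0, ?_, ?_⟩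
    · intro h
      have := congrFun h i₀.succ
      simp [Fin.succ_ne_zero] at this
    · have hd0 : d ≠ 0 := by omega
      rw [Finset.sum_eq_single i₀]
      · simp only [Fin.succ_ne_zero, if_false, if_true, one_pow, mul_one]
        rw [show ((i₀ : ℕ) + 1) = δ by simp [i₀]; omega, map_pow, map_pow, ← hroot, ← pow_mul,
          Nat.div_mul_cancel hδd]
      · intro i _ hi
        simp [Fin.succ_ne_zero, hi, zero_pow hd0]
      · simp

end Groth.Agent.S17785
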