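import Groth.Statements.S17789
import Groth.Agent.ParaLift82.PurePairLift
import Groth.Agent.ParaLift82.PurityLift
import Groth.Agent.LefAlg.Extend
import Groth.Agent.S5184
import Groth.Agent.S2947

set_option autoImplicit false
universe u
open CategoryTheory CategoryTheory.Limits AlgebraicGeometry
open Pi1

namespace Groth.Agent.S17789

set_option backward.isDefEq.respectTransparency false

open Groth.Pi1FEt Groth.ParaLift82

/-- Fully faithfulness of restriction to `V(K)` from Lefschetz. -/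
theorem restrict_ff {W : Scheme.{u}} [IsLocallyNoetherian W] (K : W.IdealSheafData) (h : Lef.LefCond W K) :
    (FEt.restrict K.subschemeι).Full ∧ (FEt.restrict K.subschemeι).Faithful := by
  obtain ⟨d, hd, hdf⟩ := LefVanish.exists_iso_of_support_le (⊤ : W.Opens) (K := K) (K' := K.comap (⊤ : W.Opens).ι)
    (fun _ _ => trivial) rfl
  obtain ⟨_, _⟩ := Groth.Agent.S2947.result W K h ⊤ (fun _ _ => trivial)
  have := Groth.Pi1Inv.isEquivalence_of_thickening d
  have : IsIso (⊤ : W.Opens).ι := (Scheme.topIso W).isIso_hom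
  let e := restrictCongr (hdf.symm.trans (Category.assoc _ _ _).symm) ≪≫
    restrictCompIso (d ≫ (K.comap (⊤ : W.Opens).ι).subschemeι) (⊤ : W.Opens).ι ≪≫
    Functor.isoWhiskerLeft _ (restrictCompIso d _)
  exact ⟨Functor.Full.of_iso e.symm, Functor.Faithful.of_iso e.symm⟩

/-- Let A be a Noetherian local ring and I an ideal for which A is I-adically complete and A/I is local;
write X = Spec A, Y = V(I) and U for the punctured spectrum. Suppose that the effective Lefschetz
condition Leff(U, U ∩ Y) holds and that for every open V of X containing U ∩ Y the pair (X, X − V)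
is pure (restriction of finite étale covers from any open W of X to W ∩ V is an equivalence). Then
A/I is pure: the pair formed by Spec(A/I) and its closed point is pure. -/
theorem result (A : Type u) [CommRing A] [IsLocalRing A] [IsNoetherianRing A] (I : Ideal A) [IsAdicComplete I A] [IsLocalRing (A ⧸ I)] (hleff : LefX.LeffCond (↑(FEt.puncturedSpec A) : Scheme.{u}) ((Spec.map (CommRingCat.ofHom (Ideal.Quotient.mk I))).ker.comap (FEt.puncturedSpec A).ι)) (hpure : ∀ V : (Spec (CommRingCat.of A)).Opens, ((Spec.map (CommRingCat.ofHom (Ideal.Quotient.mk I))).ker.support : Set ↥(Spec (CommRingCat.of A))) ∩ (FEt.puncturedSpec A : Set ↥(Spec (CommRingCat.of A))) ⊆ (V : Set ↥(Spec (CommRingCat.of A))) → SGA2.IsPurePair (Spec (CommRingCat.of A)) V) : SGA2.IsPurePair (Spec (CommRingCat.of (A ⧸ I))) (FEt.puncturedSpec (A ⧸ I)) := by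
  have hI : I ≠ ⊤ := Ideal.Quotient.nontrivial_iff.1 (inferInstance : Nontrivial (A ⧸ I))
  have : HenselianRing A I := inferInstance
  have hq : (FEt.restrict (quotMap I)).IsEquivalence := Groth.Pi1Inv.restrict_isEquivalence A I
  have hU : (FEt.restrict (FEt.puncturedSpec A).ι).IsEquivalence :=
    (isPurePair_punctured_iff A).1 (hpure _ Set.inter_subset_right)
  let β : (↑(FEt.puncturedSpec (A ⧸ I)) : Scheme.{u}) ≅ (closedIdeal (FEt.puncturedSpec A) I).subscheme :=
    (SpB (A ⧸ I)).isoOfEq (quotMap_preimage_punctured hI).symm ≪≫ asIso (toClosed (FEt.puncturedSpec A) I)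
  have hβ : (β.hom ≫ (closedIdeal (FEt.puncturedSpec A) I).subschemeι) ≫ (FEt.puncturedSpec A).ι =
      (FEt.puncturedSpec (A ⧸ I)).ι ≫ quotMap I := by
    simp only [β, Iso.trans_hom, asIso_hom, Category.assoc]
    rw [← Category.assoc (toClosed _ _), toClosed_ι, morphismRestrict_ι, Scheme.isoOfEq_hom_ι_assoc]
  obtain ⟨_, _⟩ := restrict_ff (closedIdeal (FEt.puncturedSpec A) I) hleff.1
  let eG : FEt.restrict (quotMap I) ⋙ FEt.restrict (FEt.puncturedSpec (A ⧸ I)).ι ≅
      FEt.restrict (FEt.puncturedSpec A).ι ⋙ FEt.restrict (closedIdeal (FEt.puncturedSpec A) I).subschemeι ⋙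
        FEt.restrict β.hom :=
    (restrictCompIso _ _).symm ≪≫ restrictCongr hβ.symm ≪≫ restrictCompIso _ _ ≪≫
      Functor.isoWhiskerLeft _ (restrictCompIso _ _)
  -- essential surjectivity
  have : (FEt.restrict (quotMap I) ⋙ FEt.restrict (FEt.puncturedSpec (A ⧸ I)).ι).EssSurj := ⟨fun R => by
    obtain ⟨V, R', hV, hR'⟩ := Groth.Agent.S5184.result _ _ hleff ((FEt.restrict β.inv).obj R)
    let i := IsOpenImmersion.lift V.ι (closedIdeal (FEt.puncturedSpec A) I).subschemeι (by
      rw [Scheme.IdealSheafData.range_subschemeι, Scheme.Opens.range_ι]; exact hV)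
    have hi : i ≫ V.ι = (closedIdeal (FEt.puncturedSpec A) I).subschemeι := IsOpenImmersion.lift_fac _ _ _
    let V' : (SpB A).Opens := (FEt.puncturedSpec A).ι ''ᵁ V
    have hV' : ((Spec.map (CommRingCat.ofHom (Ideal.Quotient.mk I))).ker.support : Set ↥(SpB A)) ∩
        (FEt.puncturedSpec A : Set ↥(SpB A)) ⊆ (V' : Set ↥(SpB A)) := by
      rintro x ⟨hx, hxU⟩
      refine ⟨⟨x, hxU⟩, hV ?_, rfl⟩
      rw [Scheme.IdealSheafData.support_comap]
      exact hx
    let ψ : (V : Scheme.{u}) ≅ (((⊤ : (SpB A).Opens) ⊓ V' : (SpB A).Opens) : Scheme.{u}) :=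
      (FEt.puncturedSpec A).ι.isoImage V ≪≫ (SpB A).isoOfEq (top_inf_eq V').symm
    have hψ : V.ι ≫ (FEt.puncturedSpec A).ι =
        (ψ.hom ≫ (SpB A).homOfLE (inf_le_left : (⊤ : (SpB A).Opens) ⊓ V' ≤ ⊤)) ≫ (⊤ : (SpB A).Opens).ι := by
      simp [ψ]
    have h1 := hpure V' hV' ⊤
    have : IsIso (⊤ : (SpB A).Opens).ι := (Scheme.topIso (SpB A)).isIso_hom
    have : (FEt.restrict (V.ι ≫ (FEt.puncturedSpec A).ι)).IsEquivalence :=
      Functor.isEquivalence_of_iso ((restrictCongr hψ).trans (restrictCompIso _ _ ≪≫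
        Functor.isoWhiskerLeft _ (restrictCompIso _ _))).symm
    let R'' := (FEt.restrict (V.ι ≫ (FEt.puncturedSpec A).ι)).objPreimage R'
    obtain ⟨e2⟩ := hR' i hi
    refine ⟨R'', ⟨eG.app R'' ≪≫ (FEt.restrict β.hom).mapIso
      ((restrictCongr hi.symm ≪≫ restrictCompIso i V.ι).app _ ≪≫
        (FEt.restrict i).mapIso (((restrictCompIso V.ι (FEt.puncturedSpec A).ι).app R'').symm ≪≫
          (FEt.restrict (V.ι ≫ (FEt.puncturedSpec A).ι)).objObjPreimageIso R') ≪≫ e2) ≪≫
      ((restrictCompIso β.hom β.inv).symm ≪≫ restrictCongr β.hom_inv_id ≪≫ restrictIdIso _).app R⟩⟩⟩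
  have : (FEt.restrict (quotMap I) ⋙ FEt.restrict (FEt.puncturedSpec (A ⧸ I)).ι).Full :=
    Functor.Full.of_iso eG.symm
  have : (FEt.restrict (quotMap I) ⋙ FEt.restrict (FEt.puncturedSpec (A ⧸ I)).ι).Faithful :=
    Functor.Faithful.of_iso eG.symm
  have : (FEt.restrict (quotMap I) ⋙ FEt.restrict (FEt.puncturedSpec (A ⧸ I)).ι).IsEquivalence := { }
  exact (isPurePair_punctured_iff (A ⧸ I)).2 (Functor.isEquivalence_of_comp_left (FEt.restrict (quotMap I)) _)

end Groth.Agent.S17789
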