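import Groth.Statements.S1779
import Groth.Agent.DualCore.FlatRadical
import Groth.Agent.Calg1.Completion
import Groth.Agent.AdicLinTop.CompletionQuot
import Mathlib.RingTheory.AdicCompletion.AsTensorProduct

set_option autoImplicit false
universe u
open CategoryTheory
attribute [local instance] HasDerivedCategory.standard
open Dual

namespace Groth.Agent.S1779

/-- Let A be a Noetherian ring, I an ideal and ω a dualizing complex for A. Assuming the derived base
change functor to the I-adic completion exists, the base change of ω is a dualizing complex for the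
I-adic completion of A. -/
theorem result (A : Type u) [CommRing A] [IsNoetherianRing A] (I : Ideal A) [DRing.HasLBaseChange (algebraMap A (AdicCompletion I A))] (ω : Dual.D A) (hω : Dual.IsDualizing A ω) : Dual.IsDualizing (AdicCompletion I A) ((DRing.LBaseChange (algebraMap A (AdicCompletion I A))).obj ω) := by
  have hI : I.FG := IsNoetherian.noetherian I
  haveI : IsNoetherianRing (AdicCompletion I A) := Groth.Calg1.isNoetherianRing_adicCompletion I hI
  haveI := Groth.AdicLinTop.CompletionQuot.isAdicComplete_map I hI
  refine Groth.DualCore.isDualizing_of_iso ((Groth.DualCore.LBaseChangeIso A (AdicCompletion I A)).app ω).symm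
    (Groth.DualCore.isDualizing_extD_of_iso_mod hω I (fun y => ?_) (IsAdicComplete.le_jacobson_bot _))
  obtain ⟨x, rfl⟩ := Ideal.Quotient.mk_surjective y
  obtain ⟨r, hr⟩ := Ideal.Quotient.mk_surjective (AdicCompletion.evalₐ I 1 x)
  refine ⟨r, Ideal.Quotient.eq.2 ?_⟩
  rw [← pow_one (I.map _), ← Groth.AdicLinTop.CompletionQuot.ker_evalₐ I hI 1, RingHom.mem_ker]
  simp [map_sub, Groth.AdicLinTop.CompletionQuot.evalₐ_algebraMap, hr]

end Groth.Agent.S1779
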