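import Groth.Statements.S2946
import Groth.Agent.SGA7.ClopenSection
import Groth.Agent.LocFree.Basic

set_option autoImplicit false
universe u
open CategoryTheory CategoryTheory.Limits AlgebraicGeometry
open Lef

namespace Groth.Agent.S2946
open Opposite TopologicalSpace Groth.SGA7 in
/-- The value at `1` of a morphism out of the structure module. -/
noncomputable def val1 {Y : Scheme.{u}} {M : Y.Modules} (φ : Coh.structureModule Y ⟶ M) : M.val.obj (Opposite.op ⊤) :=
  φ.val.app (Opposite.op ⊤) (1 : Γ(Y, ⊤))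

theorem val1_ext {Y : Scheme.{u}} {M : Y.Modules} {φ ψ : Coh.structureModule Y ⟶ M} (h : val1 φ = val1 ψ) :
    φ = ψ := by
  refine (SheafOfModules.unitHomEquiv M).injective (Subtype.ext (funext fun W => ?_))
  have key : ∀ s : M.sections, s.1 W = M.val.map (homOfLE (le_top : W.unop ≤ ⊤)).op (s.1 (Opposite.op ⊤)) :=
    fun s => (PresheafOfModules.sections_property s _).symm
  rw [key, key]
  exact congrArg _ h

theorem exists_val1 {Y : Scheme.{u}} (M : Y.Modules) (e : M.val.obj (Opposite.op ⊤)) :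
    ∃ φ : Coh.structureModule Y ⟶ M, val1 φ = e := by
  let s : M.sections := PresheafOfModules.sectionsMk
    (fun W => M.val.map (homOfLE (le_top : W.unop ≤ ⊤)).op e) (fun W V i => by
      exact (PresheafOfModules.map_comp_apply M.val _ i e).symm)
  refine ⟨(SheafOfModules.unitHomEquiv M).symm s, ?_⟩
  have h : ((SheafOfModules.unitHomEquiv M).symm s).val.app (Opposite.op ⊤) (1 : Γ(Y, ⊤)) =
      s.1 (Opposite.op ⊤) := congrArg (fun t : M.sections => t.1 (Opposite.op ⊤))
    ((SheafOfModules.unitHomEquiv M).apply_symm_apply s)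
  refine h.trans ?_
  exact congrArg (fun g => g e) (M.val.map_id (Opposite.op ⊤))

theorem val1_comp_toSubscheme {Y : Scheme.{u}} (I : Y.IdealSheafData)
    (φ : Coh.structureModule Y ⟶ Coh.structureModule Y) :
    val1 (φ ≫ ClSub.toSubscheme I) = I.subschemeι.appTop (val1 φ) := rfl

theorem val1_comp_quotMap {Y : Scheme.{u}} {I J : Y.IdealSheafData} (h : I ≤ J)
    (y : Coh.structureModule Y ⟶ ClSub.quotMod I) :
    val1 (y ≫ Lef.quotMap h) = (Scheme.IdealSheafData.inclusion h).appTop (val1 y) := by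
  let Z := Coh.structureModule J.subscheme
  show ((Scheme.Modules.pushforwardCongr (Scheme.IdealSheafData.inclusion_subschemeι h)).hom.app Z).app ⊤
    (((Scheme.Modules.pushforwardComp (Scheme.IdealSheafData.inclusion h) I.subschemeι).hom.app Z).app ⊤
      (((Scheme.Modules.pushforward I.subschemeι).map (ClSub.unitToPush (Scheme.IdealSheafData.inclusion h))).app ⊤
        (val1 y))) = _
  rw [Scheme.Modules.pushforwardCongr_hom_app_app (M := Z) (Scheme.IdealSheafData.inclusion_subschemeι h) ⊤]
  set w := ((Scheme.Modules.pushforward I.subschemeι).map (ClSub.unitToPush (Scheme.IdealSheafData.inclusion h))).app ⊤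
        (val1 y) with hw
  refine Eq.trans ?_ (b := w) rfl
  exact DFunLike.congr_fun (congrArg ConcreteCategory.hom (Z.presheaf.map_id (Opposite.op ⊤))) w

open TopologicalSpace Groth.SGA7 in
theorem main_aux {Y : Scheme.{u}} (J : Y.IdealSheafData)
    (h : Lef.HomToFormalBijective J (Coh.structureModule Y)) :
    ConnectedSpace (J.support : Set Y) ↔ ConnectedSpace Y := by
  obtain ⟨hinj, hsurj⟩ := h
  have inj : ∀ s t : Γ(Y, ⊤), (∀ n : ℕ, (J ^ (n + 1)).subschemeι.appTop s = (J ^ (n + 1)).subschemeι.appTop t) →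
      s = t := by
    intro s t hst
    obtain ⟨φ, rfl⟩ := exists_val1 (Coh.structureModule Y) s
    obtain ⟨ψ, rfl⟩ := exists_val1 (Coh.structureModule Y) t
    exact congrArg val1 (hinj φ ψ fun n => val1_ext (by
      rw [val1_comp_toSubscheme, val1_comp_toSubscheme]; exact hst n))
  have hr : ∀ n : ℕ, Set.range (J ^ (n + 1)).subschemeι = (J.support : Set Y) := fun n => by
    rw [Scheme.IdealSheafData.range_subschemeι, Scheme.IdealSheafData.support_pow_succ]
  constructor
  · intro hY
    obtain ⟨⟨y₀, hy₀⟩⟩ := hY.toNonempty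
    refine connectedSpace_iff_clopen.2 ⟨⟨y₀⟩, ?_⟩
    -- a clopen subset missing `Y` is empty
    have key : ∀ V : Set Y, IsClopen V → Disjoint V (J.support : Set Y) → V = ∅ := by
      intro V hV hd
      obtain ⟨e, he⟩ := ClopenSection.exists_isInd (⟨V, hV.isOpen⟩ : Opens Y) ⟨Vᶜ, hV.isClosed.isOpen_compl⟩
        (Opens.ext (Set.union_compl_self V)) disjoint_compl_right
      have h0 : e = 0 := by
        refine inj e 0 fun n => ?_
        rw [map_zero]
        have hpre : (J ^ (n + 1)).subschemeι ⁻¹ᵁ (⟨V, hV.isOpen⟩ : Opens Y) = ⊥ := Opens.ext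
          (Set.eq_empty_iff_forall_notMem.mpr fun z hz =>
            Set.disjoint_left.mp hd hz ((hr n).subset ⟨z, rfl⟩))
        have := he.comap (J ^ (n + 1)).subschemeι hV.isClosed
        rw [hpre] at this
        exact this.ext (by simp) ClopenSection.isInd_zero
      exact congrArg (fun O : Opens Y => (O : Set Y)) (he.eq_bot_of_eq_zero h0)
    intro V hV
    have : IsClopen ((fun z : (J.support : Set Y) => z.1) ⁻¹' V) := hV.preimage continuous_subtype_val
    rcases isClopen_iff.mp this with h1 | h1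
    · refine Or.inl (key V hV (Set.disjoint_left.mpr fun z hz hz' => ?_))
      exact (h1.subset (show (⟨z, hz'⟩ : (J.support : Set Y)) ∈ _ ⁻¹' V from hz) : _)
    · refine Or.inr (Set.compl_empty_iff.mp (key Vᶜ hV.compl (Set.disjoint_left.mpr fun z hz hz' => ?_)))
      exact hz (h1.symm.subset (Set.mem_univ (⟨z, hz'⟩ : (J.support : Set Y))))
  · intro hY
    have hne : (J.support : Set Y).Nonempty := by
      by_contra hemp
      have h10 : (1 : Γ(Y, ⊤)) = 0 := inj 1 0 fun n => by
        haveI : IsEmpty ↥(J ^ (n + 1)).subscheme := ⟨fun z => hemp ⟨_, (hr n).subset ⟨z, rfl⟩⟩⟩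
        exact Subsingleton.elim _ _
      obtain ⟨y⟩ := hY.toNonempty
      have := congrArg (Y.presheaf.germ ⊤ y (show y ∈ (⊤ : Opens Y) from trivial)) h10
      rw [map_one, map_zero] at this
      exact one_ne_zero this
    refine connectedSpace_iff_clopen.2 ⟨hne.to_subtype, fun A hA => ?_⟩
    let pr : ∀ n : ℕ, ↥(J ^ (n + 1)).subscheme → (J.support : Set Y) := fun n z =>
      ⟨(J ^ (n + 1)).subschemeι z, (hr n).subset ⟨z, rfl⟩⟩
    have hpr : ∀ n, IsClopen (pr n ⁻¹' A) := fun n => hA.preimage ((J ^ (n + 1)).subschemeι.continuous.subtype_mk _)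
    let O : ∀ n, Opens ↥(J ^ (n + 1)).subscheme := fun n => ⟨pr n ⁻¹' A, (hpr n).isOpen⟩
    have he : ∀ n, ∃ e, ClopenSection.IsInd (O n) e := fun n => ClopenSection.exists_isInd (O n)
      ⟨(pr n ⁻¹' A)ᶜ, (hpr n).isClosed.isOpen_compl⟩ (Opens.ext (Set.union_compl_self _)) disjoint_compl_right
    choose e he using he
    have hy : ∀ n, ∃ φ : Coh.structureModule Y ⟶ ClSub.quotMod (J ^ (n + 1)), val1 φ = e n :=
      fun n => exists_val1 _ _
    choose y hy using hy
    obtain ⟨φ, hφ⟩ := hsurj y fun n => val1_ext (by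
      rw [val1_comp_quotMap, hy, hy]
      have hpre : Scheme.IdealSheafData.inclusion (Lef.pow_succ_le J n) ⁻¹ᵁ O (n + 1) = O n := by
        refine Opens.ext (Set.ext fun z => ?_)
        show pr (n + 1) (Scheme.IdealSheafData.inclusion (Lef.pow_succ_le J n) z) ∈ A ↔ pr n z ∈ A
        rw [show pr (n + 1) (Scheme.IdealSheafData.inclusion (Lef.pow_succ_le J n) z) = pr n z from Subtype.ext
          (congrArg (fun q => q.base z) (Scheme.IdealSheafData.inclusion_subschemeι (Lef.pow_succ_le J n)))]
      have := (he (n + 1)).comap (Scheme.IdealSheafData.inclusion (Lef.pow_succ_le J n)) (hpr (n + 1)).isClosed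
      rw [hpre] at this
      exact this.ext (hpr n).isClosed (he n))
    have hφ' : ∀ n, (J ^ (n + 1)).subschemeι.appTop (val1 φ) = e n := fun n => by
      rw [← val1_comp_toSubscheme, hφ, hy]
    let s : Γ(Y, ⊤) := val1 φ
    have hs2 : s * s = s := inj _ _ fun n => by
      rw [map_mul, hφ']; exact (he n).sq (hpr n).isClosed
    have hpre0 : ∀ z : (J.support : Set Y), ∃ w, pr 0 w = z := fun z => by
      obtain ⟨w, hw⟩ := (hr 0).symm.subset z.2
      exact ⟨w, Subtype.ext hw⟩
    rcases ClopenSection.eq_zero_or_one hs2 with h0 | h1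
    · refine Or.inl (Set.eq_empty_iff_forall_notMem.mpr fun z hz => ?_)
      obtain ⟨w, rfl⟩ := hpre0 z
      have := (he 0).eq_bot_of_eq_zero ((hφ' 0).symm.trans ((congrArg (J ^ (0 + 1)).subschemeι.appTop.hom h0).trans (map_zero _)))
      exact (SetLike.ext_iff.mp this w).mp hz
    · refine Or.inr (Set.eq_univ_iff_forall.mpr fun z => ?_)
      obtain ⟨w, rfl⟩ := hpre0 z
      have := (he 0).eq_top_of_eq_one (hpr 0).isClosed ((hφ' 0).symm.trans ((congrArg (J ^ (0 + 1)).subschemeι.appTop.hom h1).trans (map_one _)))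
      exact (SetLike.ext_iff.mp this w).mpr trivial

theorem main (X : Scheme.{u}) [IsLocallyNoetherian X] (𝓘 : X.IdealSheafData) (h : Lef.LefCond X 𝓘) (U : X.Opens)
    (hU : (𝓘.support : Set X) ⊆ (U : Set X)) : ConnectedSpace (𝓘.support : Set X) ↔ ConnectedSpace U := by
  have hmain := main_aux (𝓘.comap U.ι) (h U hU _ (Groth.LocFree.isFinLocFree_unit _))
  have hmem : ∀ z : (U : Scheme.{u}), z ∈ ((𝓘.comap U.ι).support : Set (U : Scheme.{u})) ↔ z.1 ∈ (𝓘.support : Set X) :=
    fun z => by rw [Scheme.IdealSheafData.support_comap]; rfl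
  let ψ : ((𝓘.comap U.ι).support : Set (U : Scheme.{u})) ≃ₜ (𝓘.support : Set X) :=
    { toFun := fun z => ⟨z.1.1, (hmem z.1).mp z.2⟩
      invFun := fun z => ⟨⟨z.1, hU z.2⟩, (hmem ⟨z.1, hU z.2⟩).mpr z.2⟩
      left_inv := fun _ => rfl
      right_inv := fun _ => rfl
      continuous_toFun := (U.ι.continuous.comp continuous_subtype_val).subtype_mk _
      continuous_invFun := ((continuous_subtype_val.subtype_mk _).subtype_mk _) }
  rw [← ψ.connectedSpace_iff]
  exact hmain


/-- Let X be a locally Noetherian scheme and 𝓘 a quasi-coherent ideal sheaf with Y = V(𝓘), and suppose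
Lef(X, Y) holds (this prelude's Lef.LefCond). Then for every open U of X containing Y, Y is
connected if and only if U is connected. -/
theorem result (X : Scheme.{u}) [IsLocallyNoetherian X] (𝓘 : X.IdealSheafData) (h : Lef.LefCond X 𝓘) (U : X.Opens) (hU : (𝓘.support : Set X) ⊆ (U : Set X)) : ConnectedSpace (𝓘.support : Set X) ↔ ConnectedSpace U := by
  exact main X 𝓘 h U hU

end Groth.Agent.S2946
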