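import Groth.Statements.S17790
import Groth.Agent.S2946
import Mathlib.AlgebraicGeometry.Morphisms.UniversallyOpen
import Mathlib.AlgebraicGeometry.Morphisms.FlatMono
import Groth.Agent.Pi1FEt.Colimits
-- import your own Groth.Agent.* helpers here

set_option autoImplicit false
set_option backward.isDefEq.respectTransparency false
set_option backward.defeqAttrib.useBackward true
set_option linter.style.haveILetI false
universe u
open CategoryTheory CategoryTheory.Limits AlgebraicGeometry
open Pi1
open AlgebraicGeometry CategoryTheory CategoryTheory.Limits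

namespace Groth.Agent.S17790

/-- Let A be a Noetherian local ring and I an ideal for which A is I-adically complete and A/I is local;
write X = Spec A, Y = V(I) and U for the punctured spectrum. Suppose that A is pure (the pair formed
by X and its closed point is pure) and that the effective Lefschetz condition Leff(U, U ∩ Y) holds.
Then Y minus the closed point, i.e. U ∩ Y, is a connected (nonempty) subset of X. -/
theorem result (A : Type u) [CommRing A] [IsLocalRing A] [IsNoetherianRing A] (I : Ideal A) [IsAdicComplete I A] [IsLocalRing (A ⧸ I)] (hpure : SGA2.IsPurePair (Spec (CommRingCat.of A)) (FEt.puncturedSpec A)) (hleff : LefX.LeffCond (↑(FEt.puncturedSpec A) : Scheme.{u}) ((Spec.map (CommRingCat.ofHom (Ideal.Quotient.mk I))).ker.comap (FEt.puncturedSpec A).ι)) : IsConnected (((Spec.map (CommRingCat.ofHom (Ideal.Quotient.mk I))).ker.support : Set ↥(Spec (CommRingCat.of A))) ∩ (FEt.puncturedSpec A : Set ↥(Spec (CommRingCat.of A)))) := by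
  haveI hXconn : PreconnectedSpace ↥(Spec (CommRingCat.of A)) := preconnectedSpace_iff_clopen.2 fun C hC => by
    by_cases h : (IsLocalRing.closedPoint A : PrimeSpectrum A) ∈ C
    · exact Or.inr (Set.eq_univ_of_forall fun z => (IsLocalRing.specializes_closedPoint z).mem_open hC.2 h)
    · exact Or.inl (Set.eq_empty_of_forall_notMem fun z hz =>
        h ((IsLocalRing.specializes_closedPoint z).mem_closed hC.1 hz))
  let X := Spec (CommRingCat.of A)
  let U := FEt.puncturedSpec A
  have hequiv : (FEt.restrict U.ι).IsEquivalence := by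
    have := hpure ⊤
    haveI := this
    let e₁ : (U : Scheme.{u}) ⟶ ((⊤ ⊓ U : X.Opens) : Scheme.{u}) := (X.isoOfEq (top_inf_eq U).symm).hom
    have h1 : U.ι = e₁ ≫ X.homOfLE (inf_le_left : (⊤ : X.Opens) ⊓ U ≤ ⊤) ≫ X.topIso.hom := by
      simp [e₁]
    haveI : (FEt.restrict e₁).IsEquivalence :=
      (Groth.Pi1FEt.restrictEquivOfIso (X.isoOfEq (top_inf_eq U).symm)).isEquivalence_functor
    haveI : (FEt.restrict X.topIso.hom).IsEquivalence :=
      (Groth.Pi1FEt.restrictEquivOfIso X.topIso).isEquivalence_functor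
    exact Functor.isEquivalence_of_iso ((Groth.Pi1FEt.restrictCongr h1 ≪≫ Groth.Pi1FEt.restrictCompIso _ _ ≪≫
      Functor.isoWhiskerRight (Groth.Pi1FEt.restrictCompIso _ _) _).symm)
  have hne : Nonempty ↥(U : Scheme.{u}) := by
    by_contra hemp
    rw [not_nonempty_iff] at hemp
    have hprop₀ : FEt.prop.{u} ((⊥ : X.Opens).ι) := by
      haveI : IsClosedImmersion (⊥ : X.Opens).ι := IsClosedImmersion.of_isPreimmersion _
        (by rw [Scheme.Opens.range_ι]; exact isClosed_empty)
      exact ⟨inferInstance, inferInstance⟩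
    let O : FEt.Cat X := MorphismProperty.Over.mk ⊤ (⊥ : X.Opens).ι hprop₀
    let T : FEt.Cat X := MorphismProperty.Over.mk ⊤ (𝟙 X) (MorphismProperty.id_mem _ _)
    let F := FEt.restrict U.ι
    haveI : IsEmpty ↥(F.obj T).left := ⟨fun z => hemp.false ((F.obj T).hom z)⟩
    haveI : IsEmpty ↥(F.obj O).left := ⟨fun z => hemp.false ((F.obj O).hom z)⟩
    let φ : F.obj T ⟶ F.obj O := MorphismProperty.Over.homMk
      (isInitialOfIsEmpty.to _) (isInitialOfIsEmpty.hom_ext _ _)
    obtain ⟨ψ, -⟩ := F.map_surjective φ
    exact (show (⊥ : X.Opens) → False from fun z => z.2) (ψ.left (IsLocalRing.closedPoint A : ↥X))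
  have hUconn : ConnectedSpace ↥(U : Scheme.{u}) := by
    refine connectedSpace_iff_clopen.2 ⟨hne, fun V hV => ?_⟩
    let W : (U : Scheme.{u}).Opens := ⟨V, hV.2⟩
    haveI : IsClosedImmersion W.ι := by
      refine IsClosedImmersion.of_isPreimmersion W.ι ?_
      rw [Scheme.Opens.range_ι]
      exact hV.1
    obtain ⟨Y, ⟨ε⟩⟩ := Functor.EssSurj.mem_essImage (F := FEt.restrict U.ι)
      (MorphismProperty.Over.mk ⊤ W.ι (⟨inferInstance, inferInstance⟩ : FEt.prop.{u} W.ι))
    haveI : IsFinite Y.hom := Y.prop.1
    haveI : Etale Y.hom := Y.prop.2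
    let y : Y.left ⟶ X := Y.hom
    have hr : IsClopen (Set.range y) := ⟨y.isClosedMap.isClosed_range, y.isOpenMap.isOpen_range⟩
    have hV' : V = Set.range (pullback.snd y U.ι) := by
      let e := (MorphismProperty.Over.forget FEt.prop.{u} ⊤ _ ⋙ Over.forget _).mapIso ε
      have he : e.hom ≫ W.ι = pullback.snd y U.ι := MorphismProperty.Over.w ε.hom
      have hce : Set.range (e.hom ≫ W.ι) = Set.range W.ι :=
        Function.Surjective.range_comp e.hom.surjective W.ι
      rw [← he]
      exact ((Scheme.Opens.range_ι W).symm.trans hce.symm)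
    rw [Scheme.Pullback.range_snd] at hV'
    rcases isClopen_iff.1 hr with h | h
    · exact Or.inl (hV'.trans (by rw [h, Set.preimage_empty]))
    · exact Or.inr (hV'.trans (by rw [h, Set.preimage_univ]))
  haveI : IsLocallyNoetherian (U : Scheme.{u}) := LocallyOfFiniteType.isLocallyNoetherian U.ι
  let J := (Spec.map (CommRingCat.ofHom (Ideal.Quotient.mk I))).ker.comap U.ι
  have hY : ConnectedSpace (J.support : Set ↥(U : Scheme.{u})) := by
    refine (Groth.Agent.S2946.main (U : Scheme.{u}) J hleff.1 ⊤ (Set.subset_univ _)).2 ?_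
    exact (Scheme.homeoOfIso (U : Scheme.{u}).topIso).connectedSpace_iff.2 hUconn
  have hY' : _root_.IsConnected (J.support : Set ↥(U : Scheme.{u})) := isConnected_iff_connectedSpace.2 hY
  have hY'' := hY'.image U.ι U.ι.continuous.continuousOn
  have hsupp : U.ι '' (J.support : Set ↥(U : Scheme.{u})) =
      ((Spec.map (CommRingCat.ofHom (Ideal.Quotient.mk I))).ker.support : Set ↥X) ∩ (U : Set ↥X) := by
    rw [Scheme.IdealSheafData.support_comap]
    rw [← Scheme.Opens.range_ι U]
    rw [TopologicalSpace.Closeds.coe_preimage]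
    exact Set.image_preimage_eq_inter_range
  exact hsupp ▸ hY''

end Groth.Agent.S17790
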