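import Groth.Statements.S17794
import Groth.Agent.GitQuot.QuotSheaf
import Groth.Agent.S16684
import Groth.Agent.AlgGrp1.Extension
import Groth.Agent.AlgSp2.FlatFibreScheme
import Groth.Agent.SpectralTopology.FpCancel

set_option autoImplicit false
universe u
open CategoryTheory CategoryTheory.Limits MonoidalCategory CartesianMonoidalCategory MonObj GrpObj AlgebraicGeometry
open GrpSch

namespace Groth.Agent.S17794

/-- Let S be a scheme and f : G → H a homomorphism of S-group schemes, both of finite presentation over
S (locally of finite presentation, quasi-compact and quasi-separated), and let i : N → G be the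
kernel of f (the square formed by i, f, the unit section of H and N → S is cartesian). Then f is
faithfully flat (flat and surjective) if and only if the map of representable sheaves h_G → h_H
induced by f on the big fppf site of S is an epimorphism of sheaves of sets and N is flat over S. -/
theorem result {S : Scheme.{u}} {G H N : Over S} [GrpObj G] [GrpObj H] (f : G ⟶ H) [IsMonHom f] [LocallyOfFinitePresentation G.hom] [QuasiCompact G.hom] [QuasiSeparated G.hom] [LocallyOfFinitePresentation H.hom] [QuasiCompact H.hom] [QuasiSeparated H.hom] (i : N ⟶ G) (hi : AlgGrp.IsKernel i f) : (Flat f.left ∧ Surjective f.left) ↔ (Epi (QuotSh.repMap Scheme.fppfPrecoverage f) ∧ Flat N.hom) := by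
  have : LocallyOfFinitePresentation (f.left ≫ H.hom) := by rw [Over.w]; infer_instance
  have : LocallyOfFinitePresentation f.left := Groth.SpectralTopology.lfp_of_comp f.left H.hom
  refine ⟨fun ⟨h1, h2⟩ => ⟨Groth.QuotSheaf.epi_repMap f, ?_⟩, fun ⟨he, hN⟩ => ?_⟩
  · have : IsPullback i.left N.hom f.left η[H].left := IsPullback.map (Over.forget S) hi
    exact MorphismProperty.of_isPullback this h1
  have hls : Presheaf.IsLocallySurjective (QuotSh.J Scheme.fppfPrecoverage S)
      (Functor.whiskerRight (yoneda.map f) uliftFunctor.{u + 1, u}) := by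
    have : Sheaf.IsLocallySurjective (QuotSh.repMap Scheme.fppfPrecoverage f) :=
      (Sheaf.isLocallySurjective_iff_epi _).2 he
    exact (Presheaf.isLocallySurjective_presheafToSheaf_map_iff _ _).1 this
  obtain ⟨I, V, g, hg, T, e, c, hec, hglue, hext, hc1, hc2, hc3⟩ :=
    Groth.Agent.S16684.exists_single_cover
      (hls.imageSieve_mem (U := H) (ULift.up (𝟙 H)))
  have hlift : ∀ j, ∃ y : V j ⟶ G, y ≫ f = g j := fun j => by
    obtain ⟨y, hy⟩ := hg j
    exact ⟨y.down, (congrArg ULift.down hy).trans (show g j ≫ 𝟙 H = g j from Category.comp_id (g j))⟩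
  choose y hy using hlift
  obtain ⟨x, hx⟩ := hglue y
  have hxf : x ≫ f = c := hext _ _ fun j => by rw [← Category.assoc, hx, hy, hec]
  have hsurj : Surjective f.left := ⟨fun w => by
    obtain ⟨t, rfl⟩ := c.left.surjective w
    exact ⟨x.left t, congr(($hxf).left.base t)⟩⟩
  refine ⟨?_, hsurj⟩
  -- the base change of `f` along `c` is `T × N → T`
  have hsq : IsPullback (pullback.fst T.hom N.hom) (lift (fst T N ≫ x) (snd T N) ≫ (fst G N * (snd G N ≫ i))).left
      c.left f.left := by
    have h1 : IsPullback (fst T N) (lift (fst T N ≫ x) (snd T N)) x (fst G N) := by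
      refine IsPullback.of_isLimit' ⟨by rw [lift_fst]⟩
        (PullbackCone.IsLimit.mk _ (fun s => lift s.fst (s.snd ≫ snd G N)) (fun s => lift_fst _ _) (fun s => ?_) fun s m h1 h2 => ?_)
      · apply CartesianMonoidalCategory.hom_ext
        · rw [Category.assoc, lift_fst, ← Category.assoc, lift_fst]; exact s.condition
        · rw [Category.assoc, lift_snd, lift_snd]
      · apply CartesianMonoidalCategory.hom_ext
        · rw [lift_fst, h1]
        · rw [lift_snd, ← h2, Category.assoc, lift_snd]
    have h2 := (h1.paste_vert (Groth.AlgGrp1.IsKernel.isPullback_mul hi).flip.flip).map (Over.forget S)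
    rw [hxf] at h2
    exact h2
  have hflat : Flat (pullback.fst T.hom N.hom) :=
    MorphismProperty.of_isPullback (IsPullback.of_hasPullback T.hom N.hom).flip hN
  refine Flat.of_stalkMap _ fun p => ?_
  obtain ⟨t, ht⟩ := c.left.surjective (f.left p)
  obtain ⟨z, -, hz⟩ := Scheme.exists_preimage_of_isPullback hsq t p ht
  have hm : Flat (lift (fst T N ≫ x) (snd T N) ≫ (fst G N * (snd G N ≫ i))).left :=
    MorphismProperty.of_isPullback hsq hc1
  rw [← hz]
  refine Groth.AlgSp2.FlatFib.flat_at_of_comp _ f.left z (Flat.stalkMap _ z) ?_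
  rw [← hsq.w]
  exact Groth.AlgSp2.FlatFib.flat_at_comp _ c.left z (Flat.stalkMap _ z) (Flat.stalkMap _ _)

end Groth.Agent.S17794
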