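import Groth.Statements.S17797
import Mathlib

set_option autoImplicit false
universe u
open CAlg

namespace Groth.Agent.S17797

set_option maxHeartbeats 1000000 in
/-- Suppose k is a field of characteristic zero and S is a local domain that is an essentially
finite-type k-algebra. Then there are an extension field K of k, a K-algebra A of finite type and a
maximal ideal m of A such that S is isomorphic over k to the localization A_m. -/
theorem result (k : Type u) [Field k] [CharZero k] (S : Type u) [CommRing S] [IsDomain S] [IsLocalRing S] [Algebra k S] [Algebra.EssFiniteType k S] : ∃ (K : Type u) (_ : Field K) (_ : Algebra k K) (A : Type u) (_ : CommRing A) (_ : Algebra K A) (_ : Algebra k A) (_ : IsScalarTower k K A) (_ : Algebra.FiniteType K A) (m : Ideal A) (_ : m.IsMaximal), Nonempty (S ≃ₐ[k] Localization.AtPrime m) := by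
  classical
  let π : S →ₐ[k] IsLocalRing.ResidueField S := IsScalarTower.toAlgHom k S _
  have hπsurj : Function.Surjective π := IsLocalRing.residue_surjective
  have hπ0 : ∀ z : S, π z = 0 ↔ ¬ IsUnit z := fun z => by
    show IsLocalRing.residue S z = 0 ↔ _
    rw [IsLocalRing.residue_eq_zero_iff]
    exact IsLocalRing.mem_maximalIdeal z
  obtain ⟨ι, x, hx⟩ := exists_isTranscendenceBasis' k (IsLocalRing.ResidueField S)
  choose t ht using fun i => hπsurj (x i)
  let g : MvPolynomial ι k →ₐ[k] S := MvPolynomial.aeval t
  have hπg : π.comp g = MvPolynomial.aeval x := MvPolynomial.algHom_ext fun i => by simp [g, ht]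
  have hg : ∀ q : nonZeroDivisors (MvPolynomial ι k), IsUnit (g q) := fun q => by
    by_contra h
    have h0 : MvPolynomial.aeval x (q : MvPolynomial ι k) = 0 := by
      rw [← hπg, AlgHom.comp_apply, hπ0]
      exact h
    exact nonZeroDivisors.coe_ne_zero q (hx.1 (by rw [h0, map_zero]))
  let K := FractionRing (MvPolynomial ι k)
  let h : K →ₐ[k] S := IsLocalization.liftAlgHom (M := nonZeroDivisors (MvPolynomial ι k)) (f := g) hg
  let : Algebra K S := h.toRingHom.toAlgebra
  have : IsScalarTower k K S := IsScalarTower.of_algebraMap_eq fun c => (h.commutes c).symm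
  let A : Subalgebra K S := Algebra.adjoin K (Algebra.EssFiniteType.finset k S : Set S)
  have hle : ∀ z ∈ Algebra.EssFiniteType.subalgebra k S, z ∈ A := by
    intro z hz
    have hle' : Algebra.EssFiniteType.subalgebra k S ≤ A.restrictScalars k :=
      Algebra.adjoin_le fun w hw => Algebra.subset_adjoin hw
    exact hle' hz
  let m : Ideal A := (IsLocalRing.maximalIdeal S).comap A.val.toRingHom
  -- the residue of `A` is a field
  let πK : S →ₐ[K] IsLocalRing.ResidueField S := IsScalarTower.toAlgHom K S _
  have halg : ∀ r : IsLocalRing.ResidueField S, IsAlgebraic K r := by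
    intro r
    obtain ⟨P, hP0, hPr⟩ := hx.isAlgebraic.isAlgebraic r
    let e := hx.1.aevalEquiv
    let φ : Algebra.adjoin k (Set.range x) →+* K := (algebraMap (MvPolynomial ι k) K).comp e.symm.toRingEquiv.toRingHom
    refine ⟨P.map φ, (Polynomial.map_ne_zero_iff ?_).2 hP0, ?_⟩
    · exact (IsFractionRing.injective (MvPolynomial ι k) K).comp e.symm.injective
    · rw [Polynomial.aeval_def, Polynomial.eval₂_map]
      rw [Polynomial.aeval_def] at hPr
      have : (algebraMap K (IsLocalRing.ResidueField S)).comp φ =
          algebraMap (Algebra.adjoin k (Set.range x)) (IsLocalRing.ResidueField S) := by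
        refine RingHom.ext fun c => ?_
        obtain ⟨q, rfl⟩ := e.surjective c
        show π (algebraMap K S (algebraMap (MvPolynomial ι k) K (e.symm (e q)))) = ((e q : Algebra.adjoin k (Set.range x)) : IsLocalRing.ResidueField S)
        rw [AlgEquiv.symm_apply_apply]
        show π (h (algebraMap (MvPolynomial ι k) K q)) = _
        rw [show h (algebraMap (MvPolynomial ι k) K q) = g q from IsLocalization.lift_eq _ _, ← AlgHom.comp_apply, hπg]
        rfl
      rw [this]
      exact hPr
  let B : Subalgebra K (IsLocalRing.ResidueField S) := A.map πK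
  have hm : m.IsMaximal := by
    rw [Ideal.isMaximal_iff]
    refine ⟨fun h1 => ?_, fun J z hmJ hz hzJ => ?_⟩
    · exact (IsLocalRing.mem_maximalIdeal _).1 h1 (by simp)
    · have hzB : πK (z : S) ∈ B := ⟨(z : S), z.2, rfl⟩
      have hinv : (πK (z : S))⁻¹ ∈ B := B.inv_mem_of_algebraic (x := ⟨_, hzB⟩) (halg _)
      obtain ⟨w, hw, hwz⟩ := hinv
      have hne : πK (z : S) ≠ 0 := fun h0 => hz ((IsLocalRing.mem_maximalIdeal _).2 ((hπ0 _).1 h0))
      have h1 : (1 : A) - z * ⟨w, hw⟩ ∈ m := by
        refine (IsLocalRing.mem_maximalIdeal _).2 ((hπ0 _).1 ?_)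
        show πK (1 - (z : S) * w) = 0
        change πK w = _ at hwz
        rw [map_sub, map_one, map_mul, hwz, mul_inv_cancel₀ hne, sub_self]
      have := J.add_mem (hmJ h1) (J.mul_mem_right ⟨w, hw⟩ hzJ)
      simpa using this
  have hunit : ∀ z : A, z ∈ m.primeCompl → IsUnit (z : S) := fun z hz => by
    by_contra hc
    exact hz ((IsLocalRing.mem_maximalIdeal _).2 hc)
  have hloc : IsLocalization.AtPrime S m := by
    constructor
    constructor
    · exact fun z => hunit z.1 z.2
    · intro s
      obtain ⟨⟨⟨u, hu⟩, ⟨w, hw⟩, hwu⟩, hs⟩ :=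
        IsLocalization.surj (M := Algebra.EssFiniteType.submonoid k S) s
      refine ⟨⟨⟨u, hle u hu⟩, ⟨⟨w, hle w hw⟩, fun hc => ?_⟩⟩, hs⟩
      exact (IsLocalRing.mem_maximalIdeal _).1 hc hwu
    · intro a b hab
      exact ⟨1, by simpa using Subtype.ext hab⟩
  refine ⟨K, inferInstance, inferInstance, A, inferInstance, inferInstance, inferInstance, inferInstance,
    ?_, m, hm, ?_⟩
  · constructor
    rw [Subalgebra.fg_top]
    exact ⟨_, rfl⟩
  · exact ⟨((IsLocalization.algEquiv m.primeCompl (Localization.AtPrime m) S).restrictScalars k).symm⟩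

end Groth.Agent.S17797
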