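import Groth.Statements.S17802
import Mathlib
import Groth.Agent.Calg1.SerreConditions
import Groth.Agent.Calg7.RegSeqSummand
import Groth.Agent.Calg7.ReesHeight
-- import your own Groth.Agent.* helpers here

set_option autoImplicit false
universe u
open LocCoh

namespace Groth.Agent.S17802

set_option synthInstance.maxHeartbeats 400000

/-- Let (R, m) be a universally catenary Noetherian local domain, I ⊆ m an ideal with R/I
equidimensional, and r a natural number such that the associated graded ring ⊕ Iⁿ/Iⁿ⁺¹, i.e. the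
Rees algebra of I modulo the ideal generated by I, satisfies Serre's condition S_r. Let ad(I) be the
analytic deviation: the Krull dimension of ⊕ Iⁿ/mIⁿ (the Rees algebra modulo m) minus the height of
I. Then for every n ≥ 0 and every prime ideal p ⊇ I of R, the depth of the R_p-module (Iⁿ/Iⁿ⁺¹)_p is
at least min(r, dim (R/I)_p − ad(I)); equivalently every natural number d with d ≤ r and d + dim(⊕
Iⁿ/mIⁿ) ≤ height(p/I) + ht(I) satisfies d ≤ depth (Iⁿ/Iⁿ⁺¹)_p. -/
theorem result (R : Type u) [CommRing R] [IsDomain R] [IsLocalRing R] [IsNoetherianRing R] (huc : CAlg.IsUniversallyCatenary R) (I : Ideal R) (hI : I ≤ IsLocalRing.maximalIdeal R) (heq : EGA4.IsEquidim (R ⧸ I)) (r : ℕ) (hS : LocCoh.HasSk r (↥(reesAlgebra I) ⧸ Ideal.map (algebraMap R ↥(reesAlgebra I)) I) (↥(reesAlgebra I) ⧸ Ideal.map (algebraMap R ↥(reesAlgebra I)) I)) (n : ℕ) (p : Ideal R) [p.IsPrime] (hp : I ≤ p) (d : ℕ) (hdr : d ≤ r) (hd : (d : WithBot ℕ∞) + ringKrullDim (↥(reesAlgebra I) ⧸ Ideal.map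 (algebraMap R ↥(reesAlgebra I)) (IsLocalRing.maximalIdeal R)) ≤ (((p.map (Ideal.Quotient.mk I)).height : ℕ∞) : WithBot ℕ∞) + ((I.height : ℕ∞) : WithBot ℕ∞)) : (d : ℕ∞) ≤ LocCoh.depth (Localization.AtPrime p) (LocalizedModule p.primeCompl (↥(I ^ n) ⧸ (I • (⊤ : Submodule R ↥(I ^ n))))) := by
  classical
  set J := Ideal.map (algebraMap R ↥(reesAlgebra I)) I
  let N : Submodule R ↥(I ^ n) := I • ⊤
  let i₀ : ↥(I ^ n) →ₗ[R] ↥(reesAlgebra I) :=
    ((Polynomial.monomial n).comp (I ^ n).subtype).codRestrict (Subalgebra.toSubmodule (reesAlgebra I))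
      fun c => reesAlgebra.monomial_mem.mpr c.2
  have hi₀ : N ≤ LinearMap.ker ((Ideal.Quotient.mkₐ R J).toLinearMap ∘ₗ i₀) := by
    intro y hy
    refine Submodule.smul_induction_on (p := fun y => y ∈ LinearMap.ker ((Ideal.Quotient.mkₐ R J).toLinearMap ∘ₗ i₀))
      hy (fun a ha z _ => ?_) (fun a b ha hb => add_mem ha hb)
    rw [LinearMap.mem_ker, LinearMap.comp_apply, map_smul]
    show Ideal.Quotient.mk J (a • i₀ z) = 0
    rw [Ideal.Quotient.eq_zero_iff_mem, Algebra.smul_def]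
    exact Ideal.mul_mem_right _ _ (Ideal.mem_map_of_mem _ ha)
  let r₀ : ↥(reesAlgebra I) →ₗ[R] (↥(I ^ n) ⧸ N) :=
    N.mkQ ∘ₗ ((Polynomial.lcoeff R n).comp (reesAlgebra I).val.toLinearMap).codRestrict (I ^ n) fun x => x.2 n
  have hr₀ : Submodule.restrictScalars R J ≤ LinearMap.ker r₀ := by
    intro x hx
    rw [LinearMap.mem_ker]
    refine (Submodule.Quotient.mk_eq_zero N).mpr ((Submodule.mem_smul_top_iff I (I ^ n) _).mpr ?_)
    rw [smul_eq_mul, ← pow_succ']
    exact Groth.Calg7.ReesHeight.coeff_map_mem I x hx n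
  let i : (↥(I ^ n) ⧸ N) →ₗ[R] (↥(reesAlgebra I) ⧸ J) := Submodule.liftQ N _ hi₀
  let rt : (↥(reesAlgebra I) ⧸ J) →ₗ[R] (↥(I ^ n) ⧸ N) :=
    (Submodule.liftQ (Submodule.restrictScalars R J) r₀ hr₀).comp
      (Submodule.Quotient.restrictScalarsEquiv R J).symm.toLinearMap
  have hri : rt ∘ₗ i = LinearMap.id := by
    refine Submodule.linearMap_qext _ (LinearMap.ext fun c => ?_)
    show r₀ (i₀ c) = N.mkQ c
    show N.mkQ _ = N.mkQ c
    congr 1
    refine Subtype.ext ?_
    show (Polynomial.monomial n (c : R)).coeff n = (c : R)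
    rw [Polynomial.coeff_monomial, if_pos rfl]
  refine Groth.Calg7.RegSeqSummand.le_depth_of_primes (G := ↥(reesAlgebra I) ⧸ J) p i rt hri d fun Q _ hQp => ?_
  have hQ' : (Q.comap (Ideal.Quotient.mk J)).comap (algebraMap R ↥(reesAlgebra I)) = p := by
    rw [← hQp, Ideal.comap_comap]
    rfl
  have hh := Groth.Calg7.ReesHeight.le_height I huc p hp d hd (Q.comap (Ideal.Quotient.mk J))
    (fun x hx => by
      rw [Ideal.mem_comap, Ideal.Quotient.eq_zero_iff_mem.mpr hx]
      exact zero_mem _) hQ'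
  rw [Ideal.map_comap_of_surjective _ Ideal.Quotient.mk_surjective] at hh
  exact (le_min (by exact_mod_cast hdr) hh).trans ((Groth.Calg1.hasSk_self_iff r).mp hS Q)

end Groth.Agent.S17802
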