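import Groth.Statements.S17808
import Groth.Agent.CurveBridge.FamilyH0

set_option autoImplicit false
set_option linter.style.haveILetI false
universe u
open CategoryTheory CategoryTheory.Limits AlgebraicGeometry
open JacVar
open Groth.PicAux Groth.CurveBridge Groth.CurveBridge.FamilyH0

namespace Groth.Agent.S17808

/-- Let C be a smooth proper connected curve of genus g > 0 over an algebraically closed field k (with a
chosen point), and let r ≤ g. Then there is a nonempty open subset U of the r-fold fibre power C ×_k
⋯ ×_k C such that for every k-point (P_1, …, P_r) of U (closed points, k being algebraically closed)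
and every invertible module M on C with M ⊗ I_{P_1} ⊗ ⋯ ⊗ I_{P_r} ≅ O_C (so M is O(P_1 + ⋯ + P_r)),
h⁰(C, M) = 1. (The published statement, over the ground field of the section, says only that U is
open; this row also asserts that U is non-empty; k is taken algebraically closed so that the
k-points of U are its closed points.) -/
theorem result (k : Type u) [Field k] [IsAlgClosed k]
    (C : Scheme.{u}) [C.Over (Spec (CommRingCat.of k))]
    [IsProper (C ↘ Spec (CommRingCat.of k))] [Smooth (C ↘ Spec (CommRingCat.of k))] [GeometricallyConnected (C ↘ Spec (CommRingCat.of k))]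
    (hdim : topologicalKrullDim ↥C = 1)
    (hg : 0 < Curv2.genus k C)
    (σ₀ : Spec (CommRingCat.of k) ⟶ C) (hσ₀ : σ₀ ≫ (C ↘ Spec (CommRingCat.of k)) = 𝟙 _)
    (r : ℕ) (hr : r ≤ Curv2.genus k C) :
    ∃ U : (SymProd.fibPow (C ↘ Spec (CommRingCat.of k)) r).Opens, (U : Set ↥(SymProd.fibPow (C ↘ Spec (CommRingCat.of k)) r)).Nonempty ∧
      ∀ (x : Spec (CommRingCat.of k) ⟶ SymProd.fibPow (C ↘ Spec (CommRingCat.of k)) r)
        (hx : x ≫ WidePullback.base (fun (_ : Fin r) => (C ↘ Spec (CommRingCat.of k))) = 𝟙 _)
        (hxU : ∀ p, x.base p ∈ U) (M : C.Modules) (hM : PicF.IsInvertible M)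
        (hMD : Nonempty (CohB1.tensorMod M (FGA.tensorList (List.ofFn fun i : Fin r =>
          ClSub.idealMod (x ≫ WidePullback.π (fun (_ : Fin r) => (C ↘ Spec (CommRingCat.of k))) i).ker)) ≅ Coh.structureModule C)),
        Module.finrank k (Coh.HH C M 0) = 1 := by
  classical
  let p := C ↘ Spec (CommRingCat.of k)
  haveI := connectedSpace_of_geometrically C k
  haveI := isIntegral_of_smooth k C
  have h := isRegCurve_of_smooth k C hdim
  have hK := Groth.CurveBridge.isFunctionField (k := k) (X := C) hdim
  have hF := isFF k C hdim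
  have hsm := Groth.CurveDiv.smoothOfRelativeDimension_one_of_curve p hdim
  let q := WidePullback.base (fun (_ : Fin r) => p)
  haveI : IsProper q := isProper_fibPow_base p r
  choose I hI hIx using fun i : Fin r =>
    exists_pointFamily k C q (WidePullback.π (fun (_ : Fin r) => p) i) (WidePullback.π_arrow _ i)
  let Af := FGA.tensorList ((List.finRange r).map I)
  have hAf : PicF.IsInvertible Af := isInvertible_tensorList I hI _
  obtain ⟨U, hU⟩ := exists_open_quot_h0_le k C q hAf
    (Groth.EulerDeg.isInvertible_structureModule _) 1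
  have key : ∀ (x : Spec (CommRingCat.of k) ⟶ SymProd.fibPow p r) (hx : x ≫ q = 𝟙 _)
      (P : Fin r → Pt C),
      (∀ i, (x ≫ WidePullback.π (fun _ : Fin r => p) i).ker =
        Scheme.IdealSheafData.vanishingIdeal ⟨{(P i).1}, (P i).2⟩) →
      let E : FunFld.Divisor k C.functionField :=
        ((List.ofFn P).map fun y => Finsupp.single (placeAt (k := k) h y) (1 : ℤ)).sum
      (x (IsLocalRing.closedPoint k) ∈ U ↔ FunFld.ell E ≤ 1) ∧
      ∀ (M : C.Modules), PicF.IsInvertible M →
        Nonempty (CohB1.tensorMod M (FGA.tensorList (List.ofFn fun i : Fin r =>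
          ClSub.idealMod (x ≫ WidePullback.π (fun _ : Fin r => p) i).ker)) ≅ Coh.structureModule C) →
        Module.finrank k (Coh.HH C M 0) = FunFld.ell E := by
    intro x hx P hP E
    obtain ⟨hA, α, hα⟩ := exists_divEmb_tensorList h
      (fun i => x ≫ WidePullback.π (fun _ : Fin r => p) i) P hP (List.finRange r)
    obtain ⟨-, β, hβ'⟩ := exists_divEmb_tensorList (k := k) h
      (fun i => x ≫ WidePullback.π (fun _ : Fin r => p) i) P hP []
    have hβ : IsDivEmb (L := Coh.structureModule C) h β (0 : FunFld.Divisor k C.functionField) := by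
      have e0 : (-((([] : List (Fin r)).map fun i =>
          Finsupp.single (placeAt (k := k) h (P i)) (1 : ℤ)).sum) :
        FunFld.Divisor k C.functionField) = 0 := by simp
      exact e0 ▸ hβ'
    have hE : E = ((List.finRange r).map fun i =>
        Finsupp.single (placeAt (k := k) h (P i)) (1 : ℤ)).sum := by
      show ((List.ofFn P).map _).sum = _
      rw [List.ofFn_eq_map, List.map_map]; rfl
    have hval : ∀ N : C.Modules, PicF.IsInvertible N →
        Nonempty (CohB1.tensorMod N (FGA.tensorList ((List.finRange r).map fun i : Fin r =>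
          ClSub.idealMod (x ≫ WidePullback.π (fun _ : Fin r => p) i).ker)) ≅ Coh.structureModule C) →
        Module.finrank k (Coh.HH C N 0) = FunFld.ell E := by
      intro N hN hNe
      rw [finrank_h0_of_tensor_iso h hK hN hA (Groth.EulerDeg.isInvertible_structureModule C)
        hα hβ hNe, zero_sub, neg_neg, hE]
    obtain ⟨N, hN, hNe, hiff⟩ := hU x hx _ _
      (pullback_tensorList _ I _ (fun i => hIx i x hx) (List.finRange r))
      (pullback_structure_iso _)
    rw [hval N hN hNe] at hiff
    refine ⟨hiff, fun M hM hMe => hval M hM ?_⟩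
    rw [List.ofFn_eq_map] at hMe
    exact hMe
  refine ⟨U, ?_, ?_⟩
  · obtain ⟨P, hP⟩ := exists_points_ell_one h hK r (by rw [← genus_eq h hK]; exact hr)
    choose s hs hsP using fun i => exists_section (k := k) h (P i)
    let x : Spec (CommRingCat.of k) ⟶ SymProd.fibPow p r :=
      WidePullback.lift (arrows := fun _ : Fin r => p) (𝟙 _) s hs
    exact ⟨_, (key x (WidePullback.lift_base _ _ _ _) P fun i => by
      rw [show x ≫ WidePullback.π (fun _ : Fin r => p) i = s i from WidePullback.lift_π _ _ _ _ _]
      exact hsP i).1.mpr hP.le⟩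
  · intro x hx hxU M hM hMD
    choose P hP1 hP2 hP3 using fun i => Groth.Agent.S17807.exists_point k C h
      (x ≫ WidePullback.π (fun _ : Fin r => p) i)
      (by rw [Category.assoc, WidePullback.π_arrow]; exact hx)
    obtain ⟨hiff, hval⟩ := key x hx P hP3
    rw [hval M hM hMD]
    refine le_antisymm (hiff.mp (hxU _)) ?_
    rw [← Groth.FunFld1.ell_zero_eq hK]
    refine ell_mono hF (List.sum_nonneg fun D hD => ?_)
    obtain ⟨y, -, rfl⟩ := List.mem_map.mp hD
    exact Finsupp.single_nonneg.mpr zero_le_one

end Groth.Agent.S17808
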