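import Groth.Statements.S1781
import Groth.Agent.DualCore.ShriekIndep

set_option autoImplicit false
universe u
open CategoryTheory
attribute [local instance] HasDerivedCategory.standard
open Dual2

namespace Groth.Agent.S1781

/-- Let R → A be a ring map of finite type between Noetherian rings. Here φ^!(K) is formed from a
presentation ψ : R[x_1, …, x_n] → A as RHom_P(A, K ⊗^L_R P)[n], assuming the derived base change to
P exists and taking for RHom_P(A, −) a right adjoint of restriction of scalars along ψ. For two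
presentations (with n and m variables) the resulting objects of D(A) are isomorphic, for every K in
D(R). -/
theorem result (R A : Type u) [CommRing R] [CommRing A] [IsNoetherianRing R] [IsNoetherianRing A] [Algebra R A] (n : ℕ) (ψ : MvPolynomial (Fin n) R →ₐ[R] A) (hψ : Function.Surjective ψ) [DRing.HasLBaseChange (algebraMap R (MvPolynomial (Fin n) R))] (Rψ : Dual.D (MvPolynomial (Fin n) R) ⥤ Dual.D A) (adj : DRing.restrictD ψ.toRingHom ⊣ Rψ) (m : ℕ) (ψ' : MvPolynomial (Fin m) R →ₐ[R] A) (hψ' : Function.Surjective ψ') [DRing.HasLBaseChange (algebraMap R (MvPolynomial (Fin m) R))] (Rψ' : Dual.D (MvPolynomial (Fin m) R) ⥤ Dual.D A) (adj' : DRing.restrictD ψ'.toRingHom ⊣ Rψ') (K : Dual.D R) : Nonempty (Dual2.shriekVia n Rψ K ≅ Dual2.shriekVia m Rψ' K) := by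
  let Ψ : MvPolynomial (Fin n ⊕ Fin m) R →ₐ[R] A :=
    MvPolynomial.aeval (Sum.elim (fun i => ψ (MvPolynomial.X i)) (fun i => ψ' (MvPolynomial.X i)))
  have h₁ : ψ.toRingHom = Ψ.toRingHom.comp (MvPolynomial.rename (R := R) ((Equiv.sumComm (Fin m) (Fin n)) ∘ Sum.inr)).toRingHom := by
    show _ = (Ψ.comp (MvPolynomial.rename (R := R) ((Equiv.sumComm (Fin m) (Fin n)) ∘ Sum.inr))).toRingHom
    exact congrArg AlgHom.toRingHom (MvPolynomial.algHom_ext fun i => by simp [Ψ])
  have h₂ : ψ'.toRingHom = Ψ.toRingHom.comp (MvPolynomial.rename (R := R) ((Equiv.refl (Fin n ⊕ Fin m)) ∘ Sum.inr)).toRingHom := by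
    show _ = (Ψ.comp (MvPolynomial.rename (R := R) ((Equiv.refl (Fin n ⊕ Fin m)) ∘ Sum.inr))).toRingHom
    exact congrArg AlgHom.toRingHom (MvPolynomial.algHom_ext fun i => by simp [Ψ])
  obtain ⟨a₁⟩ := Groth.DualCore.nonempty_shriekHomIso n adj K
  obtain ⟨a₂⟩ := Groth.DualCore.nonempty_shriekHomIso m adj' K
  obtain ⟨b₁⟩ := Groth.DualCore.nonempty_homIso_rename _ Ψ.toRingHom ψ.toRingHom h₁ hψ K
  obtain ⟨b₂⟩ := Groth.DualCore.nonempty_homIso_rename _ Ψ.toRingHom ψ'.toRingHom h₂ hψ' K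
  exact ((a₁.trans b₁).trans ((Groth.DualCore.HomIso.congr (Iso.refl _)
    (eqToIso (by rw [Nat.add_comm m n]))).trans (a₂.trans b₂).symm)).nonempty_iso

end Groth.Agent.S1781
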