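import Groth.Statements.S17810
import Mathlib
import Groth.Agent.PicField.JacobianAlbanese

set_option autoImplicit false
universe u
open CategoryTheory CategoryTheory.Limits AlgebraicGeometry MonoidalCategory CartesianMonoidalCategory MonObj
open JacVar

namespace Groth.Agent.S17810

/-- The case of a curve with a rational point. Let C be a smooth proper geometrically connected curve of
genus g > 0 over a field k with a k-rational point P, (J, ψ) its Jacobian (a commutative group
scheme over k, coarse moduli scheme on all k-schemes for degree-0 line bundles on C modulo twisting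
from the base, group law induced by tensor product), j : C ⟶ J the Abel map with base point P, and F
: C ×_k C ⟶ J the morphism (x, y) ↦ j(x) · j(y)⁻¹, which sends (x, y) to the class of O(x − y) and
does not depend on P. Then for every abelian variety A over k (commutative group scheme, proper,
smooth and geometrically irreducible over k) and every morphism φ : C ×_k C ⟶ A over k which maps
the diagonal to the zero of A, there is a unique homomorphism of group schemes J ⟶ A whose composite
with F is φ. (Stated when C has a rational point, through which F is written; the published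
statement covers every C by descent.) -/
theorem result (k : Type u) [Field k]
    (C : Scheme.{u}) [C.Over (Spec (CommRingCat.of k))]
    [IsProper (C ↘ Spec (CommRingCat.of k))] [Smooth (C ↘ Spec (CommRingCat.of k))] [GeometricallyConnected (C ↘ Spec (CommRingCat.of k))]
    (hdim : topologicalKrullDim ↥C = 1)
    (hg : 0 < Curv2.genus k C)
    (σ : Spec (CommRingCat.of k) ⟶ C) (hσ : σ ≫ (C ↘ Spec (CommRingCat.of k)) = 𝟙 _)
    (J : Over (Spec (CommRingCat.of k))) [GrpObj J] [IsCommMonObj J]
    (ψ : (ModFun.PicDeg (C ↘ Spec (CommRingCat.of k)) 0).Hom ⊤ J) (hJ : Jac.IsJacobian (C ↘ Spec (CommRingCat.of k)) ⊤ J ψ)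
    (j : Over.mk (C ↘ Spec (CommRingCat.of k)) ⟶ J) (hj : Jac.IsAbelJacobiAt (C ↘ Spec (CommRingCat.of k)) σ ψ j)
    (A : Over (Spec (CommRingCat.of k))) [GrpObj A] [IsCommMonObj A]
    [IsProper A.hom] [Smooth A.hom] [GeometricallyIrreducible A.hom]
    (φ : Over.mk (C ↘ Spec (CommRingCat.of k)) ⊗ Over.mk (C ↘ Spec (CommRingCat.of k)) ⟶ A)
    (hφ : lift (𝟙 (Over.mk (C ↘ Spec (CommRingCat.of k)))) (𝟙 (Over.mk (C ↘ Spec (CommRingCat.of k)))) ≫ φ = toUnit _ ≫ η[A]) :
    ∃! χ : J ⟶ A, IsMonHom χ ∧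
      ((fst (Over.mk (C ↘ Spec (CommRingCat.of k))) (Over.mk (C ↘ Spec (CommRingCat.of k))) ≫ j) * (snd (Over.mk (C ↘ Spec (CommRingCat.of k))) (Over.mk (C ↘ Spec (CommRingCat.of k))) ≫ j)⁻¹) ≫ χ = φ := by
  let f := C ↘ Spec (CommRingCat.of k)
  let O : Over (Spec (CommRingCat.of k)) := Over.mk f
  let P : 𝟙_ (Over (Spec (CommRingCat.of k))) ⟶ O := Over.homMk σ hσ
  have hf := Groth.PicField.isPtCurve_of_connected f hdim σ hσ
  have : GeometricallyIntegral O.hom := hf.geomInt
  have : IsProper O.hom := ‹IsProper (C ↘ Spec (CommRingCat.of k))›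
  have := Groth.Abvar.isIntegral_left O
  have : PreconnectedSpace O.left := inferInstance
  have hdiag : ∀ {T : Over (Spec (CommRingCat.of k))} (x : T ⟶ O), lift x x ≫ φ = 1 := fun x => by
    rw [show lift x x = x ≫ lift (𝟙 O) (𝟙 O) by simp, Category.assoc, hφ, ← Category.assoc,
      toUnit_unique (x ≫ toUnit O) (toUnit _), Hom.one_def]
  have h0 : lift P P ≫ φ = η[A] := by
    rw [hdiag, Hom.one_def, toUnit_unique (toUnit (𝟙_ _)) (𝟙 _), Category.id_comp]
  have hsplit := Groth.Abvar.eq_mul_of_pointed P P φ h0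
  set a := lift (𝟙 O) (toUnit O ≫ P) ≫ φ with ha
  set b := lift (toUnit O ≫ P) (𝟙 O) ≫ φ with hb
  have hba : b = a⁻¹ := by
    have h := hdiag (𝟙 O)
    rw [hsplit, MonObj.comp_mul, lift_snd_assoc, lift_fst_assoc, Category.id_comp,
      Category.id_comp] at h
    exact eq_inv_of_mul_eq_one_left h
  have haP : σ ≫ a.left = η[A].left := by
    have : P ≫ a = η[A] := by
      rw [ha, ← Category.assoc, comp_lift, Category.comp_id, ← Category.assoc,
        toUnit_unique (P ≫ toUnit O) (𝟙 _), Category.id_comp, h0]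
    exact congrArg (fun z : 𝟙_ (Over (Spec (CommRingCat.of k))) ⟶ A => z.left) this
  have hg' : 0 < Groth.PicCurve.genus f := by rw [Groth.PicField.genus_eq C]; exact hg
  obtain ⟨χ, ⟨hχm, hχ⟩, hu⟩ :=
    Groth.PicField.existsUnique_hom_of_isJacobian hf hg' σ hσ J ψ hJ j hj a haP
  have hjP : P ≫ j = 1 := by
    obtain ⟨_, _, _, e, hnat, hmul, hψ⟩ := Groth.PicField.exists_points_equiv hf σ hσ ψ hJ
    rw [Groth.PicField.abel_eq hf ψ e hψ hj]
    have hz : Groth.DivNorm.zSec σ hσ (𝟙_ _) = P :=
      Over.OverMorphism.ext (by simp [Groth.DivNorm.zSec, P])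
    apply (e _).injective
    rw [← hz, Groth.DivNorm.e_comp_abel e hnat, Groth.DivNorm.ajPt_zero,
      Groth.DivNorm.e_one e hmul]
  have hcomp : ∀ χ' : J ⟶ A, IsMonHom χ' →
      ((fst O O ≫ j) * (snd O O ≫ j)⁻¹) ≫ χ' = (fst O O ≫ j ≫ χ') * (snd O O ≫ j ≫ χ')⁻¹ := by
    intro χ' _
    rw [MonObj.mul_comp, GrpObj.inv_comp, Category.assoc, Category.assoc]
  refine ⟨χ, ⟨hχm, ?_⟩, fun χ' hχ' => ?_⟩
  · rw [hcomp χ hχm, hχ, hsplit, hba, GrpObj.comp_inv, mul_comm]
  · refine hu χ' ⟨hχ'.1, ?_⟩
    have := hχ'.1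
    rw [ha, ← hχ'.2, hcomp χ' hχ'.1, MonObj.comp_mul, GrpObj.comp_inv, lift_fst_assoc,
      lift_snd_assoc, Category.id_comp, Category.assoc, reassoc_of% hjP, MonObj.one_comp,
      MonObj.comp_one, inv_one, _root_.mul_one]

end Groth.Agent.S17810
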