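import Groth.Statements.S17812
import Mathlib
import Groth.Agent.PicField.SymImage

set_option autoImplicit false
universe u
open CategoryTheory CategoryTheory.Limits AlgebraicGeometry MonoidalCategory CartesianMonoidalCategory MonObj
open JacVar

open Groth.CurveBridge

set_option maxHeartbeats 1600000
set_option backward.isDefEq.respectTransparency false
set_option backward.defeqAttrib.useBackward true
set_option backward.isDefEq.respectTransparency.types false

namespace Groth.Agent.S17812

/-- Let k be an algebraically closed field, C a smooth proper connected curve of genus g ≥ 2 over k with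
a k-point P, (J, ψ) its Jacobian (a commutative group scheme over k, coarse moduli scheme on all
k-schemes for degree-0 line bundles modulo twisting from the base, group law induced by tensor
product) and j : C ⟶ J the Abel map with base point P. Write W^r ⊂ J for the image of the r-fold
product C ×_k ⋯ ×_k C under (x_1, …, x_r) ↦ j(x_1) ⋯ j(x_r) (the image of the r-th symmetric power;
W^0 is the origin), and W^r_a for its translate by a k-point a of J. Then for 0 ≤ r ≤ g − 1 and
k-points a, b of J one has W^r_a ⊆ W^{g−1}_b if and only if a lies in W^{g−1−r}_b (inclusions of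
sets of points of J). -/
theorem result (k : Type u) [Field k] [IsAlgClosed k]
    (C : Scheme.{u}) [C.Over (Spec (CommRingCat.of k))]
    [IsProper (C ↘ Spec (CommRingCat.of k))] [Smooth (C ↘ Spec (CommRingCat.of k))] [GeometricallyConnected (C ↘ Spec (CommRingCat.of k))]
    (hdim : topologicalKrullDim ↥C = 1)
    (g : ℕ) (hg : Curv2.genus k C = g) (hg2 : 2 ≤ g)
    (σ : Spec (CommRingCat.of k) ⟶ C) (hσ : σ ≫ (C ↘ Spec (CommRingCat.of k)) = 𝟙 _)
    (J : Over (Spec (CommRingCat.of k))) [GrpObj J] [IsCommMonObj J]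
    (ψ : (ModFun.PicDeg (C ↘ Spec (CommRingCat.of k)) 0).Hom ⊤ J) (hJ : Jac.IsJacobian (C ↘ Spec (CommRingCat.of k)) ⊤ J ψ)
    (j : Over.mk (C ↘ Spec (CommRingCat.of k)) ⟶ J) (hj : Jac.IsAbelJacobiAt (C ↘ Spec (CommRingCat.of k)) σ ψ j)
    (r : ℕ) (hr : r ≤ g - 1) (a b : 𝟙_ (Over (Spec (CommRingCat.of k))) ⟶ J) :
    ((Jac.transl J a).left.base '' Set.range ((List.ofFn fun i : Fin r =>
        (Over.homMk (WidePullback.π (fun (_ : Fin r) => (C ↘ Spec (CommRingCat.of k))) i)
          (WidePullback.π_arrow (fun (_ : Fin r) => (C ↘ Spec (CommRingCat.of k))) i) : Over.mk (WidePullback.base fun (_ : Fin r) => (C ↘ Spec (CommRingCat.of k))) ⟶ Over.mk (C ↘ Spec (CommRingCat.of k))) ≫ j).prod).left.base) ⊆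
      ((Jac.transl J b).left.base '' Set.range ((List.ofFn fun i : Fin (g - 1) =>
        (Over.homMk (WidePullback.π (fun (_ : Fin (g - 1)) => (C ↘ Spec (CommRingCat.of k))) i)
          (WidePullback.π_arrow (fun (_ : Fin (g - 1)) => (C ↘ Spec (CommRingCat.of k))) i) : Over.mk (WidePullback.base fun (_ : Fin (g - 1)) => (C ↘ Spec (CommRingCat.of k))) ⟶ Over.mk (C ↘ Spec (CommRingCat.of k))) ≫ j).prod).left.base) ↔
    ∀ p, a.left.base p ∈ ((Jac.transl J b).left.base '' Set.range ((List.ofFn fun i : Fin (g - 1 - r) =>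
        (Over.homMk (WidePullback.π (fun (_ : Fin (g - 1 - r)) => (C ↘ Spec (CommRingCat.of k))) i)
          (WidePullback.π_arrow (fun (_ : Fin (g - 1 - r)) => (C ↘ Spec (CommRingCat.of k))) i) : Over.mk (WidePullback.base fun (_ : Fin (g - 1 - r)) => (C ↘ Spec (CommRingCat.of k))) ⟶ Over.mk (C ↘ Spec (CommRingCat.of k))) ≫ j).prod).left.base) := by
  let f := C ↘ Spec (CommRingCat.of k)
  have : ConnectedSpace C := GeometricallyConnected.connectedSpace f f.isOpenMap
  have : IsIntegral C := Groth.CurveBridge.isIntegral_of_smooth k C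
  have h := Groth.CurveBridge.isRegCurve_of_smooth k C hdim
  have hK := Groth.CurveBridge.isFunctionField (k := k) (X := C) hdim
  have hf := Groth.PicField.isPtCurve_of_connected f hdim σ hσ
  obtain ⟨hp, -, -, e, hnat, hmul, hψ⟩ := Groth.PicField.exists_points_equiv hf σ hσ ψ hJ
  have hje := Groth.PicField.abel_eq hf ψ e hψ hj
  obtain ⟨s, hs⟩ : ∃ s, g - 1 = r + s := ⟨g - 1 - r, by omega⟩
  have hgK : r + s + 1 ≤ FunFld.genus k C.functionField := by
    rw [← Groth.CurveBridge.genus_eq h hK, hg]; omega
  have key := fun z => Groth.PicField.forall_exists_prod_iff (h := h) hK hmul hnat hgK z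
  rw [← hje] at key
  rw [show g - 1 - r = s by omega, hs]
  let O := Over.mk f
  have : IsProper O.hom := ‹IsProper f›
  have hcl : ∀ n, IsClosed (Set.range ((List.ofFn fun i : Fin n =>
      Groth.PicField.projC O n i ≫ j).prod).left.base) :=
    Groth.PicField.isClosed_range_ofFn_prod (C := O) j
  have hmem := Groth.PicField.mem_range_ofFn_prod (C := O) j
  have hclt : ∀ (a : 𝟙_ _ ⟶ J) n, IsClosed ((Jac.transl J a).left.base '' Set.range
      ((List.ofFn fun i : Fin n => Groth.PicField.projC O n i ≫ j).prod).left.base) := fun a n => by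
    rw [Groth.PicField.image_transl]
    exact (hcl n).preimage (Jac.transl J a⁻¹).left.continuous
  have hrhs : ∀ (T : Set J.left), (∀ p, a.left.base p ∈ T) ↔
      a.left.base (IsLocalRing.closedPoint k) ∈ T := fun T => ⟨fun hT => hT _, fun hT p => by
    rw [show p = IsLocalRing.closedPoint k from Subsingleton.elim (α := PrimeSpectrum k) _ _]
    exact hT⟩
  rw [hrhs]
  refine ((Groth.PicField.subset_iff_forall_point (hclt a r) (hclt b (r + s))).trans ?_).trans
    ((Groth.PicField.mem_image_transl_iff b a _).trans (hmem s (a * b⁻¹))).symm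
  simp only [Groth.PicField.mem_image_transl_iff, hmem]
  rw [← key (a * b⁻¹)]
  constructor
  · intro H x
    obtain ⟨y, hy⟩ := H (a * ∏ i, x i ≫ j) ⟨x, by rw [mul_comm a, mul_inv_cancel_right]⟩
    exact ⟨y, by rw [← hy, mul_right_comm]⟩
  · rintro H z ⟨x, hx⟩
    obtain ⟨y, hy⟩ := H x
    refine ⟨y, ?_⟩
    rw [← hy, ← hx, mul_comm z a⁻¹, ← _root_.mul_assoc (a * b⁻¹), mul_right_comm a b⁻¹ a⁻¹,
      mul_inv_cancel, _root_.one_mul, mul_comm]

end Groth.Agent.S17812
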