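import Groth.Statements.S17815
import Mathlib
import Groth.Agent.PicField.TorelliUnique

set_option autoImplicit false
universe u
open CategoryTheory CategoryTheory.Limits AlgebraicGeometry MonoidalCategory CartesianMonoidalCategory MonObj
open JacVar

namespace Groth.Agent.S17815

/-- The non-hyperelliptic case. Let k be an algebraically closed field, C and C' smooth proper connected
curves of genus g ≥ 2 over k with k-points P and P', (J, ψ) and (J', ψ') their Jacobians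
(commutative group schemes over k, coarse moduli schemes on all k-schemes for degree-0 line bundles
modulo twisting from the base, group law induced by tensor product), j and j' the Abel maps with
base points P and P', and β : J ≅ J' an isomorphism of group schemes over k. Suppose C is not
hyperelliptic: no invertible module of degree 2 on C has a two-dimensional space of global sections.
Then the isomorphism, the sign and the translation in Torelli's conclusion are uniquely determined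
by β, P and P': if isomorphisms α₁, α₂ : C ≅ C' over k, k-points c₁, c₂ of J' and signs s₁, s₂ ∈ {1,
−1} satisfy j' ∘ α_i = (β ∘ j)^{s_i} · c_i for i = 1, 2, then α₁ = α₂, s₁ = s₂ and c₁ = c₂. (The
published statement takes β an isomorphism of the canonically polarized Jacobians; this row allows
any isomorphism of group schemes β.) -/
theorem result (k : Type u) [Field k] [IsAlgClosed k]
    (C : Scheme.{u}) [C.Over (Spec (CommRingCat.of k))]
    [IsProper (C ↘ Spec (CommRingCat.of k))] [Smooth (C ↘ Spec (CommRingCat.of k))] [GeometricallyConnected (C ↘ Spec (CommRingCat.of k))]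
    (hdim : topologicalKrullDim ↥C = 1)
    (C' : Scheme.{u}) [C'.Over (Spec (CommRingCat.of k))]
    [IsProper (C' ↘ Spec (CommRingCat.of k))] [Smooth (C' ↘ Spec (CommRingCat.of k))] [GeometricallyConnected (C' ↘ Spec (CommRingCat.of k))]
    (hdim' : topologicalKrullDim ↥C' = 1)
    (g : ℕ) (hg : Curv2.genus k C = g) (hg' : Curv2.genus k C' = g) (hg2 : 2 ≤ g)
    (σ : Spec (CommRingCat.of k) ⟶ C) (hσ : σ ≫ (C ↘ Spec (CommRingCat.of k)) = 𝟙 _) (σ' : Spec (CommRingCat.of k) ⟶ C') (hσ' : σ' ≫ (C' ↘ Spec (CommRingCat.of k)) = 𝟙 _)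
    (J : Over (Spec (CommRingCat.of k))) [GrpObj J] [IsCommMonObj J]
    (ψ : (ModFun.PicDeg (C ↘ Spec (CommRingCat.of k)) 0).Hom ⊤ J) (hJ : Jac.IsJacobian (C ↘ Spec (CommRingCat.of k)) ⊤ J ψ)
    (J' : Over (Spec (CommRingCat.of k))) [GrpObj J'] [IsCommMonObj J']
    (ψ' : (ModFun.PicDeg (C' ↘ Spec (CommRingCat.of k)) 0).Hom ⊤ J') (hJ' : Jac.IsJacobian (C' ↘ Spec (CommRingCat.of k)) ⊤ J' ψ')
    (j : Over.mk (C ↘ Spec (CommRingCat.of k)) ⟶ J) (hj : Jac.IsAbelJacobiAt (C ↘ Spec (CommRingCat.of k)) σ ψ j)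
    (j' : Over.mk (C' ↘ Spec (CommRingCat.of k)) ⟶ J') (hj' : Jac.IsAbelJacobiAt (C' ↘ Spec (CommRingCat.of k)) σ' ψ' j')
    (β : J ≅ J') [IsMonHom β.hom]
    (hnh : ¬ ∃ L : C.Modules, PicF.IsInvertible L ∧ Curv2.deg k C L 1 = 2 ∧ Module.finrank k (Coh.HH C L 0) = 2)
    (α₁ α₂ : C ≅ C') (hα₁ : α₁.hom ≫ (C' ↘ Spec (CommRingCat.of k)) = (C ↘ Spec (CommRingCat.of k))) (hα₂ : α₂.hom ≫ (C' ↘ Spec (CommRingCat.of k)) = (C ↘ Spec (CommRingCat.of k)))
    (c₁ c₂ : 𝟙_ (Over (Spec (CommRingCat.of k))) ⟶ J') (s₁ s₂ : ℤ) (hs₁ : s₁ = 1 ∨ s₁ = -1) (hs₂ : s₂ = 1 ∨ s₂ = -1)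
    (h₁ : Over.homMk α₁.hom hα₁ ≫ j' = (j ≫ β.hom) ^ s₁ * (toUnit (Over.mk (C ↘ Spec (CommRingCat.of k))) ≫ c₁))
    (h₂ : Over.homMk α₂.hom hα₂ ≫ j' = (j ≫ β.hom) ^ s₂ * (toUnit (Over.mk (C ↘ Spec (CommRingCat.of k))) ≫ c₂)) :
    α₁ = α₂ ∧ s₁ = s₂ ∧ c₁ = c₂ := by
  let O := Over.mk (C ↘ Spec (CommRingCat.of k))
  let gm : O ⟶ O := Over.homMk (α₂.hom ≫ α₁.inv) (by
    show (α₂.hom ≫ α₁.inv) ≫ (C ↘ Spec (CommRingCat.of k)) = (C ↘ Spec (CommRingCat.of k))
    rw [Category.assoc, show α₁.inv ≫ (C ↘ Spec (CommRingCat.of k)) = (C' ↘ Spec (CommRingCat.of k)) by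
      rw [← hα₁, Iso.inv_hom_id_assoc], hα₂])
  have hgm : gm ≫ (Over.homMk α₁.hom hα₁ : O ⟶ Over.mk (C' ↘ Spec (CommRingCat.of k))) = (Over.homMk α₂.hom hα₂ : O ⟶ Over.mk (C' ↘ Spec (CommRingCat.of k))) :=
    Over.OverMorphism.ext (by simp [gm])
  have heq : gm = 𝟙 O → α₁ = α₂ := fun h => by
    have h3 : (α₂.hom ≫ α₁.inv) = 𝟙 C := congrArg (fun z : O ⟶ O => z.left) h
    exact Iso.ext ((Iso.comp_inv_eq _).1 h3 |>.trans (Category.id_comp _)).symm
  let x : 𝟙_ _ ⟶ O := Over.homMk σ hσ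
  rcases (by omega : s₂ = s₁ ∨ s₂ = -s₁) with h | h <;> subst h
  · have he : gm ≫ ((j ≫ β.hom) ^ s₂ * (toUnit O ≫ c₁)) =
        (j ≫ β.hom) ^ s₂ * (toUnit O ≫ c₂) := by
      rw [← h₁, ← h₂, ← Category.assoc, hgm]
    have hid := Groth.PicField.eq_id_of_comp_abel_eq_mul hdim σ hσ ψ hJ j hj (hg.symm ▸ hg2) gm _
      (Groth.PicField.comp_eq_mul_of_signs β j gm c₁ c₂ s₂ hs₁ he)
    refine ⟨heq hid, rfl, ?_⟩
    rw [hid, Category.id_comp] at he
    have h5 := congrArg (fun z => x ≫ z) (mul_left_cancel he)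
    simpa [← Category.assoc, toUnit_unique (x ≫ toUnit O) (𝟙 _)] using h5
  · have he : gm ≫ ((j ≫ β.hom) ^ s₁ * (toUnit O ≫ c₁)) =
        (j ≫ β.hom) ^ (-s₁) * (toUnit O ≫ c₂) := by
      rw [← h₁, ← h₂, ← Category.assoc, hgm]
    exact (hnh (Groth.PicField.exists_pencil_of_comp_abel_mul_eq hdim σ hσ ψ hJ j hj (hg.symm ▸ hg2) gm _
      (Groth.PicField.comp_mul_eq_of_signs β j gm c₁ c₂ s₁ hs₁ he))).elim

end Groth.Agent.S17815
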