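import Groth.Statements.S17816
import Mathlib
import Groth.Agent.PicField.Correspondence

set_option autoImplicit false
universe u
open CategoryTheory CategoryTheory.Limits AlgebraicGeometry MonoidalCategory CartesianMonoidalCategory MonObj
open JacVar

open Groth.Abvar.PicCalc

set_option maxHeartbeats 1600000
set_option backward.isDefEq.respectTransparency false
set_option backward.defeqAttrib.useBackward true
set_option backward.isDefEq.respectTransparency.types false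

namespace Groth.Agent.S17816

/-- Let k be a field and C₁, C₂ smooth proper geometrically connected curves of positive genus over k
with k-points P₁ and P₂; let (J₁, ψ₁) and (J₂, ψ₂) be their Jacobians (commutative group schemes
over k, coarse moduli schemes on all k-schemes for degree-0 line bundles modulo twisting from the
base, group law induced by tensor product), j₁ : C₁ ⟶ J₁ the Abel map with base point P₁, and M a
universal degree-0 family on C₂ × J₂ which is trivial along P₂ × J₂ and whose classifying morphism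
under ψ₂ is the identity of J₂ (the sheaf M^{P₂}). For a homomorphism χ : J₁ ⟶ J₂ let Φ(χ) be the
class of the pullback of M along 1 × (χ ∘ j₁) : C₂ × C₁ ⟶ C₂ × J₂. Then χ ↦ Φ(χ) is a bijection from
the homomorphisms of group schemes J₁ ⟶ J₂ onto the isomorphism classes of divisorial
correspondences between (C₂, P₂) and (C₁, P₁), i.e. classes of invertible modules on C₂ ×_k C₁
trivial on P₂ × C₁ and on C₂ × P₁: each Φ(χ) is such a class, Φ is injective on homomorphisms, and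
every such class is Φ(χ) for a homomorphism χ. -/
theorem result (k : Type u) [Field k]
    (C₁ : Scheme.{u}) [C₁.Over (Spec (CommRingCat.of k))]
    [IsProper (C₁ ↘ Spec (CommRingCat.of k))] [Smooth (C₁ ↘ Spec (CommRingCat.of k))] [GeometricallyConnected (C₁ ↘ Spec (CommRingCat.of k))]
    (hdim₁ : topologicalKrullDim ↥C₁ = 1)
    (C₂ : Scheme.{u}) [C₂.Over (Spec (CommRingCat.of k))]
    [IsProper (C₂ ↘ Spec (CommRingCat.of k))] [Smooth (C₂ ↘ Spec (CommRingCat.of k))] [GeometricallyConnected (C₂ ↘ Spec (CommRingCat.of k))]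
    (hdim₂ : topologicalKrullDim ↥C₂ = 1)
    (hg₁ : 0 < Curv2.genus k C₁) (hg₂ : 0 < Curv2.genus k C₂)
    (σ₁ : Spec (CommRingCat.of k) ⟶ C₁) (hσ₁ : σ₁ ≫ (C₁ ↘ Spec (CommRingCat.of k)) = 𝟙 _) (σ₂ : Spec (CommRingCat.of k) ⟶ C₂) (hσ₂ : σ₂ ≫ (C₂ ↘ Spec (CommRingCat.of k)) = 𝟙 _)
    (J₁ : Over (Spec (CommRingCat.of k))) [GrpObj J₁] [IsCommMonObj J₁]
    (ψ₁ : (ModFun.PicDeg (C₁ ↘ Spec (CommRingCat.of k)) 0).Hom ⊤ J₁) (hJ₁ : Jac.IsJacobian (C₁ ↘ Spec (CommRingCat.of k)) ⊤ J₁ ψ₁)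
    (J₂ : Over (Spec (CommRingCat.of k))) [GrpObj J₂] [IsCommMonObj J₂]
    (ψ₂ : (ModFun.PicDeg (C₂ ↘ Spec (CommRingCat.of k)) 0).Hom ⊤ J₂) (hJ₂ : Jac.IsJacobian (C₂ ↘ Spec (CommRingCat.of k)) ⊤ J₂ ψ₂)
    (j₁ : Over.mk (C₁ ↘ Spec (CommRingCat.of k)) ⟶ J₁) (hj₁ : Jac.IsAbelJacobiAt (C₁ ↘ Spec (CommRingCat.of k)) σ₁ ψ₁ j₁)
    (Pu : (PicF.XT (C₂ ↘ Spec (CommRingCat.of k)) J₂).Modules) (hPu : ModFun.IsUnivFamily ⊤ (ModFun.PicDeg (C₂ ↘ Spec (CommRingCat.of k)) 0) J₂ Pu)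
    (hPn : Jac.IsNormAlong (C₂ ↘ Spec (CommRingCat.of k)) σ₂ hσ₂ J₂ Pu)
    (hT₂ : (⊤ : ObjectProperty (Over (Spec (CommRingCat.of k)))) J₂) (hPuψ : ψ₂.app J₂ Pu hT₂ hPu.1 = 𝟙 J₂) :
    (∀ χ : J₁ ⟶ J₂, IsMonHom χ →
      (PicF.IsInvertibleCl (PicF.pullCl (PicF.XTmap (C₂ ↘ Spec (CommRingCat.of k)) (j₁ ≫ χ)) (PicF.cl Pu)) ∧
        PicF.IsTrivialCl (PicF.pullCl (PicF.secT (C₂ ↘ Spec (CommRingCat.of k)) σ₂ hσ₂ (Over.mk (C₁ ↘ Spec (CommRingCat.of k)))) (PicF.pullCl (PicF.XTmap (C₂ ↘ Spec (CommRingCat.of k)) (j₁ ≫ χ)) (PicF.cl Pu))) ∧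
        PicF.IsTrivialCl (PicF.pullCl (PicF.XTmap (C₂ ↘ Spec (CommRingCat.of k)) (Over.homMk σ₁ hσ₁ : 𝟙_ (Over (Spec (CommRingCat.of k))) ⟶ Over.mk (C₁ ↘ Spec (CommRingCat.of k)))) (PicF.pullCl (PicF.XTmap (C₂ ↘ Spec (CommRingCat.of k)) (j₁ ≫ χ)) (PicF.cl Pu))))) ∧
    (∀ χ₁ χ₂ : J₁ ⟶ J₂, IsMonHom χ₁ → IsMonHom χ₂ →
      PicF.pullCl (PicF.XTmap (C₂ ↘ Spec (CommRingCat.of k)) (j₁ ≫ χ₁)) (PicF.cl Pu) = PicF.pullCl (PicF.XTmap (C₂ ↘ Spec (CommRingCat.of k)) (j₁ ≫ χ₂)) (PicF.cl Pu) → χ₁ = χ₂) ∧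
    (∀ c : PicF.Cl (PicF.XT (C₂ ↘ Spec (CommRingCat.of k)) (Over.mk (C₁ ↘ Spec (CommRingCat.of k)))),
      (PicF.IsInvertibleCl (c) ∧
        PicF.IsTrivialCl (PicF.pullCl (PicF.secT (C₂ ↘ Spec (CommRingCat.of k)) σ₂ hσ₂ (Over.mk (C₁ ↘ Spec (CommRingCat.of k)))) (c)) ∧
        PicF.IsTrivialCl (PicF.pullCl (PicF.XTmap (C₂ ↘ Spec (CommRingCat.of k)) (Over.homMk σ₁ hσ₁ : 𝟙_ (Over (Spec (CommRingCat.of k))) ⟶ Over.mk (C₁ ↘ Spec (CommRingCat.of k)))) (c))) →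
      ∃ χ : J₁ ⟶ J₂, IsMonHom χ ∧ PicF.pullCl (PicF.XTmap (C₂ ↘ Spec (CommRingCat.of k)) (j₁ ≫ χ)) (PicF.cl Pu) = c) := by
  let f₁ := C₁ ↘ Spec (CommRingCat.of k)
  let f₂ := C₂ ↘ Spec (CommRingCat.of k)
  have hf₁ := Groth.PicField.isPtCurve_of_connected f₁ hdim₁ σ₁ hσ₁
  have hf₂ := Groth.PicField.isPtCurve_of_connected f₂ hdim₂ σ₂ hσ₂
  have hg₁' : 0 < Groth.PicCurve.genus f₁ := by rw [Groth.PicField.genus_eq]; exact hg₁
  obtain ⟨-, -, -, e₁, hnat₁, hmul₁, hψ₁⟩ := Groth.PicField.exists_points_equiv hf₁ σ₁ hσ₁ ψ₁ hJ₁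
  obtain ⟨hp₂, -, -, e, hnat, hmul, hψ⟩ := Groth.PicField.exists_points_equiv hf₂ σ₂ hσ₂ ψ₂ hJ₂
  have hi : PicF.IsInvertible Pu := ((Groth.PicField.ok_iff hf₂ 0 J₂ Pu).1 hPu.1).1
  have hu : cls hi = (e J₂ (𝟙 J₂)).1 := Groth.PicField.cls_univ hf₂ ψ₂ e hψ hPu.1 hPn hT₂ hPuψ
  let C : Over (Spec (CommRingCat.of k)) := Over.mk f₁
  have key : ∀ {T : Over (Spec (CommRingCat.of k))} (g : T ⟶ J₂),
      cls (PicLoc.isInvertible_pullback (PicF.XTmap f₂ g) hi) = (e T g).1 := fun g => by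
    rw [← pull_cls _ hi, hu, Groth.PicField.pull_univ e hnat]
  have hone : ∀ χ : J₁ ⟶ J₂, IsMonHom χ →
      (Over.homMk σ₁ hσ₁ : 𝟙_ _ ⟶ C) ≫ j₁ ≫ χ = 1 := fun χ hχ => by
    have h1 : (Over.homMk σ₁ hσ₁ : 𝟙_ _ ⟶ C) ≫ j₁ = 1 := by
      rw [Groth.PicField.abel_eq hf₁ ψ₁ e₁ hψ₁ hj₁]
      apply (e₁ _).injective
      have hz : (Over.homMk σ₁ hσ₁ : 𝟙_ _ ⟶ C) = Groth.DivNorm.zSec σ₁ hσ₁ (𝟙_ _) :=
        Over.OverMorphism.ext (by simp [Groth.DivNorm.zSec, C])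
      rw [hz, Groth.DivNorm.e_comp_abel e₁ hnat₁, Groth.DivNorm.ajPt_zero,
        Groth.DivNorm.e_one e₁ hmul₁]
    rw [← Category.assoc, h1, MonObj.one_comp]
  refine ⟨fun χ hχ => ?_, fun χ₁ χ₂ h₁ h₂ h => ?_, fun c hc => ?_⟩
  · have hi' := PicLoc.isInvertible_pullback (PicF.XTmap f₂ (j₁ ≫ χ)) hi
    refine ⟨⟨_, rfl, hi'⟩, ?_, ?_⟩
    · refine (Groth.PicField.isTrivialCl_iff (PicLoc.isInvertible_pullback _ hi')).2 ?_
      rw [← pull_cls _ hi', key]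
      exact (e C _).2.1
    · refine (Groth.PicField.isTrivialCl_iff (PicLoc.isInvertible_pullback _ hi')).2 ?_
      rw [← pull_cls _ hi', key, ← hnat, hone χ hχ, Groth.DivNorm.e_one e hmul]
      rfl
  · have heq : j₁ ≫ χ₁ = j₁ ≫ χ₂ := (e C).injective (Subtype.ext (by
      rw [← key, ← key]
      exact (nonempty_iso_iff _ _).1 ((PicGrp.cl_eq_cl_iff _ _).1 h)))
    have hzero : σ₁ ≫ (j₁ ≫ χ₁).left = η[J₂].left := by
      have := congrArg (fun z : 𝟙_ _ ⟶ J₂ => z.left) (hone χ₁ h₁)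
      rw [show (1 : 𝟙_ _ ⟶ J₂) = η[J₂] by
        rw [Hom.one_def, toUnit_unique (toUnit (𝟙_ _)) (𝟙 _), Category.id_comp]] at this
      exact this
    exact (Groth.PicField.existsUnique_hom_of_isJacobian hf₁ hg₁' σ₁ hσ₁ J₁ ψ₁ hJ₁ j₁ hj₁
      (j₁ ≫ χ₁) hzero).unique ⟨h₁, rfl⟩ ⟨h₂, heq.symm⟩
  · obtain ⟨⟨L, rfl, hL⟩, hc₁, hc₂⟩ := hc
    have h₁' : pull (PicF.secT f₂ σ₂ hσ₂ C) (cls hL) = 1 := by
      rw [pull_cls]; exact (Groth.PicField.isTrivialCl_iff _).1 hc₁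
    have h₂' : pull (PicF.XTmap f₂ (Over.homMk σ₁ hσ₁ : 𝟙_ _ ⟶ C)) (cls hL) = 1 := by
      rw [pull_cls]; exact (Groth.PicField.isTrivialCl_iff _).1 hc₂
    have := hf₁.geomConn
    have : ConnectedSpace C₁ := GeometricallyConnected.connectedSpace f₁ f₁.isOpenMap
    have : PreconnectedSpace C.left := inferInstanceAs (PreconnectedSpace C₁)
    have hm := Groth.PicField.mem_zeroClasses_of_connected hf₂
      (Over.homMk σ₁ hσ₁ : 𝟙_ _ ⟶ C) h₁' h₂'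
    let φ : C ⟶ J₂ := (e C).symm ⟨cls hL, hm⟩
    have hφ : (Over.homMk σ₁ hσ₁ : 𝟙_ _ ⟶ C) ≫ φ = η[J₂] := by
      rw [show (η[J₂] : 𝟙_ _ ⟶ J₂) = 1 by
        rw [Hom.one_def, toUnit_unique (toUnit (𝟙_ _)) (𝟙 _), Category.id_comp]]
      apply (e _).injective
      apply Subtype.ext
      rw [hnat, Equiv.apply_symm_apply, Groth.DivNorm.e_one e hmul]
      exact h₂'
    obtain ⟨χ, ⟨hχ, hjχ⟩, -⟩ := Groth.PicField.existsUnique_hom_of_isJacobian hf₁ hg₁' σ₁ hσ₁ J₁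
      ψ₁ hJ₁ j₁ hj₁ φ (congrArg (fun z : 𝟙_ _ ⟶ J₂ => z.left) hφ)
    refine ⟨χ, hχ, (PicGrp.cl_eq_cl_iff _ _).2 ((nonempty_iso_iff
      (PicLoc.isInvertible_pullback _ hi) hL).2 ?_)⟩
    rw [key, hjχ, Equiv.apply_symm_apply]

end Groth.Agent.S17816
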