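import Groth.Statements.S17818
import Mathlib
import Groth.Agent.PicField.Correspondence

set_option autoImplicit false
universe u
open CategoryTheory CategoryTheory.Limits AlgebraicGeometry MonoidalCategory CartesianMonoidalCategory MonObj
open JacVar

open Groth.Abvar.PicCalc Groth.PicCurve Groth.DivNorm

set_option maxHeartbeats 1600000
set_option backward.isDefEq.respectTransparency false
set_option backward.defeqAttrib.useBackward true
set_option backward.isDefEq.respectTransparency.types false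

namespace Groth.Agent.S17818

/-- Let C be a smooth proper geometrically connected curve of genus g > 0 over a field k with a
k-rational point P, (J, ψ) its Jacobian (a commutative group scheme over k, coarse moduli scheme on
all k-schemes for degree-0 line bundles modulo twisting from the base, group law induced by tensor
product), M the universal family on C × J normalised along P × J whose classifying morphism under ψ
is the identity (the sheaf M^P), j : C ⟶ J the Abel map with base point P, and L^P the module on C ×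
C with L^P ⊗ I_Δ ≅ pr₁^* I_P ⊗ pr₂^* I_P, i.e. O(Δ − C × P − P × C). If N is an invertible module on
C × J, trivial along P × J and along C × 0 (a divisorial correspondence between (C, P) and J), whose
pullback along 1 × j is isomorphic to L^P, then N is isomorphic to M. -/
theorem result (k : Type u) [Field k]
    (C : Scheme.{u}) [C.Over (Spec (CommRingCat.of k))]
    [IsProper (C ↘ Spec (CommRingCat.of k))] [Smooth (C ↘ Spec (CommRingCat.of k))] [GeometricallyConnected (C ↘ Spec (CommRingCat.of k))]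
    (hdim : topologicalKrullDim ↥C = 1)
    (hg : 0 < Curv2.genus k C)
    (σ : Spec (CommRingCat.of k) ⟶ C) (hσ : σ ≫ (C ↘ Spec (CommRingCat.of k)) = 𝟙 _)
    (J : Over (Spec (CommRingCat.of k))) [GrpObj J] [IsCommMonObj J]
    (ψ : (ModFun.PicDeg (C ↘ Spec (CommRingCat.of k)) 0).Hom ⊤ J) (hJ : Jac.IsJacobian (C ↘ Spec (CommRingCat.of k)) ⊤ J ψ)
    (Pu : (PicF.XT (C ↘ Spec (CommRingCat.of k)) J).Modules) (hPu : ModFun.IsUnivFamily ⊤ (ModFun.PicDeg (C ↘ Spec (CommRingCat.of k)) 0) J Pu)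
    (hPn : Jac.IsNormAlong (C ↘ Spec (CommRingCat.of k)) σ hσ J Pu)
    (hT : (⊤ : ObjectProperty (Over (Spec (CommRingCat.of k)))) J) (hPuψ : ψ.app J Pu hT hPu.1 = 𝟙 J)
    (j : Over.mk (C ↘ Spec (CommRingCat.of k)) ⟶ J) (hj : Jac.IsAbelJacobiAt (C ↘ Spec (CommRingCat.of k)) σ ψ j)
    (LP : (PicF.XT (C ↘ Spec (CommRingCat.of k)) (Over.mk (C ↘ Spec (CommRingCat.of k)))).Modules) (hLPi : PicF.IsInvertible LP)
    (hLP : Nonempty (CohB1.tensorMod LP (ClSub.idealMod (pullback.diagonal (C ↘ Spec (CommRingCat.of k))).ker) ≅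
      CohB1.tensorMod ((Scheme.Modules.pullback (pullback.fst (C ↘ Spec (CommRingCat.of k)) (C ↘ Spec (CommRingCat.of k)))).obj (ClSub.idealMod σ.ker))
        ((Scheme.Modules.pullback (pullback.snd (C ↘ Spec (CommRingCat.of k)) (C ↘ Spec (CommRingCat.of k)))).obj (ClSub.idealMod σ.ker))))
    (N : (PicF.XT (C ↘ Spec (CommRingCat.of k)) J).Modules) (hN : PicF.IsInvertible N)
    (hNP : Jac.IsNormAlong (C ↘ Spec (CommRingCat.of k)) σ hσ J N)
    (hN0 : PicF.IsTrivialCl (PicF.pullCl (PicF.XTmap (C ↘ Spec (CommRingCat.of k)) (η[J])) (PicF.cl N)))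
    (hNj : Nonempty ((Scheme.Modules.pullback (PicF.XTmap (C ↘ Spec (CommRingCat.of k)) j)).obj N ≅ LP)) :
    Nonempty (N ≅ Pu) := by
  let f := C ↘ Spec (CommRingCat.of k)
  have hf := Groth.PicField.isPtCurve_of_connected f hdim σ hσ
  have hg' : 0 < Groth.PicCurve.genus f := by rw [Groth.PicField.genus_eq]; exact hg
  obtain ⟨hp, hs, hirr, e, hnat, hmul, hψ⟩ := Groth.PicField.exists_points_equiv hf σ hσ ψ hJ
  have hi : PicF.IsInvertible Pu := ((Groth.PicField.ok_iff hf 0 J Pu).1 hPu.1).1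
  have hu : cls hi = (e J (𝟙 J)).1 := Groth.PicField.cls_univ hf ψ e hψ hPu.1 hPn hT hPuψ
  have : GeometricallyReduced J.hom :=
    Groth.GrpschAbsch.FibreFlat.geometricallyReduced_of_smooth J.hom
  have hgi : GeometricallyIntegral J.hom :=
    GeometricallyIntegral.of_geometricallyReduced_of_geometricallyIrreducible J.hom
  have : PreconnectedSpace J.left := Groth.Abvar.preconnectedSpace_left J
  have hN1 : pull (PicF.secT f σ hσ J) (cls hN) = 1 := by
    rw [pull_cls]; exact (Groth.PicField.isTrivialCl_iff _).1 hNP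
  have hN2 : pull (PicF.XTmap f (η[J] : 𝟙_ _ ⟶ J)) (cls hN) = 1 := by
    rw [pull_cls]; exact (Groth.PicField.isTrivialCl_iff _).1 hN0
  have hm := Groth.PicField.mem_zeroClasses_of_connected hf η[J] hN1 hN2
  let g : J ⟶ J := (e J).symm ⟨cls hN, hm⟩
  have heg : (e J g).1 = cls hN := by simp [g]
  have hη : (η[J] : 𝟙_ _ ⟶ J) = 1 := by
    rw [Hom.one_def, toUnit_unique (toUnit (𝟙_ _)) (𝟙 _), Category.id_comp]
  have hpt : η[J] ≫ g = η[J] := (e _).injective (Subtype.ext (by
    rw [hnat, heg, hN2, hη, Groth.DivNorm.e_one e hmul]; rfl))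
  have hmon : IsMonHom g := Groth.Abvar.isMonHom_of_one g hpt
  let Cc : Over (Spec (CommRingCat.of k)) := Over.mk f
  obtain ⟨hP, L, hL, ⟨hLi, ⟨hiso⟩⟩, hjL⟩ := id hj
  obtain ⟨hLPiso⟩ := hLP
  obtain ⟨hNiso⟩ := hNj
  have := hf.proper
  have := hf.smoothOne
  have hIσ := (Groth.Agent.S15990.result f σ hσ).1
  have := hf.smoothOne_proj Cc
  have hIΔ : BlowUp.IsEffCartierIdeal (pullback.diagonal f).ker :=
    (isEffCartierIdeal_of_finLocFree (PicF.XTproj f Cc)
      (Groth.DivNorm.ptD hf (𝟙 Cc)).2).1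
  have hiΔ : PicF.IsInvertible (Y := PicF.XT f Cc) (ClSub.idealMod (pullback.diagonal f).ker) :=
    Groth.PicAux.isInvertible_idealMod hIΔ
  have hiσ := Groth.PicAux.isInvertible_idealMod hIσ
  have hi₁ := PicLoc.isInvertible_pullback (pullback.fst f f) hiσ
  have hi₂ := PicLoc.isInvertible_pullback (pullback.snd f f) hiσ
  have h1 : cls hLPi * cls hiΔ = cls hi₁ * cls hi₂ := by
    rw [← cls_tensorMod, ← cls_tensorMod]
    exact (nonempty_iso_iff _ _).1 ⟨hLPiso⟩
  have hLi' := ((Groth.PicField.ok_iff hf 0 Cc L).1 hL).1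
  have h2 : cls hLi' * cls hiΔ = cls hi₁ := by
    rw [← cls_tensorMod]
    exact (nonempty_iso_iff _ _).1 ⟨hiso⟩
  have h3 : cls hLPi = cls hLi' * pull (PicF.XTproj f Cc) (cls hiσ) := by
    refine mul_right_cancel (b := cls hiΔ) ?_
    rw [h1, mul_right_comm, h2, pull_cls]
    rfl
  have hjg : j ≫ g = j := (e Cc).injective (Subtype.ext (by
    have hN' : (e Cc (j ≫ g)).1 = cls hLPi := by
      rw [hnat, heg, pull_cls]
      exact (nonempty_iso_iff _ _).1 ⟨hNiso⟩
    have h4 : Groth.PicCurve.norm f σ hσ Cc (e Cc (j ≫ g)).1 =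
        Groth.PicCurve.norm f σ hσ Cc (cls hLi') := by
      rw [hN', h3, Groth.PicCurve.norm_mul_base]
    rw [Groth.PicCurve.norm_self (⟨_, (e Cc (j ≫ g)).2.1⟩ : Groth.PicCurve.RS f σ hσ Cc)] at h4
    rw [← hjL, hψ, hjL]
    exact congrArg Subtype.val h4))
  have hzero : σ ≫ j.left = η[J].left := by
    have h0 : (Over.homMk σ hσ : 𝟙_ _ ⟶ Cc) ≫ j = η[J] := by
      rw [hη, Groth.PicField.abel_eq hf ψ e hψ hj]
      apply (e _).injective
      have hz : (Over.homMk σ hσ : 𝟙_ _ ⟶ Cc) = Groth.DivNorm.zSec σ hσ (𝟙_ _) :=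
        Over.OverMorphism.ext (by simp [Groth.DivNorm.zSec, Cc])
      rw [hz, Groth.DivNorm.e_comp_abel e hnat, Groth.DivNorm.ajPt_zero,
        Groth.DivNorm.e_one e hmul]
    exact congrArg (fun z : 𝟙_ _ ⟶ J => z.left) h0
  have hg1 : g = 𝟙 J := (Groth.PicField.existsUnique_hom_of_isJacobian hf hg' σ hσ J ψ hJ j hj
    j hzero).unique ⟨hmon, hjg⟩ ⟨inferInstance, Category.comp_id j⟩
  refine (nonempty_iso_iff hN hi).2 ?_
  rw [hu, ← heg, hg1]

end Groth.Agent.S17818
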