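import Groth.Statements.S17819
import Mathlib
import Groth.Agent.PicField.Canonical

set_option autoImplicit false
universe u
open CategoryTheory CategoryTheory.Limits AlgebraicGeometry MonoidalCategory CartesianMonoidalCategory MonObj
open JacVar

open Groth.CurveBridge

set_option maxHeartbeats 1600000
set_option backward.isDefEq.respectTransparency false
set_option backward.defeqAttrib.useBackward true
set_option backward.isDefEq.respectTransparency.types false

namespace Groth.Agent.S17819

/-- Let k be an algebraically closed field, C a smooth proper connected curve of genus g ≥ 2 over k with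
a k-point P, (J, ψ) its Jacobian (a commutative group scheme over k, coarse moduli scheme on all
k-schemes for degree-0 line bundles modulo twisting from the base, group law induced by tensor
product) and j : C ⟶ J the Abel map with base point P. Write W^r ⊂ J for the image of the r-fold
product C ×_k ⋯ ×_k C under (x_1, …, x_r) ↦ j(x_1) ⋯ j(x_r) (the image of the r-th symmetric power;
W^0 is the origin), and W^r_a for its translate by a k-point a of J. Let κ be the k-point of J given
by ψ on the degree-0 module Ω_{C/k} ⊗ I_P^{⊗(2g−2)} (the image of a canonical divisor), and for Z ⊂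
J let Z^* be the image of Z under x ↦ κ·x⁻¹. Then for every k-point a of J one has (W^{g−1}_a)^* =
W^{g−1}_{a⁻¹} as subsets of J. -/
theorem result (k : Type u) [Field k] [IsAlgClosed k]
    (C : Scheme.{u}) [C.Over (Spec (CommRingCat.of k))]
    [IsProper (C ↘ Spec (CommRingCat.of k))] [Smooth (C ↘ Spec (CommRingCat.of k))] [GeometricallyConnected (C ↘ Spec (CommRingCat.of k))]
    (hdim : topologicalKrullDim ↥C = 1)
    (g : ℕ) (hg : Curv2.genus k C = g) (hg2 : 2 ≤ g)
    (σ : Spec (CommRingCat.of k) ⟶ C) (hσ : σ ≫ (C ↘ Spec (CommRingCat.of k)) = 𝟙 _)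
    (J : Over (Spec (CommRingCat.of k))) [GrpObj J] [IsCommMonObj J]
    (ψ : (ModFun.PicDeg (C ↘ Spec (CommRingCat.of k)) 0).Hom ⊤ J) (hJ : Jac.IsJacobian (C ↘ Spec (CommRingCat.of k)) ⊤ J ψ)
    (j : Over.mk (C ↘ Spec (CommRingCat.of k)) ⟶ J) (hj : Jac.IsAbelJacobiAt (C ↘ Spec (CommRingCat.of k)) σ ψ j)
    (Kf : (PicF.XT (C ↘ Spec (CommRingCat.of k)) (𝟙_ (Over (Spec (CommRingCat.of k))))).Modules)
    (hKf : Nonempty (Kf ≅ (Scheme.Modules.pullback (pullback.fst (C ↘ Spec (CommRingCat.of k)) (𝟙_ (Over (Spec (CommRingCat.of k)))).hom)).obj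
      (CohB1.tensorMod (Omega.sheaf (C ↘ Spec (CommRingCat.of k))) (CohB1.tensorPow (ClSub.idealMod σ.ker) (2 * g - 2)))))
    (hT₁ : (⊤ : ObjectProperty (Over (Spec (CommRingCat.of k)))) (𝟙_ (Over (Spec (CommRingCat.of k))))) (hKok : (ModFun.PicDeg (C ↘ Spec (CommRingCat.of k)) 0).ok (𝟙_ (Over (Spec (CommRingCat.of k)))) Kf)
    (κ : (𝟙_ (Over (Spec (CommRingCat.of k)))) ⟶ J) (hκ : ψ.app (𝟙_ (Over (Spec (CommRingCat.of k)))) Kf hT₁ hKok = κ)
    (a : (𝟙_ (Over (Spec (CommRingCat.of k)))) ⟶ J) :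
    (Jac.transl J κ).left.base '' (((𝟙 J)⁻¹).left.base '' ((Jac.transl J a).left.base '' Set.range ((List.ofFn fun i : Fin (g - 1) =>
        (Over.homMk (WidePullback.π (fun (_ : Fin (g - 1)) => (C ↘ Spec (CommRingCat.of k))) i)
          (WidePullback.π_arrow (fun (_ : Fin (g - 1)) => (C ↘ Spec (CommRingCat.of k))) i) : Over.mk (WidePullback.base fun (_ : Fin (g - 1)) => (C ↘ Spec (CommRingCat.of k))) ⟶ Over.mk (C ↘ Spec (CommRingCat.of k))) ≫ j).prod).left.base)) =
      ((Jac.transl J a⁻¹).left.base '' Set.range ((List.ofFn fun i : Fin (g - 1) =>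
        (Over.homMk (WidePullback.π (fun (_ : Fin (g - 1)) => (C ↘ Spec (CommRingCat.of k))) i)
          (WidePullback.π_arrow (fun (_ : Fin (g - 1)) => (C ↘ Spec (CommRingCat.of k))) i) : Over.mk (WidePullback.base fun (_ : Fin (g - 1)) => (C ↘ Spec (CommRingCat.of k))) ⟶ Over.mk (C ↘ Spec (CommRingCat.of k))) ≫ j).prod).left.base) := by
  let f := C ↘ Spec (CommRingCat.of k)
  have : ConnectedSpace C := GeometricallyConnected.connectedSpace f f.isOpenMap
  have : IsIntegral C := Groth.CurveBridge.isIntegral_of_smooth k C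
  have h := Groth.CurveBridge.isRegCurve_of_smooth k C hdim
  have hK := Groth.CurveBridge.isFunctionField (k := k) (X := C) hdim
  have hf := Groth.PicField.isPtCurve_of_connected f hdim σ hσ
  obtain ⟨hp, -, -, e, hnat, hmul, hψ⟩ := Groth.PicField.exists_points_equiv hf σ hσ ψ hJ
  have hje := Groth.PicField.abel_eq hf ψ e hψ hj
  obtain ⟨C₀, hC, hκD⟩ := Groth.PicField.exists_canonical_isPtDiv (h := h) e hK _ ψ hψ Kf hKf hT₁ hKok κ hκ
  have hgK : FunFld.genus k C.functionField = g := (Groth.CurveBridge.genus_eq h hK).symm.trans hg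
  let O := Over.mk f
  have : IsProper O.hom := ‹IsProper f›
  have hmem := Groth.PicField.mem_range_ofFn_prod (C := O) j
  have hcl : ∀ n, IsClosed (Set.range ((List.ofFn fun i : Fin n =>
      Groth.PicField.projC O n i ≫ j).prod).left.base) :=
    Groth.PicField.isClosed_range_ofFn_prod (C := O) j
  have hclt : ∀ (a : 𝟙_ _ ⟶ J) (S : Set J.left), IsClosed S →
      IsClosed ((Jac.transl J a).left.base '' S) := fun a S hS => by
    rw [Groth.PicField.image_transl]
    exact hS.preimage (Jac.transl J a⁻¹).left.continuous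
  have hcli : ∀ (S : Set J.left), IsClosed S → IsClosed (((𝟙 J)⁻¹ : J ⟶ J).left.base '' S) :=
    fun S hS => by
    have : IsIso ((𝟙 J)⁻¹ : J ⟶ J).left := by
      refine ⟨⟨((𝟙 J)⁻¹ : J ⟶ J).left, ?_, ?_⟩⟩ <;>
      · rw [← Over.comp_left, GrpObj.comp_inv, Category.comp_id, inv_inv, Over.id_left]
    exact ((𝟙 J)⁻¹ : J ⟶ J).left.homeomorph.isClosedMap _ hS
  have hrefl := Groth.PicField.exists_reflect hK hnat hmul hC hgK hκD (by omega)
  rw [← hje] at hrefl
  refine Set.Subset.antisymm
    ((Groth.PicField.subset_iff_forall_point (hclt _ _ (hcli _ (hclt _ _ (hcl _)))) (hclt _ _ (hcl _))).2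
      fun z hz => ?_)
    ((Groth.PicField.subset_iff_forall_point (hclt _ _ (hcl _)) (hclt _ _ (hcli _ (hclt _ _ (hcl _))))).2
      fun z hz => ?_)
  all_goals simp only [Groth.PicField.mem_image_transl_iff, Groth.PicField.mem_image_inv_iff, hmem,
    inv_inv] at hz ⊢
  · obtain ⟨y, hy⟩ := hz
    obtain ⟨y', hy'⟩ := hrefl y
    exact ⟨y', by rw [← hy', ← hy]; simp [mul_comm, mul_left_comm]⟩
  · obtain ⟨y, hy⟩ := hz
    obtain ⟨y', hy'⟩ := hrefl y
    exact ⟨y', by rw [← hy', ← hy]; simp [mul_comm, mul_left_comm]⟩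

end Groth.Agent.S17819
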