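import Groth.Statements.S17820
import Mathlib
import Groth.Agent.PicField.ThetaClass

set_option autoImplicit false
universe u
open CategoryTheory CategoryTheory.Limits AlgebraicGeometry MonoidalCategory CartesianMonoidalCategory MonObj
open JacVar

open Groth.CurveBridge Groth.Abvar.PicCalc Groth.PicCurve

set_option maxHeartbeats 1600000
set_option backward.isDefEq.respectTransparency false
set_option backward.defeqAttrib.useBackward true
set_option backward.isDefEq.respectTransparency.types false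

namespace Groth.Agent.S17820

/-- Let k be an algebraically closed field, C a smooth proper connected curve of genus g ≥ 1 over k with
a k-point P, (J, ψ) its Jacobian (a commutative group scheme over k, coarse moduli scheme on all
k-schemes for degree-0 line bundles modulo twisting from the base, group law induced by tensor
product) and j : C ⟶ J the Abel map with base point P. Let Θ = W^{g−1} ⊂ J be the image of the (g −
1)-fold product C ×_k ⋯ ×_k C under (x_1, …, x_{g−1}) ↦ j(x_1) ⋯ j(x_{g−1}), Θ⁻ its image under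
inversion, and for an effective divisor D = P_1 + ⋯ + P_g of degree g on C (k-points P_i) let a =
j(P_1) ⋯ j(P_g) be its image in J and Θ⁻_a the translate of Θ⁻ by a. If L(Θ⁻_a) is an invertible
module on J inverse to the ideal of the reduced closed subscheme Θ⁻_a, then its pullback along j is
isomorphic to O_C(D), the invertible module with O_C(D) ⊗ I_{P_1} ⊗ ⋯ ⊗ I_{P_g} ≅ O_C. -/
theorem result (k : Type u) [Field k] [IsAlgClosed k]
    (C : Scheme.{u}) [C.Over (Spec (CommRingCat.of k))]
    [IsProper (C ↘ Spec (CommRingCat.of k))] [Smooth (C ↘ Spec (CommRingCat.of k))] [GeometricallyConnected (C ↘ Spec (CommRingCat.of k))]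
    (hdim : topologicalKrullDim ↥C = 1)
    (g : ℕ) (hg : Curv2.genus k C = g) (hg1 : 1 ≤ g)
    (σ : Spec (CommRingCat.of k) ⟶ C) (hσ : σ ≫ (C ↘ Spec (CommRingCat.of k)) = 𝟙 _)
    (J : Over (Spec (CommRingCat.of k))) [GrpObj J] [IsCommMonObj J]
    (ψ : (ModFun.PicDeg (C ↘ Spec (CommRingCat.of k)) 0).Hom ⊤ J) (hJ : Jac.IsJacobian (C ↘ Spec (CommRingCat.of k)) ⊤ J ψ)
    (j : Over.mk (C ↘ Spec (CommRingCat.of k)) ⟶ J) (hj : Jac.IsAbelJacobiAt (C ↘ Spec (CommRingCat.of k)) σ ψ j)
    (D : Fin g → (Spec (CommRingCat.of k) ⟶ C)) (hD : ∀ i, D i ≫ (C ↘ Spec (CommRingCat.of k)) = 𝟙 _)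
    (MD : C.Modules) (hMD : PicF.IsInvertible MD)
    (hMDD : Nonempty (CohB1.tensorMod MD (FGA.tensorList (List.ofFn fun i : Fin g => ClSub.idealMod (D i).ker)) ≅
      Coh.structureModule C))
    (La : J.left.Modules) (hLa : PicF.IsInvertible La)
    (hLaΘ : ClSub.IsInverseOf La (ClSub.idealMod (Scheme.IdealSheafData.vanishingIdeal
      ⟨closure ((Jac.transl J ((List.ofFn fun i : Fin g => (Over.homMk (D i) (hD i) : (𝟙_ (Over (Spec (CommRingCat.of k)))) ⟶ Over.mk (C ↘ Spec (CommRingCat.of k))) ≫ j).prod)).left.base '' (((𝟙 J)⁻¹).left.base '' Set.range ((List.ofFn fun i : Fin (g - 1) =>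
        (Over.homMk (WidePullback.π (fun (_ : Fin (g - 1)) => (C ↘ Spec (CommRingCat.of k))) i)
          (WidePullback.π_arrow (fun (_ : Fin (g - 1)) => (C ↘ Spec (CommRingCat.of k))) i) : Over.mk (WidePullback.base fun (_ : Fin (g - 1)) => (C ↘ Spec (CommRingCat.of k))) ⟶ Over.mk (C ↘ Spec (CommRingCat.of k))) ≫ j).prod).left.base)), isClosed_closure⟩))) :
    Nonempty ((Scheme.Modules.pullback j.left).obj La ≅ MD) := by
  let f := C ↘ Spec (CommRingCat.of k)
  have : ConnectedSpace C := GeometricallyConnected.connectedSpace f f.isOpenMap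
  have : IsIntegral C := Groth.CurveBridge.isIntegral_of_smooth k C
  have h := Groth.CurveBridge.isRegCurve_of_smooth k C hdim
  have hK := Groth.CurveBridge.isFunctionField (k := k) (X := C) hdim
  have hf := Groth.PicField.isPtCurve_of_connected f hdim σ hσ
  obtain ⟨n, rfl⟩ : ∃ n, g = n + 1 := ⟨g - 1, by omega⟩
  obtain ⟨hp, hs, hirr, e, hnat, hmul, hψ⟩ := Groth.PicField.exists_points_equiv hf σ hσ ψ hJ
  have hje := Groth.PicField.abel_eq hf ψ e hψ hj
  have hn : Groth.PicCurve.genus f = n + 1 := (Groth.PicField.genus_eq (k := k) C).trans hg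
  let O := Over.mk f
  have : IsProper O.hom := ‹IsProper f›
  subst hje
  let Do : Fin (n + 1) → (𝟙_ (Over (Spec (CommRingCat.of k))) ⟶ O) := fun i => Over.homMk (D i) (hD i)
  let a := ∏ i, Do i ≫ Groth.DivNorm.abel e
  have hprod : (List.ofFn fun i : Fin (n + 1) => Do i ≫ Groth.DivNorm.abel e).prod = a := List.prod_ofFn
  let R : Set J.left := Set.range ((List.ofFn fun i : Fin n =>
    Groth.PicField.projC O n i ≫ Groth.DivNorm.abel e).prod).left.base
  let S : Set J.left := ((𝟙 J)⁻¹ : J ⟶ J).left.base '' R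
  have hii : IsIso ((𝟙 J)⁻¹ : J ⟶ J).left := by
    refine ⟨⟨((𝟙 J)⁻¹ : J ⟶ J).left, ?_, ?_⟩⟩ <;>
    · rw [← Over.comp_left, GrpObj.comp_inv, Category.comp_id, inv_inv, Over.id_left]
  have hSc : IsClosed S := ((𝟙 J)⁻¹ : J ⟶ J).left.homeomorph.isClosedMap _
    (Groth.PicField.isClosed_range_ofFn_prod (Groth.DivNorm.abel e) n)
  have hS : ∀ z : 𝟙_ _ ⟶ J, z.left.base (IsLocalRing.closedPoint k) ∈ S ↔
      ∃ y : Fin n → (𝟙_ _ ⟶ O), z⁻¹ = ∏ i, y i ≫ Groth.DivNorm.abel e := fun z => by
    rw [Groth.PicField.mem_image_inv_iff, Groth.PicField.mem_range_ofFn_prod]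
  have : IsIso (Jac.transl J a).left := by
    refine ⟨⟨(Jac.transl J a⁻¹).left, ?_, ?_⟩⟩
    · exact congrArg (fun q : J ⟶ J => q.left) (Groth.PicField.transl_inv_comp a).2
    · exact congrArg (fun q : J ⟶ J => q.left) (Groth.PicField.transl_inv_comp a).1
  have : IsIso (Jac.transl J a⁻¹).left := by
    refine ⟨⟨(Jac.transl J a).left, ?_, ?_⟩⟩
    · exact congrArg (fun q : J ⟶ J => q.left) (Groth.PicField.transl_inv_comp a).1
    · exact congrArg (fun q : J ⟶ J => q.left) (Groth.PicField.transl_inv_comp a).2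
  have hSa : closure ((Jac.transl J a).left.base '' S) = (Jac.transl J a⁻¹).left.base ⁻¹' S := by
    rw [Groth.PicField.image_transl]
    exact (hSc.preimage (Scheme.Hom.continuous _)).closure_eq
  have hIa : Scheme.IdealSheafData.vanishingIdeal (X := J.left)
      ⟨closure ((Jac.transl J a).left.base '' S), isClosed_closure⟩ =
      (Scheme.IdealSheafData.vanishingIdeal ⟨S, hSc⟩).comap (Jac.transl J a⁻¹).left := by
    rw [Groth.PicField.comap_vanishingIdeal_of_isIso]
    congr 1
    exact TopologicalSpace.Closeds.ext hSa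
  rw [show ((List.ofFn fun i : Fin (n + 1) => (Over.homMk (D i) (hD i) : 𝟙_ _ ⟶ O) ≫
    Groth.DivNorm.abel e).prod) = a from hprod] at hLaΘ
  have hIai := Groth.PicAux.isInvertible_of_isInverseOf hLa hLaΘ
  have hIae : BlowUp.IsEffCartierIdeal (Scheme.IdealSheafData.vanishingIdeal (X := J.left)
      ⟨closure ((Jac.transl J a).left.base '' S), isClosed_closure⟩) :=
    Groth.PicAux.isEffCartierIdeal_of_isInvertible hIai
  have hI : BlowUp.IsEffCartierIdeal (Scheme.IdealSheafData.vanishingIdeal (X := J.left) ⟨S, hSc⟩) := by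
    have h1 := Groth.BlowUpBasics.isEffCartierIdeal_comap_of_flat (Jac.transl J a).left hIae
    have h2 : (Jac.transl J a).left ≫ (Jac.transl J a⁻¹).left = 𝟙 _ :=
      congrArg (fun q : J ⟶ J => q.left) (Groth.PicField.transl_inv_comp a).2
    rwa [hIa, ← Scheme.IdealSheafData.comap_comp, h2, Scheme.IdealSheafData.comap_id] at h1
  have hLac : cls hLa = pull (Jac.transl J a⁻¹).left (divCls hI) := by
    rw [pull_divCls _ hI (hIa ▸ hIae), ← divCls_congr hIa hIae]
    exact eq_inv_of_mul_eq_one_left ((cls_tensorMod hLa hIai).symm.trans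
      ((PicGrp.cls_eq_one_iff _).2 hLaΘ))
  refine (nonempty_iso_iff (Groth.PicAux.isInvertible_pullback _ hLa) hMD).2 ?_
  rw [← pull_cls _ hLa, hLac, ← pull_comp, ← Over.comp_left, show a = ∏ i, Do i ≫ Groth.DivNorm.abel e from rfl]
  refine (Groth.PicField.pull_transl_abel_eq e hnat hmul hn hSc hS hI Do).trans ?_
  rw [Groth.DivNorm.dC_sumD, map_prod]
  obtain ⟨hi, hd⟩ := Groth.PicField.isDivCls_tensorList_ideal (h := h) hf D hD Do (fun i => rfl) hK
  have h1 : cls hMD * cls hi = 1 := by
    rw [← cls_tensorMod hMD hi]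
    exact (PicGrp.cls_eq_one_iff _).2 hMDD
  have h2 := hd.inv hK
  rw [neg_neg, ← eq_inv_of_mul_eq_one_left h1] at h2
  obtain ⟨w, hw, he⟩ := Groth.PicField.IsDivCls.linEquiv hK h2 h2
  exact Groth.PicField.IsDivCls.eq hK
    (Groth.PicField.IsDivCls.prod hK fun i => Groth.PicField.isDivCls_clsPt hK hf (Do i) (h := h)) h2 hw he

end Groth.Agent.S17820
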