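import Groth.Statements.S17821
import Mathlib
import Groth.Agent.PicField.ThetaPullback

set_option autoImplicit false
universe u
open CategoryTheory CategoryTheory.Limits AlgebraicGeometry MonoidalCategory CartesianMonoidalCategory MonObj
open JacVar

open Groth.CurveBridge

set_option maxHeartbeats 1600000
set_option backward.isDefEq.respectTransparency false
set_option backward.defeqAttrib.useBackward true
set_option backward.isDefEq.respectTransparency.types false

namespace Groth.Agent.S17821

/-- Let k be an algebraically closed field, C a smooth proper connected curve of genus g ≥ 1 over k with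
a k-point P, (J, ψ) its Jacobian (a commutative group scheme over k, coarse moduli scheme on all
k-schemes for degree-0 line bundles modulo twisting from the base, group law induced by tensor
product) and j : C ⟶ J the Abel map with base point P; let Θ = W^{g−1} ⊂ J be the image of the (g −
1)-fold product of C under (x_i) ↦ Π j(x_i) and Θ⁻ its image under inversion. Let P_1, …, P_g be
distinct k-points of C such that the divisor D = P_1 + ⋯ + P_g satisfies h⁰(O_C(D)) = 1 (O_C(D)
being the invertible module with O_C(D) ⊗ I_{P_1} ⊗ ⋯ ⊗ I_{P_g} ≅ O_C), and let a = j(P_1) ⋯ j(P_g).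
Then j⁻¹(Θ⁻_a) = D as Cartier divisors on C: the pullback along j of the ideal of the reduced closed
subscheme Θ⁻_a of J is the intersection of the ideals of the points P_i. (The published statement is
phrased for a in the largest open subset of J over which the fibres of C^(g) → J are finite and the
divisor mapping to a is a sum of g distinct points; this row states it pointwise, for a divisor D of
g distinct points with h⁰(O_C(D)) = 1.) -/
theorem result (k : Type u) [Field k] [IsAlgClosed k]
    (C : Scheme.{u}) [C.Over (Spec (CommRingCat.of k))]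
    [IsProper (C ↘ Spec (CommRingCat.of k))] [Smooth (C ↘ Spec (CommRingCat.of k))] [GeometricallyConnected (C ↘ Spec (CommRingCat.of k))]
    (hdim : topologicalKrullDim ↥C = 1)
    (g : ℕ) (hg : Curv2.genus k C = g) (hg1 : 1 ≤ g)
    (σ : Spec (CommRingCat.of k) ⟶ C) (hσ : σ ≫ (C ↘ Spec (CommRingCat.of k)) = 𝟙 _)
    (J : Over (Spec (CommRingCat.of k))) [GrpObj J] [IsCommMonObj J]
    (ψ : (ModFun.PicDeg (C ↘ Spec (CommRingCat.of k)) 0).Hom ⊤ J) (hJ : Jac.IsJacobian (C ↘ Spec (CommRingCat.of k)) ⊤ J ψ)
    (j : Over.mk (C ↘ Spec (CommRingCat.of k)) ⟶ J) (hj : Jac.IsAbelJacobiAt (C ↘ Spec (CommRingCat.of k)) σ ψ j)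
    (D : Fin g → (Spec (CommRingCat.of k) ⟶ C)) (hD : ∀ i, D i ≫ (C ↘ Spec (CommRingCat.of k)) = 𝟙 _) (hDinj : ∀ i i', D i = D i' → i = i')
    (MD : C.Modules) (hMD : PicF.IsInvertible MD)
    (hMDD : Nonempty (CohB1.tensorMod MD (FGA.tensorList (List.ofFn fun i : Fin g => ClSub.idealMod (D i).ker)) ≅
      Coh.structureModule C))
    (hMD1 : Module.finrank k (Coh.HH C MD 0) = 1) :
    (Scheme.IdealSheafData.vanishingIdeal ⟨closure ((Jac.transl J ((List.ofFn fun i : Fin g => (Over.homMk (D i) (hD i) : (𝟙_ (Over (Spec (CommRingCat.of k)))) ⟶ Over.mk (C ↘ Spec (CommRingCat.of k))) ≫ j).prod)).left.base '' (((𝟙 J)⁻¹).left.base '' Set.range ((List.ofFn fun i : Fin (g - 1) =>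
        (Over.homMk (WidePullback.π (fun (_ : Fin (g - 1)) => (C ↘ Spec (CommRingCat.of k))) i)
          (WidePullback.π_arrow (fun (_ : Fin (g - 1)) => (C ↘ Spec (CommRingCat.of k))) i) : Over.mk (WidePullback.base fun (_ : Fin (g - 1)) => (C ↘ Spec (CommRingCat.of k))) ⟶ Over.mk (C ↘ Spec (CommRingCat.of k))) ≫ j).prod).left.base)), isClosed_closure⟩).comap j.left =
      ⨅ i : Fin g, (D i).ker := by
  let f := C ↘ Spec (CommRingCat.of k)
  have : ConnectedSpace C := GeometricallyConnected.connectedSpace f f.isOpenMap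
  have : IsIntegral C := Groth.CurveBridge.isIntegral_of_smooth k C
  have h := Groth.CurveBridge.isRegCurve_of_smooth k C hdim
  have hK := Groth.CurveBridge.isFunctionField (k := k) (X := C) hdim
  have hf := Groth.PicField.isPtCurve_of_connected f hdim σ hσ
  obtain ⟨n, rfl⟩ : ∃ n, g = n + 1 := ⟨g - 1, by omega⟩
  obtain ⟨hp, -, -, e, hnat, hmul, hψ⟩ := Groth.PicField.exists_points_equiv hf σ hσ ψ hJ
  have hje := Groth.PicField.abel_eq hf ψ e hψ hj
  have hn : Groth.PicCurve.genus f = n + 1 := (Groth.PicField.genus_eq (k := k) C).trans hg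
  let O := Over.mk f
  have : IsProper O.hom := ‹IsProper f›
  let Do : Fin (n + 1) → (𝟙_ (Over (Spec (CommRingCat.of k))) ⟶ O) := fun i => Over.homMk (D i) (hD i)
  have hl := Groth.PicField.ell_eq_finrank_of_tensorList (h := h) hf hK D hD MD hMD hMDD
  rw [hMD1] at hl
  have hgood := Groth.PicField.goodC_sumD_of_ell hf hK hn Do hl
  have hinj : ∀ i i', (D i).base (IsLocalRing.closedPoint k) = (D i').base (IsLocalRing.closedPoint k) →
      i = i' := fun i i' e =>
    hDinj i i' (ext_of_apply_closedPoint_eq f (hD i) (hD i') e)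
  rw [← Groth.PicField.prod_ker_eq_iInf D hD hinj]
  subst hje
  refine Groth.PicField.comap_abel_eq_prod_ker e hnat hmul hn Do hgood (fun z => ?_) isClosed_closure
  have hcl : IsClosed ((Jac.transl J ((List.ofFn fun i : Fin (n + 1) => Do i ≫ Groth.DivNorm.abel e).prod)).left.base ''
      (((𝟙 J)⁻¹ : J ⟶ J).left.base '' Set.range ((List.ofFn fun i : Fin n =>
        Groth.PicField.projC O n i ≫ Groth.DivNorm.abel e).prod).left.base)) := by
    rw [Groth.PicField.image_transl]
    have : IsIso ((𝟙 J)⁻¹ : J ⟶ J).left := by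
      refine ⟨⟨((𝟙 J)⁻¹ : J ⟶ J).left, ?_, ?_⟩⟩ <;>
      · rw [← Over.comp_left, GrpObj.comp_inv, Category.comp_id, inv_inv, Over.id_left]
    exact ((((𝟙 J)⁻¹ : J ⟶ J).left.homeomorph.isClosedMap _
      (Groth.PicField.isClosed_range_ofFn_prod (Groth.DivNorm.abel e) n))).preimage (Scheme.Hom.continuous _)
  refine Iff.trans (iff_of_eq (congrArg (z.left.base (IsLocalRing.closedPoint k) ∈ ·) hcl.closure_eq)) ?_
  rw [Groth.PicField.mem_image_transl_iff,
    Groth.PicField.mem_image_inv_iff, Groth.PicField.mem_range_ofFn_prod, List.prod_ofFn, mul_inv_rev,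
    inv_inv]

end Groth.Agent.S17821
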