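import Groth.Statements.S17822
import Mathlib
import Groth.Agent.PicField.Canonical

set_option autoImplicit false
universe u
open CategoryTheory CategoryTheory.Limits AlgebraicGeometry MonoidalCategory CartesianMonoidalCategory MonObj
open JacVar

open Groth.CurveBridge

set_option maxHeartbeats 1600000
set_option backward.isDefEq.respectTransparency false
set_option backward.defeqAttrib.useBackward true
set_option backward.isDefEq.respectTransparency.types false

namespace Groth.Agent.S17822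

/-- Let k be an algebraically closed field, C a smooth proper connected curve of genus g ≥ 2 over k with
a k-point P, (J, ψ) its Jacobian (a commutative group scheme over k, coarse moduli scheme on all
k-schemes for degree-0 line bundles modulo twisting from the base, group law induced by tensor
product) and j : C ⟶ J the Abel map with base point P. Write W^r ⊂ J for the image of the r-fold
product C ×_k ⋯ ×_k C under (x_1, …, x_r) ↦ j(x_1) ⋯ j(x_r) (the image of the r-th symmetric power;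
W^0 is the origin), and W^r_a for its translate by a k-point a of J. Let κ be the k-point of J given
by ψ on Ω_{C/k} ⊗ I_P^{⊗(2g−2)} and Z^* the image of Z ⊂ J under x ↦ κ·x⁻¹. Let 0 ≤ r ≤ g − 2 and
let a, b, x, y be k-points of J with x in W^1, y in W^{g−1−r} and a·x = b·y. If W^{r+1}_a is not
contained in W^{g−1}_b, then W^{r+1}_a ∩ W^{g−1}_b = W^r_{a·x} ∪ (W^{r+1}_a ∩ (W^{g−2}_{y·a⁻¹})^*)
as subsets of J. -/
theorem result (k : Type u) [Field k] [IsAlgClosed k]
    (C : Scheme.{u}) [C.Over (Spec (CommRingCat.of k))]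
    [IsProper (C ↘ Spec (CommRingCat.of k))] [Smooth (C ↘ Spec (CommRingCat.of k))] [GeometricallyConnected (C ↘ Spec (CommRingCat.of k))]
    (hdim : topologicalKrullDim ↥C = 1)
    (g : ℕ) (hg : Curv2.genus k C = g) (hg2 : 2 ≤ g)
    (σ : Spec (CommRingCat.of k) ⟶ C) (hσ : σ ≫ (C ↘ Spec (CommRingCat.of k)) = 𝟙 _)
    (J : Over (Spec (CommRingCat.of k))) [GrpObj J] [IsCommMonObj J]
    (ψ : (ModFun.PicDeg (C ↘ Spec (CommRingCat.of k)) 0).Hom ⊤ J) (hJ : Jac.IsJacobian (C ↘ Spec (CommRingCat.of k)) ⊤ J ψ)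
    (j : Over.mk (C ↘ Spec (CommRingCat.of k)) ⟶ J) (hj : Jac.IsAbelJacobiAt (C ↘ Spec (CommRingCat.of k)) σ ψ j)
    (Kf : (PicF.XT (C ↘ Spec (CommRingCat.of k)) (𝟙_ (Over (Spec (CommRingCat.of k))))).Modules)
    (hKf : Nonempty (Kf ≅ (Scheme.Modules.pullback (pullback.fst (C ↘ Spec (CommRingCat.of k)) (𝟙_ (Over (Spec (CommRingCat.of k)))).hom)).obj
      (CohB1.tensorMod (Omega.sheaf (C ↘ Spec (CommRingCat.of k))) (CohB1.tensorPow (ClSub.idealMod σ.ker) (2 * g - 2)))))
    (hT₁ : (⊤ : ObjectProperty (Over (Spec (CommRingCat.of k)))) (𝟙_ (Over (Spec (CommRingCat.of k))))) (hKok : (ModFun.PicDeg (C ↘ Spec (CommRingCat.of k)) 0).ok (𝟙_ (Over (Spec (CommRingCat.of k)))) Kf)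
    (κ : (𝟙_ (Over (Spec (CommRingCat.of k)))) ⟶ J) (hκ : ψ.app (𝟙_ (Over (Spec (CommRingCat.of k)))) Kf hT₁ hKok = κ)
    (r : ℕ) (hr : r ≤ g - 2) (a b x y : (𝟙_ (Over (Spec (CommRingCat.of k)))) ⟶ J)
    (hx : ∀ p, x.left.base p ∈ Set.range ((List.ofFn fun i : Fin 1 =>
        (Over.homMk (WidePullback.π (fun (_ : Fin 1) => (C ↘ Spec (CommRingCat.of k))) i)
          (WidePullback.π_arrow (fun (_ : Fin 1) => (C ↘ Spec (CommRingCat.of k))) i) : Over.mk (WidePullback.base fun (_ : Fin 1) => (C ↘ Spec (CommRingCat.of k))) ⟶ Over.mk (C ↘ Spec (CommRingCat.of k))) ≫ j).prod).left.base)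
    (hy : ∀ p, y.left.base p ∈ Set.range ((List.ofFn fun i : Fin (g - 1 - r) =>
        (Over.homMk (WidePullback.π (fun (_ : Fin (g - 1 - r)) => (C ↘ Spec (CommRingCat.of k))) i)
          (WidePullback.π_arrow (fun (_ : Fin (g - 1 - r)) => (C ↘ Spec (CommRingCat.of k))) i) : Over.mk (WidePullback.base fun (_ : Fin (g - 1 - r)) => (C ↘ Spec (CommRingCat.of k))) ⟶ Over.mk (C ↘ Spec (CommRingCat.of k))) ≫ j).prod).left.base)
    (hab : a * x = b * y)
    (hnot : ¬ (((Jac.transl J a).left.base '' Set.range ((List.ofFn fun i : Fin (r + 1) =>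
        (Over.homMk (WidePullback.π (fun (_ : Fin (r + 1)) => (C ↘ Spec (CommRingCat.of k))) i)
          (WidePullback.π_arrow (fun (_ : Fin (r + 1)) => (C ↘ Spec (CommRingCat.of k))) i) : Over.mk (WidePullback.base fun (_ : Fin (r + 1)) => (C ↘ Spec (CommRingCat.of k))) ⟶ Over.mk (C ↘ Spec (CommRingCat.of k))) ≫ j).prod).left.base) ⊆ ((Jac.transl J b).left.base '' Set.range ((List.ofFn fun i : Fin (g - 1) =>
        (Over.homMk (WidePullback.π (fun (_ : Fin (g - 1)) => (C ↘ Spec (CommRingCat.of k))) i)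
          (WidePullback.π_arrow (fun (_ : Fin (g - 1)) => (C ↘ Spec (CommRingCat.of k))) i) : Over.mk (WidePullback.base fun (_ : Fin (g - 1)) => (C ↘ Spec (CommRingCat.of k))) ⟶ Over.mk (C ↘ Spec (CommRingCat.of k))) ≫ j).prod).left.base))) :
    ((Jac.transl J a).left.base '' Set.range ((List.ofFn fun i : Fin (r + 1) =>
        (Over.homMk (WidePullback.π (fun (_ : Fin (r + 1)) => (C ↘ Spec (CommRingCat.of k))) i)
          (WidePullback.π_arrow (fun (_ : Fin (r + 1)) => (C ↘ Spec (CommRingCat.of k))) i) : Over.mk (WidePullback.base fun (_ : Fin (r + 1)) => (C ↘ Spec (CommRingCat.of k))) ⟶ Over.mk (C ↘ Spec (CommRingCat.of k))) ≫ j).prod).left.base) ∩ ((Jac.transl J b).left.base '' Set.range ((List.ofFn fun i : Fin (g - 1) =>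
        (Over.homMk (WidePullback.π (fun (_ : Fin (g - 1)) => (C ↘ Spec (CommRingCat.of k))) i)
          (WidePullback.π_arrow (fun (_ : Fin (g - 1)) => (C ↘ Spec (CommRingCat.of k))) i) : Over.mk (WidePullback.base fun (_ : Fin (g - 1)) => (C ↘ Spec (CommRingCat.of k))) ⟶ Over.mk (C ↘ Spec (CommRingCat.of k))) ≫ j).prod).left.base) =
      ((Jac.transl J (a * x)).left.base '' Set.range ((List.ofFn fun i : Fin r =>
        (Over.homMk (WidePullback.π (fun (_ : Fin r) => (C ↘ Spec (CommRingCat.of k))) i)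
          (WidePullback.π_arrow (fun (_ : Fin r) => (C ↘ Spec (CommRingCat.of k))) i) : Over.mk (WidePullback.base fun (_ : Fin r) => (C ↘ Spec (CommRingCat.of k))) ⟶ Over.mk (C ↘ Spec (CommRingCat.of k))) ≫ j).prod).left.base) ∪
      (((Jac.transl J a).left.base '' Set.range ((List.ofFn fun i : Fin (r + 1) =>
        (Over.homMk (WidePullback.π (fun (_ : Fin (r + 1)) => (C ↘ Spec (CommRingCat.of k))) i)
          (WidePullback.π_arrow (fun (_ : Fin (r + 1)) => (C ↘ Spec (CommRingCat.of k))) i) : Over.mk (WidePullback.base fun (_ : Fin (r + 1)) => (C ↘ Spec (CommRingCat.of k))) ⟶ Over.mk (C ↘ Spec (CommRingCat.of k))) ≫ j).prod).left.base) ∩ ((Jac.transl J κ).left.base '' (((𝟙 J)⁻¹).left.base '' ((Jac.transl J (y * a⁻¹)).left.base '' Set.range ((List.ofFn fun i : Fin (g - 2) =>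
        (Over.homMk (WidePullback.π (fun (_ : Fin (g - 2)) => (C ↘ Spec (CommRingCat.of k))) i)
          (WidePullback.π_arrow (fun (_ : Fin (g - 2)) => (C ↘ Spec (CommRingCat.of k))) i) : Over.mk (WidePullback.base fun (_ : Fin (g - 2)) => (C ↘ Spec (CommRingCat.of k))) ⟶ Over.mk (C ↘ Spec (CommRingCat.of k))) ≫ j).prod).left.base)))) := by
  let f := C ↘ Spec (CommRingCat.of k)
  have : ConnectedSpace C := GeometricallyConnected.connectedSpace f f.isOpenMap
  have : IsIntegral C := Groth.CurveBridge.isIntegral_of_smooth k C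
  have h := Groth.CurveBridge.isRegCurve_of_smooth k C hdim
  have hK := Groth.CurveBridge.isFunctionField (k := k) (X := C) hdim
  have hf := Groth.PicField.isPtCurve_of_connected f hdim σ hσ
  obtain ⟨hp, -, -, e, hnat, hmul, hψ⟩ := Groth.PicField.exists_points_equiv hf σ hσ ψ hJ
  have hje := Groth.PicField.abel_eq hf ψ e hψ hj
  obtain ⟨C₀, hC, hκD⟩ := Groth.PicField.exists_canonical_isPtDiv (h := h) e hK _ ψ hψ Kf hKf hT₁ hKok κ hκ
  have hgK : FunFld.genus k C.functionField = g := (Groth.CurveBridge.genus_eq h hK).symm.trans hg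
  let O := Over.mk f
  have : IsProper O.hom := ‹IsProper f›
  have hmem := Groth.PicField.mem_range_ofFn_prod (C := O) j
  have hcl : ∀ n, IsClosed (Set.range ((List.ofFn fun i : Fin n =>
      Groth.PicField.projC O n i ≫ j).prod).left.base) :=
    Groth.PicField.isClosed_range_ofFn_prod (C := O) j
  have hclt : ∀ (a : 𝟙_ _ ⟶ J) (S : Set J.left), IsClosed S →
      IsClosed ((Jac.transl J a).left.base '' S) := fun a S hS => by
    rw [Groth.PicField.image_transl]
    exact hS.preimage (Jac.transl J a⁻¹).left.continuous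
  have hcli : ∀ (S : Set J.left), IsClosed S → IsClosed (((𝟙 J)⁻¹ : J ⟶ J).left.base '' S) :=
    fun S hS => by
    have : IsIso ((𝟙 J)⁻¹ : J ⟶ J).left := by
      refine ⟨⟨((𝟙 J)⁻¹ : J ⟶ J).left, ?_, ?_⟩⟩ <;>
      · rw [← Over.comp_left, GrpObj.comp_inv, Category.comp_id, inv_inv, Over.id_left]
    exact ((𝟙 J)⁻¹ : J ⟶ J).left.homeomorph.isClosedMap _ hS
  have hsub : ∀ p : (𝟙_ (Over (Spec (CommRingCat.of k)))).left, p = IsLocalRing.closedPoint k :=
    fun p => Subsingleton.elim (α := PrimeSpectrum k) _ _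
  obtain ⟨xs, hxs⟩ := (hmem 1 x).1 (hx (IsLocalRing.closedPoint k))
  obtain ⟨q, hq⟩ := (hmem (g - 1 - r) y).1 (hy (IsLocalRing.closedPoint k))
  rw [Fin.prod_univ_one] at hxs
  have hrs : r + (g - 1 - r) + 2 = g + 1 := by omega
  have hA := hclt a _ (hcl (r + 1))
  have hB := hclt b _ (hcl (g - 1))
  have hbb : a * b⁻¹ = y * x⁻¹ := by
    rw [mul_inv_eq_iff_eq_mul, mul_comm y, _root_.mul_assoc, eq_inv_mul_iff_mul_eq, mul_comm, hab, mul_comm]
  -- a point of `W^{r+1}_a` in terms of the conditions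
  refine Set.Subset.antisymm
    ((Groth.PicField.subset_iff_forall_point (hA.inter hB)
      ((hclt _ _ (hcl r)).union (hA.inter (hclt _ _ (hcli _ (hclt _ _ (hcl _))))))).2 fun z hz => ?_)
    ((Groth.PicField.subset_iff_forall_point
      ((hclt _ _ (hcl r)).union (hA.inter (hclt _ _ (hcli _ (hclt _ _ (hcl _))))))
      (hA.inter hB)).2 fun z hz => ?_)
  · simp only [Set.mem_inter_iff, Set.mem_union, Groth.PicField.mem_image_transl_iff,
      Groth.PicField.mem_image_inv_iff, hmem] at hz ⊢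
    obtain ⟨⟨u, hu⟩, v, hv⟩ := hz
    have hzu : z = (∏ i, u i ≫ j) * a := by rw [← hu, inv_mul_cancel_right]
    have he : (∏ i, u i ≫ j) * y = x * ∏ i, v i ≫ j := by
      rw [← hv, hzu, _root_.mul_assoc _ a b⁻¹, hbb, mul_left_comm x, mul_inv_cancel_comm_assoc]
    rw [hq, hxs, hje] at he
    rcases Groth.PicField.mem_or_reflect hK hnat hmul hC hgK hκD hrs hg2 (xs 0) u q v he
      with ⟨w, hw⟩ | ⟨i, hi⟩ | ⟨i, hi⟩
    · rw [← hje, ← hq] at hw
      refine Or.inr ⟨⟨u, hu⟩, w, ?_⟩
      rw [← hw, hzu]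
      (apply Additive.ofMul.injective; simp only [ofMul_mul, ofMul_inv]; abel)
    · refine Or.inl ⟨fun l => u (i.succAbove l), ?_⟩
      rw [hzu, Fin.prod_univ_succAbove _ i, hi, ← hxs]
      (apply Additive.ofMul.injective; simp only [ofMul_mul, ofMul_inv]; abel)
    · exfalso
      refine hnot ((Groth.PicField.subset_iff_forall_point hA hB).2 fun w hw => ?_)
      simp only [Groth.PicField.mem_image_transl_iff, hmem] at hw ⊢
      obtain ⟨u', hu'⟩ := hw
      obtain ⟨s, hs⟩ : ∃ s, g - 1 - r = s + 1 := ⟨g - 2 - r, by omega⟩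
      let q' : Fin s → (𝟙_ _ ⟶ O) := fun l => q ((finCongr hs).symm ((finCongr hs i).succAbove l))
      have hy' : y = x * ∏ l, q' l ≫ j := by
        rw [hq, ← Equiv.prod_comp (finCongr hs).symm, Fin.prod_univ_succAbove _ (finCongr hs i),
          Equiv.symm_apply_apply, hi, ← hxs]
      have hn : (r + 1) + s = g - 1 := by omega
      refine ⟨fun l => Fin.append u' q' ((finCongr hn).symm l), ?_⟩
      rw [Equiv.prod_comp (finCongr hn).symm (fun l => Fin.append u' q' l ≫ j), Fin.prod_univ_add]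
      simp only [Fin.append_left, Fin.append_right]
      rw [← hu', _root_.mul_assoc, show (∏ l, q' l ≫ j) = a * b⁻¹ by
        rw [hbb, hy', mul_inv_cancel_comm]]
      (apply Additive.ofMul.injective; simp only [ofMul_mul, ofMul_inv]; abel)
  · simp only [Set.mem_inter_iff, Set.mem_union, Groth.PicField.mem_image_transl_iff,
      Groth.PicField.mem_image_inv_iff, hmem] at hz ⊢
    rcases hz with ⟨u', hu'⟩ | ⟨⟨u, hu⟩, w, hw⟩
    · refine ⟨⟨Fin.cons (xs 0) u', ?_⟩, ?_⟩
      · rw [Fin.prod_univ_succ, Fin.cons_zero, ← hxs]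
        simp only [Fin.cons_succ]
        rw [← hu']
        (apply Additive.ofMul.injective; simp only [ofMul_mul, ofMul_inv]; abel)
      · have hn : r + (g - 1 - r) = g - 1 := by omega
        refine ⟨fun l => Fin.append u' q ((finCongr hn).symm l), ?_⟩
        rw [Equiv.prod_comp (finCongr hn).symm (fun l => Fin.append u' q l ≫ j), Fin.prod_univ_add]
        simp only [Fin.append_left, Fin.append_right]
        rw [← hu', ← hq, hab]
        (apply Additive.ofMul.injective; simp only [ofMul_mul, ofMul_inv]; abel)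
    · refine ⟨⟨u, hu⟩, ?_⟩
      have hzu : z = (∏ i, u i ≫ j) * a := by rw [← hu, inv_mul_cancel_right]
      have he : (∏ i, u i ≫ j) * y * (∏ i, w i ≫ j) = κ := by
        rw [← hw, hzu]
        (apply Additive.ofMul.injective; simp only [ofMul_mul, ofMul_inv]; abel)
      rw [hq, hje] at he
      obtain ⟨v, hv⟩ := Groth.PicField.exists_of_reflect hK hnat hmul hC hgK hκD hrs hg2 (xs 0) u q w he
      rw [← hje, ← hq, ← hxs] at hv
      exact ⟨v, by rw [← hv, hzu, _root_.mul_assoc _ a b⁻¹, hbb, ← _root_.mul_assoc]⟩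

end Groth.Agent.S17822
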