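import Groth.Statements.S17823
import Mathlib
import Groth.Agent.PicField.ThetaPullback

set_option autoImplicit false
universe u
open CategoryTheory CategoryTheory.Limits AlgebraicGeometry MonoidalCategory CartesianMonoidalCategory MonObj
open JacVar

open Groth.CurveBridge

set_option maxHeartbeats 1600000
set_option backward.isDefEq.respectTransparency false
set_option backward.defeqAttrib.useBackward true
set_option backward.isDefEq.respectTransparency.types false

namespace Groth.Agent.S17823

/-- Let k be an algebraically closed field, C a smooth proper connected curve of genus g ≥ 2 over k with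
a k-point P, (J, ψ) its Jacobian (a commutative group scheme over k, coarse moduli scheme on all
k-schemes for degree-0 line bundles modulo twisting from the base, group law induced by tensor
product) and j : C ⟶ J the Abel map with base point P. Write W^r ⊂ J for the image of the r-fold
product C ×_k ⋯ ×_k C under (x_1, …, x_r) ↦ j(x_1) ⋯ j(x_r) (the image of the r-th symmetric power;
W^0 is the origin), and W^r_a for its translate by a k-point a of J. Let κ be the k-point of J given
by ψ on Ω_{C/k} ⊗ I_P^{⊗(2g−2)}. If a is a k-point of J such that W^1 = j(C) is not contained in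
W^{g−1}_a, then there are k-points P_1, …, P_g of C, unique up to reordering, with j(P_1) ⋯ j(P_g) =
a·κ (the unique effective divisor D(a) of degree g whose class maps to a·κ), and W^1 · W^{g−1}_a
regarded as a divisor on C equals D(a): the pullback along j of the ideal of the reduced closed
subscheme W^{g−1}_a is the product of the ideals of the points P_i. -/
theorem result (k : Type u) [Field k] [IsAlgClosed k]
    (C : Scheme.{u}) [C.Over (Spec (CommRingCat.of k))]
    [IsProper (C ↘ Spec (CommRingCat.of k))] [Smooth (C ↘ Spec (CommRingCat.of k))] [GeometricallyConnected (C ↘ Spec (CommRingCat.of k))]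
    (hdim : topologicalKrullDim ↥C = 1)
    (g : ℕ) (hg : Curv2.genus k C = g) (hg2 : 2 ≤ g)
    (σ : Spec (CommRingCat.of k) ⟶ C) (hσ : σ ≫ (C ↘ Spec (CommRingCat.of k)) = 𝟙 _)
    (J : Over (Spec (CommRingCat.of k))) [GrpObj J] [IsCommMonObj J]
    (ψ : (ModFun.PicDeg (C ↘ Spec (CommRingCat.of k)) 0).Hom ⊤ J) (hJ : Jac.IsJacobian (C ↘ Spec (CommRingCat.of k)) ⊤ J ψ)
    (j : Over.mk (C ↘ Spec (CommRingCat.of k)) ⟶ J) (hj : Jac.IsAbelJacobiAt (C ↘ Spec (CommRingCat.of k)) σ ψ j)
    (Kf : (PicF.XT (C ↘ Spec (CommRingCat.of k)) (𝟙_ (Over (Spec (CommRingCat.of k))))).Modules)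
    (hKf : Nonempty (Kf ≅ (Scheme.Modules.pullback (pullback.fst (C ↘ Spec (CommRingCat.of k)) (𝟙_ (Over (Spec (CommRingCat.of k)))).hom)).obj
      (CohB1.tensorMod (Omega.sheaf (C ↘ Spec (CommRingCat.of k))) (CohB1.tensorPow (ClSub.idealMod σ.ker) (2 * g - 2)))))
    (hT₁ : (⊤ : ObjectProperty (Over (Spec (CommRingCat.of k)))) (𝟙_ (Over (Spec (CommRingCat.of k))))) (hKok : (ModFun.PicDeg (C ↘ Spec (CommRingCat.of k)) 0).ok (𝟙_ (Over (Spec (CommRingCat.of k)))) Kf)
    (κ : (𝟙_ (Over (Spec (CommRingCat.of k)))) ⟶ J) (hκ : ψ.app (𝟙_ (Over (Spec (CommRingCat.of k)))) Kf hT₁ hKok = κ)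
    (a : (𝟙_ (Over (Spec (CommRingCat.of k)))) ⟶ J) (ha : ¬ (Set.range ((List.ofFn fun i : Fin 1 =>
        (Over.homMk (WidePullback.π (fun (_ : Fin 1) => (C ↘ Spec (CommRingCat.of k))) i)
          (WidePullback.π_arrow (fun (_ : Fin 1) => (C ↘ Spec (CommRingCat.of k))) i) : Over.mk (WidePullback.base fun (_ : Fin 1) => (C ↘ Spec (CommRingCat.of k))) ⟶ Over.mk (C ↘ Spec (CommRingCat.of k))) ≫ j).prod).left.base ⊆ ((Jac.transl J a).left.base '' Set.range ((List.ofFn fun i : Fin (g - 1) =>
        (Over.homMk (WidePullback.π (fun (_ : Fin (g - 1)) => (C ↘ Spec (CommRingCat.of k))) i)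
          (WidePullback.π_arrow (fun (_ : Fin (g - 1)) => (C ↘ Spec (CommRingCat.of k))) i) : Over.mk (WidePullback.base fun (_ : Fin (g - 1)) => (C ↘ Spec (CommRingCat.of k))) ⟶ Over.mk (C ↘ Spec (CommRingCat.of k))) ≫ j).prod).left.base))) :
    ∃ (D : Fin g → (Spec (CommRingCat.of k) ⟶ C)) (hD : ∀ i, D i ≫ (C ↘ Spec (CommRingCat.of k)) = 𝟙 _),
      (List.ofFn fun i : Fin g => (Over.homMk (D i) (hD i) : (𝟙_ (Over (Spec (CommRingCat.of k)))) ⟶ Over.mk (C ↘ Spec (CommRingCat.of k))) ≫ j).prod = a * κ ∧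
      (∀ (D' : Fin g → (Spec (CommRingCat.of k) ⟶ C)) (hD' : ∀ i, D' i ≫ (C ↘ Spec (CommRingCat.of k)) = 𝟙 _),
        (List.ofFn fun i : Fin g => (Over.homMk (D' i) (hD' i) : (𝟙_ (Over (Spec (CommRingCat.of k)))) ⟶ Over.mk (C ↘ Spec (CommRingCat.of k))) ≫ j).prod = a * κ → ∃ e : Equiv.Perm (Fin g), ∀ i, D' i = D (e i)) ∧
      (Scheme.IdealSheafData.vanishingIdeal ⟨closure ((Jac.transl J a).left.base '' Set.range ((List.ofFn fun i : Fin (g - 1) =>
        (Over.homMk (WidePullback.π (fun (_ : Fin (g - 1)) => (C ↘ Spec (CommRingCat.of k))) i)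
          (WidePullback.π_arrow (fun (_ : Fin (g - 1)) => (C ↘ Spec (CommRingCat.of k))) i) : Over.mk (WidePullback.base fun (_ : Fin (g - 1)) => (C ↘ Spec (CommRingCat.of k))) ⟶ Over.mk (C ↘ Spec (CommRingCat.of k))) ≫ j).prod).left.base), isClosed_closure⟩).comap j.left =
        ∏ i : Fin g, (D i).ker := by
  let f := C ↘ Spec (CommRingCat.of k)
  have : ConnectedSpace C := GeometricallyConnected.connectedSpace f f.isOpenMap
  have : IsIntegral C := Groth.CurveBridge.isIntegral_of_smooth k C
  have h := Groth.CurveBridge.isRegCurve_of_smooth k C hdim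
  have hK := Groth.CurveBridge.isFunctionField (k := k) (X := C) hdim
  have hF := Groth.FunFld1.IsFF.of_isFunctionField hK
  have hf := Groth.PicField.isPtCurve_of_connected f hdim σ hσ
  obtain ⟨hp, -, -, e, hnat, hmul, hψ⟩ := Groth.PicField.exists_points_equiv hf σ hσ ψ hJ
  have hje := Groth.PicField.abel_eq hf ψ e hψ hj
  obtain ⟨C₀, hC, hκD⟩ := Groth.PicField.exists_canonical_isPtDiv (h := h) e hK _ ψ hψ Kf hKf hT₁ hKok κ hκ
  have hgK : FunFld.genus k C.functionField = g := (Groth.CurveBridge.genus_eq h hK).symm.trans hg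
  subst hje
  obtain ⟨n, rfl⟩ : ∃ n, g = n + 1 := ⟨g - 1, by omega⟩
  have hn : Groth.PicCurve.genus f = n + 1 := (Groth.PicField.genus_eq (k := k) C).trans hg
  let O := Over.mk f
  let j := Groth.DivNorm.abel e
  have : IsProper O.hom := ‹IsProper f›
  have hmem := Groth.PicField.mem_range_ofFn_prod (C := O) j
  have hcl : ∀ m, IsClosed (Set.range ((List.ofFn fun i : Fin m =>
      Groth.PicField.projC O m i ≫ j).prod).left.base) :=
    Groth.PicField.isClosed_range_ofFn_prod (C := O) j
  have hclt : IsClosed ((Jac.transl J a).left.base '' Set.range ((List.ofFn fun i : Fin n =>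
      Groth.PicField.projC O n i ≫ j).prod).left.base) := by
    rw [Groth.PicField.image_transl]
    exact (hcl n).preimage (Scheme.Hom.continuous _)
  set P₀ : FunFld.Divisor k C.functionField :=
    Finsupp.single (Groth.PicField.plOf h (Groth.DivNorm.zSec σ hσ (𝟙_ _))) 1 with hP₀
  -- the class `a κ`
  obtain ⟨A, hA⟩ := Groth.PicField.exists_isPtDiv (h := h) (e := e) hK (a * κ)
  have hdA : A.deg = 0 := by
    rw [← Groth.PicField.degC_eq_deg_of_isDivCls hf hK hA]
    exact (e _ (a * κ)).2.2 _
  have hd1 : FunFld.Divisor.deg P₀ = 1 := by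
    rw [hP₀, Groth.FunFld1.deg_single, Groth.FunFld1.deg_eq_one_of_isAlgClosed hF]
    rfl
  have hdnsmul : ∀ m : ℕ, FunFld.Divisor.deg (m • P₀) = m := fun m => by
    induction m with
    | zero => rw [zero_nsmul, Groth.FunFld1.deg_zero]; rfl
    | succ m ih => rw [succ_nsmul, Groth.FunFld1.deg_add, ih, hd1]; push_cast; ring
  have hdg : (A + (n + 1) • P₀).deg = ((n + 1 : ℕ) : ℤ) := by
    rw [Groth.FunFld1.deg_add, hdA, hdnsmul, zero_add]
  have hlA : 1 ≤ FunFld.ell (A + (n + 1) • P₀) := by
    have hr := Groth.FunFld1.riemann_roch hK hC (A + (n + 1) • P₀)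
    rw [hdg, hgK] at hr
    omega
  obtain ⟨D, hD⟩ := (Groth.PicField.exists_eq_prod_iff hK hnat hmul hA hdg).2 hlA
  -- the sum has one section
  have hlD : FunFld.ell (∑ i, Finsupp.single (Groth.PicField.plOf h (D i)) 1 :
      FunFld.Divisor k C.functionField) = 1 := by
    have h1 := Groth.PicField.one_le_ell hK (D := ∑ i, Finsupp.single (Groth.PicField.plOf h (D i)) 1)
      (Finset.sum_nonneg fun i _ => Finsupp.single_nonneg.mpr zero_le_one)
    by_contra hne
    refine ha ?_
    refine (Groth.PicField.subset_iff_forall_point (hcl 1) hclt).2 fun z hz => ?_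
    rw [Groth.PicField.mem_image_transl_iff, hmem]
    rw [hmem] at hz
    obtain ⟨x, hx⟩ := hz
    rw [Fin.prod_univ_one] at hx
    have hAx := (hA.mul hmul ((Groth.PicField.isPtDiv_abel (h := h) hK hnat (x 0)).inv hK hmul))
    rw [← hP₀] at hAx
    have hdrop := Groth.CurveBridge.CliffordEquality.ell_le_sub_single hK hC
      (∑ i, Finsupp.single (Groth.PicField.plOf h (D i)) 1) (Groth.PicField.plOf h (x 0))
    obtain ⟨w, hw, he⟩ := Groth.PicField.IsDivCls.linEquiv hK hA
      (hD ▸ Groth.PicField.isPtDiv_prod (h := h) hK hmul hnat D : Groth.PicField.IsPtDiv h e (a * κ) _)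
    rw [← hP₀, sub_eq_iff_eq_add] at he
    have e1 : A + -(Finsupp.single (Groth.PicField.plOf h (x 0)) 1 - P₀) + n • P₀ =
        A + (n + 1) • P₀ - Finsupp.single (Groth.PicField.plOf h (x 0)) 1 := by
      rw [add_nsmul, one_nsmul]; abel
    have e2 : A + (n + 1) • P₀ - Finsupp.single (Groth.PicField.plOf h (x 0)) 1 + FunFld.div k w =
        (∑ i, Finsupp.single (Groth.PicField.plOf h (D i)) 1) -
          Finsupp.single (Groth.PicField.plOf h (x 0)) 1 := by
      rw [he]; abel
    obtain ⟨y, hy⟩ := (Groth.PicField.exists_eq_prod_iff hK hnat hmul hAx (n := n) (by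
      rw [e1, Groth.FunFld1.deg_sub, hdg, Groth.FunFld1.deg_single,
        Groth.FunFld1.deg_eq_one_of_isAlgClosed hF]
      push_cast
      omega)).2 (by
      rw [e1, ← hF.ell_add_div _ hw, e2]
      omega)
    obtain ⟨y', hy'⟩ := Groth.PicField.exists_reflect hK hnat hmul hC hgK hκD (Nat.le_add_left 1 n) y
    refine ⟨y', Eq.trans ?_ hy'⟩
    show z * a⁻¹ = κ * (∏ i : Fin n, y i ≫ Groth.DivNorm.abel e)⁻¹
    rw [← hy, hx]
    (apply Additive.ofMul.injective; simp only [ofMul_mul, ofMul_inv]; abel)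
  have hgood := Groth.PicField.goodC_sumD_of_ell hf hK hn D hlD
  have hprod : ∀ {m : ℕ} (s : Fin m → (Spec (CommRingCat.of k) ⟶ C))
      (hs : ∀ i, s i ≫ f = 𝟙 _),
      (List.ofFn fun i => (Over.homMk (s i) (hs i) : 𝟙_ _ ⟶ O) ≫ j).prod =
        ∏ i, (Over.homMk (s i) (hs i) : 𝟙_ _ ⟶ O) ≫ j := fun s hs => List.prod_ofFn
  refine ⟨fun i => (D i).left, fun i => Over.w (D i), ?_, ?_, ?_⟩
  · exact (hprod _ _).trans hD.symm
  · intro D' hD' hD'p
    let D'o : Fin (n + 1) → (𝟙_ (Over (Spec (CommRingCat.of k))) ⟶ O) := fun i => Over.homMk (D' i) (hD' i)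
    have h2 : ∏ i, D'o i ≫ j = a * κ := (hprod _ _).symm.trans hD'p
    obtain ⟨w, hw, he⟩ := Groth.PicField.IsDivCls.linEquiv hK
      (Groth.PicField.isPtDiv_prod (h := h) hK hmul hnat D)
      (show Groth.PicField.IsPtDiv h e (∏ i, D i ≫ j) _ from
        (hD.symm.trans h2.symm).symm ▸ Groth.PicField.isPtDiv_prod (h := h) hK hmul hnat D'o)
    rw [sub_eq_iff_eq_add, add_right_comm, sub_add_cancel] at he
    have hsum : (∑ i, Finsupp.single (Groth.PicField.plOf h (D i)) 1 : FunFld.Divisor k C.functionField) =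
        ∑ i, Finsupp.single (Groth.PicField.plOf h (D'o i)) 1 := by
      by_contra hne
      have := Groth.PicField.two_le_ell hK
        (Finset.sum_nonneg fun i _ => Finsupp.single_nonneg.mpr zero_le_one)
        (Finset.sum_nonneg fun i _ => Finsupp.single_nonneg.mpr zero_le_one) hne hw he
      omega
    classical
    have hm : Multiset.map (fun i => Groth.PicField.plOf h (D'o i)) (Finset.univ : Finset (Fin (n + 1))).val =
        Multiset.map (fun i => Groth.PicField.plOf h (D i)) (Finset.univ : Finset (Fin (n + 1))).val := by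
      ext P
      have := congrArg (fun E : FunFld.Divisor k C.functionField => E P) hsum
      simp only [Finsupp.finsetSum_apply, Finsupp.single_apply, Finset.sum_boole, Nat.cast_inj] at this
      rw [Multiset.count_map, Multiset.count_map, ← Finset.filter_val, ← Finset.filter_val]
      simp only [eq_comm (a := P)]
      exact this.symm
    obtain ⟨e', he'⟩ : ∃ e' : Equiv.Perm (Fin (n + 1)),
        ∀ i, Groth.PicField.plOf h (D'o i) = Groth.PicField.plOf h (D (e' i)) := by
      have hc : ∀ P, Fintype.card {i // Groth.PicField.plOf h (D'o i) = P} =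
          Fintype.card {i // Groth.PicField.plOf h (D i) = P} := fun P => by
        have := congrArg (Multiset.count P) hm
        rw [Multiset.count_map, Multiset.count_map, ← Finset.filter_val, ← Finset.filter_val] at this
        simp only [eq_comm (a := P)] at this
        rw [Fintype.card_subtype, Fintype.card_subtype]
        exact this
      exact ⟨Equiv.ofFiberEquiv fun P => Fintype.equivOfCardEq (hc P),
        fun i => (Equiv.ofFiberEquiv_map (fun P => Fintype.equivOfCardEq (hc P)) i).symm⟩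
    exact ⟨e', fun i => congrArg (fun z : 𝟙_ _ ⟶ O => z.left) (Groth.PicField.plOf_injective (he' i))⟩
  · refine Groth.PicField.comap_abel_eq_prod_ker e hnat hmul hn D hgood (fun z => ?_) isClosed_closure
    refine Iff.trans (iff_of_eq (congrArg (z.left.base (IsLocalRing.closedPoint k) ∈ ·) hclt.closure_eq)) ?_
    rw [Groth.PicField.mem_image_transl_iff, hmem, ← hD]
    constructor
    · rintro ⟨y, hy⟩
      obtain ⟨y', hy'⟩ := Groth.PicField.exists_reflect hK hnat hmul hC hgK hκD (Nat.le_add_left 1 n) y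
      refine ⟨y', Eq.trans ?_ hy'⟩
      show _ = κ * (∏ i : Fin n, y i ≫ Groth.DivNorm.abel e)⁻¹
      rw [← hy]
      (apply Additive.ofMul.injective; simp only [ofMul_mul, ofMul_inv]; abel)
    · rintro ⟨y, hy⟩
      obtain ⟨y', hy'⟩ := Groth.PicField.exists_reflect hK hnat hmul hC hgK hκD (Nat.le_add_left 1 n) y
      refine ⟨y', Eq.trans ?_ hy'⟩
      show _ = κ * (∏ i : Fin n, y i ≫ Groth.DivNorm.abel e)⁻¹
      rw [← hy]
      (apply Additive.ofMul.injective; simp only [ofMul_mul, ofMul_inv]; abel)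

end Groth.Agent.S17823
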