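import Groth.Statements.S17824
import Groth.Agent.CurveBridge.FamilyH0

set_option autoImplicit false
set_option linter.style.haveILetI false
universe u
open CategoryTheory CategoryTheory.Limits AlgebraicGeometry
open JacVar
open Groth.PicAux Groth.CurveBridge Groth.CurveBridge.FamilyH0

namespace Groth.Agent.S17824

theorem deg_list_sum (k : Type u) [Field k] (K : Type u) [Field K] [Algebra k K] [IsAlgClosed k]
    (hF : Groth.FunFld1.IsFF k K) {ι : Type*} (f : ι → FunFld.Place k K) :
    ∀ l : List ι, FunFld.Divisor.deg ((l.map fun i => Finsupp.single (f i) (1 : ℤ)).sum :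
      FunFld.Divisor k K) = l.length := by
  intro l
  induction l with
  | nil => simp [Groth.FunFld1.deg_zero]
  | cons a l ih =>
    rw [List.map_cons, List.sum_cons, Groth.FunFld1.deg_add, Groth.FunFld1.deg_single,
      Groth.FunFld1.deg_eq_one_of_isAlgClosed hF, ih, List.length_cons]
    push_cast
    ring

/-- Parts (a) and (b) over an algebraically closed field. Let C be a smooth proper connected curve of
genus g > 0 over an algebraically closed field k with a k-point P, and consider the 2g-fold fibre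
power C ×_k ⋯ ×_k C, a k-rational point of which is a pair (D, D') of g-tuples of k-points (the
first g and the last g coordinates). (a) There is a nonempty open subset U of it such that for every
k-rational point (P_1, …, P_{2g}) of U and every invertible module M with M ⊗ I_{P_1} ⊗ ⋯ ⊗
I_{P_{2g}} ≅ I_P^{⊗g}, i.e. M ≅ O(D + D' − gP), one has h⁰(C, M) = 1. (b) There is a nonempty open
subset V such that for every k-rational point of V and every invertible M with M ⊗ I_{P_{g+1}} ⊗ ⋯ ⊗
I_{P_{2g}} ⊗ I_P^{⊗g} ≅ I_{P_1} ⊗ ⋯ ⊗ I_{P_g}, i.e. M ≅ O(D' − D + gP), one has h⁰(C, M) = 1. (The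
published lemma is phrased on C^(g) × C^(g), over the ground field, and for points with values in
every field containing it; this row takes k algebraically closed and k-points of the 2g-fold fibre
power.) -/
theorem result (k : Type u) [Field k] [IsAlgClosed k]
    (C : Scheme.{u}) [C.Over (Spec (CommRingCat.of k))]
    [IsProper (C ↘ Spec (CommRingCat.of k))] [Smooth (C ↘ Spec (CommRingCat.of k))] [GeometricallyConnected (C ↘ Spec (CommRingCat.of k))]
    (hdim : topologicalKrullDim ↥C = 1)
    (g : ℕ) (hg : Curv2.genus k C = g) (hg1 : 1 ≤ g)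
    (σ : Spec (CommRingCat.of k) ⟶ C) (hσ : σ ≫ (C ↘ Spec (CommRingCat.of k)) = 𝟙 _) :
    (∃ U : (SymProd.fibPow (C ↘ Spec (CommRingCat.of k)) (2 * g)).Opens, (U : Set ↥(SymProd.fibPow (C ↘ Spec (CommRingCat.of k)) (2 * g))).Nonempty ∧
      ∀ (x : Spec (CommRingCat.of k) ⟶ SymProd.fibPow (C ↘ Spec (CommRingCat.of k)) (2 * g))
        (hx : x ≫ WidePullback.base (fun (_ : Fin (2 * g)) => (C ↘ Spec (CommRingCat.of k))) = 𝟙 _)
        (hxU : ∀ p, x.base p ∈ U) (M : C.Modules) (hM : PicF.IsInvertible M)
        (hMD : Nonempty (CohB1.tensorMod M (FGA.tensorList (List.ofFn fun i : Fin (2 * g) => ClSub.idealMod (x ≫ WidePullback.π (fun (_ : Fin (2 * g)) => (C ↘ Spec (CommRingCat.of k))) i).ker)) ≅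
          CohB1.tensorPow (ClSub.idealMod σ.ker) g)),
        Module.finrank k (Coh.HH C M 0) = 1) ∧
    (∃ V : (SymProd.fibPow (C ↘ Spec (CommRingCat.of k)) (2 * g)).Opens, (V : Set ↥(SymProd.fibPow (C ↘ Spec (CommRingCat.of k)) (2 * g))).Nonempty ∧
      ∀ (x : Spec (CommRingCat.of k) ⟶ SymProd.fibPow (C ↘ Spec (CommRingCat.of k)) (2 * g))
        (hx : x ≫ WidePullback.base (fun (_ : Fin (2 * g)) => (C ↘ Spec (CommRingCat.of k))) = 𝟙 _)
        (hxV : ∀ p, x.base p ∈ V) (M : C.Modules) (hM : PicF.IsInvertible M)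
        (hMD : Nonempty (CohB1.tensorMod M (CohB1.tensorMod
            (FGA.tensorList (List.ofFn fun i : Fin g => ClSub.idealMod (x ≫ WidePullback.π (fun (_ : Fin (2 * g)) => (C ↘ Spec (CommRingCat.of k))) (Fin.cast (two_mul g).symm (Fin.natAdd g i))).ker))
            (CohB1.tensorPow (ClSub.idealMod σ.ker) g)) ≅
          FGA.tensorList (List.ofFn fun i : Fin g => ClSub.idealMod (x ≫ WidePullback.π (fun (_ : Fin (2 * g)) => (C ↘ Spec (CommRingCat.of k))) (Fin.cast (two_mul g).symm (Fin.castAdd g i))).ker))),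
        Module.finrank k (Coh.HH C M 0) = 1) := by
  classical
  let p := C ↘ Spec (CommRingCat.of k)
  haveI := connectedSpace_of_geometrically C k
  haveI := isIntegral_of_smooth k C
  have h := isRegCurve_of_smooth k C hdim
  have hK := Groth.CurveBridge.isFunctionField (k := k) (X := C) hdim
  have hF := isFF k C hdim
  have hsm := Groth.CurveDiv.smoothOfRelativeDimension_one_of_curve p hdim
  let q := WidePullback.base (fun (_ : Fin (2 * g)) => p)
  haveI : IsProper q := isProper_fibPow_base p (2 * g)
  choose I hI hIx using fun i : Fin (2 * g) =>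
    exists_pointFamily k C q (WidePullback.π (fun (_ : Fin (2 * g)) => p) i) (WidePullback.π_arrow _ i)
  let lo : Fin g → Fin (2 * g) := fun i => Fin.cast (two_mul g).symm (Fin.castAdd g i)
  let hi : Fin g → Fin (2 * g) := fun i => Fin.cast (two_mul g).symm (Fin.natAdd g i)
  obtain ⟨Pσ, -, -, hkσ⟩ := Groth.Agent.S17807.exists_point k C h σ hσ
  have hptI := exists_divEmb_pointIdeal (k := k) h Pσ
  rw [← hkσ] at hptI
  obtain ⟨hIσ, χσ, hχσ⟩ := hptI
  obtain ⟨χg, μ, hσg, hμ, hχg⟩ := Groth.CurveBridge.DoubleCover.exists_divEmb_tensorPow h hK hIσ hχσ g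
  let Bσ := CohB1.tensorPow (ClSub.idealMod σ.ker) g
  let Bf := (Scheme.Modules.pullback (pullback.fst p q : Pic13.prodK k C q ⟶ C)).obj Bσ
  have hBf : PicF.IsInvertible Bf := isInvertible_pullback _ hσg
  have hfib : ∀ (x : Spec (CommRingCat.of k) ⟶ SymProd.fibPow p (2 * g)) (hx : x ≫ q = 𝟙 _),
      Nonempty (Pic13.fibreMod k C q x hx Bf ≅ Bσ) := fun x hx =>
    Groth.ZetaAn.ProdCurves.pullback_id_iso _ _ (pullback.lift_fst _ _ _) _
  let single : Pt C → FunFld.Divisor k C.functionField :=
    fun y => Finsupp.single (placeAt (k := k) h y) (1 : ℤ)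
  obtain ⟨W, hW⟩ := Groth.FunFld1.exists_isCanonical hK
  have hgg : (FunFld.genus k C.functionField : ℤ) = g := by rw [← genus_eq h hK, hg]
  have hge : ∀ D : FunFld.Divisor k C.functionField, FunFld.Divisor.deg D = g → 1 ≤ FunFld.ell D := by
    intro D hD
    have := Groth.FunFld1.riemann_roch hK hW D
    omega
  obtain ⟨Q, hQ⟩ := exists_points_ell_one h hK g (by rw [← genus_eq h hK, hg])
  let P₀ : Fin (2 * g) → Pt C := fun i => Fin.append (fun _ => Pσ) Q (Fin.cast (two_mul g) i)
  have hlo : ∀ i, P₀ (lo i) = Pσ := fun i => Fin.append_left (fun _ => Pσ) Q i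
  have hhi : ∀ i, P₀ (hi i) = Q i := fun i => Fin.append_right (fun _ => Pσ) Q i
  choose s hs hsP using fun i => exists_section (k := k) h (P₀ i)
  let x₀ : Spec (CommRingCat.of k) ⟶ SymProd.fibPow p (2 * g) :=
    WidePullback.lift (arrows := fun _ : Fin (2 * g) => p) (𝟙 _) s hs
  have hx₀ : x₀ ≫ q = 𝟙 _ := WidePullback.lift_base _ _ _ _
  have hx₀P : ∀ i, (x₀ ≫ WidePullback.π (fun _ : Fin (2 * g) => p) i).ker =
      Scheme.IdealSheafData.vanishingIdeal ⟨{(P₀ i).1}, (P₀ i).2⟩ := fun i => by
    rw [show x₀ ≫ WidePullback.π (fun _ : Fin (2 * g) => p) i = s i from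
      WidePullback.lift_π _ _ _ _ _]
    exact hsP i
  let S : (Fin (2 * g) → Pt C) → List (Fin g) → (Fin g → Fin (2 * g)) →
      FunFld.Divisor k C.functionField := fun P l c => (l.map fun i => single (P (c i))).sum
  have hS₁ : S P₀ (List.finRange g) lo = g • single Pσ := by
    simp only [S, hlo, List.map_const', List.length_finRange, List.sum_replicate]
  have hS₂ : S P₀ (List.finRange g) hi = ((List.ofFn Q).map single).sum := by
    simp only [S, hhi]
    rw [List.ofFn_eq_map, List.map_map]; rfl
  refine ⟨?_, ?_⟩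
  · let Af := FGA.tensorList ((List.finRange (2 * g)).map I)
    obtain ⟨U, hU⟩ := exists_open_quot_h0_le k C q
      (isInvertible_tensorList I hI (List.finRange (2 * g))) hBf 1
    have key : ∀ (x : Spec (CommRingCat.of k) ⟶ SymProd.fibPow p (2 * g)) (hx : x ≫ q = 𝟙 _)
        (P : Fin (2 * g) → Pt C),
        (∀ i, (x ≫ WidePullback.π (fun _ : Fin (2 * g) => p) i).ker =
          Scheme.IdealSheafData.vanishingIdeal ⟨{(P i).1}, (P i).2⟩) →
        let E : FunFld.Divisor k C.functionField :=
          ((List.finRange (2 * g)).map fun i => single (P i)).sum - g • single Pσ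
        (x (IsLocalRing.closedPoint k) ∈ U ↔ FunFld.ell E ≤ 1) ∧
        ∀ (M : C.Modules), PicF.IsInvertible M →
          Nonempty (CohB1.tensorMod M (FGA.tensorList (List.ofFn fun i : Fin (2 * g) =>
            ClSub.idealMod (x ≫ WidePullback.π (fun _ : Fin (2 * g) => p) i).ker)) ≅ Bσ) →
          Module.finrank k (Coh.HH C M 0) = FunFld.ell E := by
      intro x hx P hP E
      obtain ⟨hA, α, hα⟩ := exists_divEmb_tensorList h
        (fun i => x ≫ WidePullback.π (fun _ : Fin (2 * g) => p) i) P hP (List.finRange (2 * g))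
      have hval : ∀ N : C.Modules, PicF.IsInvertible N →
          Nonempty (CohB1.tensorMod N (FGA.tensorList ((List.finRange (2 * g)).map fun i =>
            ClSub.idealMod (x ≫ WidePullback.π (fun _ : Fin (2 * g) => p) i).ker)) ≅ Bσ) →
          Module.finrank k (Coh.HH C N 0) = FunFld.ell E := by
        intro N hN hNe
        rw [finrank_h0_of_tensor_iso h hK hN hA hσg hα hχg hNe]
        refine Eq.trans (congrArg FunFld.ell ?_) (Groth.FunFld1.IsFF.ell_add_div hF E hμ)
        show _ = ((List.finRange (2 * g)).map fun i => single (P i)).sum - g • single Pσ + _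
        rw [smul_neg, sub_neg_eq_add]
        abel
      obtain ⟨N, hN, hNe, hiff⟩ := hU x hx _ _
        (pullback_tensorList _ I _ (fun i => hIx i x hx) (List.finRange (2 * g))) (hfib x hx)
      rw [hval N hN hNe] at hiff
      refine ⟨hiff, fun M hM hMe => hval M hM ?_⟩
      rw [List.ofFn_eq_map] at hMe
      exact hMe
    refine ⟨U, ⟨_, (key x₀ hx₀ P₀ hx₀P).1.mpr (le_of_eq ?_)⟩, ?_⟩
    · refine Eq.trans (congrArg FunFld.ell ?_) hQ
      rw [← Fin.sum_univ_def, ← Equiv.sum_comp (finCongr (two_mul g).symm), Fin.sum_univ_add,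
        Fin.sum_univ_def, Fin.sum_univ_def]
      show S P₀ _ lo + S P₀ _ hi - _ = _
      rw [hS₁, hS₂, add_sub_cancel_left]
    · intro x hx hxU M hM hMD
      choose P _ _ hP3 using fun i => Groth.Agent.S17807.exists_point k C h
        (x ≫ WidePullback.π (fun _ : Fin (2 * g) => p) i)
        (by rw [Category.assoc, WidePullback.π_arrow]; exact hx)
      obtain ⟨hiff, hval⟩ := key x hx P hP3
      rw [hval M hM hMD]
      refine le_antisymm (hiff.mp (hxU _)) (hge _ ?_)
      rw [Groth.FunFld1.deg_sub, Groth.FunFld1.deg_nsmul, deg_list_sum k _ hF,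
        Groth.FunFld1.deg_single, Groth.FunFld1.deg_eq_one_of_isAlgClosed hF, List.length_finRange]
      push_cast
      ring
  · let A₁ := FGA.tensorList ((List.finRange g).map fun i => I (lo i))
    let A₂ := FGA.tensorList ((List.finRange g).map fun i => I (hi i))
    obtain ⟨U, hU⟩ := exists_open_quot_h0_le k C q
      (isInvertible_tensorMod
        (isInvertible_tensorList (fun i => I (hi i)) (fun i => hI _) (List.finRange g)) hBf)
      (isInvertible_tensorList (fun i => I (lo i)) (fun i => hI _) (List.finRange g)) 1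
    have key : ∀ (x : Spec (CommRingCat.of k) ⟶ SymProd.fibPow p (2 * g)) (hx : x ≫ q = 𝟙 _)
        (P : Fin (2 * g) → Pt C),
        (∀ i, (x ≫ WidePullback.π (fun _ : Fin (2 * g) => p) i).ker =
          Scheme.IdealSheafData.vanishingIdeal ⟨{(P i).1}, (P i).2⟩) →
        let E : FunFld.Divisor k C.functionField :=
          S P (List.finRange g) hi + g • single Pσ - S P (List.finRange g) lo
        (x (IsLocalRing.closedPoint k) ∈ U ↔ FunFld.ell E ≤ 1) ∧
        ∀ (M : C.Modules), PicF.IsInvertible M →
          Nonempty (CohB1.tensorMod M (CohB1.tensorMod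
            (FGA.tensorList (List.ofFn fun i : Fin g =>
              ClSub.idealMod (x ≫ WidePullback.π (fun _ : Fin (2 * g) => p) (hi i)).ker)) Bσ) ≅
            FGA.tensorList (List.ofFn fun i : Fin g =>
              ClSub.idealMod (x ≫ WidePullback.π (fun _ : Fin (2 * g) => p) (lo i)).ker)) →
          Module.finrank k (Coh.HH C M 0) = FunFld.ell E := by
      intro x hx P hP E
      obtain ⟨hA₁, α₁, hα₁⟩ := exists_divEmb_tensorList h
        (fun i => x ≫ WidePullback.π (fun _ : Fin (2 * g) => p) (lo i)) (fun i => P (lo i))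
        (fun i => hP _) (List.finRange g)
      obtain ⟨hA₂, α₂, hα₂⟩ := exists_divEmb_tensorList h
        (fun i => x ≫ WidePullback.π (fun _ : Fin (2 * g) => p) (hi i)) (fun i => P (hi i))
        (fun i => hP _) (List.finRange g)
      obtain ⟨α, hα⟩ := exists_divEmb_tensor h hA₂ hσg hα₂ hχg
      have hval : ∀ N : C.Modules, PicF.IsInvertible N →
          Nonempty (CohB1.tensorMod N (CohB1.tensorMod
            (FGA.tensorList ((List.finRange g).map fun i =>
              ClSub.idealMod (x ≫ WidePullback.π (fun _ : Fin (2 * g) => p) (hi i)).ker)) Bσ) ≅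
            FGA.tensorList ((List.finRange g).map fun i =>
              ClSub.idealMod (x ≫ WidePullback.π (fun _ : Fin (2 * g) => p) (lo i)).ker)) →
          Module.finrank k (Coh.HH C N 0) = FunFld.ell E := by
        intro N hN hNe
        rw [finrank_h0_of_tensor_iso h hK hN (isInvertible_tensorMod hA₂ hσg) hA₁ hα hα₁ hNe]
        refine Eq.trans (congrArg FunFld.ell ?_)
          (Groth.FunFld1.IsFF.ell_add_div hF E (inv_ne_zero hμ))
        show _ = S P (List.finRange g) hi + g • single Pσ - S P (List.finRange g) lo + _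
        rw [smul_neg, hF.div_inv]
        simp only [S, single]
        abel
      obtain ⟨N, hN, hNe, hiff⟩ := hU x hx _ _
        ⟨(exists_pullback_tensorMod _ _ _).choose ≪≫ PicGrp.tensorModIso
          (pullback_tensorList _ (fun i => I (hi i)) _ (fun i => hIx (hi i) x hx) (List.finRange g)).some
          (hfib x hx).some⟩
        (pullback_tensorList _ (fun i => I (lo i)) _ (fun i => hIx (lo i) x hx) (List.finRange g))
      rw [hval N hN hNe] at hiff
      refine ⟨hiff, fun M hM hMe => hval M hM ?_⟩
      rw [List.ofFn_eq_map, List.ofFn_eq_map] at hMe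
      exact hMe
    refine ⟨U, ⟨_, (key x₀ hx₀ P₀ hx₀P).1.mpr (le_of_eq ?_)⟩, ?_⟩
    · refine Eq.trans (congrArg FunFld.ell ?_) hQ
      rw [hS₁, hS₂, add_sub_cancel_right]
    · intro x hx hxV M hM hMD
      choose P _ _ hP3 using fun i => Groth.Agent.S17807.exists_point k C h
        (x ≫ WidePullback.π (fun _ : Fin (2 * g) => p) i)
        (by rw [Category.assoc, WidePullback.π_arrow]; exact hx)
      obtain ⟨hiff, hval⟩ := key x hx P hP3
      rw [hval M hM hMD]
      refine le_antisymm (hiff.mp (hxV _)) (hge _ ?_)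
      rw [Groth.FunFld1.deg_sub, Groth.FunFld1.deg_add, Groth.FunFld1.deg_nsmul,
        deg_list_sum k _ hF, deg_list_sum k _ hF, Groth.FunFld1.deg_single,
        Groth.FunFld1.deg_eq_one_of_isAlgClosed hF, List.length_finRange]
      push_cast
      ring

end Groth.Agent.S17824
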