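import Groth.Statements.S17825
-- import your own Groth.Agent.* helpers here

set_option autoImplicit false
universe u
open CategoryTheory CategoryTheory.Limits AlgebraicGeometry
open JacVar

namespace Groth.Agent.S17825

/-- Let S be a scheme, Y an S-scheme separated over S, F a presheaf of sets on the category of
S-schemes, f : h_Y ⟶ F a morphism from the functor of points of Y, and s : F ⟶ h_Y a section of f (s
followed by f is the identity). Then F is represented by a closed subscheme of Y: there are an
S-scheme Z, a morphism i : Z ⟶ Y over S which is a closed immersion, and an isomorphism F ≅ h_Z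
whose composite with h_i : h_Z ⟶ h_Y is s. (The published lemma treats the case where Y is the r-th
symmetric power of a curve, F the functor of degree-r invertible families modulo twisting and f the
divisor-class map.) -/
theorem result {S : Scheme.{u}} (Y : Over S) [IsSeparated Y.hom]
    (F : (Over S)ᵒᵖ ⥤ Type u) (f : yoneda.obj Y ⟶ F) (s : F ⟶ yoneda.obj Y) (hsf : s ≫ f = 𝟙 F) :
    ∃ (Z : Over S) (i : Z ⟶ Y), IsClosedImmersion i.left ∧
      ∃ e : F ≅ yoneda.obj Z, e.hom ≫ yoneda.map i = s := by
  obtain ⟨e, he⟩ : ∃ e : Y ⟶ Y, yoneda.map e = f ≫ s :=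
    ⟨yoneda.preimage (f ≫ s), Functor.map_preimage _ _⟩
  have hse : s ≫ yoneda.map e = s := by rw [he, reassoc_of% hsf]
  refine ⟨equalizer e (𝟙 Y), equalizer.ι e (𝟙 Y), inferInstance, ?_⟩
  have hv : ∀ (T : (Over S)ᵒᵖ) (x : F.obj T), s.app T x ≫ e = s.app T x ≫ 𝟙 Y := by
    intro T x
    have := congrArg (fun g => g.app T x) hse
    simpa using this
  let hom : F ⟶ yoneda.obj (equalizer e (𝟙 Y)) :=
    { app := fun T => ↾fun x => equalizer.lift (s.app T x) (hv T x)
      naturality := fun T T' g => by
        ext x
        apply equalizer.hom_ext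
        change equalizer.lift (s.app T' (F.map g x)) _ ≫ _ = (g.unop ≫ equalizer.lift (s.app T x) _) ≫ _
        simp [NatTrans.naturality_apply s g x] }
  have h1 : hom ≫ yoneda.map (equalizer.ι e (𝟙 Y)) = s := by
    ext T x
    exact equalizer.lift_ι _ _
  let e' : F ≅ yoneda.obj (equalizer e (𝟙 Y)) :=
    { hom := hom
      inv := yoneda.map (equalizer.ι e (𝟙 Y)) ≫ f
      hom_inv_id := by rw [reassoc_of% h1, hsf]
      inv_hom_id := by
        ext T x
        apply equalizer.hom_ext
        change equalizer.lift (s.app T (f.app T (x ≫ equalizer.ι e (𝟙 Y)))) _ ≫ _ = x ≫ _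
        refine (equalizer.lift_ι _ _).trans ?_
        have := congrArg (fun g => g.app T (x ≫ equalizer.ι e (𝟙 Y))) he
        simp only [NatTrans.comp_app] at this
        refine this.symm.trans ?_
        change (x ≫ equalizer.ι e (𝟙 Y)) ≫ e = _
        rw [Category.assoc, equalizer.condition, Category.comp_id] }
  exact ⟨e', h1⟩

end Groth.Agent.S17825
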