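import Groth.Statements.S17827
import Mathlib
import Groth.Agent.PicField.ThetaClass

set_option autoImplicit false
universe u
open CategoryTheory CategoryTheory.Limits AlgebraicGeometry MonoidalCategory CartesianMonoidalCategory MonObj
open JacVar

open Groth.CurveBridge Groth.Abvar.PicCalc Groth.PicCurve Groth.DivNorm

set_option maxHeartbeats 1600000
set_option backward.isDefEq.respectTransparency false
set_option backward.defeqAttrib.useBackward true
set_option backward.isDefEq.respectTransparency.types false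

namespace Groth.Agent.S17827

/-- Let k be an algebraically closed field, C a smooth proper connected curve of genus g ≥ 1 over k with
a k-point P, (J, ψ) its Jacobian (a commutative group scheme over k, coarse moduli scheme on all
k-schemes for degree-0 line bundles modulo twisting from the base, group law induced by tensor
product) with universal family M on C × J normalised along P × J and classified by the identity of
J, and j : C ⟶ J the Abel map with base point P. Let Θ = W^{g−1} ⊂ J be the image of the (g −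
1)-fold product of C under (x_i) ↦ Π j(x_i), Θ⁻ its image under inversion, L(Θ⁻) an invertible
module on J inverse to the ideal of the reduced closed subscheme Θ⁻, and Λ an invertible module on J
× J with Λ ⊗ pr₁^* L(Θ⁻) ⊗ pr₂^* L(Θ⁻) ≅ m^* L(Θ⁻), m the group law (the sheaf m^*L(Θ⁻) ⊗
pr₁^*L(Θ⁻)⁻¹ ⊗ pr₂^*L(Θ⁻)⁻¹). Then the pullback of Λ along j × (−1) : C × J ⟶ J × J is isomorphic to
M. -/
theorem result (k : Type u) [Field k] [IsAlgClosed k]
    (C : Scheme.{u}) [C.Over (Spec (CommRingCat.of k))]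
    [IsProper (C ↘ Spec (CommRingCat.of k))] [Smooth (C ↘ Spec (CommRingCat.of k))] [GeometricallyConnected (C ↘ Spec (CommRingCat.of k))]
    (hdim : topologicalKrullDim ↥C = 1)
    (g : ℕ) (hg : Curv2.genus k C = g) (hg1 : 1 ≤ g)
    (σ : Spec (CommRingCat.of k) ⟶ C) (hσ : σ ≫ (C ↘ Spec (CommRingCat.of k)) = 𝟙 _)
    (J : Over (Spec (CommRingCat.of k))) [GrpObj J] [IsCommMonObj J]
    (ψ : (ModFun.PicDeg (C ↘ Spec (CommRingCat.of k)) 0).Hom ⊤ J) (hJ : Jac.IsJacobian (C ↘ Spec (CommRingCat.of k)) ⊤ J ψ)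
    (j : Over.mk (C ↘ Spec (CommRingCat.of k)) ⟶ J) (hj : Jac.IsAbelJacobiAt (C ↘ Spec (CommRingCat.of k)) σ ψ j)
    (Pu : (PicF.XT (C ↘ Spec (CommRingCat.of k)) J).Modules) (hPu : ModFun.IsUnivFamily ⊤ (ModFun.PicDeg (C ↘ Spec (CommRingCat.of k)) 0) J Pu)
    (hPn : Jac.IsNormAlong (C ↘ Spec (CommRingCat.of k)) σ hσ J Pu)
    (hT : (⊤ : ObjectProperty (Over (Spec (CommRingCat.of k)))) J) (hPuψ : ψ.app J Pu hT hPu.1 = 𝟙 J)
    (LΘm : J.left.Modules) (hLΘm : PicF.IsInvertible LΘm)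
    (hLΘmI : ClSub.IsInverseOf LΘm (ClSub.idealMod (Scheme.IdealSheafData.vanishingIdeal
      ⟨closure (((𝟙 J)⁻¹).left.base '' Set.range ((List.ofFn fun i : Fin (g - 1) =>
        (Over.homMk (WidePullback.π (fun (_ : Fin (g - 1)) => (C ↘ Spec (CommRingCat.of k))) i)
          (WidePullback.π_arrow (fun (_ : Fin (g - 1)) => (C ↘ Spec (CommRingCat.of k))) i) : Over.mk (WidePullback.base fun (_ : Fin (g - 1)) => (C ↘ Spec (CommRingCat.of k))) ⟶ Over.mk (C ↘ Spec (CommRingCat.of k))) ≫ j).prod).left.base), isClosed_closure⟩)))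
    (Λ : (PicF.XT J.hom J).Modules) (hΛ : PicF.IsInvertible Λ)
    (hΛL : AgPol.IsLambdaSheaf (μ[J].left : PicF.XT J.hom J ⟶ J.left) (fst J J).left (snd J J).left LΘm Λ) :
    Nonempty ((Scheme.Modules.pullback (PicF.XTmap (C ↘ Spec (CommRingCat.of k)) ((𝟙 J)⁻¹) ≫ AbDual.bcMap j J)).obj Λ ≅ Pu) := by
  let f := C ↘ Spec (CommRingCat.of k)
  have : ConnectedSpace C := GeometricallyConnected.connectedSpace f f.isOpenMap
  have : IsIntegral C := Groth.CurveBridge.isIntegral_of_smooth k C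
  have hf := Groth.PicField.isPtCurve_of_connected f hdim σ hσ
  obtain ⟨n, rfl⟩ : ∃ n, g = n + 1 := ⟨g - 1, by omega⟩
  obtain ⟨hp, hs, hirr, e, hnat, hmul, hψ⟩ := Groth.PicField.exists_points_equiv hf σ hσ ψ hJ
  have hje := Groth.PicField.abel_eq hf ψ e hψ hj
  have hn : Groth.PicCurve.genus f = n + 1 := (Groth.PicField.genus_eq (k := k) C).trans hg
  let O := Over.mk f
  have : IsProper O.hom := ‹IsProper f›
  subst hje
  let R : Set J.left := Set.range ((List.ofFn fun i : Fin n =>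
    Groth.PicField.projC O n i ≫ Groth.DivNorm.abel e).prod).left.base
  let S : Set J.left := ((𝟙 J)⁻¹ : J ⟶ J).left.base '' R
  have hii : IsIso ((𝟙 J)⁻¹ : J ⟶ J).left := by
    refine ⟨⟨((𝟙 J)⁻¹ : J ⟶ J).left, ?_, ?_⟩⟩ <;>
    · rw [← Over.comp_left, GrpObj.comp_inv, Category.comp_id, inv_inv, Over.id_left]
  have hSc : IsClosed S := ((𝟙 J)⁻¹ : J ⟶ J).left.homeomorph.isClosedMap _
    (Groth.PicField.isClosed_range_ofFn_prod (Groth.DivNorm.abel e) n)
  have hS : ∀ z : 𝟙_ _ ⟶ J, z.left.base (IsLocalRing.closedPoint k) ∈ S ↔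
      ∃ y : Fin n → (𝟙_ _ ⟶ O), z⁻¹ = ∏ i, y i ≫ Groth.DivNorm.abel e := fun z => by
    rw [Groth.PicField.mem_image_inv_iff, Groth.PicField.mem_range_ofFn_prod]
  have hII : Scheme.IdealSheafData.vanishingIdeal (X := J.left) ⟨closure S, isClosed_closure⟩ =
      Scheme.IdealSheafData.vanishingIdeal ⟨S, hSc⟩ :=
    congrArg _ (TopologicalSpace.Closeds.ext hSc.closure_eq)
  have hi' := Groth.PicAux.isInvertible_of_isInverseOf hLΘm hLΘmI
  have hIe : BlowUp.IsEffCartierIdeal (Scheme.IdealSheafData.vanishingIdeal (X := J.left)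
      ⟨closure S, isClosed_closure⟩) := Groth.PicAux.isEffCartierIdeal_of_isInvertible hi'
  have hI : BlowUp.IsEffCartierIdeal (Scheme.IdealSheafData.vanishingIdeal (X := J.left) ⟨S, hSc⟩) :=
    hII ▸ hIe
  have hθ : cls hLΘm = divCls hI := by
    rw [← divCls_congr hII hIe hI]
    exact eq_inv_of_mul_eq_one_left ((cls_tensorMod hLΘm hi').symm.trans
      ((PicGrp.cls_eq_one_iff _).2 hLΘmI))
  set θ := divCls hI
  -- the map and its composites
  let T₀ := 𝟙_ (Over (Spec (CommRingCat.of k)))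
  haveI : Subsingleton T₀.left := inferInstanceAs (Subsingleton (PrimeSpectrum k))
  let B : Over (Spec (CommRingCat.of k)) := Over.mk (pullback.fst f J.hom ≫ f)
  let xC : B ⟶ O := Over.homMk (pullback.fst f J.hom) rfl
  let yJ : B ⟶ J := Over.homMk (pullback.snd f J.hom) pullback.condition.symm
  let q := PicF.XTmap f ((𝟙 J)⁻¹ : J ⟶ J) ≫ AbDual.bcMap (Groth.DivNorm.abel e) J
  have hq1 : q ≫ (fst J J).left = (xC ≫ Groth.DivNorm.abel e).left := by
    show (PicF.XTmap f ((𝟙 J)⁻¹ : J ⟶ J) ≫ AbDual.bcMap (Groth.DivNorm.abel e) J) ≫ pullback.fst J.hom J.hom = _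
    rw [Category.assoc, AbDual.bcMap, pullback.lift_fst, ← Category.assoc]
    exact congrArg (· ≫ (Groth.DivNorm.abel e).left) (Groth.HilbPts.XTmap_fst f ((𝟙 J)⁻¹ : J ⟶ J))
  have hq2 : q ≫ (snd J J).left = (yJ⁻¹).left := by
    show (PicF.XTmap f ((𝟙 J)⁻¹ : J ⟶ J) ≫ AbDual.bcMap (Groth.DivNorm.abel e) J) ≫ pullback.snd J.hom J.hom = _
    rw [Category.assoc, AbDual.bcMap, pullback.lift_snd, Category.comp_id]
    refine (Groth.HilbPts.XTmap_proj f _).trans ?_
    show (yJ ≫ (𝟙 J)⁻¹).left = _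
    rw [GrpObj.comp_inv, Category.comp_id]
  have hqm : q ≫ (μ[J] : J ⊗ J ⟶ J).left = (Groth.PicField.abelFam e).left := by
    let qo : B ⟶ J ⊗ J := lift (xC ≫ Groth.DivNorm.abel e) yJ⁻¹
    have : q = qo.left := by
      refine pullback.hom_ext (hq1.trans ?_) (hq2.trans ?_)
      · exact congrArg (fun z : B ⟶ J => z.left) (lift_fst _ _).symm
      · exact congrArg (fun z : B ⟶ J => z.left) (lift_snd _ _).symm
    rw [this, ← Over.comp_left]
    exact congrArg (fun z : B ⟶ J => z.left) (Hom.mul_def _ _).symm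
  -- the class of the pullback
  let p₁ : PicF.XT J.hom J ⟶ J.left := (fst J J).left
  let p₂ : PicF.XT J.hom J ⟶ J.left := (snd J J).left
  let p₃ : PicF.XT J.hom J ⟶ J.left := (μ[J] : J ⊗ J ⟶ J).left
  let mC : PicF.XT f J ⟶ J.left := (xC ≫ Groth.DivNorm.abel e).left
  let mY : PicF.XT f J ⟶ J.left := (yJ⁻¹).left
  let mF : PicF.XT f J ⟶ J.left := (Groth.PicField.abelFam e).left
  have hΛc : cls hΛ * pull p₁ θ * pull p₂ θ = pull p₃ θ := by
    rw [← hθ, pull_cls, pull_cls, pull_cls, ← cls_tensorMod, ← cls_tensorMod]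
    exact (nonempty_iso_iff _ _).1 hΛL
  have hL := congrArg (pull q) hΛc
  rw [map_mul, map_mul, ← pull_comp, ← pull_comp, ← pull_comp, show q ≫ p₃ = mF from hqm,
    show q ≫ p₁ = mC from hq1, show q ≫ p₂ = mY from hq2] at hL
  -- the restriction to the base point
  have hy : mY = PicF.XTproj f J ≫ ((𝟙 J)⁻¹ : J ⟶ J).left := by
    have : yJ⁻¹ = yJ ≫ (𝟙 J)⁻¹ := by rw [GrpObj.comp_inv, Category.comp_id]
    show (yJ⁻¹).left = _
    rw [this]; rfl
  have h0 : pull mC θ =
      clsPt hf (Groth.DivNorm.zSec σ hσ J) ^ (n + 1) := by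
    let D₀ : Fin (n + 1) → (T₀ ⟶ O) := fun _ => Groth.DivNorm.zSec σ hσ T₀
    have hz : Groth.DivNorm.zSec σ hσ T₀ ≫ Groth.DivNorm.abel e = 1 := by
      apply (e T₀).injective
      rw [Groth.DivNorm.e_comp_abel e hnat, Groth.DivNorm.ajPt_zero, Groth.DivNorm.e_one e hmul]
    have h1 := Groth.PicField.pull_transl_abel_eq e hnat hmul hn hSc hS hI D₀
    rw [show (∏ i, D₀ i ≫ Groth.DivNorm.abel e) = 1 from Finset.prod_eq_one fun i _ => hz, inv_one,
      show Jac.transl J (1 : T₀ ⟶ J) = 𝟙 J by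
        rw [Jac.transl, MonObj.comp_one, _root_.mul_one],
      Category.comp_id, Groth.DivNorm.dC_sumD, show (∏ i, clsPt hf (D₀ i)) =
        clsPt hf (Groth.DivNorm.zSec σ hσ T₀) ^ (n + 1) by simp [D₀]] at h1
    have h2 := congrArg (pull (pullback.fst f J.hom)) h1
    refine ((pull_comp (pullback.fst f J.hom) (Groth.DivNorm.abel e).left θ).trans h2).trans ?_
    rw [← pull_comp]
    rw [show pullback.fst f J.hom ≫ Groth.PicField.toPtFibre = PicF.XTmap f (toUnit J) by
      refine pullback.hom_ext ?_ ?_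
      · rw [Category.assoc, Groth.PicField.toPtFibre, pullback.lift_fst, Category.comp_id,
          Groth.HilbPts.XTmap_fst]
      · rw [Category.assoc, Groth.PicField.toPtFibre, pullback.lift_snd, pullback.condition]
        refine Eq.trans ?_ (Groth.HilbPts.XTmap_proj f (toUnit J)).symm
        congr 1]
    rw [map_pow, Groth.DivNorm.pull_base]
  rw [h0, hy, pull_comp (PicF.XTproj f J)] at hL
  have hsec : pull (PicF.secT f σ hσ J) (pull q (cls hΛ)) = 1 := by
    let s : J ⟶ B := Over.homMk (PicF.secT f σ hσ J) (by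
      show PicF.secT f σ hσ J ≫ pullback.fst f J.hom ≫ f = J.hom
      rw [pullback.condition, ← Category.assoc, secT_proj, Category.id_comp])
    have hsx : s ≫ xC = Groth.DivNorm.zSec σ hσ J := Over.OverMorphism.ext (by
      show PicF.secT f σ hσ J ≫ pullback.fst f J.hom = J.hom ≫ σ
      simp [PicF.secT])
    have hsy : s ≫ yJ = 𝟙 J := Over.OverMorphism.ext (secT_proj f σ hσ J)
    have hsF : s ≫ Groth.PicField.abelFam e = (𝟙 J)⁻¹ := by
      show s ≫ ((xC ≫ Groth.DivNorm.abel e) * yJ⁻¹) = _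
      rw [MonObj.comp_mul, GrpObj.comp_inv, hsy, ← Category.assoc, hsx]
      rw [show Groth.DivNorm.zSec σ hσ J ≫ Groth.DivNorm.abel e = 1 by
        apply (e J).injective
        rw [Groth.DivNorm.e_comp_abel e hnat, Groth.DivNorm.ajPt_zero, Groth.DivNorm.e_one e hmul],
        _root_.one_mul]
    have h1 := congrArg (pull (PicF.secT f σ hσ J)) hL
    rw [map_mul, map_mul, map_pow, ← pull_comp (PicF.secT f σ hσ J) mF,
      show PicF.secT f σ hσ J ≫ mF = ((𝟙 J)⁻¹ : J ⟶ J).left from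
        congrArg (fun z : J ⟶ J => z.left) hsF,
      ← pull_comp (PicF.secT f σ hσ J) (PicF.XTproj f J), secT_proj, pull_id] at h1
    have h2 : pull (PicF.secT f σ hσ J) (clsPt hf (Groth.DivNorm.zSec σ hσ J)) = 1 := by
      rw [← Groth.DivNorm.pull_base σ hσ hf (toUnit J), ← pull_comp,
        show PicF.secT f σ hσ J ≫ PicF.XTmap f (toUnit J) = (toUnit J).left ≫ PicF.secT f σ hσ T₀ by
          apply pullback.hom_ext <;>
            simp [PicF.secT, PicF.XTmap, Over.tensorUnit_hom, T₀], pull_comp, eq_one_of_subsingleton (pull (PicF.secT f σ hσ T₀) _),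
        map_one]
    rw [h2, one_pow, _root_.mul_one] at h1
    exact left_eq_mul.1 (by rw [mul_comm]; exact h1.symm)
  have hnorm : Groth.DivNorm.normHom σ hσ J (pull q (cls hΛ)) = (e J (𝟙 J)).1 := by
    rw [← Groth.PicField.normHom_famCls e hnat hmul hn hSc hS hI,
      show Groth.PicField.famCls e hSc hI = pull mF θ from rfl, ← hL]
    rw [map_mul, map_mul, map_mul, map_inv]
    have h1 : Groth.DivNorm.normHom σ hσ J (pull (PicF.XTproj f J) (pull ((𝟙 J)⁻¹ : J ⟶ J).left θ)) = 1 := by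
      show _ * (pull _ (pull _ _))⁻¹ = (1 : PicLoc.PicSet _)
      rw [← pull_comp (PicF.secT f σ hσ J), secT_proj, pull_id, mul_inv_cancel]
    rw [h1, _root_.mul_one, mul_inv_cancel_right]
  have hu : cls ((Groth.PicField.ok_iff hf 0 J Pu).1 hPu.1).1 = (e J (𝟙 J)).1 :=
    Groth.PicField.cls_univ hf ψ e hψ hPu.1 hPn hT hPuψ
  refine (nonempty_iso_iff (Groth.PicAux.isInvertible_pullback _ hΛ) ((Groth.PicField.ok_iff hf 0 J Pu).1 hPu.1).1).2 ?_
  rw [← pull_cls _ hΛ, hu, ← hnorm]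
  exact (congrArg Subtype.val (norm_self (⟨pull q (cls hΛ), hsec⟩ : RS f σ hσ J))).symm

end Groth.Agent.S17827
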