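import Groth.Statements.S17831
import Groth.Agent.Misc71.AutTangent

set_option autoImplicit false
universe u
open CategoryTheory MonoidalCategory CartesianMonoidalCategory MonObj GrpObj AlgebraicGeometry
open AutSch

namespace Groth.Agent.S17831

/-- Let k be a field and X a proper k-scheme of dimension at most 1, and let the k-group scheme G,
locally of finite type over k, with its action a be the automorphism group scheme of X over k. Then
G → Spec k is unramified exactly when Der_k(O_X, O_X) = 0, i.e. when every k-derivation of O_X into
O_X takes the value zero on every section over every open. (Unramified is stated as formally
unramified, G being locally of finite type. The published statement also lists as equivalent that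
the automorphism group scheme is geometrically reduced of dimension zero, and a condition on the
moduli stack of curves; this row states the unramified condition only.) -/
theorem result (k : Type u) [Field k]
    (X : Over (Spec (CommRingCat.of k))) [IsProper X.hom] (hdim : topologicalKrullDim ↥X.left ≤ 1)
    (G : Over (Spec (CommRingCat.of k))) [GrpObj G] [LocallyOfFiniteType G.hom] (a : AlgGrp.Action G X)
    (hG : AutSch.Represents X G a) :
    FormallyUnramified G.hom ↔
      ∀ (D : OmegaSh.Der X.hom (Coh.structureModule X.left)) (U : X.left.Opens) (s : Γ(X.left, U)),
        D.app U s = 0 := by
  exact Groth.Misc71.formallyUnramified_aut_iff G a hG

end Groth.Agent.S17831
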