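import Groth.Statements.S17833
import Groth.Agent.Abvar.AlgClosedAux
import Groth.Agent.AlgGrp1.Basic
import Groth.Agent.AlgGrp1.Geom
import Groth.Agent.AlgGrp1.Rigidity
import Groth.Agent.VarietyBC.GlobalField
import Groth.Agent.Agf.SmoothRed
-- import your own Groth.Agent.* helpers here

set_option autoImplicit false
universe u
open CategoryTheory MonoidalCategory CartesianMonoidalCategory MonObj GrpObj AlgebraicGeometry
open AlgGrp

namespace Groth.Agent.S17833

/-- Over an algebraically closed field k, let G be a connected smooth k-group scheme of finite type (in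
the terminology of the notes, a smooth connected algebraic group), and H an affine normal subgroup
scheme of G such that the quotient G/H is an abelian variety: here j : H → G is the kernel of a flat
surjective homomorphism q : G → Q of k-group schemes with Q proper over k, and H is affine. Then an
automorphism u of the algebraic group G which fixes H pointwise (j ∘ u = j) and induces the identity
of Q (q ∘ u = q) is the identity. Equivalently, the map from the group of automorphisms of G fixing
H pointwise to the automorphism group of G/H is injective. -/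
theorem result (k : Type u) [Field k] [IsAlgClosed k]
    (G H Q : Over (Spec (CommRingCat.of k))) [GrpObj G] [GrpObj H] [GrpObj Q]
    [Smooth G.hom] [QuasiCompact G.hom] [ConnectedSpace ↥G.left]
    [IsAffine H.left] [IsProper Q.hom]
    (j : H ⟶ G) [IsMonHom j] (q : G ⟶ Q) [IsMonHom q] [Flat q.left] [Surjective q.left]
    (hker : AlgGrp.IsKernel j q)
    (u : G ≅ G) [IsMonHom u.hom] (hH : j ≫ u.hom = j) (hQ : u.hom ≫ q = q) :
    u.hom = 𝟙 G := by
  have := Groth.AlgGrp1.IsKernel.mono hker
  have := Groth.AlgGrp1.isCover q
  have hq := Groth.AlgGrp1.isCover q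
  -- the difference of `u` and the identity
  let δ : G ⟶ G := u.hom * (𝟙 G)⁻¹
  obtain ⟨δ', hδ'⟩ := Groth.AlgGrp1.IsKernel.exists_lift hker δ (by
    rw [MonObj.mul_comp, GrpObj.inv_comp, hQ, Category.id_comp, mul_inv_cancel])
  obtain ⟨d, hd⟩ := hq.exists_desc δ' (by
    intro T a b hab
    rw [← cancel_mono j, Category.assoc, Category.assoc, hδ']
    obtain ⟨n, hn⟩ := Groth.AlgGrp1.IsKernel.exists_lift hker (a⁻¹ * b) (by
      rw [MonObj.mul_comp, GrpObj.inv_comp, hab, inv_mul_cancel])
    have hb : b = a * (n ≫ j) := by rw [hn, mul_inv_cancel_left]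
    rw [hb]
    simp only [δ, MonObj.comp_mul, GrpObj.comp_inv, Category.comp_id, MonObj.mul_comp, Category.assoc,
      hH]
    group)
  have := Groth.AlgGrp1.isLocallyNoetherian_left G
  have : IsReduced G.left := Groth.Agf.isReduced_of_smooth G.hom
  have : IsReduced Q.left := Groth.Agf.isReduced_of_flat_surjective q.left
  have : ConnectedSpace Q.left := q.left.surjective.connectedSpace q.left.continuous
  have := Groth.Abvar.geometricallyReduced_of_isAlgClosed Q
  have := Groth.AlgGrp1.geometricallyConnected_of_point Q.hom η[Q].left (Over.w η[Q])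
  have hconst : Groth.AlgGrp1.HasConstFunctions Q :=
    (Groth.VarietyBC.GlobalField.appTop_bijective Q.hom).comp
      (Scheme.ΓSpecIso (CommRingCat.of k)).symm.commRingCatIsoToRingEquiv.bijective
  have hd0 : d = toUnit Q ≫ η[Q] ≫ d := hconst.over_eq_const d η[Q]
  have : δ = 1 := by
    rw [← hδ', ← hd, hd0, ← IsMonHom.one_hom q, Category.assoc η[G] q d, hd]
    simp only [← Category.assoc, comp_toUnit]
    simp only [Category.assoc, hδ']
    rw [← Category.assoc, ← Hom.one_def]
    simp [δ, MonObj.comp_mul, GrpObj.comp_inv]
  rwa [show δ = u.hom * (𝟙 G)⁻¹ from rfl, mul_inv_eq_one] at this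

end Groth.Agent.S17833
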