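import Groth.Statements.S1784
import Groth.Agent.DualCore.ShriekIndep

set_option autoImplicit false
universe u
open CategoryTheory
attribute [local instance] HasDerivedCategory.standard
open Dual2

namespace Groth.Agent.S1784

/-- Let R → A be a finite homomorphism of Noetherian rings, where φ^!(K) is formed from a presentation ψ
: R[x_1, …, x_n] → A as RHom_P(A, K ⊗^L_R P)[n], assuming the derived base change to P exists and
taking for RHom_P(A, −) a right adjoint of restriction of scalars along ψ. If R' : D(R) → D(A) is
right adjoint to restriction of scalars along R → A (so R' computes RHom(A, −)), then φ^!(K) ≅ R'(K)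
for every K in D(R). -/
theorem result (R A : Type u) [CommRing R] [CommRing A] [IsNoetherianRing R] [IsNoetherianRing A] [Algebra R A] (n : ℕ) (ψ : MvPolynomial (Fin n) R →ₐ[R] A) (hψ : Function.Surjective ψ) [DRing.HasLBaseChange (algebraMap R (MvPolynomial (Fin n) R))] (Rψ : Dual.D (MvPolynomial (Fin n) R) ⥤ Dual.D A) (adj : DRing.restrictD ψ.toRingHom ⊣ Rψ) [Module.Finite R A] (R' : Dual.D R ⥤ Dual.D A) (adjR : DRing.restrictD (algebraMap R A) ⊣ R') (K : Dual.D R) : Nonempty (Dual2.shriekVia n Rψ K ≅ R'.obj K) := by
  obtain ⟨a⟩ := Groth.DualCore.nonempty_shriekHomIso n adj K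
  obtain ⟨b⟩ := Groth.DualCore.nonempty_homIso n AlgEquiv.refl ψ.toRingHom (algebraMap R A)
    (RingHom.ext fun r => (ψ.commutes r).symm) (fun i => (Algebra.IsIntegral.isIntegral (R := R) _)) K
  exact (a.trans (b.symm.trans (Groth.DualCore.HomIso.ofAdj adjR K).symm)).nonempty_iso

end Groth.Agent.S1784
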