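import Groth.Statements.S17840
import Groth.Agent.Cycles.DimFunBC
import Groth.Agent.FibreDim.Composition
import Groth.Agent.Misc6.Equidim
-- import your own Groth.Agent.* helpers here

set_option autoImplicit false
universe u
open CategoryTheory AlgebraicGeometry
open Cyc

namespace Groth.Agent.S17840

/-- Let (Y, δY) be a locally Noetherian scheme with universally catenary local rings and a dimension
function, f : X ⟶ Y a flat morphism locally of finite type between irreducible schemes with generic
points ξ and η, and δX the induced function on X, δX(x) = δY(f x) + trdeg_{κ(f x)} κ(x). Put d =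
δX(ξ) − δY(η). Then d ≥ 0, every irreducible component of every fibre of f has dimension d, and for
every point x of X the fibre of f over f(x) has dimension d. (The published statement is for schemes
separated of finite type over a Noetherian excellent regular separated base S with δ the S-dimension
— transcendence degree of the residue field minus the dimension of the local ring of S at the image
point — and for the fibre over every point of Y; the fibre over a point outside f(X) is empty, so
the dimension statement is made here at points of the image; this row allows any dimension function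
δY on a locally Noetherian Y with universally catenary local rings, with δX induced from it.) -/
theorem result {X Y : Scheme.{u}} (f : X ⟶ Y) [Flat f] [LocallyOfFiniteType f]
    [IrreducibleSpace X] [IrreducibleSpace Y] (δX : X → ℤ) (δY : Y → ℤ) (hY : Cyc.IsSetup Y δY)
    (hδ : Cyc.DeltaCompat f δX δY) :
    0 ≤ δX (genericPoint X) - δY (genericPoint Y) ∧
      Cyc.HasRelDim f (δX (genericPoint X) - δY (genericPoint Y)).toNat ∧
      ∀ x : X, topologicalKrullDim ↥(f.fiber (f x)) =
        ((δX (genericPoint X) - δY (genericPoint Y)).toNat : WithBot ℕ∞) := by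
  have := hY.1
  have : IsLocallyNoetherian X := LocallyOfFiniteType.isLocallyNoetherian f
  have hdimX := Groth.Cycles.isDimFun_of_deltaCompat f hY hδ
  have key : ∀ x : X, Groth.CycleLimits.IsFibreGeneric f x →
      0 ≤ δX (genericPoint X) - δY (genericPoint Y) ∧
        FlatMor.fibreDimAt f x = (δX (genericPoint X) - δY (genericPoint Y)).toNat := by
    intro x hx
    obtain ⟨n, hn, hn'⟩ := Groth.Cycles.relTrdeg_eq_fibreDimAt_of_isFibreGeneric f hx
    obtain ⟨m, hm, hm'⟩ := hδ x
    obtain rfl : n = m := by
      have : Groth.Variety2.Dim.relTrdeg f x = m := hm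
      rw [hn] at this; exact_mod_cast this
    have hgd := Groth.FibreDim.ringKrullDim_stalk_eq_add_of_generalizing f x
      (Groth.FibreDim.generalizing_of_flat_stalkMap f x (Flat.stalkMap f x))
    have hmax : IsMax (f.asFiber x) := Groth.Cycles.isMax_iff.mpr fun w hw =>
      (f.fiberι _).isEmbedding.injective <| by
        rw [f.fiberι_asFiber]
        exact hx _ (Groth.FibreDim.apply_fiberι f _ w)
          ((hw.map (f.fiberι (f x)).continuous).trans (specializes_of_eq (f.fiberι_asFiber x)))
    rw [ringKrullDim_stalk_eq_coheight (f.asFiber x), Order.coheight_eq_zero.mpr hmax] at hgd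
    have e1 := Groth.Cycles.ringKrullDim_stalk_closedImmersion hdimX (𝟙 X) x
    have e2 := Groth.Cycles.ringKrullDim_stalk_closedImmersion hY.2.2 (𝟙 Y) (f x)
    change _ = (((δX (genericPoint X)) - δX x).toNat : WithBot ℕ∞) at e1
    change _ = (((δY (genericPoint Y)) - δY (f x)).toNat : WithBot ℕ∞) at e2
    rw [e1, show (Y.presheaf.stalk (f.base x)) = Y.presheaf.stalk (f x) from rfl, e2] at hgd
    have h3 : (δX (genericPoint X) - δX x).toNat = (δY (genericPoint Y) - δY (f x)).toNat := by
      simpa using hgd
    have h4 := Groth.Cycles.delta_le_of_specializes hdimX (genericPoint_specializes x)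
    have h5 := Groth.Cycles.delta_le_of_specializes hY.2.2 (genericPoint_specializes (f x))
    have h6 : (δX (genericPoint X) - δY (genericPoint Y)).toNat = n := by omega
    exact ⟨by omega, h6 ▸ hn'⟩
  have hall : ∀ x : X, FlatMor.fibreDimAt f x = (δX (genericPoint X) - δY (genericPoint Y)).toNat := by
    intro x
    obtain ⟨a, -, hfa, hd⟩ := Groth.Misc6.Equidim.exists_fh_eq f x
    obtain ⟨w, hwa, hfw, hgen⟩ := Groth.CycleLimits.exists_isFibreGeneric f a
    refine le_antisymm ?_ ?_
    · rw [← hd]
      refine le_trans ?_ (key w hgen).2.le
      refine le_trans ?_ (Groth.Misc6.Equidim.fh_le_fibreDimAt f w)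
      exact WithBot.coe_le_coe.mpr (Groth.Misc6.Equidim.fh_mono f hwa hfw)
    · obtain ⟨v, hvx, hfv, hgenv⟩ := Groth.CycleLimits.exists_isFibreGeneric f x
      rw [← (key v hgenv).2]
      exact Groth.Misc6.Equidim.fibreDimAt_mono f hvx
  obtain ⟨x0⟩ : Nonempty X := inferInstance
  obtain ⟨v, -, -, hgenv⟩ := Groth.CycleLimits.exists_isFibreGeneric f x0
  refine ⟨(key v hgenv).1, (Groth.FibreDim.hasRelDim_iff f _).mpr hall, fun x => ?_⟩
  rw [Groth.FibreDim.dim_fiber_eq_iSup]
  refine le_antisymm (iSup_le fun z => ?_) ?_
  · rw [← Groth.FibreDim.fibreDimAt_fiberι, hall]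
  · refine le_iSup_of_le (f.asFiber x) ?_
    rw [← Groth.FibreDim.fibreDimAt_fiberι, hall]

end Groth.Agent.S17840
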