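import Groth.Statements.S17843
import Mathlib

set_option autoImplicit false
universe u v
open CAlg

namespace Groth.Agent.S17843

/-- In the case of an affine scheme of finite presentation, let B be a finitely presented R-algebra, r ∈
R, and x : B → R[1/r][T] an R-algebra homomorphism whose value at T = 0, a homomorphism B → R[1/r],
is induced by a homomorphism x̃₀ : B → R. Then for every large enough n, the homomorphism x(rⁿT) : B
→ R[1/r][T] is induced by a homomorphism x̃ : B → R[T] whose value at T = 0 is x̃₀. The published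
statement is for algebraic spaces locally of finite presentation over R; this row takes an affine
scheme of finite presentation. -/
theorem result
    (R : Type u) (B : Type v) [CommRing R] [CommRing B] [Algebra R B]
    [Algebra.FinitePresentation R B] (r : R)
    (x : B →ₐ[R] Polynomial (Localization.Away r))
    (x₀ : B →ₐ[R] R)
    (hx₀ : (algebraMap R (Localization.Away r)).comp x₀.toRingHom =
      (Polynomial.evalRingHom 0).comp x.toRingHom) :
    ∃ N : ℕ, ∀ n : ℕ, N ≤ n →
      ∃ y : B →ₐ[R] Polynomial R,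
        (Polynomial.evalRingHom 0).comp y.toRingHom = x₀.toRingHom ∧
        (Polynomial.mapRingHom (algebraMap R (Localization.Away r))).comp y.toRingHom =
          (Polynomial.aeval (Polynomial.C (algebraMap R (Localization.Away r) (r ^ n)) * Polynomial.X) :
              Polynomial (Localization.Away r) →ₐ[Localization.Away r] Polynomial (Localization.Away r)).toRingHom.comp
            x.toRingHom := by
  classical
  obtain ⟨k, f, hf, hker⟩ := (Algebra.FinitePresentation.out (R := R) (A := B))
  obtain ⟨S, hS⟩ := hker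
  let L := Localization.Away r
  let ρ : R →+* L := algebraMap R L
  let P : Fin k → Polynomial L := fun i => x (f (MvPolynomial.X i))
  -- every coefficient of the finitely many polynomials `P i` has a numerator
  have hfrac : ∀ z : L, ∃ (n : ℕ) (a : R), z * ρ r ^ n = ρ a := fun z => IsLocalization.Away.surj r z
  choose en an hen using hfrac
  let N0 := ∑ i, ∑ j ∈ (P i).support, en ((P i).coeff j)
  have hnum : ∀ i j, 1 ≤ j → ∃ a : R, ρ a = (P i).coeff j * ρ r ^ (N0 * j) := by
    intro i j hj
    by_cases hjs : j ∈ (P i).support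
    · have hle : en ((P i).coeff j) ≤ N0 * j :=
        ((Finset.single_le_sum (f := fun j => en ((P i).coeff j)) (fun _ _ => Nat.zero_le _) hjs).trans
          (Finset.single_le_sum (f := fun i => ∑ j ∈ (P i).support, en ((P i).coeff j)) (fun _ _ => Nat.zero_le _) (Finset.mem_univ i))).trans
          (Nat.le_mul_of_pos_right _ hj)
      refine ⟨an ((P i).coeff j) * r ^ (N0 * j - en ((P i).coeff j)), ?_⟩
      rw [map_mul, map_pow, ← hen, mul_assoc, ← pow_add, Nat.add_sub_cancel' hle]
    · exact ⟨0, by rw [Polynomial.notMem_support_iff.1 hjs, map_zero, zero_mul]⟩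
  choose num hnum using hnum
  -- the lift at level N0
  let co : Fin k → ℕ → R := fun i j => if hj : 1 ≤ j then num i j hj else x₀ (f (MvPolynomial.X i))
  let Y : Fin k → Polynomial R := fun i => ∑ j ∈ insert 0 (P i).support, Polynomial.monomial j (co i j)
  have hP0 : ∀ i, (P i).coeff 0 = ρ (x₀ (f (MvPolynomial.X i))) := fun i => by
    have := RingHom.congr_fun hx₀ (f (MvPolynomial.X i))
    simpa [P, ρ, L, Polynomial.coeff_zero_eq_eval_zero] using this.symm
  have hY : ∀ i, (Y i).map ρ = (P i).comp (Polynomial.C (ρ r ^ N0) * Polynomial.X) := by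
    intro i
    refine Polynomial.ext fun j => ?_
    rw [Polynomial.comp_C_mul_X_coeff, Polynomial.coeff_map]
    simp only [Y, Polynomial.finsetSum_coeff, Polynomial.coeff_monomial, Finset.sum_ite_eq']
    split_ifs with h
    · by_cases hj : 1 ≤ j
      · simp only [co, dif_pos hj, hnum, ← pow_mul]
      · obtain rfl : j = 0 := by omega
        simp only [co, dif_neg hj, pow_zero, mul_one, hP0]
    · simp only [Finset.mem_insert, not_or, Polynomial.notMem_support_iff] at h
      rw [map_zero, h.2, zero_mul]
  have hY0 : ∀ i, (Y i).coeff 0 = x₀ (f (MvPolynomial.X i)) := fun i => by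
    simp only [Y, Polynomial.finsetSum_coeff, Polynomial.coeff_monomial, Finset.sum_ite_eq', Finset.mem_insert_self, if_true, co,
      dif_neg (show ¬ 1 ≤ 0 by omega)]
  let sc : L → (Polynomial L →ₐ[L] Polynomial L) := fun c => Polynomial.aeval (Polynomial.C c * Polynomial.X)
  let Φ : MvPolynomial (Fin k) R →ₐ[R] Polynomial R := MvPolynomial.aeval Y
  have hΦmap : ∀ p, (Φ p).map ρ = sc (ρ r ^ N0) (x (f p)) := by
    intro p
    have : (Polynomial.mapRingHom ρ).comp Φ.toRingHom =
        (sc (ρ r ^ N0)).toRingHom.comp (x.toRingHom.comp f.toRingHom) := by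
      refine MvPolynomial.ringHom_ext (fun a => ?_) fun i => ?_
      · show (Φ (MvPolynomial.C a)).map ρ = sc (ρ r ^ N0) (x (f (MvPolynomial.C a)))
        rw [← MvPolynomial.algebraMap_eq, AlgHom.commutes, AlgHom.commutes, AlgHom.commutes, Polynomial.algebraMap_eq, Polynomial.map_C,
          IsScalarTower.algebraMap_apply R L (Polynomial L), AlgHom.commutes, Polynomial.algebraMap_eq]
      · simp only [RingHom.coe_comp, Function.comp_apply, AlgHom.toRingHom_eq_coe, RingHom.coe_coe, Φ, MvPolynomial.aeval_X,
          Polynomial.coe_mapRingHom, hY, sc]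
        rw [Polynomial.aeval_def, Polynomial.algebraMap_eq]
        rfl
    exact RingHom.congr_fun this p
  have hΦ0 : ∀ p, (Φ p).coeff 0 = x₀ (f p) := by
    intro p
    have : (Polynomial.evalRingHom 0).comp Φ.toRingHom = x₀.toRingHom.comp f.toRingHom := by
      refine MvPolynomial.ringHom_ext (fun a => ?_) fun i => ?_
      · simp [Φ]
      · simp [Φ, ← Polynomial.coeff_zero_eq_eval_zero, hY0]
    have := RingHom.congr_fun this p
    simpa [Polynomial.coeff_zero_eq_eval_zero] using this
  -- the relations are killed by a power of r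
  have hrel : ∀ p ∈ S, ∀ j, ∃ e, r ^ e * (Φ p).coeff j = 0 := fun p hp j => by
    have hp0 : f p = 0 := RingHom.mem_ker.1 ((show p ∈ RingHom.ker f.toRingHom by rw [← hS]; exact Ideal.subset_span hp))
    have : ρ ((Φ p).coeff j) = ρ 0 := by rw [← Polynomial.coeff_map, hΦmap, hp0, map_zero, map_zero, Polynomial.coeff_zero, map_zero]
    obtain ⟨⟨_, e, rfl⟩, h⟩ := IsLocalization.exists_of_eq (M := Submonoid.powers r) this
    exact ⟨e, by simpa using h⟩
  choose ek hek using hrel
  clear_value Φ
  clear hY hY0
  obtain ⟨N1, hN1⟩ : ∃ N1 : ℕ, ∀ (q : {q // q ∈ S}), ∀ j ∈ (Φ q.1).support, ek q.1 q.2 j ≤ N1 :=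
    ⟨S.attach.sup fun q => (Φ q.1).support.sup fun j => ek q.1 q.2 j, fun q j hj =>
      (Finset.le_sup (f := fun j => ek q.1 q.2 j) hj).trans (Finset.le_sup (f := fun q : {q // q ∈ S} => (Φ q.1).support.sup fun j => ek q.1 q.2 j) (Finset.mem_attach S q))⟩
  refine ⟨N0 + N1, fun n hn => ?_⟩
  let e := n - N0
  have he : N1 ≤ e := by omega
  let σ : Polynomial R →ₐ[R] Polynomial R := Polynomial.aeval (Polynomial.C (r ^ e) * Polynomial.X)
  have hσ : ∀ q : Polynomial R, σ q = q.comp (Polynomial.C (r ^ e) * Polynomial.X) := fun q => by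
    rw [Polynomial.comp, Polynomial.aeval_def, Polynomial.algebraMap_eq]
  have hΨ : RingHom.ker f.toRingHom ≤ RingHom.ker (σ.comp Φ).toRingHom := by
    rw [← hS, Ideal.span_le]
    intro p hp
    show σ (Φ p) = 0
    refine Polynomial.ext fun j => ?_
    rw [hσ, Polynomial.comp_C_mul_X_coeff, Polynomial.coeff_zero]
    have hp0 : f p = 0 := RingHom.mem_ker.1 ((show p ∈ RingHom.ker f.toRingHom by rw [← hS]; exact Ideal.subset_span hp))
    by_cases hj : j ∈ (Φ p).support
    · rcases Nat.eq_zero_or_pos j with rfl | hjpos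
      · rw [hΦ0, hp0, map_zero, zero_mul]
      have h2 : ek p hp j ≤ N1 := hN1 ⟨p, hp⟩ j hj
      have h3 : e ≤ e * j := Nat.le_mul_of_pos_right _ hjpos
      obtain ⟨w, hw⟩ : ∃ w, e * j = w + ek p hp j := ⟨e * j - ek p hp j, by omega⟩
      calc (Φ p).coeff j * (r ^ e) ^ j = r ^ w * (r ^ ek p hp j * (Φ p).coeff j) := by
            rw [← pow_mul, hw, pow_add, mul_left_comm, mul_comm ((Φ p).coeff j)]
        _ = 0 := by rw [hek p hp j, mul_zero]
    · rw [Polynomial.notMem_support_iff.1 hj, zero_mul]
  let y : B →ₐ[R] Polynomial R := AlgHom.liftOfSurjective f hf (σ.comp Φ) hΨ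
  have hy : ∀ p, y (f p) = σ (Φ p) := fun p => AlgHom.liftOfSurjective_apply f hf (σ.comp Φ) hΨ p
  refine ⟨y, RingHom.ext fun b => ?_, RingHom.ext fun b => ?_⟩
  · obtain ⟨p, rfl⟩ := hf b
    simp only [RingHom.coe_comp, Function.comp_apply, AlgHom.toRingHom_eq_coe, RingHom.coe_coe, hy, Polynomial.coe_evalRingHom,
      ← Polynomial.coeff_zero_eq_eval_zero, hσ, Polynomial.comp_C_mul_X_coeff, pow_zero, mul_one, hΦ0]
  · obtain ⟨p, rfl⟩ := hf b
    simp only [RingHom.coe_comp, Function.comp_apply, AlgHom.toRingHom_eq_coe, RingHom.coe_coe, hy, Polynomial.coe_mapRingHom, hσ,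
      Polynomial.map_comp]
    change ((Φ p).map ρ).comp ((Polynomial.C (r ^ e) * Polynomial.X).map ρ) = sc (ρ (r ^ n)) (x (f p))
    rw [hΦmap]
    simp only [sc, Polynomial.aeval_def, Polynomial.algebraMap_eq]
    change ((x (f p)).comp _).comp _ = (x (f p)).comp _
    rw [Polynomial.comp_assoc]
    congr 1
    rw [Polynomial.map_mul, Polynomial.map_C, Polynomial.map_X, Polynomial.mul_comp, Polynomial.C_comp, Polynomial.X_comp,
      ← mul_assoc, ← Polynomial.C_mul, map_pow, ← pow_add, show N0 + e = n by omega, map_pow]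
    first | rfl | simp only [map_pow]

end Groth.Agent.S17843
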