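import Groth.Statements.S17844
import Groth.Agent.LoopPatch.DescGlobal

set_option autoImplicit false
set_option backward.isDefEq.respectTransparency false
open CategoryTheory CategoryTheory.Limits MonoidalCategory CartesianMonoidalCategory MonObj GrpObj AlgebraicGeometry
universe u
open NonAbH1

namespace Groth.Agent.S17844

/-- For torsors under a group scheme locally of finite presentation, let S be an affine scheme, G an
S-group scheme locally of finite presentation and X an fppf torsor over the affine space 𝔸ⁿ_S (n
finite) under the base change of G. Suppose that Zariski locally on S the torsor X descends: every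
point of S has an open neighbourhood U ↪ S and a torsor P under G_U over U whose base change to 𝔸ⁿ_U
is equivariantly isomorphic to the restriction of X (both regarded as actions of the base change of
G along 𝔸ⁿ_U → S through the canonical identifications of iterated base changes). Then X is
equivariantly isomorphic to the base change of a G-torsor over S. The published statement also
allows more general group functors and graded algebras in place of the polynomial algebra;
affineness of S cannot be dropped. -/
theorem result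
    (S : Scheme.{u}) [IsAffine S] (n : Type u) [Finite n]
    (G : Over S) [GrpObj G] [LocallyOfFinitePresentation G.hom]
    (X : NonAbH1.TorsorSch (Red.bc (𝔸(n; S) ↘ S) G) Scheme.fppfPrecoverage)
    (hloc : ∀ s : S, ∃ (U : Scheme.{u}) (j : U ⟶ S) (_ : IsOpenImmersion j), s ∈ Set.range j.base ∧
      ∃ P : NonAbH1.TorsorSch (Red.bc j G) Scheme.fppfPrecoverage,
        Nonempty (NonAbH1.EquivIso
          ((P.act.bc (pullback.snd (𝔸(n; S) ↘ S) j)).restrict
            (ActBC.bcCompIso (pullback.snd (𝔸(n; S) ↘ S) j) j G rfl).inv)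
          ((X.act.bc (pullback.fst (𝔸(n; S) ↘ S) j)).restrict
            (ActBC.bcCompIso (pullback.fst (𝔸(n; S) ↘ S) j) (𝔸(n; S) ↘ S) G pullback.condition).inv))) :
    ∃ P : NonAbH1.TorsorSch G Scheme.fppfPrecoverage,
      Nonempty (NonAbH1.EquivIso (P.act.bc (𝔸(n; S) ↘ S)) X.act) := by
  let R : CommRingCat.{u} := Γ(S, ⊤)
  let σ : S ≅ Spec (CommRingCat.of R) := S.isoSpec
  let ε : Groth.LoopPatch.Patch.ptS σ (MvPolynomial n R) ≅ Over.mk (𝔸(n; S) ↘ S) :=
    Over.isoMk (AffineSpace.isoOfIsAffine n S).symm (AffineSpace.isoOfIsAffine_inv_over _)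
  obtain ⟨D, _, _, _, _, ⟨E⟩⟩ :=
    Groth.LoopPatch.Patch.exists_datum σ X ε (Groth.LoopPatch.Patch.zeroPt n)
  have hI : E.descIdeal σ X.isTorsor.1 = ⊤ := by
    by_contra hI
    obtain ⟨M, hM, hle⟩ := Ideal.exists_le_maximal _ hI
    let x : Spec (CommRingCat.of R) := ⟨M, hM.isPrime⟩
    obtain ⟨U, j, _, hs, P, ⟨e⟩⟩ := hloc (σ.inv.base x)
    have hO : x ∈ σ.inv ⁻¹ᵁ j.opensRange := hs
    obtain ⟨_, ⟨_, ⟨r, rfl⟩, rfl⟩, hxr, hrO⟩ :=
      PrimeSpectrum.isBasis_basic_opens.exists_subset_of_mem_open (a := (x : PrimeSpectrum R)) hO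
        (σ.inv ⁻¹ᵁ j.opensRange).isOpen
    let L := Localization.Away r
    have hrange : Set.range (Spec.map (CommRingCat.ofHom (algebraMap R L)) ≫ σ.inv).base ⊆
        Set.range j.base := by
      rintro _ ⟨q, rfl⟩
      have hq : (Spec.map (CommRingCat.ofHom (algebraMap R L))).base q ∈ PrimeSpectrum.basicOpen r := by
        show PrimeSpectrum.comap (algebraMap R L) q ∈ (PrimeSpectrum.basicOpen r : Set (PrimeSpectrum R))
        rw [← PrimeSpectrum.localization_away_comap_range L r]
        exact Set.mem_range_self q
      exact hrO hq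
    have hr : r ∈ E.descIdeal σ X.isTorsor.1 :=
      E.desc_of_equiv σ P.act e _ (Groth.LoopPatch.Patch.awayPt σ r
        (IsOpenImmersion.lift j _ hrange) (IsOpenImmersion.lift_fac _ _ _))
    exact hxr (hle hr)
  obtain ⟨y, hy⟩ := (show E.DescAway σ 1 from (Ideal.eq_top_iff_one _).1 hI).desc σ E
    (AlgHom.id R (MvPolynomial n R)) (by rw [map_one]; exact isUnit_one)
  exact E.exists_torsor_global σ X.isTorsor ⟨y, hy⟩

end Groth.Agent.S17844
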