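import Groth.Statements.S1785
import Groth.Agent.DualCore.LocalExt
import Groth.Agent.DualCore.FibreCodim

set_option autoImplicit false
universe u
open CategoryTheory
attribute [local instance] HasDerivedCategory.standard
open Dual2

namespace Groth.Agent.S1785

/-- Let R → A be a ring map of finite type between Noetherian rings, where φ^!(K) is formed from a
presentation ψ : R[x_1, …, x_n] → A as RHom_P(A, K ⊗^L_R P)[n], assuming the derived base change to
P exists and taking for RHom_P(A, −) a right adjoint of restriction of scalars along ψ, and let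
ω_{A/R} = φ^!(R). Let q be a prime of A and d the local dimension at q of the fibre of Spec A → Spec
R through q. If H^i(ω_{A/R}) localized at q is nonzero then −d ≤ i. -/
theorem result (R A : Type u) [CommRing R] [CommRing A] [IsNoetherianRing R] [IsNoetherianRing A] [Algebra R A] (n : ℕ) (ψ : MvPolynomial (Fin n) R →ₐ[R] A) (hψ : Function.Surjective ψ) [DRing.HasLBaseChange (algebraMap R (MvPolynomial (Fin n) R))] (Rψ : Dual.D (MvPolynomial (Fin n) R) ⥤ Dual.D A) (adj : DRing.restrictD ψ.toRingHom ⊣ Rψ) (q : PrimeSpectrum A) (d : ℕ) (hd : FlatMor.fibreDimAt (AlgebraicGeometry.Spec.map (CommRingCat.ofHom (algebraMap R A))) q = d) (i : ℤ) (h : Nontrivial (LocalizedModule q.asIdeal.primeCompl (Dual.HD A (Dual2.shriekVia n Rψ (Dual.inD R R)) i))) : -(d : ℤ) ≤ i := by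
  let P := MvPolynomial (Fin n) R
  letI : Algebra P A := ψ.toRingHom.toAlgebra
  haveI : IsScalarTower R P A := IsScalarTower.of_algebraMap_eq fun r => (ψ.commutes r).symm
  obtain ⟨u⟩ := Groth.DualCore.nonempty_LBaseChange_inD (algebraMap R P)
  let e : Dual2.shriekVia n Rψ (Dual.inD R R) ≅ (Rψ.obj (Dual.inD P P))⟦(n : ℤ)⟧ :=
    (shiftFunctor _ (n : ℤ)).mapIso (Rψ.mapIso u)
  obtain ⟨l, hlen, hl, hlI⟩ := Groth.DualCore.exists_isWeaklyRegular_ker n hψ q.asIdeal d hd.le
  let S := Localization.AtPrime (q.asIdeal.comap (algebraMap P A))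
  haveI : IsNoetherianRing S := IsLocalization.isNoetherianRing
    (q.asIdeal.comap (algebraMap P A)).primeCompl _ inferInstance
  haveI : Module.Finite P A := Module.Finite.of_surjective (Algebra.linearMap P A) hψ
  obtain ⟨T⟩ := Groth.DualCore.nonempty_localization_HD_equiv (P := P) Rψ adj hψ q.asIdeal ((n : ℤ) + i)
  by_contra hi
  rw [not_le] at hi
  haveI : Subsingleton (Dual.inD S (TensorProduct P S A) ⟶ (Dual.inD S S)⟦(n : ℤ) + i⟧) :=
    Groth.DualCore.subsingleton_hom_of_killed l hl (TensorProduct P S A)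
      (fun a ha x => Groth.DualCore.smul_eq_zero_of_mem_map_ker S a
        (Ideal.span_le.2 (fun y hy => hlI y hy) ha) x) _ (by omega)
  haveI := T.toEquiv.subsingleton
  let Aq := Localization.AtPrime q.asIdeal
  let E := ((Groth.DualCore.HDCongr e i).trans
    (Groth.DualCore.HDShiftEquiv _ (n : ℤ) i _ rfl))
  haveI : Subsingleton (LocalizedModule q.asIdeal.primeCompl
      (Dual.HD A (Dual2.shriekVia n Rψ (Dual.inD R R)) i)) :=
    ((LocalizedModule.equivTensorProduct q.asIdeal.primeCompl _).trans
      (TensorProduct.AlgebraTensorModule.congr (LinearEquiv.refl Aq Aq) E)).toEquiv.subsingleton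
  exact not_subsingleton _ this

end Groth.Agent.S1785
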