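import Groth.Statements.S17850
import Groth.Agent.LoopPatch.DescIdeal

set_option autoImplicit false
set_option backward.isDefEq.respectTransparency false
open CategoryTheory CategoryTheory.Limits MonoidalCategory CartesianMonoidalCategory MonObj GrpObj AlgebraicGeometry
universe u
open NonAbH1

namespace Groth.Agent.S17850

/-- In ideal form, let R be a ring, G an R-group scheme locally of finite presentation and X an fppf
torsor over 𝔸ⁿ_R (n finite) under the base change of G. Say that X descends over R[1/r] when there
is a torsor P under the base change of G to R[1/r] whose base change to 𝔸ⁿ over R[1/r] is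
equivariantly isomorphic to the restriction of X (both compared as actions of the base change of G
to 𝔸ⁿ over R[1/r] through the canonical identifications of iterated base changes). Then the set of r
∈ R over which X descends is an ideal. The published statement also allows more general group
functors and graded algebras. -/
theorem result
    (R : Type u) [CommRing R] (n : Type u) [Finite n]
    (G : Over (Spec (CommRingCat.of R))) [GrpObj G] [LocallyOfFinitePresentation G.hom]
    (X : NonAbH1.TorsorSch (Red.bc (𝔸(n; Spec (CommRingCat.of R)) ↘ Spec (CommRingCat.of R)) G) Scheme.fppfPrecoverage) :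
    ∃ I : Ideal R, ∀ r : R, r ∈ I ↔
      ∃ P : NonAbH1.TorsorSch
          (Red.bc (Spec.map (CommRingCat.ofHom (algebraMap R (Localization.Away r)))) G) Scheme.fppfPrecoverage,
        Nonempty (NonAbH1.EquivIso
          ((P.act.bc (pullback.snd (𝔸(n; Spec (CommRingCat.of R)) ↘ Spec (CommRingCat.of R))
              (Spec.map (CommRingCat.ofHom (algebraMap R (Localization.Away r)))))).restrict
            (ActBC.bcCompIso (pullback.snd (𝔸(n; Spec (CommRingCat.of R)) ↘ Spec (CommRingCat.of R))
                (Spec.map (CommRingCat.ofHom (algebraMap R (Localization.Away r)))))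
              (Spec.map (CommRingCat.ofHom (algebraMap R (Localization.Away r)))) G rfl).inv)
          ((X.act.bc (pullback.fst (𝔸(n; Spec (CommRingCat.of R)) ↘ Spec (CommRingCat.of R))
              (Spec.map (CommRingCat.ofHom (algebraMap R (Localization.Away r)))))).restrict
            (ActBC.bcCompIso (pullback.fst (𝔸(n; Spec (CommRingCat.of R)) ↘ Spec (CommRingCat.of R))
                (Spec.map (CommRingCat.ofHom (algebraMap R (Localization.Away r)))))
              (𝔸(n; Spec (CommRingCat.of R)) ↘ Spec (CommRingCat.of R)) G pullback.condition).inv)) := by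
  let σ : Spec (CommRingCat.of R) ≅ Spec (CommRingCat.of R) := Iso.refl _
  let ε : Groth.LoopPatch.Patch.ptS σ (MvPolynomial n R) ≅
      Over.mk (𝔸(n; Spec (CommRingCat.of R)) ↘ Spec (CommRingCat.of R)) :=
    Over.isoMk (AffineSpace.SpecIso n (CommRingCat.of R)).symm
      ((AffineSpace.SpecIso_inv_over _).trans (Category.comp_id _).symm)
  obtain ⟨D, _, _, _, _, ⟨E⟩⟩ :=
    Groth.LoopPatch.Patch.exists_datum σ X ε (Groth.LoopPatch.Patch.zeroPt n)
  refine ⟨E.descIdeal σ X.isTorsor.1, fun r => ⟨fun h => ?_, fun ⟨P, ⟨e⟩⟩ => ?_⟩⟩
  · exact E.exists_torsor_of_descAway σ X.isTorsor (r := r) h (Category.comp_id _).symm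
  · exact E.desc_of_equiv σ P.act e _ (Groth.LoopPatch.Patch.awayPt σ r
      (j := Spec.map (CommRingCat.ofHom (algebraMap R (Localization.Away r)))) (𝟙 _)
      ((Category.id_comp _).trans (Category.comp_id _).symm))

end Groth.Agent.S17850
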