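import Groth.Statements.S17851
import Groth.Agent.LoopPatch.LineMain

set_option autoImplicit false
set_option backward.isDefEq.respectTransparency false
open CategoryTheory CategoryTheory.Limits MonoidalCategory CartesianMonoidalCategory MonObj GrpObj AlgebraicGeometry
universe u
open NonAbH1

namespace Groth.Agent.S17851

/-- Let R be a ring and G an R-group scheme locally of finite presentation. Call an fppf torsor over the
affine line Spec A[t] (under the base change of the group) trivial away from an A-finite closed
subscheme when it has a section over the open complement of V(I) for some ideal I of A[t] with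
A[t]/I a finite A-module. If for every maximal ideal m of R every torsor under the base change of G
over Spec R_m[t] which is trivial away from an R_m-finite closed subscheme is trivial, then every
torsor under the base change of G over Spec R[t] which is trivial away from an R-finite closed
subscheme is trivial. The published statement also allows more general group functors. -/
theorem result
    (R : Type u) [CommRing R]
    (G : Over (Spec (CommRingCat.of R))) [GrpObj G] [LocallyOfFinitePresentation G.hom]
    (hloc : ∀ (m : Ideal R) [m.IsMaximal]
      (Y : NonAbH1.TorsorSch (Red.bc (Spec.map (CommRingCat.ofHom (algebraMap (Localization.AtPrime m) (Polynomial (Localization.AtPrime m))))) (Red.bc (Spec.map (CommRingCat.ofHom (algebraMap R (Localization.AtPrime m)))) G)) Scheme.fppfPrecoverage),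
      (∃ I : Ideal (Polynomial (Localization.AtPrime m)), Module.Finite (Localization.AtPrime m) (Polynomial (Localization.AtPrime m) ⧸ I) ∧
        NonAbH1.HasSectionOver Y.X (Scheme.Opens.ι
          (⟨(PrimeSpectrum.zeroLocus (I : Set (Polynomial (Localization.AtPrime m))))ᶜ,
            (PrimeSpectrum.isClosed_zeroLocus _).isOpen_compl⟩ : (Spec (CommRingCat.of (Polynomial (Localization.AtPrime m)))).Opens))) →
      NonAbH1.HasSectionOver Y.X (𝟙 (Spec (CommRingCat.of (Polynomial (Localization.AtPrime m))))))
    (X : NonAbH1.TorsorSch (Red.bc (Spec.map (CommRingCat.ofHom (algebraMap R (Polynomial R)))) G) Scheme.fppfPrecoverage)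
    (I : Ideal (Polynomial R)) (hI : Module.Finite R (Polynomial R ⧸ I))
    (hX : NonAbH1.HasSectionOver X.X (Scheme.Opens.ι
      (⟨(PrimeSpectrum.zeroLocus (I : Set (Polynomial R)))ᶜ,
        (PrimeSpectrum.isClosed_zeroLocus _).isOpen_compl⟩ : (Spec (CommRingCat.of (Polynomial R))).Opens))) :
    NonAbH1.HasSectionOver X.X (𝟙 (Spec (CommRingCat.of (Polynomial R)))) := by
  haveI := hI
  exact Groth.LoopPatch.Line.hasSection hloc X I hX

end Groth.Agent.S17851
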