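import Groth.Statements.S17854
import Groth.Agent.EtaleAlgebra.EtaleChart
import Mathlib.RingTheory.Jacobson.Ring
import Mathlib.FieldTheory.PrimitiveElement
import Mathlib.FieldTheory.Perfect
import Mathlib.RingTheory.Unramified.Field
import Mathlib.RingTheory.Kaehler.JacobiZariski
import Mathlib.FieldTheory.IntermediateField.Adjoin.Basic
import Mathlib.RingTheory.RingHom.Etale
-- import your own Groth.Agent.* helpers here

set_option autoImplicit false
open TensorProduct
universe u
open EtAlg

namespace Groth.Agent.S17854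

/-- In the case of a base with finite residue field, let k be a local ring whose residue field is
finite, R a finitely presented k-algebra and m a maximal ideal of R over the maximal ideal of k such
that R is smooth over k at m of relative dimension d > 0 (the module of Kähler differentials of R
over k has rank d at m). Then there are g ∉ m and an étale k-algebra homomorphism φ : k[x₁, …, x_d]
→ R[1/g] which induces an isomorphism of residue fields at m, i.e. k[x₁, …, x_d] → R[1/g]/m R[1/g]
is surjective. The published statement is for any local ring k; this row takes the residue field of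
k finite. -/
theorem result
    (k : Type u) [CommRing k] [IsLocalRing k] [Finite (IsLocalRing.ResidueField k)]
    (R : Type u) [CommRing R] [Algebra k R] [Algebra.FinitePresentation k R]
    (m : Ideal R) [m.IsMaximal] (hm : m.comap (algebraMap k R) = IsLocalRing.maximalIdeal k)
    [Algebra.IsSmoothAt k m] (d : ℕ) (hd : 0 < d)
    (hdim : Module.finrank (R ⧸ m) ((R ⧸ m) ⊗[R] KaehlerDifferential k R) = d) :
    ∃ g : R, g ∉ m ∧ ∃ φ : MvPolynomial (Fin d) k →ₐ[k] Localization.Away g,
      φ.toRingHom.Etale ∧
      Function.Surjective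
        ((Ideal.Quotient.mk (m.map (algebraMap R (Localization.Away g)))).comp φ.toRingHom) := by
  classical
  open scoped TensorProduct in
  let k0 := IsLocalRing.ResidueField k
  let κ := R ⧸ m
  let _ : Field κ := Ideal.Quotient.field m
  let ρ : k0 →+* κ := Ideal.Quotient.lift (IsLocalRing.maximalIdeal k) ((Ideal.Quotient.mk m).comp (algebraMap k R))
    (fun a ha => Ideal.Quotient.eq_zero_iff_mem.2 (hm.ge ha))
  let _ : Algebra k0 κ := ρ.toAlgebra
  have : IsScalarTower k k0 κ := IsScalarTower.of_algebraMap_eq fun _ => rfl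
  have : Algebra.FiniteType k κ := Algebra.FiniteType.trans (S := R) inferInstance inferInstance
  have : Algebra.FiniteType k0 κ := Algebra.FiniteType.of_restrictScalars_finiteType k k0 κ
  have : Module.Finite k0 κ := finite_of_finite_type_of_isJacobsonRing k0 κ
  have : Algebra.IsSeparable k0 κ := Algebra.IsAlgebraic.isSeparable_of_perfectField
  have : Algebra.FormallyUnramified k k0 :=
    Algebra.FormallyUnramified.of_surjective (Algebra.ofId k k0) Ideal.Quotient.mk_surjective
  have : Algebra.FormallyUnramified k0 κ := Algebra.FormallyUnramified.of_isSeparable k0 κ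
  have : Algebra.FormallyUnramified k κ := Algebra.FormallyUnramified.comp k k0 κ
  -- differentials of elements of `m` fill the cotangent fibre
  open scoped TensorProduct in
  have hy : ∀ e : κ ⊗[R] Ω[R⁄k], ∃ y ∈ m, (1 : κ) ⊗ₜ KaehlerDifferential.D k R y = e := by
    intro e
    have : Subsingleton Ω[κ⁄k] := (Algebra.formallyUnramified_iff k κ).1 inferInstance
    obtain ⟨z, hz⟩ := (KaehlerDifferential.exact_kerCotangentToTensor_mapBaseChange k R κ
      (Ideal.Quotient.mk_surjective) e).1 (Subsingleton.elim _ _)
    obtain ⟨y, rfl⟩ := Ideal.toCotangent_surjective _ z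
    refine ⟨(y : R), ?_, ?_⟩
    · have h := y.2
      exact Ideal.Quotient.eq_zero_iff_mem.1 (RingHom.mem_ker.1 h)
    · rw [← hz, KaehlerDifferential.kerCotangentToTensor_toCotangent]
  obtain ⟨θ, hθ⟩ := Field.exists_primitive_element k0 κ
  obtain ⟨t, ht⟩ := Ideal.Quotient.mk_surjective θ
  let b := Module.finBasisOfFinrankEq κ _ hdim
  let c : Fin d → R := fun i => if (i : ℕ) = 0 then t else 0
  choose y hym hyD using fun i => hy (b i - 1 ⊗ₜ KaehlerDifferential.D k R (c i))
  let x : Fin d → R := fun i => c i + y i
  have hxD : ∀ i, (1 : κ) ⊗ₜ[R] KaehlerDifferential.D k R (x i) = b i := fun i => by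
    rw [map_add, TensorProduct.tmul_add, hyD, add_sub_cancel]
  let _ : Algebra (MvPolynomial (Fin d) k) R := (MvPolynomial.aeval x).toRingHom.toAlgebra
  have : IsScalarTower k (MvPolynomial (Fin d) k) R :=
    IsScalarTower.of_algebraMap_eq fun a => ((MvPolynomial.aeval x).commutes a).symm
  have hetale : Algebra.IsEtaleAt (MvPolynomial (Fin d) k) m :=
    Groth.EtaleAlgebra.isEtaleAt_of_basis x m b hxD (fun i => MvPolynomial.aeval_X x i)
  have : Algebra.FinitePresentation (MvPolynomial (Fin d) k) R :=
    Algebra.FinitePresentation.of_restrict_scalars_finitePresentation k _ _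
  obtain ⟨g, hg, hget⟩ := Algebra.exists_etale_of_isEtaleAt (R := MvPolynomial (Fin d) k) m
  refine ⟨g, hg, IsScalarTower.toAlgHom k (MvPolynomial (Fin d) k) (Localization.Away g),
    RingHom.etale_algebraMap.2 hget, ?_⟩
  have hθs : Function.Surjective (Polynomial.aeval (R := k0) θ) := by
    rw [← AlgHom.range_eq_top, ← Algebra.adjoin_singleton_eq_range_aeval,
      ← IntermediateField.adjoin_simple_toSubalgebra_of_isAlgebraic (Algebra.IsAlgebraic.isAlgebraic θ), hθ,
      IntermediateField.top_toSubalgebra]
  have hmod : ∀ r : R, ∃ q, algebraMap (MvPolynomial (Fin d) k) R q - r ∈ m := by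
    intro r
    obtain ⟨f, hf⟩ := hθs (Ideal.Quotient.mk m r)
    obtain ⟨F, rfl⟩ := Polynomial.map_surjective (algebraMap k k0) Ideal.Quotient.mk_surjective f
    refine ⟨Polynomial.aeval (MvPolynomial.X ⟨0, hd⟩) F, ?_⟩
    rw [← Ideal.Quotient.eq, ← hf, Polynomial.aeval_map_algebraMap]
    show Ideal.Quotient.mkₐ k m ((IsScalarTower.toAlgHom k (MvPolynomial (Fin d) k) R) _) = _
    rw [← Polynomial.aeval_algHom_apply, ← Polynomial.aeval_algHom_apply]
    congr 2
    show Ideal.Quotient.mk m (MvPolynomial.aeval x (MvPolynomial.X ⟨0, hd⟩)) = θ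
    rw [MvPolynomial.aeval_X]
    show Ideal.Quotient.mk m (c _ + y _) = θ
    rw [map_add, Ideal.Quotient.eq_zero_iff_mem.2 (hym _), add_zero]
    exact ht
  obtain ⟨h, hh⟩ : ∃ h, g * h - 1 ∈ m := by
    obtain ⟨h, hh⟩ := Ideal.Quotient.mk_surjective (Ideal.Quotient.mk m g : κ)⁻¹
    refine ⟨h, ?_⟩
    rw [← Ideal.Quotient.eq, map_mul, hh, map_one]
    exact mul_inv_cancel₀ (fun h0 => hg (Ideal.Quotient.eq_zero_iff_mem.1 h0))
  intro z
  obtain ⟨z, rfl⟩ := Ideal.Quotient.mk_surjective z
  obtain ⟨n, r, hr⟩ := IsLocalization.Away.surj g z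
  obtain ⟨q, hq⟩ := hmod (r * h ^ n)
  refine ⟨q, ?_⟩
  show Ideal.Quotient.mk _ (algebraMap (MvPolynomial (Fin d) k) (Localization.Away g) q) = _
  rw [IsScalarTower.algebraMap_apply (MvPolynomial (Fin d) k) R, Ideal.Quotient.eq]
  have h1 := Ideal.mem_map_of_mem (algebraMap R (Localization.Away g)) hq
  have h2 : (g * h) ^ n - 1 ∈ m := by
    rw [← Ideal.Quotient.eq, map_pow, map_one]
    rw [← Ideal.Quotient.eq, map_one] at hh
    rw [hh, one_pow]
  have h3 := Ideal.mem_map_of_mem (algebraMap R (Localization.Away g)) h2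
  have e : algebraMap R (Localization.Away g) (algebraMap (MvPolynomial (Fin d) k) R q) - z =
      algebraMap R (Localization.Away g) (algebraMap (MvPolynomial (Fin d) k) R q - r * h ^ n) +
        z * algebraMap R (Localization.Away g) ((g * h) ^ n - 1) := by
    simp only [map_sub, map_mul, map_pow, map_one, ← hr]
    ring
  rw [e]
  exact Ideal.add_mem _ h1 (Ideal.mul_mem_left _ _ h3)

end Groth.Agent.S17854
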