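import Groth.Statements.S17858
import Mathlib.AlgebraicGeometry.Morphisms.Affine

set_option autoImplicit false
open CategoryTheory AlgebraicGeometry
universe u
open Algz

namespace Groth.Agent.S17858

namespace Aux

lemma isAffineOpen_pullback_inf {X Y Z : Scheme.{u}} {f : X ⟶ Z} {g : Y ⟶ Z}
    {U : X.Opens} (hU : IsAffineOpen U) {V : Y.Opens} (hV : IsAffineOpen V)
    {W : Z.Opens} (hW : IsAffineOpen W) (hUW : U ≤ f ⁻¹ᵁ W) (hVW : V ≤ g ⁻¹ᵁ W) :
    IsAffineOpen (Limits.pullback.fst f g ⁻¹ᵁ U ⊓ Limits.pullback.snd f g ⁻¹ᵁ V) := by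
  have : IsAffine U.toScheme := hU
  have : IsAffine V.toScheme := hV
  have : IsAffine W.toScheme := hW
  let p : Limits.pullback (f.resLE W U hUW) (g.resLE W V hVW) ⟶ Limits.pullback f g :=
    Limits.pullback.map _ _ _ _ U.ι V.ι W.ι (by simp) (by simp)
  convert! isAffineOpen_opensRange p
  ext1
  simp [p, Scheme.Pullback.range_map]

lemma exists_finite_affine_cover {X : Scheme.{u}} {K : X.Opens} (hK : IsCompact (K : Set X)) :
    ∃ (n : ℕ) (V : Fin n → X.Opens), (∀ i, IsAffineOpen (V i)) ∧ ⨆ i, V i = K := by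
  have h := hK.elim_finite_subcover (fun V : {V : X.affineOpens // V.1 ≤ K} => (V.1.1 : Set X))
    (fun V => V.1.1.2) fun x hx => by
      obtain ⟨_, ⟨V, hV, rfl⟩, hxV, hVK⟩ :=
        X.isBasis_affineOpens.exists_subset_of_mem_open hx K.2
      exact Set.mem_iUnion.mpr ⟨⟨⟨V, hV⟩, hVK⟩, hxV⟩
  obtain ⟨t, ht⟩ := h
  refine ⟨t.card, fun i => (t.equivFin.symm i).1.1.1, fun i => (t.equivFin.symm i).1.1.2,
    le_antisymm (iSup_le fun i => (t.equivFin.symm i).1.2) fun x hx => ?_⟩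
  obtain ⟨V, hV, hxV⟩ := Set.mem_iUnion₂.mp (ht hx)
  exact TopologicalSpace.Opens.mem_iSup.mpr ⟨t.equivFin ⟨V, hV⟩, by simpa using hxV⟩

lemma exists_basicOpen_refinement {B : CommRingCat.{u}} {n : ℕ}
    (O : Fin n → TopologicalSpace.Opens (PrimeSpectrum B))
    (hO : ⨆ i, O i = ⊤) : ∃ b : Fin n → B, (∀ i, PrimeSpectrum.basicOpen (b i) ≤ O i) ∧
      ∀ x : PrimeSpectrum B, ∃ i, x ∈ PrimeSpectrum.basicOpen (b i) := by
  classical
  let J : Fin n → Ideal B := fun i => PrimeSpectrum.vanishingIdeal (O i : Set (PrimeSpectrum B))ᶜ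
  have htop : ⨆ i, J i = ⊤ := by
    rw [← PrimeSpectrum.zeroLocus_empty_iff_eq_top, Set.eq_empty_iff_forall_notMem]
    intro x hx
    obtain ⟨i, hi⟩ := TopologicalSpace.Opens.mem_iSup.mp (hO ▸ TopologicalSpace.Opens.mem_top x)
    have h1 : x ∈ PrimeSpectrum.zeroLocus (J i : Set B) :=
      PrimeSpectrum.zeroLocus_anti_mono (SetLike.coe_subset_coe.mpr (le_iSup J i)) hx
    rw [PrimeSpectrum.zeroLocus_vanishingIdeal_eq_closure,
      (isClosed_compl_iff.mpr (O i).isOpen).closure_eq] at h1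
    exact h1 hi
  obtain ⟨b, hb, hsum⟩ :=
    (Submodule.mem_iSup_iff_exists_finsupp J 1).mp (htop ▸ Submodule.mem_top)
  refine ⟨b, fun i x hx => ?_, fun x => ?_⟩
  · by_contra h
    exact hx ((PrimeSpectrum.mem_vanishingIdeal _ _).mp (hb i) x h)
  · by_contra h
    push Not at h
    refine x.isPrime.ne_top ((Ideal.eq_top_iff_one _).mpr ?_)
    rw [← hsum]
    exact Ideal.sum_mem _ fun i _ => not_not.mp (h i)

end Aux

/-- Let `j : W ⟶ Y` be a quasi-affine morphism of quasi-compact quasi-separated schemes. There is a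
natural number `m` such that for every commutative ring `B` and every morphism `Spec B ⟶ Y`, the
fibre product `W ×_Y Spec B` is the union of `m` affine open subschemes. -/
theorem result {W Y : Scheme.{u}} (j : W ⟶ Y)
    [CompactSpace W] [QuasiSeparatedSpace W] [CompactSpace Y] [QuasiSeparatedSpace Y]
    (hj : Mor2.IsQuasiAffine j) :
    ∃ m : ℕ, ∀ (B : CommRingCat.{u}) (g : Spec B ⟶ Y),
      ∃ U : Fin m → (Limits.pullback j g).Opens, (∀ k, IsAffineOpen (U k)) ∧ ⨆ k, U k = ⊤ := by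
  obtain ⟨N, V, hV, hVtop⟩ := Aux.exists_finite_affine_cover (K := (⊤ : Y.Opens)) isCompact_univ
  have hjV : ∀ i, ∃ (n : ℕ) (P : Fin n → W.Opens), (∀ k, IsAffineOpen (P k)) ∧ ⨆ k, P k = j ⁻¹ᵁ V i :=
    fun i => Aux.exists_finite_affine_cover (j.isCompact_preimage (hV i).isCompact)
  choose n P hP hPtop using hjV
  let e := (finSigmaFinEquiv (m := N) (n := n)).symm
  refine ⟨∑ i : Fin N, n i, fun B g => ?_⟩
  obtain ⟨b, hb, hcov⟩ := Aux.exists_basicOpen_refinement (fun i => g ⁻¹ᵁ V i)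
    ((g.preimage_iSup V).symm.trans (by rw [hVtop]; rfl))
  refine ⟨fun k => Limits.pullback.fst j g ⁻¹ᵁ P (e k).1 (e k).2 ⊓
    Limits.pullback.snd j g ⁻¹ᵁ PrimeSpectrum.basicOpen (b (e k).1), fun k => ?_, ?_⟩
  · exact Aux.isAffineOpen_pullback_inf (hP _ _)
      (IsAffineOpen.Spec_basicOpen (R := B) _) (hV _)
      ((le_iSup (P _) _).trans (hPtop _).le) (hb _)
  · refine top_unique fun x _ => ?_
    obtain ⟨i, hi⟩ := hcov ((Limits.pullback.snd j g).base x)
    have hx : (Limits.pullback.fst j g).base x ∈ j ⁻¹ᵁ V i := by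
      have h1 : (Limits.pullback.snd j g).base x ∈ g ⁻¹ᵁ V i := hb i hi
      change j.base _ ∈ V i
      rw [← Scheme.Hom.comp_apply, Limits.pullback.condition, Scheme.Hom.comp_apply]
      exact h1
    rw [← hPtop i, TopologicalSpace.Opens.mem_iSup] at hx
    obtain ⟨k, hk⟩ := hx
    refine TopologicalSpace.Opens.mem_iSup.mpr ⟨e.symm ⟨i, k⟩, ?_⟩
    have key : ∀ σ : (i : Fin N) × Fin (n i), σ = ⟨i, k⟩ →
        x ∈ Limits.pullback.fst j g ⁻¹ᵁ P σ.1 σ.2 ⊓
          Limits.pullback.snd j g ⁻¹ᵁ PrimeSpectrum.basicOpen (b σ.1) := by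
      rintro σ rfl
      exact ⟨hk, hi⟩
    exact key _ (e.apply_symm_apply _)

end Groth.Agent.S17858
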