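import Groth.Statements.S17859
import Mathlib.LinearAlgebra.Contraction
import Mathlib.RingTheory.Finiteness.Projective
import Mathlib.Algebra.Category.ModuleCat.Monoidal.Basic

set_option autoImplicit false
open CategoryTheory MonoidalCategory
universe u
open Algz

namespace Groth.Agent.S17859

/-- Over an affine scheme, that is for modules over a commutative ring `R`, a finitely generated
projective `R`-module `M`, viewed as an object of the monoidal category of `R`-modules (tensor
product over `R`), has a right dual. (The published statement is the equivalence, for quasi-coherent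
sheaves on a quasi-compact quasi-separated scheme, between being dualizable and being a vector
bundle; stated here is the affine case of the implication from vector bundle to dualizable. The
converse implication, that a module admitting a dual is finitely generated projective, is stated
separately and is not repeated here.) -/
theorem result (R : Type u) [CommRing R] (M : ModuleCat.{u} R)
    [Module.Finite R M] [Module.Projective R M] : Nonempty (HasRightDual M) := by
  classical
  obtain ⟨n, f, g, -, -, hfg⟩ := Module.Finite.exists_comp_eq_id_of_projective R M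
  let e : Fin n → M := fun k => f (Pi.single k 1)
  let p : Fin n → Module.Dual R M := fun k => LinearMap.proj k ∘ₗ g
  have hsum : ∀ m : M, ∑ k, p k m • e k = m := fun m => by
    conv_rhs => rw [← LinearMap.id_apply (R := R) m, ← hfg, LinearMap.comp_apply, pi_eq_sum_univ' (g m)]
    rw [map_sum]
    exact Finset.sum_congr rfl fun k _ => (map_smul f _ _).symm
  let D : ModuleCat.{u} R := ModuleCat.of R (Module.Dual R M)
  let c : TensorProduct R (M : Type u) (Module.Dual R M) := ∑ k, e k ⊗ₜ[R] p k
  let η : 𝟙_ (ModuleCat.{u} R) ⟶ M ⊗ D := ModuleCat.ofHom (LinearMap.toSpanSingleton R _ c)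
  let ε : D ⊗ M ⟶ 𝟙_ (ModuleCat.{u} R) := ModuleCat.ofHom (contractLeft R M)
  refine ⟨@HasRightDual.mk _ _ _ M D ⟨η, ε, ?_, ?_⟩⟩
  · refine ModuleCat.hom_ext (TensorProduct.ext' fun φ r => ?_)
    show (ε ▷ D).hom ((α_ D M D).inv.hom ((D ◁ η).hom (φ ⊗ₜ[R] r))) =
      (λ_ D).inv.hom ((ρ_ D).hom.hom (φ ⊗ₜ[R] r))
    change Module.Dual R M at φ
    rw [show (D ◁ η).hom (φ ⊗ₜ[R] r) = φ ⊗ₜ[R] (r • c) from rfl]
    simp only [c, Finset.smul_sum, TensorProduct.tmul_sum, map_sum]
    show ∑ k, (φ (r • e k)) ⊗ₜ[R] p k = (1 : R) ⊗ₜ[R] (r • φ)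
    have hφ : r • φ = ∑ k, φ (r • e k) • p k := LinearMap.ext fun m => by
      rw [LinearMap.smul_apply, LinearMap.sum_apply]
      conv_lhs => rw [← hsum m, map_sum, Finset.smul_sum]
      refine Finset.sum_congr rfl fun k _ => ?_
      simp only [map_smul, smul_eq_mul, LinearMap.smul_apply]
      ring
    rw [hφ, TensorProduct.tmul_sum]
    exact Finset.sum_congr rfl fun k _ => by rw [← TensorProduct.smul_tmul, smul_eq_mul, mul_one]
  · refine ModuleCat.hom_ext (TensorProduct.ext' fun r m => ?_)
    show (M ◁ ε).hom ((α_ M D M).hom.hom ((η ▷ M).hom (r ⊗ₜ[R] m))) =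
      (ρ_ M).inv.hom ((λ_ M).hom.hom (r ⊗ₜ[R] m))
    rw [show (η ▷ M).hom (r ⊗ₜ[R] m) = (r • c) ⊗ₜ[R] m from rfl]
    simp only [c, Finset.smul_sum, TensorProduct.sum_tmul, map_sum]
    show ∑ k, (r • e k) ⊗ₜ[R] (p k m : R) = (r • m) ⊗ₜ[R] (1 : R)
    conv_rhs => rw [← hsum m, Finset.smul_sum, TensorProduct.sum_tmul]
    refine Finset.sum_congr rfl fun k _ => ?_
    rw [smul_comm r (p k m), TensorProduct.smul_tmul (p k m), smul_eq_mul, mul_one]

end Groth.Agent.S17859
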