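import Groth.Statements.S1786
import Groth.Agent.DualCore.GorensteinInvertible

set_option autoImplicit false
set_option linter.style.haveILetI false
universe u
open CategoryTheory
attribute [local instance] HasDerivedCategory.standard
open scoped TensorProduct
open Dual2

namespace Groth.Agent.S1786

/-- Let R → A be a ring map between Noetherian rings which is flat and of finite type, presented as a
surjection ψ : P = R[x_1, …, x_n] → A. For K in D(R) form φ^!(K) = RHom_P(A, K ⊗^L_R P)[n], where
the derived base change D(R) → D(P) is assumed to exist and RHom_P(A, −) : D(P) → D(A) is taken to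
be a right adjoint of restriction of scalars along ψ, and put ω_{A/R} = φ^!(R); assume also that the
derived base change functors D(A) → D(A_f) exist for all f ∈ A. Then all fibre rings A ⊗_R κ(p), for
p a prime of R, are Gorenstein if and only if ω_{A/R} is invertible in the following sense: for
every prime q of A there are f ∈ A with f ∉ q and an integer m such that ω_{A/R} ⊗^L_A A_f ≅ A_f[m]
in D(A_f). -/
theorem result (R A : Type u) [CommRing R] [CommRing A] [IsNoetherianRing R] [IsNoetherianRing A] [Algebra R A] (n : ℕ) (ψ : MvPolynomial (Fin n) R →ₐ[R] A) (hψ : Function.Surjective ψ) [DRing.HasLBaseChange (algebraMap R (MvPolynomial (Fin n) R))] (Rψ : Dual.D (MvPolynomial (Fin n) R) ⥤ Dual.D A) (adj : DRing.restrictD ψ.toRingHom ⊣ Rψ) [Module.Flat R A] [hL : ∀ f : A, DRing.HasLBaseChange (algebraMap A (Localization.Away f))] : (∀ p : PrimeSpectrum R, LocCoh.IsGorensteinRing (A ⊗[R] p.asIdeal.ResidueField)) ↔ (∀ q : PrimeSpectrum A, ∃ (f : A) (_ : f ∉ q.asIdeal) (m : ℤ), Nonempty ((DRing.LBaseChange (algebraMap A (Localization.Away f))).obj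 (Dual2.shriekVia n Rψ (Dual.inD R R)) ≅ (Dual.inD (Localization.Away f) (Localization.Away f))⟦m⟧)) := by
  constructor
  · intro hG q
    obtain ⟨f, hf, m, ⟨e⟩⟩ := Groth.DualCore.exists_away_iso_shriek_self ψ hψ Rψ adj (fun p _ => by
      haveI := hG ⟨p, inferInstance⟩
      exact GrothGoren.isGorensteinRing_of_ringEquiv (Algebra.TensorProduct.comm R A p.ResidueField).toRingEquiv)
      q.asIdeal
    exact ⟨f, hf, m, ⟨(Groth.DualCore.LBaseChangeIso A (Localization.Away f)).app _ ≪≫ e⟩⟩
  · intro h p
    haveI := Groth.DualCore.isGorensteinRing_fibre_of_invertible ψ hψ Rψ adj (fun q hq => by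
      obtain ⟨f, hf, m, ⟨e⟩⟩ := h ⟨q, hq⟩
      exact ⟨f, hf, m, ⟨((Groth.DualCore.LBaseChangeIso A (Localization.Away f)).app _).symm ≪≫ e⟩⟩) p.asIdeal
    exact GrothGoren.isGorensteinRing_of_ringEquiv
      (Algebra.TensorProduct.comm R p.asIdeal.ResidueField A).toRingEquiv

end Groth.Agent.S1786
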