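import Groth.Statements.S17860
import Mathlib
import Groth.Agent.CohTwo.FiniteSum
import Groth.Agent.QCohMod.FTCriterion
-- import your own Groth.Agent.* helpers here

set_option autoImplicit false
open CategoryTheory AlgebraicGeometry
universe u
open Algz

namespace Groth.Agent.S17860

/-- Let `R` be a commutative ring and `M` a finite `R`-module. Suppose `Spec R` is covered by opens `U
0, …, U (m-1)` (not necessarily affine) such that over each `U i` the restriction of the associated
sheaf of modules `M~` is a quotient of the free module of rank `n` (it is generated by `n` sections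
over `U i`). Then `M` is generated by `n * m` elements. -/
theorem result (R : CommRingCat.{u}) (M : ModuleCat.{u} R)
    [Module.Finite R M] (n m : ℕ) (U : Fin m → (Spec R).Opens) (hU : ⨆ i, U i = ⊤)
    (hgen : ∀ i, ∃ φ : FlatMod.freeMod (↑(U i)) n ⟶ (AlgebraicGeometry.tilde M).restrict (U i).ι, Epi φ) :
    ∃ s : Fin (n * m) → M, Submodule.span R (Set.range s) = ⊤ := by
  classical
  -- one function per member of the cover
  let Cl : Fin m → Set (PrimeSpectrum R) := fun i => {p | (show ↥(Spec R) from p) ∉ U i}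
  have hCl : ∀ i, IsClosed (Cl i) := fun i => (U i).2.isClosed_compl
  let J : Fin m → Ideal R := fun i => PrimeSpectrum.vanishingIdeal (Cl i)
  have hJ : ∀ i, ∀ f ∈ J i, (PrimeSpectrum.basicOpen f : (Spec R).Opens) ≤ U i := fun i f hf p hp => by
    by_contra h
    exact hp ((PrimeSpectrum.mem_vanishingIdeal _ f).1 hf p h)
  have htop : ⨆ i, J i = ⊤ := by
    by_contra h
    obtain ⟨𝔪, h𝔪, hle⟩ := Ideal.exists_le_maximal _ h
    have hp : (⟨𝔪, h𝔪.isPrime⟩ : PrimeSpectrum R) ∈ (⨆ i, U i : (Spec R).Opens) := by rw [hU]; trivial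
    obtain ⟨i, hi⟩ := TopologicalSpace.Opens.mem_iSup.1 hp
    have hsub : (⟨𝔪, h𝔪.isPrime⟩ : PrimeSpectrum R) ∈ PrimeSpectrum.zeroLocus (J i) :=
      fun x hx => hle ((le_iSup J i) hx)
    rw [PrimeSpectrum.zeroLocus_vanishingIdeal_eq_closure, (hCl i).closure_eq] at hsub
    exact hsub hi
  obtain ⟨μ, hμ⟩ := (Submodule.mem_iSup_iff_exists_finsupp J (1 : R)).1 (htop ▸ Submodule.mem_top)
  let f : Fin m → R := fun i => μ i
  have hf : ∀ i, (PrimeSpectrum.basicOpen (f i) : (Spec R).Opens) ≤ U i := fun i => hJ i _ (hμ.1 i)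
  have hspan : Ideal.span (Set.range f) = ⊤ := by
    rw [Ideal.eq_top_iff_one, ← hμ.2, Finsupp.sum]
    exact Ideal.sum_mem _ fun i _ => Ideal.subset_span ⟨i, rfl⟩
  -- generators after inverting one function
  have hloc : ∀ i, ∃ g : Fin n → M, ∀ x : M, ∃ N : ℕ, f i ^ N • x ∈ Submodule.span R (Set.range g) := by
    intro i
    obtain ⟨φ, hφ⟩ := hgen i
    haveI := hφ
    let D : (Spec R).Opens := PrimeSpectrum.basicOpen (f i)
    let W₀ := (U i).ι ⁻¹ᵁ D
    have hDaff : IsAffineOpen D := IsAffineOpen.Spec_basicOpen _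
    have hW₀ : IsAffineOpen W₀ := hDaff.preimage_of_isOpenImmersion (U i).ι (by rw [Scheme.Opens.opensRange_ι]; exact hf i)
    have hWD : (U i).ι ''ᵁ W₀ = D := by
      simp only [W₀, Scheme.Hom.image_preimage_eq_opensRange_inf, Scheme.Opens.opensRange_ι]
      exact inf_eq_right.2 (hf i)
    haveI : (FlatMod.freeMod (↑(U i)) n).IsQuasicoherent :=
      (Groth.CohTwo.isQCoh_powMod (Coh.structureModule (↑(U i) : Scheme.{u})) n : _)
    haveI : ((tilde M).restrict (U i).ι).IsQuasicoherent :=
      Scheme.Modules.isQuasicoherent_restrictFunctor _ _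
    let L := (tilde.toOpen M D).hom
    haveI : IsLocalizedModule (.powers (f i)) L :=
      inferInstanceAs (IsLocalizedModule.Away (f i) (tilde.toOpen M (PrimeSpectrum.basicOpen (f i))).hom)
    -- the images of the basis
    let g' : Fin n → Γ(tilde M, D) := fun k =>
      Groth.QCohMod.res (tilde M) hWD.ge (φ.app W₀
        ((Limits.Sigma.ι (fun _ : Fin n => Coh.structureModule (↑(U i) : Scheme.{u})) k).app W₀
          (Groth.QCohMod.oneSec W₀)))
    have hg : ∀ k, ∃ (mk : M) (a : ℕ), (f i) ^ a • (show (modulesSpecToSheaf.obj (tilde M)).presheaf.obj (.op D) from g' k) = L mk := by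
      intro k
      obtain ⟨⟨mk, ⟨_, a, rfl⟩⟩, h⟩ := IsLocalizedModule.surj (.powers (f i)) L
        (show (modulesSpecToSheaf.obj (tilde M)).presheaf.obj (.op D) from g' k)
      exact ⟨mk, a, h⟩
    choose mk a hmk using hg
    refine ⟨mk, fun x => ?_⟩
    -- the section of x comes from the free module
    have hspanD : ∀ y : Γ(tilde M, D), ∃ c : Fin n → Γ(Spec R, D), y = ∑ k, c k • g' k := by
      intro y
      obtain ⟨z, hz⟩ := Groth.QCohMod.app_surjective_of_epi φ hW₀ (Groth.QCohMod.res (tilde M) hWD.le y)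
      let π := fun k => Groth.CohTwo.powProj (Coh.structureModule (↑(U i) : Scheme.{u})) (r := n) k
      have hz' : z = ∑ k, (show Γ((↑(U i) : Scheme.{u}), W₀) from (π k).app W₀ z) •
          (Limits.Sigma.ι (fun _ : Fin n => Coh.structureModule (↑(U i) : Scheme.{u})) k).app W₀
            (Groth.QCohMod.oneSec W₀) := by
        conv_lhs => rw [show z = (𝟙 (FlatMod.freeMod (↑(U i)) n) : _ ⟶ _).app W₀ z from rfl,
          ← Groth.CohTwo.powProj_total, Groth.QCohMod.app_sum]
        refine Finset.sum_congr rfl fun k _ => ?_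
        rw [← Scheme.Modules.Hom.app_smul, Groth.QCohMod.structureModule_eq_smul_one]
        rfl
      refine ⟨fun k => Groth.QCohMod.resFun (Spec R) hWD.ge
        (((U i).ι.appIso W₀).inv (show Γ((↑(U i) : Scheme.{u}), W₀) from (π k).app W₀ z)), ?_⟩
      have hy : y = Groth.QCohMod.res (tilde M) hWD.ge (Groth.QCohMod.res (tilde M) hWD.le y) := by
        rw [Groth.QCohMod.res_res, Groth.QCohMod.res_self]
      refine hy.trans ?_
      rw [← hz]
      refine ((congrArg (fun v => Groth.QCohMod.res (tilde M) hWD.ge (φ.app W₀ v)) hz').trans ?_)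
      refine ((congrArg (Groth.QCohMod.res (tilde M) hWD.ge) (map_sum (φ.app W₀).hom _ _)).trans ((map_sum (Groth.QCohMod.res (tilde M) hWD.ge) _ _).trans ?_))
      refine Finset.sum_congr rfl fun k _ => ?_
      rw [Scheme.Modules.Hom.app_smul]
      exact Groth.QCohMod.res_smul (tilde M) hWD.ge
        (((U i).ι.appIso W₀).inv (show Γ((↑(U i) : Scheme.{u}), W₀) from (π k).app W₀ z))
        (φ.app W₀ _)
    obtain ⟨c, hc⟩ := hspanD (show Γ(tilde M, D) from L x)
    -- clear denominators in the functions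
    let F : Γ(Spec R, ⊤) := (Scheme.ΓSpecIso R).inv (f i)
    have hDF : D = (Spec R).basicOpen F := (basicOpen_eq_of_affine (f i)).symm
    letI : Algebra Γ(Spec R, ⊤) Γ(Spec R, D) :=
      ((Spec R).presheaf.map (homOfLE (le_top : D ≤ ⊤)).op).hom.toAlgebra
    haveI : IsLocalization.Away F Γ(Spec R, D) :=
      (isAffineOpen_top (Spec R)).isLocalization_of_eq_basicOpen F (homOfLE le_top) hDF
    obtain ⟨⟨_, N, rfl⟩, hN⟩ := IsLocalization.exist_integer_multiples_of_finite (Submonoid.powers F) c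
    choose r hr using fun k => hN k
    have hr' : ∀ k, ∃ r₀ : R, (f i) ^ N • (show (modulesSpecToSheaf.obj (tilde M)).presheaf.obj (.op D) from (c k • g' k)) =
        r₀ • (show (modulesSpecToSheaf.obj (tilde M)).presheaf.obj (.op D) from g' k) := by
      intro k
      obtain ⟨r₀, hr₀⟩ := (ConcreteCategory.bijective_of_isIso (Scheme.ΓSpecIso R).inv).2 (r k)
      refine ⟨r₀, ?_⟩
      show algebraMap Γ(Spec R, ⊤) Γ(Spec R, D) ((Scheme.ΓSpecIso R).inv (f i ^ N)) • (c k • g' k) =
        algebraMap Γ(Spec R, ⊤) Γ(Spec R, D) ((Scheme.ΓSpecIso R).inv r₀) • g' k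
      rw [hr₀, hr k, smul_smul, map_pow, Algebra.smul_def]
    choose r₀ hr₀ using hr'
    let A := ∑ k, a k
    have hL : L ((f i) ^ (A + N) • x) = L (∑ k, (r₀ k * f i ^ (A - a k)) • mk k) := by
      rw [map_smul, map_sum]
      simp only [map_smul]
      rw [show L x = (show (modulesSpecToSheaf.obj (tilde M)).presheaf.obj (.op D) from ∑ k, c k • g' k) from hc]
      show (f i ^ (A + N)) • (∑ k, (show (modulesSpecToSheaf.obj (tilde M)).presheaf.obj (.op D) from c k • g' k)) = _
      rw [Finset.smul_sum]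
      refine Finset.sum_congr rfl fun k _ => ?_
      rw [pow_add, mul_smul, hr₀ k, ← hmk k, smul_smul, smul_smul, mul_assoc, ← pow_add,
        Nat.sub_add_cancel (Finset.single_le_sum (fun j _ => Nat.zero_le (a j)) (Finset.mem_univ k)), mul_comm]
    obtain ⟨⟨_, b, rfl⟩, hb⟩ := (IsLocalizedModule.eq_iff_exists (.powers (f i)) L).1 hL
    refine ⟨b + (A + N), ?_⟩
    rw [pow_add, mul_smul]
    change f i ^ b • _ ∈ _
    rw [show (f i ^ b) • ((f i ^ (A + N)) • x) = f i ^ b • ∑ k, (r₀ k * f i ^ (A - a k)) • mk k from hb]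
    exact Submodule.smul_mem _ _ (Submodule.sum_mem _ fun k _ =>
      Submodule.smul_mem _ _ (Submodule.subset_span ⟨k, rfl⟩))
  choose g hg using hloc
  let e : Fin (n * m) ≃ Fin n × Fin m := finProdFinEquiv.symm
  refine ⟨fun j => g (e j).2 (e j).1, eq_top_iff.2 fun x _ => ?_⟩
  choose N hN using fun i => hg i x
  refine Submodule.mem_of_span_top_of_smul_mem _
    (Set.range fun y : Set.range f => y.1 ^ N y.2.choose)
    (Ideal.span_range_pow_eq_top _ hspan fun y => N y.2.choose) x ?_
  rintro ⟨_, y, rfl⟩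
  have h := hN y.2.choose
  rw [y.2.choose_spec] at h
  show (y.1 ^ N y.2.choose) • x ∈ Submodule.span R _
  refine Submodule.span_mono ?_ h
  rintro _ ⟨k, rfl⟩
  exact ⟨e.symm (k, y.2.choose), by simp⟩


end Groth.Agent.S17860
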