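import Groth.Statements.S17862
import Groth.Agent.S17856
-- import your own Groth.Agent.* helpers here

set_option autoImplicit false
open CategoryTheory AlgebraicGeometry
universe u
open Algz

namespace Groth.Agent.S17862

/-- Let `S` be an affine scheme, `X` a quasi-compact and quasi-separated algebraic space over `S`, and
`A i` a family of commutative rings indexed by an arbitrary type, with a morphism `h` from the
spectrum of the product ring to `S`. Two `S`-morphisms `Spec (Π i, A i) ⟶ X` that agree after
composition with every `Spec (A i) ⟶ Spec (Π i, A i)` are equal. (For schemes this is the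
injectivity half of the corresponding bijection; the algebraic-space case is the one stated here.
Over an affine base, relative and absolute quasi-separatedness agree.) -/
theorem result (S : Scheme.{u}) [IsAffine S]
    (X : AlgSp.Space S) (hqc : AlgSp.IsQuasiCompactSp X.obj) (hqs : AlgSp.IsQuasiSeparatedSp X.obj)
    {ι : Type u} (A : ι → CommRingCat.{u}) (h : Spec (CommRingCat.of (∀ i, A i)) ⟶ S) :
    Function.Injective (fun g : (AlgSp.ofScheme S).obj (Over.mk h) ⟶ X => fun i : ι =>
      (AlgSp.ofScheme S).map (Over.homMk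
        (Spec.map (CommRingCat.ofHom (Pi.evalRingHom (fun j => (A j : Type u)) i)))
        rfl : Over.mk (Spec.map (CommRingCat.ofHom (Pi.evalRingHom (fun j => (A j : Type u)) i)) ≫ h) ⟶
          Over.mk h) ≫ g) := by
  intro g₁ g₂ he
  let p : ∀ i : ι, Spec (A i) ⟶ Spec (CommRingCat.of (∀ i, A i)) := fun i =>
    Spec.map (CommRingCat.ofHom (Pi.evalRingHom (fun j => (A j : Type u)) i))
  let π : ∀ i : ι, Over.mk (p i ≫ h) ⟶ Over.mk h := fun i => Over.homMk (p i) rfl
  let a : (AlgSp.yon S).obj (Over.mk h) ⟶ X.obj := g₁.hom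
  let b : (AlgSp.yon S).obj (Over.mk h) ⟶ X.obj := g₂.hom
  have hab : ∀ i, (AlgSp.yon S).map (π i) ≫ a = (AlgSp.yon S).map (π i) ≫ b := fun i =>
    congrArg (fun t => t.hom) (congrFun he i)
  have hr := X.property.diag
  let l : (AlgSp.yon S).obj (Over.mk h) ⟶ X.obj ⨯ X.obj := Limits.prod.lift a b
  let v : hr.pullback l ⟶ Over.mk h := hr.snd l
  have hmono : Mono ((AlgSp.yon S).map v) := by
    haveI : Mono (Limits.diag X.obj) := inferInstance
    exact MorphismProperty.of_isPullback (P := MorphismProperty.monomorphisms _) (hr.isPullback l)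
      (MorphismProperty.monomorphisms.infer_property (Limits.diag X.obj))
  haveI : Mono v := (AlgSp.yon S).mono_of_mono_map hmono
  haveI : Mono v.left := (Over.forget S).map_mono v
  haveI hvqc : QuasiCompact v.left := hqs.property_snd l
  haveI hsep : IsSeparated v.left := inferInstance
  haveI : CompactSpace ↥(Over.mk h).left := inferInstanceAs (CompactSpace ↥(Spec (CommRingCat.of (∀ i, A i))))
  haveI : QuasiSeparatedSpace ↥(Over.mk h).left := inferInstanceAs (QuasiSeparatedSpace ↥(Spec (CommRingCat.of (∀ i, A i))))
  haveI : CompactSpace ↥(hr.pullback l).left := QuasiCompact.compactSpace_of_compactSpace v.left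
  haveI : QuasiSeparatedSpace ↥(hr.pullback l).left := quasiSeparatedSpace_of_quasiSeparated v.left
  have hlift : ∀ i, ∃ q : Over.mk (p i ≫ h) ⟶ hr.pullback l, q ≫ v = π i := fun i => by
    have w : ((AlgSp.yon S).map (π i) ≫ a) ≫ Limits.diag X.obj = (AlgSp.yon S).map (π i) ≫ l := by
      refine Limits.prod.hom_ext ?_ ?_
      · rw [Category.assoc, Category.assoc, Limits.prod.lift_fst, Category.comp_id]
        exact (congrArg (_ ≫ ·) (Limits.prod.lift_fst a b)).symm
      · rw [Category.assoc, Category.assoc, Limits.prod.lift_snd, Category.comp_id]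
        exact (hab i).trans (congrArg (_ ≫ ·) (Limits.prod.lift_snd a b)).symm
    exact ⟨hr.lift _ _ w, hr.lift_snd _ _ w⟩
  choose q hq using hlift
  obtain ⟨Q, hQ⟩ := (Groth.Agent.S17856.result (hr.pullback l).left A).2 (fun i => (q i).left)
  have hQv : Q ≫ v.left = 𝟙 _ := by
    refine (Groth.Agent.S17856.result (Spec (CommRingCat.of (∀ i, A i))) A).1 (funext fun i => ?_)
    show p i ≫ Q ≫ v.left = p i ≫ 𝟙 _
    rw [← Category.assoc, show p i ≫ Q = (q i).left from congrFun hQ i, Category.comp_id]
    exact congrArg (fun t => t.left) (hq i)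
  have hw : Q ≫ (hr.pullback l).hom = h := by
    rw [← Over.w v, ← Category.assoc, hQv]
    exact Category.id_comp _
  let Qo : Over.mk h ⟶ hr.pullback l := Over.homMk Q hw
  have hQo : Qo ≫ v = 𝟙 _ := Over.OverMorphism.ext hQv
  have hmain : a = b := by
    have e : ((AlgSp.yon S).map Qo ≫ hr.fst l) ≫ Limits.diag X.obj = l := by
      rw [Category.assoc, hr.w l, ← Category.assoc, ← Functor.map_comp, hQo, CategoryTheory.Functor.map_id,
        Category.id_comp]
    have e1 := congrArg (· ≫ Limits.prod.fst) e
    have e2 := congrArg (· ≫ Limits.prod.snd) e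
    simp only [l, Category.assoc, Limits.prod.lift_fst, Limits.prod.lift_snd, Category.comp_id] at e1 e2
    exact e1.symm.trans e2
  exact ObjectProperty.hom_ext _ hmain

end Groth.Agent.S17862
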