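import Groth.Statements.S17863
import Mathlib.AlgebraicGeometry.QuasiAffine
import Mathlib.RingTheory.AdicCompletion.RingHom

set_option autoImplicit false
open CategoryTheory AlgebraicGeometry
universe u
open Algz

namespace Groth.Agent.S17863

/-- Let `A` be a commutative ring which is `I`-adically complete for an ideal `I` and let `X` be a
quasi-affine scheme. Then the natural map from `X(A)` to compatible systems in the `X(A/I^n)` is
bijective: two morphisms `Spec A ⟶ X` with the same restriction to every `Spec (A/I^n)` are equal,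
and every family of morphisms `Spec (A/I^n) ⟶ X` compatible with the transition maps `Spec (A/I^n) ⟶
Spec (A/I^(n+1))` is the family of restrictions of a morphism `Spec A ⟶ X`. -/
theorem result (A : Type u) [CommRing A] (I : Ideal A) [IsAdicComplete I A]
    (X : Scheme.{u}) [X.IsQuasiAffine] :
    (∀ f g : Spec (CommRingCat.of A) ⟶ X,
      (∀ n : ℕ, Spec.map (CommRingCat.ofHom (Ideal.Quotient.mk (I ^ n))) ≫ f =
        Spec.map (CommRingCat.ofHom (Ideal.Quotient.mk (I ^ n))) ≫ g) → f = g) ∧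
    (∀ e : ∀ n : ℕ, Spec (CommRingCat.of (A ⧸ I ^ n)) ⟶ X,
      (∀ n : ℕ, Spec.map (CommRingCat.ofHom (Ideal.Quotient.factorPowSucc I n)) ≫ e (n + 1) = e n) →
      ∃ f : Spec (CommRingCat.of A) ⟶ X,
        ∀ n : ℕ, Spec.map (CommRingCat.ofHom (Ideal.Quotient.mk (I ^ n))) ≫ f = e n) := by
  have hcomp : ∀ (n : ℕ) (φ : Γ(X, ⊤) ⟶ CommRingCat.of A),
      Spec.map (CommRingCat.ofHom (Ideal.Quotient.mk (I ^ n))) ≫ Spec.map φ =
        Spec.map (φ ≫ CommRingCat.ofHom (Ideal.Quotient.mk (I ^ n))) := fun n φ => (Spec.map_comp _ _).symm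
  refine ⟨fun f g h => ?_, fun e he => ?_⟩
  · rw [← cancel_mono X.toSpecΓ, ← Spec.map_preimage (f ≫ X.toSpecΓ), ← Spec.map_preimage (g ≫ X.toSpecΓ)]
    congr 1
    refine CommRingCat.hom_ext (DFunLike.coe_injective (IsHausdorff.funext' I fun {n} r => ?_))
    have h2 := congrArg (fun z => z ≫ X.toSpecΓ) (h n)
    simp only [Category.assoc] at h2
    rw [← Spec.map_preimage (f ≫ X.toSpecΓ), ← Spec.map_preimage (g ≫ X.toSpecΓ), hcomp, hcomp, Spec.map_inj] at h2
    exact congr($(h2).hom r)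
  · let φ : ∀ n, Γ(X, ⊤) →+* A ⧸ I ^ n := fun n => (Spec.preimage (e n ≫ X.toSpecΓ)).hom
    have hφs : ∀ n, (Ideal.Quotient.factorPowSucc I n).comp (φ (n + 1)) = φ n := fun n => by
      have h2 : Spec.map (Spec.preimage (e (n + 1) ≫ X.toSpecΓ) ≫ CommRingCat.ofHom (Ideal.Quotient.factorPowSucc I n)) =
          Spec.map (Spec.preimage (e n ≫ X.toSpecΓ)) := by
        rw [Spec.map_comp, Spec.map_preimage, Spec.map_preimage, ← Category.assoc, he]
      exact congr($(Spec.map_injective h2).hom)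
    have hφ : ∀ {m n : ℕ} (hle : m ≤ n), (Ideal.Quotient.factorPow I hle).comp (φ n) = φ m := by
      intro m n hle
      induction hle with
      | refl => exact RingHom.ext fun r => by simp [Ideal.Quotient.factorPow]
      | @step k hk ih =>
        rw [← ih, ← hφs k, ← RingHom.comp_assoc]
        congr 1
        exact Ideal.Quotient.ringHom_ext (RingHom.ext fun r => rfl)
    let Φ : Γ(X, ⊤) ⟶ CommRingCat.of A := CommRingCat.ofHom (IsAdicComplete.liftRingHom I φ hφ)
    have hΦ : ∀ n, Spec.map (CommRingCat.ofHom (Ideal.Quotient.mk (I ^ n))) ≫ Spec.map Φ = e n ≫ X.toSpecΓ := fun n => by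
      rw [hcomp, ← Spec.map_preimage (e n ≫ X.toSpecΓ)]
      congr 1
      exact CommRingCat.hom_ext (IsAdicComplete.mk_comp_liftRingHom I φ hφ n)
    have hrange : Set.range (Spec.map Φ) ⊆ Set.range X.toSpecΓ := by
      rintro _ ⟨p, rfl⟩
      obtain ⟨m, hm, hpm⟩ := Ideal.exists_le_maximal p.asIdeal p.isPrime.ne_top
      have hIm : I ≤ m := (IsAdicComplete.le_jacobson_bot I).trans (sInf_le ⟨bot_le, hm⟩)
      let q : Spec (CommRingCat.of A) := ⟨m, hm.isPrime⟩
      have hq : q ∈ Set.range (Spec.map (CommRingCat.ofHom (Ideal.Quotient.mk (I ^ 1)))) := by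
        show q ∈ Set.range (PrimeSpectrum.comap (Ideal.Quotient.mk (I ^ 1)))
        rw [range_comap_of_surjective _ _ Ideal.Quotient.mk_surjective]
        refine (PrimeSpectrum.mem_zeroLocus _ _).2 ?_
        rw [Ideal.mk_ker, pow_one]
        exact hIm
      obtain ⟨y, hy⟩ := hq
      have hmem : Spec.map Φ q ∈ Set.range X.toSpecΓ := by
        refine ⟨e 1 y, ?_⟩
        rw [← hy, ← Scheme.Hom.comp_apply, ← Scheme.Hom.comp_apply, hΦ]
      have hspec : p ⤳ q := (PrimeSpectrum.le_iff_specializes p q).1 hpm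
      exact (hspec.map (Spec.map Φ).continuous).mem_open X.toSpecΓ.isOpenEmbedding.isOpen_range hmem
    refine ⟨IsOpenImmersion.lift X.toSpecΓ (Spec.map Φ) hrange, fun n => ?_⟩
    rw [← cancel_mono X.toSpecΓ, Category.assoc, IsOpenImmersion.lift_fac, hΦ]

end Groth.Agent.S17863
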