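import Groth.Statements.S17864
import Mathlib.RingTheory.AdicCompletion.Basic
import Mathlib.RingTheory.Finiteness.Projective

set_option autoImplicit false
universe u
open Algz

namespace Groth.Agent.S17864

/-- The full-faithfulness assertion. Let `A` be a commutative ring which is `I`-adically complete for an
ideal `I`, and `P`, `Q` finitely generated projective `A`-modules. An `A`-linear map `P → Q` is
determined by its reductions modulo the powers `I^n`, and every family of `A`-linear maps `P/I^n P →
Q/I^n Q` compatible with the transition maps is the family of reductions of an `A`-linear map `P →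
Q`. (The companion assertion, that compatible systems of finite projective modules over the rings
`A/I^n` lift to `A`, is not restated here.) -/
theorem result (A : Type u) [CommRing A] (I : Ideal A)
    [IsAdicComplete I A] (P Q : Type u) [AddCommGroup P] [Module A P] [Module.Finite A P]
    [Module.Projective A P] [AddCommGroup Q] [Module A Q] [Module.Finite A Q] [Module.Projective A Q] :
    (∀ f f' : P →ₗ[A] Q, (∀ n : ℕ, f.reduceModIdeal (I ^ n) = f'.reduceModIdeal (I ^ n)) → f = f') ∧
    (∀ g : ∀ n : ℕ, P ⧸ (I ^ n • ⊤ : Submodule A P) →ₗ[A] Q ⧸ (I ^ n • ⊤ : Submodule A Q),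
      (∀ n : ℕ, AdicCompletion.transitionMap I Q (Nat.le_succ n) ∘ₗ g (n + 1) =
        g n ∘ₗ AdicCompletion.transitionMap I P (Nat.le_succ n)) →
      ∃ f : P →ₗ[A] Q, ∀ n : ℕ, f.reduceModIdeal (I ^ n) = g n) := by
  classical
  obtain ⟨n, pr, sec, -, -, hps⟩ := Module.Finite.exists_comp_eq_id_of_projective A Q
  have hsec : ∀ (k : ℕ) (x : Q), x ∈ (I ^ k • ⊤ : Submodule A Q) → ∀ i, sec x i ∈ I ^ k := fun k x hx i => by
    have h := Submodule.mem_map_of_mem (f := LinearMap.proj i ∘ₗ sec) hx
    rw [Submodule.map_smul''] at h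
    exact Submodule.smul_le.2 (fun r hr y _ => Ideal.mul_mem_right y _ hr) h
  have hmem : ∀ (k : ℕ) (v : Fin n → A), (∀ i, v i ∈ I ^ k) → pr v ∈ (I ^ k • ⊤ : Submodule A Q) := fun k v hv => by
    rw [pi_eq_sum_univ' v, map_sum]
    exact Submodule.sum_mem _ fun i _ => by rw [map_smul]; exact Submodule.smul_mem_smul (hv i) trivial
  haveI : IsHausdorff I Q := ⟨fun x hx => by
    have h0 : sec x = 0 := funext fun i => IsHausdorff.haus (I := I) (M := A) inferInstance (sec x i) fun k => by
      rw [SModEq.zero, smul_eq_mul, Ideal.mul_top]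
      exact hsec k x (SModEq.zero.1 (hx k)) i
    rw [← LinearMap.id_apply (R := A) x, ← hps, LinearMap.comp_apply, h0, map_zero]⟩
  haveI : IsPrecomplete I Q := ⟨fun q hq => by
    have hc : ∀ i, ∃ L, ∀ k, sec (q k) i ≡ L [SMOD (I ^ k • ⊤ : Submodule A A)] := fun i =>
      IsPrecomplete.prec (I := I) (M := A) inferInstance fun {a b} hab => by
        rw [SModEq.sub_mem, smul_eq_mul, Ideal.mul_top, ← Pi.sub_apply, ← map_sub]
        exact hsec a _ (SModEq.sub_mem.1 (hq hab)) i
    choose L hL using hc
    refine ⟨pr L, fun k => SModEq.sub_mem.2 ?_⟩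
    have e : q k - pr L = pr (sec (q k) - L) := by
      rw [map_sub, ← LinearMap.comp_apply, hps, LinearMap.id_apply]
    rw [e]
    refine hmem k _ fun i => ?_
    have := SModEq.sub_mem.1 (hL i k)
    rwa [smul_eq_mul, Ideal.mul_top] at this⟩
  haveI : IsAdicComplete I Q := ⟨⟩
  refine ⟨fun f f' h => LinearMap.ext fun x => ?_, fun g hg => ?_⟩
  · refine sub_eq_zero.1 (IsHausdorff.haus (I := I) inferInstance _ fun k => SModEq.zero.2 ?_)
    exact (Submodule.Quotient.eq _).1 (LinearMap.congr_fun (h k) (Submodule.Quotient.mk x))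
  · let G : ∀ k, P →ₗ[A] Q ⧸ (I ^ k • ⊤ : Submodule A Q) := fun k => g k ∘ₗ Submodule.mkQ _
    have hG : ∀ {k}, Submodule.factorPow I Q (StrictMono.monotone strictMono_id k.le_succ) ∘ₗ G (k + 1) = G k := by
      intro k
      refine LinearMap.ext fun x => ?_
      exact LinearMap.congr_fun (hg k) (Submodule.Quotient.mk x)
    refine ⟨IsAdicComplete.StrictMono.lift I strictMono_id G hG, fun k => LinearMap.ext fun y => ?_⟩
    obtain ⟨x, rfl⟩ := Submodule.Quotient.mk_surjective _ y
    exact IsAdicComplete.StrictMono.mk_lift I strictMono_id G hG (n := k) x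

end Groth.Agent.S17864
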