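import Groth.Statements.S17865
-- import your own Groth.Agent.* helpers here

set_option autoImplicit false
open CategoryTheory AlgebraicGeometry
universe u
open Algz

namespace Groth.Agent.S17865

open Limits Topology

/-- In the case of schemes. Let `f : U ⟶ Y` be a Nisnevich cover of length at most `m` of quasi-compact
quasi-separated schemes (an etale morphism together with a chain of `m` closed constructible subsets
`∅ = Z_0 ⊆ ⋯ ⊆ Z_m = Y` such that `f` has a section over each `Z_(k+1) ∖ Z_k`), and `g : Y' ⟶ Y` a
morphism from a quasi-compact quasi-separated scheme. Then the base change `U ×_Y Y' ⟶ Y'` is a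
Nisnevich cover of length at most `m`. (The original form is for quasi-compact quasi-separated
algebraic spaces; stated here for schemes.) -/
theorem result {U Y Y' : Scheme.{u}} (f : U ⟶ Y) (g : Y' ⟶ Y)
    [CompactSpace U] [QuasiSeparatedSpace U] [CompactSpace Y] [QuasiSeparatedSpace Y]
    [CompactSpace Y'] [QuasiSeparatedSpace Y'] (m : ℕ)
    (hf : W4c5algebraiztannaka.IsNisCoverLen f m) :
    W4c5algebraiztannaka.IsNisCoverLen (Limits.pullback.snd f g) m := by
  obtain ⟨het, Z, h0, hm, hmono, hcl, hs⟩ := hf
  have := het
  refine ⟨inferInstance, fun k => g ⁻¹' Z k, by simp [h0], by simp [hm],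
    fun a b hab => Set.preimage_mono (hmono hab), fun k => ⟨(hcl k).1.preimage g.continuous,
      (hcl k).2.preimage g.continuous fun s hso hs => ?_⟩, fun k => ?_⟩
  · have : QuasiCompact g := inferInstance
    exact fun V hV hVo => QuasiSeparatedSpace.inter_isCompact _ _ (hso.preimage g.continuous)
      (QuasiCompact.isCompact_preimage _ hso hs.isCompact) hVo hV
  · obtain ⟨T, t, σ, ht, hr, hσ⟩ := hs k
    refine ⟨pullback t g, pullback.snd t g,
      pullback.lift (pullback.fst t g ≫ σ) (pullback.snd t g) (by
        rw [Category.assoc, hσ, pullback.condition]), inferInstance, ?_, pullback.lift_snd _ _ _⟩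
    rw [← Set.preimage_sdiff, ← hr]
    exact (Scheme.Pullback.range_snd t g)

end Groth.Agent.S17865
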