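import Groth.Statements.S17866
import Mathlib

set_option autoImplicit false
open CategoryTheory AlgebraicGeometry
universe u
open Algz

namespace Groth.Agent.S17866

open Topology Limits

theorem isCompact_of_isConstructible {Y : Scheme.{u}} [CompactSpace Y] [QuasiSeparatedSpace Y]
    {s : Set Y} (hs : IsConstructible s) : IsCompact s := by
  have : Nonempty Y.affineOpens := ⟨⟨⊥, isAffineOpen_bot Y⟩⟩
  refine IsConstructible.induction_of_isTopologicalBasis (fun i : Y.affineOpens => (i.1 : Set Y))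
    ?_ (fun i => i.2.isCompact) (fun i t ht => ?_) (fun _ _ _ _ h h' => h.union h') s hs
  · convert Y.isBasis_affineOpens using 1
    simp [Set.image, Set.range, Scheme.affineOpens, TopologicalSpace.Opens.IsBasis]
  · exact i.2.isCompact.diff (isOpen_biUnion fun j _ => j.1.2)

/-- Chains of closed constructible subsets with sections over the strata. -/
def Reach {X Y : Scheme.{u}} (f : X ⟶ Y) (N : ℕ) (A : Set Y) : Prop :=
  ∃ Z : Fin (N + 1) → Set Y, Z 0 = ∅ ∧ Z (Fin.last N) = A ∧ Monotone Z ∧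
    (∀ k, IsClosed (Z k) ∧ IsConstructible (Z k)) ∧
    ∀ k : Fin N, W4c5algebraiztannaka.HasSectOver f (Z k.succ \ Z k.castSucc)

theorem Reach.step {X Y : Scheme.{u}} {f : X ⟶ Y} {N : ℕ} {A B : Set Y} (h : Reach f N A) (hAB : A ⊆ B)
    (hcl : IsClosed B) (hco : IsConstructible B) (hs : W4c5algebraiztannaka.HasSectOver f (B \ A)) :
    Reach f (N + 1) B := by
  obtain ⟨Z, h0, hl, hm, hc, hsec⟩ := h
  refine ⟨Fin.snoc Z B, ?_, by simp, ?_, ?_, ?_⟩
  · rw [show (0 : Fin (N + 2)) = (0 : Fin (N + 1)).castSucc from rfl, Fin.snoc_castSucc, h0]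
  · refine Fin.monotone_iff_le_succ.2 fun i => ?_
    induction i using Fin.lastCases with
    | last => simp [hl, hAB]
    | cast i =>
      rw [Fin.snoc_castSucc, ← Fin.castSucc_succ, Fin.snoc_castSucc]
      exact hm (Fin.castSucc_le_succ i)
  · intro k
    induction k using Fin.lastCases with
    | last => simp [hcl, hco]
    | cast k => simpa using hc k
  · intro k
    induction k using Fin.lastCases with
    | last => simpa [hl] using hs
    | cast k =>
      rw [Fin.snoc_castSucc, ← Fin.castSucc_succ, Fin.snoc_castSucc]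
      exact hsec k


/-- In the case of schemes. Let `g₁ : Y₁ ⟶ Y₂` and `g₂ : Y₂ ⟶ Y₃` be Nisnevich covers of quasi-compact
quasi-separated schemes of lengths at most `m₁` and `m₂` respectively. Then `g₁ ≫ g₂` is a Nisnevich
cover of length at most `m₁ * m₂`. (The original form is for quasi-compact quasi-separated algebraic
spaces; stated here for schemes.) -/
theorem result {Y₁ Y₂ Y₃ : Scheme.{u}} (g₁ : Y₁ ⟶ Y₂) (g₂ : Y₂ ⟶ Y₃)
    [CompactSpace Y₁] [QuasiSeparatedSpace Y₁] [CompactSpace Y₂] [QuasiSeparatedSpace Y₂]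
    [CompactSpace Y₃] [QuasiSeparatedSpace Y₃] (m₁ m₂ : ℕ)
    (h₁ : W4c5algebraiztannaka.IsNisCoverLen g₁ m₁) (h₂ : W4c5algebraiztannaka.IsNisCoverLen g₂ m₂) :
    W4c5algebraiztannaka.IsNisCoverLen (g₁ ≫ g₂) (m₁ * m₂) := by
  obtain ⟨he₁, W, hW0, hWl, hWm, hWc, hWs⟩ := h₁
  obtain ⟨he₂, Z, hZ0, hZl, hZm, hZc, hZs⟩ := h₂
  have := he₁
  have := he₂
  suffices H : ∀ k : ℕ, ∀ hk : k ≤ m₂, Reach (g₁ ≫ g₂) (m₁ * k) (Z ⟨k, Nat.lt_succ_of_le hk⟩) by
    obtain ⟨V, h0, hl, hm, hc, hs⟩ := H m₂ le_rfl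
    exact ⟨inferInstance, V, h0, hl.trans hZl, hm, hc, hs⟩
  intro k
  induction k with
  | zero =>
    intro hk
    refine ⟨fun _ => ∅, rfl, hZ0.symm, monotone_const, fun _ => ⟨isClosed_empty, IsConstructible.empty⟩, fun i => i.elim0⟩
  | succ k ih =>
    intro hk
    let κ : Fin m₂ := ⟨k, hk⟩
    obtain ⟨T, g, s, hg, hrange, hfac⟩ := hZs κ
    have hdiff : IsCompact (Z κ.succ \ Z κ.castSucc) := isCompact_of_isConstructible
      ((hZc κ.succ).2.sdiff (hZc κ.castSucc).2)
    have hemb : IsEmbedding g.base := g.isEmbedding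
    have hT : CompactSpace T := ⟨by
      rw [hemb.isInducing.isCompact_iff, Set.image_univ]
      exact hrange.symm ▸ hdiff⟩
    have hqs : QuasiCompact s := quasiCompact_of_compactSpace s
    have hmem : ∀ A : Set T, g.base '' A ⊆ Z κ.succ \ Z κ.castSucc := fun A => by
      rw [← hrange]; exact Set.image_subset_range _ _
    have hclosed : ∀ A : Set T, IsClosed A → IsClosed (Z κ.castSucc ∪ g.base '' A) := by
      intro A hA
      obtain ⟨C, hC, rfl⟩ := hemb.isInducing.isClosed_iff.1 hA
      have : Z κ.castSucc ∪ g.base '' (g.base ⁻¹' C) = Z κ.castSucc ∪ (C ∩ Z κ.succ) := by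
        rw [Set.image_preimage_eq_inter_range]
        erw [hrange]
        ext y; simp; tauto
      rw [this]
      exact (hZc _).1.union (hC.inter (hZc _).1)
    have hle : Z κ.castSucc ⊆ Z κ.succ := hZm (Fin.castSucc_le_succ κ)
    let F : Fin (m₁ + 1) → Set Y₃ := fun j => Z κ.castSucc ∪ g.base '' (s.base ⁻¹' W j)
    have hF : ∀ j, IsClosed (F j) ∧ IsConstructible (F j) := by
      intro j
      have hFcl := hclosed _ ((hWc j).1.preimage s.continuous)
      refine ⟨hFcl, IsConstructible.of_compl (IsCompact.isConstructible ?_ hFcl.isOpen_compl)⟩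
      have e : (F j)ᶜ = (Z κ.succ)ᶜ ∪ g.base '' (s.base ⁻¹' (W j)ᶜ) := by
        ext y
        constructor
        · intro hy
          by_cases hy1 : y ∈ Z κ.succ
          · have : y ∈ Z κ.succ \ Z κ.castSucc := ⟨hy1, fun h => hy (Or.inl h)⟩
            rw [← hrange] at this
            obtain ⟨t, rfl⟩ := this
            exact Or.inr ⟨t, fun h => hy (Or.inr ⟨t, h, rfl⟩), rfl⟩
          · exact Or.inl hy1
        · rintro (hy | ⟨t, ht, rfl⟩) (hy' | ⟨t', ht', he⟩)
          · exact hy (hle hy')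
          · exact hy ((hmem _ ⟨t', ht', he⟩).1)
          · exact (hmem _ ⟨t, ht, rfl⟩).2 hy'
          · exact ht (hemb.injective he ▸ ht')
      rw [e]
      refine (isCompact_of_isConstructible (hZc κ.succ).2.compl).union (IsCompact.image ?_ g.continuous)
      exact s.isCompact_preimage (U := ⟨(W j)ᶜ, (hWc j).1.isOpen_compl⟩)
        (isCompact_of_isConstructible (hWc j).2.compl)
    have hsecF : ∀ j : Fin m₁, W4c5algebraiztannaka.HasSectOver (g₁ ≫ g₂) (F j.succ \ F j.castSucc) := by
      intro j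
      obtain ⟨R, h, r, hh, hrR, hfacR⟩ := hWs j
      refine ⟨pullback s h, pullback.fst s h ≫ g, pullback.snd s h ≫ r, inferInstance, ?_, ?_⟩
      · show Set.range (g.base ∘ (pullback.fst s h).base) = _
        rw [Set.range_comp, Scheme.Pullback.range_fst]
        erw [hrR]
        rw [Set.preimage_sdiff, Set.image_sdiff hemb.injective]
        ext y
        simp only [F, Set.mem_sdiff, Set.mem_union, not_or]
        refine ⟨fun ⟨a, b⟩ => ⟨Or.inr a, (hmem _ a).2, b⟩, ?_⟩
        rintro ⟨a | a, b, c⟩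
        · exact absurd a b
        · exact ⟨a, c⟩
      · rw [Category.assoc, ← Category.assoc r, hfacR, ← hfac, ← pullback.condition_assoc]
    suffices hj : ∀ j : ℕ, ∀ hj : j ≤ m₁, Reach (g₁ ≫ g₂) (m₁ * k + j) (F ⟨j, Nat.lt_succ_of_le hj⟩) by
      have e : F (Fin.last m₁) = Z κ.succ := by
        simp only [F, hWl, Set.preimage_univ, Set.image_univ]
        erw [hrange]
        exact Set.union_sdiff_cancel hle
      have h' := hj m₁ le_rfl
      rw [show (⟨m₁, _⟩ : Fin (m₁ + 1)) = Fin.last m₁ from rfl, e] at h'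
      exact h'
    intro j
    induction j with
    | zero =>
      intro hj
      have e : F ⟨0, Nat.succ_pos _⟩ = Z κ.castSucc := by
        simp only [F]
        erw [hW0]
        simp
      rw [e]
      exact ih (Nat.le_of_succ_le hk)
    | succ j ihj =>
      intro hj
      exact (ihj (Nat.le_of_succ_le hj)).step
        (Set.union_subset_union_right _ (Set.image_mono (Set.preimage_mono (hWm (Fin.le_def.2 (Nat.le_succ j))))))
        (hF _).1 (hF _).2 (hsecF ⟨j, hj⟩)

end Groth.Agent.S17866
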