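import Groth.Statements.S17867
import Groth.Agent.PerfSize.Generation2
import Groth.Agent.PropsBasic2.TildePullback
import Groth.Prelude.Def_FrameBundle

set_option autoImplicit false
open CategoryTheory AlgebraicGeometry
universe u
open Algz

namespace Groth.Agent.S17867

open Limits TensorProduct

theorem exists_span_of_epi {S : CommRingCat.{u}} (M : ModuleCat.{u} S) {N : ℕ}
    (φ : FlatMod.freeMod (Spec S) N ⟶ tilde M) [Epi φ] :
    ∃ w : Fin N → M, Submodule.span S (Set.range w) = ⊤ := by
  let F : Fin N → ModuleCat.{u} S := fun _ => ModuleCat.of S S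
  let eF : (tilde.functor S).obj (∐ F) ≅ FlatMod.freeMod (Spec S) N :=
    have := (tilde.adjunction (R := S)).leftAdjoint_preservesColimits
    PreservesCoproduct.iso (tilde.functor S) F ≪≫ Sigma.mapIso fun _ => tildeSelf
  let g : ∐ F ⟶ M := tilde.fullyFaithfulFunctor.preimage (eF.hom ≫ φ)
  have hg : (tilde.functor S).map g = eF.hom ≫ φ := tilde.fullyFaithfulFunctor.map_preimage _
  have : (tilde.functor S).Faithful := tilde.fullyFaithfulFunctor.faithful
  have : Epi (eF.hom ≫ φ) := epi_comp' inferInstance inferInstance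
  have : Epi ((tilde.functor S).map g) := by rw [hg]; assumption
  have : Epi g := (tilde.functor S).epi_of_epi_map this
  let w : Fin N → M := fun i => (Sigma.ι F i ≫ g).hom 1
  refine ⟨w, ?_⟩
  have hz : g ≫ ModuleCat.ofHom (Submodule.span S (Set.range w)).mkQ = 0 :=
    Sigma.hom_ext _ _ fun i => by
      rw [comp_zero, ← Category.assoc]
      refine ModuleCat.hom_ext (LinearMap.ext_ring ?_)
      exact (Submodule.Quotient.mk_eq_zero _).2 (Submodule.subset_span ⟨i, rfl⟩)
  rw [← comp_zero (X := ∐ F) (f := g), cancel_epi] at hz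
  have := congrArg ModuleCat.Hom.hom hz
  simp only [ModuleCat.hom_ofHom, ModuleCat.hom_zero] at this
  rw [← Submodule.ker_mkQ (Submodule.span S (Set.range w)), this, LinearMap.ker_zero]


/-- In the case of schemes. Let `R` be a commutative ring and `f : U ⟶ Spec R` a Nisnevich cover of
length at most `m`, with `U` a quasi-compact quasi-separated scheme, and let `M` be a finite
`R`-module. If the pullback `f^* M~` of the associated sheaf of modules is a quotient of the free
module of rank `N` on `U` (it is generated by `N` global sections), then `M` is generated by `N * m`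
elements. (Finite generation of `M` follows from the other hypotheses by faithfully flat descent and
is assumed here; the original form is for a Nisnevich cover by a quasi-compact quasi-separated
algebraic space, stated here for a scheme `U`.) -/
theorem result (R : CommRingCat.{u}) (M : ModuleCat.{u} R)
    [Module.Finite R M] {U : Scheme.{u}} [CompactSpace U] [QuasiSeparatedSpace U]
    (f : U ⟶ Spec R) (m N : ℕ) (hf : W4c5algebraiztannaka.IsNisCoverLen f m)
    (hgen : ∃ φ : FlatMod.freeMod U N ⟶ (Scheme.Modules.pullback f).obj (AlgebraicGeometry.tilde M), Epi φ) :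
    ∃ s : Fin (N * m) → M, Submodule.span R (Set.range s) = ⊤ := by
  obtain ⟨Z, h0, hm, -, hcl, hs⟩ := hf.flag
  obtain ⟨φ, hφ⟩ := hgen
  refine Groth.PerfSize.exists_span_flag Z h0 hm (fun k => (hcl k).1) M N fun k I hI hIZ => ?_
  obtain ⟨l, hl⟩ := Groth.PerfSize.exists_lift_quotient f (hs k) I hI hIZ
  let S : CommRingCat.{u} := CommRingCat.of (R ⧸ I)
  let q : R ⟶ S := CommRingCat.ofHom (Ideal.Quotient.mk I)
  let M' : ModuleCat.{u} S := (ModuleCat.extendScalars q.hom).obj M
  let eT : (Scheme.Modules.pullback l).obj ((Scheme.Modules.pullback f).obj (tilde M)) ≅ tilde M' :=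
    (Scheme.Modules.pullbackComp l f).app (tilde M) ≪≫
      (Scheme.Modules.pullbackCongr hl).app (tilde M) ≪≫
        (Groth.PropsBasic2.TildePullback.iso q).app M
  let φ' : FlatMod.freeMod (Spec S) N ⟶ tilde M' :=
    (FrB.pullbackFreeIso l N).inv ≫ (Scheme.Modules.pullback l).map φ ≫ eT.hom
  have : Epi ((Scheme.Modules.pullback l).map φ) := inferInstance
  have hφ' : Epi φ' := inferInstance
  obtain ⟨w, hw⟩ := exists_span_of_epi M' φ'
  -- move the generators to `M / I M`
  let e : ((R ⧸ I) ⊗[R] M) ≃ₗ[R] (M ⧸ (I • ⊤ : Submodule R M)) := quotTensorEquivQuotSMul M I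
  let w' : Fin N → (R ⧸ I) ⊗[R] M := w
  choose v hv using fun i => Submodule.mkQ_surjective (I • ⊤ : Submodule R M) (e (w' i))
  refine ⟨v, ?_⟩
  have h1 : Submodule.span R (Set.range w') = ⊤ := by
    have h2 : Submodule.span S (Set.range w') = ⊤ := hw
    rw [← Submodule.restrictScalars_span R (R ⧸ I) Ideal.Quotient.mk_surjective,
      show Submodule.span (R ⧸ I) (Set.range w') = ⊤ from h2, Submodule.restrictScalars_top]
  have h3 : Submodule.map (I • ⊤ : Submodule R M).mkQ (Submodule.span R (Set.range v)) = ⊤ := by
    rw [Submodule.map_span, ← Set.range_comp,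
      show (I • ⊤ : Submodule R M).mkQ ∘ v = e ∘ w' from funext hv, Set.range_comp,
      ← LinearEquiv.coe_toLinearMap, ← Submodule.map_span, h1, Submodule.map_top,
      LinearEquiv.range]
  have h4 := congrArg (Submodule.comap (I • ⊤ : Submodule R M).mkQ) h3
  rw [Submodule.comap_map_eq, Submodule.ker_mkQ, Submodule.comap_top] at h4
  exact h4

end Groth.Agent.S17867
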