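import Groth.Statements.S17868
import Mathlib
import Groth.Agent.S17858
import Groth.Agent.S17865
import Groth.Agent.S17866

set_option autoImplicit false
open CategoryTheory AlgebraicGeometry
universe u
open Algz

namespace Groth.Agent.S17868

open Topology Limits

/-- A finite affine open cover is a Nisnevich cover of the same length. -/
lemma isNisCoverLen_sigma {P : Scheme.{u}} [CompactSpace P] [QuasiSeparatedSpace P] {N : ℕ}
    (U : Fin N → P.Opens) (hU : ∀ i, IsAffineOpen (U i)) (hcov : ⨆ i, U i = ⊤) :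
    W4c5algebraiztannaka.IsNisCoverLen (Sigma.desc fun i => (U i).ι) N := by
  classical
  refine ⟨IsZariskiLocalAtSource.sigmaDesc (P := @Etale) fun i => inferInstance, ?_⟩
  let A : Fin (N + 1) → Set P := fun k => ⋃ i ∈ {i : Fin N | i.val + k.val < N}, (U i : Set P)
  have hAo : ∀ k, IsOpen (A k) := fun k => isOpen_biUnion fun i _ => (U i).2
  refine ⟨fun k => (A k)ᶜ, ?_, ?_, ?_, ?_, ?_⟩
  · rw [Set.compl_empty_iff]
    refine Set.eq_univ_of_forall fun x => ?_
    obtain ⟨i, hi⟩ := TopologicalSpace.Opens.mem_iSup.1 (hcov.ge (Set.mem_univ x : x ∈ (⊤ : P.Opens)))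
    exact Set.mem_iUnion₂.2 ⟨i, by simp, hi⟩
  · refine Set.eq_univ_of_forall fun x hx => ?_
    obtain ⟨i, hi, -⟩ := Set.mem_iUnion₂.1 hx
    simp at hi
  · intro a b hab
    exact Set.compl_subset_compl.2 (Set.biUnion_subset_biUnion_left fun i hi => by
      simp only [Set.mem_setOf_eq] at hi ⊢; have := Fin.le_def.1 hab; omega)
  · intro k
    refine ⟨(hAo k).isClosed_compl, IsConstructible.compl ?_⟩
    exact IsConstructible.biUnion (Set.toFinite _) fun i _ => (hU i).isCompact.isConstructible (U i).2
  · intro k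
    let r : Fin N := ⟨N - k.val - 1, by omega⟩
    let C : TopologicalSpace.Closeds (U r : Scheme.{u}) :=
      ⟨(U r).ι ⁻¹' (A k.succ)ᶜ, (hAo k.succ).isClosed_compl.preimage (U r).ι.continuous⟩
    refine ⟨_, (Scheme.IdealSheafData.vanishingIdeal C).subschemeι ≫ (U r).ι,
      (Scheme.IdealSheafData.vanishingIdeal C).subschemeι ≫ Sigma.ι (fun i => (U i).toScheme) r,
      inferInstance, ?_, by rw [Category.assoc, Sigma.ι_desc]⟩
    show Set.range ((U r).ι.base ∘ (Scheme.IdealSheafData.vanishingIdeal C).subschemeι.base) = _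
    rw [Set.range_comp]
    erw [Scheme.IdealSheafData.range_subschemeι]
    rw [Scheme.IdealSheafData.coe_support_vanishingIdeal]
    show (U r).ι '' ((U r).ι ⁻¹' (A k.succ)ᶜ) = (A k.succ)ᶜ \ (A k.castSucc)ᶜ
    rw [Set.image_preimage_eq_inter_range]
    erw [Scheme.Opens.range_ι]
    ext x
    simp only [A, Set.mem_inter_iff, Set.mem_compl_iff, Set.mem_iUnion, Set.mem_sdiff,
      Set.mem_setOf_eq, Fin.val_succ, Fin.val_castSucc, exists_prop, not_exists, not_and, not_not]
    constructor
    · rintro ⟨h1, h2⟩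
      refine ⟨h1, ?_⟩
      push Not
      exact ⟨r, by simp only [r]; omega, h2⟩
    · rintro ⟨h1, h2⟩
      push Not at h2
      obtain ⟨i, hi, hx⟩ := h2
      refine ⟨h1, ?_⟩
      have h3 : ¬ i.val + (k.val + 1) < N := fun h => h1 i h hx
      have : r = i := Fin.ext (by simp only [r]; omega)
      exact this ▸ hx

/-- In the case of schemes with an affine source. Let `f : U ⟶ Y` be a Nisnevich cover of length at most
`m'` with `U` affine and `Y` quasi-compact quasi-separated. There is a natural number `m` such that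
for every commutative ring `B` and every morphism `g : Spec B ⟶ Y` there exist an affine scheme `V`,
a Nisnevich cover `v : V ⟶ Spec B` of length at most `m`, and a morphism `w : V ⟶ U` over `Y` (that
is, `w ≫ f = v ≫ g`). (The original form allows `U` to be any quasi-compact quasi-separated
algebraic space; `U` is taken affine here, which makes `f` quasi-affine.) -/
theorem result {U Y : Scheme.{u}} [IsAffine U]
    [CompactSpace Y] [QuasiSeparatedSpace Y] (f : U ⟶ Y) (m' : ℕ)
    (hf : W4c5algebraiztannaka.IsNisCoverLen f m') :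
    ∃ m : ℕ, ∀ (B : CommRingCat.{u}) (g : Spec B ⟶ Y),
      ∃ (V : Scheme.{u}) (_ : IsAffine V) (v : V ⟶ Spec B) (w : V ⟶ U),
        W4c5algebraiztannaka.IsNisCoverLen v m ∧ w ≫ f = v ≫ g := by
  have hsep : IsSeparated f := .of_comp f (terminal.from Y)
  have hq : Mor2.IsQuasiAffine f := by
    have := quasiCompact_of_compactSpace f
    refine ⟨this, fun V hV => ?_⟩
    have : CompactSpace (f ⁻¹ᵁ V).toScheme :=
      isCompact_iff_compactSpace.1 (f.isCompact_preimage hV.isCompact)
    exact Scheme.IsQuasiAffine.of_isImmersion (f ⁻¹ᵁ V).ι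
  obtain ⟨N, hN⟩ := Groth.Agent.S17858.result f hq
  refine ⟨N * m', fun B g => ?_⟩
  obtain ⟨W, hW, hcov⟩ := hN B g
  have hP : W4c5algebraiztannaka.IsNisCoverLen (pullback.snd f g) m' :=
    Groth.Agent.S17865.result f g m' hf
  have : CompactSpace (pullback f g : Scheme.{u}) := ⟨by
    have h : (Set.univ : Set (pullback f g : Scheme.{u})) = ⋃ i, (W i : Set _) := by
      rw [← TopologicalSpace.Opens.coe_iSup, hcov]; rfl
    exact h ▸ isCompact_iUnion fun i => (hW i).isCompact⟩
  have : QuasiSeparatedSpace (pullback f g : Scheme.{u}) :=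
    quasiSeparatedSpace_of_quasiSeparated (pullback.snd f g)
  have : ∀ i, IsAffine (W i).toScheme := hW
  refine ⟨∐ fun i => (W i).toScheme, inferInstance, Sigma.desc (fun i => (W i).ι) ≫ pullback.snd f g,
    Sigma.desc (fun i => (W i).ι) ≫ pullback.fst f g, ?_, ?_⟩
  · exact Groth.Agent.S17866.result _ _ N m' (isNisCoverLen_sigma W hW hcov) hP
  · rw [Category.assoc, Category.assoc, pullback.condition]

end Groth.Agent.S17868
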