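import Groth.Statements.S17869
import Mathlib

set_option autoImplicit false
open CategoryTheory AlgebraicGeometry
universe u
open Algz

namespace Groth.Agent.S17869

open Limits Topology

/-- In the case of schemes. Let `U` be a quasi-compact quasi-separated scheme and `V 0, …, V (k-1)`
quasi-compact open subschemes which cover `U`. Then the canonical morphism from the disjoint union
`∐ V i` to `U` is a Nisnevich cover of length at most `k`. (The published example states more
generally that, for a Nisnevich cover of `Y` of length at most `m` with source `U`, the composite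
from the disjoint union `∐ V i` to `Y` has length at most `m * k`; stated here is the case of the
identity of `U`, to which the published argument reduces, and the general bound follows by composing
Nisnevich covers. The original form is for quasi-compact quasi-separated algebraic spaces, with the
members of the cover quasi-compact; stated here for schemes.) -/
theorem result {U : Scheme.{u}} [CompactSpace U] [QuasiSeparatedSpace U]
    (k : ℕ) (V : Fin k → U.Opens) (hV : ∀ i, IsCompact (V i : Set U)) (hcov : ⨆ i, V i = ⊤) :
    W4c5algebraiztannaka.IsNisCoverLen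
      (Limits.Sigma.desc (fun i => (V i).ι) : (∐ fun i => ((V i : U.Opens) : Scheme.{u})) ⟶ U) k := by
  let A : Fin (k + 1) → U.Opens := fun j => ⨆ i : {i : Fin k // (j : ℕ) ≤ i}, V i.1
  have hA : ∀ j, (A j : Set U) = ⋃ i : {i : Fin k // (j : ℕ) ≤ i}, (V i.1 : Set U) :=
    fun j => TopologicalSpace.Opens.coe_iSup _
  refine ⟨IsZariskiLocalAtSource.sigmaDesc (P := @Etale) (fun i => inferInstance), fun j => (A j : Set U)ᶜ, ?_, ?_, fun a b hab => ?_, fun j => ⟨(A j).2.isClosed_compl, ?_⟩,
    fun j => ?_⟩
  · beta_reduce
    rw [Set.compl_empty_iff, ← TopologicalSpace.Opens.coe_top, ← hcov, hA,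
      TopologicalSpace.Opens.coe_iSup]
    exact Set.ext fun x => by simp
  · beta_reduce
    rw [hA]
    refine Set.compl_univ_iff.2 (Set.iUnion_eq_empty.2 fun i => absurd i.2 ?_)
    simp only [Fin.val_last]; omega
  · refine Set.compl_subset_compl.2 ?_
    rw [hA, hA]
    exact Set.iUnion_subset fun i => Set.subset_iUnion_of_subset ⟨i.1, le_trans hab i.2⟩ subset_rfl
  · refine IsConstructible.compl (IsRetrocompact.isConstructible (A j).2 ?_)
    have hc : IsCompact (A j : Set U) := hA j ▸ isCompact_iUnion fun i => hV i.1
    exact fun W hW hWo => QuasiSeparatedSpace.inter_isCompact _ _ (A j).2 hc hWo hW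
  · let Zc : TopologicalSpace.Closeds U := ⟨(A j.succ : Set U)ᶜ, (A j.succ).2.isClosed_compl⟩
    let i : (Scheme.IdealSheafData.vanishingIdeal Zc).subscheme ⟶ U :=
      (Scheme.IdealSheafData.vanishingIdeal Zc).subschemeι
    refine ⟨pullback i (V j).ι, pullback.snd i (V j).ι ≫ (V j).ι,
      pullback.snd i (V j).ι ≫ Sigma.ι (fun i => ((V i : U.Opens) : Scheme.{u})) j, inferInstance,
      ?_, by rw [Category.assoc, Sigma.ι_desc]⟩
    rw [← pullback.condition]
    show Set.range ⇑(pullback.fst i (V j).ι ≫ i) = _
    rw [Scheme.Pullback.range_fst_comp, Scheme.IdealSheafData.range_subschemeι,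
      Scheme.Opens.range_ι]
    show ((A j.succ : Set U)ᶜ) ∩ (V j : Set U) = _
    ext x
    simp only [hA, Set.mem_inter_iff, Set.mem_sdiff, Set.mem_compl_iff, Set.mem_iUnion,
      Subtype.exists, not_exists, not_forall, not_not]
    constructor
    · rintro ⟨h1, h2⟩
      exact ⟨h1, j, le_rfl, h2⟩
    · rintro ⟨h1, i, hi, h2⟩
      refine ⟨h1, ?_⟩
      by_cases hij : i = j
      · exact hij ▸ h2
      · exact absurd h2 (h1 i (by
          have : (i : ℕ) ≠ j := fun h => hij (Fin.ext h)
          simp only [Fin.val_castSucc, Fin.val_succ] at hi ⊢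
          omega))

end Groth.Agent.S17869
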