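import Groth.Statements.S17870
import Groth.Agent.PerfSize.Build
import Groth.Agent.Misc1.DTrace.Basic
import Groth.Agent.BiextChow.HomologyElem

set_option autoImplicit false
open CategoryTheory
universe u
attribute [local instance] HasDerivedCategory.standard
open Algz

namespace Groth.Agent.S17870

open Groth.PerfSize W4c5algebraiztannaka TensorProduct CategoryTheory.Limits


/-- There is a function `F : ℕ → ℕ`, independent of the ring, such that for every commutative ring `R`
and every perfect complex over `R`, given as a bounded complex `E` of finitely generated projective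
modules: if `E` locally has size at most `N` (after base change to some Nisnevich cover `Spec B ⟶
Spec R` of length at most `N` it becomes isomorphic in `D(B)` to a complex vanishing outside `[-N,
N]` whose terms are projective quotients of `B^N`), then it globally has size at most `F N` (it is
isomorphic in `D(R)` to such a complex over `R` with bound `F N`). -/
theorem result :
    ∃ F : ℕ → ℕ, ∀ (R : Type u) [CommRing R] (E : DRing.Cx R) (a b : ℤ),
      DRing.VanishesOutside E a b → DRing.TermwiseFiniteProjective E →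
      ∀ N : ℕ, W4c5algebraiztannaka.LocSize E N → W4c5algebraiztannaka.GlobSize R (DRing.toD E) (F N) := by
  refine ⟨fun N => N + 1 + ∑ k ∈ Finset.range (2 * N + 2), gen N k,
    fun R _ E a b hE hfp N hloc => ?_⟩
  obtain ⟨B, iB, φ, hnis, P, ⟨hPv, hPt⟩, ⟨iso⟩⟩ := hloc
  let : Algebra R B := φ.toAlgebra
  have hfin : ∀ l, Module.Finite R (E.X l) := fun l => (hfp l).1
  have hproj : ∀ l, Module.Projective R (E.X l) := fun l => (hfp l).2
  have hPproj : ∀ l, Module.Projective B (P.X l) := fun l => (hPt l).1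
  let EB : DRing.Cx B := (bcCx φ).obj E
  have hEBproj : ∀ l, CategoryTheory.Projective (EB.X l) := fun l =>
    have : Module.Projective B (EB.X l) :=
      (inferInstance : Module.Projective B (B ⊗[R] E.X l))
    ModuleCat.projective_of_categoryTheory_projective (EB.X l)
  have : CochainComplex.IsStrictlyLE EB b := by
    rw [CochainComplex.isStrictlyLE_iff]
    exact fun i hi => (ModuleCat.extendScalars φ).map_isZero (hE i (Or.inr hi))
  have := CochainComplex.isKProjective_of_projective EB b
  obtain ⟨χ, hχ⟩ := Groth.Misc1.DTrace.exists_map_eq (P := EB) iso.inv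
  have : IsIso (DerivedCategory.Q.map χ) := hχ ▸ inferInstance
  have hqis : QuasiIso χ := (DerivedCategory.isIso_Q_map_iff_quasiIso _ χ).1 inferInstance
  have hiso : ∀ i, IsIso (HomologicalComplex.homologyMap χ i) := fun i =>
    (quasiIsoAt_iff_isIso_homologyMap χ i).1 inferInstance
  let dE : ∀ l, E.X l →ₗ[R] E.X (l + 1) := fun l => (E.d l (l + 1)).hom
  let dP : ∀ l, P.X l →ₗ[B] P.X (l + 1) := fun l => (P.d l (l + 1)).hom
  let h : ∀ l, B ⊗[R] E.X l →ₗ[B] P.X l := fun l => (χ.f l).hom
  have hdE : ∀ l x, dE (l + 1) (dE l x) = 0 := fun l x =>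
    congr(($(E.d_comp_d l (l + 1) (l + 1 + 1))) x)
  have hdP : ∀ l x, dP (l + 1) (dP l x) = 0 := fun l x =>
    congr(($(P.d_comp_d l (l + 1) (l + 1 + 1))) x)
  have hEBd : ∀ (l : ℤ) (x : B ⊗[R] E.X l),
      (EB.d l (l + 1)).hom x = (dE l).baseChange B x := fun l x => rfl
  have hh : ∀ l e, h (l + 1) ((dE l).baseChange B e) = dP l (h l e) := fun l e => by
    rw [← hEBd]
    exact (congr(($(χ.comm l (l + 1))) e)).symm
  have hs : HSurj (fun l => (dE l).baseChange B) dP h := fun l p hp => by
    have : Epi (HomologicalComplex.homologyMap χ (l + 1)) := inferInstance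
    obtain ⟨x, hx, w, hw⟩ := (Groth.BiextChow.epi_homologyMap_iff χ
      ((ComplexShape.up ℤ).prev_eq' (show l + 1 = l + 1 from rfl))
      ((ComplexShape.up ℤ).next_eq' (show l + 1 + 1 = l + 1 + 1 from rfl))).1 this p hp
    refine ⟨x, hx, w, ?_⟩
    show p = (χ.f (l + 1)).hom x + (P.d l (l + 1)).hom w
    rw [hw]; exact (add_sub_cancel _ _).symm
  have hi : HInj (fun l => (dE l).baseChange B) dP h := fun l e he p hp => by
    have : Mono (HomologicalComplex.homologyMap χ (l + 1)) := inferInstance
    exact (Groth.BiextChow.mono_homologyMap_iff χ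
      ((ComplexShape.up ℤ).prev_eq' (show l + 1 = l + 1 from rfl))
      ((ComplexShape.up ℤ).next_eq' (show l + 1 + 1 = l + 1 + 1 from rfl))).1 this e he p hp.symm
  have hPhi : ∀ l, (N : ℤ) < l → Subsingleton (P.X l) := fun l hl =>
    ModuleCat.subsingleton_of_isZero (hPv l (Or.inr hl))
  have hPlo : ∀ l, l < -(N : ℤ) → Subsingleton (P.X l) := fun l hl =>
    ModuleCat.subsingleton_of_isZero (hPv l (Or.inl hl))
  obtain ⟨p, dQ, ψ, hpproj, hpgen, hpbot, hpd, hdd, hcomm, hex⟩ :=
    exists_model (R := R) (B := B) N hnis (E := fun l => E.X l) (dE := dE) hdE (P := fun l => P.X l) (dP := dP) hdP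
      hPhi hPlo (fun l => (hPt l).2) (h := h) hh hs hi b
      (fun l hl => ModuleCat.subsingleton_of_isZero (hE l (Or.inr hl)))
  let Q : DRing.Cx R := CochainComplex.of (fun l => ModuleCat.of R (p l))
    (fun l => ModuleCat.ofHom ((dQ l).restrict (hpd l))) (fun l =>
      ModuleCat.hom_ext (LinearMap.ext fun x => Subtype.ext (hdd l x.1)))
  have hQd : ∀ (l : ℤ), Q.d l (l + 1) = ModuleCat.ofHom ((dQ l).restrict (hpd l)) :=
    fun l => by simp [Q]
  let ψc : Q ⟶ E :=
    { f := fun l => ModuleCat.ofHom (ψ l ∘ₗ (p l).subtype)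
      comm' := fun i j hij => by
        obtain rfl : i + 1 = j := hij
        rw [hQd]
        ext x
        exact (hcomm i x.1).symm }
  have hψq : QuasiIso ψc := by
    refine ⟨fun n => ?_⟩
    obtain ⟨l, rfl⟩ : ∃ l, l + 1 = n := ⟨n - 1, by omega⟩
    rw [quasiIsoAt_iff_isIso_homologyMap]
    have : Epi (HomologicalComplex.homologyMap ψc (l + 1)) := by
      rw [Groth.BiextChow.epi_homologyMap_iff ψc
        ((ComplexShape.up ℤ).prev_eq' (show l + 1 = l + 1 from rfl))
        ((ComplexShape.up ℤ).next_eq' (show l + 1 + 1 = l + 1 + 1 from rfl))]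
      intro e he
      obtain ⟨y, hy, f, hf⟩ := hex l 0 (zero_mem _) e (by
        rw [coneD_apply]; simp only [map_zero, neg_zero, zero_add]
        exact Prod.ext rfl he)
      rw [coneD_apply] at hf
      simp only [Prod.mk.injEq, neg_eq_zero] at hf
      refine ⟨⟨y, hy⟩, ?_, f, ?_⟩
      · rw [hQd]; exact Subtype.ext hf.1
      · show dE l f = e - ψ (l + 1) y
        rw [← hf.2]; abel
    have : Mono (HomologicalComplex.homologyMap ψc (l + 1)) := by
      rw [Groth.BiextChow.mono_homologyMap_iff ψc
        ((ComplexShape.up ℤ).prev_eq' (show l + 1 = l + 1 from rfl))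
        ((ComplexShape.up ℤ).next_eq' (show l + 1 + 1 = l + 1 + 1 from rfl))]
      intro x hx w hw
      have key : ∀ (k : ℤ) (hk : k + 1 = l) (x : p (k + 1 + 1)),
          dQ (k + 1 + 1) x.1 = 0 → ∀ w : E.X (k + 1), dE (k + 1) w = ψ (k + 1 + 1) x.1 →
            ∃ y : p (k + 1), dQ (k + 1) y.1 = x.1 := by
        intro k _ x hx w hw
        obtain ⟨y, hy, f, hf⟩ := hex k x.1 x.2 (-w) (by
          rw [coneD_apply]
          simp [hx, map_neg, hw])
        rw [coneD_apply] at hf
        simp only [Prod.mk.injEq] at hf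
        exact ⟨⟨-y, neg_mem hy⟩, by simpa [map_neg] using hf.1⟩
      obtain ⟨k, rfl⟩ : ∃ k, k + 1 = l := ⟨l - 1, by omega⟩
      rw [hQd] at hx ⊢
      obtain ⟨y, hy⟩ := key k rfl x (congrArg Subtype.val hx) w hw
      exact ⟨y, Subtype.ext hy⟩
    exact isIso_of_mono_of_epi _
  refine ⟨Q, ⟨fun l hl => ?_, fun l => ⟨hpproj l, ?_⟩⟩, ⟨?_⟩⟩
  · refine @ModuleCat.isZero_of_subsingleton _ _ _ ?_
    have h0 : (0 : ℤ) ≤ ∑ k ∈ Finset.range (2 * N + 2), (gen N k : ℤ) :=
      Finset.sum_nonneg fun _ _ => Int.natCast_nonneg _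
    replace hl : l < -(N : ℤ) - 1 ∨ (N : ℤ) < l := by push_cast at hl; omega
    rcases hl with hl | hl
    · show Subsingleton (p l)
      rw [hpbot l hl]; infer_instance
    · have : Subsingleton (Qf R N l) := subsingleton_Qf N hl
      show Subsingleton (p l)
      infer_instance
  · show ∃ g : (Fin (N + 1 + ∑ k ∈ Finset.range (2 * N + 2), gen N k) → R) →ₗ[R] p l,
      Function.Surjective g
    by_cases hl : l < -(N : ℤ) - 1
    · refine ⟨0, fun y => ⟨0, ?_⟩⟩
      exact Subtype.ext ((Submodule.mem_bot R).1 (hpbot l hl ▸ y.2)).symm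
    · have hrk : rk N l ≤ N + 1 + ∑ k ∈ Finset.range (2 * N + 2), gen N k := by
        unfold rk
        split_ifs with h'
        · omega
        · exact le_trans (Finset.single_le_sum (f := gen N) (fun _ _ => Nat.zero_le _)
            (Finset.mem_range.2 (by omega))) (Nat.le_add_left _ _)
      obtain ⟨π, hπ⟩ := hpgen l
      exact ⟨π ∘ₗ LinearMap.funLeft R R (Fin.castLE hrk), hπ.comp
        (LinearMap.funLeft_surjective_of_injective R R _ (Fin.castLE_injective hrk))⟩
  · exact asIso (DerivedCategory.Q.map ψc)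

end Groth.Agent.S17870
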