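import Groth.Statements.S17871
import Groth.Agent.FPUniform.Basic

set_option autoImplicit false
open CategoryTheory AlgebraicGeometry Opposite
universe u
open Algz

namespace Groth.Agent.S17871

/-- Let `X` be a quasi-compact quasi-separated scheme, `A i` a family of commutative rings indexed by an
arbitrary type together with morphisms `f i : Spec (A i) ⟶ X`, and `F` an `O_X`-module locally of
finite presentation (a finitely presented quasi-coherent sheaf). Then the product over `i` of the
modules of global sections of the pullbacks `(f i)^* F` is a finitely presented module over the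
product of the rings of global sections `Γ(Spec (A i), O)` (that is, over `Π i, A i`). The point is
that the index set may be infinite. -/
theorem result (X : Scheme.{u}) [CompactSpace X] [QuasiSeparatedSpace X]
    {ι : Type u} (A : ι → CommRingCat.{u}) (f : ∀ i, Spec (A i) ⟶ X) (F : X.Modules) (hF : CohB1.IsFP F) :
    Module.FinitePresentation (∀ i, Γ(Spec (A i), ⊤))
      (∀ i, Γ((Scheme.Modules.pullback (f i)).obj F, ⊤)) := by
  classical
  choose W hW P hP using Groth.QCohMod.exists_presentation_of_isFP F hF
  haveI : F.IsQuasicoherent := Groth.QCohMod.isQCoh_of_cover F W (fun x => ⟨x, hW x⟩) P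
  obtain ⟨t, ht⟩ := isCompact_univ.elim_finite_subcover (fun x => (W x : Set X))
    (fun x => (W x).isOpen) (fun x _ => Set.mem_iUnion.mpr ⟨x, hW x⟩)
  haveI : ∀ j : t, Finite (P j.1).generators.I := fun j => (hP j.1).isFiniteType_generators.finite
  haveI : ∀ j : t, Finite (P j.1).relations.I := fun j => (hP j.1).isFiniteType_relations.finite
  letI : ∀ j : t, Fintype (P j.1).generators.I := fun j => Fintype.ofFinite _
  letI : ∀ j : t, Fintype (P j.1).relations.I := fun j => Fintype.ofFinite _
  refine Groth.FPUniform.finitePresentation_pi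
    (G := Σ j : t, (P j.1).generators.I)
    (K := Σ j : t, ((Σ j' : t, (P j'.1).generators.I) ⊕ (P j.1).relations.I))
    (fun i => Γ(Spec (A i), ⊤)) (fun i => Γ((Scheme.Modules.pullback (f i)).obj F, ⊤)) fun i => ?_
  refine Groth.FPUniform.pres_top_of_cover ((Scheme.Modules.pullback (f i)).obj F)
    (fun j : t => f i ⁻¹ᵁ W j.1) (fun y => ?_) (fun j => (P j.1).generators.I)
    (fun j => (P j.1).relations.I) fun j D hD hDV => ?_
  · obtain ⟨x, hx, hx'⟩ := Set.mem_iUnion₂.mp (ht (Set.mem_univ ((f i).base y)))
    exact ⟨⟨x, hx⟩, hx'⟩
  · refine Groth.FPUniform.pres_sections_of_presentation ((Scheme.Modules.pullback (f i)).obj F)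
      (Groth.QCohMod.presRestrictPullback (f i) (P j.1)) ?_ hD hDV
    exact ⟨⟨((hP j.1).isFiniteType_generators.finite : Finite (P j.1).generators.I)⟩,
      ⟨((hP j.1).isFiniteType_relations.finite : Finite (P j.1).relations.I)⟩⟩

end Groth.Agent.S17871
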