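import Groth.Statements.S17872
import Mathlib.Algebra.Polynomial.Roots
import Mathlib.LinearAlgebra.Dual.Lemmas

set_option autoImplicit false
universe u v
open GRRSing

namespace Groth.Agent.S17872

/-- Let H be a vector space over a field K and let b_0, …, b_l be elements of H. If the sum of the t ^ i
• b_i vanishes for infinitely many scalars t of K, then all the b_i are zero. -/
theorem result {K : Type u} {H : Type v} [Field K] [AddCommGroup H] [Module K H]
    (l : ℕ) (b : Fin (l + 1) → H)
    (h : Set.Infinite {t : K | ∑ i : Fin (l + 1), t ^ (i : ℕ) • b i = 0}) :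
    b = 0 := by
  funext i
  by_contra hne
  obtain ⟨φ, hφ⟩ : ∃ φ : H →ₗ[K] K, φ (b i) ≠ 0 := by
    by_contra! hall
    exact hne ((Module.forall_dual_apply_eq_zero_iff K (b i)).mp hall)
  set P : Polynomial K := ∑ j : Fin (l + 1), Polynomial.C (φ (b j)) * Polynomial.X ^ (j : ℕ) with hP
  have hroot : {t : K | ∑ j : Fin (l + 1), t ^ (j : ℕ) • b j = 0} ⊆ {t | P.IsRoot t} := by
    intro t ht
    have := congrArg φ ht
    simp only [map_sum, map_smul, smul_eq_mul, map_zero] at this
    simp only [Set.mem_ofPred_eq, Polynomial.IsRoot, hP, Polynomial.eval_finsetSum,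
      Polynomial.eval_mul, Polynomial.eval_C, Polynomial.eval_pow, Polynomial.eval_X]
    simpa [mul_comm] using this
  have hP0 : P = 0 := Polynomial.eq_zero_of_infinite_isRoot P (h.mono hroot)
  have := congrArg (fun Q => Q.coeff (i : ℕ)) hP0
  simp [hP, Polynomial.finsetSum_coeff, Polynomial.coeff_X_pow, Fin.val_inj] at this
  exact hφ this

end Groth.Agent.S17872
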