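import Groth.Statements.S17873
import Groth.Agent.Misc13.RegularPrefix

set_option autoImplicit false
universe u
open GRRSing

namespace Groth.Agent.S17873

/-- Let T be a Cohen–Macaulay Noetherian local ring, J a proper ideal of T, j the grade of J (the
J-depth of T, i.e. the supremum of the lengths of T-regular sequences inside J; a natural number
here) and c the minimal number of generators of J (equal to the dimension of J/𝔪J over the residue
field). Then j ≤ c and there is a generating sequence t_1, …, t_c of J such that t_1, …, t_j is a
T-regular sequence. (The published statement does not exclude J = T; there c = 1 while the grade,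
read as the depth of T, can exceed 1, so this row assumes J proper.) -/
theorem result {T : Type u} [CommRing T] [LocCoh.IsCohenMacaulayLocalRing T]
    (J : Ideal T) (hJ : J ≠ ⊤) (j : ℕ) (hj : LocCoh.idealDepth J T = j) :
    j ≤ Submodule.spanFinrank J ∧
      ∃ ts : List T, ts.length = Submodule.spanFinrank J ∧ Ideal.ofList ts = J ∧
        RingTheory.Sequence.IsRegular T (ts.take j) := by
  open Groth.Misc13.RegularPrefix RingTheory.Sequence in
  · obtain ⟨l, G, hlen, hmem, hreg, hcard, hspan⟩ := exists_prefix hJ j hj.ge
    have hts : Ideal.ofList (l ++ G.toList) = J := by
      rw [Ideal.ofList_append, ofList_toList]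
      exact hspan.symm
    refine ⟨by omega, l ++ G.toList, le_antisymm ?_ ?_, hts, ?_⟩
    · rw [List.length_append, Finset.length_toList, hlen]; omega
    · conv_lhs => rw [← hts]
      exact spanFinrank_le_length _
    · rw [← hlen, List.take_left' rfl]
      refine ⟨hreg, fun htop => hJ ?_⟩
      rw [smul_eq_mul, Ideal.mul_top] at htop
      exact top_le_iff.1 (htop.trans_le (ofList_le hmem))

end Groth.Agent.S17873
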