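import Groth.Statements.S17874
import Groth.Agent.Misc13.RegularPrefix

set_option autoImplicit false
universe u
open GRRSing

namespace Groth.Agent.S17874

/-- Let T be a Cohen–Macaulay Noetherian local ring and p a prime ideal of T whose minimal number of
generators is at most height(p) + 1, and assume the localization T_p is a regular local ring. In
that case some d-sequence generates p: there is a list of elements generating p, no member of which
lies in the ideal of the others, and such that for all positions i ≤ k the colon ideals ((t_1, …,
t_{i-1}) : t_k t_i) and ((t_1, …, t_{i-1}) : t_k) coincide. -/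
theorem result {T : Type u} [CommRing T] [LocCoh.IsCohenMacaulayLocalRing T]
    (p : Ideal T) [p.IsPrime] (hgen : (Submodule.spanFinrank p : ℕ∞) ≤ p.height + 1)
    [IsRegularLocalRing (Localization.AtPrime p)] :
    ∃ ts : List T, Ideal.ofList ts = p ∧ W4c5grrsingularflat.IsDSeq ts := by
  open Groth.Misc13.RegularPrefix RingTheory.Sequence IsLocalRing in
  · set L := Localization.AtPrime p
    have hp : p ≠ ⊤ := Ideal.IsPrime.ne_top'
    have hCM : LocCoh.IsCohenMacaulayModule T T := LocCoh.IsCohenMacaulayLocalRing.supportDim_eq_depth
    obtain ⟨h, hh⟩ := ENat.ne_top_iff_exists.1 (Ideal.height_ne_top (I := p) hp)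
    have hdimL : ringKrullDim L = (h : WithBot ℕ∞) := by
      rw [IsLocalization.AtPrime.ringKrullDim_eq_height p L, ← hh]; rfl
    have hrL : Submodule.spanFinrank (maximalIdeal L) = h := by
      have e := IsRegularLocalRing.spanFinrank_maximalIdeal (R := L)
      rw [hdimL] at e
      exact_mod_cast e
    have hpL : p.map (algebraMap T L) = maximalIdeal L := Localization.AtPrime.map_eq_maximalIdeal
    -- height ≤ depth
    have hdepth : (h : ℕ∞) ≤ LocCoh.idealDepth p T := by
      obtain ⟨j, hj⟩ := ENat.ne_top_iff_exists.1 (Groth.LocCohBase.idealDepth_ne_top (I := p) (M := T)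
        (by rwa [smul_eq_mul, Ideal.mul_top]))
      have e := Groth.LocCohBase.supportDim_eq_add_idealDepth hp j T hCM hj.symm
      have he : p • (⊤ : Submodule T T) = p := by rw [smul_eq_mul, Ideal.mul_top]
      rw [Module.supportDim_eq_of_equiv (Submodule.quotEquivOfEq _ _ he),
        Module.supportDim_quotient_eq_ringKrullDim, Module.supportDim_self_eq_ringKrullDim] at e
      have hle := Groth.Ega4b.ringKrullDim_quotient_add_height_le hp
      have : Nontrivial (T ⧸ p) := Ideal.Quotient.nontrivial_iff.2 hp
      obtain ⟨d, hd⟩ : ∃ d : ℕ, ringKrullDim (T ⧸ p) = d := by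
        have hfin : ringKrullDim T = ((maximalIdeal T).height : WithBot ℕ∞) :=
          (IsLocalRing.maximalIdeal_height_eq_ringKrullDim).symm
        obtain ⟨N, hN⟩ := ENat.ne_top_iff_exists.1
          (Ideal.height_ne_top (I := maximalIdeal T) (maximalIdeal.isMaximal T).ne_top)
        have h1 : ringKrullDim (T ⧸ p) ≤ ((N : ℕ∞) : WithBot ℕ∞) := by
          rw [hN, ← hfin]; exact ringKrullDim_quotient_le p
        have h2 := ringKrullDim_nonneg_of_nontrivial (R := T ⧸ p)
        revert h1 h2
        cases ringKrullDim (T ⧸ p) with
        | bot => intro _ h2; simp at h2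
        | coe a =>
          intro h1 _
          obtain ⟨d, hd⟩ := ENat.ne_top_iff_exists.1 (ne_top_of_le_ne_top (ENat.natCast_ne_top N) (WithBot.coe_le_coe.1 h1))
          exact ⟨d, by rw [← hd]; rfl⟩
      rw [← hj]
      rw [e, hd, ← hh] at hle
      change ((d + h : ℕ) : WithBot ℕ∞) ≤ ((d + j : ℕ) : WithBot ℕ∞) at hle
      norm_cast at hle ⊢
      omega
    -- below `h` generators, nothing generates `p T_p`
    have hlow : ∀ l : List T, l.length < h → (Ideal.ofList l).map (algebraMap T L) ≠ maximalIdeal L := by
      intro l hl heq
      have := spanFinrank_le_length (l.map (algebraMap T L))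
      rw [← Ideal.map_ofList, heq, hrL, List.length_map] at this
      omega
    -- induction
    have key : ∀ i ≤ h, ∃ (l : List T) (G : Finset T) (G' : Finset L), l.length = i ∧ (∀ x ∈ l, x ∈ p) ∧
        IsWeaklyRegular T l ∧ G.card + i ≤ Submodule.spanFinrank p ∧
        p = Ideal.ofList l ⊔ Ideal.span (G : Set T) ∧ G'.card + i ≤ h ∧
        maximalIdeal L = (Ideal.ofList l).map (algebraMap T L) ⊔ Ideal.span (G' : Set L) := by
      intro i
      induction i with
      | zero =>
        intro _
        obtain ⟨G, hG, hspan⟩ :=
          Submodule.FG.exists_span_finset_card_eq_spanFinrank (IsNoetherian.noetherian p)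
        obtain ⟨G', hG', hspan'⟩ :=
          Submodule.FG.exists_span_finset_card_eq_spanFinrank (IsNoetherian.noetherian (maximalIdeal L))
        exact ⟨[], G, G', rfl, by simp, IsWeaklyRegular.nil T T, by omega, by simpa using hspan.symm,
          by omega, by simpa using hspan'.symm⟩
      | succ i ih =>
        intro hi
        obtain ⟨l, G, G', hlen, hmem, hreg, hcard, hspan, hcard', hspan'⟩ := ih (by omega)
        subst hlen
        have hlt : (l.length : ℕ∞) < LocCoh.idealDepth p T :=
          lt_of_lt_of_le (by exact_mod_cast hi) hdepth
        have hne := hlow l (by omega)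
        have hA : ¬ p ≤ maximalIdeal T * p ⊔ Ideal.ofList l := fun hle =>
          (not_le_of_length_lt hp hreg hmem hlt).1 (eq_of_le_mul_maximalIdeal_sup (ofList_le hmem) hle)
        have hB : ¬ p ≤ (maximalIdeal L * maximalIdeal L ⊔
            (Ideal.ofList l).map (algebraMap T L)).comap (algebraMap T L) := by
          intro hle
          rw [← Ideal.map_le_iff_le_comap, hpL] at hle
          exact hne (eq_of_le_mul_maximalIdeal_sup (hpL ▸ Ideal.map_mono (ofList_le hmem)) hle).symm
        obtain ⟨x, hx, hxA, hxB, hreg'⟩ := exists_next hp hreg hmem hlt hA hB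
        have hG : G.card ≠ 0 := fun h0 => by
          rw [Finset.card_eq_zero.1 h0] at hspan
          exact (not_le_of_length_lt hp hreg hmem hlt).1 (by simpa using hspan)
        have hG' : G'.card ≠ 0 := fun h0 => by
          rw [Finset.card_eq_zero.1 h0] at hspan'
          exact hne (by simpa using hspan'.symm)
        obtain ⟨H, hH, hspanH⟩ := exchange (n := G.card - 1) hspan (by omega) hx hxA
        obtain ⟨H', hH', hspanH'⟩ := exchange (n := G'.card - 1) hspan' (by omega)
          (show algebraMap T L x ∈ maximalIdeal L from hpL ▸ Ideal.mem_map_of_mem _ hx) hxB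
        refine ⟨l ++ [x], H, H', by simp, ?_, hreg', by omega, ?_, by omega, ?_⟩
        · simpa [or_imp, forall_and, hx] using hmem
        · rw [Ideal.ofList_append, Ideal.ofList_singleton]
          exact hspanH
        · rw [Ideal.ofList_append, Ideal.ofList_singleton, Ideal.map_sup, Ideal.map_span _ {x}, Set.image_singleton]
          exact hspanH'
    obtain ⟨l, G, G', hlen, hmem, hreg, hcard, hspan, hcard', hspan'⟩ := key h le_rfl
    have hIL : maximalIdeal L = (Ideal.ofList l).map (algebraMap T L) := by
      rw [Finset.card_eq_zero.1 (show G'.card = 0 by omega)] at hspan'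
      simpa using hspan'
    set ts := l ++ G.toList with hts'
    have hts : Ideal.ofList ts = p := by
      rw [Ideal.ofList_append, ofList_toList]
      exact hspan.symm
    have htslen : ts.length = Submodule.spanFinrank p := by
      refine le_antisymm (by rw [List.length_append, Finset.length_toList, hlen]; omega) ?_
      conv_lhs => rw [← hts]
      exact spanFinrank_le_length _
    have hc : Submodule.spanFinrank p ≤ h + 1 := by
      rw [← hh] at hgen; exact_mod_cast hgen
    refine ⟨ts, hts, ?_, ?_⟩
    · -- minimality
      intro i hi
      have hle : Ideal.ofList ts ≤ Ideal.span (Set.range fun j : {j : Fin ts.length // j ≠ i} =>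
          ts[(j : Fin ts.length)]) := by
        refine Ideal.span_le.2 fun r hr => ?_
        obtain ⟨n, hn, rfl⟩ := List.mem_iff_getElem.1 hr
        by_cases hni : (⟨n, hn⟩ : Fin ts.length) = i
        · subst hni; exact hi
        · exact Ideal.subset_span ⟨⟨⟨n, hn⟩, hni⟩, rfl⟩
      have heq : p = Ideal.span (Set.range fun j : {j : Fin ts.length // j ≠ i} =>
          ts[(j : Fin ts.length)]) := by
        refine le_antisymm (hts.symm.le.trans hle) (Ideal.span_le.2 ?_)
        rintro _ ⟨j, rfl⟩
        exact hts.le (Ideal.subset_span (List.getElem_mem _))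
      have hbound := Submodule.spanFinrank_span_le_ncard_of_finite (R := T)
        (Set.finite_range fun j : {j : Fin ts.length // j ≠ i} => ts[(j : Fin ts.length)])
      have hcard₂ : (Set.range fun j : {j : Fin ts.length // j ≠ i} =>
          ts[(j : Fin ts.length)]).ncard ≤ ts.length - 1 := by
        rw [← Nat.card_coe_set_eq]
        refine (Finite.card_range_le _).trans ?_
        rw [Nat.card_eq_fintype_card, Fintype.card_subtype_compl, Fintype.card_subtype_eq, Fintype.card_fin]
      have : 0 < ts.length := Fin.pos i
      rw [Ideal.span] at heq
      rw [← heq] at hbound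
      omega
    · intro i k hk hik
      have hk' : k ≤ h := by omega
      ext r
      simp only [Submodule.mem_colon_singleton, smul_eq_mul]
      constructor
      · intro hr
        rcases lt_or_ge i h with hih | hih
        · have hreg_i := hreg.regular_mod_prev i (by omega)
          have htake : ts.take i = l.take i := List.take_append_of_le_length (by omega)
          have hget : ts[i]'(by omega) = l[i]'(by omega) := List.getElem_append_left (by omega)
          rw [hget] at hr
          rw [htake] at hr ⊢
          have he : (Ideal.ofList (l.take i)) • (⊤ : Submodule T T) = Ideal.ofList (l.take i) := by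
            rw [smul_eq_mul, Ideal.mul_top]
          have := (isSMulRegular_quotient_iff_mem_of_smul_mem _ _).1 hreg_i (r * ts[k]) (by
            rw [he, smul_eq_mul]
            convert hr using 1; ring)
          rwa [he] at this
        · obtain rfl : i = h := by omega
          obtain rfl : k = i := by omega
          have htake : ts.take k = l := by rw [hts', List.take_left' hlen]
          rw [htake] at hr ⊢
          set t := ts[k] with ht
          by_contra hrt
          have hy : (Ideal.Quotient.mk (Ideal.ofList l)) (r * t) ≠ 0 := fun h0 =>
            hrt (Ideal.Quotient.eq_zero_iff_mem.1 h0)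
          obtain ⟨Q, hQ, hle⟩ := exists_le_isAssociatedPrime_of_isNoetherianRing T _ hy
          have hCMq : LocCoh.IsCohenMacaulayModule T (T ⧸ Ideal.ofList l) := by
            refine (Groth.Ega4b.isCM_congr (Submodule.quotEquivOfEq _ _ ?_)).1
              (Groth.Ega4b.isCM_quotient_ofList l T hCM (fun x hx => le_maximalIdeal hp (hmem x hx)) hreg)
            rw [smul_eq_mul, Ideal.mul_top]
          have hQmin := Groth.LocCohBase.mem_minimalPrimes_of_CM hCMq hQ
          rw [Ideal.annihilator_quotient] at hQmin
          have hin : ∀ a : T, a * (r * t) ∈ Ideal.ofList l → a ∈ Q := fun a ha => hle (by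
            rw [Submodule.mem_colon_singleton, Submodule.mem_bot]
            exact Ideal.Quotient.eq_zero_iff_mem.2 ha)
          have htQ : t ∈ Q := hin t (by convert hr using 1; ring)
          have hpQ : p ≤ Q := by
            rw [← hts]
            refine Ideal.span_le.2 fun x hx => ?_
            obtain ⟨n, hn, rfl⟩ := List.mem_iff_getElem.1 hx
            rcases lt_or_ge n k with hnk | hnk
            · have : ts[n] = l[n]'(by omega) := List.getElem_append_left (by omega)
              rw [this]
              exact hQmin.1.2 (Ideal.subset_span (List.getElem_mem _))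
            · obtain rfl : n = k := by omega
              exact htQ
          have hQp : Q ≤ p := hQmin.2 ⟨inferInstance, ofList_le hmem⟩ hpQ
          have htmem : algebraMap T L t ∈ (Ideal.ofList l).map (algebraMap T L) := by
            rw [← hIL, ← hpL]
            exact Ideal.mem_map_of_mem _ (hts.le (Ideal.subset_span (List.getElem_mem hk)))
          obtain ⟨u, hu, hut⟩ := (IsLocalization.algebraMap_mem_map_algebraMap_iff p.primeCompl L _ t).1 htmem
          exact hu (hQp (hin u (by convert Ideal.mul_mem_left _ r hut using 1; ring)))
      · intro hr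
        rw [← mul_assoc]
        exact Ideal.mul_mem_right _ _ hr

end Groth.Agent.S17874
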