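import Groth.Statements.S17875
import Mathlib.Tactic.FieldSimp
import Mathlib.Tactic.Ring
import Mathlib.Data.Nat.Choose.Cast

set_option autoImplicit false
universe u
open Polynomial
open GRRSing

namespace Groth.Agent.S17875

/-- Let R be a commutative ℚ-algebra, r an element of R and δ a natural number with (r - 1) ^ (δ + 1) =
0. Write s(k, j) for the signed Stirling numbers of the first kind, the coefficients of x (x - 1) ⋯
(x - k + 1) = Σ_j s(k, j) x ^ j. Then (i) for every natural number n, r ^ n = Σ_{k ≤ δ} [n (n - 1) ⋯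
(n - k + 1) / k!] (r - 1) ^ k; and (ii) in the polynomial ring R[x], Σ_{k ≤ δ} [x (x - 1) ⋯ (x - k +
1) / k!] (r - 1) ^ k = Σ_{j ≤ δ} [Σ_{k ≤ δ} Σ_{u ≤ k} (-1) ^ (k - u) s(k, j) / (u! (k - u)!) · r ^
u] x ^ j. -/
theorem result {R : Type u} [CommRing R] [Algebra ℚ R]
    (r : R) (δ : ℕ) (hr : (r - 1) ^ (δ + 1) = 0) :
    (∀ n : ℕ, r ^ n = ∑ k ∈ Finset.range (δ + 1), ((descPochhammer ℚ k).eval (n : ℚ) / (k.factorial : ℚ)) • (r - 1) ^ k) ∧
    (∑ k ∈ Finset.range (δ + 1), ((k.factorial : ℚ)⁻¹ • (descPochhammer R k * Polynomial.C ((r - 1) ^ k))) =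
      ∑ j ∈ Finset.range (δ + 1), Polynomial.C (∑ k ∈ Finset.range (δ + 1), ∑ u ∈ Finset.range (k + 1),
        (((-1 : ℚ) ^ (k - u) * (((descPochhammer ℤ k).coeff j : ℤ) : ℚ)) / ((u.factorial * (k - u).factorial : ℕ) : ℚ)) • r ^ u) * Polynomial.X ^ j) := by
  have key : ∀ n : ℕ, r ^ n = ∑ k ∈ Finset.range (δ + 1), (n.choose k : R) * (r - 1) ^ k := by
    intro n
    have hz : ∀ k, δ + 1 ≤ k → (r - 1) ^ k = 0 := fun k hk => pow_eq_zero_of_le hk hr
    conv_lhs => rw [show r = (r - 1) + 1 by ring, add_pow]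
    rcases le_total (n + 1) (δ + 1) with h | h
    · rw [← Finset.sum_subset (Finset.range_mono h) (fun k _ hk => by
        rw [Nat.choose_eq_zero_of_lt (by simpa [Nat.succ_le_iff] using hk)]; simp)]
      exact Finset.sum_congr rfl fun k _ => by ring
    · rw [← Finset.sum_subset (Finset.range_mono h) (fun k _ hk => by
        rw [hz k (by simpa using hk)]; simp)]
      exact Finset.sum_congr rfl fun k _ => by ring
  refine ⟨fun n => ?_, ?_⟩
  · rw [key n]
    refine Finset.sum_congr rfl fun k _ => ?_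
    rw [descPochhammer_eval_eq_descFactorial, Nat.descFactorial_eq_factorial_mul_choose, Nat.cast_mul,
      mul_div_cancel_left₀ _ (Nat.cast_ne_zero.mpr (Nat.factorial_ne_zero k)), Nat.cast_smul_eq_nsmul,
      nsmul_eq_mul]
  · ext j
    simp only [Polynomial.finsetSum_coeff, Polynomial.coeff_smul, Polynomial.coeff_mul_C,
      Polynomial.coeff_C_mul, Polynomial.coeff_X_pow]
    have hm : ∀ x, (descPochhammer R x).coeff j = (((descPochhammer ℤ x).coeff j : ℤ) : R) := fun x => by
      rw [← descPochhammer_map (Int.castRingHom R) x, Polynomial.coeff_map, eq_intCast]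
    simp only [hm]
    simp only [mul_ite, mul_one, mul_zero, Finset.sum_ite_eq, Finset.mem_range]
    split_ifs with hj
    · refine Finset.sum_congr rfl fun k _ => ?_
      rw [show r - 1 = r + (-1) from sub_eq_add_neg r 1, add_pow, Finset.mul_sum, Finset.smul_sum]
      refine Finset.sum_congr rfl fun u hu => ?_
      have hu' : u ≤ k := Nat.lt_succ_iff.mp (Finset.mem_range.mp hu)
      rw [show ((k.choose u : ℕ) : R) =
        algebraMap ℚ R ((k.factorial : ℚ) / ((u.factorial : ℚ) * ((k - u).factorial : ℚ))) by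
          rw [← Nat.cast_choose ℚ hu', map_natCast]]
      rw [Algebra.smul_def, Algebra.smul_def, ← map_intCast (algebraMap ℚ R), show ((-1 : R)) ^ (k - u) = algebraMap ℚ R ((-1) ^ (k - u)) by simp]
      rw [show ∀ a b c d e : R, a * (b * (e * c * d)) = (a * b * c * d) * e from fun a b c d e => by ring]
      simp only [← map_mul]
      congr 2
      have hk0 : (k.factorial : ℚ) ≠ 0 := Nat.cast_ne_zero.mpr (Nat.factorial_ne_zero k)
      push_cast
      field_simp
    · refine Finset.sum_eq_zero fun k hk => ?_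
      have : (descPochhammer ℤ k).coeff j = 0 := Polynomial.coeff_eq_zero_of_natDegree_lt (by
        rw [descPochhammer_natDegree]
        exact lt_of_lt_of_le (Finset.mem_range.mp hk) (not_lt.mp hj))
      simp [this]

end Groth.Agent.S17875
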