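import Groth.Statements.S17877
import Groth.Agent.Misc13.KaehlerGen

set_option autoImplicit false
universe u
open GRRSing

namespace Groth.Agent.S17877

/-- Let K be a field with algebraic closure K̄ and Z = Spec A an affine scheme of finite type over K of
dimension d whose geometric fibre Spec (K̄ ⊗_K A) is integral with at most hypersurface
singularities (at every prime the embedding dimension of the local ring, the dimension of 𝔪/𝔪² over
the residue field, is at most the height of the prime plus one). Then for every prime p of A the
(Ω_{A/K})_p is generated over A_p by at most d + 1 elements. (The published statement is for any Z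
of finite type over K; the assertion is local on Z and the hypotheses pass to affine opens.) -/
theorem result
    {K : Type u} [Field K] {A : Type u} [CommRing A] [Algebra K A] [Algebra.FiniteType K A]
    [IsDomain (TensorProduct K (AlgebraicClosure K) A)]
    (hhyp : ∀ (q : Ideal (TensorProduct K (AlgebraicClosure K) A)) [q.IsPrime],
      (Module.finrank (IsLocalRing.ResidueField (Localization.AtPrime q))
          (IsLocalRing.CotangentSpace (Localization.AtPrime q)) : ℕ∞) ≤ q.height + 1)
    (d : ℕ) (hd : ringKrullDim A = d) (p : Ideal A) [p.IsPrime] :
    ∃ s : Finset (LocalizedModule p.primeCompl (KaehlerDifferential K A)),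
      s.card ≤ d + 1 ∧ Submodule.span (Localization.AtPrime p) (s : Set (LocalizedModule p.primeCompl (KaehlerDifferential K A))) = ⊤ := by
  exact Groth.Misc13.KaehlerGen.main (K := K) (Kb := AlgebraicClosure K) hhyp d hd p

end Groth.Agent.S17877
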