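import Groth.Statements.S17878
import Mathlib.Analysis.SpecificLimits.Normed
import Mathlib.Data.Nat.Choose.Sum
import Mathlib.Data.Nat.Choose.Cast
import Mathlib.Algebra.BigOperators.Field

set_option autoImplicit false
universe u
open Filter Topology
open GRRSing

namespace Groth.Agent.S17878

/-- Let T be a nonzero commutative normed ℂ-algebra such that the map ℂ → T/nilradical(T) is surjective,
let P = Σ_j d_j x ^ j be a polynomial over T and put h_k = P(k). Let E_0, E_1, … be the rational
numbers with 2/(e^t + 1) = Σ_j E_j t ^ j / j! (so E_0 = 1, E_1 = -1/2). Then for every complex y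
with |y| < 1 the series Σ_k h_k y ^ k converges in T, and as y → -1 along real y in (-1, 1) its sum
tends to (1/2) Σ_j E_j d_j. (The published statement allows any norm topology on T as a complex
vector space; this row takes T a normed ℂ-algebra.) -/
theorem result {T : Type u} [NormedCommRing T] [NormedAlgebra ℂ T] [Nontrivial T]
    (hT : Function.Surjective (algebraMap ℂ (T ⧸ nilradical T)))
    (E : ℕ → ℚ) (hE : PowerSeries.mk (fun j => E j / (j.factorial : ℚ)) * (PowerSeries.exp ℚ + 1) = 2)
    (P : Polynomial T) :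
    (∀ y : ℂ, ‖y‖ < 1 → Summable (fun k : ℕ => y ^ k • P.eval (k : T))) ∧
    Tendsto (fun y : ℝ => ∑' k : ℕ, ((y : ℂ) ^ k) • P.eval (k : T)) (𝓝[Set.Ioo (-1 : ℝ) 1] (-1 : ℝ))
      (𝓝 ((2 : ℂ)⁻¹ • ∑ j ∈ Finset.range (P.natDegree + 1), ((E j : ℚ) : ℂ) • P.coeff j)) := by
  classical
  have hsum : ∀ (j : ℕ) (y : ℂ), ‖y‖ < 1 → Summable (fun k : ℕ => (k : ℂ) ^ j * y ^ k) := fun j y hy =>
    summable_pow_mul_geometric_of_norm_lt_one j hy
  set f : ℕ → ℂ → ℂ := fun j y => ∑' k : ℕ, (k : ℂ) ^ j * y ^ k with hf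
  have hterm : ∀ (y : ℂ) (k : ℕ), y ^ k • P.eval (k : T) =
      ∑ j ∈ Finset.range (P.natDegree + 1), ((k : ℂ) ^ j * y ^ k) • P.coeff j := by
    intro y k
    rw [Polynomial.eval_eq_sum_range, Finset.smul_sum]
    refine Finset.sum_congr rfl fun j _ => ?_
    rw [mul_comm ((k : ℂ) ^ j), ← smul_smul]
    congr 1
    rw [Algebra.smul_def, map_pow, map_natCast, mul_comm]
  have hfe : ∀ (j : ℕ) (y : ℂ), ‖y‖ < 1 →
      f j y * (1 - y) = (if j = 0 then 1 else 0) + y * ∑ i ∈ Finset.range j, (j.choose i : ℂ) * f i y := by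
    intro j y hy
    have h1 : f j y = (0 : ℂ) ^ j + ∑' k : ℕ, ((k + 1 : ℕ) : ℂ) ^ j * y ^ (k + 1) := by
      simp only [hf]
      rw [(hsum j y hy).tsum_eq_zero_add]
      simp
    have h2 : (∑' k : ℕ, ((k + 1 : ℕ) : ℂ) ^ j * y ^ (k + 1)) =
        y * ∑ i ∈ Finset.range (j + 1), (j.choose i : ℂ) * f i y := by
      simp only [hf, ← tsum_mul_left]
      rw [← Summable.tsum_finsetSum (fun i _ => (hsum i y hy).mul_left _), ← tsum_mul_left]
      refine tsum_congr fun k => ?_
      push_cast
      rw [add_pow, Finset.sum_mul, Finset.mul_sum]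
      refine Finset.sum_congr rfl fun i _ => ?_
      ring
    rw [h2, Finset.sum_range_succ, Nat.choose_self, Nat.cast_one, one_mul, zero_pow_eq] at h1
    linear_combination h1
  have hL : ∀ j, Tendsto (fun y : ℝ => f j (y : ℂ)) (𝓝[Set.Ioo (-1 : ℝ) 1] (-1 : ℝ))
      (𝓝 (((E j : ℚ) : ℂ) / 2)) := by
    intro j
    induction j using Nat.strong_induction_on with
    | _ j ih =>
      have hrec : ((E j : ℚ) : ℂ) / 2 =
          ((if j = 0 then 1 else 0) + (-1 : ℂ) * ∑ i ∈ Finset.range j, (j.choose i : ℂ) * (((E i : ℚ) : ℂ) / 2)) /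
            (1 - (-1)) := by
        have h := congrArg (PowerSeries.coeff j) hE
        rw [show (2 : PowerSeries ℚ) = PowerSeries.C 2 from (map_ofNat PowerSeries.C 2).symm,
          mul_add, mul_one, map_add, PowerSeries.coeff_mul,
          Finset.Nat.sum_antidiagonal_eq_sum_range_succ_mk, PowerSeries.coeff_C,
          Finset.sum_range_succ] at h
        simp only [PowerSeries.coeff_mk, PowerSeries.coeff_exp, Algebra.algebraMap_self, RingHom.id_apply,
          Nat.sub_self, Nat.factorial_zero, Nat.cast_one, div_one, mul_one] at h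
        have hj : (j.factorial : ℚ) ≠ 0 := by exact_mod_cast j.factorial_ne_zero
        have h' : (∑ i ∈ Finset.range j, (j.choose i : ℚ) * E i) + 2 * E j = if j = 0 then 2 else 0 := by
          have h3 := congrArg (fun r => r * (j.factorial : ℚ)) h
          simp only [add_mul, Finset.sum_mul, div_mul_cancel₀ _ hj] at h3
          have h4 : ∀ i ∈ Finset.range j,
              E i / (i.factorial : ℚ) * (1 / ((j - i).factorial : ℚ)) * (j.factorial : ℚ) = (j.choose i : ℚ) * E i := by
            intro i hi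
            rw [Nat.cast_choose ℚ (Finset.mem_range.1 hi).le]
            field_simp
          rw [Finset.sum_congr rfl h4] at h3
          rcases eq_or_ne j 0 with rfl | hj0
          · simp at h3 ⊢; linarith
          · rw [if_neg hj0] at h3 ⊢; linarith
        have h'' := congrArg (fun r : ℚ => (r : ℂ)) h'
        simp only [Rat.cast_add, Rat.cast_mul, Rat.cast_sum, Rat.cast_natCast, apply_ite (fun r : ℚ => (r : ℂ)),
          Rat.cast_ofNat, Rat.cast_zero] at h''
        simp only [← mul_div_assoc, ← Finset.sum_div]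
        split_ifs at h'' ⊢ <;> linear_combination (1 / 4 : ℂ) * h''
      rw [hrec]
      have hy : Tendsto (fun y : ℝ => (y : ℂ)) (𝓝[Set.Ioo (-1 : ℝ) 1] (-1 : ℝ)) (𝓝 (-1 : ℂ)) :=
        (Complex.continuous_ofReal.tendsto' _ _ (by simp)).mono_left nhdsWithin_le_nhds
      have hG : Tendsto (fun y : ℝ => ((if j = 0 then (1 : ℂ) else 0) +
          (y : ℂ) * ∑ i ∈ Finset.range j, (j.choose i : ℂ) * f i y) / (1 - (y : ℂ)))
          (𝓝[Set.Ioo (-1 : ℝ) 1] (-1 : ℝ))
          (𝓝 (((if j = 0 then 1 else 0) + (-1 : ℂ) * ∑ i ∈ Finset.range j, (j.choose i : ℂ) * (((E i : ℚ) : ℂ) / 2)) /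
            (1 - (-1)))) :=
        ((tendsto_const_nhds.add (hy.mul (tendsto_finsetSum _ fun i hi =>
          (ih i (Finset.mem_range.1 hi)).const_mul _))).div (tendsto_const_nhds.sub hy) (by norm_num))
      refine hG.congr' ?_
      filter_upwards [self_mem_nhdsWithin] with y hy'
      have hne : (1 - (y : ℂ)) ≠ 0 := by
        rw [sub_ne_zero]; intro h
        have : (1 : ℝ) = y := by exact_mod_cast h
        linarith [hy'.2]
      rw [← hfe j y (by rw [Complex.norm_real, Real.norm_eq_abs, abs_lt]; exact hy'), mul_div_assoc,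
        div_self hne, mul_one]
  refine ⟨fun y hy => ?_, ?_⟩
  · simp only [hterm]
    exact summable_sum fun j _ => (hsum j y hy).smul_const _
  · have hlim : Tendsto (fun y : ℝ => ∑ j ∈ Finset.range (P.natDegree + 1), f j (y : ℂ) • P.coeff j)
        (𝓝[Set.Ioo (-1 : ℝ) 1] (-1 : ℝ))
        (𝓝 ((2 : ℂ)⁻¹ • ∑ j ∈ Finset.range (P.natDegree + 1), ((E j : ℚ) : ℂ) • P.coeff j)) := by
      rw [Finset.smul_sum]
      refine tendsto_finsetSum _ fun j _ => ?_
      rw [smul_smul, inv_mul_eq_div]
      exact (hL j).smul_const _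
    refine hlim.congr' ?_
    filter_upwards [self_mem_nhdsWithin] with y hy'
    have hy : ‖(y : ℂ)‖ < 1 := by rw [Complex.norm_real, Real.norm_eq_abs, abs_lt]; exact hy'
    simp only [hterm]
    rw [Summable.tsum_finsetSum (fun j _ => (hsum j _ hy).smul_const _)]
    exact Finset.sum_congr rfl fun j _ => ((hsum j _ hy).tsum_smul_const _).symm

end Groth.Agent.S17878
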