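import Groth.Statements.S17879
import Groth.Agent.NagComp.Nagata
import Groth.Agent.Limits.RelApproxCor

set_option autoImplicit false
universe u
open CategoryTheory AlgebraicGeometry
open Lim

namespace Groth.Agent.S17879

/-- Let f : Y → X be a morphism of schemes with X and Y quasi-compact and quasi-separated. Then f is
separated if and only if it is the composite of an affine morphism Y → Z and a proper morphism Z →
X, for some scheme Z. -/
theorem result {X Y : Scheme.{u}} (f : Y ⟶ X)
    [CompactSpace X] [QuasiSeparatedSpace X] [CompactSpace Y] [QuasiSeparatedSpace Y] :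
    IsSeparated f ↔
      ∃ (Z : Scheme.{u}) (g : Y ⟶ Z) (h : Z ⟶ X), IsAffineHom g ∧ IsProper h ∧ g ≫ h = f := by
  constructor
  · intro hf
    obtain ⟨Z₀, g, h, hg, hlfp, hqc, -, hsep, hgh⟩ := Groth.Limits.exists_affine_fp_factorization f
    haveI := hsep hf
    haveI : LocallyOfFiniteType h := inferInstance
    obtain ⟨Zc, j, π, hj, hπ, hjπ⟩ := Groth.NagComp.hasCompactification h
    haveI : CompactSpace Z₀ := QuasiCompact.compactSpace_of_compactSpace h
    haveI : CompactSpace Zc := QuasiCompact.compactSpace_of_compactSpace π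
    haveI : QuasiSeparatedSpace Zc := quasiSeparatedSpace_of_quasiSeparated π
    obtain ⟨N, hN, hNs⟩ := Groth.FlatMorOne.exists_ftIdeal_support_eq (X := Zc)
      ⟨(j.opensRange : Set Zc)ᶜ, j.opensRange.2.isClosed_compl⟩
      (show IsCompact ((j.opensRange : Set Zc)ᶜ)ᶜ by
        rw [compl_compl]; exact isCompact_range j.continuous)
    have hadm : BlowUp.IsAdmissibleFor j.opensRange N := ⟨hN, by rw [hNs]; exact disjoint_compl_left⟩
    obtain ⟨Z, b, hb⟩ := Groth.BlowUpBasics.exists_isBlowUp Zc N
    haveI := Groth.HTopHyper.isProper_of_isBlowUp hb hN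
    obtain ⟨j', hj', hjb⟩ := Groth.NagComp.exists_lift_of_blowUp j hb hadm
    let O := Groth.Divisors.complOpens (N.comap b)
    haveI : IsAffineHom O.ι :=
      Groth.Divisors.isAffineHom_compl (Groth.Divisors.isLocPrincipal_of_isEffCartier hb.1)
    haveI := Groth.BlowUpBasics.isIso_morphismRestrict hb _ hadm.2
    have hO : Set.range j' = Set.range O.ι := by
      rw [Scheme.Opens.range_ι]
      refine Set.Subset.antisymm ?_ fun y hy => ?_
      · rintro _ ⟨z, rfl⟩ hm
        rw [Scheme.IdealSheafData.support_comap] at hm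
        exact hNs.le hm ⟨z, congr($(hjb.symm) z)⟩
      · have hyR : b y ∈ j.opensRange := by
          by_contra hn
          refine hy ?_
          rw [Scheme.IdealSheafData.support_comap]
          exact hNs.ge hn
        obtain ⟨z, hz⟩ := id hyR
        have hz' : b (j' z) = b y :=
          ((Scheme.Hom.comp_apply _ _ _).symm.trans (congr($hjb z))).trans hz
        refine ⟨z, congrArg Subtype.val ((b ∣_ j.opensRange).isOpenEmbedding.injective
          (a₁ := ⟨j' z, show b (j' z) ∈ j.opensRange from hz'.symm ▸ hyR⟩) (a₂ := ⟨y, hyR⟩)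
          (Subtype.ext ?_))⟩
        rw [morphismRestrict_base]
        exact hz'
    haveI : IsAffineHom j' := by
      rw [← IsOpenImmersion.isoOfRangeEq_hom_fac j' O.ι hO]
      infer_instance
    exact ⟨Z, g ≫ j', b ≫ π, inferInstance, inferInstance,
      by rw [Category.assoc, reassoc_of% hjb, hjπ, hgh]⟩
  · rintro ⟨Z, g, h, hg, hh, rfl⟩
    infer_instance

end Groth.Agent.S17879
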