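import Groth.Statements.S1788
import Groth.Agent.DualCore.FibreRings
import Groth.Agent.Gorenstein.Basic

set_option autoImplicit false
universe u
open CategoryTheory
attribute [local instance] HasDerivedCategory.standard
open scoped TensorProduct
open Dual

namespace Groth.Agent.S1788

/-- Let A → B be a faithfully flat finite type homomorphism of Noetherian rings all of whose fibre rings
B ⊗_A κ(p) are Gorenstein, and K an object of D(A). Assuming the derived base change functor D(A) →
D(B) exists, K is a dualizing complex for A if and only if its base change is a dualizing complex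
for B. -/
theorem result (A B : Type u) [CommRing A] [CommRing B] [Algebra A B] [IsNoetherianRing A] [IsNoetherianRing B] [Module.FaithfullyFlat A B] [Algebra.FiniteType A B] (hG : ∀ p : PrimeSpectrum A, LocCoh.IsGorensteinRing (B ⊗[A] p.asIdeal.ResidueField)) [DRing.HasLBaseChange (algebraMap A B)] (K : Dual.D A) : Dual.IsDualizing A K ↔ Dual.IsDualizing B ((DRing.LBaseChange (algebraMap A B)).obj K) := by
  refine ⟨fun h => ?_, fun h => ?_⟩
  · obtain ⟨N, hN⟩ := Groth.DualCore.exists_fibre_dim_bound A B
    refine Groth.DualCore.isDualizing_of_iso ((Groth.DualCore.LBaseChangeIso A B).app K).symm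
      (Groth.DualCore.isDualizing_extD_of_gorenstein_fibre h N (fun p _ => hN p) fun p _ Q _ => ?_)
    let e : (B ⊗[A] p.ResidueField) ≃+* p.Fiber B := (Algebra.TensorProduct.comm A B p.ResidueField).toRingEquiv
    haveI := (hG ⟨p, inferInstance⟩).isGorensteinLocalRing_localization (Q.comap e.toRingHom)
    obtain ⟨k, hk⟩ := (GrothGoren.isGorenstein_iff (Localization.AtPrime (Q.comap e.toRingHom))).1 inferInstance
    refine (GrothGoren.exists_injLT_iff_of_ringEquiv (IsLocalization.ringEquivOfRingEquiv
      (M := (Q.comap e.toRingHom).primeCompl) (T := Q.primeCompl) (Localization.AtPrime (Q.comap e.toRingHom)) (Localization.AtPrime Q) e ?_)).1 ⟨k, hk⟩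
    ext x
    constructor
    · rintro ⟨y, hy, rfl⟩
      exact hy
    · intro hx
      exact ⟨e.symm x, fun hm => hx (by simpa using hm), e.apply_symm_apply x⟩
  · exact Groth.DualCore.isDualizing_of_faithfullyFlat B K
      (Groth.DualCore.isDualizing_of_iso ((Groth.DualCore.LBaseChangeIso A B).app K) h)

end Groth.Agent.S1788
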