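import Groth.Statements.S17881
import Mathlib

set_option autoImplicit false
universe u
open CAlg

namespace Groth.Agent.S17881

/-- Let O be a subring of a nontrivial commutative ring A. The following are equivalent: (i) A is a
local ring, every non-unit of A belongs to O, and for every unit u of A one of u, u⁻¹ belongs to O —
equivalently O is the preimage in the local ring A of a valuation ring of the residue field of A,
which makes O a semi-valuation ring with semi-fraction ring A; (ii) for all f, g in A generating the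
unit ideal, either f ∈ gO or g ∈ fO. (A is taken nontrivial: over the zero ring (ii) holds and (i)
fails.) -/
theorem result (A : Type u) [CommRing A] [Nontrivial A]
    (O : Subring A) :
    (IsLocalRing A ∧ (∀ a : A, ¬ IsUnit a → a ∈ O) ∧ (∀ u : Aˣ, (u : A) ∈ O ∨ ((u⁻¹ : Aˣ) : A) ∈ O)) ↔
      ∀ f g : A, IsCoprime f g → (∃ o ∈ O, f = g * o) ∨ (∃ o ∈ O, g = f * o) := by
  constructor
  · rintro ⟨hloc, hnon, hu⟩ f g ⟨a, b, hab⟩
    have key : ∀ f g : A, IsUnit g → (∃ o ∈ O, f = g * o) ∨ (∃ o ∈ O, g = f * o) := by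
      intro f g hg
      obtain ⟨v, rfl⟩ := hg
      by_cases hf : IsUnit f
      · obtain ⟨w, rfl⟩ := hf
        rcases hu (v⁻¹ * w) with h | h
        · exact Or.inl ⟨_, h, by simp⟩
        · exact Or.inr ⟨_, h, by simp⟩
      · exact Or.inl ⟨((v⁻¹ : Aˣ) : A) * f, hnon _ fun h => hf (isUnit_of_mul_isUnit_right h), by simp⟩
    rcases IsLocalRing.isUnit_or_isUnit_of_add_one hab with h | h
    · exact (key g f (isUnit_of_mul_isUnit_right h)).symm
    · exact key f g (isUnit_of_mul_isUnit_right h)
  · intro h
    have h1 : ∀ a : A, a ∈ O ∨ ∃ o ∈ O, 1 = a * o := fun a => by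
      rcases h a 1 isCoprime_one_right with ⟨o, ho, rfl⟩ | h'
      · exact Or.inl (by simpa using ho)
      · exact Or.inr h'
    refine ⟨IsLocalRing.of_isUnit_or_isUnit_one_sub_self fun a => ?_, fun a ha => ?_, fun v => ?_⟩
    · rcases h a (1 - a) ⟨1, 1, by ring⟩ with ⟨o, -, ho⟩ | ⟨o, -, ho⟩
      · exact Or.inr (IsUnit.of_mul_eq_one (1 + o) (by rw [mul_add, mul_one, ← ho]; ring))
      · exact Or.inl (IsUnit.of_mul_eq_one (1 + o) (by rw [mul_add, mul_one, ← ho]; ring))
    · rcases h1 a with h' | ⟨o, -, ho⟩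
      · exact h'
      · exact absurd (IsUnit.of_mul_eq_one o ho.symm) ha
    · rcases h1 v with h' | ⟨o, ho, he⟩
      · exact Or.inl h'
      · right
        rw [Units.inv_eq_of_mul_eq_one_right he.symm]
        exact ho

end Groth.Agent.S17881
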