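import Groth.Statements.S17882
import Mathlib

set_option autoImplicit false
universe u
open CAlg

namespace Groth.Agent.S17882

/-- Let B be a commutative ring, r ≥ 1, N a finitely generated submodule of B^r, and n_1, …, n_r ∈ N.
Suppose the determinant of the matrix with rows n_1, …, n_r is a nonzerodivisor of B and that the
determinant of every matrix whose rows lie in N is a multiple of it (the image of the top exterior
power of N in that of B^r ≅ B is the principal ideal generated by n_1 ∧ ⋯ ∧ n_r, a nonzerodivisor).
Then n_1, …, n_r are linearly independent over B and span N: N is free of rank r with this basis. -/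
theorem result (B : Type u) [CommRing B] (r : ℕ) (hr : 0 < r)
    (N : Submodule B (Fin r → B)) (hN : N.FG) (n : Fin r → (Fin r → B)) (hn : ∀ i, n i ∈ N)
    (hgen : ∀ m : Fin r → (Fin r → B), (∀ i, m i ∈ N) →
      Matrix.det (Matrix.of m) ∈ Ideal.span {Matrix.det (Matrix.of n)})
    (hnzd : Matrix.det (Matrix.of n) ∈ nonZeroDivisors B) :
    LinearIndependent B n ∧ Submodule.span B (Set.range n) = N := by
  classical
  set d := Matrix.det (Matrix.of n) with hd
  have hcramer : ∀ v : Fin r → B, ∀ c : Fin r → B, (Matrix.of n).transpose.mulVec c = v → d • c = (Matrix.of n).transpose.cramer v := by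
    intro v c hc
    rw [Matrix.cramer_eq_adjugate_mulVec, ← hc, Matrix.mulVec_mulVec, Matrix.adjugate_mul,
      Matrix.smul_mulVec, Matrix.one_mulVec, Matrix.det_transpose]
  have hlin : ∀ c : Fin r → B, (Matrix.of n).transpose.mulVec c = ∑ i, c i • n i := by
    intro c
    ext j
    simp [Matrix.mulVec, dotProduct, Finset.sum_apply, mul_comm]
  have hnd : ∀ x : B, d * x = 0 → x = 0 := fun x hx => (mem_nonZeroDivisors_iff.1 hnzd).1 x hx
  refine ⟨Fintype.linearIndependent_iff.2 fun c hc i => ?_, le_antisymm ?_ ?_⟩
  · refine hnd _ ?_
    have := congrFun (hcramer 0 c ((hlin c).trans hc)) i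
    simpa using this
  · rw [Submodule.span_le]
    rintro _ ⟨i, rfl⟩
    exact hn i
  · intro m hm
    have hdvd : ∀ i, ∃ c, (Matrix.of n).transpose.cramer m i = d * c := by
      intro i
      rw [Matrix.cramer_apply, ← Matrix.det_transpose, Matrix.updateCol_transpose,
        Matrix.transpose_transpose]
      have h := hgen (Function.update n i m) (fun l => by
        rcases eq_or_ne l i with rfl | hl
        · rwa [Function.update_self]
        · rw [Function.update_of_ne hl]; exact hn l)
      exact Ideal.mem_span_singleton'.1 h |>.imp fun c hc => by rw [mul_comm]; exact hc.symm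
    choose c hc using hdvd
    have h1 : d • m = d • ∑ i, c i • n i := by
      calc d • m = (Matrix.of n).transpose.det • m := by rw [Matrix.det_transpose]
        _ = (Matrix.of n).transpose.mulVec ((Matrix.of n).transpose.cramer m) :=
          ((Matrix.of n).transpose.mulVec_cramer m).symm
        _ = _ := by
          rw [hlin, Finset.smul_sum]
          exact Finset.sum_congr rfl fun i _ => by rw [hc, mul_smul]
    have : m = ∑ i, c i • n i := funext fun j => sub_eq_zero.1 (hnd _ (by
      have := congrFun h1 j
      simp only [Pi.smul_apply, smul_eq_mul] at this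
      rw [mul_sub, this, sub_self]))
    rw [this]
    exact Submodule.sum_mem _ fun i _ => Submodule.smul_mem _ _ (Submodule.subset_span ⟨i, rfl⟩)

end Groth.Agent.S17882
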