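import Groth.Statements.S17883
import Groth.Agent.NagComp.LocFreeCompactify
-- import your own Groth.Agent.* helpers here

set_option autoImplicit false
universe u v
open CategoryTheory AlgebraicGeometry
open FlatMor

namespace Groth.Agent.S17883

/-- Let S be a Noetherian scheme and f : X → S a separated morphism of finite type, and let (E_i) be a
finite family of finite locally free O_X-modules. Then there exist a scheme X', an open immersion j
: X → X' with schematically dense image (scheme-theoretically dominant and quasi-compact) and a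
proper morphism g : X' → S with j ≫ g = f, and for each i a finite locally free module E'_i on X'
whose pullback along j is isomorphic to E_i. For the empty family this is Nagata's embedding into a
proper S-scheme with schematically dense image. -/
theorem result {S X : Scheme.{u}} (f : X ⟶ S)
    [IsNoetherian S] [IsSeparated f] [QuasiCompact f] [LocallyOfFiniteType f]
    {ι : Type v} [Finite ι] (E : ι → X.Modules) (hE : ∀ i, FlatMod.IsFinLocFree (E i)) :
    ∃ (X' : Scheme.{u}) (j : X ⟶ X') (g : X' ⟶ S), IsOpenImmersion j ∧ QuasiCompact j ∧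
      IsSchemeTheoreticallyDominant j ∧ IsProper g ∧ j ≫ g = f ∧
      ∀ i, ∃ E' : X'.Modules, FlatMod.IsFinLocFree E' ∧
        Nonempty ((Scheme.Modules.pullback j).obj E' ≅ E i) := by
  obtain ⟨P, j₀, g₀, -, hj₀, -, -, -, hg₀, hjg₀, -, -⟩ :=
    Groth.NagComp.exists_compactification_over f (𝟙 S) f (Category.comp_id f)
  haveI : IsLocallyNoetherian P := LocallyOfFiniteType.isLocallyNoetherian g₀
  haveI : CompactSpace P := QuasiCompact.compactSpace_of_compactSpace g₀
  haveI : AlgebraicGeometry.IsNoetherian P := ⟨⟩
  choose M hM hθ using fun i => Groth.NagComp.LocFreeExt.exists_coh_extension j₀ (E i) (hE i)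
  obtain ⟨P', b, j, D, hb, hP', hj, hjb, hD, hDs, -, -, -, hG⟩ :=
    Groth.NagComp.LocFreeExt.exists_blowUp_locFree j₀ M hM
      (fun i => Groth.KTheory.LocFree.isFinLocFree_of_iso (hθ i).some.symm (hE i))
  refine ⟨P', j, b ≫ g₀, hj, ?_,
    Groth.NagComp.LocFreeExt.isSchemeTheoreticallyDominant_of_boundary j hD hDs, inferInstance,
    by rw [← Category.assoc, hjb, hjg₀], fun i => ?_⟩
  · haveI : QuasiCompact j.opensRange.ι := inferInstance
    rw [← j.isoOpensRange_hom_ι]
    infer_instance
  obtain ⟨G, π, hGf, -, hiso⟩ := hG i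
  haveI := hiso
  exact ⟨G, hGf, ⟨(asIso ((Scheme.Modules.pullback j).map π)).symm ≪≫
    (Scheme.Modules.pullbackComp j b).app (M i) ≪≫ (Scheme.Modules.pullbackCongr hjb).app (M i) ≪≫
    (hθ i).some⟩⟩

end Groth.Agent.S17883
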