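import Groth.Statements.S17884
import Groth.Agent.NagComp.LocFreeCompactify
import Groth.Agent.S9706
import Groth.Agent.S9708
import Groth.Agent.S8910
import Groth.Agent.Ega2Proj.ClosedProj
import Groth.Agent.Chow.Projective
-- import your own Groth.Agent.* helpers here

set_option autoImplicit false
universe u v
open CategoryTheory AlgebraicGeometry
open FlatMor

namespace Groth.Agent.S17884

/-- Let S be a Noetherian scheme and f : X → S a separated quasi-projective morphism (of finite type,
with an f-ample invertible module), and let (E_i) be a finite family of finite locally free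
O_X-modules. Then there exist a scheme X', an open immersion j : X → X' with schematically dense
image and a projective morphism g : X' → S with j ≫ g = f, and for each i a finite locally free
module on X' whose pullback along j is isomorphic to E_i. -/
theorem result {S X : Scheme.{u}} (f : X ⟶ S)
    [IsNoetherian S] [IsSeparated f] (hf : RelProj.IsQuasiProjective f)
    {ι : Type v} [Finite ι] (E : ι → X.Modules) (hE : ∀ i, FlatMod.IsFinLocFree (E i)) :
    ∃ (X' : Scheme.{u}) (j : X ⟶ X') (g : X' ⟶ S), IsOpenImmersion j ∧ QuasiCompact j ∧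
      IsSchemeTheoreticallyDominant j ∧ RelProj.IsProjective g ∧ j ≫ g = f ∧
      ∀ i, ∃ E' : X'.Modules, FlatMod.IsFinLocFree E' ∧
        Nonempty ((Scheme.Modules.pullback j).obj E' ≅ E i) := by
  haveI := hf.1
  haveI := hf.2.1
  obtain ⟨P₁, j₁, g₁, hj₁, hg₁, hjg₁⟩ := Groth.Agent.S9706.result f hf
  haveI := hj₁
  haveI : IsProper g₁ := Groth.Chow.isProper_of_isProjective hg₁
  haveI : IsLocallyNoetherian P₁ := LocallyOfFiniteType.isLocallyNoetherian g₁
  haveI : CompactSpace P₁ := QuasiCompact.compactSpace_of_compactSpace g₁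
  haveI : AlgebraicGeometry.IsNoetherian P₁ := {}
  haveI : CompactSpace X := QuasiCompact.compactSpace_of_compactSpace f
  haveI : QuasiCompact j₁ := quasiCompact_of_compactSpace j₁
  haveI : IsOpenImmersion (j₁ ≫ 𝟙 P₁) := by rw [Category.comp_id]; infer_instance
  haveI := Groth.NagComp.isOpenImmersion_toImage (𝟙 P₁) j₁
  have hg₀ : RelProj.IsProjective (j₁.imageι ≫ g₁) :=
    Groth.Ega2Proj.ClosedProj.isProjective_comp_closedImmersion hg₁ j₁.imageι
  haveI : IsProper (j₁.imageι ≫ g₁) := Groth.Chow.isProper_of_isProjective hg₀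
  haveI : IsLocallyNoetherian j₁.image := LocallyOfFiniteType.isLocallyNoetherian (j₁.imageι ≫ g₁)
  haveI : CompactSpace j₁.image := QuasiCompact.compactSpace_of_compactSpace (j₁.imageι ≫ g₁)
  haveI : AlgebraicGeometry.IsNoetherian j₁.image := {}
  choose M hM hθ using fun i =>
    Groth.NagComp.LocFreeExt.exists_coh_extension j₁.toImage (E i) (hE i)
  obtain ⟨P', b, j, D, hb, hP', hj, hjb, hD, hDs, -, -, ⟨K, hbK, hK⟩, hG⟩ :=
    Groth.NagComp.LocFreeExt.exists_blowUp_locFree j₁.toImage M hM
      (fun i => Groth.KTheory.LocFree.isFinLocFree_of_iso (hθ i).some.symm (hE i))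
  have hproj : RelProj.IsProjective (b ≫ j₁.imageι ≫ g₁) :=
    Groth.Agent.S9708.result b (j₁.imageι ≫ g₁) (Groth.Agent.S8910.result K hK.1 b hbK) hg₀
  refine ⟨P', j, b ≫ j₁.imageι ≫ g₁, hj, ?_,
    Groth.NagComp.LocFreeExt.isSchemeTheoreticallyDominant_of_boundary j hD hDs, hproj,
    by rw [reassoc_of% hjb, Scheme.Hom.toImage_imageι_assoc, hjg₁], fun i => ?_⟩
  · haveI : QuasiCompact j.opensRange.ι := inferInstance
    rw [← j.isoOpensRange_hom_ι]
    infer_instance
  obtain ⟨G, π, hGf, -, hiso⟩ := hG i
  haveI := hiso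
  exact ⟨G, hGf, ⟨(asIso ((Scheme.Modules.pullback j).map π)).symm ≪≫
    (Scheme.Modules.pullbackComp j b).app (M i) ≪≫ (Scheme.Modules.pullbackCongr hjb).app (M i) ≪≫
    (hθ i).some⟩⟩

end Groth.Agent.S17884
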