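import Groth.Statements.S17885
import Groth.Agent.Limits.RelApproxCor

set_option autoImplicit false
universe u
open CategoryTheory AlgebraicGeometry
open Lim

namespace Groth.Agent.S17885

/-- Let f : Y → X be a morphism of schemes with X and Y quasi-compact and quasi-separated. Then f is
affine if and only if the X-scheme Y is a limit, in the category of schemes over X, of a filtered
inverse system of X-schemes that are affine and of finite presentation over X. -/
theorem result {X Y : Scheme.{u}} (f : Y ⟶ X)
    [CompactSpace X] [QuasiSeparatedSpace X] [CompactSpace Y] [QuasiSeparatedSpace Y] :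
    IsAffineHom f ↔
      ∃ (I : Type u) (_ : SmallCategory I) (_ : IsFiltered I) (D : Iᵒᵖ ⥤ Over X)
        (c : Limits.Cone D) (_ : Limits.IsLimit c),
        (∀ i, IsAffineHom (D.obj i).hom ∧ LocallyOfFinitePresentation (D.obj i).hom) ∧
        Nonempty (c.pt ≅ Over.mk f) := by
  constructor
  · intro hf
    obtain ⟨R, hR⟩ := Groth.Limits.exists_affineRelSystem f
    exact ⟨R.I, inferInstance, inferInstance, R.D, R.cone, R.isLimit,
      fun i => ⟨hR i, R.locallyOfFinitePresentation i⟩, ⟨Iso.refl _⟩⟩
  · rintro ⟨I, _, _, D, c, hc, hD, ⟨e⟩⟩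
    exact Groth.Limits.isAffineHom_of_isLimit D (fun i => (hD i).1) hc e

end Groth.Agent.S17885
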