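import Groth.Statements.S17886
import Groth.Agent.Chow.AffineImm
import Groth.Agent.Chow.Proj
import Groth.Agent.Chow.DenseAffine
-- import your own Groth.Agent.* helpers here

set_option autoImplicit false
universe u
open CategoryTheory AlgebraicGeometry
open FlatMor

namespace Groth.Agent.S17886

/-- Let S be a Noetherian scheme and f : X → S separated and of finite type. Then X is covered by
finitely many affine opens U_1, …, U_n each of which is dense in X and quasi-projective over S (of
finite type with a relatively ample invertible module). -/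
theorem result {S X : Scheme.{u}} (f : X ⟶ S)
    [IsNoetherian S] [IsSeparated f] [QuasiCompact f] [LocallyOfFiniteType f] :
    ∃ (n : ℕ) (U : Fin n → X.Opens), (⨆ i, U i) = ⊤ ∧
      ∀ i, IsAffineOpen (U i) ∧ Dense ((U i : Set X)) ∧ RelProj.IsQuasiProjective ((U i).ι ≫ f) := by
  classical
  haveI : IsLocallyNoetherian X := LocallyOfFiniteType.isLocallyNoetherian f
  haveI : CompactSpace X := QuasiCompact.compactSpace_of_compactSpace f
  haveI : AlgebraicGeometry.IsNoetherian X := {}
  choose V hVa hxV hVd using fun x => Groth.Chow.exists_dense_affine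
    (TopologicalSpace.NoetherianSpace.finite_irreducibleComponents (α := X)) x
  obtain ⟨t, ht⟩ := isCompact_univ.elim_finite_subcover (fun x => (V x : Set X)) (fun x => (V x).2)
    (fun x _ => Set.mem_iUnion.2 ⟨x, hxV x⟩)
  let e : Fin t.card ≃ t := t.equivFin.symm
  refine ⟨t.card, fun i => V (e i).1, eq_top_iff.2 fun y _ => ?_, fun i => ⟨hVa _, hVd _, ?_⟩⟩
  · obtain ⟨x, hx, hy⟩ := Set.mem_iUnion₂.1 (ht (Set.mem_univ y))
    obtain ⟨i, hi⟩ := e.surjective ⟨x, hx⟩
    exact TopologicalSpace.Opens.mem_iSup.2 ⟨i, by simp only [hi]; exact hy⟩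
  · haveI : IsAffine (V (e i).1 : Scheme.{u}) := hVa _
    haveI : QuasiCompact (V (e i).1).ι := inferInstance
    obtain ⟨m, j, hj, hjf⟩ := Groth.Chow.exists_immersion_projSpaceOver ((V (e i).1).ι ≫ f)
    exact Groth.Chow.isQuasiProjective_of_immersion (V (e i).1).ι f j hjf

end Groth.Agent.S17886
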