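import Groth.Statements.S17888
import Groth.Agent.NagComp.LocFreeCompactify
-- import your own Groth.Agent.* helpers here

set_option autoImplicit false
universe u
open CategoryTheory AlgebraicGeometry
open FlatMor

namespace Groth.Agent.S17888

/-- S is a Noetherian scheme and f : X → S is separated and of finite type; X is covered by two open
subschemes X₁ and X₂, both containing an open subscheme U that is schematically dense in X; and E₁
on X₁, E₂ on X₂ are finite locally free modules that become isomorphic after restricting to U. Then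
there exist a proper morphism π : X' → X which restricts to an isomorphism over U and under which
the preimage of U is schematically dense in X', and a finite locally free module E' on X' whose
restriction to π⁻¹(U) is isomorphic to the pullback of E₁|_U along π⁻¹(U) → U. -/
theorem result {S X : Scheme.{u}} (f : X ⟶ S)
    [IsNoetherian S] [IsSeparated f] [QuasiCompact f] [LocallyOfFiniteType f]
    (U X₁ X₂ : X.Opens) (hU₁ : U ≤ X₁) (hU₂ : U ≤ X₂) (hX : X₁ ⊔ X₂ = ⊤)
    [IsSchemeTheoreticallyDominant U.ι]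
    (E₁ : (↑X₁ : Scheme.{u}).Modules) (E₂ : (↑X₂ : Scheme.{u}).Modules)
    (hE₁ : FlatMod.IsFinLocFree E₁) (hE₂ : FlatMod.IsFinLocFree E₂)
    (φ : (Scheme.Modules.pullback (X.homOfLE hU₁)).obj E₁ ≅ (Scheme.Modules.pullback (X.homOfLE hU₂)).obj E₂) :
    ∃ (X' : Scheme.{u}) (π : X' ⟶ X) (E' : X'.Modules), IsProper π ∧ IsIso (π ∣_ U) ∧
      IsSchemeTheoreticallyDominant (π ⁻¹ᵁ U).ι ∧ FlatMod.IsFinLocFree E' ∧
      Nonempty ((Scheme.Modules.pullback (π ⁻¹ᵁ U).ι).obj E' ≅
        (Scheme.Modules.pullback (π ∣_ U ≫ X.homOfLE hU₁)).obj E₁) := by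
  haveI : IsLocallyNoetherian X := LocallyOfFiniteType.isLocallyNoetherian f
  haveI : CompactSpace X := QuasiCompact.compactSpace_of_compactSpace f
  haveI : AlgebraicGeometry.IsNoetherian X := {}
  have hE := Groth.LocFree.isFinLocFree_pullback (X.homOfLE hU₁) hE₁
  obtain ⟨M, hM, ⟨θ⟩⟩ := Groth.NagComp.LocFreeExt.exists_coh_extension U.ι _ hE
  obtain ⟨X', π, j, D, hb, -, hj, hjb, hD, hDs, hr, hiso, -, hG⟩ :=
    Groth.NagComp.LocFreeExt.exists_blowUp_locFree U.ι (fun _ : Unit => M) (fun _ => hM)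
      (fun _ => Groth.KTheory.LocFree.isFinLocFree_of_iso θ.symm hE)
  obtain ⟨G, p, hGf, -, hp⟩ := hG ()
  haveI := hp
  rw [Scheme.Opens.opensRange_ι] at hiso hr
  haveI := hiso
  have hd : IsSchemeTheoreticallyDominant (π ⁻¹ᵁ U).ι :=
    Groth.NagComp.LocFreeExt.isSchemeTheoreticallyDominant_of_boundary (π ⁻¹ᵁ U).ι hD
      (by rw [hDs, hr, Scheme.Opens.range_ι])
  let l : (↑U : Scheme.{u}) ⟶ ↑(π ⁻¹ᵁ U) := IsOpenImmersion.lift (π ⁻¹ᵁ U).ι j
    (by rw [Scheme.Opens.range_ι, ← hr])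
  have hl : l ≫ (π ⁻¹ᵁ U).ι = j := IsOpenImmersion.lift_fac _ _ _
  have hlr : l ≫ (π ∣_ U) = 𝟙 _ := by
    rw [← cancel_mono U.ι, Category.assoc, morphismRestrict_ι, reassoc_of% hl, hjb, Category.id_comp]
  have hjr : (π ∣_ U) ≫ j = (π ⁻¹ᵁ U).ι := by
    have : (π ∣_ U) ≫ l = 𝟙 _ := by
      rw [← cancel_mono (π ∣_ U), Category.assoc, hlr, Category.comp_id, Category.id_comp]
    rw [← hl, ← Category.assoc, this, Category.id_comp]
  exact ⟨X', π, G, hb, hiso, hd, hGf, ⟨(Scheme.Modules.pullbackCongr hjr).symm.app G ≪≫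
    ((Scheme.Modules.pullbackComp (π ∣_ U) j).app G).symm ≪≫
    (Scheme.Modules.pullback (π ∣_ U)).mapIso ((asIso ((Scheme.Modules.pullback j).map p)).symm ≪≫
      (Scheme.Modules.pullbackComp j π).app M ≪≫ (Scheme.Modules.pullbackCongr hjb).app M ≪≫ θ) ≪≫
    (Scheme.Modules.pullbackComp (π ∣_ U) (X.homOfLE hU₁)).app E₁⟩⟩

end Groth.Agent.S17888
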