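import Groth.Statements.S17889
import Groth.Agent.BlowUpBasics.Separate
import Groth.Agent.Divisors.BlowUpBasic
-- import your own Groth.Agent.* helpers here

set_option autoImplicit false
universe u
open CategoryTheory AlgebraicGeometry TopologicalSpace
open BlowUp

namespace Groth.Agent.S17889

/-- Let X be a Noetherian scheme, X₀ ⊆ X an open subscheme, p : Z → X a morphism of finite type with Z
Noetherian, and F ⊆ X, G ⊆ Z closed subsets with p⁻¹(F ∩ X₀) ∩ G = ∅. Let a be a quasi-coherent
ideal sheaf on X whose support does not meet X₀, which contains the vanishing ideal I_F of F, and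
which is contained in the kernel ideal of V(I_F·O_Z + I_G) → Z → X (the ideal of the
scheme-theoretic image under p of p⁻¹(F) ∩ G). Let π : X' → X be a blowing-up along a, Z' = Z ×_X X'
with projections π' : Z' → Z and p' : Z' → X'. Then p'⁻¹ of the closure in X' of π⁻¹(F ∩ X₀) is
disjoint from the closure in Z' of π'⁻¹(G ∩ p⁻¹(X₀)). Taking a to be that kernel ideal shows such an
a exists. -/
theorem result
    {X Z : Scheme.{u}} [IsNoetherian X] [IsNoetherian Z] (p : Z ⟶ X) [LocallyOfFiniteType p]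
    (X₀ : X.Opens) (F : Closeds X) (G : Closeds Z)
    (hFG : p.base ⁻¹' ((F : Set X) ∩ (X₀ : Set X)) ∩ (G : Set Z) = ∅)
    (𝔞 : X.IdealSheafData) (h₁ : Disjoint (𝔞.support : Set X) (X₀ : Set X))
    (h₂ : Scheme.IdealSheafData.vanishingIdeal F ≤ 𝔞)
    (h₃ : 𝔞 ≤ (((Scheme.IdealSheafData.vanishingIdeal F).comap p ⊔
      Scheme.IdealSheafData.vanishingIdeal G).subschemeι ≫ p).ker)
    {X' : Scheme.{u}} (π : X' ⟶ X) (hπ : BlowUp.IsBlowUp π 𝔞) :
    (Limits.pullback.snd p π).base ⁻¹' closure (π.base ⁻¹' ((F : Set X) ∩ (X₀ : Set X))) ∩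
      closure ((Limits.pullback.fst p π).base ⁻¹' ((G : Set Z) ∩ (p ⁻¹ᵁ X₀ : Set Z))) = ∅ := by
  set K := 𝔞.comap π
  set A := (Scheme.IdealSheafData.vanishingIdeal F).comap π
  set p' := Limits.pullback.snd p π
  set π' := Limits.pullback.fst p π
  have hZ : 𝔞.comap p ≤ (Scheme.IdealSheafData.vanishingIdeal F).comap p ⊔
      Scheme.IdealSheafData.vanishingIdeal G := Scheme.IdealSheafData.le_map_iff_comap_le.mp h₃
  have hincl : K.comap p' ≤ A.comap p' ⊔ (Scheme.IdealSheafData.vanishingIdeal G).comap π' := by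
    have h := Scheme.IdealSheafData.comap_mono π' hZ
    simp only at h
    rw [Scheme.IdealSheafData.comap_sup, ← Scheme.IdealSheafData.comap_comp,
      ← Scheme.IdealSheafData.comap_comp, Limits.pullback.condition, Scheme.IdealSheafData.comap_comp,
      Scheme.IdealSheafData.comap_comp] at h
    exact h
  have h := Groth.BlowUpBasics.disjoint_closure_of_le p' (A := A) (K := K) hπ.1
    (Scheme.IdealSheafData.comap_mono π h₂) hincl
    (S := π.base ⁻¹' ((F : Set X) ∩ (X₀ : Set X))) (R := π'.base ⁻¹' ((G : Set Z) ∩ (p ⁻¹ᵁ X₀ : Set Z)))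
    (fun y hy ↦ ⟨?_, ?_⟩) (fun w hw ↦ ⟨?_, ?_⟩)
  · exact Set.disjoint_iff_inter_eq_empty.mp h
  · rw [Scheme.IdealSheafData.support_comap]
    show π y ∈ ((Scheme.IdealSheafData.vanishingIdeal F).support : Set X)
    rw [Scheme.IdealSheafData.coe_support_vanishingIdeal]
    exact hy.1
  · rw [Scheme.IdealSheafData.support_comap]
    exact fun h' ↦ h₁.ne_of_mem h' hy.2 rfl
  · rw [Scheme.IdealSheafData.support_comap]
    show π' w ∈ ((Scheme.IdealSheafData.vanishingIdeal G).support : Set Z)
    rw [Scheme.IdealSheafData.coe_support_vanishingIdeal]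
    exact hw.1
  · rw [Scheme.IdealSheafData.support_comap]
    intro h'
    refine h₁.ne_of_mem h' (show π (p' w) ∈ (X₀ : Set X) from ?_) rfl
    rw [← Scheme.Hom.comp_apply, ← Limits.pullback.condition]
    exact hw.2

end Groth.Agent.S17889
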