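import Groth.Statements.S1789
import Groth.Agent.S1782
import Groth.Agent.DualCore.AtPrime
import Groth.Agent.DualCore.ShriekIndep
import Mathlib.RingTheory.Jacobson.Ring

set_option autoImplicit false
universe u
open CategoryTheory
attribute [local instance] HasDerivedCategory.standard
open Dual2

namespace Groth.Agent.S1789

set_option linter.style.haveILetI false in
open DerivedCategory in
/-- Maps from the residue field of a maximal ideal over the closed point into the shriek. -/
theorem subsingleton_hom_quotient {R A : Type u} [CommRing R] [CommRing A] [IsNoetherianRing R] [Algebra R A]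
    (n : ℕ) (ψ : MvPolynomial (Fin n) R →ₐ[R] A) (hψ : Function.Surjective ψ)
    [DRing.HasLBaseChange (algebraMap R (MvPolynomial (Fin n) R))]
    (Rψ : Dual.D (MvPolynomial (Fin n) R) ⥤ Dual.D A) (adj : DRing.restrictD ψ.toRingHom ⊣ Rψ)
    [IsLocalRing R] (m : Ideal A) [m.IsMaximal] (hm : m.comap (algebraMap R A) = IsLocalRing.maximalIdeal R)
    (ω : Dual.D R) (hω : Dual.IsDualizing R ω) (hn : Dual.IsNormalized R ω) (i : ℤ) (hi : i ≠ 0) :
    Subsingleton (Dual.inD A (A ⧸ m) ⟶ (Dual2.shriekVia n Rψ ω)⟦i⟧) := by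
  obtain ⟨a, b, ha, hb, hfin⟩ : ∃ a b : ℤ, IsGE ω a ∧ IsLE ω b ∧ ∀ j, Module.Finite R (Dual.HD R ω j) := by
    obtain ⟨a, b, ha, hb⟩ := Groth.DualCore.exists_bounds hω
    exact ⟨a, b, ha, hb, hω.finite_cohomology⟩
  let k := R ⧸ IsLocalRing.maximalIdeal R
  letI : Field k := Ideal.Quotient.field _
  letI : Field (A ⧸ m) := Ideal.Quotient.field _
  haveI : Algebra.FiniteType R A := Algebra.FiniteType.of_surjective ψ hψ
  haveI : Algebra.FiniteType R (A ⧸ m) :=
    Algebra.FiniteType.of_surjective (Ideal.Quotient.mkₐ R m) Ideal.Quotient.mk_surjective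
  have hker : ∀ r ∈ IsLocalRing.maximalIdeal R, algebraMap R (A ⧸ m) r = 0 := fun r hr =>
    Ideal.Quotient.eq_zero_iff_mem.2 (show r ∈ m.comap (algebraMap R A) from hm ▸ hr)
  letI : Algebra k (A ⧸ m) := (Ideal.Quotient.lift _ (algebraMap R (A ⧸ m)) hker).toAlgebra
  haveI : IsScalarTower R k (A ⧸ m) := IsScalarTower.of_algebraMap_eq fun _ => rfl
  haveI : Algebra.FiniteType k (A ⧸ m) := Algebra.FiniteType.of_restrictScalars_finiteType R k (A ⧸ m)
  haveI : Module.Finite k (A ⧸ m) := finite_of_finite_type_of_isJacobsonRing k (A ⧸ m)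
  haveI : Module.Finite R (A ⧸ m) := Module.Finite.trans k (A ⧸ m)
  have hdim : Module.supportDim R (A ⧸ m) ≤ ((0 : ℕ) : WithBot ℕ∞) := by
    refine iSup_le fun l => ?_
    by_contra hl
    have hl' : 0 < l.length := by
      rcases Nat.eq_zero_or_pos l.length with h | h
      · exact absurd (by rw [h]) hl
      · exact h
    have key : ∀ x : Module.support R (A ⧸ m), x.1.asIdeal = IsLocalRing.maximalIdeal R := fun x => by
      refine le_antisymm (IsLocalRing.le_maximalIdeal x.1.2.ne_top) fun r hr => ?_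
      refine Module.annihilator_le_of_mem_support x.2 (Module.mem_annihilator.2 fun v => ?_)
      show r • v = 0
      rw [Algebra.smul_def, hker r hr, zero_mul]
    exact absurd (Subtype.ext (PrimeSpectrum.ext ((key _).trans (key _).symm)))
      (l.strictMono (show (⟨0, by omega⟩ : Fin (l.length + 1)) < ⟨1, by omega⟩ from Nat.one_pos)).ne
  haveI := Groth.DualCore.subsingleton_hom_of_supportDim ω a hfin hn hdim i (by omega)
  -- the comparison
  let P := MvPolynomial (Fin n) R
  let χ : P →+* A ⧸ m := (Ideal.Quotient.mk m).comp ψ.toRingHom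
  let χP : R →+* A ⧸ m := algebraMap R (A ⧸ m)
  obtain ⟨E⟩ := Groth.DualCore.nonempty_homIso n (AlgEquiv.refl : P ≃ₐ[R] P) χ χP
    (RingHom.ext fun r => congrArg (Ideal.Quotient.mk m) (ψ.commutes r).symm)
    (fun j => RingHom.IsIntegral.of_finite (by
      rw [RingHom.finite_algebraMap]; infer_instance) _) ω
  obtain ⟨H⟩ := Groth.DualCore.nonempty_shriekHomIso n adj ω
  let r := DRing.restrictD (algebraMap A (A ⧸ m))
  let Z := (Dual.inD (A ⧸ m) (A ⧸ m))⟦-i⟧
  let eA : r.obj Z ≅ (Dual.inD A (A ⧸ m))⟦-i⟧ :=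
    (r.commShiftIso (-i)).app _ ≪≫ (shiftFunctor _ (-i)).mapIso (Groth.DualCore.resInD (A := A) (B := A ⧸ m) (A ⧸ m))
  let eR : (DRing.restrictD χP).obj Z ≅ (Dual.inD R (A ⧸ m))⟦-i⟧ :=
    ((DRing.restrictD χP).commShiftIso (-i)).app _ ≪≫
      (shiftFunctor _ (-i)).mapIso (Groth.DualCore.resInD (A := R) (B := A ⧸ m) (A ⧸ m))
  let eP : (DRing.restrictD ψ.toRingHom).obj (r.obj Z) ≅ (DRing.restrictD χ).obj Z :=
    (Groth.DualCore.restrictDComp ψ.toRingHom (algebraMap A (A ⧸ m)) χ rfl).symm.app Z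
  let e : (Dual.inD A (A ⧸ m) ⟶ (Dual2.shriekVia n Rψ ω)⟦i⟧) ≃ (Dual.inD R (A ⧸ m) ⟶ ω⟦i⟧) :=
    ((((shiftEquiv' (Dual.D A) (-i) i (neg_add_cancel i)).toAdjunction.homEquiv _ _).symm.trans
      ((Iso.homFromEquiv eA).symm.trans (H.equiv (r.obj Z)))).trans
      ((Iso.homFromEquiv eP).trans ((E.equiv Z).symm.trans (Iso.homFromEquiv eR)))).trans
      ((shiftEquiv' (Dual.D R) (-i) i (neg_add_cancel i)).toAdjunction.homEquiv _ _)
  exact e.subsingleton


/-- Let R → A be a ring map of finite type between Noetherian rings with R local, where φ^!(K) is formed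
from a presentation ψ : R[x_1, …, x_n] → A as RHom_P(A, K ⊗^L_R P)[n], assuming the derived base
change to P exists and taking for RHom_P(A, −) a right adjoint of restriction of scalars along ψ.
Let m be a maximal ideal of A lying over the maximal ideal of R and ω a normalized dualizing complex
for R. Assuming the derived base change D(A) → D(A_m) exists, the base change of φ^!(ω) to A_m is a
normalized dualizing complex for A_m. -/
theorem result (R A : Type u) [CommRing R] [CommRing A] [IsNoetherianRing R] [IsNoetherianRing A] [Algebra R A] (n : ℕ) (ψ : MvPolynomial (Fin n) R →ₐ[R] A) (hψ : Function.Surjective ψ) [DRing.HasLBaseChange (algebraMap R (MvPolynomial (Fin n) R))] (Rψ : Dual.D (MvPolynomial (Fin n) R) ⥤ Dual.D A) (adj : DRing.restrictD ψ.toRingHom ⊣ Rψ) [IsLocalRing R] (m : Ideal A) [m.IsMaximal] (hm : m.comap (algebraMap R A) = IsLocalRing.maximalIdeal R) (ω : Dual.D R) (hω : Dual.IsDualizing R ω) (hn : Dual.IsNormalized R ω) [DRing.HasLBaseChange (algebraMap A (Localization.AtPrime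 m))] : Dual.IsDualizing (Localization.AtPrime m) ((DRing.LBaseChange (algebraMap A (Localization.AtPrime m))).obj (Dual2.shriekVia n Rψ ω)) ∧ Dual.IsNormalized (Localization.AtPrime m) ((DRing.LBaseChange (algebraMap A (Localization.AtPrime m))).obj (Dual2.shriekVia n Rψ ω)) := by
  have hA := Groth.Agent.S1782.result R A n ψ hψ Rψ adj ω hω
  let e := (Groth.DualCore.LBaseChangeIso A (Localization.AtPrime m)).app (Dual2.shriekVia n Rψ ω)
  refine ⟨Groth.DualCore.isDualizing_of_iso e.symm (Groth.DualCore.isDualizing_atPrime m hA), fun i hi => ?_⟩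
  haveI : Subsingleton (Dual.inD (Localization.AtPrime m) (IsLocalRing.ResidueField (Localization.AtPrime m)) ⟶
      ((Groth.DualCore.extD A (Localization.AtPrime m)).obj (Dual2.shriekVia n Rψ ω))⟦i⟧) := by
    haveI := subsingleton_hom_quotient n ψ hψ Rψ adj m hm ω hω hn i hi
    rw [← not_nontrivial_iff_subsingleton, ← Groth.DualCore.hom_atPrime_residue_iff m hA i,
      not_nontrivial_iff_subsingleton]
    exact LocalizedModule.subsingleton_iff.2 fun x => ⟨1, one_mem _, Subsingleton.elim _ _⟩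
  exact (Iso.homToEquiv ((shiftFunctor _ i).mapIso e)).subsingleton


end Groth.Agent.S1789
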