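import Groth.Statements.S17890
import Groth.Agent.NagComp.GlueChart
import Groth.Agent.GrpschAbsch.SchDense
import Groth.Agent.Divisors.IdealComap
-- import your own Groth.Agent.* helpers here

set_option autoImplicit false
universe u
open CategoryTheory AlgebraicGeometry
open FlatMor

namespace Groth.Agent.S17890

open Limits in
/-- One composite of the two quasi-dominations is the inclusion. -/
theorem exists_lift {S X₁ X₂ U : Scheme.{u}}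
    (p₁ : X₁ ⟶ S) (p₂ : X₂ ⟶ S) [IsSeparated p₁]
    (j₁ : U ⟶ X₁) (j₂ : U ⟶ X₂) [IsOpenImmersion j₁] [IsSchemeTheoreticallyDominant j₁] [QuasiCompact j₁]
    (W₁ : X₁.Opens) (φ : (↑W₁ : Scheme.{u}) ⟶ X₂) (hφ : W₁.ι ≫ p₁ = φ ≫ p₂)
    (k₁ : U ⟶ ↑W₁) (hk₁ : k₁ ≫ W₁.ι = j₁) (hk₁' : k₁ ≫ φ = j₂)
    (W₂ : X₂.Opens) (ψ : (↑W₂ : Scheme.{u}) ⟶ X₁) (hψ : W₂.ι ≫ p₂ = ψ ≫ p₁)
    (k₂ : U ⟶ ↑W₂) (hk₂ : k₂ ≫ W₂.ι = j₂) (hk₂' : k₂ ≫ ψ = j₁) :
    ∃ a : (↑(φ ⁻¹ᵁ W₂) : Scheme.{u}) ⟶ ↑(ψ ⁻¹ᵁ W₁),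
      a ≫ (ψ ⁻¹ᵁ W₁).ι = φ ∣_ W₂ ∧ (φ ∣_ W₂) ≫ ψ = (φ ⁻¹ᵁ W₂).ι ≫ W₁.ι := by
  let V := φ ⁻¹ᵁ W₂
  have hr : Set.range k₁ ⊆ Set.range V.ι := by
    rintro _ ⟨x, rfl⟩
    rw [Scheme.Opens.range_ι]
    show φ (k₁ x) ∈ W₂
    rw [← Scheme.Hom.comp_apply, hk₁', ← hk₂]
    exact (k₂ x).2
  let l := IsOpenImmersion.lift V.ι k₁ hr
  have hl : l ≫ V.ι = k₁ := IsOpenImmersion.lift_fac _ _ _
  have H : IsPullback (𝟙 U) l j₁ (V.ι ≫ W₁.ι) := by
    refine ⟨⟨by rw [Category.id_comp, reassoc_of% hl, hk₁]⟩, ⟨PullbackCone.IsLimit.mk _ (fun c => c.fst)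
      (fun c => Category.comp_id _) (fun c => ?_)
      (fun c k hk _ => by rw [← hk, Category.comp_id])⟩⟩
    rw [← cancel_mono (V.ι ≫ W₁.ι), Category.assoc, reassoc_of% hl, hk₁, c.condition]
  haveI : IsSchemeTheoreticallyDominant l := IsSchemeTheoreticallyDominant.of_isPullback H
  have hlφ : l ≫ (φ ∣_ W₂) = k₂ := by
    rw [← cancel_mono W₂.ι, Category.assoc, morphismRestrict_ι, reassoc_of% hl, hk₁', hk₂]
  have he : (φ ∣_ W₂) ≫ ψ = V.ι ≫ W₁.ι := by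
    refine Groth.GrpschAbsch.ext_of_isSchemeTheoreticallyDominant p₁ ?_ l ?_
    · simp only [Category.assoc, hφ, ← hψ, morphismRestrict_ι_assoc, V]
    · rw [← Category.assoc, hlφ, hk₂', reassoc_of% hl, hk₁]
  refine ⟨IsOpenImmersion.lift (ψ ⁻¹ᵁ W₁).ι (φ ∣_ W₂) ?_, IsOpenImmersion.lift_fac _ _ _, he⟩
  rintro _ ⟨v, rfl⟩
  rw [Scheme.Opens.range_ι]
  show ψ ((φ ∣_ W₂) v) ∈ W₁
  rw [← Scheme.Hom.comp_apply, he]
  exact (V.ι v).2

/-- Let S be a Noetherian scheme, X₁ and X₂ separated S-schemes of finite type, and j₁ : U → X₁, j₂ : U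
→ X₂ open immersions over S with schematically dense images. Suppose X₁ quasi-dominates X₂ and X₂
quasi-dominates X₁ compatibly with U: there are schematically dense opens W₁ ⊆ X₁ and W₂ ⊆ X₂
through which j₁, j₂ factor, and S-morphisms φ : W₁ → X₂, ψ : W₂ → X₁ restricting to j₂ and j₁ on U,
whose graphs are closed subsets of X₁ ×_S X₂ and X₂ ×_S X₁. Then there exist a separated S-scheme Y
of finite type and open immersions i₁ : X₁ → Y, i₂ : X₂ → Y over S with j₁ ≫ i₁ = j₂ ≫ i₂, such that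
U → Y has schematically dense image. -/
theorem result {S X₁ X₂ U : Scheme.{u}} [IsNoetherian S]
    (p₁ : X₁ ⟶ S) (p₂ : X₂ ⟶ S) [IsSeparated p₁] [QuasiCompact p₁] [LocallyOfFiniteType p₁]
    [IsSeparated p₂] [QuasiCompact p₂] [LocallyOfFiniteType p₂]
    (j₁ : U ⟶ X₁) (j₂ : U ⟶ X₂) [IsOpenImmersion j₁] [IsOpenImmersion j₂]
    [IsSchemeTheoreticallyDominant j₁] [IsSchemeTheoreticallyDominant j₂] (hj : j₁ ≫ p₁ = j₂ ≫ p₂)
    (W₁ : X₁.Opens) [IsSchemeTheoreticallyDominant W₁.ι] (φ : (↑W₁ : Scheme.{u}) ⟶ X₂)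
    (hφ : W₁.ι ≫ p₁ = φ ≫ p₂)
    (hφc : IsClosed (Set.range (fun w => (Limits.pullback.lift W₁.ι φ hφ) w)))
    (k₁ : U ⟶ ↑W₁) (hk₁ : k₁ ≫ W₁.ι = j₁) (hk₁' : k₁ ≫ φ = j₂)
    (W₂ : X₂.Opens) [IsSchemeTheoreticallyDominant W₂.ι] (ψ : (↑W₂ : Scheme.{u}) ⟶ X₁)
    (hψ : W₂.ι ≫ p₂ = ψ ≫ p₁)
    (hψc : IsClosed (Set.range (fun w => (Limits.pullback.lift W₂.ι ψ hψ) w)))
    (k₂ : U ⟶ ↑W₂) (hk₂ : k₂ ≫ W₂.ι = j₂) (hk₂' : k₂ ≫ ψ = j₁) :
    ∃ (Y : Scheme.{u}) (q : Y ⟶ S) (i₁ : X₁ ⟶ Y) (i₂ : X₂ ⟶ Y), IsSeparated q ∧ QuasiCompact q ∧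
      LocallyOfFiniteType q ∧ IsOpenImmersion i₁ ∧ IsOpenImmersion i₂ ∧ i₁ ≫ q = p₁ ∧ i₂ ≫ q = p₂ ∧
      j₁ ≫ i₁ = j₂ ≫ i₂ ∧ QuasiCompact (j₁ ≫ i₁) ∧ IsSchemeTheoreticallyDominant (j₁ ≫ i₁) := by
  haveI : IsLocallyNoetherian X₁ := LocallyOfFiniteType.isLocallyNoetherian p₁
  haveI : CompactSpace X₁ := QuasiCompact.compactSpace_of_compactSpace p₁
  haveI : AlgebraicGeometry.IsNoetherian X₁ := {}
  haveI : IsLocallyNoetherian X₂ := LocallyOfFiniteType.isLocallyNoetherian p₂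
  haveI : CompactSpace X₂ := QuasiCompact.compactSpace_of_compactSpace p₂
  haveI : AlgebraicGeometry.IsNoetherian X₂ := {}
  haveI : QuasiCompact j₁ := by
    haveI : QuasiCompact j₁.opensRange.ι := inferInstance
    rw [← j₁.isoOpensRange_hom_ι]; infer_instance
  haveI : QuasiCompact j₂ := by
    haveI : QuasiCompact j₂.opensRange.ι := inferInstance
    rw [← j₂.isoOpensRange_hom_ι]; infer_instance
  obtain ⟨a, ha, haψ⟩ := exists_lift p₁ p₂ j₁ j₂ W₁ φ hφ k₁ hk₁ hk₁' W₂ ψ hψ k₂ hk₂ hk₂'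
  obtain ⟨c, hc, hcφ⟩ := exists_lift p₂ p₁ j₂ j₁ W₂ ψ hψ k₂ hk₂ hk₂' W₁ φ hφ k₁ hk₁ hk₁'
  have hca : c ≫ a = 𝟙 _ := by
    rw [← cancel_mono ((ψ ⁻¹ᵁ W₁).ι ≫ W₂.ι), Category.assoc, reassoc_of% ha, morphismRestrict_ι,
      reassoc_of% hc, hcφ, Category.id_comp]
  have hac : a ≫ c = 𝟙 _ := by
    rw [← cancel_mono ((φ ⁻¹ᵁ W₂).ι ≫ W₁.ι), Category.assoc, reassoc_of% hc, morphismRestrict_ι,
      reassoc_of% ha, haψ, Category.id_comp]
  haveI : IsIso a := ⟨c, hac, hca⟩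
  let g₁ := (φ ⁻¹ᵁ W₂).ι ≫ W₁.ι
  let g₂ := a ≫ (ψ ⁻¹ᵁ W₁).ι ≫ W₂.ι
  have hg₂ : g₂ = (φ ⁻¹ᵁ W₂).ι ≫ φ := by
    simp only [g₂]; rw [reassoc_of% ha, morphismRestrict_ι]
  have hg : g₁ ≫ p₁ = g₂ ≫ p₂ := by
    rw [hg₂]; simp only [g₁, Category.assoc, hφ]
  haveI : IsOpenImmersion g₂ := inferInstance
  haveI : IsOpenImmersion g₁ := inferInstance
  have hcl : IsClosed (Set.range (Limits.pullback.lift g₁ g₂ hg)) := by
    let γ := Limits.pullback.lift W₁.ι φ hφ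
    let δ := Limits.pullback.lift W₂.ι ψ hψ
    let σ := Limits.pullbackSymmetry p₁ p₂
    have e : Set.range (Limits.pullback.lift g₁ g₂ hg) =
        Set.range (fun w => γ w) ∩ σ.hom.base ⁻¹' Set.range (fun w => δ w) := by
      have h1 : Limits.pullback.lift g₁ g₂ hg = (φ ⁻¹ᵁ W₂).ι ≫ γ := by
        apply Limits.pullback.hom_ext
        · rw [Limits.pullback.lift_fst, Category.assoc, Limits.pullback.lift_fst]
        · rw [Limits.pullback.lift_snd, Category.assoc, Limits.pullback.lift_snd, hg₂]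
      have h2 : Limits.pullback.lift g₁ g₂ hg ≫ σ.hom = (φ ∣_ W₂) ≫ δ := by
        apply Limits.pullback.hom_ext
        · rw [Category.assoc, Limits.pullbackSymmetry_hom_comp_fst, Limits.pullback.lift_snd,
            Category.assoc, Limits.pullback.lift_fst, hg₂, morphismRestrict_ι]
        · rw [Category.assoc, Limits.pullbackSymmetry_hom_comp_snd, Limits.pullback.lift_fst,
            Category.assoc, Limits.pullback.lift_snd, haψ]
      ext z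
      constructor
      · rintro ⟨v, rfl⟩
        exact ⟨⟨(φ ⁻¹ᵁ W₂).ι v, congr($(h1.symm) v)⟩, ⟨(φ ∣_ W₂) v, congr($(h2.symm) v)⟩⟩
      · rintro ⟨⟨w, rfl⟩, ⟨w', hw'⟩⟩
        have e1 := congrArg (Limits.pullback.fst p₂ p₁) hw'
        rw [← Scheme.Hom.comp_apply, Limits.pullback.lift_fst, ← Scheme.Hom.comp_apply,
          Limits.pullbackSymmetry_hom_comp_fst, ← Scheme.Hom.comp_apply, Limits.pullback.lift_snd] at e1
        have hw : φ w ∈ W₂ := e1 ▸ w'.2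
        exact ⟨⟨w, hw⟩, congr($h1 ⟨w, hw⟩)⟩
    rw [e]
    exact hφc.inter (hψc.preimage σ.hom.continuous)
  let q := Limits.pushout.desc p₁ p₂ hg
  let i₁ := Limits.pushout.inl g₁ g₂
  let i₂ := Limits.pushout.inr g₁ g₂
  have hcov := Groth.LocImmersion.mem_range_inl_or_inr g₁ g₂
  haveI : IsSeparated q := Groth.LocImmersion.isSeparated_pushout g₁ g₂ p₁ p₂ hg hcl
  haveI : LocallyOfFiniteType q := by
    refine IsZariskiLocalAtSource.of_openCover (Groth.LocImmersion.coverTwo i₁ i₂ hcov) fun i => ?_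
    rcases i with ⟨_ | _⟩
    · show LocallyOfFiniteType (i₂ ≫ q)
      rw [Limits.pushout.inr_desc]; infer_instance
    · show LocallyOfFiniteType (i₁ ≫ q)
      rw [Limits.pushout.inl_desc]; infer_instance
  haveI : CompactSpace ↥(Limits.pushout g₁ g₂) := by
    refine ⟨?_⟩
    rw [show (Set.univ : Set ↥(Limits.pushout g₁ g₂)) = Set.range i₁ ∪ Set.range i₂ from
      (Set.eq_univ_of_forall hcov).symm]
    exact (isCompact_range i₁.continuous).union (isCompact_range i₂.continuous)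
  haveI : QuasiCompact q := quasiCompact_of_compactSpace q
  have hr : Set.range k₁ ⊆ Set.range (φ ⁻¹ᵁ W₂).ι := by
    rintro _ ⟨x, rfl⟩
    rw [Scheme.Opens.range_ι]
    show φ (k₁ x) ∈ W₂
    rw [← Scheme.Hom.comp_apply, hk₁', ← hk₂]
    exact (k₂ x).2
  let l := IsOpenImmersion.lift (φ ⁻¹ᵁ W₂).ι k₁ hr
  have hl : l ≫ (φ ⁻¹ᵁ W₂).ι = k₁ := IsOpenImmersion.lift_fac _ _ _
  have hji : j₁ ≫ i₁ = j₂ ≫ i₂ := by
    have h1 : l ≫ g₁ = j₁ := by simp only [g₁]; rw [reassoc_of% hl, hk₁]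
    have h2 : l ≫ g₂ = j₂ := by rw [hg₂, reassoc_of% hl, hk₁']
    rw [← h1, ← h2, Category.assoc, Category.assoc]
    exact congrArg (fun t => l ≫ t) Limits.pushout.condition
  haveI : IsLocallyNoetherian (Limits.pushout g₁ g₂) := LocallyOfFiniteType.isLocallyNoetherian q
  haveI : AlgebraicGeometry.IsNoetherian (Limits.pushout g₁ g₂) := {}
  haveI hqc : QuasiCompact (j₁ ≫ i₁) := by
    haveI : QuasiCompact (j₁ ≫ i₁).opensRange.ι := inferInstance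
    rw [← (j₁ ≫ i₁).isoOpensRange_hom_ι]; infer_instance
  refine ⟨_, q, i₁, i₂, inferInstance, inferInstance, inferInstance, inferInstance, inferInstance,
    Limits.pushout.inl_desc _ _ _, Limits.pushout.inr_desc _ _ _, hji, hqc,
    ⟨Groth.Divisors.ext_of_cover fun y => ?_⟩⟩
  have key : ∀ {Z : Scheme.{u}} (j : U ⟶ Z) (i : Z ⟶ Limits.pushout g₁ g₂) [IsOpenImmersion i]
      [IsSchemeTheoreticallyDominant j] [QuasiCompact j], j ≫ i = j₁ ≫ i₁ → y ∈ Set.range i →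
      ∃ V : (Limits.pushout g₁ g₂).affineOpens, y ∈ V.1 ∧
        (j₁ ≫ i₁).ker.ideal V = (⊥ : (Limits.pushout g₁ g₂).IdealSheafData).ideal V := by
    intro Z j i _ _ _ hji' hy
    obtain ⟨V, hyV, hV⟩ := Groth.Divisors.exists_affine_le y i.opensRange hy
    refine ⟨V, hyV, ?_⟩
    haveI := i.isIso_app V.1 hV
    rw [Scheme.Hom.ker_apply, Scheme.IdealSheafData.ideal_bot, Pi.bot_apply, ← RingHom.injective_iff_ker_eq_bot]
    have hinj : Function.Injective ((j ≫ i).app V.1) := by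
      rw [Scheme.Hom.comp_app]
      exact (j.app_injective _).comp (ConcreteCategory.bijective_of_isIso (i.app V.1)).1
    have gen : ∀ (f g : U ⟶ Limits.pushout g₁ g₂), f = g → Function.Injective (f.app V.1) →
        Function.Injective (g.app V.1) := by rintro f g rfl h; exact h
    exact gen _ _ hji' hinj
  rcases hcov y with hy | hy
  · exact key j₁ i₁ rfl hy
  · exact key j₂ i₂ hji.symm hy

end Groth.Agent.S17890
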