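import Groth.Statements.S17891
import Groth.Agent.Flatmor4.YTriv
import Groth.Agent.BlowUpBasics.StrictTransform
import Groth.Agent.S2331
import Groth.Agent.S2332
import Groth.Agent.S2355

set_option autoImplicit false
universe u
open CategoryTheory AlgebraicGeometry
open FlatMor

namespace Groth.Agent.S17891

/-- Here f : Y → X is an affine morphism with X and Y quasi-compact and quasi-separated; a
Y-modification of X is a factorization f = fᵢ ≫ gᵢ with fᵢ : Y → Xᵢ schematically dominant and gᵢ :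
Xᵢ → X proper, and it is a Y-blow-up of X when Xᵢ carries a gᵢ-ample module L with a section ε : O →
L whose pullback along fᵢ is an isomorphism (a Y-trivialization). Given two Y-blow-ups (X₁, f₁, g₁),
(X₂, f₂, g₂) of X there is a Y-blow-up (X₃, f₃, g₃) of X together with morphisms dᵢ : X₃ → Xᵢ
satisfying f₃ ≫ dᵢ = fᵢ and dᵢ ≫ gᵢ = g₃. -/
theorem result {X Y : Scheme.{u}} (f : Y ⟶ X)
    [CompactSpace X] [QuasiSeparatedSpace X] [CompactSpace Y] [QuasiSeparatedSpace Y] [IsAffineHom f]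
    {X₁ X₂ : Scheme.{u}} (f₁ : Y ⟶ X₁) (g₁ : X₁ ⟶ X) (f₂ : Y ⟶ X₂) (g₂ : X₂ ⟶ X)
    (h₁ : IsSchemeTheoreticallyDominant f₁ ∧ IsProper g₁ ∧ f₁ ≫ g₁ = f ∧
        ∃ (L : X₁.Modules) (ε : Coh.structureModule X₁ ⟶ L),
          RelAmple.IsRelAmple g₁ L ∧ IsIso ((Scheme.Modules.pullback f₁).map ε))
    (h₂ : IsSchemeTheoreticallyDominant f₂ ∧ IsProper g₂ ∧ f₂ ≫ g₂ = f ∧
        ∃ (L : X₂.Modules) (ε : Coh.structureModule X₂ ⟶ L),
          RelAmple.IsRelAmple g₂ L ∧ IsIso ((Scheme.Modules.pullback f₂).map ε)) :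
    ∃ (X₃ : Scheme.{u}) (f₃ : Y ⟶ X₃) (g₃ : X₃ ⟶ X) (d₁ : X₃ ⟶ X₁) (d₂ : X₃ ⟶ X₂),
      (IsSchemeTheoreticallyDominant f₃ ∧ IsProper g₃ ∧ f₃ ≫ g₃ = f ∧
        ∃ (L : X₃.Modules) (ε : Coh.structureModule X₃ ⟶ L),
          RelAmple.IsRelAmple g₃ L ∧ IsIso ((Scheme.Modules.pullback f₃).map ε)) ∧
      f₃ ≫ d₁ = f₁ ∧ d₁ ≫ g₁ = g₃ ∧ f₃ ≫ d₂ = f₂ ∧ d₂ ≫ g₂ = g₃ := by
  classical
  obtain ⟨hd1, hp1, hc1, L1, ε1, hL1, hε1⟩ := h₁
  obtain ⟨hd2, hp2, hc2, L2, ε2, hL2, hε2⟩ := h₂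
  have hi1 := Groth.Ega2Proj.isInvertible_of_isRelAmple hL1
  have hi2 := Groth.Ega2Proj.isInvertible_of_isRelAmple hL2
  haveI : QuasiCompact f₂ := by
    haveI : QuasiCompact (f₂ ≫ g₂) := by rw [hc2]; infer_instance
    exact QuasiCompact.of_comp f₂ g₂
  let p₂ : Limits.pullback g₂ g₁ ⟶ X₂ := Limits.pullback.fst g₂ g₁
  let p₁ : Limits.pullback g₂ g₁ ⟶ X₁ := Limits.pullback.snd g₂ g₁
  let j : Y ⟶ Limits.pullback g₂ g₁ := Limits.pullback.lift f₂ f₁ (hc2.trans hc1.symm)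
  haveI : QuasiCompact j := by
    haveI : QuasiCompact (j ≫ p₂) := by
      rw [show j ≫ p₂ = f₂ from Limits.pullback.lift_fst _ _ _]; infer_instance
    exact QuasiCompact.of_comp j p₂
  let ι := j.imageι
  have hjι : j.toImage ≫ ι = j := j.toImage_imageι
  have hf1 : j.toImage ≫ ι ≫ p₁ = f₁ := by
    rw [← Category.assoc, hjι]; exact Limits.pullback.lift_snd _ _ _
  have hf2 : j.toImage ≫ ι ≫ p₂ = f₂ := by
    rw [← Category.assoc, hjι]; exact Limits.pullback.lift_fst _ _ _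
  have hqa : Mor2.IsQuasiAffine ι :=
    ⟨inferInstance, fun V hV => by
      haveI : IsAffine (ι ⁻¹ᵁ V : Scheme.{u}) := hV.preimage ι
      infer_instance⟩
  let M := (Scheme.Modules.pullback ι).obj ((Scheme.Modules.pullback p₂).obj L2)
  have hM : RelAmple.IsRelAmple (ι ≫ p₁) M :=
    Groth.Agent.S2355.result p₁ ι hqa _ (Groth.Agent.S2332.result g₂ g₁ L2 hL2)
  obtain ⟨n, hn, hamp⟩ := Groth.Agent.S2331.result (ι ≫ p₁) g₁ M L1 hM hL1
  let s1 := Groth.PicAux.gsec ε1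
  let s2 := Groth.PicAux.gsec ε2
  let sM : Γ(M, ⊤) := Groth.PicAux.pullSec ι _ (Groth.PicAux.pullSec p₂ _ s2)
  let s : Γ(CohB1.tensorMod M ((Scheme.Modules.pullback (ι ≫ p₁)).obj (CohB1.tensorPow L1 n)), ⊤) :=
    Groth.PicAux.tmulSec sM (Groth.PicAux.pullSec (ι ≫ p₁) _ (Groth.PicAux.powSec s1 n))
  have hin := Groth.PicAux.isInvertible_tensorPow hi1 n
  have hinp := Groth.PicAux.isInvertible_pullback (ι ≫ p₁) hin
  have hp2' := Groth.PicAux.isInvertible_pullback p₂ hi2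
  have hMi : PicF.IsInvertible M := Groth.PicAux.isInvertible_pullback ι hp2'
  refine ⟨_, j.toImage, (ι ≫ p₁) ≫ g₁, ι ≫ p₁, ι ≫ p₂,
    ⟨Groth.BlowUpBasics.isSchemeTheoreticallyDominant_toImage j, inferInstance, ?_,
      _, Groth.PicAux.homOfSection s, hamp n le_rfl, ?_⟩, hf1, rfl, hf2, ?_⟩
  · rw [← Category.assoc, hf1, hc1]
  · rw [Groth.Flatmor4.isIso_pullback_map_iff f₁ hi1] at hε1
    rw [Groth.Flatmor4.isIso_pullback_map_iff f₂ hi2] at hε2
    rw [Groth.Flatmor4.isIso_pullback_map_iff j.toImage (Groth.PicAux.isInvertible_tensorMod hMi hinp),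
      Groth.PicAux.gsec_homOfSection, Groth.PropsBasic.Ample.gloc_tmulSec hMi hinp,
      Groth.PropsBasic.Ample.gloc_pullSec (ι ≫ p₁) hin, Groth.PropsBasic.Ample.gloc_powSec hi1 s1 hn]
    refine top_unique fun y _ => ⟨?_, ?_⟩
    · show j.toImage y ∈ Groth.PropsBasic.Ample.gloc
        (Groth.PicAux.pullSec ι _ (Groth.PicAux.pullSec p₂ _ s2))
      refine (Groth.PropsBasic.Ample.gloc_pullSec ι hp2' (Groth.PicAux.pullSec p₂ _ s2)).ge
        (?_ : ι (j.toImage y) ∈ Groth.PropsBasic.Ample.gloc (Groth.PicAux.pullSec p₂ _ s2))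
      refine (Groth.PropsBasic.Ample.gloc_pullSec p₂ hi2 s2).ge
        (?_ : p₂ (ι (j.toImage y)) ∈ Groth.PropsBasic.Ample.gloc s2)
      rw [← Scheme.Hom.comp_apply, ← Scheme.Hom.comp_apply, hf2]
      exact hε2.ge trivial
    · show (ι ≫ p₁) (j.toImage y) ∈ Groth.PropsBasic.Ample.gloc s1
      rw [← Scheme.Hom.comp_apply, hf1]
      exact hε1.ge trivial
  · rw [Category.assoc, Category.assoc, Limits.pullback.condition]

end Groth.Agent.S17891
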