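import Groth.Statements.S17892
import Groth.Agent.Flatmor4.YTriv
import Groth.Agent.S2331

set_option autoImplicit false
universe u
open CategoryTheory AlgebraicGeometry
open FlatMor

namespace Groth.Agent.S17892

/-- Here f : Y → X is an affine morphism with X and Y quasi-compact and quasi-separated; a
Y-modification of X is a factorization f = fᵢ ≫ gᵢ with fᵢ : Y → Xᵢ schematically dominant and gᵢ :
Xᵢ → X proper, and it is a Y-blow-up of X when Xᵢ carries a gᵢ-ample module L with a section ε : O →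
L whose pullback along fᵢ is an isomorphism (a Y-trivialization). If (Xᵢ, fᵢ, gᵢ) is a Y-blow-up of
X and (Xⱼ, fⱼ, gᵢⱼ) is a Y-blow-up of Xᵢ (with respect to fᵢ : Y → Xᵢ), then (Xⱼ, fⱼ, gᵢⱼ ≫ gᵢ) is a
Y-blow-up of X. -/
theorem result {X Y : Scheme.{u}} (f : Y ⟶ X)
    [CompactSpace X] [QuasiSeparatedSpace X] [CompactSpace Y] [QuasiSeparatedSpace Y] [IsAffineHom f]
    {Xᵢ Xⱼ : Scheme.{u}} (fᵢ : Y ⟶ Xᵢ) (gᵢ : Xᵢ ⟶ X) (fⱼ : Y ⟶ Xⱼ) (gᵢⱼ : Xⱼ ⟶ Xᵢ)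
    (hᵢ : IsSchemeTheoreticallyDominant fᵢ ∧ IsProper gᵢ ∧ fᵢ ≫ gᵢ = f ∧
        ∃ (L : Xᵢ.Modules) (ε : Coh.structureModule Xᵢ ⟶ L),
          RelAmple.IsRelAmple gᵢ L ∧ IsIso ((Scheme.Modules.pullback fᵢ).map ε))
    (hⱼ : IsSchemeTheoreticallyDominant fⱼ ∧ IsProper gᵢⱼ ∧ fⱼ ≫ gᵢⱼ = fᵢ ∧
        ∃ (L : Xⱼ.Modules) (ε : Coh.structureModule Xⱼ ⟶ L),
          RelAmple.IsRelAmple gᵢⱼ L ∧ IsIso ((Scheme.Modules.pullback fⱼ).map ε)) :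
    IsSchemeTheoreticallyDominant fⱼ ∧ IsProper (gᵢⱼ ≫ gᵢ) ∧ fⱼ ≫ (gᵢⱼ ≫ gᵢ) = f ∧
        ∃ (L : Xⱼ.Modules) (ε : Coh.structureModule Xⱼ ⟶ L),
          RelAmple.IsRelAmple (gᵢⱼ ≫ gᵢ) L ∧ IsIso ((Scheme.Modules.pullback fⱼ).map ε) := by
  classical
  obtain ⟨hdi, hpi, hci, Li, εi, hLi, hεi⟩ := hᵢ
  obtain ⟨hdj, hpj, hcj, Lj, εj, hLj, hεj⟩ := hⱼ
  have hi := Groth.Ega2Proj.isInvertible_of_isRelAmple hLi
  have hj := Groth.Ega2Proj.isInvertible_of_isRelAmple hLj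
  refine ⟨hdj, inferInstance, by rw [← Category.assoc, hcj, hci], ?_⟩
  obtain ⟨n, hn, hamp⟩ := Groth.Agent.S2331.result gᵢⱼ gᵢ Lj Li hLj hLi
  let si := Groth.PicAux.gsec εi
  let sj := Groth.PicAux.gsec εj
  let s : Γ(CohB1.tensorMod Lj ((Scheme.Modules.pullback gᵢⱼ).obj (CohB1.tensorPow Li n)), ⊤) :=
    Groth.PicAux.tmulSec sj (Groth.PicAux.pullSec gᵢⱼ _ (Groth.PicAux.powSec si n))
  have hin := Groth.PicAux.isInvertible_tensorPow hi n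
  have hinp := Groth.PicAux.isInvertible_pullback gᵢⱼ hin
  refine ⟨_, Groth.PicAux.homOfSection s, hamp n le_rfl, ?_⟩
  rw [Groth.Flatmor4.isIso_pullback_map_iff fᵢ hi] at hεi
  rw [Groth.Flatmor4.isIso_pullback_map_iff fⱼ hj] at hεj
  rw [Groth.Flatmor4.isIso_pullback_map_iff fⱼ (Groth.PicAux.isInvertible_tensorMod hj hinp),
    Groth.PicAux.gsec_homOfSection, Groth.PropsBasic.Ample.gloc_tmulSec hj hinp,
    Groth.PropsBasic.Ample.gloc_pullSec gᵢⱼ hin, Groth.PropsBasic.Ample.gloc_powSec hi si hn]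
  refine top_unique fun y _ => ⟨(hεj.ge trivial : fⱼ y ∈ _), ?_⟩
  show gᵢⱼ (fⱼ y) ∈ Groth.PropsBasic.Ample.gloc si
  rw [← Scheme.Hom.comp_apply, hcj]
  exact hεi.ge trivial

end Groth.Agent.S17892
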