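import Groth.Statements.S17893
import Groth.Agent.NagComp.AffineCompletion
import Groth.Agent.NagComp.AmpleExtend
import Groth.Agent.S17885
import Groth.Agent.S7395


set_option autoImplicit false
set_option linter.style.haveILetI false
universe u
open CategoryTheory AlgebraicGeometry
open FlatMor

namespace Groth.Agent.S17893

open CategoryTheory.Limits in
/-- The map of a modification spreads to an affine scheme of finite type. -/
theorem exists_affine_factor {X Y : Scheme.{u}} (f : Y ⟶ X)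
    [CompactSpace X] [QuasiSeparatedSpace X] [CompactSpace Y] [QuasiSeparatedSpace Y] [IsAffineHom f]
    {X' : Scheme.{u}} (f' : Y ⟶ X') (g' : X' ⟶ X) [IsProper g'] (hf' : f' ≫ g' = f) :
    ∃ (U : Scheme.{u}) (u : U ⟶ X) (e : Y ⟶ U) (h : U ⟶ X'), IsAffineHom u ∧ LocallyOfFiniteType u ∧
      e ≫ u = f ∧ h ≫ g' = u ∧ e ≫ h = f' := by
  obtain ⟨X'', g'', i, hsep, hfp, hqc, hci, hig⟩ := Groth.Agent.S7395.result g'
  obtain ⟨I, _, _, D, c, hc, hD, ⟨φ⟩⟩ := (Groth.Agent.S17885.result f).1 inferInstance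
  haveI hIc : IsConnected Iᵒᵖ := IsCofiltered.isConnected Iᵒᵖ
  let D' : Iᵒᵖ ⥤ Scheme.{u} := D ⋙ Over.forget X
  have hc' : IsLimit ((Over.forget X).mapCone c) := isLimitOfPreserves (Over.forget X) hc
  haveI : ∀ i, IsAffineHom (D.obj i).hom := fun i => (hD i).1
  haveI : ∀ {a b} (m : a ⟶ b), IsAffineHom (D'.map m) := fun {a b} m => by
    haveI : IsAffineHom ((D.map m).left ≫ (D.obj b).hom) := by rw [Over.w]; infer_instance
    exact IsAffineHom.of_comp (D.map m).left (D.obj b).hom
  haveI : ∀ i, CompactSpace (D'.obj i) := fun i => by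
    have h : CompactSpace (D.obj i).left := QuasiCompact.compactSpace_of_compactSpace (D.obj i).hom
    exact h
  haveI : ∀ i, QuasiSeparatedSpace (D'.obj i) := fun i => by
    have h : QuasiSeparatedSpace (D.obj i).left := quasiSeparatedSpace_of_quasiSeparated (D.obj i).hom
    exact h
  let t : D' ⟶ (Functor.const Iᵒᵖ).obj X :=
    { app := fun i => (D.obj i).hom
      naturality := fun a b m => by simp [D'] }
  obtain ⟨k, g, hg, hgf⟩ := Scheme.exists_π_app_comp_eq_of_locallyOfFinitePresentation D' t g''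
    ((Over.forget X).mapCone c) hc' (φ.hom.left ≫ f' ≫ i) (by
      ext a
      show (c.π.app a).left ≫ (D.obj a).hom = (φ.hom.left ≫ f' ≫ i) ≫ g''
      rw [Over.w (c.π.app a), Category.assoc, Category.assoc, hig, hf']
      exact (Over.w φ.hom).symm)
  let g₁ : (D.obj k).left ⟶ X'' := g
  refine ⟨pullback g₁ i, pullback.fst g₁ i ≫ (D.obj k).hom,
    pullback.lift (φ.inv.left ≫ (c.π.app k).left) f' ?_, pullback.snd g₁ i, inferInstance, ?_, ?_, ?_,
    pullback.lift_snd _ _ _⟩
  · have hg' : (c.π.app k).left ≫ g₁ = φ.hom.left ≫ f' ≫ i := hg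
    have hid : φ.inv.left ≫ φ.hom.left = 𝟙 Y := by rw [← Over.comp_left, φ.inv_hom_id]; rfl
    rw [Category.assoc, hg', reassoc_of% hid]
    exact Category.id_comp _
  · haveI := (hD k).2
    infer_instance
  · rw [pullback.lift_fst_assoc, Category.assoc, Over.w (c.π.app k)]
    exact Over.w φ.inv
  · rw [← hig, ← Category.assoc, ← pullback.condition, Category.assoc]
    exact congrArg (pullback.fst g₁ i ≫ ·) hgf

/-- Here f : Y → X is an affine morphism with X and Y quasi-compact and quasi-separated; a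
Y-modification of X is a factorization f = fᵢ ≫ gᵢ with fᵢ : Y → Xᵢ schematically dominant and gᵢ :
Xᵢ → X proper, and it is a Y-blow-up of X when Xᵢ carries a gᵢ-ample module L with a section ε : O →
L whose pullback along fᵢ is an isomorphism (a Y-trivialization). Every Y-modification (X', f', g')
of X is dominated by a Y-blow-up: there exist a Y-blow-up (X₁, f₁, g₁) of X and a morphism d : X₁ →
X' with f₁ ≫ d = f' and d ≫ g' = g₁. -/
theorem result {X Y : Scheme.{u}} (f : Y ⟶ X)
    [CompactSpace X] [QuasiSeparatedSpace X] [CompactSpace Y] [QuasiSeparatedSpace Y] [IsAffineHom f]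
    {X' : Scheme.{u}} (f' : Y ⟶ X') (g' : X' ⟶ X) [IsSchemeTheoreticallyDominant f'] [IsProper g']
    (hf' : f' ≫ g' = f) :
    ∃ (X₁ : Scheme.{u}) (f₁ : Y ⟶ X₁) (g₁ : X₁ ⟶ X) (d : X₁ ⟶ X'),
      (IsSchemeTheoreticallyDominant f₁ ∧ IsProper g₁ ∧ f₁ ≫ g₁ = f ∧
        ∃ (L : X₁.Modules) (ε : Coh.structureModule X₁ ⟶ L),
          RelAmple.IsRelAmple g₁ L ∧ IsIso ((Scheme.Modules.pullback f₁).map ε)) ∧ f₁ ≫ d = f' ∧ d ≫ g' = g₁ := by
  obtain ⟨U, u, e, h, hu, hul, heu, hhg, heh⟩ := exists_affine_factor f f' g' hf'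
  obtain ⟨P, p, L, ψ, j, hp, hL, hj, hjq, -, hjp, hjr⟩ := Groth.NagComp.AffComp.exists_completion u
  haveI : CompactSpace U := QuasiCompact.compactSpace_of_compactSpace u
  obtain ⟨T, t, N, τ, jT, d, ht, hN, hjT, hdg, hjd, hjt, hτ⟩ :=
    Groth.NagComp.exists_extend_ample p hL ψ j hjr g' h (hhg.trans hjp.symm)
  let fT : Y ⟶ T := e ≫ jT
  have hfT : fT ≫ t = f := by rw [Category.assoc, hjt, hjp, heu]
  haveI : QuasiCompact fT := by
    haveI : QuasiCompact (fT ≫ t) := by rw [hfT]; infer_instance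
    exact QuasiCompact.of_comp fT t
  have hqa : Mor2.IsQuasiAffine fT.imageι :=
    ⟨inferInstance, fun V hV => by
      haveI : IsAffine (fT.imageι ⁻¹ᵁ V : Scheme.{u}) := hV.preimage fT.imageι
      infer_instance⟩
  have hNi := Groth.Ega2Proj.isInvertible_of_isRelAmple hN
  refine ⟨fT.image, fT.toImage, fT.imageι ≫ t, fT.imageι ≫ d,
    ⟨Groth.BlowUpBasics.isSchemeTheoreticallyDominant_toImage fT, inferInstance, ?_,
      _, Groth.PicAux.homOfSection (Groth.PicAux.pullSec fT.imageι _ τ),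
      Groth.Agent.S2355.result t fT.imageι hqa _ hN, ?_⟩, ?_, ?_⟩
  · rw [Scheme.Hom.toImage_imageι_assoc, hfT]
  · rw [Groth.Flatmor4.isIso_pullback_map_iff fT.toImage (Groth.PicAux.isInvertible_pullback _ hNi),
      Groth.PicAux.gsec_homOfSection, Groth.PropsBasic.Ample.gloc_pullSec fT.imageι hNi]
    refine top_unique fun y _ => ?_
    show fT.imageι (fT.toImage y) ∈ Groth.PropsBasic.Ample.gloc τ
    rw [← Scheme.Hom.comp_apply, fT.toImage_imageι]
    exact hτ ⟨e y, rfl⟩
  · rw [Scheme.Hom.toImage_imageι_assoc, Category.assoc, hjd, heh]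
  · rw [Category.assoc, hdg]

end Groth.Agent.S17893
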