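import Groth.Statements.S17894
import Groth.Agent.NagComp.SectionEmbed
import Groth.Agent.NagComp.ImageRestrict
import Groth.Agent.Flatmor4.YTriv

set_option autoImplicit false
set_option linter.style.haveILetI false
universe u
open CategoryTheory AlgebraicGeometry
open FlatMor

namespace Groth.Agent.S17894

/-- Here f : Y → X is an affine morphism with X and Y quasi-compact and quasi-separated; a
Y-modification of X is a factorization f = fᵢ ≫ gᵢ with fᵢ : Y → Xᵢ schematically dominant and gᵢ :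
Xᵢ → X proper, and it is a Y-blow-up of X when Xᵢ carries a gᵢ-ample module L with a section ε : O →
L whose pullback along fᵢ is an isomorphism (a Y-trivialization). Let V ⊆ X be a quasi-compact open
with preimage f⁻¹(V) ⊆ Y. Every f⁻¹(V)-blow-up (X'₁, f'₁, g'₁) of V (for the restriction f ∣_ V)
extends to a Y-blow-up (X₁, f₁, g₁) of X: there is an open immersion r : X'₁ → X₁ whose image is
g₁⁻¹(V), with r ≫ g₁ = g'₁ followed by the inclusion of V, and f'₁ ≫ r equal to the inclusion of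
f⁻¹(V) followed by f₁. -/
theorem result {X Y : Scheme.{u}} (f : Y ⟶ X)
    [CompactSpace X] [QuasiSeparatedSpace X] [CompactSpace Y] [QuasiSeparatedSpace Y] [IsAffineHom f]
    (V : X.Opens) (hV : IsCompact (V : Set X))
    {X'₁ : Scheme.{u}} (f'₁ : ↑(f ⁻¹ᵁ V) ⟶ X'₁) (g'₁ : X'₁ ⟶ ↑V)
    (h' : IsSchemeTheoreticallyDominant f'₁ ∧ IsProper g'₁ ∧ f'₁ ≫ g'₁ = (f ∣_ V) ∧
        ∃ (L : X'₁.Modules) (ε : Coh.structureModule X'₁ ⟶ L),
          RelAmple.IsRelAmple g'₁ L ∧ IsIso ((Scheme.Modules.pullback f'₁).map ε)) :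
    ∃ (X₁ : Scheme.{u}) (f₁ : Y ⟶ X₁) (g₁ : X₁ ⟶ X) (r : X'₁ ⟶ X₁),
      (IsSchemeTheoreticallyDominant f₁ ∧ IsProper g₁ ∧ f₁ ≫ g₁ = f ∧
        ∃ (L : X₁.Modules) (ε : Coh.structureModule X₁ ⟶ L),
          RelAmple.IsRelAmple g₁ L ∧ IsIso ((Scheme.Modules.pullback f₁).map ε)) ∧ IsOpenImmersion r ∧
      Set.range (fun x => r x) = (g₁ ⁻¹ᵁ V : Set X₁) ∧ r ≫ g₁ = g'₁ ≫ V.ι ∧ f'₁ ≫ r = (f ⁻¹ᵁ V).ι ≫ f₁ := by
  obtain ⟨hd, hp', hc', L, ε, hL, hε⟩ := h'
  have hLi := Groth.Ega2Proj.isInvertible_of_isRelAmple hL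
  rw [Groth.Flatmor4.isIso_pullback_map_iff f'₁ hLi] at hε
  obtain ⟨P, p, O1, ψ, r, r', hp, hO1, hr', hrp, hr'p, hagree, hψ⟩ :=
    Groth.NagComp.SectionEmbed.exists_embedding f V hV g'₁ f'₁ hc' hL (Groth.PicAux.gsec ε) hε
  haveI : QuasiCompact r := by
    haveI : QuasiCompact (r ≫ p) := by rw [hrp]; infer_instance
    exact QuasiCompact.of_comp r p
  haveI := hd
  obtain ⟨ρ, hρ, hρr, hρι, hρw⟩ := Groth.NagComp.exists_image_restrict r (p ⁻¹ᵁ V) r' (f ⁻¹ᵁ V).ι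
    (by rw [Scheme.Opens.opensRange_ι, ← Scheme.Hom.comp_preimage, hrp]) f'₁ hagree
  have hqa : Mor2.IsQuasiAffine r.imageι :=
    ⟨inferInstance, fun U hU => by
      haveI : IsAffine (r.imageι ⁻¹ᵁ U : Scheme.{u}) := hU.preimage r.imageι
      infer_instance⟩
  have hOi := Groth.Ega2Proj.isInvertible_of_isRelAmple hO1
  refine ⟨r.image, r.toImage, r.imageι ≫ p, ρ,
    ⟨Groth.BlowUpBasics.isSchemeTheoreticallyDominant_toImage r, inferInstance, ?_,
      _, Groth.PicAux.homOfSection (Groth.PicAux.pullSec r.imageι _ ψ),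
      Groth.Agent.S2355.result p r.imageι hqa _ hO1, ?_⟩, hρ, ?_, ?_, hρw⟩
  · rw [Scheme.Hom.toImage_imageι_assoc, hrp]
  · rw [Groth.Flatmor4.isIso_pullback_map_iff r.toImage (Groth.PicAux.isInvertible_pullback _ hOi),
      Groth.PicAux.gsec_homOfSection, Groth.PropsBasic.Ample.gloc_pullSec r.imageι hOi,
      ← Scheme.Hom.comp_preimage, r.toImage_imageι, hψ]
  · exact hρr
  · rw [reassoc_of% hρι, ← morphismRestrict_ι, reassoc_of% hr'p]

end Groth.Agent.S17894
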