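import Groth.Statements.S17896
import Groth.Agent.NagComp.ProperQuasiDom
import Groth.Agent.NagComp.LocFreeCompactify
-- import your own Groth.Agent.* helpers here

set_option autoImplicit false
universe u
open CategoryTheory AlgebraicGeometry
open FlatMor

namespace Groth.Agent.S17896

/-- Let S be a Noetherian scheme, X₁ and X₂ separated S-schemes of finite type and j₁ : U → X₁, j₂ : U →
X₂ open immersions over S with schematically dense images, and let E be an O_U-module extending to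
finite locally free modules E₁ on X₁ and E₂ on X₂ (pullbacks along jᵢ isomorphic to E). Then there
exist a separated S-scheme X of finite type, an open immersion k : U → X over S with schematically
dense image, a finite locally free module E' on X whose pullback along k is isomorphic to E, and for
i = 1, 2 a proper quasi-domination of X over Xᵢ compatible with U: a schematically dense open Wᵢ ⊆ X
through which k factors and a proper S-morphism φᵢ : Wᵢ → Xᵢ restricting to jᵢ on U, whose graph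
morphism Wᵢ → X ×_S Xᵢ has closed image. -/
theorem result {S X₁ X₂ U : Scheme.{u}}
    [IsNoetherian S] (p₁ : X₁ ⟶ S) (p₂ : X₂ ⟶ S)
    [IsSeparated p₁] [QuasiCompact p₁] [LocallyOfFiniteType p₁]
    [IsSeparated p₂] [QuasiCompact p₂] [LocallyOfFiniteType p₂]
    (j₁ : U ⟶ X₁) (j₂ : U ⟶ X₂) [IsOpenImmersion j₁] [IsOpenImmersion j₂]
    [IsSchemeTheoreticallyDominant j₁] [IsSchemeTheoreticallyDominant j₂] (hj : j₁ ≫ p₁ = j₂ ≫ p₂)
    (E : U.Modules) (E₁ : X₁.Modules) (E₂ : X₂.Modules)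
    (hE₁ : FlatMod.IsFinLocFree E₁) (hE₂ : FlatMod.IsFinLocFree E₂)
    (e₁ : (Scheme.Modules.pullback j₁).obj E₁ ≅ E) (e₂ : (Scheme.Modules.pullback j₂).obj E₂ ≅ E) :
    ∃ (X : Scheme.{u}) (p : X ⟶ S) (k : U ⟶ X) (E' : X.Modules),
      IsSeparated p ∧ QuasiCompact p ∧ LocallyOfFiniteType p ∧ IsOpenImmersion k ∧ QuasiCompact k ∧
      IsSchemeTheoreticallyDominant k ∧ k ≫ p = j₁ ≫ p₁ ∧ FlatMod.IsFinLocFree E' ∧
      Nonempty ((Scheme.Modules.pullback k).obj E' ≅ E) ∧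
      (∃ (W₁ : X.Opens) (φ₁ : (↑W₁ : Scheme.{u}) ⟶ X₁) (hφ₁ : W₁.ι ≫ p = φ₁ ≫ p₁) (l₁ : U ⟶ ↑W₁),
        IsSchemeTheoreticallyDominant W₁.ι ∧ IsProper φ₁ ∧ l₁ ≫ W₁.ι = k ∧ l₁ ≫ φ₁ = j₁ ∧
        IsClosed (Set.range (fun w => (Limits.pullback.lift W₁.ι φ₁ hφ₁) w))) ∧
      (∃ (W₂ : X.Opens) (φ₂ : (↑W₂ : Scheme.{u}) ⟶ X₂) (hφ₂ : W₂.ι ≫ p = φ₂ ≫ p₂) (l₂ : U ⟶ ↑W₂),
        IsSchemeTheoreticallyDominant W₂.ι ∧ IsProper φ₂ ∧ l₂ ≫ W₂.ι = k ∧ l₂ ≫ φ₂ = j₂ ∧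
        IsClosed (Set.range (fun w => (Limits.pullback.lift W₂.ι φ₂ hφ₂) w))) := by
  haveI : IsLocallyNoetherian X₁ := LocallyOfFiniteType.isLocallyNoetherian p₁
  haveI : CompactSpace X₁ := QuasiCompact.compactSpace_of_compactSpace p₁
  haveI : AlgebraicGeometry.IsNoetherian X₁ := {}
  haveI : CompactSpace U := ⟨by
    rw [j₁.isOpenEmbedding.isInducing.isCompact_iff, Set.image_univ]
    exact TopologicalSpace.NoetherianSpace.isCompact _⟩
  haveI : QuasiCompact (j₁ ≫ p₁) := quasiCompact_of_compactSpace _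
  have hE : FlatMod.IsFinLocFree E := Groth.KTheory.LocFree.isFinLocFree_of_iso e₁
    (Groth.LocFree.isFinLocFree_pullback j₁ hE₁)
  obtain ⟨P₁, o₁, b₁, ho₁, hb₁, hg₁⟩ := Groth.NagComp.hasCompactification p₁
  obtain ⟨P₂, o₂, b₂, ho₂, hb₂, hg₂⟩ := Groth.NagComp.hasCompactification p₂
  obtain ⟨P₀, j₀, q₀, φ, hj₀, -, -, -, hq₀, hjp, hφ, hjφ⟩ :=
    Groth.NagComp.exists_compactification_over (j₁ ≫ p₁) (Limits.pullback.fst b₁ b₂ ≫ b₁)
      (Limits.pullback.lift (j₁ ≫ o₁) (j₂ ≫ o₂) (by simp only [Category.assoc, hg₁, hg₂, hj]))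
      (by rw [Limits.pullback.lift_fst_assoc, Category.assoc, hg₁])
  haveI : IsLocallyNoetherian P₀ := LocallyOfFiniteType.isLocallyNoetherian q₀
  haveI : CompactSpace P₀ := QuasiCompact.compactSpace_of_compactSpace q₀
  haveI : AlgebraicGeometry.IsNoetherian P₀ := {}
  obtain ⟨M, hM, ⟨θ⟩⟩ := Groth.NagComp.LocFreeExt.exists_coh_extension j₀ E hE
  obtain ⟨P, b, k, D, hb, hP, hk, hkb, hD, hDs, -, -, -, hG⟩ :=
    Groth.NagComp.LocFreeExt.exists_blowUp_locFree j₀ (fun _ : Unit => M) (fun _ => hM)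
      (fun _ => Groth.KTheory.LocFree.isFinLocFree_of_iso θ.symm hE)
  obtain ⟨G, π, hG, -, hiso⟩ := hG ()
  haveI := hiso
  haveI := Groth.NagComp.LocFreeExt.isSchemeTheoreticallyDominant_of_boundary k hD hDs
  haveI : QuasiCompact k := by
    haveI : QuasiCompact k.opensRange.ι := inferInstance
    rw [← k.isoOpensRange_hom_ι]
    infer_instance
  have dom : ∀ {W : P.Opens} (l : U ⟶ (W : Scheme.{u})), l ≫ W.ι = k →
      IsSchemeTheoreticallyDominant W.ι := fun {W} l hl => ⟨le_bot_iff.mp (by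
    rw [← k.ker_eq_bot, ← hl]
    exact Scheme.Hom.le_ker_comp _ _)⟩
  obtain ⟨W₁, l₁, φ₁, hφ₁, a₁, c₁, d₁, f₁⟩ := Groth.NagComp.exists_properQuasiDom (b ≫ q₀) p₁ b₁ o₁ hg₁
    (b ≫ φ ≫ Limits.pullback.fst b₁ b₂) (by simp only [Category.assoc, hφ]) k j₁
    (by rw [reassoc_of% hkb, ← Category.assoc, hjφ, Limits.pullback.lift_fst])
  obtain ⟨W₂, l₂, φ₂, hφ₂, a₂, c₂, d₂, f₂⟩ := Groth.NagComp.exists_properQuasiDom (b ≫ q₀) p₂ b₂ o₂ hg₂
    (b ≫ φ ≫ Limits.pullback.snd b₁ b₂)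
    (by simp only [Category.assoc, ← Limits.pullback.condition, hφ]) k j₂
    (by rw [reassoc_of% hkb, ← Category.assoc, hjφ, Limits.pullback.lift_snd])
  exact ⟨P, b ≫ q₀, k, G, inferInstance, inferInstance, inferInstance, hk, inferInstance, inferInstance,
    by rw [reassoc_of% hkb, hjp], hG,
    ⟨(asIso ((Scheme.Modules.pullback k).map π)).symm ≪≫
      (Scheme.Modules.pullbackComp k b).app M ≪≫ (Scheme.Modules.pullbackCongr hkb).app M ≪≫ θ⟩,
    ⟨W₁, φ₁, hφ₁, l₁, dom l₁ a₁, d₁, a₁, c₁, f₁⟩, ⟨W₂, φ₂, hφ₂, l₂, dom l₂ a₂, d₂, a₂, c₂, f₂⟩⟩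

end Groth.Agent.S17896
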