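import Groth.Statements.S17897
import Groth.Agent.SchemeMorphisms.ValCrit.Basic
-- import your own Groth.Agent.* helpers here

set_option autoImplicit false
universe u
open CategoryTheory AlgebraicGeometry
open ValCrit

namespace Groth.Agent.S17897

/-- Let f : Y → X be a morphism of schemes (not assumed separated), R a valuation ring with fraction
field K, and i : Spec K → Y, φ : Spec R → X with i ≫ f = (Spec K → Spec R) ≫ φ. Let y be the point
of Y hit by i and g : κ(y) → K the induced embedding, R' = g⁻¹(R) the induced valuation ring of κ(y)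
and ρ : R' → R the restriction of g. Then φ factors uniquely through Spec R → Spec R': there is a
unique φ' : Spec R' → X with (Spec ρ) ≫ φ' = φ whose restriction to the generic point Spec κ(y) is
the canonical morphism Spec κ(y) → Y followed by f. (Here y and g are given as data with Spec g
followed by Spec κ(y) → Y equal to i, and ρ as data by its defining equation.) -/
theorem result {X Y : Scheme.{u}} (f : Y ⟶ X)
    (K : Type u) [Field K] (R : ValuationSubring K)
    (i : Spec (CommRingCat.of K) ⟶ Y) (φ : Spec (CommRingCat.of ↥R) ⟶ X)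
    (w : Spec.map (CommRingCat.ofHom R.subtype) ≫ φ = i ≫ f)
    (y : Y) (g : Y.residueField y ⟶ CommRingCat.of K) (hg : Spec.map g ≫ Y.fromSpecResidueField y = i)
    (ρ : ↥(R.comap g.hom) →+* ↥R)
    (hρ : ∀ x : ↥(R.comap g.hom), ((ρ x : ↥R) : K) = g.hom (x : ↑(Y.residueField y))) :
    ∃! φ' : Spec (CommRingCat.of ↥(R.comap g.hom)) ⟶ X,
      Spec.map (CommRingCat.ofHom ρ) ≫ φ' = φ ∧
      Spec.map (CommRingCat.ofHom (R.comap g.hom).subtype) ≫ φ' = Y.fromSpecResidueField y ≫ f := by
  exact Groth.ValCritAux.existsUnique_factor f K R i φ w y g hg ρ hρ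

end Groth.Agent.S17897
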