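import Groth.Statements.S17898
import Groth.Agent.SchemeMorphisms.ValCrit.Basic
-- import your own Groth.Agent.* helpers here

set_option autoImplicit false
universe u
open CategoryTheory AlgebraicGeometry
open ValCrit

namespace Groth.Agent.S17898

/-- Let f : Y → X be a morphism of schemes (not assumed separated), K a field with valuation rings R ⊆
R' (inclusion ι), i : Spec K → Y and φ : Spec R → X a commutative square over f, and g : Spec R' → Y
a lift of Spec R' → Spec R → X restricting to i on Spec K. Let K̃ be the residue field of R', R̃ ⊆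
K̃ the image of R (a valuation ring of K̃) with the surjection σ : R → R̃. Then every h̃ : Spec R̃ →
Y whose restriction to Spec K̃ is Spec K̃ → Spec R' → Y (via g) and which lies over Spec R̃ → Spec R
→ X is induced by a unique h : Spec R → Y compatible with the whole diagram: h restricts to i on
Spec K, lies over φ, restricts to g along Spec R' → Spec R and to h̃ along Spec R̃ → Spec R. (ι, R̃,
σ are given as data pinned by their defining equations.) -/
theorem result {X Y : Scheme.{u}} (f : Y ⟶ X)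
    (K : Type u) [Field K] (R R' : ValuationSubring K) (hRR' : R ≤ R')
    (ι : ↥R →+* ↥R') (hι : ∀ x : ↥R, ((ι x : ↥R') : K) = (x : K))
    (i : Spec (CommRingCat.of K) ⟶ Y) (φ : Spec (CommRingCat.of ↥R) ⟶ X)
    (w : Spec.map (CommRingCat.ofHom R.subtype) ≫ φ = i ≫ f)
    (g : Spec (CommRingCat.of ↥R') ⟶ Y) (hg₁ : Spec.map (CommRingCat.ofHom R'.subtype) ≫ g = i)
    (hg₂ : g ≫ f = Spec.map (CommRingCat.ofHom ι) ≫ φ)
    (Rt : ValuationSubring (IsLocalRing.ResidueField ↥R')) (σ : ↥R →+* ↥Rt) (hσs : Function.Surjective σ)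
    (hσ : ∀ x : ↥R, ((σ x : ↥Rt) : IsLocalRing.ResidueField ↥R') = IsLocalRing.residue ↥R' (ι x))
    (ht : Spec (CommRingCat.of ↥Rt) ⟶ Y)
    (hht₁ : Spec.map (CommRingCat.ofHom Rt.subtype) ≫ ht =
      Spec.map (CommRingCat.ofHom (IsLocalRing.residue ↥R')) ≫ g)
    (hht₂ : ht ≫ f = Spec.map (CommRingCat.ofHom σ) ≫ φ) :
    ∃! h : Spec (CommRingCat.of ↥R) ⟶ Y, Spec.map (CommRingCat.ofHom R.subtype) ≫ h = i ∧ h ≫ f = φ ∧
      Spec.map (CommRingCat.ofHom ι) ≫ h = g ∧ Spec.map (CommRingCat.ofHom σ) ≫ h = ht := by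
  exact Groth.ValCritAux.existsUnique_glue f K R R' hRR' ι hι i φ w g hg₁ Rt σ hσs hσ ht hht₁ hht₂

end Groth.Agent.S17898
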