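import Groth.Statements.S17899
import Mathlib
import Groth.Agent.Calg7.SemiValFlatFP
-- import your own Groth.Agent.* helpers here

set_option autoImplicit false
universe u
open TensorProduct
open CAlg

namespace Groth.Agent.S17899

/-- Let A be a local ring with residue field K, R a valuation ring of K and O ⊆ A the preimage of R
under A → K (so O is a semi-valuation ring with semi-fraction ring A, S = Spec O is glued from U =
Spec A and T = Spec R). Let C be an O-algebra of finite type which is U-admissible (C → A ⊗_O C
injective) and such that A ⊗_O C is flat and of finite presentation over A. Then C is flat and of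
finite presentation over O. (The published assertion is more general: the base may be any
quasi-compact quasi-separated U-admissible scheme over Spec O, and the scheme over it any
quasi-compact quasi-separated admissible scheme. This row is the case of an affine scheme over Spec
O itself, the case in which the published proof carries out its argument.) -/
theorem result
    (A : Type u) [CommRing A] [IsLocalRing A] (R : ValuationSubring (IsLocalRing.ResidueField A))
    (O : Subring A) (hO : O = R.toSubring.comap (IsLocalRing.residue A))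
    (C : Type u) [CommRing C] [Algebra ↥O C] [Algebra.FiniteType ↥O C]
    (hadm : Function.Injective (Algebra.TensorProduct.includeRight : C →ₐ[↥O] A ⊗[↥O] C))
    (hflat : Module.Flat A (A ⊗[↥O] C)) (hfp : Algebra.FinitePresentation A (A ⊗[↥O] C)) :
    Module.Flat ↥O C ∧ Algebra.FinitePresentation ↥O C := by
  classical
  let m : Ideal O := (IsLocalRing.maximalIdeal A).comap O.subtype
  haveI : m.IsPrime := Ideal.IsPrime.comap _
  have hmemO : ∀ a : A, a ∈ O ↔ IsLocalRing.residue A a ∈ R := fun a => by
    rw [hO]; exact Iff.rfl
  have hres : ∀ x : O, x ∈ m ↔ IsLocalRing.residue A (x : A) = 0 := fun x =>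
    (IsLocalRing.residue_eq_zero_iff _).symm
  have hinj : Function.Injective (algebraMap O A) := Subtype.val_injective
  have hm : ∀ a : A, ∀ x ∈ m, ∃ y ∈ m, a * algebraMap O A x = algebraMap O A y := by
    intro a x hx
    have h1 : IsLocalRing.residue A (a * (x : A)) = 0 := by rw [map_mul, (hres x).1 hx, mul_zero]
    exact ⟨⟨a * (x : A), (hmemO _).2 (h1 ▸ R.zero_mem)⟩, (hres _).2 h1, rfl⟩
  have hS : ∀ f ∉ m, ∃ v : A, algebraMap O A f * v = 1 := by
    intro f hf
    have hu : IsUnit (f : A) := IsLocalRing.notMem_maximalIdeal.1 hf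
    exact ⟨↑hu.unit⁻¹, hu.mul_val_inv⟩
  haveI : IsDomain (O ⧸ m) := Ideal.Quotient.isDomain m
  haveI : ValuationRing (O ⧸ m) := ValuationRing.iff_dvd_total.2 ⟨fun x y => by
    obtain ⟨x, rfl⟩ := Ideal.Quotient.mk_surjective x
    obtain ⟨y, rfl⟩ := Ideal.Quotient.mk_surjective y
    have key : ∀ a b : O, IsLocalRing.residue A (a : A) ≠ 0 →
        IsLocalRing.residue A (b : A) / IsLocalRing.residue A (a : A) ∈ R →
        Ideal.Quotient.mk m a ∣ Ideal.Quotient.mk m b := by
      intro a b ha hab
      obtain ⟨c, hc⟩ := IsLocalRing.residue_surjective (IsLocalRing.residue A (b : A) / IsLocalRing.residue A (a : A))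
      refine ⟨Ideal.Quotient.mk m ⟨c, (hmemO c).2 (hc ▸ hab)⟩, ?_⟩
      rw [← map_mul, Ideal.Quotient.eq, hres]
      show IsLocalRing.residue A ((b : A) - (a : A) * c) = 0
      rw [map_sub, map_mul, hc, mul_div_cancel₀ _ ha, sub_self]
    by_cases hy : IsLocalRing.residue A (y : A) = 0
    · exact Or.inl (by rw [Ideal.Quotient.eq_zero_iff_mem.2 ((hres y).2 hy)]; exact dvd_zero _)
    by_cases hx : IsLocalRing.residue A (x : A) = 0
    · exact Or.inr (by rw [Ideal.Quotient.eq_zero_iff_mem.2 ((hres x).2 hx)]; exact dvd_zero _)
    rcases R.mem_or_inv_mem (IsLocalRing.residue A (y : A) / IsLocalRing.residue A (x : A)) with h | h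
    · exact Or.inl (key x y hx h)
    · rw [inv_div] at h
      exact Or.inr (key y x hy h)⟩
  haveI := hflat
  obtain ⟨hT, hTf⟩ := Groth.Calg7.SemiValFlatFP.flat_quotient (C := C) m hm hS hadm
  haveI := hTf
  haveI hC : Module.Flat O C := Groth.Calg7.SemiValFlatFP.flat_of_semival m hinj hm hS hadm
  exact ⟨hC, Groth.Calg7.SemiValFlatFP.finitePresentation_of_semival m hinj hm hT hfp⟩

end Groth.Agent.S17899
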