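import Groth.Statements.S17902
import Mathlib

set_option autoImplicit false
universe u
open CAlg

namespace Groth.Agent.S17902

section Aux
variable {A : Type u} [CommRing A] {M : Type u} [AddCommGroup M] [Module A M]

theorem rankAtStalk_of_basis [Module.Finite A M] [Module.Projective A M] {n : ℕ} (p : PrimeSpectrum A) {g : A}
    (hg : g ∉ p.asIdeal)
    (b : Module.Basis (Fin n) (Localization.Away g) (LocalizedModule (Submonoid.powers g) M)) :
    Module.rankAtStalk M p = n := by
  obtain ⟨q, hq⟩ : p ∈ Set.range (PrimeSpectrum.comap (algebraMap A (Localization.Away g))) := by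
    rw [PrimeSpectrum.localization_away_comap_range (Localization.Away g) g]; exact hg
  have : Nontrivial (Localization.Away g) :=
    ⟨⟨0, 1, fun h => q.2.ne_top ((Ideal.eq_top_iff_one _).2 (h ▸ q.asIdeal.zero_mem))⟩⟩
  have hbc := (isLocalizedModule_iff_isBaseChange (Submonoid.powers g) (Localization.Away g)
    (LocalizedModule.mkLinearMap (Submonoid.powers g) M)).1 inferInstance
  have : Module.Free (Localization.Away g) (LocalizedModule (Submonoid.powers g) M) := Module.Free.of_basis b
  have : Module.Finite (Localization.Away g) (LocalizedModule (Submonoid.powers g) M) := Module.Finite.of_basis b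
  rw [← hq, ← Module.rankAtStalk_baseChange, Module.rankAtStalk_eq_of_equiv hbc.equiv,
    Module.rankAtStalk_eq_finrank_of_free]
  simp [Module.finrank_eq_card_basis b]

theorem exists_smul_mem_span {n : ℕ} {g : A} {m : Fin n → M} {d : Fin n → Submonoid.powers g}
    (b : Module.Basis (Fin n) (Localization.Away g) (LocalizedModule (Submonoid.powers g) M))
    (hb : ∀ j, b j = LocalizedModule.mk (m j) (d j)) (x : M) :
    ∃ K : ℕ, g ^ K • x ∈ Submodule.span A (Set.range m) := by
  let f := LocalizedModule.mkLinearMap (Submonoid.powers g) M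
  let N' := (Submodule.span A (Set.range m)).localized' (Localization.Away g) (Submonoid.powers g) f
  have hN' : N' = ⊤ := by
    rw [eq_top_iff, ← b.span_eq, Submodule.span_le]
    rintro _ ⟨j, rfl⟩
    exact ⟨m j, Submodule.subset_span ⟨j, rfl⟩, d j, by rw [hb, IsLocalizedModule.mk_eq_mk']⟩
  obtain ⟨z, hz, s, hs⟩ := (Submodule.mem_localized' _ _ _ _ _).1 (hN'.symm ▸ Submodule.mem_top : f x ∈ N')
  rw [IsLocalizedModule.mk'_eq_iff, Submonoid.smul_def, ← map_smul] at hs
  obtain ⟨c, hc⟩ := IsLocalizedModule.exists_of_eq (S := Submonoid.powers g) hs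
  obtain ⟨e, he⟩ := (Submonoid.mul_mem _ c.2 s.2 : (c : A) * (s : A) ∈ Submonoid.powers g)
  refine ⟨e, ?_⟩
  show g ^ e • x ∈ _
  simp only at he
  rw [he, mul_smul]
  rw [Submonoid.smul_def, Submonoid.smul_def] at hc
  rw [← hc]
  exact Submodule.smul_mem _ _ hz

theorem notMem_support_of_smul_mem [Module.Finite A M] (p : PrimeSpectrum A)
    (h : ∀ x : M, ∃ c ∉ p.asIdeal, c • x ∈ p.asIdeal • (⊤ : Submodule A M)) : p ∉ Module.support A M := by
  rw [Module.notMem_support_iff]
  let f := LocalizedModule.mkLinearMap p.asIdeal.primeCompl M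
  let mx := IsLocalRing.maximalIdeal (Localization.AtPrime p.asIdeal)
  have hle : (⊤ : Submodule (Localization.AtPrime p.asIdeal) (LocalizedModule p.asIdeal.primeCompl M)) ≤ mx • ⊤ := by
    intro y _
    induction y using LocalizedModule.induction_on with
    | _ x s =>
      obtain ⟨c, hc, hcx⟩ := h x
      have h1 : f (c • x) ∈ mx • (⊤ : Submodule (Localization.AtPrime p.asIdeal) _) := by
        refine Submodule.smul_induction_on hcx (fun a ha z _ => ?_) (fun a b ha hb => by rw [map_add]; exact add_mem ha hb)
        rw [map_smul, ← algebraMap_smul (Localization.AtPrime p.asIdeal) a]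
        exact Submodule.smul_mem_smul (by rw [show mx = _ from Localization.AtPrime.map_eq_maximalIdeal.symm]; exact Ideal.mem_map_of_mem _ ha) Submodule.mem_top
      obtain ⟨c', rfl⟩ : ∃ c' : p.asIdeal.primeCompl, (c' : A) = c := ⟨⟨c, hc⟩, rfl⟩
      have : LocalizedModule.mk x s =
          IsLocalization.mk' (Localization.AtPrime p.asIdeal) (1 : A) (s * c') • f ((c' : A) • x) := by
        rw [LocalizedModule.mkLinearMap_apply, ← Localization.mk_eq_mk', LocalizedModule.mk_smul_mk, one_smul, mul_one]
        exact (LocalizedModule.mk_cancel_common_right _ _ x).symm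
      rw [this]
      exact Submodule.smul_mem _ _ h1
  have := Submodule.eq_bot_of_le_smul_of_le_jacobson_bot mx ⊤ Module.Finite.fg_top hle
    (IsLocalRing.jacobson_eq_maximalIdeal ⊥ bot_ne_top).ge
  exact (Submodule.subsingleton_iff (R := Localization.AtPrime p.asIdeal)).1 (subsingleton_iff_bot_eq_top.1 this.symm)

end Aux

/-- Let A be a commutative ring, M a finitely generated projective A-module, n a natural number and P a
finite set of prime ideals of A such that for every p in P there is g outside p with M_g free of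
rank n over A_g. Then there exist n elements of M and an open subset U of Spec A containing P such
that for every prime q in U the images of these elements in M_q form a basis of M_q over A_q. (The
published conclusion is that the associated sheaf is free of rank n on some open neighbourhood of P;
the form given here, with n global elements of M, is what its proof produces.) -/
theorem result (A : Type u) [CommRing A] (M : Type u) [AddCommGroup M] [Module A M]
    [Module.Finite A M] [Module.Projective A M] (n : ℕ) (P : Finset (PrimeSpectrum A))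
    (hP : ∀ p ∈ P, ∃ g : A, g ∉ p.asIdeal ∧
      Nonempty (Module.Basis (Fin n) (Localization.Away g) (LocalizedModule (Submonoid.powers g) M))) :
    ∃ (s : Fin n → M) (U : Set (PrimeSpectrum A)), IsOpen U ∧ (∀ p ∈ P, p ∈ U) ∧
      ∀ q ∈ U,
        LinearIndependent (Localization.AtPrime q.asIdeal)
            (fun j => LocalizedModule.mkLinearMap q.asIdeal.primeCompl M (s j)) ∧
          Submodule.span (Localization.AtPrime q.asIdeal)
            (Set.range fun j => LocalizedModule.mkLinearMap q.asIdeal.primeCompl M (s j)) = ⊤ := by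
  classical
  choose g hg hb using hP
  let b := fun p hp => Classical.choice (hb p hp)
  have hex : ∀ p hp, ∀ j, ∃ (m : M) (d : Submonoid.powers (g p hp)), b p hp j = LocalizedModule.mk m d := fun p hp j => by
    induction b p hp j using LocalizedModule.induction_on with
    | _ m d => exact ⟨m, d, rfl⟩
  choose m d hmd using hex
  let Q := P.filter fun p => ∀ q ∈ P, p ≤ q → q = p
  have hQ : ∀ p ∈ P, ∃ q ∈ Q, p ≤ q := by
    intro p hp
    obtain ⟨q, hpq, hq⟩ := (P : Set (PrimeSpectrum A)).toFinite.exists_le_maximal hp
    exact ⟨q, Finset.mem_filter.2 ⟨hq.1, fun q' hq' h => le_antisymm (hq.2 hq' h) h⟩, hpq⟩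
  have hsep : ∀ p ∈ Q, ∀ q ∈ Q, q ≠ p → ∃ x ∈ q.asIdeal, x ∉ p.asIdeal := by
    intro p hp q hq hne
    by_contra! hcon
    exact hne ((Finset.mem_filter.1 hq).2 p (Finset.mem_filter.1 hp).1 hcon).symm
  choose x hx hx' using hsep
  let t : Q → A := fun p => ∏ q : Q, if h : q.1 = p.1 then 1 else x p.1 p.2 q.1 q.2 h
  have ht : ∀ p : Q, t p ∉ p.1.asIdeal := fun p h => by
    obtain ⟨q, -, hq⟩ := (p.1.2.prod_mem_iff).1 h
    by_cases h' : q.1 = p.1
    · rw [dif_pos h'] at hq; exact p.1.2.ne_top ((Ideal.eq_top_iff_one _).2 hq)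
    · rw [dif_neg h'] at hq; exact hx' _ _ _ _ h' hq
  have ht' : ∀ p q : Q, q ≠ p → t p ∈ q.1.asIdeal := fun p q hne => by
    refine q.1.asIdeal.mem_of_dvd (Finset.dvd_prod_of_mem _ (Finset.mem_univ q)) ?_
    rw [dif_neg (fun h => hne (Subtype.ext h))]
    exact hx _ _ _ _ _
  let s : Fin n → M := fun j => ∑ p : Q, t p • m p.1 (Finset.mem_filter.1 p.2).1 j
  let N := Submodule.span A (Set.range s)
  have hQsupp : ∀ p : Q, p.1 ∉ Module.support A (M ⧸ N) := by
    intro p
    refine notMem_support_of_smul_mem p.1 fun y => ?_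
    obtain ⟨y, rfl⟩ := N.mkQ_surjective y
    obtain ⟨K, hK⟩ := exists_smul_mem_span (b p.1 (Finset.mem_filter.1 p.2).1) (hmd p.1 _) y
    refine ⟨t p * g p.1 (Finset.mem_filter.1 p.2).1 ^ K,
      p.1.2.mul_notMem (ht p) (fun h => hg _ _ (p.1.2.mem_of_pow_mem K h)), ?_⟩
    rw [mul_smul, ← map_smul]
    have key : Submodule.span A (Set.range (m p.1 (Finset.mem_filter.1 p.2).1)) ≤
        (p.1.asIdeal • (⊤ : Submodule A (M ⧸ N))).comap (t p • N.mkQ) := by
      rw [Submodule.span_le]
      rintro _ ⟨j, rfl⟩
      have hs0 : N.mkQ (s j) = 0 := (Submodule.Quotient.mk_eq_zero _).2 (Submodule.subset_span ⟨j, rfl⟩)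
      simp only [s] at hs0
      rw [← Finset.add_sum_erase _ _ (Finset.mem_univ p), map_add, map_sum, map_smul, add_eq_zero_iff_eq_neg] at hs0
      simp only [map_smul] at hs0
      rw [SetLike.mem_coe, Submodule.mem_comap, LinearMap.smul_apply, hs0]
      refine neg_mem (Submodule.sum_mem _ fun q hq => ?_)
      exact Submodule.smul_mem_smul (ht' q p (Finset.ne_of_mem_erase hq).symm) Submodule.mem_top
    exact key hK
  have := Module.finitePresentation_of_projective A M
  refine ⟨s, {q | Module.rankAtStalk M q = n} ∩ (Module.support A (M ⧸ N))ᶜ,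
    ((Module.isLocallyConstant_rankAtStalk (R := A) (M := M)).isOpen_fiber n).inter (Module.isClosed_support (R := A) (M := M ⧸ N)).isOpen_compl, fun p hp => ?_, ?_⟩
  · obtain ⟨q, hq, hpq⟩ := hQ p hp
    exact ⟨rankAtStalk_of_basis p (hg p hp) (b p hp), fun h => hQsupp ⟨q, hq⟩ (Module.mem_support_mono hpq h)⟩
  · rintro q ⟨hrk, hq⟩
    have hspan : Submodule.span (Localization.AtPrime q.asIdeal)
        (Set.range fun j => LocalizedModule.mkLinearMap q.asIdeal.primeCompl M (s j)) = ⊤ := by
      rw [eq_top_iff]
      intro y _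
      induction y using LocalizedModule.induction_on with
      | _ y e =>
        obtain ⟨c, hc, hcy⟩ := (Module.notMem_support_iff'.1 hq) (N.mkQ y)
        rw [← map_smul, Submodule.mkQ_apply, Submodule.Quotient.mk_eq_zero] at hcy
        have h1 : (c • y) ∈ N → LocalizedModule.mkLinearMap q.asIdeal.primeCompl M (c • y) ∈ Submodule.span (Localization.AtPrime q.asIdeal)
            (Set.range fun j => LocalizedModule.mkLinearMap q.asIdeal.primeCompl M (s j)) := fun h => by
          have := Submodule.mem_map_of_mem (f := LocalizedModule.mkLinearMap q.asIdeal.primeCompl M) h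
          rw [Submodule.map_span, ← Set.range_comp] at this
          exact Submodule.span_le_restrictScalars A (Localization.AtPrime q.asIdeal) _ this
        obtain ⟨c', rfl⟩ : ∃ c' : q.asIdeal.primeCompl, (c' : A) = c := ⟨⟨c, hc⟩, rfl⟩
        have : LocalizedModule.mk y e =
            IsLocalization.mk' (Localization.AtPrime q.asIdeal) (1 : A) (e * c') •
              LocalizedModule.mkLinearMap q.asIdeal.primeCompl M ((c' : A) • y) := by
          rw [LocalizedModule.mkLinearMap_apply, ← Localization.mk_eq_mk', LocalizedModule.mk_smul_mk, one_smul, mul_one]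
          exact (LocalizedModule.mk_cancel_common_right _ _ y).symm
        rw [this]
        exact Submodule.smul_mem _ _ (h1 hcy)
    exact ⟨linearIndependent_of_top_le_span_of_card_eq_finrank hspan.ge (by rw [Fintype.card_fin]; exact hrk.symm), hspan⟩

end Groth.Agent.S17902
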