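import Groth.Statements.S17904
import Groth.Agent.SpecFerrand.SheafPush

set_option autoImplicit false
universe u
open CategoryTheory AlgebraicGeometry
open Pinch

namespace Groth.Agent.S17904

/-- Let S be a scheme and Z → X, Z → Z', X → X', Z' → X' a commutative square of S-schemes in which Z →
X and Z' → X' are closed immersions and Z → Z' and X → X' are affine, which is a pushout square in
the category of ringed spaces, with X, Z and Z' flat over S. Then for every morphism T → S the
square of base changes Z_T → X_T, Z_T → Z'_T, X_T → X'_T, Z'_T → X'_T is a pushout square in the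
category of ringed spaces. -/
theorem result {S X Z Z' X' : Scheme.{u}}
    (fX : X ⟶ S) (fZ' : Z' ⟶ S) (fX' : X' ⟶ S) (ι : Z ⟶ X) (q : Z ⟶ Z') (π : X ⟶ X') (ι' : Z' ⟶ X')
    [IsClosedImmersion ι] [IsClosedImmersion ι'] [IsAffineHom q] [IsAffineHom π]
    (hq : q ≫ fZ' = ι ≫ fX) (hπ : π ≫ fX' = fX) (hι' : ι' ≫ fX' = fZ')
    (hpo : IsPushout ((Scheme.forgetToLocallyRingedSpace ⋙ LocallyRingedSpace.forgetToSheafedSpace).map ι) ((Scheme.forgetToLocallyRingedSpace ⋙ LocallyRingedSpace.forgetToSheafedSpace).map q)
      ((Scheme.forgetToLocallyRingedSpace ⋙ LocallyRingedSpace.forgetToSheafedSpace).map π) ((Scheme.forgetToLocallyRingedSpace ⋙ LocallyRingedSpace.forgetToSheafedSpace).map ι'))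
    [Flat fX] [Flat (ι ≫ fX)] [Flat fZ']
    {T : Scheme.{u}} (g : T ⟶ S) :
    IsPushout
      ((Scheme.forgetToLocallyRingedSpace ⋙ LocallyRingedSpace.forgetToSheafedSpace).map
        ((Over.pullback g).map (Over.homMk ι rfl : Over.mk (ι ≫ fX) ⟶ Over.mk fX)).left)
      ((Scheme.forgetToLocallyRingedSpace ⋙ LocallyRingedSpace.forgetToSheafedSpace).map
        ((Over.pullback g).map (Over.homMk q hq : Over.mk (ι ≫ fX) ⟶ Over.mk fZ')).left)
      ((Scheme.forgetToLocallyRingedSpace ⋙ LocallyRingedSpace.forgetToSheafedSpace).map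
        ((Over.pullback g).map (Over.homMk π hπ : Over.mk fX ⟶ Over.mk fX')).left)
      ((Scheme.forgetToLocallyRingedSpace ⋙ LocallyRingedSpace.forgetToSheafedSpace).map
        ((Over.pullback g).map (Over.homMk ι' hι' : Over.mk fZ' ⟶ Over.mk fX')).left) := by
  have w := Groth.SpecFerrand.comm_of_ringedSpace hpo
  have hP := Groth.SpecFerrand.isPushout_of_ringedSpace w hpo
  have hD : Flat (q ≫ ι' ≫ fX') := by rw [hι', hq]; infer_instance
  set A := ((Over.pullback g).map (Over.homMk π hπ : Over.mk fX ⟶ Over.mk fX')).left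
  set B := ((Over.pullback g).map (Over.homMk ι' hι' : Over.mk fZ' ⟶ Over.mk fX')).left
  set I := ((Over.pullback g).map (Over.homMk ι rfl : Over.mk (ι ≫ fX) ⟶ Over.mk fX)).left
  set J := ((Over.pullback g).map (Over.homMk q hq : Over.mk (ι ≫ fX) ⟶ Over.mk fZ')).left
  have hsX : IsPullback (Limits.pullback.fst fX g) A π (Limits.pullback.fst fX' g) :=
    Groth.SpecFerrand.isPullback_lift_fst (g := g) fX' π fX hπ.symm
      (by rw [Category.assoc, hπ, Limits.pullback.condition])
  have hsY : IsPullback (Limits.pullback.fst fZ' g) B ι' (Limits.pullback.fst fX' g) :=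
    Groth.SpecFerrand.isPullback_lift_fst (g := g) fX' ι' fZ' hι'.symm
      (by rw [Category.assoc, hι', Limits.pullback.condition])
  have hsi : IsPullback (Limits.pullback.fst (ι ≫ fX) g) I ι (Limits.pullback.fst fX g) :=
    Groth.SpecFerrand.isPullback_lift_fst (g := g) fX ι (ι ≫ fX) rfl
      (by rw [Category.assoc, Limits.pullback.condition])
  have hsj : IsPullback (Limits.pullback.fst (ι ≫ fX) g) J q (Limits.pullback.fst fZ' g) :=
    Groth.SpecFerrand.isPullback_lift_fst (g := g) fZ' q (ι ≫ fX) hq.symm
      (by rw [Category.assoc, hq, Limits.pullback.condition])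
  have w' : I ≫ A = J ≫ B := by
    simp only [A, B, I, J, ← Over.comp_left, ← Functor.map_comp]
    exact congrArg (fun f => ((Over.pullback g).map f).left) (Over.OverMorphism.ext w)
  haveI : IsClosedImmersion I := MorphismProperty.of_isPullback hsi inferInstance
  haveI : IsClosedImmersion B := MorphismProperty.of_isPullback hsY inferInstance
  haveI : IsAffineHom A := MorphismProperty.of_isPullback hsX inferInstance
  haveI : IsAffineHom J := MorphismProperty.of_isPullback hsj inferInstance
  exact Groth.SpecFerrand.isPushout_ringedSpace (Groth.SpecFerrand.covers_of_isAffineHom w')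
    (Groth.SpecFerrand.Glue.isPushout_baseChange_of_flat (Groth.SpecFerrand.covers_of_isAffineHom w) hP hD
      (IsPullback.of_hasPullback fX' g) hsX hsY hsi hsj w')

end Groth.Agent.S17904
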