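import Groth.Statements.S17905
import Groth.Agent.SpecFerrand.RingedPush
import Groth.Agent.SpecFerrand.FlatPush
import Groth.Agent.SpecFerrand.ProjBC

set_option autoImplicit false
universe u
open CategoryTheory AlgebraicGeometry
open Pinch

namespace Groth.Agent.S17905

/-- A faithfully flat affine morphism is injective on global functions. -/
theorem appTop_injective {Z T : Scheme.{u}} (ξ : Z ⟶ T) [IsAffineHom ξ] [Flat ξ] [Surjective ξ] :
    Function.Injective ξ.appTop.hom := by
  intro s t h
  refine T.sheaf.eq_of_locally_eq' (fun V : T.affineOpens => V.1) ⊤ (fun _ => homOfLE le_top)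
    (le_of_eq (iSup_affineOpens_eq_top T).symm) s t fun V => ?_
  refine Groth.SpecFerrand.app_injective_of_flat_surjective ξ V.2 ?_
  change (T.presheaf.map (homOfLE le_top : (V : T.Opens) ⟶ ⊤).op ≫ ξ.app V).hom s =
    (T.presheaf.map (homOfLE le_top : (V : T.Opens) ⟶ ⊤).op ≫ ξ.app V).hom t
  rw [ξ.naturality]
  simp only [CommRingCat.hom_comp, RingHom.comp_apply]
  exact congrArg _ h

/-- The statement on global functions. -/
theorem isIso_appTop {S X Z Z' X' T : Scheme.{u}} {fX : X ⟶ S} {fX' : X' ⟶ S} {ι : Z ⟶ X} {q : Z ⟶ Z'}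
    {π : X ⟶ X'} {ι' : Z' ⟶ X'} [IsClosedImmersion ι] [IsFinite q] [Flat q] [Surjective q] [IsAffineHom π]
    [IsAffineHom ι'] [Flat (q ≫ ι' ≫ fX')] (w : ι ≫ π = q ≫ ι') (hπ : π ≫ fX' = fX) (hP : IsPushout ι q π ι')
    (g : T ⟶ S) (hX : IsIso (Limits.pullback.snd fX g).appTop) : IsIso (Limits.pullback.snd fX' g).appTop := by
  have hz : ι ≫ fX = q ≫ (ι' ≫ fX') := by rw [← hπ, ← Category.assoc, w, Category.assoc]
  have hsX := Groth.SpecFerrand.isPullback_map (g := g) fX' π fX hπ.symm
  have hsY := Groth.SpecFerrand.isPullback_map (g := g) fX' ι' (ι' ≫ fX') rfl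
  have hsi := Groth.SpecFerrand.isPullback_map (g := g) fX ι (ι ≫ fX) rfl
  have hsj := Groth.SpecFerrand.isPullback_map (g := g) (ι' ≫ fX') q (ι ≫ fX) hz
  set πT := Limits.pullback.map fX g fX' g π (𝟙 T) (𝟙 S) ((Category.comp_id _).trans hπ.symm)
    ((Category.comp_id g).trans (Category.id_comp g).symm)
  set ιT' := Limits.pullback.map (ι' ≫ fX') g fX' g ι' (𝟙 T) (𝟙 S) (Category.comp_id _)
    ((Category.comp_id g).trans (Category.id_comp g).symm)
  set iT := Limits.pullback.map (ι ≫ fX) g fX g ι (𝟙 T) (𝟙 S) (Category.comp_id _)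
    ((Category.comp_id g).trans (Category.id_comp g).symm)
  set qT := Limits.pullback.map (ι ≫ fX) g (ι' ≫ fX') g q (𝟙 T) (𝟙 S) ((Category.comp_id _).trans hz)
    ((Category.comp_id g).trans (Category.id_comp g).symm)
  have hπs : πT ≫ Limits.pullback.snd fX' g = Limits.pullback.snd fX g :=
    (Limits.pullback.lift_snd _ _ _).trans (Category.comp_id _)
  have hιs : ιT' ≫ Limits.pullback.snd fX' g = Limits.pullback.snd (ι' ≫ fX') g :=
    (Limits.pullback.lift_snd _ _ _).trans (Category.comp_id _)
  have his : iT ≫ Limits.pullback.snd fX g = Limits.pullback.snd (ι ≫ fX) g :=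
    (Limits.pullback.lift_snd _ _ _).trans (Category.comp_id _)
  have hqs : qT ≫ Limits.pullback.snd (ι' ≫ fX') g = Limits.pullback.snd (ι ≫ fX) g :=
    (Limits.pullback.lift_snd _ _ _).trans (Category.comp_id _)
  have w' : iT ≫ πT = qT ≫ ιT' := by
    refine Limits.pullback.hom_ext ?_ ?_
    · rw [Category.assoc, Category.assoc, ← hsX.w, ← hsY.w, ← reassoc_of% hsi.w, ← reassoc_of% hsj.w, w]
    · rw [Category.assoc, Category.assoc, hπs, hιs, his, hqs]
  have hT := Groth.SpecFerrand.isPullback_appTop (Groth.SpecFerrand.Glue.isPushout_baseChange_of_flat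
    (Groth.SpecFerrand.covers_of_isAffineHom w) hP ‹_› (IsPullback.of_hasPullback fX' g) hsX hsY hsi hsj w')
  haveI : IsAffineHom qT := MorphismProperty.of_isPullback hsj inferInstance
  haveI : Flat qT := MorphismProperty.of_isPullback hsj inferInstance
  haveI : Surjective qT := MorphismProperty.of_isPullback hsj inferInstance
  haveI : Mono qT.appTop := ConcreteCategory.mono_of_injective _ (appTop_injective qT)
  set s := (Limits.pullback.snd fX' g).appTop
  have hs : s ≫ πT.appTop = (Limits.pullback.snd fX g).appTop :=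
    (Scheme.Hom.comp_appTop _ _).symm.trans (congrArg Scheme.Hom.appTop hπs)
  refine ⟨πT.appTop ≫ inv (Limits.pullback.snd fX g).appTop, by rw [← Category.assoc, hs, IsIso.hom_inv_id], ?_⟩
  have e : ((πT.appTop ≫ inv (Limits.pullback.snd fX g).appTop) ≫ s) ≫ πT.appTop = 𝟙 _ ≫ πT.appTop := by
    simp only [Category.assoc, hs, IsIso.inv_hom_id, Category.comp_id, Category.id_comp]
  refine hT.hom_ext e ((cancel_mono qT.appTop).1 ?_)
  simp only [Category.assoc, ← hT.w]
  simpa only [Category.assoc] using congrArg (· ≫ iT.appTop) e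


/-- Let S be a scheme and Z → X, Z → Z', X → X', Z' → X' a commutative square of S-schemes which is a
pushout square in the category of ringed spaces, with Z → X and Z' → X' closed immersions, X → X'
affine, Z → Z' finite, flat and surjective, and X, Z, Z' flat over S. Suppose that for every T → S
the map O_T → (f_T)_* O_{X_T} induced by the base change f_T : X_T → T of X → S is an isomorphism.
Then for every T → S the map O_T → (f'_T)_* O_{X'_T} induced by the base change of X' → S is an
isomorphism. (The published lemma is stated for the pinching of a finite surjective Z → Z' whose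
fibres lie in affine opens of X, with X → S admitting a section; this row assumes X → X' only affine
and drops the affine-fibre and section conditions, which the printed proof does not use.) -/
theorem result {S X Z Z' X' : Scheme.{u}}
    (fX : X ⟶ S) (fZ' : Z' ⟶ S) (fX' : X' ⟶ S) (ι : Z ⟶ X) (q : Z ⟶ Z') (π : X ⟶ X') (ι' : Z' ⟶ X')
    [IsClosedImmersion ι] [IsClosedImmersion ι'] [IsFinite q] [Flat q] [Surjective q] [IsAffineHom π]
    (hq : q ≫ fZ' = ι ≫ fX) (hπ : π ≫ fX' = fX) (hι' : ι' ≫ fX' = fZ')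
    (hpo : IsPushout ((Scheme.forgetToLocallyRingedSpace ⋙ LocallyRingedSpace.forgetToSheafedSpace).map ι) ((Scheme.forgetToLocallyRingedSpace ⋙ LocallyRingedSpace.forgetToSheafedSpace).map q)
      ((Scheme.forgetToLocallyRingedSpace ⋙ LocallyRingedSpace.forgetToSheafedSpace).map π) ((Scheme.forgetToLocallyRingedSpace ⋙ LocallyRingedSpace.forgetToSheafedSpace).map ι'))
    [Flat fX] [Flat (ι ≫ fX)] [Flat fZ']
    (hX : ∀ (T : Scheme.{u}) (g : T ⟶ S) (U : T.Opens), IsIso ((Limits.pullback.snd fX g).app U))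
    (T : Scheme.{u}) (g : T ⟶ S) (U : T.Opens) :
    IsIso ((Limits.pullback.snd fX' g).app U) := by
  have w := Groth.SpecFerrand.comm_of_ringedSpace hpo
  have hP := Groth.SpecFerrand.isPushout_of_ringedSpace w hpo
  have hD : Flat (q ≫ ι' ≫ fX') := by rw [hι', hq]; infer_instance
  set f := Limits.pullback.snd fX' g
  have sq := (isPullback_morphismRestrict f U).flip.paste_horiz (IsPullback.of_hasPullback fX' g)
  have h := isIso_appTop w hπ hP (U.ι ≫ g) (hX _ (U.ι ≫ g) ⊤)
  have e : (f ∣_ U).appTop = (Limits.pullback.snd fX' (U.ι ≫ g)).appTop ≫ sq.isoPullback.hom.appTop := by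
    rw [← Scheme.Hom.comp_appTop, sq.isoPullback_hom_snd]
  haveI := h
  haveI : IsIso sq.isoPullback.hom.appTop := inferInstanceAs (IsIso (Scheme.Γ.map sq.isoPullback.hom.op))
  have h2 : IsIso (f ∣_ U).appTop := by rw [e]; exact IsIso.comp_isIso' ‹_› ‹_›
  rw [morphismRestrict_appTop] at h2
  haveI := h2
  have h3 : IsIso (f.app (U.ι ''ᵁ ⊤)) :=
    @IsIso.of_isIso_comp_right _ _ _ _ _ _ ((Limits.pullback fX' g).presheaf.map (eqToHom (image_morphismRestrict_preimage f U ⊤)).op) inferInstance h2
  rwa [Scheme.Opens.ι_image_top] at h3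

end Groth.Agent.S17905
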