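import Groth.Statements.S17907
import Groth.Agent.SpecFerrand.PinchModules

set_option autoImplicit false
universe u
open CategoryTheory AlgebraicGeometry
open Pinch

namespace Groth.Agent.S17907

theorem comp_map_hom {X Y Z T : Scheme.{u}} {fX : Z ⟶ X} {fY : Z ⟶ Y} {gX : X ⟶ T} {gY : Y ⟶ T}
    (hw : fX ≫ gX = fY ≫ gY) {M : T.Modules} {LY : Y.Modules} (eY : (Scheme.Modules.pullback gY).obj M ≅ LY) :
    ((Scheme.Modules.pullbackComp fX gX).app M ≪≫ (Scheme.Modules.pullbackCongr hw).app M ≪≫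
        ((Scheme.Modules.pullbackComp fY gY).app M).symm ≪≫ (Scheme.Modules.pullback fY).mapIso eY).hom =
      (Groth.SpecFerrand.pullXi hw M).hom ≫ (Scheme.Modules.pullback fY).map eY.hom := by
  simp [Groth.SpecFerrand.pullXi]

open Groth.PicAux Groth.SpecFerrand in
/-- Compatible bases near every point of the pinched scheme. -/
theorem exists_compatible_bases {X Z Z' X' : Scheme.{u}}
    {ι : Z ⟶ X} {q : Z ⟶ Z'} {π : X ⟶ X'} {ι' : Z' ⟶ X'}
    [IsClosedImmersion ι] [IsClosedImmersion ι'] [IsFinite π]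
    (hw : ι ≫ π = q ≫ ι') (hover : ∀ x z', π x = ι' z' → ∃ z, ι z = x ∧ q z = z')
    (U : X'.Opens) (hU : (U : Set X') = (Set.range ι')ᶜ) (hiso : IsIso (π ∣_ U))
    {n : ℕ} {LX : X.Modules} {LY : Z'.Modules} (hLX : FlatMod.IsFinLocFreeOfRank n LX)
    (hLY : FlatMod.IsFinLocFreeOfRank n LY)
    (σ : (Scheme.Modules.pullback ι).obj LX ≅ (Scheme.Modules.pullback q).obj LY) (t : X') :
    ∃ (W : X'.Opens) (g : Fin n → Γ(LX, π ⁻¹ᵁ W)) (e : Fin n → Γ(LY, ι' ⁻¹ᵁ W)), t ∈ W ∧
      Basis' LX (π ⁻¹ᵁ W) g ∧ Basis' LY (ι' ⁻¹ᵁ W) e ∧ ∀ k, Glued hw σ (g k) (e k) := by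
  by_cases ht : t ∈ Set.range ι'
  · obtain ⟨z', rfl⟩ := ht
    obtain ⟨U', s, hzU, hs⟩ := Groth.LocFree.isFinLocFreeOfRank_iff.1 hLY z'
    obtain ⟨O', hO', hO'e⟩ := ι'.isClosedEmbedding.isInducing.isOpen_iff.1 U'.2
    obtain ⟨W₁, hW₁, hzW₁, hW₁le⟩ := exists_isAffineOpen_mem_and_subset (x := ι' z')
      (U := ⟨O', hO'⟩) (show z' ∈ ι' ⁻¹' O' by rw [hO'e]; exact hzU)
    have hle : ι' ⁻¹ᵁ W₁ ≤ U' := fun p hp => hO'e.le (hW₁le hp)
    let e : Fin n → Γ(LY, ι' ⁻¹ᵁ W₁) := fun k => res LY hle (s k)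
    have he : Basis' LY (ι' ⁻¹ᵁ W₁) e := hs.res' hle
    have hf := ((he.pull q).res' (preimage_le hw W₁)).map σ.inv
    haveI := Groth.KTheory.LocFree.isQCoh (Groth.LocFree.isFinLocFree_of_rank hLX)
    choose g hg using fun k => pullSec_surjective ι LX (hW₁.preimage π)
      (σ.inv.app _ (res _ (preimage_le hw W₁) (pullSec q LY (e k))))
    have hgl : ∀ k, Glued hw σ (g k) (e k) := fun k => by
      unfold Glued
      rw [hg k]
      exact congr(($(σ.inv_hom_id)).app _ (res _ (preimage_le hw W₁) (pullSec q LY (e k))))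
    have hgb : Basis' ((Scheme.Modules.pullback ι).obj LX) (ι ⁻¹ᵁ (π ⁻¹ᵁ W₁)) fun k => pullSec ι LX (g k) :=
      (congrArg (Basis' _ _) (funext hg)).mpr hf
    have hnear : ∀ x, π x = ι' z' → ∃ (V : X.Opens) (hV : V ≤ π ⁻¹ᵁ W₁), x ∈ V ∧
        Basis' LX V fun k => res LX hV (g k) := fun x hx => by
      obtain ⟨z, rfl, -⟩ := hover x z' hx
      exact exists_basis_near ι hLX hgb z (show π (ι z) ∈ W₁ by rw [hx]; exact hzW₁)
    choose V hV hxV hVb using hnear
    let Vs : X.Opens := ⨆ (x : X) (hx : π x = ι' z'), V x hx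
    have hclosed : IsClosed (π '' (Vs : Set X)ᶜ) := π.isClosedMap _ Vs.2.isClosed_compl
    let W : X'.Opens := W₁ ⊓ ⟨_, hclosed.isOpen_compl⟩
    have htW : ι' z' ∈ W := ⟨hzW₁, by
      rintro ⟨x, hx, hxe⟩
      exact hx (TopologicalSpace.Opens.mem_iSup.2 ⟨x, TopologicalSpace.Opens.mem_iSup.2 ⟨hxe, hxV x hxe⟩⟩)⟩
    refine ⟨W, fun k => res LX (π.preimage_mono inf_le_left) (g k),
      fun k => res LY (ι'.preimage_mono inf_le_left) (e k), htW, ?_, he.res' _,
      fun k => (hgl k).res hw σ inf_le_left⟩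
    refine Groth.KTheory.LocFree.basis'_of_local _ fun V' hV' x hx => ?_
    have hxVs : x ∈ Vs := by
      by_contra h
      exact (hV' hx).2 ⟨x, h, rfl⟩
    obtain ⟨x₀, hx₀⟩ := TopologicalSpace.Opens.mem_iSup.1 hxVs
    obtain ⟨hx₀', hx₁⟩ := TopologicalSpace.Opens.mem_iSup.1 hx₀
    refine ⟨V' ⊓ V x₀ hx₀', inf_le_left, inf_le_left.trans hV', ⟨hx, hx₁⟩, ?_⟩
    have := hVb x₀ hx₀' (V' ⊓ V x₀ hx₀') inf_le_right
    simp only [res_res] at this ⊢
    exact this
  · have htU : t ∈ U := by rw [← SetLike.mem_coe, hU]; exact ht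
    obtain ⟨⟨x, hxU⟩, hx⟩ := (π ∣_ U).homeomorph.surjective ⟨t, htU⟩
    obtain ⟨V, s, hxV, hs⟩ := Groth.LocFree.isFinLocFreeOfRank_iff.1 hLX x
    have hclosed : IsClosed (π '' (V : Set X)ᶜ) := π.isClosedMap _ V.2.isClosed_compl
    let W : X'.Opens := U ⊓ ⟨_, hclosed.isOpen_compl⟩
    have htW : t ∈ W := ⟨htU, by
      rintro ⟨x', hx', rfl⟩
      have hxU' : x' ∈ π ⁻¹ᵁ U := htU
      have e : (⟨x, hxU⟩ : (π ⁻¹ᵁ U : X.Opens)) = ⟨x', hxU'⟩ := (π ∣_ U).homeomorph.injective
        (hx.trans (Subtype.ext (by simp [morphismRestrict_base])))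
      have e' : x = x' := congrArg Subtype.val e
      exact hx' (e' ▸ hxV)⟩
    have hle : π ⁻¹ᵁ W ≤ V := fun p hp => by
      by_contra h
      exact hp.2 ⟨p, h, rfl⟩
    have hbot : ι' ⁻¹ᵁ W ≤ ⊥ := fun p hp => by
      have h1 : ι' p ∈ (U : Set X') := hp.1
      rw [hU] at h1
      exact absurd ⟨p, rfl⟩ h1
    refine ⟨W, fun k => res LX hle (s k), fun _ => 0, htW, hs.res' hle, basis_of_bot _ _ hbot _, fun k => ?_⟩
    haveI := subsingleton_of_bot ((Scheme.Modules.pullback q).obj LY)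
      (U := ι ⁻¹ᵁ (π ⁻¹ᵁ W)) fun p hp => hbot (preimage_le hw W hp)
    exact Subsingleton.elim _ _


/-- Let Z → X be a closed immersion and Z → Z' a finite surjective morphism such that every fibre of Z →
Z' lies in an affine open of X; let X → X', Z' → X' complete a commutative square of schemes which
is a pushout square in the category of ringed spaces, with Z' → X' a closed immersion, X → X' finite
and an isomorphism over the open complement of the image of Z'. Given locally free modules L_X on X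
and L_{Z'} on Z' of the same rank n and an isomorphism σ from the pullback of L_X to Z onto the
pullback of L_{Z'} to Z, there are a locally free module M of rank n on X', an isomorphism e_X from
the pullback of M to X onto L_X and an isomorphism e_{Z'} from the pullback of M to Z' onto L_{Z'},
compatible with σ: the canonical isomorphism between the two iterated pullbacks of M to Z (through X
and through Z') followed by the pullback of e_{Z'} to Z equals the pullback of e_X to Z followed by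
σ. (The published result is an equivalence of categories between locally free modules of rank n on
X' and such triples (L_X, L_{Z'}, σ); stated here is the essential surjectivity of the functor
towards triples, not its full faithfulness. Finiteness of X → X' and the isomorphism away from Z'
are part of the pinching construction and are taken as hypotheses.) -/
theorem result {X Z Z' X' : Scheme.{u}}
    (ι : Z ⟶ X) (q : Z ⟶ Z') (π : X ⟶ X') (ι' : Z' ⟶ X')
    [IsClosedImmersion ι] [IsClosedImmersion ι'] [IsFinite q] [Surjective q] [IsFinite π]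
    (hw : ι ≫ π = q ≫ ι')
    (hpo : IsPushout ((Scheme.forgetToLocallyRingedSpace ⋙ LocallyRingedSpace.forgetToSheafedSpace).map ι) ((Scheme.forgetToLocallyRingedSpace ⋙ LocallyRingedSpace.forgetToSheafedSpace).map q)
      ((Scheme.forgetToLocallyRingedSpace ⋙ LocallyRingedSpace.forgetToSheafedSpace).map π) ((Scheme.forgetToLocallyRingedSpace ⋙ LocallyRingedSpace.forgetToSheafedSpace).map ι'))
    (hAF : ∀ z' : Z', ∃ U : X.Opens, IsAffineOpen U ∧ ∀ z : Z, q.base z = z' → ι.base z ∈ U)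
    (U : X'.Opens) (hU : (U : Set X') = (Set.range ι'.base)ᶜ) (hiso : IsIso (π ∣_ U))
    (n : ℕ) (LX : X.Modules) (LZ' : Z'.Modules)
    (hLX : FlatMod.IsFinLocFreeOfRank n LX) (hLZ' : FlatMod.IsFinLocFreeOfRank n LZ')
    (σ : (Scheme.Modules.pullback ι).obj LX ≅ (Scheme.Modules.pullback q).obj LZ') :
    ∃ (M : X'.Modules) (eX : (Scheme.Modules.pullback π).obj M ≅ LX)
      (eZ' : (Scheme.Modules.pullback ι').obj M ≅ LZ'),
      FlatMod.IsFinLocFreeOfRank n M ∧
      (Scheme.Modules.pullbackComp ι π).app M ≪≫ (Scheme.Modules.pullbackCongr hw).app M ≪≫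
          ((Scheme.Modules.pullbackComp q ι').app M).symm ≪≫ (Scheme.Modules.pullback q).mapIso eZ' =
        (Scheme.Modules.pullback ι).mapIso eX ≪≫ σ := by
  have hc := Groth.SpecFerrand.covers_of_isAffineHom hw
  have hP := Groth.SpecFerrand.isPushout_of_ringedSpace hw hpo
  have hch : ∀ x : X', ∃ c : Groth.SpecFerrand.SqChart ι q π ι', x ∈ c.u.opensRange := fun x => by
    obtain ⟨c, hx, -⟩ := Groth.SpecFerrand.Glue.exists_sqChart_le hc hP (V := ⊤) (x := x) trivial
    exact ⟨c, hx⟩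
  obtain ⟨M, eX, eY, hM, h⟩ := Groth.SpecFerrand.exists_glued hw σ
    (fun V => Groth.SpecFerrand.isPullback_appLE_of_ringedSpace hw hpo V)
    (exists_compatible_bases hw (fun x z' h => Groth.SpecFerrand.overlap_pair hch h) U hU hiso hLX hLZ' σ)
  exact ⟨M, eX, eY, hM, Iso.ext ((comp_map_hom hw eY).trans h)⟩

end Groth.Agent.S17907
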