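import Groth.Statements.S17909
import Groth.Agent.Misc13.NormBC

set_option autoImplicit false
universe u
open scoped TensorProduct
open PolLaw

namespace Groth.Agent.S17909

/-- Affine-free form, stated through the universal property of the norm module. Let R → R' be a
commutative algebra, free of finite rank as an R-module; let Q be a commutative R-algebra and Q' a
commutative ring under both Q and R' which is their pushout over R; let M' be an R'-module and f :
M' → M'' an R'-linear map into a Q'-module that exhibits M'' as Q' ⊗_{R'} M'. Let (N, ν) be a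
universal normic pair for M' over R (ν a polynomial law M' → N over R with ν(x · m) = norm(x) · ν(m)
over every commutative test ring, through which every normic law factors by a unique linear map) and
(N'', ν'') a universal normic pair for M'' over Q. Then there is an R-linear map u : N → N'' which
is compatible with the two laws over every commutative Q-algebra P, in the sense ν''_P (p ⊗ f m) =
(p ⊗ u)(ν_P (p ⊗ m)), and whose Q-linear extension Q ⊗_R N → N'' is an isomorphism (N'' is the base
change of N along R → Q via u). (The published statements are for the norm modules constructed from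
divided powers, for a finite locally free extension of constant rank; here the extension is free
over an affine base and the norm modules enter through their universal property.) -/
theorem result {R R' Q Q' : Type u} [CommRing R] [CommRing R'] [Algebra R R']
    [CommRing Q] [Algebra R Q] [CommRing Q'] [Algebra R Q'] [Algebra Q Q'] [Algebra R' Q']
    [IsScalarTower R Q Q'] [IsScalarTower R R' Q'] [Algebra.IsPushout R R' Q Q']
    [Module.Free R R'] [Module.Finite R R']
    {M' : Type u} [AddCommGroup M'] [Module R M'] [Module R' M'] [IsScalarTower R R' M']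
    {M'' : Type u} [AddCommGroup M''] [Module R M''] [Module R' M''] [Module Q M''] [Module Q' M'']
    [IsScalarTower R R' M''] [IsScalarTower R Q M''] [IsScalarTower R' Q' M''] [IsScalarTower Q Q' M'']
    (f : M' →ₗ[R'] M'') (hf : IsBaseChange Q' f)
    {N : Type u} [AddCommGroup N] [Module R N] (ν : M' →ₚₗ[R] N) (hν : PolLaw.IsUnivNormic R' ν)
    {N'' : Type u} [AddCommGroup N''] [Module R N''] [Module Q N''] [IsScalarTower R Q N'']
    (ν'' : M'' →ₚₗ[Q] N'') (hν'' : PolLaw.IsUnivNormic Q' ν'') :
    ∃ u : N →ₗ[R] N'',
      (∀ (P : Type u) [CommRing P] [Algebra R P] [Algebra Q P] [IsScalarTower R Q P] (m : P ⊗[R] M'),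
          ν''.toFun' P (PolLaw.bcAlong (f.restrictScalars R) P m) = PolLaw.bcAlong u P (ν.toFun' P m)) ∧
      IsBaseChange Q u := by
  open Groth.Misc13.NormBC in
  · have hfR := isBaseChange_restrict (R := R) (Q := Q) f hf
    have hI := isBaseChange_incl R R' Q Q'
    have : Module.Free Q Q' := Module.Free.of_equiv hI.equiv
    have : Module.Finite Q Q' := Module.Finite.equiv hI.equiv
    obtain ⟨hνn, hνu⟩ := hν
    obtain ⟨hνn'', hνu''⟩ := hν''
    -- the law over `R` attached to `ν''`
    have hμn : PolLaw.IsNormic R' (restrLaw (f.restrictScalars R) ν'') := by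
      intro S _ _ x m
      let i : S →ₐ[R] Q ⊗[R] S := Algebra.TensorProduct.includeRight
      show rot S _ = _ • rot S _
      rw [PolLaw.rTensor_actEnd, bcAlong_actEnd (Q' := Q'), hνn'', norm_bcAlong, norm_map i x,
        rot_smul]
    obtain ⟨u, hu : PolLaw.postcomp u ν = restrLaw (f.restrictScalars R) ν'', huu⟩ := hνu N'' _ hμn
    have hcompat : ∀ (P : Type u) [CommRing P] [Algebra R P] [Algebra Q P] [IsScalarTower R Q P]
        (m : P ⊗[R] M'),
        ν''.toFun' P (PolLaw.bcAlong (Q := Q) (f.restrictScalars R) P m) =
          PolLaw.bcAlong (Q := Q) u P (ν.toFun' P m) := by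
      intro P _ _ _ _ m
      rw [← restrLaw_bcAlong, ← hu]
      show PolLaw.bcAlong (Q := Q) _ P (u.lTensor P (ν.toFun' P m)) = _
      generalize ν.toFun' P m = z
      induction z using TensorProduct.induction_on with
      | zero => simp
      | tmul p n => simp [bcAlong_tmul]
      | add a b ha hb => simp only [map_add, ha, hb]
    refine ⟨u, hcompat, ?_⟩
    -- the law over `Q` attached to `ν`
    have hμn' : PolLaw.IsNormic Q' (extLaw Q (f.restrictScalars R) hfR ν) := by
      intro P _ _ y w
      let i : P →ₐ[Q] Q ⊗[Q] P := (Algebra.TensorProduct.lid Q P).symm.toAlgHom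
      let j : Q ⊗[Q] P →ₐ[Q] P := (Algebra.TensorProduct.lid Q P).toAlgHom
      show j.toLinearMap.rTensor _ (bcEquiv _ _ _ (ν.toFun' _ ((bcEquiv _ hfR _).symm
        (i.toLinearMap.rTensor _ _)))) = _ • j.toLinearMap.rTensor _ _
      rw [PolLaw.rTensor_actEnd]
      have key : ∀ (T : Type u) [CommRing T] [Algebra R T] [Algebra Q T] [IsScalarTower R Q T]
          (x : T ⊗[Q] Q') (m : T ⊗[Q] M''), ν.toFun' T ((bcEquiv _ hfR T).symm (PolLaw.actEnd M'' T x m)) =
            Algebra.norm T x • ν.toFun' T ((bcEquiv _ hfR T).symm m) := by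
        intro T _ _ _ _ x m
        obtain ⟨x', rfl⟩ := (bcAlong_bijective _ hI T).2 x
        have : (bcEquiv _ hfR T).symm (PolLaw.actEnd M'' T (PolLaw.bcAlong (Q := Q) (IsScalarTower.toAlgHom R R' Q').toLinearMap T x') m) =
            PolLaw.actEnd M' T x' ((bcEquiv _ hfR T).symm m) := by
          apply (bcEquiv _ hfR T).injective
          conv_rhs => rw [bcEquiv_apply, bcAlong_actEnd (Q' := Q'), ← bcEquiv_apply _ hfR,
            LinearEquiv.apply_symm_apply]
          rw [LinearEquiv.apply_symm_apply]
        rw [this, hνn, norm_bcAlong]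
      rw [key, norm_map i y, map_smul, rTensor_smul]
      congr 1
      exact (Algebra.TensorProduct.lid Q P).apply_symm_apply _
    obtain ⟨ψ, hψ : PolLaw.postcomp ψ ν'' = extLaw Q (f.restrictScalars R) hfR ν, -⟩ :=
      hνu'' (Q ⊗[R] N) _ hμn'
    have hψ' : ∀ (P : Type u) [CommRing P] [Algebra Q P] (w : P ⊗[Q] M''),
        ψ.lTensor P (ν''.toFun' P w) = (extLaw Q (f.restrictScalars R) hfR ν).toFun' P w := by
      intro P _ _ w
      rw [← hψ]
      rfl
    set h : Q ⊗[R] N →ₗ[Q] N'' := u.liftBaseChange Q with hdef
    -- `ψ ∘ u` is the canonical map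
    have h2 : (ψ.restrictScalars R).comp u = TensorProduct.mk R Q N 1 := by
      obtain ⟨w, -, hw⟩ := hνu (Q ⊗[R] N) (PolLaw.postcomp (TensorProduct.mk R Q N 1) ν)
        (isNormic_postcomp hνn _)
      refine (hw _ ?_).trans (hw _ rfl).symm
      refine postcomp_eq_of_bcAlong_eq (Q := Q) ν _ _ ?_
      intro P _ _ _ _ m
      rw [← extLaw_bcAlong (f.restrictScalars R) hfR, ← hψ', hcompat]
      generalize ν.toFun' P m = z
      induction z using TensorProduct.induction_on with
      | zero => simp
      | tmul p n => simp [bcAlong_tmul]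
      | add a b ha hb => simp only [map_add, ha, hb]
    have h1 : h.comp ψ = LinearMap.id := by
      obtain ⟨w, -, hw⟩ := hνu'' N'' (PolLaw.postcomp LinearMap.id ν'') (isNormic_postcomp hνn'' _)
      refine (hw _ ?_).trans (hw _ rfl).symm
      apply PolynomialLaw.ext
      funext S _ _ z
      let P := Q ⊗[Q] S
      let i : S →ₐ[Q] P := (Algebra.TensorProduct.lid Q S).symm.toAlgHom
      let j : P →ₐ[Q] S := (Algebra.TensorProduct.lid Q S).toAlgHom
      show (h.comp ψ).lTensor S (ν''.toFun' S z) = LinearMap.id.lTensor S (ν''.toFun' S z)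
      rw [LinearMap.lTensor_id, LinearMap.id_apply, LinearMap.lTensor_comp, LinearMap.comp_apply]
      have hs : ψ.lTensor S (ν''.toFun' S z) = (extLaw Q (f.restrictScalars R) hfR ν).toFun' S z := by
        rw [← hψ]
        rfl
      rw [hs]
      show h.lTensor S (j.toLinearMap.rTensor _ (bcEquiv _ _ P (ν.toFun' P ((bcEquiv _ hfR P).symm
        (i.toLinearMap.rTensor M'' z))))) = _
      have e : ∀ v : P ⊗[R] N, h.lTensor P (bcEquiv (TensorProduct.mk R Q N 1)
          (TensorProduct.isBaseChange R N Q) P v) = PolLaw.bcAlong (Q := Q) u P v := by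
        intro v
        rw [bcEquiv_apply]
        induction v using TensorProduct.induction_on with
        | zero => simp
        | tmul p n => simp [h, bcAlong_tmul]
        | add a b ha hb => simp only [map_add, ha, hb]
      rw [← LinearMap.comp_apply, LinearMap.lTensor_comp_rTensor, ← LinearMap.rTensor_comp_lTensor,
        LinearMap.comp_apply, e, ← hcompat, ← bcEquiv_apply _ hfR, LinearEquiv.apply_symm_apply]
      have hn := congrFun (ν''.isCompat' j) (i.toLinearMap.rTensor M'' z)
      simp only [Function.comp_apply] at hn
      rw [hn, ← LinearMap.comp_apply, ← LinearMap.rTensor_comp]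
      have : j.toLinearMap ∘ₗ i.toLinearMap = LinearMap.id :=
        LinearMap.ext fun p => (Algebra.TensorProduct.lid Q S).apply_symm_apply p
      rw [this, LinearMap.rTensor_id, LinearMap.id_apply]
    have h3 : ψ.comp h = LinearMap.id := by
      refine (TensorProduct.isBaseChange R N Q).algHom_ext _ _ fun n => ?_
      simpa [h] using LinearMap.congr_fun h2 n
    refine IsBaseChange.of_equiv (LinearEquiv.ofLinearMap h ψ h1 h3) fun n => ?_
    simp [h]

end Groth.Agent.S17909
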