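import Groth.Statements.S17910
import Groth.Agent.Misc8.AltSpan

set_option autoImplicit false
universe u
open scoped TensorProduct
open SymTen

namespace Groth.Agent.S17910

/-- Let R be a commutative ring, A a commutative R-algebra, d ≥ 0, and P an A-module that is finitely
generated projective (finite locally free) as an R-module. Let the d-fold tensor power of A over R
act on the d-fold tensor power of P over R factor by factor, and let I_d be the R-span of the pure
tensors p_1 ⊗ ⋯ ⊗ p_d with two equal factors p_i = p_j, i ≠ j (the submodule by which the tensor
power is divided to give the d-th exterior power). Then every symmetric tensor a ∈ TS^d_R(A) maps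
I_d into itself, so that TS^d_R(A) acts on the d-th exterior power of P over R. -/
theorem result (R : Type u) [CommRing R] (A : Type u) [CommRing A] [Algebra R A]
    (P : Type u) [AddCommGroup P] [Module R P] [Module A P] [IsScalarTower R A P]
    [Module.Finite R P] [Module.Projective R P] (d : ℕ)
    (a : ⨂[R] _ : Fin d, A) (ha : a ∈ SymTen.TS R A d)
    (x : ⨂[R] _ : Fin d, P) (hx : x ∈ SymTen.altSpan R P d) :
    SymTen.tpowAct R A P d a x ∈ SymTen.altSpan R P d := by
  exact Groth.Misc8.AltSpan.act_mem A a ha x hx

end Groth.Agent.S17910
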