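import Groth.Statements.S17911
import Groth.Agent.StkGerb.Gerbe

set_option autoImplicit false
universe u
open CategoryTheory AlgebraicGeometry
open Gerb

namespace Groth.Agent.S17911
open Groth.StkGerb Groth.StkBase

/-- Let S be a scheme and let 𝒳, 𝒴 be gerbes over the big fppf site of schemes over S (stacks in
groupoids in which objects exist locally and any two objects over the same scheme are locally
isomorphic), and let φ : 𝒳 → 𝒴 be a functor over Sch_S. Suppose 𝒳 has an object s over S itself such
that, for every object x of 𝒳 admitting a morphism to s (that is, for every pullback of s), φ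
induces a bijection from the automorphisms of x over the identity to those of φ(x) — the induced
homomorphism of automorphism sheaves Aut(s) → Aut(φ s) is an isomorphism. Then φ is an equivalence
over Sch_S: some functor over Sch_S in the other direction is inverse to φ up to isomorphisms over
Sch_S. -/
theorem result (S : Scheme.{u}) (𝒳 𝒴 : AlgSt.Cat S)
    (h𝒳 : Gerb.IsGerbe (QuotSh.J Scheme.fppfPrecoverage S) 𝒳)
    (h𝒴 : Gerb.IsGerbe (QuotSh.J Scheme.fppfPrecoverage S) 𝒴)
    (φ : 𝒳 ⥤ᵇ 𝒴) (s : 𝒳.obj) (hs : 𝒳.p.obj s = Over.mk (𝟙 S))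
    (hφ : ∀ (x : 𝒳.obj) (c : x ⟶ s), Function.Bijective (Gerb.autMap φ x)) :
    FibCat.IsEquivOver φ := by
  exact isEquivOver_of_bijective_center h𝒳 h𝒴 φ s (hs ▸ Over.mkIdTerminal) hφ

end Groth.Agent.S17911
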