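import Groth.Statements.S17913
import Groth.Agent.StkGerb.Gerbe

set_option autoImplicit false
universe u
open CategoryTheory AlgebraicGeometry
open Gerb

namespace Groth.Agent.S17913
open Groth.StkGerb Groth.StkBase

/-- Let S be a scheme, 𝒳 and 𝒴 gerbes over the big fppf site of schemes over S, φ : 𝒳 → 𝒴 and ψ : 𝒴 → 𝒳
functors over Sch_S, and x an object of 𝒳 over S itself such that φ is surjective on automorphism
groups along x: for every object x' of 𝒳 admitting a morphism to x (every pullback of x), every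
automorphism of φ(x') over the identity is φ(α) for some automorphism α of x' over the identity. Let
g : ψ(φ(x)) → x be an isomorphism lying over the identity such that conjugation by g after ψ ∘ φ is
the identity of the automorphism sheaf of x: whenever c : x' → x is a morphism of 𝒳 and g' :
ψ(φ(x')) → x' is the morphism over the identity with ψ(φ(c)) ≫ g = g' ≫ c, every automorphism α of
x' over the identity satisfies ψ(φ(α)) ≫ g' = g' ≫ α. Then φ ∘ ψ is isomorphic to the identity on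
every fibre of 𝒴: there are isomorphisms σ_z : φ(ψ(z)) → z for all objects z of 𝒴, lying over
identities and natural in morphisms lying over identities, so that φ and ψ are mutually
quasi-inverse on every fibre. (The published corollary does not assume that φ is surjective on
automorphism groups; its proof uses that φ is full, and without that hypothesis the conclusion fails
— take for 𝒳 the base category over itself, for 𝒴 the gerbe of torsors under the group of order two,
for φ the trivial torsor and for ψ the structure functor. The published corollary also concludes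
that ψ ∘ φ is isomorphic to the identity on every fibre of 𝒳; that part follows from the hypotheses
on g alone and is stated separately.) -/
theorem result (S : Scheme.{u}) (𝒳 𝒴 : AlgSt.Cat S)
    (h𝒳 : Gerb.IsGerbe (QuotSh.J Scheme.fppfPrecoverage S) 𝒳)
    (h𝒴 : Gerb.IsGerbe (QuotSh.J Scheme.fppfPrecoverage S) 𝒴)
    (φ : 𝒳 ⥤ᵇ 𝒴) (ψ : 𝒴 ⥤ᵇ 𝒳) (x : 𝒳.obj) (hx : 𝒳.p.obj x = Over.mk (𝟙 S))
    (hφ : ∀ (x' : 𝒳.obj) (c : x' ⟶ x), Function.Surjective (Gerb.autMap φ x'))
    (g : ψ.obj (φ.obj x) ⟶ x) [IsIso g] (hg : 𝒳.p.IsHomLift (𝟙 (𝒳.p.obj x)) g)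
    (hconj : ∀ (x' : 𝒳.obj) (c : x' ⟶ x) (g' : ψ.obj (φ.obj x') ⟶ x'), 𝒳.p.IsHomLift (𝟙 (𝒳.p.obj x')) g' →
      ψ.map (φ.map c) ≫ g = g' ≫ c → ∀ α : Gerb.AutO x', ψ.map (φ.map α.hom.1) ≫ g' = g' ≫ α.hom.1) :
    ∃ σ : ∀ z : 𝒴.obj, φ.obj (ψ.obj z) ⟶ z,
      (∀ z, IsIso (σ z) ∧ 𝒴.p.IsHomLift (𝟙 (𝒴.p.obj z)) (σ z)) ∧
      (∀ (z z' : 𝒴.obj) (f : z ⟶ z'), 𝒴.p.IsHomLift (𝟙 (𝒴.p.obj z)) f →
        φ.map (ψ.map f) ≫ σ z' = σ z ≫ f) := by
  have hX := h𝒳.1.1
  have hY := h𝒴.1.1
  have hgv : IsVert 𝒳.p g := isVert_of_isHomLift hg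
  obtain ⟨α, -⟩ := exists_natTrans_of_center hY h𝒴.2.2 (isPrestack_of_isStack h𝒴.1) (BasedFunctor.comp ψ φ)
    (BasedFunctor.id 𝒴) (φ.obj x) ((φ.w_obj x).trans hx ▸ Over.mkIdTerminal) (φ.map g) (isVert_map hgv)
    fun z d h hh e β hβ => by
      change φ.map (ψ.map d) ≫ φ.map g = h ≫ d at e
      change φ.map (ψ.map β) ≫ h = h ≫ β
      obtain ⟨x', c, hx', hc⟩ := exists_lift' hX (x := x) (𝒴.p.map d ≫ eqToHom (φ.w_obj x))
      obtain ⟨i, hi, hid⟩ := exists_vert_iso_of_lifts hY (φ.map c) d ((φ.w_obj x').trans hx')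
        (by simp [map_map, hc])
      obtain ⟨u, hu⟩ := exists_autO hY (i.hom ≫ β ≫ i.inv) (hi.comp (hβ.comp hi.inv))
      obtain ⟨a, ha⟩ := hφ x' c u
      have hw : IsVert 𝒳.p (ψ.map i.hom) := isVert_map hi
      obtain ⟨g', hg'v, hg'⟩ : ∃ g' : ψ.obj (φ.obj x') ⟶ x', IsVert 𝒳.p g' ∧ ψ.map (φ.map c) ≫ g = g' ≫ c := by
        have e' : eqToHom ((ψ.w_obj (φ.obj x')).trans (φ.w_obj x')) ≫ 𝒳.p.map c = 𝒳.p.map (ψ.map (φ.map c) ≫ g) := by
          simp [map_map, hgv.map_eq]
        exact ⟨factor hX _ _ _ e', ⟨_, factor_map hX _ _ _ e'⟩, (factor_comp hX _ _ _ e').symm⟩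
      have hconj' := hconj x' c g' (hg'v.isHomLift' rfl) hg' a
      have key : φ.map (ψ.map i.hom) ≫ h = φ.map g' ≫ i.hom := by
        apply hom_eq_of_comp_eq hY d
        · exact ((isVert_map (F := φ) hw).comp hh).map_eq.trans (((isVert_map (F := φ) hg'v).comp hi).map_eq).symm
        · calc (φ.map (ψ.map i.hom) ≫ h) ≫ d = φ.map (ψ.map i.hom) ≫ h ≫ d := Category.assoc _ _ _
            _ = φ.map (ψ.map i.hom) ≫ φ.map (ψ.map d) ≫ φ.map g := congrArg (φ.map (ψ.map i.hom) ≫ ·) e.symm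
            _ = φ.map (ψ.map (i.hom ≫ d) ≫ g) := by simp only [Functor.map_comp, Category.assoc]
            _ = φ.map (g' ≫ c) := by rw [hid, hg']
            _ = (φ.map g' ≫ i.hom) ≫ d := by rw [φ.toFunctor.map_comp, Category.assoc, hid]
      have hβ' : i.hom ≫ β = φ.map a.hom.1 ≫ i.hom := by
        rw [← autMap_val, ha, hu, Category.assoc, Category.assoc, i.inv_hom_id, Category.comp_id]
      have : Epi (φ.map (ψ.map i.hom)) := have := (isVert_map (F := φ) hw).isIso hY; inferInstance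
      apply (cancel_epi (φ.map (ψ.map i.hom))).1
      calc φ.map (ψ.map i.hom) ≫ φ.map (ψ.map β) ≫ h = φ.map (ψ.map (i.hom ≫ β)) ≫ h := by
            simp only [Functor.map_comp, Category.assoc]
        _ = φ.map (ψ.map (φ.map a.hom.1)) ≫ φ.map (ψ.map i.hom) ≫ h := by
            rw [hβ']; simp only [Functor.map_comp, Category.assoc]
        _ = φ.map (ψ.map (φ.map a.hom.1)) ≫ φ.map g' ≫ i.hom := congrArg (φ.map (ψ.map (φ.map a.hom.1)) ≫ ·) key
        _ = φ.map (ψ.map (φ.map a.hom.1) ≫ g') ≫ i.hom := by simp only [Functor.map_comp, Category.assoc]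
        _ = φ.map g' ≫ i.hom ≫ β := by rw [hconj', φ.toFunctor.map_comp, Category.assoc, ← hβ']
        _ = (φ.map (ψ.map i.hom) ≫ h) ≫ β := (Category.assoc _ _ _).symm.trans (congrArg (· ≫ β) key.symm)
        _ = φ.map (ψ.map i.hom) ≫ h ≫ β := Category.assoc _ _ _
  exact ⟨fun z => α.toNatTrans.app z,
    fun z => ⟨(isVert_app α z).isIso hY, (isVert_app α z).isHomLift' rfl⟩,
    fun z z' f _ => α.toNatTrans.naturality f⟩

end Groth.Agent.S17913
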