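import Groth.Statements.S17914
import Groth.Agent.Misc13.NormBC

set_option autoImplicit false
universe u
open scoped TensorProduct
open PolLaw

namespace Groth.Agent.S17914

/-- Affine-free form, stated through universal properties. Let R → R' be a commutative algebra that is
free of rank d as an R-module, Q a commutative R-algebra, and Q' a commutative ring under Q and R'
which is their pushout over R and is free of rank d over Q. Let (C, γ) be the degree-d divided power
algebra of R' over R with its universal multiplicative law (hypothesis: every multiplicative law of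
degree d out of R' factors uniquely through γ) and π : C → R the R-algebra map with π ∘ γ = the norm
law of R' over R; let (C', γ', π') be the analogous data for Q' over Q. Let θ : C → C' be an
R-algebra homomorphism compatible with the two universal laws over every commutative Q-algebra P:
γ'_P applied to the image of z ∈ P ⊗_R R' in P ⊗_Q Q' equals (p ⊗ c ↦ p ⊗ θ c) applied to γ_P(z) (so
θ is the base-change homomorphism of divided power algebras). Then π' (θ c) is the image in Q of π c
for every c ∈ C: the algebra map attached to the norm commutes with base change. (The published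
lemma is for a finite locally free extension of constant rank and states the commutativity of each
of three squares; this row assumes R' free over R and states the commutativity of the composite.) -/
theorem result {R R' Q Q' : Type u} [CommRing R] [CommRing R'] [Algebra R R']
    [CommRing Q] [Algebra R Q] [CommRing Q'] [Algebra R Q'] [Algebra Q Q'] [Algebra R' Q']
    [IsScalarTower R Q Q'] [IsScalarTower R R' Q'] [Algebra.IsPushout R R' Q Q']
    [Module.Free R R'] [Module.Finite R R'] [Module.Free Q Q'] [Module.Finite Q Q']
    (d : ℕ) (hd : Module.finrank R R' = d) (hd' : Module.finrank Q Q' = d)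
    {C : Type u} [CommRing C] [Algebra R C] (γ : PolLaw.MulLaw R R' C d) (hγ : PolLaw.IsGammaD γ)
    (π : C →ₐ[R] R) (hπ : PolLaw.MulLaw.postcomp π γ = PolLaw.normLaw R R' d hd)
    {C' : Type u} [CommRing C'] [Algebra R C'] [Algebra Q C'] [IsScalarTower R Q C']
    (γ' : PolLaw.MulLaw Q Q' C' d) (hγ' : PolLaw.IsGammaD γ')
    (π' : C' →ₐ[Q] Q) (hπ' : PolLaw.MulLaw.postcomp π' γ' = PolLaw.normLaw Q Q' d hd')
    (θ : C →ₐ[R] C')
    (hθ : ∀ (P : Type u) [CommRing P] [Algebra R P] [Algebra Q P] [IsScalarTower R Q P] (z : P ⊗[R] R'),
      γ'.law.toFun' P (PolLaw.bcAlong (IsScalarTower.toAlgHom R R' Q').toLinearMap P z) =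
        PolLaw.bcAlong θ.toLinearMap P (γ.law.toFun' P z)) :
    ∀ c : C, π' (θ c) = algebraMap R Q (π c) := by
  have hπ₀ : ∀ (P : Type u) [CommRing P] [Algebra R P] (z : P ⊗[R] R'),
      π.toLinearMap.lTensor P (γ.law.toFun' P z) = Algebra.norm P z ⊗ₜ[R] (1 : R) := by
    intro P _ _ z
    have h := congrArg (fun F => F.law.toFun' P z) hπ
    simp only [PolLaw.normLaw_apply] at h
    exact h
  have hπ₁ : ∀ (P : Type u) [CommRing P] [Algebra Q P] (z : P ⊗[Q] Q'),
      π'.toLinearMap.lTensor P (γ'.law.toFun' P z) = Algebra.norm P z ⊗ₜ[Q] (1 : Q) := by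
    intro P _ _ z
    have h := congrArg (fun F => F.law.toFun' P z) hπ'
    simp only [PolLaw.normLaw_apply] at h
    exact h
  let f₁ : C →ₐ[R] Q := (π'.restrictScalars R).comp θ
  let f₂ : C →ₐ[R] Q := (Algebra.ofId R Q).comp π
  have hlaw : PolLaw.postcomp f₁.toLinearMap γ.law = PolLaw.postcomp f₂.toLinearMap γ.law := by
    refine Groth.Misc13.NormBC.postcomp_eq_of_bcAlong_eq (Q := Q) γ.law _ _ ?_
    intro P _ _ _ _ z
    have e₁ : ∀ w : P ⊗[R] C, PolLaw.bcAlong (Q := Q) f₁.toLinearMap P w =
        π'.toLinearMap.lTensor P (PolLaw.bcAlong (Q := Q) θ.toLinearMap P w) := by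
      intro w
      induction w using TensorProduct.induction_on with
      | zero => simp
      | tmul p c => simp [f₁, Groth.Misc13.NormBC.bcAlong_tmul]
      | add a b ha hb => simp only [map_add, ha, hb]
    have e₂ : ∀ w : P ⊗[R] C, PolLaw.bcAlong (Q := Q) f₂.toLinearMap P w =
        PolLaw.bcAlong (Q := Q) (Algebra.linearMap R Q) P (π.toLinearMap.lTensor P w) := by
      intro w
      induction w using TensorProduct.induction_on with
      | zero => simp
      | tmul p c => simp [f₂, Groth.Misc13.NormBC.bcAlong_tmul]
      | add a b ha hb => simp only [map_add, ha, hb]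
    rw [e₁, e₂, ← hθ P z, hπ₁, hπ₀, Groth.Misc13.NormBC.norm_bcAlong,
      Groth.Misc13.NormBC.bcAlong_tmul, Algebra.linearMap_apply, map_one]
  obtain ⟨f, -, huniq⟩ := hγ Q (PolLaw.MulLaw.postcomp f₂ γ)
  have h12 : f₁ = f₂ := (huniq f₁ hlaw).trans (huniq f₂ rfl).symm
  intro c
  exact DFunLike.congr_fun h12 c

end Groth.Agent.S17914
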