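import Groth.Statements.S17917
import Groth.Agent.Misc13.KIntRef
import Groth.Agent.EulerDeg.Coherent
import Groth.Agent.Variety2.ProjBasics

set_option autoImplicit false
universe u
open CategoryTheory CategoryTheory.Limits AlgebraicGeometry
open RefCh

namespace Groth.Agent.S17917

/-- Let k be an algebraically closed field, X an integral normal scheme of dimension s + 2 admitting a
closed immersion into some P^N_k over k, and L_1, …, L_s invertible O_X-modules with inverses M_1,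
…, M_s. Let ℒ_1 be a coherent reflexive O_X-module of rank one (ℒ_1 = O_X(D_1) for a Weil divisor
D_1, with dual ℒ_1^∨ = O_X(-D_1)) and ℒ_2 an invertible O_X-module (a Cartier divisor D_2) with
inverse 𝓜_2. With q(ℱ) the limit of 2 χ(c_1(L_1) ⋯ c_1(L_s) · [ℱ^[m]]) / m^2 (reflexive powers,
FGA.intNum in the M_i), assumed to exist for ℒ_1, ℒ_2 and the reflexive hull ℒ_1 ⊗̂ ℒ_2 of ℒ_1 ⊗
ℒ_2, one has (q(ℒ_1 ⊗̂ ℒ_2) - q(ℒ_1) - q(ℒ_2)) / 2 = χ(c_1(ℒ_2) c_1(L_1) ⋯ c_1(L_s) · ([O_X] -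
[ℒ_1^∨])), the right side written as the difference of the alternating sums FGA.intNum in (𝓜_2, M_1,
…, M_s) of O_X and of ℒ_1^∨; that is, D_1 · D_2 · L_1 ⋯ L_s equals the usual intersection number of
the Cartier divisor D_2 and the L_i with the cycle of D_1. (The published text normalises D^2 · L_1
⋯ L_s as twice the limit of χ(c_1(L_1) ⋯ c_1(L_s) · ([O_X] - [O_X(-mD)])) / m^2, the negative of the
number used here, and with that sign the identity fails for two lines on the projective plane, where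
it would read -1 = 1.) -/
theorem result (k : Type u) [Field k] [IsAlgClosed k] (X : Scheme.{u}) [X.Over (Spec (CommRingCat.of k))]
    [AlgebraicGeometry.IsIntegral X] (hnorm : Pi1.IsNormalScheme X) (s : ℕ) (hdim : topologicalKrullDim X = (s + 2 : ℕ))
    (hproj : ∃ (N : ℕ) (ι : X ⟶ CohB1.ProjSpace N k), IsClosedImmersion ι ∧ ι ≫ CohB1.ProjSpace.toSpec N k = X ↘ Spec (CommRingCat.of k))
    (L M : Fin s → X.Modules) (hL : ∀ i, PicF.IsInvertible (L i))
    (hLM : ∀ i, Nonempty (CohB1.tensorMod (L i) (M i) ≅ Coh.structureModule X))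
    (ℒ₁ ℒ₂ 𝓜₂ : X.Modules) (h₁ : RefHull.IsRef1 ℒ₁) (h₂ : PicF.IsInvertible ℒ₂)
    (h₂' : Nonempty (CohB1.tensorMod ℒ₂ 𝓜₂ ≅ Coh.structureModule X))
    (q₁ q₂ q₁₂ : ℝ)
    (hq₁ : Filter.Tendsto (fun m : ℕ => (2 : ℝ) * (FGA.intNum k X (s + 2) M (RefPow.refPow ℒ₁ m) : ℝ) / ((m : ℝ) ^ 2)) Filter.atTop (nhds q₁))
    (hq₂ : Filter.Tendsto (fun m : ℕ => (2 : ℝ) * (FGA.intNum k X (s + 2) M (RefPow.refPow ℒ₂ m) : ℝ) / ((m : ℝ) ^ 2)) Filter.atTop (nhds q₂))
    (hq₁₂ : Filter.Tendsto (fun m : ℕ => (2 : ℝ) * (FGA.intNum k X (s + 2) M (RefPow.refPow (RefPow.refTensor ℒ₁ ℒ₂) m) : ℝ) / ((m : ℝ) ^ 2)) Filter.atTop (nhds q₁₂)) :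
    (q₁₂ - q₁ - q₂) / 2 =
      ((FGA.intNum k X (s + 2) (Fin.cons 𝓜₂ M) (Coh.structureModule X) -
        FGA.intNum k X (s + 2) (Fin.cons 𝓜₂ M) (RefHull.dual ℒ₁) : ℤ) : ℝ) := by
  open Groth.Misc13.KNilp Groth.Misc13.KC1 Groth.Misc13.KInt Groth.Misc13.KIntRef Groth.RefRank in
  obtain ⟨N, ι, hι, hιs⟩ := hproj
  have : IsProper (X ↘ Spec (CommRingCat.of k)) := hιs ▸ inferInstance
  have : AlgebraicGeometry.IsNoetherian X := Groth.EulerDeg.isNoetherian_of_proper k X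
  have hd : topologicalKrullDim X ≤ ((s + 2 : ℕ) : WithBot ℕ∞) := hdim.le
  have hδ := isDimFun_dimFn (X ↘ Spec (CommRingCat.of k))
  have hη := dimFn_genericPoint hdim
  have hM : ∀ i, PicF.IsInvertible (M i) := fun i => isInvertible_inv (hLM i)
  have h𝓜 := isInvertible_inv h₂'
  have hO : RefHull.IsRef1 (Coh.structureModule X) := isRef1_structure
  let P : SGA6.Kcoh X →+ ℤ := (chi k hd).comp (prodC1 M hM)
  let O := kc (Coh.structureModule X)
  let c := c1 h₂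
  have hP : ∀ m : ℤ, m < s → ∀ x ∈ supSub {x | dimFn X x ≤ m}, P x = 0 := by
    intro m hm x hx
    show chi k hd (prodC1 M hM x) = 0
    rw [eq_zero_of_neg hδ hdim hη (by omega) (prodC1_mem hδ M hM _ _ hx), map_zero]
  have htop : ∀ {G : X.Modules}, Coh.IsCoh G →
      kc G ∈ supSub {x | dimFn X x ≤ ((s + 2 : ℕ) : ℤ)} := fun hG =>
    mem_supSub hG fun x _ => hη ▸ Groth.Misc13.KRef1.delta_le_gen hδ x
  have hPc3 : ∀ x, P (c (c (c x))) = 0 := by
    intro x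
    have h0 : ((P.comp c).comp c).comp c = 0 := Groth.KTheory.k0sub_hom_ext fun G hG => by
      exact hP _ (by push_cast; omega) _
        (c1_mem hδ h₂ _ (c1_mem hδ h₂ _ (c1_mem hδ h₂ _ (htop hG))))
    exact DFunLike.congr_fun h0 x
  have hb : ∀ x ∈ supSub {x | dimFn X x ≤ dimFn X (genericPoint ↥X) - 2}, (P.comp c) x = 0 :=
    fun x hx => hP _ (by rw [hη]; push_cast; omega) _ (c1_mem hδ h₂ _ hx)
  have he : ∀ x ∈ supSub {x | dimFn X x ≤ dimFn X (genericPoint ↥X) - 2}, ((P.comp c).comp c) x = 0 :=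
    fun x hx => hP _ (by rw [hη]; push_cast; omega) _ (c1_mem hδ h₂ _ (c1_mem hδ h₂ _ hx))
  let g : ℤ := P (c (kc ℒ₁)) - P (c O)
  have he0 : P (c (c (kc ℒ₁))) = P (c (c O)) := by
    have h := hP _ (by rw [hη]; push_cast; omega) _
      (c1_mem hδ h₂ _ (c1_mem hδ h₂ _ (unit_sub_mem hδ hnorm h₁)))
    rw [map_sub, map_sub, map_sub, sub_eq_zero] at h
    exact h.symm
  have hbm : ∀ m : ℕ, P (c (kc (RefPow.refPow ℒ₁ m))) = P (c O) + (m : ℤ) * g := fun m => by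
    have h := map_refPow hδ hnorm (P.comp c) hb h₁ m
    rw [nsmul_eq_mul] at h
    exact h
  have hem : ∀ m : ℕ, P (c (c (kc (RefPow.refPow ℒ₁ m)))) = P (c (c O)) := fun m => by
    have h : P (c (c (kc (RefPow.refPow ℒ₁ m)))) = P (c (c O)) + m • (P (c (c (kc ℒ₁))) - P (c (c O))) :=
      map_refPow hδ hnorm ((P.comp c).comp c) he h₁ m
    rw [he0, sub_self, nsmul_zero, add_zero] at h
    exact h
  obtain ⟨d₁, hd₁⟩ := exists_hasDiv h₁
  have h₂r := isRef1_of_invertible h₂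
  obtain ⟨d₂, hd₂⟩ := exists_hasDiv h₂r
  have hint : ∀ {G : X.Modules}, Coh.IsCoh G → FGA.intNum k X (s + 2) M G = P (kc G) :=
    fun hG => intNum_eq k hd M hM hG
  have e₂ : ∀ m : ℕ, 2 * FGA.intNum k X (s + 2) M (RefPow.refPow ℒ₂ m) =
      2 * P O - 2 * (m : ℤ) * P (c O) + (m : ℤ) * ((m : ℤ) - 1) * P (c (c O)) := by
    intro m
    have hr := isRef1_refPow h₂r m
    have ht := isRef1_tw h₂ hO m
    obtain ⟨e⟩ := nonempty_iso_of_hasDiv hnorm hr ht (hasDiv_refPow hnorm h₂r hd₂ m)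
      (by simpa using! hasDiv_tw hnorm h₂ hO hd₂ hasDiv_structure m)
    rw [hint hr.1, kc_iso e hr.1 ht.1, kc_tw h₂ hO.1 m]
    exact iterate_expand c P hPc3 m _
  have e₁₂ : ∀ m : ℕ, 2 * FGA.intNum k X (s + 2) M (RefPow.refPow (RefPow.refTensor ℒ₁ ℒ₂) m) =
      2 * FGA.intNum k X (s + 2) M (RefPow.refPow ℒ₁ m) +
        2 * FGA.intNum k X (s + 2) M (RefPow.refPow ℒ₂ m) - 2 * P O - 2 * (m : ℤ) ^ 2 * g := by
    intro m
    have h12 := isRef1_refTensor h₁ h₂r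
    have hr := isRef1_refPow h12 m
    have hx := isRef1_refPow h₁ m
    have ht := isRef1_tw h₂ hx m
    have hdiv := hasDiv_refPow hnorm h12 (hasDiv_refTensor hnorm h₁ h₂r hd₁ hd₂) m
    rw [show (fun y => (m : ℤ) * (d₁ y + d₂ y)) = fun y => (m : ℤ) * d₂ y + (m : ℤ) * d₁ y from
      funext fun y => by ring] at hdiv
    obtain ⟨e⟩ := nonempty_iso_of_hasDiv hnorm hr ht hdiv
      (hasDiv_tw hnorm h₂ hx hd₂ (hasDiv_refPow hnorm h₁ hd₁ m) m)
    rw [e₂ m, hint hr.1, kc_iso e hr.1 ht.1, kc_tw h₂ hx.1 m, hint hx.1]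
    refine (iterate_expand c P hPc3 m _).trans ?_
    rw [hbm m, hem m]
    ring
  have hdual := isRef1_dual h₁
  have eR : FGA.intNum k X (s + 2) (Fin.cons 𝓜₂ M) (Coh.structureModule X) -
      FGA.intNum k X (s + 2) (Fin.cons 𝓜₂ M) (RefHull.dual ℒ₁) = -g := by
    rw [intNum_eq k hd _ (invertible_cons h𝓜 hM) hO.1, intNum_eq k hd _ (invertible_cons h𝓜 hM) hdual.1,
      prodC1_cons _ _ h𝓜 hM, prodC1_cons _ _ h𝓜 hM]
    show P (c1 h𝓜 O) - P (c1 h𝓜 (kc (RefHull.dual ℒ₁))) = -g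
    have hx := unit_sub_mem hδ hnorm hdual
    have hcc : P (c (c1 h𝓜 (O - kc (RefHull.dual ℒ₁)))) = 0 :=
      hP _ (by rw [hη]; push_cast; omega) _ (c1_mem hδ h₂ _ (c1_mem hδ h𝓜 _ hx))
    have hinv : c1 (isInvertible_tensor h₂ h𝓜) = 0 := Groth.KTheory.k0sub_hom_ext fun G hG => by
      show c1 _ (kc G) = 0
      have hc := Groth.RefRank.isCoh_tensorMod (isCoh_of_invertible h₂) (isCoh_of_invertible h𝓜)
      rw [c1_kc _ hG, sub_eq_zero]
      refine ((kc_iso (((DCoh.tensorBi (X := X)).mapIso h₂'.some).app G ≪≫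
        (Groth.PicAux.exists_leftUnitor G).choose) ?_ hG)).symm
      exact Groth.RefRank.isCoh_tensorMod hc hG
    have h0 := DFunLike.congr_fun ((c1_tensor h₂ h𝓜 (isInvertible_tensor h₂ h𝓜)).symm.trans hinv)
      (O - kc (RefHull.dual ℒ₁))
    simp only [AddMonoidHom.sub_apply, AddMonoidHom.add_apply, AddMonoidHom.comp_apply,
      AddMonoidHom.zero_apply] at h0
    have h1 := congrArg P h0
    rw [map_sub P, map_add P, hcc, map_zero, sub_zero] at h1
    have h2 : P (c (kc (RefHull.dual ℒ₁))) - P (c O) = -g := map_dual hδ hnorm (P.comp c) hb h₁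
    simp only [map_sub] at h1
    linarith
  have key : q₁₂ = q₁ + q₂ + (-2 * g : ℤ) := by
    refine eq_of_affine (a := (-2 * P O : ℤ)) (b := 0) hq₁₂ ((hq₁.add hq₂).add_const _) fun m hm => ?_
    have hm' : (m : ℝ) ≠ 0 := by exact_mod_cast hm.ne'
    have h := congrArg (fun z : ℤ => (z : ℝ)) (e₁₂ m)
    push_cast at h ⊢
    rw [h]
    field_simp
    ring
  rw [eR, key]
  push_cast
  ring

end Groth.Agent.S17917
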