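import Groth.Statements.S17918
import Groth.Agent.Misc13.KIntRef
import Groth.Agent.EulerDeg.Coherent
import Groth.Agent.Variety2.ProjBasics

set_option autoImplicit false
universe u
open CategoryTheory CategoryTheory.Limits AlgebraicGeometry
open RefCh

namespace Groth.Agent.S17918

/-- Let k be an algebraically closed field, X an integral normal scheme of dimension s + 3 admitting a
closed immersion into some P^N_k over k, L_1, …, L_s, A and B invertible O_X-modules with inverses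
M_1, …, M_s, A' and B' (so that A' ⊗ B' is an inverse of A ⊗ B), and ℒ a coherent reflexive
O_X-module of rank one (ℒ = O_X(D)). Suppose 2 χ(c_1(A) c_1(L_1) ⋯ c_1(L_s) · [ℒ^[m]]) / m^2 → a, 2
χ(c_1(B) c_1(L_1) ⋯ c_1(L_s) · [ℒ^[m]]) / m^2 → b and 2 χ(c_1(A ⊗ B) c_1(L_1) ⋯ c_1(L_s) · [ℒ^[m]])
/ m^2 → c as m → ∞, the Euler characteristics being the alternating sums FGA.intNum in (A', M_1, …,
M_s), (B', M_1, …, M_s) and (A' ⊗ B', M_1, …, M_s) of the reflexive powers ℒ^[m]. Then c = a + b: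
the self-intersection number D^2 · L_0 · L_1 ⋯ L_s is additive in the invertible module L_0. -/
theorem result (k : Type u) [Field k] [IsAlgClosed k] (X : Scheme.{u}) [X.Over (Spec (CommRingCat.of k))]
    [AlgebraicGeometry.IsIntegral X] (hnorm : Pi1.IsNormalScheme X) (s : ℕ) (hdim : topologicalKrullDim X = (s + 3 : ℕ))
    (hproj : ∃ (N : ℕ) (ι : X ⟶ CohB1.ProjSpace N k), IsClosedImmersion ι ∧ ι ≫ CohB1.ProjSpace.toSpec N k = X ↘ Spec (CommRingCat.of k))
    (L M : Fin s → X.Modules) (hL : ∀ i, PicF.IsInvertible (L i))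
    (hLM : ∀ i, Nonempty (CohB1.tensorMod (L i) (M i) ≅ Coh.structureModule X))
    (A A' B B' : X.Modules) (hA : PicF.IsInvertible A) (hB : PicF.IsInvertible B)
    (hAA' : Nonempty (CohB1.tensorMod A A' ≅ Coh.structureModule X))
    (hBB' : Nonempty (CohB1.tensorMod B B' ≅ Coh.structureModule X))
    (ℒ : X.Modules) (hℒ : RefHull.IsRef1 ℒ) (a b c : ℝ)
    (ha : Filter.Tendsto (fun m : ℕ => (2 : ℝ) * (FGA.intNum k X (s + 3) (Fin.cons A' M) (RefPow.refPow ℒ m) : ℝ) / ((m : ℝ) ^ 2)) Filter.atTop (nhds a))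
    (hb : Filter.Tendsto (fun m : ℕ => (2 : ℝ) * (FGA.intNum k X (s + 3) (Fin.cons B' M) (RefPow.refPow ℒ m) : ℝ) / ((m : ℝ) ^ 2)) Filter.atTop (nhds b))
    (hc : Filter.Tendsto (fun m : ℕ => (2 : ℝ) * (FGA.intNum k X (s + 3) (Fin.cons (CohB1.tensorMod A' B') M) (RefPow.refPow ℒ m) : ℝ) / ((m : ℝ) ^ 2)) Filter.atTop (nhds c)) :
    c = a + b := by
  open Groth.Misc13.KNilp Groth.Misc13.KC1 Groth.Misc13.KInt Groth.Misc13.KIntRef in
  obtain ⟨N, ι, hι, hιs⟩ := hproj
  have : IsProper (X ↘ Spec (CommRingCat.of k)) := hιs ▸ inferInstance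
  have : AlgebraicGeometry.IsNoetherian X := Groth.EulerDeg.isNoetherian_of_proper k X
  have hd : topologicalKrullDim X ≤ ((s + 3 : ℕ) : WithBot ℕ∞) := hdim.le
  have hδ := isDimFun_dimFn (X ↘ Spec (CommRingCat.of k))
  have hη := dimFn_genericPoint hdim
  have hA' := isInvertible_inv hAA'
  have hB' := isInvertible_inv hBB'
  have hM : ∀ i, PicF.IsInvertible (M i) := fun i => isInvertible_inv (hLM i)
  have hAB := isInvertible_tensor hA' hB'
  let f : SGA6.Kcoh X →+ ℤ :=
    (((chi k hd).comp (prodC1 M hM)).comp (c1 hA')).comp (c1 hB')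
  have hf : ∀ c ∈ supSub {x | dimFn X x ≤ dimFn X (genericPoint ↥X) - 2}, f c = 0 := by
    intro c hc
    have h := prodC1_mem hδ M hM _ _ (c1_mem hδ hA' _ (c1_mem hδ hB' _ hc))
    have h0 := eq_zero_of_neg hδ hdim hη (by rw [hη]; push_cast; omega) h
    show chi k hd (prodC1 M hM (c1 hA' (c1 hB' c))) = 0
    rw [h0, map_zero]
  have key : ∀ m, (FGA.intNum k X (s + 3) (Fin.cons (CohB1.tensorMod A' B') M) (RefPow.refPow ℒ m) : ℤ) =
      FGA.intNum k X (s + 3) (Fin.cons A' M) (RefPow.refPow ℒ m) +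
        FGA.intNum k X (s + 3) (Fin.cons B' M) (RefPow.refPow ℒ m) -
        (f (kc (Coh.structureModule X)) + m • (f (kc ℒ) - f (kc (Coh.structureModule X)))) := by
    intro m
    have hc' := (Groth.RefRank.isRef1_refPow hℒ m).1
    rw [intNum_eq k hd _ (invertible_cons hAB hM) hc', intNum_eq k hd _ (invertible_cons hA' hM) hc',
      intNum_eq k hd _ (invertible_cons hB' hM) hc', prodC1_cons _ _ hAB hM, prodC1_cons _ _ hA' hM,
      prodC1_cons _ _ hB' hM, c1_tensor hA' hB' hAB, ← map_refPow hδ hnorm f hf hℒ m]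
    simp [f, map_add, map_sub]
  refine eq_of_affine (a := -(2 * f (kc (Coh.structureModule X)) : ℤ))
    (b := -(2 * (f (kc ℒ) - f (kc (Coh.structureModule X))) : ℤ)) hc (ha.add hb) fun m _ => ?_
  rw [key m]
  push_cast [nsmul_eq_mul]
  ring

end Groth.Agent.S17918
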