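import Groth.Statements.S17919
import Groth.Agent.Misc13.FrobAffine
import Groth.Agent.EulerDeg.Coherent
import Groth.Agent.Variety2.ProjBasics

set_option autoImplicit false
universe u
open CategoryTheory CategoryTheory.Limits AlgebraicGeometry
open RefCh

namespace Groth.Agent.S17919

/-- Let k be an algebraically closed field of characteristic p > 0, X an integral normal scheme of
dimension s + 3 admitting a closed immersion into some P^N_k over k, L_1, …, L_s, A and B invertible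
O_X-modules with inverses M_1, …, M_s, A' and B', E a coherent reflexive O_X-module, and (G_m) its
reflexive Frobenius pull-backs F_X^[m] E (G_0 = E, G_{m+1} ≅ (F_X^* G_m)^**). Suppose χ(c_1(A)
c_1(L_1) ⋯ c_1(L_s) · [G_m]) / p^{2m} → a, χ(c_1(B) c_1(L_1) ⋯ c_1(L_s) · [G_m]) / p^{2m} → b and
χ(c_1(A ⊗ B) c_1(L_1) ⋯ c_1(L_s) · [G_m]) / p^{2m} → c as m → ∞ (alternating sums FGA.intNum in (A',
M_1, …, M_s), (B', M_1, …, M_s) and (A' ⊗ B', M_1, …, M_s)). Then c = a + b: the number ∫_X ch_2(E)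
L_0 L_1 ⋯ L_s, defined as such a limit, is additive in the invertible module L_0. -/
theorem result (k : Type u) [Field k] [IsAlgClosed k] (X : Scheme.{u}) [X.Over (Spec (CommRingCat.of k))]
    [AlgebraicGeometry.IsIntegral X] (hnorm : Pi1.IsNormalScheme X) (s : ℕ) (hdim : topologicalKrullDim X = (s + 3 : ℕ))
    (hproj : ∃ (N : ℕ) (ι : X ⟶ CohB1.ProjSpace N k), IsClosedImmersion ι ∧ ι ≫ CohB1.ProjSpace.toSpec N k = X ↘ Spec (CommRingCat.of k))
    (p : ℕ) [Fact p.Prime] [CharP k p] [FrobSch.IsCharP X p]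
    (L M : Fin s → X.Modules) (hL : ∀ i, PicF.IsInvertible (L i))
    (hLM : ∀ i, Nonempty (CohB1.tensorMod (L i) (M i) ≅ Coh.structureModule X))
    (A A' B B' : X.Modules) (hA : PicF.IsInvertible A) (hB : PicF.IsInvertible B)
    (hAA' : Nonempty (CohB1.tensorMod A A' ≅ Coh.structureModule X))
    (hBB' : Nonempty (CohB1.tensorMod B B' ≅ Coh.structureModule X))
    (E : X.Modules) (hE : Coh.IsCoh E) (hEr : RefHull.IsReflexive E)
    (G : ℕ → X.Modules) (hG0 : G 0 = E)
    (hG : ∀ m, Nonempty (G (m + 1) ≅ RefHull.ddual ((Scheme.Modules.pullback (FrobSch.frob X p)).obj (G m)))) (a b c : ℝ)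
    (ha : Filter.Tendsto (fun m : ℕ => (FGA.intNum k X (s + 3) (Fin.cons A' M) (G m) : ℝ) / ((p : ℝ) ^ (2 * m))) Filter.atTop (nhds a))
    (hb : Filter.Tendsto (fun m : ℕ => (FGA.intNum k X (s + 3) (Fin.cons B' M) (G m) : ℝ) / ((p : ℝ) ^ (2 * m))) Filter.atTop (nhds b))
    (hc : Filter.Tendsto (fun m : ℕ => (FGA.intNum k X (s + 3) (Fin.cons (CohB1.tensorMod A' B') M) (G m) : ℝ) / ((p : ℝ) ^ (2 * m))) Filter.atTop (nhds c)) :
    c = a + b := by
  open Groth.Misc13.KNilp Groth.Misc13.KC1 Groth.Misc13.KInt Groth.Misc13.KIntRef in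
  obtain ⟨N, ι, hι, hιs⟩ := hproj
  have : IsProper (X ↘ Spec (CommRingCat.of k)) := hιs ▸ inferInstance
  have : AlgebraicGeometry.IsNoetherian X := Groth.EulerDeg.isNoetherian_of_proper k X
  have hd : topologicalKrullDim X ≤ ((s + 3 : ℕ) : WithBot ℕ∞) := hdim.le
  have hδ := isDimFun_dimFn (X ↘ Spec (CommRingCat.of k))
  have hη := dimFn_genericPoint hdim
  have hA' := isInvertible_inv hAA'
  have hB' := isInvertible_inv hBB'
  have hM : ∀ i, PicF.IsInvertible (M i) := fun i => isInvertible_inv (hLM i)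
  have hAB := isInvertible_tensor hA' hB'
  let f : SGA6.Kcoh X →+ ℤ :=
    (((chi k hd).comp (prodC1 M hM)).comp (c1 hA')).comp (c1 hB')
  have hf : ∀ c ∈ supSub {x | dimFn X x ≤ dimFn X (genericPoint ↥X) - 2}, f c = 0 := by
    intro c hc
    have h := prodC1_mem hδ M hM _ _ (c1_mem hδ hA' _ (c1_mem hδ hB' _ hc))
    have h0 := eq_zero_of_neg hδ hdim hη (by rw [hη]; push_cast; omega) h
    show chi k hd (prodC1 M hM (c1 hA' (c1 hB' c))) = 0
    rw [h0, map_zero]
  obtain ⟨hc', P, Q, hPQ⟩ := Groth.Misc13.FrobAffine.affine_seq p hδ hη f hf hnorm G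
    (hG0 ▸ hE) (hG0 ▸ hEr) hG
  have key : ∀ m, (FGA.intNum k X (s + 3) (Fin.cons (CohB1.tensorMod A' B') M) (G m) : ℤ) =
      FGA.intNum k X (s + 3) (Fin.cons A' M) (G m) + FGA.intNum k X (s + 3) (Fin.cons B' M) (G m) -
        f (kc (G m)) := by
    intro m
    rw [intNum_eq k hd _ (invertible_cons hAB hM) (hc' m), intNum_eq k hd _ (invertible_cons hA' hM) (hc' m),
      intNum_eq k hd _ (invertible_cons hB' hM) (hc' m), prodC1_cons _ _ hAB hM, prodC1_cons _ _ hA' hM,
      prodC1_cons _ _ hB' hM, c1_tensor hA' hB' hAB]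
    simp [f, map_add, map_sub]
  have hp1 := (Fact.out (p := p.Prime)).one_lt
  have hlim := (tendsto_affine_div (-P : ℝ) (-Q : ℝ)).comp (tendsto_pow_atTop_atTop_of_one_lt hp1)
  have h2 := (ha.add hb).add hlim
  rw [add_zero] at h2
  refine tendsto_nhds_unique hc (h2.congr fun m => ?_)
  rw [key m, hPQ m]
  simp only [Function.comp_apply]
  push_cast
  rw [← pow_mul, mul_comm m 2]
  ring

end Groth.Agent.S17919
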