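import Groth.Statements.S17921
import Groth.Agent.Misc13.KIntRef
import Groth.Agent.Misc13.FrobDiv
import Groth.Agent.EulerDeg.Coherent
import Groth.Agent.Variety2.ProjBasics

set_option autoImplicit false
universe u
open CategoryTheory CategoryTheory.Limits AlgebraicGeometry
open RefCh

namespace Groth.Agent.S17921

/-- Let k be an algebraically closed field of characteristic p > 0, X an integral normal scheme of
dimension s + 2 admitting a closed immersion into some P^N_k over k, L_1, …, L_s invertible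
O_X-modules with inverses M_1, …, M_s, and ℒ a coherent reflexive O_X-module of rank one (ℒ =
O_X(D)), with reflexive Frobenius pull-backs G_m = F_X^[m] ℒ (G_0 = ℒ, G_{m+1} ≅ (F_X^* G_m)^**). If
2 χ(c_1(L_1) ⋯ c_1(L_s) · [ℒ^[m]]) / m^2 → a (so a = D^2 · L_1 ⋯ L_s) and χ(c_1(L_1) ⋯ c_1(L_s) ·
[G_m]) / p^{2m} → b (so b = ∫_X ch_2(ℒ) L_1 ⋯ L_s), the Euler characteristics being the alternating
sums FGA.intNum in the M_i, then a = 2 b: the second Chern number ∫_X c_2(ℒ) L_1 ⋯ L_s = a / 2 - b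
of a rank one reflexive module vanishes. -/
theorem result (k : Type u) [Field k] [IsAlgClosed k] (X : Scheme.{u}) [X.Over (Spec (CommRingCat.of k))]
    [AlgebraicGeometry.IsIntegral X] (hnorm : Pi1.IsNormalScheme X) (s : ℕ) (hdim : topologicalKrullDim X = (s + 2 : ℕ))
    (hproj : ∃ (N : ℕ) (ι : X ⟶ CohB1.ProjSpace N k), IsClosedImmersion ι ∧ ι ≫ CohB1.ProjSpace.toSpec N k = X ↘ Spec (CommRingCat.of k))
    (p : ℕ) [Fact p.Prime] [CharP k p] [FrobSch.IsCharP X p]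
    (L M : Fin s → X.Modules) (hL : ∀ i, PicF.IsInvertible (L i))
    (hLM : ∀ i, Nonempty (CohB1.tensorMod (L i) (M i) ≅ Coh.structureModule X))
    (ℒ : X.Modules) (hℒ : RefHull.IsRef1 ℒ)
    (G : ℕ → X.Modules) (hG0 : G 0 = ℒ)
    (hG : ∀ m, Nonempty (G (m + 1) ≅ RefHull.ddual ((Scheme.Modules.pullback (FrobSch.frob X p)).obj (G m)))) (a b : ℝ)
    (ha : Filter.Tendsto (fun m : ℕ => (2 : ℝ) * (FGA.intNum k X (s + 2) M (RefPow.refPow ℒ m) : ℝ) / ((m : ℝ) ^ 2)) Filter.atTop (nhds a))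
    (hb : Filter.Tendsto (fun m : ℕ => (FGA.intNum k X (s + 2) M (G m) : ℝ) / ((p : ℝ) ^ (2 * m))) Filter.atTop (nhds b)) :
    a = 2 * b := by
  open Groth.Misc13.KNilp Groth.Misc13.KC1 Groth.Misc13.KInt Groth.Misc13.KIntRef Groth.RefRank in
  obtain ⟨N, ι, hι, hιs⟩ := hproj
  have : IsProper (X ↘ Spec (CommRingCat.of k)) := hιs ▸ inferInstance
  have : AlgebraicGeometry.IsNoetherian X := Groth.EulerDeg.isNoetherian_of_proper k X
  have hd : topologicalKrullDim X ≤ ((s + 2 : ℕ) : WithBot ℕ∞) := hdim.le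
  have hM : ∀ i, PicF.IsInvertible (M i) := fun i => isInvertible_inv (hLM i)
  obtain ⟨d, hdiv⟩ := exists_hasDiv hℒ
  have hspec := Groth.Misc13.FrobDiv.frobSeq_spec p hnorm G (hG0 ▸ hℒ) (hG0 ▸ hdiv) hG
  have hint : ∀ m, FGA.intNum k X (s + 2) M (G m) =
      FGA.intNum k X (s + 2) M (RefPow.refPow ℒ (p ^ m)) := by
    intro m
    obtain ⟨h1, h2⟩ := hspec m
    have hr := isRef1_refPow hℒ (p ^ m)
    obtain ⟨e⟩ := nonempty_iso_of_hasDiv hnorm h1 hr h2 (hasDiv_refPow hnorm hℒ hdiv (p ^ m))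
    rw [intNum_eq k hd M hM h1.1, intNum_eq k hd M hM hr.1, kc_iso e h1.1 hr.1]
  have hp : Filter.Tendsto (fun m : ℕ => p ^ m) Filter.atTop Filter.atTop :=
    tendsto_pow_atTop_atTop_of_one_lt (Fact.out (p := p.Prime)).one_lt
  refine tendsto_nhds_unique (ha.comp hp) ((hb.const_mul 2).congr fun m => ?_)
  show (2 : ℝ) * ((FGA.intNum k X (s + 2) M (G m) : ℝ) / (p : ℝ) ^ (2 * m)) = _
  rw [hint m, Function.comp_apply, Nat.cast_pow, ← pow_mul, mul_comm m 2, mul_div_assoc]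

end Groth.Agent.S17921
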