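import Groth.Statements.S17925
import Groth.Agent.Misc13.KDet
import Groth.Agent.Variety2.ProjBasics

set_option autoImplicit false
universe u
open CategoryTheory CategoryTheory.Limits AlgebraicGeometry
open RefCh

namespace Groth.Agent.S17925

/-- Let k be an algebraically closed field, X an integral normal scheme of dimension n = s + 2 admitting
a closed immersion into some P^N_k over k, δ a dimension function on X (Cyc.IsSetup) with δ(generic
point) = n, and F a torsion-free coherent O_X-module whose stalk at the generic point has dimension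
r, with W = Λ^r F and W^** coherent (as it is), so that det F = W^** = O_X(c_1(F)) and [O_{-c_1(F)}]
= [O_X] - [W^**]. With K_m(X) ⊆ K_0(Coh(X)) the subgroup generated by coherent modules with support
of dimension at most m, the class α(F) = [F] - r [O_X] + ([O_X] - [W^**]) lies in K_{n-2}(X): it
vanishes in K_0(Coh(X)) / K_{n-2}(X) (Cyc.toK0CohQuot δ n (n - 2)). -/
theorem result (k : Type u) [Field k] [IsAlgClosed k] (X : Scheme.{u}) [X.Over (Spec (CommRingCat.of k))]
    [AlgebraicGeometry.IsIntegral X] (hnorm : Pi1.IsNormalScheme X) (s : ℕ) (hdim : topologicalKrullDim X = (s + 2 : ℕ))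
    (hproj : ∃ (N : ℕ) (ι : X ⟶ CohB1.ProjSpace N k), IsClosedImmersion ι ∧ ι ≫ CohB1.ProjSpace.toSpec N k = X ↘ Spec (CommRingCat.of k))
    (δ : X → ℤ) (hδ : Cyc.IsSetup X δ) (hδη : δ (genericPoint X) = (s + 2 : ℕ))
    (r : ℕ) (F : X.Modules) (hF : Coh.IsCoh F) (hFtf : TorSh.IsTorsionFree F)
    (hrk : Module.finrank (X.presheaf.stalk (genericPoint X)) (F.presheaf.stalk (genericPoint X)) = r) (W : X.Modules) (hW : ExtPow.IsExtPow r F W)
    (hWc : Coh.IsCoh (RefHull.ddual W)) :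
    Cyc.toK0CohQuot δ (s + 2 : ℕ) (s : ℕ) F - (r : ℤ) • Cyc.toK0CohQuot δ (s + 2 : ℕ) (s : ℕ) (Coh.structureModule X) +
      (Cyc.toK0CohQuot δ (s + 2 : ℕ) (s : ℕ) (Coh.structureModule X) -
        Cyc.toK0CohQuot δ (s + 2 : ℕ) (s : ℕ) (RefHull.ddual W)) = 0 := by
  obtain ⟨N, ι, hι, hcomp⟩ := hproj
  have := hι
  have hN : AlgebraicGeometry.IsNoetherian X := by
    have := hδ.1
    have : CompactSpace (CohB1.ProjSpace N k) :=
      QuasiCompact.compactSpace_of_compactSpace (CohB1.ProjSpace.toSpec N k)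
    have : CompactSpace X := QuasiCompact.compactSpace_of_compactSpace ι
    exact {}
  have hη : δ (genericPoint X) = ((s + 2 : ℕ) : ℤ) := hδη
  have ha : ∀ x, δ x ≤ ((s + 2 : ℕ) : ℤ) := fun x => hη ▸ Groth.Misc13.KRef1.delta_le_gen hδ.2.2 x
  have hfree : ∀ x, Groth.Misc13.KDet.Good δ ((s + 2 : ℕ) : ℤ) x →
      Module.Free (X.presheaf.stalk x) (F.presheaf.stalk x) := fun x hx =>
    haveI := hFtf x
    Groth.Misc13.KDet.free_of_torsionFree hnorm hδ.2.2 hη hF hx
  have hE := Groth.Misc13.KDet.isCoh_extPow hF r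
  have := hF.1
  obtain ⟨e⟩ := Groth.LocFree.nonempty_iso_extPow hW
  have hWcoh : Coh.IsCoh W := Groth.QCohMod.isCoh_of_iso e hE
  have hbW : ∀ x, ((s + 2 : ℕ) : ℤ) - 2 < δ x →
      Function.Bijective ((Groth.QCohMod.stalk x).map (RefHull.bidualMap W)) := by
    intro x hx
    have := hfree x hx
    obtain ⟨U, b, hxU, hb⟩ := Groth.Misc13.KDet.exists_basis_rank hF (x := x) hrk
    obtain ⟨_, ⟨V, hV, rfl⟩, hxV, hVU⟩ := X.isBasis_affineOpens.exists_subset_of_mem_open hxU U.2
    obtain ⟨w, hw⟩ := Groth.LocFree.exists_basis'_extPow hV (hb.res' hVU) r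
    obtain ⟨t, ht⟩ := Groth.Misc13.KDet.exists_stalkBasis_of_basis' hE hw hxV (Nat.choose_self r)
    have := Groth.Misc13.KRef1.free_of_basis ht
    have hbij : Function.Bijective (Groth.KTheory.LocFree.stalkₗ e.hom x) :=
      (ConcreteCategory.isIso_iff_bijective _).1 ((Groth.QCohMod.stalk x).map_isIso e.hom)
    have : Module.Free (X.presheaf.stalk x) (W.presheaf.stalk x) :=
      Module.Free.of_equiv (LinearEquiv.ofBijective _ hbij)
    exact Groth.Misc13.KDet.bijective_bidual_good hnorm hδ.2.2 hWcoh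
  have h2 := Groth.Misc13.KRef1.toQuot_eq_of_bijective (b := ((s + 2 : ℕ) : ℤ) - 2) ha hWcoh hWc
    (RefHull.bidualMap W) hbW
  have h1 := Groth.Misc13.KRef1.toQuot_iso (b := ((s + 2 : ℕ) : ℤ) - 2) ha e hE hWcoh
  have h := Groth.Misc13.KDet.toQuot_det_add hnorm hδ.2.2 hη r F hF hfree hrk
  rw [show ((s + 2 : ℕ) : ℤ) - 2 = ((s : ℕ) : ℤ) by omega] at h h1 h2
  rw [h1, h2] at h
  rw [natCast_zsmul, ← add_sub_assoc, sub_add_eq_add_sub, h]
  abel

end Groth.Agent.S17925
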