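import Groth.Statements.S17926
import Groth.Agent.Misc13.KC1
import Groth.Agent.Variety2.ProjBasics
import Groth.Agent.LocFree.Tensor

set_option autoImplicit false
universe u
open CategoryTheory CategoryTheory.Limits AlgebraicGeometry
open RefCh

namespace Groth.Agent.S17926

/-- Let k be an algebraically closed field, X an integral normal scheme of dimension n = s + 2 admitting
a closed immersion into some P^N_k over k, δ a dimension function on X (Cyc.IsSetup) with δ(generic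
point) = n, L_1, …, L_{n-1} invertible O_X-modules with inverses M_1, …, M_{n-1}, and ℒ a coherent
reflexive O_X-module of rank one (ℒ = O_X(-D) for a Weil divisor D, [O_D] = [O_X] - [ℒ]). With
c_1(L) · [F] = [F] - [L^{-1} ⊗ F] on K_0(Coh(X)), the class c_1(L_1) ⋯ c_1(L_{n-1}) · [O_D] = Σ_{I ⊆
{1, …, n-1}} (-1)^{|I|} ([M_I ⊗ O_X] - [M_I ⊗ ℒ]), where M_I = ⊗_{i ∈ I} M_i (FGA.tensorList of the
sorted I), lies in K_0(X), the subgroup generated by the classes of coherent modules with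
zero-dimensional support: its image in K_0(Coh(X)) / K_0(X) (Cyc.toK0CohQuot δ n 0) vanishes. -/
theorem result (k : Type u) [Field k] [IsAlgClosed k] (X : Scheme.{u}) [X.Over (Spec (CommRingCat.of k))]
    [AlgebraicGeometry.IsIntegral X] (hnorm : Pi1.IsNormalScheme X) (s : ℕ) (hdim : topologicalKrullDim X = (s + 2 : ℕ))
    (hproj : ∃ (N : ℕ) (ι : X ⟶ CohB1.ProjSpace N k), IsClosedImmersion ι ∧ ι ≫ CohB1.ProjSpace.toSpec N k = X ↘ Spec (CommRingCat.of k))
    (δ : X → ℤ) (hδ : Cyc.IsSetup X δ) (hδη : δ (genericPoint X) = (s + 2 : ℕ))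
    (L M : Fin (s + 1) → X.Modules) (hL : ∀ i, PicF.IsInvertible (L i))
    (hLM : ∀ i, Nonempty (CohB1.tensorMod (L i) (M i) ≅ Coh.structureModule X))
    (ℒ : X.Modules) (hℒ : RefHull.IsRef1 ℒ) :
    (∑ I : Finset (Fin (s + 1)), ((-1 : ℤ) ^ I.card) •
      (Cyc.toK0CohQuot δ (s + 2 : ℕ) 0 (CohB1.tensorMod (FGA.tensorList ((I.sort (· ≤ ·)).map M)) (Coh.structureModule X)) -
        Cyc.toK0CohQuot δ (s + 2 : ℕ) 0 (CohB1.tensorMod (FGA.tensorList ((I.sort (· ≤ ·)).map M)) ℒ))) = 0 := by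
  obtain ⟨N, ι, hι, hcomp⟩ := hproj
  have := hι
  have hN : AlgebraicGeometry.IsNoetherian X := by
    have := hδ.1
    have : CompactSpace (CohB1.ProjSpace N k) :=
      QuasiCompact.compactSpace_of_compactSpace (CohB1.ProjSpace.toSpec N k)
    have : CompactSpace X := QuasiCompact.compactSpace_of_compactSpace ι
    exact {}
  have hM : ∀ i, PicF.IsInvertible (M i) := fun i => Groth.PicAux.isInvertible_of_tensor_iso
    ((Groth.PicAux.exists_braiding (M i) (L i)).choose ≪≫ (hLM i).some)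
  have ha : ∀ x, δ x ≤ ((s + 2 : ℕ) : ℤ) := fun x => hδη ▸ Groth.Misc13.KRef1.delta_le_gen hδ.2.2 x
  have h := Groth.Misc13.KC1.prodC1_mem hδ.2.2 M hM _ _
    (Groth.Misc13.KC1.unit_sub_mem hδ.2.2 hnorm hℒ)
  rw [Groth.Misc13.KC1.altSum_sub hδ.2.2 M hM (Cyc.toK0CohQuot δ (s + 2 : ℕ) 0)
    (Groth.Misc13.KRef1.Φ ha 0) (fun G hG => Groth.Misc13.KRef1.Φ_kc ha hG) hℒ.1]
  exact Groth.Misc13.KRef1.Φ_supSub ha (fun x (hx : δ x ≤ _) => by omega) h

end Groth.Agent.S17926
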