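import Groth.Statements.S17927
import Groth.Agent.Misc13.PairGood
import Groth.Agent.Misc13.PairDet
import Groth.Agent.Variety2.ProjBasics

set_option autoImplicit false
universe u
open CategoryTheory CategoryTheory.Limits AlgebraicGeometry
open RefCh

namespace Groth.Agent.S17927

/-- Let k be an algebraically closed field of characteristic p > 0 and X an integral normal scheme of
dimension 2 admitting a closed immersion into some P^N_k over k; let ω be a coherent reflexive rank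
one O_X-module whose restriction to a big open U ⊆ X smooth over k (points outside U have local ring
of dimension at least 2) is Λ^2 Ω_{U/k}, so ω = O_X(K_X). For coherent reflexive rank one ℱ = O_X(D)
write q(ℱ) = D^2 for the limit of 2 χ(ℱ^[m]) / m^2 (Euler characteristics truncated at degree 2,
FGA.eulerCharLE), ℱ ⊗̂ 𝒢 for the reflexive hull of ℱ ⊗ 𝒢 and ⟨ℱ, 𝒢⟩ = (q(ℱ ⊗̂ 𝒢) - q(ℱ) - q(𝒢)) / 2.
Let c be a real-valued function on O_X-modules such that (1) there is φ : ℕ → ℝ with |χ(E) - ((1/2)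
(q(W^**) - ⟨W^**, ω⟩) - c(E) + r χ(O_X))| ≤ φ(r) for every coherent reflexive E whose stalk at the
generic point has dimension r, with W = Λ^r E (det E = W^**, so q(W^**) - ⟨W^**, ω⟩ = c_1(E) ·
(c_1(E) - K_X)), whenever the three limits q(W^**), q(ω), q(W^** ⊗̂ ω) exist; and (2) c(G_m) =
p^{2m} c(E) for every coherent reflexive E and its reflexive Frobenius pull-backs G_0 = E, G_{m+1} ≅
(F_X^* G_m)^**. Then for every coherent reflexive E of rank r with W = Λ^r E and Frobenius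
pull-backs (G_m), if 2 χ((W^**)^[m]) / m^2 → a and χ(G_m) / p^{2m} → b then c(E) = a / 2 - b; that
is, ∫_X c_2 is uniquely determined by the Riemann–Roch bound and the Frobenius scaling, and equals
(1/2) c_1(E)^2 - lim χ(F_X^[m] E) / p^{2m}. (The published statement is for normal proper surfaces;
it is stated here for X projective, where the intersection numbers of Weil divisors are expressed
through the limits q.) -/
theorem result (k : Type u) [Field k] [IsAlgClosed k] (X : Scheme.{u}) [X.Over (Spec (CommRingCat.of k))]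
    [AlgebraicGeometry.IsIntegral X] (hnorm : Pi1.IsNormalScheme X) (hdim : topologicalKrullDim X = 2)
    (hproj : ∃ (N : ℕ) (ι : X ⟶ CohB1.ProjSpace N k), IsClosedImmersion ι ∧ ι ≫ CohB1.ProjSpace.toSpec N k = X ↘ Spec (CommRingCat.of k))
    (p : ℕ) [Fact p.Prime] [CharP k p] [FrobSch.IsCharP X p]
    (ω : X.Modules) (hω : RefHull.IsRef1 ω) (U : X.Opens) [QuasiSeparated (U.ι ≫ (X ↘ Spec (CommRingCat.of k)))]
    (hUsm : Smooth (U.ι ≫ (X ↘ Spec (CommRingCat.of k))))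
    (hUbig : ∀ x : X, x ∉ U → (2 : WithBot ℕ∞) ≤ ringKrullDim (X.presheaf.stalk x))
    (hωU : ExtPow.IsExtPow 2 (Omega.sheaf (U.ι ≫ (X ↘ Spec (CommRingCat.of k)))) (ω.restrict U.ι))
    (c : X.Modules → ℝ)
    (h1 : ∃ φ : ℕ → ℝ, ∀ (r : ℕ) (E : X.Modules), Coh.IsCoh E → RefHull.IsReflexive E → Module.finrank (X.presheaf.stalk (genericPoint X)) (E.presheaf.stalk (genericPoint X)) = r →
      ∀ (W : X.Modules), ExtPow.IsExtPow r E W → ∀ (qE qω qEω : ℝ),
        Filter.Tendsto (fun m : ℕ => (2 : ℝ) * (FGA.eulerCharLE k X (RefPow.refPow (RefHull.ddual W) m) 2 : ℝ) / ((m : ℝ) ^ 2)) Filter.atTop (nhds qE) →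
        Filter.Tendsto (fun m : ℕ => (2 : ℝ) * (FGA.eulerCharLE k X (RefPow.refPow ω m) 2 : ℝ) / ((m : ℝ) ^ 2)) Filter.atTop (nhds qω) →
        Filter.Tendsto (fun m : ℕ => (2 : ℝ) * (FGA.eulerCharLE k X (RefPow.refPow (RefPow.refTensor (RefHull.ddual W) ω) m) 2 : ℝ) / ((m : ℝ) ^ 2)) Filter.atTop (nhds qEω) →
        |(FGA.eulerCharLE k X E 2 : ℝ) - ((1 / 2 : ℝ) * (qE - (qEω - qE - qω) / 2) - c E + (r : ℝ) * (FGA.eulerCharLE k X (Coh.structureModule X) 2 : ℝ))| ≤ φ r)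
    (h2 : ∀ (E : X.Modules), Coh.IsCoh E → RefHull.IsReflexive E →
      ∀ (G : ℕ → X.Modules), G 0 = E →
        (∀ m, Nonempty (G (m + 1) ≅ RefHull.ddual ((Scheme.Modules.pullback (FrobSch.frob X p)).obj (G m)))) →
        ∀ m, c (G m) = (p : ℝ) ^ (2 * m) * c E)
    (r : ℕ) (E : X.Modules) (hE : Coh.IsCoh E) (hEr : RefHull.IsReflexive E) (hrk : Module.finrank (X.presheaf.stalk (genericPoint X)) (E.presheaf.stalk (genericPoint X)) = r)
    (W : X.Modules) (hW : ExtPow.IsExtPow r E W)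
    (G : ℕ → X.Modules) (hG0 : G 0 = E)
    (hG : ∀ m, Nonempty (G (m + 1) ≅ RefHull.ddual ((Scheme.Modules.pullback (FrobSch.frob X p)).obj (G m)))) (a b : ℝ)
    (ha : Filter.Tendsto (fun m : ℕ => (2 : ℝ) * (FGA.eulerCharLE k X (RefPow.refPow (RefHull.ddual W) m) 2 : ℝ) / ((m : ℝ) ^ 2)) Filter.atTop (nhds a))
    (hb : Filter.Tendsto (fun m : ℕ => (FGA.eulerCharLE k X (G m) 2 : ℝ) / ((p : ℝ) ^ (2 * m))) Filter.atTop (nhds b)) :
    c E = a / 2 - b := by
  open Groth.Misc13 Groth.Misc13.PairDiv Groth.Misc13.KInt in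
  obtain ⟨N, ι, hι, hιs⟩ := hproj
  have : IsProper (X ↘ Spec (CommRingCat.of k)) := hιs ▸ inferInstance
  have : AlgebraicGeometry.IsNoetherian X := Groth.EulerDeg.isNoetherian_of_proper k X
  obtain ⟨H, hH⟩ := PairPos.exists_isAmple ι
  have hd2 : topologicalKrullDim X ≤ ((2 : ℕ) : WithBot ℕ∞) := by rw [hdim]; norm_num
  obtain ⟨B, hadd₁, hadd₂, hlim⟩ := PairGood.exists_pairing (k := k) hnorm (s := 0)
    (by rw [hdim]; norm_num) (d := 2) hd2 hH Fin.elim0 (fun i => i.elim0)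
  have hint : ∀ F : X.Modules, Coh.IsCoh F →
      FGA.intNum k X 2 (Fin.elim0 : Fin 0 → X.Modules) F = FGA.eulerCharLE k X F 2 := fun F hF => by
    rw [intNum_eq k hd2 _ (fun i => i.elim0) hF]
    exact chi_kc k hd2 hF
  have hlim' : ∀ F : X.Modules, RefHull.IsRef1 F → ∀ x : WDiv X, Groth.RefRank.HasDiv F x.1 →
      Filter.Tendsto (fun m : ℕ => (2 : ℝ) * (FGA.eulerCharLE k X (RefPow.refPow F m) 2 : ℝ) / ((m : ℝ) ^ 2))
        Filter.atTop (nhds (B x x)) := fun F hF x hx => by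
    refine (hlim F hF x hx).congr fun m => ?_
    rw [hint _ (Groth.RefRank.isRef1_refPow hF m).1]
  obtain ⟨φ, hφ⟩ := h1
  obtain ⟨w, hw⟩ := exists_div hω
  have := hE.1
  obtain ⟨ε⟩ := Groth.LocFree.nonempty_iso_extPow hW
  have hD := PairDet.isRef1_det hE hrk
  have hD' : RefHull.IsRef1 (RefHull.ddual W) :=
    FrobDiv.isRef1_iso (RefFun.ddualIso ε) hD
  obtain ⟨x, hx⟩ := exists_div hD
  have ha' := tendsto_nhds_unique ha (hlim' _ hD' x
    (Groth.RefRank.hasDiv_iso hnorm hD hD' (RefFun.ddualIso ε) hx))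
  subst ha'
  subst hG0
  have hseq := PairDet.det_frobSeq p hnorm G hE hEr hrk hx hG
  have hnsl : ∀ (n : ℕ) (u v : WDiv X), B (n • u) v = n * B u v := by
    intro n u v
    induction n with
    | zero =>
      rw [zero_nsmul, Nat.cast_zero, zero_mul]
      have := hadd₁ 0 0 v
      rw [add_zero] at this
      linarith
    | succ n ih => rw [succ_nsmul, hadd₁, ih]; push_cast; ring
  have hnsr : ∀ (n : ℕ) (u v : WDiv X), B u (n • v) = n * B u v := by
    intro n u v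
    induction n with
    | zero =>
      rw [zero_nsmul, Nat.cast_zero, zero_mul]
      have := hadd₂ u 0 0
      rw [add_zero] at this
      linarith
    | succ n ih => rw [succ_nsmul, hadd₂, ih]; push_cast; ring
  set χ0 : ℝ := (FGA.eulerCharLE k X (Coh.structureModule X) 2 : ℝ)
  set C : ℝ := (B x w + B w x) / 2
  have key : ∀ m : ℕ, |(FGA.eulerCharLE k X (G m) 2 : ℝ) -
      ((1 / 2 : ℝ) * ((p : ℝ) ^ (2 * m) * B x x - (p : ℝ) ^ m * C) -
        (p : ℝ) ^ (2 * m) * c (G 0) + (r : ℝ) * χ0)| ≤ φ r := by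
    intro m
    obtain ⟨i1, i2, i3, i4⟩ := hseq m
    have := i1.1
    have hM := PairDet.isRef1_det i1 i3
    have hMx : Groth.RefRank.HasDiv (RefHull.ddual (Groth.LocFree.extPow r (G m))) ((p ^ m) • x : WDiv X).1 :=
      hasDiv_congr (fun y _ => by rw [AddSubgroup.coe_nsmul, Pi.smul_apply, nsmul_eq_mul]) i4
    have h := hφ r (G m) i1 i2 i3 (Groth.LocFree.extPow r (G m)) (Groth.LocFree.isExtPow_extPow r (G m))
      _ _ _ (hlim' _ hM _ hMx) (hlim' _ hω w hw)
      (hlim' _ (Groth.RefRank.isRef1_refTensor hM hω) ((p ^ m) • x + w)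
        (Groth.RefRank.hasDiv_refTensor hnorm hM hω hMx hw))
    rw [h2 (G 0) hE hEr G rfl hG m] at h
    refine le_of_eq_of_le ?_ h
    congr 2
    simp only [hadd₁, hadd₂, hnsl, hnsr, C, χ0]
    push_cast
    ring
  have hp1 : (1 : ℝ) < p := by exact_mod_cast (Fact.out : p.Prime).one_lt
  have hq : Filter.Tendsto (fun m : ℕ => (((p : ℝ) ^ m))⁻¹) Filter.atTop (nhds 0) :=
    (tendsto_pow_atTop_atTop_of_one_lt hp1).inv_tendsto_atTop
  have hrest : Filter.Tendsto (fun m : ℕ => (1 / 2 : ℝ) * B x x - c (G 0) -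
      (C / 2) * ((p : ℝ) ^ m)⁻¹ + (r : ℝ) * χ0 * (((p : ℝ) ^ m)⁻¹ * ((p : ℝ) ^ m)⁻¹))
      Filter.atTop (nhds ((1 / 2 : ℝ) * B x x - c (G 0))) := by
    have := ((hq.const_mul (C / 2)).const_sub ((1 / 2 : ℝ) * B x x - c (G 0))).add
      ((hq.mul hq).const_mul ((r : ℝ) * χ0))
    simpa using this
  have hdiff : Filter.Tendsto (fun m : ℕ => (FGA.eulerCharLE k X (G m) 2 : ℝ) / ((p : ℝ) ^ (2 * m)) -
      ((1 / 2 : ℝ) * B x x - c (G 0) -
      (C / 2) * ((p : ℝ) ^ m)⁻¹ + (r : ℝ) * χ0 * (((p : ℝ) ^ m)⁻¹ * ((p : ℝ) ^ m)⁻¹)))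
      Filter.atTop (nhds 0) := by
    have h0 : Filter.Tendsto (fun m : ℕ => φ r * (((p : ℝ) ^ m)⁻¹ * ((p : ℝ) ^ m)⁻¹))
        Filter.atTop (nhds 0) := by simpa using (hq.mul hq).const_mul (φ r)
    refine squeeze_zero_norm (fun m => ?_) h0
    have hpm : (0 : ℝ) < (p : ℝ) ^ m := by positivity
    rw [Real.norm_eq_abs]
    refine le_of_eq_of_le ?_ (mul_le_mul_of_nonneg_right (key m)
      (show (0 : ℝ) ≤ ((p : ℝ) ^ m)⁻¹ * ((p : ℝ) ^ m)⁻¹ by positivity))
    rw [← abs_of_pos (show (0 : ℝ) < ((p : ℝ) ^ m)⁻¹ * ((p : ℝ) ^ m)⁻¹ by positivity), ← abs_mul,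
      abs_of_pos (show (0 : ℝ) < ((p : ℝ) ^ m)⁻¹ * ((p : ℝ) ^ m)⁻¹ by positivity),
      show (p : ℝ) ^ (2 * m) = (p : ℝ) ^ m * (p : ℝ) ^ m by rw [two_mul, pow_add]]
    congr 1
    field_simp
    ring
  have hlimb := hdiff.add hrest
  simp only [sub_add_cancel, zero_add] at hlimb
  have := tendsto_nhds_unique hb hlimb
  linarith

end Groth.Agent.S17927
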