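import Groth.Statements.S17929
import Groth.Agent.Misc13.KC1
import Groth.Agent.Variety2.ProjBasics
import Groth.Agent.LocFree.Tensor

set_option autoImplicit false
universe u
open CategoryTheory CategoryTheory.Limits AlgebraicGeometry
open RefCh

namespace Groth.Agent.S17929

/-- Let k be an algebraically closed field, X an integral normal scheme of dimension n = s + 2 admitting
a closed immersion into some P^N_k over k, δ a dimension function on X (Cyc.IsSetup) with δ(generic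
point) = n, L_1, …, L_s, A and B invertible O_X-modules with inverses M_1, …, M_s, A' and B' (so A'
⊗ B' is an inverse of A ⊗ B), and ℒ a coherent reflexive O_X-module of rank one (ℒ = O_X(-D)). For a
family (N_0, …, N_s) of modules put S_N(ℒ) = Σ_{I ⊆ {0, …, s}} (-1)^{|I|} ([N_I ⊗ O_X] - [N_I ⊗ ℒ])
in K(X) = K_0(Coh(X)) (classes KZero.clSub of coherent modules), N_I = ⊗_{i∈I} N_i, so that S_{(A',
M_1, …, M_s)}(O_X(-D)) = c_1(A) c_1(L_1) ⋯ c_1(L_s) · [O_D]. Then S_{(A' ⊗ B', M)}(ℒ) = S_{(A',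
M)}(ℒ) + S_{(B', M)}(ℒ): the K(X)-valued symbol c_1(L_0) c_1(L_1) ⋯ c_1(L_s) · [O_D] is additive,
hence ℤ-linear, in the invertible module L_0. -/
theorem result (k : Type u) [Field k] [IsAlgClosed k] (X : Scheme.{u}) [X.Over (Spec (CommRingCat.of k))]
    [AlgebraicGeometry.IsIntegral X] (hnorm : Pi1.IsNormalScheme X) (s : ℕ) (hdim : topologicalKrullDim X = (s + 2 : ℕ))
    (hproj : ∃ (N : ℕ) (ι : X ⟶ CohB1.ProjSpace N k), IsClosedImmersion ι ∧ ι ≫ CohB1.ProjSpace.toSpec N k = X ↘ Spec (CommRingCat.of k))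
    (δ : X → ℤ) (hδ : Cyc.IsSetup X δ) (hδη : δ (genericPoint X) = (s + 2 : ℕ))
    (L M : Fin s → X.Modules) (hL : ∀ i, PicF.IsInvertible (L i))
    (hLM : ∀ i, Nonempty (CohB1.tensorMod (L i) (M i) ≅ Coh.structureModule X))
    (A A' B B' : X.Modules) (hA : PicF.IsInvertible A) (hB : PicF.IsInvertible B)
    (hAA' : Nonempty (CohB1.tensorMod A A' ≅ Coh.structureModule X))
    (hBB' : Nonempty (CohB1.tensorMod B B' ≅ Coh.structureModule X))
    (ℒ : X.Modules) (hℒ : RefHull.IsRef1 ℒ) :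
    (∑ I : Finset (Fin (s + 1)), ((-1 : ℤ) ^ I.card) •
        (KZero.clSub (Cyc.CohLe δ (s + 2 : ℕ)) (CohB1.tensorMod (FGA.tensorList ((I.sort (· ≤ ·)).map (Fin.cons (CohB1.tensorMod A' B') M))) (Coh.structureModule X)) -
          KZero.clSub (Cyc.CohLe δ (s + 2 : ℕ)) (CohB1.tensorMod (FGA.tensorList ((I.sort (· ≤ ·)).map (Fin.cons (CohB1.tensorMod A' B') M))) ℒ))) =
      (∑ I : Finset (Fin (s + 1)), ((-1 : ℤ) ^ I.card) •
        (KZero.clSub (Cyc.CohLe δ (s + 2 : ℕ)) (CohB1.tensorMod (FGA.tensorList ((I.sort (· ≤ ·)).map (Fin.cons A' M))) (Coh.structureModule X)) -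
          KZero.clSub (Cyc.CohLe δ (s + 2 : ℕ)) (CohB1.tensorMod (FGA.tensorList ((I.sort (· ≤ ·)).map (Fin.cons A' M))) ℒ))) +
      (∑ I : Finset (Fin (s + 1)), ((-1 : ℤ) ^ I.card) •
        (KZero.clSub (Cyc.CohLe δ (s + 2 : ℕ)) (CohB1.tensorMod (FGA.tensorList ((I.sort (· ≤ ·)).map (Fin.cons B' M))) (Coh.structureModule X)) -
          KZero.clSub (Cyc.CohLe δ (s + 2 : ℕ)) (CohB1.tensorMod (FGA.tensorList ((I.sort (· ≤ ·)).map (Fin.cons B' M))) ℒ))) := by
  obtain ⟨N, ι, hι, hcomp⟩ := hproj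
  have := hι
  have hN : AlgebraicGeometry.IsNoetherian X := by
    have := hδ.1
    have : CompactSpace (CohB1.ProjSpace N k) :=
      QuasiCompact.compactSpace_of_compactSpace (CohB1.ProjSpace.toSpec N k)
    have : CompactSpace X := QuasiCompact.compactSpace_of_compactSpace ι
    exact {}
  have hM : ∀ i, PicF.IsInvertible (M i) := fun i => Groth.PicAux.isInvertible_of_tensor_iso
    ((Groth.PicAux.exists_braiding (M i) (L i)).choose ≪≫ (hLM i).some)
  have hA' : PicF.IsInvertible A' := Groth.PicAux.isInvertible_of_tensor_iso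
    ((Groth.PicAux.exists_braiding A' A).choose ≪≫ hAA'.some)
  have hB' : PicF.IsInvertible B' := Groth.PicAux.isInvertible_of_tensor_iso
    ((Groth.PicAux.exists_braiding B' B).choose ≪≫ hBB'.some)
  have hAB : PicF.IsInvertible (CohB1.tensorMod A' B') :=
    Groth.LocFree.isInvertible_iff_ofRank_one.2 (Groth.LocFree.isFinLocFreeOfRank_tensorMod
      (Groth.LocFree.isInvertible_iff_ofRank_one.1 hA') (Groth.LocFree.isInvertible_iff_ofRank_one.1 hB'))
  have hη : δ (genericPoint X) = ((s + 2 : ℕ) : ℤ) := hδη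
  have f := fun {G : X.Modules} (hG : Coh.IsCoh G) => Groth.Misc13.KC1.toLe_kc hδ.2.2 hη hG
  have hc : ∀ (P : X.Modules), PicF.IsInvertible P →
      ∀ i, PicF.IsInvertible ((Fin.cons P M : Fin (s + 1) → X.Modules) i) := fun P hP i => by
    induction i using Fin.cases with
    | zero => exact hP
    | succ j => exact hM j
  rw [Groth.Misc13.KC1.altSum_sub hδ.2.2 _ (hc _ hAB) _ _ (fun G hG => f hG) hℒ.1,
    Groth.Misc13.KC1.altSum_sub hδ.2.2 _ (hc _ hA') _ _ (fun G hG => f hG) hℒ.1,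
    Groth.Misc13.KC1.altSum_sub hδ.2.2 _ (hc _ hB') _ _ (fun G hG => f hG) hℒ.1, ← map_add]
  refine congrArg _ ?_
  change Groth.Misc13.KC1.prodC1 M hM (Groth.Misc13.KC1.c1 hAB _) =
    Groth.Misc13.KC1.prodC1 M hM (Groth.Misc13.KC1.c1 hA' _) +
      Groth.Misc13.KC1.prodC1 M hM (Groth.Misc13.KC1.c1 hB' _)
  rw [Groth.Misc13.KC1.c1_tensor hA' hB' hAB, AddMonoidHom.sub_apply, AddMonoidHom.add_apply,
    map_sub, map_add, sub_eq_self]
  refine Groth.Misc13.KC1.supSub_eq_bot ?_ (Groth.Misc13.KC1.prodC1_mem hδ.2.2 M hM _ _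
    (Groth.Misc13.KC1.c1_mem hδ.2.2 hA' _ (Groth.Misc13.KC1.c1_mem hδ.2.2 hB' _
      (Groth.Misc13.KC1.unit_sub_mem hδ.2.2 hnorm hℒ))))
  refine Set.eq_empty_iff_forall_notMem.2 fun x (hx : δ x ≤ _) => ?_
  have := Groth.Misc13.KC1.delta_nonneg hδ.2.2 (s + 2) hdim hη x
  omega

end Groth.Agent.S17929
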