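import Groth.Statements.S1793
import Groth.Agent.DualCore.RelDualizingUnique

set_option autoImplicit false
universe u
open CategoryTheory
open scoped TensorProduct
attribute [local instance] HasDerivedCategory.standard
open Dual2

namespace Groth.Agent.S1793

/-- Let R → A be a ring map which is flat and of finite presentation and K a relative dualizing complex
(relative dualizing: R-perfect with RHom_{A⊗_R A}(A, K ⊗^L_A (A ⊗_R A)) ≅ A, the base change taken
along the left coprojection under its existence hypothesis and RHom_{A⊗_R A}(A, −) given as a right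
adjoint Rμ of restriction along the multiplication map). Then A → RHom_A(K, K) is an isomorphism: a
↦ a·id is a bijection from A onto End(K) in D(A), and there are no nonzero maps K → K[i] for i ≠ 0. -/
theorem result (R A : Type u) [CommRing R] [CommRing A] [Algebra R A] [Module.Flat R A] [Algebra.FinitePresentation R A] [DRing.HasLBaseChange (Algebra.TensorProduct.includeLeftRingHom : A →+* TensorProduct R A A)] (Rμ : Dual.D (TensorProduct R A A) ⥤ Dual.D A) (adjμ : DRing.restrictD (Algebra.TensorProduct.lmul' R (S := A)).toRingHom ⊣ Rμ) (K : Dual.D A) (hK : Dual2.IsRelDualizing R A Rμ K) : Function.Bijective (fun a : A => a • (CategoryTheory.CategoryStruct.id K)) ∧ ∀ i : ℤ, i ≠ 0 → Subsingleton (K ⟶ K⟦i⟧) := by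
  obtain ⟨n, ψ, hψ, _, Rψ, ⟨adj⟩⟩ := Groth.DualCore.exists_presentation R A
  obtain ⟨e⟩ := Groth.DualCore.nonempty_iso_shriek_of_isRelDualizing ψ hψ Rψ adj Rμ adjμ K hK
  obtain ⟨hend, hext⟩ := Groth.DualCore.bijective_smul_id_shriek_self_fp ψ hψ Rψ adj
  refine ⟨?_, fun i hi => ?_⟩
  · have hk : (fun a : A => a • 𝟙 K) = (Linear.homCongr A e e) ∘ fun a : A => a • 𝟙 _ := by
      funext a
      simp only [Function.comp_apply, Linear.homCongr_apply, Linear.smul_comp, Linear.comp_smul,
        Category.id_comp]
      erw [Category.comp_id, e.inv_hom_id]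
    rw [hk]
    exact (LinearEquiv.bijective _).comp hend
  · haveI := hext i hi
    exact (Linear.homCongr A e.symm ((shiftFunctor (Dual.D A) i).mapIso e.symm)).toEquiv.subsingleton

end Groth.Agent.S1793
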