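import Groth.Statements.S17930
import Groth.Agent.Misc13.KIntRef
import Groth.Agent.Misc13.FrobDiv
import Groth.Agent.Misc13.DualPull
import Groth.Agent.HilbStab.BC.CurvBC
import Groth.Agent.HilbStab.BC.Pull
import Groth.Agent.EulerDeg.Coherent
import Groth.Agent.Variety2.ProjBasics

set_option autoImplicit false
universe u
open CategoryTheory CategoryTheory.Limits AlgebraicGeometry
open RefCh

namespace Groth.Agent.S17930

/-- Let k be an algebraically closed field of characteristic p > 0, X an integral normal scheme of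
dimension s + 2 admitting a closed immersion into some P^N_k over k, L_1, …, L_s invertible
O_X-modules with inverses M_1, …, M_s, E a coherent reflexive O_X-module and (G_m) its reflexive
Frobenius pull-backs (G_0 = E, G_{m+1} ≅ (F_X^* G_m)^**). Let K ⊇ k be an algebraically closed
extension field, X_K = X ×_k Spec K with projection π : X_K → X, and (G'_m) reflexive Frobenius
pull-backs of E_K = π^*E on X_K (G'_0 = π^*E, G'_{m+1} ≅ (F_{X_K}^* G'_m)^**). If χ(c_1(L_1) ⋯
c_1(L_s) · [G_m]) / p^{2m} → b (alternating sums FGA.intNum over k in the M_i) and χ(c_1(π^*L_1) ⋯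
c_1(π^*L_s) · [G'_m]) / p^{2m} → b' (alternating sums FGA.intNum over K in the π^*M_i), then b' = b:
the number ∫_X ch_2(E) L_1 ⋯ L_s is unchanged by algebraically closed base field extension. -/
theorem result (k : Type u) [Field k] [IsAlgClosed k] (X : Scheme.{u}) [X.Over (Spec (CommRingCat.of k))]
    [AlgebraicGeometry.IsIntegral X] (hnorm : Pi1.IsNormalScheme X) (s : ℕ) (hdim : topologicalKrullDim X = (s + 2 : ℕ))
    (hproj : ∃ (N : ℕ) (ι : X ⟶ CohB1.ProjSpace N k), IsClosedImmersion ι ∧ ι ≫ CohB1.ProjSpace.toSpec N k = X ↘ Spec (CommRingCat.of k))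
    (p : ℕ) [Fact p.Prime] [CharP k p] [FrobSch.IsCharP X p]
    (L M : Fin s → X.Modules) (hL : ∀ i, PicF.IsInvertible (L i))
    (hLM : ∀ i, Nonempty (CohB1.tensorMod (L i) (M i) ≅ Coh.structureModule X))
    (E : X.Modules) (hE : Coh.IsCoh E) (hEr : RefHull.IsReflexive E)
    (G : ℕ → X.Modules) (hG0 : G 0 = E)
    (hG : ∀ m, Nonempty (G (m + 1) ≅ RefHull.ddual ((Scheme.Modules.pullback (FrobSch.frob X p)).obj (G m)))) (b : ℝ)
    (hb : Filter.Tendsto (fun m : ℕ => (FGA.intNum k X (s + 2) M (G m) : ℝ) / ((p : ℝ) ^ (2 * m))) Filter.atTop (nhds b))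
    (K : Type u) [Field K] [IsAlgClosed K] [Algebra k K] [FrobSch.IsCharP (Curv2.bc k X K) p]
    (G' : ℕ → (Curv2.bc k X K).Modules) (hG'0 : G' 0 = (Scheme.Modules.pullback (Curv2.bcFst k X K)).obj E)
    (hG' : ∀ m, Nonempty (G' (m + 1) ≅ RefHull.ddual ((Scheme.Modules.pullback (FrobSch.frob (Curv2.bc k X K) p)).obj (G' m))))
    (b' : ℝ)
    (hb' : letI : (Curv2.bc k X K).Over (Spec (CommRingCat.of K)) := ⟨Curv2.bcSnd k X K⟩
      Filter.Tendsto (fun m : ℕ => (FGA.intNum K (Curv2.bc k X K) (s + 2) (fun i => (Scheme.Modules.pullback (Curv2.bcFst k X K)).obj (M i)) (G' m) : ℝ) / ((p : ℝ) ^ (2 * m))) Filter.atTop (nhds b')) :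
    b' = b := by
  open Groth.HilbStab.BC Groth.Misc13.DualPull Groth.Misc13.FrobDiv in
  obtain ⟨N, ι, hι, hιs⟩ := hproj
  have : IsProper (X ↘ Spec (CommRingCat.of k)) := hιs ▸ inferInstance
  have : AlgebraicGeometry.IsNoetherian X := Groth.EulerDeg.isNoetherian_of_proper k X
  let _ := overBC k X K
  have : IsProper ((Curv2.bc k X K) ↘ Spec (CommRingCat.of K)) :=
    inferInstanceAs (IsProper (Curv2.bcSnd k X K))
  have : AlgebraicGeometry.IsNoetherian (Curv2.bc k X K) :=
    Groth.EulerDeg.isNoetherian_of_proper K (Curv2.bc k X K)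
  have : CompactSpace X := inferInstance
  have := isSeparated_of_proper k X
  have : Flat (Curv2.bcFst k X K) := flat_bc (isBC_bc k X K)
  have hc : ∀ m, Coh.IsCoh (G m) := by
    intro m
    induction m with
    | zero => exact hG0 ▸ hE
    | succ m ih =>
      obtain ⟨e⟩ := hG m
      exact Groth.QCohMod.isCoh_of_iso e.symm (Groth.RefRank.isCoh_ddual (isCoh_frobPull p ih))
  have hiso : ∀ m, Nonempty (G' m ≅ (Scheme.Modules.pullback (Curv2.bcFst k X K)).obj (G m)) := by
    intro m
    induction m with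
    | zero => exact ⟨eqToIso (by rw [hG'0, hG0])⟩
    | succ m ih =>
      obtain ⟨e⟩ := ih
      obtain ⟨e'⟩ := hG' m
      obtain ⟨e₀⟩ := hG m
      have hF := isCoh_frobPull p (hc m)
      obtain ⟨j⟩ := nonempty_ddual_iso (Curv2.bcFst k X K) hF
      let a : (Scheme.Modules.pullback (FrobSch.frob (Curv2.bc k X K) p)).obj (G' m) ≅
          (Scheme.Modules.pullback (Curv2.bcFst k X K)).obj
            ((Scheme.Modules.pullback (FrobSch.frob X p)).obj (G m)) :=
        (Scheme.Modules.pullback (FrobSch.frob (Curv2.bc k X K) p)).mapIso e ≪≫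
          (Scheme.Modules.pullbackComp _ _).app (G m) ≪≫
          (Scheme.Modules.pullbackCongr (FrobSch.frob_comp p (Curv2.bcFst k X K))).app (G m) ≪≫
          ((Scheme.Modules.pullbackComp _ _).app (G m)).symm
      have hP : Coh.IsCoh ((Scheme.Modules.pullback (Curv2.bcFst k X K)).obj
          ((Scheme.Modules.pullback (FrobSch.frob X p)).obj (G m))) := isCoh_pullback hF
      obtain ⟨a₁⟩ := nonempty_dual_congr a hP
      obtain ⟨a₂⟩ := nonempty_dual_congr a₁
        (Groth.RefRank.isCoh_dual (Groth.QCohMod.isCoh_of_iso a.symm hP))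
      exact ⟨e' ≪≫ a₂ ≪≫ j.symm ≪≫ (Scheme.Modules.pullback (Curv2.bcFst k X K)).mapIso e₀.symm⟩
  have hM : ∀ i, PicF.IsInvertible (M i) := fun i => Groth.Misc13.KIntRef.isInvertible_inv (hLM i)
  have hlist : ∀ l : List X.Modules, Nonempty (FGA.tensorList
      (l.map fun N => (Scheme.Modules.pullback (Curv2.bcFst k X K)).obj N) ≅
        (Scheme.Modules.pullback (Curv2.bcFst k X K)).obj (FGA.tensorList l)) := by
    intro l
    induction l with
    | nil => exact ⟨(Groth.PicAux.pullback_structure_iso _).some.symm⟩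
    | cons N l ih =>
      exact ⟨PicGrp.tensorModIso (Iso.refl _) ih.some ≪≫
        (Groth.PicAux.exists_pullback_tensorMod (Curv2.bcFst k X K) N (FGA.tensorList l)).choose.symm⟩
  have key : ∀ m, FGA.intNum K (Curv2.bc k X K) (s + 2)
      (fun i => (Scheme.Modules.pullback (Curv2.bcFst k X K)).obj (M i)) (G' m) =
      FGA.intNum k X (s + 2) M (G m) := by
    intro m
    obtain ⟨e⟩ := hiso m
    refine Finset.sum_congr rfl fun I _ => congrArg _ (Finset.sum_congr rfl fun i _ => ?_)
    obtain ⟨eT⟩ := hlist ((I.sort (· ≤ ·)).map M)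
    rw [List.map_map] at eT
    have hT : Coh.IsCoh (FGA.tensorList ((I.sort (· ≤ ·)).map M)) :=
      Groth.Misc13.KC1.isCoh_of_invertible (Groth.Misc13.KC1.isInvertible_tensorList _ fun N hN => by
        obtain ⟨i, -, rfl⟩ := List.mem_map.1 hN
        exact hM i)
    have hTG := Groth.RefRank.isCoh_tensorMod hT (hc m)
    have := hTG.1
    let ee := PicGrp.tensorModIso eT e ≪≫
      (Groth.PicAux.exists_pullback_tensorMod (Curv2.bcFst k X K) _ (G m)).choose.symm
    rw [← finrank_HH_baseChange (K := K) (isBC_bc k X K) _ i]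
    exact congrArg (fun t : ℕ => (-1 : ℤ) ^ i * (t : ℤ)) (Groth.EulerDeg.finrank_congr (k := K) ee i)
  exact tendsto_nhds_unique hb' (hb.congr fun m => by rw [key m])

end Groth.Agent.S17930
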