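import Groth.Statements.S17933
import Groth.Agent.Misc13.MultCrvBasic

set_option autoImplicit false
universe u
open MultCrv

namespace Groth.Agent.S17933

/-- Let R be a discrete valuation ring, n ≥ 1, A = R[X]/(X^n) with z the class of X, and M a finitely
generated A-module. Then M is torsion-free as an R-module if and only if the submodule M^(1) of
elements killed by z is a free R-module. (This is the statement at a closed point of the sheaf
statement: for a primitive multiple curve of multiplicity n the local ring at a closed point is of
the form R[X]/(X^n) with R the local ring of the reduced smooth curve, torsion-freeness is the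
absence of sections with finite support, and local freeness on the reduced curve is freeness of the
stalk; the row is stated for every discrete valuation ring R.) -/
theorem result (R : Type u) [CommRing R] [IsDomain R] [IsDiscreteValuationRing R] (n : ℕ) (hn : 1 ≤ n) (M : Type u) [AddCommGroup M] [Module (MultCrv.Rn R n) M] [Module R M] [IsScalarTower R (MultCrv.Rn R n) M] [Module.Finite (MultCrv.Rn R n) M] : Module.IsTorsionFree R M ↔ Module.Free R ↥(MultCrv.filt2 R n M 1) := by
  haveI := Groth.Misc13.MultCrvLib.finite_over_R (R := R) (n := n) (M := M)
  haveI : Module.Finite R ↥(MultCrv.filt2 R n M 1) :=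
    inferInstanceAs (Module.Finite R ↥((MultCrv.filt2 R n M 1).restrictScalars R))
  constructor
  · intro h
    haveI : Module.IsTorsionFree R ↥(MultCrv.filt2 R n M 1) :=
      Function.Injective.moduleIsTorsionFree Subtype.val Subtype.val_injective (fun _ _ => rfl)
    exact Module.free_of_finite_type_torsion_free'
  · intro h
    refine Module.IsTorsionFree.of_smul_eq_zero fun r m hrm => ?_
    by_contra! hne
    obtain ⟨k, hk, hk1⟩ := Groth.Misc13.MultCrvLib.exists_socle (R := R) (n := n) hne.2
    have : r • (⟨_, hk1⟩ : MultCrv.filt2 R n M 1) = 0 := by
      apply Subtype.ext
      change r • (MultCrv.z R n ^ k • m) = 0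
      rw [← Groth.Misc13.MultCrvLib.z_smul_comm, hrm, smul_zero]
    rcases smul_eq_zero.mp this with h1 | h1
    · exact hne.1 h1
    · exact hk (congrArg Subtype.val h1)

end Groth.Agent.S17933
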