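import Groth.Statements.S17935
import Groth.Agent.Misc13.MultCrvBasic

set_option autoImplicit false
universe u
open MultCrv

namespace Groth.Agent.S17935

/-- Let R be a discrete valuation ring, n ≥ 1, A = R[X]/(X^n), and M a finitely generated A-module. Then
M is reflexive over A (the evaluation map into the double A-dual is bijective) if and only if M is
torsion-free as an R-module. (Statement at a closed point of the sheaf statement on a primitive
multiple curve of multiplicity n, whose local rings are of the form R[X]/(X^n) with R the local ring
of the reduced smooth curve, torsion-freeness of a coherent sheaf there meaning no nonzero subsheaf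
with finite support; stated for every discrete valuation ring R.) -/
theorem result (R : Type u) [CommRing R] [IsDomain R] [IsDiscreteValuationRing R] (n : ℕ) (hn : 1 ≤ n) (M : Type u) [AddCommGroup M] [Module (MultCrv.Rn R n) M] [Module R M] [IsScalarTower R (MultCrv.Rn R n) M] [Module.Finite (MultCrv.Rn R n) M] : Module.IsReflexive (MultCrv.Rn R n) M ↔ Module.IsTorsionFree R M := by
  open Groth.Misc13.MultCrvLib in
  constructor
  · intro h
    refine Module.IsTorsionFree.of_smul_eq_zero fun r m hrm => ?_
    rcases eq_or_ne r 0 with hr | hr
    · exact Or.inl hr
    refine Or.inr ((Module.bijective_dual_eval (MultCrv.Rn R n) M).1 ?_)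
    rw [map_zero]
    ext φ
    have h2 : r • φ m = 0 := by rw [← LinearMap.map_smul_of_tower, hrm, map_zero]
    simpa [hr] using h2
  · intro h
    haveI := finite_over_R (R := R) (n := n) (M := M)
    haveI : Module.Free R M := Module.free_of_finite_type_torsion_free'
    refine ⟨⟨fun a b hab => ?_, fun Φ => ?_⟩⟩
    · apply (Module.eval_apply_injective R (V := M))
      ext ψ
      have := congrArg (epsR hn) (LinearMap.congr_fun hab (ofR hn ψ))
      have e := toR_ofR hn ψ
      change ψ a = ψ b
      rw [← e]
      exact this
    · let L : Module.Dual R (Module.Dual R M) :=
        { toFun := fun ψ => epsR hn (Φ (ofR hn ψ))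
          map_add' := fun x y => by
            rw [← map_add, ← map_add]
            congr 2
            exact toR_injective hn (by rw [toR_ofR]; ext m; simp [toR, ← LinearMap.congr_fun (toR_ofR hn x) m, ← LinearMap.congr_fun (toR_ofR hn y) m])
          map_smul' := fun r x => by
            have : ofR hn (r • x) = algebraMap R (MultCrv.Rn R n) r • ofR hn x :=
              toR_injective hn (by
                rw [toR_ofR]; ext m
                rw [LinearMap.smul_apply, ← LinearMap.congr_fun (toR_ofR hn x) m]
                simp [toR, algebraMap_smul])
            rw [this, map_smul, algebraMap_smul, map_smul, RingHom.id_apply] }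
      obtain ⟨m, hm⟩ := (Module.bijective_dual_eval R M).2 L
      refine ⟨m, toR_injective (M := Module.Dual (MultCrv.Rn R n) M) hn ?_⟩
      ext f
      have h1 := LinearMap.congr_fun hm (toR hn f)
      have h2 : ofR hn (toR hn f) = f := toR_injective hn (toR_ofR hn _)
      change toR hn f m = epsR hn (Φ (ofR hn (toR hn f))) at h1
      rw [h2] at h1
      exact h1

end Groth.Agent.S17935
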