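import Groth.Statements.S17937
import Groth.Agent.Misc13.MultCrvExt

set_option autoImplicit false
universe u
open MultCrv

namespace Groth.Agent.S17937

open CategoryTheory in
/-- Let R be a discrete valuation ring, n ≥ 1, A = R[X]/(X^n), and M a finitely generated A-module with
Ext^1_A(M, A) = 0. Then M is torsion-free as an R-module. (Statement at a closed point of the sheaf
statement on a primitive multiple curve of multiplicity n, whose local rings are of the form
R[X]/(X^n) with R the local ring of the reduced smooth curve; stated for every discrete valuation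
ring R.) -/
theorem result (R : Type u) [CommRing R] [IsDomain R] [IsDiscreteValuationRing R] (n : ℕ) (hn : 1 ≤ n) (M : Type u) [AddCommGroup M] [Module (MultCrv.Rn R n) M] [Module R M] [IsScalarTower R (MultCrv.Rn R n) M] [Module.Finite (MultCrv.Rn R n) M] (h : Subsingleton (Abelian.Ext (ModuleCat.of (MultCrv.Rn R n) M) (ModuleCat.of (MultCrv.Rn R n) (MultCrv.Rn R n)) 1)) : Module.IsTorsionFree R M := by
  obtain ⟨r, π, hπ⟩ := Groth.Misc13.MultCrvLib.exists_cover (A := MultCrv.Rn R n) M
  haveI := Groth.Misc13.MultCrvLib.torsionFree_submodule_pi (LinearMap.ker π)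
  haveI := Groth.Misc13.MultCrvLib.finite_over_R (R := R) (n := n) (M := LinearMap.ker π)
  haveI : Module.Free R (LinearMap.ker π) := Module.free_of_finite_type_torsion_free'
  let b := Module.Free.chooseBasis R (LinearMap.ker π)
  classical
  choose ψ hψ using fun j => Groth.Misc13.MultCrvLib.restrict_of_ext_one_subsingleton π hπ
    (ModuleCat.of (MultCrv.Rn R n) (MultCrv.Rn R n)) h (Groth.Misc13.MultCrvLib.ofR hn (b.coord j))
  let ret : (Fin r → MultCrv.Rn R n) →ₗ[R] LinearMap.ker π :=
    (Fintype.linearCombination R b) ∘ₗ LinearMap.pi fun j => Groth.Misc13.MultCrvLib.toR hn (ψ j)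
  have hret : ∀ x : LinearMap.ker π, ret x = x := fun x => by
    conv_rhs => rw [← b.sum_repr x]
    simp only [ret, LinearMap.comp_apply, Fintype.linearCombination_apply, LinearMap.pi_apply]
    refine Finset.sum_congr rfl fun j _ => congrArg (fun c : R => c • b j) ?_
    have h1 := LinearMap.congr_fun (Groth.Misc13.MultCrvLib.toR_ofR hn (b.coord j)) x
    rw [← hψ j] at h1
    exact h1
  refine Module.IsTorsionFree.of_smul_eq_zero fun c m hcm => ?_
  rcases eq_or_ne c 0 with hc | hc
  · exact Or.inl hc
  obtain ⟨x, rfl⟩ := hπ m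
  have hk : c • x ∈ LinearMap.ker π := by rw [LinearMap.mem_ker, LinearMap.map_smul_of_tower, hcm]
  have h2 : c • (x - (ret x : Fin r → MultCrv.Rn R n)) = 0 := by
    rw [smul_sub, ← Submodule.coe_smul_of_tower, ← map_smul]
    exact sub_eq_zero.mpr (congrArg Subtype.val (hret ⟨c • x, hk⟩)).symm
  have h3 : x = (ret x : Fin r → MultCrv.Rn R n) := sub_eq_zero.mp ((smul_eq_zero.mp h2).resolve_left hc)
  exact Or.inr (by rw [h3]; exact (ret x).2)

end Groth.Agent.S17937
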