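import Groth.Statements.S17940
import Groth.Agent.Misc13.MultCrvBasic
import Mathlib.RingTheory.OrzechProperty
import Mathlib.RingTheory.FiniteType

set_option autoImplicit false
universe u
open MultCrv

namespace Groth.Agent.S17940

/-- Let R be a discrete valuation ring, n ≥ 1, A = R[X]/(X^n) with z the class of X, and M an A-module
that is quasi-free of type (m_1, …, m_n), i.e. isomorphic to the direct sum of m_i copies of
A/(z^i). Let φ be a surjective A-linear map from a finitely generated free module A^r onto M that is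
bijective modulo z (the preimage of zM is zA^r). Then the kernel of φ is quasi-free of type
(m_{n-1}, m_{n-2}, …, m_1, 0). (Statement at a closed point of the sheaf statement on a primitive
multiple curve of multiplicity n with local rings R[X]/(X^n), for the kernel of a surjection from a
vector bundle onto a quasi locally free sheaf that is an isomorphism on the reduced curve; stated
for every discrete valuation ring R.) -/
theorem result (R : Type u) [CommRing R] [IsDomain R] [IsDiscreteValuationRing R] (n : ℕ) (hn : 1 ≤ n) (m : Fin n → ℕ) (M : Type u) [AddCommGroup M] [Module (MultCrv.Rn R n) M] (hM : MultCrv.IsQuasiFreeOfType R n M m) (r : ℕ) (φ : (Fin r → MultCrv.Rn R n) →ₗ[MultCrv.Rn R n] M) (hφ : Function.Surjective φ) (hφz : ∀ f : Fin r → MultCrv.Rn R n, φ f ∈ MultCrv.filt R n M 1 → f ∈ MultCrv.filt R n (Fin r → MultCrv.Rn R n) 1) : MultCrv.IsQuasiFreeOfType R n ↥(LinearMap.ker φ) (MultCrv.revType n m) := by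
  classical
  obtain ⟨e⟩ := hM
  let F0 := (i : Fin n) → (Fin (m i) → MultCrv.Rn R n)
  let π₀ : F0 →ₗ[MultCrv.Rn R n] ((i : Fin n) → (Fin (m i) → MultCrv.Oi R n (i.1 + 1))) :=
    LinearMap.piMap fun i => LinearMap.compLeft (Submodule.mkQ (Ideal.span {MultCrv.z R n ^ (i.1 + 1)})) (Fin (m i))
  let π : F0 →ₗ[MultCrv.Rn R n] M := (e.trans (MultCrv.QFModel.equivPi R n m)).symm.toLinearMap ∘ₗ π₀
  have hπ₀ : Function.Surjective π₀ := fun y => by
    choose x hx using fun i l => Submodule.mkQ_surjective _ (y i l)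
    exact ⟨x, funext fun i => funext fun l => hx i l⟩
  have hπ : Function.Surjective π := ((e.trans (MultCrv.QFModel.equivPi R n m)).symm.surjective).comp hπ₀
  have hker : ∀ x : F0, π x = 0 ↔ ∀ i l, ∃ a, x i l = MultCrv.z R n ^ (i.1 + 1) * a := by
    intro x
    simp only [π, LinearMap.comp_apply, LinearEquiv.coe_coe, LinearEquiv.map_eq_zero_iff]
    constructor
    · intro h i l
      have := congrFun (congrFun h i) l
      change Submodule.Quotient.mk (x i l) = 0 at this
      rw [Submodule.Quotient.mk_eq_zero, Ideal.mem_span_singleton'] at this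
      obtain ⟨a, ha⟩ := this
      exact ⟨a, by rw [← ha, mul_comm]⟩
    · intro h
      funext i l
      obtain ⟨a, ha⟩ := h i l
      change Submodule.Quotient.mk (x i l) = 0
      rw [Submodule.Quotient.mk_eq_zero, ha]
      exact Ideal.mul_mem_right _ _ (Ideal.mem_span_singleton_self _)
  -- `π` is bijective modulo `z`
  have hπz : ∀ x : F0, π x ∈ MultCrv.filt R n M 1 → x ∈ MultCrv.filt R n F0 1 := by
    rintro x ⟨u, hu⟩
    obtain ⟨y, rfl⟩ := hπ u
    have h0 : π (x - MultCrv.z R n • y) = 0 := by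
      rw [map_sub, map_smul, ← hu]; simp
    rw [hker] at h0
    choose a ha using h0
    refine ⟨fun i l => y i l + MultCrv.z R n ^ (i.1) * a i l, ?_⟩
    funext i l
    have := ha i l
    change x i l - MultCrv.z R n * y i l = _ at this
    simp only [LinearMap.smul_apply, LinearMap.id_apply, pow_one]
    change MultCrv.z R n * (y i l + MultCrv.z R n ^ i.1 * a i l) = x i l
    rw [mul_add, ← mul_assoc, ← pow_succ', ← this]; ring
  -- compare the two covers
  obtain ⟨g, hg⟩ := Module.projective_lifting_property π φ hπ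
  haveI : Module.Projective (MultCrv.Rn R n) F0 := inferInstance
  obtain ⟨h, hh⟩ := Module.projective_lifting_property φ π hφ
  have hgs : Function.Surjective g := Groth.Misc13.MultCrvLib.surjective_of_mod_z g fun v => by
    obtain ⟨u, hu⟩ := hφ (π v)
    refine ⟨u, hπz _ ?_⟩
    rw [map_sub, ← LinearMap.comp_apply π g, hg, hu, sub_self]
    exact Submodule.zero_mem _
  have hhs : Function.Surjective h := Groth.Misc13.MultCrvLib.surjective_of_mod_z h fun v => by
    obtain ⟨u, hu⟩ := hπ (φ v)
    refine ⟨u, hφz _ ?_⟩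
    rw [map_sub, ← LinearMap.comp_apply φ h, hh, hu, sub_self]
    exact Submodule.zero_mem _
  have hinj : Function.Injective g := by
    have := OrzechProperty.injective_of_surjective_endomorphism (h ∘ₗ g) (hhs.comp hgs)
    exact Function.Injective.of_comp this
  let G := LinearEquiv.ofBijective g ⟨hinj, hgs⟩
  have e1 : LinearMap.ker φ ≃ₗ[MultCrv.Rn R n] LinearMap.ker π := by
    refine G.ofSubmodules _ _ ?_
    ext x
    rw [Submodule.mem_map]
    constructor
    · rintro ⟨y, hy, rfl⟩
      rw [LinearMap.mem_ker] at hy ⊢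
      rw [← hy, ← hg]; rfl
    · intro hx
      obtain ⟨y, rfl⟩ := hgs x
      refine ⟨y, ?_, rfl⟩
      rw [LinearMap.mem_ker] at hx ⊢
      rw [← hg]; exact hx
  -- the model of the reversed type is the kernel of `π`
  have hwf : ∀ i : Fin n, i.1 + 1 < n →
      Ideal.span {MultCrv.z R n ^ ((n - 2 - i.1) + 1)} ≤
        LinearMap.ker ((MultCrv.z R n ^ (i.1 + 1)) • (LinearMap.id : MultCrv.Rn R n →ₗ[MultCrv.Rn R n] MultCrv.Rn R n)) := by
    intro i hi
    rw [Ideal.span_singleton_le_iff_mem, LinearMap.mem_ker]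
    simp [← pow_add, Groth.Misc13.MultCrvLib.z_pow_eq_zero (R := R) (show n ≤ i.1 + 1 + (n - 2 - i.1 + 1) by omega)]
  have hrev : ∀ i : Fin n, (h : i.1 + 1 < n) → m i = MultCrv.revType n m ⟨n - 2 - i.1, by omega⟩ := by
    intro i h
    rw [MultCrv.revType, dif_pos (show n - 2 - i.1 + 1 < n by omega)]
    congr 1; apply Fin.ext; simp; omega
  let Θc : (i : Fin n) → Fin (m i) →
      (((j : Fin n) → (Fin (MultCrv.revType n m j) → MultCrv.Oi R n (j.1 + 1))) →ₗ[MultCrv.Rn R n] MultCrv.Rn R n) :=
    fun i l => if h : i.1 + 1 < n then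
        (Submodule.liftQ _ _ (hwf i h)) ∘ₗ (LinearMap.proj (Fin.cast (hrev i h) l)) ∘ₗ
          LinearMap.proj (⟨n - 2 - i.1, by omega⟩ : Fin n)
      else 0
  let Θ := LinearMap.pi fun i => LinearMap.pi (Θc i)
  have hΘ : ∀ y i l, ∀ h : i.1 + 1 < n, ∀ a, y (⟨n - 2 - i.1, by omega⟩ : Fin n) (Fin.cast (hrev i h) l) = Submodule.Quotient.mk a →
      Θ y i l = MultCrv.z R n ^ (i.1 + 1) * a := by
    intro y i l h a ha
    change Θc i l y = _
    simp only [Θc]
    rw [dif_pos h]
    simp only [LinearMap.comp_apply, LinearMap.proj_apply, ha]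
    rfl
  have hΘr : LinearMap.range Θ = LinearMap.ker π := by
    apply le_antisymm
    · rintro _ ⟨y, rfl⟩
      rw [LinearMap.mem_ker, hker]
      intro i l
      by_cases h : i.1 + 1 < n
      · obtain ⟨a, ha⟩ := Submodule.Quotient.mk_surjective _ (y (⟨n - 2 - i.1, by omega⟩ : Fin n) (Fin.cast (hrev i h) l))
        exact ⟨a, hΘ y i l h a ha.symm⟩
      · exact ⟨0, by change Θc i l y = _; simp only [Θc]; rw [dif_neg h]; simp⟩
    · intro x hx
      rw [LinearMap.mem_ker, hker] at hx
      choose a ha using hx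
      refine ⟨fun j l => if hj : j.1 + 1 < n then
        Submodule.Quotient.mk (a ⟨n - 2 - j.1, by omega⟩ (Fin.cast (by rw [MultCrv.revType, dif_pos hj]) l)) else 0, ?_⟩
      funext i l
      by_cases h : i.1 + 1 < n
      · rw [hΘ _ i l h (a i l), ha]
        rw [dif_pos (show n - 2 - i.1 + 1 < n by omega)]
        have key : ∀ (i' : Fin n) (l' : Fin (m i')), i' = i → l'.1 = l.1 → a i' l' = a i l := by
          rintro i' l' rfl hl; rw [Fin.ext hl]
        rw [key _ _ (Fin.ext (by simp; omega)) (by simp)]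
      · rw [ha i l, Groth.Misc13.MultCrvLib.z_pow_eq_zero (R := R) (show n ≤ i.1 + 1 by omega), zero_mul]
        change Θc i l _ = _
        simp only [Θc]; rw [dif_neg h]; rfl
  have hΘi : Function.Injective Θ := by
    rw [injective_iff_map_eq_zero]
    intro y hy
    funext j l
    by_cases hj : j.1 + 1 < n
    · obtain ⟨a, ha⟩ := Submodule.Quotient.mk_surjective _ (y j l)
      have hm : MultCrv.revType n m j = m ⟨n - 2 - j.1, by omega⟩ := by rw [MultCrv.revType, dif_pos hj]
      have key : ∀ (j' : Fin n) (l' : Fin (MultCrv.revType n m j')) (hj' : j' = j), l'.1 = l.1 →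
          ∃ b : MultCrv.Rn R n, y j' l' = Submodule.Quotient.mk b ∧ b = a := by
        rintro j' l' rfl hl; rw [Fin.ext hl]; exact ⟨a, ha.symm, rfl⟩
      obtain ⟨b, hb, rfl⟩ := key (⟨n - 2 - (n - 2 - j.1), by omega⟩ : Fin n)
        (Fin.cast (hrev ⟨n - 2 - j.1, by omega⟩ (by simp; omega)) (Fin.cast hm l)) (Fin.ext (by simp; omega)) (by simp)
      have h0 := hΘ y ⟨n - 2 - j.1, by omega⟩ (Fin.cast hm l) (by simp; omega) b hb
      rw [hy] at h0
      obtain ⟨c, hc⟩ := (Groth.Misc13.MultCrvLib.z_pow_mul_eq_zero_iff (R := R) (n := n) (by simp; omega) b).mp h0.symm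
      rw [← ha, Pi.zero_apply, Pi.zero_apply, Submodule.Quotient.mk_eq_zero, Ideal.mem_span_singleton, hc]
      exact Dvd.dvd.mul_right (dvd_of_eq (by congr 1; simp; omega)) c
    · exact absurd l.2 (by simp [MultCrv.revType, dif_neg hj])
  exact ⟨(e1.trans ((LinearEquiv.ofEq _ _ hΘr.symm).trans (LinearEquiv.ofInjective Θ hΘi).symm)).trans
    (MultCrv.QFModel.equivPi R n (MultCrv.revType n m)).symm⟩

end Groth.Agent.S17940
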