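import Groth.Statements.S17943
import Groth.Agent.Misc13.MultCrvBasic

set_option autoImplicit false
universe u
open MultCrv

namespace Groth.Agent.S17943

/-- Let R be a discrete valuation ring, n ≥ 1, A = R[X]/(X^n) with z the class of X, and M a finitely
generated A-module. For 0 ≤ i < n the R-modules G^(i+1)(M) = M^(i+1)/M^(i) (M^(j) the elements
killed by z^j) and G_i(M) = z^i M/z^(i+1) M have the same rank over R. (Statement at a closed point
of the sheaf statement on a primitive multiple curve of multiplicity n with local rings R[X]/(X^n),
where the rank of a coherent sheaf on the reduced smooth curve is its generic rank, here the rank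
over R of the stalk; the equality of degrees that the published statement gives together with this
rank equality is a statement on the global curve and is not part of this row; stated for every
discrete valuation ring R.) -/
theorem result (R : Type u) [CommRing R] [IsDomain R] [IsDiscreteValuationRing R] (n : ℕ) (hn : 1 ≤ n) (M : Type u) [AddCommGroup M] [Module (MultCrv.Rn R n) M] [Module R M] [IsScalarTower R (MultCrv.Rn R n) M] [Module.Finite (MultCrv.Rn R n) M] (i : ℕ) (hi : i < n) : Module.finrank R (MultCrv.G2 R n M (i + 1)) = Module.finrank R (MultCrv.G1 R n M i) := by
  open Groth.Misc13.MultCrvLib in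
  haveI := finite_over_R (R := R) (n := n) (M := M)
  have r1 : Module.finrank R ((MultCrv.filt R n M i).restrictScalars R) +
      Module.finrank R ((MultCrv.filt2 R n M i).restrictScalars R) = Module.finrank R M :=
    finrank_torsionBy_add (R := R) (MultCrv.z R n ^ i)
  have r2 : Module.finrank R ((MultCrv.filt R n M (i + 1)).restrictScalars R) +
      Module.finrank R ((MultCrv.filt2 R n M (i + 1)).restrictScalars R) = Module.finrank R M :=
    finrank_torsionBy_add (R := R) (MultCrv.z R n ^ (i + 1))
  have h2 : Module.finrank R (MultCrv.G2 R n M (i + 1)) +
      Module.finrank R ((MultCrv.filt2 R n M i).restrictScalars R) =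
      Module.finrank R ((MultCrv.filt2 R n M (i + 1)).restrictScalars R) :=
    finrank_subquotient (R := R) (MultCrv.filt2 R n M (i + 1)) (MultCrv.filt2 R n M i)
      (filt2_mono (Nat.le_succ i))
  have h1 : Module.finrank R (MultCrv.G1 R n M i) +
      Module.finrank R ((MultCrv.filt R n M (i + 1)).restrictScalars R) =
      Module.finrank R ((MultCrv.filt R n M i).restrictScalars R) :=
    finrank_subquotient (R := R) (MultCrv.filt R n M i) (MultCrv.filt R n M (i + 1))
      (filt_antitone (Nat.le_succ i))
  omega

end Groth.Agent.S17943
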