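import Groth.Statements.S17944
import Groth.Agent.Misc13.MultCrvBasic

set_option autoImplicit false
universe u
open MultCrv

namespace Groth.Agent.S17944

/-- Let R be a discrete valuation ring, n ≥ 1, A = R[X]/(X^n) with z the class of X, and M a finitely
generated A-module. Then the graded pieces G_i(M) = z^i M/z^(i+1) M are free R-modules for all 0 ≤ i
< n if and only if the modules Γ^(i)(M) are free R-modules for all 0 ≤ i < n, where Γ^(i)(M) is the
cokernel of the map M^(i+2)/M^(i+1) → M^(i+1)/M^(i) induced by multiplication by z (M^(j) the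
elements killed by z^j). (Statement at a closed point P of the sheaf statement on a primitive
multiple curve of multiplicity n, whose local rings are R[X]/(X^n) with R the local ring of the
reduced smooth curve: the published conditions are local freeness on the reduced curve of the
corresponding sheaves, read here at P; the published statement also asserts that these conditions
are equivalent to the stalk being quasi-free, i.e. isomorphic to a direct sum of modules A/(z^j),
which is not part of this row; stated for every discrete valuation ring R.) -/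
theorem result (R : Type u) [CommRing R] [IsDomain R] [IsDiscreteValuationRing R] (n : ℕ) (hn : 1 ≤ n) (M : Type u) [AddCommGroup M] [Module (MultCrv.Rn R n) M] [Module R M] [IsScalarTower R (MultCrv.Rn R n) M] [Module.Finite (MultCrv.Rn R n) M] : (∀ i : ℕ, i < n → Module.Free R (MultCrv.G1 R n M i)) ↔ (∀ i : ℕ, i < n → Module.Free R (MultCrv.Gam2 R n M i)) := by
  open Groth.Misc13.MultCrvLib in
  haveI := finite_over_R (R := R) (n := n) (M := M)
  have tf1 : ∀ i, Module.Free R (MultCrv.G1 R n M i) ↔
      ∀ (r : R), r ≠ 0 → ∀ u ∈ MultCrv.filt R n M i, r • u ∈ MultCrv.filt R n M (i + 1) → u ∈ MultCrv.filt R n M (i + 1) := by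
    intro i
    haveI : Module.Finite R ↥(MultCrv.filt R n M i) :=
      inferInstanceAs (Module.Finite R ↥((MultCrv.filt R n M i).restrictScalars R))
    haveI : Module.Finite R (MultCrv.G1 R n M i) := Module.Finite.quotient R _
    rw [Module.free_iff_isTorsionFree, Module.isTorsionFree_iff_smul_eq_zero]
    constructor
    · intro h r hr u hu hru
      have h0 := (h r (Submodule.Quotient.mk ⟨u, hu⟩) (by
        rw [← Submodule.Quotient.mk_smul, Submodule.Quotient.mk_eq_zero, Submodule.mem_comap]
        exact hru)).resolve_left hr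
      rw [Submodule.Quotient.mk_eq_zero, Submodule.mem_comap] at h0
      exact h0
    · intro h r x hrx
      obtain ⟨⟨u, hu⟩, rfl⟩ := Submodule.Quotient.mk_surjective _ x
      rw [← Submodule.Quotient.mk_smul, Submodule.Quotient.mk_eq_zero, Submodule.mem_comap] at hrx
      rw [Submodule.Quotient.mk_eq_zero, Submodule.mem_comap]
      rcases eq_or_ne r 0 with hr | hr
      · exact Or.inl hr
      · exact Or.inr (h r hr u hu hrx)
  have tf2 : ∀ i, Module.Free R (MultCrv.Gam2 R n M i) ↔
      ∀ (r : R), r ≠ 0 → ∀ x ∈ MultCrv.filt2 R n M (i + 1),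
        r • (MultCrv.z R n ^ i • x) ∈ MultCrv.filt R n M (i + 1) → MultCrv.z R n ^ i • x ∈ MultCrv.filt R n M (i + 1) := by
    intro i
    haveI : Module.Finite R ↥(MultCrv.filt2 R n M (i + 1)) :=
      inferInstanceAs (Module.Finite R ↥((MultCrv.filt2 R n M (i + 1)).restrictScalars R))
    haveI : Module.Finite R (MultCrv.G2 R n M (i + 1)) := Module.Finite.quotient R _
    haveI : Module.Finite R (MultCrv.Gam2 R n M i) := Module.Finite.quotient R _
    have key : ∀ (x : M) (hx : x ∈ MultCrv.filt2 R n M (i + 1)),
        Submodule.Quotient.mk ⟨x, hx⟩ ∈ LinearMap.range (MultCrv.lamG2 R n M i) ↔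
          MultCrv.z R n ^ i • x ∈ MultCrv.filt R n M (i + 1) := by
      intro x hx
      constructor
      · rintro ⟨q, hq⟩
        obtain ⟨⟨b, hb⟩, rfl⟩ := Submodule.Quotient.mk_surjective _ q
        rw [MultCrv.lamG2, Submodule.mapQ_apply, Submodule.Quotient.eq, Submodule.mem_comap, mem_filt2] at hq
        refine ⟨b, ?_⟩
        change MultCrv.z R n ^ i • (MultCrv.z R n • b - x) = 0 at hq
        rw [smul_sub, sub_eq_zero, smul_smul, ← pow_succ] at hq
        exact hq
      · rintro ⟨b, hb⟩
        change MultCrv.z R n ^ (i + 1) • b = MultCrv.z R n ^ i • x at hb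
        have hb2 : b ∈ MultCrv.filt2 R n M (i + 2) := by
          rw [mem_filt2, show i + 2 = 1 + (i + 1) by omega, pow_add, mul_smul, hb, smul_smul, ← pow_add,
            show 1 + i = i + 1 by omega]
          exact hx
        refine ⟨Submodule.Quotient.mk ⟨b, hb2⟩, ?_⟩
        rw [MultCrv.lamG2, Submodule.mapQ_apply, Submodule.Quotient.eq, Submodule.mem_comap, mem_filt2]
        change MultCrv.z R n ^ i • (MultCrv.z R n • b - x) = 0
        rw [smul_sub, sub_eq_zero, smul_smul, ← pow_succ]
        exact hb
    rw [Module.free_iff_isTorsionFree, Module.isTorsionFree_iff_smul_eq_zero]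
    constructor
    · intro h r hr x hx hrx
      have h0 := (h r (Submodule.Quotient.mk (Submodule.Quotient.mk ⟨x, hx⟩)) (by
        rw [← Submodule.Quotient.mk_smul, ← Submodule.Quotient.mk_smul, Submodule.Quotient.mk_eq_zero]
        refine (key (r • x) (Submodule.smul_of_tower_mem _ r hx)).mpr ?_
        rwa [z_smul_comm])).resolve_left hr
      rw [Submodule.Quotient.mk_eq_zero] at h0
      exact (key x hx).mp h0
    · intro h r w hw
      obtain ⟨q, rfl⟩ := Submodule.Quotient.mk_surjective _ w
      obtain ⟨⟨x, hx⟩, rfl⟩ := Submodule.Quotient.mk_surjective _ q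
      rw [← Submodule.Quotient.mk_smul, ← Submodule.Quotient.mk_smul, Submodule.Quotient.mk_eq_zero] at hw
      rw [Submodule.Quotient.mk_eq_zero]
      rcases eq_or_ne r 0 with hr | hr
      · exact Or.inl hr
      refine Or.inr ((key x hx).mpr (h r hr x hx ?_))
      rw [← z_smul_comm]
      exact (key (r • x) (Submodule.smul_of_tower_mem _ r hx)).mp hw
  simp only [tf1, tf2]
  constructor
  · intro h i hi r hr x hx hrx
    exact h i hi r hr _ ⟨x, rfl⟩ hrx
  · intro h
    have down : ∀ d i, n ≤ i + d → ∀ (r : R), r ≠ 0 → ∀ u ∈ MultCrv.filt R n M i,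
        r • u ∈ MultCrv.filt R n M (i + 1) → u ∈ MultCrv.filt R n M (i + 1) := by
      intro d
      induction d with
      | zero =>
        intro i hi r _ u hu _
        rw [filt_eq_bot (by omega), Submodule.mem_bot] at hu
        rw [hu]; exact Submodule.zero_mem _
      | succ d ih =>
        intro i hi r hr u hu hru
        by_cases hin : n ≤ i
        · rw [filt_eq_bot hin, Submodule.mem_bot] at hu
          rw [hu]; exact Submodule.zero_mem _
        obtain ⟨a, ha⟩ := hu
        change MultCrv.z R n ^ i • a = u at ha
        obtain ⟨c, hc⟩ := hru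
        change MultCrv.z R n ^ (i + 1) • c = r • u at hc
        have h1 : MultCrv.z R n ^ (i + 1) • a ∈ MultCrv.filt R n M (i + 1 + 1) := by
          refine ih (i + 1) (by omega) r hr _ ⟨a, rfl⟩ ⟨c, ?_⟩
          change MultCrv.z R n ^ (i + 1 + 1) • c = r • (MultCrv.z R n ^ (i + 1) • a)
          rw [← z_smul_comm, pow_succ', mul_smul, hc, ← ha, ← z_smul_comm, smul_smul, ← pow_succ']
        obtain ⟨b, hb⟩ := h1
        change MultCrv.z R n ^ (i + 1 + 1) • b = MultCrv.z R n ^ (i + 1) • a at hb
        have hx : a - MultCrv.z R n • b ∈ MultCrv.filt2 R n M (i + 1) := by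
          rw [mem_filt2, smul_sub, smul_smul, ← pow_succ, hb, sub_self]
        have h2 := h i (by omega) r hr _ hx (by
          rw [smul_sub, ha, smul_smul, ← pow_succ, smul_sub, ← hc]
          refine Submodule.sub_mem _ ⟨c, rfl⟩ (Submodule.smul_of_tower_mem _ r ⟨b, rfl⟩))
        rw [smul_sub, ha, smul_smul, ← pow_succ] at h2
        have := Submodule.add_mem _ h2 (show MultCrv.z R n ^ (i + 1) • b ∈ MultCrv.filt R n M (i + 1) from ⟨b, rfl⟩)
        rwa [sub_add_cancel] at this
    exact fun i _ => down n i (by omega)

end Groth.Agent.S17944
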