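import Groth.Statements.S17949
import Groth.Agent.HensScheme.Basic
-- import your own Groth.Agent.* helpers here

set_option autoImplicit false
universe u
open CategoryTheory AlgebraicGeometry Opposite
open HensSch

namespace Groth.Agent.S17949

/-- Let `X` be a Henselian scheme and let `U = Sph(A, I)`, `V = Sph(B, J)` be affine Henselian opens of
`X` (open immersions `iU`, `iV` of the affine Henselian spectra of Henselian pairs). Then every
point of `U ∩ V` lies in an open subset of `X` which is at the same time the image of a
distinguished open `D(f) ∩ V(I)` of `U` and the image of a distinguished open `D(g) ∩ V(J)` of `V`. -/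
theorem result (X : LocallyRingedSpace.{u}) (hX : HensSch.IsHensScheme X)
    (U V : LocallyRingedSpace.{u}) (iU : U ⟶ X) [LocallyRingedSpace.IsOpenImmersion iU]
    (iV : V ⟶ X) [LocallyRingedSpace.IsOpenImmersion iV]
    (A : Type u) [CommRing A] (I : Ideal A) [HenselianRing A I] (πU : U ⟶ HensSch.specLRS A)
    (hU : HensSch.IsSph A I U πU)
    (B : Type u) [CommRing B] (J : Ideal B) [HenselianRing B J] (πV : V ⟶ HensSch.specLRS B)
    (hV : HensSch.IsSph B J V πV)
    (x : X) (hxU : x ∈ Set.range iU.base) (hxV : x ∈ Set.range iV.base) :
    ∃ (f : A) (g : B), x ∈ iU.base '' (HensSch.dOpen πU f : Set U) ∧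
      iU.base '' (HensSch.dOpen πU f : Set U) = iV.base '' (HensSch.dOpen πV g : Set V) := by
  exact Groth.HensScheme.exists_image_dOpen_eq iU iV hU hV x hxU hxV

end Groth.Agent.S17949
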