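import Groth.Statements.S17951
import Groth.Agent.HensScheme.Flat
-- import your own Groth.Agent.* helpers here

set_option autoImplicit false
universe u
open CategoryTheory AlgebraicGeometry Opposite
open HensSch

namespace Groth.Agent.S17951

/-- For a Henselian pair `(A, I)` with affine Henselian spectrum `(X, π)`, the functor `M ↦ M~` from
`A`-modules to `O_X`-modules (`M~` on `Spec A` pulled back along `π`) preserves finite limits. (It
is a composite of left adjoints, so finite colimits are preserved for free; together this is
exactness of `M ↦ M~`.) -/
theorem result (A : Type u) [CommRing A] (I : Ideal A) [HenselianRing A I]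
    (X : LocallyRingedSpace.{u}) (π : X ⟶ HensSch.specLRS A) (hX : HensSch.IsSph A I X π) :
    Limits.PreservesFiniteLimits (HensSch.sphTildeFunctor π) := by
  exact Groth.HensScheme.preservesFiniteLimits_sphTilde π hX

end Groth.Agent.S17951
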