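import Groth.Statements.S17952
import Groth.Agent.HensScheme.Flat
-- import your own Groth.Agent.* helpers here

set_option autoImplicit false
universe u
open CategoryTheory AlgebraicGeometry Opposite
open HensSch

namespace Groth.Agent.S17952

/-- Let `ι : Xh ⟶ X` be the Henselization of a scheme `X` along a closed subset `Y`. The inverse image
`F ↦ F^h = ι^* F` on sheaves of modules preserves finite limits (finite colimits come for free from
the adjunction), so it is exact. (The published statement concerns the functor between the
categories of quasi-coherent modules on `X` and on `Xh`; the published argument, flatness of `Xh ⟶
X` on local rings, gives exactness on all modules, which is the form stated here and implies the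
quasi-coherent one.) -/
theorem result (X : Scheme.{u}) (Y : Set X)
    (Xh : LocallyRingedSpace.{u}) (ι : Xh ⟶ X.toLocallyRingedSpace)
    (hh : HensSch.IsHenselizationAlong X Y Xh ι) :
    Limits.PreservesFiniteLimits (HensSch.pullMod ι) := by
  exact Groth.HensScheme.preservesFiniteLimits_pullMod_henselization hh

end Groth.Agent.S17952
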