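import Groth.Statements.S17954
import Groth.Agent.HensScheme.Sections
-- import your own Groth.Agent.* helpers here

set_option autoImplicit false
universe u
open CategoryTheory AlgebraicGeometry Opposite
open HensSch

namespace Groth.Agent.S17954

/-- Let `(A, I)` be a Noetherian Henselian pair with `A` `I`-adically complete, `X` a proper `A`-scheme
with `I`-adic Henselization `ι : Xh ⟶ X` (the Henselization along the preimage of `V(I)`), and `F` a
coherent `O_X`-module. Then the natural map `Γ(X, F) → Γ(Xh, F^h)` (the unit of the inverse-image
adjunction on global sections) is bijective. -/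
theorem result (A : Type u) [CommRing A] (I : Ideal A) [IsNoetherianRing A]
    [HenselianRing A I] [IsAdicComplete I A]
    (X : Scheme.{u}) (s : X ⟶ Spec (CommRingCat.of A)) [IsProper s]
    (Xh : LocallyRingedSpace.{u}) (ι : Xh ⟶ X.toLocallyRingedSpace)
    (hh : HensSch.IsHenselizationAlong X (s.base ⁻¹' PrimeSpectrum.zeroLocus (I : Set A)) Xh ι)
    (F : X.Modules) (hF : Coh.IsCoh F) :
    Function.Bijective (((HensSch.pullPushAdj ι).unit.app F).val.app (op ⊤)) := by
  letI : X.Over (Spec (CommRingCat.of A)) := ⟨s⟩
  haveI : IsProper (X ↘ Spec (CommRingCat.of A)) := ‹IsProper s›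
  haveI : IsLocallyNoetherian X := LocallyOfFiniteType.isLocallyNoetherian s
  exact Groth.HensScheme.gpullSec_top_bijective (I := I) hh F hF

end Groth.Agent.S17954
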