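import Groth.Statements.S17968
import Groth.Agent.Hensel1.Pairs
import Mathlib.RingTheory.AdjoinRoot

set_option autoImplicit false
universe u
open Hensel

namespace Groth.Agent.S17968

/-- Let A be a commutative ring and I an ideal contained in the Jacobson radical of A. Suppose that for
every natural number m and every monic polynomial p over A whose reduction modulo I is the reduction
of (T^2 - T)^m, every idempotent of B/IB is the image of an idempotent of B, where B = A[T]/(p).
Then (A, I) is a henselian pair. -/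
theorem result (A : Type u) [CommRing A]
    (I : Ideal A) (hI : I ≤ Ideal.jacobson ⊥)
    (h : ∀ (m : ℕ) (p : Polynomial A), p.Monic →
      Polynomial.map (Ideal.Quotient.mk I) p =
        Polynomial.map (Ideal.Quotient.mk I) ((Polynomial.X ^ 2 - Polynomial.X) ^ m) →
      Set.SurjOn (Ideal.Quotient.mk (Ideal.map (algebraMap A (AdjoinRoot p)) I))
        {e : AdjoinRoot p | IsIdempotentElem e} {e | IsIdempotentElem e}) :
    HenselianRing A I := by
  classical
  refine Groth.Hensel1.henselianRing_iff_gabber.2 ⟨hI, fun n hn p hpd hpI => ?_⟩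
  set f : Polynomial A := Polynomial.X ^ n * (Polynomial.X - 1) + p with hf
  have hx1 : (Polynomial.X - 1 : Polynomial A).Monic := by simpa using Polynomial.monic_X_sub_C (1 : A)
  have hfm : f.Monic := by
    cases subsingleton_or_nontrivial A
    · exact Subsingleton.elim _ _
    refine ((Polynomial.monic_X_pow n).mul hx1).add_of_left (Polynomial.degree_le_natDegree.trans_lt ?_)
    rw [Polynomial.degree_mul' (by simp [hx1.leadingCoeff]), Polynomial.degree_X_pow,
      show (Polynomial.X - 1 : Polynomial A).degree = 1 by simpa using Polynomial.degree_X_sub_C (1 : A)]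
    exact_mod_cast Nat.lt_succ_of_le hpd
  have hp0 : p.map (Ideal.Quotient.mk I) = 0 := Polynomial.ext fun i => by
    rw [Polynomial.coeff_map, Polynomial.coeff_zero, Ideal.Quotient.eq_zero_iff_mem]; exact hpI i
  let F : Polynomial A := f * (Polynomial.X - 1) ^ (n - 1)
  have hFm : F.Monic := hfm.mul (hx1.pow _)
  have hFmap : F.map (Ideal.Quotient.mk I) =
      Polynomial.map (Ideal.Quotient.mk I) ((Polynomial.X ^ 2 - Polynomial.X) ^ n) := by
    obtain ⟨k, rfl⟩ := Nat.exists_eq_succ_of_ne_zero hn.ne'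
    simp only [F, hf, Polynomial.map_mul, Polynomial.map_add, Polynomial.map_pow, Polynomial.map_sub,
      Polynomial.map_X, Polynomial.map_one, hp0, Nat.succ_sub_one, add_zero]
    rw [show (Polynomial.X ^ 2 - Polynomial.X : Polynomial (A ⧸ I)) = Polynomial.X * (Polynomial.X - 1) by ring,
      mul_pow, pow_succ (Polynomial.X - 1 : Polynomial (A ⧸ I))]
    ring
  obtain ⟨a, b, hab⟩ : IsCoprime ((Polynomial.X : Polynomial A) ^ n) ((Polynomial.X - 1) ^ n) :=
    IsCoprime.pow ⟨1, -1, by ring⟩
  let e₀ : Polynomial A := a * Polynomial.X ^ n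
  have hIC : ∀ {G : Polynomial A} {z : Polynomial A}, z.map (Ideal.Quotient.mk I) = 0 →
      AdjoinRoot.mk G z ∈ I.map (algebraMap A (AdjoinRoot G)) := fun {G z} hz => by
    have h1 : z ∈ I.map Polynomial.C := by
      rw [← Ideal.mk_ker (I := I), ← Polynomial.ker_mapRingHom, RingHom.mem_ker,
        Polynomial.coe_mapRingHom]
      exact hz
    have h2 := Ideal.mem_map_of_mem (AdjoinRoot.mk G) h1
    rwa [Ideal.map_map] at h2
  have hidem : IsIdempotentElem
      (Ideal.Quotient.mk (I.map (algebraMap A (AdjoinRoot F))) (AdjoinRoot.mk F e₀)) := by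
    show _ * _ = _
    rw [← map_mul, Ideal.Quotient.eq, ← map_mul, ← map_sub,
      show e₀ * e₀ - e₀ = -(a * b) * ((Polynomial.X ^ 2 - Polynomial.X) ^ n - F) + -(a * b) * F by
        rw [show (Polynomial.X ^ 2 - Polynomial.X : Polynomial A) ^ n =
          Polynomial.X ^ n * (Polynomial.X - 1) ^ n by rw [← mul_pow]; congr 1; ring]
        linear_combination (a * Polynomial.X ^ n) * hab,
      map_add, map_mul _ (-(a * b)) F, AdjoinRoot.mk_self, mul_zero, add_zero]
    exact hIC (by rw [Polynomial.map_mul, Polynomial.map_sub, hFmap, sub_self, mul_zero])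
  obtain ⟨e₁, he₁, he₁e⟩ := h n F hFm hFmap hidem
  let π : AdjoinRoot F →ₐ[A] AdjoinRoot f :=
    AdjoinRoot.liftAlgHom F (Algebra.ofId A (AdjoinRoot f)) (AdjoinRoot.root f) (by
      show Polynomial.aeval (AdjoinRoot.root f) F = 0
      rw [AdjoinRoot.aeval_eq, map_mul, AdjoinRoot.mk_self, zero_mul])
  have hπ : ∀ z, π (AdjoinRoot.mk F z) = AdjoinRoot.mk f z := fun z =>
    (AdjoinRoot.liftAlgHom_mk _ _ _ _ z).trans (AdjoinRoot.aeval_eq z)
  let e : AdjoinRoot f := π e₁
  have he : IsIdempotentElem e := he₁.map π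
  set J := I.map (algebraMap A (AdjoinRoot f))
  have hee : e - AdjoinRoot.mk f e₀ ∈ J := by
    have h2 := Ideal.mem_map_of_mem π.toRingHom (Ideal.Quotient.eq.1 he₁e)
    rw [Ideal.map_map, show π.toRingHom.comp (algebraMap A (AdjoinRoot F)) = algebraMap A (AdjoinRoot f)
      from π.comp_algebraMap, map_sub] at h2
    rw [← hπ]
    exact h2
  let ε : AdjoinRoot f →ₐ[A] A ⧸ I := AdjoinRoot.liftAlgHom f (Algebra.ofId A (A ⧸ I)) 1 (by
    change Polynomial.eval₂ (Ideal.Quotient.mk I) 1 f = 0
    rw [← Polynomial.eval_map, hf]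
    simp [hp0])
  have hεJ : ∀ x ∈ J, ε x = 0 := fun x hx => by
    refine RingHom.mem_ker.1 ((?_ : J ≤ RingHom.ker ε) hx)
    refine Ideal.map_le_iff_le_comap.2 fun r hr => RingHom.mem_ker.2 ?_
    rw [AlgHom.commutes]; exact Ideal.Quotient.eq_zero_iff_mem.2 hr
  have hεe : ε e = 1 := by
    have h1 : Polynomial.eval 1 e₀ = 1 := by
      have := congrArg (Polynomial.eval 1) hab
      simpa [hn.ne', e₀] using this
    have h2 := hεJ _ hee
    rw [map_sub, sub_eq_zero] at h2
    rw [h2, show ε (AdjoinRoot.mk f e₀) = Polynomial.aeval (1 : A ⧸ I) e₀ from AdjoinRoot.liftAlgHom_mk _ _ _ _ e₀,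
      ← map_one (algebraMap A (A ⧸ I)), Polynomial.aeval_algebraMap_apply_eq_algebraMap_eval, h1]
  have hmod : ∀ z : Polynomial A, e * AdjoinRoot.mk f z - z.eval 1 • e ∈ J := by
    intro z
    have h0 : AdjoinRoot.mk f (e₀ * (Polynomial.X - 1)) ∈ J := by
      rw [show e₀ * (Polynomial.X - 1) = -(a * p) + a * f by simp only [e₀, hf]; ring, map_add,
        map_mul _ a f, AdjoinRoot.mk_self, mul_zero, add_zero]
      exact hIC (by rw [Polynomial.map_neg, Polynomial.map_mul, hp0, mul_zero, neg_zero])
    obtain ⟨c, hc⟩ : Polynomial.X - Polynomial.C 1 ∣ z - Polynomial.C (z.eval 1) :=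
      Polynomial.dvd_iff_isRoot.2 (by simp [Polynomial.IsRoot])
    rw [show e * AdjoinRoot.mk f z - z.eval 1 • e = (e - AdjoinRoot.mk f e₀) *
        AdjoinRoot.mk f (z - Polynomial.C (z.eval 1)) + AdjoinRoot.mk f (e₀ * (Polynomial.X - 1)) * AdjoinRoot.mk f c by
      rw [← map_mul _ (e₀ * (Polynomial.X - 1)) c, mul_assoc, show (Polynomial.X - 1) * c = z - Polynomial.C (z.eval 1) by
        rw [hc, map_one], map_mul _ e₀, ← add_mul, sub_add_cancel, map_sub, Algebra.smul_def, AdjoinRoot.algebraMap_eq,
        show AdjoinRoot.mk f (Polynomial.C (z.eval 1)) = AdjoinRoot.of f (z.eval 1) from rfl]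
      ring]
    exact add_mem (J.mul_mem_right _ hee) (J.mul_mem_right _ h0)
  have : Module.Finite A (AdjoinRoot f) := hfm.finite_adjoinRoot
  have : Module.Free A (AdjoinRoot f) := hfm.free_adjoinRoot
  let μ := LinearMap.mulLeft A e
  have hgen : LinearMap.range μ ≤ Submodule.span A {e} := by
    refine Submodule.le_of_le_smul_of_le_jacobson_bot ((Module.Finite.fg_top).map μ |> fun h => by rwa [Submodule.map_top] at h) hI ?_
    rintro _ ⟨x, rfl⟩
    obtain ⟨z, rfl⟩ := AdjoinRoot.mk_surjective x
    refine Submodule.mem_sup.2 ⟨z.eval 1 • e, Submodule.smul_mem _ _ (Submodule.mem_span_singleton_self e),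
      e * (e * AdjoinRoot.mk f z - z.eval 1 • e), ?_, ?_⟩
    · have hm := hmod z
      rw [← Submodule.restrictScalars_mem A, ← Ideal.smul_top_eq_map] at hm
      have := Submodule.mem_map_of_mem (f := μ) hm
      rw [Submodule.map_smul'', Submodule.map_top] at this
      exact this
    · show _ = e * AdjoinRoot.mk f z
      rw [mul_sub, mul_smul_comm, ← mul_assoc, he.eq]
      abel
  have hex : ∀ x, ∃ c : A, c • e = e * x := fun x =>
    Submodule.mem_span_singleton.1 (hgen ⟨x, rfl⟩)
  obtain ⟨φ, hφ⟩ : ∃ φ : AdjoinRoot f →ₗ[A] A, ∀ x, φ x • e = e * x := by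
    let bas := Module.Free.chooseBasis A (AdjoinRoot f)
    choose c hc using hex
    refine ⟨bas.constr A fun i => c (bas i), fun x => ?_⟩
    have := bas.ext (f₁ := (LinearMap.toSpanSingleton A (AdjoinRoot f) e).comp (bas.constr A fun i => c (bas i)))
      (f₂ := μ) fun i => by simpa [μ] using hc (bas i)
    exact LinearMap.congr_fun this x
  have hφe : φ e = 1 := by
    have h1 : (1 - φ e) • e = 0 := by rw [sub_smul, one_smul, hφ, he.eq, sub_self]
    have h2 : IsIdempotentElem (1 - φ e) := by
      show (1 - φ e) * (1 - φ e) = 1 - φ e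
      rw [mul_sub, mul_one, ← smul_eq_mul (1 - φ e) (φ e), ← map_smul, h1, map_zero, sub_zero]
    have h3 : 1 - φ e ∈ I := by
      rw [← Ideal.Quotient.eq_zero_iff_mem]
      have := congrArg ε h1
      rw [map_smul, hεe, map_zero, Algebra.smul_def, mul_one] at this
      exact this
    have h4 := (Ideal.mem_jacobson_bot.1 (hI h3) (-1)).mul_right_eq_zero.1
      (show ((1 - φ e) * -1 + 1) * (1 - φ e) = 0 by linear_combination -h2.eq)
    rw [sub_eq_zero] at h4
    exact h4.symm
  refine ⟨φ (AdjoinRoot.root f), ?_, ?_⟩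
  · rw [← Ideal.Quotient.eq, map_one]
    have := congrArg ε (hφ (AdjoinRoot.root f))
    rw [map_smul, map_mul, hεe, one_mul, Algebra.smul_def, mul_one,
      show ε (AdjoinRoot.root f) = 1 from AdjoinRoot.liftAlgHom_root _ _ _ _] at this
    exact this
  · set α := φ (AdjoinRoot.root f)
    have key : ∀ z : Polynomial A, z.eval α • e = e * AdjoinRoot.mk f z := by
      intro z
      induction z using Polynomial.induction_on with
      | C c => rw [Polynomial.eval_C, Algebra.smul_def, mul_comm]; rfl
      | add y z hy hz => rw [Polynomial.eval_add, add_smul, hy, hz, map_add, mul_add]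
      | monomial k c ih =>
        rw [pow_succ, ← mul_assoc, Polynomial.eval_mul, Polynomial.eval_X, mul_smul, hφ, map_mul,
          ← mul_smul_comm, ← mul_assoc, mul_comm e (AdjoinRoot.mk f _ ), AdjoinRoot.mk_X]
        rw [Algebra.smul_def] at ih ⊢
        linear_combination (AdjoinRoot.root f) * ih
    have := congrArg φ (key f)
    rw [AdjoinRoot.mk_self, mul_zero, map_zero, map_smul, hφe, smul_eq_mul, mul_one] at this
    exact this

end Groth.Agent.S17968
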