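import Groth.Statements.S17959
import Groth.Agent.HensPair.IdemClopen
import Groth.Agent.HensPair.SectionsBaseChange
import Groth.Agent.S17968
import Mathlib.AlgebraicGeometry.Morphisms.Finite
import Mathlib.AlgebraicGeometry.IdealSheaf.Subscheme

set_option autoImplicit false
open CategoryTheory CategoryTheory.Limits AlgebraicGeometry
universe u
open Hensel
open scoped TensorProduct

namespace Groth.Agent.S17959

/-- Let X be a quasi-compact quasi-separated scheme and i : X₀ ⟶ X a closed immersion such that (X, X₀)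
is a henselian couple, i.e. for every finite morphism g : Y ⟶ X every open-closed subset of Y ×_X X₀
is the inverse image under the first projection of exactly one open-closed subset of Y. Let B = Γ(X,
O_X) and let J be the kernel of the restriction map B → Γ(X₀, O_{X₀}). Then (B, J) is a henselian
pair. -/
theorem result {X X₀ : Scheme.{u}}
    (i : X₀ ⟶ X) [IsClosedImmersion i] [CompactSpace ↥X] [QuasiSeparatedSpace ↥X]
    (hX : ∀ (Y : Scheme.{u}) (g : Y ⟶ X), IsFinite g →
      ∀ V : Set ↥(pullback g (i)), IsClopen V →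
        ∃! U : Set ↥Y, IsClopen U ∧ (pullback.fst g (i)).base ⁻¹' U = V) :
    HenselianRing (Γ(X, ⊤) : Type u) (RingHom.ker i.appTop.hom) := by
  let B := Γ(X, ⊤)
  let J : Ideal B := RingHom.ker i.appTop.hom
  show HenselianRing B J
  have hjac : J ≤ Ideal.jacobson ⊥ := fun j hj => by
    refine Ideal.mem_jacobson_bot.2 fun y => ?_
    by_contra hu
    set f : B := j * y + 1 with hf
    let Z : TopologicalSpace.Closeds X := ⟨(X.basicOpen f : Set X)ᶜ, (X.basicOpen f).2.isClosed_compl⟩
    let g := (Scheme.IdealSheafData.vanishingIdeal Z).subschemeι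
    have hg : Set.range g.base = (Z : Set X) := by
      rw [Scheme.IdealSheafData.range_subschemeι, Scheme.IdealSheafData.coe_support_vanishingIdeal]
    have hdisj : ∀ w : ↥(pullback g i), False := fun w => by
      have h1 : g.base ((pullback.fst g i).base w) ∈ (Z : Set X) := hg ▸ Set.mem_range_self _
      apply h1
      rw [SetLike.mem_coe, ← Scheme.Hom.comp_apply, pullback.condition, Scheme.Hom.comp_apply]
      show (pullback.snd g i).base w ∈ i ⁻¹ᵁ X.basicOpen f
      have h2 : i.appTop.hom f = 1 := by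
        rw [hf, map_add, map_mul, map_one, (RingHom.mem_ker).1 hj, zero_mul, zero_add]
      rw [Scheme.preimage_basicOpen_top, h2, Scheme.basicOpen_one]
      trivial
    have huniv := (hX _ g inferInstance ∅ isClopen_empty).unique (y₁ := Set.univ) (y₂ := ∅)
      ⟨isClopen_univ, Set.ext fun w => (hdisj w).elim⟩ ⟨isClopen_empty, Set.preimage_empty⟩
    refine hu (AlgebraicGeometry.RingedSpace.isUnit_of_isUnit_germ _ ⊤ f fun x hx => ?_)
    by_contra hnu
    obtain ⟨z, -⟩ : x ∈ Set.range g.base := hg ▸ fun hx' => hnu ((X.mem_basicOpen f x hx).1 hx')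
    exact (Set.eq_empty_iff_forall_notMem.1 huniv) z (Set.mem_univ _)
  refine Groth.Agent.S17968.result B J hjac fun m p hp _ ebar hebar => ?_
  let C := AdjoinRoot p
  have : Module.Free B C := hp.free_adjoinRoot
  have : Module.Finite B C := hp.finite_adjoinRoot
  obtain ⟨e, rfl⟩ := Ideal.Quotient.mk_surjective ebar
  let s := Spec.map (CommRingCat.ofHom (algebraMap B C))
  have hs : IsFinite s := (IsFinite.SpecMap_iff _).2 (RingHom.finite_algebraMap.2 inferInstance)
  let g := pullback.fst X.toSpecΓ s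
  let q := pullback.snd X.toSpecΓ s
  have hgfin : IsFinite g := inferInstance
  have H₁ : IsPullback g q X.toSpecΓ s := IsPullback.of_hasPullback _ _
  let d := pullback.fst g i
  have H₂ : IsPullback (pullback.snd g i) (d ≫ q) (i ≫ X.toSpecΓ) s :=
    (IsPullback.of_hasPullback g i).flip.paste_vert H₁
  have : CompactSpace ↥X₀ := i.isClosedEmbedding.compactSpace
  have : QuasiSeparatedSpace ↥X₀ := (quasiSeparated_iff_quasiSeparatedSpace i).1 inferInstance
  have : IsIso X.toSpecΓ.appTop := by rw [Scheme.toSpecΓ_appTop]; infer_instance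
  let ρ : C →+* Γ(pullback X.toSpecΓ s, ⊤) := ((Scheme.ΓSpecIso (CommRingCat.of C)).inv ≫ q.appTop).hom
  have hρ : Function.Bijective ρ := Groth.HensPair.appTop_bijective_of_isIso H₁
  have hbase : ((Scheme.ΓSpecIso (CommRingCat.of B)).inv ≫ (i ≫ X.toSpecΓ).appTop).hom = i.appTop.hom := by
    rw [Scheme.Hom.comp_appTop, Scheme.toSpecΓ_appTop]
    exact congrArg CommRingCat.Hom.hom (Iso.inv_hom_id_assoc (Scheme.ΓSpecIso Γ(X, ⊤)) i.appTop)
  let σ : C →+* Γ(pullback g i, ⊤) := d.appTop.hom.comp ρ
  have hσ : σ = ((Scheme.ΓSpecIso (CommRingCat.of C)).inv ≫ (d ≫ q).appTop).hom := by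
    rw [Scheme.Hom.comp_appTop, ← Category.assoc]; rfl
  let JC := J.map (algebraMap B C)
  have hker : RingHom.ker σ = JC := by
    refine le_antisymm (fun c hc => ?_) ?_
    · let := ((Scheme.ΓSpecIso (CommRingCat.of B)).inv ≫ (i ≫ X.toSpecΓ).appTop).hom.toAlgebra
      rw [RingHom.mem_ker, hσ] at hc
      have h0 : c ⊗ₜ[B] (1 : Γ(X₀, ⊤)) = 0 := Groth.HensPair.tmul_eq_zero_of_appTop_eq_zero H₂ hc
      let κ : (B ⧸ J) →ₐ[B] Γ(X₀, ⊤) := Ideal.Quotient.liftₐ J (Algebra.ofId B Γ(X₀, ⊤)) fun x hx => by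
        show algebraMap B Γ(X₀, ⊤) x = 0
        rw [show algebraMap B Γ(X₀, ⊤) = i.appTop.hom from hbase]
        exact hx
      have hκ : Function.Injective κ := by
        refine (injective_iff_map_eq_zero κ).2 fun y hy => ?_
        obtain ⟨y, rfl⟩ := Ideal.Quotient.mk_surjective y
        refine Ideal.Quotient.eq_zero_iff_mem.2 ?_
        show i.appTop.hom y = 0
        rw [← hbase]
        exact hy
      have h1 : c ⊗ₜ[B] (1 : B ⧸ J) = 0 := by
        apply Module.Flat.lTensor_preserves_injective_linearMap (M := C) κ.toLinearMap hκ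
        rw [map_zero, LinearMap.lTensor_tmul, AlgHom.toLinearMap_apply, map_one]
        exact h0
      have h2 := congrArg (TensorProduct.tensorQuotEquivQuotSMul C J) h1
      rw [map_zero, ← map_one (Ideal.Quotient.mk J), TensorProduct.tensorQuotEquivQuotSMul_tmul_mk, one_smul,
        Submodule.Quotient.mk_eq_zero, Ideal.smul_top_eq_map] at h2
      exact h2
    · refine Ideal.map_le_iff_le_comap.2 fun x hx => ?_
      show σ (algebraMap B C x) = 0
      rw [hσ]
      show ((d ≫ q).appTop.hom ((Scheme.ΓSpecIso (CommRingCat.of C)).inv (algebraMap B C x))) = 0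
      have h1 : (Scheme.ΓSpecIso (CommRingCat.of C)).inv (algebraMap B C x) =
          s.appTop.hom ((Scheme.ΓSpecIso (CommRingCat.of B)).inv x) :=
        congrArg (fun φ => φ.hom x) (Scheme.ΓSpecIso_inv_naturality (CommRingCat.ofHom (algebraMap B C)))
      rw [h1, ← CommRingCat.comp_apply, ← Scheme.Hom.comp_appTop, ← H₂.w, Scheme.Hom.comp_appTop,
        CommRingCat.comp_apply]
      have h2 : (i ≫ X.toSpecΓ).appTop.hom ((Scheme.ΓSpecIso (CommRingCat.of B)).inv x) = 0 := by
        have := congrArg (fun φ : B →+* Γ(X₀, ⊤) => φ x) hbase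
        exact this.trans hx
      rw [h2, map_zero]
  have heJ : e * e - e ∈ RingHom.ker σ := by
    rw [hker]
    exact Ideal.Quotient.eq.1 hebar
  have hid : IsIdempotentElem (σ e) := by
    rw [RingHom.mem_ker, map_sub, map_mul, sub_eq_zero] at heJ
    exact heJ
  obtain ⟨U, ⟨hU, hUV⟩, -⟩ := hX _ g hgfin _ (Groth.HensPair.isClopen_basicOpen hid)
  obtain ⟨a, ha, rfl⟩ := Groth.HensPair.exists_idem_of_isClopen hU
  obtain ⟨e', rfl⟩ := hρ.2 a
  have he' : IsIdempotentElem e' := hρ.1 (by rw [map_mul]; exact ha)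
  refine ⟨e', he', Ideal.Quotient.eq.2 ?_⟩
  show e' - e ∈ JC
  rw [← hker, RingHom.mem_ker, map_sub, sub_eq_zero]
  refine Groth.HensPair.eq_of_basicOpen_eq (he'.map σ) hid ?_
  rw [← hUV]
  exact (congrArg SetLike.coe (Scheme.preimage_basicOpen_top d (ρ e'))).symm

end Groth.Agent.S17959
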