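import Groth.Statements.S17963
import Groth.Agent.HensPair.ProperClopenCor
import Groth.Agent.CohFin.ProjFinite
-- import your own Groth.Agent.* helpers here

set_option autoImplicit false
open CategoryTheory CategoryTheory.Limits AlgebraicGeometry
universe u
open Hensel

namespace Groth.Agent.S17963

/-- Let (A, I) be a henselian pair and f : X ⟶ Spec A a proper morphism of finite presentation, and let
X₀ = X ×_{Spec A} Spec (A/I). Then X is nonempty and connected if and only if X₀ is nonempty and
connected. -/
theorem result
    (A : Type u) [CommRing A] (I : Ideal A) [HenselianRing A I] {X : Scheme.{u}}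
    (f : X ⟶ Spec (CommRingCat.of A)) [IsProper f] [LocallyOfFinitePresentation f] :
    ConnectedSpace ↥X ↔ ConnectedSpace ↥(pullback f (Spec.map (CommRingCat.ofHom (Ideal.Quotient.mk I)))) := by
  let i := pullback.fst f (Spec.map (CommRingCat.ofHom (Ideal.Quotient.mk I)))
  have hb := Groth.HensPair.clopenBij_pullback_fst Groth.CohFin.projFinite I f
  have hc : Continuous i.base := i.continuous
  have hr := Groth.HensPair.range_pullback_fst_mk I f
  constructor
  · intro h
    have hne : Nonempty ↥(pullback f (Spec.map (CommRingCat.ofHom (Ideal.Quotient.mk I)))) := by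
      by_contra hne
      have he : Groth.HensPair.overV f I = ∅ := by
        rw [← hr, Set.range_eq_empty_iff]
        exact not_nonempty_iff.1 hne
      obtain ⟨x⟩ := h.toNonempty
      exact Set.eq_empty_iff_forall_notMem.1 (Groth.HensPair.eq_empty_of_inter_overV f (HenselianRing.jac (I := I))
        isClosed_univ (by rw [Set.univ_inter, he])) x trivial
    have : PreconnectedSpace ↥(pullback f (Spec.map (CommRingCat.ofHom (Ideal.Quotient.mk I)))) := by
      rw [preconnectedSpace_iff_clopen]
      intro V hV
      obtain ⟨U, ⟨hU, rfl⟩, -⟩ := hb V hV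
      rcases isClopen_iff.1 hU with rfl | rfl
      · exact Or.inl Set.preimage_empty
      · exact Or.inr Set.preimage_univ
    exact { toNonempty := hne }
  · intro h
    have : PreconnectedSpace ↥X := by
      rw [preconnectedSpace_iff_clopen]
      intro U hU
      obtain ⟨W, ⟨hW, _⟩, huniq⟩ := hb (i.base ⁻¹' U) (hU.preimage hc)
      have hUW : U = W := huniq U ⟨hU, rfl⟩
      rcases isClopen_iff.1 (hU.preimage hc) with he | he
      · left
        rw [hUW]
        exact (huniq ∅ ⟨isClopen_empty, by rw [he, Set.preimage_empty]⟩).symm
      · right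
        rw [hUW]
        exact (huniq Set.univ ⟨isClopen_univ, by rw [he, Set.preimage_univ]⟩).symm
    obtain ⟨z⟩ := h.toNonempty
    exact { toNonempty := ⟨i.base z⟩ }

end Groth.Agent.S17963
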