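import Groth.Statements.S17964
import Groth.Agent.HensPair.SigmaCouple

set_option autoImplicit false
open CategoryTheory CategoryTheory.Limits AlgebraicGeometry
universe u
open Hensel

namespace Groth.Agent.S17964

/-- Let (X_j) be a family of schemes indexed by a type ι, with closed immersions i_j : X_{j,0} ⟶ X_j,
and consider the induced morphism of disjoint unions ∐ X_{j,0} ⟶ ∐ X_j. Then the couple (∐ X_j, ∐
X_{j,0}) is henselian (for every finite morphism g : Y ⟶ ∐ X_j, every open-closed subset of the
fibre product of Y with ∐ X_{j,0} is the inverse image under the first projection of exactly one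
open-closed subset of Y) if and only if each couple (X_j, X_{j,0}) is henselian. -/
theorem result {ι : Type u} (X X₀ : ι → Scheme.{u})
    (i : ∀ j, X₀ j ⟶ X j) [∀ j, IsClosedImmersion (i j)] :
    (∀ (Y : Scheme.{u}) (g : Y ⟶ ∐ X), IsFinite g →
      ∀ V : Set ↥(pullback g (Limits.Sigma.map i)), IsClopen V →
        ∃! U : Set ↥Y, IsClopen U ∧ (pullback.fst g (Limits.Sigma.map i)).base ⁻¹' U = V) ↔
    ∀ j : ι, ∀ (Y : Scheme.{u}) (g : Y ⟶ X j), IsFinite g →
      ∀ V : Set ↥(pullback g (i j)), IsClopen V →
        ∃! U : Set ↥Y, IsClopen U ∧ (pullback.fst g (i j)).base ⁻¹' U = V := by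
  have := Groth.HensPair.isClosedImmersion_sigmaMap i
  constructor
  · intro h j Y g hg
    have := Groth.HensPair.isClosedImmersion_sigmaι (X := X) j
    refine Groth.HensPair.ClopenBij.of_range_eq
      (pullback.fst (g ≫ Sigma.ι X j) (Limits.Sigma.map i)).isClosedEmbedding.isEmbedding
      (pullback.fst g (i j)).isClosedEmbedding.isEmbedding ?_ (h Y (g ≫ Sigma.ι X j) inferInstance)
    rw [Scheme.Pullback.range_fst, Scheme.Pullback.range_fst, ← Groth.HensPair.preimage_range_sigmaMap i j]
    rfl
  · intro h Y g hg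
    have hfst : ∀ j, Topology.IsOpenEmbedding (pullback.fst g (Sigma.ι X j)).base :=
      fun j => (pullback.fst g (Sigma.ι X j)).isOpenEmbedding
    have hr : ∀ j y, (∃ z, (pullback.fst g (Sigma.ι X j)).base z = y) ↔ g.base y ∈ Set.range (Sigma.ι X j).base :=
      fun j y => Set.ext_iff.1 (Scheme.Pullback.range_fst (f := g) (g := Sigma.ι X j)) y
    refine Groth.HensPair.ClopenBij.of_cover (pullback.fst g (Limits.Sigma.map i)).isClosedEmbedding.isEmbedding
      (fun j => (pullback.fst g (Sigma.ι X j)).base) hfst (fun y => ?_) (fun j k z z' hz => ?_)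
      (fun j => (pullback.fst (pullback.snd g (Sigma.ι X j)) (i j)).base)
      (fun j => (pullback.fst (pullback.snd g (Sigma.ι X j)) (i j)).continuous) (fun j => ?_)
      (fun j => h j _ _ inferInstance)
    · obtain ⟨⟨j, x⟩, hx⟩ := (sigmaMk X).surjective (g.base y)
      obtain ⟨z, hz⟩ := (hr j y).2 ⟨x, by rw [← hx, sigmaMk_mk]⟩
      exact ⟨j, z, hz⟩
    · by_contra hne
      obtain ⟨a, ha⟩ := (hr j _).1 ⟨z, rfl⟩
      obtain ⟨b, hb⟩ := (hr k _).1 ⟨z', rfl⟩
      have := (sigmaι_eq_iff X j k a b).1 (by rw [ha, hb, hz])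
      exact hne (congrArg Sigma.fst this)
    · rw [Scheme.Pullback.range_fst, Scheme.Pullback.range_fst, ← Groth.HensPair.preimage_range_sigmaMap i j]
      ext z
      simp only [Set.mem_preimage]
      rw [← Scheme.Hom.comp_apply, ← Scheme.Hom.comp_apply, pullback.condition]

end Groth.Agent.S17964
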