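import Groth.Statements.S17965
import Groth.Agent.HensPair.ProperClopenCor
import Groth.Agent.CohFin.ProjFinite
import Groth.Agent.Hensel1.Pairs

set_option autoImplicit false
open CategoryTheory CategoryTheory.Limits AlgebraicGeometry
universe u
open Hensel

namespace Groth.Agent.S17965

/-- `B / IB` is the pushout of `A → A / I` along `A → B`. -/
private theorem isPushout_map {A B : Type u} [CommRing A] [CommRing B] (φ : A →+* B) (I : Ideal A) :
    IsPushout (CommRingCat.ofHom φ) (CommRingCat.ofHom (Ideal.Quotient.mk I))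
      (CommRingCat.ofHom (Ideal.Quotient.mk (I.map φ)))
      (CommRingCat.ofHom (Ideal.quotientMap (I.map φ) φ Ideal.le_comap_map)) := by
  have hw : CommRingCat.ofHom φ ≫ CommRingCat.ofHom (Ideal.Quotient.mk (I.map φ)) =
      CommRingCat.ofHom (Ideal.Quotient.mk I) ≫
        CommRingCat.ofHom (Ideal.quotientMap (I.map φ) φ Ideal.le_comap_map) := rfl
  have hker : ∀ s : PushoutCocone (CommRingCat.ofHom φ) (CommRingCat.ofHom (Ideal.Quotient.mk I)),
      ∀ b ∈ I.map φ, s.inl.hom b = 0 := fun s b hb => by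
    have : I.map φ ≤ RingHom.ker s.inl.hom := Ideal.map_le_iff_le_comap.2 fun a ha => by
      show s.inl.hom (φ a) = 0
      have h := congr($(s.condition) a)
      refine Eq.trans h ?_
      show s.inr.hom (Ideal.Quotient.mk I a) = 0
      rw [Ideal.Quotient.eq_zero_iff_mem.2 ha, map_zero]
    exact this hb
  refine IsPushout.of_isColimit' ⟨hw⟩ (PushoutCocone.IsColimit.mk _
    (fun s => CommRingCat.ofHom (Ideal.Quotient.lift (I.map φ) s.inl.hom (hker s)))
    (fun s => ?_) (fun s => ?_) fun s m hm₁ hm₂ => ?_)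
  · ext b; rfl
  · ext a
    exact congr($(s.condition) a)
  · ext b
    exact congr($(hm₁) b)

/-- Let A be a Noetherian ring, I an ideal of A, f : X ⟶ Spec A a proper morphism, i : X₀ = X ×_{Spec A}
Spec (A/I) ⟶ X the first projection, and assume that (X, X₀) is a henselian couple (for every finite
morphism g : Y ⟶ X, every open-closed subset of Y ×_X X₀ is the inverse image under the first
projection of exactly one open-closed subset of Y). Then (X, X₀) is proper over a henselian pair: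
there exist a Noetherian ring A' with an ideal I' such that (A', I') is a henselian pair, a proper
morphism f' : X ⟶ Spec A' and a morphism t : X₀ ⟶ Spec (A'/I') such that the square formed by i, t,
f' and Spec (A'/I') ⟶ Spec A' is cartesian. (The published statement asserts only that X is proper
over some henselian pair; this row also asks the ring of that pair to be Noetherian, which holds for
the henselization of (A, I) that the proof uses.) -/
theorem result
    (A : Type u) [CommRing A] [IsNoetherianRing A] (I : Ideal A) {X : Scheme.{u}}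
    (f : X ⟶ Spec (CommRingCat.of A)) [IsProper f]
    (hX : ∀ (Y : Scheme.{u}) (g : Y ⟶ X), IsFinite g →
      ∀ V : Set ↥(pullback g (pullback.fst f (Spec.map (CommRingCat.ofHom (Ideal.Quotient.mk I))))), IsClopen V →
        ∃! U : Set ↥Y, IsClopen U ∧ (pullback.fst g (pullback.fst f (Spec.map (CommRingCat.ofHom (Ideal.Quotient.mk I))))).base ⁻¹' U = V) :
    ∃ (A' : Type u) (_ : CommRing A') (I' : Ideal A') (_ : HenselianRing A' I') (_ : IsNoetherianRing A')
      (f' : X ⟶ Spec (CommRingCat.of A')) (_ : IsProper f')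
      (t : pullback f (Spec.map (CommRingCat.ofHom (Ideal.Quotient.mk I))) ⟶ Spec (CommRingCat.of (A' ⧸ I'))),
      IsPullback (pullback.fst f (Spec.map (CommRingCat.ofHom (Ideal.Quotient.mk I)))) t f' (Spec.map (CommRingCat.ofHom (Ideal.Quotient.mk I'))) := by
  classical
  set i := pullback.fst f (Spec.map (CommRingCat.ofHom (Ideal.Quotient.mk I)))
  have : IsClosedImmersion (Spec.map (CommRingCat.ofHom (Ideal.Quotient.mk I))) :=
    IsClosedImmersion.spec_of_surjective _ Ideal.Quotient.mk_surjective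
  have : CompactSpace X := QuasiCompact.compactSpace_of_compactSpace f
  let φ : A →+* Γ(X, ⊤) := Groth.HensPair.toΓ f
  have hBN : IsNoetherianRing Γ(X, ⊤) := by
    let _ : Algebra A Γ(X, ⊤) := RingHom.toAlgebra φ
    have : Module.Finite A Γ(X, ⊤) := Groth.HensPair.finite_globalSections_of_proper Groth.CohFin.projFinite f
    exact IsNoetherianRing.of_finite A Γ(X, ⊤)
  set J : Ideal Γ(X, ⊤) := I.map φ
  have : IsProper X.toSpecΓ := Groth.HensPair.isProper_toSpecΓ f
  have : Surjective X.toSpecΓ := ⟨fun p => by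
    have h1 : DenseRange X.toSpecΓ := (inferInstance : IsDominant X.toSpecΓ).1
    have h2 : Set.range X.toSpecΓ = Set.univ := by
      rw [← h1.closure_range]
      exact (X.toSpecΓ.isClosedMap.isClosed_range).closure_eq.symm
    exact h2.ge (Set.mem_univ p)⟩
  have hover : Groth.HensPair.overV X.toSpecΓ J = Groth.HensPair.overV f I := by
    ext x
    show (J : Set Γ(X, ⊤)) ⊆ (X.toSpecΓ x).asIdeal ↔ (I : Set A) ⊆ (f x).asIdeal
    have key : ∀ a : A, φ a ∈ (X.toSpecΓ x).asIdeal ↔ a ∈ (f x).asIdeal := fun a =>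
      (Groth.HensPair.mem_toSpecΓ_asIdeal _ x).trans
        ((not_congr (Groth.HensPair.mem_basicOpen_toGlobal f a x)).trans not_not)
    constructor
    · exact fun h a ha => (key a).1 (h (Ideal.mem_map_of_mem _ ha))
    · intro h
      exact SetLike.coe_subset_coe.2 (Ideal.map_le_iff_le_comap.2 fun a ha => (key a).2 (h ha))
  have hjac : J ≤ Ideal.jacobson ⊥ := by
    refine le_sInf ?_
    rintro m ⟨-, hm⟩
    let p : PrimeSpectrum Γ(X, ⊤) := ⟨m, hm.isPrime⟩
    have hpc : IsClosed ({p} : Set (PrimeSpectrum Γ(X, ⊤))) :=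
      (PrimeSpectrum.isClosed_singleton_iff_isMaximal p).2 hm
    let T : TopologicalSpace.Closeds X := ⟨X.toSpecΓ ⁻¹' {p}, hpc.preimage X.toSpecΓ.continuous⟩
    let 𝓘 := Scheme.IdealSheafData.vanishingIdeal T
    have hT : Set.range 𝓘.subschemeι = (T : Set X) := by
      rw [Scheme.IdealSheafData.range_subschemeι]; simp [𝓘]
    obtain ⟨x, hx⟩ := Scheme.Hom.surjective X.toSpecΓ p
    by_contra hJm
    have hemp : IsEmpty ↥(pullback 𝓘.subschemeι i) := ⟨fun z => by
      have h1 : 𝓘.subschemeι (pullback.fst 𝓘.subschemeι i z) ∈ Groth.HensPair.overV X.toSpecΓ J := by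
        rw [hover, ← Groth.HensPair.range_pullback_fst_mk I f, ← Scheme.Hom.comp_apply, pullback.condition,
          Scheme.Hom.comp_apply]
        exact Set.mem_range_self _
      have h2 : X.toSpecΓ (𝓘.subschemeι (pullback.fst 𝓘.subschemeι i z)) = p := hT.le ⟨_, rfl⟩
      exact hJm fun r hr => by
        have := h1 hr
        rw [h2] at this
        exact this⟩
    obtain ⟨y, -⟩ := hT.ge (show x ∈ (T : Set X) from hx)
    have h := (hX _ 𝓘.subschemeι inferInstance ∅ isClopen_empty).unique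
      ⟨isClopen_univ, Subsingleton.elim _ _⟩ ⟨isClopen_empty, Set.preimage_empty⟩
    exact (Set.ext_iff.1 h y).1 trivial
  have hhens : HenselianRing Γ(X, ⊤) J := by
    refine Groth.Hensel1.henselianRing_of_bijOn_idempotents fun C _ _ hC => ?_
    have hJC : J.map (algebraMap Γ(X, ⊤) C) ≤ Ideal.jacobson ⊥ :=
      Groth.Hensel1.map_le_jacobson_of_isIntegral hjac C
    refine ⟨fun e he => IsIdempotentElem.map he _, fun x hx y hy hxy =>
      Groth.Hensel1.idempotent_eq_of_sub_mem_jacobson hx hy (hJC (Ideal.Quotient.eq.mp hxy)), fun ε hε => ?_⟩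
    obtain ⟨c, rfl⟩ := Ideal.Quotient.mk_surjective ε
    have hc : c * c - c ∈ J.map (algebraMap Γ(X, ⊤) C) :=
      Ideal.Quotient.eq.mp (by rw [map_mul]; exact hε)
    let sC : Spec (CommRingCat.of C) ⟶ Spec Γ(X, ⊤) :=
      Spec.map (CommRingCat.ofHom (algebraMap Γ(X, ⊤) C))
    have : IsFinite sC := (IsFinite.SpecMap_iff _).2 (RingHom.finite_algebraMap.2 hC)
    let Y := pullback X.toSpecΓ sC
    let g : Y ⟶ X := pullback.fst _ _
    let h : Y ⟶ Spec (CommRingCat.of C) := pullback.snd _ _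
    have : IsProper h := inferInstanceAs (IsProper (pullback.snd _ _))
    have : Surjective h := inferInstanceAs (Surjective (pullback.snd _ _))
    let π₀ := pullback.fst g i
    have hπ₀ : ∀ y, y ∈ Set.range π₀ ↔ (J.map (algebraMap Γ(X, ⊤) C) : Set C) ⊆ (h y).asIdeal := fun y => by
      rw [Scheme.Pullback.range_fst, Set.mem_preimage, Groth.HensPair.range_pullback_fst_mk, ← hover]
      show (J : Set Γ(X, ⊤)) ⊆ (X.toSpecΓ (g y)).asIdeal ↔ _
      rw [← Scheme.Hom.comp_apply, pullback.condition, Scheme.Hom.comp_apply]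
      exact (Ideal.map_le_iff_le_comap (f := algebraMap Γ(X, ⊤) C) (I := J) (K := (h y).asIdeal)).symm
    have hdich : ∀ y ∈ Set.range π₀, c ∉ (h y).asIdeal ↔ 1 - c ∈ (h y).asIdeal := fun y hy => by
      have h2 : c * c - c ∈ (h y).asIdeal := (hπ₀ y).1 hy hc
      constructor
      · intro hn
        refine ((h y).isPrime.mem_or_mem (?_ : c * (1 - c) ∈ _)).resolve_left hn
        rw [show c * (1 - c) = -(c * c - c) by ring]
        exact neg_mem h2
      · intro h1 hcm
        exact (h y).isPrime.ne_top ((Ideal.eq_top_iff_one _).2 (by simpa using add_mem h1 hcm))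
    let O : Set Y := h.base ⁻¹' (PrimeSpectrum.basicOpen c : Set (PrimeSpectrum C))
    have hO : IsOpen O := (PrimeSpectrum.basicOpen c).2.preimage h.continuous
    let V : Set ↥(pullback g i) := π₀.base ⁻¹' O
    have hV : IsClopen V := by
      refine ⟨⟨?_⟩, hO.preimage π₀.continuous⟩
      rw [show Vᶜ = π₀.base ⁻¹' (h.base ⁻¹' (PrimeSpectrum.basicOpen (1 - c) : Set (PrimeSpectrum C))) from ?_]
      · exact ((PrimeSpectrum.basicOpen (1 - c)).2.preimage h.continuous).preimage π₀.continuous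
      ext z
      show ¬ c ∉ (h (π₀ z)).asIdeal ↔ 1 - c ∉ (h (π₀ z)).asIdeal
      exact not_congr (hdich _ ⟨z, rfl⟩)
    obtain ⟨U, ⟨hU, hUV⟩, -⟩ := hX Y g inferInstance V hV
    have hside : ∀ y ∈ Set.range π₀, y ∈ U ↔ c ∉ (h y).asIdeal := by
      rintro _ ⟨z, rfl⟩
      exact Set.ext_iff.1 hUV z
    let Z₁ : Set (PrimeSpectrum C) := h '' U
    let Z₂ : Set (PrimeSpectrum C) := h '' Uᶜ
    have hZ₁ : IsClosed Z₁ := h.isClosedMap _ hU.1
    have hZ₂ : IsClosed Z₂ := h.isClosedMap _ hU.compl.1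
    have hpt : ∀ q : PrimeSpectrum C, (J.map (algebraMap Γ(X, ⊤) C) : Set C) ⊆ q.asIdeal →
        (q ∈ Z₁ → c ∉ q.asIdeal) ∧ (q ∈ Z₂ → c ∈ q.asIdeal) := by
      intro q hq
      refine ⟨?_, ?_⟩
      · rintro ⟨u, hu, rfl⟩
        exact (hside u ((hπ₀ u).2 hq)).1 hu
      · rintro ⟨u, hu, rfl⟩
        by_contra hn
        exact hu ((hside u ((hπ₀ u).2 hq)).2 hn)
    have hZ : ∀ q, q ∈ Z₁ → q ∉ Z₂ := by
      intro q h1 h2
      obtain ⟨M, hM, hle⟩ := Ideal.exists_le_maximal _ q.isPrime.ne_top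
      let q' : PrimeSpectrum C := ⟨M, hM.isPrime⟩
      have hsp : q ⤳ q' := (PrimeSpectrum.le_iff_specializes q q').1 hle
      have hq' : (J.map (algebraMap Γ(X, ⊤) C) : Set C) ⊆ q'.asIdeal :=
        fun r hr => (sInf_le ⟨bot_le, hM⟩ : Ideal.jacobson ⊥ ≤ M) (hJC hr)
      exact (hpt q' hq').1 (hsp.mem_closed hZ₁ h1) ((hpt q' hq').2 (hsp.mem_closed hZ₂ h2))
    have hcov : ∀ q, q ∈ Z₁ ∨ q ∈ Z₂ := fun q => by
      obtain ⟨y, rfl⟩ := Scheme.Hom.surjective h q
      exact (em (y ∈ U)).imp (fun hy => ⟨y, hy, rfl⟩) fun hy => ⟨y, hy, rfl⟩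
    have hZ₁₂ : Z₁ = Z₂ᶜ := Set.ext fun q => ⟨hZ q, (hcov q).resolve_right⟩
    obtain ⟨e, he, heZ⟩ := PrimeSpectrum.isClopen_iff.1
      (show IsClopen Z₁ from ⟨hZ₁, hZ₁₂ ▸ hZ₂.isOpen_compl⟩)
    refine ⟨e, he, PrimeSpectrum.basicOpen_injOn_isIdempotentElem (IsIdempotentElem.map he _) hε
      (SetLike.ext' (Set.ext fun q => ?_))⟩
    set q₀ : PrimeSpectrum C := PrimeSpectrum.comap (Ideal.Quotient.mk (J.map (algebraMap Γ(X, ⊤) C))) q
    show e ∉ q₀.asIdeal ↔ c ∉ q₀.asIdeal
    have hq₀ : (J.map (algebraMap Γ(X, ⊤) C) : Set C) ⊆ q₀.asIdeal := fun r hr => by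
      show Ideal.Quotient.mk _ r ∈ q.asIdeal
      rw [Ideal.Quotient.eq_zero_iff_mem.2 hr]
      exact zero_mem _
    have he' : e ∉ q₀.asIdeal ↔ q₀ ∈ Z₁ := by rw [heZ]; exact (PrimeSpectrum.mem_basicOpen _ _).symm
    rw [he']
    exact ⟨(hpt q₀ hq₀).1, fun hn => (hcov q₀).resolve_right fun h2 => hn ((hpt q₀ hq₀).2 h2)⟩
  -- the cartesian square
  have sq := AlgebraicGeometry.isPullback_SpecMap_of_isPushout _ _ _ _ (isPushout_map φ I)
  let t : pullback f (Spec.map (CommRingCat.ofHom (Ideal.Quotient.mk I))) ⟶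
      Spec (CommRingCat.of (Γ(X, ⊤) ⧸ J)) :=
    sq.lift (i ≫ X.toSpecΓ) (pullback.snd _ _) (by
      rw [Category.assoc, Groth.HensPair.toSpecΓ_toGlobal, pullback.condition])
  refine ⟨Γ(X, ⊤), inferInstance, J, hhens, hBN, X.toSpecΓ, inferInstance, t, ?_⟩
  refine IsPullback.of_bot ?_ (sq.lift_fst _ _ _).symm sq
  rw [Groth.HensPair.toSpecΓ_toGlobal, sq.lift_snd]
  exact IsPullback.of_hasPullback f _

end Groth.Agent.S17965
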