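import Groth.Statements.S17967
import Groth.Agent.EtPbc.Proper.Pair

set_option autoImplicit false
open CategoryTheory CategoryTheory.Limits AlgebraicGeometry
universe u
open Opposite
open EtPBC

namespace Groth.Agent.S17967

/-- Let A be a Noetherian ring, I an ideal of A, f : X ⟶ Spec A a proper morphism, i : X₀ = X ×_{Spec A}
Spec (A/I) ⟶ X the first projection, and assume that (X, X₀) is a henselian couple (for every finite
morphism g : Y ⟶ X, every open-closed subset of Y ×_X X₀ is the inverse image under the first
projection of exactly one open-closed subset of Y). Then for every torsion abelian sheaf F on the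
small etale site of X and every q ≥ 0 the map H^q(X, F) → H^q(X, i_* i^* F) induced by the unit F →
i_* i^* F is bijective; since i_* is exact with vanishing higher direct images for the closed
immersion i, this is the comparison H^q(X, F) → H^q(X₀, i^* F) phrased on X. -/
theorem result
    (A : Type u) [CommRing A] [IsNoetherianRing A] (I : Ideal A) {X : Scheme.{u}}
    (f : X ⟶ Spec (CommRingCat.of A)) [IsProper f]
    (hX : ∀ (Y : Scheme.{u}) (g : Y ⟶ X), IsFinite g →
      ∀ V : Set ↥(pullback g (pullback.fst f (Spec.map (CommRingCat.ofHom (Ideal.Quotient.mk I))))), IsClopen V →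
        ∃! U : Set ↥Y, IsClopen U ∧ (pullback.fst g (pullback.fst f (Spec.map (CommRingCat.ofHom (Ideal.Quotient.mk I))))).base ⁻¹' U = V)
    (F : EtCoh.Ab X) (hF : EtCoh.IsTorsion F) (q : ℕ) :
    Function.Bijective
      (Sheaf.H.map ((EtCoh.pullPushAdj (pullback.fst f (Spec.map (CommRingCat.ofHom (Ideal.Quotient.mk I))))).unit.app F) q) := by
  exact Groth.EtPbc.ProperMain.holds_couple I f hX q F hF

end Groth.Agent.S17967
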