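import Groth.Statements.S17969
import Mathlib

set_option autoImplicit false
universe u
open scoped TensorProduct
open CAlg

namespace Groth.Agent.S17969

/-- Let A be an integrally closed domain with fraction field K and B a commutative A-algebra which is
finite and torsion-free as an A-module and generated as an A-algebra by a single element x. Let P be
the characteristic polynomial of multiplication by 1 ⊗ x on the finite free K-module K ⊗_A B. Then P
has coefficients in A, namely P is the image of a monic polynomial over A, and the kernel of the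
A-algebra map A[T] → B sending T to x is generated by that polynomial, so that B is A[T]/(P). -/
theorem result
    (A : Type u) [CommRing A] [IsDomain A] [IsIntegrallyClosed A]
    (B : Type u) [CommRing B] [Algebra A B] [Module.Finite A B] [NoZeroSMulDivisors A B]
    (x : B) (hx : Algebra.adjoin A {x} = ⊤) :
    ∃ P : Polynomial A, P.Monic ∧
      Polynomial.map (algebraMap A (FractionRing A)) P =
        (LinearMap.mulLeft (FractionRing A) ((1 : FractionRing A) ⊗ₜ[A] x)).charpoly ∧
      RingHom.ker (Polynomial.aeval x).toRingHom = Ideal.span {P} := by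
  classical
  let K := FractionRing A
  let S := K ⊗[A] B
  set y : S := (1 : K) ⊗ₜ[A] x
  let incl : B →ₐ[A] S := Algebra.TensorProduct.includeRight
  have hincl : Function.Injective incl := by
    have : IsLocalizedModule (nonZeroDivisors A) (TensorProduct.mk A K B 1) :=
      (isLocalizedModule_iff_isBaseChange (nonZeroDivisors A) K _).2 (TensorProduct.isBaseChange A B K)
    rw [injective_iff_map_eq_zero]
    intro b hb
    obtain ⟨c, hc⟩ := (IsLocalizedModule.eq_zero_iff (nonZeroDivisors A) (TensorProduct.mk A K B 1)).1 hb
    exact (smul_eq_zero.1 hc).resolve_left (nonZeroDivisors.ne_zero c.2)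
  have haeval : ∀ q : Polynomial A, Polynomial.aeval y (q.map (algebraMap A K)) = incl (Polynomial.aeval x q) := by
    intro q
    rw [Polynomial.aeval_map_algebraMap, ← Polynomial.aeval_algHom_apply]
    rfl
  have hsurj : Function.Surjective (Polynomial.aeval (R := K) y) := by
    intro z
    induction z using TensorProduct.induction_on with
    | zero => exact ⟨0, map_zero _⟩
    | add a b ha hb =>
      obtain ⟨p, rfl⟩ := ha
      obtain ⟨q, rfl⟩ := hb
      exact ⟨p + q, map_add _ _ _⟩
    | tmul c b =>
      obtain ⟨q, rfl⟩ : b ∈ (Polynomial.aeval (R := A) x).range := by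
        rw [← Algebra.adjoin_singleton_eq_range_aeval, hx]
        exact Algebra.mem_top
      refine ⟨c • q.map (algebraMap A K), ?_⟩
      rw [map_smul, haeval]
      show c • ((1 : K) ⊗ₜ[A] _) = _
      rw [TensorProduct.smul_tmul', smul_eq_mul, mul_one]
      rfl
  have hker : ∀ p : Polynomial K, Polynomial.aeval y p = 0 ↔ minpoly K y ∣ p := fun p => (minpoly.dvd_iff).symm
  have hint : IsIntegral K y := Algebra.IsIntegral.isIntegral y
  set m := minpoly K y
  have hm : m.Monic := minpoly.monic hint
  have hrank : Module.finrank K S = m.natDegree := by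
    have hkr : RingHom.ker (Polynomial.aeval (R := K) y) = Ideal.span {m} := by
      ext p
      rw [RingHom.mem_ker, Ideal.mem_span_singleton, hker]
    rw [← ((Ideal.quotientEquivAlgOfEq K hkr).symm.trans
      (Ideal.quotientKerAlgEquivOfSurjective hsurj)).toLinearEquiv.finrank_eq]
    exact finrank_quotient_span_eq_natDegree
  have hchar : (LinearMap.mulLeft K y).charpoly = m := by
    refine (Polynomial.eq_of_monic_of_dvd_of_natDegree_le hm (LinearMap.charpoly_monic _) ?_ ?_)
    · rw [← hker]
      have h := LinearMap.congr_fun (LinearMap.aeval_self_charpoly (LinearMap.mulLeft K y)) 1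
      rw [show LinearMap.mulLeft K y = Algebra.lmul K S y from rfl, Polynomial.aeval_algHom_apply] at h
      simpa [show Algebra.lmul K S y = LinearMap.mulLeft K y from rfl] using h
    · rw [LinearMap.charpoly_natDegree, hrank]
  obtain ⟨F, hF, hFx⟩ := Algebra.IsIntegral.isIntegral (R := A) x
  have hdvd : m ∣ F.map (algebraMap A K) := by
    rw [← hker, haeval, show Polynomial.aeval x F = 0 from hFx, map_zero]
  obtain ⟨P, hP⟩ := IsIntegrallyClosed.eq_map_mul_C_of_dvd K hF hdvd
  rw [hm.leadingCoeff, Polynomial.C_1, mul_one] at hP
  have hPm : P.Monic := Polynomial.monic_of_injective (IsFractionRing.injective A K) (hP ▸ hm)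
  refine ⟨P, hPm, hP.trans hchar.symm, ?_⟩
  ext q
  rw [RingHom.mem_ker, Ideal.mem_span_singleton]
  show Polynomial.aeval x q = 0 ↔ _
  rw [← map_eq_zero_iff incl hincl, ← haeval, hker, ← hP, Polynomial.map_dvd_map _ (IsFractionRing.injective A K) hPm]

end Groth.Agent.S17969
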