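import Groth.Statements.S1802
import Groth.Agent.RefRank.AffineOfExact

set_option autoImplicit false
universe u
open AlgebraicGeometry
open LocCoh

namespace Groth.Agent.S1802

/-- For a Noetherian ring. Let I be an ideal of a Noetherian ring A with cd(A, I) = 1, i.e. H^i_I(M) = 0
for all modules M and all i ≥ 2 but H^1_I(M) ≠ 0 for some M. Then the open subscheme Spec A minus
V(I) is nonempty and affine. -/
theorem result (A : Type u) [CommRing A] [IsNoetherianRing A] (I : Ideal A) (h1 : LocCoh.CdLE A I 1) (h0 : ¬ LocCoh.CdLE A I 0) : Nonempty (↑(LocCoh.puncturedOpen A I) : Scheme.{u}) ∧ IsAffine (↑(LocCoh.puncturedOpen A I) : Scheme.{u}) := by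
  have hUI : ∀ x : ↥(Spec (CommRingCat.of A)), x ∈ LocCoh.puncturedOpen A I ↔ ∃ f ∈ I, f ∉ (x : PrimeSpectrum A).asIdeal :=
    fun x => (not_congr (PrimeSpectrum.mem_zeroLocus _ _)).trans Set.not_subset
  refine ⟨?_, ?_⟩
  · by_contra hne
    rw [not_nonempty_iff] at hne
    refine h0 fun M _ _ i hi => ?_
    rcases (Nat.succ_le_of_lt hi).lt_or_eq with hi1 | rfl
    · exact h1 M i hi1
    obtain ⟨N, hN⟩ : ∃ N, I ^ N ≤ (⊥ : Ideal A) := by
      refine Ideal.exists_pow_le_of_le_radical_of_fg (fun f hf => ?_) (IsNoetherian.noetherian I)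
      refine (nilpotent_iff_mem_prime.2 fun q hq => ?_ : IsNilpotent f)
      by_contra hfq
      exact hne.false ⟨⟨q, hq⟩, (hUI _).2 ⟨f, hf, hfq⟩⟩
    have hDT : Subsingleton (LocCoh.DT I M) := subsingleton_of_forall_eq 0 fun x => by
      obtain ⟨n, f, rfl⟩ := Groth.LocCohTransform.cls_surjective I x
      refine (Groth.LocCohTransform.cls_eq_zero_iff I f).2 ⟨max n N, le_max_left _ _, LinearMap.ext fun c => ?_⟩
      have hc : (c : A) = 0 := (Ideal.pow_le_pow_right (le_max_right n N)).trans hN c.2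
      rw [show c = 0 from Subtype.ext hc, map_zero, map_zero]
    obtain ⟨e⟩ := Groth.LocCohTransform.exists_coker_equiv I M
    exact e.symm.toEquiv.subsingleton
  · exact Groth.RefRank.AffineCompl.isAffineOpen_of_smul_top hUI
      (Groth.LocCohTransform.smul_top_DT_of_exact I ((Groth.LocCohTransform.exact_iff_cdLE_one I).2 h1))

end Groth.Agent.S1802
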