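import Groth.Statements.S1797
import Groth.Agent.LocDual.NormalExcellent
import Groth.Agent.S1802

set_option autoImplicit false
universe u
open LocCoh

namespace Groth.Agent.S1797

/-- Let A be an excellent normal Noetherian local ring (an integrally closed domain) and I an ideal with
dim V(I) ≥ 1, i.e. dim A/I ≥ 1. Then cd(A, I) < dim A: for every A-module M, H^i_I(M) = 0 whenever i
≥ dim A. Moreover, if dim A = 2 then the open subscheme Spec A ∖ V(I) is affine. -/
theorem result (A : Type u) [CommRing A] [IsDomain A] [IsLocalRing A] [IsNoetherianRing A] [IsIntegrallyClosed A] (hA : EGA4.IsExcellent A) (I : Ideal A) (hI : (1 : WithBot ℕ∞) ≤ ringKrullDim (A ⧸ I)) : (∀ (M : Type u) [AddCommGroup M] [Module A M] (i : ℕ), ringKrullDim A ≤ (i : WithBot ℕ∞) → Subsingleton (LocCoh.H I i M)) ∧ (ringKrullDim A = 2 → AlgebraicGeometry.IsAffine (↑(LocCoh.puncturedOpen A I) : AlgebraicGeometry.Scheme.{u})) := by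
  obtain ⟨d, hd⟩ : ∃ d : ℕ, ringKrullDim A = d := by
    obtain ⟨v, hv⟩ := WithBot.ne_bot_iff_exists.1 (ringKrullDim_ne_bot (R := A))
    cases v with
    | top => exact absurd hv.symm ringKrullDim_ne_top
    | coe v => exact ⟨v, hv.symm⟩
  obtain ⟨d', rfl, hcd⟩ := Groth.LocDual.NormalExcellent.cdLE_of_dim A hA.2.2.1 I hI hd
  refine ⟨fun M _ _ i hi => hcd M i ?_, fun h2 => ?_⟩
  · rw [hd] at hi
    have : d' + 1 ≤ i := by exact_mod_cast hi
    omega
  · rw [hd] at h2
    have hd' : d' + 1 = 2 := by exact_mod_cast h2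
    obtain rfl : d' = 1 := by omega
    rcases eq_or_ne I ⊥ with rfl | hne
    · haveI : IsEmpty (↑(LocCoh.puncturedOpen A (⊥ : Ideal A)) : AlgebraicGeometry.Scheme.{u}) :=
        ⟨fun x => x.2 (PrimeSpectrum.mem_zeroLocus _ _ |>.2 (bot_le : (⊥ : Ideal A) ≤ _))⟩
      exact AlgebraicGeometry.isAffine_of_isEmpty
    · have htop : I ≠ ⊤ := by
        rintro rfl
        haveI : Subsingleton (A ⧸ (⊤ : Ideal A)) := Ideal.Quotient.subsingleton_iff.2 rfl
        rw [ringKrullDim_eq_bot_of_subsingleton] at hI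
        exact absurd hI (by simp)
      exact (Groth.Agent.S1802.result A I hcd
        (Groth.LocDual.NormalExcellent.not_cdLE_zero A I hne htop)).2

end Groth.Agent.S1797
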