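import Groth.Statements.S17971
import Groth.Agent.HensPair.Couple
import Groth.Agent.S17968
import Groth.Agent.Hensel1.Pairs

set_option autoImplicit false
open CategoryTheory CategoryTheory.Limits AlgebraicGeometry
universe u
open Hensel

namespace Groth.Agent.S17971

/-- For a commutative ring A and an ideal I, the pair (A, I) is henselian if and only if the couple
(Spec A, Spec (A/I)) is henselian, i.e. if and only if for every finite morphism g : Y ⟶ Spec A
every open-closed subset of Y ×_{Spec A} Spec (A/I) is the inverse image under the first projection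
of exactly one open-closed subset of Y. -/
theorem result (A : Type u) [CommRing A] (I : Ideal A) :
    HenselianRing A I ↔
    ∀ (Y : Scheme.{u}) (g : Y ⟶ Spec (CommRingCat.of A)), IsFinite g →
      ∀ V : Set ↥(pullback g (Spec.map (CommRingCat.ofHom (Ideal.Quotient.mk I)))), IsClopen V →
        ∃! U : Set ↥Y, IsClopen U ∧ (pullback.fst g (Spec.map (CommRingCat.ofHom (Ideal.Quotient.mk I)))).base ⁻¹' U = V := by
  constructor
  · intro hA Y g hg
    have : IsAffine Y := isAffine_of_isAffineHom g
    let ψ : CommRingCat.of A ⟶ Γ(Y, ⊤) := (Scheme.ΓSpecIso (CommRingCat.of A)).inv ≫ g.appTop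
    let _ : Algebra A Γ(Y, ⊤) := ψ.hom.toAlgebra
    have hfin : Module.Finite A Γ(Y, ⊤) :=
      (g.finite_appTop).comp (RingHom.Finite.of_surjective _
        (Scheme.ΓSpecIso (CommRingCat.of A)).symm.commRingCatIsoToRingEquiv.surjective)
    have hge : g = Y.isoSpec.hom ≫ Spec.map (CommRingCat.ofHom (algebraMap A Γ(Y, ⊤))) := by
      show g = Y.isoSpec.hom ≫ Spec.map ψ
      rw [Spec.map_comp, ← Category.assoc, Scheme.isoSpec_hom_naturality, Category.assoc,
        Scheme.isoSpec_Spec_hom, ← Spec.map_comp, Iso.inv_hom_id, Spec.map_id, Category.comp_id]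
    exact (Groth.HensPair.clopenBij_pullback_fst_iff I g Y.isoSpec hge).2
      (Groth.Hensel1.bijOn_idempotents Γ(Y, ⊤))
  · intro h
    have key : ∀ (B : Type u) [CommRing B] [Algebra A B] [Module.Finite A B],
        Set.BijOn (Ideal.Quotient.mk (I.map (algebraMap A B))) {e : B | IsIdempotentElem e} {e | IsIdempotentElem e} :=
      fun B _ _ _ => (Groth.HensPair.clopenBij_pullback_fst_iff I
        (Spec.map (CommRingCat.ofHom (algebraMap A B))) (Iso.refl _) (Category.id_comp _).symm).1
        (h _ _ ((IsFinite.SpecMap_iff _).2 (RingHom.finite_algebraMap.2 inferInstance)))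
    have hjac : I ≤ Ideal.jacobson ⊥ := le_sInf fun M ⟨_, hM⟩ => by
      by_contra hne
      have hI : I.map (algebraMap A (A ⧸ M)) = ⊤ := by
        obtain ⟨x, hx, hxM⟩ := SetLike.not_le_iff_exists.1 hne
        let := Ideal.Quotient.field M
        exact Ideal.eq_top_of_isUnit_mem _ (Ideal.mem_map_of_mem _ hx)
          (isUnit_iff_ne_zero.2 fun h0 => hxM (Ideal.Quotient.eq_zero_iff_mem.1 h0))
      have := (key (A ⧸ M)).injOn (IsIdempotentElem.zero) (IsIdempotentElem.one)
        (Ideal.Quotient.eq.2 (by rw [hI]; trivial))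
      exact Ideal.Quotient.nontrivial_iff.2 hM.ne_top |>.exists_pair_ne.elim fun a ⟨b, hab⟩ =>
        hab (by rw [← one_mul a, ← one_mul b, ← this, zero_mul, zero_mul])
    refine Groth.Agent.S17968.result A I hjac fun m p hp _ => ?_
    have : Module.Finite A (AdjoinRoot p) := hp.finite_adjoinRoot
    exact (key (AdjoinRoot p)).surjOn

end Groth.Agent.S17971
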