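import Groth.Statements.S17972
import Groth.Agent.Hensel1.Local
import Mathlib.RingTheory.Smooth.StandardSmoothCotangent

set_option autoImplicit false
universe u
open Hensel

namespace Groth.Agent.S17972

/-- Let A be a henselian local ring with maximal ideal m, let P_1, …, P_n be polynomials over A in n
variables and a₀ ∈ A^n a point with P_i(a₀) ∈ m for all i whose Jacobian determinant
det(∂P_i/∂T_j)(a₀) is a unit of A, i.e. nonzero in the residue field. Then there is a ∈ A^n
congruent to a₀ modulo m in each coordinate with P_i(a) = 0 for all i. -/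
theorem result
    (A : Type u) [CommRing A] [HenselianLocalRing A] (n : ℕ)
    (P : Fin n → MvPolynomial (Fin n) A) (a₀ : Fin n → A)
    (h₀ : ∀ i, MvPolynomial.eval a₀ (P i) ∈ IsLocalRing.maximalIdeal A)
    (hJ : IsUnit (Matrix.of (fun i j => MvPolynomial.eval a₀ (MvPolynomial.pderiv j (P i)))).det) :
    ∃ a : Fin n → A, (∀ i, MvPolynomial.eval a (P i) = 0) ∧
      ∀ j, a j - a₀ j ∈ IsLocalRing.maximalIdeal A := by
  classical
  let ι := Fin n ⊕ Fin 1
  let em : MvPolynomial (Fin n) A →ₐ[A] MvPolynomial ι A := MvPolynomial.rename Sum.inl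
  let Δ : MvPolynomial (Fin n) A := (Matrix.of fun i j => MvPolynomial.pderiv j (P i)).det
  let v : ι → MvPolynomial ι A := Sum.elim (fun i => em (P i))
    (fun _ => MvPolynomial.X (Sum.inr 0) * em Δ - 1)
  let pre : Algebra.PreSubmersivePresentation A (MvPolynomial ι A ⧸ Ideal.span (Set.range v)) ι ι :=
    .naive id Function.injective_id
  have hdet : pre.jacobiMatrix.det = em Δ * em Δ := by
    have hM : pre.jacobiMatrix = Matrix.fromBlocks
        ((Matrix.of fun i j => em (MvPolynomial.pderiv j (P i))).transpose)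
        (Matrix.of fun (i : Fin n) (_ : Fin 1) => MvPolynomial.pderiv (Sum.inl i) (v (Sum.inr 0)))
        0 (Matrix.of fun (_ : Fin 1) (_ : Fin 1) => em Δ) := by
      ext i j : 1
      rw [Algebra.PreSubmersivePresentation.jacobiMatrix_naive]
      rcases i with i | i <;> rcases j with j | j
      · exact MvPolynomial.pderiv_rename Sum.inl_injective _ _
      · rw [Subsingleton.elim j 0]; rfl
      · show MvPolynomial.pderiv (Sum.inr i) (em (P j)) = 0
        refine MvPolynomial.pderiv_eq_zero_of_notMem_vars fun h => ?_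
        obtain ⟨k, -, hk⟩ := MvPolynomial.mem_vars_rename _ _ h
        exact Sum.inl_ne_inr hk
      · rw [Subsingleton.elim i 0, Subsingleton.elim j 0]
        show MvPolynomial.pderiv (Sum.inr 0) (MvPolynomial.X (Sum.inr 0) * em Δ - 1) = em Δ
        have h0 : MvPolynomial.pderiv (Sum.inr 0 : ι) (em Δ) = 0 :=
          MvPolynomial.pderiv_eq_zero_of_notMem_vars fun h => by
            obtain ⟨k, -, hk⟩ := MvPolynomial.mem_vars_rename _ _ h
            exact Sum.inl_ne_inr hk
        simp [MvPolynomial.pderiv_mul, h0]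
    rw [hM, Matrix.det_fromBlocks_zero₂₁, Matrix.det_fin_one, Matrix.det_transpose]
    congr 1
    exact (AlgHom.map_det em _).symm
  have hsub : IsUnit pre.jacobian := by
    rw [Algebra.PreSubmersivePresentation.jacobian_eq_jacobiMatrix_det, hdet, map_mul]
    have h0 : Ideal.Quotient.mk (Ideal.span (Set.range v)) (MvPolynomial.X (Sum.inr 0) * em Δ - 1) = 0 :=
      Ideal.Quotient.eq_zero_iff_mem.2 (Ideal.subset_span ⟨Sum.inr 0, rfl⟩)
    rw [map_sub, map_mul, map_one, sub_eq_zero] at h0
    exact (IsUnit.of_mul_eq_one_right _ h0).mul (IsUnit.of_mul_eq_one_right _ h0)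
  let S : Algebra.SubmersivePresentation A (MvPolynomial ι A ⧸ Ideal.span (Set.range v)) ι ι :=
    { pre with jacobian_isUnit := hsub }
  have : Algebra.IsStandardSmoothOfRelativeDimension 0 A (MvPolynomial ι A ⧸ Ideal.span (Set.range v)) :=
    S.isStandardSmoothOfRelativeDimension (by simp [Algebra.Presentation.dimension])
  set m := IsLocalRing.maximalIdeal A
  let q : ι → A ⧸ m := Sum.elim (fun i => Ideal.Quotient.mk m (a₀ i))
    (fun _ => Ideal.Quotient.mk m ↑hJ.unit⁻¹)
  have hev : ∀ p : MvPolynomial (Fin n) A, MvPolynomial.aeval q (em p) = Ideal.Quotient.mk m (MvPolynomial.eval a₀ p) := by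
    intro p
    show MvPolynomial.aeval q (MvPolynomial.rename Sum.inl p) = _
    rw [MvPolynomial.aeval_rename]
    have := DFunLike.congr_fun (MvPolynomial.algHom_ext (f := MvPolynomial.aeval (q ∘ Sum.inl))
      (g := (Ideal.Quotient.mkₐ A m).comp (MvPolynomial.aeval a₀)) fun i => by simp [q]) p
    simpa [MvPolynomial.aeval_def, MvPolynomial.eval₂_id] using this
  have hΔ : MvPolynomial.eval a₀ Δ = (Matrix.of (fun i j => MvPolynomial.eval a₀ (MvPolynomial.pderiv j (P i)))).det :=
    RingHom.map_det (MvPolynomial.eval a₀) _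
  let σ : (MvPolynomial ι A ⧸ Ideal.span (Set.range v)) →ₐ[A] A ⧸ m :=
    Ideal.Quotient.liftₐ _ (MvPolynomial.aeval q) fun x hx => RingHom.mem_ker.1
      ((Ideal.span_le.2 (Set.range_subset_iff.2 fun i => RingHom.mem_ker.2 <| by
        rcases i with i | i
        · exact (hev _).trans (Ideal.Quotient.eq_zero_iff_mem.2 (h₀ i))
        · show MvPolynomial.aeval q (MvPolynomial.X (Sum.inr 0) * em Δ - 1) = 0
          rw [map_sub, map_mul, MvPolynomial.aeval_X, hev, hΔ, map_one, sub_eq_zero]
          exact (map_mul _ _ _).symm.trans ((congrArg _ hJ.val_inv_mul).trans (map_one _))) :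
        Ideal.span (Set.range v) ≤ RingHom.ker (MvPolynomial.aeval q)) hx)
  obtain ⟨τ, hτ⟩ := Groth.Hensel1.exists_etale_lift Groth.Hensel1.gabber_of_henselianRing σ
  refine ⟨fun i => τ (Ideal.Quotient.mk _ (MvPolynomial.X (Sum.inl i))), fun i => ?_, fun j => ?_⟩
  · have := congrArg τ (Ideal.Quotient.eq_zero_iff_mem.2
      (Ideal.subset_span ⟨Sum.inl i, rfl⟩ : v (Sum.inl i) ∈ Ideal.span (Set.range v)))
    rw [map_zero] at this
    refine Eq.trans ?_ this
    exact (DFunLike.congr_fun (MvPolynomial.algHom_ext (f := (τ.comp (Ideal.Quotient.mkₐ A _)).comp em)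
      (g := MvPolynomial.aeval fun i => τ (Ideal.Quotient.mk _ (MvPolynomial.X (Sum.inl i))))
      fun i => by simp [em]) (P i)).symm
  · refine Ideal.Quotient.eq.1 ((DFunLike.congr_fun hτ _).trans ?_)
    exact (Ideal.Quotient.liftₐ_apply _ _ _ _).trans
      ((Ideal.Quotient.lift_mk _ _ _).trans (MvPolynomial.aeval_X _ _))

end Groth.Agent.S17972
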