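import Groth.Statements.S17974
import Mathlib.RingTheory.Ideal.Cotangent
import Mathlib.RingTheory.Unramified.Basic
-- import your own Groth.Agent.* helpers here

set_option autoImplicit false
universe u
open Unram

namespace Groth.Agent.S17974

/-- Let A be a commutative ring, B an unramified A-algebra (formally unramified and of finite type), C
an A-algebra, p a prime ideal of C, and u, v : B → C two A-algebra homomorphisms which agree after
composition with C → C/p. Then there is an element f of C not in p such that u and v agree after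
composition with the localization map C → C[1/f]. -/
theorem result
    (A : Type u) [CommRing A] (B : Type u) [CommRing B] [Algebra A B]
    [Algebra.FormallyUnramified A B] [Algebra.FiniteType A B]
    (C : Type u) [CommRing C] [Algebra A C] (p : Ideal C) [p.IsPrime]
    (u v : B →ₐ[A] C)
    (huv : (Ideal.Quotient.mk p).comp u.toRingHom = (Ideal.Quotient.mk p).comp v.toRingHom) :
    ∃ f : C, f ∉ p ∧
      (algebraMap C (Localization.Away f)).comp u.toRingHom =
        (algebraMap C (Localization.Away f)).comp v.toRingHom := by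
  obtain ⟨s, hs⟩ := Algebra.FiniteType.out (R := A) (A := B)
  classical
  let J : Ideal C := Ideal.span ↑(s.image fun g => u g - v g)
  have hgen : ∀ g ∈ s, u g - v g ∈ J := fun g hg =>
    Ideal.subset_span (Finset.mem_coe.2 (Finset.mem_image_of_mem _ hg))
  have hJp : J ≤ p := Ideal.span_le.2 fun x hx => by
    obtain ⟨g, -, rfl⟩ := Finset.mem_image.1 (Finset.mem_coe.1 hx)
    exact Ideal.Quotient.eq.1 (RingHom.congr_fun huv g)
  have hJ : (Ideal.Quotient.mkₐ A J).comp u = (Ideal.Quotient.mkₐ A J).comp v :=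
    AlgHom.ext_of_adjoin_eq_top hs fun g hg => Ideal.Quotient.eq.2 (hgen g hg)
  have hJ2 : (Ideal.Quotient.mkₐ A (J ^ 2)).comp u = (Ideal.Quotient.mkₐ A (J ^ 2)).comp v := by
    refine Algebra.FormallyUnramified.ext (J.map (Ideal.Quotient.mk (J ^ 2))) ⟨2, ?_⟩ fun b => ?_
    · rw [← Ideal.map_pow, Ideal.map_quotient_self, Ideal.zero_eq_bot]
    · rw [Ideal.Quotient.mk_eq_mk_iff_sub_mem, AlgHom.comp_apply, AlgHom.comp_apply, ← map_sub]
      exact Ideal.mem_map_of_mem _ (Ideal.Quotient.eq.1 (AlgHom.congr_fun hJ b))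
  have hidem : IsIdempotentElem J := by
    refine le_antisymm Ideal.mul_le_left (Ideal.span_le.2 fun x hx => ?_)
    obtain ⟨g, -, rfl⟩ := Finset.mem_image.1 (Finset.mem_coe.1 hx)
    rw [← pow_two]
    exact Ideal.Quotient.eq.1 (AlgHom.congr_fun hJ2 g)
  obtain ⟨e, he, heJ⟩ := (Ideal.isIdempotentElem_iff_of_fg J ⟨_, rfl⟩).1 hidem
  have hep : e ∈ p := hJp (heJ ▸ Ideal.mem_span_singleton_self e)
  refine ⟨1 - e, fun h => ‹p.IsPrime›.ne_top ((Ideal.eq_top_iff_one p).2 (by
    simpa using add_mem h hep)), RingHom.ext fun b => ?_⟩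
  rw [RingHom.comp_apply, RingHom.comp_apply, ← sub_eq_zero, ← map_sub]
  have hb : u b - v b ∈ Submodule.span C {e} := heJ ▸ Ideal.Quotient.eq.1 (AlgHom.congr_fun hJ b)
  obtain ⟨c, hc⟩ := Submodule.mem_span_singleton.1 hb
  show algebraMap C _ (u b - v b) = 0
  rw [IsLocalization.map_eq_zero_iff (Submonoid.powers (1 - e))]
  refine ⟨⟨1 - e, Submonoid.mem_powers _⟩, ?_⟩
  rw [← hc, smul_eq_mul]
  linear_combination (-c) * he.eq

end Groth.Agent.S17974
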