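import Groth.Statements.S17975
import Mathlib.RingTheory.Nakayama

set_option autoImplicit false
universe u
open Hensel

namespace Groth.Agent.S17975

/-- Let A be a local ring with maximal ideal m and residue field k, C a commutative A-algebra which is
finitely generated as an A-module, Q₀ a monic polynomial of degree n over k, e an A-algebra
isomorphism from C/mC to k[T]/(Q₀), and x an element of C whose class is sent by e to the class of
T. Then x generates C as an A-algebra, and x is a root of a monic polynomial Q over A of degree n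
whose reduction modulo m equals Q₀. -/
theorem result
    (A : Type u) [CommRing A] [IsLocalRing A] (C : Type u) [CommRing C] [Algebra A C] [Module.Finite A C]
    (Q₀ : Polynomial (IsLocalRing.ResidueField A)) (hQ₀ : Q₀.Monic)
    (e : (C ⧸ Ideal.map (algebraMap A C) (IsLocalRing.maximalIdeal A)) ≃ₐ[A] AdjoinRoot Q₀)
    (x : C) (hx : e (Ideal.Quotient.mk (Ideal.map (algebraMap A C) (IsLocalRing.maximalIdeal A)) x) = AdjoinRoot.root Q₀) :
    Algebra.adjoin A {x} = ⊤ ∧
      ∃ Q : Polynomial A, Q.Monic ∧ Q.natDegree = Q₀.natDegree ∧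
        Polynomial.map (IsLocalRing.residue A) Q = Q₀ ∧ Polynomial.aeval x Q = 0 := by
  set n := Q₀.natDegree
  have he : ∀ p : Polynomial A, e (Ideal.Quotient.mk (Ideal.map (algebraMap A C) (IsLocalRing.maximalIdeal A)) (Polynomial.aeval x p)) =
      AdjoinRoot.mk Q₀ (p.map (IsLocalRing.residue A)) := by
    intro p
    induction p using Polynomial.induction_on' with
    | add p q hp hq => simp [hp, hq]
    | monomial k a =>
      rw [Polynomial.aeval_monomial, map_mul, map_pow, map_mul, map_pow, hx,
        Polynomial.map_monomial, ← Polynomial.C_mul_X_pow_eq_monomial, map_mul, map_pow,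
        AdjoinRoot.mk_X]
      congr 1
      exact e.commutes a
  set N : Submodule A C := Submodule.span A ((fun i => x ^ i) '' {i : ℕ | i < n})
  have hN : N = ⊤ := by
    refine top_le_iff.1 (Submodule.le_of_le_smul_of_le_jacobson_bot Module.Finite.fg_top
      (IsLocalRing.maximalIdeal_le_jacobson _) ?_)
    rw [Ideal.smul_top_eq_map]
    intro c _
    obtain ⟨p, hp⟩ := AdjoinRoot.mk_surjective (e (Ideal.Quotient.mk (Ideal.map (algebraMap A C) (IsLocalRing.maximalIdeal A)) c))
    have hl : p %ₘ Q₀ ∈ Polynomial.lifts (IsLocalRing.residue A) :=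
      (Polynomial.lifts_iff_coeff_lifts _).2 fun k => IsLocalRing.residue_surjective _
    obtain ⟨r, hr, hrd⟩ := Polynomial.mem_lifts_and_degree_eq hl
    have hrn : r.degree < n := by
      rw [hrd]
      exact (Polynomial.degree_modByMonic_lt p hQ₀).trans_eq (Polynomial.degree_eq_natDegree hQ₀.ne_zero)
    have hrN : Polynomial.aeval x r ∈ N := by
      rw [Polynomial.aeval_eq_sum_range]
      refine Submodule.sum_mem _ fun i _ => ?_
      by_cases h : r.coeff i = 0
      · simp [h]
      · exact Submodule.smul_mem _ _ (Submodule.subset_span ⟨i, WithBot.coe_lt_coe.1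
          ((Polynomial.le_degree_of_ne_zero h).trans_lt hrn), rfl⟩)
    have heq : Ideal.Quotient.mk (Ideal.map (algebraMap A C) (IsLocalRing.maximalIdeal A)) c = Ideal.Quotient.mk (Ideal.map (algebraMap A C) (IsLocalRing.maximalIdeal A)) (Polynomial.aeval x r) := by
      refine e.injective ?_
      rw [he, hr, ← hp, AdjoinRoot.mk_eq_mk]
      refine ⟨p /ₘ Q₀, ?_⟩
      linear_combination -(Polynomial.modByMonic_add_div p Q₀)
    exact Submodule.mem_sup.2 ⟨_, hrN, _, Ideal.Quotient.eq.1 heq, by simp⟩
  constructor
  · rw [eq_top_iff]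
    intro c _
    have hc : c ∈ N := by rw [hN]; trivial
    refine (Submodule.span_le.2 ?_ : N ≤ Subalgebra.toSubmodule (Algebra.adjoin A ({x} : Set C))) hc
    rintro _ ⟨i, -, rfl⟩
    exact pow_mem (Algebra.subset_adjoin (R := A) (Set.mem_singleton x)) i
  · have hxn : x ^ n ∈ N := by rw [hN]; trivial
    obtain ⟨l, hl, hlx⟩ := (Finsupp.mem_span_image_iff_linearCombination A).1 hxn
    set R : Polynomial A := ∑ i ∈ l.support, Polynomial.C (l i) * Polynomial.X ^ i
    have hRd : R.degree < n :=
      (Polynomial.degree_sum_le _ _).trans_lt ((Finset.sup_lt_iff (WithBot.bot_lt_coe _)).2 fun i hi =>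
        (Polynomial.degree_C_mul_X_pow_le _ _).trans_lt (WithBot.coe_lt_coe.2 (hl hi)))
    have hm : (Polynomial.X ^ n - R).Monic := Polynomial.monic_X_pow_sub hRd
    have hd : (Polynomial.X ^ n - R).natDegree = n := by
      apply Polynomial.natDegree_eq_of_degree_eq_some
      rw [Polynomial.degree_sub_eq_left_of_degree_lt (by rwa [Polynomial.degree_X_pow]),
        Polynomial.degree_X_pow]
    have h0 : Polynomial.aeval x (Polynomial.X ^ n - R) = 0 := by
      rw [map_sub, map_pow, Polynomial.aeval_X, ← hlx, map_sum, Finsupp.linearCombination_apply,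
        Finsupp.sum, sub_eq_zero]
      exact Finset.sum_congr rfl fun i _ => by simp [Algebra.smul_def]
    refine ⟨_, hm, hd, ?_, h0⟩
    have hdvd : Q₀ ∣ (Polynomial.X ^ n - R).map (IsLocalRing.residue A) := by
      rw [← AdjoinRoot.mk_eq_zero, ← he, h0, map_zero, map_zero]
    refine Polynomial.eq_of_monic_of_dvd_of_natDegree_le hQ₀ (hm.map _) hdvd ?_
    rw [hm.natDegree_map, hd]

end Groth.Agent.S17975
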