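import Groth.Statements.S17976
import Groth.Agent.HensPair.Descent
import Mathlib.RingTheory.ZariskisMainTheorem
import Mathlib.RingTheory.Nakayama

set_option autoImplicit false
universe u
open Hensel
open scoped TensorProduct

namespace Groth.Agent.S17976

set_option maxHeartbeats 1000000 in
/-- Let A be a commutative ring, I an ideal of A and B an A-algebra of finite type such that B/IB is a
finite A-module. Then there exist an etale A-algebra A' such that A → A'/IA' is surjective with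
kernel I, and a commutative ring C which is an A'-algebra finite over A' and an etale B-algebra,
with compatible A-algebra structures, such that B → C/IC is surjective with kernel IB. In scheme
language: an etale affine neighbourhood S' of Spec (A/I) in Spec A and an etale neighbourhood Z =
Spec C of Spec (B/IB) in Spec B, finite over S', forming a commutative square. -/
theorem result
    (A : Type u) [CommRing A] (I : Ideal A) (B : Type u) [CommRing B] [Algebra A B] [Algebra.FiniteType A B]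
    (hfin : Module.Finite A (B ⧸ Ideal.map (algebraMap A B) I)) :
    ∃ (A' : Type u) (_ : CommRing A') (_ : Algebra A A') (_ : Algebra.Etale A A')
      (C : Type u) (_ : CommRing C) (_ : Algebra A C) (_ : Algebra A' C) (_ : Algebra B C)
      (_ : IsScalarTower A A' C) (_ : IsScalarTower A B C),
      Function.Surjective ((Ideal.Quotient.mk (Ideal.map (algebraMap A A') I)).comp (algebraMap A A')) ∧
      RingHom.ker ((Ideal.Quotient.mk (Ideal.map (algebraMap A A') I)).comp (algebraMap A A')) = I ∧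
      Algebra.Etale B C ∧ Module.Finite A' C ∧
      Function.Surjective ((Ideal.Quotient.mk (Ideal.map (algebraMap A C) I)).comp (algebraMap B C)) ∧
      RingHom.ker ((Ideal.Quotient.mk (Ideal.map (algebraMap A C) I)).comp (algebraMap B C)) =
        Ideal.map (algebraMap A B) I := by
  classical
  set J := I.map (algebraMap A B) with hJ
  have hbar : Module.Finite A (B ⧸ J) := hfin
  -- Zariski's main theorem at the primes containing J
  have hQF : ∀ q : PrimeSpectrum B, J ≤ q.asIdeal → ∃ r ∉ q.asIdeal, IsIntegral A r ∧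
      ∀ x, ∃ m, IsIntegral A (r ^ m * x) := by
    intro q hq
    rw [← Algebra.zariskisMainProperty_iff]
    have : Algebra.QuasiFiniteAt A q.asIdeal := by
      refine Algebra.QuasiFiniteAt.of_isOpen_singleton_fiber q ?_
      have hd : IsDiscrete (PrimeSpectrum.comap (algebraMap A B) ⁻¹' {q.comap (algebraMap A B)}) := by
        refine ((Algebra.QuasiFinite.isDiscrete_comap_preimage_singleton (R := A) (S := B ⧸ J)
          (q.comap (algebraMap A B))).image
            (PrimeSpectrum.isClosedEmbedding_comap_of_surjective _ _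
              (Ideal.Quotient.mk_surjective (I := J))).toIsEmbedding.toIsInducing).mono ?_
        intro P hP
        have hP' : J ≤ P.asIdeal := Ideal.map_le_iff_le_comap.2
          (le_of_le_of_eq (Ideal.map_le_iff_le_comap.1 hq) (congrArg PrimeSpectrum.asIdeal hP).symm)
        obtain ⟨P', rfl⟩ : P ∈ Set.range (PrimeSpectrum.comap (Ideal.Quotient.mk J)) := by
          rw [range_comap_of_surjective _ _ Ideal.Quotient.mk_surjective, Ideal.mk_ker]
          exact hP'
        exact ⟨P', hP, rfl⟩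
      have := hd.1
      exact isOpen_discrete _
    exact .of_finiteType _
  choose r hr hint m hm using fun q : PrimeSpectrum.zeroLocus (J : Set B) =>
    hQF q.1 ((PrimeSpectrum.mem_zeroLocus _ _).1 q.2)
  obtain ⟨s, hs⟩ := (PrimeSpectrum.isClosed_zeroLocus (J : Set B)).isCompact.elim_finite_subcover
    (fun q => (PrimeSpectrum.basicOpen (r q) : Set (PrimeSpectrum B)))
    (fun q => (PrimeSpectrum.basicOpen (r q)).2) fun q hq => Set.mem_iUnion.2 ⟨⟨q, hq⟩, hr ⟨q, hq⟩⟩
  obtain ⟨gens, hgens⟩ := (inferInstance : Algebra.FiniteType A B).out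
  let N : ℕ := gens.sup fun x => Finset.univ.sup fun q : s => m q x + 0
  have hN : ∀ x ∈ gens, ∀ q : s, IsIntegral A (r q ^ N * x) := by
    intro x hx q
    have h1 : m q x ≤ N := le_trans (Finset.le_sup (f := fun q : s => m q x + 0) (Finset.mem_univ q))
      (Finset.le_sup (f := fun x => Finset.univ.sup fun q : s => m q x + 0) hx)
    obtain ⟨j, hj⟩ := Nat.exists_eq_add_of_le h1
    rw [hj, pow_add, mul_comm (r q ^ m q x), mul_assoc]
    exact ((hint q).pow j).mul (hm q x)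
  let gs : Set B := (Set.range fun q : s => r q) ∪ Set.range fun p : s × gens => r p.1 ^ N * (p.2 : B)
  let F : Subalgebra A B := Algebra.adjoin A gs
  have hFfin : Module.Finite A F := Module.Finite.iff_fg.2
    (fg_adjoin_of_finite ((Set.finite_range _).union (Set.finite_range _)) (by
      rintro _ (⟨q, rfl⟩ | ⟨p, rfl⟩)
      exacts [hint q, hN _ p.2.2 _]))
  let ρ : F →ₐ[A] B ⧸ J := (Ideal.Quotient.mkₐ A J).comp F.val
  let g : s → F := fun q => ⟨r q, Algebra.subset_adjoin (Or.inl ⟨q, rfl⟩)⟩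
  have hmF : ∀ (x : B), ∃ n, ∀ q : s, ∀ k ≥ n, r q ^ k * x ∈ F := by
    intro x
    have hx : x ∈ Algebra.adjoin A (gens : Set B) := hgens ▸ Algebra.mem_top
    induction hx using Algebra.adjoin_induction with
    | mem y hy =>
      refine ⟨N, fun q k hk => ?_⟩
      obtain ⟨j, rfl⟩ := Nat.exists_eq_add_of_le hk
      rw [pow_add, mul_comm (r q ^ N), mul_assoc]
      exact F.mul_mem (F.pow_mem (g q).2 j) (Algebra.subset_adjoin (Or.inr ⟨(q, ⟨y, hy⟩), rfl⟩))
    | algebraMap a => exact ⟨0, fun q k _ => F.mul_mem (F.pow_mem (g q).2 k) (F.algebraMap_mem a)⟩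
    | add y z _ _ hy hz =>
      obtain ⟨n₁, h₁⟩ := hy; obtain ⟨n₂, h₂⟩ := hz
      refine ⟨max n₁ n₂, fun q k hk => ?_⟩
      rw [mul_add]
      exact F.add_mem (h₁ q k (le_of_max_le_left hk)) (h₂ q k (le_of_max_le_right hk))
    | mul y z _ _ hy hz =>
      obtain ⟨n₁, h₁⟩ := hy; obtain ⟨n₂, h₂⟩ := hz
      refine ⟨n₁ + n₂, fun q k hk => ?_⟩
      obtain ⟨j, rfl⟩ := Nat.exists_eq_add_of_le hk
      rw [show r q ^ (n₁ + n₂ + j) * (y * z) = r q ^ n₁ * y * (r q ^ (n₂ + j) * z) by ring]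
      exact F.mul_mem (h₁ q n₁ le_rfl) (h₂ q (n₂ + j) (by omega))
  have hpow : ∀ {T : Type u} [CommRing T] (f : s → T) (N : Ideal T) (k : ℕ),
      Ideal.span (Set.range f) ⊔ N = ⊤ → Ideal.span (Set.range fun q => f q ^ k) ⊔ N = ⊤ := by
    intro T _ f N k hf
    rw [← Ideal.radical_eq_top, eq_top_iff, ← hf]
    exact sup_le (Ideal.span_le.2 (Set.range_subset_iff.2 fun q =>
      ⟨k, Ideal.mem_sup_left (Ideal.subset_span ⟨q, rfl⟩)⟩)) (le_sup_right.trans Ideal.le_radical)
  have hcov : Ideal.span (Set.range fun q : s => r q) ⊔ J = ⊤ := by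
    by_contra hne
    obtain ⟨M, hM, hle⟩ := Ideal.exists_le_maximal _ hne
    obtain ⟨q, hqs, hq⟩ := Set.mem_iUnion₂.1
      (hs (show (⟨M, hM.isPrime⟩ : PrimeSpectrum B) ∈ PrimeSpectrum.zeroLocus (J : Set B) from
        (PrimeSpectrum.mem_zeroLocus _ _).2 (SetLike.coe_subset_coe.2 ((le_sup_right (a := Ideal.span (Set.range fun q : s => r q))).trans hle))))
    exact hq (hle (Ideal.mem_sup_left (Ideal.subset_span ⟨⟨q, hqs⟩, rfl⟩)))
  -- the integral closure maps onto B/J
  have hsurj : ∀ x : B ⧸ J, ∃ y : F, ρ y = x := by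
    obtain ⟨G, hG⟩ := hbar.fg_top
    choose n hn using fun x : B ⧸ J => hmF (Function.surjInv Ideal.Quotient.mk_surjective x)
    let N := G.sup n
    have h1 : ∀ (q : s) (x : B ⧸ J), Ideal.Quotient.mk J (r q ^ N) * x ∈ ρ.range := by
      intro q x
      have hx : x ∈ Submodule.span A (G : Set (B ⧸ J)) := hG ▸ Submodule.mem_top
      induction hx using Submodule.span_induction with
      | mem y hy => exact ⟨⟨_, hn y q N (Finset.le_sup hy)⟩, by
          simp [ρ, Function.surjInv_eq (f := Ideal.Quotient.mk J)]⟩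
      | zero => rw [mul_zero]; exact zero_mem _
      | add y z _ _ hy hz => rw [mul_add]; exact add_mem hy hz
      | smul a y _ hy => rw [mul_smul_comm]; exact Subalgebra.smul_mem _ hy a
    intro x
    obtain ⟨u, hu, v, hv, huv⟩ := Submodule.mem_sup.1
      ((Ideal.eq_top_iff_one _).1 (hpow (fun q : s => r q) J N hcov))
    obtain ⟨c, hc⟩ := Ideal.mem_span_range_iff_exists_fun.1 hu
    have : x = ∑ q : s, Ideal.Quotient.mk J (r q ^ N) * (Ideal.Quotient.mk J (c q) * x) := by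
      have h2 := congrArg (Ideal.Quotient.mk J) huv
      rw [map_add, Ideal.Quotient.eq_zero_iff_mem.2 hv, add_zero, ← hc, map_sum, map_one] at h2
      conv_lhs => rw [← one_mul x, ← h2, Finset.sum_mul]
      exact Finset.sum_congr rfl fun q _ => by rw [map_mul]; ring
    rw [this]
    exact Subalgebra.sum_mem _ fun q _ => h1 q _
  -- the idempotent
  let IF : Ideal F := I.map (algebraMap A F)
  obtain ⟨c, hc⟩ : ∃ c : s → F, ρ (∑ q, c q * g q) = 1 := by
    obtain ⟨u, hu, v, hv, huv⟩ := Submodule.mem_sup.1 ((Ideal.eq_top_iff_one _).1 hcov)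
    obtain ⟨d, hd⟩ := Ideal.mem_span_range_iff_exists_fun.1 hu
    choose c hc using fun q => hsurj (Ideal.Quotient.mk J (d q))
    refine ⟨c, ?_⟩
    have h2 := congrArg (Ideal.Quotient.mk J) huv
    rw [map_add, Ideal.Quotient.eq_zero_iff_mem.2 hv, add_zero, ← hd, map_sum, map_one] at h2
    rw [map_sum, ← h2]
    exact Finset.sum_congr rfl fun q _ => by rw [map_mul, map_mul, hc]; rfl
  set ν : F := 1 - ∑ q, c q * g q with hν
  have hνJ : (ν : B) ∈ J := Ideal.Quotient.eq_zero_iff_mem.1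
    (show ρ ν = 0 by rw [hν, map_sub, hc, map_one, sub_self])
  have hkill : ∀ x ∈ J, ∃ n, ∀ q : s, ∀ k ≥ n, ∃ y ∈ IF, (y : B) = r q ^ k * x := by
    intro x hx
    induction hx using Submodule.span_induction with
    | mem y hy =>
      obtain ⟨a, ha, rfl⟩ := hy
      exact ⟨0, fun q k _ => ⟨g q ^ k * algebraMap A F a, IF.mul_mem_left _ (Ideal.mem_map_of_mem _ ha),
        by simp [g]⟩⟩
    | zero => exact ⟨0, fun q k _ => ⟨0, zero_mem _, by simp⟩⟩
    | add y z _ _ hy hz =>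
      obtain ⟨n₁, h₁⟩ := hy; obtain ⟨n₂, h₂⟩ := hz
      refine ⟨max n₁ n₂, fun q k hk => ?_⟩
      obtain ⟨a, ha, hay⟩ := h₁ q k (le_of_max_le_left hk)
      obtain ⟨b, hb, hbz⟩ := h₂ q k (le_of_max_le_right hk)
      exact ⟨a + b, add_mem ha hb, by simp [hay, hbz, mul_add]⟩
    | smul t y _ hy =>
      obtain ⟨n₁, h₁⟩ := hy; obtain ⟨n₂, h₂⟩ := hmF t
      refine ⟨n₁ + n₂, fun q k hk => ?_⟩
      obtain ⟨j, rfl⟩ := Nat.exists_eq_add_of_le hk
      obtain ⟨a, ha, hay⟩ := h₁ q n₁ le_rfl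
      refine ⟨⟨_, h₂ q (n₂ + j) (by omega)⟩ * a, IF.mul_mem_left _ ha, ?_⟩
      simp only [MulMemClass.coe_mul, hay, smul_eq_mul]
      ring
  obtain ⟨n₀, hn⟩ := hkill _ hνJ
  let n := n₀ + 1
  have hνn : ∀ q : s, g q ^ n * ν ∈ IF := fun q => by
    obtain ⟨y, hy, hyv⟩ := hn q n (Nat.le_succ n₀)
    rwa [show g q ^ n * ν = y from Subtype.ext (by simp [g, hyv])]
  obtain ⟨u, hu, v, hv, huv⟩ := Submodule.mem_sup.1 ((Ideal.eq_top_iff_one _).1
    (hpow g (Ideal.span {ν}) n ((Ideal.eq_top_iff_one _).2 (Submodule.mem_sup.2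
      ⟨∑ q, c q * g q, Ideal.sum_mem _ fun q _ => Ideal.mul_mem_left _ _ (Ideal.subset_span ⟨q, rfl⟩),
        ν, Ideal.mem_span_singleton_self ν, by rw [hν]; ring⟩))))
  obtain ⟨a, rfl⟩ := Ideal.mem_span_singleton'.1 hv
  have huν : u * ν ∈ IF := by
    obtain ⟨d, rfl⟩ := Ideal.mem_span_range_iff_exists_fun.1 hu
    rw [Finset.sum_mul]
    exact Ideal.sum_mem _ fun q _ => by rw [mul_assoc]; exact IF.mul_mem_left _ (hνn q)
  have hn0 : 0 < n := n₀.succ_pos
  have hug : u ∈ Ideal.span (Set.range g) := Ideal.span_le.2 (Set.range_subset_iff.2 fun q =>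
    SetLike.mem_coe.2 (Ideal.pow_mem_of_mem _ (Ideal.subset_span (Set.mem_range_self q)) n hn0)) hu
  -- an idempotent over an etale neighbourhood
  obtain ⟨A₁, _, _, hA₁, e₁, he₁, he₁u⟩ := Groth.HensPair.exists_isNbhd_idempotent (I := I) u (by
    rw [show u * u - u = -a * (u * ν) by linear_combination u * huv]
    exact IF.mul_mem_left _ huν)
  let F₁ := A₁ ⊗[A] F
  let Q : Ideal F₁ := Ideal.span (Set.range fun q => (1 : A₁) ⊗ₜ[A] g q) ⊔ Ideal.span {1 - e₁}
  have hQ : 1 - (e₁ - (1 : A₁) ⊗ₜ[A] u) ∈ Q := by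
    rw [show 1 - (e₁ - (1 : A₁) ⊗ₜ[A] u) = (1 : A₁) ⊗ₜ[A] u + (1 - e₁) by ring]
    refine Submodule.add_mem_sup ?_ (Ideal.mem_span_singleton_self _)
    have h1 := Ideal.mem_map_of_mem (Algebra.TensorProduct.includeRight (R := A) (A := A₁) (B := F)) hug
    rw [Ideal.map_span, ← Set.range_comp] at h1
    exact h1
  let I₁ := I.map (algebraMap A A₁)
  obtain ⟨s₁, hs₁, hs₁Q⟩ : ∃ s₁ : A₁, s₁ - 1 ∈ I₁ ∧ algebraMap A₁ F₁ s₁ ∈ Q := by
    refine Groth.HensPair.exists_sub_one_mem_algebraMap_mem (F := F₁) Q ?_ hQ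
    rw [Ideal.map_map, ← IsScalarTower.algebraMap_eq]
    exact he₁u
  let A₂ := Localization.Away s₁
  have hA₂ : Groth.HensPair.IsNbhd I A₂ := hA₁.trans (Groth.HensPair.isNbhd_away hs₁ _)
  have := hA₂.etale
  let B₂ := B ⊗[A] A₂
  let _ : Algebra A₂ B₂ := Algebra.TensorProduct.rightAlgebra
  let η : A₁ →ₐ[A] A₂ := IsScalarTower.toAlgHom A A₁ A₂
  let χ : F₁ →ₐ[A] B₂ := Algebra.TensorProduct.lift
    ((Algebra.TensorProduct.includeRight : A₂ →ₐ[A] B₂).comp η)
    ((Algebra.TensorProduct.includeLeft : B →ₐ[A] B₂).comp F.val) fun _ _ => Commute.all _ _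
  let e₂ : B₂ := χ e₁
  let C := Localization.Away e₂
  have hes : Function.Surjective (algebraMap B₂ C) := by
    have he₂ : e₂ * e₂ = e₂ := by rw [← map_mul, he₁.eq]
    intro y
    obtain ⟨x, k, hk⟩ : ∃ (x : B₂) (k : ℕ), y * algebraMap B₂ C (e₂ ^ k) = algebraMap B₂ C x := by
      obtain ⟨⟨x, ⟨_, k, rfl⟩⟩, hk⟩ := IsLocalization.surj (Submonoid.powers e₂) y
      exact ⟨x, k, hk⟩
    have h1 : algebraMap B₂ C e₂ = 1 := by
      have hu := IsLocalization.Away.algebraMap_isUnit (S := C) e₂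
      exact hu.mul_left_cancel (by rw [← map_mul, he₂, mul_one])
    exact ⟨x, by rw [← hk, map_pow, h1, one_pow, mul_one]⟩
  have he₂1 : algebraMap B₂ C e₂ = 1 :=
    (IsLocalization.Away.algebraMap_isUnit (S := C) e₂).mul_left_cancel (by
      rw [← map_mul, mul_one, ← map_mul, he₁.eq])
  let φ : B₂ →ₐ[A₂] C := IsScalarTower.toAlgHom A₂ B₂ C
  let φ₂ : A₂ ⊗[A] F →ₐ[A₂] C := φ.comp (Algebra.TensorProduct.lift (Algebra.ofId A₂ B₂)
    ((Algebra.TensorProduct.includeLeft : B →ₐ[A] B₂).comp F.val) fun _ _ => Commute.all _ _)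
  let φ₁ : F₁ →ₐ[A] C := (φ.restrictScalars A).comp χ
  have hχ : ∀ (x : A₁) (y : F), χ (x ⊗ₜ[A] y) = algebraMap A₂ B₂ (η x) * ((y : B) ⊗ₜ[A] (1 : A₂)) :=
    fun x y => Algebra.TensorProduct.lift_tmul _ _ _ x y
  have hχ1 : ∀ y : F, χ ((1 : A₁) ⊗ₜ[A] y) = (y : B) ⊗ₜ[A] (1 : A₂) := fun y => by
    rw [hχ, map_one η, map_one (algebraMap A₂ B₂), one_mul]
  have hφ₂ : ∀ (w : A₂) (y : F), φ₂ (w ⊗ₜ[A] y) = φ (algebraMap A₂ B₂ w * ((y : B) ⊗ₜ[A] (1 : A₂))) :=
    fun w y => congrArg φ (Algebra.TensorProduct.lift_tmul _ _ _ w y)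
  have hφ : ∀ z, φ₁ z ∈ φ₂.range := fun z => by
    induction z using TensorProduct.induction_on with
    | zero => rw [map_zero]; exact zero_mem _
    | add y z hy hz => rw [map_add]; exact add_mem hy hz
    | tmul x y => exact ⟨η x ⊗ₜ[A] y, (hφ₂ _ _).trans (congrArg φ (hχ x y)).symm⟩
  let gc : s → φ₂.range := fun q => ⟨φ₁ ((1 : A₁) ⊗ₜ[A] g q), hφ _⟩
  have hgc : ∀ q, (gc q : C) = φ (r q ⊗ₜ[A] (1 : A₂)) := fun q => congrArg φ (hχ1 (g q))
  have hgc1 : Ideal.span (Set.range gc) ⊔ ⊥ = ⊤ := by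
    rw [sup_bot_eq]
    obtain ⟨x, hx, y, hy, hxy⟩ := Submodule.mem_sup.1 hs₁Q
    let ψ : F₁ →+* φ₂.range := φ₁.toRingHom.codRestrict φ₂.range hφ
    have hψ : ψ (algebraMap A₁ F₁ s₁) = algebraMap A₂ φ₂.range (algebraMap A₁ A₂ s₁) := Subtype.ext (by
      show φ₁ (s₁ ⊗ₜ[A] 1) = algebraMap A₂ C (algebraMap A₁ A₂ s₁)
      show φ (χ (s₁ ⊗ₜ[A] (1 : F))) = _
      rw [hχ, Subalgebra.coe_one, ← Algebra.TensorProduct.one_def, mul_one]
      exact φ.commutes _)
    have hy0 : ψ y = 0 := by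
      obtain ⟨b, rfl⟩ := Ideal.mem_span_singleton'.1 hy
      refine Subtype.ext ?_
      show φ₁ (b * (1 - e₁)) = 0
      rw [map_mul, map_sub, map_one, show φ₁ e₁ = 1 from he₂1, sub_self, mul_zero]
    refine Ideal.eq_top_of_isUnit_mem _ (x := ψ x) ?_ ?_
    · have h1 := Ideal.mem_map_of_mem ψ hx
      rw [Ideal.map_span, ← Set.range_comp] at h1
      exact h1
    · rw [← add_zero (ψ x), ← hy0, ← map_add, hxy, hψ]
      exact (IsLocalization.Away.algebraMap_isUnit s₁).map _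
  have hsurjφ : Function.Surjective φ₂ := by
    intro y
    obtain ⟨z, rfl⟩ := hes y
    show φ z ∈ φ₂.range
    induction z using TensorProduct.induction_on with
    | zero => rw [map_zero]; exact zero_mem _
    | add y z hy hz => rw [map_add]; exact add_mem hy hz
    | tmul x w =>
      have hA : φ ((1 : B) ⊗ₜ[A] w) ∈ φ₂.range := by
        have : φ ((1 : B) ⊗ₜ[A] w) = algebraMap A₂ C w := φ.commutes w
        rw [this]
        exact φ₂.range.algebraMap_mem w
      obtain ⟨k, hk⟩ := hmF x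
      obtain ⟨c', hc', v', hv', hcv⟩ := Submodule.mem_sup.1 ((Ideal.eq_top_iff_one _).1 (hpow gc ⊥ k hgc1))
      rw [Submodule.mem_bot] at hv'
      subst hv'
      obtain ⟨d, rfl⟩ := Ideal.mem_span_range_iff_exists_fun.1 hc'
      rw [add_zero] at hcv
      have hB : φ (x ⊗ₜ[A] (1 : A₂)) ∈ φ₂.range := by
        have h2 : (∑ q : s, (d q : C) * (gc q : C) ^ k) = 1 := by
          simpa using congrArg (fun z : φ₂.range => (z : C)) hcv
        rw [← one_mul (φ (x ⊗ₜ[A] (1 : A₂))), ← h2, Finset.sum_mul]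
        refine sum_mem fun q _ => ?_
        rw [mul_assoc, hgc, ← map_pow, ← map_mul, Algebra.TensorProduct.tmul_pow,
          Algebra.TensorProduct.tmul_mul_tmul, one_pow, one_mul]
        refine mul_mem (d q).2 ?_
        exact ⟨(1 : A₂) ⊗ₜ[A] (⟨_, hk q k le_rfl⟩ : F), (hφ₂ _ _).trans (by rw [map_one (algebraMap A₂ B₂), one_mul])⟩
      rw [show x ⊗ₜ[A] w = (x ⊗ₜ[A] (1 : A₂)) * ((1 : B) ⊗ₜ[A] w) by simp, map_mul]
      exact mul_mem hB hA
  have hCfin : Module.Finite A₂ C := Module.Finite.of_surjective φ₂.toLinearMap hsurjφ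
  have hCet : Algebra.Etale B C := by
    have : Algebra.Etale B₂ C := Algebra.Etale.of_isLocalizationAway e₂
    exact Algebra.Etale.comp B B₂ C
  obtain ⟨σ⟩ := hA₂.exists_hom
  let τ : A₂ →ₐ[A] B ⧸ J := ((Ideal.quotientMapₐ J (Algebra.ofId A B) Ideal.le_comap_map)).comp σ
  let π : B₂ →ₐ[A] B ⧸ J := Algebra.TensorProduct.lift (Ideal.Quotient.mkₐ A J) τ fun _ _ => Commute.all _ _
  have hπJ : ∀ z ∈ I.map (algebraMap A B₂), π z = 0 := fun z hz => by
    have := Groth.HensPair.algHom_map_le π hz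
    rw [IsScalarTower.algebraMap_eq A B (B ⧸ J), ← Ideal.map_map,
      show algebraMap B (B ⧸ J) = Ideal.Quotient.mk J from rfl, ← hJ, Ideal.map_quotient_self] at this
    simpa using this
  have hπe : π e₂ = 1 := by
    have h1 := Groth.HensPair.algHom_map_le χ he₁u
    have h2 := hπJ _ h1
    rw [map_sub, map_sub, sub_eq_zero] at h2
    rw [h2]
    have h3 : π (χ ((1 : A₁) ⊗ₜ[A] u)) = Ideal.Quotient.mk J (u : B) := by
      rw [hχ1]
      exact (Algebra.TensorProduct.lift_tmul _ _ _ _ _).trans (by rw [map_one τ, mul_one]; rfl)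
    rw [h3, ← map_one (Ideal.Quotient.mk J), Ideal.Quotient.eq]
    have h4 : ((u : B) + a * ν) = 1 := by simpa using congrArg Subtype.val huv
    rw [show (u : B) - 1 = -((a : B) * ν) by linear_combination h4]
    exact neg_mem (J.mul_mem_left _ hνJ)
  have hπu : IsUnit (π.toRingHom e₂) := by
    show IsUnit (π e₂)
    rw [hπe]; exact isUnit_one
  let πC : C →+* B ⧸ J := IsLocalization.Away.lift e₂ hπu
  have hπC : ∀ b, πC (algebraMap B C b) = Ideal.Quotient.mk J b := fun b => by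
    rw [IsScalarTower.algebraMap_apply B B₂ C]
    show IsLocalization.Away.lift e₂ hπu (algebraMap B₂ C (algebraMap B B₂ b)) = _
    rw [IsLocalization.Away.lift_eq]
    show π (b ⊗ₜ[A] 1) = _
    exact (Algebra.TensorProduct.lift_tmul _ _ _ _ _).trans (by rw [map_one τ, mul_one]; rfl)
  have hIC : ∀ z ∈ I.map (algebraMap A C), πC z = 0 := fun z hz => by
    have h1 := Ideal.mem_map_of_mem πC hz
    rw [Ideal.map_map, show πC.comp (algebraMap A C) = (Ideal.Quotient.mk J).comp (algebraMap A B) from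
      RingHom.ext fun x => by
        simp only [RingHom.comp_apply]
        rw [IsScalarTower.algebraMap_apply A B C, hπC], ← Ideal.map_map, ← hJ, Ideal.map_quotient_self] at h1
    simpa using h1
  have hbij := hA₂.bijective
  refine ⟨A₂, inferInstance, inferInstance, hA₂.etale, C, inferInstance, inferInstance, inferInstance,
    inferInstance, inferInstance, inferInstance, fun y => ?_, ?_, hCet, hCfin, fun y => ?_, ?_⟩
  · obtain ⟨z, rfl⟩ := hbij.2 y
    obtain ⟨z, rfl⟩ := Ideal.Quotient.mk_surjective z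
    exact ⟨z, by rw [Ideal.quotientMap_mk]; rfl⟩
  · refine le_antisymm (fun x hx => Ideal.Quotient.eq_zero_iff_mem.1 (hbij.1 ?_)) fun x hx => ?_
    · rw [Ideal.quotientMap_mk, map_zero]; exact hx
    · exact Ideal.Quotient.eq_zero_iff_mem.2 (Ideal.mem_map_of_mem _ hx)
  · obtain ⟨z, rfl⟩ := Ideal.Quotient.mk_surjective y
    obtain ⟨z, rfl⟩ := hes z
    induction z using TensorProduct.induction_on with
    | zero => exact ⟨0, by simp⟩
    | add y z hy hz =>
      obtain ⟨b₁, h₁⟩ := hy; obtain ⟨b₂, h₂⟩ := hz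
      exact ⟨b₁ + b₂, by rw [map_add, h₁, h₂, map_add, map_add]⟩
    | tmul x w =>
      obtain ⟨a', ha'⟩ := hA₂.surj w
      refine ⟨x * algebraMap A B a', ?_⟩
      rw [RingHom.comp_apply, Ideal.Quotient.eq, IsScalarTower.algebraMap_apply B B₂ C, ← map_sub]
      have h1 := Groth.HensPair.algHom_map_le (Algebra.TensorProduct.includeRight : A₂ →ₐ[A] B₂) ha'
      rw [map_sub, AlgHom.commutes] at h1
      have h2 := Ideal.mem_map_of_mem (algebraMap B₂ C) (Ideal.mul_mem_left _ (-(x ⊗ₜ[A] (1 : A₂) : B₂)) h1)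
      rw [Ideal.map_map, ← IsScalarTower.algebraMap_eq] at h2
      convert h2 using 2
      rw [map_mul, ← IsScalarTower.algebraMap_apply A B B₂]
      show (x ⊗ₜ[A] (1 : A₂) : B₂) * algebraMap A B₂ a' - x ⊗ₜ[A] w = _
      rw [show (x ⊗ₜ[A] w : B₂) = (x ⊗ₜ[A] (1 : A₂)) * ((1 : B) ⊗ₜ[A] w) by
        rw [Algebra.TensorProduct.tmul_mul_tmul, mul_one, one_mul]]
      show _ = -(x ⊗ₜ[A] (1 : A₂)) * ((1 : B) ⊗ₜ[A] w - algebraMap A B₂ a')
      ring
  · refine le_antisymm (fun x hx => Ideal.Quotient.eq_zero_iff_mem.1 ?_) fun x hx => ?_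
    · rw [← hπC]
      exact hIC _ (Ideal.Quotient.eq_zero_iff_mem.1 hx)
    · refine Ideal.Quotient.eq_zero_iff_mem.2 ?_
      have := Ideal.mem_map_of_mem (algebraMap B C) hx
      rwa [hJ, Ideal.map_map, ← IsScalarTower.algebraMap_eq] at this

end Groth.Agent.S17976
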