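import Groth.Statements.S17983
import Groth.Agent.Misc13.WeilNum

set_option autoImplicit false
universe u
open WeilNum

namespace Groth.Agent.S17983

/-- Let p be a prime number, e ≥ 1 and q = p^e. Let π be an element of a field of characteristic zero
which is integral over ℤ, with minimal polynomial P over ℤ, and assume that every complex root of P
has absolute value √q and that no complex root of P is real (π is a nonreal Weil q-number). Then the
degree of P is even, say 2d, and writing a_j for the coefficient of x^j in P one has a_{d−r} = q^r ·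
a_{d+r} for every 0 ≤ r ≤ d. -/
theorem result (p e : ℕ) [Fact p.Prime] (he : 0 < e)
    (K : Type u) [Field K] [CharZero K] (π : K) (hπ : IsIntegral ℤ π)
    (hweil : ∀ z ∈ (minpoly ℤ π).aroots ℂ, ‖z‖ = Real.sqrt ((p : ℝ) ^ e))
    (hnr : ∀ z ∈ (minpoly ℤ π).aroots ℂ, z.im ≠ 0) :
    Even (minpoly ℤ π).natDegree ∧
      ∀ r ≤ (minpoly ℤ π).natDegree / 2,
        (minpoly ℤ π).coeff ((minpoly ℤ π).natDegree / 2 - r) =
          (p : ℤ) ^ (e * r) * (minpoly ℤ π).coeff ((minpoly ℤ π).natDegree / 2 + r) := by
  have h := Groth.Misc13.WeilNum.funeq (P := minpoly ℤ π) (minpoly.monic hπ)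
    (q := p ^ e) (pow_pos (Fact.out : p.Prime).pos e)
    (fun z hz => by
      rw [Groth.Misc13.WeilNum.mul_conj_eq_of_norm (pow_nonneg (Nat.cast_nonneg _) _) (hweil z hz)]
      push_cast; rfl) hnr
  refine ⟨h.1, fun r hr => ?_⟩
  rw [h.2 r hr, pow_mul]
  push_cast
  ring

end Groth.Agent.S17983
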