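import Groth.Statements.S17984
import Groth.Agent.Misc13.WeilFamily

set_option autoImplicit false
universe u
open MvPolynomial
open WeilNum

namespace Groth.Agent.S17984

/-- Let p be a prime, e ≥ 1 and q = p^e. Let (π_i) be a finite family of pairwise nonconjugate Weil
q-numbers: π_i is an element of a field K_i of characteristic zero, integral over ℤ with minimal
polynomial P_i, every complex root of P_i has absolute value √q, and P_i ≠ P_j for i ≠ j. Suppose
the total degree Σ_i deg P_i is even, equal to 2D (equivalently, the family contains either none or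
both of the rational Weil q-numbers ±q^{1/2}). Put P_w = ∏_i P_i and let h ∈ ℤ[F, V] (F = X_0, V =
X_1) be any polynomial with F^D · h ≡ P_w(F) modulo FV − q; such an h exists, is unique modulo FV −
q, and the product of the symmetric polynomials h_{π_i} is one. Then the kernel of the ring map ℤ[F,
V] → ∏_i K_i, F ↦ (π_i), V ↦ (q/π_i), whose image is the minimal central order R_w, is the ideal
generated by FV − q and h, and (FV − q, h) is a regular sequence in ℤ[F, V]: R_w is the complete
intersection ℤ[F, V]/(FV − q, h). -/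
theorem result (p e : ℕ) [Fact p.Prime] (he : 0 < e)
    (ι : Type) [Fintype ι] (K : ι → Type u) [∀ i, Field (K i)] [∀ i, CharZero (K i)] (π : ∀ i, K i)
    (hint : ∀ i, IsIntegral ℤ (π i))
    (hweil : ∀ i, ∀ z ∈ (minpoly ℤ (π i)).aroots ℂ, ‖z‖ = Real.sqrt ((p : ℝ) ^ e))
    (hinj : ∀ i j, minpoly ℤ (π i) = minpoly ℤ (π j) → i = j)
    (D : ℕ) (hD : ∑ i, (minpoly ℤ (π i)).natDegree = 2 * D)
    (h : MvPolynomial (Fin 2) ℤ)
    (hh : X 0 ^ D * h - Polynomial.aeval (X 0 : MvPolynomial (Fin 2) ℤ) (∏ i, minpoly ℤ (π i)) ∈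
      Ideal.span ({X 0 * X 1 - C ((p : ℤ) ^ e)} : Set (MvPolynomial (Fin 2) ℤ))) :
    RingHom.ker (MvPolynomial.aeval ![fun i => π i, fun i => ((p : K i) ^ e) / π i] :
        MvPolynomial (Fin 2) ℤ →ₐ[ℤ] ((i : ι) → K i)) =
        Ideal.span {X 0 * X 1 - C ((p : ℤ) ^ e), h} ∧
      RingTheory.Sequence.IsWeaklyRegular (MvPolynomial (Fin 2) ℤ) [X 0 * X 1 - C ((p : ℤ) ^ e), h] := by
  classical
  have hq : ((p : ℤ) ^ e) ≠ 0 := pow_ne_zero _ (Nat.cast_ne_zero.2 (Fact.out : p.Prime).ne_zero)
  have hm := Groth.Misc13.WeilFamily.monic hint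
  have hdeg := Groth.Misc13.WeilFamily.natDegree_eq hint hD
  obtain ⟨ε, hε, hfe⟩ := Groth.Misc13.WeilFamily.funeq hm hdeg (pow_pos (Fact.out : p.Prime).pos e)
    (Groth.Misc13.WeilFamily.habs hint hweil)
  push_cast at hfe
  exact ⟨Groth.Misc13.WeilOrder.ker_ev hm hdeg hq hε hfe hh (Groth.Misc13.WeilFamily.hxy hint hweil)
    (Groth.Misc13.WeilFamily.hx hint hweil) (Groth.Misc13.WeilFamily.hker hint hinj),
    Groth.Misc13.WeilOrder.weaklyRegular hm hdeg hq hfe hh⟩

end Groth.Agent.S17984
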