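import Groth.Statements.S17987
import Groth.Agent.Misc13.WeilNum

set_option autoImplicit false
universe u
open scoped Classical
open WeilNum

namespace Groth.Agent.S17987

/-- Let p be a prime, e ≥ 1 and q = p^e, and let (π_i) be a finite family of nonreal Weil q-numbers: π_i
lies in a field K_i of characteristic zero, is integral over ℤ with minimal polynomial P_i, every
complex root of P_i has absolute value √q, and no complex root of P_i is real; in particular deg P_i
= 2d_i is even. Call π_i ordinary when exactly half of the roots of P_i in an algebraic closure of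
ℚ_p, counted with multiplicity, are p-adic units (have absolute value 1). Then all π_i are ordinary
if and only if p does not divide ∏_i a_{d_i}, the product of the middle coefficients of the P_i
(this product is the value at F = V = 0 of the symmetric polynomial h_w of the family). -/
theorem result (p e : ℕ) [Fact p.Prime] (he : 0 < e)
    (ι : Type) [Fintype ι] (K : ι → Type u) [∀ i, Field (K i)] [∀ i, CharZero (K i)] (π : ∀ i, K i)
    (hint : ∀ i, IsIntegral ℤ (π i))
    (hweil : ∀ i, ∀ z ∈ (minpoly ℤ (π i)).aroots ℂ, ‖z‖ = Real.sqrt ((p : ℝ) ^ e))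
    (hnr : ∀ i, ∀ z ∈ (minpoly ℤ (π i)).aroots ℂ, z.im ≠ 0) :
    (∀ i, 2 * Multiset.card (((minpoly ℤ (π i)).aroots (PadicAlgCl p)).filter (fun z => ‖z‖ = 1)) = (minpoly ℤ (π i)).natDegree) ↔
      ¬ ((p : ℤ) ∣ ∏ i, (minpoly ℤ (π i)).coeff ((minpoly ℤ (π i)).natDegree / 2)) := by
  have hfe := fun i => Groth.Misc13.WeilNum.funeq (P := minpoly ℤ (π i)) (minpoly.monic (hint i))
    (q := p ^ e) (pow_pos (Fact.out : p.Prime).pos e)
    (fun z hz => by
      rw [Groth.Misc13.WeilNum.mul_conj_eq_of_norm (pow_nonneg (Nat.cast_nonneg _) _) (hweil i z hz)]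
      push_cast; rfl) (hnr i)
  have hiff : ∀ i, (2 * Multiset.card (((minpoly ℤ (π i)).aroots (PadicAlgCl p)).filter (fun z => ‖z‖ = 1)) =
      (minpoly ℤ (π i)).natDegree) ↔
      ¬ (p : ℤ) ∣ (minpoly ℤ (π i)).coeff ((minpoly ℤ (π i)).natDegree / 2) := fun i => by
    obtain ⟨⟨c, hc⟩, hrel⟩ := hfe i
    refine Groth.Misc13.WeilNum.ordinary_iff (minpoly.monic (hint i)) (by omega) (fun k hk => ?_)
    have hk' := hrel ((minpoly ℤ (π i)).natDegree / 2 - k) (Nat.sub_le _ _)
    rw [show (minpoly ℤ (π i)).natDegree / 2 - ((minpoly ℤ (π i)).natDegree / 2 - k) = k by omega] at hk'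
    rw [hk']
    refine Dvd.dvd.mul_right ?_ _
    refine (dvd_pow_self _ he.ne').trans ?_
    push_cast
    exact dvd_pow_self _ (by omega)
  simp only [hiff, (Nat.prime_iff_prime_int.1 (Fact.out : p.Prime)).dvd_finset_prod_iff,
    Finset.mem_univ, true_and, not_exists]

end Groth.Agent.S17987
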