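import Groth.Statements.S17989
import Groth.Agent.Gorenstein.Regular

set_option autoImplicit false
universe u
open CategoryTheory
open CAlg

namespace Groth.Agent.S17989

/-- Let S be a Gorenstein ring (a Noetherian ring all of whose localizations at prime ideals have finite
injective dimension as modules over themselves) of Krull dimension 1, and let M be a finitely
generated reflexive S-module (the canonical map M → M** is bijective). Then Ext¹_S(M, S) = 0. -/
theorem result (S : Type u) [CommRing S]
    [LocCoh.IsGorensteinRing S] (hdim : ringKrullDim S = 1)
    (M : Type u) [AddCommGroup M] [Module S M] [Module.Finite S M] [Module.IsReflexive S M] :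
    Subsingleton (Abelian.Ext (ModuleCat.of S M) (ModuleCat.of S S) 1) := by
  have h2 : GrothGoren.InjLT S S 2 := GrothGoren.exists_injLT_of_isGorensteinRing (D := 1) (by rw [hdim]; rfl)
  obtain ⟨n, g, hg⟩ := Module.Finite.exists_fin' S (Module.Dual S M)
  have hinj : Function.Injective (g.dualMap ∘ₗ Module.Dual.eval S M) :=
    (LinearMap.dualMap_injective_of_surjective hg).comp (Module.bijective_dual_eval S M).injective
  exact GrothGoren.extZ_contra_left (LinearMap.exact_map_mkQ_range (g.dualMap ∘ₗ Module.Dual.eval S M))
    hinj (Submodule.mkQ_surjective _) GrothGoren.extZ_of_projective (h2.extZ _ le_rfl)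

end Groth.Agent.S17989
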