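import Groth.Statements.S17999
import Groth.Agent.Misc13.WeilPic

set_option autoImplicit false
universe u
open MvPolynomial
open WeilNum

namespace Groth.Agent.S17999

/-- The case of finite sets of Weil numbers; let p be a prime, e ≥ 1 and q = p^e; let (π_j)_{j ∈ J} be a
finite family of pairwise nonconjugate Weil q-numbers (π_j in a field K_j of characteristic zero,
integral over ℤ with minimal polynomial P_j, all complex roots of P_j of absolute value √q, P_i ≠
P_j for i ≠ j), and let e : J' → J be an injective map selecting a subfamily. Let I_w, resp. I_v, be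
the kernel of ℤ[F, V] → ∏_{j ∈ J} K_j, resp. → ∏_{j' ∈ J'} K_{e(j')}, sending F ↦ (π_j) and V ↦
(q/π_j); then I_w ⊆ I_v and ℤ[F,V]/I_w → ℤ[F,V]/I_v is the natural surjection R_w → R_v of minimal
central orders. Then the induced homomorphism of Picard groups Pic(R_w) → Pic(R_v) is surjective.
The published statement concerns the Picard groups of the pro-rings attached to arbitrary subsets V
⊆ W of Weil q-number classes; only the case of finite sets is stated here. -/
theorem result (p e : ℕ) [Fact p.Prime] (he : 0 < e)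
    (J J' : Type) [Fintype J] [Fintype J'] (emb : J' → J) (hemb : Function.Injective emb)
    (K : J → Type u) [∀ j, Field (K j)] [∀ j, CharZero (K j)] (ϖ : ∀ j, K j)
    (hint : ∀ j, IsIntegral ℤ (ϖ j))
    (hweil : ∀ j, ∀ z ∈ (minpoly ℤ (ϖ j)).aroots ℂ, ‖z‖ = Real.sqrt ((p : ℝ) ^ e))
    (hinj : ∀ i j, minpoly ℤ (ϖ i) = minpoly ℤ (ϖ j) → i = j)
    (hle : RingHom.ker (MvPolynomial.aeval ![fun j => ϖ j, fun j => ((p : K j) ^ e) / ϖ j] :
          MvPolynomial (Fin 2) ℤ →ₐ[ℤ] ((j : J) → K j)) ≤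
        RingHom.ker (MvPolynomial.aeval ![fun j' => ϖ (emb j'), fun j' => ((p : K (emb j')) ^ e) / ϖ (emb j')] :
          MvPolynomial (Fin 2) ℤ →ₐ[ℤ] ((j' : J') → K (emb j')))) :
    Function.Surjective (CommRing.Pic.mapRingHom (Ideal.Quotient.factor hle)) := by
  classical
  haveI : Nonempty (MvPolynomial (Fin 2) ℤ) := ⟨0⟩
  set φw := (MvPolynomial.aeval ![fun j => ϖ j, fun j => ((p : K j) ^ e) / ϖ j] :
          MvPolynomial (Fin 2) ℤ →ₐ[ℤ] ((j : J) → K j)) with hw
  set φv := (MvPolynomial.aeval ![fun j' => ϖ (emb j'), fun j' => ((p : K (emb j')) ^ e) / ϖ (emb j')] :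
          MvPolynomial (Fin 2) ℤ →ₐ[ℤ] ((j' : J') → K (emb j'))) with hv
  let A := MvPolynomial (Fin 2) ℤ ⧸ RingHom.ker φw
  let B := MvPolynomial (Fin 2) ℤ ⧸ RingHom.ker φv
  letI : Algebra A B := (Ideal.Quotient.factor hle).toAlgebra
  haveI : IsReduced B := isReduced_of_injective (RingHom.kerLift φv.toRingHom) (RingHom.kerLift_injective _)
  haveI hfinr : Module.Finite ℤ φv.range :=
    Groth.Misc13.WeilFamily.finite_range_family (π := fun j' => ϖ (emb j')) (p := p) (e := e)
      (fun j' => hint _) (fun j' => hweil _)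
  haveI : Module.Finite ℤ B := Module.Finite.of_injective
    (Ideal.Quotient.liftₐ (RingHom.ker φv) φv.rangeRestrict (fun f hf => Subtype.ext ((RingHom.mem_ker).1 hf))).toLinearMap
    ((injective_iff_map_eq_zero (Ideal.Quotient.liftₐ (RingHom.ker φv) φv.rangeRestrict
      (fun f hf => Subtype.ext ((RingHom.mem_ker).1 hf)))).2 fun z hz => by
        obtain ⟨f, rfl⟩ := Ideal.Quotient.mk_surjective z
        exact Ideal.Quotient.eq_zero_iff_mem.2 ((RingHom.mem_ker).2 (congrArg Subtype.val hz)))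
  set Q : Polynomial ℤ := ∏ j ∈ Finset.univ.filter (fun j => j ∉ Set.range emb), minpoly ℤ (ϖ j) with hQ
  set P : Polynomial ℤ := ∏ j', minpoly ℤ (ϖ (emb j')) with hP
  have hcop : IsCoprime (P.map (algebraMap ℤ ℚ)) (Q.map (algebraMap ℤ ℚ)) := by
    rw [hP, hQ, Polynomial.map_prod, Polynomial.map_prod]
    refine IsCoprime.prod_left fun a _ => IsCoprime.prod_right fun b hb => ?_
    have hirr : ∀ j, Irreducible ((minpoly ℤ (ϖ j)).map (algebraMap ℤ ℚ)) := fun j => by
      rw [← minpoly.isIntegrallyClosed_eq_field_fractions' ℚ (hint j)]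
      exact minpoly.irreducible (hint j).tower_top
    refine (hirr _).coprime_iff_not_dvd.2 fun hd => (Finset.mem_filter.1 hb).2 ?_
    refine ⟨a, hinj _ _ ?_⟩
    apply Polynomial.map_injective (algebraMap ℤ ℚ) (algebraMap ℤ ℚ).injective_int
    exact Polynomial.eq_of_monic_of_associated ((minpoly.monic (hint _)).map _) ((minpoly.monic (hint _)).map _)
      ((hirr _).associated_of_dvd (hirr _) hd)
  obtain ⟨a, b, n, hn, hab⟩ := Groth.Misc13.WeilFamily.exists_comb_eq_intCast hcop
  let e0 : MvPolynomial (Fin 2) ℤ := Polynomial.aeval (MvPolynomial.X 0) Q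
  have hPv : Polynomial.aeval (MvPolynomial.X 0) P ∈ RingHom.ker φv := by
    rw [RingHom.mem_ker]
    funext j'
    refine ((congrFun (Groth.Misc13.WeilOrder.ev_aeval (x := Groth.Misc13.WeilFamily.x (fun j' => ϖ (emb j')))
      (y := Groth.Misc13.WeilFamily.y p e (fun j' => ϖ (emb j'))) P) j').trans
      (Groth.Misc13.WeilFamily.aeval_pi_apply _ P j')).trans ?_
    rw [hP, map_prod, Pi.zero_apply]
    exact Finset.prod_eq_zero (Finset.mem_univ j') (minpoly.aeval ℤ _)
  haveI : Finite (B ⧸ Ideal.span {algebraMap A B (Ideal.Quotient.mk _ e0)}) := by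
    set N : Ideal B := Ideal.span {algebraMap A B (Ideal.Quotient.mk _ e0)}
    haveI : Module.Finite ℤ (B ⧸ N) := Module.Finite.quotient ℤ N
    have h0 : (n : B ⧸ N) = 0 := by
      rw [show (n : B ⧸ N) = Ideal.Quotient.mk N (Ideal.Quotient.mk (RingHom.ker φv)
          (Polynomial.aeval (MvPolynomial.X 0) (Polynomial.C n))) by simp, ← hab, map_add, map_add, map_mul, map_mul,
        Ideal.Quotient.eq_zero_iff_mem.2 hPv, mul_zero, zero_add, Ideal.Quotient.eq_zero_iff_mem]
      rw [map_mul, map_mul]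
      refine N.mul_mem_left _ ?_
      exact Ideal.subset_span (Set.mem_singleton_iff.2 rfl)
    refine Module.finite_of_fg_torsion _ fun z => ⟨⟨n, mem_nonZeroDivisors_of_ne_zero hn⟩, ?_⟩
    show n • z = 0
    exact (zsmul_eq_mul z n).trans (mul_eq_zero_of_left h0 z)
  refine Groth.Misc13.PicSurj.mapAlgebra_surjective (A := A) (B := B) (Ideal.Quotient.factor_surjective hle)
    (Ideal.Quotient.mk _ e0) fun i hi => ?_
  obtain ⟨g, rfl⟩ := Ideal.Quotient.mk_surjective i
  have hg : g ∈ RingHom.ker φv := by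
    rw [RingHom.mem_ker, RingHom.algebraMap_toAlgebra, Ideal.Quotient.factor_mk] at hi
    exact Ideal.Quotient.eq_zero_iff_mem.1 hi
  rw [← map_mul, Ideal.Quotient.eq_zero_iff_mem, RingHom.mem_ker]
  funext j
  rw [map_mul, Pi.mul_apply, Pi.zero_apply]
  by_cases hj : j ∈ Set.range emb
  · obtain ⟨j', rfl⟩ := hj
    refine mul_eq_zero_of_right _ ?_
    exact ((Groth.Misc13.WeilFamily.ev_apply_family (π := ϖ) (p := p) (e := e) g (emb j')).trans
      (Groth.Misc13.WeilFamily.ev_apply_family (π := fun j' => ϖ (emb j')) (p := p) (e := e) g j').symm).trans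
      (congrFun ((RingHom.mem_ker).1 hg) j')
  · refine mul_eq_zero_of_left ?_ _
    refine ((congrFun (Groth.Misc13.WeilOrder.ev_aeval (x := Groth.Misc13.WeilFamily.x ϖ)
      (y := Groth.Misc13.WeilFamily.y p e ϖ) Q) j).trans
      (Groth.Misc13.WeilFamily.aeval_pi_apply _ Q j)).trans ?_
    rw [hQ, map_prod]
    exact Finset.prod_eq_zero (Finset.mem_filter.2 ⟨Finset.mem_univ j, hj⟩) (minpoly.aeval ℤ _)

end Groth.Agent.S17999
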