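import Groth.Statements.S1801
import Groth.Agent.DualCore.RelDualizing

set_option autoImplicit false
universe u
open CategoryTheory
open scoped TensorProduct
attribute [local instance] HasDerivedCategory.standard
open Dual2

namespace Groth.Agent.S1801

/-- Flat case (part (2) with (1)(a)–(c) and (2)(b)). Let R → A be a ring map between Noetherian rings
which is flat and of finite type, where φ^!(K) is formed from a presentation ψ : R[x_1, …, x_n] → A
as RHom_P(A, K ⊗^L_R P)[n], assuming the derived base change to P exists and taking for RHom_P(A, −)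
a right adjoint of restriction of scalars along ψ; put ω = φ^!(R). Then: (a) ω has finitely many
nonzero cohomology modules, all finite over A; (b) after restriction of scalars to R, ω is
isomorphic to a bounded complex of flat R-modules (finite tor dimension over R); (c) a ↦ a·id is a
bijection A → End(ω) and ω has no self-maps of nonzero degree; (d) for every ring map R → k to a
field, assuming the derived base change D(A) → D(k ⊗_R A) exists, the base change of ω is a
dualizing complex for k ⊗_R A. -/
theorem result (R A : Type u) [CommRing R] [CommRing A] [IsNoetherianRing R] [IsNoetherianRing A] [Algebra R A] [Module.Flat R A] (n : ℕ) (ψ : MvPolynomial (Fin n) R →ₐ[R] A) (hψ : Function.Surjective ψ) [DRing.HasLBaseChange (algebraMap R (MvPolynomial (Fin n) R))] (Rψ : Dual.D (MvPolynomial (Fin n) R) ⥤ Dual.D A) (adj : DRing.restrictD ψ.toRingHom ⊣ Rψ) : (∃ a b : ℤ, ∀ i : ℤ, (i < a ∨ b < i) → Subsingleton (Dual.HD A (Dual2.shriekVia n Rψ (Dual.inD R R)) i)) ∧ (∀ i : ℤ, Module.Finite A (Dual.HD A (Dual2.shriekVia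 n Rψ (Dual.inD R R)) i)) ∧ DRing.HasFiniteTorDimCx R ((DRing.restrictD (algebraMap R A)).obj (Dual2.shriekVia n Rψ (Dual.inD R R))) ∧ (Function.Bijective (fun a : A => a • CategoryTheory.CategoryStruct.id (Dual2.shriekVia n Rψ (Dual.inD R R))) ∧ ∀ i : ℤ, i ≠ 0 → Subsingleton (Dual2.shriekVia n Rψ (Dual.inD R R) ⟶ (Dual2.shriekVia n Rψ (Dual.inD R R))⟦i⟧)) ∧ ∀ (k : Type u) [Field k] [Algebra R k] [DRing.HasLBaseChange (Algebra.TensorProduct.includeRight : A →ₐ[R] k ⊗[R] A).toRingHom], Dual.IsDualizing (k ⊗[R] A) ((DRing.LBaseChange (Algebra.TensorProduct.includeRight : A →ₐ[R] k ⊗[R] A).toRingHom).obj (Dual2.shriekVia n Rψ (Dual.inD R R))) := by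
  have hp := Groth.DualCore.isRelPerfect_shriek_self ψ hψ Rψ adj
  obtain ⟨hlo, hfin⟩ := Groth.Agent.S1783.result R A n ψ hψ Rψ adj (Dual.inD R R) 0
    (fun i hi => Groth.DualCore.subsingleton_HD_inD (A := R) R i (ne_of_lt hi))
  obtain ⟨a, ha⟩ := hlo
  obtain ⟨E, b, hb, -, ⟨e⟩⟩ := hp.1
  refine ⟨⟨a, b, fun i hi => ?_⟩, hfin (Groth.DualCore.finite_HD_inD (A := R) R), hp.2,
    Groth.DualCore.bijective_smul_id_shriek_self ψ hψ Rψ adj,
    fun k _ _ _ => Groth.DualCore.isDualizing_baseChange_field ψ hψ Rψ adj k⟩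
  rcases hi with hi | hi
  · exact ha i hi
  · exact DAlg.subsingleton_HD_of_iso e (hb i hi)

end Groth.Agent.S1801
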