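import Groth.Statements.S18011
import Groth.Agent.Misc13.LiftSqStab

set_option autoImplicit false
universe u
open ThetaS

namespace Groth.Agent.S18011

open CategoryTheory AlgebraicGeometry in
/-- Θ-reductive morphisms are stable under base change. Here this is stated for functors over (Sch/S)
between arbitrary categories over (Sch/S), with the base change of f : X → Y along y : Y' → Y taken
to be the first projection of the 2-fibre product Y' ×_Y X (objects: an object of Y', an object of X
and an isomorphism of their images in Y over an identity). Θ-reductive means: every 2-commutative
square against the open immersion of the punctured stack Θ_R minus its closed point into Θ_R =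
[A¹_R/G_m] (for every discrete valuation ring R with a uniformizer and every Spec R → S) has a
dotted arrow unique up to a unique morphism of dotted arrows. (The published statement is for
morphisms of locally Noetherian algebraic stacks; here the categories over (Sch/S) are arbitrary.) -/
theorem result {S : Scheme.{u}} {𝒳 𝒴 𝒴' : AlgSt.Cat S} (f : 𝒳 ⥤ᵇ 𝒴) (y : 𝒴' ⥤ᵇ 𝒴)
    (hf : ThetaS.IsThetaReductive Scheme.fppfPrecoverage f) :
    ThetaS.IsThetaReductive Scheme.fppfPrecoverage (FibCat.fpFst y f) := by
  intro R _ _ _ ϖ hϖ h; exact Groth.Misc13.LiftStab.baseChange y (hf R ϖ hϖ h)

end Groth.Agent.S18011
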