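import Groth.Statements.S18015
import Mathlib

set_option autoImplicit false
universe u
open CategoryTheory
open Coh

namespace Groth.Agent.S18015

/-- Let A be a Noetherian commutative ring and F an additive functor from A-modules to A-modules which
is half-exact, i.e. for every short exact sequence 0 → M' → M → M'' → 0 the sequence F(M') → F(M) →
F(M'') is exact at F(M). Then F(M) is a finitely generated A-module for every finitely generated
A-module M if and only if F(A/p) is a finitely generated A-module for every prime ideal p of A. (The
published statement takes F from quasi-coherent sheaves on Spec A to abelian groups, with A acting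
on each F(M) through F; this row allows any additive functor between A-module categories, A-linear
or not, and the same argument applies, since it uses only that each map F(f) is A-linear.) -/
theorem result {A : Type u} [CommRing A] [IsNoetherianRing A]
    (F : ModuleCat.{u} A ⥤ ModuleCat.{u} A) [F.Additive]
    (hF : ∀ S : ShortComplex (ModuleCat.{u} A), S.ShortExact → (S.map F).Exact) :
    (∀ M : ModuleCat.{u} A, Module.Finite A M → Module.Finite A (F.obj M)) ↔
      ∀ p : PrimeSpectrum A, Module.Finite A (F.obj (ModuleCat.of A (A ⧸ p.asIdeal))) := by
  refine ⟨fun h p => h _ (inferInstanceAs (Module.Finite A (A ⧸ p.asIdeal))), fun h M hM => ?_⟩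
  have hiso : ∀ {X Y : ModuleCat.{u} A}, (X ≅ Y) → Module.Finite A (F.obj X) → Module.Finite A (F.obj Y) :=
    fun e _ => Module.Finite.equiv (F.mapIso e).toLinearEquiv
  suffices key : ∀ (N : Type u) [AddCommGroup N] [Module A N] [Module.Finite A N],
      Module.Finite A (F.obj (ModuleCat.of A N)) from key M
  intro N _ _ _
  induction ‹Module.Finite A N› using IsNoetherianRing.induction_on_isQuotientEquivQuotientPrime A with
  | subsingleton N =>
    have h0 : Limits.IsZero (ModuleCat.of A N) := ModuleCat.isZero_of_subsingleton _
    have := ModuleCat.subsingleton_of_isZero (F.map_isZero h0)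
    infer_instance
  | quotient N p e => exact hiso (X := ModuleCat.of A (A ⧸ p.asIdeal)) e.symm.toModuleIso (h p)
  | exact N₁ N₂ N₃ f g hf hg hfg h₁ h₃ =>
    let S : ShortComplex (ModuleCat.{u} A) :=
      ShortComplex.mk (ModuleCat.ofHom f) (ModuleCat.ofHom g) (by ext x; exact hfg.apply_apply_eq_zero x)
    have hS : S.ShortExact :=
      { exact := (ShortComplex.moduleCat_exact_iff S).2 fun x hx => (hfg x).1 hx
        mono_f := (ModuleCat.mono_iff_injective _).2 hf
        epi_g := (ModuleCat.epi_iff_surjective _).2 hg }
    have he := (ShortComplex.moduleCat_exact_iff_range_eq_ker _).1 (hF S hS)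
    have : IsNoetherian A (F.obj (ModuleCat.of A N₁)) := isNoetherian_of_isNoetherianRing_of_finite A _
    have : IsNoetherian A (F.obj (ModuleCat.of A N₃)) := isNoetherian_of_isNoetherianRing_of_finite A _
    let p := (F.map (ModuleCat.ofHom g)).hom
    refine ⟨Submodule.fg_of_fg_map_of_fg_inf_ker p (IsNoetherian.noetherian _) ?_⟩
    rw [top_inf_eq]
    change (LinearMap.ker p).FG
    rw [show LinearMap.ker p = LinearMap.range (F.map (ModuleCat.ofHom f)).hom from he.symm]
    rw [LinearMap.range_eq_map]
    exact (Module.Finite.fg_top (R := A) (M := F.obj (ModuleCat.of A N₁))).map _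

end Groth.Agent.S18015
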