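import Groth.Statements.S18017
import Groth.Agent.UnramArtinLift.Basic

set_option autoImplicit false
universe u
open CategoryTheory AlgebraicGeometry
open Unram

namespace Groth.Agent.S18017

theorem finite_residueFieldMap {S T : Scheme.{u}} (e : T ⟶ S) [LocallyOfFiniteType e]
    [FormallyUnramified e] (t : T) : (e.residueFieldMap t).hom.Finite := by
  let := (e.stalkMap t).hom.toAlgebra
  have : IsLocalHom (algebraMap (S.presheaf.stalk (e t)) (T.presheaf.stalk t)) :=
    inferInstanceAs <| IsLocalHom (e.stalkMap t).hom
  have : Algebra.EssFiniteType (S.presheaf.stalk (e t)) (T.presheaf.stalk t) := by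
    rw [← RingHom.essFiniteType_algebraMap]
    exact LocallyOfFiniteType.stalkMap e t
  have : Algebra.FormallyUnramified (S.presheaf.stalk (e t)) (T.presheaf.stalk t) :=
    AlgebraicGeometry.FormallyUnramified.stalkMap e t
  exact RingHom.finite_algebraMap.mpr (inferInstance : Module.Finite
    (IsLocalRing.ResidueField (S.presheaf.stalk (e t))) (IsLocalRing.ResidueField (T.presheaf.stalk t)))

/-- In the case where the S-groupoid is the base scheme S itself, let g : T → S be a morphism of
schemes, e : U → T an étale morphism and u a point of U with t = e(u). Say that T is formally versal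
over S at t when, for every surjection π : C' → C of local Artinian rings, every morphism a : Spec C
→ T sending the closed point to t and inducing a surjection (hence an isomorphism) of residue fields
κ(t) → κ, and every b : Spec C' → S compatible with a over S, there is c : Spec C' → T restricting
to a and lying over b. If T is formally versal over S at t, then U (over S via e) is formally versal
over S at u. (No Noetherian or finiteness hypotheses; a scheme has all the pushouts of local
Artinian schemes that the general statement asks of the target.) -/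
theorem result {S T U : Scheme.{u}} (g : T ⟶ S) (e : U ⟶ T) [Etale e] (u : U)
    (hT : ∀ (C C' : Type u) [CommRing C] [CommRing C'] [IsLocalRing C] [IsLocalRing C'] [IsArtinianRing C]
        [IsArtinianRing C'] (π : C' →+* C), Function.Surjective π →
        ∀ (a : Spec (CommRingCat.of C) ⟶ T) (b : Spec (CommRingCat.of C') ⟶ S),
          a (IsLocalRing.closedPoint C) = e u →
          Function.Surjective (a.residueFieldMap (IsLocalRing.closedPoint C)).hom →
          Spec.map (CommRingCat.ofHom π) ≫ b = a ≫ g →
          ∃ c : Spec (CommRingCat.of C') ⟶ T, Spec.map (CommRingCat.ofHom π) ≫ c = a ∧ c ≫ g = b) :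
    ∀ (C C' : Type u) [CommRing C] [CommRing C'] [IsLocalRing C] [IsLocalRing C'] [IsArtinianRing C]
        [IsArtinianRing C'] (π : C' →+* C), Function.Surjective π →
        ∀ (a : Spec (CommRingCat.of C) ⟶ U) (b : Spec (CommRingCat.of C') ⟶ S),
          a (IsLocalRing.closedPoint C) = u →
          Function.Surjective (a.residueFieldMap (IsLocalRing.closedPoint C)).hom →
          Spec.map (CommRingCat.ofHom π) ≫ b = a ≫ (e ≫ g) →
          ∃ c : Spec (CommRingCat.of C') ⟶ U, Spec.map (CommRingCat.ofHom π) ≫ c = a ∧ c ≫ (e ≫ g) = b := by
  intro C C' _ _ _ _ _ _ π hπ a b hau hres hab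
  subst hau
  have hfin : ((a ≫ e).residueFieldMap (IsLocalRing.closedPoint C)).hom.Finite := by
    rw [Scheme.residueFieldMap_comp]
    exact (RingHom.Finite.of_surjective _ hres).comp (finite_residueFieldMap e _)
  obtain ⟨c, hc1, hc2⟩ := Groth.Agent.UnramArtinLift.lifting_of_finite g _ hT π hπ (a ≫ e) b
    rfl hfin (by rw [hab, Category.assoc])
  have hnil : IsNilpotent (RingHom.ker π) := by
    obtain ⟨n, hn⟩ := IsArtinianRing.isNilpotent_jacobson_bot (R := C')
    refine ⟨n, le_bot_iff.1 (le_trans (Ideal.pow_right_mono ?_ n) hn.le)⟩
    rw [IsLocalRing.jacobson_eq_maximalIdeal (⊥ : Ideal C') bot_ne_top]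
    exact IsLocalRing.le_maximalIdeal (RingHom.ker_ne_top π)
  obtain ⟨c', h1, h2⟩ := Groth.Agent.UnramArtinLift.exists_lift_etale e π hπ hnil a c hc1
  exact ⟨c', h1, by rw [← Category.assoc, h2, hc2]⟩

end Groth.Agent.S18017
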