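import Groth.Statements.S18019
import Mathlib
-- import your own Groth.Agent.* helpers here

set_option autoImplicit false
universe u
open ClassStk

namespace Groth.Agent.S18019

open Polynomial

theorem invariant_mem {R : Type u} [CommRing R] [IsDomain R] [CharP R 2] (a : R) (ha : a ≠ 0) :
    ∀ (d : ℕ) (f : R[X]), f.natDegree ≤ d → f.comp (X + C a) = f →
      f ∈ Algebra.adjoin R ({X * (X + C a)} : Set R[X]) := by
  intro d
  induction d using Nat.strong_induction_on with
  | _ d ih =>
  intro f hd hf
  set u : R[X] := X * (X + C a) with hu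
  have hmonic : u.Monic := monic_X.mul (monic_X_add_C a)
  have hudeg : u.natDegree = 2 := by
    rw [hu, monic_X.natDegree_mul (monic_X_add_C a)]; simp
  have haa : a + a = 0 := CharTwo.add_self_eq_zero a
  have hucomp : u.comp (X + C a) = u := by
    have h2 : (C a + C a : R[X]) = 0 := by rw [← C_add, haa, C_0]
    rw [hu, mul_comp, add_comp, X_comp, C_comp]
    linear_combination (X + C a) * h2
  set q := f /ₘ u with hq
  set b := f %ₘ u with hb
  have hsplit : b + u * q = f := modByMonic_add_div f u
  have hbdeg : b.degree < u.degree := degree_modByMonic_lt f hmonic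
  have hb1 : b.natDegree ≤ 1 := by
    rcases eq_or_ne b 0 with h0 | h0
    · simp [h0]
    · have := natDegree_lt_natDegree h0 hbdeg; omega
  have hbC : b = C (b.coeff 1) * X + C (b.coeff 0) := eq_X_add_C_of_natDegree_le_one hb1
  have hbcomp : b.comp (X + C a) = b + C (b.coeff 1 * a) := by
    rw [hbC]; simp [mul_add, C_mul]; ring
  have hsplit' : b.comp (X + C a) + u * q.comp (X + C a) = f := by
    conv_rhs => rw [← hf, ← hsplit, add_comp, mul_comp, hucomp]
  have hdiff : u * (q.comp (X + C a) - q) = -C (b.coeff 1 * a) := by
    rw [hbcomp] at hsplit'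
    linear_combination hsplit' - hsplit
  have hqinv : q.comp (X + C a) = q := by
    by_contra hne
    have h0 : q.comp (X + C a) - q ≠ 0 := sub_ne_zero.mpr hne
    have := congrArg natDegree hdiff
    rw [natDegree_mul hmonic.ne_zero h0, natDegree_neg, natDegree_C, hudeg] at this
    omega
  have hc : b.coeff 1 = 0 := by
    rw [hqinv, sub_self, mul_zero, eq_comm, neg_eq_zero, C_eq_zero] at hdiff
    exact (mul_eq_zero.mp hdiff).resolve_right ha
  have hqmem : q ∈ Algebra.adjoin R ({u} : Set R[X]) := by
    rcases Nat.lt_or_ge f.natDegree 2 with h | h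
    · have h0 : q = 0 := by
        apply (divByMonic_eq_zero_iff hmonic).mpr
        exact lt_of_le_of_lt degree_le_natDegree (by rw [degree_eq_natDegree hmonic.ne_zero, hudeg]; exact_mod_cast h)
      rw [h0]; exact Subalgebra.zero_mem _
    · refine ih q.natDegree ?_ q le_rfl hqinv
      rw [hq, natDegree_divByMonic f hmonic, hudeg]; omega
  have hbmem : b ∈ Algebra.adjoin R ({u} : Set R[X]) := by
    rw [hbC, hc, C_0, zero_mul, zero_add]
    exact Subalgebra.algebraMap_mem _ _
  rw [← hsplit]
  exact Subalgebra.add_mem _ hbmem (Subalgebra.mul_mem _ (Algebra.subset_adjoin rfl) hqmem)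


open Polynomial in
/-- Let R be an integral domain of characteristic 2 and let a be a nonzero element of R, so that x ↦ x +
a defines an R-algebra involution of the polynomial ring R[x] (an action of the group of order two).
A polynomial f is invariant, f(x + a) = f(x), if and only if f belongs to the R-subalgebra generated
by u = x (x + a); in other words the ring of invariants is the polynomial ring R[u]. -/
theorem result (R : Type u) [CommRing R] [IsDomain R]
    [CharP R 2] (a : R) (ha : a ≠ 0) (f : Polynomial R) :
    f.comp (X + C a) = f ↔ f ∈ Algebra.adjoin R ({X * (X + C a)} : Set (Polynomial R)) := by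
  refine ⟨invariant_mem a ha f.natDegree f le_rfl, fun h => ?_⟩
  induction h using Algebra.adjoin_induction with
  | mem x hx =>
    rw [Set.mem_singleton_iff] at hx
    subst hx
    have h2 : (C a + C a : R[X]) = 0 := by rw [← C_add, CharTwo.add_self_eq_zero, C_0]
    rw [mul_comp, add_comp, X_comp, C_comp]
    linear_combination (X + C a) * h2
  | algebraMap r => simp [Polynomial.algebraMap_eq]
  | add x y _ _ hx hy => rw [add_comp, hx, hy]
  | mul x y _ _ hx hy => rw [mul_comp, hx, hy]

end Groth.Agent.S18019
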