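import Groth.Statements.S18021
import Groth.Agent.Misc14.Inertia
-- import your own Groth.Agent.* helpers here

set_option autoImplicit false
open W4c5stacksedinertia

namespace Groth.Agent.S18021

open W4c5stacksedinertia Groth.Misc14.GrpClass Groth.Misc14.Inertia

theorem hasEigenvalue_pos (n : ℕ) (hn : 0 < n) : Module.End.HasEigenvalue inertia (n : ℚ) := by
  haveI : NeZero n := ⟨hn.ne'⟩
  refine Module.End.hasEigenvalue_of_hasEigenvector (x := cl (Multiplicative (ZMod n))) ⟨?_, ?_⟩
  · rw [Module.End.mem_eigenspace_iff, inertiaR_cl]
    have h := inertiaROf_sub_mem 1 (Multiplicative (ZMod n))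
    have hc : Nat.card (Subgroup.center (Multiplicative (ZMod n))) = n := by
      rw [CommGroup.center_eq_top, Subgroup.card_top]; exact (Nat.card_congr Multiplicative.toAdd).trans (Nat.card_zmod n)
    rw [Nat.descFactorial_one, hc] at h
    have he : {i : Idx | i.card < Nat.card (Multiplicative (ZMod n)) ∧ n < i.centerCard} = ∅ := by
      ext i
      simp only [Set.mem_setOf_eq, Set.mem_empty_iff_false, iff_false]
      rintro ⟨h1, h2⟩
      rw [show Nat.card (Multiplicative (ZMod n)) = n from (Nat.card_congr Multiplicative.toAdd).trans (Nat.card_zmod n)] at h1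
      have : i.centerCard ≤ i.card := Finite.card_subtype_le _
      omega
    rw [he, Finsupp.supported_empty, Submodule.mem_bot, sub_eq_zero] at h
    exact h
  · simp [cl]


open W4c5stacksedinertia in
/-- In the rational vector space K with basis the isomorphism classes of finite groups (the class of a
group standing for its classifying groupoid), the inertia operator is diagonalizable with spectrum
the positive integers: the eigenspaces attached to natural numbers span everything, and a rational
number is an eigenvalue if and only if it is a positive integer. -/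
theorem result :
    (⨆ n : ℕ, Module.End.eigenspace inertia (n : ℚ)) = ⊤ ∧
    ∀ μ : ℚ, Module.End.HasEigenvalue inertia μ ↔ ∃ n : ℕ, 0 < n ∧ μ = (n : ℚ) := by
  refine ⟨iSup_eigenspace_eq_top, fun μ => ⟨fun h => ?_, ?_⟩⟩
  · by_contra hne
    push Not at hne
    have hd : Disjoint (Module.End.eigenspace inertia μ) (⨆ ν ≠ μ, Module.End.eigenspace inertia ν) :=
      (Module.End.eigenspaces_iSupIndep inertia) μ
    have htop : (⨆ ν ≠ μ, Module.End.eigenspace inertia ν) = ⊤ := by
      rw [eq_top_iff]
      intro v _
      rw [← Finsupp.sum_single v]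
      refine Submodule.sum_mem _ fun i _ => ?_
      rw [← Finsupp.smul_single_one]
      have hle : (⨆ (k : ℕ) (_ : i.centerCard ≤ k), Module.End.eigenspace inertia (k : ℚ)) ≤
          ⨆ ν ≠ μ, Module.End.eigenspace inertia ν :=
        iSup₂_le fun k hk => le_iSup₂ (f := fun (ν : ℚ) (_ : ν ≠ μ) => Module.End.eigenspace inertia ν) (k : ℚ)
          (fun e => hne k (lt_of_lt_of_le Nat.card_pos hk) e.symm)
      exact Submodule.smul_mem _ _ (hle (single_mem_iSup_ge i.card i le_rfl))
    rw [htop, disjoint_top] at hd
    exact h hd
  · rintro ⟨n, hn, rfl⟩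
    exact hasEigenvalue_pos n hn

end Groth.Agent.S18021
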