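import Groth.Statements.S18022
import Groth.Agent.Misc14.Inertia
-- import your own Groth.Agent.* helpers here

set_option autoImplicit false
open W4c5stacksedinertia

namespace Groth.Agent.S18022

open W4c5stacksedinertia Groth.Misc14.GrpClass Groth.Misc14.Inertia


open W4c5stacksedinertia in
/-- In the rational vector space K with basis the isomorphism classes of finite groups (the class of a
group standing for its classifying groupoid), the operator `inertiaR r` (class of `G` goes to the
sum, over conjugacy classes of `r`-tuples of pairwise distinct pairwise commuting elements, of the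
classes of their common centralizers) preserves the descending filtration by the order of the centre
and acts on its `k`-th graded piece as multiplication by `r! * Nat.choose k r`: for `v` in the span
of classes with centre of order at least `k`, `inertiaR r v - (r! * Nat.choose k r) • v` lies in the
span of classes with centre of order at least `k + 1`. -/
theorem result (r k : ℕ) (v : K) (hv : v ∈ Kge k) :
    inertiaR r v - ((Nat.factorial r * Nat.choose k r : ℕ) : ℚ) • v ∈ Kge (k + 1) := by
  rw [← Nat.descFactorial_eq_factorial_mul_choose]
  rw [← Finsupp.sum_single v, map_finsuppSum, Finsupp.smul_sum, ← Finsupp.sum_sub]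
  refine Submodule.sum_mem _ fun i hi => ?_
  beta_reduce
  have hik : k ≤ i.centerCard := (Finsupp.mem_supported _ _).mp hv hi
  rw [inertiaR_single, show Finsupp.single i (v i) = (v i) • cl i.rep by
      rw [cl, of_rep, Finsupp.smul_single, smul_eq_mul, mul_one], smul_comm, ← smul_sub]
  refine Submodule.smul_mem _ _ ?_
  have h := inertiaROf_sub_mem r i.rep
  have hle : Finsupp.supported ℚ ℚ {j : Idx | j.card < Nat.card i.rep ∧ i.centerCard < j.centerCard} ≤ Kge (k + 1) :=
    Finsupp.supported_mono fun j hj => le_trans (Nat.succ_le_succ hik) hj.2
  have h' : inertiaROf r i.rep - ((i.centerCard).descFactorial r : ℚ) • cl i.rep ∈ Kge (k + 1) := hle h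
  rcases eq_or_lt_of_le hik with he | hlt
  · subst he; convert h' using 2
  · have hcl : cl i.rep ∈ Kge (k + 1) := by
      rw [cl, of_rep]; exact Finsupp.single_mem_supported ℚ _ hlt
    have := Submodule.add_mem _ h' (Submodule.smul_mem _ (((i.centerCard).descFactorial r : ℚ) - (k.descFactorial r : ℚ)) hcl)
    convert this using 1
    module

end Groth.Agent.S18022
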