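import Groth.Statements.S18024
import Groth.Agent.Misc14.Inertia
-- import your own Groth.Agent.* helpers here

set_option autoImplicit false
open W4c5stacksedinertia

namespace Groth.Agent.S18024

open W4c5stacksedinertia Groth.Misc14.GrpClass Groth.Misc14.Inertia


open W4c5stacksedinertia in
/-- In the rational vector space K with basis the isomorphism classes of finite groups (the class of a
group standing for its classifying groupoid), for every `r` the kernel of `inertiaR r` is the span
of the eigenspaces of the inertia operator with eigenvalue a natural number `k < r`. -/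
theorem result (r : ℕ) :
    LinearMap.ker (inertiaR r) = ⨆ k ∈ Finset.range r, Module.End.eigenspace inertia (k : ℚ) := by
  refine le_antisymm (fun v hv => ?_) (iSup₂_le fun k hk x hx => ?_)
  · obtain ⟨x, hx, rfl⟩ := exists_decomp v
    rw [LinearMap.mem_ker, Finsupp.sum, map_sum] at hv
    have hz := (iSupIndep_iff_finsetSum_eq_zero_imp_eq_zero (fun k : ℕ => Module.End.eigenspace inertia (k : ℚ))).mp
      ((Module.End.eigenspaces_iSupIndep inertia).comp (Nat.cast_injective (R := ℚ)))
      x.support (fun k => inertiaR r (x k)) (fun k _ => by
        show inertiaR r (x k) ∈ Module.End.eigenspace inertia (k : ℚ)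
        rw [inertiaR_of_mem_eigenspace (hx k)]; exact Submodule.smul_mem _ _ (hx k)) hv
    refine Submodule.sum_mem _ fun k hk => ?_
    by_cases hkr : k < r
    · exact le_iSup₂ (f := fun (k : ℕ) (_ : k ∈ Finset.range r) => Module.End.eigenspace inertia (k : ℚ))
        k (Finset.mem_range.mpr hkr) (hx k)
    · have h := hz k hk
      rw [inertiaR_of_mem_eigenspace (hx k), smul_eq_zero] at h
      rcases h with h | h
      · exact absurd (Nat.descFactorial_eq_zero_iff_lt.mp (Nat.cast_eq_zero.mp h)) hkr
      · beta_reduce; rw [h]; exact Submodule.zero_mem _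
  · rw [LinearMap.mem_ker, inertiaR_of_mem_eigenspace hx,
      Nat.descFactorial_eq_zero_iff_lt.mpr (Finset.mem_range.mp hk), Nat.cast_zero, zero_smul]

end Groth.Agent.S18024
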