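import Groth.Statements.S18025
import Groth.Agent.Misc14.Inertia
-- import your own Groth.Agent.* helpers here

set_option autoImplicit false
open W4c5stacksedinertia

namespace Groth.Agent.S18025

open W4c5stacksedinertia Groth.Misc14.GrpClass Groth.Misc14.Inertia

theorem delta (j k N : ℕ) (hN : j < N) :
    ∑ r ∈ Finset.range N, ((-1 : ℚ) ^ (r + k)) / (Nat.factorial r : ℚ) * (Nat.choose r k : ℚ) * (j.descFactorial r : ℚ)
      = if j = k then 1 else 0 := by
  have hterm : ∀ r, ((-1 : ℚ) ^ (r + k)) / (Nat.factorial r : ℚ) * (Nat.choose r k : ℚ) * (j.descFactorial r : ℚ)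
      = (-1) ^ (r + k) * ((j.choose r * r.choose k : ℕ) : ℚ) := by
    intro r
    have : (Nat.factorial r : ℚ) ≠ 0 := by exact_mod_cast Nat.factorial_ne_zero r
    rw [Nat.descFactorial_eq_factorial_mul_choose]; push_cast; field_simp
  simp only [hterm]
  rcases Nat.lt_or_ge j k with hjk | hkj
  · rw [if_neg hjk.ne]
    refine Finset.sum_eq_zero fun r _ => ?_
    rcases Nat.lt_or_ge j r with h | h
    · simp [Nat.choose_eq_zero_of_lt h]
    · simp [Nat.choose_eq_zero_of_lt (lt_of_le_of_lt h hjk)]
  obtain ⟨m, rfl⟩ := Nat.exists_eq_add_of_le hkj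
  rw [← Finset.sum_subset (Finset.range_subset_range.mpr (show k + (m + 1) ≤ N by omega)) (fun r _ hr => by
      simp only [Finset.mem_range] at hr
      simp [Nat.choose_eq_zero_of_lt (show k + m < r by omega)]),
    Finset.sum_range_add, Finset.sum_eq_zero (fun r hr => by
      simp [Nat.choose_eq_zero_of_lt (Finset.mem_range.mp hr)]), zero_add]
  have h2 : ∀ i ∈ Finset.range (m + 1), (-1 : ℚ) ^ (k + i + k) * (((k + m).choose (k + i) * (k + i).choose k : ℕ) : ℚ)
      = ((k + m).choose k : ℚ) * ((((-1 : ℤ) ^ i * (m.choose i : ℤ)) : ℤ) : ℚ) := by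
    intro i hi
    rw [Nat.choose_mul (by omega : k ≤ k + i), Nat.add_sub_cancel_left, Nat.add_sub_cancel_left,
      show k + i + k = i + 2 * k by omega, pow_add, pow_mul]
    norm_num; ring
  rw [Finset.sum_congr rfl h2, ← Finset.mul_sum, ← Int.cast_sum, Int.alternating_sum_range_choose]
  rcases eq_or_ne m 0 with rfl | hm
  · simp
  · rw [if_neg hm, if_neg (by omega)]; simp


open W4c5stacksedinertia in
/-- In the rational vector space K with basis the isomorphism classes of finite groups (the class of a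
group standing for its classifying groupoid), the operators `P k := ∑ r, ((-1)^(r+k) / r!) *
Nat.choose r k • inertiaR r` (a finite sum on each vector) are the eigenprojections of the inertia
operator: `P k v` lies in the `k`-eigenspace of the inertia operator for every `v` and `k`, and `∑
k, P k v = v`. -/
theorem result (v : K) :
    (∀ k : ℕ, (∑ᶠ r : ℕ, (((-1 : ℚ) ^ (r + k)) / (Nat.factorial r : ℚ) * (Nat.choose r k : ℚ)) •
        inertiaR r v) ∈ Module.End.eigenspace inertia (k : ℚ)) ∧
    (∑ᶠ k : ℕ, ∑ᶠ r : ℕ, (((-1 : ℚ) ^ (r + k)) / (Nat.factorial r : ℚ) * (Nat.choose r k : ℚ)) •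
        inertiaR r v) = v := by
  obtain ⟨x, hx, rfl⟩ := exists_decomp v
  rw [Finsupp.sum]
  set N := x.support.sup id + 1 with hN
  have hlt : ∀ j ∈ x.support, j < N := fun j hj => Nat.lt_succ_of_le (Finset.le_sup (f := id) hj)
  have hT : ∀ r, inertiaR r (∑ j ∈ x.support, x j) = ∑ j ∈ x.support, (j.descFactorial r : ℚ) • x j := fun r => by
    rw [map_sum]; exact Finset.sum_congr rfl fun j _ => inertiaR_of_mem_eigenspace (hx j) r
  have hP : ∀ k : ℕ, (∑ᶠ r : ℕ, (((-1 : ℚ) ^ (r + k)) / (Nat.factorial r : ℚ) * (Nat.choose r k : ℚ)) •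
        inertiaR r (∑ j ∈ x.support, x j)) = x k := by
    intro k
    simp only [hT]
    rw [finsum_eq_sum_of_support_subset _ (s := Finset.range N) ?_]
    · simp only [Finset.smul_sum, smul_smul]
      rw [Finset.sum_comm]
      simp only [← Finset.sum_smul]
      rw [Finset.sum_congr rfl (fun j hj => by rw [delta j k N (hlt j hj)] : ∀ j ∈ x.support,
        (∑ r ∈ Finset.range N, ((-1 : ℚ) ^ (r + k)) / (Nat.factorial r : ℚ) * (Nat.choose r k : ℚ) * (j.descFactorial r : ℚ)) • x j
          = (if j = k then (1:ℚ) else 0) • x j)]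
      simp only [ite_smul, one_smul, zero_smul, Finset.sum_ite_eq', Finsupp.mem_support_iff]
      split_ifs with h
      · rfl
      · simp_all
    · intro r hr
      by_contra hnot
      simp only [Finset.coe_range, Set.mem_Iio, not_lt] at hnot
      refine hr ?_
      beta_reduce
      rw [Finset.sum_eq_zero, smul_zero]
      intro j hj
      rw [Nat.descFactorial_eq_zero_iff_lt.mpr (lt_of_lt_of_le (hlt j hj) hnot), Nat.cast_zero, zero_smul]
  refine ⟨fun k => by rw [hP k]; exact hx k, ?_⟩
  simp only [hP]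
  exact finsum_eq_sum_of_support_subset _ (fun k hk => by simpa using hk)

end Groth.Agent.S18025
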