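import Groth.Statements.S18026
import Groth.Agent.Hensel1.QFSplit
import Mathlib.AlgebraicGeometry.Morphisms.Etale
import Mathlib.AlgebraicGeometry.Morphisms.Finite
import Mathlib.RingTheory.Ideal.GoingDown
import Mathlib.RingTheory.Smooth.Flat
import Mathlib.RingTheory.Idempotents

set_option autoImplicit false
universe u
open Hensel

namespace Groth.Agent.S18026

open AlgebraicGeometry CategoryTheory in
/-- Let `A` be a henselian discrete valuation ring and `f : T ⟶ Spec A` an étale surjective morphism of
schemes. Then some open subscheme `U` of `T` is finite over `Spec A` and still maps onto it; in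
particular `U → Spec A` is a finite étale cover sitting inside `T` as an open subscheme (étaleness
of the restriction is automatic, and surjectivity records that `U` meets the closed fibre). (The
published statement asks for an open component of `T` finite étale over `Spec A`; when `T` is not
separated — two copies of `Spec A` glued along the generic point — no open and closed subset of `T`
is finite over `Spec A`, while the published proof constructs an open subscheme, the spectrum of the
local ring of `T` at a point of the closed fibre; so this row asks only for an open subscheme.) -/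
theorem result
    (A : Type u) [CommRing A] [IsDomain A] [IsDiscreteValuationRing A] [HenselianLocalRing A]
    (T : Scheme.{u}) (f : T ⟶ Spec (CommRingCat.of A)) [Etale f] [Surjective f] :
    ∃ U : T.Opens, IsFinite (U.ι ≫ f) ∧ Surjective (U.ι ≫ f) := by
  obtain ⟨t, ht⟩ := f.surjective (IsLocalRing.closedPoint A)
  obtain ⟨_, ⟨W : T.Opens, hW : IsAffineOpen W, rfl⟩, htW, -⟩ :=
    T.isBasis_affineOpens.exists_subset_of_mem_open (Set.mem_univ t) isOpen_univ
  let φ : CommRingCat.of A ⟶ Γ(T, W) := Spec.preimage (hW.fromSpec ≫ f)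
  have hφ : Spec.map φ = hW.fromSpec ≫ f := Spec.map_preimage _
  let _ : Algebra A Γ(T, W) := φ.hom.toAlgebra
  have hetW : Etale (Spec.map φ) := by rw [hφ]; infer_instance
  have : Algebra.Etale A Γ(T, W) := (HasRingHomProperty.Spec_iff (P := @Etale)).1 hetW
  let q : ↥(Spec Γ(T, W)) := hW.primeIdealOf ⟨t, htW⟩
  have hq : (Spec.map φ).base q = IsLocalRing.closedPoint A := by
    rw [hφ, Scheme.Hom.comp_apply]
    exact (congrArg f (hW.fromSpec_primeIdealOf ⟨t, htW⟩)).trans ht
  have : q.asIdeal.LiesOver (IsLocalRing.maximalIdeal A) :=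
    ⟨(congrArg PrimeSpectrum.asIdeal hq).symm⟩
  have : Algebra.QuasiFiniteAt A q.asIdeal := inferInstance
  obtain ⟨e, heq, he, -⟩ := Groth.Hensel1.exists_idempotent_of_quasiFiniteAt (R := A) q.asIdeal
  let L := Localization.Away e
  have hfin : Module.Finite A L := by
    have := he.finite
    have hL : Function.Surjective (algebraMap Γ(T, W) L) := by
      intro y
      obtain ⟨⟨x, ⟨_, k, rfl⟩⟩, hk⟩ := IsLocalization.surj (Submonoid.powers e) y
      refine ⟨x, ?_⟩
      have h1 : algebraMap Γ(T, W) L e = 1 :=
        (IsLocalization.Away.algebraMap_isUnit (S := L) e).mul_left_cancel (by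
          rw [← map_mul, he.1.eq, mul_one])
      simpa [h1] using hk.symm
    let π : (Γ(T, W) ⧸ Ideal.span {1 - e}) →ₐ[A] L :=
      Ideal.Quotient.liftₐ _ (IsScalarTower.toAlgHom A Γ(T, W) L) fun x hx => by
        obtain ⟨c, rfl⟩ := Ideal.mem_span_singleton.1 hx
        show algebraMap Γ(T, W) L ((1 - e) * c) = 0
        have h1 : algebraMap Γ(T, W) L e = 1 :=
          (IsLocalization.Away.algebraMap_isUnit (S := L) e).mul_left_cancel (by
            rw [← map_mul, he.1.eq, mul_one])
        rw [map_mul, map_sub, map_one, h1, sub_self, zero_mul]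
    refine Module.Finite.of_surjective π.toLinearMap fun y => ?_
    obtain ⟨x, rfl⟩ := hL y
    exact ⟨Ideal.Quotient.mk _ x, rfl⟩
  let j : Spec (CommRingCat.of L) ⟶ T := Spec.map (CommRingCat.ofHom (algebraMap Γ(T, W) L)) ≫ hW.fromSpec
  have : IsOpenImmersion (Spec.map (CommRingCat.ofHom (algebraMap Γ(T, W) L))) :=
    IsOpenImmersion.of_isLocalization e
  have : IsOpenImmersion j := inferInstance
  have hjf : j ≫ f = Spec.map (CommRingCat.ofHom (algebraMap A L)) := by
    rw [Category.assoc, ← hφ, ← Spec.map_comp]
    rfl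
  have hU : j.opensRange.ι ≫ f = j.isoOpensRange.inv ≫ Spec.map (CommRingCat.ofHom (algebraMap A L)) := by
    rw [← hjf, ← Category.assoc, Scheme.Hom.isoOpensRange_inv_comp]
  refine ⟨j.opensRange, ?_, ?_⟩
  · have := (IsFinite.SpecMap_iff (CommRingCat.ofHom (algebraMap A L))).2 (RingHom.finite_algebraMap.2 hfin)
    rw [hU]
    infer_instance
  · suffices Surjective (Spec.map (CommRingCat.ofHom (algebraMap A L))) by rw [hU]; infer_instance
    refine ⟨fun (p : PrimeSpectrum A) => ?_⟩
    have hd : Disjoint ((Submonoid.powers e : Submonoid Γ(T, W)) : Set Γ(T, W)) q.asIdeal := by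
      rw [Set.disjoint_left]
      rintro _ ⟨n, rfl⟩ hn
      exact heq (q.isPrime.mem_of_pow_mem n hn)
    have hqL : (q.asIdeal.map (algebraMap Γ(T, W) L)).IsPrime :=
      IsLocalization.isPrime_of_isPrime_disjoint (Submonoid.powers e) L _ q.isPrime hd
    have hqo : (q.asIdeal.map (algebraMap Γ(T, W) L)).LiesOver (IsLocalRing.maximalIdeal A) := ⟨by
      rw [Ideal.under, IsScalarTower.algebraMap_eq A Γ(T, W) L, ← Ideal.comap_comap]
      rw [← Ideal.under, ← Ideal.under, IsLocalization.under_map_of_isPrime_disjoint (Submonoid.powers e) L q.isPrime hd]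
      exact q.asIdeal.over_def (IsLocalRing.maximalIdeal A)⟩
    obtain ⟨P, -, hP, hPo⟩ := Ideal.exists_ideal_le_liesOver_of_le (q.asIdeal.map (algebraMap Γ(T, W) L))
      (p := p.asIdeal) (q := IsLocalRing.maximalIdeal A) (IsLocalRing.le_maximalIdeal p.isPrime.ne_top)
    exact ⟨⟨P, hP⟩, PrimeSpectrum.ext hPo.over.symm⟩

end Groth.Agent.S18026
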