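import Groth.Statements.S18027
import Groth.Agent.GrpschAbsch.GrpDim
import Groth.Agent.Variety2.DimScheme
import Groth.Agent.AlgGrpIsog.NeutralIrred
-- import your own Groth.Agent.* helpers here

set_option autoImplicit false
universe u
open CategoryTheory MonoidalCategory CartesianMonoidalCategory MonObj GrpObj AlgebraicGeometry CategoryTheory.Limits
open AlgGrp

namespace Groth.Agent.S18027

/-- Let `k` be a field and `u : G ⟶ H` a homomorphism of smooth `k`-group schemes which is a closed
immersion, where `G` and `H` have the same dimension. Then `u` carries the connected component of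
the identity of `G` onto the connected component of the identity of `H`; as `u` is a closed
immersion and `H` is reduced, `u` therefore restricts to an isomorphism between the identity
components. (The second printed assertion, on the groups of components, is not included.) -/
theorem result (k : Type u) [Field k]
    (G H : Over (Spec (CommRingCat.of k))) [GrpObj G] [GrpObj H]
    [Smooth G.hom] [Smooth H.hom] (u : G ⟶ H) [IsMonHom u] [IsClosedImmersion u.left]
    (hdim : topologicalKrullDim ↥G.left = topologicalKrullDim ↥H.left)
    (t : ↥((𝟙_ (Over (Spec (CommRingCat.of k)))).left)) :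
    ⇑u.left.base '' connectedComponent (η[G].left.base t) = connectedComponent (η[H].left.base t) := by
  have hcl : IsClosed (Set.range u.left.base) := u.left.isClosedEmbedding.isClosed_range
  have he : u.left.base (η[G].left.base t) = η[H].left.base t := by
    rw [← Scheme.Hom.comp_apply, ← Over.comp_left, IsMonHom.one_hom u]
  obtain ⟨ξ, hξ⟩ := QuasiSober.sober ((Groth.AlgGrpIsog.isOpen_isIrreducible_component G t).2)
    isClosed_connectedComponent
  obtain ⟨b, hb⟩ := QuasiSober.sober ((Groth.AlgGrpIsog.isOpen_isIrreducible_component H t).2)
    isClosed_connectedComponent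
  have hsub : u.left.base '' connectedComponent (η[G].left.base t) ⊆ connectedComponent (η[H].left.base t) := by
    rw [← he]
    exact u.left.continuous.image_connectedComponent_subset _
  refine hsub.antisymm ?_
  have hmax : IsMax ξ := by
    intro z hz
    have hzC : z ∈ connectedComponent (η[G].left.base t) :=
      (Scheme.le_iff_specializes.1 hz).mem_open (Groth.AlgGrpIsog.isOpen_isIrreducible_component G t).1
        (hξ ▸ subset_closure rfl)
    rw [← hξ] at hzC
    exact Scheme.le_iff_specializes.2 (specializes_iff_mem_closure.2 hzC)
  have hle : u.left.base ξ ≤ b := by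
    refine Scheme.le_iff_specializes.2 (specializes_iff_mem_closure.2 ?_)
    rw [hb]
    exact hsub ⟨ξ, hξ ▸ subset_closure rfl, rfl⟩
  have hba : u.left.base ξ = b := by
    by_contra hne
    have hlt : u.left.base ξ < b := Variety2.Dim.lt_iff.2 ⟨Scheme.le_iff_specializes.1 hle, hne⟩
    have h1 := Order.height_strictMono hlt
      (lt_top_iff_ne_top.2 (Groth.Variety2.Dim.height_ne_top (k := k) H.hom (u.left.base ξ)))
    have h2 : ((Order.height b : ℕ∞) : WithBot ℕ∞) ≤ topologicalKrullDim H.left := by
      rw [Variety2.Dim.dim_eq_iSup_height]
      exact le_iSup (fun z : H.left => ((Order.height z : ℕ∞) : WithBot ℕ∞)) b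
    rw [← hdim, ← Groth.GrpschAbsch.height_eq_dim_of_isMax G hmax, WithBot.coe_le_coe,
      ← Groth.GrpschAbsch.height_eq_of_isIntegralHom u.left ξ] at h2
    exact absurd h1 (not_lt.2 h2)
  intro y hy
  have hC : IsClosed (u.left.base '' connectedComponent (η[G].left.base t)) :=
    u.left.isClosedEmbedding.isClosedMap _ isClosed_connectedComponent
  rw [← hb, ← hba] at hy
  exact hC.closure_subset_iff.2 (Set.singleton_subset_iff.2 (Set.mem_image_of_mem _ (hξ ▸ subset_closure rfl))) hy

end Groth.Agent.S18027
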