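import Groth.Statements.S18029
import Groth.Agent.GrpschAbsch.BcPoint
import Groth.Agent.Agf.SubobjGrp
import Mathlib

set_option autoImplicit false
universe u
open CategoryTheory MonoidalCategory CartesianMonoidalCategory MonObj GrpObj AlgebraicGeometry Limits
open AlgGrp

namespace Groth.Agent.S18029

variable {X : Scheme.{u}} [IsIntegral X]

lemma appTop_specMap_isoSpec_inv {Y : Scheme.{u}} [IsAffine Y] {R : CommRingCat.{u}} (l : Γ(Y, ⊤) ⟶ R) :
    (Spec.map l ≫ Y.isoSpec.inv).appTop = l ≫ (Scheme.ΓSpecIso R).inv := by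
  rw [Scheme.Hom.comp_appTop, Scheme.ΓSpecIso_inv_naturality]
  congr 1
  simp [Scheme.isoSpec]

lemma appTop_toSpec {T Y : Scheme.{u}} [IsAffine Y] (l : Γ(Y, ⊤) ⟶ Γ(T, ⊤)) :
    (T.toSpecΓ ≫ Spec.map l ≫ Y.isoSpec.inv).appTop = l := by
  rw [Scheme.Hom.comp_appTop, appTop_specMap_isoSpec_inv, Scheme.toSpecΓ_appTop]
  simp

/-- A non-zero function on an open containing the generic point is invertible there. -/
lemma mem_basicOpen_generic {U₀ : X.Opens} (hη : genericPoint X ∈ U₀) {a : Γ(X, U₀)} (ha : a ≠ 0) :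
    genericPoint X ∈ X.basicOpen a := by
  have : (X.basicOpen a : Set X).Nonempty := by
    by_contra hne
    rw [Set.not_nonempty_iff_eq_empty] at hne
    exact ha ((basicOpen_eq_bot_iff a).1 (TopologicalSpace.Opens.ext hne))
  obtain ⟨y, hy⟩ := this
  exact (genericPoint_specializes y).mem_open (X.basicOpen a).2 hy

omit [IsIntegral X] in
lemma isUnit_appTop_appLE {U₀ : X.Opens} {W T : Scheme.{u}} (π : W ⟶ X) (hπ : π ⁻¹ᵁ U₀ = ⊤)
    (a : Γ(X, U₀)) (s : T ⟶ W) (hs : ∀ x, (s ≫ π) x ∈ X.basicOpen a) :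
    IsUnit (s.appTop (π.appLE U₀ ⊤ hπ.ge a)) := by
  refine T.toRingedSpace.isUnit_of_isUnit_germ ⊤ _ fun x hx => ?_
  refine (T.mem_basicOpen_top _ x).1 ?_
  rw [← CommRingCat.comp_apply, Scheme.Hom.appTop, Scheme.Hom.app_eq_appLE]
  show x ∈ T.basicOpen ((π.appLE U₀ ⊤ hπ.ge ≫ s.appLE ⊤ ⊤ le_top) a)
  rw [Scheme.Hom.appLE_comp_appLE, Scheme.basicOpen_appLE]
  exact ⟨trivial, hs x⟩

/-- The multiplicative set cutting out the generic fibre. -/
noncomputable def genSet {U₀ : X.Opens} {W : Scheme.{u}} (π : W ⟶ X) (hπ : π ⁻¹ᵁ U₀ = ⊤) :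
    Submonoid Γ(W, ⊤) :=
  (nonZeroDivisors Γ(X, U₀)).map (π.appLE U₀ ⊤ hπ.ge).hom

/-- The localized affine scheme lies over the generic point. -/
lemma exists_over_generic {U₀ : X.Opens} (hU : IsAffineOpen U₀) (hη : genericPoint X ∈ U₀)
    {W : Scheme.{u}} [IsAffine W] (π : W ⟶ X) (hπ : π ⁻¹ᵁ U₀ = ⊤) :
    ∃ t : Spec (CommRingCat.of (Localization (genSet π hπ))) ⟶ Spec X.functionField,
      t ≫ X.fromSpecStalk (genericPoint X) =
        (Spec.map (CommRingCat.ofHom (algebraMap Γ(W, ⊤) (Localization (genSet π hπ)))) ≫ W.isoSpec.inv) ≫ π := by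
  have : Nonempty U₀ := ⟨⟨_, hη⟩⟩
  let φ := π.appLE U₀ ⊤ hπ.ge
  let germ := X.presheaf.germ U₀ (genericPoint X) hη
  let L := CommRingCat.of (Localization (genSet π hπ))
  let toL : Γ(W, ⊤) ⟶ L := CommRingCat.ofHom (algebraMap Γ(W, ⊤) (Localization (genSet π hπ)))
  have : IsFractionRing Γ(X, U₀) X.functionField := functionField_isFractionRing_of_isAffineOpen X U₀ hU
  let ψ : X.functionField ⟶ L := CommRingCat.ofHom
    (IsLocalization.lift (M := nonZeroDivisors Γ(X, U₀)) (S := X.functionField)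
      (g := (toL.hom.comp φ.hom)) fun y =>
        IsLocalization.map_units (Localization (genSet π hπ))
          (⟨φ.hom y, Submonoid.mem_map.2 ⟨y, y.2, rfl⟩⟩ : genSet π hπ))
  have hψ : germ ≫ ψ = φ ≫ toL := by
    ext y
    exact IsLocalization.lift_eq (M := nonZeroDivisors Γ(X, U₀)) (S := X.functionField) _ y
  have hπ' : W.isoSpec.inv ≫ π = Spec.map φ ≫ hU.fromSpec := by
    rw [IsAffineOpen.SpecMap_appLE_fromSpec π hU (isAffineOpen_top W) hπ.ge]
    congr 1
    rw [← cancel_mono W.toSpecΓ, IsAffineOpen.fromSpec_toSpecΓ, Scheme.isoSpec_inv_toSpecΓ]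
    simp
  refine ⟨Spec.map ψ, ?_⟩
  rw [← IsAffineOpen.fromSpecStalk_eq_fromSpecStalk hU hη]
  show Spec.map ψ ≫ Spec.map germ ≫ hU.fromSpec = (Spec.map toL ≫ W.isoSpec.inv) ≫ π
  rw [← Spec.map_comp_assoc, hψ, Spec.map_comp_assoc, Category.assoc, hπ']

/-- A function on an affine scheme over an affine open vanishing over the generic point vanishes
over an open neighbourhood of it. -/
lemma exists_open_vanish {U₀ : X.Opens} (hU : IsAffineOpen U₀) (hη : genericPoint X ∈ U₀)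
    {W : Scheme.{u}} [IsAffine W] (π : W ⟶ X) (hπ : π ⁻¹ᵁ U₀ = ⊤) (w : Γ(W, ⊤))
    (h : ∀ ⦃T : Scheme.{u}⦄ (s : T ⟶ W) (t : T ⟶ Spec X.functionField),
      t ≫ X.fromSpecStalk (genericPoint X) = s ≫ π → s.appTop w = 0) :
    ∃ V : X.Opens, V ≤ U₀ ∧ genericPoint X ∈ V ∧
      ∀ ⦃T : Scheme.{u}⦄ (s : T ⟶ W), (∀ x, (s ≫ π) x ∈ V) → s.appTop w = 0 := by
  obtain ⟨t, ht⟩ := exists_over_generic hU hη π hπ
  have e := h _ t ht
  rw [appTop_specMap_isoSpec_inv, CommRingCat.comp_apply] at e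
  have h1 : algebraMap Γ(W, ⊤) (Localization (genSet π hπ)) w = 0 :=
    (Scheme.ΓSpecIso (CommRingCat.of (Localization (genSet π hπ)))).commRingCatIsoToRingEquiv.symm.injective
      (e.trans (map_zero _).symm)
  obtain ⟨⟨_, a, ha, rfl⟩, hm⟩ := (IsLocalization.map_eq_zero_iff (genSet π hπ) (Localization _) w).1 h1
  have : Nonempty U₀ := ⟨⟨_, hη⟩⟩
  refine ⟨X.basicOpen a, X.basicOpen_le a, mem_basicOpen_generic hη (nonZeroDivisors.ne_zero ha),
    fun T s hs => ?_⟩
  have hm' := congrArg s.appTop hm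
  rw [map_mul, map_zero] at hm'
  exact (isUnit_appTop_appLE π hπ a s hs).mul_right_eq_zero.1 hm'

/-- On the generic fibre every function is, up to a unit, the restriction of a function. -/
lemma exists_numerator {U₀ : X.Opens} (hU : IsAffineOpen U₀) (hη : genericPoint X ∈ U₀)
    {W P : Scheme.{u}} [IsAffine W] (π : W ⟶ X) (hπ : π ⁻¹ᵁ U₀ = ⊤)
    (ρ : P ⟶ W) (q : P ⟶ Spec X.functionField) (w : ρ ≫ π = q ≫ X.fromSpecStalk (genericPoint X))
    (hlift : ∀ ⦃T : Scheme.{u}⦄ (s : T ⟶ W) (t : T ⟶ Spec X.functionField),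
      t ≫ X.fromSpecStalk (genericPoint X) = s ≫ π → ∃ z : T ⟶ P, z ≫ ρ = s)
    (hext : ∀ ⦃T : Scheme.{u}⦄ (z z' : T ⟶ P), z ≫ ρ = z' ≫ ρ → z = z') (b : Γ(P, ⊤)) :
    ∃ (g : Γ(W, ⊤)) (v : Γ(P, ⊤)), IsUnit v ∧ b * v = ρ.appTop g := by
  have : Nonempty U₀ := ⟨⟨_, hη⟩⟩
  obtain ⟨t, ht⟩ := exists_over_generic hU hη π hπ
  obtain ⟨χ, hχ⟩ := hlift _ t ht
  let L := CommRingCat.of (Localization (genSet π hπ))
  let toL : Γ(W, ⊤) ⟶ L := CommRingCat.ofHom (algebraMap Γ(W, ⊤) (Localization (genSet π hπ)))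
  have hunit : ∀ m : genSet π hπ, IsUnit (ρ.appTop.hom m) := by
    rintro ⟨_, a, ha, rfl⟩
    refine isUnit_appTop_appLE π hπ a ρ fun x => ?_
    rw [w, Scheme.Hom.comp_apply]
    have : q x = IsLocalRing.closedPoint X.functionField := Subsingleton.elim (α := PrimeSpectrum X.functionField) _ _
    rw [this, Scheme.fromSpecStalk_closedPoint]
    exact mem_basicOpen_generic hη (nonZeroDivisors.ne_zero ha)
  let l : L ⟶ Γ(P, ⊤) := CommRingCat.ofHom
    (IsLocalization.lift (M := genSet π hπ) (S := Localization (genSet π hπ)) hunit)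
  have hl : toL ≫ l = ρ.appTop := by
    ext y
    exact IsLocalization.lift_eq (M := genSet π hπ) (S := Localization (genSet π hπ)) hunit y
  let Θ : P ⟶ Spec L := P.toSpecΓ ≫ Spec.map l
  have hΘ : Θ ≫ χ = 𝟙 P := by
    apply hext
    rw [Category.assoc, hχ, Category.id_comp]
    apply ext_of_isAffine
    simp only [Θ, toL, Category.assoc, ← Spec.map_comp_assoc]
    rw [appTop_toSpec]
    exact hl
  obtain ⟨⟨g, m⟩, hgm⟩ := IsLocalization.surj (genSet π hπ) (((Scheme.ΓSpecIso L).hom (χ.appTop b)))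
  refine ⟨g, ρ.appTop.hom m, hunit m, ?_⟩
  have hb : l ((Scheme.ΓSpecIso L).hom (χ.appTop b)) = b := by
    have h1 := congrArg (fun z => Scheme.Hom.appTop z b) hΘ
    simp only [Θ, Scheme.Hom.comp_appTop, Scheme.Hom.id_appTop, Scheme.toSpecΓ_appTop, CommRingCat.comp_apply,
      CommRingCat.id_apply] at h1
    rw [← CommRingCat.comp_apply, Scheme.ΓSpecIso_naturality, CommRingCat.comp_apply] at h1
    exact (CommRingCat.comp_apply _ _ _).symm.trans ((congrArg _ rfl).trans h1) 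
  have h2 := congrArg l.hom hgm
  rw [map_mul] at h2
  rw [← hl, CommRingCat.comp_apply, CommRingCat.comp_apply]
  exact (congrArg (fun y => y * l (toL m)) hb.symm).trans h2

lemma exists_open_vanish_finset {U₀ : X.Opens} (hU : IsAffineOpen U₀) (hη : genericPoint X ∈ U₀)
    {W : Scheme.{u}} [IsAffine W] (π : W ⟶ X) (hπ : π ⁻¹ᵁ U₀ = ⊤) (F : Finset Γ(W, ⊤))
    (h : ∀ ⦃T : Scheme.{u}⦄ (s : T ⟶ W) (t : T ⟶ Spec X.functionField),
      t ≫ X.fromSpecStalk (genericPoint X) = s ≫ π → ∀ w ∈ F, s.appTop w = 0) :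
    ∃ V : X.Opens, V ≤ U₀ ∧ genericPoint X ∈ V ∧
      ∀ ⦃T : Scheme.{u}⦄ (s : T ⟶ W), (∀ x, (s ≫ π) x ∈ V) → ∀ w ∈ F, s.appTop w = 0 := by
  classical
  induction F using Finset.induction with
  | empty => exact ⟨U₀, le_rfl, hη, fun T s _ w hw => absurd hw (Finset.notMem_empty w)⟩
  | insert w F _ ih =>
    obtain ⟨V₁, h11, h12, h13⟩ := exists_open_vanish hU hη π hπ w
      fun T s t ht => h s t ht w (Finset.mem_insert_self _ _)
    obtain ⟨V₂, -, h22, h23⟩ := ih fun T s t ht w hw => h s t ht w (Finset.mem_insert_of_mem hw)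
    refine ⟨V₁ ⊓ V₂, inf_le_left.trans h11, ⟨h12, h22⟩, fun T s hs w' hw' => ?_⟩
    rcases Finset.mem_insert.1 hw' with rfl | hw'
    · exact h13 s fun x => (hs x).1
    · exact h23 s (fun x => (hs x).2) w' hw'

/-- Maps into an affine scheme landing in the closed subscheme cut out by an ideal. -/
lemma exists_factor_quotient {T Y : Scheme.{u}} [IsAffine Y] (J : Ideal Γ(Y, ⊤)) (t : T ⟶ Y) :
    (∃ z, z ≫ Spec.map (CommRingCat.ofHom (Ideal.Quotient.mk J)) ≫ Y.isoSpec.inv = t) ↔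
      ∀ g ∈ J, t.appTop g = 0 := by
  constructor
  · rintro ⟨z, rfl⟩ g hg
    rw [Scheme.Hom.comp_appTop, appTop_specMap_isoSpec_inv, CommRingCat.comp_apply, CommRingCat.comp_apply]
    simp [Ideal.Quotient.eq_zero_iff_mem.2 hg]
  · intro h
    refine ⟨T.toSpecΓ ≫ Spec.map (CommRingCat.ofHom (Ideal.Quotient.lift J t.appTop.hom h)), ?_⟩
    rw [Category.assoc, ← Spec.map_comp_assoc, show CommRingCat.ofHom (Ideal.Quotient.mk J) ≫
      CommRingCat.ofHom (Ideal.Quotient.lift J t.appTop.hom h) = t.appTop from rfl,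
      ← Scheme.toSpecΓ_naturality_assoc]
    simp [Scheme.isoSpec]

/-- Maps factoring through a closed immersion into an affine scheme. -/
lemma exists_factor_ker {T H Y : Scheme.{u}} [IsAffine Y] (i : H ⟶ Y) [IsClosedImmersion i] (t : T ⟶ Y) :
    (∃ z, z ≫ i = t) ↔ ∀ g ∈ RingHom.ker i.appTop.hom, t.appTop g = 0 := by
  constructor
  · rintro ⟨z, rfl⟩ g hg
    rw [Scheme.Hom.comp_appTop, CommRingCat.comp_apply, RingHom.mem_ker.1 hg, map_zero]
  · intro h
    have : IsAffine H := isAffine_of_isAffineHom i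
    have hsurj : Function.Surjective i.appTop.hom := (IsClosedImmersion.isAffine_surjective_of_isAffine i).2
    refine ⟨T.toSpecΓ ≫ Spec.map (CommRingCat.ofHom (i.appTop.hom.liftOfSurjective hsurj ⟨t.appTop.hom, h⟩)) ≫ H.isoSpec.inv, ?_⟩
    apply ext_of_isAffine
    ext g
    rw [Scheme.Hom.comp_appTop, appTop_toSpec, CommRingCat.comp_apply]
    exact RingHom.liftOfRightInverse_comp_apply _ _ _ ⟨t.appTop.hom, h⟩ g

/-- Closed subgroups of the generic fibre spread out. Let `X` be an integral scheme with generic point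
`η : Spec K(X) ⟶ X`, `G` an affine `X`-group scheme locally of finite presentation and `H_η` a
closed subgroup scheme of the generic fibre `G_η = G ×_X Spec K(X)`. Then there are a non-empty open
`U ⊆ X` (through which `η` factors) and a closed subgroup scheme `H_U` of `G ×_X U` whose generic
fibre is `H_η`: a cartesian square presents `H_η` as `H_U ×_U Spec K(X)`, compatibly with the
embeddings into `G`. -/
theorem result
    (X : Scheme.{u}) [IsIntegral X] (G : Over X) [GrpObj G]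
    [IsAffineHom G.hom] [LocallyOfFinitePresentation G.hom]
    (Hη : Over (Spec X.functionField)) [GrpObj Hη]
    (i : Hη ⟶ Red.bc (X.fromSpecStalk (genericPoint X)) G) [IsMonHom i] [IsClosedImmersion i.left] :
    ∃ (U : X.Opens) (ηU : Spec X.functionField ⟶ (U : Scheme.{u})) (HU : Over (U : Scheme.{u}))
      (_ : GrpObj HU) (j : HU ⟶ Red.bc U.ι G) (φ : Hη.left ⟶ HU.left),
      ηU ≫ U.ι = X.fromSpecStalk (genericPoint X) ∧ IsMonHom j ∧ IsClosedImmersion j.left ∧
      IsPullback φ Hη.hom HU.hom ηU ∧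
      φ ≫ j.left ≫ pullback.fst G.hom U.ι = i.left ≫ pullback.fst G.hom (X.fromSpecStalk (genericPoint X)) := by
  classical
  let sp := X.fromSpecStalk (genericPoint X)
  obtain ⟨U₀, hU, hη, -⟩ := exists_isAffineOpen_mem_and_subset (U := ⊤) (Set.mem_univ (genericPoint X))
  have hsp : ∀ x, sp x ∈ U₀ := fun x => by
    have : x = IsLocalRing.closedPoint X.functionField := Subsingleton.elim (α := PrimeSpectrum X.functionField) _ _
    rw [this, Scheme.fromSpecStalk_closedPoint]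
    exact hη
  let P₀ : G.left.Opens := G.hom ⁻¹ᵁ U₀
  let G₀ := P₀.toScheme
  have : IsAffine G₀ := hU.preimage G.hom
  let π₀ : G₀ ⟶ X := P₀.ι ≫ G.hom
  have hπ₀ : π₀ ⁻¹ᵁ U₀ = ⊤ := top_unique fun x _ => x.2
  let GK := Red.bc sp G
  have : IsAffineHom GK.hom := inferInstanceAs (IsAffineHom (pullback.snd G.hom sp))
  have : IsAffine GK.left := isAffine_of_isAffineHom GK.hom
  have : LocallyOfFiniteType GK.hom := inferInstanceAs (LocallyOfFiniteType (pullback.snd G.hom sp))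
  have : IsLocallyNoetherian GK.left := LocallyOfFiniteType.isLocallyNoetherian GK.hom
  have : IsNoetherianRing Γ(GK.left, ⊤) :=
    IsLocallyNoetherian.component_noetherian ⟨⊤, isAffineOpen_top _⟩
  let ρK : GK.left ⟶ G₀ := IsOpenImmersion.lift P₀.ι (pullback.fst G.hom sp) (by
    rintro _ ⟨x, rfl⟩
    rw [Scheme.Opens.range_ι]
    show (pullback.fst G.hom sp ≫ G.hom) x ∈ U₀
    rw [pullback.condition]
    exact hsp _)
  have hρK : ρK ≫ P₀.ι = pullback.fst G.hom sp := IsOpenImmersion.lift_fac _ _ _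
  obtain ⟨bs, hbs⟩ : (RingHom.ker i.left.appTop.hom).FG := IsNoetherian.noetherian _
  have hnum : ∀ b : Γ(GK.left, ⊤), ∃ (g : Γ(G₀, ⊤)) (v : Γ(GK.left, ⊤)), IsUnit v ∧ b * v = ρK.appTop g := by
    refine exists_numerator hU hη π₀ hπ₀ ρK GK.hom ?_ ?_ ?_
    · show ρK ≫ P₀.ι ≫ G.hom = pullback.snd G.hom sp ≫ sp
      rw [← Category.assoc, hρK, pullback.condition]
    · intro T z t hzt
      refine ⟨pullback.lift (z ≫ P₀.ι) t (by rw [Category.assoc]; exact hzt.symm), ?_⟩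
      rw [← cancel_mono P₀.ι, Category.assoc, hρK, pullback.lift_fst]
    · intro T z z' h
      have h' := congrArg (· ≫ P₀.ι) h
      simp only [Category.assoc, hρK] at h'
      refine pullback.hom_ext h' ?_
      rw [← cancel_mono sp, Category.assoc, Category.assoc, ← pullback.condition, reassoc_of% h']
  choose num den hden hnd using hnum
  let F : Finset Γ(G₀, ⊤) := bs.image num
  let Qs : ∀ {T : Scheme.{u}}, (T ⟶ G.left) → Prop := fun {T} f =>
    ∀ t : T ⟶ G₀, t ≫ P₀.ι = f → ∀ g ∈ F, t.appTop g = 0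
  have hgenQ : ∀ {T : Over (Spec X.functionField)} (x : T ⟶ GK),
      (∃ h : T ⟶ Hη, h ≫ i = x) ↔ Qs (Groth.GrpschAbsch.bcPt sp x).left := by
    intro T x
    have hx : (x.left ≫ ρK) ≫ P₀.ι = (Groth.GrpschAbsch.bcPt sp x).left := by
      rw [Category.assoc, hρK]; rfl
    constructor
    · rintro ⟨h, rfl⟩ t ht g hg
      obtain ⟨b, hb, rfl⟩ := Finset.mem_image.1 hg
      have hb0 : i.left.appTop b = 0 := (hbs ▸ Ideal.subset_span hb : b ∈ RingHom.ker i.left.appTop.hom)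
      rw [(cancel_mono P₀.ι).1 (ht.trans hx.symm), Scheme.Hom.comp_appTop, CommRingCat.comp_apply, ← hnd,
        map_mul, Over.comp_left, Scheme.Hom.comp_appTop, CommRingCat.comp_apply, hb0, map_zero, zero_mul]
    · intro hQ
      have hker : ∀ g ∈ RingHom.ker i.left.appTop.hom, x.left.appTop g = 0 := by
        have : RingHom.ker i.left.appTop.hom ≤ RingHom.ker x.left.appTop.hom := by
          rw [← hbs, Ideal.span_le]
          intro b hb
          have h1 := hQ _ hx (num b) (Finset.mem_image.2 ⟨b, hb, rfl⟩)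
          rw [Scheme.Hom.comp_appTop, CommRingCat.comp_apply, ← hnd, map_mul] at h1
          exact ((hden b).map x.left.appTop.hom).mul_left_eq_zero.1 h1
        exact fun g hg => this hg
      obtain ⟨z, hz⟩ := (exists_factor_ker i.left x.left).2 hker
      exact ⟨Over.homMk z (by rw [← Over.w i, ← Category.assoc, hz, Over.w x]),
        Over.OverMorphism.ext hz⟩
  -- over the generic point the points form a subgroup
  have gsub : ∀ {T : Over X} (t : T.left ⟶ Spec X.functionField), t ≫ sp = T.hom →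
      Qs (1 : T ⟶ G).left ∧ (∀ a b : T ⟶ G, Qs a.left → Qs b.left → Qs (a * b).left) ∧
        ∀ a : T ⟶ G, Qs a.left → Qs a⁻¹.left := by
    intro T t ht
    let T' : Over (Spec X.functionField) := Over.mk t
    let c : Over.mk (T'.hom ≫ sp) ⟶ T := Over.homMk (𝟙 T.left) (by simp [T', ht])
    have hc : ∀ a : T ⟶ G, (c ≫ a).left = a.left := fun a => Category.id_comp _
    have hfac : ∀ a : T ⟶ G, Qs a.left → ∃ h : T' ⟶ Hη, Groth.GrpschAbsch.bcPt sp (h ≫ i) = c ≫ a := by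
      intro a ha
      obtain ⟨x, hx⟩ := Groth.GrpschAbsch.bcPt_exists sp (X := T') (c ≫ a)
      obtain ⟨h, hh⟩ := (hgenQ x).2 (by rw [hx, hc]; exact ha)
      exact ⟨h, by rw [hh, hx]⟩
    have hback : ∀ (a : T ⟶ G) (h : T' ⟶ Hη), Groth.GrpschAbsch.bcPt sp (h ≫ i) = c ≫ a → Qs a.left := by
      intro a h hh
      rw [← hc a, ← hh]
      exact (hgenQ _).1 ⟨h, rfl⟩
    refine ⟨hback 1 1 ?_, fun a b ha hb => ?_, fun a ha => ?_⟩
    · rw [MonObj.comp_one, MonObj.one_comp, Groth.GrpschAbsch.bcPt_one]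
    · obtain ⟨h, hh⟩ := hfac a ha
      obtain ⟨h', hh'⟩ := hfac b hb
      refine hback _ (h * h') ?_
      rw [MonObj.comp_mul, MonObj.mul_comp, Groth.GrpschAbsch.bcPt_mul, hh, hh']
    · obtain ⟨h, hh⟩ := hfac a ha
      refine hback _ h⁻¹ ?_
      rw [GrpObj.comp_inv, GrpObj.inv_comp]
      refine eq_inv_of_mul_eq_one_left ?_
      rw [← hh, ← Groth.GrpschAbsch.bcPt_mul, inv_mul_cancel, Groth.GrpschAbsch.bcPt_one]
  -- spreading a universal relation
  have univ : ∀ (W : Over X) [IsAffine W.left], W.hom ⁻¹ᵁ U₀ = ⊤ → ∀ o : W ⟶ G,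
      (∀ (T : Over X) (t : T.left ⟶ Spec X.functionField), t ≫ sp = T.hom → ∀ m : T ⟶ W, Qs (m ≫ o).left) →
      ∃ V : X.Opens, V ≤ U₀ ∧ genericPoint X ∈ V ∧
        ∀ (T : Over X), (∀ x, T.hom x ∈ V) → ∀ m : T ⟶ W, Qs (m ≫ o).left := by
    intro W _ hW o ho
    let t₁ : W.left ⟶ G₀ := IsOpenImmersion.lift P₀.ι o.left (by
      rintro _ ⟨x, rfl⟩
      rw [Scheme.Opens.range_ι]
      show (o.left ≫ G.hom) x ∈ U₀
      rw [Over.w o]
      exact hW.ge (Set.mem_univ x))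
    have ht₁ : t₁ ≫ P₀.ι = o.left := IsOpenImmersion.lift_fac _ _ _
    obtain ⟨V, hV1, hV2, hV3⟩ := exists_open_vanish_finset hU hη W.hom hW (F.image t₁.appTop) (by
      intro T z t hzt w hw
      obtain ⟨g, hg, rfl⟩ := Finset.mem_image.1 hw
      have := ho (Over.mk (z ≫ W.hom)) t hzt (Over.homMk z rfl) (z ≫ t₁)
        (by rw [Category.assoc, ht₁]; rfl) g hg
      rwa [Scheme.Hom.comp_appTop, CommRingCat.comp_apply] at this)
    refine ⟨V, hV1, hV2, fun T hT m t ht g hg => ?_⟩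
    rw [(cancel_mono P₀.ι).1 (show t ≫ P₀.ι = (m.left ≫ t₁) ≫ P₀.ι by
      rw [ht, Category.assoc, ht₁]; rfl), Scheme.Hom.comp_appTop, CommRingCat.comp_apply]
    exact hV3 m.left (fun x => by rw [Over.w m]; exact hT x) _ (Finset.mem_image.2 ⟨g, hg, rfl⟩)
  let J : Ideal Γ(G₀, ⊤) := Ideal.span F
  let c₀ : Spec (CommRingCat.of (Γ(G₀, ⊤) ⧸ J)) ⟶ G₀ :=
    Spec.map (CommRingCat.ofHom (Ideal.Quotient.mk J)) ≫ G₀.isoSpec.inv
  have : IsClosedImmersion (Spec.map (CommRingCat.ofHom (Ideal.Quotient.mk J))) :=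
    IsClosedImmersion.spec_of_surjective _ Ideal.Quotient.mk_surjective
  have : IsClosedImmersion c₀ := inferInstance
  have hQiff : ∀ {T : Scheme.{u}} (t : T ⟶ G₀), Qs (t ≫ P₀.ι) ↔ ∃ z, z ≫ c₀ = t := by
    intro T t
    rw [exists_factor_quotient J t]
    constructor
    · intro h g hg
      exact (Ideal.span_le (I := RingHom.ker t.appTop.hom)).2 (fun g hg => h t rfl g hg) hg
    · intro h t' ht' g hg
      rw [(cancel_mono P₀.ι).1 ht']
      exact h g (Ideal.subset_span hg)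
  let N : Over X := Over.mk (c₀ ≫ π₀)
  let n : N ⟶ G := Over.homMk (c₀ ≫ P₀.ι) (Category.assoc _ _ _)
  have : IsAffine N.left := inferInstanceAs (IsAffine (Spec _))
  have hN : N.hom ⁻¹ᵁ U₀ = ⊤ := top_unique fun x _ => (c₀ x).2
  have hn : ∀ {T : Over X} (m : T ⟶ N), Qs (m ≫ n).left := fun {T} m => by
    rw [show (m ≫ n).left = (m.left ≫ c₀) ≫ P₀.ι from (Category.assoc _ _ _).symm]
    exact (hQiff _).2 ⟨m.left, rfl⟩
  let a₀ : N.left ⟶ U₀.toScheme := IsOpenImmersion.lift U₀.ι N.hom (by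
    rintro _ ⟨x, rfl⟩
    rw [Scheme.Opens.range_ι]
    exact hN.ge (Set.mem_univ x))
  have ha₀ : a₀ ≫ U₀.ι = N.hom := IsOpenImmersion.lift_fac _ _ _
  have : IsAffine U₀.toScheme := hU
  have hNN : IsAffine (N ⊗ N).left := by
    have hp : IsPullback (pullback.fst a₀ a₀) (pullback.snd a₀ a₀) N.hom N.hom := by
      rw [← ha₀]
      exact ⟨⟨by rw [← Category.assoc, ← Category.assoc, pullback.condition]⟩,
        ⟨pullbackIsPullbackOfCompMono a₀ a₀ U₀.ι⟩⟩
    exact IsAffine.of_isIso (hp.isoPullback.inv : (N ⊗ N).left ⟶ pullback a₀ a₀)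
  have : IsAffine (Over.mk U₀.ι).left := hU
  obtain ⟨V₁, h11, h12, h13⟩ := univ (Over.mk U₀.ι) (top_unique fun x _ => x.2) 1
    fun T t ht m => by rw [MonObj.comp_one]; exact (gsub t ht).1
  obtain ⟨V₂, h21, h22, h23⟩ := univ N hN n⁻¹
    fun T t ht m => by rw [GrpObj.comp_inv]; exact (gsub t ht).2.2 _ (hn m)
  obtain ⟨V₃, h31, h32, h33⟩ := univ (N ⊗ N) (top_unique fun x _ => by
      show (N ⊗ N).hom x ∈ U₀
      rw [← Over.w (fst N N), Scheme.Hom.comp_apply]
      exact hN.ge (Set.mem_univ _)) ((fst N N ≫ n) * (snd N N ≫ n))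
    fun T t ht m => by
      rw [MonObj.comp_mul, ← Category.assoc, ← Category.assoc]
      exact (gsub t ht).2.1 _ _ (hn _) (hn _)
  let U : X.Opens := V₁ ⊓ V₂ ⊓ V₃
  have hUU₀ : U ≤ U₀ := fun x hx => h31 hx.2
  let ηU : Spec X.functionField ⟶ U.toScheme := IsOpenImmersion.lift U.ι sp (by
    rintro _ ⟨x, rfl⟩
    rw [Scheme.Opens.range_ι, show x = IsLocalRing.closedPoint X.functionField from
      Subsingleton.elim (α := PrimeSpectrum X.functionField) _ _, Scheme.fromSpecStalk_closedPoint]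
    exact ⟨⟨h12, h22⟩, h32⟩)
  have hηU : ηU ≫ U.ι = sp := IsOpenImmersion.lift_fac _ _ _
  let GU := Red.bc U.ι G
  let ρU : GU.left ⟶ G₀ := IsOpenImmersion.lift P₀.ι (pullback.fst G.hom U.ι) (by
    rintro _ ⟨x, rfl⟩
    rw [Scheme.Opens.range_ι]
    show (pullback.fst G.hom U.ι ≫ G.hom) x ∈ U₀
    rw [pullback.condition]
    exact hUU₀ (pullback.snd G.hom U.ι x).2)
  have hρU : ρU ≫ P₀.ι = pullback.fst G.hom U.ι := IsOpenImmersion.lift_fac _ _ _
  let HU : Over U.toScheme := Over.mk (pullback.fst ρU c₀ ≫ GU.hom)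
  let j : HU ⟶ GU := Over.homMk (pullback.fst ρU c₀) rfl
  have : IsClosedImmersion j.left := inferInstanceAs (IsClosedImmersion (pullback.fst ρU c₀))
  have : Mono j.left := inferInstance
  have : Mono j := Functor.mono_of_mono_map (Over.forget _) (show Mono j.left from inferInstance)
  have hjQ : ∀ (T : Over U.toScheme) (z : T ⟶ GU),
      (∃ w : T ⟶ HU, w ≫ j = z) ↔ Qs (Groth.GrpschAbsch.bcPt U.ι z).left := by
    intro T z
    have hz : (z.left ≫ ρU) ≫ P₀.ι = (Groth.GrpschAbsch.bcPt U.ι z).left := by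
      rw [Category.assoc, hρU]; rfl
    rw [← hz, hQiff]
    constructor
    · rintro ⟨w, rfl⟩
      refine ⟨w.left ≫ pullback.snd ρU c₀, ?_⟩
      rw [Category.assoc, ← pullback.condition]
      exact (Category.assoc _ _ _).symm
    · rintro ⟨y, hy⟩
      exact ⟨Over.homMk (pullback.lift z.left y hy.symm) (by
          show _ ≫ pullback.fst _ _ ≫ _ = _
          rw [pullback.lift_fst_assoc, Over.w z]),
        Over.OverMorphism.ext (pullback.lift_fst _ _ _)⟩
  have hTU : ∀ (T : Over U.toScheme) (x : T.left), (Over.mk (T.hom ≫ U.ι)).hom x ∈ U :=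
    fun T x => (T.hom x).2
  have hlift : ∀ (T : Over U.toScheme) (a : Over.mk (T.hom ≫ U.ι) ⟶ G), Qs a.left →
      ∃ m : Over.mk (T.hom ≫ U.ι) ⟶ N, m ≫ n = a := by
    intro T a ha
    let t : T.left ⟶ G₀ := IsOpenImmersion.lift P₀.ι a.left (by
      rintro _ ⟨x, rfl⟩
      rw [Scheme.Opens.range_ι]
      show (a.left ≫ G.hom) x ∈ U₀
      rw [Over.w a]
      exact hUU₀ (hTU T x))
    have ht : t ≫ P₀.ι = a.left := IsOpenImmersion.lift_fac _ _ _
    obtain ⟨y, hy⟩ := (hQiff t).1 (by rw [ht]; exact ha)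
    refine ⟨Over.homMk y ?_, Over.OverMorphism.ext ?_⟩
    · show y ≫ c₀ ≫ π₀ = T.hom ≫ U.ι
      rw [← Category.assoc, hy, ← Category.assoc t, ht]
      exact Over.w a
    · show y ≫ c₀ ≫ P₀.ι = a.left
      rw [← Category.assoc, hy, ht]
  obtain ⟨grp, hmon⟩ := Groth.Agf.exists_grpObj_of_subgroup j
    (fun T z => Qs (Groth.GrpschAbsch.bcPt U.ι z).left) hjQ
    (fun T => by
      show Qs (Groth.GrpschAbsch.bcPt U.ι (1 : T ⟶ GU)).left
      rw [Groth.GrpschAbsch.bcPt_one]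
      let m : Over.mk (T.hom ≫ U.ι) ⟶ Over.mk U₀.ι := Over.homMk (T.hom ≫ X.homOfLE hUU₀) (by simp)
      have := h13 _ (fun x => (hTU T x).1.1) m
      rwa [MonObj.comp_one] at this)
    (fun T a b ha hb => by
      show Qs (Groth.GrpschAbsch.bcPt U.ι (a * b)).left
      obtain ⟨ma, hma⟩ := hlift T _ ha
      obtain ⟨mb, hmb⟩ := hlift T _ hb
      rw [Groth.GrpschAbsch.bcPt_mul, ← hma, ← hmb]
      have := h33 _ (fun x => (hTU T x).2) (lift ma mb)
      rwa [MonObj.comp_mul, lift_fst_assoc, lift_snd_assoc] at this)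
    (fun T a ha => by
      show Qs (Groth.GrpschAbsch.bcPt U.ι a⁻¹).left
      obtain ⟨ma, hma⟩ := hlift T _ ha
      have hinv : Groth.GrpschAbsch.bcPt U.ι a⁻¹ = (Groth.GrpschAbsch.bcPt U.ι a)⁻¹ :=
        eq_inv_of_mul_eq_one_left (by
          rw [← Groth.GrpschAbsch.bcPt_mul, inv_mul_cancel, Groth.GrpschAbsch.bcPt_one])
      rw [hinv, ← hma]
      have := h23 _ (fun x => (hTU T x).1.2) ma
      rwa [GrpObj.comp_inv] at this)
  obtain ⟨zη, hzη⟩ := Groth.GrpschAbsch.bcPt_exists U.ι (G := G) (X := Over.mk (Hη.hom ≫ ηU))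
    (Over.homMk (i.left ≫ pullback.fst G.hom sp) (by
      show (i.left ≫ pullback.fst G.hom sp) ≫ G.hom = (Hη.hom ≫ ηU) ≫ U.ι
      rw [Category.assoc, Category.assoc, pullback.condition, hηU, ← Category.assoc]
      exact congrArg (· ≫ sp) (Over.w i)))
  obtain ⟨φ, hφ⟩ := (hjQ _ zη).2 (by
    rw [hzη]
    exact (hgenQ i).1 ⟨𝟙 _, Category.id_comp i⟩)
  have hφ' : φ.left ≫ j.left ≫ pullback.fst G.hom U.ι = i.left ≫ pullback.fst G.hom sp := by
    rw [← Category.assoc, ← Over.comp_left, hφ]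
    exact congrArg Over.Hom.left hzη
  have : Mono ηU := by
    have : Mono (ηU ≫ U.ι) := by rw [hηU]; infer_instance
    exact mono_of_mono ηU U.ι
  have hw : φ.left ≫ HU.hom = Hη.hom ≫ ηU := Over.w φ
  have key : ∀ {T : Scheme.{u}} (a : T ⟶ HU.left) (b : T ⟶ Spec X.functionField),
      a ≫ HU.hom = b ≫ ηU → ∃ l : T ⟶ Hη.left, l ≫ φ.left = a ∧ l ≫ Hη.hom = b := by
    intro T a b hab
    let T' : Over (Spec X.functionField) := Over.mk b
    let a' : Over.mk (b ≫ ηU) ⟶ HU := Over.homMk a hab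
    let y : Over.mk (T'.hom ≫ sp) ⟶ G := Over.homMk ((a ≫ j.left) ≫ pullback.fst G.hom U.ι) (by
      show ((a ≫ j.left) ≫ pullback.fst G.hom U.ι) ≫ G.hom = b ≫ sp
      rw [Category.assoc, pullback.condition, ← Category.assoc, Category.assoc a, ← hηU, ← Category.assoc b, ← hab]
      exact congrArg (fun e => (a ≫ e) ≫ U.ι) (Over.w j))
    obtain ⟨x, hx⟩ := Groth.GrpschAbsch.bcPt_exists sp y
    obtain ⟨h, hh⟩ := (hgenQ x).2 (by
      rw [hx]
      exact (hjQ _ (a' ≫ j)).1 ⟨a', rfl⟩)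
    refine ⟨h.left, ?_, Over.w h⟩
    rw [← cancel_mono j.left]
    apply pullback.hom_ext
    · rw [Category.assoc, Category.assoc, hφ', ← Category.assoc, ← Over.comp_left, hh]
      exact congrArg Over.Hom.left hx
    · have hj : j.left ≫ pullback.snd G.hom U.ι = HU.hom := rfl
      rw [Category.assoc, Category.assoc, Category.assoc, hj, hw, ← Category.assoc, Over.w h]
      exact hab.symm
  refine ⟨U, ηU, HU, grp, j, φ.left, hηU, hmon, ‹_›, ⟨⟨hw⟩, ⟨PullbackCone.IsLimit.mk hw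
    (fun c => (key c.fst c.snd c.condition).choose) (fun c => (key c.fst c.snd c.condition).choose_spec.1)
    (fun c => (key c.fst c.snd c.condition).choose_spec.2) fun c m h1 h2 => ?_⟩⟩, hφ'⟩
  rw [← cancel_mono i.left]
  obtain ⟨h3, h4⟩ := (key c.fst c.snd c.condition).choose_spec
  apply pullback.hom_ext
  · rw [Category.assoc, Category.assoc, ← hφ', reassoc_of% h1, reassoc_of% h3]
  · have hi : i.left ≫ pullback.snd G.hom sp = Hη.hom := Over.w i
    rw [Category.assoc, Category.assoc, hi]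
    exact h2.trans h4.symm

end Groth.Agent.S18029
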