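import Groth.Statements.S1803
import Groth.Agent.DualCore.FieldExt

set_option autoImplicit false
universe u
open scoped TensorProduct
open Goren

namespace Groth.Agent.S1803

/-- Let k'/k be any field extension, C a k-algebra of finite type, q a prime of C ⊗_k k' and p its
contraction to C. Then C_p is Gorenstein if and only if (C ⊗_k k')_q is Gorenstein. -/
theorem result (k k' : Type u) [Field k] [Field k'] [Algebra k k'] (C : Type u) [CommRing C] [Algebra k C] [Algebra.FiniteType k C] (q : PrimeSpectrum (C ⊗[k] k')) : LocCoh.IsGorensteinLocalRing (Localization.AtPrime (q.asIdeal.comap (algebraMap C (C ⊗[k] k')))) ↔ LocCoh.IsGorensteinLocalRing (Localization.AtPrime q.asIdeal) := by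
  haveI : IsNoetherianRing C := Algebra.FiniteType.isNoetherianRing k C
  haveI : IsNoetherianRing (k' ⊗[k] C) := Algebra.FiniteType.isNoetherianRing k' _
  haveI : IsNoetherianRing (C ⊗[k] k') :=
    isNoetherianRing_of_ringEquiv (k' ⊗[k] C) (Algebra.TensorProduct.comm k k' C).toRingEquiv
  have h := GrothGoren.exists_injLT_atPrime_iff (A := C) q.asIdeal
  obtain ⟨Q, hQ, ⟨e⟩⟩ := Groth.DualCore.exists_fibre_localization_equiv (A := C) q.asIdeal
  obtain hs := Groth.DualCore.exists_fg_residueField (k := k) C (q.asIdeal.comap (algebraMap C (C ⊗[k] k')))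
  haveI := GrothGoren.isGorensteinRing_of_isRegularRing k'
  haveI := GrothGoren.isGorensteinRing_tensor_fg hs k'
  haveI := GrothGoren.isGorensteinRing_of_ringEquiv
    (Groth.DualCore.fibreTensorEquiv (k := k) C k' (q.asIdeal.comap (algebraMap C (C ⊗[k] k')))).symm.toRingEquiv
  haveI := LocCoh.IsGorensteinRing.isGorensteinLocalRing_localization
    (A := (q.asIdeal.comap (algebraMap C (C ⊗[k] k'))).Fiber (C ⊗[k] k')) Q
  have hfib := (GrothGoren.exists_injLT_iff_of_ringEquiv (R := Localization.AtPrime Q) e).1
    ((GrothGoren.isGorenstein_iff _).1 inferInstance)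
  haveI : IsNoetherianRing (Localization.AtPrime q.asIdeal) :=
    IsLocalization.isNoetherianRing q.asIdeal.primeCompl _ inferInstance
  haveI : IsNoetherianRing (Localization.AtPrime (q.asIdeal.comap (algebraMap C (C ⊗[k] k')))) :=
    IsLocalization.isNoetherianRing (q.asIdeal.comap (algebraMap C (C ⊗[k] k'))).primeCompl _ inferInstance
  rw [GrothGoren.isGorenstein_iff, GrothGoren.isGorenstein_iff, h]
  exact ⟨fun hB => ⟨hB, hfib⟩, fun hB => hB.1⟩

end Groth.Agent.S1803
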