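import Groth.Statements.S18040
import Groth.Agent.Misc6.CBPoints
-- import your own Groth.Agent.* helpers here

set_option autoImplicit false
universe u
open AdjLin

namespace Groth.Agent.S18040

/-- Let k be an algebraically closed field of characteristic zero and Z a finite set of points of
projective 3-space over k, realised as points of the projectivization of k⁴, a homogeneous form in
four variables being evaluated at the chosen representative of a point (its vanishing does not
depend on the choice). Suppose Z has the Cayley–Bacharach property in degree n: every form of degree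
n vanishing at all points of Z but one vanishes at that point as well. Then for every m ≤ n, either
there is a nonzero form of degree n − m vanishing at every point of Z, or the rank of the evaluation
map from forms of degree m to functions on Z is at most the number of points of Z minus the
dimension of the space of forms of degree n − m. -/
theorem result (k : Type u) [Field k] [IsAlgClosed k] [CharZero k]
    (Z : Finset (Projectivization k (Fin 4 → k))) (n : ℕ)
    (hCB : (∀ z ∈ Z, ∀ p : MvPolynomial (Fin 4) k, p.IsHomogeneous n →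
      (∀ z' ∈ Z, z' ≠ z → MvPolynomial.eval z'.rep p = 0) → MvPolynomial.eval z.rep p = 0))
    (m : ℕ) (hm : m ≤ n) :
    (∃ s : MvPolynomial (Fin 4) k, s.IsHomogeneous (n - m) ∧ s ≠ 0 ∧ ∀ z ∈ Z, MvPolynomial.eval z.rep s = 0) ∨
      Module.finrank k (LinearMap.range
          ((LinearMap.pi fun z : ↥Z => (MvPolynomial.aeval (R := k) z.1.rep).toLinearMap) ∘ₗ
            (MvPolynomial.homogeneousSubmodule (Fin 4) k m).subtype)) +
        Module.finrank k ↥(MvPolynomial.homogeneousSubmodule (Fin 4) k (n - m)) ≤ Z.card := by
  classical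
  let R : ℕ → Submodule k (↥Z → k) := fun a => LinearMap.range
    ((LinearMap.pi fun z : ↥Z => (MvPolynomial.aeval (R := k) z.1.rep).toLinearMap) ∘ₗ
      (MvPolynomial.homogeneousSubmodule (Fin 4) k a).subtype)
  by_cases h0 : ∃ s : MvPolynomial (Fin 4) k, s.IsHomogeneous (n - m) ∧ s ≠ 0 ∧
      ∀ z ∈ Z, MvPolynomial.eval z.rep s = 0
  · exact .inl h0
  refine .inr ?_
  have hev : ∀ (p : MvPolynomial (Fin 4) k) (z : ↥Z),
      MvPolynomial.aeval (R := k) z.1.rep p = MvPolynomial.eval z.1.rep p := fun p z => rfl
  have hinj : Module.finrank k ↥(MvPolynomial.homogeneousSubmodule (Fin 4) k (n - m)) =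
      Module.finrank k (R (n - m)) := by
    refine (LinearMap.finrank_range_of_inj ?_).symm
    rw [injective_iff_map_eq_zero]
    intro p hp
    by_contra hne
    exact h0 ⟨p.1, p.2, fun e => hne (Subtype.ext e), fun z hz => congrFun hp ⟨z, hz⟩⟩
  obtain ⟨Λ, hΛ, hne⟩ := Module.Dual.exists_forall_mem_ne_zero_of_forall_exists
    (R n).dualAnnihilator (fun z : ↥Z => Module.Dual.eval k (↥Z → k) (Pi.single z 1)) fun z => by
      have hz : (Pi.single z 1 : ↥Z → k) ∉ R n := by
        rintro ⟨p, hp⟩
        have hval : ∀ w : ↥Z, MvPolynomial.eval w.1.rep p.1 = (Pi.single z 1 : ↥Z → k) w :=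
          fun w => congrFun hp w
        have := hCB z.1 z.2 p.1 p.2 fun z' hz' hne => by
          rw [hval ⟨z', hz'⟩, Pi.single_eq_of_ne (fun e => hne (congrArg Subtype.val e))]
        rw [hval z, Pi.single_eq_same] at this
        exact one_ne_zero this
      obtain ⟨f, hf, hf'⟩ := Submodule.exists_dual_map_eq_bot_of_notMem hz inferInstance
      exact ⟨f, (Submodule.mem_dualAnnihilator f).2 fun w hw =>
        (Submodule.eq_bot_iff _).1 hf' _ (Submodule.mem_map_of_mem hw), hf⟩
  let Ψ : (↥Z → k) →ₗ[k] Module.Dual k (↥Z → k) := (LinearMap.mul k (↥Z → k)).compr₂ Λ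
  have hΨ : Function.Injective Ψ := by
    rw [injective_iff_map_eq_zero]
    intro f hf
    funext z
    have h := congrArg (fun F : Module.Dual k (↥Z → k) => F (Pi.single z 1)) hf
    change Λ (f * Pi.single z 1) = 0 at h
    have e : f * Pi.single z 1 = f z • (Pi.single z 1 : ↥Z → k) := by
      funext w
      rcases eq_or_ne w z with rfl | hw
      · simp
      · simp [Pi.single_eq_of_ne hw]
    rw [e, map_smul, smul_eq_mul] at h
    exact (mul_eq_zero.1 h).resolve_right (hne z)
  have hmap : (R m).map Ψ ≤ (R (n - m)).dualAnnihilator := by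
    rintro _ ⟨f, ⟨p, rfl⟩, rfl⟩
    rw [Submodule.mem_dualAnnihilator]
    rintro _ ⟨q, rfl⟩
    refine (Submodule.mem_dualAnnihilator Λ).1 hΛ _ ⟨⟨p.1 * q.1, ?_⟩, ?_⟩
    · have := p.2.mul q.2
      rwa [Nat.add_sub_cancel' hm] at this
    · funext z
      exact map_mul (MvPolynomial.aeval (R := k) z.1.rep) p.1 q.1
  have h1 := Submodule.finrank_mono hmap
  rw [(Submodule.equivMapOfInjective Ψ hΨ (R m)).finrank_eq.symm] at h1
  have h2 := Subspace.finrank_add_finrank_dualAnnihilator_eq (R (n - m))
  rw [Module.finrank_pi, Fintype.card_coe] at h2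
  rw [hinj]
  change Module.finrank k (R m) + Module.finrank k (R (n - m)) ≤ Z.card
  omega

end Groth.Agent.S18040
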