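import Groth.Statements.S18041
import Groth.Agent.Misc6.CBPoints
-- import your own Groth.Agent.* helpers here

set_option autoImplicit false
universe u
open AdjLin

namespace Groth.Agent.S18041

/-- Let k be an algebraically closed field of characteristic zero, n ≥ 1, and Z a nonempty finite set of
points of projective 3-space over k (points of the projectivization of k⁴, forms in four variables
being evaluated at the chosen representative). Suppose Z has the Cayley–Bacharach property in degree
n: every form of degree n vanishing at all points of Z but one vanishes at that point as well. Then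
Z has at least n + 2 points; and if Z has at most 2n + 1 points, all points of Z lie on one line
(their lines in k⁴ lie in a common 2-dimensional subspace). (The source states this for an arbitrary
zero-dimensional subscheme with length in place of cardinality; only the reduced case is stated
here. The lower bound needs Z nonempty: the empty set has the Cayley–Bacharach property vacuously.) -/
theorem result (k : Type u) [Field k] [IsAlgClosed k] [CharZero k]
    (Z : Finset (Projectivization k (Fin 4 → k))) (hZ : Z.Nonempty) (n : ℕ) (hn : 1 ≤ n)
    (hCB : (∀ z ∈ Z, ∀ p : MvPolynomial (Fin 4) k, p.IsHomogeneous n →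
      (∀ z' ∈ Z, z' ≠ z → MvPolynomial.eval z'.rep p = 0) → MvPolynomial.eval z.rep p = 0)) :
    n + 2 ≤ Z.card ∧
      (Z.card ≤ 2 * n + 1 → ∃ W : Submodule k (Fin 4 → k), Module.finrank k ↥W = 2 ∧ ∀ z ∈ Z, z.submodule ≤ W) := by
  refine ⟨Groth.Misc6.CB.Prop'.card_ge (n := n) hCB hZ, fun hc => ?_⟩
  obtain ⟨W, hW, hall⟩ := Groth.Misc6.CB.Prop'.collinear (n := n) hCB hZ hc
  exact ⟨W, hW, fun z hz => (Groth.Misc6.CB.rep_mem_iff z W).2 (hall z hz)⟩

end Groth.Agent.S18041
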