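import Groth.Statements.S18042
import Groth.Agent.Misc6.CBPoints
-- import your own Groth.Agent.* helpers here

set_option autoImplicit false
universe u
open AdjLin

namespace Groth.Agent.S18042

/-- Let k be an algebraically closed field of characteristic zero, n ≥ 1, and Z a finite set of points
of projective 3-space over k (points of the projectivization of k⁴, forms in four variables being
evaluated at the chosen representative) with the Cayley–Bacharach property in degree n: every form
of degree n vanishing at all points of Z but one vanishes at that point as well. If Z has at most 3n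
+ 1 points, then either all points of Z lie in one plane (a common 3-dimensional subspace of k⁴), or
they lie on the union of two skew lines (two 2-dimensional subspaces of k⁴ meeting in zero), each
line carrying at least n + 1 points of Z, and Z has at least 2n + 3 points. (The source states this
for an arbitrary zero-dimensional subscheme, with a third alternative, containment in the
first-order thickening of a line; for the reduced subschemes treated here that alternative is a case
of coplanarity.) -/
theorem result (k : Type u) [Field k] [IsAlgClosed k] [CharZero k]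
    (Z : Finset (Projectivization k (Fin 4 → k))) (n : ℕ) (hn : 1 ≤ n)
    (hCB : (∀ z ∈ Z, ∀ p : MvPolynomial (Fin 4) k, p.IsHomogeneous n →
      (∀ z' ∈ Z, z' ≠ z → MvPolynomial.eval z'.rep p = 0) → MvPolynomial.eval z.rep p = 0))
    (hcard : Z.card ≤ 3 * n + 1) :
    (∃ W : Submodule k (Fin 4 → k), Module.finrank k ↥W = 3 ∧ ∀ z ∈ Z, z.submodule ≤ W) ∨
      (∃ W₁ W₂ : Submodule k (Fin 4 → k), Module.finrank k ↥W₁ = 2 ∧ Module.finrank k ↥W₂ = 2 ∧ W₁ ⊓ W₂ = ⊥ ∧
        (∀ z ∈ Z, z.submodule ≤ W₁ ∨ z.submodule ≤ W₂) ∧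
        n + 1 ≤ Set.ncard {z : Projectivization k (Fin 4 → k) | z ∈ Z ∧ z.submodule ≤ W₁} ∧
        n + 1 ≤ Set.ncard {z : Projectivization k (Fin 4 → k) | z ∈ Z ∧ z.submodule ≤ W₂} ∧
        2 * n + 3 ≤ Z.card) := by
  rcases Groth.Misc6.CB.Prop'.coplanar_or_skew (n := n) hCB hcard with
    ⟨W, hW, hall⟩ | ⟨-, L, M, hL, hM, hLM, hcov, c1, c2⟩
  · obtain ⟨W', hle, hW'⟩ := Groth.Misc6.CB.exists_ge_finrank_eq W hW
      (by rw [Module.finrank_fin_fun]; norm_num)
    exact .inl ⟨W', hW', fun z hz => (Groth.Misc6.CB.rep_mem_iff z W').2 (hle (hall z hz))⟩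
  · classical
    refine .inr ⟨L, M, hL, hM, hLM, fun z hz => (hcov z hz).imp
      (Groth.Misc6.CB.rep_mem_iff z L).2 (Groth.Misc6.CB.rep_mem_iff z M).2, ?_, ?_, ?_⟩
    · refine le_trans (by omega : n + 1 ≤ (Groth.Misc6.CB.off Z M).card) ?_
      rw [← Set.ncard_coe_finset]
      refine Set.ncard_le_ncard (fun z hz => ?_) (Z.finite_toSet.subset fun z hz => hz.1)
      obtain ⟨hzZ, hzM⟩ := Groth.Misc6.CB.mem_off.1 hz
      exact ⟨hzZ, (Groth.Misc6.CB.rep_mem_iff z L).2 ((hcov z hzZ).resolve_right hzM)⟩
    · refine le_trans (by omega : n + 1 ≤ (Groth.Misc6.CB.off Z L).card) ?_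
      rw [← Set.ncard_coe_finset]
      refine Set.ncard_le_ncard (fun z hz => ?_) (Z.finite_toSet.subset fun z hz => hz.1)
      obtain ⟨hzZ, hzL⟩ := Groth.Misc6.CB.mem_off.1 hz
      exact ⟨hzZ, (Groth.Misc6.CB.rep_mem_iff z M).2 ((hcov z hzZ).resolve_left hzL)⟩
    · have hdisj : Disjoint (Groth.Misc6.CB.off Z M) (Groth.Misc6.CB.off Z L) :=
        Finset.disjoint_left.2 fun a ha ha' => (hcov a (Groth.Misc6.CB.mem_off.1 ha).1).elim
          (Groth.Misc6.CB.mem_off.1 ha').2 (Groth.Misc6.CB.mem_off.1 ha).2
      have hsub : (Groth.Misc6.CB.off Z M ∪ Groth.Misc6.CB.off Z L).card ≤ Z.card :=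
        Finset.card_le_card (Finset.union_subset
          (fun a ha => (Groth.Misc6.CB.mem_off.1 ha).1) fun a ha => (Groth.Misc6.CB.mem_off.1 ha).1)
      rw [Finset.card_union_of_disjoint hdisj] at hsub
      omega

end Groth.Agent.S18042
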