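import Groth.Statements.S18049
import Mathlib
-- import your own Groth.Agent.* helpers here

set_option autoImplicit false
open STCI

namespace Groth.Agent.S18049

theorem core (q g k r : ℕ) (hq : 1 ≤ q) (hk : 2 * g ≤ k) (hr : g ≤ r) :
    q * g + k ≤ r + k * q := by
  obtain ⟨q, rfl⟩ := Nat.exists_eq_add_of_le hq
  nlinarith [Nat.mul_le_mul_left q hk]


/-- For natural numbers 0 < k < N such that k does not divide N, ⌊N/k⌋ ≤ (N - k)/gcd(k, N); stated here
in the equivalent cleared form ⌊N/k⌋ · gcd(k, N) ≤ N - k. -/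
theorem result (k N : ℕ) (hk : 0 < k) (hkN : k < N) (hndvd : ¬ k ∣ N) :
    N / k * Nat.gcd k N ≤ N - k := by
  have hr : 0 < N % k := Nat.pos_of_ne_zero fun h => hndvd (Nat.dvd_of_mod_eq_zero h)
  have hg : 0 < Nat.gcd k N := Nat.gcd_pos_of_pos_left _ hk
  have hgr : Nat.gcd k N ≤ N % k :=
    Nat.le_of_dvd hr ((Nat.dvd_mod_iff (Nat.gcd_dvd_left k N)).mpr (Nat.gcd_dvd_right k N))
  obtain ⟨c, hc⟩ := Nat.gcd_dvd_left k N
  have hc2 : 2 * Nat.gcd k N ≤ k := by
    rcases Nat.lt_or_ge c 2 with h | h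
    · interval_cases c
      · omega
      · exact absurd (hc ▸ (by simpa using Nat.gcd_dvd_right k N)) hndvd
    · calc 2 * Nat.gcd k N ≤ c * Nat.gcd k N := Nat.mul_le_mul_right _ h
        _ = k := by rw [mul_comm]; exact hc.symm
  have := core (N / k) (Nat.gcd k N) k (N % k) ((Nat.one_le_div_iff hk).mpr hkN.le) hc2 hgr
  have := Nat.mod_add_div N k
  omega

end Groth.Agent.S18049
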