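import Groth.Statements.S1805
import Groth.Agent.SuppGood.BaseChange

set_option autoImplicit false
universe u
open CategoryTheory
attribute [local instance] HasDerivedCategory.standard
open LocCoh

namespace Groth.Agent.S1805

/-- Suppose A → B is a flat ring map between Noetherian rings, I is an ideal of A, and K is an object of
D(A); assume the derived base change functor D(A) → D(B) exists. Then for every i the B-module
H^i_{IB} of the base change of K (direct limit of Hom(B/I^nB, (K ⊗^L_A B)[i])) is isomorphic to B
⊗_A H^i_I(K). -/
theorem result (A B : Type u) [CommRing A] [CommRing B] [Algebra A B] [IsNoetherianRing A] [IsNoetherianRing B] [Module.Flat A B] [DRing.HasLBaseChange (algebraMap A B)] (I : Ideal A) (K : Dual.D A) (i : ℤ) : Nonempty (Dual2.HDI B (I.map (algebraMap A B)) ((DRing.LBaseChange (algebraMap A B)).obj K) i ≅ (ModuleCat.extendScalars (algebraMap A B)).obj (Dual2.HDI A I K i)) := by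
  obtain ⟨f⟩ := Groth.SuppGood.nonempty_HDI_baseChange (B := B) I K i
  exact ⟨f.toModuleIso⟩

end Groth.Agent.S1805
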