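import Groth.Statements.S18050
import Mathlib
-- import your own Groth.Agent.* helpers here

set_option autoImplicit false
open STCI

namespace Groth.Agent.S18050

open W4c5stcicurvesp3 in
theorem irem_shift (a b : ℕ) (hb : a % b ≠ 0) : ∀ n, irem a b (n + 1) = irem b (a % b) n
  | 0 => by simp [irem]
  | 1 => by simp [irem, hb]
  | n + 2 => by
      have h1 := irem_shift a b hb n
      have h2 := irem_shift a b hb (n + 1)
      rw [show irem a b (n + 2 + 1) = if irem a b (n + 1 + 1) = 0 then 0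
          else irem a b (n + 1) % irem a b (n + 1 + 1) from rfl, h1, h2]
      rfl

open W4c5stcicurvesp3 in
theorem idiv_shift (a b : ℕ) (hb : a % b ≠ 0) :
    ∀ n, idiv a b (n + 2) = idiv b (a % b) (n + 1)
  | 0 => by simp [irem, idiv, hb]
  | n + 1 => by
      have h1 := irem_shift a b hb n
      have h2 := irem_shift a b hb (n + 1)
      rw [show idiv a b (n + 1 + 2) = if irem a b (n + 1 + 1) = 0 then 0
          else irem a b (n + 1) / irem a b (n + 1 + 1) from rfl, h1, h2]
      rfl

theorem step (a b g : ℕ) (hab : b ≤ a) (hb : 0 < b) (hgb : g ≤ b) (hgr : g ≤ a % b) :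
    a / b * g + b ≤ a := by
  have h := Nat.mod_add_div a b
  have hq : 1 ≤ a / b := (Nat.one_le_div_iff hb).mpr hab
  obtain ⟨q, hq'⟩ := Nat.exists_eq_add_of_le hq
  rw [hq'] at h ⊢
  nlinarith [Nat.mul_le_mul_left q hgb]

open W4c5stcicurvesp3 in
theorem bound : ∀ (t a b : ℕ), 0 < b → b ≤ a → irem a b (t + 1) = 0 →
    (∀ i, 0 < i → i < t + 1 → irem a b i ≠ 0) →
    (∑ i ∈ Finset.range (t + 1), idiv a b (i + 1)) * Nat.gcd b a ≤ a := by
  intro t
  induction t with
  | zero =>
    intro a b hb hab hz hmin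
    simp only [irem] at hz
    have hd : b ∣ a := Nat.dvd_of_mod_eq_zero hz
    simp [idiv, Nat.gcd_eq_left hd, Nat.div_mul_cancel hd]
  | succ t ih =>
    intro a b hb hab hz hmin
    have hne : a % b ≠ 0 := by simpa [irem] using hmin 1 Nat.one_pos (by omega)
    rw [irem_shift a b hne] at hz
    have hmin' : ∀ i, 0 < i → i < t + 1 → irem b (a % b) i ≠ 0 := fun i hi hit => by
      rw [← irem_shift a b hne]; exact hmin (i + 1) (by omega) (by omega)
    have hlt := Nat.mod_lt a hb
    have := ih b (a % b) (Nat.pos_of_ne_zero hne) hlt.le hz hmin'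
    rw [← Nat.gcd_rec b a] at this
    rw [Finset.sum_range_succ']
    simp only [idiv_shift a b hne]
    rw [show idiv a b (0 + 1) = a / b from rfl, add_mul]
    have hgr : Nat.gcd b a ≤ a % b :=
      Nat.le_of_dvd (Nat.pos_of_ne_zero hne)
        ((Nat.dvd_mod_iff (Nat.gcd_dvd_left b a)).mpr (Nat.gcd_dvd_right b a))
    have := step a b _ hab hb (le_trans hgr hlt.le) hgr
    omega


open W4c5stcicurvesp3 in
/-- Let k ≤ N be positive integers, let t be the least positive integer with rem_t(N, k) = 0, where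
rem_0 = k, rem_1 = N mod k and rem_i is the remainder of rem_{i-2} by rem_{i-1} (iterated Euclidean
remainders), and let d_i be the corresponding iterated quotients (d_1 = ⌊N/k⌋, d_i =
⌊rem_{i-2}/rem_{i-1}⌋). Then d_1 + ⋯ + d_t ≤ N/gcd(k, N); stated in the cleared form (d_1 + ⋯ + d_t)
· gcd(k, N) ≤ N. -/
theorem result (k N t : ℕ) (hk : 0 < k) (hkN : k ≤ N) (ht : 0 < t)
    (hzero : irem N k t = 0) (hmin : ∀ i, 0 < i → i < t → irem N k i ≠ 0) :
    (∑ i ∈ Finset.Icc 1 t, idiv N k i) * Nat.gcd k N ≤ N := by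
  obtain ⟨t, rfl⟩ : ∃ s, t = s + 1 := ⟨t - 1, by omega⟩
  have h := bound t N k hk hkN hzero hmin
  have e : ∑ i ∈ Finset.Icc 1 (t + 1), idiv N k i = ∑ i ∈ Finset.range (t + 1), idiv N k (i + 1) := by
    rw [Finset.sum_bij (fun i _ => i - 1)]
    · intro i hi; simp at hi ⊢; omega
    · intro i hi j hj; simp at hi hj; omega
    · intro j hj; exact ⟨j + 1, by simp at hj ⊢; omega, by simp⟩
    · intro i hi; simp at hi; congr 1; omega
  rw [e]; exact h

end Groth.Agent.S18050
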