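import Groth.Statements.S18051
import Mathlib
-- import your own Groth.Agent.* helpers here

set_option autoImplicit false
open STCI

namespace Groth.Agent.S18051

theorem core (q d k x y : ℚ) (hq : 2 ≤ q) (hd : 1 ≤ d) (hy : 0 ≤ y) (hyx : y ≤ x)
    (hx : x ≤ k) (hk : k = d * x + y) (hd' : d = 1 ∨ 2 ≤ d) (hkpos : 0 < k) :
    (k - x) / q + (x - y) / (q + d) + y / (q + d + 1) ≤ k ^ 2 / (q * k + x) := by
  have hN : 0 < q * k + x := by nlinarith
  have key : 0 ≤ x * (q + d + 1) * ((d - 1) * k * (q - 1) - y) + q * y * (q * k + x) := by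
    rcases hd' with rfl | h2
    · subst hk
      nlinarith [mul_nonneg hy (mul_nonneg (sub_nonneg.mpr hq) (le_trans hy hyx)), mul_nonneg hy hy,
        mul_nonneg (mul_nonneg hy hy) (show (0:ℚ) ≤ q by linarith),
        mul_nonneg (mul_nonneg hy (le_trans hy hyx)) (show (0:ℚ) ≤ q ^ 2 - 2 by nlinarith)]
    · have h1 : k ≤ (d - 1) * k := by nlinarith
      have h3 : (d - 1) * k ≤ (d - 1) * k * (q - 1) := by nlinarith
      have : 0 ≤ (d - 1) * k * (q - 1) - y := by nlinarith
      have : (0:ℚ) ≤ x := le_trans hy hyx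
      positivity
  have hdiff : k ^ 2 / (q * k + x) - ((k - x) / q + (x - y) / (q + d) + y / (q + d + 1))
      = (x * (q + d + 1) * ((d - 1) * k * (q - 1) - y) + q * y * (q * k + x)) /
        (q * (q + d) * (q + d + 1) * (q * k + x)) := by
    have h1 : q ≠ 0 := by positivity
    have h2 : q + d ≠ 0 := by positivity
    have h3 : q + d + 1 ≠ 0 := by positivity
    have h4 := hN.ne'
    rw [div_add_div _ _ h1 h2, div_add_div _ _ (mul_ne_zero h1 h2) h3,
      div_sub_div _ _ h4 (mul_ne_zero (mul_ne_zero h1 h2) h3),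
      div_eq_div_iff (mul_ne_zero h4 (mul_ne_zero (mul_ne_zero h1 h2) h3))
        (mul_ne_zero (mul_ne_zero (mul_ne_zero h1 h2) h3) h4)]
    subst hk
    ring
  have : 0 ≤ k ^ 2 / (q * k + x) - ((k - x) / q + (x - y) / (q + d) + y / (q + d + 1)) := by
    rw [hdiff]; exact div_nonneg key (by positivity)
  linarith

open W4c5stcicurvesp3 in
theorem three (k N : ℕ) (hk : 0 < k) (hkN : 2 * k ≤ N) (h1 : irem N k 1 ≠ 0) :
    ((irem N k 0 : ℚ) - irem N k 1) / (idiv N k 1)
      + ((irem N k 1 : ℚ) - irem N k 2) / ((idiv N k 1 : ℚ) + idiv N k 2)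
      + (irem N k 2 : ℚ) / ((idiv N k 1 : ℚ) + idiv N k 2 + 1)
      ≤ (k : ℚ) ^ 2 / N := by
  have e1 : irem N k 1 = N % k := rfl
  have e2 : irem N k 2 = k % (N % k) := by simp [irem] at h1 ⊢; simp [h1]
  have e3 : idiv N k 2 = k / (N % k) := by simp [irem] at h1; simp [idiv, irem, h1]
  rw [e1] at h1
  rw [show irem N k 0 = k from rfl, e1, e2, e3, show idiv N k 1 = N / k from rfl]
  set x := N % k with hx
  have hxk : x < k := Nat.mod_lt _ hk
  set d := k / x with hd
  set y := k % x with hy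
  have hyx : y < x := Nat.mod_lt _ (Nat.pos_of_ne_zero h1)
  have hq : 2 ≤ N / k := (Nat.le_div_iff_mul_le hk).mpr hkN
  have hk' : k = d * x + y := by
    have := Nat.mod_add_div k x; rw [hd, hy, mul_comm (k / x) x]; omega
  have hN : N = N / k * k + x := by
    have := Nat.mod_add_div N k; rw [mul_comm (N / k) k]; omega
  have hd1 : 1 ≤ d := (Nat.one_le_div_iff (Nat.pos_of_ne_zero h1)).mpr hxk.le
  have := core (N / k : ℕ) d k x y (by exact_mod_cast hq) (by exact_mod_cast hd1) (by positivity)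
    (by exact_mod_cast hyx.le) (by exact_mod_cast hxk.le) (by exact_mod_cast hk')
    (by rcases Nat.lt_or_ge d 2 with h | h
        · left; exact_mod_cast (show d = 1 by omega)
        · right; exact_mod_cast h) (by exact_mod_cast hk)
  have hN' : (N : ℚ) = (N / k : ℕ) * (k : ℚ) + x := by exact_mod_cast hN
  rw [hN']
  exact this


open W4c5stcicurvesp3 in
/-- Let k ≤ N/2 be positive integers and let r_i = rem_i(N, k), d_i = div_i(N, k) be the iterated
Euclidean remainders and quotients of (N, k) (r_0 = k, r_1 = N mod k, r_2 = r_0 mod r_1, d_1 =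
⌊N/k⌋, d_2 = ⌊r_0/r_1⌋). If the least positive t with r_t = 0 satisfies t ≥ 3, i.e. r_1 ≠ 0 and r_2
≠ 0, then (r_0 - r_1)/d_1 + (r_1 - r_2)/(d_1 + d_2) + r_2/(d_1 + d_2 + 1) ≤ k²/N (in ℚ). -/
theorem result (k N : ℕ) (hk : 0 < k) (hkN : 2 * k ≤ N)
    (h1 : irem N k 1 ≠ 0) (h2 : irem N k 2 ≠ 0) :
    ((irem N k 0 : ℚ) - irem N k 1) / (idiv N k 1)
      + ((irem N k 1 : ℚ) - irem N k 2) / ((idiv N k 1 : ℚ) + idiv N k 2)
      + (irem N k 2 : ℚ) / ((idiv N k 1 : ℚ) + idiv N k 2 + 1)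
      ≤ (k : ℚ) ^ 2 / N := by
  exact three k N hk hkN h1

end Groth.Agent.S18051
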