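import Groth.Statements.S18052
import Mathlib
import Groth.Agent.S18051
-- import your own Groth.Agent.* helpers here

set_option autoImplicit false
open STCI

namespace Groth.Agent.S18052

open W4c5stcicurvesp3 in
theorem irem_antitone (N k : ℕ) (hk : 0 < k) : ∀ n, irem N k (n + 1) ≤ irem N k n
  | 0 => (Nat.mod_lt N hk).le
  | n + 1 => by
      simp only [irem]
      split_ifs with h
      · exact Nat.zero_le _
      · exact (Nat.mod_lt _ (Nat.pos_of_ne_zero h)).le


open W4c5stcicurvesp3 in
/-- Let k ≤ N/2 be positive integers, let r_i = rem_i(N, k) and d_i = div_i(N, k) be the iterated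
Euclidean remainders and quotients of (N, k) (r_0 = k, r_1 = N mod k, …; d_1 = ⌊N/k⌋, d_i =
⌊r_{i-2}/r_{i-1}⌋), and let t be the least positive integer with r_t = 0. Then the sum over i = 0,
…, t - 1 of (r_i - r_{i+1})/(d_1 + ⋯ + d_{i+1}) is at most k²/N (in ℚ). -/
theorem result (k N t : ℕ) (hk : 0 < k) (hkN : 2 * k ≤ N) (ht : 0 < t)
    (hzero : irem N k t = 0) (hmin : ∀ i, 0 < i → i < t → irem N k i ≠ 0) :
    ∑ i ∈ Finset.range t, ((irem N k i : ℚ) - irem N k (i + 1)) / (∑ j ∈ Finset.Icc 1 (i + 1), (idiv N k j : ℚ))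
      ≤ (k : ℚ) ^ 2 / N := by
  obtain ⟨t, rfl⟩ : ∃ s, t = s + 1 := ⟨t - 1, by omega⟩
  rcases t with _ | t
  · -- one step: `k ∣ N`
    have hd : k ∣ N := Nat.dvd_of_mod_eq_zero (by simpa [irem] using hzero)
    obtain ⟨q, rfl⟩ := hd
    have hk0 : (k : ℚ) ≠ 0 := by exact_mod_cast hk.ne'
    have hq : (q : ℚ) ≠ 0 := by
      have : q ≠ 0 := by rintro rfl; omega
      exact_mod_cast this
    simp [irem, idiv, Nat.mul_div_cancel_left q hk]
    field_simp
    norm_num
  · have h1 : irem N k 1 ≠ 0 := hmin 1 Nat.one_pos (by omega)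
    have h3 := Groth.Agent.S18051.three k N hk hkN h1
    refine le_trans ?_ h3
    set D : ℕ → ℚ := fun i => ∑ j ∈ Finset.Icc 1 (i + 1), (idiv N k j : ℚ) with hD
    have hD0 : D 0 = idiv N k 1 := by simp [hD]
    have hD1 : D 1 = (idiv N k 1 : ℚ) + idiv N k 2 := by
      simp [hD, Finset.sum_Icc_succ_top]
    rw [Finset.sum_range_succ' _ (t + 1), Finset.sum_range_succ' _ t]
    simp only [hD] at hD0 hD1
    norm_num only [hD0, hD1]
    have htail : ∑ i ∈ Finset.range t,
        ((irem N k (i + 1 + 1) : ℚ) - irem N k (i + 1 + 1 + 1)) / (∑ j ∈ Finset.Icc 1 (i + 1 + 1 + 1), (idiv N k j : ℚ))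
        ≤ (irem N k 2 : ℚ) / ((idiv N k 1 : ℚ) + idiv N k 2 + 1) := by
      have hc : 0 < (idiv N k 1 : ℚ) + idiv N k 2 + 1 := by positivity
      refine le_trans (Finset.sum_le_sum fun i hi => div_le_div_of_nonneg_left ?_ hc ?_)
        (le_of_eq_of_le (Finset.sum_div _ _ _).symm ?_)
      · rw [sub_nonneg]; exact_mod_cast irem_antitone N k hk _
      · rw [← hD1]
        simp only [Finset.mem_range] at hi
        have hd : 1 ≤ idiv N k (i + 1 + 1 + 1) := by
          have hne := hmin (i + 1 + 1) (by omega) (by omega)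
          show 1 ≤ idiv N k ((i + 1) + 2)
          simp only [idiv]
          rw [if_neg hne]
          exact (Nat.one_le_div_iff (Nat.pos_of_ne_zero hne)).mpr (irem_antitone N k hk _)
        rw [Finset.sum_Icc_succ_top (by omega : 1 ≤ i + 1 + 1 + 1)]
        refine add_le_add (Finset.sum_le_sum_of_subset_of_nonneg ?_ (fun _ _ _ => by positivity)) (by exact_mod_cast hd)
        intro a ha
        simp only [Finset.mem_Icc] at ha ⊢
        omega
      · refine div_le_div_of_nonneg_right ?_ hc.le
        rw [Finset.sum_range_sub' (fun i => (irem N k (i + 1 + 1) : ℚ))]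
        have : (0 : ℚ) ≤ irem N k (t + 1 + 1) := by positivity
        simp only [zero_add]
        linarith
    norm_num only at htail ⊢
    linarith

end Groth.Agent.S18052
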