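import Groth.Statements.S18053
import Mathlib
-- import your own Groth.Agent.* helpers here

set_option autoImplicit false
open STCI

namespace Groth.Agent.S18053

theorem weight_bound (k : ℕ) (h : 3 ≤ k) : 1 / (((k : ℝ) + 1) * ((k : ℝ) + 2)) ≤ 1 / 20 := by
  have : (3 : ℝ) ≤ k := by exact_mod_cast h
  apply one_div_le_one_div_of_le (by norm_num); nlinarith


/-- Let (p_k)_{k ≥ 1} be a sequence of nonnegative integers and n a nonnegative integer such that (i)
p_1 ≤ 9 - (2/5)n, (ii) p_1 ≥ p_2 ≥ p_3 ≥ ⋯, (iii) Σ_k p_k ≤ 19 - n, and (iv) n/4 + Σ_{k ≥ 1}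
p_k/(k(k+1)) ≥ 6. Then n = 0 and (p_k) is one of (9, 8, 2), (9, 9), (9, 9, 1) (followed by zeros).
Here the sequence is indexed from 0 (so p 0 is p_1 and the weight of p k is 1/((k+1)(k+2))), (iii)
is stated for every partial sum, and the series in (iv) is the real sum Σ' over all k. -/
theorem result (p : ℕ → ℕ) (n : ℕ)
    (h1 : (p 0 : ℝ) ≤ 9 - (2 / 5 : ℝ) * n) (h2 : Antitone p)
    (h3 : ∀ m : ℕ, ((∑ k ∈ Finset.range m, p k : ℕ) : ℝ) ≤ 19 - (n : ℝ))
    (h4 : (6 : ℝ) ≤ (n : ℝ) / 4 + ∑' k : ℕ, (p k : ℝ) / (((k : ℝ) + 1) * ((k : ℝ) + 2))) :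
    n = 0 ∧ (p = (fun k => if k = 0 then 9 else if k = 1 then 8 else if k = 2 then 2 else 0)
      ∨ p = (fun k => if k = 0 then 9 else if k = 1 then 9 else 0)
      ∨ p = (fun k => if k = 0 then 9 else if k = 1 then 9 else if k = 2 then 1 else 0)) := by
  have hn : n ≤ 19 := by
    have := h3 0; simp at this; exact_mod_cast this
  have hS : ∀ m, (∑ k ∈ Finset.range m, p k) + n ≤ 19 := by
    intro m
    have := h3 m
    have h' : (((∑ k ∈ Finset.range m, p k) + n : ℕ) : ℝ) ≤ (19 : ℕ) := by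
      rw [Nat.cast_add]; norm_num only [Nat.cast_ofNat] at this ⊢; linarith
    exact_mod_cast h'
  have hzero : ∀ k, 20 ≤ k → p k = 0 := by
    intro k hk
    by_contra hne
    have h20 := hS 20
    have : 20 * 1 ≤ ∑ i ∈ Finset.range 20, p i := by
      calc 20 * 1 = ∑ i ∈ Finset.range 20, 1 := by simp
        _ ≤ _ := Finset.sum_le_sum fun i hi => by
            simp only [Finset.mem_range] at hi
            have := h2 (show i ≤ k by omega)
            omega
    omega
  set f : ℕ → ℝ := fun k => (p k : ℝ) / (((k : ℝ) + 1) * ((k : ℝ) + 2)) with hf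
  have htsum : ∑' k, f k = ∑ k ∈ Finset.range 20, f k := tsum_eq_sum fun k hk => by
    simp [hf, hzero k (by simpa using hk)]
  rw [htsum] at h4
  have hsplit : ∀ g : ℕ → ℝ, ∑ k ∈ Finset.range 20, g k =
      (g 0 + g 1 + g 2) + ∑ k ∈ Finset.range 17, g (3 + k) := by
    intro g; rw [show (20 : ℕ) = 3 + 17 from rfl, Finset.sum_range_add]; simp [Finset.sum_range_succ]
  rw [hsplit] at h4
  set rest : ℕ := ∑ k ∈ Finset.range 17, p (3 + k) with hrest
  have hrestle : ∑ k ∈ Finset.range 17, f (3 + k) ≤ (rest : ℝ) / 20 := by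
    rw [hrest, Nat.cast_sum, Finset.sum_div]
    refine Finset.sum_le_sum fun k _ => ?_
    have := mul_le_mul_of_nonneg_left (weight_bound (3 + k) (by omega)) (Nat.cast_nonneg (α := ℝ) (p (3 + k)))
    simp only [hf]
    rw [mul_one_div, mul_one_div] at this
    exact this
  have hsum : p 0 + p 1 + p 2 + rest + n ≤ 19 := by
    have := hS 20
    rw [show (20 : ℕ) = 3 + 17 from rfl, Finset.sum_range_add] at this
    rw [show ∑ k ∈ Finset.range 3, p k = p 0 + p 1 + p 2 by simp [Finset.sum_range_succ]] at this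
    omega
  have hf0 : f 0 = (p 0 : ℝ) / 2 := by simp [hf]
  have hf1 : f 1 = (p 1 : ℝ) / 6 := by simp [hf]; norm_num
  have hf2 : f 2 = (p 2 : ℝ) / 12 := by simp [hf]; norm_num
  rw [hf0, hf1, hf2] at h4
  have hmain : 360 ≤ 15 * n + 30 * p 0 + 10 * p 1 + 5 * p 2 + 3 * rest := by
    have : ((360 : ℕ) : ℝ) ≤ ((15 * n + 30 * p 0 + 10 * p 1 + 5 * p 2 + 3 * rest : ℕ) : ℝ) := by
      push_cast; linarith
    exact_mod_cast this
  have h10 : 5 * p 0 + 2 * n ≤ 45 := by
    have : ((5 * p 0 + 2 * n : ℕ) : ℝ) ≤ ((45 : ℕ) : ℝ) := by push_cast; linarith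
    exact_mod_cast this
  have a1 : p 1 ≤ p 0 := h2 (by omega)
  have a2 : p 2 ≤ p 1 := h2 (by omega)
  have hn0 : n = 0 := by omega
  refine ⟨hn0, ?_⟩
  subst hn0
  have hp0 : p 0 = 9 := by omega
  have tail : p 2 = 0 ∨ rest = 0 := by omega
  have htail : ∀ k, 3 ≤ k → p k = 0 := by
    intro k hk
    rcases tail with h | h
    · have := h2 (show 2 ≤ k by omega); omega
    · rcases Nat.lt_or_ge k 20 with h' | h'
      · have := Finset.single_le_sum (f := fun i => p (3 + i)) (fun _ _ => Nat.zero_le _)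
          (Finset.mem_range.mpr (show k - 3 < 17 by omega))
        simp only [show 3 + (k - 3) = k by omega, ← hrest, h] at this
        omega
      · exact hzero k h'
  rcases (show (p 1 = 8 ∧ p 2 = 2) ∨ (p 1 = 9 ∧ p 2 = 0) ∨ (p 1 = 9 ∧ p 2 = 1) by omega) with
    ⟨b1, b2⟩ | ⟨b1, b2⟩ | ⟨b1, b2⟩
  · left; funext k
    match k with
    | 0 => simpa using hp0
    | 1 => simpa using b1
    | 2 => simpa using b2
    | j + 3 => simpa using htail (j + 3) (by omega)
  · right; left; funext k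
    match k with
    | 0 => simpa using hp0
    | 1 => simpa using b1
    | 2 => simpa using b2
    | j + 3 => simpa using htail (j + 3) (by omega)
  · right; right; funext k
    match k with
    | 0 => simpa using hp0
    | 1 => simpa using b1
    | 2 => simpa using b2
    | j + 3 => simpa using htail (j + 3) (by omega)

end Groth.Agent.S18053
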