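import Groth.Statements.S18054
import Mathlib
-- import your own Groth.Agent.* helpers here

set_option autoImplicit false
open STCI

namespace Groth.Agent.S18054

theorem amgm (d t n M c s : ℤ) (hd : 1 ≤ d) (ht : 1 ≤ t) (hn : s * t = d * n) (hM : M = d * t + 10 * n)
    (hc : 0 < d * d - c * d + 10 * s) : c * t < M := by
  have : d * M = t * (d * d + 10 * s) := by subst hM; linear_combination -10 * hn
  by_contra h
  nlinarith [mul_le_mul_of_nonneg_left (not_lt.mp h) (show 0 ≤ d by omega), mul_pos (show 0 < t by omega) hc]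


/-- Let s, t, d, g be integers with t ≥ s ≥ 4, d ≥ 1, g ≥ 0 and d dividing st; put n = st/d and assume n
≥ 2; put r = d[n(s - 4) + t] + (2 - 2g)n and assume r ≤ (s/3)(2s² - 6s + 7) - 1. Then d ≤ g + 3.
(The bound is written cleared of the denominator 3; s(2s² - 6s + 7) is always divisible by 3, so
this is the same condition.) -/
theorem result (s t d g n : ℤ) (hs : 4 ≤ s) (hst : s ≤ t) (hd : 1 ≤ d) (hg : 0 ≤ g)
    (hn : s * t = d * n) (hn2 : 2 ≤ n)
    (hr : 3 * (d * (n * (s - 4) + t) + (2 - 2 * g) * n) ≤ s * (2 * s ^ 2 - 6 * s + 7) - 3) :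
    d ≤ g + 3 := by
  by_contra hcon
  have hg4 : g ≤ d - 4 := by omega
  have hd4 : 4 ≤ d := by omega
  have h10 : (10 - 2 * d) * n ≤ (2 - 2 * g) * n := mul_le_mul_of_nonneg_right (by omega) (by omega)
  set M := d * t + 10 * n with hM
  have hmain : 3 * (t * (s * (s - 6)) + M) ≤ s * (2 * s ^ 2 - 6 * s + 7) - 3 := by
    have : t * (s * (s - 6)) + M ≤ d * (n * (s - 4) + t) + (2 - 2 * g) * n := by
      have : t * (s * (s - 6)) + M = d * (n * (s - 4) + t) + (10 - 2 * d) * n := by
        rw [hM]; linear_combination (s - 6) * hn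
      linarith
    linarith
  rcases (show s = 4 ∨ s = 5 ∨ 6 ≤ s by omega) with rfl | rfl | h6
  · by_cases ht : t = 4
    · subst ht
      have hdle : d ≤ 8 := by nlinarith
      interval_cases d <;> omega
    · have := amgm d t n M 12 4 hd (by omega) hn hM (by nlinarith [sq_nonneg (d - 6)])
      omega
  · have := amgm d t n M 14 5 hd (by omega) hn hM (by nlinarith [sq_nonneg (d - 7)])
    omega
  · have hlt := amgm d t n M 15 s hd (by omega) hn hM (by nlinarith [sq_nonneg (2 * d - 15)])
    have hpos : 0 ≤ s * (s - 6) + 15 := by nlinarith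
    have : s * (s * (s - 6) + 15) ≤ t * (s * (s - 6) + 15) := mul_le_mul_of_nonneg_right hst hpos
    rcases le_or_gt 12 s with h | h
    · nlinarith [mul_nonneg (show 0 ≤ s by omega) (mul_nonneg (show 0 ≤ s by omega) (show 0 ≤ s - 12 by omega))]
    · interval_cases s <;> omega

end Groth.Agent.S18054
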