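import Groth.Statements.S18055
import Mathlib
-- import your own Groth.Agent.* helpers here

set_option autoImplicit false
open STCI

namespace Groth.Agent.S18055


/-- Let d ≥ 1, g ≥ 0 and 1 ≤ s ≤ t be integers with d dividing st, put n = st/d and r = d[n(s - 4) + t]
+ (2 - 2g)n, and assume n ≥ 2, r > 0 and (n - 1) divides r. Then s < 2d² and t < 2d⁴. This is the
statement about the degree data (d, g the degree and genus of the curve, s ≤ t the degrees of the
two surfaces) to which the published proof reduces the degree bound: there the divisibility and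
positivity express that r/(n - 1), the common value of the type numbers of the pair, is a positive
integer; the geometric hypotheses themselves are not part of this row. -/
theorem result (d g s t n : ℤ) (hd : 1 ≤ d) (hg : 0 ≤ g) (hs : 1 ≤ s) (hst : s ≤ t)
    (hn : s * t = d * n) (hn2 : 2 ≤ n)
    (hpos : 0 < d * (n * (s - 4) + t) + (2 - 2 * g) * n)
    (hdvd : (n - 1) ∣ d * (n * (s - 4) + t) + (2 - 2 * g) * n) :
    s < 2 * d ^ 2 ∧ t < 2 * d ^ 4 := by
  obtain ⟨m, hm⟩ := hdvd
  have hm0 : 1 ≤ m := by
    by_contra h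
    have : (n - 1) * m ≤ 0 := mul_nonpos_of_nonneg_of_nonpos (by omega) (by omega)
    omega
  set D := d * (s - 4) + (2 - 2 * g) with hD
  set e := m - D with he
  have h1 : n * e = m + d * t := by rw [he, hD]; linear_combination -hm
  have he1 : 1 ≤ e := by
    by_contra h
    have : n * e ≤ 0 := mul_nonpos_of_nonneg_of_nonpos (by omega) (by omega)
    have : 0 ≤ d * t := by nlinarith
    omega
  have h2 : t * (e * s - d ^ 2) = d * m := by
    linear_combination e * hn + d * h1
  have hDle : D ≤ d * (s - 4) + 2 := by omega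
  have hk : 1 ≤ e * s - d ^ 2 := by
    by_contra h
    have : t * (e * s - d ^ 2) ≤ 0 := mul_nonpos_of_nonneg_of_nonpos (by omega) (by omega)
    have : 0 < d * m := by positivity
    omega
  have hn1 : e * (n - 1) ≤ d * (s + t) - 4 * d + 2 := by
    have : e * (n - 1) = D + d * t := by rw [he] at h1 ⊢; linarith
    rw [this]; linarith
  have hn3 : n - 1 ≤ d * (s + t) - 4 * d + 2 :=
    le_trans (le_mul_of_one_le_left (by omega) he1) hn1
  have hst2 : s * t < d ^ 2 * (s + t) := by
    have : n < d * (s + t) := by omega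
    calc s * t = d * n := hn
      _ < d * (d * (s + t)) := mul_lt_mul_of_pos_left this (by omega)
      _ = _ := by ring
  have hs2 : s < 2 * d ^ 2 := by
    by_contra h
    nlinarith [mul_le_mul_of_nonneg_left (not_lt.mp h) (show 0 ≤ t by omega)]
  refine ⟨hs2, ?_⟩
  by_cases hsd : d ^ 2 < s
  · have h3 : t * (s - d ^ 2) < d ^ 2 * s := by nlinarith
    nlinarith [mul_le_mul_of_nonneg_left (show 1 ≤ s - d ^ 2 by omega) (show 0 ≤ t by omega),
      mul_lt_mul_of_pos_left hs2 (show 0 < d ^ 2 by positivity)]
  · set k := e * s - d ^ 2 with hk'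
    have hek : e ≤ d ^ 2 + k := by
      have := mul_le_mul_of_nonneg_left hs (show 0 ≤ e by omega)
      omega
    have hm' : m ≤ (d * (d ^ 2 - 4) + 2 + d ^ 2) + k := by
      have : d * (s - 4) ≤ d * (d ^ 2 - 4) := mul_le_mul_of_nonneg_left (by omega) (by omega)
      omega
    set c := d * (d ^ 2 - 4) + 2 + d ^ 2 with hc
    have htk : t * k ≤ d * (c + k) := h2 ▸ mul_le_mul_of_nonneg_left hm' (by omega)
    have hcB : d * c < 2 * d ^ 4 - d := by
      rcases eq_or_lt_of_le hd with rfl | hd2
      · norm_num [hc]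
      · rw [hc]; nlinarith [mul_nonneg (sq_nonneg d) (mul_nonneg (show 0 ≤ d by omega) (show 0 ≤ d - 1 by omega))]
    by_contra hcon
    have hB : (0:ℤ) < 2 * d ^ 4 - d := by
      have : d ≤ d ^ 4 := by nlinarith [pow_le_pow_right₀ hd (show 1 ≤ 4 by norm_num)]
      omega
    have : (2 * d ^ 4 - d) * k ≤ (t - d) * k := mul_le_mul_of_nonneg_right (by omega) (by omega)
    have : (2 * d ^ 4 - d) * 1 ≤ (2 * d ^ 4 - d) * k := mul_le_mul_of_nonneg_left hk hB.le
    nlinarith

end Groth.Agent.S18055
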