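import Groth.Statements.S18056
import Mathlib
import Groth.Agent.Ega41Adic.RegularOfSmooth
-- import your own Groth.Agent.* helpers here

set_option autoImplicit false
universe u v
open STCI

namespace Groth.Agent.S18056

open TensorProduct IsLocalRing in
theorem aux {A : Type u} {B : Type v} [CommRing A] [CommRing B]
    [IsLocalRing A] [IsLocalRing B] [IsArtinianRing A] [IsArtinianRing B] [Algebra A B]
    [Module.Flat A B] [Algebra.FormallySmooth A B] :
    Module.length A A = Module.length B B := by
  have hloc : IsLocalHom (algebraMap A B) := ⟨fun a ha => by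
    by_contra h
    obtain ⟨n, hn⟩ := IsArtinianRing.isNilpotent_jacobson_bot (R := A)
    rw [IsLocalRing.jacobson_eq_maximalIdeal _ bot_ne_top] at hn
    have h0 : a ^ n = 0 := by
      rw [← Ideal.mem_bot, ← show maximalIdeal A ^ n = ⊥ from hn]
      exact Ideal.pow_mem_pow ((IsLocalRing.mem_maximalIdeal _).2 h) n
    have h1 := ha.pow n
    rw [← map_pow, h0, map_zero] at h1
    exact not_isUnit_zero h1⟩
  set m := maximalIdeal A
  let _ : Field (A ⧸ m) := Ideal.Quotient.field m
  let K := ULift.{v} (A ⧸ m)
  let _ : Field K := ULift.field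
  let C := K ⊗[A] B
  let e : C ≃+* B ⧸ m.map (algebraMap A B) :=
    ((Algebra.TensorProduct.congr (R := A) (S := A) ULift.algEquiv AlgEquiv.refl).trans
      (Algebra.TensorProduct.comm A (A ⧸ m) B)).toRingEquiv.trans
      (Algebra.TensorProduct.quotIdealMapEquivTensorQuot B m).symm.toRingEquiv
  have hne : m.map (algebraMap A B) ≠ ⊤ :=
    ((map_maximalIdeal_lt_top (algebraMap A B))).ne
  have : Nontrivial (B ⧸ m.map (algebraMap A B)) := Ideal.Quotient.nontrivial_iff.2 hne
  have : IsLocalRing (B ⧸ m.map (algebraMap A B)) :=
    IsLocalRing.of_surjective' (Ideal.Quotient.mk _) Ideal.Quotient.mk_surjective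
  have : IsArtinianRing (B ⧸ m.map (algebraMap A B)) :=
    Ideal.Quotient.mk_surjective.isArtinianRing
  have : IsLocalRing C := e.symm.isLocalRing
  have : IsArtinianRing C := e.symm.surjective.isArtinianRing
  have hreg : IsRegularLocalRing C :=
    Groth.Ega41Adic.isRegularLocalRing_of_isAdicFormallySmooth (k := K)
      (fun E _ _ J hJ ψ _ => Algebra.FormallySmooth.exists_lift J ⟨2, hJ⟩ ψ)
  have hfield : IsField C := by
    rw [IsLocalRing.isField_iff_maximalIdeal_eq]
    have h1 := IsRegularLocalRing.spanFinrank_maximalIdeal (R := C)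
    rw [(ringKrullDimZero_iff_ringKrullDim_eq_zero (R := C)).1 inferInstance] at h1
    have h2 : (maximalIdeal C).spanFinrank = 0 := by exact_mod_cast h1
    exact (Submodule.spanFinrank_eq_zero_iff_eq_bot (IsNoetherian.noetherian _)).1 h2
  have hmax : (m.map (algebraMap A B)).IsMaximal :=
    Ideal.Quotient.maximal_of_isField _ (e.symm.toMulEquiv.isField hfield)
  have h1 : Module.length B (B ⧸ m.map (algebraMap A B)) = 1 :=
    Module.length_eq_one_iff.2 ((isSimpleModule_iff_quot_maximal).2 ⟨_, hmax, ⟨LinearEquiv.refl _ _⟩⟩)
  rw [← (TensorProduct.AlgebraTensorModule.rid A B B).length_eq,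
    IsLocalRing.length_baseChange A B A, h1, mul_one]


/-- Let A → B be a homomorphism of Artinian local rings that is flat and formally smooth, where A has a
subring that is a field. Then A and B have the same length, each as a module over itself. -/
theorem result (A : Type u) (B : Type v) [CommRing A] [CommRing B]
    [IsLocalRing A] [IsLocalRing B] [IsArtinianRing A] [IsArtinianRing B] [Algebra A B]
    [Module.Flat A B] [Algebra.FormallySmooth A B] (hK : ∃ K : Subring A, IsField K) :
    Module.length A A = Module.length B B := by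
  exact aux

end Groth.Agent.S18056
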