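import Groth.Statements.S18057
import Groth.Agent.Ega41Adic.RegularOfSmooth
import Groth.Agent.FlatmorThree.FormalLift
import Groth.Agent.PropsBasic.LociBaseChange.Scheme
import Mathlib.RingTheory.LocalRing.Length

set_option autoImplicit false
set_option linter.style.haveILetI false
universe u
open STCI

namespace Groth.Agent.S18057

open IsLocalRing TensorProduct in
theorem length_eq_of_formallySmooth {A B : Type u} [CommRing A] [CommRing B] [IsLocalRing A]
    [IsLocalRing B] [IsNoetherianRing B] [Algebra A B] [IsLocalHom (algebraMap A B)]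
    [Module.Flat A B] [Algebra.FormallySmooth A B] (hB : ringKrullDim B = 0) :
    Module.length B B = Module.length A A := by
  set J := (maximalIdeal A).map (algebraMap A B) with hJ
  have hJle : J ≤ maximalIdeal B := ((local_hom_TFAE (algebraMap A B)).out 0 2 rfl rfl).mp inferInstance
  haveI : Nontrivial (B ⧸ J) :=
    Ideal.Quotient.nontrivial_iff.2 (ne_top_of_le_ne_top (maximalIdeal.isMaximal B).ne_top hJle)
  haveI : IsLocalRing (B ⧸ J) := .of_surjective' _ Ideal.Quotient.mk_surjective
  let φ : ResidueField A →+* B ⧸ J := Ideal.quotientMap J (algebraMap A B) Ideal.le_comap_map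
  letI : Algebra (ResidueField A) (B ⧸ J) := φ.toAlgebra
  haveI : IsScalarTower A (ResidueField A) (B ⧸ J) := IsScalarTower.of_algebraMap_eq fun _ => rfl
  have hsm : CAlgX.IsAdicFormallySmooth (ResidueField A) (B ⧸ J) (maximalIdeal (B ⧸ J)) := by
    intro C _ _ I hI ψ _
    letI : Algebra A C := ((algebraMap (ResidueField A) C).comp (algebraMap A (ResidueField A))).toAlgebra
    haveI : IsScalarTower A (ResidueField A) C := IsScalarTower.of_algebraMap_eq fun _ => rfl
    obtain ⟨g, hg⟩ := Algebra.FormallySmooth.comp_surjective A B I hI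
      ((ψ.restrictScalars A).comp (Ideal.Quotient.mkₐ A J))
    have hker : ∀ b ∈ J, g b = 0 := fun b hb => by
      suffices J ≤ RingHom.ker g from this hb
      refine Ideal.map_le_iff_le_comap.2 fun a ha => ?_
      show g (algebraMap A B a) = 0
      rw [g.commutes]
      show algebraMap (ResidueField A) C (residue A a) = 0
      rw [(residue_eq_zero_iff a).2 ha, map_zero]
    refine ⟨{ (Ideal.Quotient.liftₐ J g hker).toRingHom with commutes' := fun c => ?_ }, ?_⟩
    · obtain ⟨a, rfl⟩ := IsLocalRing.residue_surjective c
      exact ((Ideal.Quotient.liftₐ J g hker).commutes a)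
    · refine AlgHom.ext fun q => ?_
      obtain ⟨b, rfl⟩ := Ideal.Quotient.mk_surjective q
      exact AlgHom.congr_fun hg b
  haveI := Groth.Ega41Adic.isRegularLocalRing_of_isAdicFormallySmooth hsm
  have hd : ringKrullDim (B ⧸ J) = 0 :=
    le_antisymm ((ringKrullDim_quotient_le J).trans hB.le) ringKrullDim_nonneg_of_nontrivial
  have hm0 : maximalIdeal (B ⧸ J) = ⊥ := by
    have h := IsRegularLocalRing.spanFinrank_maximalIdeal (R := B ⧸ J)
    rw [hd] at h
    exact (Submodule.spanFinrank_eq_zero_iff_eq_bot (IsNoetherian.noetherian _)).1 (by exact_mod_cast h)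
  have hJm : J = maximalIdeal B := by
    refine le_antisymm hJle fun b hb => ?_
    have hb' : Ideal.Quotient.mk J b ∈ maximalIdeal (B ⧸ J) := by
      rw [← IsLocalRing.map_maximalIdeal_of_surjective _ Ideal.Quotient.mk_surjective]
      exact Ideal.mem_map_of_mem _ hb
    rw [hm0] at hb'
    exact Ideal.Quotient.eq_zero_iff_mem.1 hb'
  have h1 : Module.length B (B ⧸ J) = 1 := by
    rw [hJm]
    haveI : IsSimpleModule B (B ⧸ maximalIdeal B) :=
      isSimpleModule_iff_isCoatom.2 (maximalIdeal.isMaximal B).out
    exact Module.length_eq_one (R := B) (M := B ⧸ maximalIdeal B)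
  rw [← (Algebra.TensorProduct.rid A B B).toLinearEquiv.length_eq, IsLocalRing.length_baseChange,
    ← hJ, h1, mul_one]

open AlgebraicGeometry CategoryTheory in
/-- For a morphism f : X' → X between irreducible Noetherian schemes that is flat and formally smooth,
with X defined over a field (rendered: the ring of global sections of X contains a subring that is a
field, which for nonempty X is the same as giving a morphism from X to the spectrum of a field), the
local rings of X' and X at their generic points η', η (Artinian local rings) satisfy length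
O_{X',η'} = length O_{X,η}. Formal smoothness is the infinitesimal lifting property against
square-zero thickenings of affine schemes. -/
theorem result {X' X : Scheme.{u}} (f : X' ⟶ X)
    [IrreducibleSpace ↥X'] [IrreducibleSpace ↥X] [IsNoetherian X'] [IsNoetherian X] [Flat f]
    (hf : MoreMor.IsFormallySmoothHom f) (hK : ∃ K : Subring Γ(X, ⊤), IsField K) :
    Module.length (X'.presheaf.stalk (genericPoint X')) (X'.presheaf.stalk (genericPoint X'))
      = Module.length (X.presheaf.stalk (genericPoint X)) (X.presheaf.stalk (genericPoint X)) := by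
  set η' := genericPoint X'
  have hη : f η' = genericPoint X := by
    obtain ⟨x, hx, hfx⟩ := Flat.generalizingMap f (genericPoint_specializes (f η'))
    rw [← hfx]
    exact congrArg f (Specializes.antisymm (genericPoint_specializes x) hx).eq
  rw [← hη]
  have hB : ringKrullDim (X'.presheaf.stalk η') = 0 := by
    rw [ringKrullDim_stalk_eq_coheight, WithBot.coe_eq_zero, Order.coheight_eq_zero]
    intro y _
    exact Scheme.le_iff_specializes.2 (genericPoint_specializes y)
  obtain ⟨V, hV, hxV, -⟩ := exists_isAffineOpen_mem_and_subset (U := (⊤ : X.Opens)) (x := f η') trivial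
  obtain ⟨U, hU, hxU, hUV⟩ := exists_isAffineOpen_mem_and_subset (U := f ⁻¹ᵁ V) (x := η') hxV
  have e : U ≤ f ⁻¹ᵁ V := hUV
  have hs := Groth.FlatmorThree.FormalLift.formallySmooth_appLE hf hU hV e
  set P := (f.appLE V U e).hom with hP
  let q := (hU.primeIdealOf ⟨η', hxU⟩).asIdeal
  let p := (hV.primeIdealOf ⟨f η', hxV⟩).asIdeal
  have hpq : p = q.comap P := (Groth.PropsBasic.Loci.primeIdealOf_comap f hV hU e hxU).symm
  have hloc : (Localization.localRingHom p q P hpq).FormallySmooth := by
    letI := P.toAlgebra
    haveI : Algebra.FormallySmooth Γ(X, V) Γ(X', U) := hs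
    haveI : q.LiesOver p := ⟨hpq⟩
    letI := Localization.AtPrime.algebraOfLiesOver p q
    haveI : Algebra.FormallySmooth Γ(X', U) (Localization.AtPrime q) :=
      Algebra.FormallySmooth.of_isLocalization q.primeCompl
    haveI : Algebra.FormallySmooth Γ(X, V) (Localization.AtPrime q) :=
      Algebra.FormallySmooth.comp Γ(X, V) Γ(X', U) _
    haveI : Algebra.FormallyUnramified Γ(X, V) (Localization.AtPrime p) :=
      Algebra.FormallyUnramified.of_isLocalization p.primeCompl
    exact Algebra.FormallySmooth.of_restrictScalars Γ(X, V) (Localization.AtPrime p) (Localization.AtPrime q)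
  have hst : (f.stalkMap η').hom.FormallySmooth :=
    (RingHom.FormallySmooth.respectsIso.arrow_mk_iso_iff
      (IsAffineOpen.arrowStalkMapIso f V hV U hU e hxU)).mpr hloc
  have hfl := Flat.stalkMap f η'
  algebraize [(f.stalkMap η').hom]
  haveI : IsLocalHom (algebraMap (X.presheaf.stalk (f η')) (X'.presheaf.stalk η')) :=
    inferInstanceAs <| IsLocalHom (f.stalkMap η').hom
  exact length_eq_of_formallySmooth hB

end Groth.Agent.S18057
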