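import Groth.Statements.S18062
import Groth.Agent.Misc1.Unip.Special

set_option autoImplicit false
universe u
open scoped TensorProduct
open HopfRep

namespace Groth.Agent.S18062

/-- A is a discrete valuation ring, K denotes its field of fractions and k its residue field, and G =
Spec H a flat affine A-group scheme of finite presentation, H being a flat, finitely presented
commutative Hopf algebra over A. If the generic fibre G_K is trigonalizable (every simple
finite-dimensional representation is one-dimensional), then so is the special fibre G_k. -/
theorem result (A : Type u) [CommRing A] [IsDomain A] [IsDiscreteValuationRing A]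
    (K : Type u) [Field K] [Algebra A K] [IsFractionRing A K]
    (H : Type u) [CommRing H] [HopfAlgebra A H] [Module.Flat A H] [Algebra.FinitePresentation A H]
    (hK : HopfRep.IsTrigonalizable K (K ⊗[A] H)) :
    HopfRep.IsTrigonalizable (IsLocalRing.ResidueField A) (IsLocalRing.ResidueField A ⊗[A] H) := by
  open Groth.ComodLib Groth.Misc1.Unip in
  refine isTrigonalizable_of_exhaustive fun y => Special.exhaustive_special K (IsLocalRing.ResidueField A)
    (G := {g | IsGroupLikeElem K g}) (G' := {g | IsGroupLikeElem (IsLocalRing.ResidueField A) g})
    (fun g hg => Special.exists_groupLike_lift K hg) (fun x => ?_) IsLocalRing.residue_surjective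
    (charSeries (IsLocalRing.ResidueField A) (IsLocalRing.ResidueField A ⊗[A] H) _)
    (fun n z g hg hz => Submodule.subset_span ⟨g, hg, hz⟩) y
  obtain ⟨m, hm⟩ := exists_mem_charSeries hK x
  exact Special.exists_reach (charSeries K (K ⊗[A] H) (K ⊗[A] H)) rfl (fun n => le_rfl) m x hm

end Groth.Agent.S18062
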