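import Groth.Statements.S18063
import Groth.Agent.NeronArea.GenericDense

set_option autoImplicit false
universe u
open CategoryTheory MonoidalCategory CartesianMonoidalCategory MonObj GrpObj AlgebraicGeometry CategoryTheory.Limits
open AlgGrp

namespace Groth.Agent.S18063

/-- A is a discrete valuation ring, K denotes its field of fractions and k its residue field, and G is
an A-group scheme that is flat, separated and of finite presentation. If the generic fibre G_K is
commutative, then the special fibre G_k is commutative. (The published statement does not require G
separated over A, and its proof argues by density of the generic fibre; without separatedness the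
conclusion fails: gluing copies of Spec A indexed by a finite non-abelian group along their common
generic point gives a flat group scheme of finite presentation over A whose generic fibre is the
trivial group and whose special fibre is that non-abelian constant group. So G is taken separated
here.) -/
theorem result (A : Type u) [CommRing A] [IsDomain A] [IsDiscreteValuationRing A]
    (K : Type u) [Field K] [Algebra A K] [IsFractionRing A K]
    (G : Over (Spec (CommRingCat.of A))) [GrpObj G] [Flat G.hom] [LocallyOfFinitePresentation G.hom] [QuasiCompact G.hom]
    [IsSeparated G.hom] [IsCommMonObj (Red.bc (Spec.map (CommRingCat.ofHom (algebraMap A K))) G)] :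
    IsCommMonObj (Red.bc (Spec.map (CommRingCat.ofHom (algebraMap A (IsLocalRing.ResidueField A)))) G) := by
  set gp := Spec.map (CommRingCat.ofHom (algebraMap A K)) with hg
  haveI : IsSchemeTheoreticallyDominant gp :=
    Groth.NeronArea.isSchemeTheoreticallyDominant_specMap _ (IsFractionRing.injective A K)
  haveI : Flat (G ⊗ G).hom := by
    show Flat (Limits.pullback.fst G.hom G.hom ≫ G.hom)
    infer_instance
  haveI : IsCommMonObj G := by
    refine ⟨Groth.NeronArea.map_injective_of_flat gp (G ⊗ G) G ?_⟩
    show (Over.pullback gp).map ((β_ G G).hom ≫ μ[G]) = (Over.pullback gp).map μ[G]
    have h := IsCommMonObj.mul_comm (Red.bc gp G)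
    change (β_ ((Over.pullback gp).obj G) ((Over.pullback gp).obj G)).hom ≫
      (Functor.LaxMonoidal.μ (Over.pullback gp) G G ≫ (Over.pullback gp).map μ[G]) =
      Functor.LaxMonoidal.μ (Over.pullback gp) G G ≫ (Over.pullback gp).map μ[G] at h
    rw [← Category.assoc, ← Functor.LaxBraided.braided, Category.assoc, cancel_epi] at h
    rw [Functor.map_comp]
    exact h
  infer_instance

end Groth.Agent.S18063
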