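import Groth.Statements.S18064
import Groth.Agent.Sga3.SpecFibreSub.Regular
-- import your own Groth.Agent.* helpers here

set_option autoImplicit false
universe u
open CategoryTheory MonoidalCategory CartesianMonoidalCategory MonObj GrpObj AlgebraicGeometry CategoryTheory.Limits
open AlgGrp

namespace Groth.Agent.S18064

/-- Suppose A is a regular local ring, and write K for its field of fractions and k for its residue
field; take G to be a flat A-group scheme of finite presentation and d a natural number. If the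
generic fibre G_K contains a closed subgroup scheme of dimension d, then so does the special fibre
G_k; if G_K contains a normal closed subgroup scheme of dimension d, then so does G_k. -/
theorem result (A : Type u) [CommRing A] [IsDomain A] [IsRegularLocalRing A]
    (K : Type u) [Field K] [Algebra A K] [IsFractionRing A K]
    (G : Over (Spec (CommRingCat.of A))) [GrpObj G] [Flat G.hom] [LocallyOfFinitePresentation G.hom] [QuasiCompact G.hom]
    [QuasiSeparated G.hom] (d : ℕ) :
    ((∃ (H : Over (Spec (CommRingCat.of K))) (_ : GrpObj H) (i : H ⟶ Red.bc (Spec.map (CommRingCat.ofHom (algebraMap A K))) G),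
        IsMonHom i ∧ IsClosedImmersion i.left ∧ topologicalKrullDim ↥H.left = (d : WithBot ℕ∞)) →
      ∃ (H' : Over (Spec (CommRingCat.of (IsLocalRing.ResidueField A)))) (_ : GrpObj H')
        (i' : H' ⟶ Red.bc (Spec.map (CommRingCat.ofHom (algebraMap A (IsLocalRing.ResidueField A)))) G),
        IsMonHom i' ∧ IsClosedImmersion i'.left ∧ topologicalKrullDim ↥H'.left = (d : WithBot ℕ∞)) ∧
    ((∃ (H : Over (Spec (CommRingCat.of K))) (_ : GrpObj H) (i : H ⟶ Red.bc (Spec.map (CommRingCat.ofHom (algebraMap A K))) G),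
        IsMonHom i ∧ IsClosedImmersion i.left ∧ AlgGrp.IsNormalHom i ∧ topologicalKrullDim ↥H.left = (d : WithBot ℕ∞)) →
      ∃ (H' : Over (Spec (CommRingCat.of (IsLocalRing.ResidueField A)))) (_ : GrpObj H')
        (i' : H' ⟶ Red.bc (Spec.map (CommRingCat.ofHom (algebraMap A (IsLocalRing.ResidueField A)))) G),
        IsMonHom i' ∧ IsClosedImmersion i'.left ∧ AlgGrp.IsNormalHom i' ∧ topologicalKrullDim ↥H'.left = (d : WithBot ℕ∞)) := by
  constructor
  · rintro ⟨H, _, i, h₁, h₂, h₃⟩
    obtain ⟨H', g', i', a, b, c, -, -⟩ := Groth.Sga3.SpecFibreSub.hasSub_regular_bc (d := d) (Θ := ∅) (nrm := False)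
      G (fun h => absurd h Set.not_nonempty_empty) False.elim
      ⟨H, ‹_›, i, h₁, h₂, h₃, fun τ h => absurd h (Set.notMem_empty τ), False.elim⟩
    exact ⟨H', g', i', a, b, c⟩
  · rintro ⟨H, _, i, h₁, h₂, hn, h₃⟩
    obtain ⟨H', g', i', a, b, c, -, hn'⟩ := Groth.Sga3.SpecFibreSub.hasSub_regular_bc (d := d) (Θ := ∅) (nrm := True)
      G (fun h => absurd h Set.not_nonempty_empty) (fun _ => ‹Flat G.hom›)
      ⟨H, ‹_›, i, h₁, h₂, h₃, fun τ h => absurd h (Set.notMem_empty τ), fun _ => hn⟩
    exact ⟨H', g', i', a, b, hn' trivial, c⟩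

end Groth.Agent.S18064
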