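import Groth.Statements.S18068
import Groth.Agent.AlgGrp1.Geom
import Groth.Agent.Variety2.Normal
import Groth.Agent.VarietyBC.SmoothChart
import Groth.Agent.Ega4Algebra1.RegularNormal
-- import your own Groth.Agent.* helpers here

set_option autoImplicit false
universe u
open CategoryTheory MonoidalCategory CartesianMonoidalCategory MonObj GrpObj AlgebraicGeometry CategoryTheory.Limits
open AlgGrp

namespace Groth.Agent.S18068


/-- Local rings of a smooth scheme over a field are normal. -/
lemma isIntegrallyClosed_stalk {k : Type u} [Field k] {X : Scheme.{u}}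
    (p : X ⟶ Spec (CommRingCat.of k)) [Smooth p] (x : X) :
    IsIntegrallyClosed (X.presheaf.stalk x) := by
  let : X.Over (Spec (CommRingCat.of k)) := ⟨p⟩
  have : LocallyOfFinitePresentation (X ↘ (Spec (CommRingCat.of k))) :=
    inferInstanceAs (LocallyOfFinitePresentation p)
  have := Groth.VarietyBC.isRegularLocalRing_of_mem_smoothLocus (k := k) (x := x) (by
    show x ∈ p.smoothLocus
    rw [Scheme.Hom.smoothLocus_eq_top_iff.2 ‹_›]
    trivial)
  exact Groth.Ega4Algebra1.isIntegrallyClosed_of_isRegularLocalRing _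

/-- Functions on a finite cover of a normal integral scheme with constant functions are constant,
when the cover is integral and has a rational point. -/
lemma bijective_of_finite_cover {k : Type u} [Field k] {X Y : Scheme.{u}} [IsIntegral X] [IsIntegral Y]
    (f : X ⟶ Y) [IsFinite f] [Surjective f] (p : Y ⟶ Spec (CommRingCat.of k))
    (hn : ∀ y : Y, IsIntegrallyClosed (Y.presheaf.stalk y))
    (e : Spec (CommRingCat.of k) ⟶ X) (he : e ≫ f ≫ p = 𝟙 _)
    (hY : Function.Bijective ((Scheme.ΓSpecIso (CommRingCat.of k)).inv ≫ p.appTop).hom) :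
    Function.Bijective ((Scheme.ΓSpecIso (CommRingCat.of k)).inv ≫ (f ≫ p).appTop).hom := by
  let cY : k →+* Γ(Y, ⊤) := ((Scheme.ΓSpecIso (CommRingCat.of k)).inv ≫ p.appTop).hom
  let cX : k →+* Γ(X, ⊤) := ((Scheme.ΓSpecIso (CommRingCat.of k)).inv ≫ (f ≫ p).appTop).hom
  show Function.Bijective cX
  let ε : Γ(X, ⊤) →+* k := (e.appTop ≫ (Scheme.ΓSpecIso (CommRingCat.of k)).hom).hom
  have hε : ∀ r, ε (cX r) = r := fun r => by
    have : ((Scheme.ΓSpecIso (CommRingCat.of k)).inv ≫ (f ≫ p).appTop) ≫
        (e.appTop ≫ (Scheme.ΓSpecIso (CommRingCat.of k)).hom) = 𝟙 _ := by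
      rw [Category.assoc, ← Category.assoc _ e.appTop, ← Scheme.Hom.comp_appTop, he,
        Scheme.Hom.id_appTop, Category.id_comp, Iso.inv_hom_id]
    exact congr($this r)
  refine ⟨fun r r' h => by rw [← hε r, h, hε], fun a => ?_⟩
  have hgen : f (genericPoint X) = genericPoint Y := by
    have h := (genericPoint_spec X).image f.continuous
    rw [Set.image_univ, Set.range_eq_univ.2 f.surjective, closure_univ] at h
    exact h.eq (genericPoint_spec Y)
  let jf : Y.functionField →+* X.functionField :=
    (Y.presheaf.stalkSpecializes (specializes_of_eq hgen) ≫ f.stalkMap (genericPoint X)).hom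
  have hjf : ∀ (V : Y.Opens) [Nonempty V] [Nonempty (f ⁻¹ᵁ V : X.Opens)] (s : Γ(Y, V)),
      jf (Y.germToFunctionField V s) = X.germToFunctionField (f ⁻¹ᵁ V) (f.app V s) := by
    intro V hV hV' s
    show f.stalkMap (genericPoint X) (Y.presheaf.stalkSpecializes (specializes_of_eq hgen)
      (Y.presheaf.germ V (genericPoint Y) _ s)) = _
    rw [TopCat.Presheaf.germ_stalkSpecializes_apply]
    exact Scheme.Hom.germ_stalkMap_apply f _ _ _ _
  let : Algebra Y.functionField X.functionField := jf.toAlgebra
  have : Nonempty (⊤ : X.Opens) := ⟨⟨genericPoint X, trivial⟩⟩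
  have : Nonempty (⊤ : Y.Opens) := ⟨⟨genericPoint Y, trivial⟩⟩
  let α : X.functionField := X.germToFunctionField ⊤ a
  have hst : ∀ y : Y, ∃ q : Polynomial (Y.presheaf.stalk y), q.Monic ∧
      Polynomial.aeval α (q.map (algebraMap (Y.presheaf.stalk y) Y.functionField)) = 0 := by
    intro y
    obtain ⟨V, hV, hyV, -⟩ := exists_isAffineOpen_mem_and_subset (x := y) (U := ⊤) trivial
    obtain ⟨x, rfl⟩ := f.surjective y
    have : Nonempty V := ⟨⟨_, hyV⟩⟩
    have : Nonempty (f ⁻¹ᵁ V : X.Opens) := ⟨⟨x, hyV⟩⟩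
    obtain ⟨q, hq, hq0⟩ := (IsFinite.finite_app f V hV).to_isIntegral
      (X.presheaf.map (homOfLE le_top).op a)
    refine ⟨q.map (Y.presheaf.germ V _ hyV).hom, hq.map _, ?_⟩
    rw [Polynomial.map_map, Polynomial.aeval_def, Polynomial.eval₂_map]
    have h2 := congrArg (X.germToFunctionField (f ⁻¹ᵁ V)).hom hq0
    rw [Polynomial.hom_eval₂, map_zero] at h2
    rw [← h2]
    congr 1
    · refine RingHom.ext fun s => ?_
      show jf (algebraMap (Y.presheaf.stalk (f x)) Y.functionField (Y.presheaf.germ V _ hyV s)) = _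
      rw [Scheme.algebraMap_germ_eq_germToFunctionField, hjf]
      rfl
    · exact (X.presheaf.germ_res_apply _ _ _ _).symm
  have hint : IsIntegral Y.functionField α := by
    obtain ⟨q, hq, hq0⟩ := hst (genericPoint Y)
    exact ⟨_, hq.map _, hq0⟩
  let P := minpoly Y.functionField α
  have hcoeff : ∀ i, ∃ r : k, Y.germToFunctionField ⊤ (cY r) = P.coeff i := by
    intro i
    obtain ⟨s, hs⟩ := Groth.Variety2.exists_section_of_forall_stalk ⊤ (P.coeff i) fun y _ => by
      obtain ⟨q, hq, hq0⟩ := hst y
      have := hn y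
      obtain ⟨g, hg⟩ := IsIntegrallyClosed.eq_map_mul_C_of_dvd (K := Y.functionField) hq
        (minpoly.dvd _ _ hq0)
      rw [(minpoly.monic hint).leadingCoeff, Polynomial.C_1, _root_.mul_one] at hg
      exact ⟨g.coeff i, by rw [← Polynomial.coeff_map, hg]⟩
    obtain ⟨r, rfl⟩ := hY.2 s
    exact ⟨r, hs⟩
  let φ : k →+* Y.functionField := (Y.germToFunctionField ⊤).hom.comp cY
  obtain ⟨P₀, hP₀, hP₀d, hP₀m⟩ := Polynomial.lifts_and_degree_eq_and_monic
    (f := φ) (p := P) ((Polynomial.lifts_iff_coeff_lifts _).2 hcoeff) (minpoly.monic hint)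
  have hirr : Irreducible P₀ := Polynomial.Monic.irreducible_of_irreducible_map φ P₀ hP₀m
    (by rw [hP₀]; exact minpoly.irreducible hint)
  have hφ : jf.comp φ = (X.germToFunctionField ⊤).hom.comp cX := by
    refine RingHom.ext fun r => ?_
    have : Nonempty (f ⁻¹ᵁ ⊤ : X.Opens) := ⟨⟨genericPoint X, trivial⟩⟩
    exact hjf ⊤ (cY r)
  have hroot : Polynomial.eval₂ cX a P₀ = 0 := by
    apply X.germToFunctionField_injective ⊤
    rw [map_zero]
    have h := minpoly.aeval Y.functionField α
    change Polynomial.aeval α P = 0 at h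
    rw [← hP₀, Polynomial.aeval_def, Polynomial.eval₂_map] at h
    have h' : Polynomial.eval₂ ((X.germToFunctionField ⊤).hom.comp cX) α P₀ = 0 := by
      rw [← hφ]; exact h
    exact (Polynomial.hom_eval₂ P₀ cX (X.germToFunctionField ⊤).hom a).trans h'
  have hroot' : P₀.IsRoot (ε a) := by
    have h := congrArg ε hroot
    rw [Polynomial.hom_eval₂, map_zero] at h
    rw [show ε.comp cX = RingHom.id k from RingHom.ext hε] at h
    exact h
  have hdeg : P₀.degree = 1 := Polynomial.degree_eq_one_of_irreducible_of_root hirr hroot'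
  rw [hP₀m.eq_X_add_C (Polynomial.natDegree_eq_of_degree_eq_some hdeg),
    Polynomial.eval₂_add, Polynomial.eval₂_X, Polynomial.eval₂_C] at hroot
  exact ⟨-P₀.coeff 0, by rw [map_neg, neg_eq_iff_add_eq_zero, add_comm]; exact hroot⟩

/-- Let k be a field and f : G → H an isogeny (a surjective homomorphism with finite kernel, i.e.
surjective and finite) of connected commutative algebraic groups over k. Then G is anti-affine (O(G)
= k) if and only if H is anti-affine. -/
theorem result (k : Type u) [Field k]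
    (G H : Over (Spec (CommRingCat.of k))) [GrpObj G] [Smooth G.hom] [QuasiCompact G.hom] [ConnectedSpace ↥G.left] [IsCommMonObj G]
    [GrpObj H] [Smooth H.hom] [QuasiCompact H.hom] [ConnectedSpace ↥H.left] [IsCommMonObj H]
    (f : G ⟶ H) [IsMonHom f] [Surjective f.left] [IsFinite f.left] :
    Function.Bijective ((Scheme.ΓSpecIso (CommRingCat.of k)).inv ≫ G.hom.appTop).hom ↔
      Function.Bijective ((Scheme.ΓSpecIso (CommRingCat.of k)).inv ≫ H.hom.appTop).hom := by
  have : IsIntegral G.left := Groth.AlgGrp1.isIntegral_of_smooth G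
  have : IsIntegral H.left := Groth.AlgGrp1.isIntegral_of_smooth H
  have hw : G.hom = f.left ≫ H.hom := (Over.w f).symm
  rw [hw]
  constructor
  · intro h
    have hinj : Function.Injective f.left.appTop.hom := by
      rw [injective_iff_map_eq_zero]
      intro a ha
      by_contra h0
      obtain ⟨y, hy⟩ := (H.left.basicOpen a).1.nonempty_iff_ne_empty.2 fun h' =>
        h0 ((basicOpen_eq_bot_iff a).1 (SetLike.ext' h'))
      obtain ⟨x, rfl⟩ := f.left.surjective y
      have hx : x ∈ f.left ⁻¹ᵁ H.left.basicOpen a := hy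
      rw [Scheme.preimage_basicOpen] at hx
      erw [ha, Scheme.basicOpen_zero] at hx
      exact hx
    rw [Scheme.Hom.comp_appTop] at h
    have h' : Function.Bijective (f.left.appTop.hom ∘
        ((Scheme.ΓSpecIso (CommRingCat.of k)).inv ≫ H.hom.appTop).hom) := h
    exact ⟨h'.1.of_comp, fun a => by
      obtain ⟨r, hr⟩ := h'.2 (f.left.appTop.hom a)
      exact ⟨r, hinj hr⟩⟩
  · intro h
    refine bijective_of_finite_cover f.left H.hom (fun y => isIntegrallyClosed_stalk H.hom y)
      η[G].left ?_ h
    rw [Over.w f]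
    exact Over.w η[G]

end Groth.Agent.S18068
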