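import Groth.Statements.S18070
import Groth.Agent.AlgGrp2.ConstFun
import Groth.Agent.AlgGrp2.Basic

set_option autoImplicit false
universe u
open CategoryTheory MonoidalCategory CartesianMonoidalCategory MonObj GrpObj AlgebraicGeometry CategoryTheory.Limits
open AlgGrp

namespace Groth.Agent.S18070

/-- Let k be a field and 1 → G₁ → G → G₂ → 1 an exact sequence of k-group schemes of finite type with
G₁, G₂ connected (i : G₁ → G a homomorphism and closed immersion which is the kernel of the flat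
surjective homomorphism q : G → G₂). Anti-affineness passes from G to the quotient G₂; in the other
direction, G is anti-affine whenever G₁ and G₂ both are. -/
theorem result (k : Type u) [Field k]
    (G₁ G G₂ : Over (Spec (CommRingCat.of k))) [GrpObj G₁] [LocallyOfFiniteType G₁.hom] [QuasiCompact G₁.hom] [ConnectedSpace ↥G₁.left]
    [GrpObj G] [LocallyOfFiniteType G.hom] [QuasiCompact G.hom]
    [GrpObj G₂] [LocallyOfFiniteType G₂.hom] [QuasiCompact G₂.hom] [ConnectedSpace ↥G₂.left]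
    (i : G₁ ⟶ G) [IsMonHom i] [IsClosedImmersion i.left] (q : G ⟶ G₂) [IsMonHom q] [Surjective q.left] [Flat q.left]
    (hex : AlgGrp.IsKernel i q) :
    (Function.Bijective ((Scheme.ΓSpecIso (CommRingCat.of k)).inv ≫ G.hom.appTop).hom → Function.Bijective ((Scheme.ΓSpecIso (CommRingCat.of k)).inv ≫ G₂.hom.appTop).hom) ∧
    (Function.Bijective ((Scheme.ΓSpecIso (CommRingCat.of k)).inv ≫ G₁.hom.appTop).hom → Function.Bijective ((Scheme.ΓSpecIso (CommRingCat.of k)).inv ≫ G₂.hom.appTop).hom → Function.Bijective ((Scheme.ΓSpecIso (CommRingCat.of k)).inv ≫ G.hom.appTop).hom) := by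
  haveI := Groth.AlgGrp1.quasiSeparated_of_locallyOfFiniteType G₁
  haveI := Groth.AlgGrp1.quasiSeparated_of_locallyOfFiniteType G₂
  haveI : QuasiCompact q.left :=
    haveI : QuasiCompact (q.left ≫ G₂.hom) := by rw [Over.w q]; infer_instance
    QuasiCompact.of_comp q.left G₂.hom
  refine ⟨fun h => ?_, fun h₁ h₂ => ?_⟩
  · haveI := Groth.AlgGrp2.ConstFun.nonempty_of_point η[G₂]
    refine ⟨Groth.AlgGrp2.ConstFun.const_injective, fun g => ?_⟩
    obtain ⟨c, hc⟩ := h.2 (q.left.appTop g)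
    refine ⟨c, Groth.AlgGrp2.ConstFun.appTop_injective_of_epi q.left ?_⟩
    exact (Groth.AlgGrp2.ConstFun.appTop_const q c).trans hc
  haveI := Groth.AlgGrp2.ConstFun.nonempty_of_point η[G]
  refine ⟨Groth.AlgGrp2.ConstFun.const_injective, fun f => ?_⟩
  -- functions are invariant under the kernel
  have hinv : ((i ▷ G) ≫ μ[G]).left.appTop f = (snd G₁ G).left.appTop f := by
    refine (Groth.AlgGrp2.ConstFun.eq_snd_pullback h₁ η[G₁] (((i ▷ G) ≫ μ[G]).left.appTop f)).trans ?_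
    congr 1
    show (lift (toUnit G ≫ η[G₁]) (𝟙 G) ≫ (i ▷ G) ≫ μ[G]).left.appTop f = f
    rw [lift_whiskerRight_assoc, Category.assoc, IsMonHom.one_hom, lift_comp_one_left]
    rfl
  have hco : ∀ {Z : Scheme.{u}} (g₁ g₂ : Z ⟶ G.left), g₁ ≫ q.left = g₂ ≫ q.left →
      g₁.appTop f = g₂.appTop f := by
    intro Z g₁ g₂ hg
    have hs : g₂ ≫ G.hom = g₁ ≫ G.hom := by
      rw [← Over.w q, reassoc_of% hg]
    let T : Over (Spec (CommRingCat.of k)) := Over.mk (g₁ ≫ G.hom)
    let a : T ⟶ G := Over.homMk g₁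
    let b : T ⟶ G := Over.homMk g₂ hs
    have hab : a ≫ q = b ≫ q := Over.OverMorphism.ext hg
    have h1 : (a * b⁻¹) ≫ q = 1 := by
      rw [MonObj.mul_comp, GrpObj.inv_comp, hab, mul_inv_cancel]
    obtain ⟨c, hc⟩ : ∃ c : T ⟶ G₁, c ≫ i = a * b⁻¹ :=
      ⟨hex.lift (a * b⁻¹) (toUnit T) (h1.trans Hom.one_def), hex.lift_fst _ _ _⟩
    have ha : lift c b ≫ (i ▷ G) ≫ μ[G] = a := by
      rw [lift_whiskerRight_assoc, hc, ← Hom.mul_def, inv_mul_cancel_right]
    have hb : lift c b ≫ snd G₁ G = b := lift_snd _ _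
    calc g₁.appTop f = (lift c b ≫ (i ▷ G) ≫ μ[G]).left.appTop f := by rw [ha]; rfl
      _ = (lift c b).left.appTop (((i ▷ G) ≫ μ[G]).left.appTop f) := rfl
      _ = (lift c b).left.appTop ((snd G₁ G).left.appTop f) := by rw [hinv]
      _ = (lift c b ≫ snd G₁ G).left.appTop f := rfl
      _ = g₂.appTop f := by rw [hb]; rfl
  let d := EffectiveEpi.desc q.left (Groth.AlgGrp2.ConstFun.fnHom G.left f) fun g₁ g₂ hg => by
    rw [Groth.AlgGrp2.ConstFun.fnHom_comp, Groth.AlgGrp2.ConstFun.fnHom_comp, hco g₁ g₂ hg]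
  obtain ⟨c, hc⟩ := h₂.2 (d.appTop Groth.AlgGrp2.ConstFun.coord)
  refine ⟨c, ?_⟩
  refine (Groth.AlgGrp2.ConstFun.appTop_const q c).symm.trans ((congrArg q.left.appTop hc).trans ?_)
  show (q.left ≫ d).appTop Groth.AlgGrp2.ConstFun.coord = f
  rw [EffectiveEpi.fac, Groth.AlgGrp2.ConstFun.appTop_fnHom]

end Groth.Agent.S18070
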