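import Groth.Statements.S18074
import Groth.Agent.AlgGrp1.AntiAffineKernel
import Groth.Agent.AlgGrp1.Antiaffine

set_option autoImplicit false
universe u
open CategoryTheory MonoidalCategory CartesianMonoidalCategory MonObj GrpObj AlgebraicGeometry CategoryTheory.Limits
open AlgGrp

namespace Groth.Agent.S18074

/-- An affine scheme with only constant functions is a point. -/
theorem isTrivial_of_affine {k : Type u} [Field k] (G : Over (Spec (CommRingCat.of k))) [IsAffine G.left]
    (hG : Groth.AlgGrp1.HasConstFunctions G) : Red.IsTrivialGrp G := by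
  have := hG.isIso_appTop
  show IsIso G.hom
  have h : G.hom = G.left.isoSpec.hom ≫ Spec.map G.hom.appTop ≫ (Spec (CommRingCat.of k)).isoSpec.inv := by
    rw [Scheme.isoSpec_hom, ← Scheme.toSpecΓ_naturality_assoc, ← Scheme.isoSpec_hom, Iso.hom_inv_id, Category.comp_id]
  rw [h]
  infer_instance

/-- Every algebraic group has an anti-affine closed subgroup whose triviality forces the group to be affine. -/
theorem exists_antiAffine_affine_of_trivial {k : Type u} [Field k] (G : Over (Spec (CommRingCat.of k))) [GrpObj G]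
    [LocallyOfFiniteType G.hom] [QuasiCompact G.hom] :
    ∃ (K : Over (Spec (CommRingCat.of k))) (_ : GrpObj K) (c : K ⟶ G), IsMonHom c ∧ IsClosedImmersion c.left ∧
      Groth.AlgGrp1.HasConstFunctions K ∧ (Red.IsTrivialGrp K → IsAffine G.left) := by
  obtain ⟨hΓ, g, hρ⟩ := Groth.AlgGrp1.AffineHull.exists_grpObj_hull G
  let := g
  let H := Groth.AlgGrp1.AffineHull.hull G
  let ρ : G ⟶ H := Groth.AlgGrp1.AffineHull.toHull G
  have : IsAffine H.left := inferInstanceAs (IsAffine (Spec _))
  obtain ⟨hHlft, hflat, hsurj⟩ := Groth.AlgGrp1.AffineHull.flat_surjective_finiteType G H ρ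
  have := Groth.AlgGrp1.quasiSeparated_of_locallyOfFiniteType G
  have : IsSeparated H.hom := inferInstance
  have : IsClosedImmersion η[H].left := by
    have h : η[H].left ≫ H.hom = 𝟙 _ := Over.w η[H]
    have : IsClosedImmersion (η[H].left ≫ H.hom) := by rw [h]; infer_instance
    exact IsClosedImmersion.of_comp _ H.hom
  obtain ⟨K, c, _, hc⟩ := Groth.Agf.exists_preimage ρ η[H]
  have : Mono c := Over.mono_of_mono_left c
  have hK : ∀ (T : Over (Spec (CommRingCat.of k))) (x : T ⟶ G), (∃ z : T ⟶ K, z ≫ c = x) ↔ x ≫ ρ = 1 := by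
    intro T x
    rw [hc]
    exact ⟨fun ⟨z, hz⟩ => hz.trans (congrArg (· ≫ η[H]) (toUnit_unique z (toUnit T))),
      fun h => ⟨toUnit T, h⟩⟩
  obtain ⟨_, _⟩ := Groth.Agf.exists_grpObj_of_subgroup c (fun T x => x ≫ ρ = 1) hK (fun T => MonObj.one_comp ρ)
    (fun T a b ha hb => by rw [MonObj.mul_comp, ha, hb, _root_.one_mul])
    (fun T a ha => by rw [GrpObj.inv_comp, ha, inv_one])
  refine ⟨K, ‹_›, c, ‹_›, ‹_›, Groth.AlgGrp1.AntiAffineKernel.hasConstFunctions_kernel ρ c hK, fun hKt => ?_⟩
  have : IsIso K.hom := hKt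
  have hone : ∀ {T : Over (Spec (CommRingCat.of k))} (z : T ⟶ K), z = 1 := fun z => by
    apply Over.OverMorphism.ext
    rw [← cancel_mono K.hom, Over.w, Over.w]
  have : Mono ρ := ⟨fun {T} u v huv => by
    obtain ⟨z, hz⟩ := (hK T (u⁻¹ * v)).2 (by rw [MonObj.mul_comp, GrpObj.inv_comp, huv, inv_mul_cancel])
    rw [hone z, MonObj.one_comp, eq_comm, inv_mul_eq_one] at hz
    exact hz⟩
  have : Mono ρ.left := inferInstanceAs (Mono ((Over.forget _).map ρ))
  have := Groth.AlgGrp1.isLocallyNoetherian_left H
  have : LocallyOfFiniteType ρ.left := by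
    have : LocallyOfFiniteType (ρ.left ≫ H.hom) := by rw [Over.w]; infer_instance
    exact locallyOfFiniteType_of_comp ρ.left H.hom
  have : LocallyOfFinitePresentation ρ.left := inferInstance
  have : IsIso ρ.left := by
    have : IsOpenImmersion ρ.left := IsOpenImmersion.of_flat_of_mono ρ.left
    have : Epi ρ.left.base := (TopCat.epi_iff_surjective _).2 ρ.left.surjective
    exact IsOpenImmersion.isIso ρ.left
  exact IsAffine.of_isIso ρ.left

/-- Let k be a field and G a non-trivial k-group scheme of finite type. Then G is non-affine with every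
closed subgroup scheme H ≠ G affine if and only if G is anti-affine and every anti-affine closed
subgroup scheme H ≠ G of G is trivial. -/
theorem result (k : Type u) [Field k]
    (G : Over (Spec (CommRingCat.of k))) [GrpObj G] [LocallyOfFiniteType G.hom] [QuasiCompact G.hom] (hG : ¬ Red.IsTrivialGrp G) :
    (¬ IsAffine G.left ∧ ∀ (H : Over (Spec (CommRingCat.of k))) [GrpObj H] (h : H ⟶ G) [IsMonHom h] [IsClosedImmersion h.left], ¬ IsIso h → IsAffine H.left) ↔
    (Function.Bijective ((Scheme.ΓSpecIso (CommRingCat.of k)).inv ≫ G.hom.appTop).hom ∧ ∀ (H : Over (Spec (CommRingCat.of k))) [GrpObj H] (h : H ⟶ G) [IsMonHom h] [IsClosedImmersion h.left], ¬ IsIso h → Function.Bijective ((Scheme.ΓSpecIso (CommRingCat.of k)).inv ≫ H.hom.appTop).hom → Red.IsTrivialGrp H) := by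
  constructor
  · rintro ⟨hna, hH⟩
    obtain ⟨K, _, c, _, _, hK, hKt⟩ := exists_antiAffine_affine_of_trivial G
    have : IsIso c := by
      by_contra hc
      have := hH K c hc
      exact hna (hKt (isTrivial_of_affine K hK))
    refine ⟨?_, fun H _ h _ _ hne hc => ?_⟩
    · have := Groth.AlgGrp1.HasConstFunctions.isIso_appTop hK
      have : IsIso c.left := inferInstanceAs (IsIso ((Over.forget _).map c))
      have : IsIso G.hom.appTop := by
        have h1 : G.hom.appTop = K.hom.appTop ≫ (inv c.left).appTop := by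
          rw [← Scheme.Hom.comp_appTop, ← Over.w c, IsIso.inv_hom_id_assoc]
        have : IsIso (inv c.left).appTop := inferInstanceAs (IsIso ((inv c.left).app ⊤))
        rw [h1]; infer_instance
      exact ConcreteCategory.bijective_of_isIso ((Scheme.ΓSpecIso (CommRingCat.of k)).inv ≫ G.hom.appTop)
    · have := hH H h hne
      exact isTrivial_of_affine H hc
  · rintro ⟨hc, hH⟩
    refine ⟨fun ha => hG (isTrivial_of_affine G hc), fun H _ h _ _ hne => ?_⟩
    have : LocallyOfFiniteType H.hom := by rw [← Over.w h]; infer_instance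
    have : QuasiCompact H.hom := by rw [← Over.w h]; infer_instance
    obtain ⟨K, _, c, _, _, hK, hKt⟩ := exists_antiAffine_affine_of_trivial H
    have : IsClosedImmersion (c ≫ h).left := by rw [Over.comp_left]; infer_instance
    refine hKt (hH K (c ≫ h) ?_ hK)
    · intro hi
      refine hne ?_
      have : Mono h := Over.mono_of_mono_left h
      refine ⟨inv (c ≫ h) ≫ c, ?_, by rw [Category.assoc, IsIso.inv_hom_id]⟩
      rw [← cancel_mono h, Category.assoc, Category.assoc, IsIso.inv_hom_id, Category.comp_id, Category.id_comp]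

end Groth.Agent.S18074
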