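import Groth.Statements.S18083
import Groth.Agent.Sga3.SpecFibreSub.Regular
-- import your own Groth.Agent.* helpers here

set_option autoImplicit false
universe u
open CategoryTheory MonoidalCategory CartesianMonoidalCategory MonObj GrpObj AlgebraicGeometry CategoryTheory.Limits
open AlgGrp

namespace Groth.Agent.S18083

/-- A is a regular local ring, K denotes its field of fractions and k its residue field; G is a flat
separated A-group scheme of finite presentation, and d is a natural number. If G_K contains a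
commutative (resp. nilpotent, resp. solvable) closed subgroup scheme of dimension d, then so does
G_k. (The published statement does not require G separated; its proof goes through the
specialisation of commutativity, nilpotency and solvability over a discrete valuation ring by a
density argument that is valid for separated group schemes, so G is taken separated here.) -/
theorem result (A : Type u) [CommRing A] [IsDomain A] [IsRegularLocalRing A]
    (K : Type u) [Field K] [Algebra A K] [IsFractionRing A K]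
    (G : Over (Spec (CommRingCat.of A))) [GrpObj G] [Flat G.hom] [LocallyOfFinitePresentation G.hom] [QuasiCompact G.hom]
    [IsSeparated G.hom] (d : ℕ) :
    ((∃ (H : Over (Spec (CommRingCat.of K))) (_ : GrpObj H) (i : H ⟶ Red.bc (Spec.map (CommRingCat.ofHom (algebraMap A K))) G),
        IsMonHom i ∧ IsClosedImmersion i.left ∧ IsCommMonObj H ∧ topologicalKrullDim ↥H.left = (d : WithBot ℕ∞)) → ∃ (H : Over (Spec (CommRingCat.of (IsLocalRing.ResidueField A)))) (_ : GrpObj H) (i : H ⟶ Red.bc (Spec.map (CommRingCat.ofHom (algebraMap A (IsLocalRing.ResidueField A)))) G),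
        IsMonHom i ∧ IsClosedImmersion i.left ∧ IsCommMonObj H ∧ topologicalKrullDim ↥H.left = (d : WithBot ℕ∞)) ∧
    ((∃ (H : Over (Spec (CommRingCat.of K))) (_ : GrpObj H) (i : H ⟶ Red.bc (Spec.map (CommRingCat.ofHom (algebraMap A K))) G),
        IsMonHom i ∧ IsClosedImmersion i.left ∧ AGF.IsNilpotentGrp H ∧ topologicalKrullDim ↥H.left = (d : WithBot ℕ∞)) → ∃ (H : Over (Spec (CommRingCat.of (IsLocalRing.ResidueField A)))) (_ : GrpObj H) (i : H ⟶ Red.bc (Spec.map (CommRingCat.ofHom (algebraMap A (IsLocalRing.ResidueField A)))) G),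
        IsMonHom i ∧ IsClosedImmersion i.left ∧ AGF.IsNilpotentGrp H ∧ topologicalKrullDim ↥H.left = (d : WithBot ℕ∞)) ∧
    ((∃ (H : Over (Spec (CommRingCat.of K))) (_ : GrpObj H) (i : H ⟶ Red.bc (Spec.map (CommRingCat.ofHom (algebraMap A K))) G),
        IsMonHom i ∧ IsClosedImmersion i.left ∧ Red.IsSolvableGrp H ∧ topologicalKrullDim ↥H.left = (d : WithBot ℕ∞)) → ∃ (H : Over (Spec (CommRingCat.of (IsLocalRing.ResidueField A)))) (_ : GrpObj H) (i : H ⟶ Red.bc (Spec.map (CommRingCat.ofHom (algebraMap A (IsLocalRing.ResidueField A)))) G),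
        IsMonHom i ∧ IsClosedImmersion i.left ∧ Red.IsSolvableGrp H ∧ topologicalKrullDim ↥H.left = (d : WithBot ℕ∞)) := by
  refine ⟨?_, ?_, ?_⟩
  · rintro ⟨H, _, i, h₁, h₂, h₄, h₃⟩
    obtain ⟨H', g', i', a, b, c, hτ, -⟩ := Groth.Sga3.SpecFibreSub.hasSub_regular_bc (d := d)
      (Θ := {Groth.Sga3.SubSpec.CTree.node .leaf .leaf}) (nrm := False)
      G (fun _ => ‹IsSeparated G.hom›) False.elim
      ⟨H, ‹_›, i, h₁, h₂, h₃, fun τ h => by
        rw [Set.mem_singleton_iff.1 h]; exact (Groth.Sga3.SubSpec.isCommMonObj_iff_cMap _).1 h₄, False.elim⟩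
    exact ⟨H', g', i', a, b, (Groth.Sga3.SubSpec.isCommMonObj_iff_cMap _).2 (hτ _ rfl), c⟩
  · rintro ⟨H, _, i, h₁, h₂, h₄, h₃⟩
    obtain ⟨m, hm⟩ := (Groth.Sga3.SubSpec.isNilpotentGrp_iff_cMap _).1 h₄
    obtain ⟨H', g', i', a, b, c, hτ, -⟩ := Groth.Sga3.SpecFibreSub.hasSub_regular_bc (d := d)
      (Θ := {Groth.Sga3.SubSpec.lTree m}) (nrm := False)
      G (fun _ => ‹IsSeparated G.hom›) False.elim
      ⟨H, ‹_›, i, h₁, h₂, h₃, fun τ h => by rw [Set.mem_singleton_iff.1 h]; exact hm, False.elim⟩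
    exact ⟨H', g', i', a, b, (Groth.Sga3.SubSpec.isNilpotentGrp_iff_cMap _).2 ⟨m, hτ _ rfl⟩, c⟩
  · rintro ⟨H, _, i, h₁, h₂, h₄, h₃⟩
    obtain ⟨m, hm⟩ := (Groth.Sga3.SubSpec.isSolvableGrp_iff_cMap _).1 h₄
    obtain ⟨H', g', i', a, b, c, hτ, -⟩ := Groth.Sga3.SpecFibreSub.hasSub_regular_bc (d := d)
      (Θ := {Groth.Sga3.SubSpec.dTree m}) (nrm := False)
      G (fun _ => ‹IsSeparated G.hom›) False.elim
      ⟨H, ‹_›, i, h₁, h₂, h₃, fun τ h => by rw [Set.mem_singleton_iff.1 h]; exact hm, False.elim⟩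
    exact ⟨H', g', i', a, b, (Groth.Sga3.SubSpec.isSolvableGrp_iff_cMap _).2 ⟨m, hτ _ rfl⟩, c⟩

end Groth.Agent.S18083
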