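import Groth.Statements.S18087
import Groth.Agent.Sga3.SubSpec.Geom
-- import your own Groth.Agent.* helpers here

set_option autoImplicit false
universe u
open CategoryTheory MonoidalCategory CartesianMonoidalCategory MonObj GrpObj AlgebraicGeometry CategoryTheory.Limits
open AlgGrp

namespace Groth.Agent.S18087

/-- Let S be a scheme and G an S-group scheme of finite presentation; for s ∈ S let d'_s(s) be the
largest dimension of a smooth connected solvable closed subgroup (not necessarily affine) of the
geometric fibre of G at s. Then d'_s does not decrease under specialization: for every natural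
number n, if s specializes to s' (that is, s' lies in the closure of s) and d'_s(s) ≥ n, then
d'_s(s') ≥ n. (The published statement asserts that d'_s is upper semicontinuous on S, i.e. that the
set of points s with d'_s(s) ≥ n is closed; the published argument reduces to the spectrum of an
integral local ring and establishes that this set is stable under specialization, which is what is
stated here. Closedness would in addition need the set to be locally constructible, which the
argument does not address.) -/
theorem result (S : Scheme.{u}) (G : Over S) [GrpObj G]
    [LocallyOfFinitePresentation G.hom] [QuasiCompact G.hom] [QuasiSeparated G.hom] (n : ℕ) :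
    StableUnderSpecialization {s : ↥S | ∃ (H : Over (Spec (CommRingCat.of (AlgebraicClosure (S.residueField s))))) (_ : GrpObj H)
      (i : H ⟶ Red.geomFibre s G), IsMonHom i ∧ IsClosedImmersion i.left ∧ Smooth H.hom ∧
      ConnectedSpace ↥H.left ∧ Red.IsSolvableGrp H ∧ (n : WithBot ℕ∞) ≤ topologicalKrullDim ↥H.left} := by
  rintro s s' hs ⟨H, _, i, _, _, _, _, hsol, hdim⟩
  obtain ⟨H', _, d, hd₁, hd₂, hd₃, hd₄, hle, hid⟩ := Groth.Sga3.SubSpec.exists_special_geom G hs H i
  obtain ⟨m, hm⟩ := (Groth.Sga3.SubSpec.isSolvableGrp_iff_cMap _).1 hsol
  exact ⟨H', inferInstance, d, hd₁, hd₂, hd₃, hd₄, (Groth.Sga3.SubSpec.isSolvableGrp_iff_cMap _).2 ⟨m, hid _ hm⟩, hdim.trans hle⟩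

end Groth.Agent.S18087
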