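import Groth.Statements.S1809
import Groth.Agent.Calg1.DualSchLocal

set_option autoImplicit false
universe u
open CategoryTheory CategoryTheory.Limits AlgebraicGeometry
attribute [local instance] HasDerivedCategory.standard
open Dual

namespace Groth.Agent.S1809

/-- Let X be a locally Noetherian scheme and ω a dualizing complex on X (affine-locally the derived
tilde of a dualizing complex of the ring; exactness of restriction of module sheaves to opens and of
M ↦ M~ is assumed through instance binders). Then for every point x the local ring O_{X,x} is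
Cohen–Macaulay if and only if exactly one cohomology sheaf of ω has nonzero stalk at x; and the set
of points whose local ring is Cohen–Macaulay is open. -/
theorem result (X : Scheme.{u}) [IsLocallyNoetherian X] [∀ (U : Scheme.{u}) (j : U ⟶ X) [IsOpenImmersion j], PreservesFiniteLimits (Scheme.Modules.restrictFunctor j)] [∀ (R : CommRingCat.{u}), PreservesFiniteLimits (tilde.functor R)] (ω : DCoh.D X) (hω : Dual2.IsDualizingSch X ω) : (∀ x : X, LocCoh.IsCohenMacaulayLocalRing (X.presheaf.stalk x) ↔ ∃! i : ℤ, Nontrivial ((DCoh.HD ω i).presheaf.stalk x)) ∧ IsOpen {x : X | LocCoh.IsCohenMacaulayLocalRing (X.presheaf.stalk x)} := by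
  have key : ∀ x : X, ∃ (A : Type u) (_ : CommRing A) (j : Spec (CommRingCat.of A) ⟶ X) (_ : IsOpenImmersion j)
      (_ : IsNoetherianRing A) (ω' : Dual.D A) (_ : Dual.IsDualizing A ω'),
      Nonempty ((DCoh.restrictD j).obj ω ≅ (DCoh.tildeD (CommRingCat.of A)).obj ω') ∧ x ∈ j.opensRange := by
    intro x
    obtain ⟨U, hU, hx, -⟩ :=
      (X.isBasis_affineOpens.exists_subset_of_mem_open (Set.mem_univ x) isOpen_univ)
    obtain ⟨U, hUa, rfl⟩ := hU
    have : IsNoetherianRing Γ(X, U) := IsLocallyNoetherian.component_noetherian ⟨U, hUa⟩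
    let j : Spec (CommRingCat.of Γ(X, U)) ⟶ X := hUa.fromSpec
    have : IsOpenImmersion j := hUa.isOpenImmersion_fromSpec
    obtain ⟨ω', hω', e⟩ := hω Γ(X, U) j
    exact ⟨Γ(X, U), inferInstance, j, inferInstance, inferInstance, ω', hω', e,
      hUa.opensRange_fromSpec.symm ▸ hx⟩
  have hloc : ∀ (A : Type u) [CommRing A] [IsNoetherianRing A] (j : Spec (CommRingCat.of A) ⟶ X)
      [IsOpenImmersion j] (ω' : Dual.D A), Dual.IsDualizing A ω' →
      Nonempty ((DCoh.restrictD j).obj ω ≅ (DCoh.tildeD (CommRingCat.of A)).obj ω') → ∀ p : PrimeSpectrum A,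
      LocCoh.IsCohenMacaulayLocalRing (X.presheaf.stalk (j p)) ↔
        ∃! i : ℤ, Nontrivial ((DCoh.HD ω i).presheaf.stalk (j p)) := by
    intro A _ _ j _ ω' hω' ⟨e⟩ p
    rw [Groth.Calg1.DualSch.isCM_stalk_chart j p, Groth.DualCore.isCMLocal_iff p.asIdeal hω']
    simp only [Groth.Calg1.DualSch.nontrivial_localized_hom_iff_HD,
      Groth.Calg1.DualSch.nontrivial_stalk_chart ω j ω' e p]
    constructor
    · intro h
      obtain ⟨i, hi⟩ := Groth.Calg1.DualSch.exists_nontrivial_localized_HD ω' hω' p.asIdeal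
      exact ⟨i, hi, fun k hk => h k i hk hi⟩
    · rintro ⟨i, -, huniq⟩ a b ha hb
      exact (huniq a ha).trans (huniq b hb).symm
  refine ⟨fun x => ?_, isOpen_iff_forall_mem_open.mpr fun x hx => ?_⟩
  · obtain ⟨A, _, j, _, _, ω', hω', e, hxr⟩ := key x
    obtain ⟨p, rfl⟩ := Scheme.Hom.mem_opensRange.mp hxr
    exact hloc A j ω' hω' e p
  · obtain ⟨A, _, j, _, _, ω', hω', e, hxr⟩ := key x
    obtain ⟨p, rfl⟩ := Scheme.Hom.mem_opensRange.mp hxr
    refine ⟨j '' {q : PrimeSpectrum A | LocCoh.IsCohenMacaulayLocalRing (Localization.AtPrime q.asIdeal)},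
      ?_, j.isOpenEmbedding.isOpenMap _ ?_, ?_⟩
    · rintro _ ⟨q, hq, rfl⟩
      exact (Groth.Calg1.DualSch.isCM_stalk_chart j q).2 hq
    · have h := Groth.DualCore.isOpen_single_degree hω' A
      simp only [← Groth.DualCore.isCMLocal_iff _ hω'] at h
      exact h
    · exact ⟨p, (Groth.Calg1.DualSch.isCM_stalk_chart j p).1 hx, rfl⟩

end Groth.Agent.S1809
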