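import Groth.Statements.S18096
import Groth.Agent.AlgGrp1.AffineHull
import Groth.Agent.AlgGrp1.GLnEmbed

set_option autoImplicit false
universe u
open CategoryTheory MonoidalCategory CartesianMonoidalCategory MonObj GrpObj AlgebraicGeometry CategoryTheory.Limits
open AlgGrp

namespace Groth.Agent.S18096

/-- Let k be a field and G a k-group scheme of finite type. Then G is anti-affine, i.e. O(G) = k, if and
only if every finite-dimensional linear representation of G is trivial, i.e. for every n every
homomorphism G → GL_{n,k} is trivial. -/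
theorem result (k : Type u) [Field k]
    (G : Over (Spec (CommRingCat.of k))) [GrpObj G] [LocallyOfFiniteType G.hom] [QuasiCompact G.hom] :
    Function.Bijective ((Scheme.ΓSpecIso (CommRingCat.of k)).inv ≫ G.hom.appTop).hom ↔
      ∀ (n : ℕ) (ρ : G ⟶ FrB.GLn n (Spec (CommRingCat.of k))), IsMonHom ρ → ρ = 1 := by
  have : QuasiCompact (𝟙_ (Over (Spec (CommRingCat.of k)))).hom :=
    inferInstanceAs (QuasiCompact (𝟙 (Spec (CommRingCat.of k))))
  have hsp : IsIso (Scheme.ΓSpecIso (CommRingCat.of k)).inv := inferInstance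
  constructor
  · intro h n ρ hρ
    have hb : IsIso G.hom.appTop := by
      have := (ConcreteCategory.isIso_iff_bijective _).2 h
      exact IsIso.of_isIso_comp_left (Scheme.ΓSpecIso (CommRingCat.of k)).inv _
    have : Groth.AlgGrp1.AffineHull.GammaIso (toUnit G) := by
      show IsIso (toUnit G).left.appTop
      rwa [show (toUnit G).left = G.hom by simpa using Over.w (toUnit G)]
    have : IsAffine (FrB.GLZ.{u} n).left := inferInstanceAs (IsAffine (Spec _))
    have : IsAffine (FrB.GLn n (Spec (CommRingCat.of k))).left :=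
      inferInstanceAs (IsAffine (pullback (FrB.GLZ n).hom _))
    obtain ⟨f, hf⟩ := Groth.AlgGrp1.AffineHull.exists_desc (toUnit G) ρ
    have h1 : η[G] ≫ ρ = η := IsMonHom.one_hom ρ
    rw [← hf, ← Category.assoc, toUnit_unique (η[G] ≫ toUnit G) (𝟙 _), Category.id_comp] at h1
    rw [← hf, h1]
    rfl
  · intro h
    obtain ⟨hΓ, g, hρ⟩ := Groth.AlgGrp1.AffineHull.exists_grpObj_hull G
    let := g
    have : IsAffine (Groth.AlgGrp1.AffineHull.hull G).left := inferInstanceAs (IsAffine (Spec _))
    have := (Groth.AlgGrp1.AffineHull.flat_surjective_finiteType G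
      (Groth.AlgGrp1.AffineHull.hull G) (Groth.AlgGrp1.AffineHull.toHull G)).1
    obtain ⟨n, r, hr, hm⟩ := Groth.AlgGrp1.GLnEmbed.exists_mono_GLn (Groth.AlgGrp1.AffineHull.hull G)
    have h1 := h n (Groth.AlgGrp1.AffineHull.toHull G ≫ r) inferInstance
    rw [← MonObj.one_comp r] at h1
    have h2 : Groth.AlgGrp1.AffineHull.toHull G = 1 := (cancel_mono r).1 h1
    have hsurj : Function.Surjective G.hom.appTop.hom := by
      intro y
      obtain ⟨x, hx⟩ := (ConcreteCategory.bijective_of_isIso
        ((Groth.AlgGrp1.AffineHull.toHull G).left.appTop)).2 y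
      refine ⟨(η : 𝟙_ _ ⟶ Groth.AlgGrp1.AffineHull.hull G).left.appTop x, ?_⟩
      rw [← hx, h2, show (1 : G ⟶ Groth.AlgGrp1.AffineHull.hull G) = toUnit G ≫ η from rfl, Over.comp_left,
        Scheme.Hom.comp_appTop, show (toUnit G).left = G.hom by simpa using Over.w (toUnit G)]
      rfl
    refine ⟨?_, fun y => ?_⟩
    · have : Nontrivial Γ(G.left, ⊤) := by
        refine RingHom.domain_nontrivial
          ((η : 𝟙_ _ ⟶ G).left.appTop ≫ (Scheme.ΓSpecIso (CommRingCat.of k)).hom).hom
      exact RingHom.injective _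
    · obtain ⟨x, hx⟩ := hsurj y
      obtain ⟨c, hc⟩ := (ConcreteCategory.bijective_of_isIso (Scheme.ΓSpecIso (CommRingCat.of k)).inv).2 x
      exact ⟨c, by rw [← hx, ← hc]; rfl⟩

end Groth.Agent.S18096
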