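import Groth.Statements.S18097
import Groth.Agent.Sga3.SubSpec.FieldExt
import Groth.Agent.Sga3.SpecFibreSub.Closure
-- import your own Groth.Agent.* helpers here

set_option autoImplicit false
universe u
open CategoryTheory MonoidalCategory CartesianMonoidalCategory MonObj GrpObj AlgebraicGeometry CategoryTheory.Limits
open AlgGrp

namespace Groth.Agent.S18097

/-- Let k be an algebraically closed field, F an algebraically closed field extension of k, G an
algebraic k-group (a k-group scheme of finite type) and d a natural number. Then G_F contains a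
smooth connected solvable closed subgroup of dimension at least d if and only if G does; that is,
D'_s(k, G) = D'_s(F, G). -/
theorem result (k : Type u) [Field k] [IsAlgClosed k]
    (F : Type u) [Field F] [IsAlgClosed F] [Algebra k F]
    (G : Over (Spec (CommRingCat.of k))) [GrpObj G] [LocallyOfFiniteType G.hom] [QuasiCompact G.hom] (d : ℕ) :
    (∃ (U : Over (Spec (CommRingCat.of F))) (_ : GrpObj U) (i : U ⟶ Red.bc (Spec.map (CommRingCat.ofHom (algebraMap k F))) G), IsMonHom i ∧ IsClosedImmersion i.left ∧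
        Smooth U.hom ∧ ConnectedSpace ↥U.left ∧ Red.IsSolvableGrp U ∧ (d : WithBot ℕ∞) ≤ topologicalKrullDim ↥U.left) ↔
    (∃ (U : Over (Spec (CommRingCat.of k))) (_ : GrpObj U) (i : U ⟶ G), IsMonHom i ∧ IsClosedImmersion i.left ∧
        Smooth U.hom ∧ ConnectedSpace ↥U.left ∧ Red.IsSolvableGrp U ∧ (d : WithBot ℕ∞) ≤ topologicalKrullDim ↥U.left) := by
  constructor
  · rintro ⟨U, _, i, _, _, _, _, hsol, hd⟩
    obtain ⟨H, hH, j, h1, h2, h3, h4, hle, hid⟩ := Groth.Sga3.SubSpec.exists_sub_of_field_ext (algebraMap k F) G U i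
    obtain ⟨m, hm⟩ := (Groth.Sga3.SubSpec.isSolvableGrp_iff_cMap _).1 hsol
    exact ⟨H, hH, j, h1, h2, h3, h4, (Groth.Sga3.SubSpec.isSolvableGrp_iff_cMap _).2 ⟨m, hid _ hm⟩, hd.trans hle⟩
  · rintro ⟨U, _, i, _, _, _, _, hsol, hd⟩
    let g := Spec.map (CommRingCat.ofHom (algebraMap k F))
    haveI : LocallyOfFiniteType U.hom := by rw [← Over.w i]; infer_instance
    refine ⟨Red.bc g U, inferInstance, (Over.pullback g).map i, inferInstance,
      Groth.AlgGrp1.isClosedImmersion_bc g i, Groth.AlgGrp1.smooth_bc g U, Groth.AlgGrp1.connectedSpace_bc g U, ?_, ?_⟩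
    · obtain ⟨m, hm⟩ := (Groth.Sga3.SubSpec.isSolvableGrp_iff_cMap _).1 hsol
      exact (Groth.Sga3.SubSpec.isSolvableGrp_iff_cMap _).2 ⟨m, Groth.Sga3.SpecFibreSub.cMap_bc g U _ hm⟩
    · exact hd.trans (Groth.Sga3.SpecFibreSub.dim_bc_field U g).ge

end Groth.Agent.S18097
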