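import Groth.Statements.S18101
import Groth.Agent.AlgGrp1.AffineHull
import Groth.Agent.AlgGrp1.MatRep
import Groth.Agent.AlgGrp1.Antiaffine
import Groth.Agent.Hopf.GLnHom
import Mathlib.AlgebraicGeometry.Geometrically.Integral
import Mathlib.RingTheory.TensorProduct.MvPolynomial

set_option autoImplicit false
universe u
open CategoryTheory MonoidalCategory CartesianMonoidalCategory MonObj GrpObj AlgebraicGeometry CategoryTheory.Limits
open AlgGrp

namespace Groth.Agent.S18101

open Groth.Agf (Fn pull)
open Groth.AlgGrp1 (spFn AffRing coord)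
open scoped TensorProduct Groth.Agf

noncomputable section

variable {k : Type u} [Field k] {G : Over (Spec (CommRingCat.of k))} [GrpObj G] {n : ℕ}
  (Mat : Matrix (Fin n) (Fin n) (Fn G))

/-- The action morphism on affine space. -/
def actMor : G ⊗ CoactBr.sp k (AffRing k n) ⟶ CoactBr.sp k (AffRing k n) :=
  Groth.AlgGrp1.toAffine (MvPolynomial.aeval fun i : ULift.{u} (Fin n) =>
    ∑ j, pull (fst G _) (Mat i.down j) * pull (snd G _) (spFn (MvPolynomial.X ⟨j⟩ : AffRing k n)))

omit [GrpObj G] in
theorem coord_actMor {T : Over (Spec (CommRingCat.of k))} (g : T ⟶ G) (x : T ⟶ CoactBr.sp k (AffRing k n))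
    (i : Fin n) : coord (lift g x ≫ actMor Mat) i = ∑ j, pull g (Mat i j) * coord x j := by
  rw [Groth.AlgGrp1.coord_comp, coord, actMor, Groth.AlgGrp1.pull_toAffine, MvPolynomial.aeval_X, map_sum]
  refine Finset.sum_congr rfl fun j _ => ?_
  rw [map_mul, ← Groth.Agf.pull_comp, lift_fst, ← Groth.Agf.pull_comp, lift_snd]
  rfl

/-- The linear action of a multiplicative matrix of functions. -/
def linAction
    (hmul : ∀ (T : Over (Spec (CommRingCat.of k))) (g h : T ⟶ G),
      (pull (g * h)).mapMatrix Mat = (pull g).mapMatrix Mat * (pull h).mapMatrix Mat)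
    (hone : ∀ T : Over (Spec (CommRingCat.of k)), (pull (1 : T ⟶ G)).mapMatrix Mat = 1) :
    AlgGrp.Action G (CoactBr.sp k (AffRing k n)) where
  act := actMor Mat
  one_act := by
    have e : (η[G] ▷ CoactBr.sp k (AffRing k n)) = lift (1 : _ ⟶ G) (snd _ _) := by
      apply CartesianMonoidalCategory.hom_ext
      · rw [whiskerRight_fst, lift_fst, Hom.one_def, toUnit_unique (fst _ _) (toUnit _)]
      · simp
    rw [e, ← CartesianMonoidalCategory.leftUnitor_hom]
    refine Groth.AlgGrp1.coord_ext fun i => ?_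
    rw [coord_actMor]
    have h1 := hone (𝟙_ _ ⊗ CoactBr.sp k (AffRing k n))
    rw [Finset.sum_eq_single i]
    · rw [show pull _ (Mat i i) = (1 : Matrix (Fin n) (Fin n) _) i i from (by simpa using congrFun (congrFun h1 i) i),
        Matrix.one_apply_eq, _root_.one_mul]
    · intro j _ hj
      rw [show pull _ (Mat i j) = (1 : Matrix (Fin n) (Fin n) _) i j from (by simpa using congrFun (congrFun h1 i) j),
        Matrix.one_apply_ne (Ne.symm hj), zero_mul]
    · simp
  mul_act := Groth.AlgGrp1.mulAct_of_points _ fun T g g' x => by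
    refine Groth.AlgGrp1.coord_ext fun i => ?_
    simp only [coord_actMor, Finset.mul_sum, ← _root_.mul_assoc]
    rw [Finset.sum_comm]
    refine Finset.sum_congr rfl fun j _ => ?_
    rw [← Finset.sum_mul]
    congr 1
    exact (congrFun (congrFun (hmul T g g') i) j).trans (Matrix.mul_apply)

theorem geometricallyIntegral_affine :
    GeometricallyIntegral (CoactBr.sp k (AffRing k n)).hom := by
  constructor
  intro L _ y Z a b h
  obtain ⟨φ, rfl⟩ : ∃ φ : CommRingCat.of k ⟶ CommRingCat.of L, y = Spec.map φ :=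
    ⟨Spec.preimage y, (Spec.map_preimage y).symm⟩
  let := φ.hom.toAlgebra
  let e : Z ≅ Spec (CommRingCat.of (L ⊗[k] AffRing k n)) :=
    h.flip.isoPullback ≪≫ pullbackSpecIso k L (AffRing k n)
  have : IsDomain (L ⊗[k] AffRing k n) :=
    (MvPolynomial.algebraTensorAlgEquiv k L (σ := ULift.{u} (Fin n))).toMulEquiv.isDomain
  have : Nonempty Z := ⟨e.inv (Classical.choice inferInstance)⟩
  exact isIntegral_of_isOpenImmersion e.hom

omit [GrpObj G] in
theorem app_specMap {B P : Type u} [CommRing B] [CommRing P] {W : Scheme.{u}}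
    (f : W ⟶ Spec (CommRingCat.of P)) (ψ : B →+* P) (b : B) :
    (f ≫ Spec.map (CommRingCat.ofHom ψ)).appTop ((Scheme.ΓSpecIso (CommRingCat.of B)).inv b) =
      f.appTop ((Scheme.ΓSpecIso (CommRingCat.of P)).inv (ψ b)) := by
  rw [Scheme.Hom.comp_appTop, ConcreteCategory.comp_apply]
  exact congrArg _ (ConcreteCategory.congr_hom (Scheme.ΓSpecIso_inv_naturality (CommRingCat.ofHom ψ)) b).symm

end

open Groth.Agf (Fn pull)
open Groth.AlgGrp1 (spFn AffRing coord)
open scoped TensorProduct Groth.Agf

/-- Let k be a field and G a k-group scheme of finite type. Then G is anti-affine, i.e. O(G) = k, if and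
only if every action of G on a variety having a fixed point is trivial; the fixed point is taken
k-rational here (the published condition allows any closed fixed point, which gives a formally
stronger necessary condition; the equivalence with a rational fixed point is what the published
argument through linear representations yields). -/
theorem result (k : Type u) [Field k]
    (G : Over (Spec (CommRingCat.of k))) [GrpObj G] [LocallyOfFiniteType G.hom] [QuasiCompact G.hom] :
    Function.Bijective ((Scheme.ΓSpecIso (CommRingCat.of k)).inv ≫ G.hom.appTop).hom ↔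
      ∀ (X : Over (Spec (CommRingCat.of k))) [LocallyOfFiniteType X.hom] [QuasiCompact X.hom] [IsSeparated X.hom] [GeometricallyIntegral X.hom]
        (a : AlgGrp.Action G X) (x : 𝟙_ (Over (Spec (CommRingCat.of k))) ⟶ X), a.IsFixedPt x → a.act = snd G X := by
  constructor
  · intro hc X _ _ _ _ a x hx
    have := Groth.AlgGrp1.isLocallyNoetherian_left X
    have := Groth.AlgGrp1.quasiSeparated_of_locallyOfFiniteType G
    have : IsIntegral X.left := GeometricallyIntegral.isIntegral_of_subsingleton X.hom
    have h := Groth.AlgGrp1.eq_snd_comp_of_const hc η[G] x x a.act (by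
      have := hx (G ⊗ 𝟙_ _) (fst G (𝟙_ _))
      rw [show G ◁ x = lift (fst G (𝟙_ _)) (toUnit _ ≫ x) by
        apply CartesianMonoidalCategory.hom_ext
        · simp
        · rw [whiskerLeft_snd, lift_snd, toUnit_unique (snd G (𝟙_ _)) (toUnit _)]]
      exact this)
    rw [h, show lift (toUnit X ≫ η[G]) (𝟙 X) ≫ a.act = 𝟙 X from a.lift_one_act _, Category.comp_id]
  intro h
  obtain ⟨hΓ, gH, hρ⟩ := Groth.AlgGrp1.AffineHull.exists_grpObj_hull G
  let := gH
  let H := Groth.AlgGrp1.AffineHull.hull G
  let ρ : G ⟶ H := Groth.AlgGrp1.AffineHull.toHull G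
  have : IsAffine H.left := inferInstanceAs (IsAffine (Spec _))
  obtain ⟨hHlft, -, -⟩ := Groth.AlgGrp1.AffineHull.flat_surjective_finiteType G H ρ
  obtain ⟨A, ⟨e₀⟩⟩ := Groth.Misc7.AffineGroupPoints.exists_hopf H
  let eE : Groth.Misc7.AffineGroupPoints.specObj A ≅ H := (Grp.forget _).mapIso e₀
  have : IsMonHom eE.inv := inferInstanceAs (IsMonHom e₀.inv.hom.hom)
  have : IsIso eE.inv.left := inferInstanceAs (IsIso ((Over.forget _).map eE.inv))
  have : IsIso eE.hom.left := inferInstanceAs (IsIso ((Over.forget _).map eE.hom))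
  have : Algebra.FiniteType k A := by
    rw [← RingHom.finiteType_algebraMap]
    refine (HasRingHomProperty.Spec_iff (P := @LocallyOfFiniteType)
      (φ := CommRingCat.ofHom (algebraMap k A))).1 ?_
    rw [← Groth.Misc7.AffineGroupPoints.specObj_hom A, ← Over.w eE.hom]
    exact (MorphismProperty.cancel_left_of_respectsIso @LocallyOfFiniteType eE.hom.left H.hom).2 ‹_›
  let r : G ⟶ CoactBr.sp k A := ρ ≫ eE.inv
  have : IsMonHom r := inferInstanceAs (IsMonHom (ρ ≫ eE.inv))
  have hr : IsIso r.left.appTop := by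
    show IsIso (ρ.left ≫ eE.inv.left).appTop
    rw [Scheme.Hom.comp_appTop]
    have : IsIso ρ.left.appTop := hΓ
    have : IsIso eE.inv.left.appTop := inferInstanceAs (IsIso (eE.inv.left.app ⊤))
    exact IsIso.comp_isIso
  let sF : A →ₐ[k] Fn (CoactBr.sp k A) :=
    { (Scheme.ΓSpecIso (CommRingCat.of A)).inv.hom with
      commutes' := fun c => congr($((Scheme.ΓSpecIso_inv_naturality
        (CommRingCat.ofHom (algebraMap k A)))).hom c) }
  let c : A →ₐ[k] Fn G := (pull r).comp sF
  have hc : Function.Bijective c :=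
    (ConcreteCategory.bijective_of_isIso r.left.appTop).comp
      (ConcreteCategory.bijective_of_isIso (Scheme.ΓSpecIso (CommRingCat.of A)).inv)
  obtain ⟨n, p, hp⟩ := Groth.ComodLib.exists_surjective_bialgHom_GLn (k := k) (A := A)
  let M : Matrix (Fin n) (Fin n) A := fun i j => p (CoordGrp.GLn.X i j)
  let Mat : Matrix (Fin n) (Fin n) (Fn G) := fun i j => c (M i j)
  -- multiplicativity on the affine group
  have key : ∀ a : A, pull μ[CoactBr.sp k A] (sF a) =
      (Algebra.TensorProduct.productMap ((pull (fst (CoactBr.sp k A) (CoactBr.sp k A))).comp sF)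
        ((pull (snd (CoactBr.sp k A) (CoactBr.sp k A))).comp sF)) (Coalgebra.comul (R := k) a) := by
    intro a
    let Θ : A ⊗[k] A →+* Fn (CoactBr.sp k A ⊗ CoactBr.sp k A) :=
      ((Scheme.ΓSpecIso (CommRingCat.of (A ⊗[k] A))).inv ≫ (pullbackSpecIso k A A).hom.appTop).hom
    have hμ : pull μ[CoactBr.sp k A] (sF a) = Θ (Bialgebra.comulAlgHom k A a) := by
      show (μ[(Spec (CommRingCat.of A)).asOver (Spec (CommRingCat.of k))].left).appTop.hom
        ((Scheme.ΓSpecIso (CommRingCat.of A)).inv a) = _
      rw [mul_spec_asOver_spec_left]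
      exact app_specMap (pullbackSpecIso k A A).hom (Bialgebra.comulAlgHom k A).toRingHom a
    have hfst : ∀ b : A, pull (fst (CoactBr.sp k A) (CoactBr.sp k A)) (sF b) = Θ (b ⊗ₜ 1) := by
      intro b
      show (fst (CoactBr.sp k A) (CoactBr.sp k A)).left.appTop.hom ((Scheme.ΓSpecIso (CommRingCat.of A)).inv b) = _
      rw [show (fst (CoactBr.sp k A) (CoactBr.sp k A)).left =
        (pullbackSpecIso k A A).hom ≫ Spec.map (CommRingCat.ofHom Algebra.TensorProduct.includeLeftRingHom) from
          (pullbackSpecIso_hom_fst k A A).symm]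
      exact app_specMap (pullbackSpecIso k A A).hom (Algebra.TensorProduct.includeLeftRingHom (R := k) (A := A) (B := A)) b
    have hsnd : ∀ b : A, pull (snd (CoactBr.sp k A) (CoactBr.sp k A)) (sF b) = Θ (1 ⊗ₜ b) := by
      intro b
      show (snd (CoactBr.sp k A) (CoactBr.sp k A)).left.appTop.hom ((Scheme.ΓSpecIso (CommRingCat.of A)).inv b) = _
      rw [show (snd (CoactBr.sp k A) (CoactBr.sp k A)).left =
        (pullbackSpecIso k A A).hom ≫ Spec.map (CommRingCat.ofHom
          (Algebra.TensorProduct.includeRight : A →ₐ[k] A ⊗[k] A).toRingHom) from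
          (pullbackSpecIso_hom_snd k A A).symm]
      exact app_specMap (pullbackSpecIso k A A).hom (Algebra.TensorProduct.includeRight : A →ₐ[k] A ⊗[k] A).toRingHom b
    rw [hμ, Bialgebra.comulAlgHom_apply]
    induction Coalgebra.comul (R := k) a using TensorProduct.induction_on with
    | zero => simp
    | tmul x y =>
      rw [Algebra.TensorProduct.productMap_apply_tmul, AlgHom.comp_apply, AlgHom.comp_apply, hfst, hsnd,
        ← map_mul, Algebra.TensorProduct.tmul_mul_tmul, _root_.mul_one, _root_.one_mul]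
    | add x y hx hy => rw [map_add, map_add, hx, hy]
  have hM : ∀ i j, Coalgebra.comul (R := k) (M i j) = ∑ l, M i l ⊗ₜ[k] M l j := by
    intro i j
    show Coalgebra.comul (R := k) (p (CoordGrp.GLn.X i j)) = _
    rw [← CoalgHomClass.map_comp_comul_apply p, CoordGrp.GLn.comul_X, map_sum]
    rfl
  have hmulA : ∀ (T : Over (Spec (CommRingCat.of k))) (g g' : T ⟶ CoactBr.sp k A) (i j : Fin n),
      pull (g * g') (sF (M i j)) = ∑ l, pull g (sF (M i l)) * pull g' (sF (M l j)) := by
    intro T g g' i j
    rw [Hom.mul_def, Groth.Agf.pull_comp, key, hM, map_sum, map_sum]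
    refine Finset.sum_congr rfl fun l _ => ?_
    rw [Algebra.TensorProduct.productMap_apply_tmul, map_mul, AlgHom.comp_apply, AlgHom.comp_apply,
      ← Groth.Agf.pull_comp, ← Groth.Agf.pull_comp, lift_fst, lift_snd]
  have hoptA : ∀ i j, pull η[CoactBr.sp k A] (sF (M i j)) = if i = j then 1 else 0 := by
    intro i j
    show (η[(Spec (CommRingCat.of A)).asOver (Spec (CommRingCat.of k))].left).appTop.hom
      ((Scheme.ΓSpecIso (CommRingCat.of A)).inv (M i j)) = _
    rw [one_spec_asOver_spec_left]
    refine ((ConcreteCategory.congr_hom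
      (Scheme.ΓSpecIso_inv_naturality (CommRingCat.ofHom (Bialgebra.counitAlgHom k A).toRingHom)) (M i j)).symm).trans ?_
    show (Scheme.ΓSpecIso (CommRingCat.of k)).inv (Coalgebra.counit (R := k) (p (CoordGrp.GLn.X i j))) = _
    rw [CoalgHomClass.counit_comp_apply, CoordGrp.GLn.counit_X]
    split
    · exact map_one _
    · exact map_zero _
  have hone : ∀ T : Over (Spec (CommRingCat.of k)), (pull (1 : T ⟶ G)).mapMatrix Mat = 1 := by
    intro T
    ext i j
    show pull (1 : T ⟶ G) (pull r (sF (M i j))) = _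
    rw [← Groth.Agf.pull_comp, MonObj.one_comp, Hom.one_def, Groth.Agf.pull_comp, hoptA, Matrix.one_apply]
    split <;> simp
  have hmul : ∀ (T : Over (Spec (CommRingCat.of k))) (g g' : T ⟶ G),
      (pull (g * g')).mapMatrix Mat = (pull g).mapMatrix Mat * (pull g').mapMatrix Mat := by
    intro T g g'
    ext i j
    rw [Matrix.mul_apply]
    show pull (g * g') (pull r (sF (M i j))) = ∑ l, pull g (pull r (sF (M i l))) * pull g' (pull r (sF (M l j)))
    simp only [← Groth.Agf.pull_comp, MonObj.mul_comp]
    exact hmulA T _ _ i j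
  -- the fixed origin
  let X := CoactBr.sp k (AffRing k n)
  have : LocallyOfFiniteType X.hom :=
    (HasRingHomProperty.Spec_iff (P := @LocallyOfFiniteType)).2 (RingHom.finiteType_algebraMap.2 inferInstance)
  have : QuasiCompact X.hom := inferInstanceAs (QuasiCompact (Spec.map _))
  have : IsSeparated X.hom := inferInstanceAs (IsSeparated (Spec.map _))
  have := geometricallyIntegral_affine (k := k) (n := n)
  let o : 𝟙_ (Over (Spec (CommRingCat.of k))) ⟶ X :=
    Groth.AlgGrp1.toAffine (MvPolynomial.aeval fun _ => (0 : Fn (𝟙_ (Over (Spec (CommRingCat.of k))))))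
  have ho : (linAction Mat hmul hone).IsFixedPt o := by
    intro T g
    refine Groth.AlgGrp1.coord_ext fun i => ?_
    have h0 : ∀ j, coord (toUnit T ≫ o) j = 0 := fun j => by
      rw [Groth.AlgGrp1.coord_comp, coord, Groth.AlgGrp1.pull_toAffine, MvPolynomial.aeval_X, map_zero]
    show coord (lift g (toUnit T ≫ o) ≫ actMor Mat) i = _
    rw [coord_actMor, h0]
    simp [h0]
  have htriv : actMor Mat = snd G X := h X (linAction Mat hmul hone) o ho
  have hMat : ∀ i j, Mat i j = if i = j then 1 else 0 := by
    intro i j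
    let e : G ⟶ X := Groth.AlgGrp1.toAffine
      (MvPolynomial.aeval fun l : ULift.{u} (Fin n) => if l.down = j then (1 : Fn G) else 0)
    have he : ∀ l, coord e l = if l = j then 1 else 0 := fun l => by
      rw [coord, Groth.AlgGrp1.pull_toAffine, MvPolynomial.aeval_X]
    have h1 := coord_actMor Mat (𝟙 G) e i
    rw [htriv, lift_snd] at h1
    simp only [he, mul_ite, _root_.mul_one, mul_zero, Finset.sum_ite_eq', Finset.mem_univ, if_true] at h1
    rw [h1]
    exact (congrArg (fun ψ : G.left ⟶ G.left => ψ.appTop (Mat i j)) (Over.id_left (U := G))).symm.trans rfl |>.symm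
  have hconst : ∀ a : A, c a = algebraMap k (Fn G) (Coalgebra.counit (R := k) a) := by
    intro a
    obtain ⟨b, rfl⟩ := hp a
    have e2 : c.comp (p : CoordGrp.GLn n k →ₐ[k] A) =
        ((Algebra.ofId k (Fn G)).comp (Bialgebra.counitAlgHom k A)).comp (p : CoordGrp.GLn n k →ₐ[k] A) := by
      refine Groth.ComodLib.glnAlgHom_ext fun i j => ?_
      show Mat i j = algebraMap k (Fn G) (Coalgebra.counit (R := k) (p (CoordGrp.GLn.X i j)))
      rw [hMat, CoalgHomClass.counit_comp_apply, CoordGrp.GLn.counit_X]
      split <;> simp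
    exact AlgHom.congr_fun e2 b
  refine ⟨?_, fun y => ?_⟩
  · have : Nontrivial Γ(G.left, ⊤) := RingHom.domain_nontrivial
      (η[G].left.appTop ≫ (Scheme.ΓSpecIso (CommRingCat.of k)).hom).hom
    exact RingHom.injective _
  · obtain ⟨a, rfl⟩ := hc.2 y
    exact ⟨Coalgebra.counit (R := k) a, (hconst a).symm⟩

end Groth.Agent.S18101
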