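import Groth.Statements.S18102
import Groth.Agent.AlgGrpIsog.SubDimRows
-- import your own Groth.Agent.* helpers here

set_option autoImplicit false
universe u
open CategoryTheory MonoidalCategory CartesianMonoidalCategory MonObj GrpObj AlgebraicGeometry CategoryTheory.Limits
open AlgGrp

namespace Groth.Agent.S18102

/-- Let k be a field with algebraic closure k̄ and f : G → H an isogeny of algebraic k-groups
(surjective homomorphism with finite kernel, i.e. surjective and finite). Then for every d, G_{k̄}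
contains a smooth connected affine solvable closed subgroup of dimension at least d if and only if
H_{k̄} does; that is, d_s(G) = d_s(H). -/
theorem result (k : Type u) [Field k]
    (G H : Over (Spec (CommRingCat.of k))) [GrpObj G] [LocallyOfFiniteType G.hom] [QuasiCompact G.hom]
    [GrpObj H] [LocallyOfFiniteType H.hom] [QuasiCompact H.hom]
    (f : G ⟶ H) [IsMonHom f] [Surjective f.left] [IsFinite f.left] (d : ℕ) :
    (∃ (U : Over (Spec (CommRingCat.of (AlgebraicClosure k)))) (_ : GrpObj U) (i : U ⟶ Red.bc (Spec.map (CommRingCat.ofHom (algebraMap k (AlgebraicClosure k)))) G), IsMonHom i ∧ IsClosedImmersion i.left ∧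
        Smooth U.hom ∧ IsAffine U.left ∧ ConnectedSpace ↥U.left ∧ Red.IsSolvableGrp U ∧ (d : WithBot ℕ∞) ≤ topologicalKrullDim ↥U.left) ↔
    (∃ (U : Over (Spec (CommRingCat.of (AlgebraicClosure k)))) (_ : GrpObj U) (i : U ⟶ Red.bc (Spec.map (CommRingCat.ofHom (algebraMap k (AlgebraicClosure k)))) H), IsMonHom i ∧ IsClosedImmersion i.left ∧
        Smooth U.hom ∧ IsAffine U.left ∧ ConnectedSpace ↥U.left ∧ Red.IsSolvableGrp U ∧ (d : WithBot ℕ∞) ≤ topologicalKrullDim ↥U.left) := by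
  have key := Groth.AlgGrpIsog.exists_sub_bc_iff G H f (fun U _ => IsAffine U.left ∧ Red.IsSolvableGrp U)
    (fun U V _ _ _ _ _ _ _ _ g _ _ _ h1 h2 =>
      ⟨fun ⟨ha, h⟩ => ⟨h1 ha, (Groth.AlgGrpIsog.isSolvableGrp_iff_of_isogeny g).1 h⟩,
        fun ⟨ha, h⟩ => ⟨h2 ha, (Groth.AlgGrpIsog.isSolvableGrp_iff_of_isogeny g).2 h⟩⟩) d
  constructor
  · rintro ⟨U, _, i, hi, hc, hs, ha, hcn, hn, hd⟩
    obtain ⟨V, _, j, h1, h2, h3, h4, ⟨h5, h6⟩, h7⟩ := key.1 ⟨U, _, i, hi, hc, hs, hcn, ⟨ha, hn⟩, hd⟩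
    exact ⟨V, _, j, h1, h2, h3, h5, h4, h6, h7⟩
  · rintro ⟨U, _, i, hi, hc, hs, ha, hcn, hn, hd⟩
    obtain ⟨V, _, j, h1, h2, h3, h4, ⟨h5, h6⟩, h7⟩ := key.2 ⟨U, _, i, hi, hc, hs, hcn, ⟨ha, hn⟩, hd⟩
    exact ⟨V, _, j, h1, h2, h3, h5, h4, h6, h7⟩

end Groth.Agent.S18102
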