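import Groth.Statements.S18103
import Groth.Agent.Sga3.DerDim.Main
import Groth.Agent.GrpschAbsch.NeutralSet
import Groth.Agent.S4098
import Groth.Prelude.Def_AutSch
-- import your own Groth.Agent.* helpers here

set_option autoImplicit false
universe u
open CategoryTheory.Limits
open CategoryTheory MonoidalCategory CartesianMonoidalCategory MonObj GrpObj AlgebraicGeometry CategoryTheory.Limits
open AlgGrp

namespace Groth.Agent.S18103

/-- Let S be a scheme and G a smooth S-group scheme of finite presentation; for s ∈ S let d_0(s) be the
dimension of the derived group of the identity component of the geometric fibre of G at s, i.e. the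
least dimension of a closed subgroup scheme N of the identity component C (the connected open and
closed subgroup scheme) which is normal in C and contains all commutators of points of C. Then d_0
does not increase under specialization: for every natural number n, if s specializes to s' (that is,
s' lies in the closure of s) and d_0(s) ≤ n, then d_0(s') ≤ n. (The published statement asserts that
d_0 is lower semicontinuous on S, i.e. that the set of points s with d_0(s) ≤ n is closed; the
published argument reduces to the spectrum of an integral local ring and establishes that this set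
is stable under specialization, which is what is stated here. Closedness would in addition need the
set to be locally constructible, which the argument does not address.) -/
theorem result (S : Scheme.{u}) (G : Over S) [GrpObj G]
    [Smooth G.hom] [QuasiCompact G.hom] [QuasiSeparated G.hom] (n : ℕ) :
    StableUnderSpecialization {s : ↥S | ∃ (C : Over (Spec (CommRingCat.of (AlgebraicClosure (S.residueField s))))) (_ : GrpObj C) (c : C ⟶ Red.geomFibre s G)
      (N : Over (Spec (CommRingCat.of (AlgebraicClosure (S.residueField s))))) (_ : GrpObj N) (i : N ⟶ C),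
      IsMonHom c ∧ IsOpenImmersion c.left ∧ IsClosedImmersion c.left ∧ ConnectedSpace ↥C.left ∧
      IsMonHom i ∧ IsClosedImmersion i.left ∧ AlgGrp.IsNormalHom i ∧
      (∀ (T : Over (Spec (CommRingCat.of (AlgebraicClosure (S.residueField s))))) (g h : T ⟶ C), ∃ m : T ⟶ N, g * h * g⁻¹ * h⁻¹ = m ≫ i) ∧
      topologicalKrullDim ↥N.left ≤ (n : WithBot ℕ∞)} := by
  obtain ⟨-, G₀, _, j, hj, hjo, hjr, hsm, hqc⟩ := Groth.Agent.S4098.result S G
    ⟨⊤, by infer_instance, fun p => trivial⟩
  haveI : QuasiSeparated G₀.hom := by rw [← Over.w j]; infer_instance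
  -- the geometric fibres of G₀ are the identity components
  have key : ∀ s : ↥S, IsOpenImmersion ((Over.pullback (Red.geomPt s)).map j).left ∧
      Set.range ((Over.pullback (Red.geomPt s)).map j).left.base =
        connectedComponent (AutSch.unitPt (Red.geomFibre s G)) ∧
      CompactSpace ↥(Red.geomFibre s G₀).left ∧ ConnectedSpace ↥(Red.geomFibre s G₀).left := by
    intro s
    have sq := Groth.GrpschAbsch.FibreFlat.isPullback_map (Red.geomPt s) j
    have ho : IsOpenImmersion ((Over.pullback (Red.geomPt s)).map j).left := MorphismProperty.of_isPullback sq hjo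
    have hr : Set.range ((Over.pullback (Red.geomPt s)).map j).left.base =
        connectedComponent (AutSch.unitPt (Red.geomFibre s G)) := by
      rw [← AutSch.neutralSet_eq_connectedComponent, Groth.GrpschAbsch.NeutralSet.neutralSet_bc, ← hjr]
      ext q
      constructor
      · rintro ⟨a, rfl⟩
        exact ⟨_, (Scheme.Hom.comp_apply _ _ _).symm.trans (congr(($(sq.w)).base a).trans (Scheme.Hom.comp_apply _ _ _))⟩
      · rintro ⟨a₀, ha₀⟩
        obtain ⟨a, -, ha⟩ := Scheme.exists_preimage_of_isPullback sq a₀ q ha₀
        exact ⟨a, ha⟩
    haveI : QuasiCompact (Red.geomFibre s G₀).hom := MorphismProperty.pullback_snd _ _ hqc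
    refine ⟨ho, hr, QuasiCompact.compactSpace_of_compactSpace (Red.geomFibre s G₀).hom, ?_⟩
    have hcon : _root_.IsConnected (Set.range ((Over.pullback (Red.geomPt s)).map j).left.base) := hr ▸ isConnected_connectedComponent
    haveI := isConnected_iff_connectedSpace.1 hcon
    let e := ((Over.pullback (Red.geomPt s)).map j).left.isEmbedding.toHomeomorph
    exact e.symm.surjective.connectedSpace e.symm.continuous
  rintro s s' hs ⟨C, _, c, N, _, i, _, _, _, _, _, _, -, hc, hdim⟩
  obtain ⟨ho, hr, hcpt, -⟩ := key s
  have hrc : Set.range c.left.base = connectedComponent (AutSch.unitPt (Red.geomFibre s G)) := by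
    have hu : AutSch.unitPt (Red.geomFibre s G) ∈ Set.range c.left.base :=
      ⟨AutSch.unitPt C, congr(($(IsMonHom.one_hom c)).left.base (IsLocalRing.closedPoint _))⟩
    exact ((isPreconnected_range c.left.continuous).subset_connectedComponent hu).antisymm
      (isPreconnected_connectedComponent.subset_isClopen
        ⟨c.left.isClosedEmbedding.isClosed_range, c.left.isOpenEmbedding.isOpen_range⟩
        ⟨_, mem_connectedComponent, hu⟩)
  let j₀ := (Over.pullback (Red.geomPt s)).map j
  haveI : IsMonHom j₀ := inferInstanceAs (IsMonHom ((Over.pullback (Red.geomPt s)).map j))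
  let e := IsOpenImmersion.isoOfRangeEq c.left j₀.left (hrc.trans hr.symm)
  let φ : C ⟶ Red.geomFibre s G₀ := Over.homMk e.hom (by
    rw [← Over.w j₀, ← Category.assoc, IsOpenImmersion.isoOfRangeEq_hom_fac, Over.w c])
  have hφ : φ ≫ j₀ = c := Over.OverMorphism.ext (IsOpenImmersion.isoOfRangeEq_hom_fac c.left j₀.left (hrc.trans hr.symm))
  haveI : Mono j₀ := Over.mono_of_mono_left j₀
  haveI : IsMonHom φ := Groth.AlgGrp1.isMonHom_of_points φ fun T a b => by
    rw [← cancel_mono j₀]
    conv_rhs => rw [MonObj.mul_comp, Category.assoc, Category.assoc, hφ]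
    rw [Category.assoc, hφ, MonObj.mul_comp]
  haveI : IsIso φ.left := inferInstanceAs (IsIso e.hom)
  haveI : IsIso φ := have : IsIso ((Over.forget _).map φ) := ‹IsIso φ.left›; isIso_of_reflects_iso φ (Over.forget _)
  haveI : CompactSpace ↥C.left := (inv φ.left).surjective.compactSpace (inv φ.left).continuous
  haveI : CompactSpace ↥N.left := i.left.isClosedEmbedding.compactSpace
  haveI : IsClosedImmersion (i ≫ φ).left := inferInstanceAs (IsClosedImmersion (i.left ≫ φ.left))
  obtain ⟨D, _, d, hd₁, hd₂, hd₃, hd₄, hd₅⟩ := Groth.Sga3.DerDim.exists_special G₀ hs n N (i ≫ φ) (fun T g h => by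
    obtain ⟨m, hm⟩ := hc T (g ≫ inv φ) (h ≫ inv φ)
    refine ⟨m, ?_⟩
    rw [← Category.assoc, ← hm]
    simp [MonObj.mul_comp, GrpObj.inv_comp]) hdim
  obtain ⟨ho', hr', -, hcon'⟩ := key s'
  let j' := (Over.pullback (Red.geomPt s')).map j
  haveI : IsMonHom j' := inferInstanceAs (IsMonHom ((Over.pullback (Red.geomPt s')).map j))
  haveI : IsPreimmersion j'.left := inferInstance
  haveI : IsClosedImmersion j'.left :=
    IsClosedImmersion.of_isPreimmersion _ (hr' ▸ isClosed_connectedComponent)
  exact ⟨_, inferInstance, j', D, inferInstance, d, inferInstance, ho', inferInstance, hcon', hd₁, hd₂, hd₃, hd₄, hd₅⟩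

end Groth.Agent.S18103
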