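import Groth.Statements.S18110
import Mathlib
import Groth.Agent.Calg7.CartierSmooth
-- import your own Groth.Agent.* helpers here

set_option autoImplicit false
universe u
open DeRham

namespace Groth.Agent.S18110

open exteriorPower in

open exteriorPower in
/-- Let p be a prime, A a perfect ring of characteristic p (its Frobenius is bijective), B a smooth
A-algebra, and d a de Rham differential on the exterior powers of Ω_{B/A} (a degreewise family
obeying the de Rham rule with d ∘ d = 0). Then there is exactly one additive map C from the closed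
1-forms (the kernel of d in degree 1) to the 1-forms such that C(f^p ω) = f C(ω) for f in B and ω
closed, C(ω) = 0 if and only if ω is exact, and C(f^{p-1} df) = df for f in B. (The source states
this for all degrees r at once on a smooth scheme over a perfect base, with two further conditions,
C(1) = 1 in degree 0 and multiplicativity for wedge products of closed forms, which involve other
degrees; this row is the degree-one, affine case, where those two conditions are empty.) -/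
theorem result
    (p : ℕ) [Fact p.Prime] (A B : Type u) [CommRing A] [CharP A p] [PerfectRing A p]
    [CommRing B] [Algebra A B] [Algebra.Smooth A B]
    (d : ∀ q : ℕ, ↥(⋀[B]^q (Ω[B⁄A])) →ₗ[A] ↥(⋀[B]^(q + 1) (Ω[B⁄A])))
    (hd : DeRham.IsDiff (KaehlerDifferential.D A B) d) :
    ∃! C : ↥(DeRham.cocycles d 1) →+ ↥(⋀[B]^1 (Ω[B⁄A])),
      (∀ (f : B) (ω ω' : ↥(DeRham.cocycles d 1)),
          (ω' : ↥(⋀[B]^1 (Ω[B⁄A]))) = f ^ p • (ω : ↥(⋀[B]^1 (Ω[B⁄A]))) → C ω' = f • C ω) ∧
      (∀ ω : ↥(DeRham.cocycles d 1), C ω = 0 ↔ (ω : ↥(⋀[B]^1 (Ω[B⁄A]))) ∈ DeRham.coboundaries d 1) ∧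
      (∀ (f : B) (ω : ↥(DeRham.cocycles d 1)),
          (ω : ↥(⋀[B]^1 (Ω[B⁄A]))) = f ^ (p - 1) • d 0 ((exteriorPower.zeroEquiv B (Ω[B⁄A])).symm f) →
            C ω = d 0 ((exteriorPower.zeroEquiv B (Ω[B⁄A])).symm f)) := by
  classical
  obtain ⟨n, f, hf, hfg⟩ := (inferInstance : Algebra.FinitePresentation A B).out
  obtain ⟨Cc, hsemi, hexact, hid, hdec⟩ := Groth.Calg7.Cartier.exists_operator p f hf hfg d hd.1
  let D := KaehlerDifferential.D A B
  let e1 := oneEquiv B (Ω[B⁄A])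
  have hgen1 : ∀ b₀ b : B, e1 (DeRham.gen D 1 b₀ (fun _ : Fin 1 => b)) = b₀ • D b := fun b₀ b => by
    rw [DeRham.gen, map_smul, oneEquiv_ιMulti]
  have hd0 : ∀ g : B, e1 (d 0 ((zeroEquiv B (Ω[B⁄A])).symm g)) = D g := by
    intro g
    have h0 : (zeroEquiv B (Ω[B⁄A])).symm g = DeRham.gen D 0 g Fin.elim0 := by
      refine (zeroEquiv B _).injective ?_
      simp [DeRham.gen]
    rw [h0, hd.1, oneEquiv_ιMulti, Fin.cons_zero]
  have hcl : ∀ c x : B, e1.symm (c ^ p • x ^ (p - 1) • D x) ∈ DeRham.cocycles d 1 := by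
    intro c x
    have h : e1.symm (c ^ p • x ^ (p - 1) • D x) = DeRham.gen D 1 (c ^ p * x ^ (p - 1)) (fun _ => x) := by
      rw [LinearEquiv.symm_apply_eq, hgen1, mul_smul]
    refine LinearMap.mem_ker.2 ?_
    rw [h, hd.1]
    obtain ⟨r, hr⟩ : ∃ r : B, D (c ^ p * x ^ (p - 1)) = r • D x := by
      refine ⟨c ^ p * ((p - 1 : ℕ) * x ^ (p - 1 - 1)), ?_⟩
      rw [Derivation.leibniz, Derivation.leibniz_pow, Derivation.leibniz_pow,
        ← Nat.cast_smul_eq_nsmul B p, Groth.Calg7.Cartier.natCast_zero p A, zero_smul, smul_zero, add_zero,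
        ← Nat.cast_smul_eq_nsmul B (p - 1), smul_smul, smul_smul, mul_assoc]
    rw [hr, show (Fin.cons (r • D x) (fun _ : Fin 1 => D x) : Fin 2 → Ω[B⁄A]) =
        Function.update (fun _ => D x) 0 (r • D x) from by funext i; fin_cases i <;> simp,
      AlternatingMap.map_update_smul]
    rw [show Function.update (fun _ : Fin 2 => D x) 0 (D x) = fun _ => D x from Function.update_eq_self _ _,
      (ιMulti B 2).map_eq_zero_of_eq _ (i := 0) (j := 1) rfl (by decide), smul_zero]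
  have hspec : ∀ ω : ↥(DeRham.cocycles d 1), ∃ (g : B) (c x : Fin n → B),
      e1 (ω : ↥(⋀[B]^1 (Ω[B⁄A]))) = D g + ∑ i, c i ^ p • x i ^ (p - 1) • D (x i) ∧
      Cc (e1 (ω : ↥(⋀[B]^1 (Ω[B⁄A])))) = ∑ i, c i • D (x i) := fun ω => hdec _ (by
    rw [LinearEquiv.symm_apply_apply]; exact LinearMap.mem_ker.1 ω.2)
  let C : ↥(DeRham.cocycles d 1) →+ ↥(⋀[B]^1 (Ω[B⁄A])) :=
    e1.symm.toLinearMap.toAddMonoidHom.comp (Cc.comp (e1.toLinearMap.toAddMonoidHom.comp
      (DeRham.cocycles d 1).subtype.toAddMonoidHom))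
  have hC : ∀ ω, C ω = e1.symm (Cc (e1 (ω : ↥(⋀[B]^1 (Ω[B⁄A]))))) := fun ω => rfl
  refine ⟨C, ⟨fun b ω ω' h => ?_, fun ω => ⟨fun h => ?_, fun h => ?_⟩, fun b ω h => ?_⟩, ?_⟩
  · rw [hC, hC, h, map_smul, hsemi, map_smul]
  · obtain ⟨g, c, x, h1, h2⟩ := hspec ω
    rw [hC, LinearEquiv.map_eq_zero_iff, h2] at h
    have h3 := congrArg (Groth.Calg7.Cartier.invCartier p) h
    rw [map_sum, map_zero] at h3
    simp only [D, Groth.Calg7.Cartier.invCartier_smul_D] at h3
    simp only [← Submodule.mkQ_apply, ← map_sum] at h3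
    obtain ⟨g', hg'⟩ := (Submodule.Quotient.mk_eq_zero _).1 h3
    refine ⟨(zeroEquiv B (Ω[B⁄A])).symm (g + g'), e1.injective ?_⟩
    rw [hd0, h1, map_add]
    exact congrArg (D g + ·) ((Groth.Calg7.Cartier.toFr p).injective (hg'.trans rfl))
  · obtain ⟨z, hz⟩ := h
    obtain ⟨g, rfl⟩ := (zeroEquiv B (Ω[B⁄A])).symm.surjective z
    rw [hC, ← hz, hd0, hexact, map_zero]
  · rw [hC, h, map_smul, hd0, hid, LinearEquiv.symm_apply_eq, hd0]
  · rintro C' ⟨h1, h2, h3⟩
    refine AddMonoidHom.ext fun ω => ?_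
    obtain ⟨g, c, x, hω, hCω⟩ := hspec ω
    rw [hC, hCω]
    let t : Fin n → ↥(DeRham.cocycles d 1) := fun i => ⟨_, hcl (c i) (x i)⟩
    let t0 : Fin n → ↥(DeRham.cocycles d 1) := fun i => ⟨_, hcl 1 (x i)⟩
    let u : ↥(DeRham.cocycles d 1) := ⟨d 0 ((zeroEquiv B (Ω[B⁄A])).symm g), LinearMap.mem_ker.2 (LinearMap.congr_fun (hd.2 0) _)⟩
    have hsum : ω = u + ∑ i, t i := by
      refine Subtype.ext (e1.injective ?_)
      rw [hω, Submodule.coe_add, map_add, Submodule.coe_sum, map_sum]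
      simp only [u, t, LinearEquiv.apply_symm_apply, hd0]
    rw [hsum, map_add, map_sum, (h2 u).2 ⟨_, rfl⟩, zero_add, map_sum]
    refine Finset.sum_congr rfl fun i _ => ?_
    have hti : C' (t i) = c i • C' (t0 i) := h1 (c i) (t0 i) (t i) (by
      change e1.symm _ = c i ^ p • e1.symm _
      rw [one_pow, one_smul]; exact e1.symm.map_smul _ _)
    have h0 : C' (t0 i) = d 0 ((zeroEquiv B (Ω[B⁄A])).symm (x i)) := h3 (x i) (t0 i) (e1.injective (by
      change e1 (e1.symm _) = _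
      rw [LinearEquiv.apply_symm_apply, LinearEquiv.map_smul e1, hd0, one_pow, one_smul]))
    rw [hti, h0, map_smul]
    refine congrArg (c i • ·) (e1.injective ?_)
    rw [hd0, LinearEquiv.apply_symm_apply]

end Groth.Agent.S18110
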