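import Groth.Statements.S18127
import Mathlib.LinearAlgebra.Matrix.ToLin
import Mathlib.LinearAlgebra.Matrix.NonsingularInverse
import Mathlib.LinearAlgebra.Dimension.Free

set_option autoImplicit false
universe u
open LocAlg

namespace Groth.Agent.S18127

/-- Let R be a local ring with maximal ideal m and algebraically closed residue field, and M an n × n
matrix over R whose reduction modulo m has rank at most r. Then the determinant of M lies in m^(n −
r). (The published setting is the local ring of germs of holomorphic functions at a point of a
complex manifold, where this says that the determinant vanishes to order at least n − r at a point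
where the matrix has rank at most r.) -/
theorem result
    {R : Type u} [CommRing R] [IsLocalRing R] [IsAlgClosed (IsLocalRing.ResidueField R)]
    {n : ℕ} (M : Matrix (Fin n) (Fin n) R) (r : ℕ)
    (hr : (M.map (IsLocalRing.residue R)).rank ≤ r) :
    M.det ∈ IsLocalRing.maximalIdeal R ^ (n - r) := by
  classical
  let K := IsLocalRing.ResidueField R
  set N := M.map (IsLocalRing.residue R) with hN
  let W : Submodule K (Fin n → K) := LinearMap.range N.mulVecLin
  obtain ⟨W', hW⟩ := Submodule.exists_isCompl W
  let bW := Module.finBasis K W
  let bW' := Module.finBasis K W'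
  let e := (bW.prod bW').map (Submodule.prodEquivOfIsCompl W W' hW)
  have hdim : Module.finrank K W + Module.finrank K W' = n := by
    rw [Submodule.finrank_add_eq_of_isCompl hW, Module.finrank_fin_fun]
  let e' : Module.Basis (Fin n) K (Fin n → K) := e.reindex (finSumFinEquiv.trans (finCongr hdim))
  let U : Matrix (Fin n) (Fin n) K := e'.toMatrix (Pi.basisFun K (Fin n)) 
  have hU : IsUnit U.det := by
    have := e'.invertibleToMatrix (Pi.basisFun K (Fin n))
    exact Matrix.isUnit_det_of_invertible U
  have hzero : ∀ (j : Fin (Module.finrank K W')) (c : Fin n),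
      (U * N) (finCongr hdim (finSumFinEquiv (Sum.inr j))) c = 0 := by
    intro j c
    have h1 : (U * N) (finCongr hdim (finSumFinEquiv (Sum.inr j))) c =
        e'.repr (N.mulVec (Pi.single c 1)) (finCongr hdim (finSumFinEquiv (Sum.inr j))) := by
      rw [← (Pi.basisFun K (Fin n)).toMatrix_mulVec_repr e' (N.mulVec (Pi.single c 1))]
      simp [U, Matrix.mulVec_single_one, Matrix.mulVec, dotProduct, Matrix.mul_apply]
    have hmem : N.mulVec (Pi.single c 1) ∈ W := ⟨Pi.single c 1, rfl⟩
    rw [h1, Module.Basis.repr_reindex, Finsupp.mapDomain_equiv_apply]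
    simp only [Equiv.symm_trans_apply, Equiv.symm_apply_apply, e, Module.Basis.map_repr,
      LinearEquiv.trans_apply]
    rw [Submodule.prodEquivOfIsCompl_symm_apply_left W W' hW ⟨_, hmem⟩, Module.Basis.prod_repr_inr]
    simp
  choose V hV using fun i c => IsLocalRing.residue_surjective (U i c)
  have hVd : IsUnit (Matrix.of V).det := by
    refine (IsUnit.of_map (IsLocalRing.residue R) _ ?_)
    have : (Matrix.of V).map (IsLocalRing.residue R) = U := Matrix.ext fun i c => hV i c
    rw [RingHom.map_det, RingHom.mapMatrix_apply, this]
    exact hU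
  let T := Finset.univ.image fun j : Fin (Module.finrank K W') => finCongr hdim (finSumFinEquiv (Sum.inr j))
  have hT : n - r ≤ T.card := by
    rw [Finset.card_image_of_injective _ fun a b h => by simpa using h, Finset.card_univ, Fintype.card_fin]
    have : Module.finrank K W = N.rank := rfl
    omega
  have hmemT : ∀ i ∈ T, ∀ c, (Matrix.of V * M) i c ∈ IsLocalRing.maximalIdeal R := by
    intro i hi c
    obtain ⟨j, -, rfl⟩ := Finset.mem_image.1 hi
    rw [← IsLocalRing.residue_eq_zero_iff]
    have h2 : (Matrix.of V * M).map (IsLocalRing.residue R) = U * N := by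
      rw [Matrix.map_mul]
      exact congrArg (· * N) (Matrix.ext fun i c => hV i c)
    exact (congrFun (congrFun h2 _) c).trans (hzero j c)
  have : (Matrix.of V * M).det ∈ IsLocalRing.maximalIdeal R ^ (n - r) := by
    rw [Matrix.det_apply']
    refine Ideal.sum_mem _ fun σ _ => Ideal.mul_mem_left _ _ ?_
    rw [← Finset.prod_mul_prod_compl (T.image fun i => σ.symm i)]
    refine Ideal.mul_mem_right _ _ (Ideal.pow_le_pow_right hT ?_)
    rw [← Finset.card_image_of_injective T σ.symm.injective, ← Finset.prod_const]
    refine Ideal.prod_mem_prod fun x hx => ?_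
    obtain ⟨i, hi, rfl⟩ := Finset.mem_image.1 hx
    rw [Equiv.apply_symm_apply]
    exact hmemT i hi _
  rw [Matrix.det_mul] at this
  exact (Ideal.unit_mul_mem_iff_mem _ hVd).1 this

end Groth.Agent.S18127
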