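import Groth.Statements.S18128
import Groth.Agent.Calg8.AcyclicityLemma

set_option autoImplicit false
universe u
open CAlg

namespace Groth.Agent.S18128

/-- Local step of Buchsbaum–Eisenbud: let R be a Noetherian local ring with maximal ideal m, and 0 →
R^(n_e) → ⋯ → R^(n_1) → R^(n_0) a complex of finite free modules, the map R^(n_(i+1)) → R^(n_i)
being given by the matrix A i, with 1 ≤ e and e at most the depth of R (there is an R-regular
sequence of length e inside m). If for every prime ideal p ≠ m the complex of matrices over R_p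
obtained by localization is exact at R_p^(n_e), …, R_p^(n_1), then the complex is exact at R^(n_e),
…, R^(n_1). -/
theorem result
    {R : Type u} [CommRing R] [IsLocalRing R] [IsNoetherianRing R]
    (e : ℕ) (he : 1 ≤ e) (n : ℕ → ℕ) (A : (i : ℕ) → Matrix (Fin (n i)) (Fin (n (i + 1))) R)
    (hA : ∀ i, i + 2 ≤ e → A i * A (i + 1) = 0)
    (rs : List R) (hlen : rs.length = e) (hmem : ∀ x ∈ rs, x ∈ IsLocalRing.maximalIdeal R)
    (hreg : RingTheory.Sequence.IsRegular R rs)
    (hloc : ∀ (p : Ideal R) [p.IsPrime], p ≠ IsLocalRing.maximalIdeal R →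
      LinearMap.ker ((A (e - 1)).map (algebraMap R (Localization.AtPrime p))).mulVecLin = ⊥ ∧
        ∀ i, i + 2 ≤ e →
          LinearMap.ker ((A i).map (algebraMap R (Localization.AtPrime p))).mulVecLin =
            LinearMap.range ((A (i + 1)).map (algebraMap R (Localization.AtPrime p))).mulVecLin) :
    LinearMap.ker (A (e - 1)).mulVecLin = ⊥ ∧
      ∀ i, i + 2 ≤ e → LinearMap.ker (A i).mulVecLin = LinearMap.range (A (i + 1)).mulVecLin := by
  classical
  refine Groth.Calg8.BE.exact_of_ker_eq_next he (Groth.Calg8.BE.acyclic_local hA (fun i hi => Or.inl ?_) fun p hp hne i hi z hz => ?_)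
  · have htop : IsLocalRing.maximalIdeal R • (⊤ : Submodule R R) ≠ ⊤ := by
      rw [smul_eq_mul, Ideal.mul_top]
      exact (IsLocalRing.maximalIdeal.isMaximal R).ne_top
    refine le_trans (show ((i + 1 : ℕ) : ℕ∞) ≤ (e : ℕ∞) by exact_mod_cast hi) ?_
    exact (Groth.LocCohBase.le_idealDepth_iff_exists _ htop e).2 ⟨rs, hlen, hreg.toIsWeaklyRegular, hmem⟩
  · have := hp
    obtain ⟨hlast', hex'⟩ := hloc p hne
    refine Groth.Calg8.BE.mem_next_of_loc p ?_
    have hz' : algebraMap R (Localization.AtPrime p) ∘ z ∈
        LinearMap.ker ((A i).map (algebraMap R (Localization.AtPrime p))).mulVecLin := by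
      rw [LinearMap.mem_ker, Matrix.mulVecLin_apply]
      refine (Groth.Calg8.BE.loc_mulVec p i z).trans ?_
      rw [show (A i).mulVec z = 0 from hz]
      exact funext fun j => map_zero _
    rw [Groth.Calg8.BE.next]
    split_ifs with h
    · rw [hex' i (by omega)] at hz'
      exact hz'
    · obtain rfl : i = e - 1 := by omega
      rw [hlast'] at hz'
      exact hz'

end Groth.Agent.S18128
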