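import Groth.Statements.S18129
import Groth.Agent.SurfRR.Numerics
-- import your own Groth.Agent.* helpers here

set_option autoImplicit false
universe u
open CategoryTheory CategoryTheory.Limits AlgebraicGeometry
open Surf

namespace Groth.Agent.S18129

/-- Let X be a K3 surface over an algebraically closed field k of characteristic zero — an integral
scheme, smooth and proper over k, of dimension two, carrying an ample invertible module, whose
structure sheaf is a second exterior power of its sheaf of differentials (trivial canonical sheaf)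
and with H^1(X, O_X) = 0. If L is an invertible O_X-module which is numerically trivial — the
intersection number (L·M), the alternating sum χ(O_X) − χ(L) − χ(M) + χ(L ⊗ M) of Euler
characteristics, vanishes for every invertible O_X-module M — then L ≅ O_X. Consequently the natural
surjections from Pic(X) to the Néron–Severi group and to the group of numerical equivalence classes
are bijective. -/
theorem result (k : Type u) [Field k] [IsAlgClosed k] [CharZero k]
    (X : Scheme.{u}) [X.Over (Spec (CommRingCat.of k))] [IsIntegral X]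
    [Smooth (X ↘ Spec (CommRingCat.of k))] (hdim : topologicalKrullDim X = 2)
    [IsProper (X ↘ Spec (CommRingCat.of k))]
    (H : X.Modules) (hHa : CohB1.IsAmple H)
    (hK : Canon.IsTopDiff (X ↘ Spec (CommRingCat.of k)) 2 (Coh.structureModule X))
    (hq : Module.finrank k (Coh.HH X (Coh.structureModule X) 1) = 0)
    (L : X.Modules) (hL : PicF.IsInvertible L)
    (hnum : ∀ M : X.Modules, PicF.IsInvertible M →
      FGA.intNum k X 2 ![L, M] (Coh.structureModule X) = 0) :
    Nonempty (L ≅ Coh.structureModule X) := by
  obtain ⟨hOi, hDD⟩ := Groth.SurfRR.dualDim_topForms' k hdim hK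
  have hD2 := Groth.SurfRR.dualEuler_of_dualDim k hdim.le hDD
  obtain ⟨L', -, hLL'⟩ := Groth.PicAux.exists_isInverseOf hL
  have hL' := Groth.PicAux.isInvertible_of_isInverseOf hL hLL'
  have hd : ∀ {B B' : X.Modules}, PicF.IsInvertible B → ClSub.IsInverseOf B B' → ∀ n, n ≤ 2 →
      Module.finrank k (Coh.HH X B' n) = Module.finrank k (Coh.HH X B (2 - n)) := fun hB hBB' n hn => by
    rw [← hDD _ _ hB hBB' n hn, Groth.EulerDeg.finrank_congr (k := k) (Groth.Inter.tensor_one _).some n]
  have hO0 : 1 ≤ Module.finrank k (Coh.HH X (Coh.structureModule X) 0) := by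
    haveI : IsNoetherian X := Groth.Inter.isNoetherian k
    haveI := Groth.EulerDeg.finite_HH k X (Groth.QCohMod.isCoh_unit (X := X)) 0
    haveI : Nontrivial (Coh.HH X (Coh.structureModule X) 0) := Groth.SurfRR.nontrivial_h0_structure k
    exact Module.finrank_pos
  have hzero : ∀ B : X.Modules, PicF.IsInvertible B → Groth.Inter.pair k L B = 0 := fun B hB => by
    rw [← Groth.Inter.intNum_eq_pair k hdim.le]; exact hnum B hB
  have hRR := Groth.SurfRR.riemannRoch k hdim.le hOi hD2 hL
  rw [Groth.Inter.intNum_eq_pair k hdim.le, Groth.Inter.intNum_eq_pair k hdim.le, hzero L hL, hzero _ hOi,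
    Groth.Inter.euler_eq_three k hdim.le, Groth.Inter.euler_eq_three k hdim.le, hq,
    hd (Groth.EulerDeg.isInvertible_structureModule X) (Groth.Inter.tensor_one _) 2 le_rfl,
    ← hd hL hLL' 0 (by omega)] at hRR
  by_cases h : Nontrivial (Coh.HH X L 0)
  · exact Groth.SurfRR.iso_structure_of_pair_eq_zero k hdim hL h hHa (hzero H hHa.1)
  · haveI := not_nontrivial_iff_subsingleton.1 h
    rw [Module.finrank_zero_of_subsingleton (M := Coh.HH X L 0)] at hRR
    haveI : Nontrivial (Coh.HH X L' 0) := by
      by_contra h'
      haveI := not_nontrivial_iff_subsingleton.1 h'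
      rw [Module.finrank_zero_of_subsingleton (M := Coh.HH X L' 0)] at hRR
      omega
    obtain ⟨e⟩ := Groth.SurfRR.iso_structure_of_pair_eq_zero k hdim hL' ‹_› hHa (by
      rw [Groth.Inter.pair_inverse k hdim.le hL hLL' hHa.1, hzero H hHa.1, neg_zero])
    exact ⟨(Groth.Inter.tensor_one L).some.symm ≪≫ (Groth.Inter.tensor_comm _ _).some ≪≫
      (Groth.Inter.tensor_congr ⟨Iso.refl L⟩ ⟨e.symm⟩).some ≪≫ hLL'.some⟩

end Groth.Agent.S18129
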