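import Groth.Statements.S1813
import Groth.Agent.LocCohTransform.RgammaTorsion

set_option autoImplicit false
universe u
open CategoryTheory
attribute [local instance] HasDerivedCategory.standard
open LocCoh

namespace Groth.Agent.S1813

/-- Let A be a Noetherian ring, I an ideal, and K an object of D(A) all of whose cohomology modules are
I-power torsion; assume the total right derived functor RΓ_I exists. Then the canonical map RΓ_I(K)
→ K is an isomorphism. -/
theorem result (A : Type u) [CommRing A] [IsNoetherianRing A] (I : Ideal A) [DRing.HasRgammaI I] (K : Dual.D A) (hK : ∀ i : ℤ, LocCoh.IsPowerTorsion I (Dual.HD A K i)) : IsIso ((DRing.RgammaIε I).app K) := by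
  exact Groth.LocCohTransform.RgammaTorsion.isIso_ε I K hK

end Groth.Agent.S1813
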