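import Groth.Statements.S18136
import Mathlib
-- import your own Groth.Agent.* helpers here

set_option autoImplicit false
universe u v
open IsLocalRing
open CAlg

namespace Groth.Agent.S18136

theorem psi_local {A : Type u} [CommRing A] [Nontrivial A]
    {ι : Type v} [Preorder ι] [IsDirected ι (· ≤ ·)]
    (B : ι → Type u) [∀ j, CommRing (B j)]
    (φ : ∀ i j, i ≤ j → (B i →+* B j)) (hφloc : ∀ i j (h : i ≤ j), IsLocalHom (φ i j h))
    (hφ : ∀ i j l (hij : i ≤ j) (hjl : j ≤ l), (φ j l hjl).comp (φ i j hij) = φ i l (hij.trans hjl))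
    (ψ : ∀ j, B j →+* A) (hψ : ∀ i j (h : i ≤ j), (ψ j).comp (φ i j h) = ψ i)
    (hsurj : ∀ a : A, ∃ j, ∃ x : B j, ψ j x = a)
    (hker : ∀ j (x : B j), ψ j x = 0 → ∃ l, ∃ h : j ≤ l, φ j l h x = 0)
    (j : ι) (x : B j) (hx : IsUnit (ψ j x)) : IsUnit x := by
  obtain ⟨v, hv⟩ := hx.exists_right_inv
  obtain ⟨i, y, hy⟩ := hsurj v
  obtain ⟨k, hjk, hik⟩ := exists_ge_ge j i
  have h0 : ψ k (φ j k hjk x * φ i k hik y - 1) = 0 := by
    rw [map_sub, map_mul, map_one, ← RingHom.comp_apply, hψ, ← RingHom.comp_apply, hψ, hy, hv,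
      sub_self]
  obtain ⟨l, hkl, hl⟩ := hker k _ h0
  rw [map_sub, map_mul, map_one, sub_eq_zero, ← RingHom.comp_apply, hφ, ← RingHom.comp_apply,
    hφ] at hl
  have hu : IsUnit (φ j l (hjk.trans hkl) x) := IsUnit.of_mul_eq_one _ hl
  exact (hφloc j l _).map_nonunit x hu

theorem li_of_map {A B : Type u} [CommRing A] [IsLocalRing A] [CommRing B] [IsLocalRing B]
    (ψ : B →+* A) (hψ : ∀ x, IsUnit (ψ x) → IsUnit x)
    {n : Type} [Fintype n] (X : n → maximalIdeal B) (Y : n → maximalIdeal A)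
    (hXY : ∀ t, ψ (X t : B) = (Y t : A))
    (h : LinearIndependent (ResidueField A) (⇑(maximalIdeal A).toCotangent ∘ Y)) :
    LinearIndependent (ResidueField B) (⇑(maximalIdeal B).toCotangent ∘ X) := by
  rw [Fintype.linearIndependent_iff] at h ⊢
  intro g hg t
  choose r hr using fun t => IsLocalRing.residue_surjective (g t)
  have hmap : (maximalIdeal B).map ψ ≤ maximalIdeal A := by
    rw [Ideal.map_le_iff_le_comap]
    intro x hx
    rw [Ideal.mem_comap, IsLocalRing.mem_maximalIdeal, mem_nonunits_iff]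
    exact fun hu => hx (hψ x hu)
  have h1 : (maximalIdeal B).toCotangent (∑ t, r t • X t) = 0 := by
    rw [map_sum, ← hg]
    refine Finset.sum_congr rfl fun t _ => ?_
    rw [map_smul, ← hr t]
    rfl
  rw [Ideal.toCotangent_eq_zero] at h1
  have h2 : ψ ((∑ t, r t • X t : maximalIdeal B) : B) ∈ (maximalIdeal A) ^ 2 := by
    have := Ideal.mem_map_of_mem ψ h1
    rw [Ideal.map_pow] at this
    exact Ideal.pow_right_mono hmap 2 this
  have h3 : (maximalIdeal A).toCotangent (∑ t, ψ (r t) • Y t) = 0 := by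
    rw [Ideal.toCotangent_eq_zero]
    convert h2 using 1
    simp [map_sum, map_mul, hXY]
  have h4 : ∀ t, IsLocalRing.residue A (ψ (r t)) = 0 := by
    apply h
    rw [← h3, map_sum]
    refine Finset.sum_congr rfl fun t _ => ?_
    rw [map_smul]
    rfl
  have h5 := h4 t
  rw [IsLocalRing.residue_eq_zero_iff, IsLocalRing.mem_maximalIdeal, mem_nonunits_iff] at h5
  rw [← hr t, IsLocalRing.residue_eq_zero_iff, IsLocalRing.mem_maximalIdeal, mem_nonunits_iff]
  exact fun hu => h5 (hu.map ψ)

theorem psi_mem {A B : Type u} [CommRing A] [IsLocalRing A] [CommRing B] [IsLocalRing B]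
    (ψ : B →+* A) (x : B) (hx : ψ x ∈ maximalIdeal A) : x ∈ maximalIdeal B := by
  rw [IsLocalRing.mem_maximalIdeal, mem_nonunits_iff] at hx ⊢
  exact fun hu => hx (hu.map ψ)

/-- Let A be a regular local ring with maximal ideal m and residue field k, written as a directed
colimit of regular local rings A_j with local transition maps (compatible maps ψ_j : A_j → A that
are jointly surjective, an element dying in A dying at some later stage). Let f_1, …, f_c, g_1, …,
g_d ∈ m have linearly independent classes in m/m^2 over k, and put I = (f_1, …, f_c) ⊆ I' = (f_1, …,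
f_c, g_1, …, g_d) (so I is generated by part of a regular system of parameters of A and I'/I by part
of a regular system of parameters of A/I; for a regular local ring the condition on I ⊆ I' is stated
through such a joint family). Then there are an index j_0 and ideals I_j ⊆ I'_j ⊆ A_j for j ≥ j_0
such that: each I_j is generated by c elements and I'_j by these together with d further elements of
the maximal ideal m_j, the c + d classes in m_j/m_j^2 being linearly independent over the residue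
field of A_j; the transition maps carry I_i, I'_i onto generators of I_j, I'_j for j_0 ≤ i ≤ j; and
I_j, I'_j generate I, I' in A. -/
theorem result
    {A : Type u} [CommRing A] [IsRegularLocalRing A]
    {ι : Type v} [Preorder ι] [Nonempty ι] [IsDirected ι (· ≤ ·)]
    (B : ι → Type u) [∀ j, CommRing (B j)] [∀ j, IsRegularLocalRing (B j)]
    (φ : ∀ i j, i ≤ j → (B i →+* B j)) (hφloc : ∀ i j (h : i ≤ j), IsLocalHom (φ i j h))
    (hφ : ∀ i j l (hij : i ≤ j) (hjl : j ≤ l), (φ j l hjl).comp (φ i j hij) = φ i l (hij.trans hjl))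
    (ψ : ∀ j, B j →+* A) (hψ : ∀ i j (h : i ≤ j), (ψ j).comp (φ i j h) = ψ i)
    (hsurj : ∀ a : A, ∃ j, ∃ x : B j, ψ j x = a)
    (hker : ∀ j (x : B j), ψ j x = 0 → ∃ l, ∃ h : j ≤ l, φ j l h x = 0)
    (c d : ℕ) (f : Fin c → maximalIdeal A) (g : Fin d → maximalIdeal A)
    (hind : LinearIndependent (ResidueField A) (⇑(maximalIdeal A).toCotangent ∘ Sum.elim f g)) :
    ∃ j₀ : ι, ∃ (P : ∀ j, j₀ ≤ j → Ideal (B j)) (Q : ∀ j, j₀ ≤ j → Ideal (B j)),
      (∀ j (hj : j₀ ≤ j), ∃ (F : Fin c → maximalIdeal (B j)) (E : Fin d → maximalIdeal (B j)),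
        LinearIndependent (ResidueField (B j)) (⇑(maximalIdeal (B j)).toCotangent ∘ Sum.elim F E) ∧
        P j hj = Ideal.span (Set.range (fun s => (F s : B j))) ∧
        Q j hj = P j hj ⊔ Ideal.span (Set.range (fun t => (E t : B j)))) ∧
      (∀ i j (hi : j₀ ≤ i) (hij : i ≤ j),
        (P i hi).map (φ i j hij) = P j (le_trans hi hij) ∧ (Q i hi).map (φ i j hij) = Q j (le_trans hi hij)) ∧
      (∀ j (hj : j₀ ≤ j),
        (P j hj).map (ψ j) = Ideal.span (Set.range (fun s => (f s : A))) ∧
        (Q j hj).map (ψ j) = Ideal.span (Set.range (fun s => (f s : A))) ⊔ Ideal.span (Set.range (fun t => (g t : A)))) := by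
  classical
  choose J X hX using fun t : Fin c ⊕ Fin d => hsurj ((Sum.elim f g t : maximalIdeal A) : A)
  obtain ⟨j₀, hj₀⟩ := (Finset.univ.image J).exists_le
  have hJ : ∀ t, J t ≤ j₀ := fun t => hj₀ _ (Finset.mem_image_of_mem _ (Finset.mem_univ t))
  let Z : ∀ j, j₀ ≤ j → Fin c ⊕ Fin d → B j := fun j hj t => φ (J t) j ((hJ t).trans hj) (X t)
  have hZψ : ∀ j (hj : j₀ ≤ j) t, ψ j (Z j hj t) = ((Sum.elim f g t : maximalIdeal A) : A) := by
    intro j hj t
    simp only [Z]
    rw [← RingHom.comp_apply, hψ, hX]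
  have hZφ : ∀ i j (hi : j₀ ≤ i) (hij : i ≤ j) t, φ i j hij (Z i hi t) = Z j (hi.trans hij) t := by
    intro i j hi hij t
    simp only [Z]
    rw [← RingHom.comp_apply, hφ]
  refine ⟨j₀, fun j hj => Ideal.span (Set.range fun s => Z j hj (.inl s)),
    fun j hj => Ideal.span (Set.range fun s => Z j hj (.inl s)) ⊔
      Ideal.span (Set.range fun s => Z j hj (.inr s)), ?_, ?_, ?_⟩
  · intro j hj
    refine ⟨fun s => ⟨Z j hj (.inl s), psi_mem (ψ j) _ (by rw [hZψ j hj]; exact (f s).2)⟩,
      fun s => ⟨Z j hj (.inr s), psi_mem (ψ j) _ (by rw [hZψ j hj]; exact (g s).2)⟩, ?_, rfl, rfl⟩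
    refine li_of_map (ψ j) (psi_local B φ hφloc hφ ψ hψ hsurj hker j) _ (Sum.elim f g) ?_ hind
    rintro (s | s) <;> exact hZψ j hj _
  · intro i j hi hij
    simp only [Ideal.map_sup, Ideal.map_span, ← Set.range_comp, Function.comp_def, hZφ, and_self]
  · intro j hj
    simp only [Ideal.map_sup, Ideal.map_span, ← Set.range_comp, Function.comp_def, hZψ, Sum.elim_inl,
      Sum.elim_inr, and_self]

end Groth.Agent.S18136
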