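import Groth.Statements.S18151
import Groth.Agent.PicAux.Tensor
import Groth.Agent.PicAux.Integral
import Groth.Agent.S0002
import Groth.Agent.VarietyBC.CurveGG

set_option autoImplicit false
universe u
open CategoryTheory AlgebraicGeometry Opposite TopologicalSpace
open FrobSch

namespace Groth.Agent.S18151

open Groth.PicAux

section Frob

variable {X : Scheme.{u}} {p : ℕ}
  (φ : Coh.toAb (Coh.structureModule X) ⟶ Coh.toAb (Coh.structureModule X))
  (hφ : ∀ (U : X.Opens) (t : Γ(X, U)), φ.hom.app (op U) t = t ^ p)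
  (L : X.Modules)

include hφ in
theorem pow_add (U : X.Opens) (a b : Γ(X, U)) : (a + b) ^ p = a ^ p + b ^ p := by
  have h := map_add (φ.hom.app (op U)).hom (show (Coh.toAb (Coh.structureModule X)).obj.obj (op U) from a)
    (show (Coh.toAb (Coh.structureModule X)).obj.obj (op U) from b)
  exact (hφ U (a + b)).symm.trans (h.trans (congrArg₂ (· + ·) (hφ U a) (hφ U b)))

include hφ in
theorem powSec_add (hL : PicF.IsInvertible L) (V : X.Opens) (a b : Γ(L, V)) :
    powSec (a + b) p = powSec a p + powSec b p := by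
  obtain ⟨U, g, hU, -, hg⟩ := exists_gen_cover hL
  refine res_ext (fun i => V ⊓ U i) (fun _ => inf_le_left) (le_iSup_inf hU V) fun i => ?_
  obtain ⟨r, hr⟩ := (hg i).exists_coeff inf_le_right (res L (inf_le_left : V ⊓ U i ≤ V) a)
  obtain ⟨t, ht⟩ := (hg i).exists_coeff inf_le_right (res L (inf_le_left : V ⊓ U i ≤ V) b)
  rw [res_add, res_powSec, res_powSec, res_powSec, res_add, hr, ht, ← add_smul, powSec_smul,
    powSec_smul, powSec_smul, pow_add φ hφ, add_smul]

/-- `m ↦ m^{⊗ p}`. -/
noncomputable def powHom (hL : PicF.IsInvertible L) : Coh.toAb L ⟶ Coh.toAb (CohB1.tensorPow L p) :=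
  ⟨{ app := fun V => AddCommGrpCat.ofHom (AddMonoidHom.mk' (fun m : Γ(L, unop V) =>
        (powSec m p : Γ(CohB1.tensorPow L p, unop V))) (powSec_add φ hφ L hL _))
     naturality := fun V W f => by
      ext m
      exact (res_powSec (leOfHom f.unop) m p).symm }⟩

variable (s : Coh.toAb (Coh.structureModule X) ⟶ Coh.toAb (Coh.structureModule X))

/-- The splitting on the functions. -/
noncomputable def sF (U : X.Opens) (r : Γ(X, U)) : Γ(X, U) :=
  @id Γ(X, U) (s.hom.app (op U) r)

theorem sF_res {U V : X.Opens} (h : V ≤ U) (r : Γ(X, U)) :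
    sF s V (resX X h r) = resX X h (sF s U r) :=
  congr($(s.hom.naturality (homOfLE h).op) r)

/-- `y` is the image of `z` under the map `r e^p ↦ s(r) e`. -/
def IsRoot (V : X.Opens) (z : Γ(CohB1.tensorPow L p, V)) (y : Γ(L, V)) : Prop :=
  ∀ (W : X.Opens) (h : W ≤ V) (e : Γ(L, W)), Gen L W e → ∀ r : Γ(X, W),
    res _ h z = r • powSec e p → res L h y = sF s W r • e

theorem isRoot_unique (hL : PicF.IsInvertible L) {V : X.Opens} {z : Γ(CohB1.tensorPow L p, V)}
    {y y' : Γ(L, V)} (h : IsRoot L s V z y) (h' : IsRoot L s V z y') : y = y' := by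
  obtain ⟨U, g, hU, -, hg⟩ := exists_gen_cover hL
  refine res_ext (fun i => V ⊓ U i) (fun _ => inf_le_left) (le_iSup_inf hU V) fun i => ?_
  have he := (hg i).res (inf_le_right : V ⊓ U i ≤ U i)
  obtain ⟨r, hr⟩ := (he.pow p).exists_coeff le_rfl (res _ (inf_le_left : V ⊓ U i ≤ V) z)
  rw [res_self] at hr
  rw [h _ inf_le_left _ he r hr, h' _ inf_le_left _ he r hr]

variable (hlin : ∀ (U : X.Opens) (a b : Γ(X, U)), sF s U (a ^ p * b) = a * sF s U b)

include hlin in
theorem exists_isRoot (hL : PicF.IsInvertible L) (V : X.Opens) (z : Γ(CohB1.tensorPow L p, V)) :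
    ∃ y, IsRoot L s V z y := by
  obtain ⟨U, g, hU, -, hg⟩ := exists_gen_cover hL
  have he := fun i => (hg i).res (inf_le_right : V ⊓ U i ≤ U i)
  choose c hc using fun i =>
    ((he i).pow p).exists_coeff le_rfl (res _ (inf_le_left : V ⊓ U i ≤ V) z)
  simp only [res_self] at hc
  have key : ∀ (i : X) (W : X.Opens) (h : W ≤ V ⊓ U i) (e : Γ(L, W)), Gen L W e → ∀ r : Γ(X, W),
      res _ (h.trans inf_le_left) z = r • powSec e p →
      res L h (sF s _ (c i) • res L inf_le_right (g i)) = sF s W r • e := by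
    intro i W h e hege r hr
    obtain ⟨u, hu⟩ := hege.exists_coeff le_rfl (res L h (res L inf_le_right (g i)))
    rw [res_self] at hu
    have h1 := congrArg (res _ h) (hc i)
    rw [res_res, res_smul, res_powSec, hu, powSec_smul, ← mul_smul, hr] at h1
    have h2 : r = resX X h (c i) * u ^ p := (hege.pow p).smul_inj le_rfl (by simpa using h1)
    rw [res_smul, hu, ← sF_res, h2, mul_comm (resX X h (c i)) (u ^ p), hlin, ← mul_smul,
      mul_comm]
  obtain ⟨y, hy, -⟩ := res_glue (M := L) (fun i => V ⊓ U i) (fun _ => inf_le_left)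
    (le_iSup_inf hU V) (fun i => sF s _ (c i) • res L inf_le_right (g i)) fun i j => by
      have hj := (he j).res (inf_le_right : (V ⊓ U i) ⊓ (V ⊓ U j) ≤ V ⊓ U j)
      obtain ⟨r, hr⟩ := (hj.pow p).exists_coeff le_rfl
        (res _ ((inf_le_right : (V ⊓ U i) ⊓ (V ⊓ U j) ≤ V ⊓ U j).trans inf_le_left) z)
      rw [res_self] at hr
      rw [key i _ inf_le_left _ hj r hr, key j _ inf_le_right _ hj r hr]
  refine ⟨y, fun W h e hege r hr => ?_⟩
  refine res_ext (fun i => W ⊓ U i) (fun _ => inf_le_left) (le_iSup_inf hU W) fun i => ?_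
  have h1 : res _ (inf_le_left.trans h : W ⊓ U i ≤ V) z =
      resX X (inf_le_left : W ⊓ U i ≤ W) r • powSec (res L (inf_le_left : W ⊓ U i ≤ W) e) p := by
    rw [← res_powSec, ← res_smul, ← hr, res_res]
  have h2 := key i (W ⊓ U i) (inf_le_inf_right _ h) _ (hege.res inf_le_left) _ h1
  rw [← hy i, res_res] at h2
  rw [res_res, h2, sF_res, res_smul]

/-- The map `r e^p ↦ s(r) e` on sections. -/
noncomputable def rootFun (hL : PicF.IsInvertible L) (V : X.Opens)
    (z : Γ(CohB1.tensorPow L p, V)) : Γ(L, V) :=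
  (exists_isRoot L s hlin hL V z).choose

theorem isRoot_rootFun (hL : PicF.IsInvertible L) (V : X.Opens)
    (z : Γ(CohB1.tensorPow L p, V)) : IsRoot L s V z (rootFun L s hlin hL V z) :=
  (exists_isRoot L s hlin hL V z).choose_spec

theorem rootFun_add (hL : PicF.IsInvertible L) (V : X.Opens)
    (a b : Γ(CohB1.tensorPow L p, V)) :
    rootFun L s hlin hL V (a + b) = rootFun L s hlin hL V a + rootFun L s hlin hL V b := by
  refine isRoot_unique L s hL (isRoot_rootFun L s hlin hL V (a + b)) fun W h e he r hr => ?_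
  obtain ⟨t, ht⟩ := (he.pow p).exists_coeff le_rfl (res _ h a)
  obtain ⟨t', ht'⟩ := (he.pow p).exists_coeff le_rfl (res _ h b)
  rw [res_self] at ht ht'
  have h1 : r = t + t' := (he.pow p).smul_inj le_rfl (by
    rw [res_self, ← hr, res_add, ht, ht', add_smul])
  have h2 : sF s W r = sF s W t + sF s W t' := by
    rw [h1]; exact map_add (s.hom.app (op W)).hom t t'
  rw [res_add, isRoot_rootFun L s hlin hL V a W h e he t ht,
    isRoot_rootFun L s hlin hL V b W h e he t' ht', h2, add_smul]

theorem rootFun_res (hL : PicF.IsInvertible L) {U V : X.Opens} (hVU : V ≤ U)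
    (z : Γ(CohB1.tensorPow L p, U)) :
    rootFun L s hlin hL V (res _ hVU z) = res L hVU (rootFun L s hlin hL U z) := by
  refine isRoot_unique L s hL (isRoot_rootFun L s hlin hL V (res _ hVU z)) fun W h e he r hr => ?_
  rw [res_res] at hr
  rw [res_res, isRoot_rootFun L s hlin hL U z W _ e he r hr]

/-- The map `r e^p ↦ s(r) e`. -/
noncomputable def rootHom (hL : PicF.IsInvertible L) :
    Coh.toAb (CohB1.tensorPow L p) ⟶ Coh.toAb L :=
  ⟨{ app := fun V => AddCommGrpCat.ofHom (AddMonoidHom.mk' (rootFun L s hlin hL (unop V))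
        (rootFun_add L s hlin hL (unop V)))
     naturality := fun V W f => by
      ext z
      exact rootFun_res L s hlin hL (leOfHom f.unop) z }⟩

include hlin in
theorem powHom_rootHom (hs : φ ≫ s = 𝟙 _) (hL : PicF.IsInvertible L) :
    powHom φ hφ L hL ≫ rootHom L s hlin hL = 𝟙 _ := by
  ext V m
  obtain ⟨V⟩ := V
  change Γ(L, V) at m
  change rootFun L s hlin hL V (powSec m p) = m
  refine isRoot_unique L s hL (isRoot_rootFun L s hlin hL V (powSec m p)) fun W h e he r hr => ?_
  obtain ⟨t, ht⟩ := he.exists_coeff le_rfl (res L h m)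
  rw [res_self] at ht
  rw [res_powSec, ht, powSec_smul] at hr
  have h1 : t ^ p = r := (he.pow p).smul_inj le_rfl (by simpa using hr)
  have h2 : sF s W (t ^ p) = t := by
    rw [← hφ W t]
    exact congr(($(hs)).hom.app (op W) t)
  rw [ht, ← h1, h2]

theorem smulAb_powHom (hL : PicF.IsInvertible L) (c : Coh.Γtop X) :
    Coh.smulAb L c ≫ powHom φ hφ L hL =
      powHom φ hφ L hL ≫ Coh.smulAb (CohB1.tensorPow L p) (c ^ p) := by
  ext V m
  obtain ⟨V⟩ := V
  change Γ(L, V) at m
  change powSec ((show Γ(X, V) from Coh.resTop X (op V) c) • m) p =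
    (show Γ(X, V) from Coh.resTop X (op V) (c ^ p)) • powSec m p
  rw [powSec_smul]
  exact congrArg (· • powSec m p) (map_pow (Coh.resTop X (op V)) c p).symm

end Frob


/-- Let p be a prime, k a perfect field of characteristic p, and X a proper k-scheme. Let φ be the p-th
power map on the sheaf of additive groups underlying O_X and suppose X is Frobenius split: φ admits
a retraction s, an additive endomorphism of O_X with s ∘ φ the identity and s(a^p·b) = a·s(b) on
every open. Then for every invertible module L and every i the dimension of H^i(X, L) over k is at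
most that of H^i(X, L^{⊗p}). (The source shows, for any k-scheme X, that the Frobenius pull-back
H^i(X, L) → H^i(X, L^{⊗p}) is injective, with a left inverse coming from the splitting; that map is
not named here, so the statement records its consequence on dimensions, for X proper so that both
are finite.) -/
theorem result (p : ℕ) [Fact p.Prime]
    (k : Type u) [Field k] [CharP k p] [PerfectRing k p]
    (X : Scheme.{u}) [X.Over (Spec (CommRingCat.of k))] [IsProper (X ↘ Spec (CommRingCat.of k))]
    (φ : Coh.toAb (Coh.structureModule X) ⟶ Coh.toAb (Coh.structureModule X))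
    (hφ : ∀ (U : X.Opens) (t : Γ(X, U)), φ.hom.app (op U) t = t ^ p)
    (s : Coh.toAb (Coh.structureModule X) ⟶ Coh.toAb (Coh.structureModule X))
    (hs : φ ≫ s = 𝟙 _)
    (hlin : ∀ (U : X.Opens) (a b : Γ(X, U)),
      s.hom.app (op U) (a ^ p * b) = a * @id Γ(X, U) (s.hom.app (op U) b))
    (L : X.Modules) (hL : PicF.IsInvertible L) (i : ℕ) :
    Module.finrank k (Coh.HH X L i) ≤ Module.finrank k (Coh.HH X (CohB1.tensorPow L p) i) := by
  have hlin' : ∀ (U : X.Opens) (a b : Γ(X, U)), sF s U (a ^ p * b) = a * sF s U b := hlin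
  haveI : Module.Finite k (Coh.HH X (CohB1.tensorPow L p) i) :=
    Groth.Agent.S0002.result k X _
      (Groth.VarietyBC.CurveGG.isCoh_of_isInvertible (Groth.PicAux.isInvertible_tensorPow hL p)) i
  have hinj : Function.Injective (Sheaf.H.map (powHom φ hφ L hL) i) := by
    refine Function.LeftInverse.injective (g := Sheaf.H.map (rootHom L s hlin' hL) i) fun x => ?_
    rw [← Sheaf.H.map_comp_apply, powHom_rootHom φ hφ L s hlin' hs hL, Sheaf.H.map_id_apply]
  let j : Coh.HH X L i →+ Coh.HH X (CohB1.tensorPow L p) i := Sheaf.H.map (powHom φ hφ L hL) i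
  have hj : ∀ (c : k) (x : Coh.HH X L i), j (c • x) = c ^ p • j x := fun c x => by
    change Sheaf.H.map (powHom φ hφ L hL) i
        (Sheaf.H.map (Coh.smulAb L (Coh.toGlobal (X ↘ Spec (CommRingCat.of k)) c)) i x) =
      Sheaf.H.map (Coh.smulAb _ (Coh.toGlobal (X ↘ Spec (CommRingCat.of k)) (c ^ p))) i
        (Sheaf.H.map (powHom φ hφ L hL) i x)
    rw [← Sheaf.H.map_comp_apply, ← Sheaf.H.map_comp_apply, smulAb_powHom, map_pow]
  obtain ⟨root, hroot⟩ : ∃ root : k → k, ∀ c, root c ^ p = c :=
    ⟨_, fun c => ((PerfectRing.bijective_frobenius (R := k) (p := p)).2 c).choose_spec⟩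
  have hr := lift_rank_le_of_injective_injective root j
    (fun c hc => by rw [← hroot c, hc, zero_pow (Fact.out : p.Prime).ne_zero]) hinj
    (fun c x => by rw [hj, hroot])
  exact Cardinal.toNat_le_toNat (Cardinal.lift_le.1 hr) (Module.rank_lt_aleph0 k _)

end Groth.Agent.S18151
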