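import Groth.Statements.S18153
import Mathlib.LinearAlgebra.Multilinear.Basis
import Mathlib.RingTheory.MvPolynomial.Basic
import Mathlib.LinearAlgebra.Matrix.Determinant.Basic
import Mathlib.Algebra.MvPolynomial.PDeriv
import Mathlib.Tactic

set_option autoImplicit false
universe u w
open FrobAlg

namespace Groth.Agent.S18153

/-- Let R be a commutative ring of prime characteristic p and f_1, …, f_m (m ≥ 1) polynomials over R in
the variables t_1, …, t_m and a further, possibly empty, family of variables s_a. Then in the m × m
Jacobian determinant det(∂f_i/∂t_j) with respect to the t-variables, the coefficient of the monomial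
t_1^{p-1} ⋯ t_m^{p-1} (all s-exponents zero) vanishes. (In the source this is the claim, for formal
power series in n ≥ m variables over the base field, to which the proof of the proposition reduces;
the coefficient in question only involves truncations of the f_i, so the polynomial form over any
ring of characteristic p is the same assertion.) -/
theorem result
    (p : ℕ) [Fact p.Prime] (R : Type u) [CommRing R] [CharP R p]
    {m : ℕ} (hm : 0 < m) (σ : Type w) (f : Fin m → MvPolynomial (Fin m ⊕ σ) R) :
    MvPolynomial.coeff
        (Finsupp.sumElim (Finsupp.equivFunOnFinite.symm fun _ : Fin m => p - 1) (0 : σ →₀ ℕ))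
        (Matrix.of fun i j : Fin m => MvPolynomial.pderiv (Sum.inl j) (f i)).det = 0 := by
  classical
  let X' : Fin m → MvPolynomial (Fin m ⊕ σ) R := fun j => MvPolynomial.X (Sum.inl j)
  let E : (Fin m ⊕ σ) →₀ ℕ :=
    Finsupp.sumElim (Finsupp.equivFunOnFinite.symm fun _ : Fin m => p) (0 : σ →₀ ℕ)
  let L : MvPolynomial (Fin m ⊕ σ) R →ₗ[R] (Fin m → MvPolynomial (Fin m ⊕ σ) R) :=
    LinearMap.pi fun j => (LinearMap.mulLeft R (X' j)).comp
      (MvPolynomial.pderiv (R := R) (Sum.inl j : Fin m ⊕ σ)).toLinearMap
  let D : MultilinearMap R (fun _ : Fin m => MvPolynomial (Fin m ⊕ σ) R) R :=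
    (MvPolynomial.lcoeff R E).compMultilinearMap
      (((Matrix.detRowAlternating (n := Fin m)
          (R := MvPolynomial (Fin m ⊕ σ) R)).toMultilinearMap.restrictScalars R).compLinearMap fun _ => L)
  have hD : ∀ g : Fin m → MvPolynomial (Fin m ⊕ σ) R, D g = MvPolynomial.coeff E
      (Matrix.of fun i j => X' j * MvPolynomial.pderiv (Sum.inl j) (g i)).det := fun g => rfl
  have hD0 : D = 0 := by
    refine Module.Basis.ext_multilinear (fun _ => MvPolynomial.basisMonomials (Fin m ⊕ σ) R) fun a => ?_
    rw [hD, MultilinearMap.zero_apply, MvPolynomial.coe_basisMonomials]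
    let N : Matrix (Fin m) (Fin m) R := Matrix.of fun i j => ((a i (Sum.inl j) : ℕ) : R)
    have h1 : (Matrix.of fun i j => X' j * MvPolynomial.pderiv (Sum.inl j)
          (MvPolynomial.monomial (a i) (1 : R))).det =
        (∏ i, MvPolynomial.monomial (a i) (1 : R)) * MvPolynomial.C N.det := by
      rw [RingHom.map_det, ← Matrix.det_mul_column]
      congr 1
      refine Matrix.ext fun i j => ?_
      simp only [Matrix.of_apply, RingHom.mapMatrix_apply, Matrix.map_apply, N, X']
      rw [MvPolynomial.X_mul_pderiv_monomial, map_natCast, nsmul_eq_mul, mul_comm]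
    rw [h1, ← MvPolynomial.monomial_sum_one, mul_comm, MvPolynomial.coeff_C_mul,
      MvPolynomial.coeff_monomial]
    split_ifs with he
    · rw [mul_one]
      have hrow : ∀ j, ∑ i, N i j = 0 := fun j => by
        have := DFunLike.congr_fun he (Sum.inl j)
        simp only [N, Matrix.of_apply]
        rw [← Nat.cast_sum, ← Finsupp.finsetSum_apply, this]
        simp [E]
      have h0 : Matrix.vecMul (fun _ : Fin m => (1 : R)) N = 0 := funext fun j => by
        simp [Matrix.vecMul, dotProduct, hrow j]
      have h2 := congrArg (fun v => Matrix.vecMul v N.adjugate) h0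
      simp only [Matrix.vecMul_vecMul, Matrix.mul_adjugate, Matrix.vecMul_smul, Matrix.vecMul_one,
        Matrix.zero_vecMul] at h2
      simpa using congrFun h2 ⟨0, hm⟩
    · rw [mul_zero]
  have hf := congrArg (fun G => G f) hD0
  simp only [hD, MultilinearMap.zero_apply] at hf
  have hdet : (Matrix.of fun i j : Fin m => X' j * MvPolynomial.pderiv (Sum.inl j) (f i)).det =
      (∏ j, X' j) * (Matrix.of fun i j : Fin m => MvPolynomial.pderiv (Sum.inl j) (f i)).det := by
    rw [← Matrix.det_mul_row]
    rfl
  rw [hdet] at hf
  have hX : ∏ j, X' j = MvPolynomial.monomial (∑ j : Fin m, Finsupp.single (Sum.inl j) 1) (1 : R) := by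
    rw [MvPolynomial.monomial_sum_one]
    exact Finset.prod_congr rfl fun j _ => rfl
  have hE : E = (∑ j : Fin m, Finsupp.single (Sum.inl j) 1) +
      Finsupp.sumElim (Finsupp.equivFunOnFinite.symm fun _ : Fin m => p - 1) (0 : σ →₀ ℕ) := by
    refine Finsupp.ext fun z => ?_
    rcases z with j | s
    · have := (Fact.out : p.Prime).one_le
      simp [E, Finsupp.single_apply]
      omega
    · simp [E]
  rw [hX, hE, MvPolynomial.coeff_monomial_mul, one_mul] at hf
  exact hf

end Groth.Agent.S18153
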