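import Groth.Statements.S18154
import Mathlib.RingTheory.Derivation.Lie
import Mathlib.LinearAlgebra.Matrix.Determinant.Basic
import Mathlib.Data.Finset.NoncommProd
import Mathlib.Data.Nat.Choose.Sum
import Mathlib.Data.Nat.Choose.Dvd

set_option autoImplicit false
universe u v
open FrobAlg

namespace Groth.Agent.S18154

section

variable {k : Type u} {A : Type v} [CommRing k] [CommRing A] [Algebra k A]

theorem iterate_mul (d : Derivation k A A) : ∀ (n : ℕ) (a b : A), (⇑d)^[n] (a * b) =
    ∑ ij ∈ Finset.antidiagonal n, n.choose ij.1 • ((⇑d)^[ij.1] a * (⇑d)^[ij.2] b)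
  | 0, a, b => by simp
  | n + 1, a, b => by
    rw [Function.iterate_succ_apply', iterate_mul d n, map_sum,
      Finset.sum_antidiagonal_choose_succ_nsmul (fun i j => (⇑d)^[i] a * (⇑d)^[j] b) n, ← Finset.sum_add_distrib]
    refine Finset.sum_congr rfl fun ij hij => ?_
    have h1 : n.choose ij.2 = n.choose ij.1 :=
      Nat.choose_symm_of_eq_add (by have := Finset.mem_antidiagonal.1 hij; omega)
    rw [h1, ← smul_add, Derivation.map_smul_of_tower, d.leibniz, smul_eq_mul, smul_eq_mul,
      Function.iterate_succ_apply', Function.iterate_succ_apply', mul_comm ((⇑d)^[ij.2] b)]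

/-- the p-th power of a derivation -/
theorem iterate_mul_char (p : ℕ) [hp : Fact p.Prime] [CharP A p] (d : Derivation k A A) (a b : A) :
    (⇑d)^[p] (a * b) = a * (⇑d)^[p] b + b * (⇑d)^[p] a := by
  have h0 : 0 < p := Nat.Prime.pos hp.out
  rw [iterate_mul]
  rw [Finset.sum_eq_add (0, p) (p, 0)]
  · simp [mul_comm b]
  · simp only [ne_eq, Prod.mk.injEq]; omega
  · rintro ⟨i, j⟩ hij hne
    rw [Finset.mem_antidiagonal] at hij
    simp only [ne_eq, Prod.mk.injEq] at hne
    have h1 : i ≠ 0 := fun h => hne.1 ⟨h, by omega⟩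
    have h2 : i < p := by
      by_contra h
      exact hne.2 ⟨by omega, by omega⟩
    rw [← Nat.cast_smul_eq_nsmul A, (CharP.cast_eq_zero_iff A p _).2 (Nat.Prime.dvd_choose_self hp.out h1 h2), zero_smul]
  · intro h; exact absurd (Finset.mem_antidiagonal.2 (zero_add p)) h
  · intro h; exact absurd (Finset.mem_antidiagonal.2 (add_zero p)) h

theorem leibniz_finset {ι : Type*} [DecidableEq ι] (d : Derivation k A A) (f : ι → A) (s : Finset ι) :
    d (∏ i ∈ s, f i) = ∑ i ∈ s, (∏ j ∈ s.erase i, f j) * d (f i) := by
  induction s using Finset.induction_on with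
  | empty => simp
  | @insert a s ha ih =>
    rw [Finset.prod_insert ha, d.leibniz, ih, Finset.sum_insert ha, Finset.erase_insert ha, smul_eq_mul,
      smul_eq_mul, Finset.mul_sum, add_comm]
    congr 1
    refine Finset.sum_congr rfl fun i hi => ?_
    rw [Finset.erase_insert_of_ne (fun h : a = i => ha (by rw [h]; exact hi)),
      Finset.prod_insert (fun h => ha (Finset.mem_of_mem_erase h)), mul_assoc]

theorem iterate_pow (d : Derivation k A A) {t u : A} (ht : d t = 1) (hu : d u = 0) : ∀ j m : ℕ,
    (⇑d)^[j] (u * t ^ m) = u * (m.descFactorial j : A) * t ^ (m - j)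
  | 0, m => by simp
  | j + 1, m => by
    rw [Function.iterate_succ_apply', iterate_pow d ht hu j m, mul_assoc, d.leibniz, hu, smul_zero, add_zero,
      d.leibniz, Derivation.map_natCast, smul_zero, add_zero, d.leibniz_pow, ht, Nat.descFactorial_succ,
      smul_eq_mul, smul_eq_mul, smul_eq_mul, nsmul_eq_mul, mul_one, Nat.cast_mul, ← Nat.sub_add_eq]
    ring

end

theorem main {k : Type u} {A : Type v} [CommRing k] [CommRing A] [Nontrivial A] [Algebra k A] (p : ℕ)
    [hp : Fact p.Prime] [CharP A p] {n : ℕ} (t : Fin n → A)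
    (b : Module.Basis (Fin n) A (KaehlerDifferential k A))
    (hb : ∀ i, b i = KaehlerDifferential.D k A (t i)) (g : Fin n → A) :
    (Matrix.of fun i j : Fin n =>
        (if i = j then t i ^ (p - 1) else 0) + b.coord j (KaehlerDifferential.D k A (g i))).det ≠ 0 := by
  classical
  have hp2 : 2 ≤ p := Nat.Prime.two_le hp.out
  let δ : Fin n → Derivation k A A := fun j => (b.coord j).compDer (KaehlerDifferential.D k A)
  have hδ : ∀ i j, δ j (t i) = if i = j then 1 else 0 := fun i j => by
    show b.coord j (KaehlerDifferential.D k A (t i)) = _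
    rw [← hb, Module.Basis.coord_apply, b.repr_self_apply]
  have hzero : ∀ E : Derivation k A A, (∀ i, E (t i) = 0) → E = 0 := fun E hE => by
    have h : E.liftKaehlerDifferential = 0 := b.ext fun i => by
      rw [hb, Derivation.liftKaehlerDifferential_comp_D, hE, LinearMap.zero_apply]
    ext a
    rw [← Derivation.liftKaehlerDifferential_comp_D E, h, LinearMap.zero_apply, Derivation.zero_apply]
  have hcomm : ∀ i j a, δ i (δ j a) = δ j (δ i a) := fun i j a => by
    have h : ⁅δ i, δ j⁆ = 0 := hzero _ fun l => by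
      rw [Derivation.commutator_apply, hδ, hδ]
      split_ifs <;> simp
    have := DFunLike.congr_fun h a
    rwa [Derivation.commutator_apply, Derivation.zero_apply, sub_eq_zero] at this
  have hpow : ∀ i a, (⇑(δ i))^[p] a = 0 := fun i => by
    let E : Derivation k A A := Derivation.mk' ((δ i : A →ₗ[k] A) ^ p) fun a c => by
      rw [Module.End.pow_apply, Module.End.pow_apply, Module.End.pow_apply]
      exact iterate_mul_char p (δ i) a c
    have h : E = 0 := hzero E fun l => by
      show ((δ i : A →ₗ[k] A) ^ p) (t l) = 0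
      rw [Module.End.pow_apply, show p = (p - 2) + 1 + 1 by omega, Function.iterate_succ_apply,
        Function.iterate_succ_apply, Derivation.coeFn_coe, hδ]
      split_ifs <;> simp
    intro a
    have := DFunLike.congr_fun h a
    rw [← Derivation.coeFn_coe, ← Module.End.pow_apply]
    exact this
  let Φ : Fin n → Module.End k A := fun i => (δ i : A →ₗ[k] A) ^ (p - 1)
  have hΦc : ∀ i j, Commute (Φ i) (Φ j) := fun i j => Commute.pow_pow (LinearMap.ext (hcomm i j)) _ _
  have hpw : ∀ S : Finset (Fin n), (↑S : Set (Fin n)).Pairwise (Function.onFun Commute Φ) :=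
    fun S i _ j _ _ => hΦc i j
  let Ds : Finset (Fin n) → Module.End k A := fun S => S.noncommProd Φ (hpw S)
  have hkill : ∀ j a, Ds Finset.univ (δ j a) = 0 := fun j a => by
    have h := Finset.noncommProd_erase_mul Finset.univ (Finset.mem_univ j) Φ (hpw _)
    show (Finset.univ.noncommProd Φ (hpw _)) (δ j a) = 0
    rw [← h, Module.End.mul_apply, show Φ j (δ j a) = 0 by
      show ((δ j : A →ₗ[k] A) ^ (p - 1)) (δ j a) = 0
      rw [Module.End.pow_apply, Derivation.coeFn_coe, ← Function.iterate_succ_apply,
        show (p - 1).succ = p by omega, hpow], map_zero]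
  have htop : ∀ (S : Finset (Fin n)) (u : A), (∀ i ∈ S, δ i u = 0) →
      Ds S (u * ∏ i ∈ S, t i ^ (p - 1)) = u * ((p - 1).factorial : A) ^ S.card := by
    intro S
    induction S using Finset.induction_on with
    | empty =>
      intro u _
      show (Finset.noncommProd ∅ Φ (hpw _)) _ = _
      rw [Finset.noncommProd_empty]
      simp
    | @insert i S hi ih =>
      intro u hu
      show (Finset.noncommProd (insert i S) Φ (hpw _)) _ = _
      rw [Finset.noncommProd_insert_of_notMem _ _ _ _ hi, Module.End.mul_apply, Finset.prod_insert hi, ← mul_assoc]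
      show Φ i (Ds S _) = _
      rw [ih]
      · show ((δ i : A →ₗ[k] A) ^ (p - 1)) _ = _
        rw [Module.End.pow_apply, Derivation.coeFn_coe, mul_right_comm, iterate_pow (δ i) (by rw [hδ, if_pos rfl])
          (by rw [Derivation.leibniz, hu i (Finset.mem_insert_self _ _), Derivation.leibniz_pow,
            Derivation.map_natCast]; simp), Nat.descFactorial_self, Nat.sub_self, pow_zero, mul_one,
          Finset.card_insert_of_notMem hi, pow_succ, mul_assoc]
      · intro j hj
        rw [Derivation.leibniz, hu j (Finset.mem_insert_of_mem hj), Derivation.leibniz_pow, hδ,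
          if_neg (fun h : i = j => hi (by rw [h]; exact hj))]
        simp
  -- the expansion
  set P : Finset (Fin n) → Equiv.Perm (Fin n) → A :=
    fun T σ => ∏ i ∈ T, (if i = σ i then t i ^ (p - 1) else 0) with hP
  set Q : Finset (Fin n) → Equiv.Perm (Fin n) → A := fun U σ => ∏ i ∈ U, δ (σ i) (g i) with hQ
  have hdet : (Matrix.of fun i j : Fin n =>
      (if i = j then t i ^ (p - 1) else 0) + b.coord j (KaehlerDifferential.D k A (g i))).det =
      ∑ T ∈ (Finset.univ : Finset (Fin n)).powerset, ∑ σ : Equiv.Perm (Fin n),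
        Equiv.Perm.sign σ • (P T σ * Q (Finset.univ \ T) σ) := by
    rw [← Matrix.det_transpose, Matrix.det_apply, Finset.sum_comm]
    refine Finset.sum_congr rfl fun σ _ => ?_
    rw [← Finset.smul_sum, ← Finset.prod_add]
    rfl
  have hrest : ∀ T : Finset (Fin n), T ≠ Finset.univ →
      Ds Finset.univ (∑ σ : Equiv.Perm (Fin n), Equiv.Perm.sign σ • (P T σ * Q (Finset.univ \ T) σ)) = 0 := by
    intro T hT
    obtain ⟨c, hc⟩ : ∃ c, c ∉ T := not_forall.1 fun h => hT (Finset.eq_univ_iff_forall.2 h)
    set U := (Finset.univ \ T).erase c with hU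
    have hcU : c ∈ Finset.univ \ T := Finset.mem_sdiff.2 ⟨Finset.mem_univ c, hc⟩
    have hPδ : ∀ σ : Equiv.Perm (Fin n), δ (σ c) (P T σ) = 0 := fun σ => by
      rw [hP, leibniz_finset]
      refine Finset.sum_eq_zero fun i hi => ?_
      split_ifs with h
      · rw [Derivation.leibniz_pow, hδ, if_neg]
        · simp
        · intro h'
          exact hc (by rw [← σ.injective (h.symm.trans h')]; exact hi)
      · simp
    have hterm : ∀ σ : Equiv.Perm (Fin n), P T σ * Q (Finset.univ \ T) σ =
        δ (σ c) (g c * (P T σ * Q U σ)) -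
          ∑ l ∈ U, g c * (P T σ * (Q (U.erase l) σ * δ (σ c) (δ (σ l) (g l)))) := fun σ => by
      rw [Derivation.leibniz, Derivation.leibniz, hPδ, smul_zero, add_zero, smul_eq_mul, smul_eq_mul,
        smul_eq_mul, ← Finset.mul_sum, ← Finset.mul_sum]
      simp only [hQ]
      rw [leibniz_finset, ← Finset.mul_prod_erase _ _ hcU]
      ring
    simp only [hterm, smul_sub]
    rw [Finset.sum_sub_distrib]
    simp only [Finset.smul_sum]
    rw [Finset.sum_comm (t := U), map_sub, map_sum, map_sum]
    simp only [Units.smul_def, map_zsmul, hkill, smul_zero, Finset.sum_const_zero, zero_sub, neg_eq_zero]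
    refine Finset.sum_eq_zero fun l hl => ?_
    have hlc : l ≠ c := Finset.ne_of_mem_erase hl
    have hlT : l ∉ T := (Finset.mem_sdiff.1 (Finset.mem_of_mem_erase hl)).2
    rw [← map_zero (Ds Finset.univ)]
    congr 1
    refine Finset.sum_involution (fun σ _ => σ * Equiv.swap c l) (fun σ _ => ?_) (fun σ _ _ => ?_)
      (fun σ _ => Finset.mem_univ _) (fun σ _ => Equiv.mul_swap_mul_self c l σ)
    · have e1 : ∀ i, i ≠ c → i ≠ l → (σ * Equiv.swap c l) i = σ i := fun i h1 h2 => by
        rw [Equiv.Perm.mul_apply, Equiv.swap_apply_of_ne_of_ne h1 h2]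
      have eP : P T (σ * Equiv.swap c l) = P T σ := Finset.prod_congr rfl fun i hi => by
        rw [e1 i (fun h => hc (h ▸ hi)) (fun h => hlT (h ▸ hi))]
      have eQ : Q (U.erase l) (σ * Equiv.swap c l) = Q (U.erase l) σ := Finset.prod_congr rfl fun i hi => by
        rw [e1 i (Finset.ne_of_mem_erase (Finset.mem_of_mem_erase hi)) (Finset.ne_of_mem_erase hi)]
      rw [eP, eQ, Equiv.Perm.mul_apply, Equiv.Perm.mul_apply, Equiv.swap_apply_left, Equiv.swap_apply_right,
        hcomm (σ l), Equiv.Perm.sign_mul, Equiv.Perm.sign_swap hlc.symm, mul_neg_one, Units.val_neg, neg_smul,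
        add_neg_cancel]
    · intro h
      exact hlc (Equiv.swap_eq_one_iff.1 (mul_eq_left.1 h)).symm
  intro h0
  have h1 : Ds Finset.univ (∑ σ : Equiv.Perm (Fin n), Equiv.Perm.sign σ • (P Finset.univ σ * Q (Finset.univ \ Finset.univ) σ)) = 0 := by
    rw [hdet] at h0
    have := congrArg (Ds Finset.univ) h0
    rw [map_zero, map_sum, Finset.sum_eq_single Finset.univ (fun T _ hT => hrest T hT)
      (fun h => absurd (Finset.mem_powerset.2 (Finset.Subset.refl _)) h)] at this
    exact this
  rw [Finset.sum_eq_single 1] at h1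
  · have h2 : Ds Finset.univ (1 * ∏ i ∈ (Finset.univ : Finset (Fin n)), t i ^ (p - 1)) = 0 := by
      simpa [hP, hQ] using h1
    rw [htop _ 1 (fun i _ => Derivation.map_one_eq_zero _), one_mul] at h2
    have hu : IsUnit ((p - 1).factorial : A) := by
      rw [CharP.isUnit_natCast_iff hp.out]
      intro hd
      have := (Nat.Prime.dvd_factorial hp.out).1 hd
      omega
    exact (hu.pow _).ne_zero h2
  · intro σ _ hσ
    obtain ⟨i, hi⟩ : ∃ i, σ i ≠ i := not_forall.1 fun h => hσ (Equiv.ext h)
    simp only [hP]
    rw [Finset.prod_eq_zero (Finset.mem_univ i) (if_neg fun h => hi h.symm), zero_mul, smul_zero]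
  · exact fun h => absurd (Finset.mem_univ _) h

/-- Let k be an algebraically closed field of characteristic p, A a smooth k-algebra that is an integral
domain, and t_1, …, t_n ∈ A such that dt_1, …, dt_n is a basis of the module of Kähler differentials
Ω_{A/k}. Let (B, ι, π, Φ) be a flat lifting of A over W_2(k) together with a lift Φ of Frobenius,
T_i ∈ B lifts of the t_i, and F_i ∈ B with Φ(T_i) = T_i^p + p·F_i; put f_i = π(F_i) ∈ A. Then the n
× n matrix over A with entries δ_{ij} t_i^{p-1} + ∂f_i/∂t_j, the partial derivatives being the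
coordinates of df_i in the basis dt_j, has nonzero determinant. This is the matrix of the A-linear
map F_A^*Ω_{A/k} → Ω_{A/k} obtained from dΦ after dividing by p, which is therefore generically
bijective. (The source states generic bijectivity for a smooth variety and reduces it to this
determinant on an affine open with étale coordinates.) -/
theorem result
    (p : ℕ) [Fact p.Prime] (k : Type u) [Field k] [IsAlgClosed k] [CharP k p]
    (A : Type v) [CommRing A] [IsDomain A] [Algebra k A] [Algebra.Smooth k A]
    {n : ℕ} (t : Fin n → A) (b : Module.Basis (Fin n) A (KaehlerDifferential k A))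
    (hb : ∀ i, b i = KaehlerDifferential.D k A (t i))
    (B : Type v) [CommRing B] (ι : FrobAlg.W2 p k →+* B) (π : B →+* A) (Φ : B →+* B)
    (hΦ : FrobAlg.IsFrobLift p k A B ι π Φ)
    (T F : Fin n → B) (hT : ∀ i, π (T i) = t i) (hF : ∀ i, Φ (T i) = T i ^ p + (p : B) * F i) :
    (Matrix.of fun i j : Fin n =>
        (if i = j then t i ^ (p - 1) else 0) +
          b.coord j (KaehlerDifferential.D k A (π (F i)))).det ≠ 0 := by
  have : CharP A p := charP_of_injective_algebraMap (algebraMap k A).injective p
  exact main p t b hb fun i => π (F i)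

end Groth.Agent.S18154
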