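import Groth.Statements.S18155
import Groth.Agent.FrobLCI.W2Smooth

set_option autoImplicit false
universe u v
open FrobAlg

namespace Groth.Agent.S18155

/-- Let k be an algebraically closed field of characteristic p, A a commutative k-algebra and C an étale
A-algebra. If A admits a flat lifting over W_2(k) together with a lift of Frobenius, then so does C.
(The source states this for an étale cover Y → X of smooth varieties over k; its argument uses only
that Y is étale over X, and the affine case is stated here with no smoothness or finiteness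
hypothesis on A over k.) -/
theorem result
    (p : ℕ) [Fact p.Prime] (k : Type u) [Field k] [IsAlgClosed k] [CharP k p]
    (A C : Type v) [CommRing A] [CommRing C] [Algebra k A] [Algebra k C]
    [Algebra A C] [IsScalarTower k A C] [Algebra.Etale A C]
    (hA : FrobAlg.IsFLiftable p k A) : FrobAlg.IsFLiftable p k C := by
  open Groth.FrobLCI.W2 in
  obtain ⟨BA, _, ιA, πA, ΦA, hΦA⟩ := hA
  have hπA := Groth.FrobLCI.W2.isPFlat_of_isLift hΦA.toIsLift
  have : Algebra.Smooth A C := inferInstance
  obtain ⟨B, _, _, π, hc, hπ⟩ := Groth.FrobLCI.W2.exists_lift_of_smooth hπA C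
  have hcomm : π.comp ((algebraMap BA B).comp ιA) = (algebraMap k C).comp (res p k) := by
    refine RingHom.ext fun w => ?_
    have h1 : π (algebraMap BA B (ιA w)) = algebraMap A C (πA (ιA w)) := RingHom.congr_fun hc (ιA w)
    have h2 : πA (ιA w) = algebraMap k A (res p k w) := RingHom.congr_fun hΦA.comm w
    rw [h2, ← IsScalarTower.algebraMap_apply] at h1
    exact h1
  have hlift : IsLift p k C B ((algebraMap BA B).comp ιA) π :=
    Groth.FrobLCI.W2.isLift_of_isPFlat hπ hcomm
  have hflat : Module.Flat BA B := by
    exact Groth.FrobLCI.W2.flat_of_isPFlat hπA hπ hc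
  have : Algebra.FormallySmooth BA B := Groth.FrobLCI.W2.formallySmooth_of_lift hπA hc hπ
  let θA : BA →+* W2 p A := hπA.w2Lift πA ΦA hΦA.red
  let : Algebra BA (W2 p C) := ((WittGrp.truncMap p 2 (algebraMap A C)).comp θA).toAlgebra
  let : Algebra BA C := ((algebraMap A C).comp πA).toAlgebra
  let g : W2 p C →ₐ[BA] C :=
    { toRingHom := res p C
      commutes' := fun w => by
        change res p C (WittGrp.truncMap p 2 (algebraMap A C) (θA w)) = algebraMap A C (πA w)
        rw [res_apply, WittGrp.coeff_truncMap, ← res_apply p A, hπA.res_w2Lift] }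
  let πa : B →ₐ[BA] C :=
    { toRingHom := π
      commutes' := fun w => RingHom.congr_fun hc w }
  have hg : IsNilpotent (RingHom.ker g.toRingHom) := by
    refine ⟨2, le_bot_iff.1 (((pow_two (RingHom.ker g.toRingHom)).le).trans (Ideal.mul_le.2 ?_))⟩
    intro a ha b hb
    exact Groth.FrobLCI.W2.mul_eq_zero_of_res (Groth.FrobLCI.W2.cast_p_algebra (p := p) (k := k) C) ha hb
  let θ := Algebra.FormallySmooth.liftOfSurjective πa g
    (Groth.FrobLCI.W2.res_surjective (p := p) (R := C)) hg
  have hθ : ∀ b, res p C (θ b) = π b := fun b =>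
    AlgHom.congr_fun (Algebra.FormallySmooth.comp_liftOfSurjective πa g _ hg) b
  refine ⟨B, inferInstance, (algebraMap BA B).comp ιA, π, hπ.ghost.comp θ.toRingHom,
    hlift, RingHom.ext fun w => ?_, fun b => ?_⟩
  · have h1 : θ (algebraMap BA B (ιA w)) = WittGrp.truncMap p 2 (algebraMap A C) (θA (ιA w)) :=
      θ.commutes (ιA w)
    have h2 : θA (ιA w) = WittGrp.truncMap p 2 (algebraMap k A) w := by
      apply hπA.ghost_ext
      · rw [hπA.res_w2Lift]
        exact (RingHom.congr_fun hΦA.comm w).trans (by simp)
      · rw [hπA.ghost_w2Lift, Groth.FrobLCI.W2.ghost_truncMap hΦA.toIsLift]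
        exact RingHom.congr_fun hΦA.semi w
    change hπ.ghost (θ (algebraMap BA B (ιA w))) = _
    rw [h1, h2, ← RingHom.comp_apply (WittGrp.truncMap p 2 (algebraMap A C)), ← WittGrp.truncMap_comp,
      ← IsScalarTower.algebraMap_eq]
    exact Groth.FrobLCI.W2.ghost_truncMap hlift w
  · change π (hπ.ghost (θ b)) = _
    rw [hπ.pi_ghost, hθ]

end Groth.Agent.S18155
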