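import Groth.Statements.S18156
import Mathlib

set_option autoImplicit false
universe u v
open CAlg

namespace Groth.Agent.S18156

open IsLocalRing in
theorem derivation_pow_mem {k : Type u} [CommRing k] {A : Type v} [CommRing A] [Algebra k A] (D : Derivation k A A)
    (I : Ideal A) : ∀ (n : ℕ) (x : A), x ∈ I ^ (n + 1) → D x ∈ I ^ n := by
  intro n
  induction n with
  | zero => intro x _; simp
  | succ n ih =>
    intro x hx
    rw [pow_succ' I (n + 1)] at hx
    refine Submodule.mul_induction_on hx (fun a ha b hb => ?_) (fun a b ha hb => ?_)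
    · rw [Derivation.leibniz, smul_eq_mul, smul_eq_mul]
      refine add_mem ?_ (Ideal.mul_mem_right _ _ hb)
      rw [pow_succ']
      exact Ideal.mul_mem_mul ha (ih b hb)
    · rw [map_add]; exact add_mem ha hb

theorem exists_extend {k : Type u} [CommRing k] {A : Type v} [CommRing A] [Algebra k A] (D : Derivation k A A)
    (I : Ideal A) : ∃ Dhat : Derivation k (AdicCompletion I A) (AdicCompletion I A),
      ∀ a : A, Dhat (algebraMap A (AdicCompletion I A) a) = algebraMap A (AdicCompletion I A) (D a) := by
  have key : ∀ (n : ℕ) (a b : A),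
      (Submodule.Quotient.mk a : A ⧸ (I ^ (n+1) • ⊤ : Ideal A)) = Submodule.Quotient.mk b →
      (Submodule.Quotient.mk (D a) : A ⧸ (I ^ n • ⊤ : Ideal A)) = Submodule.Quotient.mk (D b) := by
    intro n a b h
    rw [Submodule.Quotient.eq, smul_eq_mul, Ideal.mul_top] at h ⊢
    rw [← map_sub]
    exact derivation_pow_mem D I n _ h
  let g : ∀ n, (A ⧸ (I ^ (n+1) • ⊤ : Ideal A)) → (A ⧸ (I ^ n • ⊤ : Ideal A)) := fun n x =>
    Quotient.liftOn' x (fun a => Submodule.Quotient.mk (D a))
      (fun a b h => key n a b (Quotient.sound' h))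
  have gmk : ∀ n a, g n (Submodule.Quotient.mk a) = Submodule.Quotient.mk (D a) := fun n a => rfl
  have hsurj : ∀ n (x : AdicCompletion I A), ∃ a : A, x.val (n+1) = Submodule.Quotient.mk a ∧
      x.val n = Submodule.Quotient.mk a := by
    intro n x
    obtain ⟨a, ha⟩ := Submodule.Quotient.mk_surjective _ (x.val (n+1))
    exact ⟨a, ha.symm, by rw [← x.property (Nat.le_succ n), ← ha]; rfl⟩
  let F : AdicCompletion I A → AdicCompletion I A := fun x => ⟨fun n => g n (x.val (n+1)), by
    intro m n hmn
    obtain ⟨a, ha1, -⟩ := hsurj n x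
    have ha2 : x.val (m+1) = Submodule.Quotient.mk a := by
      rw [← x.property (Nat.succ_le_succ hmn), ha1]; rfl
    show AdicCompletion.transitionMap I A hmn (g n (x.val (n+1))) = g m (x.val (m+1))
    rw [ha1, ha2, gmk, gmk]; rfl⟩
  have Fval : ∀ x n, (F x).val n = g n (x.val (n+1)) := fun _ _ => rfl
  have hadd : ∀ x y, F (x + y) = F x + F y := fun x y => AdicCompletion.ext fun n => by
    obtain ⟨a, ha, -⟩ := hsurj n x
    obtain ⟨b, hb, -⟩ := hsurj n y
    rw [AdicCompletion.val_add_apply, Fval, Fval, Fval, AdicCompletion.val_add_apply, ha, hb,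
      ← Submodule.Quotient.mk_add, gmk, gmk, gmk, map_add, Submodule.Quotient.mk_add]
  have hsmul : ∀ (c : k) x, F (c • x) = c • F x := fun c x => AdicCompletion.ext fun n => by
    obtain ⟨a, ha, -⟩ := hsurj n x
    rw [AdicCompletion.val_smul_apply, Fval, Fval, AdicCompletion.val_smul_apply, ha,
      ← Submodule.Quotient.mk_smul, gmk, gmk, Derivation.map_smul, Submodule.Quotient.mk_smul]
  refine ⟨Derivation.mk' ⟨⟨F, hadd⟩, hsmul⟩ fun x y => AdicCompletion.ext fun n => ?_, fun a => ?_⟩
  · obtain ⟨a, ha, ha'⟩ := hsurj n x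
    obtain ⟨b, hb, hb'⟩ := hsurj n y
    show g n ((x * y).val (n+1)) = (x * F y + y * F x).val n
    rw [AdicCompletion.val_add_apply, AdicCompletion.val_mul, AdicCompletion.val_mul, AdicCompletion.val_mul, Fval, Fval, ha, hb, ha', hb',
      gmk, gmk]
    refine (gmk n (a * b)).trans ?_
    rw [Derivation.leibniz]; rfl
  · refine AdicCompletion.ext fun n => ?_
    show g n ((algebraMap A (AdicCompletion I A) a).val (n+1)) = _
    exact gmk n a

/-- Let k be a field and A a regular local ring that is a k-algebra, with maximal ideal m and m-adic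
completion Â. Then every k-derivation D of A into itself extends to a k-derivation D̂ of Â into
itself along the canonical map ρ : A → Â, in the sense that D̂(ρ(a)) = ρ(D(a)) for every a ∈ A. (The
source works throughout over an algebraically closed field of characteristic p; neither assumption
enters this statement.) -/
theorem result
    (k : Type u) [Field k] (A : Type v) [CommRing A] [Algebra k A] [IsRegularLocalRing A]
    (D : Derivation k A A) :
    ∃ Dhat : Derivation k (AdicCompletion (IsLocalRing.maximalIdeal A) A)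
        (AdicCompletion (IsLocalRing.maximalIdeal A) A),
      ∀ a : A, Dhat (algebraMap A (AdicCompletion (IsLocalRing.maximalIdeal A) A) a) =
        algebraMap A (AdicCompletion (IsLocalRing.maximalIdeal A) A) (D a) := by
  exact exists_extend D _

end Groth.Agent.S18156
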