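import Groth.Statements.S18158
import Groth.Agent.Reductive2.MTLift
import Groth.Agent.EtaleAlgebra.EtaleLift
import Groth.Agent.FrobLCI.W2Base

set_option autoImplicit false
universe u
open CategoryTheory CategoryTheory.Limits AlgebraicGeometry
open Lift

namespace Groth.Agent.S18158

/-- Let k be an algebraically closed field of characteristic p and q : Y → X an étale morphism to a
smooth k-scheme X. Suppose X has a W_2-lifting of its Frobenius: a scheme X~ flat over Spec W_2(k),
a morphism i : X → X~ making X the base change of X~ along Spec k → Spec W_2(k) (the residue map),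
and an endomorphism F~ of X~ with i ∘ F_X = F~ ∘ i, F_X the absolute Frobenius. Then Y has one as
well: there are a scheme Y~ flat over Spec W_2(k), a morphism j : Y → Y~ making Y the base change of
Y~ along the same map, and an endomorphism G~ of Y~ with j ∘ F_Y = G~ ∘ j. (The source speaks of an
étale cover Y → X of smooth varieties; its argument uses only that Y is étale over X and that X
lifts, so X is taken smooth over k and Y étale over X, with no integrality, separatedness or
quasi-compactness assumed.) -/
theorem result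
    (p : ℕ) [Fact p.Prime] (k : Type u) [Field k] [IsAlgClosed k] [CharP k p]
    (X Y : Scheme.{u}) (f : X ⟶ Spec (CommRingCat.of k)) [Smooth f]
    (q : Y ⟶ X) [AlgebraicGeometry.Etale q]
    [FrobSch.IsCharP X p] [FrobSch.IsCharP Y p]
    (Xl : Scheme.{u}) (g : Xl ⟶ Spec (CommRingCat.of (FrobAlg.W2 p k))) [Flat g]
    (i : X ⟶ Xl) (hsq : IsPullback i f g (Spec.map (CommRingCat.ofHom (FrobAlg.res p k))))
    (Fl : Xl ⟶ Xl) (hF : i ≫ Fl = FrobSch.frob X p ≫ i) :
    ∃ (Yl : Scheme.{u}) (gY : Yl ⟶ Spec (CommRingCat.of (FrobAlg.W2 p k))) (j : Y ⟶ Yl) (Gl : Yl ⟶ Yl),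
      Flat gY ∧ IsPullback j (q ≫ f) gY (Spec.map (CommRingCat.ofHom (FrobAlg.res p k))) ∧
        j ≫ Gl = FrobSch.frob Y p ≫ j := by
  have hres : Function.Surjective (FrobAlg.res p k) := Groth.FrobLCI.W2.res_surjective
  have hc : IsClosedImmersion (Spec.map (CommRingCat.ofHom (FrobAlg.res p k))) :=
    IsClosedImmersion.spec_of_surjective _ hres
  have hs : Surjective (Spec.map (CommRingCat.ofHom (FrobAlg.res p k))) := by
    refine ⟨fun x => ⟨(IsLocalRing.closedPoint k : Spec (CommRingCat.of k)), ?_⟩⟩
    refine PrimeSpectrum.ext ?_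
    show (IsLocalRing.maximalIdeal k).comap (FrobAlg.res p k) = x.asIdeal
    refine le_antisymm (fun a ha => ?_) (fun a ha => ?_)
    · have h0 : FrobAlg.res p k a = 0 := by
        have := Ideal.mem_comap.1 ha
        rwa [IsLocalRing.maximalIdeal_eq_bot, Ideal.mem_bot] at this
      exact x.2.mem_of_pow_mem 2 (by
        rw [sq, Groth.FrobLCI.W2.mul_eq_zero_of_res (CharP.cast_eq_zero k p) h0 h0]
        exact zero_mem _)
    · by_contra h
      have hu : IsUnit (FrobAlg.res p k a) := by
        by_contra hne
        exact h hne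
      obtain ⟨b, hb⟩ := hres ↑hu.unit⁻¹
      refine x.2.ne_top (x.asIdeal.eq_top_iff_one.2 ?_)
      have h1 : FrobAlg.res p k (1 - a * b) = 0 := by
        rw [map_sub, map_one, map_mul, hb, IsUnit.mul_val_inv, sub_self]
      have h2 : 1 - a * b ∈ x.asIdeal := x.2.mem_of_pow_mem 2 (by
        rw [sq, Groth.FrobLCI.W2.mul_eq_zero_of_res (CharP.cast_eq_zero k p) h1 h1]
        exact zero_mem _)
      simpa using add_mem h2 (Ideal.mul_mem_right b _ ha)
  have : IsClosedImmersion i := MorphismProperty.of_isPullback hsq.flip hc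
  have : Surjective i := MorphismProperty.of_isPullback hsq.flip hs
  have : Etale (Over.mk q).hom := inferInstanceAs (Etale q)
  obtain ⟨E, hE, ⟨e⟩⟩ := Groth.Reductive2.MTLift.exists_lift i (Over.mk q)
  let j : Y ⟶ E.left := e.inv.left ≫ pullback.fst E.hom i
  have hw : e.inv.left ≫ pullback.snd E.hom i = q := Over.w e.inv
  have hsq' : IsPullback j q E.hom i := by
    refine IsPullback.of_iso (IsPullback.of_hasPullback E.hom i) ((Over.forget X).mapIso e) (Iso.refl _)
      (Iso.refl _) (Iso.refl _) ?_ ?_ (by simp) (by simp)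
    · simp [j]
    · simp; exact (Over.w e.hom).symm
  have : IsClosedImmersion j := MorphismProperty.of_isPullback hsq'.flip (inferInstanceAs (IsClosedImmersion i))
  have : Surjective j := MorphismProperty.of_isPullback hsq'.flip (inferInstanceAs (Surjective i))
  have h₀ : (FrobSch.frob Y p ≫ j) ≫ E.hom = j ≫ E.hom ≫ Fl := by
    rw [Category.assoc, hsq'.w, ← Category.assoc, FrobSch.frob_comp, Category.assoc, ← hF, ← Category.assoc,
      ← hsq'.w, Category.assoc]
  obtain ⟨Gl, ⟨-, hGl⟩, -⟩ := Groth.EtaleAlgebra.existsUnique_etale_lift E.hom (E.hom ≫ Fl) j _ h₀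
  exact ⟨E.left, E.hom ≫ g, j, Gl, inferInstance, hsq'.paste_vert hsq, hGl⟩

end Groth.Agent.S18158
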