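import Groth.Statements.S1816
import Groth.Agent.LocCohTransform.RgammaTorsion

set_option autoImplicit false
universe u
open CategoryTheory
attribute [local instance] HasDerivedCategory.standard
open LocCoh

namespace Groth.Agent.S1816

/-- First statement, for a Noetherian ring (where RΓ with support in V(I) is RΓ_I). Let A be a
Noetherian ring, I and J ideals, and assume the total right derived functors RΓ_I, RΓ_J and RΓ_{I+J}
exist. Then for every K in D(A), RΓ_J(RΓ_I(K)) is isomorphic to RΓ_{I+J}(K). -/
theorem result (A : Type u) [CommRing A] [IsNoetherianRing A] (I J : Ideal A) [DRing.HasRgammaI I] [DRing.HasRgammaI J] [DRing.HasRgammaI (I ⊔ J)] (K : Dual.D A) : Nonempty ((DRing.RgammaI J).obj ((DRing.RgammaI I).obj K) ≅ (DRing.RgammaI (I ⊔ J)).obj K) := by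
  exact Groth.LocCohTransform.RgammaTorsion.nonempty_comp_iso I J K

end Groth.Agent.S1816
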