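import Groth.Statements.S18164
import Groth.Agent.FibreVA.Main

set_option autoImplicit false
universe u
open BSB

namespace Groth.Agent.S18164

open AlgebraicGeometry CategoryTheory CategoryTheory.Limits in
/-- Let A be a Noetherian ring, π : X ⟶ Spec A proper and flat, L an ample invertible O_X-module and y a
point of Spec A such that the restriction L_y of L to the fibre X_y is very ample over the residue
field of y (pullback of O(1) along an immersion into some projective space) and H^1(X_y, L_y) = 0.
Then y has an open neighbourhood U such that L restricted to π⁻¹(U) is very ample relative to π⁻¹(U)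
⟶ U (pullback of O(1) along a U-immersion into the projective bundle of a quasi-coherent module).
(Projectivity of π in the source is rendered as properness together with the ample module L.) -/
theorem result (A : Type u) [CommRing A] [IsNoetherianRing A]
    (X : Scheme.{u}) (π : X ⟶ Spec (CommRingCat.of A)) [IsProper π] [Flat π]
    (L : X.Modules) (hLi : PicF.IsInvertible L) (hLa : CohB1.IsAmple L) (y : Spec (CommRingCat.of A))
    (hva : RelAmple.IsRelVeryAmplePn (π.fiberToSpecResidueField y) (CohIII.fiberMod π L y))
    (h1 : Subsingleton (CohIII.fiberH π L y 1)) :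
    ∃ U : (Spec (CommRingCat.of A)).Opens, y ∈ U ∧ RelProj.IsRelVeryAmple (π ∣_ U) (L.restrict (π ⁻¹ᵁ U).ι) := by
  obtain ⟨U, hyU, hU⟩ := Groth.FibreVA.exists_nhd_pn_of_fibre π L hLi y hva h1
  exact ⟨U, hyU, Groth.RelVA.isRelVeryAmple_of_cover_pn _ (Groth.Ega2Proj.isInvertible_restrict _ hLi)
    (ι := PUnit) (fun _ => ⊤) (iSup_const) fun _ => Groth.RelVA.isRelVeryAmplePn_restrict hU ⊤⟩

end Groth.Agent.S18164
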