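import Groth.Statements.S18165
import Mathlib
import Groth.Agent.Misc14.EquivPoint
-- import your own Groth.Agent.* helpers here

set_option autoImplicit false
universe u
open BSB

namespace Groth.Agent.S18165

open CategoryTheory AlgebraicGeometry in
/-- A morphism from a local scheme factors uniquely through the spectrum of a local ring. -/
theorem exists_stalk_lift {X : Scheme.{u}} (x0 : X) {R : CommRingCat.{u}} [IsLocalRing R] (m : Spec R ⟶ X)
    (hm : m (IsLocalRing.closedPoint R) = x0) :
    ∃ φ : X.presheaf.stalk x0 ⟶ R, Spec.map φ ≫ X.fromSpecStalk x0 = m := by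
  subst hm
  exact ⟨Scheme.stalkClosedPointTo m, Scheme.Spec_stalkClosedPointTo_fromSpecStalk m⟩

open AlgebraicGeometry CategoryTheory in
/-- Let A be a Henselian local ring with residue field κ and f : X ⟶ Spec A a smooth morphism. Let a
finite group G, of order invertible in κ, act on A by ring automorphisms inducing the identity on κ,
and on X by morphisms σ_g with σ_1 = 𝟙 and σ_{gh} = σ_g ≫ σ_h, compatibly with f (σ_g ≫ f = f ≫ Spec
of the action of g on A). If x is a κ-point of X over the closed point that is fixed by every σ_g,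
then f has a section a : Spec A ⟶ X through x which is equivariant: Spec of the action of g,
followed by a, equals a followed by σ_g. -/
theorem result (A : Type u) [CommRing A] [HenselianLocalRing A]
    (X : Scheme.{u}) (f : X ⟶ Spec (CommRingCat.of A)) [Smooth f]
    (G : Type u) [Group G] [Finite G] [MulSemiringAction G A]
    (hG : IsUnit ((Nat.card G : ℕ) : IsLocalRing.ResidueField A))
    (htriv : ∀ (g : G) (a : A), g • a - a ∈ IsLocalRing.maximalIdeal A)
    (σ : G → (X ⟶ X)) (hσ1 : σ 1 = 𝟙 X) (hσmul : ∀ g h : G, σ (g * h) = σ g ≫ σ h)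
    (hσf : ∀ g : G, σ g ≫ f = f ≫ Spec.map (CommRingCat.ofHom (MulSemiringAction.toRingHom G A g)))
    (x : Spec (CommRingCat.of (IsLocalRing.ResidueField A)) ⟶ X)
    (hx : x ≫ f = Spec.map (CommRingCat.ofHom (IsLocalRing.residue A)))
    (hfix : ∀ g : G, x ≫ σ g = x) :
    ∃ a : Spec (CommRingCat.of A) ⟶ X, a ≫ f = 𝟙 _ ∧
      Spec.map (CommRingCat.ofHom (IsLocalRing.residue A)) ≫ a = x ∧
      ∀ g : G, Spec.map (CommRingCat.ofHom (MulSemiringAction.toRingHom G A g)) ≫ a = a ≫ σ g := by
  classical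
  let κ := IsLocalRing.ResidueField A
  let x0 : X := x (IsLocalRing.closedPoint κ)
  set L := X.presheaf.stalk x0
  let ι := X.fromSpecStalk x0
  obtain ⟨χ0, hχ0⟩ := exists_stalk_lift x0 x rfl
  let ψ : CommRingCat.of A ⟶ L := Spec.preimage (ι ≫ f)
  have hψ : Spec.map ψ = ι ≫ f := Spec.map_preimage _
  have hfx : ∀ g : G, σ g x0 = x0 := fun g => by
    exact congrArg (fun m : Spec (CommRingCat.of κ) ⟶ X => m (IsLocalRing.closedPoint κ)) (hfix g)
  have hιx : ι (IsLocalRing.closedPoint L) = x0 := Scheme.fromSpecStalk_closedPoint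
  choose φ hφ using fun g : G => exists_stalk_lift x0 (ι ≫ σ g) ((congrArg (σ g) hιx).trans (hfx g))
  have hext : ∀ {R : CommRingCat.{u}} (a b : L ⟶ R), Spec.map a ≫ ι = Spec.map b ≫ ι → a = b := fun a b h =>
    Spec.map_injective ((cancel_mono ι).mp h)
  let act : G →* (L →+* L) :=
    { toFun := fun g => (φ g).hom
      map_one' := by
        have : φ 1 = 𝟙 L := hext _ _ (by rw [hφ, hσ1, Spec.map_id, Category.id_comp, Category.comp_id])
        exact congrArg CommRingCat.Hom.hom this
      map_mul' := fun g h => by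
        have : φ (g * h) = φ h ≫ φ g := hext _ _ (by
          rw [hφ, hσmul, Spec.map_comp, Category.assoc, hφ, ← Category.assoc (Spec.map (φ g)), hφ, Category.assoc])
        exact congrArg CommRingCat.Hom.hom this }
  letI : Algebra A L := ψ.hom.toAlgebra
  have hact : ∀ g a, act g (algebraMap A L a) = algebraMap A L (g • a) := fun g a => by
    have : ψ ≫ φ g = CommRingCat.ofHom (MulSemiringAction.toRingHom G A g) ≫ ψ := Spec.map_injective (by
      rw [Spec.map_comp, Spec.map_comp, hψ, ← Category.assoc, hφ, Category.assoc, hσf, ← Category.assoc])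
    exact ConcreteCategory.congr_hom this a
  have hχψ : ψ ≫ χ0 = CommRingCat.ofHom (IsLocalRing.residue A) := Spec.map_injective (by
    rw [Spec.map_comp, hψ, ← Category.assoc, hχ0, hx])
  let χ : L →ₐ[A] κ := { χ0.hom with commutes' := fun a => ConcreteCategory.congr_hom hχψ a }
  have hχ : ∀ g l, χ (act g l) = χ l := fun g l => by
    have : φ g ≫ χ0 = χ0 := hext _ _ (by rw [Spec.map_comp, Category.assoc, hφ, ← Category.assoc, hχ0, hfix])
    exact ConcreteCategory.congr_hom this l
  -- coordinates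
  obtain ⟨U, hU, V, hV, hxV, e, hstd⟩ := Smooth.exists_isStandardSmooth f x0
  have hfx0 : f x0 = IsLocalRing.closedPoint A := by
    refine (congrArg (fun m : Spec (CommRingCat.of κ) ⟶ Spec (CommRingCat.of A) => m (IsLocalRing.closedPoint κ)) hx).trans ?_
    exact IsLocalRing.PrimeSpectrum.comap_residue A _
  have hUtop : U = ⊤ := by
    refine top_le_iff.mp fun z _ => ?_
    have hz : z ⤳ IsLocalRing.closedPoint A := IsLocalRing.specializes_closedPoint z
    exact hz.mem_open U.2 (hfx0 ▸ e hxV)
  subst hUtop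
  let φV : CommRingCat.of A ⟶ Γ(X, V) := (Scheme.ΓSpecIso (CommRingCat.of A)).inv ≫ f.appLE ⊤ V e
  have hstd' : φV.hom.IsStandardSmooth :=
    RingHom.isStandardSmooth_respectsIso.2 _ (Scheme.ΓSpecIso (CommRingCat.of A)).symm.commRingCatIsoToRingEquiv hstd
  have hφV : Spec.map φV = hV.fromSpec ≫ f := by
    rw [← IsAffineOpen.SpecMap_appLE_fromSpec f hU hV e, Spec.map_comp]
    congr 1
    rw [IsAffineOpen.fromSpec_top, Scheme.isoSpec_Spec_inv]
  have hgerm : φV ≫ X.presheaf.germ V x0 hxV = ψ := Spec.map_injective (by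
    rw [Spec.map_comp, hφV, hψ, ← Category.assoc]
    congr 1
    exact (hV.fromSpecStalk_eq_fromSpecStalk hxV))
  letI : Algebra A Γ(X, V) := φV.hom.toAlgebra
  haveI : Algebra.IsStandardSmooth A Γ(X, V) := hstd'
  letI : Algebra Γ(X, V) L := (X.presheaf.germ V x0 hxV).hom.toAlgebra
  haveI : IsScalarTower A Γ(X, V) L := IsScalarTower.of_algebraMap_eq fun a => (ConcreteCategory.congr_hom hgerm a).symm
  haveI : IsLocalization.AtPrime L (hV.primeIdealOf ⟨x0, hxV⟩).asIdeal := hV.isLocalization_stalk ⟨x0, hxV⟩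
  obtain ⟨r, hr, hreq⟩ := Groth.EquivSect.exists_equivariant_point (B0 := Γ(X, V)) act χ hG htriv hact hχ
    (hV.primeIdealOf ⟨x0, hxV⟩).asIdeal
  let r0 : L ⟶ CommRingCat.of A := CommRingCat.ofHom r.toRingHom
  refine ⟨Spec.map r0 ≫ ι, ?_, ?_, fun g => ?_⟩
  · rw [Category.assoc, ← hψ, ← Spec.map_comp, show ψ ≫ r0 = 𝟙 _ from CommRingCat.hom_ext (RingHom.ext r.commutes), Spec.map_id]
  · rw [← Category.assoc, ← Spec.map_comp, show r0 ≫ CommRingCat.ofHom (IsLocalRing.residue A) = χ0 from
      CommRingCat.hom_ext (RingHom.ext hr), hχ0]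
  · rw [Category.assoc, ← hφ, ← Category.assoc, ← Category.assoc, ← Spec.map_comp, ← Spec.map_comp]
    congr 2
    exact CommRingCat.hom_ext (RingHom.ext fun l => (hreq g l).symm)

end Groth.Agent.S18165
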