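import Groth.Statements.S1817
import Groth.Agent.LocCohTransform.RgammaTorsion

set_option autoImplicit false
universe u
open CategoryTheory
attribute [local instance] HasDerivedCategory.standard
open LocCoh

namespace Groth.Agent.S1817

/-- First statement, for a Noetherian ring (where the functor with supports in V(I) is RΓ_I). Let A be a
Noetherian ring and I an ideal, and assume RΓ_I exists as a total right derived functor. Then every
RΓ_I(K) has I-power torsion cohomology modules, and the resulting functor from D(A) to the full
subcategory of such objects is right adjoint to the inclusion. -/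
theorem result (A : Type u) [CommRing A] [IsNoetherianRing A] (I : Ideal A) [DRing.HasRgammaI I] : ∃ h : ∀ K : Dual.D A, (fun L : Dual.D A => ∀ i : ℤ, LocCoh.IsPowerTorsion I (Dual.HD A L i)) ((DRing.RgammaI I).obj K), Nonempty (ObjectProperty.ι (fun L : Dual.D A => ∀ i : ℤ, LocCoh.IsPowerTorsion I (Dual.HD A L i)) ⊣ ObjectProperty.lift (fun L : Dual.D A => ∀ i : ℤ, LocCoh.IsPowerTorsion I (Dual.HD A L i)) (DRing.RgammaI I) h) := by
  refine ⟨Groth.LocCohTransform.RgammaTorsion.isPowerTorsion_rgamma I, ⟨Adjunction.mkOfHomEquiv
    { homEquiv := fun L K => (Equiv.ofBijective _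
          (Groth.LocCohTransform.RgammaTorsion.comp_ε_bijective I L.obj K L.property)).symm.trans
        ((ObjectProperty.fullyFaithfulι (fun L : Dual.D A => ∀ i : ℤ, LocCoh.IsPowerTorsion I (Dual.HD A L i))).homEquiv (X := L)
          (Y := (ObjectProperty.lift (fun L : Dual.D A => ∀ i : ℤ, LocCoh.IsPowerTorsion I (Dual.HD A L i)) (DRing.RgammaI I)
            (Groth.LocCohTransform.RgammaTorsion.isPowerTorsion_rgamma I)).obj K)).symm
      homEquiv_naturality_left_symm := fun {L' L K} f g => ?_
      homEquiv_naturality_right := fun {L K K'} f g => ?_ }⟩⟩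
  · exact Category.assoc f.hom g.hom ((DRing.RgammaIε I).app K)
  · apply ((ObjectProperty.fullyFaithfulι (fun L : Dual.D A => ∀ i : ℤ, LocCoh.IsPowerTorsion I (Dual.HD A L i))).homEquiv).injective
    simp only [Equiv.trans_apply, Equiv.apply_symm_apply]
    refine (Groth.LocCohTransform.RgammaTorsion.comp_ε_bijective I L.obj K' L.property).1 ?_
    refine (Equiv.ofBijective_apply_symm_apply _
      (Groth.LocCohTransform.RgammaTorsion.comp_ε_bijective I L.obj K' L.property) (f ≫ g)).trans ?_
    show f ≫ g = (_ ≫ (DRing.RgammaI I).map g) ≫ (DRing.RgammaIε I).app K'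
    rw [Category.assoc, (DRing.RgammaIε I).naturality g, Functor.id_map, ← Category.assoc]
    congr 1
    exact (Equiv.ofBijective_apply_symm_apply _
      (Groth.LocCohTransform.RgammaTorsion.comp_ε_bijective I L.obj K L.property) f).symm

end Groth.Agent.S1817
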