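import Groth.Statements.S18174
import Groth.Agent.Funfld2.LLS.Members
import Groth.Agent.Funfld2.Found

set_option autoImplicit false
open FunFld

namespace Groth.Agent.S18174

open Groth.Funfld2

/-- Let `k` be an algebraically closed field of characteristic zero and `K/k` a function field of one
variable (the function field of a smooth projective curve over `k`). A `g^r_d` is a divisor `D` of
degree `d` with a subspace `V ⊆ L(D)` of dimension `r + 1`; for a place `P` and `n ≥ 0`, `V(-nP) = V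
∩ L(D - nP)` is the space of members vanishing to order at least `n` at `P`, so `dim V(-nP)` counts
the vanishing orders `m_0 < ⋯ < m_r` of `V` at `P` that are at least `n`, and the weight of `V` at
`P` is `∑_{n=1}^{d} dim V(-nP) - r(r+1)/2`. Aspects `(D_Y, V_Y)` on `K_Y` and `(D_Z, V_Z)` on `K_Z`
of a limit `g^r_d` on two components meeting in a node (a place `P` of `K_Y` and a place `Q` of
`K_Z`) are compatible there when `m_i(V_Y, P) + m_{r-i}(V_Z, Q) = d` for every `i`, equivalently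
`dim V_Y(-nP) + dim V_Z(-(d+1-n)Q) = r + 1` for `0 ≤ n ≤ d + 1`. Let the component `Y` (function
field `K_Y`, aspect `(D_Y, V_Y)`) meet at the node `P` a chain of components `W_0, …, W_{n-1}`, `n ≥
1`, with aspects `(D_j, V_j)`, where `W_j` carries the node place `A_j` towards `Y` (for `j = 0`) or
towards `W_{j-1}`, and the node place `B_j ≠ A_j` towards `W_{j+1}` (for `j + 1 < n`); assume `W_0,
…, W_{n-2}` have genus `0`, `W_{n-1}` has positive genus, and consecutive aspects are compatible at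
every node. Then `V_Y` has at least a cusp at `P`: `m_1(V_Y, P) ≥ 2`, that is `dim V_Y(-2P) ≥ r`.
(The source assumes moreover that `Y` is rational; its argument does not use this, so that
hypothesis is omitted here.) (The source states this for curves over the complex numbers.) -/
theorem result
    (k : Type*) [Field k] [IsAlgClosed k] [CharZero k]
    (KY : Type*) [Field KY] [Algebra k KY] (hKY : FunFld.IsFunctionField k KY)
    (n : ℕ) (hn : 0 < n)
    (W : Fin n → Type*) [∀ j, Field (W j)] [∀ j, Algebra k (W j)]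
    (hW : ∀ j, FunFld.IsFunctionField k (W j))
    (hrat : ∀ j : Fin n, (j : ℕ) + 1 < n → FunFld.genus k (W j) = 0)
    (hpos : ∀ j : Fin n, (j : ℕ) + 1 = n → 0 < FunFld.genus k (W j))
    (d r : ℕ) (DY : FunFld.Divisor k KY) (hDY : DY.deg = d)
    (VY : Submodule k KY) (hVY : VY ≤ FunFld.L DY) (hVYr : Module.finrank k ↥VY = r + 1)
    (D : ∀ j, FunFld.Divisor k (W j)) (hD : ∀ j, (D j).deg = d)
    (V : ∀ j, Submodule k (W j)) (hV : ∀ j, V j ≤ FunFld.L (D j))
    (hVr : ∀ j, Module.finrank k ↥(V j) = r + 1)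
    (P : FunFld.Place k KY) (A B : ∀ j, FunFld.Place k (W j))
    (hAB : ∀ j : Fin n, (j : ℕ) + 1 < n → A j ≠ B j)
    (hcomp0 : ∀ m : ℕ, m ≤ d + 1 →
      Module.finrank k ↥(VY ⊓ FunFld.L (DY - Finsupp.single P ((m : ℤ)))) +
        Module.finrank k ↥((V ⟨0, hn⟩) ⊓ FunFld.L ((D ⟨0, hn⟩) - Finsupp.single (A ⟨0, hn⟩) ((d : ℤ) + 1 - m))) = r + 1)
    (hcomp : ∀ (j : Fin n) (hj : (j : ℕ) + 1 < n) (m : ℕ), m ≤ d + 1 →
      Module.finrank k ↥((V j) ⊓ FunFld.L ((D j) - Finsupp.single (B j) ((m : ℤ)))) +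
        Module.finrank k ↥((V ⟨(j : ℕ) + 1, hj⟩) ⊓ FunFld.L ((D ⟨(j : ℕ) + 1, hj⟩) - Finsupp.single (A ⟨(j : ℕ) + 1, hj⟩) ((d : ℤ) + 1 - m))) = r + 1) :
    r ≤ Module.finrank k ↥(VY ⊓ FunFld.L (DY - Finsupp.single P ((2 : ℤ)))) := by
  have hG := fun j => good_of_algClosed (hW j)
  have hG0 := good_of_algClosed hKY
  obtain ⟨n, rfl⟩ : ∃ n', n = n' + 1 := ⟨n - 1, by omega⟩
  have hS : ∀ j, IsSeries (D j) (V j) d r := fun j => ⟨hD j, hV j, hVr j⟩
  rcases Nat.eq_zero_or_pos d with hd | hd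
  · have := r_le_d hG0 ⟨hDY, hVY, hVYr⟩ P
    omega
  have hlast := vdim_pred_le_one (hG (Fin.last n)) (hS _) (A (Fin.last n)) (hpos _ (by simp))
  have hA0 : vdim (D 0) (V 0) (A 0) ((d : ℤ) - 1) ≤ 1 := by
    rcases Nat.eq_zero_or_pos n with rfl | hn0
    · exact hlast
    have hB := cusp_up_chain (U := W) hG hS (fun l _ hl => hAB l (by omega))
      (fun l m hm => hcomp l.castSucc (by simp) m hm) hlast ⟨0, hn0⟩
    have := vdim_add_vdim_le (hG 0) (hS 0) (hAB 0 (by simp; omega)) (n := (d : ℤ) - 1) (m := 2)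
      (by omega) (by omega) (by omega)
    rw [show (⟨0, hn0⟩ : Fin n).castSucc = 0 from rfl] at hB
    omega
  have h0 := hcomp0 2 (by omega)
  change r ≤ vdim DY VY P 2
  change vdim DY VY P 2 + vdim (D 0) (V 0) (A 0) ((d : ℤ) + 1 - (2 : ℕ)) = r + 1 at h0
  rw [show (d : ℤ) + 1 - ((2 : ℕ) : ℤ) = (d : ℤ) - 1 by omega] at h0
  omega

end Groth.Agent.S18174
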