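import Groth.Statements.S18175
import Groth.Agent.Funfld2.LLS.Members
import Groth.Agent.Funfld2.Found

set_option autoImplicit false
open FunFld

namespace Groth.Agent.S18175

open Groth.Funfld2

/-- Let `k` be an algebraically closed field of characteristic zero and `K/k` a function field of one
variable (the function field of a smooth projective curve over `k`). A `g^r_d` is a divisor `D` of
degree `d` with a subspace `V ⊆ L(D)` of dimension `r + 1`; for a place `P` and `n ≥ 0`, `V(-nP) = V
∩ L(D - nP)` is the space of members vanishing to order at least `n` at `P`, so `dim V(-nP)` counts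
the vanishing orders `m_0 < ⋯ < m_r` of `V` at `P` that are at least `n`, and the weight of `V` at
`P` is `∑_{n=1}^{d} dim V(-nP) - r(r+1)/2`. Assume `K` has genus `0` and the `g^r_d` `(D, V)` has at
least a cusp at the place `Q` (`dim V(-2Q) ≥ r`), and let `P, P'` be places other than `Q`. Then up
to a constant factor there is at most one member of `V` vanishing only at `P` and `P'`: if `f, g ∈
V` are nonzero and the divisors `div f + D`, `div g + D` are both supported on `{P, P'}`, then `g =
c f` for some `c ∈ k`. (In the source `Q` is the point where the rational component `Y` meets a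
chain of curves ending in a curve of positive genus, a situation that forces the cusp condition
assumed here.) (The source states this for curves over the complex numbers.) -/
theorem result
    (k : Type*) [Field k] [IsAlgClosed k] [CharZero k]
    (K : Type*) [Field K] [Algebra k K] (hK : FunFld.IsFunctionField k K) (hg0 : FunFld.genus k K = 0)
    (d r : ℕ) (D : FunFld.Divisor k K) (hD : D.deg = d)
    (V : Submodule k K) (hV : V ≤ FunFld.L D) (hVr : Module.finrank k ↥V = r + 1)
    (Q : FunFld.Place k K) (hcusp : r ≤ Module.finrank k ↥(V ⊓ FunFld.L (D - Finsupp.single Q ((2 : ℤ)))))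
    (P P' : FunFld.Place k K) (hP : P ≠ Q) (hP' : P' ≠ Q)
    (f g : K) (hf : f ∈ V) (hg : g ∈ V) (hf0 : f ≠ 0) (hg0' : g ≠ 0)
    (hfs : ∀ R : FunFld.Place k K, R ≠ P → R ≠ P' → (FunFld.div k f + D) R = 0)
    (hgs : ∀ R : FunFld.Place k K, R ≠ P → R ≠ P' → (FunFld.div k g + D) R = 0) :
    ∃ c : k, g = c • f := by
  exact eq_smul_of_supported (good_of_algClosed hK) ⟨hD, hV, hVr⟩ (riemannZero hK hg0) hcusp hP hP' hf hg hf0 hg0' hfs hgs

end Groth.Agent.S18175
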