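import Groth.Statements.S18182
import Groth.Agent.Funfld2.Hasse.AtExists
import Groth.Agent.Funfld2.LLS.Basic

set_option autoImplicit false
open FunFld
open scoped WithZero

namespace Groth.Agent.S18182

variable {k K : Type*} [Field k] [Field K] [Algebra k K]

theorem exists_principal_of_weights (hG : Groth.Funfld2.Good k K) {D : Divisor k K}
    {V : Submodule k K} {d r : ℕ} (h : Groth.Funfld2.IsSeries D V d r) {P Q : Place k K}
    (hPQ : P ≠ Q)
    (hw : (r + 1) * d + 1 ≤ Groth.Funfld2.vsum D V P d + Groth.Funfld2.vsum D V Q d + r) :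
    ∃ m ∈ Finset.Icc 1 d, ∃ f ∈ L (Finsupp.single P (m : ℤ)), Q.1 f = WithZero.exp (-(m : ℤ)) := by
  classical
  set E : ℕ → Divisor k K := fun n =>
    D - Finsupp.single P (n : ℤ) - Finsupp.single Q ((d : ℤ) - n) with hE
  set good := (Finset.range (d + 1)).filter fun n => L (E n) ≠ ⊥ with hgood
  have hfin := h.finite
  have hterm : ∀ n ∈ Finset.range (d + 1),
      Groth.Funfld2.vdim D V P (n : ℤ) + Groth.Funfld2.vdim D V Q ((d : ℤ) - n) ≤
        r + 1 + if L (E n) ≠ ⊥ then 1 else 0 := by
    intro n hn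
    rw [Finset.mem_range] at hn
    set A := V ⊓ L (D - Finsupp.single P (n : ℤ))
    set B := V ⊓ L (D - Finsupp.single Q ((d : ℤ) - n))
    have : FiniteDimensional k A := Submodule.finiteDimensional_of_le (inf_le_left : _ ≤ V)
    have : FiniteDimensional k B := Submodule.finiteDimensional_of_le (inf_le_left : _ ≤ V)
    have hsum := Submodule.finrank_sup_add_finrank_inf_eq A B
    have hsup : Module.finrank k ↥(A ⊔ B) ≤ r + 1 :=
      h.rank ▸ Submodule.finrank_mono (sup_le inf_le_left inf_le_left)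
    have hle : A ⊓ B ≤ L (E n) := by
      rintro x ⟨⟨-, hxP⟩, -, hxQ⟩
      rw [hE, Groth.Funfld2.mem_L_sub_single_iff (by omega)]
      refine ⟨hxP, ?_⟩
      simpa [Finsupp.single_apply, hPQ] using
        ((Groth.Funfld2.mem_L_sub_single_iff (by omega)).1 hxQ).2
    have hdeg : (E n).deg = 0 := by
      simp only [hE, Groth.Funfld2.deg_sub, Groth.Funfld2.deg_single, h.deg, hG.deg_one]
      push_cast
      ring
    change Module.finrank k A + Module.finrank k B ≤ _
    split_ifs with hne
    · obtain ⟨f, -, hf⟩ := Groth.Funfld2.exists_le_sup_span_singleton (D := E n) (hG.deg_one P)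
      rw [Groth.Funfld2.L_eq_bot hG (D := E n - Finsupp.single P 1)
        (by rw [Groth.Funfld2.deg_sub, Groth.Funfld2.deg_single, hdeg, hG.deg_one]; omega),
        bot_sup_eq] at hf
      have h1 : Module.finrank k ↥(A ⊓ B) ≤ 1 :=
        (Submodule.finrank_mono (hle.trans hf)).trans ((finrank_span_le_card _).trans (by simp))
      omega
    · rw [not_not] at hne
      rw [hne, le_bot_iff] at hle
      rw [hle, finrank_bot] at hsum
      omega
  have hcount : 2 ≤ good.card := by
    have h1 := Finset.sum_le_sum hterm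
    rw [Finset.sum_add_distrib, Finset.sum_add_distrib, Finset.sum_const, Finset.card_range,
      smul_eq_mul, ← Finset.sum_filter, Finset.sum_const, smul_eq_mul, mul_one] at h1
    have hP : ∑ n ∈ Finset.range (d + 1), Groth.Funfld2.vdim D V P (n : ℤ) =
        Groth.Funfld2.vsum D V P d + (r + 1) := by
      rw [Finset.sum_range_succ', Nat.cast_zero, Groth.Funfld2.vdim_zero h]
      simp [Groth.Funfld2.vsum]
    have hQ : ∑ n ∈ Finset.range (d + 1), Groth.Funfld2.vdim D V Q ((d : ℤ) - n) =
        Groth.Funfld2.vsum D V Q d + (r + 1) := by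
      rw [← Finset.sum_range_reflect, Finset.sum_range_succ']
      congr 1
      · rw [Groth.Funfld2.vsum]
        refine Finset.sum_congr rfl fun n hn => ?_
        rw [Finset.mem_range] at hn
        congr 1
        omega
      · rw [← Groth.Funfld2.vdim_zero (P := Q) h]
        congr 1
        omega
    rw [hP, hQ] at h1
    have h2 : (d + 1) * (r + 1) = (r + 1) * d + (r + 1) := by ring
    rw [h2, ← hgood] at h1
    omega
  obtain ⟨n, hn, n', hn', hne⟩ := Finset.one_lt_card.1 hcount
  wlog hlt : n < n' generalizing n n'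
  · exact this n' hn' n hn hne.symm (by omega)
  simp only [hgood, Finset.mem_filter, Finset.mem_range] at hn hn'
  obtain ⟨x, hx, hx0⟩ := Submodule.exists_mem_ne_zero_of_ne_bot hn.2
  obtain ⟨y, hy, hy0⟩ := Submodule.exists_mem_ne_zero_of_ne_bot hn'.2
  have hdiv : ∀ l : ℕ, ∀ z ∈ L (E l), z ≠ 0 → ∀ R : Place k K, R.ord z = -(E l R) := by
    intro l z hz hz0 R
    have h0 := Groth.Funfld2.div_add_nonneg hG hz hz0
    have h1 := Groth.Funfld2.eq_zero_of_nonneg_of_deg hG h0 (by
      simp only [Groth.Funfld2.deg_add, hG.deg_div z hz0, hE, Groth.Funfld2.deg_sub,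
        Groth.Funfld2.deg_single, h.deg, hG.deg_one]
      push_cast; omega)
    have h2 := DFunLike.congr_fun h1 R
    rw [Finsupp.add_apply, Groth.Funfld2.div_apply hG, Finsupp.zero_apply] at h2
    omega
  have hord : ∀ R : Place k K, R.ord (x / y) = E n' R - E n R := fun R => by
    rw [div_eq_mul_inv, Groth.FunFld1.ord_mul R hx0 (inv_ne_zero hy0), Groth.FunFld1.ord_inv,
      hdiv n x hx hx0 R, hdiv n' y hy hy0 R]
    ring
  refine ⟨n' - n, Finset.mem_Icc.2 ⟨by omega, by omega⟩, x / y, ?_, ?_⟩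
  · rw [Groth.Funfld2.mem_L_iff_ord (div_ne_zero hx0 hy0)]
    intro R
    rw [hord]
    simp only [hE, Finsupp.sub_apply, Finsupp.single_apply]
    split_ifs <;> omega
  · rw [Groth.Funfld2.val_eq_exp_ord Q (div_ne_zero hx0 hy0), hord]
    simp only [hE, Finsupp.sub_apply, Finsupp.single_eq_same, Finsupp.single_eq_of_ne hPQ.symm]
    congr 1
    omega

theorem finite_torsion [IsAlgClosed k] [CharZero k] (hK : IsFunctionField k K)
    (hg1 : genus k K = 1) (P : Place k K) {m : ℕ} (hm : 1 ≤ m) :
    {Q : Place k K | Q ≠ P ∧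
      ∃ f ∈ L (Finsupp.single P (m : ℤ)), Q.1 f = WithZero.exp (-(m : ℤ))}.Finite := by
  classical
  obtain ⟨n, rfl⟩ := Nat.exists_eq_add_of_le' hm
  have hG := Groth.Funfld2.good_of_algClosed hK
  set D := Finsupp.single P ((n + 1 : ℕ) : ℤ) with hD
  have := Groth.Funfld2.finiteDimensional_L_of_place hG P D
  have hdim : Module.finrank k (L D) = n + 1 := by
    have h := Groth.FunFld1.ell_eq_of_deg_ge hK (D := D) (by
      rw [hD, Groth.Funfld2.deg_single, hG.deg_one, hg1]; push_cast; omega)
    rw [hD, Groth.Funfld2.deg_single, hG.deg_one, hg1, ← hD] at h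
    change ((Module.finrank k (L D) : ℕ) : ℤ) = _ at h
    push_cast at h
    omega
  let b := Module.finBasisOfFinrankEq k (L D) hdim
  set φ : Fin (n + 1) → K := fun i => ((b i : L D) : K) with hφdef
  have hφ : LinearIndependent k φ := b.linearIndependent.map' (L D).subtype (Submodule.ker_subtype _)
  have hspan : Submodule.span k (Set.range φ) = L D := by
    rw [show φ = (L D).subtype ∘ b from rfl, Set.range_comp, ← Submodule.map_span, b.span_eq,
      Submodule.map_top, Submodule.range_subtype]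
  have hone : (1 : K) ∈ L D := by
    rw [Groth.Funfld2.mem_L_iff_ord one_ne_zero]
    intro R
    rw [← map_one (algebraMap k K), Groth.FunFld1.ord_algebraMap, hD, zero_add,
      Finsupp.single_apply]
    split_ifs <;> omega
  obtain ⟨s, Hs, -, hHs⟩ := Groth.Funfld2.Hasse.exists_parameter hK P
  have hJ0 : FunFld.IsOrders K (FunFld.hcol (AlgHom.id k K) Hs φ)
      (fun l : Fin n => (l : ℕ) + 1) :=
    Groth.Funfld2.Hasse.classical_of_char hK hφ (Or.inl ringChar.eq_zero)
      le_rfl P (Or.inl ⟨rfl, rfl⟩) hHs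
  have hw : (FunFld.wrMat (AlgHom.id k K) Hs φ fun l : Fin n => (l : ℕ) + 1).det ≠ 0 := by
    rw [Groth.Funfld2.Hasse.wrMat_eq]
    exact Groth.Funfld2.Hasse.selDet_ne_zero hJ0 (Groth.Funfld2.Hasse.hcol_zero_ne hφ _ Hs)
  refine ((hG.finite_ord (FunFld.wrMat (AlgHom.id k K) Hs φ fun l : Fin n => (l : ℕ) + 1).det).union
    (Groth.Funfld2.Hasse.finite_bad_places hK hHs)).subset fun Q hQ => ?_
  obtain ⟨hQP, f, hf, hfv⟩ := hQ
  by_contra hout
  rw [Set.mem_union, Function.mem_support, not_or, not_not] at hout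
  obtain ⟨hw0, hgood⟩ := hout
  simp only [Set.mem_ofPred_eq, not_not] at hgood
  obtain ⟨t, Ht, ht, hHt⟩ := Groth.Funfld2.Hasse.exists_parameter hK Q
  have hnorm : ∀ i, Q.1 (φ i) ≤ 1 := fun i => by
    have := (b i).2 Q
    rwa [show D Q = 0 from Finsupp.single_eq_of_ne hQP, WithZero.exp_zero] at this
  have heff : (1 : K) ∈ Submodule.span k (Set.range φ) := hspan.symm ▸ hone
  obtain ⟨J', hJ'⟩ := Groth.Funfld2.Hasse.exists_orders_at hK ht hHt hφ heff hnorm
  obtain ⟨hv1, hv2⟩ := Groth.Funfld2.Hasse.variable_change hK hHs (AlgHom.id k K) φ hHt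
  have hJt := (hv1 _).2 hJ0
  have hdet0 : Q.ord (FunFld.wrMat (AlgHom.id k K) Ht φ fun l : Fin n => (l : ℕ) + 1).det = 0 := by
    rw [hv2 _ hJ0]
    set c := LocRes.hasseD Ht 1 s with hc
    have hc0 : c ≠ 0 := Groth.Funfld2.Hasse.hasseD_one_ne_zero hK hHs hHt
    have hc1 : Q.ord c = 0 := hgood t Ht ht hHt
    rw [Groth.FunFld1.ord_mul Q (pow_ne_zero _ hc0) hw, hw0, add_zero,
      ← Groth.FunFld1.val_eq_one_iff Q (pow_ne_zero _ hc0), map_pow,
      (Groth.FunFld1.val_eq_one_iff Q hc0).2 hc1, one_pow]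
  have heq := (Groth.Funfld2.Hasse.orders_eq_iff hK ht hHt hφ heff hnorm hJ' hJt).2 hdet0
  have := Groth.Funfld2.Hasse.isSeparable_of_hasse hK hHt
  have hdeg : Q.deg = 1 := hG.deg_one Q
  have hmem := (Groth.Funfld2.Hasse.mem_orders_iff hdeg ht heff hnorm
    ((Groth.Funfld2.Hasse.isOrders_hcolAt_iff hdeg ht hHt hnorm J').1 hJ') (n + 1)).2
    ⟨f, hspan.symm ▸ hf, hfv⟩
  rcases hmem with h | ⟨l, hl⟩
  · omega
  · rw [heq l] at hl
    omega

end Groth.Agent.S18182

namespace Groth.Agent.S18182

/-- Let `k` be an algebraically closed field of characteristic zero and `K/k` a function field of one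
variable (the function field of a smooth projective curve over `k`). A `g^r_d` is a divisor `D` of
degree `d` with a subspace `V ⊆ L(D)` of dimension `r + 1`; for a place `P` and `n ≥ 0`, `V(-nP) = V
∩ L(D - nP)` is the space of members vanishing to order at least `n` at `P`, so `dim V(-nP)` counts
the vanishing orders `m_0 < ⋯ < m_r` of `V` at `P` that are at least `n`, and the weight of `V` at
`P` is `∑_{n=1}^{d} dim V(-nP) - r(r+1)/2`. Assume `K` has genus one, fix a place `P` and natural
numbers `d` and `r ≥ 1`. Then only finitely many places `Q ≠ P` admit a `g^r_d` `(D, V)` whose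
weights at `P` and `Q` are large in the sense `w(V, P) + w(V, Q) ≥ (r+1)(d-r) - (r-1)`, that is
`(r+1)d + 1 ≤ ∑_{n=1}^{d} dim V(-nP) + ∑_{n=1}^{d} dim V(-nQ) + r`. (In the source `K` is an
elliptic tail of a flag curve degenerating a general curve of genus `g`, `P` its node, `Q` the limit
of a moving ramification point, and the weight hypothesis is what `ρ ≤ 0` gives; the finiteness of
torsion points of bounded order on an elliptic curve is used.) (The source states this for curves
over the complex numbers.) -/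
theorem result
    (k : Type*) [Field k] [IsAlgClosed k] [CharZero k]
    (K : Type*) [Field K] [Algebra k K] (hK : FunFld.IsFunctionField k K) (hg1 : FunFld.genus k K = 1)
    (P : FunFld.Place k K) (d r : ℕ) (hr : 1 ≤ r) :
    Set.Finite {Q : FunFld.Place k K | Q ≠ P ∧ ∃ (D : FunFld.Divisor k K) (V : Submodule k K),
      D.deg = d ∧ V ≤ FunFld.L D ∧ Module.finrank k ↥V = r + 1 ∧
      (r + 1) * d + 1 ≤
        (∑ n ∈ Finset.range d, Module.finrank k ↥(V ⊓ FunFld.L (D - Finsupp.single P ((n : ℤ) + 1)))) +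
          (∑ n ∈ Finset.range d, Module.finrank k ↥(V ⊓ FunFld.L (D - Finsupp.single Q ((n : ℤ) + 1)))) + r} := by
  have hG := Groth.Funfld2.good_of_algClosed hK
  refine ((Finset.Icc 1 d).finite_toSet.biUnion
    fun m hm => finite_torsion hK hg1 P (Finset.mem_Icc.1 hm).1).subset ?_
  rintro Q ⟨hQ, D, V, hD, hV, hrk, hw⟩
  obtain ⟨m, hm, hf⟩ := exists_principal_of_weights hG ⟨hD, hV, hrk⟩ (Ne.symm hQ) hw
  exact Set.mem_biUnion hm ⟨hQ, hf⟩

end Groth.Agent.S18182
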