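import Groth.Statements.S18187
import Mathlib
import Groth.Agent.ArtfunDeform.ArtBasic
-- import your own Groth.Agent.* helpers here

set_option autoImplicit false
universe u v
open CategoryTheory
open T1Lift

namespace Groth.Agent.S18187

section Helpers

open ArtFun ArtFun.Art T1Lift Groth.ArtfunDeform Polynomial

variable (k : Type u) [Field k]

/-- Morphisms out of the truncated polynomial ring are determined by the generator. -/
lemma homA_ext {n : ℕ} {D : Art k k} {f g : T1Lift.A k n ⟶ D} (h : f (t k n) = g (t k n)) : f = g :=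
  ArtFun.Art.hom_ext (AdjoinRoot.algHom_ext h)

lemma εβ (n : ℕ) : ε k n ≫ β k n = α k n := by
  refine homA_ext k ?_
  change (εAlg k n (t k (n + 1))).fst = αAlg k n (t k (n + 1))
  rw [εAlg_t, αAlg_t, TrivSqZeroExt.fst_add, TrivSqZeroExt.fst_inl, DualNumber.fst_eps, add_zero]

lemma ξβ (n : ℕ) : ξ k n ≫ β k n = β k (n + 1) ≫ α k n := ArtFun.Art.hom_ext (AlgHom.ext fun _ => rfl)

lemma αε (n : ℕ) : α k (n + 1) ≫ ε k n = ε k (n + 1) ≫ ξ k n := by
  refine homA_ext k ?_
  change εAlg k n (αAlg k (n + 1) (t k (n + 1 + 1))) =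
    dualMap k (αAlg k n) (εAlg k (n + 1) (t k (n + 1 + 1)))
  rw [αAlg_t, εAlg_t, εAlg_t]
  refine TrivSqZeroExt.ext ?_ ?_
  · change _ = αAlg k n ((TrivSqZeroExt.inl (t k (n + 1)) + DualNumber.eps : DualNumber (Tr k (n + 1))).fst)
    simp
  · change _ = αAlg k n ((TrivSqZeroExt.inl (t k (n + 1)) + DualNumber.eps : DualNumber (Tr k (n + 1))).snd)
    simp

lemma αAlg_surjective (n : ℕ) : Function.Surjective (αAlg k n) := by
  intro a
  induction a using AdjoinRoot.induction_on with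
  | ih p =>
    refine ⟨AdjoinRoot.mk _ p, ?_⟩
    rw [αAlg, AdjoinRoot.liftAlgHom_mk]
    exact AdjoinRoot.aeval_eq p

lemma exists_of_αAlg_eq_zero (n : ℕ) (x : Tr k (n + 1)) (hx : αAlg k n x = 0) :
    ∃ c, x = t k (n + 1) ^ (n + 1) * c := by
  induction x using AdjoinRoot.induction_on with
  | ih p =>
    have h : αAlg k n (AdjoinRoot.mk _ p) = AdjoinRoot.mk _ p := by
      rw [αAlg, AdjoinRoot.liftAlgHom_mk]
      exact AdjoinRoot.aeval_eq p
    rw [h, AdjoinRoot.mk_eq_zero] at hx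
    obtain ⟨q, rfl⟩ := hx
    exact ⟨AdjoinRoot.mk _ q, by rw [map_mul, map_pow, AdjoinRoot.mk_X]⟩

lemma mul_eq_zero_of_res (n : ℕ) {m x : Tr k (n + 1)} (hm : resA k (n + 1) m = 0)
    (hx : αAlg k n x = 0) : m * x = 0 := by
  obtain ⟨b, hb⟩ := eq_algebraMap_add_t_mul k (n + 1) m
  obtain ⟨c, rfl⟩ := exists_of_αAlg_eq_zero k n x hx
  rw [hb, hm, map_zero, zero_add,
    show t k (n + 1) * b * (t k (n + 1) ^ (n + 1) * c) = t k (n + 1) ^ (n + 2) * (b * c) by ring,
    t_pow, zero_mul]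

lemma dual_mul_eq_zero (n : ℕ) {u v : DualNumber (Tr k (n + 1))} (hu : resA k (n + 1) u.fst = 0)
    (hv1 : v.fst = 0) (hv2 : αAlg k n v.snd = 0) : u * v = 0 := by
  refine TrivSqZeroExt.ext ?_ ?_
  · rw [TrivSqZeroExt.fst_mul, hv1, mul_zero]; rfl
  · rw [TrivSqZeroExt.snd_mul, hv1, MulOpposite.op_zero, zero_smul, add_zero, smul_eq_mul,
      mul_eq_zero_of_res k n hu hv2]
    rfl

lemma t_pow_ne (n : ℕ) : t k n ^ n ≠ 0 := by
  intro h
  rw [show t k n = AdjoinRoot.mk ((X : k[X]) ^ (n + 1)) X from AdjoinRoot.mk_X.symm, ← map_pow,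
    AdjoinRoot.mk_eq_zero, X_pow_dvd_iff] at h
  simpa using h n (Nat.lt_succ_self n)

lemma α_semismall (n : ℕ) : IsSemismallExt (α k n) := by
  refine ⟨αAlg_surjective k n, ?_⟩
  rw [eq_bot_iff, Ideal.mul_le]
  intro m hm x hx
  rw [ArtFun.Art.mem_maximalIdeal_iff] at hm
  exact mul_eq_zero_of_res k n hm hx

lemma εAlg_top [CharZero k] (n : ℕ) (x : Tr k (n + 2)) (hx : αAlg k (n + 1) x = 0)
    (h : εAlg k (n + 1) x = 0) : x = 0 := by
  obtain ⟨c, rfl⟩ := exists_of_αAlg_eq_zero k (n + 1) x hx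
  obtain ⟨b, hb⟩ := eq_algebraMap_add_t_mul k (n + 2) c
  have hx' : t k (n + 2) ^ (n + 2) * c = algebraMap k _ (resA k (n + 2) c) * t k (n + 2) ^ (n + 2) := by
    conv_lhs => rw [hb]
    rw [mul_add, ← mul_assoc, ← pow_succ, t_pow, zero_mul, add_zero, mul_comm]
  rw [hx'] at h ⊢
  rw [map_mul, map_pow, εAlg_t, AlgHom.commutes] at h
  have h2 := congrArg TrivSqZeroExt.snd h
  rw [TrivSqZeroExt.algebraMap_eq_inl', TrivSqZeroExt.snd_mul, TrivSqZeroExt.snd_inl, TrivSqZeroExt.fst_inl,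
    smul_zero, add_zero, TrivSqZeroExt.snd_pow, TrivSqZeroExt.fst_add, TrivSqZeroExt.fst_inl, DualNumber.fst_eps,
    add_zero, TrivSqZeroExt.snd_add, TrivSqZeroExt.snd_inl, DualNumber.snd_eps, zero_add, smul_eq_mul,
    smul_eq_mul, mul_one, TrivSqZeroExt.snd_zero, nsmul_eq_mul, ← mul_assoc,
    ← map_natCast (algebraMap k (Tr k (n + 1))), ← map_mul, ← Algebra.smul_def, smul_eq_zero] at h2
  rcases h2 with h2 | h2
  · rcases mul_eq_zero.mp h2 with h3 | h3
    · rw [h3, map_zero, zero_mul]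
    · exact absurd h3 (Nat.cast_ne_zero.mpr (by omega))
  · exact absurd h2 (t_pow_ne k (n + 1))

end Helpers

/-- In the set-valued case, let k be a field of characteristic zero and F a functor on local Artinian
k-algebras with residue field k such that F(k) is one point, F satisfies the Rim–Schlessinger
condition (for every fibre-product square A' ×_A A'' with A'' → A surjective the comparison map F(A'
×_A A'') → F(A') ×_{F(A)} F(A'') is bijective), and F has an obstruction theory with values in a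
k-vector space V which is moreover functorial for every commutative square of surjections whose
kernels are killed by the maximal ideal. Write A_m = k[t]/(t^(m+1)), B_m = A_m[y]/(y²), α : A_(m+1)
→ A_m and ξ : B_(m+1) → B_m for t ↦ t, β : B_m → A_m for y ↦ 0 and ε : A_(m+1) → B_m for t ↦ t + y.
Then an element X ∈ F(A_(n+1)) lifts to F(A_(n+2)) along α if and only if there is Y ∈ F(B_(n+1))
with F(β) Y = X and F(ξ) Y = F(ε) X, i.e. if and only if the element of the first-order tangent set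
T¹(F(α)X / A_n) defined by F(ε) X lies in the image of T¹(X / A_(n+1)). (Stated here for functors
with values in sets; the version for predeformation categories in groupoids satisfying the
Rim–Schlessinger condition specialises to it. The functoriality of the obstruction theory for
arbitrary commutative squares is an explicit hypothesis, pinned through linear maps between the
kernels that agree with the given ring map.) -/
theorem result (k : Type u) [Field k] [CharZero k]
    (F : ArtFun.Art k k ⥤ Type v) (h0 : ArtFun.H0 F)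
    (hRS : ∀ ⦃P A A' A'' : ArtFun.Art k k⦄ (p' : P ⟶ A') (p'' : P ⟶ A'') (f' : A' ⟶ A) (f'' : A'' ⟶ A)
      (h : ArtFun.Art.IsFibreProd p' p'' f' f''), Function.Surjective f'' → Function.Bijective (ArtFun.cmp F h))
    (V : Type u) [AddCommGroup V] [Module k V] (O : ArtFun.ObsTheory F V)
    (hnat : ∀ ⦃A' A C' C : ArtFun.Art k k⦄ (φ : A' ⟶ A) (hφ : ArtFun.Art.IsSemismallExt φ)
      (ψ : C' ⟶ C) (hψ : ArtFun.Art.IsSemismallExt ψ) (g' : A' ⟶ C') (g : A ⟶ C), φ ≫ g = g' ≫ ψ →
      ∀ (ℓ : ↥(RingHom.ker φ.toAlgHom) →ₗ[k] ↥(RingHom.ker ψ.toAlgHom)),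
        (∀ j : ↥(RingHom.ker φ.toAlgHom), ((ℓ j : ↥(RingHom.ker ψ.toAlgHom)) : C') = g' (j : A')) →
        ∀ u : F.obj A, O.obs ψ hψ (F.map g u) = LinearMap.lTensor V ℓ (O.obs φ hφ u))
    (n : ℕ) (X : F.obj (T1Lift.A k (n + 1))) :
    (∃ X' : F.obj (T1Lift.A k (n + 2)), F.map (T1Lift.α k (n + 1)) X' = X) ↔
      ∃ Y : F.obj (T1Lift.B k (n + 1)), F.map (T1Lift.β k (n + 1)) Y = X ∧
        F.map (T1Lift.ξ k n) Y = F.map (T1Lift.ε k n) X := by
  constructor
  · rintro ⟨X', hX'⟩
    refine ⟨F.map (T1Lift.ε k (n + 1)) X', ?_, ?_⟩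
    · rw [← Functor.map_comp_apply, εβ, hX']
    · rw [← Functor.map_comp_apply, ← αε, Functor.map_comp_apply, hX']
  · rintro ⟨Y, hY₁, hY₂⟩
    have hβ : Function.Surjective (T1Lift.β k n) := fun a => ⟨TrivSqZeroExt.inl a, rfl⟩
    obtain ⟨P, p', p'', hP⟩ := Groth.ArtfunDeform.exists_isFibreProd (T1Lift.α k n) (T1Lift.β k n) hβ
    set ψ := Groth.ArtfunDeform.fpLift hP (T1Lift.β k (n + 1)) (T1Lift.ξ k n) (ξβ k n).symm with hψdef
    set g := Groth.ArtfunDeform.fpLift hP (𝟙 (T1Lift.A k (n + 1))) (T1Lift.ε k n)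
      (by rw [Category.id_comp, εβ]) with hgdef
    have hψ1 : ψ ≫ p' = T1Lift.β k (n + 1) := Groth.ArtfunDeform.fpLift_fst hP _ _ _
    have hψ2 : ψ ≫ p'' = T1Lift.ξ k n := Groth.ArtfunDeform.fpLift_snd hP _ _ _
    have hg1 : g ≫ p' = 𝟙 _ := Groth.ArtfunDeform.fpLift_fst hP _ _ _
    have hg2 : g ≫ p'' = T1Lift.ε k n := Groth.ArtfunDeform.fpLift_snd hP _ _ _
    have happ1 : ∀ b, p' (ψ b) = T1Lift.β k (n + 1) b := fun b => by rw [← ArtFun.Art.comp_apply, hψ1]
    have happ2 : ∀ b, p'' (ψ b) = T1Lift.ξ k n b := fun b => by rw [← ArtFun.Art.comp_apply, hψ2]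
    have hψss : ArtFun.Art.IsSemismallExt ψ := by
      refine ⟨fun c => ?_, ?_⟩
      · obtain ⟨s, hs⟩ := αAlg_surjective k n (TrivSqZeroExt.snd (R := T1Lift.Tr k n) (p'' c))
        let x : T1Lift.Tr k (n + 1) := p' c
        let b0 : T1Lift.B k (n + 1) := (TrivSqZeroExt.inl x + TrivSqZeroExt.inr s : DualNumber (T1Lift.Tr k (n + 1)))
        refine ⟨b0, hP.inj _ _ ((happ1 b0).trans ?_) ((happ2 b0).trans ?_)⟩
        · change TrivSqZeroExt.fst (TrivSqZeroExt.inl x + TrivSqZeroExt.inr s : DualNumber (T1Lift.Tr k (n + 1))) = x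
          simp
        · refine TrivSqZeroExt.ext (R := T1Lift.Tr k n) ?_ ?_
          · change T1Lift.αAlg k n (TrivSqZeroExt.fst (TrivSqZeroExt.inl x + TrivSqZeroExt.inr s : DualNumber (T1Lift.Tr k (n + 1)))) = _
            simp only [TrivSqZeroExt.fst_add, TrivSqZeroExt.fst_inl, TrivSqZeroExt.fst_inr, add_zero]
            exact hP.w_apply c
          · change T1Lift.αAlg k n (TrivSqZeroExt.snd (TrivSqZeroExt.inl x + TrivSqZeroExt.inr s : DualNumber (T1Lift.Tr k (n + 1)))) = _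
            simp only [TrivSqZeroExt.snd_add, TrivSqZeroExt.snd_inl, TrivSqZeroExt.snd_inr, zero_add]
            exact hs
      · rw [eq_bot_iff, Ideal.mul_le]
        intro m hm x hx
        rw [ArtFun.Art.mem_maximalIdeal_iff] at hm
        have hx0 : ψ x = 0 := hx
        have h1 : TrivSqZeroExt.fst x = 0 := by
          have := happ1 x
          rw [hx0, map_zero] at this
          exact this.symm
        have h2 : T1Lift.αAlg k n (TrivSqZeroExt.snd x) = 0 := by
          have h3 := happ2 x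
          rw [hx0, map_zero] at h3
          exact (congrArg TrivSqZeroExt.snd h3).symm
        rw [Ideal.mem_bot]
        exact dual_mul_eq_zero k n hm h1 h2
    have hsq : T1Lift.α k (n + 1) ≫ g = T1Lift.ε k (n + 1) ≫ ψ := by
      refine Groth.ArtfunDeform.hom_ext_apply fun a => hP.inj _ _ ?_ ?_
      · rw [← ArtFun.Art.comp_apply, ← ArtFun.Art.comp_apply _ p', Category.assoc, Category.assoc, hg1, hψ1,
          Category.comp_id, εβ]
      · rw [← ArtFun.Art.comp_apply, ← ArtFun.Art.comp_apply _ p'', Category.assoc, Category.assoc, hg2, hψ2, αε]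
    have hmem : ∀ j : ↥(RingHom.ker (T1Lift.α k (n + 1)).toAlgHom),
        T1Lift.ε k (n + 1) (j : T1Lift.A k (n + 2)) ∈ RingHom.ker ψ.toAlgHom := by
      intro j
      change ψ (T1Lift.ε k (n + 1) j.1) = 0
      rw [← ArtFun.Art.comp_apply, ← hsq, ArtFun.Art.comp_apply,
        show T1Lift.α k (n + 1) j.1 = 0 from j.2, map_zero]
    let ℓ : ↥(RingHom.ker (T1Lift.α k (n + 1)).toAlgHom) →ₗ[k] ↥(RingHom.ker ψ.toAlgHom) :=
      { toFun := fun j => ⟨_, hmem j⟩
        map_add' := fun x y => Subtype.ext (map_add (T1Lift.ε k (n + 1)).toAlgHom _ _)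
        map_smul' := fun c x => Subtype.ext (map_smul (T1Lift.ε k (n + 1)).toAlgHom _ _) }
    have hℓ : Function.Injective ℓ := by
      rw [injective_iff_map_eq_zero]
      intro j hj
      exact Subtype.ext (εAlg_top k n j.1 j.2 (congrArg Subtype.val hj))
    have hlift : F.map ψ Y = F.map g X := by
      refine (hRS p' p'' _ _ hP hβ).1 (Subtype.ext (Prod.ext ?_ ?_))
      · change F.map p' (F.map ψ Y) = F.map p' (F.map g X)
        rw [← Functor.map_comp_apply, hψ1, hY₁, ← Functor.map_comp_apply, hg1, Functor.map_id_apply]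
      · change F.map p'' (F.map ψ Y) = F.map p'' (F.map g X)
        rw [← Functor.map_comp_apply, hψ2, hY₂, ← Functor.map_comp_apply, hg2]
    have h0' := hnat (T1Lift.α k (n + 1)) (α_semismall k (n + 1)) ψ hψss (T1Lift.ε k (n + 1)) g hsq ℓ
      (fun j => rfl) X
    rw [(O.obs_eq_zero_iff ψ hψss _).mpr ⟨Y, hlift⟩] at h0'
    refine (O.obs_eq_zero_iff _ (α_semismall k (n + 1)) X).mp ?_
    apply Module.Flat.lTensor_preserves_injective_linearMap (M := V) ℓ hℓ
    rw [← h0', map_zero]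

end Groth.Agent.S18187
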