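import Groth.Statements.S18188
import Mathlib
-- import your own Groth.Agent.* helpers here

set_option autoImplicit false
universe u
open OrbRR

namespace Groth.Agent.S18188

open Finset

theorem sum_pow_mul {K : Type*} [Field K] {N : ℕ} (hN : 0 < N) {ζ : K} (hζ : IsPrimitiveRoot ζ N) (j : ℕ) :
    ∑ i ∈ range N, ζ ^ (i * j) = if N ∣ j then (N : K) else 0 := by
  simp only [mul_comm _ j, pow_mul]
  split_ifs with h
  · simp [(hζ.pow_eq_one_iff_dvd j).mpr h]
  · have h1 : ζ ^ j ≠ 1 := fun e => h ((hζ.pow_eq_one_iff_dvd j).mp e)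
    rw [geom_sum_eq h1, ← pow_mul, mul_comm, pow_mul, hζ.pow_eq_one, one_pow, sub_self, zero_div]

theorem sum_Ioo_pow_mul {K : Type*} [Field K] {N : ℕ} (hN : 0 < N) {ζ : K} (hζ : IsPrimitiveRoot ζ N) (j : ℕ) :
    ∑ i ∈ Ioo 0 N, ζ ^ (i * j) = (if N ∣ j then (N : K) else 0) - 1 := by
  rw [← sum_pow_mul hN hζ j, eq_sub_iff_add_eq,
    show range N = insert 0 (Ioo 0 N) by ext; simp; omega, sum_insert (by simp)]
  simp [add_comm]


/-- Let K be a field in which 6 ≠ 0, let j < N be natural numbers (so N ≥ 1), and let ζ ∈ K be a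
primitive N-th root of unity. Then the sum over i = 1, …, N − 1 of ζ^{ij} / (2 − ζ^i − ζ^{−i})
equals j(j − N)/2 + (N² − 1)/12. (The published setting is characteristic zero; the identity is
stated here over any field of characteristic different from 2 and 3, where the published proof
applies unchanged: a field containing a primitive N-th root of unity has characteristic prime to N,
and each denominator 2 − ζ^i − ζ^{−i} = −(1 − ζ^i)²/ζ^i with 0 < i < N is nonzero. In
characteristics 2 and 3 the right-hand side has no meaning.) -/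
theorem result (K : Type u) [Field K] (h6 : (6 : K) ≠ 0)
    (N j : ℕ) (hj : j < N) (ζ : K) (hζ : IsPrimitiveRoot ζ N) :
    ∑ i ∈ Finset.Ioo 0 N, ζ ^ (i * j) / (2 - ζ ^ i - (ζ ^ i)⁻¹) =
      (j : K) * ((j : K) - (N : K)) / 2 + ((N : K) ^ 2 - 1) / 12 := by
  have hN : 0 < N := by omega
  haveI : NeZero N := ⟨hN.ne'⟩
  have hNK : (N : K) ≠ 0 := (IsPrimitiveRoot.neZero' hζ).ne
  have h2 : (2 : K) ≠ 0 := fun h => h6 (by linear_combination 3 * h)
  have h12 : (12 : K) ≠ 0 := by rw [show (12 : K) = 2 * 6 by norm_num]; exact mul_ne_zero h2 h6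
  have hden : ∀ i ∈ Finset.Ioo 0 N, (2 : K) - ζ ^ i - (ζ ^ i)⁻¹ ≠ 0 ∧ ζ ^ i ≠ 0 := by
    intro i hi
    simp only [Finset.mem_Ioo] at hi
    have h0 : ζ ^ i ≠ 0 := pow_ne_zero _ (hζ.ne_zero hN.ne')
    have h1 : ζ ^ i ≠ 1 := hζ.pow_ne_one_of_pos_of_lt hi.1.ne' hi.2
    refine ⟨fun h => h1 ?_, h0⟩
    have : (ζ ^ i - 1) ^ 2 = 0 := by
      have := congrArg (· * ζ ^ i) h
      field_simp at this
      linear_combination -this
    exact sub_eq_zero.mp (pow_eq_zero_iff (n := 2) (by omega) |>.mp this)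
  set a : ℕ → K := fun m => ∑ i ∈ Finset.Ioo 0 N, ζ ^ (i * m) / (2 - ζ ^ i - (ζ ^ i)⁻¹) with ha
  set f : ℕ → K := fun m => (m : K) * ((m : K) - (N : K)) / 2 + ((N : K) ^ 2 - 1) / 12 with hf
  set d : ℕ → K := fun m => a m - f m with hd
  have hsec : ∀ m, ¬ N ∣ m + 1 → d (m + 2) - 2 * d (m + 1) + d m = 0 := by
    intro m hm
    have ha2 : a (m + 2) - 2 * a (m + 1) + a m = 1 := by
      have h1 := sum_Ioo_pow_mul hN hζ (m + 1)
      rw [if_neg hm, zero_sub] at h1
      simp only [ha, Finset.mul_sum, ← Finset.sum_sub_distrib, ← Finset.sum_add_distrib]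
      rw [show (1 : K) = -∑ i ∈ Finset.Ioo 0 N, ζ ^ (i * (m + 1)) by rw [h1, neg_neg], ← Finset.sum_neg_distrib]
      refine Finset.sum_congr rfl fun i hi => ?_
      obtain ⟨hd0, hz0⟩ := hden i hi
      rw [show i * (m + 2) = i * m + i + i by ring, show i * (m + 1) = i * m + i by ring, pow_add, pow_add]
      generalize ζ ^ (i * m) = y
      generalize ζ ^ i = x at hd0 hz0 ⊢
      have hx : (2 : K) - x - x⁻¹ = -((x - 1) ^ 2) / x := by field_simp; ring
      have hx1 : x - 1 ≠ 0 := fun e => hd0 (by rw [hx, e]; simp)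
      rw [hx]
      field_simp
      ring
    have hf2 : f (m + 2) - 2 * f (m + 1) + f m = 1 := by
      simp only [hf]; push_cast; field_simp; ring
    simp only [hd]; linear_combination ha2 - hf2
  have hlin : ∀ m, m + 1 ≤ N → d m = d 0 + (m : K) * (d 1 - d 0) ∧ d (m + 1) = d 0 + ((m : K) + 1) * (d 1 - d 0) := by
    intro m
    induction m with
    | zero => intro _; simp
    | succ m ih =>
      intro hm
      obtain ⟨h1, h2⟩ := ih (by omega)
      refine ⟨by push_cast; exact h2, ?_⟩
      have h3 := hsec m (Nat.not_dvd_of_pos_of_lt (by omega) (by omega))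
      push_cast
      linear_combination h3 + 2 * h2 - h1
  have hdN : d N = d 0 := by
    have : a N = a 0 := by
      simp only [ha]
      refine Finset.sum_congr rfl fun i _ => ?_
      rw [mul_comm i N, pow_mul, hζ.pow_eq_one, one_pow, mul_zero, pow_zero]
    simp only [hd, hf, this]; push_cast; ring
  obtain ⟨M, hM⟩ : ∃ M, N = M + 1 := ⟨N - 1, by omega⟩
  have hstep : d 1 - d 0 = 0 := by
    have h := (hlin M (by omega)).2
    rw [← hM, hdN] at h
    have h' : (N : K) * (d 1 - d 0) = 0 := by rw [hM]; push_cast; linear_combination -h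
    exact (mul_eq_zero.mp h').resolve_left hNK
  have hconst : ∀ m, m < N → d m = d 0 := fun m hm => by
    rw [(hlin m hm).1, hstep, mul_zero, add_zero]
  have hsumd : ∑ m ∈ Finset.range N, d m = 0 := by
    have hA : ∑ m ∈ Finset.range N, a m = 0 := by
      simp only [ha]
      rw [Finset.sum_comm]
      refine Finset.sum_eq_zero fun i hi => ?_
      simp only [← Finset.sum_div, mul_comm i]
      rw [sum_pow_mul hN hζ i, if_neg, zero_div]
      simp only [Finset.mem_Ioo] at hi
      exact Nat.not_dvd_of_pos_of_lt hi.1 hi.2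
    have hF : ∀ M : ℕ, 12 * ∑ m ∈ Finset.range M, f m =
        (M : K) * ((M : K) - 1) * (2 * M - 1) - 3 * N * M * ((M : K) - 1) + M * ((N : K) ^ 2 - 1) := by
      intro M
      induction M with
      | zero => simp
      | succ M ih =>
        rw [Finset.sum_range_succ, mul_add, ih]
        simp only [hf]; push_cast; field_simp; ring
    have hF' : ∑ m ∈ Finset.range N, f m = 0 := by
      have h := hF N
      have : (12 : K) * ∑ m ∈ Finset.range N, f m = 0 := by rw [h]; ring
      exact (mul_eq_zero.mp this).resolve_left h12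
    simp only [hd, Finset.sum_sub_distrib, hA, hF', sub_zero]
  rw [Finset.sum_congr rfl (fun m hm => hconst m (Finset.mem_range.mp hm)), Finset.sum_const,
    Finset.card_range, nsmul_eq_mul] at hsumd
  have h0 := (mul_eq_zero.mp hsumd).resolve_left hNK
  have hj' := hconst j hj
  rw [h0] at hj'
  exact sub_eq_zero.mp hj'

end Groth.Agent.S18188
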