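import Groth.Statements.S18189
import Mathlib
import Groth.Agent.S18188
-- import your own Groth.Agent.* helpers here

set_option autoImplicit false
open OrbRR

namespace Groth.Agent.S18189

open Finset

theorem conj_root {N : ℕ} (hN : 0 < N) {ζ : ℂ} (hζ : IsPrimitiveRoot ζ N) (i : ℕ) :
    (starRingEnd ℂ) (ζ ^ i) = (ζ ^ i)⁻¹ := by
  rw [map_pow, ← inv_pow]
  congr 1
  exact (Complex.inv_eq_conj (hζ.norm'_eq_one hN.ne')).symm

theorem two_sub_eq_normSq {N : ℕ} (hN : 0 < N) {ζ : ℂ} (hζ : IsPrimitiveRoot ζ N) (i : ℕ) :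
    2 - ζ ^ i - (ζ ^ i)⁻¹ = (Complex.normSq (1 - ζ ^ i) : ℂ) := by
  have h0 : ζ ^ i ≠ 0 := pow_ne_zero _ (hζ.ne_zero hN.ne')
  rw [← Complex.mul_conj, map_sub, map_one, conj_root hN hζ i]
  field_simp
  ring

theorem f_eq {N : ℕ} (j : ℕ) (hj : j < N) {ζ : ℂ} (hζ : IsPrimitiveRoot ζ N) :
    (j : ℂ) * ((j : ℂ) - (N : ℂ)) / 2 + ((N : ℂ) ^ 2 - 1) / 12 =
      ∑ l ∈ Finset.Ioo 0 N, ζ ^ (l * j) / (Complex.normSq (1 - ζ ^ l) : ℂ) := by
  rw [← Groth.Agent.S18188.result ℂ (by norm_num) N j hj ζ hζ]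
  exact Finset.sum_congr rfl fun l _ => by rw [two_sub_eq_normSq (by omega) hζ l]


/-- Let N ≥ 1 be a natural number, let ζ ∈ ℂ be a primitive N-th root of unity, and put f(i) = i(i −
N)/2 + (N² − 1)/12 for 0 ≤ i < N. For every natural number m the complex number ε_m = (1/N)
∑_{i=0}^{N−1} f(i) ζ^{mi}, an eigenvalue of the symmetric circulant N × N matrix with (i, j) entry
f(j − i)/N, is real and nonnegative. -/
theorem result (N : ℕ) (hN : 0 < N) (ζ : ℂ)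
    (hζ : IsPrimitiveRoot ζ N) (m : ℕ) :
    (∑ i ∈ Finset.range N,
        ((i : ℂ) * ((i : ℂ) - (N : ℂ)) / 2 + ((N : ℂ) ^ 2 - 1) / 12) / (N : ℂ) * ζ ^ (m * i)).im = 0 ∧
    0 ≤ (∑ i ∈ Finset.range N,
        ((i : ℂ) * ((i : ℂ) - (N : ℂ)) / 2 + ((N : ℂ) ^ 2 - 1) / 12) / (N : ℂ) * ζ ^ (m * i)).re := by
  set s : ℝ := (∑ l ∈ Finset.Ioo 0 N, if N ∣ l + m then (Complex.normSq (1 - ζ ^ l))⁻¹ else 0) with hs
  have key : (∑ i ∈ Finset.range N,
        ((i : ℂ) * ((i : ℂ) - (N : ℂ)) / 2 + ((N : ℂ) ^ 2 - 1) / 12) / (N : ℂ) * ζ ^ (m * i)) = (s : ℂ) := by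
    have hNC : (N : ℂ) ≠ 0 := by exact_mod_cast hN.ne'
    rw [Finset.sum_congr rfl (fun i hi => by rw [f_eq i (Finset.mem_range.mp hi) hζ, Finset.sum_div, Finset.sum_mul] :
      ∀ i ∈ Finset.range N, ((i : ℂ) * ((i : ℂ) - (N : ℂ)) / 2 + ((N : ℂ) ^ 2 - 1) / 12) / (N : ℂ) * ζ ^ (m * i) =
        ∑ l ∈ Finset.Ioo 0 N, ζ ^ (l * i) / (Complex.normSq (1 - ζ ^ l) : ℂ) / (N : ℂ) * ζ ^ (m * i)), Finset.sum_comm, hs,
      Complex.ofReal_sum]
    refine Finset.sum_congr rfl fun l _ => ?_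
    have h1 : ∑ i ∈ Finset.range N, ζ ^ ((l + m) * i) = if N ∣ l + m then (N : ℂ) else 0 := by
      simp only [mul_comm (l + m)]; exact Groth.Agent.S18188.sum_pow_mul hN hζ (l + m)
    calc ∑ i ∈ Finset.range N, ζ ^ (l * i) / (Complex.normSq (1 - ζ ^ l) : ℂ) / (N : ℂ) * ζ ^ (m * i)
        = (∑ i ∈ Finset.range N, ζ ^ ((l + m) * i)) / ((Complex.normSq (1 - ζ ^ l) : ℂ) * N) := by
          rw [Finset.sum_div]
          refine Finset.sum_congr rfl fun i _ => ?_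
          rw [add_mul, pow_add]; ring
      _ = _ := by
          rw [h1]; split_ifs
          · push_cast; field_simp
          · simp
  rw [key]
  refine ⟨Complex.ofReal_im s, ?_⟩
  rw [Complex.ofReal_re, hs]
  exact Finset.sum_nonneg fun l _ => by split_ifs <;> simp [Complex.normSq_nonneg]

end Groth.Agent.S18189
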