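import Groth.Statements.S18190
import Mathlib
import Groth.Agent.S18189
-- import your own Groth.Agent.* helpers here

set_option autoImplicit false
open OrbRR

namespace Groth.Agent.S18190

open Finset Matrix


/-- Let N ≥ 1 and let f : ℤ/Nℤ → ℚ be f(x) = x(x − N)/2 + (N² − 1)/12, where x is read as its
representative with 0 ≤ x < N. The real N × N matrix indexed by ℤ/Nℤ whose (i, j) entry is f(j −
i)/N, a symmetric circulant matrix, is positive semidefinite. -/
theorem result (N : ℕ) [NeZero N] :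
    (Matrix.of fun i j : ZMod N =>
        ((((j - i).val : ℝ) * (((j - i).val : ℝ) - (N : ℝ))) / 2 + ((N : ℝ) ^ 2 - 1) / 12) / (N : ℝ)).PosSemidef := by
  have hN : 0 < N := Nat.pos_of_ne_zero (NeZero.ne N)
  obtain ⟨ζ, hζ⟩ : ∃ ζ : ℂ, IsPrimitiveRoot ζ N := ⟨_, Complex.isPrimitiveRoot_exp N hN.ne'⟩
  have hsub : ∀ (i j : ZMod N) (l : ℕ), ζ ^ (l * (j - i).val) = ζ ^ (l * j.val) * (starRingEnd ℂ) (ζ ^ (l * i.val)) := by
    intro i j l
    rw [Groth.Agent.S18189.conj_root hN hζ, eq_mul_inv_iff_mul_eq₀ (pow_ne_zero _ (hζ.ne_zero hN.ne')), ← pow_add, ← mul_add]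
    refine pow_eq_pow_of_modEq ?_ hζ.pow_eq_one
    refine Nat.ModEq.mul_left l ((ZMod.natCast_eq_natCast_iff _ _ N).mp ?_)
    push_cast; simp
  refine Matrix.PosSemidef.of_dotProduct_mulVec_nonneg ?_ fun x => ?_
  · ext i j
    simp only [Matrix.conjTranspose_apply, Matrix.of_apply, star_trivial]
    by_cases h : j - i = 0
    · rw [sub_eq_zero] at h; subst h; rfl
    · haveI : NeZero (j - i) := ⟨h⟩
      rw [← neg_sub j i, ZMod.val_neg_of_ne_zero, Nat.cast_sub (ZMod.val_le _)]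
      ring
  · set s : ℝ := ∑ l ∈ Finset.Ioo 0 N,
      Complex.normSq (∑ i, (x i : ℂ) * ζ ^ (l * i.val)) / (Complex.normSq (1 - ζ ^ l) * N) with hs
    have hs0 : 0 ≤ s := Finset.sum_nonneg fun l _ =>
      div_nonneg (Complex.normSq_nonneg _) (mul_nonneg (Complex.normSq_nonneg _) (Nat.cast_nonneg _))
    refine le_of_le_of_eq hs0 (Complex.ofReal_injective ?_)
    simp only [dotProduct, Matrix.mulVec, Matrix.of_apply, star_trivial, hs]
    push_cast
    have hterm : ∀ i j : ZMod N,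
        (((j - i).val : ℂ) * (((j - i).val : ℂ) - (N : ℂ)) / 2 + ((N : ℂ) ^ 2 - 1) / 12) / (N : ℂ) =
        ∑ l ∈ Finset.Ioo 0 N, ζ ^ (l * j.val) * (starRingEnd ℂ) (ζ ^ (l * i.val)) / ((Complex.normSq (1 - ζ ^ l) : ℂ) * N) := by
      intro i j
      rw [Groth.Agent.S18189.f_eq _ (ZMod.val_lt _) hζ, Finset.sum_div]
      refine Finset.sum_congr rfl fun l _ => ?_
      rw [hsub, div_div]
    simp only [hterm, Finset.mul_sum, Finset.sum_mul, ← Complex.mul_conj, map_sum, map_mul, Complex.conj_ofReal,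
      Finset.sum_div]
    rw [Finset.sum_comm]
    refine Finset.sum_congr rfl fun i _ => ?_
    rw [Finset.sum_comm]
    refine Finset.sum_congr rfl fun j _ => Finset.sum_congr rfl fun l _ => ?_
    ring

end Groth.Agent.S18190
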