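import Groth.Statements.S18192
import Groth.Agent.LocImm.Main
-- import your own Groth.Agent.* helpers here

set_option autoImplicit false
universe u
open LocImm

namespace Groth.Agent.S18192


open CategoryTheory AlgebraicGeometry in
/-- Let `f : X ⟶ S` be a separated morphism of Noetherian schemes and `U₁, U₂` two opens covering `X`
such that each restriction `U_i ⟶ S` of `f` factors as a localizing immersion `k_i : U_i ⟶ Y_i`
(localizing and injective on points, `Y_i` Noetherian) followed by a separated morphism of finite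
type `p_i : Y_i ⟶ S`. Then `f` factors as a localizing immersion `k : X ⟶ Y` with `Y` Noetherian
followed by a separated morphism of finite type `p : Y ⟶ S`. -/
theorem result {X S : Scheme.{u}} [IsNoetherian X] [IsNoetherian S] (f : X ⟶ S) [IsSeparated f]
    (U₁ U₂ : X.Opens) (hU : U₁ ⊔ U₂ = ⊤) (Y₁ Y₂ : Scheme.{u}) [IsNoetherian Y₁] [IsNoetherian Y₂]
    (k₁ : (U₁ : Scheme.{u}) ⟶ Y₁) (k₂ : (U₂ : Scheme.{u}) ⟶ Y₂) (p₁ : Y₁ ⟶ S) (p₂ : Y₂ ⟶ S)
    (hk₁ : LocImm.IsLocImmersion k₁) (hk₂ : LocImm.IsLocImmersion k₂)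
    [IsSeparated p₁] [IsSeparated p₂] [LocallyOfFiniteType p₁] [LocallyOfFiniteType p₂] [QuasiCompact p₁] [QuasiCompact p₂]
    (h₁ : k₁ ≫ p₁ = U₁.ι ≫ f) (h₂ : k₂ ≫ p₂ = U₂.ι ≫ f) :
    ∃ (Y : Scheme.{u}) (k : X ⟶ Y) (p : Y ⟶ S), IsNoetherian Y ∧ LocImm.IsLocImmersion k ∧ IsSeparated p ∧ LocallyOfFiniteType p ∧ QuasiCompact p ∧ k ≫ p = f := by
  refine Groth.LocImmersion.hasFactor_of_two f U₁.ι U₂.ι (fun x => ?_)
    ⟨Y₁, k₁, p₁, inferInstance, hk₁, inferInstance, inferInstance, inferInstance, h₁⟩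
    ⟨Y₂, k₂, p₂, inferInstance, hk₂, inferInstance, inferInstance, inferInstance, h₂⟩
  have hx : x ∈ U₁ ⊔ U₂ := hU ▸ trivial
  rcases hx with hx | hx
  · exact Or.inl ⟨⟨x, hx⟩, rfl⟩
  · exact Or.inr ⟨⟨x, hx⟩, rfl⟩

end Groth.Agent.S18192
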