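import Groth.Statements.S18195
import Groth.Agent.LocImm.Factor
import Groth.Agent.LocImm.Ideal
-- import your own Groth.Agent.* helpers here

set_option autoImplicit false
universe u
open LocImm

namespace Groth.Agent.S18195


open CategoryTheory AlgebraicGeometry in
/-- Let `f : X ⟶ Y` and `g : Y ⟶ Z` be morphisms of Noetherian schemes with `g` separated and `f ≫ g` a
localizing immersion (localizing and injective on points). If `f` has schematically dense image,
i.e. each ring map `Γ(Y, U) → Γ(X, f⁻¹U)` is injective, then `f` is a localizing immersion. -/
theorem result {X Y Z : Scheme.{u}} [IsNoetherian X] [IsNoetherian Y] [IsNoetherian Z]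
    (f : X ⟶ Y) (g : Y ⟶ Z) (hfg : LocImm.IsLocImmersion (f ≫ g)) [IsSeparated g]
    (hd : ∀ U : Y.Opens, Function.Injective (f.app U).hom) : LocImm.IsLocImmersion f := by
  exact Groth.LocImmersion.isLocImmersion_of_comp f g hfg hd

end Groth.Agent.S18195
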