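import Groth.Statements.S18201
import Groth.Agent.LocImm.Main
-- import your own Groth.Agent.* helpers here

set_option autoImplicit false
universe u
open LocImm

namespace Groth.Agent.S18201


open CategoryTheory AlgebraicGeometry in
/-- Let `P` be a property of morphisms of schemes such that (α) for every separated, essentially
finite-type `f : X ⟶ Y` of Noetherian schemes and every localizing immersion `i : W ⟶ X` (`W`
Noetherian; localizing and injective on points), `P f` implies `P (i ≫ f)`; and (β) for every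
separated finite-type `f : X ⟶ Y` of Noetherian schemes, (i) `P f` holds whenever `P` holds for each
composite `Spec O_{X,x} ⟶ X ⟶ Y`, and (ii) the set of `x` for which that composite satisfies `P` is
open. Then (i) and (ii) hold for every separated, essentially finite-type `f : X ⟶ Y` of Noetherian
schemes, and any such `f` with `P f` factors as a localizing immersion `X ⟶ Z` (`Z` Noetherian)
followed by a separated morphism of finite type `h : Z ⟶ Y` satisfying `P`. -/
theorem result (P : MorphismProperty Scheme.{u})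
    (hα : ∀ {W X Y : Scheme.{u}} [IsNoetherian W] [IsNoetherian X] [IsNoetherian Y] (i : W ⟶ X) (f : X ⟶ Y) [IsSeparated f] [EssFT.EssFiniteType f], LocImm.IsLocImmersion i → P f → P (i ≫ f))
    (hβ₁ : ∀ {X Y : Scheme.{u}} [IsNoetherian X] [IsNoetherian Y] (f : X ⟶ Y) [IsSeparated f] [LocallyOfFiniteType f], (∀ x : X, P (X.fromSpecStalk x ≫ f)) → P f)
    (hβ₂ : ∀ {X Y : Scheme.{u}} [IsNoetherian X] [IsNoetherian Y] (f : X ⟶ Y) [IsSeparated f] [LocallyOfFiniteType f], IsOpen {x : X | P (X.fromSpecStalk x ≫ f)})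
    {X Y : Scheme.{u}} [IsNoetherian X] [IsNoetherian Y] (f : X ⟶ Y) [IsSeparated f] [EssFT.EssFiniteType f] :
    ((∀ x : X, P (X.fromSpecStalk x ≫ f)) → P f) ∧ IsOpen {x : X | P (X.fromSpecStalk x ≫ f)} ∧
      (P f → ∃ (Z : Scheme.{u}) (i : X ⟶ Z) (h : Z ⟶ Y), IsNoetherian Z ∧ LocImm.IsLocImmersion i ∧ IsSeparated h ∧ LocallyOfFiniteType h ∧ QuasiCompact h ∧ P h ∧ i ≫ h = f) := by
  obtain ⟨T, k, p, hT, hk, hp, hlft, hqc, rfl⟩ := Groth.LocImmersion.hasFactor f
  have hstalk : ∀ {A B : Scheme.{u}} [IsNoetherian A] [IsNoetherian B] (g : A ⟶ B) [IsSeparated g]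
      [EssFT.EssFiniteType g] (a : A), P g → P (A.fromSpecStalk a ≫ g) := fun {A B} _ _ g _ _ a hg =>
    have : IsNoetherian (Spec (A.presheaf.stalk a)) := inferInstance
    hα (A.fromSpecStalk a) g (Groth.LocImmersion.isLocImmersion_fromSpecStalk a) hg
  have hess : ∀ {A B : Scheme.{u}} [IsNoetherian A] (g : A ⟶ B) [LocallyOfFiniteType g],
      EssFT.EssFiniteType g := fun g _ =>
    have := Groth.LocImmersion.locallyEssFiniteType_of_locallyOfFiniteType g
    ⟨⟩
  have hessS : ∀ t : T, EssFT.EssFiniteType (T.fromSpecStalk t ≫ p) := fun t => by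
    have h1 := Groth.LocImmersion.locallyEssFiniteType_of_isLocalizing
      (Groth.LocImmersion.isLocImmersion_fromSpecStalk t).1
    have h2 := Groth.LocImmersion.locallyEssFiniteType_of_locallyOfFiniteType p
    have h3 : EssFT.LocallyEssFiniteType (T.fromSpecStalk t ≫ p) :=
      Groth.LocImmersion.locallyEssFiniteType_comp
    exact ⟨⟩
  have heq : ∀ x, P (X.fromSpecStalk x ≫ k ≫ p) ↔ P (T.fromSpecStalk (k x) ≫ p) := by
    intro x
    have := Groth.LocImmersion.isIso_stalkMap hk.1 x
    have e : X.fromSpecStalk x ≫ k ≫ p = Spec.map (k.stalkMap x) ≫ T.fromSpecStalk (k x) ≫ p := by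
      rw [Scheme.SpecMap_stalkMap_fromSpecStalk_assoc]
    constructor
    · intro h
      rw [← IsIso.inv_hom_id_assoc (Spec.map (k.stalkMap x)) (T.fromSpecStalk (k x) ≫ p), ← e]
      have : EssFT.EssFiniteType (X.fromSpecStalk x ≫ k ≫ p) := by
        have h1 := Groth.LocImmersion.locallyEssFiniteType_of_isLocalizing
          (Groth.LocImmersion.isLocImmersion_fromSpecStalk x).1
        have h2 : EssFT.LocallyEssFiniteType (k ≫ p) := inferInstance
        have h3 : EssFT.LocallyEssFiniteType (X.fromSpecStalk x ≫ k ≫ p) :=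
          Groth.LocImmersion.locallyEssFiniteType_comp
        exact ⟨⟩
      exact hα _ _ (Groth.LocImmersion.isLocImmersion_of_isOpenImmersion _) h
    · intro h
      rw [e]
      have := hessS (k x)
      exact hα _ _ (Groth.LocImmersion.isLocImmersion_of_isOpenImmersion _) h
  let O : T.Opens := ⟨{t | P (T.fromSpecStalk t ≫ p)}, hβ₂ p⟩
  have : TopologicalSpace.NoetherianSpace O := O.ι.isOpenEmbedding.isInducing.noetherianSpace
  have : IsNoetherian O := ⟨⟩
  have hO : P (O.ι ≫ p) := by
    refine hβ₁ _ fun z => ?_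
    have := hessS (O.ι z)
    rw [← Scheme.SpecMap_stalkMap_fromSpecStalk_assoc]
    exact hα _ _ (Groth.LocImmersion.isLocImmersion_of_isOpenImmersion _) z.2
  have hall : (∀ x, P (X.fromSpecStalk x ≫ k ≫ p)) →
      ∃ k' : X ⟶ O, LocImm.IsLocImmersion k' ∧ k' ≫ O.ι = k := by
    intro h
    let k' := IsOpenImmersion.lift O.ι k (by
      rintro _ ⟨x, rfl⟩; rw [Scheme.Opens.range_ι]; exact (heq x).1 (h x))
    have hk' : k' ≫ O.ι = k := IsOpenImmersion.lift_fac _ _ _
    exact ⟨k', Groth.LocImmersion.isLocImmersion_of_comp_ι k' (hk'.symm ▸ hk), hk'⟩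
  refine ⟨fun h => ?_, ?_, fun h => ?_⟩
  · obtain ⟨k', hk', e⟩ := hall h
    rw [← e, Category.assoc]
    have := hess (O.ι ≫ p)
    exact hα k' (O.ι ≫ p) hk' hO
  · have : {x : X | P (X.fromSpecStalk x ≫ k ≫ p)} = k ⁻¹' (O : Set T) := Set.ext heq
    rw [this]
    exact O.2.preimage k.continuous
  · obtain ⟨k', hk', e⟩ := hall fun x => hstalk (k ≫ p) x h
    exact ⟨O, k', O.ι ≫ p, inferInstance, hk', inferInstance, inferInstance, inferInstance, hO,
      by rw [← Category.assoc, e]⟩

end Groth.Agent.S18201
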