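import Groth.Statements.S18198
import Mathlib
import Groth.Agent.S18201
import Groth.Agent.LocImm.Main
import Groth.Agent.NagComp.Nagata
-- import your own Groth.Agent.* helpers here

set_option autoImplicit false
universe u
open LocImm

namespace Groth.Agent.S18198


open CategoryTheory AlgebraicGeometry in
/-- Let `f : X ⟶ S` be a separated morphism of Noetherian schemes that is essentially of finite type.
Then `f` factors as a localizing immersion `k : X ⟶ Y` (localizing and injective on points) into a
Noetherian scheme followed by a proper morphism `p : Y ⟶ S`. -/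
theorem result {X S : Scheme.{u}} [IsNoetherian X] [IsNoetherian S] (f : X ⟶ S) [IsSeparated f] [EssFT.EssFiniteType f] :
    ∃ (Y : Scheme.{u}) (k : X ⟶ Y) (p : Y ⟶ S), IsNoetherian Y ∧ LocImm.IsLocImmersion k ∧ IsProper p ∧ k ≫ p = f := by
  obtain ⟨Z, i, h, hZ, hi, hsep, hlft, hqc, -, hih⟩ :=
    (Groth.Agent.S18201.result (⊤ : MorphismProperty Scheme.{u}) (by intros; trivial)
      (by intros; trivial) (by intros; convert isOpen_univ; exact Set.eq_univ_of_forall fun _ => trivial)
      f).2.2 trivial
  obtain ⟨Y, j, g, hj, hg, hjg⟩ := Groth.NagComp.hasCompactification h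
  haveI := hj
  haveI := hg
  haveI : CompactSpace Y := QuasiCompact.compactSpace_of_compactSpace g
  haveI : IsLocallyNoetherian Y := LocallyOfFiniteType.isLocallyNoetherian g
  refine ⟨Y, i ≫ j, g, ⟨⟩, ?_, hg, by rw [Category.assoc, hjg, hih]⟩
  exact Groth.LocImmersion.isLocImmersion_comp hi (Groth.LocImmersion.isLocImmersion_of_isOpenImmersion j)

end Groth.Agent.S18198
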