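import Groth.Statements.S18200
import Groth.Agent.LocImm.Main
import Groth.Agent.LocImm.FiniteFactor
-- import your own Groth.Agent.* helpers here

set_option autoImplicit false
universe u
open LocImm

namespace Groth.Agent.S18200


open CategoryTheory AlgebraicGeometry in
/-- Let `f : X ⟶ Y` be a separated morphism of Noetherian schemes that is essentially quasi-finite:
essentially of finite type with every fibre the spectrum of a finite algebra over the residue field
(equivalently, `f` locally quasi-finite in the fibrewise sense, which carries no finite-type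
condition). Then `f` factors as a localizing immersion `i : X ⟶ Z` (localizing and injective on
points, `Z` Noetherian) followed by a finite morphism `h : Z ⟶ Y`. -/
theorem result {X Y : Scheme.{u}} [IsNoetherian X] [IsNoetherian Y] (f : X ⟶ Y) [IsSeparated f] [EssFT.EssFiniteType f] [LocallyQuasiFinite f] :
    ∃ (Z : Scheme.{u}) (i : X ⟶ Z) (h : Z ⟶ Y), IsNoetherian Z ∧ LocImm.IsLocImmersion i ∧ IsFinite h ∧ i ≫ h = f := by
  obtain ⟨T, k, p, hT, hk, hp, hlft, hqc, hkp⟩ := Groth.LocImmersion.hasFactor f
  have hq : ∀ x, k x ∈ p.quasiFiniteLocus := fun x => by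
    have h1 : f.QuasiFiniteAt x := f.quasiFiniteAt x
    have := Groth.LocImmersion.isIso_stalkMap hk.1 x
    rw [← hkp] at h1
    show p.QuasiFiniteAt (k x)
    simp only [Scheme.Hom.QuasiFiniteAt, Scheme.Hom.stalkMap_comp] at h1 ⊢
    exact (RingHom.QuasiFinite.respectsIso.cancel_right_isIso _ (k.stalkMap x)).1 h1
  let U := p.quasiFiniteLocus
  have : TopologicalSpace.NoetherianSpace U := U.ι.isOpenEmbedding.isInducing.noetherianSpace
  have : IsNoetherian U := ⟨⟩
  obtain ⟨Z, j, h, hj, hh, hjh⟩ := Groth.LocImmersion.exists_isOpenImmersion_comp_isFinite (U.ι ≫ p)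
  have : IsLocallyNoetherian Z := LocallyOfFiniteType.isLocallyNoetherian h
  have : CompactSpace Z := QuasiCompact.compactSpace_of_compactSpace h
  let k' := IsOpenImmersion.lift U.ι k (by
    rintro _ ⟨x, rfl⟩; rw [Scheme.Opens.range_ι]; exact hq x)
  have hk' : k' ≫ U.ι = k := IsOpenImmersion.lift_fac _ _ _
  refine ⟨Z, k' ≫ j, h, ⟨⟩, Groth.LocImmersion.isLocImmersion_comp
    (Groth.LocImmersion.isLocImmersion_of_comp_ι k' (hk'.symm ▸ hk))
    (Groth.LocImmersion.isLocImmersion_of_isOpenImmersion j), hh, ?_⟩
  rw [Category.assoc, hjh, ← Category.assoc, hk', hkp]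

end Groth.Agent.S18200
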