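import Groth.Statements.S18208
import Groth.Agent.LocImm.Factor
import Groth.Agent.LocImm.Ideal
-- import your own Groth.Agent.* helpers here

set_option autoImplicit false
universe u
open LocImm

namespace Groth.Agent.S18208


open CategoryTheory AlgebraicGeometry in
/-- A morphism `f : X ⟶ Y` of Noetherian schemes is a localizing immersion (localizing and injective on
points) if and only if every point of `f(X)` has an affine open neighbourhood `V` in `Y` whose
preimage `f⁻¹V` is affine with `Γ(Y, V) → Γ(X, f⁻¹V)` a localizing ring map (its target is the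
localization of its source at some submonoid). In particular such an `f` is quasi-affine. -/
theorem result {X Y : Scheme.{u}} [IsNoetherian X] [IsNoetherian Y] (f : X ⟶ Y) :
    LocImm.IsLocImmersion f ↔ ∀ x : X, ∃ V : Y.Opens, f x ∈ V ∧ IsAffineOpen V ∧ IsAffineOpen (f ⁻¹ᵁ V) ∧ LocImm.IsLocHom (f.app V).hom := by
  refine ⟨fun hf x => ?_, Groth.LocImmersion.isLocImmersion_of_forall_chart⟩
  obtain ⟨V, hx, -, h⟩ := Groth.LocImmersion.exists_chart_preimage hf x ⊤ trivial
  exact ⟨V, hx, h⟩

end Groth.Agent.S18208
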