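import Groth.Statements.S18209
import Groth.Agent.NagComp.EssModel

set_option autoImplicit false
universe u
open LocImm

namespace Groth.Agent.S18209

open CategoryTheory AlgebraicGeometry Limits in
/-- Let `f : X ⟶ Y` and `g : Y ⟶ Z` be separated morphisms of Noetherian schemes, essentially of finite
type, such that `f` and `f ≫ g` are localizing immersions (localizing and injective on points). Then
there are blow-ups `b : Ỹ ⟶ Y` and `c : Z̃ ⟶ Z` in quasi-coherent (hence coherent) ideals whose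
closed subschemes are disjoint from the image of `X`, and a localizing immersion `g' : Ỹ ⟶ Z̃`
lifting `g`, i.e. `g' ≫ c = b ≫ g`. -/
theorem result {X Y Z : Scheme.{u}} [IsNoetherian X] [IsNoetherian Y] [IsNoetherian Z]
    (f : X ⟶ Y) (g : Y ⟶ Z) [IsSeparated f] [IsSeparated g] [EssFT.EssFiniteType f] [EssFT.EssFiniteType g]
    (hf : LocImm.IsLocImmersion f) (hfg : LocImm.IsLocImmersion (f ≫ g)) :
    ∃ (𝓘 : Y.IdealSheafData) (𝓙 : Z.IdealSheafData) (Yt Zt : Scheme.{u}) (b : Yt ⟶ Y) (c : Zt ⟶ Z) (g' : Yt ⟶ Zt),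
      BlowUp.IsBlowUp b 𝓘 ∧ Disjoint (𝓘.support : Set Y) (Set.range (fun x => f x)) ∧
      BlowUp.IsBlowUp c 𝓙 ∧ Disjoint (𝓙.support : Set Z) (Set.range (fun x => g (f x))) ∧
      LocImm.IsLocImmersion g' ∧ g' ≫ c = b ≫ g := by
  obtain ⟨Ym, k, p, hYm, hk, hp, hpt, hpc, rfl⟩ := Groth.LocImmersion.hasFactor g
  have hfm := Groth.LocImmersion.isLocImmersion_comp hf hk
  haveI := Groth.LocImmersion.locallyEssFiniteType_of_locallyOfFiniteType p
  obtain ⟨U, hU, hl⟩ := Groth.LocImmersion.exists_nhd_isLocImmersion (f ≫ k) ((f ≫ k) ≫ p) p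
    (Groth.LocImmersion.stableUnderGeneralization_range hfm.1)
    (Groth.LocImmersion.isIso_stalkMap hfm.1) (by rwa [Category.assoc]) rfl
  haveI : IsOpenImmersion (U.ι ≫ p) := Groth.LocImmersion.isOpenImmersion_of_locallyOfFiniteType hl
  obtain ⟨K, L, T, Zt, q, c, j, hq, hK, hc, hL, hj, -, hjw⟩ :=
    Groth.NagComp.exists_dense_embedding p (𝟙 Z) U (TopologicalSpace.NoetherianSpace.isCompact _)
      (U.ι ≫ p) (Category.comp_id _)
  refine ⟨K.comap k, L, _, Zt, pullback.fst k q, c, pullback.snd k q ≫ j,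
    Groth.NagComp.isBlowUp_pullback hk hq,
    Groth.NagComp.disjoint_support_comap f k hK (fun x => hU ⟨x, Scheme.Hom.comp_apply _ _ _⟩),
    hc, ?_, ?_, ?_⟩
  · refine hL.2.mono_right ?_
    rintro _ ⟨x, rfl⟩
    exact ⟨⟨k (f x), hU ⟨x, Scheme.Hom.comp_apply _ _ _⟩⟩,
      (Scheme.Hom.comp_apply _ _ _).trans (Scheme.Hom.comp_apply k p (f x)).symm⟩
  · exact Groth.LocImmersion.isLocImmersion_comp
      (Groth.LocImmersion.isLocImmersion_pullback_snd q hk)
      (Groth.LocImmersion.isLocImmersion_of_isOpenImmersion j)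
  · rw [Category.assoc, show j ≫ c = q ≫ p by simpa using hjw, pullback.condition_assoc]

end Groth.Agent.S18209
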