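import Groth.Statements.S1821
import Groth.Agent.DualCore.RelDualizingUnique
import Groth.Agent.DualCore.ShriekCompFlat

set_option autoImplicit false
universe u
open CategoryTheory
open scoped TensorProduct
attribute [local instance] HasDerivedCategory.standard
open Dual2

namespace Groth.Agent.S1821

/-- Let R → A and A → B be flat ring maps of finite presentation, K a relative dualizing complex for R →
A and L a complex of B-modules whose class is a relative dualizing complex for A → B (relative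
dualizing in the sense: R-perfect with RHom_{S⊗S}(S, − ⊗^L (S ⊗ S)) ≅ S, the base change and RHom
functors being the assumed ones). Assuming the derived base change D(A) → D(B) and − ⊗^L_B L exist,
(K ⊗^L_A B) ⊗^L_B L is a relative dualizing complex for R → B. -/
theorem result (R A B : Type u) [CommRing R] [CommRing A] [CommRing B] [Algebra R A] [Algebra A B] [Algebra R B] [IsScalarTower R A B] [Module.Flat R A] [Algebra.FinitePresentation R A] [Module.Flat A B] [Algebra.FinitePresentation A B] [DRing.HasLBaseChange (Algebra.TensorProduct.includeLeftRingHom : A →+* TensorProduct R A A)] (RμA : Dual.D (TensorProduct R A A) ⥤ Dual.D A) (adjA : DRing.restrictD (Algebra.TensorProduct.lmul' R (S := A)).toRingHom ⊣ RμA) [DRing.HasLBaseChange (Algebra.TensorProduct.includeLeftRingHom : B →+* TensorProduct A B B)] (RμBA : Dual.D (TensorProduct A B B) ⥤ Dual.D B) (adjBA : DRing.restrictD (Algebra.TensorProduct.lmul' A (S := B)).toRingHom ⊣ RμBA) [DRing.HasLBaseChange (Algebra.TensorProduct.includeLeftRingHom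 : B →+* TensorProduct R B B)] (RμB : Dual.D (TensorProduct R B B) ⥤ Dual.D B) (adjB : DRing.restrictD (Algebra.TensorProduct.lmul' R (S := B)).toRingHom ⊣ RμB) (K : Dual.D A) (hK : Dual2.IsRelDualizing R A RμA K) (L : DRing.Cx B) (hL : Dual2.IsRelDualizing A B RμBA (DRing.toD L)) [DRing.HasLBaseChange (algebraMap A B)] [DRing.HasLTensorCx B L] : Dual2.IsRelDualizing R B RμB ((DRing.LTensorCx B L).obj ((DRing.LBaseChange (algebraMap A B)).obj K)) := by
  haveI : Module.Flat R B := Module.Flat.trans R A B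
  haveI : Algebra.FinitePresentation R B := Algebra.FinitePresentation.trans R A B
  obtain ⟨n, ψ, hψ, _, Rψ, ⟨adjψ⟩⟩ := Groth.DualCore.exists_presentation R A
  obtain ⟨m, χ, hχ, _, Rχ, ⟨adjχ⟩⟩ := Groth.DualCore.exists_presentation A B
  obtain ⟨k, θ, hθ, _, Rθ, ⟨adjθ⟩⟩ := Groth.DualCore.exists_presentation R B
  obtain ⟨eK⟩ := Groth.DualCore.nonempty_iso_shriek_of_isRelDualizing ψ hψ Rψ adjψ RμA adjA K hK
  obtain ⟨eL⟩ := Groth.DualCore.nonempty_iso_shriek_of_isRelDualizing χ hχ Rχ adjχ RμBA adjBA _ hL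
  obtain ⟨t⟩ := Groth.DualCore.nonempty_shriek_iso_LTensorCx χ hχ Rχ adjχ L ⟨eL.symm⟩ K
  obtain ⟨c⟩ := Groth.DualCore.nonempty_shriek_comp_of_flat R A B n ψ hψ Rψ adjψ m χ hχ Rχ adjχ k θ hθ Rθ
    adjθ (Dual.inD R R)
  letI := adjχ.rightAdjointCommShift ℤ
  refine Groth.DualCore.isRelDualizing_of_iso (c ≪≫ ?_ ≪≫ t)
    ⟨Groth.DualCore.isRelPerfect_shriek_self_fp θ hθ Rθ adjθ,
      Groth.DualCore.nonempty_RHom_diagonal_fp θ hθ Rθ adjθ RμB adjB⟩
  exact (shiftFunctor _ (m : ℤ)).mapIso (Rχ.mapIso ((DRing.LBaseChange _).mapIso eK))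

end Groth.Agent.S1821
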