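import Groth.Statements.S18210
import Groth.Agent.NagComp.EssModel
import Groth.Agent.NagComp.Chart
import Groth.Agent.NagComp.CommonTargetFin

set_option autoImplicit false
universe u
set_option linter.style.haveILetI false
open LocImm

namespace Groth.Agent.S18210

open CategoryTheory AlgebraicGeometry Limits TopologicalSpace in
theorem preimage_opensRange_eq {X' X W : Scheme.{u}} (b : X' ⟶ X) (v : W ⟶ X') (j : W ⟶ X)
    [IsOpenImmersion j] (h : v ≫ b = j) [IsIso (b ∣_ j.opensRange)] :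
    (b ⁻¹ᵁ j.opensRange : Set X') = Set.range v := by
  refine Set.Subset.antisymm (fun y hy => ?_) ?_
  · obtain ⟨w, hw⟩ := id hy
    have hvw : v w ∈ b ⁻¹ᵁ j.opensRange :=
      ⟨w, by rw [← h]; exact Scheme.Hom.comp_apply _ _ _⟩
    refine ⟨w, congrArg Subtype.val ((b ∣_ j.opensRange).isOpenEmbedding.injective
      (a₁ := ⟨v w, hvw⟩) (a₂ := ⟨y, hy⟩) (Subtype.ext ?_))⟩
    rw [morphismRestrict_base]
    show b (v w) = b y
    rw [← hw, ← h, Scheme.Hom.comp_apply]
  · rintro _ ⟨w, rfl⟩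
    exact ⟨w, by rw [← h]; exact Scheme.Hom.comp_apply _ _ _⟩

open CategoryTheory AlgebraicGeometry Limits TopologicalSpace in
theorem dense_preimage_blowUp {X' X : Scheme.{u}} {b : X' ⟶ X} {J : X.IdealSheafData}
    (hb : BlowUp.IsBlowUp b J) {V : X.Opens} (hV : Dense (V : Set X)) :
    Dense ((b ⁻¹ᵁ V : X'.Opens) : Set X') := by
  haveI := Groth.Divisors.isIso_morphismRestrict_compl hb
  refine Groth.NagComp.dense_preimage_of_isIso b (V := Groth.Divisors.complOpens J) hV
    (Groth.NagComp.dense_of_SD_top (Groth.NagComp.SD.of_compl hb.1 (fun x hx => ?_) ⊤))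
  rw [Scheme.IdealSheafData.support_comap] at hx
  exact hx

open CategoryTheory AlgebraicGeometry Limits TopologicalSpace in
theorem exists_common_open {S U : Scheme.{u}} [IsNoetherian S] [IsNoetherian U] :
    ∀ (n : ℕ) (Y : Fin (n + 1) → Scheme.{u}) [∀ i, IsNoetherian (Y i)] (π : ∀ i, Y i ⟶ S)
      [∀ i, IsSeparated (π i)] [∀ i, LocallyOfFiniteType (π i)] (f : ∀ i, U ⟶ Y i),
      (∀ i, LocImm.IsLocImmersion (f i)) → (∀ i i', f i ≫ π i = f i' ≫ π i') →
      ∃ (W : Scheme.{u}) (k : U ⟶ W) (o : ∀ i, W ⟶ Y i) (pW : W ⟶ S),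
        LocImm.IsLocImmersion k ∧ ∀ i, IsOpenImmersion (o i) ∧ k ≫ o i = f i ∧ o i ≫ π i = pW := by
  intro n
  induction n with
  | zero =>
    intro Y _ π _ _ f hf _
    refine ⟨Y 0, f 0, fun i => eqToHom (congrArg Y (Subsingleton.elim (α := Fin 1) 0 i)), π 0, hf 0, fun i => ?_⟩
    obtain rfl : (0 : Fin 1) = i := Subsingleton.elim _ _
    simp only [eqToHom_refl, Category.comp_id, Category.id_comp, and_self, and_true]
    infer_instance
  | succ n ih =>
    intro Y _ π _ _ f hf hfπ
    obtain ⟨W, k, o, pW, hk, ho⟩ := ih (fun i => Y i.castSucc) (fun i => π i.castSucc)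
      (fun i => f i.castSucc) (fun i => hf _) (fun i i' => hfπ _ _)
    haveI := (ho 0).1
    haveI : IsLocallyNoetherian W := LocallyOfFiniteType.isLocallyNoetherian (o 0)
    haveI : NoetherianSpace W := (o 0).isOpenEmbedding.isInducing.noetherianSpace
    haveI : IsNoetherian W := ⟨⟩
    haveI : IsSeparated pW := (ho 0).2.2 ▸ inferInstance
    haveI : LocallyOfFiniteType pW := (ho 0).2.2 ▸ inferInstance
    obtain ⟨W', k', g₁, g₂, hk', hg₁, hg₂, hg, e₁, e₂⟩ := Groth.LocImmersion.exists_open_models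
      k (f (Fin.last (n + 1))) pW (π (Fin.last (n + 1))) hk (hf _)
      (by rw [← (ho 0).2.2, reassoc_of% (ho 0).2.1]; exact hfπ _ _)
    refine ⟨W', k', Fin.lastCases (motive := fun i => W' ⟶ Y i) g₂ (fun i => g₁ ≫ o i), g₁ ≫ pW,
      hk', fun i => ?_⟩
    refine Fin.lastCases ?_ (fun j => ?_) i
    · simp only [Fin.lastCases_last]
      exact ⟨hg₂, e₂, hg.symm⟩
    · simp only [Fin.lastCases_castSucc]
      haveI := (ho j).1
      exact ⟨inferInstance, by rw [reassoc_of% e₁, (ho j).2.1], by rw [Category.assoc, (ho j).2.2]⟩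

open CategoryTheory AlgebraicGeometry Limits in
/-- Let `S` be a Noetherian scheme, `U` and `Y_1, …, Y_n` Noetherian schemes separated and essentially
of finite type over `S`, and `f_i : U ⟶ Y_i` localizing immersions over `S` (localizing and
injective on points). Then there are blow-ups `b_i : Ỹ_i ⟶ Y_i` in quasi-coherent ideals whose
closed subschemes miss `f_i(U)`, a separated `S`-scheme `Z` of finite type, lifts `u_i : U ⟶ Ỹ_i` of
the `f_i`, and localizing immersions `g_i : Ỹ_i ⟶ Z` over `S` with dense image such that all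
composites `u_i ≫ g_i` coincide. (The published statement does not require the `Y_i` to be separated
over `S`; its proof factors each `Y_i ⟶ S` through the main factorization result, which needs it,
and without it the line with a doubled point over a field, with `U` the complement of the doubled
point, is a counterexample, since a scheme admitting a localizing immersion into a separated
`S`-scheme is separated over `S`.) -/
theorem result {S U : Scheme.{u}} [IsNoetherian S] [IsNoetherian U] {n : ℕ}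
    (gU : U ⟶ S) (Y : Fin n → Scheme.{u}) [∀ i, IsNoetherian (Y i)] (q : ∀ i, Y i ⟶ S)
    [∀ i, IsSeparated (q i)] [∀ i, EssFT.EssFiniteType (q i)]
    (f : ∀ i, U ⟶ Y i) (hf : ∀ i, LocImm.IsLocImmersion (f i)) (hfq : ∀ i, f i ≫ q i = gU) :
    ∃ (Z : Scheme.{u}) (r : Z ⟶ S) (_ : IsSeparated r) (_ : LocallyOfFiniteType r) (_ : QuasiCompact r)
      (𝓘 : ∀ i, (Y i).IdealSheafData) (Yt : Fin n → Scheme.{u}) (b : ∀ i, Yt i ⟶ Y i) (u : ∀ i, U ⟶ Yt i) (g : ∀ i, Yt i ⟶ Z),
      (∀ i, BlowUp.IsBlowUp (b i) (𝓘 i) ∧ Disjoint ((𝓘 i).support : Set (Y i)) (Set.range (fun x => f i x)) ∧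
        u i ≫ b i = f i ∧ LocImm.IsLocImmersion (g i) ∧ Dense (Set.range (fun x => g i x)) ∧ g i ≫ r = b i ≫ q i) ∧
      (∀ i i', u i ≫ g i = u i' ≫ g i') := by
  classical
  rcases n with _ | n
  · refine ⟨⊥_ Scheme, initial.to S, inferInstance, inferInstance, inferInstance, fun i => i.elim0,
      fun i => i.elim0, fun i => i.elim0, fun i => i.elim0, fun i => i.elim0, fun i => i.elim0,
      fun i => i.elim0⟩
  choose Ym k p hYm hk hp hpt hpc hkp using fun i => Groth.LocImmersion.hasFactor (q i)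
  have hfk := fun i => Groth.LocImmersion.isLocImmersion_comp (hf i) (hk i)
  obtain ⟨W₀, κ₀, o₀, pW₀, hκ₀, ho₀⟩ := exists_common_open n Ym p (fun i => f i ≫ k i) hfk
    (fun i i' => by simp only [Category.assoc, hkp, hfq])
  haveI := fun i => (ho₀ i).1
  haveI : IsLocallyNoetherian W₀ := LocallyOfFiniteType.isLocallyNoetherian (o₀ 0)
  haveI : TopologicalSpace.NoetherianSpace W₀ := (o₀ 0).isOpenEmbedding.isInducing.noetherianSpace
  -- make the image of `U` dense
  obtain ⟨G, hG, -, hgen⟩ := Groth.LocImmersion.exists_finite_generic (Z := (Set.univ : Set W₀))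
    isClosed_univ
  let Wo : W₀.Opens := ⟨(⋃ g ∈ G \ Set.range κ₀, closure {g})ᶜ,
    ((hG.subset Set.sdiff_subset).isClosed_biUnion fun _ _ => isClosed_closure).isOpen_compl⟩
  have hstab := Groth.LocImmersion.stableUnderGeneralization_range hκ₀.1
  let κ : U ⟶ (Wo : Scheme.{u}) := IsOpenImmersion.lift Wo.ι κ₀ (by
    rw [Scheme.Opens.range_ι]
    intro w hw hmem
    obtain ⟨g, hg, hgw⟩ := Set.mem_iUnion₂.mp hmem
    exact hg.2 (hstab (specializes_iff_mem_closure.mpr hgw) hw))
  have hκ : κ ≫ Wo.ι = κ₀ := IsOpenImmersion.lift_fac _ _ _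
  have hκd : Dense (Set.range κ) := by
    intro x
    rw [Wo.ι.isOpenEmbedding.isInducing.closure_eq_preimage_closure_image, Set.mem_preimage,
      ← Set.range_comp]
    obtain ⟨g, hg, hgx⟩ := hgen (Wo.ι x) trivial
    have hgr : g ∈ Set.range κ₀ := by
      by_contra hn
      exact x.2 (Set.mem_iUnion₂.mpr ⟨g, ⟨hg, hn⟩, hgx.mem_closure⟩)
    refine closure_mono ?_ (hgx.mem_closure)
    rintro _ rfl
    obtain ⟨u, rfl⟩ := hgr
    exact ⟨u, congr($hκ u)⟩
  haveI : CompactSpace (Wo : Scheme.{u}) :=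
    isCompact_iff_compactSpace.mp (TopologicalSpace.NoetherianSpace.isCompact _)
  let pW : (Wo : Scheme.{u}) ⟶ S := Wo.ι ≫ pW₀
  haveI : QuasiCompact pW := quasiCompact_of_compactSpace pW
  let o : ∀ i, (Wo : Scheme.{u}) ⟶ Ym i := fun i => Wo.ι ≫ o₀ i
  -- make `W` dense in the models
  choose N hN hNs using fun i => Groth.FlatMorOne.exists_ftIdeal_support_eq (X := Ym i)
    ⟨((o i).opensRange : Set (Ym i))ᶜ, (o i).opensRange.2.isClosed_compl⟩
    (show IsCompact (((o i).opensRange : Set (Ym i))ᶜ)ᶜ from TopologicalSpace.NoetherianSpace.isCompact _)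
  have hNadm : ∀ i, BlowUp.IsAdmissibleFor (o i).opensRange (N i) := fun i =>
    ⟨hN i, by rw [hNs i]; exact disjoint_compl_left⟩
  choose T b₁ hb₁ using fun i => Groth.BlowUpBasics.exists_isBlowUp (Ym i) (N i)
  choose o₁ ho₁ hob₁ using fun i => Groth.NagComp.exists_lift_of_blowUp (o i) (hb₁ i) (hNadm i)
  haveI : ∀ i, IsProper (b₁ i) := fun i => Groth.HTopHyper.isProper_of_isBlowUp (hb₁ i) (hN i)
  have hpre₁ : ∀ i, (b₁ i ⁻¹ᵁ (o i).opensRange : Set (T i)) = Set.range (o₁ i) := fun i =>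
    haveI := Groth.BlowUpBasics.isIso_morphismRestrict (hb₁ i) _ (hNadm i).2
    preimage_opensRange_eq (b₁ i) (o₁ i) (o i) (hob₁ i)
  have hd₁ : ∀ i, Dense ((o₁ i).opensRange : Set (T i)) := by
    intro i
    refine ((Groth.NagComp.dense_of_SD_top (Groth.NagComp.SD.of_compl (hb₁ i).1
      (U := b₁ i ⁻¹ᵁ (o i).opensRange) (fun x hx => ?_) ⊤))).mono (hpre₁ i).le
    rw [Scheme.IdealSheafData.support_comap] at hx
    by_contra hn
    exact hx ((hNs i).ge hn)
  obtain ⟨Z, r, e, hr, hrc, hrt, -, -, D, hD⟩ := Groth.NagComp.exists_common_target_fin pW n T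
    (fun i => b₁ i ≫ p i) o₁
    (fun i => by simp only [reassoc_of% hob₁ i, o, Category.assoc, (ho₀ i).2.2, pW])
  haveI := fun i => (D i).openImm
  have hcomp := fun i => Groth.Agent.S1694.result _ (N i) (hN i) (b₁ i) (hb₁ i) _ (D i).adm.1
    (D i).b (D i).isBlowUp
  choose K hKft hKs hK using hcomp
  have hfac : ∀ i, (κ ≫ (D i).u) ≫ (D i).b ≫ b₁ i = f i ≫ k i := fun i => by
    simp only [Category.assoc, reassoc_of% (D i).fac, hob₁ i, o, reassoc_of% hκ, (ho₀ i).2.1]
  refine ⟨Z, r, hr, hrt, hrc, fun i => (K i).comap (k i), fun i => pullback (k i) ((D i).b ≫ b₁ i),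
    fun i => pullback.fst _ _, fun i => pullback.lift (f i) (κ ≫ (D i).u) (hfac i).symm,
    fun i => pullback.snd _ _ ≫ (D i).o, fun i => ⟨Groth.NagComp.isBlowUp_pullback (hk i) (hK i),
      ?_, pullback.lift_fst _ _ _, ?_, ?_, ?_⟩, fun i i' => ?_⟩
  · refine Groth.NagComp.disjoint_support_comap (f i) (k i) (W := (o i).opensRange) ⟨hKft i, ?_⟩
      (fun x => ⟨κ x, ?_⟩)
    · rw [hKs i, Set.disjoint_union_left]
      refine ⟨(hNadm i).2, Set.disjoint_left.mpr ?_⟩
      rintro _ ⟨y, hy, rfl⟩ hyW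
      exact Set.disjoint_left.mp (D i).adm.2 hy ((hpre₁ i).le hyW)
    · have h : κ ≫ o i = f i ≫ k i := by simp only [o, reassoc_of% hκ, (ho₀ i).2.1]
      exact ((Scheme.Hom.comp_apply _ _ _).symm.trans (congr($h x))).trans (Scheme.Hom.comp_apply _ _ _)
  · exact Groth.LocImmersion.isLocImmersion_comp
      (Groth.LocImmersion.isLocImmersion_pullback_snd _ (hk i))
      (Groth.LocImmersion.isLocImmersion_of_isOpenImmersion (D i).o)
  · have he : Dense (Set.range e) := by
      intro z
      obtain ⟨i', y, rfl⟩ := hD z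
      have hd : Dense (Set.range (D i').u) := by
        haveI := Groth.BlowUpBasics.isIso_morphismRestrict (D i').isBlowUp _ (D i').adm.2
        exact preimage_opensRange_eq (D i').b (D i').u (o₁ i') (D i').fac ▸
          dense_preimage_blowUp (D i').isBlowUp (hd₁ i')
      exact map_mem_closure (D i').o.continuous (hd y)
        (by rintro _ ⟨w, rfl⟩; exact ⟨w, congr($((D i').glue.symm) w)⟩)
    have he' : Dense (Set.range (e ∘ κ)) := by
      intro z
      refine closure_minimal ?_ isClosed_closure (he z)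
      rintro _ ⟨w, rfl⟩
      rw [Set.range_comp]
      exact image_closure_subset_closure_image e.continuous ⟨w, hκd w, rfl⟩
    refine he'.mono ?_
    rintro _ ⟨x, rfl⟩
    refine ⟨pullback.lift (f i) (κ ≫ (D i).u) (hfac i).symm x, ?_⟩
    show (pullback.snd (k i) ((D i).b ≫ b₁ i) ≫ (D i).o) _ = e (κ x)
    rw [← Scheme.Hom.comp_apply, ← Scheme.Hom.comp_apply, pullback.lift_snd_assoc, Category.assoc,
      (D i).glue]
  · rw [Category.assoc, (D i).comm, ← hkp i, pullback.condition_assoc]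
    simp only [Category.assoc]
  · simp only [pullback.lift_snd_assoc, Category.assoc, (D _).glue]

end Groth.Agent.S18210
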