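import Groth.Statements.S18211
import Groth.Agent.NagComp.EssModel
import Groth.Agent.S9708
import Groth.Agent.S8910
import Groth.Agent.Chow.Projective

set_option autoImplicit false
universe u
open LocImm

namespace Groth.Agent.S18211

open CategoryTheory AlgebraicGeometry Limits in
/-- Let `π : Y ⟶ S` be a separated morphism of Noetherian schemes, essentially of finite type, and `f :
U ⟶ Y` a localizing immersion (localizing and injective on points) with dense image such that `U ⟶
S` is essentially quasi-projective: it factors as a localizing immersion `j : U ⟶ P` followed by a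
projective morphism `P ⟶ S` (in the sense of the relative homogeneous spectrum of a quasi-coherent
graded algebra generated in degree one with degree-one part of finite type). Then there is a blow-up
`Ỹ ⟶ Y` in a quasi-coherent ideal whose closed subscheme misses `f(U)` such that `Ỹ ⟶ S` is
essentially quasi-projective in the same sense. -/
theorem result {U Y S P : Scheme.{u}} [IsNoetherian U] [IsNoetherian Y] [IsNoetherian S] [IsNoetherian P]
    (π : Y ⟶ S) [IsSeparated π] [EssFT.EssFiniteType π] (f : U ⟶ Y) (hf : LocImm.IsLocImmersion f)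
    (hfd : Dense (Set.range (fun x => f x))) (j : U ⟶ P) (p : P ⟶ S) (hj : LocImm.IsLocImmersion j)
    (hp : RelProj.IsProjective p) (hc : j ≫ p = f ≫ π) :
    ∃ (𝓘 : Y.IdealSheafData) (Yt P' : Scheme.{u}) (b : Yt ⟶ Y) (j' : Yt ⟶ P') (p' : P' ⟶ S),
      BlowUp.IsBlowUp b 𝓘 ∧ Disjoint (𝓘.support : Set Y) (Set.range (fun x => f x)) ∧
      LocImm.IsLocImmersion j' ∧ RelProj.IsProjective p' ∧ j' ≫ p' = b ≫ π := by
  obtain ⟨Ym, k, q, hYm, hk, hq, hqt, hqc, rfl⟩ := Groth.LocImmersion.hasFactor π
  haveI : IsProper p := Groth.Chow.isProper_of_isProjective hp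
  obtain ⟨W, kW, g₁, g₂, -, hg₁, hg₂, hgw, hkg₁, -⟩ := Groth.LocImmersion.exists_open_models
    (f ≫ k) j q p (Groth.LocImmersion.isLocImmersion_comp hf hk) hj (by rw [Category.assoc, hc])
  let V : Ym.Opens := g₁.opensRange
  let a : (V : Scheme.{u}) ⟶ W := IsOpenImmersion.lift g₁ V.ι
    (by rw [Scheme.Opens.range_ι]; exact subset_rfl)
  have ha : a ≫ g₁ = V.ι := IsOpenImmersion.lift_fac _ _ _
  haveI : IsOpenImmersion (a ≫ g₁) := ha.symm ▸ inferInstance
  haveI : IsOpenImmersion a := IsOpenImmersion.of_comp a g₁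
  obtain ⟨K, L, T, P', b, c, i, hb, hK, hc', hL, hi, -, hiw⟩ :=
    Groth.NagComp.exists_dense_embedding q p V (TopologicalSpace.NoetherianSpace.isCompact _)
      (a ≫ g₂) (by rw [Category.assoc, ← hgw, reassoc_of% ha])
  refine ⟨K.comap k, _, P', pullback.fst k b, pullback.snd k b ≫ i, c ≫ p,
    Groth.NagComp.isBlowUp_pullback hk hb, Groth.NagComp.disjoint_support_comap f k hK ?_,
    Groth.LocImmersion.isLocImmersion_comp (Groth.LocImmersion.isLocImmersion_pullback_snd b hk)
      (Groth.LocImmersion.isLocImmersion_of_isOpenImmersion i),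
    Groth.Agent.S9708.result c p (Groth.Agent.S8910.result L hL.1 c hc') hp, ?_⟩
  · intro x
    exact ⟨kW x, by rw [← Scheme.Hom.comp_apply, hkg₁]; exact Scheme.Hom.comp_apply _ _ _⟩
  · rw [Category.assoc, hiw, pullback.condition_assoc]

end Groth.Agent.S18211
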