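import Groth.Statements.S18212
import Groth.Agent.NagComp.EssModel

set_option autoImplicit false
universe u
open LocImm

namespace Groth.Agent.S18212

open CategoryTheory AlgebraicGeometry Limits in
/-- Let `S` be a Noetherian scheme, `a : X ⟶ S` and `b : Y ⟶ S` separated morphisms essentially of
finite type with `X, Y` Noetherian, `Z` a Noetherian scheme, `j : Z ⟶ X` a localizing immersion
(localizing and injective on points) and `f : Z ⟶ Y` a morphism over `S`. Then there are a blow-up
`c : X̃ ⟶ X` in a quasi-coherent ideal whose closed subscheme misses `j(Z)`, a localizing immersion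
`j' : Z' ⟶ X̃` and a morphism `e : Z ⟶ Z'` with `e ≫ j' ≫ c = j` (so `j'` extends the lift of `j` to
`X̃`), and a morphism `f' : Z' ⟶ Y` over `S` extending `f` (`e ≫ f' = f`), such that the morphism
`Z' ⟶ X̃ ×_S Y` induced by `j'` and `f'` is a closed immersion. -/
theorem result {S X Y Z : Scheme.{u}} [IsNoetherian S] [IsNoetherian X] [IsNoetherian Y] [IsNoetherian Z]
    (a : X ⟶ S) (b : Y ⟶ S) [IsSeparated a] [IsSeparated b] [EssFT.EssFiniteType a] [EssFT.EssFiniteType b]
    (j : Z ⟶ X) (hj : LocImm.IsLocImmersion j) (f : Z ⟶ Y) (hjf : j ≫ a = f ≫ b) :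
    ∃ (𝓘 : X.IdealSheafData) (Xt Z' : Scheme.{u}) (c : Xt ⟶ X) (j' : Z' ⟶ Xt) (e : Z ⟶ Z') (f' : Z' ⟶ Y)
      (h : j' ≫ (c ≫ a) = f' ≫ b),
      BlowUp.IsBlowUp c 𝓘 ∧ Disjoint (𝓘.support : Set X) (Set.range (fun x => j x)) ∧
      LocImm.IsLocImmersion j' ∧ e ≫ j' ≫ c = j ∧ e ≫ f' = f ∧
      IsClosedImmersion (pullback.lift j' f' h) := by
  obtain ⟨Xm, k, p, hXm, hk, hp, hpt, hpc, rfl⟩ := Groth.LocImmersion.hasFactor a
  obtain ⟨Ym, k', p', hYm, hk', hp', hp't, hp'c, rfl⟩ := Groth.LocImmersion.hasFactor b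
  obtain ⟨W, kW, gW, -, hkW, hkg, hgW⟩ := Groth.NagComp.exists_open_extension (j ≫ k) (f ≫ k') p p'
    (Groth.LocImmersion.isLocImmersion_comp hj hk) (by simp only [Category.assoc, hjf])
  let s : (W : Scheme.{u}) ⟶ pullback p p' := pullback.lift W.ι gW hgW.symm
  have hs : s ≫ pullback.fst p p' = W.ι := pullback.lift_fst _ _ _
  have hWc : IsCompact (W : Set Xm) := TopologicalSpace.NoetherianSpace.isCompact _
  obtain ⟨K, T, c, hc, hK, -, -, hext, -⟩ := Groth.NagComp.exists_blowUp_extension
    (pullback.fst p p') W W le_rfl hWc hWc s hs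
    (fun y hy hyW => Groth.NagComp.mem_range_of_mem_closure _ s hs hy hyW)
  obtain ⟨W₁, hWW₁, φ, w, hφ, -, hci, -⟩ := hext.exists_glue
  let f₁ : (W₁ : Scheme.{u}) ⟶ Ym := φ ≫ pullback.snd p p'
  have hf₁ : W₁.ι ≫ c ≫ p = f₁ ≫ p' := by
    simp only [f₁, reassoc_of% w, pullback.condition, Category.assoc]
  let G : (W₁ : Scheme.{u}) ⟶ pullback (c ≫ p) p' := pullback.lift W₁.ι f₁ hf₁
  haveI : IsClosedImmersion G := by
    have e : G = pullback.lift W₁.ι φ w ≫ (pullbackRightPullbackFstIso p p' c).hom := by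
      apply pullback.hom_ext
      · rw [Category.assoc, pullbackRightPullbackFstIso_hom_fst, pullback.lift_fst, pullback.lift_fst]
      · rw [Category.assoc, pullbackRightPullbackFstIso_hom_snd, pullback.lift_snd_assoc,
          pullback.lift_snd]
    rw [e]
    infer_instance
  let kt := pullback.snd k c
  let g₁ : pullback kt W₁.ι ⟶ Ym := pullback.snd kt W₁.ι ≫ f₁
  let j' : pullback g₁ k' ⟶ pullback k c := pullback.fst g₁ k' ≫ pullback.fst kt W₁.ι
  have h : j' ≫ (pullback.fst k c ≫ k ≫ p) = pullback.snd g₁ k' ≫ k' ≫ p' := by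
    simp only [j', Category.assoc, pullback.condition_assoc, kt]
    rw [← pullback.condition_assoc (f := g₁) (g := k')]
    simp only [g₁, Category.assoc, ← hf₁]
    rfl
  let Ψ : pullback (pullback.fst k c ≫ k ≫ p) (k' ≫ p') ⟶ pullback (c ≫ p) p' :=
    pullback.map _ _ _ _ kt k' (𝟙 S) (by simp [kt, pullback.condition_assoc]) (by simp)
  have hΨ₁ : Ψ ≫ pullback.fst (c ≫ p) p' = pullback.fst _ _ ≫ kt := pullback.lift_fst _ _ _
  have hΨ₂ : Ψ ≫ pullback.snd (c ≫ p) p' = pullback.snd _ _ ≫ k' := pullback.lift_snd _ _ _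
  haveI : IsClosedImmersion (pullback.lift j' (pullback.snd g₁ k') h) := by
    refine MorphismProperty.of_isPullback (P := @IsClosedImmersion) (g := G) (f := Ψ)
      (f' := pullback.fst g₁ k' ≫ pullback.snd kt W₁.ι)
      (g' := pullback.lift j' (pullback.snd g₁ k') h) ?_ inferInstance
    have hcomm : (pullback.fst g₁ k' ≫ pullback.snd kt W₁.ι) ≫ G =
        pullback.lift j' (pullback.snd g₁ k') h ≫ Ψ := by
      apply pullback.hom_ext
      · simp only [G, j', Category.assoc, pullback.lift_fst, hΨ₁, pullback.lift_fst_assoc,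
          pullback.condition]
      · simp only [G, Category.assoc, pullback.lift_snd, hΨ₂, pullback.lift_snd_assoc]
        rw [← pullback.condition]
    refine ⟨⟨hcomm⟩, ⟨PullbackCone.IsLimit.mk _ (fun t => ?_) (fun t => ?_) (fun t => ?_)
      (fun t m h1 h2 => ?_)⟩⟩
    · refine pullback.lift (pullback.lift (t.snd ≫ pullback.fst _ _) t.fst ?_) (t.snd ≫ pullback.snd _ _) ?_
      · have := t.condition =≫ pullback.fst (c ≫ p) p'
        simpa only [G, Category.assoc, pullback.lift_fst, hΨ₁] using this.symm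
      · have := t.condition =≫ pullback.snd (c ≫ p) p'
        simpa only [g₁, G, Category.assoc, pullback.lift_snd, hΨ₂, pullback.lift_snd_assoc] using this
    · rw [pullback.lift_fst_assoc, pullback.lift_snd]
    · apply pullback.hom_ext
      · simp only [j', Category.assoc, pullback.lift_fst, pullback.lift_fst_assoc]
      · simp only [Category.assoc, pullback.lift_snd]
    · apply pullback.hom_ext
      · apply pullback.hom_ext
        · rw [pullback.lift_fst, pullback.lift_fst, ← h2]
          simp only [j', Category.assoc, pullback.lift_fst]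
        · rw [pullback.lift_fst, pullback.lift_snd, ← h1, Category.assoc]
      · rw [pullback.lift_snd, ← h2]
        simp only [Category.assoc, pullback.lift_snd]
  haveI := Groth.BlowUpBasics.isIso_morphismRestrict hc W hK.2
  let l : Z ⟶ ((c ⁻¹ᵁ W : T.Opens) : Scheme.{u}) := kW ≫ inv (c ∣_ W)
  have hl : l ≫ (c ∣_ W) = kW := by rw [Category.assoc, IsIso.inv_hom_id, Category.comp_id]
  let e₀ : Z ⟶ pullback k c := pullback.lift j (l ≫ (c ⁻¹ᵁ W).ι) (by
    rw [Category.assoc, ← morphismRestrict_ι, reassoc_of% hl, hkW])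
  let e₁ : Z ⟶ pullback kt W₁.ι := pullback.lift e₀ (l ≫ T.homOfLE hWW₁)
    (by rw [pullback.lift_snd, Category.assoc l, Scheme.homOfLE_ι])
  let e : Z ⟶ pullback g₁ k' := pullback.lift e₁ f (by
    simp only [e₁, g₁, f₁, pullback.lift_snd_assoc, Category.assoc, reassoc_of% hφ,
      reassoc_of% hl, s, pullback.lift_snd, hkg])
  refine ⟨K.comap k, _, _, pullback.fst k c, j', e, pullback.snd g₁ k', h,
    Groth.NagComp.isBlowUp_pullback hk hc, Groth.NagComp.disjoint_support_comap j k hK ?_,
    Groth.LocImmersion.isLocImmersion_comp (Groth.NagComp.isLocImmersion_pullback_fst g₁ hk')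
      (Groth.LocImmersion.isLocImmersion_of_isOpenImmersion _),
    ?_, pullback.lift_snd _ _ _, inferInstance⟩
  · intro z
    have h : (kW z).1 = k (j z) := congr($hkW z)
    exact h ▸ (kW z).2
  · simp only [j', e, e₁, e₀, Category.assoc, pullback.lift_fst_assoc, pullback.lift_fst]

end Groth.Agent.S18212
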