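import Groth.Statements.S18213
import Groth.Agent.LocImm.Main
import Groth.Agent.S0386
-- import your own Groth.Agent.* helpers here

set_option autoImplicit false
universe u
open LocImm

namespace Groth.Agent.S18213


open CategoryTheory AlgebraicGeometry in
/-- Let `f : X ⟶ Y` be a separated morphism of Noetherian schemes, essentially of finite type. Then the
set of points `x` for which the composite `Spec O_{X,x} ⟶ X ⟶ Y` is flat is open, and if `f` is flat
it factors as a localizing immersion `i : X ⟶ Z` (localizing and injective on points, `Z`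
Noetherian) followed by a separated flat morphism of finite type `h : Z ⟶ Y`. -/
theorem result {X Y : Scheme.{u}} [IsNoetherian X] [IsNoetherian Y] (f : X ⟶ Y) [IsSeparated f] [EssFT.EssFiniteType f] :
    IsOpen {x : X | Flat (X.fromSpecStalk x ≫ f)} ∧
      (Flat f → ∃ (Z : Scheme.{u}) (i : X ⟶ Z) (h : Z ⟶ Y), IsNoetherian Z ∧ LocImm.IsLocImmersion i ∧ IsSeparated h ∧ LocallyOfFiniteType h ∧ QuasiCompact h ∧ Flat h ∧ i ≫ h = f) := by
  obtain ⟨T, k, p, hT, hk, hp, hlft, hqc, rfl⟩ := Groth.LocImmersion.hasFactor f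
  let O : T.Opens := ⟨{t | (p.stalkMap t).hom.Flat}, Groth.Agent.S0386.result p⟩
  have hk' : ∀ x, ((k ≫ p).stalkMap x).hom.Flat ↔ k x ∈ O := fun x => by
    have := Groth.LocImmersion.isIso_stalkMap hk.1 x
    rw [Scheme.Hom.stalkMap_comp]
    exact RingHom.Flat.respectsIso.cancel_right_isIso _ (k.stalkMap x)
  have hst : ∀ x : X, Flat (X.fromSpecStalk x ≫ k ≫ p) ↔ ((k ≫ p).stalkMap x).hom.Flat := by
    intro x
    have h0 : Flat (Y.fromSpecStalk ((k ≫ p) x)) :=
      Groth.LocImmersion.flat (Groth.LocImmersion.isLocImmersion_fromSpecStalk _).1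
    rw [← Scheme.SpecMap_stalkMap_fromSpecStalk (f := k ≫ p) (x := x)]
    refine ⟨fun h => ?_, fun h => ?_⟩
    · have hpb : IsPullback (Spec.map ((k ≫ p).stalkMap x)) (𝟙 _) (Y.fromSpecStalk ((k ≫ p) x))
          (Spec.map ((k ≫ p).stalkMap x) ≫ Y.fromSpecStalk ((k ≫ p) x)) :=
        IsPullback.mk' (by rw [Category.id_comp]) (fun a b c _ h2 => by simpa using h2)
          (fun a c d e => ⟨d, (cancel_mono (Y.fromSpecStalk ((k ≫ p) x))).1 (by rw [Category.assoc, ← e]),
            Category.comp_id _⟩)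
      exact Flat.SpecMap_iff.1 (MorphismProperty.of_isPullback hpb.flip h)
    · have := Flat.SpecMap_iff.2 h
      infer_instance
  refine ⟨?_, fun h => ?_⟩
  · have : {x : X | Flat (X.fromSpecStalk x ≫ k ≫ p)} = k ⁻¹' (O : Set T) :=
      Set.ext fun x => (hst x).trans (hk' x)
    rw [this]
    exact O.2.preimage k.continuous
  · let k₁ := IsOpenImmersion.lift O.ι k (by
      rintro _ ⟨x, rfl⟩; rw [Scheme.Opens.range_ι]
      exact (hk' x).1 ((Flat.iff_flat_stalkMap _).1 h x))
    have hk₁ : k₁ ≫ O.ι = k := IsOpenImmersion.lift_fac _ _ _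
    have : TopologicalSpace.NoetherianSpace O := O.ι.isOpenEmbedding.isInducing.noetherianSpace
    have : IsNoetherian O := ⟨⟩
    have hflat : Flat (O.ι ≫ p) := by
      rw [Flat.iff_flat_stalkMap]
      intro z
      rw [Scheme.Hom.stalkMap_comp]
      exact (RingHom.Flat.respectsIso.cancel_right_isIso _ (O.ι.stalkMap z)).2 z.2
    exact ⟨O, k₁, O.ι ≫ p, inferInstance, Groth.LocImmersion.isLocImmersion_of_comp_ι k₁ (hk₁.symm ▸ hk),
      inferInstance, inferInstance, inferInstance, hflat, by rw [← Category.assoc, hk₁]⟩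

end Groth.Agent.S18213
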