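import Groth.Statements.S18214
import Groth.Agent.NagComp.EssModel

set_option autoImplicit false
universe u
open LocImm

namespace Groth.Agent.S18214

open CategoryTheory AlgebraicGeometry Limits in
/-- Let `f : X ⟶ Y` and `g : Y ⟶ Z` be separated morphisms of Noetherian schemes, essentially of finite
type, with `f` and `f ≫ g` localizing immersions (localizing and injective on points), `g` proper
and `X` dense in `Z`. Then there are blow-ups `b : Ỹ ⟶ Y` and `c : Z̃ ⟶ Z` in quasi-coherent ideals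
whose closed subschemes miss the image of `X`, and an ISOMORPHISM `g' : Ỹ ⟶ Z̃` lifting `g` (`g' ≫ c
= b ≫ g`). -/
theorem result {X Y Z : Scheme.{u}} [IsNoetherian X] [IsNoetherian Y] [IsNoetherian Z]
    (f : X ⟶ Y) (g : Y ⟶ Z) [IsSeparated f] [EssFT.EssFiniteType f] [IsProper g]
    (hf : LocImm.IsLocImmersion f) (hfg : LocImm.IsLocImmersion (f ≫ g)) (hd : Dense (Set.range (fun x => g (f x)))) :
    ∃ (𝓘 : Y.IdealSheafData) (𝓙 : Z.IdealSheafData) (Yt Zt : Scheme.{u}) (b : Yt ⟶ Y) (c : Zt ⟶ Z) (g' : Yt ⟶ Zt),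
      BlowUp.IsBlowUp b 𝓘 ∧ Disjoint (𝓘.support : Set Y) (Set.range (fun x => f x)) ∧
      BlowUp.IsBlowUp c 𝓙 ∧ Disjoint (𝓙.support : Set Z) (Set.range (fun x => g (f x))) ∧
      IsIso g' ∧ g' ≫ c = b ≫ g := by
  haveI := Groth.LocImmersion.locallyEssFiniteType_of_locallyOfFiniteType g
  obtain ⟨U, hU, hl⟩ := Groth.LocImmersion.exists_nhd_isLocImmersion f (f ≫ g) g
    (Groth.LocImmersion.stableUnderGeneralization_range hf.1)
    (Groth.LocImmersion.isIso_stalkMap hf.1) hfg rfl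
  haveI : IsOpenImmersion (U.ι ≫ g) := Groth.LocImmersion.isOpenImmersion_of_locallyOfFiniteType hl
  obtain ⟨K, L, T, Zt, q, c, j, hq, hK, hc, hL, hj, hjd, hjw⟩ :=
    Groth.NagComp.exists_dense_embedding g (𝟙 Z) U (TopologicalSpace.NoetherianSpace.isCompact _)
      (U.ι ≫ g) (Category.comp_id _)
  have hjw' : j ≫ c = q ≫ g := by simpa using hjw
  haveI := Groth.HTopHyper.isProper_of_isBlowUp hq hK.1
  haveI := Groth.HTopHyper.isProper_of_isBlowUp hc hL.1
  haveI : IsProper (j ≫ c) := hjw'.symm ▸ inferInstance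
  haveI : IsProper j := IsProper.of_comp j c
  haveI : Surjective j := ⟨fun z => by
    have h := hjd.denseRange z
    rwa [j.isClosedMap.isClosed_range.closure_eq] at h⟩
  haveI : IsIso j := (isIso_iff_isOpenImmersion_and_epi_base _).mpr
    ⟨inferInstance, (TopCat.epi_iff_surjective _).mpr j.surjective⟩
  refine ⟨K, L, T, Zt, q, c, j, hq, hK.2.mono_right ?_, hc, hL.2.mono_right ?_, inferInstance, hjw'⟩
  · rintro _ ⟨x, rfl⟩
    exact hU ⟨x, rfl⟩
  · rintro _ ⟨x, rfl⟩
    exact ⟨⟨f x, hU ⟨x, rfl⟩⟩, Scheme.Hom.comp_apply _ _ _⟩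

end Groth.Agent.S18214
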