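import Groth.Statements.S1822
import Groth.Agent.AffDual.Main
-- import your own Groth.Agent.* helpers here

set_option autoImplicit false
universe u
open CategoryTheory CategoryTheory.Limits AlgebraicGeometry
attribute [local instance] HasDerivedCategory.standard
open Dual

namespace Groth.Agent.S1822

/-- Let A be a Noetherian ring, K a complex of A-modules with finite cohomology modules and L an object
of D(A) of finite injective dimension. Work on Spec A with the derived tilde functor (tilde assumed
left exact), a complex E of modules on Spec A representing the image of K, and the assumed derived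
functors − ⊗^L E with its right adjoint RSheafHom(E, −), and RHom_A(K, −). Then RSheafHom(E, L~) is
isomorphic in D(O_{Spec A}) to the derived tilde of RHom_A(K, L). -/
theorem result (A : Type u) [CommRing A] [IsNoetherianRing A] [PreservesFiniteLimits (tilde.functor (CommRingCat.of A))] (K : DRing.Cx A) (hK : ∀ i : ℤ, Module.Finite A (Dual.HD A (DRing.toD K) i)) [DRing.HasRHomCx K] (L : Dual.D A) (hL : DRing.HasFiniteInjDim A L) (E : CochainComplex (Spec (CommRingCat.of A)).Modules ℤ) (hE : Nonempty (DCoh.toD (Spec (CommRingCat.of A)) E ≅ (DCoh.tildeD (CommRingCat.of A)).obj (DRing.toD K))) [DCoh.HasLTensorCx E] [DCoh.HasRSheafHom E] : Nonempty ((DCoh.RSheafHom E).obj ((DCoh.tildeD (CommRingCat.of A)).obj L) ≅ (DCoh.tildeD (CommRingCat.of A)).obj ((DRing.RHomCx K).obj L)) := by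
  exact Groth.AffDual.Main.main (R := CommRingCat.of A) K hK L hL E hE

end Groth.Agent.S1822
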