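import Groth.Statements.S18227
import Groth.Agent.GrSyz.WordCriterion

set_option autoImplicit false
universe u
open GrSyz

namespace Groth.Agent.S18227

theorem result (k : Type u) [Field k] [IsAlgClosed k] (r : ℕ)
    (R : Type u) [AddCommGroup R] [Module k R] [Module (MvPolynomial (Fin (r + 1)) k) R]
    [IsScalarTower k (MvPolynomial (Fin (r + 1)) k) R] [Module.Finite (MvPolynomial (Fin (r + 1)) k) R]
    (ℛ : ℤ → Submodule k R) [DirectSum.Decomposition ℛ] [SetLike.GradedSMul (GrSyz.stdGr k (Fin (r + 1))) ℛ]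
    (p : ℕ) (j : ℤ)
    (hgen : ∀ i : ℕ, i ≤ p → ∀ m : (Fin i → Fin (r + 1)) → R, (∀ (s : Fin i) (c : Fin i → Fin (r + 1)), ∑ v : Fin (r + 1), (MvPolynomial.X v : MvPolynomial (Fin (r + 1)) k) • m (Function.update c s v) = 0) →
      m ∈ Submodule.span (MvPolynomial (Fin (r + 1)) k) {m' : (Fin i → Fin (r + 1)) → R |
        (∀ (s : Fin i) (c : Fin i → Fin (r + 1)), ∑ v : Fin (r + 1), (MvPolynomial.X v : MvPolynomial (Fin (r + 1)) k) • m' (Function.update c s v) = 0) ∧ ∃ e : ℤ, e ≤ j - (p : ℤ) + (i : ℤ) - 1 ∧ ∀ c : Fin i → Fin (r + 1), m' c ∈ ℛ (e - (i : ℤ))})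
    (F : GrSyz.FreeRes (GrSyz.stdGr k (Fin (r + 1))) ℛ)
    (hF : F.IsMinimal (GrSyz.irrel (GrSyz.stdGr k (Fin (r + 1)))).toIdeal) :
    F.betti p j = 0 := by
  refine Groth.GrSyzLib.betti_eq_zero_of_words (D := j - p) ℛ (fun i hi m hm => ?_) rfl F hF
  refine Submodule.span_mono ?_ (hgen i hi m hm)
  rintro m' ⟨h, e, he, hm'⟩
  exact ⟨e - i, by omega, (Groth.GrSyzLib.mem_wordsW ℛ).2 ⟨h, hm'⟩⟩

end Groth.Agent.S18227
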