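import Groth.Statements.S18229
import Groth.Agent.AbvarAmple.Simple
import Groth.Agent.AbVarMul.Consequences

set_option autoImplicit false
universe u
open CategoryTheory CategoryTheory.Limits MonoidalCategory CartesianMonoidalCategory MonObj GrpObj AlgebraicGeometry
open AbVar

namespace Groth.Agent.S18229

/-- Let k be an algebraically closed field (any characteristic) and X a simple abelian variety over k: a
proper smooth k-group scheme with geometrically connected fibres whose only geometrically integral
closed k-subgroup schemes are the trivial subgroup and X itself. Let G be an invertible O_X-module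
which is effective and non-trivial: H^0(X, G) ≠ 0 and G is not isomorphic to O_X. Then G is ample.
(In other words, when the abelian variety is simple, any line bundle that is effective and not
trivial must be ample.) -/
theorem result (k : Type u) [Field k] [IsAlgClosed k]
    (X : Over (Spec (CommRingCat.of k))) [GrpObj X] [IsProper X.hom] [Smooth X.hom] [GeometricallyConnected X.hom]
    (hsimple : ∀ (B : Over (Spec (CommRingCat.of k))) [GrpObj B] [GeometricallyIntegral B.hom] (i : B ⟶ X) [IsMonHom i]
      [IsClosedImmersion i.left], Subsingleton ↥B.left ∨ IsIso i)
    (G : X.left.Modules) (hG : PicF.IsInvertible G)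
    (hsec : Nontrivial (Coh.HH X.left G 0)) (hne : ¬ Nonempty (G ≅ Coh.structureModule X.left)) :
    CohB1.IsAmple G := by
    have := Groth.AbVarMul.geometricallyIntegral_of_smooth (A := X)
    let e : Coh.HH X.left G 0 ≃+ Γ(G, ⊤) :=
      Sheaf.H.equiv₀ (Coh.toAb G) (Preorder.isTerminalTop X.left.Opens)
    obtain ⟨x, hx⟩ := @exists_ne _ hsec (0 : Coh.HH X.left G 0)
    refine Groth.AbvarAmple.isAmple_of_simple (X := X) hsimple hG (e x)
      (fun h => hx (e.injective (h.trans (map_zero e).symm))) fun h => hne ?_
    exact (Groth.Abvar.PicCalc.nonempty_iso_structure_iff hG).2 h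

end Groth.Agent.S18229
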