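import Groth.Statements.S18233
import Groth.Agent.MagnetSmooth.Attr
import Groth.Agent.MagnetSmooth.Lfp
import Groth.Agent.Reductive.MTTransporter

set_option autoImplicit false
universe u
open CategoryTheory MonoidalCategory CartesianMonoidalCategory AlgebraicGeometry Opposite
open Magnet

namespace Groth.Agent.S18233

/-- Let S be a scheme, M a finitely generated abelian group, N a submonoid of M, X and Y schemes over S
with actions of the diagonalizable group scheme D(M)_S, and f : X → Y a smooth equivariant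
S-morphism. If the attractors X^N and Y^N are represented by S-schemes Z_X and Z_Y, and j : Z_X →
Z_Y is the S-morphism that corresponds to f^N : X^N → Y^N under the two representing bijections,
then j is smooth. (Stated for schemes; the published statement is for algebraic spaces over S and
representability by algebraic spaces.) -/
theorem result (S : Scheme.{u}) (M : Type) [AddCommGroup M] [AddGroup.FG M]
    (N : AddSubmonoid M) {X Y : Over S} (aX : Magnet.MonAct (Magnet.AMonS S M) X)
    (aY : Magnet.MonAct (Magnet.AMonS S M) Y) (f : X ⟶ Y) (hf : Magnet.MonAct.IsEquivariant aX aY f)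
    [Smooth f.left] {ZX ZY : Over S} (eX : (Magnet.attr aX N).RepresentableBy ZX) (eY : (Magnet.attr aY N).RepresentableBy ZY)
    (j : ZX ⟶ ZY) (hj : ∀ (T : Over S) (z : T ⟶ ZX),
      eY.homEquiv (z ≫ j) = (Magnet.MonAct.eqvHom.postcomp (Magnet.subAct S M N) f hf).app (op T) (eX.homEquiv z)) :
    Smooth j.left := by
  haveI hA : ∀ (P : Type) [AddCommMonoid P], IsAffineHom (Magnet.AMonS S P).hom := fun P _ =>
    MorphismProperty.pullback_snd (P := @IsAffineHom) _ _
      (@isAffineHom_of_isAffine _ _ _ (inferInstanceAs (IsAffine (Spec _))) inferInstance)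
  haveI : LocallyOfFinitePresentation j.left :=
    Groth.MagnetSmooth.lfp_of_representableBy_postcomp (Magnet.subAct S M N) f hf eX eY j hj
  refine Groth.Reductive.MTInt.smooth_of_isFormallySmoothHom j.left ?_
  intro A _ I hI a b w
  let str : Spec (CommRingCat.of A) ⟶ S := b ≫ ZY.hom
  let T : Over S := Over.mk str
  let T₀ : Over S := Over.mk (Spec.map (CommRingCat.ofHom (Ideal.Quotient.mk I)) ≫ str)
  let i₀ : T₀ ⟶ T := Over.homMk (Spec.map (CommRingCat.ofHom (Ideal.Quotient.mk I))) rfl
  let a₀ : T₀ ⟶ ZX := Over.homMk a (by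
    show a ≫ ZX.hom = _ ≫ b ≫ ZY.hom
    rw [← Category.assoc, w, Category.assoc, Over.w j])
  let b₀ : T ⟶ ZY := Over.homMk b rfl
  have hab : a₀ ≫ j = i₀ ≫ b₀ := Over.OverMorphism.ext w.symm
  have h : (eX.homEquiv a₀).1 ≫ f = (Magnet.AMonS S ↥N ◁ i₀) ≫ (eY.homEquiv b₀).1 := by
    have := congrArg eY.homEquiv hab
    rw [hj, eY.homEquiv_comp] at this
    exact congrArg Subtype.val this
  obtain ⟨k, hk, hkx, hky⟩ := Groth.MagnetSmooth.exists_lift_attr str (Ideal.Quotient.mk I) N hf
    Ideal.Quotient.mk_surjective (by rw [Ideal.mk_ker, hI]) (eX.homEquiv a₀).1 (eX.homEquiv a₀).2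
    (eY.homEquiv b₀).1 (eY.homEquiv b₀).2 h
  let l : T ⟶ ZX := eX.homEquiv.symm ⟨k, hk⟩
  have hl : i₀ ≫ l = a₀ := eX.homEquiv.injective (Subtype.ext (by
    rw [eX.homEquiv_comp, Equiv.apply_symm_apply]
    exact hkx))
  have hlj : l ≫ j = b₀ := eY.homEquiv.injective (Subtype.ext (by
    rw [hj, Equiv.apply_symm_apply]
    exact hky))
  exact ⟨l.left, congrArg (fun m => m.left) hl, congrArg (fun m => m.left) hlj⟩

end Groth.Agent.S18233
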