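import Groth.Statements.S18235
import Groth.Agent.Flatmor4.EqvHomLfp
import Groth.Agent.Reductive.MTTransporter
import Groth.Agent.SpectralTopology.FpCancel
import Mathlib.AlgebraicGeometry.Morphisms.FlatMono

set_option autoImplicit false
universe u
open CategoryTheory MonoidalCategory CartesianMonoidalCategory AlgebraicGeometry Opposite
open Magnet

namespace Groth.Agent.S18235

/-- Let S be a scheme, M a finitely generated abelian group, N a submonoid of M, X and Y schemes locally
of finite presentation over S with actions of the diagonalizable group scheme D(M)_S, and f : X → Y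
an equivariant S-morphism which is an open immersion. If the attractors X^N and Y^N are represented
by S-schemes Z_X and Z_Y, and j : Z_X → Z_Y is the S-morphism that corresponds to f^N under the two
representing bijections, then j is an open immersion. (Stated for schemes; the published statement
is for algebraic spaces over S.) -/
theorem result (S : Scheme.{u}) (M : Type) [AddCommGroup M]
    [AddGroup.FG M] (N : AddSubmonoid M) {X Y : Over S} [LocallyOfFinitePresentation X.hom]
    [LocallyOfFinitePresentation Y.hom] (aX : Magnet.MonAct (Magnet.AMonS S M) X)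
    (aY : Magnet.MonAct (Magnet.AMonS S M) Y) (f : X ⟶ Y) (hf : Magnet.MonAct.IsEquivariant aX aY f)
    [IsOpenImmersion f.left] {ZX ZY : Over S} (eX : (Magnet.attr aX N).RepresentableBy ZX) (eY : (Magnet.attr aY N).RepresentableBy ZY)
    (j : ZX ⟶ ZY) (hj : ∀ (T : Over S) (z : T ⟶ ZX),
      eY.homEquiv (z ≫ j) = (Magnet.MonAct.eqvHom.postcomp (Magnet.subAct S M N) f hf).app (op T) (eX.homEquiv z)) :
    IsOpenImmersion j.left := by
  haveI hA : ∀ (P : Type) [AddCommMonoid P], IsAffineHom (Magnet.AMonS S P).hom := fun P _ =>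
    MorphismProperty.pullback_snd (P := @IsAffineHom) _ _
      (@isAffineHom_of_isAffine _ _ _ (inferInstanceAs (IsAffine (Spec _))) inferInstance)
  haveI : LocallyOfFinitePresentation ZX.hom :=
    Groth.Flatmor4.locallyOfFinitePresentation_of_representableBy_eqvHom (Magnet.subAct S M N) aX eX
  haveI : LocallyOfFinitePresentation ZY.hom :=
    Groth.Flatmor4.locallyOfFinitePresentation_of_representableBy_eqvHom (Magnet.subAct S M N) aY eY
  haveI : LocallyOfFinitePresentation (j.left ≫ ZY.hom) := by rw [Over.w j]; infer_instance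
  haveI : LocallyOfFinitePresentation j.left := Groth.SpectralTopology.lfp_of_comp j.left ZY.hom
  haveI hf' : Mono f := (Over.forget S).mono_of_mono_map (inferInstanceAs (Mono f.left))
  have hinj : ∀ (T : Over S) (z z' : T ⟶ ZX), z ≫ j = z' ≫ j → z = z' := fun T z z' e => by
    refine eX.homEquiv.injective (Subtype.ext ((cancel_mono f).1 ?_))
    have := congrArg Subtype.val ((hj T z).symm.trans ((congrArg eY.homEquiv e).trans (hj T z')))
    exact this
  haveI : Mono j.left := ⟨fun {P} g₁ g₂ e => by
    have w : g₂ ≫ ZX.hom = g₁ ≫ ZX.hom := by rw [← Over.w j, reassoc_of% e]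
    exact congrArg (fun m => m.left) (hinj (Over.mk (g₁ ≫ ZX.hom)) (Over.homMk g₁) (Over.homMk g₂ w)
      (Over.OverMorphism.ext e))⟩
  haveI : Smooth j.left := Groth.Reductive.MTInt.smooth_of_isFormallySmoothHom j.left (by
    intro A _ I hI a b w
    let T : Over S := Over.mk (b ≫ ZY.hom)
    let T₀ : Over S := Over.mk (Spec.map (CommRingCat.ofHom (Ideal.Quotient.mk I)) ≫ b ≫ ZY.hom)
    let i₀ : T₀ ⟶ T := Over.homMk (Spec.map (CommRingCat.ofHom (Ideal.Quotient.mk I))) rfl
    let a₀ : T₀ ⟶ ZX := Over.homMk a (by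
      show a ≫ ZX.hom = _ ≫ b ≫ ZY.hom
      rw [← Category.assoc, w, Category.assoc, Over.w j])
    let b₀ : T ⟶ ZY := Over.homMk b rfl
    have hab : a₀ ≫ j = i₀ ≫ b₀ := Over.OverMorphism.ext w.symm
    let φY := eY.homEquiv b₀
    let φ₀ := eX.homEquiv a₀
    have hφ : φ₀.1 ≫ f = (Magnet.AMonS S ↥N ◁ i₀) ≫ φY.1 := by
      have := congrArg eY.homEquiv hab
      rw [hj, eY.homEquiv_comp] at this
      exact congrArg Subtype.val this
    haveI : Surjective i₀.left := ⟨fun q => by
      have hle : I ≤ q.asIdeal := fun r hr => q.2.mem_of_pow_mem 2 (by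
        have : r ^ 2 ∈ I ^ 2 := Ideal.pow_mem_pow hr 2
        rw [hI] at this
        rw [Ideal.mem_bot.1 this]
        exact zero_mem _)
      have h : q ∈ Set.range (PrimeSpectrum.comap (Ideal.Quotient.mk I)) := by
        rw [range_comap_of_surjective _ _ Ideal.Quotient.mk_surjective, Ideal.mk_ker]
        exact hle
      exact h⟩
    haveI : Surjective (Magnet.AMonS S ↥N ◁ i₀).left :=
      MorphismProperty.of_isPullback (Groth.MiscGeom.Mag.isPullback_whiskerLeft (Magnet.AMonS S ↥N) i₀).flip ‹Surjective i₀.left›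
    have hr : Set.range φY.1.left ⊆ Set.range f.left := by
      rintro _ ⟨p, rfl⟩
      obtain ⟨p', rfl⟩ := (Magnet.AMonS S ↥N ◁ i₀).left.surjective p
      refine ⟨φ₀.1.left p', ?_⟩
      rw [← Scheme.Hom.comp_apply, ← Scheme.Hom.comp_apply]
      exact congrArg (fun m => m.left p') hφ
    let χ : Magnet.AMonS S ↥N ⊗ T ⟶ X := Over.homMk (IsOpenImmersion.lift f.left φY.1.left hr) (by
      rw [← Over.w f, IsOpenImmersion.lift_fac_assoc]
      exact Over.w φY.1)
    have hχ : χ ≫ f = φY.1 := Over.OverMorphism.ext (IsOpenImmersion.lift_fac _ _ _)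
    have hχe : Magnet.MonAct.IsEquivariant
        ((Magnet.subAct S M N).prod (Magnet.MonAct.trivial _ T)) aX χ := by
      have h := φY.2
      have hf₂ := hf
      unfold Magnet.MonAct.IsEquivariant at h hf₂ ⊢
      apply (cancel_mono f).1
      rw [Category.assoc, Category.assoc, hf₂, ← MonoidalCategory.whiskerLeft_comp_assoc, hχ]
      exact h
    let l : T ⟶ ZX := eX.homEquiv.symm ⟨χ, hχe⟩
    have hl : l ≫ j = b₀ := eY.homEquiv.injective (by
      rw [hj, Equiv.apply_symm_apply]
      exact Subtype.ext hχ)
    have hl' : i₀ ≫ l = a₀ := hinj _ _ _ (by rw [Category.assoc, hl, hab])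
    exact ⟨l.left, congrArg (fun m => m.left) hl', congrArg (fun m => m.left) hl⟩)
  exact IsOpenImmersion.of_flat_of_mono j.left

end Groth.Agent.S18235
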