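import Groth.Statements.S18237
import Groth.Agent.MagnetBundle.Atlas
import Groth.Agent.MagnetBundle.Grading
import Groth.Agent.MagnetBundle.Pure
-- import your own Groth.Agent.* helpers here

set_option autoImplicit false
universe u
open CategoryTheory MonoidalCategory CartesianMonoidalCategory AlgebraicGeometry Opposite
open Magnet

namespace Groth.Agent.S18237

/-- Let S be a quasi-compact scheme, M a finitely generated abelian group, X a scheme which is
quasi-compact, separated and locally of finite presentation over S with an action of the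
diagonalizable group scheme D(M)_S, and N a submonoid of M with subgroup of invertible elements Z =
N*. Assume X admits an S-affine N*-FPR atlas: an equivariant, étale and surjective g : U → X with U
affine over S such that, for the actions restricted along D(M/Z)_S → D(M)_S, the square of
fixed-point subfunctors U^{D(M/Z)} → X^{D(M/Z)} over U → X is cartesian. Then there is a finitely
generated submonoid N_c of N with the same invertible elements as N such that the canonical map of
attractors X^{N_c} → X^N is an isomorphism of functors. (Stated for schemes, the published statement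
being for algebraic spaces. The published statement assumes only M finitely generated and X → S
quasi-compact and separated; it fails without X locally of finite presentation over S or without S
quasi-compact, so this row assumes both, and it assumes an S-affine N*-FPR atlas, which the
published argument obtains from a general existence result.) -/
theorem result (S : Scheme.{u}) [CompactSpace S] (M : Type)
    [AddCommGroup M] [AddGroup.FG M] {X : Over S} [QuasiCompact X.hom] [IsSeparated X.hom]
    [LocallyOfFinitePresentation X.hom] (a : Magnet.MonAct (Magnet.AMonS S M) X) (N : AddSubmonoid M)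
    (Z : AddSubgroup M) (hZ : ∀ m : M, m ∈ Z ↔ (m ∈ N ∧ -m ∈ N)) (U : Over S) [IsAffineHom U.hom]
    (aU : Magnet.MonAct (Magnet.AMonS S M) U) (g : U ⟶ X) (hg : Magnet.MonAct.IsEquivariant aU a g)
    [Etale g.left] [Surjective g.left]
    (hgZ : Magnet.MonAct.IsEquivariant (aU.restrict (Magnet.AMonS.map S (QuotientAddGroup.mk' Z))) (a.restrict (Magnet.AMonS.map S (QuotientAddGroup.mk' Z))) g)
    (hfpr : IsPullback (Magnet.MonAct.fixedPsh.map g hgZ)
      (Magnet.MonAct.fixedPshι (aU.restrict (Magnet.AMonS.map S (QuotientAddGroup.mk' Z))))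
      (Magnet.MonAct.fixedPshι (a.restrict (Magnet.AMonS.map S (QuotientAddGroup.mk' Z)))) (yoneda.map g)) :
    ∃ (Nc : AddSubmonoid M) (h : Nc ≤ N), Nc.FG ∧ (∀ m : M, (m ∈ Nc ∧ -m ∈ Nc) ↔ (m ∈ N ∧ -m ∈ N)) ∧
      IsIso (Magnet.attrMap a h) := by
  classical
  have : LocallyOfFinitePresentation U.hom := by rw [← Over.w g]; infer_instance
  have : IsSeparated U.hom := inferInstance
  obtain ⟨D, hD⟩ := Groth.MagnetBundle.exists_degrees aU
  obtain ⟨s, hs⟩ : Z.toAddSubmonoid.FG := by
    have : Module.Finite ℤ M := Module.Finite.iff_addGroup_fg.2 inferInstance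
    have h : Z.FG := by
      have h' := IsNoetherian.noetherian (AddSubgroup.toIntSubmodule Z)
      rw [Submodule.fg_iff_addSubgroup_fg] at h'
      simpa using h'
    exact (AddSubgroup.fg_iff_addSubmonoid_fg Z).1 h
  let Nc : AddSubmonoid M := AddSubmonoid.closure ((D.filter (· ∈ N) ∪ s : Finset M) : Set M)
  have hle : Nc ≤ N := AddSubmonoid.closure_le.2 fun d hd => by
    rcases Finset.mem_union.1 hd with h | h
    · exact (Finset.mem_filter.1 h).2
    · exact ((hZ d).1 (show d ∈ Z.toAddSubmonoid from hs ▸ AddSubmonoid.subset_closure h)).1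
  have hZle : ∀ m ∈ Z, m ∈ Nc := fun m hm => by
    have : AddSubmonoid.closure (s : Set M) ≤ Nc :=
      AddSubmonoid.closure_mono (Finset.coe_subset.2 Finset.subset_union_right)
    rw [hs] at this
    exact this hm
  refine ⟨Nc, hle, ⟨_, rfl⟩, fun m => ⟨fun h => ⟨hle h.1, hle h.2⟩,
    fun h => ⟨hZle m ((hZ m).2 h), hZle _ (neg_mem ((hZ m).2 h))⟩⟩, ?_⟩
  have hev : ∀ (T : (Over S)ᵒᵖ) (ψ : (Magnet.attr a Nc).obj T),
      (Magnet.attrToX a N).app T ((Magnet.attrMap a hle).app T ψ) = (Magnet.attrToX a Nc).app T ψ := fun T ψ => by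
    show lift (toUnit (unop T) ≫ MonObj.one) (𝟙 (unop T)) ≫ (AMonS.map S (AddSubmonoid.inclusion hle) ▷ unop T) ≫ ψ.1 =
      lift (toUnit (unop T) ≫ MonObj.one) (𝟙 (unop T)) ≫ ψ.1
    rw [lift_whiskerRight_assoc, Category.assoc, IsMonHom.one_hom]
  refine @NatIso.isIso_of_isIso_app _ _ _ _ _ _ _ fun T => (isIso_iff_bijective _).2 ⟨fun ψ ψ' h => ?_, fun φ => ?_⟩
  · exact Groth.MiscGeom.Mag.attrToX_injective Nc a (by rw [← hev, ← hev, h])
  · obtain ⟨ψ, hψ⟩ := Groth.MagnetBundle.exists_attr_of_atlas hg N Nc Z
      (fun m => (hZ m).trans ⟨fun h => ⟨h.1, -m, h.2, add_neg_cancel m⟩,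
        fun ⟨h1, y, hy, hmy⟩ => ⟨h1, by rwa [neg_eq_of_add_eq_zero_right hmy]⟩⟩) hgZ hfpr
      (fun T' φ' => (Groth.MiscGeom.Mag.good_iff Nc aU _).1 (hD N Nc
        (fun d hd hdN => AddSubmonoid.subset_closure (Finset.mem_union_left _ (Finset.mem_filter.2 ⟨hd, hdN⟩)))
        T' _ ((Groth.MiscGeom.Mag.good_iff N aU _).2 ⟨φ', rfl⟩))) (unop T) φ
    exact ⟨ψ, Groth.MiscGeom.Mag.attrToX_injective N a ((hev T ψ).trans hψ)⟩

end Groth.Agent.S18237
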