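import Groth.Statements.S18238
import Groth.Agent.PropsBasic.SmoothMonoid

set_option autoImplicit false
universe u
open DiagMon

namespace Groth.Agent.S18238

/-- Let R be a commutative ring and N a fine and sharp commutative monoid (finitely generated,
cancellative, and 0 its only invertible element). If the diagonalizable monoid scheme A(N)_R = Spec
R[N] is smooth over Spec R, then it is a vector bundle over Spec R: the monoid algebra R[N] is
isomorphic as an R-algebra to the symmetric algebra of a finitely generated projective R-module
(existence of such a module and isomorphism). (Affine base; the published statement is over an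
arbitrary base scheme S.) -/
theorem result (R : Type u) [CommRing R] (N : Type)
    [AddCommMonoid N] [AddMonoid.FG N] [IsCancelAdd N] (hsharp : ∀ n : N, IsAddUnit n → n = 0)
    [Algebra.Smooth R (AddMonoidAlgebra R N)] :
    ∃ (P : Type u) (_ : AddCommGroup P) (_ : Module R P), Module.Finite R P ∧ Module.Projective R P ∧
      Nonempty (AddMonoidAlgebra R N ≃ₐ[R] SymmetricAlgebra R P) := by
  obtain ⟨r, ⟨e⟩⟩ := Groth.SmoothMonoid.exists_free R hsharp
  exact ⟨Fin r →₀ R, inferInstance, inferInstance, inferInstance, inferInstance,
    ⟨e.symm.trans (SymmetricAlgebra.equivMvPolynomial Finsupp.basisSingleOne).symm⟩⟩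

end Groth.Agent.S18238
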