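import Groth.Statements.S1824
import Groth.Agent.DualShriek.Pn
import Groth.Agent.DualShriek.Transport
import Groth.Agent.PnCoh.OverAffine

set_option autoImplicit false
universe u
open CategoryTheory CategoryTheory.Limits AlgebraicGeometry
attribute [local instance] HasDerivedCategory.standard
open Dual

namespace Groth.Agent.S1824

/-- Let R be a ring and f : P^n_R → Spec R the structure morphism of projective n-space over R. Assume
the derived direct image Rf_* exists and preserves quasi-coherence of cohomology sheaves (both known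
results), so that it restricts to a functor D_QCoh(O_{P^n_R}) → D_QCoh(O_{Spec R}), and let a :
D_QCoh(O_{Spec R}) → D_QCoh(O_{P^n_R}) be a right adjoint of this restricted functor. Let O be an
object of D_QCoh(O_{Spec R}) isomorphic to the structure sheaf placed in degree 0. Then a(O) is
isomorphic in D(O_{P^n_R}) to the twisting sheaf O(−n−1) placed in degree −n, that is to O(−n−1)[n].
(The published statement is more general; it is stated here for the trivial projective bundle over
an affine base.) -/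
theorem result (n : ℕ) (R : Type u) [CommRing R] [DCoh.HasRpush (CohB1.ProjSpace.toSpec n R)] (h : ∀ K : DCoh.D (CohB1.ProjSpace n R), DCoh.IsQCohD K → DCoh.IsQCohD ((DCoh.Rpush (CohB1.ProjSpace.toSpec n R)).obj K)) (a : DCoh.DQCoh (Spec (CommRingCat.of R)) ⥤ DCoh.DQCoh (CohB1.ProjSpace n R)) (adj : (ObjectProperty.lift DCoh.IsQCohD (ObjectProperty.ι DCoh.IsQCohD ⋙ DCoh.Rpush (CohB1.ProjSpace.toSpec n R)) (fun K => h K.obj K.property)) ⊣ a) (O : DCoh.DQCoh (Spec (CommRingCat.of R))) (hO : Nonempty (O.obj ≅ DCoh.inD (Spec (CommRingCat.of R)) (Coh.structureModule (Spec (CommRingCat.of R))))) : Nonempty ((a.obj O).obj ≅ (DCoh.inD (CohB1.ProjSpace n R) (Twist.twistProjSpace n R (-((n : ℤ) + 1))))⟦(n : ℤ)⟧) := by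
  let S := Spec (CommRingCat.of R)
  haveI : DCoh.HasRpush (KRR.pr n S) := Groth.Misc4.PushRestrict.hasRightDerived _
  haveI := Groth.DerivedCoh.KFlat.hasLpull (KRR.pr n S)
  let ι := Groth.PnCoh.overIso n R
  haveI := Groth.DerivedCoh.KFlat.hasLpull ι.hom
  haveI : IsProper (KRR.pr n S) := Groth.Variety2.isProper_projSpaceOver_toBase n S
  have h' : DCoh.RpushPreservesQCoh (KRR.pr n S) := fun K hK => Groth.Misc4.QCohRpushD.isQCohD _ K hK
  obtain ⟨a', adj', ha⟩ := Groth.DualShriek.exists_transport ι (CohB1.ProjSpace.toSpec n R) (KRR.pr n S)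
    (Groth.PnCoh.overIso_hom_toBase n R) h h' a adj
  obtain ⟨e⟩ := ha O
  obtain ⟨e'⟩ := Groth.DualShriek.Pn.nonempty_rightAdjoint_iso n S h' a' adj' O
  obtain ⟨v⟩ := Groth.RelPC.PnPush.nonempty_Lpull_strMod' (KRR.pr n S) 0
  let T := Twist.twistOver n S (-(n : ℤ) - 1)
  have hT : PicF.IsInvertible T := Groth.KTheory.RegSheaf.isInvertible_twistOver n S _
  obtain ⟨w⟩ := Groth.RelPC.PnPush.nonempty_twD_single T hT (Coh.structureModule (KRR.PY n S)) 0
  let M := Twist.twistProjSpace n R (-((n : ℤ) + 1))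
  obtain ⟨p⟩ := Groth.PnCoh.nonempty_pullback_overIso_twist n R (-(n : ℤ) - 1)
  have hfl : FlatMod.IsFlat T := Groth.DerivedCoh.PCoh.isFlat_of_isFinLocFree
    (Groth.KTheory.RegSheaf.isFinLocFree_twistOver n S _)
  let s : ∀ (X : Scheme.{u}) (N : X.Modules),
      (DCoh.inD X N)⟦(n : ℤ)⟧ ≅ (DerivedCategory.singleFunctor X.Modules (-(n : ℤ))).obj N := fun X N =>
    (SingleFunctors.shiftIso (DerivedCategory.singleFunctors X.Modules) (n : ℤ) (-(n : ℤ)) 0 (by omega)).app N
  exact ⟨e ≪≫ (DCoh.Lpull ι.hom).mapIso (e' ≪≫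
      (shiftFunctor _ (n : ℤ)).mapIso ((Groth.RelPC.PnPush.twD T hT).mapIso
        ((DCoh.Lpull (KRR.pr n S)).mapIso hO.some ≪≫ v) ≪≫ w ≪≫
        (DerivedCategory.singleFunctor _ 0).mapIso (Groth.PicAux.exists_leftUnitor T).choose) ≪≫ s _ T ≪≫
      (DerivedCategory.singleFunctorIsoCompQ _ (-(n : ℤ))).app T) ≪≫
    Groth.DerivedCoh.KFlat.lpullQIso ι.hom _ (Groth.Misc4.QCohDColim.isKFlat_single _ hfl _) ≪≫
    DerivedCategory.Q.mapIso ((HomologicalComplex.singleMapHomologicalComplex _ (ComplexShape.up ℤ) (-(n : ℤ))).app _) ≪≫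
    ((DerivedCategory.singleFunctorIsoCompQ _ (-(n : ℤ))).app _).symm ≪≫
    (DerivedCategory.singleFunctor _ (-(n : ℤ))).mapIso (p ≪≫
      eqToIso (congrArg (Twist.twistProjSpace n R) (by ring))) ≪≫ (s _ M).symm⟩

end Groth.Agent.S1824
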