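import Groth.Statements.S18241
import Groth.Agent.MagnetSmooth.Face
import Groth.Agent.Flatmor4.EqvHomLfp
import Groth.Agent.Reductive.MTTransporter
import Groth.Agent.SpectralTopology.FpCancel

set_option autoImplicit false
universe u
open CategoryTheory MonoidalCategory CartesianMonoidalCategory AlgebraicGeometry Opposite
open Magnet

namespace Groth.Agent.S18241

/-- Let S be a scheme, M a finitely generated abelian group, N a submonoid of M and F a face of N, and X
an S-scheme smooth over S with an action of the diagonalizable group scheme D(M)_S. If the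
attractors X^N and X^F are represented by S-schemes Z_N and Z_F, and j : Z_N → Z_F is the S-morphism
that corresponds to the canonical map X^N → X^F under the two representing bijections, then j is
smooth. (Stated for schemes; the published statement is for algebraic spaces over S.) -/
theorem result (S : Scheme.{u}) (M : Type) [AddCommGroup M] [AddGroup.FG M]
    {N F : AddSubmonoid M} (hF : Magnet.IsFace N F) {X : Over S} [Smooth X.hom]
    (a : Magnet.MonAct (Magnet.AMonS S M) X) {ZN ZF : Over S} (eN : (Magnet.attr a N).RepresentableBy ZN)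
    (eF : (Magnet.attr a F).RepresentableBy ZF) (j : ZN ⟶ ZF)
    (hj : ∀ (T : Over S) (z : T ⟶ ZN), eF.homEquiv (z ≫ j) = (Magnet.attrFace a hF).app (op T) (eN.homEquiv z)) :
    Smooth j.left := by
  haveI hA : ∀ (P : Type) [AddCommMonoid P], IsAffineHom (Magnet.AMonS S P).hom := fun P _ =>
    MorphismProperty.pullback_snd (P := @IsAffineHom) _ _
      (@isAffineHom_of_isAffine _ _ _ (inferInstanceAs (IsAffine (Spec _))) inferInstance)
  haveI : LocallyOfFinitePresentation ZN.hom :=
    Groth.Flatmor4.locallyOfFinitePresentation_of_representableBy_eqvHom (Magnet.subAct S M N) a eN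
  haveI : LocallyOfFinitePresentation ZF.hom :=
    Groth.Flatmor4.locallyOfFinitePresentation_of_representableBy_eqvHom (Magnet.subAct S M F) a eF
  haveI : LocallyOfFinitePresentation (j.left ≫ ZF.hom) := by rw [Over.w j]; infer_instance
  haveI : LocallyOfFinitePresentation j.left := Groth.SpectralTopology.lfp_of_comp j.left ZF.hom
  refine Groth.Reductive.MTInt.smooth_of_isFormallySmoothHom j.left ?_
  intro A _ I hI α β w
  let str : Spec (CommRingCat.of A) ⟶ S := β ≫ ZF.hom
  let T : Over S := Over.mk str
  let T₀ : Over S := Over.mk (Spec.map (CommRingCat.ofHom (Ideal.Quotient.mk I)) ≫ str)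
  let i₀ : T₀ ⟶ T := Over.homMk (Spec.map (CommRingCat.ofHom (Ideal.Quotient.mk I))) rfl
  let a₀ : T₀ ⟶ ZN := Over.homMk α (by
    show α ≫ ZN.hom = _ ≫ β ≫ ZF.hom
    rw [← Category.assoc, w, Category.assoc, Over.w j])
  let b₀ : T ⟶ ZF := Over.homMk β rfl
  have hab : a₀ ≫ j = i₀ ≫ b₀ := Over.OverMorphism.ext w.symm
  have h : (Magnet.AMonS S ↥F ◁ i₀) ≫ (eF.homEquiv b₀).1 =
      (Magnet.AMonS.faceMap S hF ▷ T₀) ≫ (eN.homEquiv a₀).1 := by
    have := congrArg eF.homEquiv hab
    rw [hj, eF.homEquiv_comp] at this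
    exact (congrArg Subtype.val this).symm
  obtain ⟨k, hk, hkx, hky⟩ := Groth.MagnetSmooth.exists_lift_face str (Ideal.Quotient.mk I) hF inferInstance a
    Ideal.Quotient.mk_surjective (by rw [Ideal.mk_ker, hI]) (eN.homEquiv a₀).1 (eN.homEquiv a₀).2
    (eF.homEquiv b₀).1 (eF.homEquiv b₀).2 h
  let l : T ⟶ ZN := eN.homEquiv.symm ⟨k, hk⟩
  have hl : i₀ ≫ l = a₀ := eN.homEquiv.injective (Subtype.ext (by
    rw [eN.homEquiv_comp, Equiv.apply_symm_apply]
    exact hkx))
  have hlj : l ≫ j = b₀ := eF.homEquiv.injective (Subtype.ext (by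
    rw [hj, Equiv.apply_symm_apply]
    exact hky))
  exact ⟨l.left, congrArg (fun m => m.left) hl, congrArg (fun m => m.left) hlj⟩

end Groth.Agent.S18241
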