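import Groth.Statements.S18242
import Groth.Agent.S18244
import Mathlib.AlgebraicGeometry.ResidueField
import Mathlib.RingTheory.Polynomial.Basic
-- import your own Groth.Agent.* helpers here

set_option autoImplicit false
universe u
open CategoryTheory MonoidalCategory CartesianMonoidalCategory AlgebraicGeometry Opposite
open Magnet

namespace Groth.Agent.S18242

open Groth.MagnetRetract Groth.MiscGeom.Mag

/-- the homotopy does not move the projection to the face -/
theorem faceMap_scale {S : Scheme.{u}} {M : Type} [AddCommGroup M] {N F : AddSubmonoid M} (hF : IsFace N F)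
    (ε : N →+ ℕ) (hε : ∀ x : N, ε x = 0 ↔ (x : M) ∈ F) (T : Over S) (c : Γ(T.left, ⊤)) :
    (AMonS.faceMap S hF ▷ T) ≫ scale T (scalePt ε T c) = AMonS.faceMap S hF ▷ T := by
  apply CartesianMonoidalCategory.hom_ext
  · simp only [scale, Category.assoc, lift_fst, whiskerRight_fst]
    refine pv_ext fun n => ?_
    rw [MonObj.comp_mul, pv_mul, whiskerRight_fst, pv_faceMap, pv_comp, pv_comp, pv_scalePt]
    split_ifs with h
    · rw [(hε n.toAdd).2 h, pow_zero, map_one, map_one, _root_.mul_one]
    · exact zero_mul _
  · simp [scale]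

/-- Let S be a scheme, M a finitely generated abelian group, N a finitely generated submonoid of M and Z
= N* its subgroup of invertible elements (a face of N); let X be a scheme locally of finite
presentation over S with an action of the diagonalizable group scheme D(M)_S, admitting an N*-FPR
atlas: an equivariant, étale and surjective g : U → X where U is a disjoint union of D(M)_S-stable
open subschemes each affine over S, such that for the actions restricted along D(M/Z)_S → D(M)_S the
square of fixed-point subfunctors U^{D(M/Z)} → X^{D(M/Z)} over U → X is cartesian. If the attractors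
X^N and X^{N*} are represented by S-schemes Z_N and Z_* and j : Z_N → Z_* is the S-morphism
corresponding to the canonical map X^N → X^{N*} under the two representing bijections, then for
every field K and every K-valued point of Z_* the fibre of j is connected (the fibres are
geometrically connected), and j induces a bijection on the sets of connected components. (Stated for
schemes; the published statement is for algebraic spaces over S.) -/
theorem result (S : Scheme.{u}) (M : Type) [AddCommGroup M]
    [AddGroup.FG M] (N : AddSubmonoid M) (hN : N.FG) (Z : AddSubgroup M)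
    (hZ : ∀ m : M, m ∈ Z ↔ m ∈ Magnet.unitFace N)
    {X : Over S} [LocallyOfFinitePresentation X.hom] (a : Magnet.MonAct (Magnet.AMonS S M) X)
    (U : Over S) (aU : Magnet.MonAct (Magnet.AMonS S M) U) (g : U ⟶ X)
    (hg : Magnet.MonAct.IsEquivariant aU a g) [Etale g.left] [Surjective g.left]
    (ι : Type u) (V : ι → U.left.Opens) (hVd : ∀ i i', i ≠ i' → Disjoint (V i) (V i'))
    (hVc : ⨆ i, V i = ⊤) (hVa : ∀ i, IsAffineHom ((V i).ι ≫ U.hom))
    (hVs : ∀ i, (CartesianMonoidalCategory.snd (Magnet.AMonS S M) U).left ⁻¹ᵁ (V i) ≤ aU.act.left ⁻¹ᵁ (V i))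
    (hgZ : Magnet.MonAct.IsEquivariant (aU.restrict (Magnet.AMonS.map S (QuotientAddGroup.mk' Z))) (a.restrict (Magnet.AMonS.map S (QuotientAddGroup.mk' Z))) g)
    (hfpr : IsPullback (Magnet.MonAct.fixedPsh.map g hgZ)
      (Magnet.MonAct.fixedPshι (aU.restrict (Magnet.AMonS.map S (QuotientAddGroup.mk' Z))))
      (Magnet.MonAct.fixedPshι (a.restrict (Magnet.AMonS.map S (QuotientAddGroup.mk' Z)))) (yoneda.map g))
    {ZN Z0 : Over S} (eN : (Magnet.attr a N).RepresentableBy ZN)
    (e0 : (Magnet.attr a (Magnet.unitFace N)).RepresentableBy Z0) (j : ZN ⟶ Z0)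
    (hj : ∀ (T : Over S) (z : T ⟶ ZN), e0.homEquiv (z ≫ j) = (Magnet.attrFace a (Magnet.isFace_unitFace N)).app (op T) (eN.homEquiv z)) :
    (∀ (K : Type u) [Field K] (k : Spec (CommRingCat.of K) ⟶ Z0.left),
        ConnectedSpace ↥(Limits.pullback j.left k)) ∧
      Function.Bijective (Continuous.connectedComponentsMap (Scheme.Hom.continuous j.left)) := by
  obtain ⟨ε, hε⟩ := exists_height hN (isFace_unitFace N)
  let hF := isFace_unitFace N
  let s : Z0 ⟶ ZN := eN.homEquiv.symm ((attrMap a hF.le).app (op Z0) (e0.homEquiv (𝟙 Z0)))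
  have hes : eN.homEquiv s = (attrMap a hF.le).app (op Z0) (e0.homEquiv (𝟙 Z0)) := eN.homEquiv.apply_symm_apply _
  have hsj : s ≫ j = 𝟙 Z0 := e0.homEquiv.injective (by
    rw [hj, hes]
    exact ConcreteCategory.congr_hom (NatTrans.congr_app (attrMap_comp_attrFace a hF) (op Z0)) _)
  have hjs : ∀ {T : Over S} (q : T ⟶ ZN), eN.homEquiv (q ≫ j ≫ s) =
      (attrMap a hF.le).app (op T) ((attrFace a hF).app (op T) (eN.homEquiv q)) := fun {T} q => by
    rw [← Category.assoc, eN.homEquiv_comp, hes, ← hj, ← Category.comp_id (q ≫ j), e0.homEquiv_comp,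
      Category.comp_id]
    exact (NatTrans.naturality_apply (attrMap a hF.le) (q ≫ j).op _ :).symm
  -- the homotopy
  have homotopy : ∀ (K : Type u) [Field K] (q : Spec (CommRingCat.of K) ⟶ ZN.left),
      ∃ H : Spec (CommRingCat.of (Polynomial K)) ⟶ ZN.left,
        H ≫ j.left = Spec.map (CommRingCat.ofHom Polynomial.C) ≫ q ≫ j.left ∧
        Spec.map (CommRingCat.ofHom (Polynomial.evalRingHom (1 : K))) ≫ H = q ∧
        Spec.map (CommRingCat.ofHom (Polynomial.evalRingHom (0 : K))) ≫ H = q ≫ j.left ≫ s.left := by
    intro K _ q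
    let π : Spec (CommRingCat.of (Polynomial K)) ⟶ Spec (CommRingCat.of K) :=
      Spec.map (CommRingCat.ofHom Polynomial.C)
    let T₀ : Over S := Over.mk (q ≫ ZN.hom)
    let T : Over S := Over.mk (π ≫ q ≫ ZN.hom)
    let q₀ : T₀ ⟶ ZN := Over.homMk q rfl
    let p : T ⟶ T₀ := Over.homMk π rfl
    let c : Γ(T.left, ⊤) := (Scheme.ΓSpecIso (CommRingCat.of (Polynomial K))).inv.hom Polynomial.X
    let x := eN.homEquiv (p ≫ q₀)
    let y : (attr a N).obj (op T) := ⟨scale T (scalePt ε T c) ≫ x.1, (isEquivariant_scale T _).comp x.2⟩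
    let H : T ⟶ ZN := eN.homEquiv.symm y
    have hH : eN.homEquiv H = y := eN.homEquiv.apply_symm_apply _
    have hHj : H ≫ j = p ≫ q₀ ≫ j := e0.homEquiv.injective (by
      rw [← Category.assoc, hj, hj, hH]
      refine Subtype.ext ?_
      show (AMonS.faceMap S hF ▷ T) ≫ scale T (scalePt ε T c) ≫ x.1 = (AMonS.faceMap S hF ▷ T) ≫ x.1
      rw [← Category.assoc, faceMap_scale hF ε hε])
    have hev : ∀ r : K, ∃ i : T₀ ⟶ T, i.left = Spec.map (CommRingCat.ofHom (Polynomial.evalRingHom r)) ∧
        i ≫ p = 𝟙 T₀ ∧ i.left.appTop c = (Scheme.ΓSpecIso (CommRingCat.of K)).inv.hom r := fun r => by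
      have h1 : Spec.map (CommRingCat.ofHom (Polynomial.evalRingHom r)) ≫ π = 𝟙 _ := by
        rw [← Spec.map_comp, ← Spec.map_id]
        congr 1
        exact CommRingCat.hom_ext (RingHom.ext fun z => Polynomial.eval_C)
      refine ⟨Over.homMk (Spec.map (CommRingCat.ofHom (Polynomial.evalRingHom r))) ?_, rfl,
        Over.OverMorphism.ext h1, ?_⟩
      · show Spec.map _ ≫ π ≫ q ≫ ZN.hom = q ≫ ZN.hom
        rw [reassoc_of% h1]
      · refine ((ConcreteCategory.congr_hom (Scheme.ΓSpecIso_inv_naturality
          (CommRingCat.ofHom (Polynomial.evalRingHom r))) Polynomial.X).symm.trans ?_ :)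
        exact congrArg (Scheme.ΓSpecIso (CommRingCat.of K)).inv.hom Polynomial.eval_X
    have hiH : ∀ i : T₀ ⟶ T, i ≫ p = 𝟙 T₀ → (eN.homEquiv (i ≫ H)).1 =
        scale T₀ (scalePt ε T₀ (i.left.appTop c)) ≫ (eN.homEquiv q₀).1 := fun i hi => by
      rw [eN.homEquiv_comp, hH]
      show (AMonS S N ◁ i) ≫ scale T (scalePt ε T c) ≫ x.1 = _
      rw [← Category.assoc, ← whiskerLeft_scale, Category.assoc,
        show (AMonS S N ◁ i) ≫ x.1 = ((attr a N).map i.op x).1 from rfl, ← eN.homEquiv_comp, ← Category.assoc i,
        hi, Category.id_comp]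
    refine ⟨H.left, congrArg CommaMorphism.left hHj, ?_, ?_⟩
    · obtain ⟨i, hil, hip, hic⟩ := hev 1
      rw [← hil]
      refine congrArg CommaMorphism.left (?_ : i ≫ H = q₀)
      refine eN.homEquiv.injective (Subtype.ext ?_)
      rw [hiH i hip, hic, map_one, scale_one, Category.id_comp]
    · obtain ⟨i, hil, hip, hic⟩ := hev 0
      rw [← hil]
      refine congrArg CommaMorphism.left (?_ : i ≫ H = q₀ ≫ j ≫ s)
      refine eN.homEquiv.injective (Subtype.ext ?_)
      rw [hiH i hip, hic, map_zero, scale_zero hF ε hε, hjs, Category.assoc]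
      rfl
  refine ⟨fun K _ k => ?_, ?_⟩
  · -- fibres
    let σ : Spec (CommRingCat.of K) ⟶ Limits.pullback j.left k :=
      Limits.pullback.lift (k ≫ s.left) (𝟙 _) (by
        rw [Category.assoc, ← Over.comp_left, hsj, Category.id_comp]
        exact Category.comp_id k)
    let base := σ (IsLocalRing.closedPoint K)
    have : Nonempty ↥(Limits.pullback j.left k) := ⟨base⟩
    have : PreconnectedSpace ↥(Limits.pullback j.left k) := by
      refine ⟨isPreconnected_of_forall base fun p _ => ?_⟩
      let L := (Limits.pullback j.left k).residueField p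
      let m : Spec (CommRingCat.of L) ⟶ Limits.pullback j.left k :=
        (Limits.pullback j.left k).fromSpecResidueField p
      obtain ⟨H, h1, h2, h3⟩ := homotopy L (m ≫ Limits.pullback.fst _ _)
      let G : Spec (CommRingCat.of (Polynomial L)) ⟶ Limits.pullback j.left k :=
        Limits.pullback.lift H (Spec.map (CommRingCat.ofHom Polynomial.C) ≫ m ≫ Limits.pullback.snd _ _) (by
          rw [h1, Category.assoc, Category.assoc, Category.assoc, Limits.pullback.condition])
      have : PreconnectedSpace ↥(Spec (CommRingCat.of (Polynomial L))) :=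
        inferInstanceAs (PreconnectedSpace (PrimeSpectrum (Polynomial L)))
      refine ⟨Set.range G, Set.subset_univ _, ?_, ?_, isPreconnected_range G.continuous⟩
      · refine ⟨Spec.map (CommRingCat.ofHom (Polynomial.evalRingHom (0 : L))) (IsLocalRing.closedPoint L), ?_⟩
        have e : Spec.map (CommRingCat.ofHom (Polynomial.evalRingHom (0 : L))) ≫ G =
            (m ≫ Limits.pullback.snd _ _) ≫ σ := by
          have hC : Spec.map (CommRingCat.ofHom (Polynomial.evalRingHom (0 : L))) ≫
              Spec.map (CommRingCat.ofHom (Polynomial.C (R := L))) = 𝟙 _ := by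
            rw [← Spec.map_comp, ← Spec.map_id]
            congr 1
            exact CommRingCat.hom_ext (RingHom.ext fun z => Polynomial.eval_C)
          refine Limits.pullback.hom_ext ?_ ?_
          · simp only [G, σ, Category.assoc, Limits.pullback.lift_fst, h3]
            rw [Limits.pullback.condition_assoc]
          · simp only [G, σ, Category.assoc, Limits.pullback.lift_snd]
            rw [reassoc_of% hC]
            exact congrArg (m ≫ ·) (Category.comp_id _).symm
        rw [← Scheme.Hom.comp_apply, e, Scheme.Hom.comp_apply]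
        show σ _ = σ _
        have : Subsingleton ↥(Spec (CommRingCat.of K)) := inferInstanceAs (Subsingleton (PrimeSpectrum K))
        exact congrArg σ (Subsingleton.elim _ _)
      · refine ⟨Spec.map (CommRingCat.ofHom (Polynomial.evalRingHom (1 : L))) (IsLocalRing.closedPoint L), ?_⟩
        have e : Spec.map (CommRingCat.ofHom (Polynomial.evalRingHom (1 : L))) ≫ G = m := by
          have hC : Spec.map (CommRingCat.ofHom (Polynomial.evalRingHom (1 : L))) ≫
              Spec.map (CommRingCat.ofHom (Polynomial.C (R := L))) = 𝟙 _ := by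
            rw [← Spec.map_comp, ← Spec.map_id]
            congr 1
            exact CommRingCat.hom_ext (RingHom.ext fun z => Polynomial.eval_C)
          refine Limits.pullback.hom_ext ?_ ?_
          · simp only [G, Category.assoc, Limits.pullback.lift_fst, h2]
          · simp only [G, Category.assoc, Limits.pullback.lift_snd]
            rw [reassoc_of% hC]
        rw [← Scheme.Hom.comp_apply, e]
        exact Scheme.fromSpecResidueField_apply _ _
    exact ⟨inferInstance⟩
  · -- connected components
    have hpt : ∀ p : ZN.left, (ConnectedComponents.mk p : ConnectedComponents ZN.left) =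
        ConnectedComponents.mk (s.left (j.left p)) := fun p => by
      let L := ZN.left.residueField p
      obtain ⟨H, h1, h2, h3⟩ := homotopy L (ZN.left.fromSpecResidueField p)
      have : PreconnectedSpace ↥(Spec (CommRingCat.of (Polynomial L))) :=
        inferInstanceAs (PreconnectedSpace (PrimeSpectrum (Polynomial L)))
      rw [ConnectedComponents.coe_eq_coe']
      refine (isPreconnected_range H.continuous).subset_connectedComponent (x := s.left (j.left p)) ?_ ?_
      · refine ⟨Spec.map (CommRingCat.ofHom (Polynomial.evalRingHom (0 : L))) (IsLocalRing.closedPoint L), ?_⟩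
        rw [← Scheme.Hom.comp_apply, h3, Scheme.Hom.comp_apply, Scheme.Hom.comp_apply]
        erw [Scheme.fromSpecResidueField_apply]
      · refine ⟨Spec.map (CommRingCat.ofHom (Polynomial.evalRingHom (1 : L))) (IsLocalRing.closedPoint L), ?_⟩
        rw [← Scheme.Hom.comp_apply, h2]
        exact Scheme.fromSpecResidueField_apply _ _
    have hsj' : ∀ y, j.left (s.left y) = y := fun y => by
      rw [← Scheme.Hom.comp_apply, ← Over.comp_left, hsj]
      rfl
    constructor
    · intro c d hcd
      obtain ⟨p, rfl⟩ := ConnectedComponents.surjective_coe c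
      obtain ⟨p', rfl⟩ := ConnectedComponents.surjective_coe d
      rw [hpt p, hpt p']
      exact congrArg (Continuous.connectedComponentsMap s.left.continuous) hcd
    · intro c
      obtain ⟨y, rfl⟩ := ConnectedComponents.surjective_coe c
      exact ⟨ConnectedComponents.mk (s.left y), congrArg ConnectedComponents.mk (hsj' y)⟩

end Groth.Agent.S18242
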