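import Groth.Statements.S18245
import Groth.Agent.S18233
import Groth.Agent.MagnetBundle.Affine
import Groth.Agent.MagnetBundle.Grading
-- import your own Groth.Agent.* helpers here

set_option autoImplicit false
set_option linter.style.haveILetI false
set_option maxHeartbeats 1000000
universe u
open CategoryTheory MonoidalCategory CartesianMonoidalCategory AlgebraicGeometry Opposite
open Magnet

namespace Groth.Agent.S18245

open Groth.MagnetBundle Groth.MiscGeom.Mag

theorem e0_unitFace {S : Scheme.{u}} {M : Type} [AddCommGroup M] (N : AddSubmonoid M) (T : Over S) :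
    e0 (unitFace N) T = toUnit T ≫ MonObj.one (X := AMonS S (unitFace (unitFace N))) ≫
      AMonS.faceMap S (isFace_unitFace (unitFace N)) ∧
    e0 (unitFace N) T = toUnit T ≫ MonObj.one (X := AMonS S (unitFace N)) := by
  refine ⟨Category.assoc _ _ _, pv_ext fun n => ?_⟩
  obtain ⟨hn, y, hy, hny⟩ := n.toAdd.2
  have hy' : y ∈ unitFace N := ⟨hy, _, hn, by rw [add_comm]; exact hny⟩
  rw [pv_e0, if_pos ⟨n.toAdd.2, y, hy', hny⟩, ← Hom.one_def, pv_one]


/-- Let S be a scheme, M a finitely generated abelian group, X a scheme smooth and locally of finite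
presentation over S with an action a of the diagonalizable group scheme D(M)_S which is Zariski
locally linearizable (every point of X lies in a D(M)_S-stable open subscheme affine over S), and N
a submonoid of M such that N is finitely generated or X is quasi-compact over S. If the attractors
X^N and X^{N*} are represented by S-schemes Z_N and Z_* and j : Z_N → Z_* is the S-morphism
corresponding to the canonical map X^N → X^{N*} under the two representing bijections, then j is a
vector bundle, in the following Zariski-local sense: every point of Z_* has an affine open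
neighbourhood W with a finitely generated projective module P over B = Γ(W, O) and an isomorphism
j⁻¹(W) ≅ Spec Sym_B(P) over W. (Stated for schemes and for the local structure only; the published
statement is for algebraic spaces over S and says that X^N → X^{N*} is a vector bundle.) -/
theorem result (S : Scheme.{u}) (M : Type) [AddCommGroup M]
    [AddGroup.FG M] {X : Over S} [LocallyOfFinitePresentation X.hom] [Smooth X.hom]
    (a : Magnet.MonAct (Magnet.AMonS S M) X)
    (hlin : ∀ x : X.left, ∃ V : X.left.Opens, x ∈ V ∧ IsAffineHom (V.ι ≫ X.hom) ∧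
      (CartesianMonoidalCategory.snd (Magnet.AMonS S M) X).left ⁻¹ᵁ V ≤ a.act.left ⁻¹ᵁ V)
    (N : AddSubmonoid M) (hN : N.FG ∨ QuasiCompact X.hom) {ZN Z0 : Over S}
    (eN : (Magnet.attr a N).RepresentableBy ZN) (e0 : (Magnet.attr a (Magnet.unitFace N)).RepresentableBy Z0)
    (j : ZN ⟶ Z0) (hj : ∀ (T : Over S) (z : T ⟶ ZN),
      e0.homEquiv (z ≫ j) = (Magnet.attrFace a (Magnet.isFace_unitFace N)).app (op T) (eN.homEquiv z))
    (z : Z0.left) :
    ∃ (W : Z0.left.Opens) (hW : IsAffineOpen W), z ∈ W ∧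
      ∃ (P : Type u) (_ : AddCommGroup P) (_ : Module Γ(Z0.left, W) P),
        Module.Finite Γ(Z0.left, W) P ∧ Module.Projective Γ(Z0.left, W) P ∧
        ∃ e : (↑(j.left ⁻¹ᵁ W) : Scheme.{u}) ≅ Spec (CommRingCat.of (SymmetricAlgebra Γ(Z0.left, W) P)),
          e.hom ≫ Spec.map (CommRingCat.ofHom (algebraMap Γ(Z0.left, W) (SymmetricAlgebra Γ(Z0.left, W) P))) =
            (j.left ∣_ W) ≫ hW.isoSpec.hom := by
  classical
  -- the projection to `X`
  have hev : evPt eN = j ≫ evPt e0 := by
    have h := hj ZN (𝟙 ZN)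
    rw [Category.id_comp] at h
    rw [Groth.MagnetBundle.comp_evPt, h, (e0_unitFace N ZN).2]
    show _ = lift (toUnit ZN ≫ _) (𝟙 ZN) ≫ (AMonS.faceMap S (isFace_unitFace N) ▷ ZN) ≫ (eN.homEquiv (𝟙 ZN)).1
    rw [lift_whiskerRight_assoc]
    rfl
  -- the charts
  obtain ⟨V, hxV, hVaff, hV⟩ := hlin ((evPt e0).left z)
  haveI : IsAffineHom (Over.mk (V.ι ≫ X.hom)).hom := hVaff
  obtain ⟨_, ⟨S0, hS0, rfl⟩, hzS0, -⟩ :=
    S.isBasis_affineOpens.exists_subset_of_mem_open (Set.mem_univ (Z0.hom z)) isOpen_univ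
  change S.Opens at S0
  let str : Spec Γ(S, S0) ⟶ S := hS0.fromSpec
  have hstr : Set.range str = S0 := hS0.range_fromSpec
  obtain ⟨bV, hb⟩ := exists_restrict a hV
  let B := gB str (Over.mk (V.ι ≫ X.hom))
  let γ : Γ(S, S0) ⟶ B := gGam str (Over.mk (V.ι ≫ X.hom))
  obtain ⟨zN, hzNo, hzNr, ψN, hψN, hψN'⟩ := exists_chart str hV bV hb N eN
  obtain ⟨z0, hz0o, hz0r, ψ0, hψ0, hψ0'⟩ := exists_chart str hV bV hb (unitFace N) e0
  haveI := hzNo
  haveI := hz0o
  let W : Z0.left.Opens := z0.left.opensRange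
  have hWpre : j.left ⁻¹ᵁ W = zN.left.opensRange := by
    refine TopologicalSpace.Opens.ext ?_
    show j.left ⁻¹' Set.range z0.left = Set.range zN.left
    rw [hz0r, hzNr]
    ext p
    show ((evPt e0).left (j.left p) ∈ V ∧ Z0.hom (j.left p) ∈ _) ↔ ((evPt eN).left p ∈ V ∧ ZN.hom p ∈ _)
    rw [hev, show ZN.hom p = Z0.hom (j.left p) by rw [← Over.w j]; rfl]
    rfl
  have hW : IsAffineOpen W := by
    haveI : IsAffine (Over.mk (Spec.map (γ ≫ CommRingCat.ofHom (Ideal.Quotient.mk
      (gIdeal str bV (unitFace N)))) ≫ str)).left := inferInstanceAs (IsAffine (Spec _))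
    exact isAffineOpen_opensRange z0.left
  have hzW : z ∈ W := by
    show z ∈ Set.range z0.left
    rw [hz0r]
    exact ⟨hxV, hstr.symm ▸ hzS0⟩
  -- the algebra
  letI : Algebra Γ(S, S0) B := γ.hom.toAlgebra
  let δ : B →ₐ[Γ(S, S0)] MonoidAlgebra B (Multiplicative M) :=
    { (gDelta str bV).hom with
      commutes' := fun r => DFunLike.congr_fun (congrArg CommRingCat.Hom.hom (gGam_gDelta str bV)) r }
  have hδγ : ∀ r, δ (γ.hom r) = MonoidAlgebra.single 1 (γ.hom r) := fun r => δ.commutes r
  haveI : LocallyOfFinitePresentation (Over.mk (V.ι ≫ X.hom)).hom :=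
    inferInstanceAs (LocallyOfFinitePresentation (V.ι ≫ X.hom))
  haveI : Algebra.FiniteType Γ(S, S0) B := by
    have h : LocallyOfFiniteType (Spec.map γ) := by
      rw [specMap_gGam]
      infer_instance
    exact (HasRingHomProperty.Spec_iff (P := @LocallyOfFiniteType)).1 h
  haveI hSmooth : Smooth ZN.hom := by
    let e1 : (attr (MonAct.trivial (AMonS S M) (𝟙_ (Over S))) N).RepresentableBy (𝟙_ (Over S)) :=
      { homEquiv := fun {T} =>
          { toFun := fun _ => ⟨toUnit _, toUnit_unique _ _⟩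
            invFun := fun _ => toUnit _
            left_inv := fun _ => toUnit_unique _ _
            right_inv := fun _ => Subtype.ext (toUnit_unique _ _) }
        homEquiv_comp := fun _ _ => Subtype.ext (toUnit_unique _ _) }
    haveI : Smooth (toUnit X).left := by
      have : (toUnit X).left = X.hom := by simpa using Over.w (toUnit X)
      rw [this]
      infer_instance
    have h := Groth.Agent.S18233.result S M N a (MonAct.trivial (AMonS S M) (𝟙_ (Over S))) (toUnit X)
      (toUnit_unique _ _) eN e1 (toUnit ZN) (fun T z => Subtype.ext (toUnit_unique _ _))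
    have e : (toUnit ZN).left = ZN.hom := by simpa using Over.w (toUnit ZN)
    rwa [e] at h
  haveI : Algebra.Smooth Γ(S, S0) (B ⧸ attrIdeal N δ) := by
    let c : Γ(S, S0) ⟶ CommRingCat.of (B ⧸ gIdeal str bV N) := γ ≫ CommRingCat.ofHom (Ideal.Quotient.mk _)
    have h1 : Smooth (Spec.map c ≫ str) := by
      have : Spec.map c ≫ str = zN.left ≫ ZN.hom := (Over.w zN).symm
      rw [this]
      infer_instance
    have sq : IsPullback (𝟙 _) (Spec.map c) (Spec.map c ≫ str) str :=
      ⟨⟨by simp⟩, ⟨Limits.PullbackCone.IsLimit.mk (by simp) (fun s => s.fst) (fun s => Category.comp_id _)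
        (fun s => by
          rw [← cancel_mono str, Category.assoc]
          exact s.condition) (fun s m h _ => by rw [← h]; exact (Category.comp_id m).symm)⟩⟩
    have h2 : Smooth (Spec.map c) := MorphismProperty.of_isPullback sq h1
    have h3 : c.hom.Smooth := (HasRingHomProperty.Spec_iff (P := @Smooth)).1 h2
    exact h3
  obtain ⟨κ, hκ, P, _, _, _, _, e, he⟩ := exists_symmetricAlgebra N δ (gDelta_coeff str bV) (gDelta_counit str bV)
  -- the projection in the charts
  let κ' : B ⟶ CommRingCat.of (B ⧸ gIdeal str bV N) := CommRingCat.ofHom (κ.comp (Ideal.Quotient.mk _))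
  have hκγ : γ ≫ κ' = γ ≫ CommRingCat.ofHom (Ideal.Quotient.mk (gIdeal str bV N)) := by
    refine CommRingCat.hom_ext (RingHom.ext fun r => (hκ (γ.hom r)).trans ?_)
    show Ideal.Quotient.mk _ _ = Ideal.Quotient.mk _ (γ.hom r)
    congr 1
    rw [faceSum, hδγ, MonoidAlgebra.coeff_single, Finsupp.sum_single_index (by simp),
      if_pos (show (Multiplicative.toAdd (1 : Multiplicative M)) ∈ unitFace N from zero_mem _)]
  let l : Over.mk (Spec.map (γ ≫ CommRingCat.ofHom (Ideal.Quotient.mk (gIdeal str bV N))) ≫ str) ⟶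
      Over.mk (Spec.map (γ ≫ CommRingCat.ofHom (Ideal.Quotient.mk (gIdeal str bV (unitFace N)))) ≫ str) :=
    Over.homMk (Spec.map (CommRingCat.ofHom κ)) (by
      show Spec.map _ ≫ Spec.map (_ ≫ _) ≫ str = Spec.map (_ ≫ _) ≫ str
      rw [← Spec.map_comp_assoc, Category.assoc, ← hκγ]
      rfl)
  have hcompat : zN ≫ j = l ≫ z0 := by
    refine e0.homEquiv.injective ?_
    rw [hj, ← hψN, e0.homEquiv_comp, ← hψ0]
    have h1 : (attrFace bV (isFace_unitFace N)).app _ ψN = (attr bV (unitFace N)).map l.op ψ0 := by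
      refine attrToX_injective (unitFace N) bV ?_
      rw [attrToX_attrFace, NatTrans.naturality_apply, hψ0']
      refine Over.OverMorphism.ext ?_
      refine (eval_e0 str bV N (CommRingCat.ofHom (Ideal.Quotient.mk (gIdeal str bV N))) κ' (fun x => hκ x) ψN hψN').trans ?_
      show Spec.map κ' ≫ _ = Spec.map (CommRingCat.ofHom κ) ≫ Spec.map _ ≫ _
      rw [← Spec.map_comp_assoc]
      rfl
    refine Subtype.ext ?_
    have h2 := congrArg (fun q => Subtype.val q ≫ (Over.homMk V.ι rfl : Over.mk (V.ι ≫ X.hom) ⟶ X)) h1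
    simpa [Category.assoc] using h2
  obtain ⟨K, hK⟩ : ∃ K : CommRingCat.of (B ⧸ gIdeal str bV (unitFace N)) ⟶ CommRingCat.of (B ⧸ gIdeal str bV N),
      ∀ c, K.hom c = κ c := ⟨CommRingCat.ofHom κ, fun _ => rfl⟩
  have hKl : Spec.map K = l.left := by
    show Spec.map K = Spec.map (CommRingCat.ofHom κ)
    exact congrArg Spec.map (CommRingCat.hom_ext (RingHom.ext hK))
  -- the base ring
  let θs : Spec (CommRingCat.of (B ⧸ gIdeal str bV (unitFace N))) ≅ Spec Γ(Z0.left, W) :=
    z0.left.isoOpensRange ≪≫ hW.isoSpec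
  let r : Γ(Z0.left, W) ⟶ CommRingCat.of (B ⧸ gIdeal str bV (unitFace N)) := Spec.preimage θs.hom
  let r' : CommRingCat.of (B ⧸ gIdeal str bV (unitFace N)) ⟶ Γ(Z0.left, W) := Spec.preimage θs.inv
  have hr : r ≫ r' = 𝟙 _ := Spec.map_injective (by
    rw [Spec.map_comp, Spec.map_preimage, Spec.map_preimage, Iso.inv_hom_id, Spec.map_id])
  have hr' : r' ≫ r = 𝟙 _ := Spec.map_injective (by
    rw [Spec.map_comp, Spec.map_preimage, Spec.map_preimage, Iso.hom_inv_id, Spec.map_id])
  let θ : Γ(Z0.left, W) ≃+* (B ⧸ attrIdeal (unitFace N) δ) := (Iso.mk r r' hr hr').commRingCatIsoToRingEquiv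
  obtain ⟨_, hP1, hP2, e', he'⟩ := exists_transfer θ P
  refine ⟨W, hW, hzW, P, inferInstance, inferInstance, hP1, hP2, ?_⟩
  let α : (B ⧸ gIdeal str bV N) ≃+* SymmetricAlgebra Γ(Z0.left, W) P := e.trans e'.symm
  have hα : ∀ c, α (κ (θ c)) = algebraMap Γ(Z0.left, W) (SymmetricAlgebra Γ(Z0.left, W) P) c := fun c => by
    show e'.symm (e (κ (θ c))) = _
    rw [he, ← he', RingEquiv.symm_apply_apply]
  let ξ : (↑(j.left ⁻¹ᵁ W) : Scheme.{u}) ≅ Spec (CommRingCat.of (B ⧸ gIdeal str bV N)) :=
    ZN.left.isoOfEq hWpre ≪≫ zN.left.isoOpensRange.symm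
  have hξ : ξ.hom ≫ Spec.map K ≫ z0.left.isoOpensRange.hom = j.left ∣_ W := by
    rw [← cancel_mono W.ι, morphismRestrict_ι]
    have h : Spec.map K ≫ z0.left = zN.left ≫ j.left :=
      (congrArg (· ≫ z0.left) hKl).trans (congrArg CommaMorphism.left hcompat).symm
    simp only [ξ, W, Iso.trans_hom, Iso.symm_hom, Category.assoc, Scheme.Hom.isoOpensRange_hom_ι]
    rw [h, Scheme.Hom.isoOpensRange_inv_comp_assoc, Scheme.isoOfEq_hom_ι_assoc]
  let σ : Spec (CommRingCat.of (B ⧸ gIdeal str bV N)) ≅
      Spec (CommRingCat.of (SymmetricAlgebra Γ(Z0.left, W) P)) :=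
    { hom := Spec.map (CommRingCat.ofHom α.symm.toRingHom)
      inv := Spec.map (CommRingCat.ofHom α.toRingHom)
      hom_inv_id := by
        rw [← Spec.map_comp, ← Spec.map_id]
        congr 1
        exact CommRingCat.hom_ext (RingHom.ext fun x => α.symm_apply_apply x)
      inv_hom_id := by
        rw [← Spec.map_comp, ← Spec.map_id]
        congr 1
        exact CommRingCat.hom_ext (RingHom.ext fun x => α.apply_symm_apply x) }
  refine ⟨ξ ≪≫ σ, ?_⟩
  have hring : CommRingCat.ofHom (algebraMap Γ(Z0.left, W) (SymmetricAlgebra Γ(Z0.left, W) P)) ≫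
      CommRingCat.ofHom α.symm.toRingHom = r ≫ K := by
    refine CommRingCat.hom_ext (RingHom.ext fun c => ?_)
    refine Eq.trans ?_ (hK _).symm
    show α.symm (algebraMap _ _ c) = κ (θ c)
    rw [← hα, RingEquiv.symm_apply_apply]
  show (ξ.hom ≫ Spec.map _) ≫ Spec.map _ = _
  rw [Category.assoc, ← Spec.map_comp, hring, Spec.map_comp, Spec.map_preimage, ← hξ]
  simp only [θs, Iso.trans_hom, Category.assoc]

end Groth.Agent.S18245
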