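import Mathlib
import Groth.Statements.S18246
import Groth.Agent.UCurves.Basis

set_option autoImplicit false
universe u
open W4c5m1nsnscurves
open Curves

namespace Groth.Agent.S18246

/-- Let R be a commutative ring and m ≥ 1, so that n = m + 3 ≥ 4 points are marked, and let v assign
values in R to the coordinates a, c, c̄, c_i, c̄_i (one index i for each of the points 4, …, n) and
c_{ij} (i ≠ j) of U_n, with no condition. Let A be the R-algebra on x_2, x_3, x_i with the relations
x_2 x_i = x_2 x_3 + c_i x_i + c̄_i x_2 − c, x_3 x_i = x_2 x_3 + (a + c_i + c̄_i)(x_i − c̄_i) + c̄ −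
c and x_i x_j = x_2 x_3 + c_{ij} x_j + c_{ji} x_i − c for i ≠ j. Then the classes of the monomials
1, x_2^k x_3 (k ≥ 1) and y^k (y any one of the variables, k ≥ 1) are linearly independent over R and
span A if and only if the values v satisfy all the defining relations of U_n: c_{ij} + c_{ji} = a +
c_i + c̄_i + c_j + c̄_j, c = c_{ji} c_j + c_{ij} c_i − c_i c_j, c̄ = c_{ji} c̄_i + c_{ij} c̄_j −
c̄_i c̄_j for i ≠ j, and c_{ij} c_{jk} + c_{ji} c_{ik} − c_{ik} c_{jk} + (a + c_k + c̄_k) c_k = c
for i, j, k distinct. (The published statement writes the relations of the curve with constants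
c_{ij} for all pairs, d_{ij}, a, b, c, d and asserts the equivalence with a longer list of equations
among them; here the constants are already expressed in the coordinates a, c, c̄, c_i, c̄_i, c_{ij}
of U_n, in which that list becomes the relations above.) -/
theorem result (R : Type u) [CommRing R] (m : ℕ) (hm : 1 ≤ m)
    (v : UGen m → R) :
    (LinearIndependent R (cmon R m v) ∧ Submodule.span R (Set.range (cmon R m v)) = ⊤) ↔
      (∀ p ∈ URel R m, MvPolynomial.eval v p = 0) := by
  rw [← Groth.UCurves.rel_iff]
  exact ⟨fun h => Groth.UCurves.rel_of_linearIndependent v h.1,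
    fun h => ⟨Groth.UCurves.linearIndependent_cmon h hm, Groth.UCurves.span_cmon_eq_top v hm⟩⟩

end Groth.Agent.S18246
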