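import Groth.Statements.S18247
import Mathlib
-- import your own Groth.Agent.* helpers here

set_option autoImplicit false
universe u
open W4c5m1nsnscurves
open Curves

namespace Groth.Agent.S18247

/-- Case n = 5: the coordinate ring of U_5 over ℤ (m = 2 indices, standing for the points 4 and 5;
generators a, c, c̄, c_4, c̄_4, c_5, c̄_5, c_{45}, c_{54} with the linear and the two quadratic
relations for the one pair of indices, and no triple) is the polynomial ring on a, c_4, c̄_4, c_5,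
c̄_5, c_{45}: the ℤ-algebra map from the polynomial ring in six variables sending the variables to
these six classes, in this order, is bijective. -/
theorem result :
    Function.Bijective (MvPolynomial.aeval (R := ℤ) (S₁ := URing ℤ 2)
      ![ugen ℤ 2 .a, ugen ℤ 2 (.ci 0), ugen ℤ 2 (.cbi 0), ugen ℤ 2 (.ci 1), ugen ℤ 2 (.cbi 1),
        ugen ℤ 2 (.cij 0 1 Fin.zero_ne_one)]) := by
  classical
  let P := MvPolynomial (Fin 6) ℤ
  let yij : Fin 2 → Fin 2 → P := fun i _ => if i = 0 then MvPolynomial.X 5 else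
      MvPolynomial.X 0 + MvPolynomial.X 1 + MvPolynomial.X 2 + MvPolynomial.X 3 + MvPolynomial.X 4 - MvPolynomial.X 5
  let yi : Fin 2 → P := fun i => if i = 0 then MvPolynomial.X 1 else MvPolynomial.X 3
  let ybi : Fin 2 → P := fun i => if i = 0 then MvPolynomial.X 2 else MvPolynomial.X 4
  let σ : UGen 2 → P := fun g => match g with
    | .a => MvPolynomial.X 0
    | .c => yij 1 0 * yi 1 + yij 0 1 * yi 0 - yi 0 * yi 1
    | .cb => yij 1 0 * ybi 0 + yij 0 1 * ybi 1 - ybi 0 * ybi 1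
    | .ci i => yi i
    | .cbi i => ybi i
    | .cij i j _ => yij i j
  let π : MvPolynomial (UGen 2) ℤ →ₐ[ℤ] P := MvPolynomial.aeval σ
  have hker : ∀ r ∈ Ideal.span (URel ℤ 2), π r = 0 := by
    intro r hr
    have hle : Ideal.span (URel ℤ 2) ≤ RingHom.ker π := by
      rw [Ideal.span_le]
      rintro r (((⟨⟨⟨i, j⟩, h⟩, rfl⟩ | ⟨⟨⟨i, j⟩, h⟩, rfl⟩) | ⟨⟨⟨i, j⟩, h⟩, rfl⟩) | ⟨⟨⟨i, j, l⟩, h⟩, rfl⟩)
      iterate 3
        rw [SetLike.mem_coe, RingHom.mem_ker]
        fin_cases i <;> fin_cases j <;> first | exact absurd rfl h | (simp [π, σ, yij, yi, ybi] <;> ring)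
      fin_cases i <;> fin_cases j <;> fin_cases l <;> simp at h
    exact RingHom.mem_ker.1 (hle hr)
  let inv : URing ℤ 2 →ₐ[ℤ] P := Ideal.Quotient.liftₐ _ π hker
  set φ := MvPolynomial.aeval (R := ℤ) (S₁ := URing ℤ 2)
      ![ugen ℤ 2 .a, ugen ℤ 2 (.ci 0), ugen ℤ 2 (.cbi 0), ugen ℤ 2 (.ci 1), ugen ℤ 2 (.cbi 1),
        ugen ℤ 2 (.cij 0 1 Fin.zero_ne_one)] with hφ
  have hinvu : ∀ g, inv (ugen ℤ 2 g) = σ g := by
    intro g
    change π (MvPolynomial.X g) = σ g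
    simp [π]
  have h1 : inv.comp φ = AlgHom.id ℤ P := by
    refine MvPolynomial.algHom_ext fun i => ?_
    rw [AlgHom.comp_apply, hφ, MvPolynomial.aeval_X]
    fin_cases i <;> simp [hinvu, σ, yij, yi, ybi] <;> rfl
  refine ⟨Function.LeftInverse.injective (g := inv) fun x => DFunLike.congr_fun h1 x, ?_⟩
  have hX : ∀ g : UGen 2, φ (σ g) = ugen ℤ 2 g := by
    have e1 : ∀ q : DPair 2, ugen ℤ 2 (.cij q.1.1 q.1.2 q.2) + ugen ℤ 2 (.cij q.1.2 q.1.1 (Ne.symm q.2)) -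
        (ugen ℤ 2 .a + ugen ℤ 2 (.ci q.1.1) + ugen ℤ 2 (.cbi q.1.1) + ugen ℤ 2 (.ci q.1.2) + ugen ℤ 2 (.cbi q.1.2)) = 0 := by
      intro q
      simp only [ugen, ← map_add, ← map_sub]
      exact Ideal.Quotient.eq_zero_iff_mem.2 (Ideal.subset_span (Or.inl (Or.inl (Or.inl ⟨q, rfl⟩))))
    have e2 : ∀ q : DPair 2, ugen ℤ 2 (.cij q.1.2 q.1.1 (Ne.symm q.2)) * ugen ℤ 2 (.ci q.1.2) +
        ugen ℤ 2 (.cij q.1.1 q.1.2 q.2) * ugen ℤ 2 (.ci q.1.1) -
        ugen ℤ 2 (.ci q.1.1) * ugen ℤ 2 (.ci q.1.2) - ugen ℤ 2 .c = 0 := by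
      intro q
      simp only [ugen, ← map_mul, ← map_add, ← map_sub]
      exact Ideal.Quotient.eq_zero_iff_mem.2 (Ideal.subset_span (Or.inl (Or.inl (Or.inr ⟨q, rfl⟩))))
    have e3 : ∀ q : DPair 2, ugen ℤ 2 (.cij q.1.2 q.1.1 (Ne.symm q.2)) * ugen ℤ 2 (.cbi q.1.1) +
        ugen ℤ 2 (.cij q.1.1 q.1.2 q.2) * ugen ℤ 2 (.cbi q.1.2) -
        ugen ℤ 2 (.cbi q.1.1) * ugen ℤ 2 (.cbi q.1.2) - ugen ℤ 2 .cb = 0 := by
      intro q
      simp only [ugen, ← map_mul, ← map_add, ← map_sub]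
      exact Ideal.Quotient.eq_zero_iff_mem.2 (Ideal.subset_span (Or.inl (Or.inr ⟨q, rfl⟩)))
    have r1 := e1 ⟨(0, 1), Fin.zero_ne_one⟩
    have r2 := e2 ⟨(0, 1), Fin.zero_ne_one⟩
    have r3 := e3 ⟨(0, 1), Fin.zero_ne_one⟩
    have hij : ∀ i j h, φ (yij i j) = ugen ℤ 2 (.cij i j h) := by
      intro i j h
      fin_cases i <;> fin_cases j <;> first | exact absurd rfl h | (simp [hφ, yij]; try linear_combination -r1)
    have hi : ∀ i, φ (yi i) = ugen ℤ 2 (.ci i) := by intro i; fin_cases i <;> simp [hφ, yi]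
    have hbi : ∀ i, φ (ybi i) = ugen ℤ 2 (.cbi i) := by intro i; fin_cases i <;> simp [hφ, ybi]
    rintro (_ | _ | _ | i | i | ⟨i, j, h⟩)
    · simp [hφ, σ]
    · simp only [σ, map_sub, map_add, map_mul, hij 1 0 (by decide), hij 0 1 (by decide), hi]
      linear_combination r2
    · simp only [σ, map_sub, map_add, map_mul, hij 1 0 (by decide), hij 0 1 (by decide), hbi]
      linear_combination r3
    · exact hi i
    · exact hbi i
    · exact hij i j h
  intro x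
  obtain ⟨p, rfl⟩ := Ideal.Quotient.mk_surjective x
  induction p using MvPolynomial.induction_on with
  | C r => exact ⟨MvPolynomial.C r, by simp [hφ]⟩
  | add p q hp hq =>
    obtain ⟨u, hu⟩ := hp; obtain ⟨w, hw⟩ := hq
    exact ⟨u + w, by rw [map_add, map_add, hu, hw]⟩
  | mul_X p g hp =>
    obtain ⟨u, hu⟩ := hp
    exact ⟨u * σ g, by rw [map_mul, map_mul, hu, hX]; rfl⟩

end Groth.Agent.S18247
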