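import Groth.Statements.S18251
import Mathlib
-- import your own Groth.Agent.* helpers here

set_option autoImplicit false
universe u
open W4c5m1nsnscurves
open Curves

namespace Groth.Agent.S18251

/-- Case n = 3: let R be a commutative ring and a, b, c, d elements of R (a point of U_3, which is
affine 4-space, so no condition is imposed). Then in the R-algebra R[x_2, x_3]/(x_2 x_3² − x_2² x_3
− a x_2 x_3 − b x_2 − c x_3 − d) the classes of the monomials 1, x_2^k x_3, x_2^k and x_3^k (k ≥ 1)
are linearly independent over R and span, i.e. form an R-basis. -/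
theorem result (R : Type u) [CommRing R] (a b c d : R) :
    LinearIndependent R (cmon3 R a b c d) ∧
      Submodule.span R (Set.range (cmon3 R a b c d)) = ⊤ := by
  classical
  let e : Option (ℕ ⊕ (Fin 2 × ℕ)) → ℕ × ℕ := fun o => match o with
    | none => (0, 0)
    | some (Sum.inl k) => (k + 1, 1)
    | some (Sum.inr (y, k)) => if y = 0 then (k + 1, 0) else (0, k + 1)
  have heinj : Function.Injective e := by
    rintro (_ | k | ⟨y, k⟩) (_ | k' | ⟨y', k'⟩) h <;>
      (try fin_cases y) <;> (try fin_cases y') <;> simp_all [e]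
  have hesmall : ∀ o, (e o).1 = 0 ∨ (e o).2 ≤ 1 := by
    rintro (_ | k | ⟨y, k⟩) <;> (try fin_cases y) <;> simp [e]
  set F : MvPolynomial (Fin 2) R := MvPolynomial.X 0 * MvPolynomial.X 1 ^ 2 -
      MvPolynomial.X 0 ^ 2 * MvPolynomial.X 1 - (MvPolynomial.C a * MvPolynomial.X 0 * MvPolynomial.X 1 +
        MvPolynomial.C b * MvPolynomial.X 0 + MvPolynomial.C c * MvPolynomial.X 1 + MvPolynomial.C d) with hF
  let mon : ℕ × ℕ → MvPolynomial (Fin 2) R := fun q => MvPolynomial.X 0 ^ q.1 * MvPolynomial.X 1 ^ q.2
  let mk : MvPolynomial (Fin 2) R →ₐ[R] CurveAlg3 R a b c d := Ideal.Quotient.mkₐ R (Ideal.span {F})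
  have hcm : cmon3 R a b c d = fun o => mk (mon (e o)) := by
    funext o
    rcases o with _ | k | ⟨y, k⟩
    · simp [cmon3, mon, e]
    · simp [cmon3, mon, e, mk, F, Ideal.Quotient.mkₐ_eq_mk]
    · fin_cases y <;> simp [cmon3, mon, e, mk, F, Ideal.Quotient.mkₐ_eq_mk]
  refine ⟨?_, ?_⟩
  · rw [linearIndependent_iff]
    intro l hl
    rw [hcm, Finsupp.linearCombination_apply] at hl
    set P : MvPolynomial (Fin 2) R := l.sum fun o r => r • mon (e o) with hP
    have hmem : P ∈ Ideal.span {F} := by
      rw [← Ideal.Quotient.eq_zero_iff_mem, ← Ideal.Quotient.mkₐ_eq_mk R]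
      change mk P = 0
      rw [hP, map_finsuppSum]
      simpa only [map_smul] using hl
    obtain ⟨G, hG⟩ := Ideal.mem_span_singleton'.1 hmem
    let φ : MvPolynomial (Fin 2) R →ₐ[R] Polynomial (Polynomial R) :=
      MvPolynomial.aeval ![Polynomial.C Polynomial.X, Polynomial.X]
    have hcoef : ∀ i j : ℕ, ((φ P).coeff j).coeff i =
        l.sum fun o r => if e o = (i, j) then r else 0 := by
      intro i j
      rw [hP, map_finsuppSum, Finsupp.sum, Polynomial.finsetSum_coeff, Polynomial.finsetSum_coeff,
        Finsupp.sum]
      refine Finset.sum_congr rfl fun o _ => ?_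
      have hmon : φ (mon (e o)) = Polynomial.C (Polynomial.X ^ (e o).1) * Polynomial.X ^ (e o).2 := by
        simp [φ, mon]
      rw [map_smul, hmon, Polynomial.coeff_smul, Polynomial.coeff_smul, Polynomial.coeff_C_mul_X_pow]
      rcases ho : e o with ⟨u, v⟩
      by_cases hv : v = j
      · subst hv
        by_cases hu : u = i
        · subst hu; simp
        · simp [hu, Polynomial.coeff_X_pow, Ne.symm hu]
      · simp [hv, Ne.symm hv]
    have hPφ : φ P = 0 := by
      have hFφ : φ F = Polynomial.C Polynomial.X * Polynomial.X ^ 2 +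
          Polynomial.C (-(Polynomial.X ^ 2) - Polynomial.C a * Polynomial.X - Polynomial.C c) * Polynomial.X +
          Polynomial.C (-(Polynomial.C b * Polynomial.X) - Polynomial.C d) := by
        simp [φ, F, Polynomial.algebraMap_def]
        ring
      have hGF : φ P = φ G * φ F := by rw [← hG, map_mul]
      suffices φ G = 0 by rw [hGF, this, zero_mul]
      by_contra hne
      set n := (φ G).natDegree
      have htop : ((φ G * φ F).coeff (n + 2)) = (φ G).leadingCoeff * Polynomial.X := by
        rw [Polynomial.coeff_mul_add_eq_of_natDegree_le (le_refl n)]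
        · rw [hFφ]
          simp only [Polynomial.coeff_add, Polynomial.coeff_C_mul, Polynomial.coeff_X_pow, Polynomial.coeff_X,
            Polynomial.coeff_C, if_pos, if_neg (show ¬((1 : ℕ) = 2) by decide), if_neg (show ¬((2 : ℕ) = 0) by decide),
            mul_one, mul_zero, add_zero]
          rfl
        · rw [hFφ]
          compute_degree
      apply Polynomial.leadingCoeff_ne_zero.2 hne
      ext i
      have h1 := hcoef (i + 1) (n + 2)
      rw [hGF, htop, Polynomial.coeff_mul_X] at h1
      rw [Polynomial.coeff_zero, h1]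
      refine Finset.sum_eq_zero fun o _ => if_neg fun he => ?_
      rcases hesmall o with h | h <;> rw [he] at h <;> simp at h
    ext o
    have h1 := hcoef (e o).1 (e o).2
    rw [hPφ] at h1
    simp only [Polynomial.coeff_zero] at h1
    rw [Finsupp.sum_eq_single o] at h1
    · simpa using h1.symm
    · intro o' _ hne
      exact if_neg fun h => hne (heinj h)
    · simp
  · rw [eq_top_iff]
    set S := Submodule.span R (Set.range (cmon3 R a b c d))
    have hgen : ∀ q : ℕ × ℕ, (q.1 = 0 ∨ q.2 ≤ 1) → mk (mon q) ∈ S := by
      rintro ⟨u, v⟩ h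
      have : ∃ o, e o = (u, v) := by
        rcases u with _ | u
        · rcases v with _ | v
          · exact ⟨none, rfl⟩
          · exact ⟨some (Sum.inr (1, v)), rfl⟩
        · rcases v with _ | v
          · exact ⟨some (Sum.inr (0, u)), rfl⟩
          · obtain rfl : v = 0 := by simp at h; omega
            exact ⟨some (Sum.inl u), rfl⟩
      obtain ⟨o, ho⟩ := this
      exact Submodule.subset_span ⟨o, by rw [hcm, ← ho]⟩
    have hrel : mk (MvPolynomial.X 0 * MvPolynomial.X 1 ^ 2) =
        mk (MvPolynomial.X 0 ^ 2 * MvPolynomial.X 1 + (MvPolynomial.C a * MvPolynomial.X 0 * MvPolynomial.X 1 +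
          MvPolynomial.C b * MvPolynomial.X 0 + MvPolynomial.C c * MvPolynomial.X 1 + MvPolynomial.C d)) := by
      refine Ideal.Quotient.eq.2 ?_
      convert Ideal.mem_span_singleton_self F using 1
      rw [hF]; ring
    have key : ∀ (p : MvPolynomial (Fin 2) R),
        (∀ q : ℕ × ℕ, (q.1 = 0 ∨ q.2 ≤ 1) → mk (p * mon q) ∈ S) →
        ∀ x ∈ S, mk p * x ∈ S := by
      intro p hp x hx
      induction hx using Submodule.span_induction with
      | mem x hx =>
        obtain ⟨o, rfl⟩ := hx
        rw [hcm, ← map_mul]
        exact hp _ (hesmall o)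
      | zero => simp
      | add x y _ _ hx hy => rw [mul_add]; exact add_mem hx hy
      | smul r x _ hx => rw [mul_smul_comm]; exact S.smul_mem r hx
    have hY : ∀ x ∈ S, mk (MvPolynomial.X 1) * x ∈ S := by
      refine key _ fun q hq => ?_
      obtain ⟨u, v⟩ := q
      rcases u with _ | u
      · have := hgen (0, v + 1) (Or.inl rfl)
        rw [show MvPolynomial.X 1 * mon (0, v) = mon (0, v + 1) by simp [mon, pow_succ']]
        exact this
      · rcases v with _ | v
        · have := hgen (u + 1, 1) (Or.inr le_rfl)
          rw [show MvPolynomial.X 1 * mon (u + 1, 0) = mon (u + 1, 1) by simp [mon]; ring]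
          exact this
        · obtain rfl : v = 0 := by simp at hq; omega
          have e1 : mk (MvPolynomial.X 1 * mon (u + 1, 0 + 1)) =
              mk (MvPolynomial.X 0 ^ u) * mk (MvPolynomial.X 0 * MvPolynomial.X 1 ^ 2) := by
            rw [← map_mul]; congr 1; simp [mon]; ring
          rw [e1, hrel, ← map_mul]
          have e2 : MvPolynomial.X 0 ^ u * (MvPolynomial.X 0 ^ 2 * MvPolynomial.X 1 +
              (MvPolynomial.C a * MvPolynomial.X 0 * MvPolynomial.X 1 +
              MvPolynomial.C b * MvPolynomial.X 0 + MvPolynomial.C c * MvPolynomial.X 1 + MvPolynomial.C d)) =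
              mon (u + 2, 1) + (a • mon (u + 1, 1) + b • mon (u + 1, 0) + c • mon (u, 1) + d • mon (u, 0)) := by
            simp [mon, MvPolynomial.smul_eq_C_mul]; ring
          rw [e2, map_add, map_add, map_add, map_add, map_smul, map_smul, map_smul, map_smul]
          refine add_mem ?_ (add_mem (add_mem (add_mem ?_ ?_) ?_) ?_) <;>
            first | exact hgen _ (Or.inr (by simp)) | exact S.smul_mem _ (hgen _ (Or.inr (by simp)))
    have hX : ∀ x ∈ S, mk (MvPolynomial.X 0) * x ∈ S := by
      refine key _ fun q hq => ?_
      obtain ⟨u, v⟩ := q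
      induction v generalizing u with
      | zero =>
        have := hgen (u + 1, 0) (Or.inr (by simp))
        simpa [mon, pow_succ'] using this
      | succ v ih =>
        have h' : u = 0 ∨ v ≤ 1 := by simp at hq; omega
        have := hY _ (ih u h')
        rw [← map_mul] at this
        convert this using 2
        simp [mon]; ring
    rintro x -
    obtain ⟨p, rfl⟩ := Ideal.Quotient.mk_surjective x
    change mk p ∈ S
    induction p using MvPolynomial.induction_on with
    | C r =>
      have := S.smul_mem r (hgen (0, 0) (Or.inl rfl))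
      rw [← map_smul] at this
      simpa [mon, MvPolynomial.smul_eq_C_mul] using this
    | add p q hp hq => rw [map_add]; exact add_mem hp hq
    | mul_X p i hp =>
      rw [map_mul, mul_comm (mk p)]
      fin_cases i
      · exact hX _ hp
      · exact hY _ hp

end Groth.Agent.S18251
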