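import Groth.Statements.S18256
import Groth.Agent.ArtfunDeform.ArtBasic
import Mathlib.RingTheory.LocalRing.Module
import Mathlib.RingTheory.TensorProduct.Basic
import Mathlib.LinearAlgebra.TensorProduct.RightExactness

set_option autoImplicit false
universe u
open ArtFun

namespace Groth.Agent.S18256

open CategoryTheory TensorProduct in
/-- Let R be an Artinian local ring with residue field k and M a finitely generated R-module. Suppose
that for every small extension p : A' → A of local Artinian R-algebras with residue field k (p
surjective, its kernel I a nonzero principal ideal killed by the maximal ideal of A'), the map M ⊗_R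
I → M ⊗_R A' induced by the inclusion I ⊆ A' is injective (equivalently, the sequence 0 → M ⊗_R I →
M ⊗_R A' → M ⊗_R A → 0 is exact). Then M is a free R-module. (The printed conclusion reads free over
the residue field; the proof establishes freeness over R, which is what is stated here.) -/
theorem result
    (R : Type u) [CommRing R] [IsArtinianRing R] [IsLocalRing R]
    (k : Type u) [Field k] [Algebra R k] (hk : Function.Surjective (algebraMap R k))
    (M : Type u) [AddCommGroup M] [Module R M] [Module.Finite R M]
    (h : ∀ (A' A : ArtFun.Art R k) (p : A' ⟶ A), ArtFun.Art.IsSmallExt p →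
      Function.Injective
        (LinearMap.lTensor M (((RingHom.ker p.toAlgHom).restrictScalars R).subtype))) :
    Module.Free R M := by
  classical
  haveI : IsNoetherianRing R := inferInstance
  haveI : Module.FinitePresentation R M := Module.finitePresentation_of_finite R M
  have hker : RingHom.ker (algebraMap R k) = IsLocalRing.maximalIdeal R :=
    IsLocalRing.eq_maximalIdeal (RingHom.ker_isMaximal_of_surjective _ hk)
  refine Module.free_of_maximalIdeal_rTensor_injective ?_
  suffices H : ∀ K : Ideal R, K ≤ IsLocalRing.maximalIdeal R →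
      Function.Injective (LinearMap.lTensor M (Submodule.subtype K)) by
    exact (LinearMap.lTensor_inj_iff_rTensor_inj _ _).1 (H _ le_rfl)
  intro K
  induction K using WellFoundedLT.induction with
  | _ K ih =>
    intro hKm
    rcases eq_or_ne K ⊥ with rfl | hK0
    · haveI : Subsingleton (M ⊗[R] ↥(⊥ : Ideal R)) := subsingleton_of_forall_eq 0 fun z => by
        induction z using TensorProduct.induction_on with
        | zero => rfl
        | tmul a b => rw [Subsingleton.elim b 0, TensorProduct.tmul_zero]
        | add x y hx hy => rw [hx, hy, add_zero]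
      exact Function.injective_of_subsingleton _
    obtain ⟨K', hK'lt, hmax⟩ := set_has_maximal_iff_noetherian.2 (inferInstance : IsNoetherian R R)
      {K' | K' < K} ⟨⊥, bot_lt_iff_ne_bot.2 hK0⟩
    replace hK'lt : K' < K := hK'lt
    have hK'K : K' ≤ K := le_of_lt hK'lt
    have hmK : IsLocalRing.maximalIdeal R * K ≤ K' := by
      have hne : K' ⊔ IsLocalRing.maximalIdeal R • K ≠ K := fun e => (not_le_of_gt hK'lt)
        (Submodule.le_of_le_smul_of_le_jacobson_bot (IsNoetherian.noetherian K)
          (IsLocalRing.maximalIdeal_le_jacobson ⊥) e.ge)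
      have hlt : K' ⊔ IsLocalRing.maximalIdeal R • K < K :=
        lt_of_le_of_ne (sup_le hK'K Submodule.smul_le_right) hne
      have := eq_of_le_of_not_lt le_sup_left (hmax _ hlt)
      rw [this]
      exact le_sup_right
    obtain ⟨t, htK, htK'⟩ := SetLike.exists_of_lt hK'lt
    have hspan : K = K' ⊔ Ideal.span {t} := by
      by_contra hne
      have hlt : K' ⊔ Ideal.span {t} < K := lt_of_le_of_ne (sup_le hK'K ((Ideal.span_singleton_le_iff_mem _).2 htK)) (Ne.symm hne)
      have := eq_of_le_of_not_lt le_sup_left (hmax _ hlt)
      exact htK' (this ▸ Submodule.mem_sup_right (Ideal.mem_span_singleton_self t))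
    have hK'm : K' ≤ IsLocalRing.maximalIdeal R := hK'K.trans hKm
    haveI : Nontrivial (R ⧸ K') := Ideal.Quotient.nontrivial_iff.2
      fun e => (IsLocalRing.maximalIdeal.isMaximal R).ne_top (top_le_iff.1 (e ▸ hK'm))
    let A' : ArtFun.Art R k :=
      { carrier := R ⧸ K'
        isLocalRing := IsLocalRing.of_surjective' (Ideal.Quotient.mk K') Ideal.Quotient.mk_surjective
        res := Ideal.Quotient.liftₐ K' (Algebra.ofId R k) fun a ha => (hker.symm.le (hK'm ha) : _)
        res_surjective := fun c => by
          obtain ⟨a, ha⟩ := hk c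
          exact ⟨Ideal.Quotient.mk K' a, ha⟩ }
    haveI : IsLocalRing A'.carrier := A'.isLocalRing
    let q : R →ₐ[R] A' := Ideal.Quotient.mkₐ R K'
    have hJ : K.map q ≤ IsLocalRing.maximalIdeal A' := Ideal.map_le_iff_le_comap.2 fun x hx => by
      rw [Ideal.mem_comap, ArtFun.Art.mem_maximalIdeal_iff]
      exact (hker.symm.le (hKm hx) : _)
    let p := ArtFun.Art.quotMk A' (K.map q) hJ
    have hkerp : RingHom.ker p.toAlgHom = K.map q := Ideal.ext fun x => Ideal.Quotient.eq_zero_iff_mem
    have hmem : ∀ x ∈ K, q x ∈ RingHom.ker p.toAlgHom := fun x hx => hkerp.ge (Ideal.mem_map_of_mem q hx)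
    have hsmall : ArtFun.Art.IsSmallExt p := by
      refine ⟨ArtFun.Art.quotMk_surjective _ _ _, fun e => ?_, ⟨q t, le_antisymm ?_ ?_⟩, ?_⟩
      · have := hmem t htK
        rw [e, Ideal.mem_bot] at this
        exact htK' (Ideal.Quotient.eq_zero_iff_mem.1 this)
      · rw [hkerp, hspan, Ideal.map_sup, Ideal.map_span, Set.image_singleton]
        refine sup_le (Ideal.map_le_iff_le_comap.2 fun x hx => ?_) le_rfl
        rw [Ideal.mem_comap, show q x = 0 from Ideal.Quotient.eq_zero_iff_mem.2 hx]
        exact zero_mem _
      · exact (Ideal.span_singleton_le_iff_mem _).2 (hmem t htK)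
      · rw [hkerp, eq_bot_iff, Ideal.mul_le]
        intro a ha y hy
        obtain ⟨a, rfl⟩ := Ideal.Quotient.mk_surjective a
        obtain ⟨y, hy', rfl⟩ := (Ideal.mem_map_iff_of_surjective q Ideal.Quotient.mk_surjective).1 hy
        have ha' : a ∈ IsLocalRing.maximalIdeal R := (IsLocalRing.mem_maximalIdeal _).2 fun hu =>
          (IsLocalRing.mem_maximalIdeal _).1 ha (hu.map (Ideal.Quotient.mk K'))
        rw [Ideal.mem_bot]
        exact (map_mul (Ideal.Quotient.mk K') a y).symm.trans
          (Ideal.Quotient.eq_zero_iff_mem.2 (hmK (Ideal.mul_mem_mul ha' hy')))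
    let r : ↥K →ₗ[R] ↥((RingHom.ker p.toAlgHom).restrictScalars R) :=
      LinearMap.codRestrict _ (q.toLinearMap.comp (Submodule.subtype K)) fun x => hmem x x.2
    have hr : Function.Surjective r := by
      rintro ⟨y, hy⟩
      obtain ⟨x, hx, rfl⟩ := (Ideal.mem_map_iff_of_surjective q Ideal.Quotient.mk_surjective).1 (hkerp.le hy)
      exact ⟨⟨x, hx⟩, rfl⟩
    have hexact : Function.Exact (Submodule.inclusion hK'K) r := fun x => by
      constructor
      · intro hx
        exact ⟨⟨x, Ideal.Quotient.eq_zero_iff_mem.1 (congrArg Subtype.val hx)⟩, rfl⟩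
      · rintro ⟨y, rfl⟩
        exact Subtype.ext (Ideal.Quotient.eq_zero_iff_mem.2 y.2)
    rw [injective_iff_map_eq_zero]
    intro z hz
    have h1 : LinearMap.lTensor M r z = 0 := by
      refine h A' _ p hsmall ?_
      rw [map_zero, ← LinearMap.comp_apply, ← LinearMap.lTensor_comp,
        show ((RingHom.ker p.toAlgHom).restrictScalars R).subtype ∘ₗ r = q.toLinearMap ∘ₗ Submodule.subtype K from rfl,
        LinearMap.lTensor_comp, LinearMap.comp_apply, hz, map_zero]
    obtain ⟨w, rfl⟩ := (lTensor_exact M hexact hr z).1 h1
    rw [← LinearMap.comp_apply, ← LinearMap.lTensor_comp, Submodule.subtype_comp_inclusion] at hz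
    rw [ih K' hK'lt hK'm (hz.trans (map_zero _).symm), map_zero]

end Groth.Agent.S18256
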