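import Groth.Statements.S18257
import Groth.Agent.PicAux.PrincipalUnits

set_option autoImplicit false
universe u
open UnitsSh

namespace Groth.Agent.S18257

open CategoryTheory CategoryTheory.Limits AlgebraicGeometry in
/-- In the case of the multiplicative group, for schemes and with Zariski cohomology of the sheaf of
units. Let A be a local ring with maximal ideal m, t a nonzero element of m with m·t = 0, and X' a
scheme flat over Spec A; let i : X ⟶ X' be the closed subscheme cut out by t (base change to A/(t))
and X₀ the closed fibre (base change to the residue field). If H^{q+1}(X₀, O_{X₀}) = 0, then the map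
H^q(X', O_{X'}^×) → H^q(X', i_* O_X^×) induced by the units map of i is surjective. (The published
statement covers any smooth commutative group scheme in place of the multiplicative group, with the
Lie algebra of its closed fibre in place of O_{X₀}, uses étale cohomology, and takes A Artinian;
this row allows any local ring A with t as stated.) -/
theorem result
    (A : Type u) [CommRing A] [IsLocalRing A]
    (t : A) (ht0 : t ≠ 0) (ht : t ∈ IsLocalRing.maximalIdeal A)
    (hmt : ∀ x ∈ IsLocalRing.maximalIdeal A, x * t = 0)
    (X' : Scheme.{u}) [X'.Over (Spec (CommRingCat.of A))] [Flat (X' ↘ Spec (CommRingCat.of A))]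
    (q : ℕ)
    (hvan : Subsingleton (Coh.HH
      (pullback (X' ↘ Spec (CommRingCat.of A)) (Spec.map (CommRingCat.ofHom (IsLocalRing.residue A))))
      (Coh.structureModule _) (q + 1))) :
    Function.Surjective (Sheaf.H.map (UnitsSh.comap
      (pullback.fst (X' ↘ Spec (CommRingCat.of A))
        (Spec.map (CommRingCat.ofHom (Ideal.Quotient.mk (Ideal.span ({t} : Set A))))))) q) := by
  let D := Groth.PicAux.PrincipalUnits.Datum.ofFlat (X' ↘ Spec (CommRingCat.of A))
    (Ideal.Quotient.mk (Ideal.span ({t} : Set A))) (IsLocalRing.residue A)
    Ideal.Quotient.mk_surjective IsLocalRing.residue_surjective t (hmt t ht) Ideal.mk_ker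
    (fun a => by
      rw [IsLocalRing.ker_residue]
      refine ⟨fun ha => mul_comm a t ▸ hmt a ha, fun ha hu => ht0 ?_⟩
      exact (hu.mul_left_eq_zero).mp ha)
  haveI : IsClosedImmersion (Spec.map (CommRingCat.ofHom (IsLocalRing.residue A))) :=
    IsClosedImmersion.spec_of_surjective _ IsLocalRing.residue_surjective
  haveI : IsClosedImmersion (Spec.map (CommRingCat.ofHom
      (Ideal.Quotient.mk (Ideal.span ({t} : Set A))))) :=
    IsClosedImmersion.spec_of_surjective _ Ideal.Quotient.mk_surjective
  exact Groth.PicAux.PrincipalUnits.surjective_of_vanishing D q hvan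

end Groth.Agent.S18257
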