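import Groth.Statements.S18258
import Groth.Agent.PicAux.PrincipalUnitsSplit

set_option autoImplicit false
universe u
open UnitsSh

namespace Groth.Agent.S18258

section
open CategoryTheory CategoryTheory.Limits AlgebraicGeometry DualNumber

variable (k : Type u) [Field k]

theorem mem_ker_fst_iff (a : DualNumber k) :
    a ∈ RingHom.ker (TrivSqZeroExt.fstHom k k k).toRingHom ↔ (ε : DualNumber k) * a = 0 := by
  change TrivSqZeroExt.fst a = 0 ↔ _
  constructor
  · intro h
    refine TrivSqZeroExt.ext ?_ ?_ <;> simp [h]
  · intro h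
    simpa using congrArg TrivSqZeroExt.snd h

theorem ker_fst_eq : RingHom.ker (TrivSqZeroExt.fstHom k k k).toRingHom =
    Ideal.span {(ε : DualNumber k)} := by
  refine le_antisymm (fun a ha => Ideal.mem_span_singleton'.mpr
    ⟨TrivSqZeroExt.inl (TrivSqZeroExt.snd a), ?_⟩) ?_
  · have h0 : TrivSqZeroExt.fst a = 0 := ha
    refine TrivSqZeroExt.ext ?_ ?_ <;> simp [h0]
  · rw [Ideal.span_le, Set.singleton_subset_iff]
    exact fst_eps

theorem fst_surjective : Function.Surjective (TrivSqZeroExt.fstHom k k k).toRingHom :=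
  fun x => ⟨TrivSqZeroExt.inl x, rfl⟩

theorem surjective_spec_fst :
    Surjective (Spec.map (CommRingCat.ofHom (TrivSqZeroExt.fstHom k k k).toRingHom)) := by
  refine ⟨fun p => ⟨(⊥ : PrimeSpectrum k), PrimeSpectrum.ext ?_⟩⟩
  change Ideal.comap _ (⊥ : Ideal k) = p.asIdeal
  have hε : (ε : DualNumber k) ∈ p.asIdeal :=
    p.2.mem_of_pow_mem 2 (by rw [pow_two, eps_mul_eps]; exact p.asIdeal.zero_mem)
  exact (RingHom.ker_isMaximal_of_surjective _ (fst_surjective k)).eq_of_le p.2.ne_top
    (by rw [ker_fst_eq, Ideal.span_le, Set.singleton_subset_iff]; exact hε)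

theorem fst_comp_alg :
    CommRingCat.ofHom (algebraMap k (DualNumber k)) ≫
      CommRingCat.ofHom (TrivSqZeroExt.fstHom k k k).toRingHom = 𝟙 (CommRingCat.of k) :=
  CommRingCat.hom_ext (RingHom.ext fun _ => rfl)

variable {k} (X₀ : Scheme.{u}) [X₀.Over (Spec (CommRingCat.of k))]

theorem exists_retraction :
    let α := Spec.map (CommRingCat.ofHom (algebraMap k (DualNumber k)))
    let β := Spec.map (CommRingCat.ofHom (TrivSqZeroExt.fstHom k k k).toRingHom)
    ∃ r : pullback (X₀ ↘ Spec (CommRingCat.of k)) α ⟶
        pullback (pullback.snd (X₀ ↘ Spec (CommRingCat.of k)) α) β,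
      pullback.fst _ β ≫ r = 𝟙 _ := by
  intro α β
  have hαβ : β ≫ α = 𝟙 _ := by
    rw [← Spec.map_comp, fst_comp_alg, Spec.map_id]
  refine ⟨pullback.lift
    (pullback.lift (pullback.fst _ α) (pullback.snd _ α ≫ α ≫ β) (by
      rw [Category.assoc, Category.assoc, hαβ, Category.comp_id, pullback.condition]))
    (pullback.snd _ α ≫ α) (by rw [pullback.lift_snd, Category.assoc]), ?_⟩
  have hc : pullback.fst _ β ≫ pullback.snd (X₀ ↘ Spec (CommRingCat.of k)) α =
      pullback.snd _ β ≫ β := pullback.condition
  apply pullback.hom_ext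
  · rw [Category.assoc, pullback.lift_fst, Category.id_comp]
    apply pullback.hom_ext
    · rw [Category.assoc, pullback.lift_fst]
    · rw [Category.assoc, pullback.lift_snd, reassoc_of% hc, reassoc_of% hαβ, hc]
  · rw [Category.assoc, pullback.lift_snd, Category.id_comp, reassoc_of% hc, hαβ]
    exact Category.comp_id _

end

open CategoryTheory CategoryTheory.Limits AlgebraicGeometry in
/-- In the case of the multiplicative group, for schemes and with Zariski cohomology of the sheaf of
units. Let k be a field, X₀ a k-scheme, X' = X₀ ×_k Spec k[ε] (k[ε] the dual numbers) and i : X ⟶ X'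
the closed subscheme ε = 0 (base change of X' along k[ε] → k, a copy of X₀). Then for every q the
kernel of the map H^q(X', O_{X'}^×) → H^q(X', i_* O_X^×) induced by the units map of i — the tangent
space at the origin of the functor A ↦ H^q(X₀ ⊗_k A, O^×) on local Artinian k-algebras — is
isomorphic, as an additive group, to H^q(X, O_X). (Existence of an isomorphism only. The published
statement covers any smooth commutative group scheme in place of the multiplicative group, with the
Lie algebra of its closed fibre in place of the structure sheaf, and uses étale cohomology.) -/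
theorem result
    (k : Type u) [Field k] (X₀ : Scheme.{u}) [X₀.Over (Spec (CommRingCat.of k))] (q : ℕ) :
    Nonempty ((Sheaf.H.map (UnitsSh.comap (pullback.fst (pullback.snd (X₀ ↘ Spec (CommRingCat.of k)) (Spec.map (CommRingCat.ofHom (algebraMap k (DualNumber k))))) (Spec.map (CommRingCat.ofHom (TrivSqZeroExt.fstHom k k k).toRingHom)))) q).ker ≃+
      Coh.HH (pullback (pullback.snd (X₀ ↘ Spec (CommRingCat.of k)) (Spec.map (CommRingCat.ofHom (algebraMap k (DualNumber k))))) (Spec.map (CommRingCat.ofHom (TrivSqZeroExt.fstHom k k k).toRingHom))) (Coh.structureModule (pullback (pullback.snd (X₀ ↘ Spec (CommRingCat.of k)) (Spec.map (CommRingCat.ofHom (algebraMap k (DualNumber k))))) (Spec.map (CommRingCat.ofHom (TrivSqZeroExt.fstHom k k k).toRingHom)))) q) := by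
  obtain ⟨r, hr⟩ := exists_retraction (k := k) X₀
  haveI := surjective_spec_fst k
  haveI : IsClosedImmersion
      (Spec.map (CommRingCat.ofHom (TrivSqZeroExt.fstHom k k k).toRingHom)) :=
    IsClosedImmersion.spec_of_surjective _ (fst_surjective k)
  haveI : Flat (pullback.snd (X₀ ↘ Spec (CommRingCat.of k))
      (Spec.map (CommRingCat.ofHom (algebraMap k (DualNumber k))))) := inferInstance
  exact Groth.PicAux.PrincipalUnits.nonempty_ker_equiv r hr
    (Groth.PicAux.PrincipalUnits.Datum.ofFlat _ _ _ (fst_surjective k) (fst_surjective k)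
      DualNumber.eps DualNumber.eps_mul_eps (ker_fst_eq k) (mem_ker_fst_iff k)) q

end Groth.Agent.S18258
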