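import Groth.Statements.S18260
import Groth.Agent.PicAux.PrincipalUnitsArtinian

set_option autoImplicit false
universe u
open UnitsSh

namespace Groth.Agent.S18260

open CategoryTheory CategoryTheory.Limits AlgebraicGeometry in
/-- For schemes and with Zariski cohomology of the sheaf of units. Let A be an Artinian local ring with
maximal ideal m, X' a scheme flat over Spec A and i₀ : X₀ ⟶ X' its closed fibre (base change to the
residue field). If H^q(X₀, O_{X₀}) = 0, then the q-th cohomology group of the kernel of the units
map O_{X'}^× → i₀_* O_{X₀}^× (the sheaf of principal units 1 + m·O_{X'}) vanishes. (The published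
claim is the vanishing, on local Artinian algebras A with residue field k, of the deformation
functor of H^q of the multiplicative group for the trivial deformations X₀ ⊗_k A of a scheme X₀ over
a field k, and uses étale cohomology; this row allows any scheme X' flat over an Artinian local ring
A and uses Zariski cohomology.) -/
theorem result
    (A : Type u) [CommRing A] [IsArtinianRing A] [IsLocalRing A]
    (X' : Scheme.{u}) [X'.Over (Spec (CommRingCat.of A))] [Flat (X' ↘ Spec (CommRingCat.of A))]
    (q : ℕ)
    (hvan : Subsingleton (Coh.HH (pullback (X' ↘ Spec (CommRingCat.of A)) (Spec.map (CommRingCat.ofHom (IsLocalRing.residue A)))) (Coh.structureModule _) q)) :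
    Subsingleton (Sheaf.H (kernel (UnitsSh.comap
      (pullback.fst (X' ↘ Spec (CommRingCat.of A)) (Spec.map (CommRingCat.ofHom (IsLocalRing.residue A)))))) q) := by
  exact Groth.PicAux.PrincipalUnits.subsingleton_kernel_comap (IsPullback.of_hasPullback _ _) q hvan
    (IsLocalRing.maximalIdeal A) le_rfl (q := pullback.snd _ _) (IsPullback.of_hasPullback _ _)

end Groth.Agent.S18260
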