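import Groth.Statements.S18265
import Mathlib

set_option autoImplicit false
universe u
open InvQ

namespace Groth.Agent.S18265

/-- Let k be an algebraically closed field and n, m natural numbers, and let R be the ring of polynomial
functions of m vectors of k^(n+1) invariant under the special linear group SL(n+1, k) acting on all
the vectors at once and under the rescalings of the individual vectors by units with product 1
(equivalently: invariant and homogeneous of one and the same degree in each vector) — the graded
ring of invariant sections whose Proj is the quotient variety of ordered m-point sets in projective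
n-space. Then R is integrally closed in its field of fractions; hence that quotient variety is
normal. (Only the normality assertion of the source's statement is given here; its dimension,
rationality and singular-locus assertions are not.) -/
theorem result (k : Type u) [Field k] [IsAlgClosed k] (n m : ℕ) :
    IsIntegrallyClosed (W4c5pointsetsdelpezzo.invRing k n m) := by
  let T := W4c5pointsetsdelpezzo.TupleRing k n m
  let R := W4c5pointsetsdelpezzo.invRing k n m
  refine (isIntegrallyClosed_iff (FractionRing R)).mpr fun {x} hx => ?_
  obtain ⟨a, b, hb, rfl⟩ := IsFractionRing.div_surjective (A := R) x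
  have hb0 : (b : T) ≠ 0 := fun h => nonZeroDivisors.ne_zero hb (Subtype.ext h)
  have hinj : Function.Injective (algebraMap R (FractionRing T)) := by
    intro u v huv
    exact Subtype.ext (IsFractionRing.injective T (FractionRing T) huv)
  let φ : FractionRing R →ₐ[R] FractionRing T := IsFractionRing.liftAlgHom
    (g := Algebra.ofId R (FractionRing T)) hinj
  have hx' : IsIntegral T (φ (algebraMap R (FractionRing R) a / algebraMap R (FractionRing R) b)) :=
    (hx.map φ).tower_top
  obtain ⟨c, hc⟩ := IsIntegrallyClosed.isIntegral_iff.mp hx'
  rw [map_div₀, AlgHom.commutes, AlgHom.commutes, eq_div_iff] at hc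
  · have hcb : c * (b : T) = (a : T) := IsFractionRing.injective T (FractionRing T) (by
      rw [map_mul]; exact hc)
    have key : ∀ F : T →ₐ[k] T, F (a : T) = a → F (b : T) = b → F c = c := fun F ha hb' => by
      refine mul_right_cancel₀ hb0 ?_
      calc F c * (b : T) = F (c * (b : T)) := by rw [map_mul, hb']
        _ = c * (b : T) := by rw [hcb, ha]
    have hmem : c ∈ R := by
      refine Algebra.mem_inf.mpr ⟨Algebra.mem_iInf.mpr fun g => ?_, Algebra.mem_iInf.mpr fun s => ?_⟩
      · exact key _ (Algebra.mem_iInf.mp (Algebra.mem_inf.mp a.2).1 g)
          (Algebra.mem_iInf.mp (Algebra.mem_inf.mp b.2).1 g)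
      · exact key _ (Algebra.mem_iInf.mp (Algebra.mem_inf.mp a.2).2 s)
          (Algebra.mem_iInf.mp (Algebra.mem_inf.mp b.2).2 s)
    refine ⟨⟨c, hmem⟩, ?_⟩
    rw [eq_div_iff (IsFractionRing.to_map_ne_zero_of_mem_nonZeroDivisors hb), ← map_mul]
    exact congrArg _ (Subtype.ext hcb)
  · exact fun h => hb0 (IsFractionRing.injective T (FractionRing T) (h.trans (map_zero _).symm))

end Groth.Agent.S18265
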