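import Groth.Statements.S18266
import Groth.Agent.Flatmor4.FlatImage
import Groth.Agent.AlgSp3.KerFlat
import Groth.Agent.VarietyBC.BC

set_option autoImplicit false
universe u
open CategoryTheory AlgebraicGeometry
open FDesc CategoryTheory.Limits

namespace Groth.Agent.S18266

/-- Let A be a discrete valuation ring, η the generic point of Spec A, and f : X → Spec A a morphism
from an arbitrary scheme X. The scheme-theoretic closure of the generic fibre X_η in X (the flat
completion) is flat over Spec A, and it is the largest closed subscheme of X flat over Spec A: for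
every closed immersion i : Z → X with Z flat over Spec A, the ideal sheaf of the flat completion is
contained in the ideal sheaf of i. -/
theorem result (A : Type u) [CommRing A] [IsDomain A]
    [IsDiscreteValuationRing A] {X : Scheme.{u}} (f : X ⟶ Spec (CommRingCat.of A))
    (η : ↥(Spec (CommRingCat.of A))) (hη : η.asIdeal = ⊥) :
    Flat ((f.fiberι η).imageι ≫ f) ∧
      ∀ (Z : Scheme.{u}) (i : Z ⟶ X), IsClosedImmersion i → Flat (i ≫ f) → (f.fiberι η).ker ≤ i.ker := by
  let Y := Spec (CommRingCat.of A)
  haveI : IsIntegral Y := inferInstance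
  have hηgen : η = genericPoint Y := by
    refine (((genericPoint_spec Y).specializes (Set.mem_univ η)).antisymm ?_).eq.symm
    exact (PrimeSpectrum.le_iff_specializes η (genericPoint Y)).1
      ((PrimeSpectrum.asIdeal_le_asIdeal _ _).1 (hη.trans_le bot_le))
  have hfield : IsField (Y.presheaf.stalk η) := by
    rw [hηgen]; exact Field.toIsField Y.functionField
  haveI : Flat (Y.fromSpecStalk η) := Groth.VarietyBC.flat_fromSpecStalk Y η
  haveI : IsIso (Y.residue η) := by
    rw [ConcreteCategory.isIso_iff_bijective]
    refine ⟨(injective_iff_map_eq_zero _).2 fun a ha => ?_, Ideal.Quotient.mk_surjective⟩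
    have ha' : a ∈ IsLocalRing.maximalIdeal (Y.presheaf.stalk η) := (IsLocalRing.residue_eq_zero_iff a).1 ha
    rwa [IsLocalRing.isField_iff_maximalIdeal_eq.1 hfield, Ideal.mem_bot] at ha'
  haveI : Flat (Y.fromSpecResidueField η) := by
    unfold Scheme.fromSpecResidueField; infer_instance
  haveI : IsDominant (Y.fromSpecResidueField η) := by
    rw [isDominant_iff, denseRange_iff_closure_range, Scheme.range_fromSpecResidueField, hηgen]
    exact genericPoint_closure _
  have hker : (Y.fromSpecResidueField η).ker = ⊥ :=
    ((isSchemeTheoreticallyDominant_iff_isDominant _).2 ‹_›).ker_eq_bot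
  refine ⟨?_, fun Z i _ hfl => ?_⟩
  · haveI : Flat (f.fiberι η ≫ f) := by
      rw [show f.fiberι η ≫ f = f.fiberToSpecResidueField η ≫ Y.fromSpecResidueField η from pullback.condition]
      infer_instance
    exact Groth.Flatmor4.flat_imageι_comp (f.fiberι η ≫ f) f (f.fiberι η) rfl
  · haveI : Flat (i ≫ f) := hfl
    let u : pullback (i ≫ f) (Y.fromSpecResidueField η) ⟶ Z := pullback.fst _ _
    haveI : QuasiCompact (Y.fromSpecResidueField η) := inferInstance
    have hu : u.ker = ⊥ := by
      rw [Groth.AlgSp3.ker_of_isPullback_of_flat (IsPullback.of_hasPullback (i ≫ f) (Y.fromSpecResidueField η)).flip,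
        hker, Scheme.IdealSheafData.comap_bot]
    let v : pullback (i ≫ f) (Y.fromSpecResidueField η) ⟶ f.fiber η :=
      pullback.lift (u ≫ i) (pullback.snd _ _) (by rw [Category.assoc]; exact pullback.condition)
    calc (f.fiberι η).ker ≤ (v ≫ f.fiberι η).ker := Scheme.Hom.le_ker_comp _ _
      _ = (u ≫ i).ker := by rw [show v ≫ f.fiberι η = u ≫ i from pullback.lift_fst _ _ _]
      _ = i.ker := by rw [Scheme.Hom.ker_comp, hu, Scheme.IdealSheafData.map_bot]

end Groth.Agent.S18266
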