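import Groth.Statements.S18267
import Mathlib
import Groth.Agent.Chow.Projective
import Groth.Agent.NeronArea.SmoothLocusNMP
import Groth.Agent.Curves1.CurveMor.Flat
-- import your own Groth.Agent.* helpers here

set_option autoImplicit false
open CategoryTheory CategoryTheory.Limits AlgebraicGeometry
open ZCorr

namespace Groth.Agent.S18267

open CategoryTheory CategoryTheory.Limits AlgebraicGeometry in
theorem isFinite_flat_aux {C P Z : Scheme.{0}} (pC : C ⟶ Spec (CommRingCat.of ℂ)) [Smooth pC] [QuasiCompact pC]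
    [AlgebraicGeometry.IsIntegral C] [AlgebraicGeometry.IsIntegral Z] (hdimC : topologicalKrullDim C = 1)
    (hdimZ : topologicalKrullDim Z = 1) (i : Z ⟶ P) [IsClosedImmersion i] (q : P ⟶ C) [IsProper q]
    (hsurj : Function.Surjective ⇑(i ≫ q)) : IsFinite (i ≫ q) ∧ Flat (i ≫ q) := by
  haveI : LocallyOfFiniteType pC := inferInstance
  have hnt : (Set.range (i ≫ q).base).Nontrivial := by
    have hr : Set.range ⇑(i ≫ q) = Set.univ := hsurj.range_eq
    show (Set.range ⇑(i ≫ q)).Nontrivial
    rw [hr]
    by_contra h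
    rw [Set.nontrivial_univ_iff, not_nontrivial_iff_subsingleton] at h
    have hle : topologicalKrullDim C ≤ 0 := by
      haveI : Subsingleton (TopologicalSpace.IrreducibleCloseds C) := ⟨fun a b => TopologicalSpace.IrreducibleCloseds.ext
        (a.2.nonempty.eq_univ.trans b.2.nonempty.eq_univ.symm)⟩
      exact Order.krullDim_nonpos_of_subsingleton
    rw [hdimC] at hle
    exact absurd hle (by norm_num)
  have hgen : (i ≫ q) (genericPoint Z) = genericPoint C :=
    Groth.Curves1.CurveMor.map_genericPoint pC (i ≫ q) hdimC.le hnt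
  have hspec : Pi1.IsNormalScheme (Spec (CommRingCat.of ℂ)) := fun y => by
    have hy : y = genericPoint (Spec (CommRingCat.of ℂ)) := @Subsingleton.elim (PrimeSpectrum ℂ) _ _ _
    subst hy
    exact ⟨inferInstanceAs (IsDomain (Spec (CommRingCat.of ℂ)).functionField),
      inferInstanceAs (IsIntegrallyClosed (Spec (CommRingCat.of ℂ)).functionField)⟩
  have hnorm : Pi1.IsNormalScheme C := Groth.NeronArea.isNormalScheme_of_smooth pC hspec
  haveI : IsLocallyNoetherian C := LocallyOfFiniteType.isLocallyNoetherian pC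
  haveI : Flat (i ≫ q) := Groth.Curves1.CurveMor.flat_of_dominant (i ≫ q) hgen (fun y => (hnorm y).2) hdimC.le
  haveI : LocallyQuasiFinite (i ≫ q) := Groth.Curves1.CurveMor.locallyQuasiFinite ((i ≫ q) ≫ pC) pC (i ≫ q) rfl hdimZ.le
    (Groth.Curves1.CurveMor.not_isClosed_map ((i ≫ q) ≫ pC) (i ≫ q) hdimZ.le hdimC hgen)
  exact ⟨IsFinite.of_isProper_of_locallyQuasiFinite (i ≫ q), inferInstance⟩


/-- Over the complex numbers, suppose C is a quasi-projective curve that is smooth and irreducible and X
is a projective variety that is smooth and irreducible; take Z to be an integral closed subscheme of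
C × X of dimension one whose projection to C is surjective (a non-vertical irreducible component of
a correspondence from C to X). Then the projection Z → C is finite and flat. -/
theorem result
    (C X : Scheme.{0}) [C.Over (Spec (CommRingCat.of ℂ))] [X.Over (Spec (CommRingCat.of ℂ))]
    [AlgebraicGeometry.IsIntegral C] [Smooth (C ↘ Spec (CommRingCat.of ℂ))] (hC : RelProj.IsHQuasiProjective (C ↘ Spec (CommRingCat.of ℂ)))
    (hdimC : topologicalKrullDim C = 1)
    [AlgebraicGeometry.IsIntegral X] [Smooth (X ↘ Spec (CommRingCat.of ℂ))] (hX : RelProj.IsHProjective (X ↘ Spec (CommRingCat.of ℂ)))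
    {Z : Scheme.{0}} (i : Z ⟶ pullback (C ↘ Spec (CommRingCat.of ℂ)) (X ↘ Spec (CommRingCat.of ℂ))) [IsClosedImmersion i]
    [AlgebraicGeometry.IsIntegral Z] (hdimZ : topologicalKrullDim Z = 1)
    (hsurj : Function.Surjective ⇑(i ≫ pullback.fst (C ↘ Spec (CommRingCat.of ℂ)) (X ↘ Spec (CommRingCat.of ℂ)))) :
    IsFinite (i ≫ pullback.fst (C ↘ Spec (CommRingCat.of ℂ)) (X ↘ Spec (CommRingCat.of ℂ))) ∧
      Flat (i ≫ pullback.fst (C ↘ Spec (CommRingCat.of ℂ)) (X ↘ Spec (CommRingCat.of ℂ))) := by
  haveI : QuasiCompact (C ↘ Spec (CommRingCat.of ℂ)) := by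
    obtain ⟨n, j, hj, hjc, e⟩ := hC
    haveI := Groth.Variety2.isProper_projSpaceOver_toBase n (Spec (CommRingCat.of ℂ))
    rw [← e]; infer_instance
  haveI : IsProper (X ↘ Spec (CommRingCat.of ℂ)) := Groth.Chow.isProper_of_isHProjective hX
  exact isFinite_flat_aux (C ↘ Spec (CommRingCat.of ℂ)) hdimC hdimZ i _ hsurj

end Groth.Agent.S18267
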