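import Groth.Statements.S18268
import Mathlib
import Groth.Agent.Cycles.StalkPrimes
import Groth.Agent.Chow.Projective
-- import your own Groth.Agent.* helpers here

set_option autoImplicit false
open CategoryTheory CategoryTheory.Limits AlgebraicGeometry
open ZCorr

namespace Groth.Agent.S18268

section
open CategoryTheory CategoryTheory.Limits AlgebraicGeometry IsLocalRing

theorem isClosed_singleton_of_finite {T : Type*} [TopologicalSpace T] [JacobsonSpace T] {Z : Set T}
    (hZ : IsClosed Z) (hfin : Z.Finite) {z : T} (hz : z ∈ Z) : IsClosed ({z} : Set T) := by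
  have h1 : closure (Z ∩ closedPoints T) = Z := closure_inter_closedPoints hZ
  have h2 : IsClosed (Z ∩ closedPoints T) := by
    rw [← Set.biUnion_of_singleton (Z ∩ closedPoints T)]
    exact (hfin.subset Set.inter_subset_left).isClosed_biUnion fun x hx => hx.2
  rw [h2.closure_eq] at h1
  rw [← h1] at hz
  exact hz.2

theorem fibreMult_ne_zero {P C : Scheme} [IsLocallyNoetherian P] (g : P ⟶ C) (v w : P) (h : w ⤳ v)
    (hiso : ∀ z, w ⤳ z → z ⤳ v → g z = g v → z = v) : AlgEqCyc.fibreMult g v w h ≠ 0 := by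
  unfold AlgEqCyc.fibreMult
  set R := P.presheaf.stalk v
  set ψ : C.presheaf.stalk (g v) →+* Cyc.LocQuot v w h :=
    (Ideal.Quotient.mk (RingHom.ker (Cyc.specMap v w h))).comp (g.stalkMap v).hom with hψ
  set J := (maximalIdeal (C.presheaf.stalk (g v))).map ψ with hJ
  let π : R →+* Cyc.LocQuot v w h ⧸ J :=
    (Ideal.Quotient.mk J).comp (Ideal.Quotient.mk (RingHom.ker (Cyc.specMap v w h)))
  have hπ : Function.Surjective π := Ideal.Quotient.mk_surjective.comp Ideal.Quotient.mk_surjective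
  have hJtop : J ≠ ⊤ := by
    have hker : RingHom.ker (Cyc.specMap v w h) ≤ maximalIdeal R :=
      le_maximalIdeal (RingHom.ker_ne_top _)
    have : Nontrivial (Cyc.LocQuot v w h) := Ideal.Quotient.nontrivial_iff.2 (RingHom.ker_ne_top _)
    have : IsLocalHom (Ideal.Quotient.mk (RingHom.ker (Cyc.specMap v w h))) :=
      Function.Surjective.isLocalHom _ Ideal.Quotient.mk_surjective
    have : IsLocalRing (Cyc.LocQuot v w h) :=
      IsLocalRing.of_surjective' _ Ideal.Quotient.mk_surjective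
    have : IsLocalHom ψ := RingHom.isLocalHom_comp _ _
    exact ne_top_of_le_ne_top (maximalIdeal.isMaximal _).ne_top
      (Ideal.map_le_of_le_comap (fun x hx => by
        simpa [mem_maximalIdeal, mem_nonunits_iff] using hx))
  have : Nontrivial (Cyc.LocQuot v w h ⧸ J) := Ideal.Quotient.nontrivial_iff.2 hJtop
  have key : ∀ Q : Ideal (Cyc.LocQuot v w h ⧸ J), Q.IsPrime → Q.IsMaximal := by
    intro Q hQ
    let Q' : PrimeSpectrum R := ⟨Q.comap π, inferInstance⟩
    have hzv : P.fromSpecStalk v Q' ⤳ v :=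
      Scheme.range_fromSpecStalk.le ⟨Q', rfl⟩
    have hle : (Groth.Cycles.genPrime h).asIdeal ≤ Q'.asIdeal := by
      rw [Groth.Cycles.genPrime_asIdeal]
      intro a ha
      show π a ∈ Q
      have : Ideal.Quotient.mk (RingHom.ker (Cyc.specMap v w h)) a = 0 := Ideal.Quotient.eq_zero_iff_mem.2 ha
      simp [π, this]
    have hwz : w ⤳ P.fromSpecStalk v Q' := by
      conv_lhs => rw [← Groth.Cycles.fromSpecStalk_genPrime h]
      exact ((PrimeSpectrum.le_iff_specializes _ _).mp hle).map (P.fromSpecStalk v).continuous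
    have hg : g (P.fromSpecStalk v Q') = g v := by
      have hcl : Spec.map (g.stalkMap v) Q' = closedPoint _ := by
        apply PrimeSpectrum.ext
        refine ((maximalIdeal.isMaximal (C.presheaf.stalk (g v))).eq_of_le (Ideal.IsPrime.ne_top ?_) ?_).symm
        · exact (Spec.map (g.stalkMap v) Q').2
        intro a ha
        show π ((g.stalkMap v).hom a) ∈ Q
        have : π ((g.stalkMap v).hom a) = 0 :=
          Ideal.Quotient.eq_zero_iff_mem.2 (Ideal.mem_map_of_mem ψ ha)
        simp [this]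
      show (P.fromSpecStalk v ≫ g) Q' = g v
      rw [← Scheme.SpecMap_stalkMap_fromSpecStalk]
      change C.fromSpecStalk (g v) (Spec.map (g.stalkMap v) Q') = g v
      rw [hcl, Scheme.fromSpecStalk_closedPoint]
    have hQ' : Q' = closedPoint R := (P.fromSpecStalk v).isEmbedding.injective
      ((hiso _ hwz hzv hg).trans Scheme.fromSpecStalk_closedPoint.symm)
    have hmax : (Q.comap π).IsMaximal := by
      rw [show Q.comap π = Q'.asIdeal from rfl, hQ']; exact maximalIdeal.isMaximal R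
    have := Ideal.map_eq_top_or_isMaximal_of_surjective π hπ hmax
    rw [Ideal.map_comap_of_surjective π hπ] at this
    exact this.resolve_left hQ.ne_top
  have : IsNoetherianRing (Cyc.LocQuot v w h ⧸ J) := isNoetherianRing_of_surjective R _ π hπ
  have : Ring.KrullDimLE 0 (Cyc.LocQuot v w h ⧸ J) := Ring.krullDimLE_zero_iff.2 key
  have : IsArtinianRing (Cyc.LocQuot v w h ⧸ J) := IsNoetherianRing.isArtinianRing_of_krullDimLE_zero
  have hs : Function.Surjective (algebraMap R (Cyc.LocQuot v w h ⧸ J)) := hπ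
  have : IsArtinian R (Cyc.LocQuot v w h ⧸ J) := isArtinian_of_surjective_algebraMap hs
  have : IsNoetherian R (Cyc.LocQuot v w h ⧸ J) := by
    have : Module.Finite R (Cyc.LocQuot v w h ⧸ J) := Module.Finite.of_surjective (Algebra.linearMap R _) hs
    infer_instance
  have hne : Module.length R (Cyc.LocQuot v w h ⧸ J) ≠ ⊤ := Module.length_ne_top
  have hpos : 0 < Module.length R (Cyc.LocQuot v w h ⧸ J) := Module.length_pos
  intro h0
  rcases ENat.toNat_eq_zero.1 h0 with h0 | h0
  · exact hpos.ne' h0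
  · exact hne h0

theorem cycle_eq_zero {K : Type} [Field K] [IsAlgClosed K] {X W : Scheme} (p : X ⟶ Spec (CommRingCat.of K))
    (q : W ⟶ Spec (CommRingCat.of K)) [IsProper p] [LocallyOfFiniteType q] [IsIntegral W]
    (Γ : AlgebraicCycle (pullback p q) ℤ)
    (hvert : ∀ ξ, Γ ξ ≠ 0 → pullback.snd p q ξ = genericPoint W)
    (U : W.Opens) (hU : (U : Set W).Nonempty)
    (hfin : ∀ ξ, Γ ξ ≠ 0 → ∀ w ∈ U, (closure {ξ} ∩ pullback.snd p q ⁻¹' {w}).Finite)
    (hzero : ∀ (u : Spec (CommRingCat.of K) ⟶ W) (hu : u ≫ q = 𝟙 _),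
      u (IsLocalRing.closedPoint K) ∈ U → ∀ x : X, AlgEqCyc.fibreFun p q Γ u hu x = 0) :
    Γ = 0 := by
  ext ξ
  by_contra hne
  change Γ ξ ≠ 0 at hne
  set π := pullback.snd p q
  have hηU : genericPoint W ∈ U := (genericPoint_spec W).mem_open_set_iff U.2 |>.2 (by simpa using hU)
  -- the only point of the closure of a component over the generic point
  have honly : ∀ ξ', Γ ξ' ≠ 0 → ∀ z, ξ' ⤳ z → π z = genericPoint W → z = ξ' := by
    intro ξ' hξ' z hz hzη
    let e := π.fiberHomeo (genericPoint W)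
    have : LocallyOfFiniteType π := inferInstanceAs (LocallyOfFiniteType (pullback.snd p q))
    have : JacobsonSpace (π.fiber (genericPoint W)) := inferInstance
    have : JacobsonSpace (π ⁻¹' {genericPoint W}) := JacobsonSpace.of_isClosedEmbedding e.symm.isClosedEmbedding
    let Z : Set (π ⁻¹' {genericPoint W}) := Subtype.val ⁻¹' closure {ξ'}
    have hZ : Z.Finite := Set.Finite.of_finite_image ((hfin ξ' hξ' _ hηU).subset
      (by rintro _ ⟨a, ha, rfl⟩; exact ⟨ha, a.2⟩)) Subtype.val_injective.injOn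
    have hcl := isClosed_singleton_of_finite (isClosed_closure.preimage continuous_subtype_val) hZ
      (z := (⟨ξ', hvert _ hξ'⟩ : π ⁻¹' {genericPoint W})) (subset_closure rfl)
    have hsp : (⟨ξ', hvert _ hξ'⟩ : π ⁻¹' {genericPoint W}) ⤳ ⟨z, hzη⟩ :=
      (subtype_specializes_iff _ _).2 hz
    have := hsp.mem_closed (s := {⟨ξ', hvert _ hξ'⟩}) hcl rfl
    exact congrArg Subtype.val this
  -- bad locus
  let A : Set ↥(pullback p q) := ⋃ ξ' : {ξ' : ↥(pullback p q) // Γ ξ' ≠ 0 ∧ ξ' ≠ ξ}, closure {ξ} ∩ closure {ξ'.1}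
  have hlf : LocallyFinite fun ξ' : {ξ' : ↥(pullback p q) // Γ ξ' ≠ 0 ∧ ξ' ≠ ξ} => ({ξ'.1} : Set ↥(pullback p q)) := by
    intro z
    obtain ⟨t, ht, hf⟩ := Γ.supportLocallyFiniteWithinDomain z (Set.mem_univ z)
    refine ⟨t, ht, (hf.preimage Subtype.val_injective.injOn).subset ?_⟩
    rintro i ⟨a, (rfl : a = i.1), hat⟩
    exact ⟨hat, i.2.1⟩
  have hA : IsClosed A :=
    (hlf.closure.subset fun i => Set.inter_subset_right).isClosed_iUnion fun i => isClosed_closure.inter isClosed_closure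
  have hB : IsClosed (π '' A) := π.isClosedMap _ hA
  have hηB : genericPoint W ∉ π '' A := by
    rintro ⟨z, hz, hzη⟩
    obtain ⟨⟨ξ', hξ', hne'⟩, h1, h2⟩ := Set.mem_iUnion.1 hz
    exact hne' ((honly ξ' hξ' z (specializes_iff_mem_closure.2 h2) hzη).symm.trans
      (honly ξ hne z (specializes_iff_mem_closure.2 h1) hzη))
  have : JacobsonSpace W := LocallyOfFiniteType.jacobsonSpace q
  obtain ⟨w, ⟨hwU, hwB⟩, hwc⟩ := nonempty_inter_closedPoints
    (Z := (U : Set W) ∩ (π '' A)ᶜ) ⟨_, hηU, hηB⟩ (U.2.inter hB.isOpen_compl).isLocallyClosed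
  have himg : π '' closure {ξ} = Set.univ := by
    apply Set.eq_univ_of_univ_subset
    rw [← (genericPoint_spec W).def]
    exact closure_minimal (Set.singleton_subset_iff.2 ⟨ξ, subset_closure rfl, hvert _ hne⟩)
      (π.isClosedMap _ isClosed_closure)
  obtain ⟨z, hz, hzw⟩ : w ∈ π '' closure {ξ} := himg ▸ Set.mem_univ w
  let u := pointOfClosedPoint q w hwc
  have hu : u ≫ q = 𝟙 _ := pointOfClosedPoint_comp q w hwc
  have huw : u (IsLocalRing.closedPoint K) = w := pointOfClosedPoint_apply q w hwc _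
  -- z lies on the slice
  have hpb : IsPullback (AlgEqCyc.slice p q u hu) p π u := by
    refine IsPullback.of_right (h₁₂ := pullback.fst p q) (v₁₃ := p) (h₂₂ := q) ?_ ?_ (IsPullback.of_hasPullback p q)
    · simp only [AlgEqCyc.slice, pullback.lift_fst, hu]
      exact IsPullback.id_horiz p
    · exact pullback.lift_snd _ _ _
  obtain ⟨x, hx⟩ : z ∈ Set.range (AlgEqCyc.slice p q u hu) := by
    obtain ⟨o, hl, -⟩ := Scheme.exists_preimage_of_isPullback hpb z (IsLocalRing.closedPoint K) (hzw.trans huw.symm)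
    exact ⟨o, hl⟩
  have h0 := hzero u hu (huw.symm ▸ hwU) x
  have hsp : ξ ⤳ AlgEqCyc.slice p q u hu x := hx.symm ▸ specializes_iff_mem_closure.2 hz
  have huniq : ∀ i : {v : ↥(pullback p q) // Γ v ≠ 0 ∧ v ⤳ AlgEqCyc.slice p q u hu x}, i = ⟨ξ, hne, hsp⟩ := by
    rintro ⟨ξ', hξ', hs'⟩
    apply Subtype.ext
    by_contra hne'
    exact hwB ⟨z, Set.mem_iUnion.2 ⟨⟨ξ', hξ', hne'⟩, hz, specializes_iff_mem_closure.1 (hx ▸ hs')⟩, hzw⟩
  rw [AlgEqCyc.fibreFun, finsum_eq_single _ ⟨ξ, hne, hsp⟩ (fun i hi => absurd (huniq i) hi)] at h0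
  refine mul_ne_zero hne ?_ h0
  have : IsLocallyNoetherian (pullback p q) :=
    LocallyOfFiniteType.isLocallyNoetherian (pullback.fst p q ≫ p)
  refine Nat.cast_ne_zero.2 (fibreMult_ne_zero _ _ _ _ fun z' h1 h2 h3 => ?_)
  have : JacobsonSpace ↥(pullback p q) := LocallyOfFiniteType.jacobsonSpace (pullback.fst p q ≫ p)
  have hZc : IsClosed (closure {ξ} ∩ π ⁻¹' {w}) := isClosed_closure.inter (hwc.preimage π.continuous)
  have hz'w : z' ∈ π ⁻¹' {w} := by
    show π z' = w
    rw [h3, hx]; exact hzw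
  have hcl := isClosed_singleton_of_finite hZc (hfin ξ hne w hwU)
    (z := z') ⟨specializes_iff_mem_closure.1 h1, hz'w⟩
  have heq := h2.mem_closed (s := {z'}) hcl rfl
  exact (Set.mem_singleton_iff.1 heq).symm

end

/-- Over the complex numbers let W be a smooth irreducible quasi-projective variety of dimension n, X a
smooth irreducible projective variety and Γ an n-cycle on X × W, viewed as a correspondence from W
to X, with no vertical component (every point of the support of Γ maps to the generic point of W).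
If there is a nonempty open U ⊂ W over whose points the closures of the support points of Γ have
finite fibres, and such that for every complex point u of U the fibre cycle Γ_u on X vanishes, then
Γ = 0. Here Γ_u is the sum, over the support points ξ of Γ with coefficient Γ(ξ), of the fundamental
cycles of the scheme-theoretic fibres over u of the closures of ξ, read on X (the cycle-level fibre
of the family at u; it agrees with the refined intersection of Γ with X × {u} where the components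
are flat over u and has the same support wherever they are finite over u). -/
theorem result
    (W X : Scheme.{0}) [W.Over (Spec (CommRingCat.of ℂ))] [X.Over (Spec (CommRingCat.of ℂ))]
    [AlgebraicGeometry.IsIntegral W] [Smooth (W ↘ Spec (CommRingCat.of ℂ))] (hW : RelProj.IsHQuasiProjective (W ↘ Spec (CommRingCat.of ℂ)))
    (n : ℕ) (hdimW : topologicalKrullDim W = n)
    [AlgebraicGeometry.IsIntegral X] [Smooth (X ↘ Spec (CommRingCat.of ℂ))] (hX : RelProj.IsHProjective (X ↘ Spec (CommRingCat.of ℂ)))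
    (δ : ↥(pullback (X ↘ Spec (CommRingCat.of ℂ)) (W ↘ Spec (CommRingCat.of ℂ))) → ℤ)
    (hδ : Cyc.DeltaCompat (pullback.fst (X ↘ Spec (CommRingCat.of ℂ)) (W ↘ Spec (CommRingCat.of ℂ)) ≫ (X ↘ Spec (CommRingCat.of ℂ))) δ (fun _ => 0))
    (Γ : AlgebraicCycle (pullback (X ↘ Spec (CommRingCat.of ℂ)) (W ↘ Spec (CommRingCat.of ℂ))) ℤ)
    (hΓ : Γ ∈ Cyc.Zk (pullback (X ↘ Spec (CommRingCat.of ℂ)) (W ↘ Spec (CommRingCat.of ℂ))) δ n)
    (hvert : ∀ ξ, Γ ξ ≠ 0 → pullback.snd (X ↘ Spec (CommRingCat.of ℂ)) (W ↘ Spec (CommRingCat.of ℂ)) ξ = genericPoint W)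
    (U : W.Opens) (hU : (U : Set W).Nonempty)
    (hfin : ∀ ξ, Γ ξ ≠ 0 → ∀ w ∈ U,
      (closure {ξ} ∩ pullback.snd (X ↘ Spec (CommRingCat.of ℂ)) (W ↘ Spec (CommRingCat.of ℂ)) ⁻¹' {w}).Finite)
    (hzero : ∀ (u : Spec (CommRingCat.of ℂ) ⟶ W) (hu : u ≫ (W ↘ Spec (CommRingCat.of ℂ)) = 𝟙 _),
      u (IsLocalRing.closedPoint ℂ) ∈ U →
        ∀ x : X, AlgEqCyc.fibreFun (X ↘ Spec (CommRingCat.of ℂ)) (W ↘ Spec (CommRingCat.of ℂ)) Γ u hu x = 0) :
    Γ = 0 := by
  haveI : IsProper (X ↘ Spec (CommRingCat.of ℂ)) := Groth.Chow.isProper_of_isHProjective hX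
  exact cycle_eq_zero _ _ Γ hvert U hU hfin hzero

end Groth.Agent.S18268
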