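import Groth.Statements.S18272
import Groth.Agent.AbvarAlb.GenProper

set_option autoImplicit false
open CategoryTheory MonoidalCategory CartesianMonoidalCategory MonObj GrpObj AlgebraicGeometry
open AbVar

namespace Groth.Agent.S18272

/-- Let A be an abelian variety over the complex numbers (a proper integral group scheme over Spec of
the complex numbers), G an abstract group and f : A(ℂ) → G a homomorphism from the group of complex
points. If V ⊂ A is an irreducible closed subset containing the neutral element and every complex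
point lying in V is in the kernel of f, then there is an abelian subvariety A' ⊂ A (an integral
closed subgroup scheme) containing V and with all its complex points in the kernel of f. -/
theorem result
    (A : Over (Spec (CommRingCat.of ℂ))) [GrpObj A] [IsProper A.hom] [AlgebraicGeometry.IsIntegral A.left]
    (G : Type) [Group G] (f : (𝟙_ (Over (Spec (CommRingCat.of ℂ))) ⟶ A) →* G)
    (V : Set ↥A.left) (hVcl : IsClosed V) (hVirr : IsIrreducible V)
    (hV1 : Set.range ⇑(η[A]).left ⊆ V)
    (hVker : ∀ a : 𝟙_ (Over (Spec (CommRingCat.of ℂ))) ⟶ A, Set.range ⇑a.left ⊆ V → f a = 1) :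
    ∃ (B : Over (Spec (CommRingCat.of ℂ))) (_ : GrpObj B) (incl : B ⟶ A), IsMonHom incl ∧ IsClosedImmersion incl.left ∧
      AlgebraicGeometry.IsIntegral B.left ∧ V ⊆ Set.range ⇑incl.left ∧
      ∀ b : 𝟙_ (Over (Spec (CommRingCat.of ℂ))) ⟶ B, f (b ≫ incl) = 1 := by
  obtain ⟨Z, c, hc, hred, hrange⟩ := Groth.Abvar.exists_reduced_on A ⟨V, hVcl⟩
  have hrange' : Set.range c.left = V := hrange
  have : IrreducibleSpace Z.left := by
    have : IrreducibleSpace ↥(Set.range c.left) :=
      isIrreducible_iff_irreducibleSpace.mp (hrange' ▸ hVirr)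
    exact c.left.isClosedEmbedding.isEmbedding.toHomeomorph.irreducibleSpace_iff.mpr this
  have : AlgebraicGeometry.IsIntegral Z.left := isIntegral_of_irreducibleSpace_of_isReduced _
  have : IsProper Z.hom := by rw [← Over.w c]; infer_instance
  obtain ⟨⟨M, inst, i, hi, hci, hMp, hMg⟩, hdiff, hgen⟩ := Groth.AbvarAlb.exists_generated c
  have := Groth.Abvar.isIntegral_left M
  refine ⟨M, inst, i, hi, hci, ‹_›, ?_, fun b => ?_⟩
  · refine Groth.AlgGrp1.subset_of_rpt hVcl.isLocallyClosed i.left.isClosedEmbedding.isClosed_range fun x hx => ?_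
    obtain ⟨z, hz⟩ := Groth.AlgGrp1.exists_rpt_lift c x (hrange'.ge hx)
    obtain ⟨z₀, hz₀⟩ := Groth.AlgGrp1.exists_rpt_lift c η[A] (hrange'.ge (hV1 ⟨_, rfl⟩))
    obtain ⟨s, hs⟩ := hdiff z z₀
    rw [hz, hz₀, show (η[A] : _ ⟶ A) = 1 from MonObj.one_eq_one A, inv_one, _root_.mul_one] at hs
    exact ⟨Groth.AlgGrp1.rpt s, congr(($hs).left (IsLocalRing.closedPoint ℂ))⟩
  · have h := (Subgroup.closure_le f.ker).mpr ?_ (hgen b)
    · exact h
    rintro _ ⟨⟨a, a'⟩, rfl⟩
    have hker : ∀ a : 𝟙_ (Over (Spec (CommRingCat.of ℂ))) ⟶ Z, f (a ≫ c) = 1 := fun a => hVker _ (by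
      rintro _ ⟨t, rfl⟩
      rw [← hrange']
      exact ⟨a.left t, rfl⟩)
    show f ((a ≫ c) * (a' ≫ c)⁻¹) = 1
    rw [map_mul, map_inv, hker, hker, inv_one, _root_.mul_one]

end Groth.Agent.S18272
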