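import Groth.Statements.S18275
import Groth.Agent.Cycles.MoveZero
import Groth.Agent.Cycles.CorrGlue
import Groth.Agent.Chow.Projective
-- import your own Groth.Agent.* helpers here

set_option autoImplicit false
open CategoryTheory CategoryTheory.Limits AlgebraicGeometry
open ZCorr

namespace Groth.Agent.S18275

/-- Over the complex numbers let W be a smooth irreducible projective variety, U ⊂ W a nonempty open
subset and z a 0-cycle on W (dimension function induced from the base). Then z is rationally
equivalent to a 0-cycle supported in U. -/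
theorem result
    (W : Scheme.{0}) [W.Over (Spec (CommRingCat.of ℂ))]
    [AlgebraicGeometry.IsIntegral W] [Smooth (W ↘ Spec (CommRingCat.of ℂ))] (hW : RelProj.IsHProjective (W ↘ Spec (CommRingCat.of ℂ)))
    (δ : W → ℤ) (hδ : Cyc.DeltaCompat (W ↘ Spec (CommRingCat.of ℂ)) δ (fun _ => 0))
    (U : W.Opens) (hU : (U : Set W).Nonempty)
    (z : AlgebraicCycle W ℤ) (hz : z ∈ Cyc.Zk W δ 0) :
    ∃ z' : AlgebraicCycle W ℤ, z' ∈ Cyc.Zk W δ 0 ∧ (∀ w, z' w ≠ 0 → w ∈ U) ∧ Cyc.RatEquiv δ 0 z z' := by
  haveI : IsProper (W ↘ Spec (CommRingCat.of ℂ)) := Groth.Chow.isProper_of_isHProjective hW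
  exact Groth.Cycles.MoveZero.exists_move (W ↘ Spec (CommRingCat.of ℂ)) hδ
    (Groth.Cycles.CorrGlue.exists_affine_finset hW) U hU z hz

end Groth.Agent.S18275
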