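import Groth.Statements.S18276
import Groth.Agent.Cycles.CorrEff
import Groth.Agent.Chow.Projective
import Groth.Agent.Variety2.ProjDim
-- import your own Groth.Agent.* helpers here

set_option autoImplicit false
open CategoryTheory CategoryTheory.Limits AlgebraicGeometry
open ZCorr

namespace Groth.Agent.S18276

/-- Over the complex numbers let X be a smooth irreducible projective variety, with symmetric products
Sym^n X (quotients of the fibre powers X^n by the symmetric groups) for all n, and let α, β be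
effective 0-cycles of degree d on X. Then α and β are rationally equivalent if and only if there
exist m ≥ 0, an effective 0-cycle γ of degree m, a morphism f : P^1 → Sym^{d+m} X over the base and
complex points t₀, t₁ of P^1 with f(t₀) the point of α + γ and f(t₁) the point of β + γ. (The
zero-cycle attached to a complex point of Sym^n X is the sum of the coordinates of a lift to X^n;
the source takes t₀ = 0 and t₁ = ∞, which is the same condition up to an automorphism of P^1.) -/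
theorem result
    (X : Scheme.{0}) [X.Over (Spec (CommRingCat.of ℂ))]
    [AlgebraicGeometry.IsIntegral X] [Smooth (X ↘ Spec (CommRingCat.of ℂ))] (hX : RelProj.IsHProjective (X ↘ Spec (CommRingCat.of ℂ)))
    (Sy : ℕ → Scheme.{0}) (q : (n : ℕ) → (SymProd.fibPow (X ↘ Spec (CommRingCat.of ℂ)) n ⟶ Sy n))
    (g : (n : ℕ) → (Sy n ⟶ Spec (CommRingCat.of ℂ))) (hS : ∀ n, SymProd.IsSymProd (X ↘ Spec (CommRingCat.of ℂ)) n (q n) (g n))
    (δ : X → ℤ) (hδ : Cyc.DeltaCompat (X ↘ Spec (CommRingCat.of ℂ)) δ (fun _ => 0))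
    (d : ℕ) (α β : AlgebraicCycle X ℤ) (hα : α ∈ Cyc.Zk X δ 0) (hβ : β ∈ Cyc.Zk X δ 0)
    (hα0 : ∀ x, 0 ≤ α x) (hβ0 : ∀ x, 0 ≤ β x) (hαd : ∑ᶠ x, α x = (d : ℤ)) (hβd : ∑ᶠ x, β x = (d : ℤ)) :
    Cyc.RatEquiv δ 0 α β ↔
      ∃ (m : ℕ) (γ : AlgebraicCycle X ℤ), γ ∈ Cyc.Zk X δ 0 ∧ (∀ x, 0 ≤ γ x) ∧ ∑ᶠ x, γ x = (m : ℤ) ∧
        ∃ (f : CohB1.ProjSpace 1 ℂ ⟶ Sy (d + m)) (t₀ t₁ : Spec (CommRingCat.of ℂ) ⟶ CohB1.ProjSpace 1 ℂ),
          f ≫ g (d + m) = CohB1.ProjSpace.toSpec 1 ℂ ∧ t₀ ≫ CohB1.ProjSpace.toSpec 1 ℂ = 𝟙 _ ∧ t₁ ≫ CohB1.ProjSpace.toSpec 1 ℂ = 𝟙 _ ∧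
          ZCorr.IsCycleOfSymPt (X ↘ Spec (CommRingCat.of ℂ)) (d + m) (q (d + m)) (t₀ ≫ f) ⇑(α + γ) ∧
          ZCorr.IsCycleOfSymPt (X ↘ Spec (CommRingCat.of ℂ)) (d + m) (q (d + m)) (t₁ ≫ f) ⇑(β + γ) := by
  haveI : IsProper (X ↘ Spec (CommRingCat.of ℂ)) := Groth.Chow.isProper_of_isHProjective hX
  have hAF : ∀ T : Finset X, ∃ U : X.Opens, IsAffineOpen U ∧ ∀ x ∈ T, x ∈ U :=
    Groth.Cycles.CorrGlue.exists_affine_finset hX
  obtain ⟨e, he⟩ : ∃ e : CohB1.ProjSpace 1 ℂ ≅ Groth.Cycles.CorrP1.Line ℂ,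
      e.hom ≫ Groth.Cycles.CorrP1.pC ℂ = CohB1.ProjSpace.toSpec 1 ℂ := Groth.Cycles.CorrBase.exists_overIso 1 ℂ
  have he' : e.inv ≫ CohB1.ProjSpace.toSpec 1 ℂ = Groth.Cycles.CorrP1.pC ℂ := by rw [← he, e.inv_hom_id_assoc]
  constructor
  · intro h
    obtain ⟨m, γ, hγ, hγ0, hγd, f, t₀, t₁, hf, ht₀, ht₁, h₀, h₁⟩ :=
      Groth.Cycles.CorrEff.exists_line (X ↘ Spec (CommRingCat.of ℂ)) hAF hS hδ d α β hβ hβ0 hβd h
    refine ⟨m, γ, hγ, hγ0, hγd, e.hom ≫ f, t₀ ≫ e.inv, t₁ ≫ e.inv, ?_, ?_, ?_, ?_, ?_⟩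
    · rw [Category.assoc, hf, he]
    · rw [Category.assoc, he', ht₀]
    · rw [Category.assoc, he', ht₁]
    · rwa [Category.assoc, e.inv_hom_id_assoc]
    · rwa [Category.assoc, e.inv_hom_id_assoc]
  · rintro ⟨m, γ, -, -, -, f, t₀, t₁, hf, ht₀, ht₁, h₀, h₁⟩
    have hdim : topologicalKrullDim (Groth.Cycles.CorrP1.Line ℂ) = (1 : ℕ) := by
      rw [← e.hom.homeomorph.isHomeomorph.topologicalKrullDim_eq]
      exact Groth.Variety2.PSpace.dim_projSpace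
    have key := Groth.Cycles.CorrEff.ratEquiv_of_line (X ↘ Spec (CommRingCat.of ℂ)) hAF hδ hdim (hS (d + m))
      (α + γ) (β + γ) (e.inv ≫ f) (t₀ ≫ e.hom) (t₁ ≫ e.hom)
      (by rw [Category.assoc, hf, he']) (by rw [Category.assoc, he, ht₀]) (by rw [Category.assoc, he, ht₁])
      (by rwa [Category.assoc, e.hom_inv_id_assoc]) (by rwa [Category.assoc, e.hom_inv_id_assoc])
    have hab : α + γ - (β + γ) = α - β := by abel
    rw [Cyc.RatEquiv, hab] at key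
    exact key

end Groth.Agent.S18276
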