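import Groth.Statements.S18281
import Mathlib
import Groth.Agent.S0386
import Groth.Agent.Curves1.CurveMor.Basic
import Groth.Agent.Chow.Projective
import Groth.Agent.Variety2.DimScheme
-- import your own Groth.Agent.* helpers here

set_option autoImplicit false
universe u
open CategoryTheory CategoryTheory.Limits AlgebraicGeometry
open ZCorr

namespace Groth.Agent.S18281

open CategoryTheory CategoryTheory.Limits AlgebraicGeometry in
theorem finite_fibre_iff {Z W : Scheme.{u}} (f : Z ⟶ W) [LocallyOfFiniteType f] [QuasiCompact f] (w : W) :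
    (f ⁻¹' {w}).Finite ↔ ∀ z, f z = w → f.QuasiFiniteAt z := by
  haveI : LocallyOfFiniteType (f.fiberToSpecResidueField w) :=
    inferInstanceAs (LocallyOfFiniteType (pullback.snd f (W.fromSpecResidueField w)))
  haveI : QuasiCompact (f.fiberToSpecResidueField w) :=
    inferInstanceAs (QuasiCompact (pullback.snd f (W.fromSpecResidueField w)))
  haveI : JacobsonSpace (f.fiber w) := LocallyOfFiniteType.jacobsonSpace (f.fiberToSpecResidueField w)
  haveI : CompactSpace (f.fiber w) := QuasiCompact.compactSpace_of_compactSpace (f.fiberToSpecResidueField w)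
  constructor
  · intro hfin z hz
    subst hz
    haveI : Finite (f ⁻¹' {f z}) := hfin.to_subtype
    haveI : Finite (f.fiber (f z)) := Finite.of_equiv _ (f.fiberHomeo (f z)).symm.toEquiv
    rw [Scheme.Hom.quasiFiniteAt_iff_isOpen_singleton_asFiber]
    exact isOpen_discrete _
  · intro h
    haveI : DiscreteTopology (f.fiber w) := by
      rw [discreteTopology_iff_isOpen_singleton]
      intro p
      have hp : f (f.fiberι w p) = w := ((f.range_fiberι w).le ⟨p, rfl⟩ : _)
      obtain ⟨z, hz⟩ : ∃ z, f.fiberι w p = z := ⟨_, rfl⟩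
      rw [hz] at hp
      have hq := h z hp
      subst hp
      rw [Scheme.Hom.quasiFiniteAt_iff_isOpen_singleton_asFiber] at hq
      convert hq using 2
      exact (f.fiberι _).isEmbedding.injective (hz.trans (f.fiberι_asFiber _).symm)
    haveI : Finite (f.fiber w) := finite_of_compact_of_discrete
    haveI : Finite (f ⁻¹' {w}) := Finite.of_equiv _ (f.fiberHomeo w).toEquiv
    exact Set.toFinite _

open CategoryTheory CategoryTheory.Limits AlgebraicGeometry in
theorem main {Z W : Scheme.{u}} {k : Type u} [Field k] (pW : W ⟶ Spec (CommRingCat.of k)) [LocallyOfFiniteType pW]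
    [IsIntegral W] [IsIntegral Z] (n : ℕ) (hdimW : topologicalKrullDim W = n) (hdimZ : topologicalKrullDim Z = n)
    (f : Z ⟶ W) [IsProper f] :
    (IsOpen {w : W | ∀ z : Z, f z = w → (f.stalkMap z).hom.Flat} ∧
      {w : W | ∀ z : Z, f z = w → (f.stalkMap z).hom.Flat}.Nonempty) ∧
    ∃ U : W.Opens, (U : Set W) = {w : W | (f ⁻¹' {w}).Finite} ∧ (U : Set W).Nonempty ∧ IsFinite (f ∣_ U) := by
  haveI : IsLocallyNoetherian W := LocallyOfFiniteType.isLocallyNoetherian pW
  haveI : LocallyOfFinitePresentation f := LocallyOfFinitePresentation.iff_locallyOfFiniteType.2 inferInstance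
  refine ⟨⟨?_, ⟨genericPoint W, fun z hz => ?_⟩⟩, ?_⟩
  · have e : {w : W | ∀ z : Z, f z = w → (f.stalkMap z).hom.Flat} =
        (f '' {z : Z | (f.stalkMap z).hom.Flat}ᶜ)ᶜ := by
      ext w
      simp only [Set.mem_ofPred_eq, Set.mem_compl_iff, Set.mem_image, not_exists, not_and]
      exact ⟨fun h z hz hzw => hz (h z hzw), fun h z hzw => not_not.1 fun hn => h z hn hzw⟩
    rw [e]
    exact (f.isClosedMap _ (Groth.Agent.S0386.result f).isClosed_compl).isOpen_compl
  · have hfld : IsField (W.presheaf.stalk (f z)) := by
      rw [hz]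
      exact Field.toIsField W.functionField
    letI := hfld.toField
    letI := (f.stalkMap z).hom.toAlgebra
    exact inferInstanceAs (Module.Flat (W.presheaf.stalk (f z)) (Z.presheaf.stalk z))
  · let U : W.Opens := ⟨(f '' (f.quasiFiniteLocus : Set Z)ᶜ)ᶜ,
      (f.isClosedMap _ f.quasiFiniteLocus.2.isClosed_compl).isOpen_compl⟩
    have hU : ∀ w : W, w ∈ U ↔ ∀ z, f z = w → f.QuasiFiniteAt z := fun w => by
      show w ∈ (f '' (f.quasiFiniteLocus : Set Z)ᶜ)ᶜ ↔ _
      simp only [Set.mem_compl_iff, Set.mem_image, not_exists, not_and, SetLike.mem_coe,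
        Scheme.Hom.mem_quasiFiniteLocus]
      exact ⟨fun h z hzw => not_not.1 fun hn => h z hn hzw, fun h z hn hzw => hn (h z hzw)⟩
    refine ⟨U, Set.ext fun w => (hU w).trans (finite_fibre_iff f w).symm, ⟨genericPoint W, ?_⟩, ?_⟩
    · refine (hU _).2 ((finite_fibre_iff f (genericPoint W)).1 ?_)
      haveI : LocallyOfFiniteType (f.fiberToSpecResidueField (genericPoint W)) :=
        inferInstanceAs (LocallyOfFiniteType (pullback.snd f (W.fromSpecResidueField (genericPoint W))))
      haveI : QuasiCompact (f.fiberToSpecResidueField (genericPoint W)) :=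
        inferInstanceAs (QuasiCompact (pullback.snd f (W.fromSpecResidueField (genericPoint W))))
      haveI : IsLocallyNoetherian (f.fiber (genericPoint W)) :=
        LocallyOfFiniteType.isLocallyNoetherian (f.fiberToSpecResidueField (genericPoint W))
      haveI : CompactSpace (f.fiber (genericPoint W)) :=
        QuasiCompact.compactSpace_of_compactSpace (f.fiberToSpecResidueField (genericPoint W))
      haveI : IsNoetherian (f.fiber (genericPoint W)) := {}
      have hcl : ∀ p : f.fiber (genericPoint W), IsClosed ({p} : Set (f.fiber (genericPoint W))) := by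
        intro p
        have h1 := Groth.Variety2.Dim.height_fiber_add (f ≫ pW) pW f rfl (genericPoint W) p
        have h2 : (Order.height (f.fiberι (genericPoint W) p) : ℕ∞) ≤ n := by
          have := le_iSup (fun x : Z => ((Order.height x : ℕ∞) : WithBot ℕ∞)) (f.fiberι (genericPoint W) p)
          rw [← Groth.Variety2.Dim.dim_eq_iSup_height, hdimZ] at this
          exact_mod_cast this
        have h3 : Order.height (genericPoint W) = n := by
          have := Groth.Variety2.Dim.dim_eq_height_genericPoint (X := W)
          rw [hdimW] at this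
          exact_mod_cast this.symm
        rw [← h1, h3] at h2
        have h4 : Order.height p = 0 := by
          have h5 : Order.height p + n ≤ 0 + n := by rwa [zero_add]
          exact nonpos_iff_eq_zero.1 ((ENat.add_le_add_iff_right (ENat.natCast_ne_top n)).1 h5)
        rw [← closure_subset_iff_isClosed]
        intro q hq
        have hle : q ≤ p := Scheme.le_iff_specializes.2 (specializes_iff_mem_closure.2 hq)
        exact ((Scheme.le_iff_specializes.1 ((Order.height_eq_zero.1 h4) hle)).antisymm
          (specializes_iff_mem_closure.2 hq)).eq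
      haveI : Finite (f.fiber (genericPoint W)) := by
        have := Groth.Curves1.CurveMor.finite_of_forall_isClosed (X := f.fiber (genericPoint W))
          isClosed_univ (fun x _ => hcl x)
        exact Set.finite_univ_iff.1 this
      haveI : Finite (f ⁻¹' {genericPoint W}) := Finite.of_equiv _ (f.fiberHomeo _).toEquiv
      exact Set.toFinite _
    · haveI : IsProper (f ∣_ U) := IsZariskiLocalAtTarget.restrict (P := @IsProper) ‹IsProper f› U
      haveI : LocallyQuasiFinite (f ∣_ U) := by
        rw [← Scheme.Hom.quasiFiniteLocus_eq_top_iff]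
        refine top_le_iff.1 fun z _ => ?_
        rw [Scheme.Hom.mem_quasiFiniteLocus, ← Scheme.Hom.quasiFiniteAt_comp_iff (g := U.ι)]
        simp only [morphismRestrict_ι]
        rw [Scheme.Hom.quasiFiniteAt_comp_iff_of_isOpenImmersion]
        exact (hU _).1 z.2 _ rfl
      exact IsFinite.of_isProper_of_locallyQuasiFinite _


/-- Over the complex numbers let W be a smooth irreducible quasi-projective variety of dimension n, X a
smooth irreducible projective variety, and Z an integral closed subscheme of X × W of dimension n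
(an irreducible component of a correspondence from W to X), with projection π : Z → W. (a) The set
of points of W over which π is flat (flat at every point of the fibre) is open and nonempty. (b) The
set U of points of W with finite fibre is open and nonempty, and π restricted over U is finite. -/
theorem result
    (W X : Scheme.{0}) [W.Over (Spec (CommRingCat.of ℂ))] [X.Over (Spec (CommRingCat.of ℂ))]
    [AlgebraicGeometry.IsIntegral W] [Smooth (W ↘ Spec (CommRingCat.of ℂ))] (hW : RelProj.IsHQuasiProjective (W ↘ Spec (CommRingCat.of ℂ)))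
    (n : ℕ) (hdimW : topologicalKrullDim W = n)
    [AlgebraicGeometry.IsIntegral X] [Smooth (X ↘ Spec (CommRingCat.of ℂ))] (hX : RelProj.IsHProjective (X ↘ Spec (CommRingCat.of ℂ)))
    {Z : Scheme.{0}} (i : Z ⟶ pullback (X ↘ Spec (CommRingCat.of ℂ)) (W ↘ Spec (CommRingCat.of ℂ))) [IsClosedImmersion i]
    [AlgebraicGeometry.IsIntegral Z] (hdimZ : topologicalKrullDim Z = n) :
    (IsOpen {w : W | ∀ z : Z, (i ≫ pullback.snd (X ↘ Spec (CommRingCat.of ℂ)) (W ↘ Spec (CommRingCat.of ℂ))) z = w →
        ((i ≫ pullback.snd (X ↘ Spec (CommRingCat.of ℂ)) (W ↘ Spec (CommRingCat.of ℂ))).stalkMap z).hom.Flat} ∧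
      {w : W | ∀ z : Z, (i ≫ pullback.snd (X ↘ Spec (CommRingCat.of ℂ)) (W ↘ Spec (CommRingCat.of ℂ))) z = w →
        ((i ≫ pullback.snd (X ↘ Spec (CommRingCat.of ℂ)) (W ↘ Spec (CommRingCat.of ℂ))).stalkMap z).hom.Flat}.Nonempty) ∧
    ∃ U : W.Opens, (U : Set W) = {w : W | ((i ≫ pullback.snd (X ↘ Spec (CommRingCat.of ℂ)) (W ↘ Spec (CommRingCat.of ℂ))) ⁻¹' {w}).Finite} ∧
      (U : Set W).Nonempty ∧ IsFinite ((i ≫ pullback.snd (X ↘ Spec (CommRingCat.of ℂ)) (W ↘ Spec (CommRingCat.of ℂ))) ∣_ U) := by
  haveI : IsProper (X ↘ Spec (CommRingCat.of ℂ)) := Groth.Chow.isProper_of_isHProjective hX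
  exact main (W ↘ Spec (CommRingCat.of ℂ)) n hdimW hdimZ _

end Groth.Agent.S18281
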