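import Groth.Statements.S18283
import Mathlib

set_option autoImplicit false
universe u v
open CAlgX

namespace Groth.Agent.S18283

/-- Let A be a commutative ring, ι a finite index type, H a finite set of indices (the head indices) and
c : ι → ι → A a table of coefficients; for j ∈ H put f_j = e_j − Σ_{i ∉ H} c_{ji} e_i in the free
module A^ι, so that each f_j has head e_j with coefficient 1 and tail supported outside H. If a
submodule M of A^ι contains every f_j with j ∈ H, then M is the A-span of these f_j if and only if
every wedge product of |H|+1 elements of M vanishes in the (|H|+1)-st exterior power of A^ι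
(equivalently, every (|H|+1)-minor of every matrix whose rows lie in M vanishes). The published
statement is the case where A is a Noetherian algebra over a field of characteristic zero, A^ι is
the degree-(m+1) part of the polynomial ring over A with its basis of terms, H is the set of
degree-(m+1) terms of a strongly stable monomial ideal generated in degree m, and M is the
degree-(m+1) part of an ideal generated by a marked set on that monomial ideal; this row allows any
commutative ring and any submodule containing the marked polynomials. -/
theorem result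
    {A : Type u} [CommRing A] {ι : Type v} [Fintype ι] [DecidableEq ι]
    (H : Finset ι) (c : ι → ι → A) (M : Submodule A (ι → A))
    (hf : ∀ j ∈ H, (Pi.single j (1 : A) - ∑ i ∈ Hᶜ, c j i • Pi.single i (1 : A)) ∈ M) :
    M = Submodule.span A ((fun j => Pi.single j (1 : A) - ∑ i ∈ Hᶜ, c j i • Pi.single i (1 : A)) '' ↑H)
      ↔ ∀ v : Fin (H.card + 1) → ι → A, (∀ k, v k ∈ M) →
          exteriorPower.ιMulti A (H.card + 1) v = 0 := by
  classical
  let f : ι → ι → A := fun j => Pi.single j (1 : A) - ∑ i ∈ Hᶜ, c j i • Pi.single i (1 : A)
  show M = Submodule.span A (f '' ↑H) ↔ _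
  have hfH : ∀ j, ∀ l ∈ H, f j l = (Pi.single j (1 : A) : ι → A) l := fun j l hl => by
    simp only [f, Pi.sub_apply, Finset.sum_apply, Pi.smul_apply, smul_eq_mul]
    rw [Finset.sum_eq_zero fun i hi => ?_, sub_zero]
    rw [Pi.single_eq_of_ne (M := fun _ : ι => A) (fun h : l = i => (Finset.mem_compl.1 hi) (h ▸ hl)), mul_zero]
  constructor
  · intro hM v hv
    let g : (H → A) →ₗ[A] (ι → A) := Fintype.linearCombination A (fun j : H => f j)
    have hrange : M = LinearMap.range g := by
      rw [hM, Fintype.range_linearCombination]
      congr 1
      ext z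
      simp
    choose u hu using fun k => (hrange ▸ hv k : v k ∈ LinearMap.range g)
    have hzero : (exteriorPower.ιMulti A (H.card + 1) (M := ι → A)).compLinearMap g = 0 := by
      refine (Pi.basisFun A H).ext_alternating fun i hi => absurd (Fintype.card_le_of_injective i hi) ?_
      simp
    have := congrArg (fun φ => φ u) hzero
    simp only [AlternatingMap.compLinearMap_apply, AlternatingMap.zero_apply] at this
    rwa [show (fun k => g (u k)) = v from funext hu] at this
  · intro hv
    refine le_antisymm (fun x hx => ?_) (Submodule.span_le.2 (by rintro _ ⟨j, hj, rfl⟩; exact hf j hj))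
    let y : ι → A := x - ∑ j ∈ H, x j • f j
    have hyM : y ∈ M := sub_mem hx (Submodule.sum_mem _ fun j hj => Submodule.smul_mem _ _ (hf j hj))
    have hyH : ∀ l ∈ H, y l = 0 := fun l hl => by
      simp only [y, Pi.sub_apply, Finset.sum_apply, Pi.smul_apply, smul_eq_mul]
      rw [Finset.sum_eq_single l (fun j _ hne => by rw [hfH j l hl, Pi.single_eq_of_ne (Ne.symm hne), mul_zero]) (fun h => absurd hl h),
        hfH l l hl, Pi.single_eq_same, mul_one, sub_self]
    have hy : y = 0 := funext fun i => by
      by_cases hi : i ∈ H
      · exact hyH i hi
      let en : Fin H.card ≃ H := H.equivFin.symm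
      let σ : Fin (H.card + 1) → ι := Fin.snoc (fun a => (en a : ι)) i
      let v : Fin (H.card + 1) → ι → A := Fin.snoc (fun a => f (en a)) y
      have hvM : ∀ k, v k ∈ M := Fin.lastCases (by simp only [v, Fin.snoc_last]; exact hyM)
        (fun a => by simp only [v, Fin.snoc_castSucc]; exact hf _ (en a).2)
      let D : (ι → A) [⋀^Fin (H.card + 1)]→ₗ[A] A := Matrix.detRowAlternating.compLinearMap (LinearMap.funLeft A A σ)
      have h0 : D v = 0 := by
        rw [← exteriorPower.alternatingMapLinearEquiv_apply_ιMulti D v, hv v hvM, map_zero]
      change Matrix.det (Matrix.of fun k l => v k (σ l)) = 0 at h0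
      rw [Matrix.det_succ_row _ (Fin.last _), Finset.sum_eq_single (Fin.last _)] at h0
      · have hsub : (Matrix.of fun k l => v k (σ l)).submatrix (Fin.last H.card).succAbove (Fin.last H.card).succAbove = 1 := by
          refine Matrix.ext fun a b => ?_
          simp only [Fin.succAbove_last, Matrix.submatrix_apply, Matrix.of_apply, v, σ, Fin.snoc_castSucc, hfH _ _ (en b).2,
            Pi.single_apply, Matrix.one_apply]
          exact if_congr ⟨fun h => en.injective (Subtype.ext h.symm), fun h => by rw [h]⟩ rfl rfl
        rw [hsub, Matrix.det_one, mul_one] at h0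
        simpa [v, σ, Fin.snoc_last, ← two_mul, pow_mul] using h0
      · intro b _ hb
        obtain ⟨b, rfl⟩ := Fin.exists_castSucc_eq.2 hb
        simp [v, σ, Fin.snoc_last, Fin.snoc_castSucc, hyH _ (en b).2]
      · simp
    rw [sub_eq_zero.1 hy]
    exact Submodule.sum_mem _ fun j hj => Submodule.smul_mem _ _ (Submodule.subset_span ⟨j, hj, rfl⟩)

end Groth.Agent.S18283
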