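import Groth.Statements.S18285
import Groth.Agent.MiscGeom.MagnetBase

set_option autoImplicit false
universe u
open CategoryTheory MonoidalCategory CartesianMonoidalCategory MonObj AlgebraicGeometry Opposite
open Magnet

namespace Groth.Agent.S18285

/-- Let X be an S-scheme separated over S with an action of the diagonalizable monoid scheme A(M)_S of a
commutative monoid M, and N a submonoid of M. Then the canonical map from the attractor X^N to X
(evaluation at the unit section of A(N)_S) is a monomorphism: for every S-scheme T it is injective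
on T-points. (The published statement allows X to be an algebraic space over S; here X is a scheme.) -/
theorem result (S : Scheme.{u}) (M : Type) [AddCommMonoid M]
    (X : Over S) [IsSeparated X.hom] (a : Magnet.MonAct (Magnet.AMonS S M) X) (N : AddSubmonoid M) (T : Over S) :
    Function.Injective (fun φ => (Magnet.attrToX a N).app (op T) φ) := by
  intro φ ψ h
  refine Subtype.ext (Groth.MiscGeom.Mag.whiskerRight_cancel N.subtype Subtype.val_injective ?_)
  refine Magnet.hom_ext_lift₂ fun T' g t => ?_
  rw [lift_whiskerRight_assoc, lift_whiskerRight_assoc]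
  have key : ∀ χ : (Magnet.attr a N).obj (op T),
      lift (g ≫ Magnet.AMonS.map S N.subtype) t ≫ χ.1 = lift g (t ≫ (Magnet.attrToX a N).app (op T) χ) ≫ a.act := by
    intro χ
    have e := MonAct.mem_eqvHom_iff (ρ := Magnet.subAct S M N) (a := a) χ.1 |>.1 χ.2 T' g (toUnit T' ≫ η) t
    have e2 : lift g (toUnit T' ≫ η) ≫ (Magnet.subAct S M N).act = g ≫ Magnet.AMonS.map S N.subtype := by
      show lift g (toUnit T' ≫ η) ≫ ((MonAct.regular (Magnet.AMonS S N)).restrict (Magnet.AMonS.map S N.subtype)).act = _
      rw [MonAct.lift_restrict_act, MonAct.lift_regular_act, ← Hom.one_def, _root_.mul_one]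
    rw [e2] at e
    rw [e]
    congr 2
    show _ = t ≫ lift (toUnit T ≫ η) (𝟙 T) ≫ χ.1
    rw [comp_lift_assoc, comp_toUnit_assoc, Category.comp_id]
  rw [key, key]
  exact congrArg (fun z => lift g (t ≫ z) ≫ a.act) h

end Groth.Agent.S18285
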