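import Groth.Statements.S18287
import Groth.Agent.MiscGeom.MagnetAffine

set_option autoImplicit false
universe u
open CategoryTheory MonoidalCategory CartesianMonoidalCategory MonObj AlgebraicGeometry Opposite
open Magnet

namespace Groth.Agent.S18287

/-- Let f : M → Z be a homomorphism of commutative monoids, Y a submonoid of Z and N its preimage in M,
and let X be an S-scheme affine over S with an action of the diagonalizable monoid scheme A(M)_S.
Regard X as an A(Z)_S-scheme through A(Z)_S → A(M)_S. Then the canonical map of attractors X^{N ⊂ M}
→ X^{Y ⊂ Z} (precomposition with A(Y)_S → A(N)_S) is an isomorphism. -/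
theorem result (S : Scheme.{u}) (M Z : Type) [AddCommMonoid M] [AddCommMonoid Z]
    (f : M →+ Z) (Y : AddSubmonoid Z) (X : Over S) [IsAffineHom X.hom] (a : Magnet.MonAct (Magnet.AMonS S M) X) :
    IsIso (Magnet.attrComap a f Y) := by
  haveI : ∀ T, IsIso ((Magnet.attrComap a f Y).app T) := fun T =>
    (isIso_iff_bijective _).2 (Groth.MiscGeom.Mag.attrComap_bijective_affine a f Y T)
  exact NatIso.isIso_of_isIso_app _

end Groth.Agent.S18287
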