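import Groth.Statements.S18288
import Groth.Agent.MiscGeom.MagnetClosed

set_option autoImplicit false
universe u
open CategoryTheory MonoidalCategory CartesianMonoidalCategory MonObj AlgebraicGeometry Opposite
open Magnet

namespace Groth.Agent.S18288

/-- Let M be a commutative monoid with an injective homomorphism f : M → Z into a commutative group Z
(so M is cancellative; the published statement takes Z to be the group completion of M, and the same
argument applies to any such Z), let Y be a submonoid of Z contained in the image of M, and let X be
an S-scheme separated over S with an action of the diagonalizable monoid scheme A(M)_S. Regard X as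
a D(Z)_S-scheme through D(Z)_S → A(M)_S. Then the canonical map of attractors X^{f⁻¹Y ⊂ M} → X^{Y ⊂
Z} is an isomorphism: a D(Z)_S-equivariant family out of A(Y)_S is automatically A(M)_S-equivariant.
(The published statement allows X to be an algebraic space; here X is a scheme.) -/
theorem result (S : Scheme.{u}) (M Z : Type) [AddCommMonoid M]
    [AddCommGroup Z] (f : M →+ Z) (hf : Function.Injective f) (Y : AddSubmonoid Z)
    (hY : Y ≤ AddMonoidHom.mrange f) (X : Over S) [IsSeparated X.hom]
    (a : Magnet.MonAct (Magnet.AMonS S M) X) :
    IsIso (Magnet.attrComap a f Y) := by
  haveI : ∀ T, IsIso ((Magnet.attrComap a f Y).app T) := fun T =>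
    (isIso_iff_bijective _).2 (Groth.MiscGeom.Mag.attrComap_bijective f hf Y hY a T)
  exact NatIso.isIso_of_isIso_app _

end Groth.Agent.S18288
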