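import Groth.Statements.S1829
import Groth.Agent.Gorenstein.LCI

set_option autoImplicit false
universe u
open CategoryTheory
attribute [local instance] HasDerivedCategory.standard
open Dual

namespace Groth.Agent.S1829

/-- Let A → B be a faithfully flat local complete intersection homomorphism of Noetherian rings and K an
object of D(A); assume the derived base change functor D(A) → D(B) exists. Then K is a dualizing
complex for A if and only if its base change is a dualizing complex for B. -/
theorem result (A B : Type u) [CommRing A] [CommRing B] [Algebra A B] [IsNoetherianRing A] [IsNoetherianRing B] [Module.FaithfullyFlat A B] (hl : LCI.IsLCI A B) [DRing.HasLBaseChange (algebraMap A B)] (K : Dual.D A) : Dual.IsDualizing A K ↔ Dual.IsDualizing B ((DRing.LBaseChange (algebraMap A B)).obj K) := by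
  haveI : Algebra.FiniteType A B := hl.1
  let e := (Groth.DualCore.LBaseChangeIso A B).app K
  refine ⟨fun hK => Groth.DualCore.isDualizing_of_iso e.symm ?_,
    fun hB => Groth.DualCore.isDualizing_of_faithfullyFlat B K (Groth.DualCore.isDualizing_of_iso e hB)⟩
  obtain ⟨N, hN⟩ := Groth.DualCore.exists_fibre_dim_bound A B
  refine Groth.DualCore.isDualizing_extD_of_gorenstein_fibre hK N hN fun p _ Q _ => ?_
  haveI := GrothGoren.isGorensteinRing_fibre_of_isLCI hl p
  haveI := LocCoh.IsGorensteinRing.isGorensteinLocalRing_localization (A := p.Fiber B) Q
  exact (GrothGoren.isGorenstein_iff _).1 inferInstance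

end Groth.Agent.S1829
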