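import Groth.Statements.S18292
import Mathlib.CategoryTheory.Limits.Shapes.Pullback.IsPullback.Basic
import Mathlib.CategoryTheory.Limits.Types.Pullbacks


set_option autoImplicit false
universe v₁ u₁
open CategoryTheory MonoidalCategory CartesianMonoidalCategory MonObj Opposite
open Magnet Magnet.MonAct

namespace Groth.Agent.S18292

/-- Let A be a monoid object of a cartesian monoidal category acting on objects B, X₁, X₂, X₃ and P, let
f₁ : X₁ → X₂ and f₃ : X₃ → X₂ be equivariant, and let p₁ : P → X₁, p₃ : P → X₃ be equivariant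
morphisms making P the fibre product X₁ ×_{X₂} X₃ (in the source A = A(M)_S acts on S-spaces, B =
A(N)_S for a magnet N, and the fibre product carries its canonical action). Then attractors commute
with this fibre product: the square of functors T ↦ (equivariant maps B × T → ·) induced by p₁, p₃,
f₁, f₃ is cartesian, (X₁ ×_{X₂} X₃)^N = X₁^N ×_{X₂^N} X₃^N. -/
theorem result {C : Type u₁} [Category.{v₁} C] [CartesianMonoidalCategory C]
    {A B X₁ X₂ X₃ P : C} [MonObj A] (ρ : Magnet.MonAct A B) (a₁ : Magnet.MonAct A X₁) (a₂ : Magnet.MonAct A X₂)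
    (a₃ : Magnet.MonAct A X₃) (aP : Magnet.MonAct A P) (f₁ : X₁ ⟶ X₂) (f₃ : X₃ ⟶ X₂) (p₁ : P ⟶ X₁) (p₃ : P ⟶ X₃)
    (hsq : IsPullback p₁ p₃ f₁ f₃) (hf₁ : Magnet.MonAct.IsEquivariant a₁ a₂ f₁)
    (hf₃ : Magnet.MonAct.IsEquivariant a₃ a₂ f₃) (hp₁ : Magnet.MonAct.IsEquivariant aP a₁ p₁)
    (hp₃ : Magnet.MonAct.IsEquivariant aP a₃ p₃) :
    IsPullback (Magnet.MonAct.eqvHom.postcomp ρ p₁ hp₁) (Magnet.MonAct.eqvHom.postcomp ρ p₃ hp₃)
      (Magnet.MonAct.eqvHom.postcomp ρ f₁ hf₁) (Magnet.MonAct.eqvHom.postcomp ρ f₃ hf₃) := by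
  have w : eqvHom.postcomp ρ p₁ hp₁ ≫ eqvHom.postcomp ρ f₁ hf₁ =
      eqvHom.postcomp ρ p₃ hp₃ ≫ eqvHom.postcomp ρ f₃ hf₃ := by
    ext T φ
    refine Subtype.ext ?_
    show (φ.1 ≫ p₁) ≫ f₁ = (φ.1 ≫ p₃) ≫ f₃
    rw [Category.assoc, Category.assoc, hsq.w]
  refine IsPullback.of_forall_isPullback_app fun T => ?_
  rw [CategoryTheory.Limits.Types.isPullback_iff]
  refine ⟨NatTrans.congr_app w T, fun φ φ' h => Subtype.ext ?_, fun φ₁ φ₃ h => ?_⟩
  · obtain ⟨h₁, h₃⟩ := h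
    exact hsq.hom_ext (congrArg Subtype.val h₁) (congrArg Subtype.val h₃)
  · have hw : φ₁.1 ≫ f₁ = φ₃.1 ≫ f₃ := congrArg Subtype.val h
    refine ⟨⟨hsq.lift φ₁.1 φ₃.1 hw, ?_⟩, Subtype.ext (hsq.lift_fst _ _ _), Subtype.ext (hsq.lift_snd _ _ _)⟩
    unfold IsEquivariant at hp₁ hp₃ ⊢
    apply hsq.hom_ext
    · rw [Category.assoc, hsq.lift_fst, Category.assoc, hp₁, ← whiskerLeft_comp_assoc, hsq.lift_fst]
      exact φ₁.2
    · rw [Category.assoc, hsq.lift_snd, Category.assoc, hp₃, ← whiskerLeft_comp_assoc, hsq.lift_snd]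
      exact φ₃.2

end Groth.Agent.S18292
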