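import Groth.Statements.S18299
import Mathlib
import Groth.Agent.MiscGeom97.ClosedDescent
-- import your own Groth.Agent.* helpers here

set_option autoImplicit false
universe u
open CategoryTheory MonoidalCategory CartesianMonoidalCategory MonObj AlgebraicGeometry Opposite
open Magnet

namespace Groth.Agent.S18299


/-- Let Q be a commutative group, X and U S-schemes with actions of the diagonalizable group scheme
D(Q)_S, and f : U → X an equivariant morphism over S which is étale and surjective and fixed-point
reflecting: the square formed by the fixed-point functors U^{D(Q)} → X^{D(Q)} over U → X is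
cartesian (an FPR atlas). If the fixed-point functor of U is represented by a closed subscheme of U
— which holds when U is a disjoint union of D(Q)_S-stable S-affine schemes, by the affine
representability of attractors — then the fixed-point functor of X is represented by a closed
subscheme of X, compatibly with its inclusion into X. (In the source Q = M/Z for a subgroup Z of a
commutative group M acting through D(M)_S, the fixed points of D(M/Z)_S being the attractor X^Z, and
X may be an algebraic space; here X is a scheme.) -/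
theorem result (S : Scheme.{u}) (Q : Type)
    [AddCommGroup Q] (X U : Over S) (aX : AlgGrp.Action (Red.DS S Q) X) (aU : AlgGrp.Action (Red.DS S Q) U)
    (f : U ⟶ X) [Etale f.left] [Surjective f.left]
    (hf : Magnet.MonAct.IsEquivariant (Magnet.MonAct.ofAction aU) (Magnet.MonAct.ofAction aX) f)
    (hfpr : IsPullback (Magnet.MonAct.fixedPsh.map f hf) (Magnet.MonAct.fixedPshι (Magnet.MonAct.ofAction aU))
      (Magnet.MonAct.fixedPshι (Magnet.MonAct.ofAction aX)) (yoneda.map f))
    (hU : ∃ (W' : Over S) (i' : W' ⟶ U) (e' : (Magnet.MonAct.fixedPsh (Magnet.MonAct.ofAction aU)).RepresentableBy W'),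
      IsClosedImmersion i'.left ∧ ∀ (T : Over S) (w : T ⟶ W'),
        (Magnet.MonAct.fixedPshι (Magnet.MonAct.ofAction aU)).app (op T) (e'.homEquiv w) = w ≫ i') :
    ∃ (W : Over S) (i : W ⟶ X) (e : (Magnet.MonAct.fixedPsh (Magnet.MonAct.ofAction aX)).RepresentableBy W),
      IsClosedImmersion i.left ∧ ∀ (T : Over S) (w : T ⟶ W),
        (Magnet.MonAct.fixedPshι (Magnet.MonAct.ofAction aX)).app (op T) (e.homEquiv w) = w ≫ i := by
  obtain ⟨W', i', e', hi', he'⟩ := hU
  have := hi'
  let GX := Magnet.MonAct.ofAction aX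
  let GU := Magnet.MonAct.ofAction aU
  let FX : ∀ {T : Over S}, (T ⟶ X) → Prop := fun {T} x =>
    ∀ (T' : Over S) (t : T' ⟶ T) (g : T' ⟶ Red.DS S Q), lift g (t ≫ x) ≫ GX.act = t ≫ x
  let FU : ∀ {T : Over S}, (T ⟶ U) → Prop := fun {T} x =>
    ∀ (T' : Over S) (t : T' ⟶ T) (g : T' ⟶ Red.DS S Q), lift g (t ≫ x) ≫ GU.act = t ≫ x
  -- the fixed points of `U` are the points of `W'`
  have uFac : ∀ {T : Over S} (x : T ⟶ U), FU x ↔ ∃ w : T ⟶ W', w ≫ i' = x := by
    intro T x
    constructor
    · intro hx
      obtain ⟨w, hw⟩ := e'.homEquiv.surjective (⟨x, hx⟩ : (Magnet.MonAct.fixedPsh GU).obj (op T))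
      refine ⟨w, ?_⟩
      exact (he' T w).symm.trans (congrArg Subtype.val hw)
    · rintro ⟨w, rfl⟩
      have h : (e'.homEquiv w).1 = w ≫ i' := he' T w
      exact h ▸ (e'.homEquiv w).2
  -- fixed points are reflected
  have fFix : ∀ {T : Over S} (x : T ⟶ U), FX (x ≫ f) ↔ FU x := by
    intro T x
    constructor
    · intro hx
      obtain ⟨p, -, hp⟩ := CategoryTheory.Limits.Types.exists_of_isPullback
        (hfpr.map ((CategoryTheory.evaluation (Over S)ᵒᵖ (Type u)).obj (op T)))
        (⟨x ≫ f, hx⟩ : (Magnet.MonAct.fixedPsh GX).obj (op T)) x rfl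
      have : p.1 = x := hp
      exact this ▸ p.2
    · intro hx
      exact (((Magnet.MonAct.fixedPsh.map f hf).app (op T)) ⟨x, hx⟩).2
  -- stability of `W'`
  obtain ⟨Z, j, q, hj, hpb⟩ := Groth.Pi1Desc.exists_closed_descent f.left i'.left (fun T v x e => by
    let T₀ : Over S := Over.mk (v ≫ W'.hom)
    let v₀ : T₀ ⟶ W' := Over.homMk v rfl
    let x₀ : T₀ ⟶ U := Over.homMk x (by
      show x ≫ U.hom = v ≫ W'.hom
      rw [← Over.w f, ← Category.assoc, ← e, Category.assoc, Category.assoc, Over.w f, Over.w i'])
    have hx : x₀ ≫ f = v₀ ≫ i' ≫ f := Over.OverMorphism.ext (by simpa [x₀, v₀] using e.symm)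
    have h1 : FU x₀ := by
      rw [← fFix, hx, ← Category.assoc, fFix, uFac]
      exact ⟨v₀, rfl⟩
    obtain ⟨w, hw⟩ := (uFac x₀).1 h1
    exact ⟨w.left, congrArg CommaMorphism.left hw⟩)
  have := hj
  let W : Over S := Over.mk (j ≫ X.hom)
  let i : W ⟶ X := Over.homMk j rfl
  have : IsClosedImmersion i.left := hj
  have : Mono i := Over.mono_of_mono_left i
  -- base change of `f` along a point
  have cover : ∀ {T : Over S} (x : T ⟶ X), ∃ (T' : Over S) (e : T' ⟶ T) (xU : T' ⟶ U),
      Groth.Pi1Desc.IsCover e.left ∧ xU ≫ f = e ≫ x := by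
    intro T x
    let T' : Over S := Over.mk (Limits.pullback.fst x.left f.left ≫ T.hom)
    refine ⟨T', Over.homMk (Limits.pullback.fst x.left f.left) rfl,
      Over.homMk (Limits.pullback.snd x.left f.left) ?_, ?_, ?_⟩
    · show Limits.pullback.snd x.left f.left ≫ U.hom = Limits.pullback.fst x.left f.left ≫ T.hom
      rw [← Over.w f, ← Over.w x, ← Category.assoc, ← Category.assoc, Limits.pullback.condition]
    · exact Groth.Pi1Desc.IsCover.of_isPullback (p := f.left)
        (IsPullback.of_hasPullback x.left f.left).flip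
    · exact Over.OverMorphism.ext Limits.pullback.condition.symm
  -- being fixed is local
  have local_fix : ∀ {T T' : Over S} (x : T ⟶ X) (e : T' ⟶ T), Groth.Pi1Desc.IsCover e.left →
      FX (e ≫ x) → FX x := by
    intro T T' x e he hx T₁ t g
    let P : Over S := Over.mk (Limits.pullback.fst t.left e.left ≫ T₁.hom)
    let a : P ⟶ T₁ := Over.homMk (Limits.pullback.fst t.left e.left) rfl
    let b : P ⟶ T' := Over.homMk (Limits.pullback.snd t.left e.left) (by
      show Limits.pullback.snd t.left e.left ≫ T'.hom = Limits.pullback.fst t.left e.left ≫ T₁.hom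
      rw [← Over.w e, ← Over.w t, ← Category.assoc, ← Category.assoc, Limits.pullback.condition])
    have hab : a ≫ t = b ≫ e := Over.OverMorphism.ext Limits.pullback.condition
    have : Groth.Pi1Desc.IsCover a.left := Groth.Pi1Desc.IsCover.of_isPullback (p := e.left)
      (IsPullback.of_hasPullback t.left e.left).flip
    have : EffectiveEpi a.left := Groth.Pi1Desc.IsCover.effectiveEpi _
    have : Epi a := Over.epi_of_epi_left a
    rw [← cancel_epi a, comp_lift_assoc, reassoc_of% hab]
    exact hx P b (a ≫ g)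
  -- the points of `W` are the fixed points
  have wFix : ∀ {T : Over S} (w : T ⟶ W), FX (w ≫ i) := by
    intro T w
    obtain ⟨T', e, xU, he, hxU⟩ := cover (w ≫ i)
    refine local_fix _ e he ?_
    rw [← hxU, fFix, uFac]
    have h : (e ≫ w).left ≫ j = xU.left ≫ f.left := by
      simpa [i] using (congrArg CommaMorphism.left hxU).symm
    refine ⟨Over.homMk (hpb.lift _ _ h) ?_, Over.OverMorphism.ext (hpb.lift_snd _ _ _)⟩
    rw [← Over.w i', ← Category.assoc, hpb.lift_snd, Over.w xU]
  have fixW : ∀ {T : Over S} (x : T ⟶ X), FX x → ∃ w : T ⟶ W, w ≫ i = x := by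
    intro T x hx
    obtain ⟨T', e, xU, he, hxU⟩ := cover x
    obtain ⟨w', hw'⟩ := (uFac xU).1 ((fFix xU).1 (by
      rw [hxU]
      intro T₁ t g
      rw [← Category.assoc]
      exact hx T₁ (t ≫ e) g))
    have h : (w'.left ≫ q) ≫ j = e.left ≫ x.left := by
      rw [Category.assoc, hpb.w, ← Category.assoc]
      simpa using congrArg CommaMorphism.left ((congrArg (· ≫ f) hw').trans hxU)
    obtain ⟨w, hw⟩ := Groth.Pi1Desc.exists_lift_of_isCover e.left j x.left (w'.left ≫ q) h
    exact ⟨Over.homMk w (by show w ≫ j ≫ X.hom = T.hom; rw [← Category.assoc, hw, Over.w x]),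
      Over.OverMorphism.ext hw⟩
  refine ⟨W, i,
    { homEquiv := fun {T} => Equiv.ofBijective (fun w => ⟨w ≫ i, wFix w⟩)
        ⟨fun w₁ w₂ h => (cancel_mono i).1 (congrArg Subtype.val h),
          fun x => by obtain ⟨w, hw⟩ := fixW x.1 x.2; exact ⟨w, Subtype.ext hw⟩⟩
      homEquiv_comp := fun {T T'} g w => Subtype.ext (Category.assoc g w i) },
    (inferInstance : IsClosedImmersion i.left), fun T w => rfl⟩

end Groth.Agent.S18299
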