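import Groth.Statements.S18300
-- import your own Groth.Agent.* helpers here

set_option autoImplicit false
universe u
open CategoryTheory MonoidalCategory CartesianMonoidalCategory MonObj AlgebraicGeometry Opposite
open Magnet

namespace Groth.Agent.S18300

set_option backward.isDefEq.respectTransparency.types true

variable {S : Scheme.{u}} {A B X : Over S} [MonObj A] (ρ : MonAct A B) (a : MonAct A X) (T : Over S) (T'' : Over T.left)

/-- `(B ×_S T) ×_T T'' → B ×_S T''` -/
noncomputable def proj : (Over.map T.hom).obj (Red.bc T.hom B ⊗ T'') ⟶ B ⊗ (Over.map T.hom).obj T'' :=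
  lift ((Over.map T.hom).map (fst _ _) ≫ ((Over.mapPullbackAdj T.hom).homEquiv _ _).symm (𝟙 (Red.bc T.hom B)))
    ((Over.map T.hom).map (snd _ _))

theorem map_lift_proj {T' : Over T.left} (y : (Over.map T.hom).obj T' ⟶ B) (t : T' ⟶ T'') :
    (Over.map T.hom).map (lift ((Over.mapPullbackAdj T.hom).homEquiv T' B y) t) ≫ proj (B := B) T T'' =
      lift y ((Over.map T.hom).map t) := by
  rw [proj, comp_lift, ← Functor.map_comp_assoc, ← Functor.map_comp, lift_fst, lift_snd,
    ← Adjunction.homEquiv_naturality_left_symm, Category.comp_id, Equiv.symm_apply_apply]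

theorem proj_left :
    (proj (B := B) T T'').left = (ActBC.bcCompIso T''.hom T.hom B rfl).hom.left := by
  have h1 : (proj (B := B) T T'').left ≫ (fst B ((Over.map T.hom).obj T'')).left =
      (fst (Red.bc T.hom B) T'').left ≫ Limits.pullback.fst B.hom T.hom := by
    rw [← Over.comp_left, proj, lift_fst, Adjunction.homEquiv_counit]
    simp
  have h2 : (proj (B := B) T T'').left ≫ (snd B ((Over.map T.hom).obj T'')).left =
      (snd (Red.bc T.hom B) T'').left := by
    rw [← Over.comp_left, proj, lift_snd]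
    rfl
  exact Limits.pullback.hom_ext (h1.trans (ActBC.bcCompIso_hom_left_fst T''.hom T.hom B rfl).symm)
    (h2.trans (ActBC.bcCompIso_hom_left_snd T''.hom T.hom B rfl).symm)

theorem isIso_proj : IsIso (proj (B := B) T T'') := by
  have h : IsIso (ActBC.bcCompIso T''.hom T.hom B rfl).hom.left :=
    (Over.forget T''.left).map_isIso (ActBC.bcCompIso T''.hom T.hom B rfl).hom
  have : IsIso ((Over.forget S).map (proj (B := B) T T'')) := by
    change IsIso (proj (B := B) T T'').left
    rw [proj_left]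
    exact h
  exact isIso_of_reflects_iso _ (Over.forget S)

theorem mem_fwd (φ : B ⊗ (Over.map T.hom).obj T'' ⟶ X)
    (hφ : MonAct.IsEquivariant (ρ.prod (MonAct.trivial A _)) a φ) :
    MonAct.IsEquivariant ((ρ.bc T.hom).prod (MonAct.trivial (Red.bc T.hom A) T'')) (a.bc T.hom)
      ((Over.mapPullbackAdj T.hom).homEquiv _ X (proj T T'' ≫ φ)) := by
  rw [MonAct.mem_eqvHom_iff] at hφ ⊢
  intro T' g b t
  obtain ⟨g₀, rfl⟩ := ((Over.mapPullbackAdj T.hom).homEquiv T' A).surjective g
  obtain ⟨b₀, rfl⟩ := ((Over.mapPullbackAdj T.hom).homEquiv T' B).surjective b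
  rw [MonAct.lift_homEquiv_bc_act, ← Adjunction.homEquiv_naturality_left, ← Adjunction.homEquiv_naturality_left,
    ← Category.assoc, ← Category.assoc, map_lift_proj, map_lift_proj, MonAct.lift_homEquiv_bc_act, hφ]

theorem mem_bwd (φ : B ⊗ (Over.map T.hom).obj T'' ⟶ X)
    (h : MonAct.IsEquivariant ((ρ.bc T.hom).prod (MonAct.trivial (Red.bc T.hom A) T'')) (a.bc T.hom)
      ((Over.mapPullbackAdj T.hom).homEquiv _ X (proj T T'' ≫ φ))) :
    MonAct.IsEquivariant (ρ.prod (MonAct.trivial A _)) a φ := by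
  rw [MonAct.mem_eqvHom_iff] at h ⊢
  intro T' g b t
  let T₁ : Over T.left := Over.mk (t.left ≫ T''.hom)
  let t₁ : T₁ ⟶ T'' := Over.homMk t.left rfl
  have ht : (t.left ≫ T''.hom) ≫ T.hom = T'.hom := by
    rw [Category.assoc]
    exact Over.w t
  let e₁ : (Over.map T.hom).obj T₁ ≅ T' := Over.isoMk (Iso.refl _) (by simp [T₁, ht])
  have he₁ : (Over.map T.hom).map t₁ = e₁.hom ≫ t := by
    apply Over.OverMorphism.ext
    simp [t₁, e₁]
  have h1 := h T₁ ((Over.mapPullbackAdj T.hom).homEquiv _ A (e₁.hom ≫ g))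
    ((Over.mapPullbackAdj T.hom).homEquiv _ B (e₁.hom ≫ b)) t₁
  rw [MonAct.lift_homEquiv_bc_act, ← Adjunction.homEquiv_naturality_left, ← Adjunction.homEquiv_naturality_left,
    ← Category.assoc, ← Category.assoc, map_lift_proj, map_lift_proj, MonAct.lift_homEquiv_bc_act, he₁] at h1
  have h2 := ((Over.mapPullbackAdj T.hom).homEquiv _ X).injective h1
  rw [← cancel_epi e₁.hom]
  simpa only [comp_lift_assoc] using h2

/-- the bijection -/
noncomputable def fwd (φ : (MonAct.eqvHom ρ a).obj (op ((Over.map T.hom).obj T''))) :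
    (MonAct.eqvHom (ρ.bc T.hom) (a.bc T.hom)).obj (op T'') :=
  ⟨(Over.mapPullbackAdj T.hom).homEquiv _ X (proj T T'' ≫ φ.1), mem_fwd ρ a T T'' φ.1 φ.2⟩

theorem fwd_bijective : Function.Bijective (fwd ρ a T T'') := by
  have := isIso_proj (B := B) T T''
  refine ⟨fun φ φ' h => Subtype.ext ?_, fun ψ => ?_⟩
  · have h1 := ((Over.mapPullbackAdj T.hom).homEquiv _ X).injective (congrArg Subtype.val h)
    exact (cancel_epi _).mp h1
  · let φ : B ⊗ (Over.map T.hom).obj T'' ⟶ X :=
      inv (proj (B := B) T T'') ≫ ((Over.mapPullbackAdj T.hom).homEquiv _ X).symm ψ.1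
    have he : (Over.mapPullbackAdj T.hom).homEquiv _ X (proj T T'' ≫ φ) = ψ.1 := by
      simp [φ]
    exact ⟨⟨φ, mem_bwd ρ a T T'' φ (he.symm ▸ ψ.2)⟩, Subtype.ext he⟩

theorem fwd_spec (φ : (MonAct.eqvHom ρ a).obj (op ((Over.map T.hom).obj T''))) :
    toBc T'' (fwd ρ a T T'' φ).1 ≫ (ActBC.bcCompIso T''.hom T.hom X rfl).hom =
      (ActBC.bcCompIso T''.hom T.hom B rfl).hom ≫ toBc ((Over.map T.hom).obj T'') φ.1 := by
  apply Over.OverMorphism.ext
  refine Limits.pullback.hom_ext ?_ ((Over.w _).trans (Over.w _).symm)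
  have h1 : ((fwd ρ a T T'' φ).1).left ≫ Limits.pullback.fst X.hom T.hom = (proj T T'' ≫ φ.1).left := by
    have h := congrArg CommaMorphism.left
      (((Over.mapPullbackAdj T.hom).homEquiv _ X).symm_apply_apply (proj T T'' ≫ φ.1))
    rw [Adjunction.homEquiv_counit] at h
    simpa [fwd] using h
  refine (Category.assoc _ _ _).trans ?_
  refine ((congrArg ((toBc T'' (fwd ρ a T T'' φ).1).left ≫ ·)
    (ActBC.bcCompIso_hom_left_fst T''.hom T.hom X rfl)).trans ?_)
  refine (Category.assoc _ _ _).symm.trans ?_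
  refine (congrArg (· ≫ Limits.pullback.fst X.hom T.hom) (toBc_left_fst T'' (fwd ρ a T T'' φ).1)).trans ?_
  refine h1.trans ?_
  refine Eq.trans ?_ (Category.assoc _ _ _).symm
  refine Eq.trans ?_ (congrArg ((ActBC.bcCompIso T''.hom T.hom B rfl).hom.left ≫ ·)
    (toBc_left_fst ((Over.map T.hom).obj T'') φ.1)).symm
  rw [Over.comp_left, proj_left]

/-- Let X be an S-scheme with an action of the diagonalizable monoid scheme A(M)_S of a commutative
monoid M, N a submonoid of M, and T an S-scheme; X_T = X ×_S T carries the base-changed action of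
A(M)_T. Then X^N ×_S T = (X_T)^N objectwise: for every scheme T'' over T, the value of the attractor
X^N at T'' (regarded over S) is in bijection with the value at T'' of the attractor of X_T, namely
the maps A(N)_T ×_T T'' → X_T equivariant for the base-changed actions; the bijection is pinned by
requiring that, under the identifications of both sides with equivariant morphisms between base
changes to T'', it is conjugation by the canonical isomorphisms (Y ×_S T) ×_T T'' ≅ Y ×_S T'' for Y
= A(N)_S and Y = X. (Naturality in T'' is not part of this statement; X may be an algebraic space in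
the source, here it is a scheme.) -/
theorem result (S : Scheme.{u}) (M : Type) [AddCommMonoid M] (N : AddSubmonoid M)
    (X : Over S) (a : Magnet.MonAct (Magnet.AMonS S M) X) (T : Over S) (T'' : Over T.left) :
    ∃ Φ : (Magnet.attr a N).obj (op ((Over.map T.hom).obj T'')) ≃
        (Magnet.MonAct.eqvHom ((Magnet.subAct S M N).bc T.hom) (a.bc T.hom)).obj (op T''),
      ∀ φ, (Magnet.eqvHomEquivBc T'' ((Magnet.subAct S M N).bc T.hom) (a.bc T.hom) (Φ φ)).1 ≫
          (ActBC.bcCompIso T''.hom T.hom X rfl).hom =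
        (ActBC.bcCompIso T''.hom T.hom (Magnet.AMonS S N) rfl).hom ≫
          (Magnet.eqvHomEquivBc ((Over.map T.hom).obj T'') (Magnet.subAct S M N) a φ).1 := by
  exact ⟨Equiv.ofBijective _ (fwd_bijective (Magnet.subAct S M N) a T T''), fun φ =>
    fwd_spec (Magnet.subAct S M N) a T T'' φ⟩

end Groth.Agent.S18300
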