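import Groth.Statements.S18302
import Groth.Agent.MagnetEtale.General

set_option autoImplicit false
universe u
open CategoryTheory MonoidalCategory CartesianMonoidalCategory MonObj AlgebraicGeometry Opposite
open Magnet

namespace Groth.Agent.S18302

/-- Let M be a finitely generated commutative group, X an S-scheme with an action of the diagonalizable
group scheme D(M)_S, U an S-scheme affine over S with a D(M)_S-action and f : U → X an étale
equivariant morphism; let N be a submonoid (magnet) of M and Q a face of N. Assume that N is
finitely generated as a monoid, or that X is locally of finite presentation and separated over S.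
Then the natural map U^N → X^N ×_{X^Q} U^Q is an isomorphism: the square of functors formed by f^N :
U^N → X^N, the face projections U^N → U^Q and X^N → X^Q, and f^Q : U^Q → X^Q is cartesian. (The
published alternative to finite generation is only 'X separated'; its argument passes through the
directed-union description of X^N on T-points, which is established for X locally of finite
presentation and separated, and T affine, so finite presentation is assumed here in that case; X may
be an algebraic space in the source, here it is a scheme.) -/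
theorem result (S : Scheme.{u}) (M : Type) [AddCommGroup M]
    [AddGroup.FG M] (X U : Over S) (aX : AlgGrp.Action (Red.DS S M) X) (aU : AlgGrp.Action (Red.DS S M) U)
    [IsAffineHom U.hom] (f : U ⟶ X) [Etale f.left]
    (hf : Magnet.MonAct.IsEquivariant (Magnet.MonAct.ofAction aU) (Magnet.MonAct.ofAction aX) f)
    (N Q : AddSubmonoid M) (hQ : Magnet.IsFace N Q)
    (h : N.FG ∨ (IsSeparated X.hom ∧ LocallyOfFinitePresentation X.hom)) :
    IsPullback (Magnet.MonAct.eqvHom.postcomp (Magnet.subAct S M N) f hf)
      (Magnet.attrFace (Magnet.MonAct.ofAction aU) hQ) (Magnet.attrFace (Magnet.MonAct.ofAction aX) hQ)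
      (Magnet.MonAct.eqvHom.postcomp (Magnet.subAct S M Q) f hf) := by
  set a := Magnet.MonAct.ofAction aX
  set b := Magnet.MonAct.ofAction aU
  have L := fun T => Groth.MagnetEtale.liftsOn (aX := a) (aU := b) (f := f) hf hQ h T
  have w : Magnet.MonAct.eqvHom.postcomp (Magnet.subAct S M N) f hf ≫ Magnet.attrFace a hQ =
      Magnet.attrFace b hQ ≫ Magnet.MonAct.eqvHom.postcomp (Magnet.subAct S M Q) f hf := by
    ext T φ
    apply Subtype.ext
    exact (Category.assoc _ _ _).symm
  have inj : ∀ (T : (Over S)ᵒᵖ) (p q : (Magnet.attr b N).obj T),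
      (Magnet.MonAct.eqvHom.postcomp (Magnet.subAct S M N) f hf).app T p =
        (Magnet.MonAct.eqvHom.postcomp (Magnet.subAct S M N) f hf).app T q →
      (Magnet.attrFace b hQ).app T p = (Magnet.attrFace b hQ).app T q → p = q := by
    intro T p q h1 h2
    refine Subtype.ext ((L (unop T) (p.1 ≫ f) ((Magnet.AMonS.faceMap S hQ ▷ unop T) ≫ p.1) (p.2.comp hf)
      ((Magnet.attrFace b hQ).app T p).2 (Category.assoc _ _ _)).unique ⟨p.2, rfl, rfl⟩
      ⟨q.2, (congrArg Subtype.val h1).symm, (congrArg Subtype.val h2).symm⟩)
  have ex : ∀ (T : (Over S)ᵒᵖ) (x : (Magnet.attr a N).obj T) (u : (Magnet.attr b Q).obj T),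
      (Magnet.attrFace a hQ).app T x = (Magnet.MonAct.eqvHom.postcomp (Magnet.subAct S M Q) f hf).app T u →
      ∃ p, (Magnet.MonAct.eqvHom.postcomp (Magnet.subAct S M N) f hf).app T p = x ∧
        (Magnet.attrFace b hQ).app T p = u := by
    intro T x u h0
    obtain ⟨φ, ⟨he, hφf, hφu⟩, -⟩ := L (unop T) x.1 u.1 x.2 u.2 (congrArg Subtype.val h0).symm
    exact ⟨⟨φ, he⟩, Subtype.ext hφf, Subtype.ext hφu⟩
  choose g hg1 hg2 using ex
  refine IsPullback.of_isLimit' ⟨w⟩ (Limits.PullbackCone.IsLimit.mk _
    (fun s => { app := fun T => TypeCat.ofHom fun x => g T (s.fst.app T x) (s.snd.app T x)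
                  (ConcreteCategory.congr_hom (NatTrans.congr_app s.condition T) x)
                naturality := ?_ }) ?_ ?_ ?_)
  · intro T T' t
    ext x
    refine inj T' _ _ ?_ ?_
    · refine (hg1 _ _ _ _).trans ?_
      refine ((ConcreteCategory.congr_hom (s.fst.naturality t) x)).trans ?_
      refine Eq.trans ?_ (ConcreteCategory.congr_hom
        ((Magnet.MonAct.eqvHom.postcomp (Magnet.subAct S M N) f hf).naturality t) _).symm
      exact congrArg ((Magnet.attr a N).map t) (hg1 _ _ _ _).symm
    · refine (hg2 _ _ _ _).trans ?_
      refine ((ConcreteCategory.congr_hom (s.snd.naturality t) x)).trans ?_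
      refine Eq.trans ?_ (ConcreteCategory.congr_hom ((Magnet.attrFace b hQ).naturality t) _).symm
      exact congrArg ((Magnet.attr b Q).map t) (hg2 _ _ _ _).symm
  · intro s; ext T x; exact hg1 _ _ _ _
  · intro s; ext T x; exact hg2 _ _ _ _
  · intro s m m1 m2
    ext T x
    exact inj T _ _ ((ConcreteCategory.congr_hom (NatTrans.congr_app m1 T) x).trans (hg1 _ _ _ _).symm)
      ((ConcreteCategory.congr_hom (NatTrans.congr_app m2 T) x).trans (hg2 _ _ _ _).symm)

end Groth.Agent.S18302
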