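import Groth.Statements.S18303
import Groth.Agent.SpecFerrand.Magnet

set_option autoImplicit false
universe u
open CategoryTheory MonoidalCategory CartesianMonoidalCategory MonObj AlgebraicGeometry Opposite
open Magnet

namespace Groth.Agent.S18303

/-- Let M be a commutative group, X an S-scheme with an action of the diagonalizable group scheme
D(M)_S, and N, N', L, L' submonoids (magnets) of M with N ≤ L ≤ L', N' ≤ L', L a face of L', N a
face of N', N = L ∩ N', L' = L + N' and N' = L' minus (L minus N). Then the square formed by the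
inclusion maps of attractors X^{N'} → X^{L'}, X^N → X^L and the face projections X^{N'} → X^N,
X^{L'} → X^L is cartesian as a square of functors on S-schemes. (The published statement assumes the
four attractors representable by schemes and concludes that the square of schemes is cartesian; its
argument is on T-valued points and gives the square of functors, which is what is stated.) -/
theorem result (S : Scheme.{u}) (M : Type) [AddCommGroup M] (X : Over S)
    (a : AlgGrp.Action (Red.DS S M) X) (N N' L L' : AddSubmonoid M) (hNL : N ≤ L) (hN'L' : N' ≤ L')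
    (hL : Magnet.IsFace L' L) (hN : Magnet.IsFace N' N) (hmeet : N = L ⊓ N') (hjoin : L' = L ⊔ N')
    (hdiff : (N' : Set M) = (L' : Set M) \ ((L : Set M) \ (N : Set M))) :
    IsPullback (Magnet.attrMap (Magnet.MonAct.ofAction a) hN'L') (Magnet.attrFace (Magnet.MonAct.ofAction a) hN)
      (Magnet.attrFace (Magnet.MonAct.ofAction a) hL) (Magnet.attrMap (Magnet.MonAct.ofAction a) hNL) := by
  set b := MonAct.ofAction a
  let hw := fun T : Over S => Groth.SpecFerrand.Magnet.square_comm hNL hN'L' hL hN hdiff T
  have w : Magnet.attrMap b hN'L' ≫ Magnet.attrFace b hL = Magnet.attrFace b hN ≫ Magnet.attrMap b hNL := by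
    ext T φ
    apply Subtype.ext
    exact ((Category.assoc _ _ _).symm.trans (congrArg (· ≫ φ.1) (hw (unop T)))).trans (Category.assoc _ _ _)
  have inj : ∀ (T : (Over S)ᵒᵖ) (x y : (Magnet.attr b N').obj T),
      (Magnet.attrMap b hN'L').app T x = (Magnet.attrMap b hN'L').app T y →
      (Magnet.attrFace b hN).app T x = (Magnet.attrFace b hN).app T y → x = y := fun T x y h1 h2 =>
    Subtype.ext (Groth.SpecFerrand.Magnet.hom_ext hNL hN'L' hL hN hdiff
      (congrArg Subtype.val h1) (congrArg Subtype.val h2))
  have ex : ∀ (T : (Over S)ᵒᵖ) (φ : (Magnet.attr b L').obj T) (ψ : (Magnet.attr b N).obj T),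
      (Magnet.attrFace b hL).app T φ = (Magnet.attrMap b hNL).app T ψ →
      ∃ χ, (Magnet.attrMap b hN'L').app T χ = φ ∧ (Magnet.attrFace b hN).app T χ = ψ := by
    intro T φ ψ h
    obtain ⟨c, hc1, hc2⟩ := Groth.SpecFerrand.Magnet.exists_desc hNL hN'L' hL hN hdiff (unop T) φ.1 ψ.1
      (congrArg Subtype.val h)
    refine ⟨⟨c, ?_⟩, Subtype.ext hc1, Subtype.ext hc2⟩
    have hψw : ∀ {P Q : AddSubmonoid M} (f : AMonS S ↥P ⟶ AMonS S ↥Q),
        MonAct.IsEquivariant (subAct S M P) (subAct S M Q) f →
        MonAct.IsEquivariant ((subAct S M P).prod (MonAct.trivial (AMonS S M) (unop T)))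
          ((subAct S M Q).prod (MonAct.trivial (AMonS S M) (unop T))) (f ▷ unop T) := by
      intro P Q f hf
      rw [MonAct.isEquivariant_iff] at hf ⊢
      intro Z g z
      rw [← lift_comp_fst_snd z, MonAct.lift_prod_act_assoc, lift_whiskerRight, lift_whiskerRight,
        MonAct.lift_prod_act, Category.assoc, hf]
    let e : ∀ P : AddSubmonoid M,
        AMonS S ↥P ⊗ (AMonS S M ⊗ unop T) ⟶ AMonS S M ⊗ (AMonS S ↥P ⊗ unop T) := fun P =>
      lift (snd _ _ ≫ fst _ _) (lift (fst _ _) (snd _ _ ≫ snd _ _))
    have he : ∀ P : AddSubmonoid M,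
        (lift (snd _ _ ≫ fst _ _) (lift (fst _ _) (snd _ _ ≫ snd _ _)) :
          AMonS S M ⊗ (AMonS S ↥P ⊗ unop T) ⟶ AMonS S ↥P ⊗ (AMonS S M ⊗ unop T)) ≫ e P = 𝟙 _ := by
      intro P
      apply CartesianMonoidalCategory.hom_ext
      · simp [e]
      · apply CartesianMonoidalCategory.hom_ext <;> simp [e]
    have hnat : ∀ {P Q : AddSubmonoid M} (f : AMonS S ↥P ⟶ AMonS S ↥Q),
        (f ▷ (AMonS S M ⊗ unop T)) ≫ e Q = e P ≫ (AMonS S M ◁ (f ▷ unop T)) := by
      intro P Q f
      apply CartesianMonoidalCategory.hom_ext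
      · simp [e]
      · apply CartesianMonoidalCategory.hom_ext <;> simp [e]
    have key : e N' ≫ ((subAct S M N').prod (MonAct.trivial (AMonS S M) (unop T))).act ≫ c =
        e N' ≫ (AMonS S M ◁ c) ≫ b.act := by
      refine Groth.SpecFerrand.Magnet.hom_ext hNL hN'L' hL hN hdiff ?_ ?_
      · rw [← Category.assoc, hnat, Category.assoc, ← Category.assoc (AMonS S M ◁ _),
          ← (hψw _ (MonAct.isEquivariant_restrict_regular _ _ _ (by rw [← AMonS.map_comp]; rfl))),
          Category.assoc, hc1, ← Category.assoc (_ ▷ _) (e N'), hnat, Category.assoc, ← MonoidalCategory.whiskerLeft_comp_assoc,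
          hc1]
        exact congrArg (e L' ≫ ·) φ.2
      · rw [← Category.assoc, hnat, Category.assoc, ← Category.assoc (AMonS S M ◁ _),
          ← (hψw _ (isEquivariant_faceMapS S hN)),
          Category.assoc, hc2, ← Category.assoc (_ ▷ _) (e N'), hnat, Category.assoc, ← MonoidalCategory.whiskerLeft_comp_assoc,
          hc2]
        exact congrArg (e N ≫ ·) ψ.2
    have := congrArg ((lift (snd _ _ ≫ fst _ _) (lift (fst _ _) (snd _ _ ≫ snd _ _)) :
      AMonS S M ⊗ (AMonS S ↥N' ⊗ unop T) ⟶ AMonS S ↥N' ⊗ (AMonS S M ⊗ unop T)) ≫ ·) key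
    simp only [reassoc_of% (he N')] at this
    exact this
  choose g hg1 hg2 using ex
  refine IsPullback.of_isLimit' ⟨w⟩ (Limits.PullbackCone.IsLimit.mk _
    (fun s => { app := fun T => TypeCat.ofHom fun x => g T (s.fst.app T x) (s.snd.app T x)
                  (ConcreteCategory.congr_hom (NatTrans.congr_app s.condition T) x)
                naturality := ?_ }) ?_ ?_ ?_)
  · intro T T' t
    ext x
    refine inj T' _ _ ?_ ?_
    · refine (hg1 _ _ _ _).trans ?_
      refine ((ConcreteCategory.congr_hom (s.fst.naturality t) x)).trans ?_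
      refine Eq.trans ?_ (ConcreteCategory.congr_hom ((Magnet.attrMap b hN'L').naturality t) _).symm
      exact congrArg ((Magnet.attr b L').map t) (hg1 _ _ _ _).symm
    · refine (hg2 _ _ _ _).trans ?_
      refine ((ConcreteCategory.congr_hom (s.snd.naturality t) x)).trans ?_
      refine Eq.trans ?_ (ConcreteCategory.congr_hom ((Magnet.attrFace b hN).naturality t) _).symm
      exact congrArg ((Magnet.attr b N).map t) (hg2 _ _ _ _).symm
  · intro s; ext T x; exact hg1 _ _ _ _
  · intro s; ext T x; exact hg2 _ _ _ _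
  · intro s m m1 m2
    ext T x
    exact inj T _ _ ((ConcreteCategory.congr_hom (NatTrans.congr_app m1 T) x).trans (hg1 _ _ _ _).symm)
      ((ConcreteCategory.congr_hom (NatTrans.congr_app m2 T) x).trans (hg2 _ _ _ _).symm)

end Groth.Agent.S18303
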