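import Groth.Statements.S18304
import Groth.Agent.S18299
import Groth.Agent.MagnetEtale.Descend
import Groth.Agent.MagnetEtale.General
import Groth.Agent.MagnetDescent.Fixed
import Groth.Agent.MiscGeom.MagnetRep
-- import your own Groth.Agent.* helpers here

set_option autoImplicit false
set_option linter.style.haveILetI false
universe u
open CategoryTheory MonoidalCategory CartesianMonoidalCategory MonObj AlgebraicGeometry Opposite
open Magnet

namespace Groth.Agent.S18304

/-- Let M be a finitely generated commutative group, X an S-scheme with an action of the diagonalizable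
group scheme D(M)_S, N a submonoid (magnet) of M and Z the subgroup of M underlying the face N* of
invertible elements of N. Suppose given an S-affine N*-FPR atlas: an S-scheme U affine over S with a
D(M)_S-action and an equivariant morphism f : U → X over S which is étale and surjective and
fixed-point reflecting for the induced actions of D(M/Z)_S (the square of D(M/Z)_S-fixed-point
functors over U → X is cartesian). Assume that N is finitely generated as a monoid, or that X is
locally of finite presentation and separated over S. Then the attractors X^N and X^{N*} are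
representable by S-schemes Z_N and Z_*, and the face projection X^N → X^{N*} corresponds to an
affine morphism Z_N → Z_*. (The published statement allows any commutative group M, X an algebraic
space and an atlas that is a disjoint union of S-affine schemes each stable under D(M)_S, assumes in
its first alternative only that X is separated, and lists further permanence properties of X^N —
quasi-separated, separated, locally of finite presentation, quasi-compact, of finite presentation —
which are not restated here. Its argument uses the base change of étale equivariant maps along faces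
and the identification of attractors of subgroups with fixed points, both established for M finitely
generated, so M is taken finitely generated here; and finite presentation is assumed with
separatedness because the directed-union step used in that case needs it.) -/
theorem result (S : Scheme.{u}) (M : Type) [AddCommGroup M]
    [AddGroup.FG M] (X U : Over S) (aX : AlgGrp.Action (Red.DS S M) X) (aU : AlgGrp.Action (Red.DS S M) U)
    [IsAffineHom U.hom] (f : U ⟶ X) [Etale f.left] [Surjective f.left]
    (hf : Magnet.MonAct.IsEquivariant (Magnet.MonAct.ofAction aU) (Magnet.MonAct.ofAction aX) f)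
    (N : AddSubmonoid M) (Z : AddSubgroup M) (hZ : Z.toAddSubmonoid = Magnet.unitFace N)
    (hfZ : Magnet.MonAct.IsEquivariant
      ((Magnet.MonAct.ofAction aU).restrict (Magnet.AMonS.map S (QuotientAddGroup.mk' Z)))
      ((Magnet.MonAct.ofAction aX).restrict (Magnet.AMonS.map S (QuotientAddGroup.mk' Z))) f)
    (hfpr : IsPullback (Magnet.MonAct.fixedPsh.map f hfZ)
      (Magnet.MonAct.fixedPshι ((Magnet.MonAct.ofAction aU).restrict (Magnet.AMonS.map S (QuotientAddGroup.mk' Z))))
      (Magnet.MonAct.fixedPshι ((Magnet.MonAct.ofAction aX).restrict (Magnet.AMonS.map S (QuotientAddGroup.mk' Z))))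
      (yoneda.map f))
    (h : N.FG ∨ (IsSeparated X.hom ∧ LocallyOfFinitePresentation X.hom)) :
    ∃ (ZN Zs : Over S) (eN : (Magnet.attr (Magnet.MonAct.ofAction aX) N).RepresentableBy ZN)
      (es : (Magnet.attr (Magnet.MonAct.ofAction aX) (Magnet.unitFace N)).RepresentableBy Zs) (j : ZN ⟶ Zs),
      IsAffineHom j.left ∧ ∀ (T : Over S) (z : T ⟶ ZN),
        es.homEquiv (z ≫ j) = (Magnet.attrFace (Magnet.MonAct.ofAction aX) (Magnet.isFace_unitFace N)).app (op T)
          (eN.homEquiv z) := by
  let a : MonAct (AMonS S M) X := MonAct.ofAction aX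
  let b : MonAct (AMonS S M) U := MonAct.ofAction aU
  have hf' : MonAct.IsEquivariant b a f := hf
  let mk := QuotientAddGroup.mk' Z
  have hN' : (⊥ : AddSubmonoid (M ⧸ Z)).comap mk = unitFace N := by
    rw [← hZ]
    ext m
    simp [mk, QuotientAddGroup.eq_zero_iff]
  obtain ⟨ebU, hebU⟩ := Groth.MagnetDescent.exists_iso_fixedPsh mk b (unitFace N) hN'
  obtain ⟨ebX, hebX⟩ := Groth.MagnetDescent.exists_iso_fixedPsh mk a (unitFace N) hN'
  have hιU : ∀ (T : Over S) (φ : (attr b (unitFace N)).obj (op T)),
      (ebU.hom.app (op T) φ).1 = (attrToX b (unitFace N)).app (op T) φ := fun T φ =>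
    (ConcreteCategory.congr_hom (NatTrans.congr_app hebU (op T)) φ :)
  have hιX : ∀ (T : Over S) (φ : (attr a (unitFace N)).obj (op T)),
      (ebX.hom.app (op T) φ).1 = (attrToX a (unitFace N)).app (op T) φ := fun T φ =>
    (ConcreteCategory.congr_hom (NatTrans.congr_app hebX (op T)) φ :)
  have hmonoU : ∀ (T : Over S) (φ ψ : (attr b (unitFace N)).obj (op T)),
      (attrToX b (unitFace N)).app (op T) φ = (attrToX b (unitFace N)).app (op T) ψ → φ = ψ := by
    intro T φ ψ h
    have h' : ebU.hom.app (op T) φ = ebU.hom.app (op T) ψ := Subtype.ext (by rw [hιU, hιU]; exact h)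
    simpa using congrArg (ebU.inv.app (op T)) h'
  have hmonoX : ∀ (T : Over S) (φ ψ : (attr a (unitFace N)).obj (op T)),
      (attrToX a (unitFace N)).app (op T) φ = (attrToX a (unitFace N)).app (op T) ψ → φ = ψ := by
    intro T φ ψ h
    have h' : ebX.hom.app (op T) φ = ebX.hom.app (op T) ψ := Subtype.ext (by rw [hιX, hιX]; exact h)
    simpa using congrArg (ebX.inv.app (op T)) h'
  -- the fixed points of `U` and of `X`
  obtain ⟨W', i', e', hi', he'⟩ := Groth.MiscGeom.Mag.exists_representableBy_attr (unitFace N) b
  obtain ⟨W, i, e, hi, he⟩ := Groth.Agent.S18299.result S (M ⧸ Z) X U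
    (a.restrict (AMonS.map S mk)).toAction (b.restrict (AMonS.map S mk)).toAction f hfZ hfpr
    ⟨W', i', e'.ofIso ebU, hi', fun T w => (hιU T _).trans (he' T w)⟩
  let es : (attr a (unitFace N)).RepresentableBy W := e.ofIso ebX.symm
  have hes : ∀ (T : Over S) (z : T ⟶ W), (attrToX a (unitFace N)).app (op T) (es.homEquiv z) = z ≫ i := by
    intro T z
    have h' : ebX.hom.app (op T) (es.homEquiv z) = e.homEquiv z := by
      show ebX.hom.app (op T) (ebX.inv.app (op T) (e.homEquiv z)) = e.homEquiv z
      simp
    rw [← hιX, h']
    exact he T z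
  -- the atlas of `X^{N*}`
  let Z' : Over S := Over.mk (Limits.pullback.fst f.left i.left ≫ U.hom)
  let pU : Z' ⟶ U := Over.homMk (Limits.pullback.fst f.left i.left) rfl
  let k : Z' ⟶ W := Over.homMk (Limits.pullback.snd f.left i.left) (by
    show Limits.pullback.snd f.left i.left ≫ W.hom = Limits.pullback.fst f.left i.left ≫ U.hom
    rw [← Over.w f, ← Over.w i, ← Category.assoc, ← Category.assoc, Limits.pullback.condition])
  have hkp : k ≫ i = pU ≫ f := Over.OverMorphism.ext Limits.pullback.condition.symm
  haveI : Etale k.left := MorphismProperty.pullback_snd f.left i.left ‹Etale f.left›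
  haveI : Surjective k.left := MorphismProperty.pullback_snd f.left i.left ‹Surjective f.left›
  haveI := hi
  haveI : IsClosedImmersion pU.left := MorphismProperty.pullback_fst f.left i.left hi
  haveI : IsAffineHom Z'.hom := by rw [← Over.w pU]; infer_instance
  -- the attractor of `U`
  obtain ⟨V, iV, eV, hiV, -⟩ := Groth.MiscGeom.Mag.exists_representableBy_attr N b
  haveI := hiV
  haveI : IsAffineHom V.hom := by rw [← Over.w iV]; infer_instance
  let φV : (attr b N).obj (op V) := eV.homEquiv (𝟙 V)
  let uV : (attr b (unitFace N)).obj (op V) := (attrFace b (isFace_unitFace N)).app (op V) φV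
  let φ₀ : (attr a N).obj (op V) := (MonAct.eqvHom.postcomp (subAct S M N) f hf').app (op V) φV
  let π : attr a N ⟶ yoneda.obj W := attrFace a (isFace_unitFace N) ≫ es.toIso.inv
  have hπ : ∀ (T : Over S) (φ : (attr a N).obj (op T)),
      es.homEquiv (π.app (op T) φ) = (attrFace a (isFace_unitFace N)).app (op T) φ := fun T φ =>
    es.homEquiv.apply_symm_apply _
  have nat_toX : ∀ {Y : Over S} (c : MonAct (AMonS S M) Y) {T T' : Over S} (t : T' ⟶ T)
      (φ : (attr c (unitFace N)).obj (op T)), (attrToX c (unitFace N)).app (op T') ((attr c (unitFace N)).map t.op φ) =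
        t ≫ (attrToX c (unitFace N)).app (op T) φ := by
    intro Y c T T' t φ
    exact ConcreteCategory.congr_hom ((attrToX c (unitFace N)).naturality t.op) φ
  -- `X`-point of the projection
  have hproj : ∀ (T : Over S) (φ : (attr b N).obj (op T)),
      (attrToX a (unitFace N)).app (op T) ((attrFace a (isFace_unitFace N)).app (op T)
        ((MonAct.eqvHom.postcomp (subAct S M N) f hf').app (op T) φ)) =
      (attrToX b (unitFace N)).app (op T) ((attrFace b (isFace_unitFace N)).app (op T) φ) ≫ f := by
    intro T φ
    simp only [MonAct.eqvHom.evalAt_app, attrFace_app_coe, MonAct.eqvHom.postcomp_app_coe, Category.assoc]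
  let uX : V ⟶ W := π.app (op V) φ₀
  have huX : uX ≫ i = (attrToX b (unitFace N)).app (op V) uV ≫ f := by
    rw [← hes, hπ, hproj]
  let w : V ⟶ Z' := Over.homMk (Limits.pullback.lift ((attrToX b (unitFace N)).app (op V) uV).left uX.left
    (congrArg CommaMorphism.left huX).symm) (by
      show Limits.pullback.lift _ _ _ ≫ Limits.pullback.fst f.left i.left ≫ U.hom = V.hom
      rw [Limits.pullback.lift_fst_assoc]
      exact Over.w _)
  have hwk : w ≫ k = uX := Over.OverMorphism.ext (Limits.pullback.lift_snd _ _ _)
  have hwp : w ≫ pU = (attrToX b (unitFace N)).app (op V) uV := Over.OverMorphism.ext (Limits.pullback.lift_fst _ _ _)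
  haveI : IsAffineHom w.left := by
    haveI : IsAffineHom (w.left ≫ Z'.hom) := by rw [Over.w w]; infer_instance
    exact MorphismProperty.of_postcomp (W := @IsAffineHom) (W' := @IsSeparated) w.left Z'.hom inferInstance inferInstance
  -- lifting
  have huniv : ∀ (T : Over S) (φ : (attr a N).obj (op T)) (z' : T ⟶ Z'), π.app (op T) φ = z' ≫ k →
      ∃! v : T ⟶ V, (attr a N).map v.op φ₀ = φ ∧ v ≫ w = z' := by
    intro T φ z' hz
    have hx : (attrToX a (unitFace N)).app (op T) ((attrFace a (isFace_unitFace N)).app (op T) φ) = (z' ≫ pU) ≫ f := by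
      rw [← hπ, hes, hz, Category.assoc, hkp, Category.assoc]
    -- the point of `U^{N*}`
    let xf : (MonAct.fixedPsh (a.restrict (AMonS.map S mk))).obj (op T) :=
      ebX.hom.app (op T) ((attrFace a (isFace_unitFace N)).app (op T) φ)
    have hxf : xf.1 = (z' ≫ pU) ≫ f := (hιX T _).trans hx
    obtain ⟨p, -, hp⟩ := CategoryTheory.Limits.Types.exists_of_isPullback
      (hfpr.map ((CategoryTheory.evaluation (Over S)ᵒᵖ (Type u)).obj (op T))) xf (z' ≫ pU) hxf
    have hp' : p.1 = z' ≫ pU := hp
    let us : (attr b (unitFace N)).obj (op T) := ebU.inv.app (op T) p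
    have hus : (attrToX b (unitFace N)).app (op T) us = z' ≫ pU := by
      rw [← hιU, show ebU.hom.app (op T) us = p by simp [us]]
      exact hp'
    have husf : us.1 ≫ f = (AMonS.faceMap S (isFace_unitFace N) ▷ T) ≫ φ.1 :=
      congrArg Subtype.val (hmonoX T
        ((MonAct.eqvHom.postcomp (subAct S M (unitFace N)) f hf').app (op T) us)
        ((attrFace a (isFace_unitFace N)).app (op T) φ)
        (by
          rw [hx, ← hus]
          simp only [MonAct.eqvHom.evalAt_app, MonAct.eqvHom.postcomp_app_coe, Category.assoc]))
    obtain ⟨φU, ⟨hφe, hφf, hφu⟩, huniq⟩ :=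
      Groth.MagnetEtale.liftsOn (aX := a) (aU := b) hf' (isFace_unitFace N) h T φ.1 us.1 φ.2 us.2 husf
    have hmapV : ∀ v : T ⟶ V, (attr b N).map v.op φV = eV.homEquiv v := fun v => (eV.homEquiv_eq v).symm
    have hmap0 : ∀ v : T ⟶ V, ((attr a N).map v.op φ₀).1 = (eV.homEquiv v).1 ≫ f := fun v => by
      rw [← hmapV v]
      simp [φ₀, Category.assoc]
    have hface : ∀ v : T ⟶ V, v ≫ w ≫ pU =
        (attrToX b (unitFace N)).app (op T) ((attrFace b (isFace_unitFace N)).app (op T) (eV.homEquiv v)) := fun v => by
      have e1 : (attrFace b (isFace_unitFace N)).app (op T) ((attr b N).map v.op φV) =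
          (attr b (unitFace N)).map v.op uV :=
        (NatTrans.naturality_apply (attrFace b (isFace_unitFace N)) v.op φV :)
      rw [hwp]
      exact ((nat_toX b v uV).symm.trans (congrArg _ e1.symm)).trans
        (congrArg (fun ψ => (attrToX b (unitFace N)).app (op T) ((attrFace b (isFace_unitFace N)).app (op T) ψ)) (hmapV v))
    have hwk' : ∀ v : T ⟶ V, v ≫ w ≫ k = π.app (op T) ((attr a N).map v.op φ₀) := fun v => by
      rw [hwk]
      exact (NatTrans.naturality_apply π v.op φ₀ :).symm
    let v : T ⟶ V := eV.homEquiv.symm ⟨φU, hφe⟩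
    have hev : eV.homEquiv v = ⟨φU, hφe⟩ := eV.homEquiv.apply_symm_apply _
    have hv0 : (attr a N).map v.op φ₀ = φ := Subtype.ext (by rw [hmap0, hev]; exact hφf)
    refine ⟨v, ⟨hv0, ?_⟩, fun v' hv' => ?_⟩
    · refine Over.OverMorphism.ext (Limits.pullback.hom_ext ?_ ?_)
      · refine congrArg CommaMorphism.left (?_ : (v ≫ w) ≫ pU = z' ≫ pU)
        rw [Category.assoc, hface, hev, ← hus]
        exact congrArg _ (Subtype.ext hφu)
      · refine congrArg CommaMorphism.left (?_ : (v ≫ w) ≫ k = z' ≫ k)
        rw [Category.assoc, hwk', hv0, hz]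
    · refine eV.homEquiv.injective (Subtype.ext ?_)
      rw [hev]
      refine huniq _ ⟨(eV.homEquiv v').2, (hmap0 v').symm.trans (congrArg Subtype.val hv'.1), ?_⟩
      have hu : (attrFace b (isFace_unitFace N)).app (op T) (eV.homEquiv v') = us := hmonoU T _ _ (by
        rw [hus, ← hface, ← Category.assoc, hv'.2])
      exact congrArg Subtype.val hu
  obtain ⟨ZN, eN, j, hj, hjc⟩ := Groth.MagnetEtale.exists_representableBy_of_cover
    (Groth.MagnetEtale.hasDesc_eqvHom (subAct S M N) a) π k w φ₀ hwk.symm huniv
  exact ⟨ZN, W, eN, es, j, hj, fun T z => by rw [← hjc T z, hπ]⟩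

end Groth.Agent.S18304
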