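import Groth.Statements.S18308
import Groth.Agent.HenselPoint.Points

set_option autoImplicit false
universe u
open CategoryTheory CategoryTheory.Limits AlgebraicGeometry
open AlgSp

namespace Groth.Agent.S18308

/-- Let S be a scheme, X an algebraic space over S (an fppf sheaf on schemes over S with representable
diagonal and an étale atlas; no quasi-separatedness is assumed), R a Henselian local ring with a
structure morphism Spec R → S, and z : h_{Spec R} → X an R-point of X over S. Then there are an
affine scheme Z over S, a representable étale morphism p : h_Z → X and an S-morphism g : Spec R → Z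
with h_g followed by p equal to z. The source states this for algebraic stacks whose diagonal has a
separated S-fibre over the image of the closed point, giving a smooth chart in general and, by a
clause of the same statement, an étale chart when the stack is an algebraic space (no
quasi-separatedness assumed: the proof builds the chart from the algebraic space of n-element finite
étale multisections of a separated scheme atlas, which is étale over X, and a second such step
yields a scheme); only the algebraic-space case is stated here. -/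
theorem result {S : Scheme.{u}} (X : AlgSp.Space S)
    (R : Type u) [CommRing R] [HenselianLocalRing R] (str : Spec (CommRingCat.of R) ⟶ S)
    (z : (AlgSp.yon S).obj (Over.mk str) ⟶ X.obj) :
    ∃ (Z : Over S) (p : (AlgSp.yon S).obj Z ⟶ X.obj) (g : Over.mk str ⟶ Z),
      IsAffine Z.left ∧ AlgSp.RepWith @Etale p ∧ (AlgSp.yon S).map g ≫ p = z := by
  let k := IsLocalRing.ResidueField R
  let qk : Over.mk (Spec.map (CommRingCat.ofHom (IsLocalRing.residue R)) ≫ str) ⟶ Over.mk str :=
    Over.homMk (Spec.map (CommRingCat.ofHom (IsLocalRing.residue R))) rfl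
  obtain ⟨Z, p, hZ, hp, hlift⟩ :=
    Groth.HenselPoint.exists_chart_of_residue_point str X ((AlgSp.yon S).map qk ≫ z)
  have ha : (⊥ : Ideal R) ≠ ⊤ := bot_ne_top
  let t : Spec (CommRingCat.of (R ⧸ (⊥ : Ideal R))) ⟶ S :=
    Spec.map (CommRingCat.ofHom (Ideal.Quotient.mk ⊥)) ≫ str
  let e : Over.mk t ⟶ Over.mk str :=
    Over.homMk (Spec.map (CommRingCat.ofHom (Ideal.Quotient.mk ⊥))) rfl
  let e' : Over.mk str ⟶ Over.mk t :=
    Over.homMk (Spec.map (CommRingCat.ofHom (RingEquiv.quotientBot R).toRingHom)) (by
      show Spec.map _ ≫ Spec.map _ ≫ str = str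
      rw [← Spec.map_comp_assoc]
      have : CommRingCat.ofHom (Ideal.Quotient.mk (⊥ : Ideal R)) ≫
          CommRingCat.ofHom (RingEquiv.quotientBot R).toRingHom = 𝟙 (CommRingCat.of R) := by
        ext r; rfl
      rw [this, Spec.map_id, Category.id_comp])
  let qa : Over.mk (Spec.map (CommRingCat.ofHom (IsLocalRing.residue R)) ≫ str) ⟶ Over.mk t :=
    Over.homMk (Spec.map (CommRingCat.ofHom (Groth.HenselPoint.toResidue ha))) (by
      show Spec.map _ ≫ Spec.map _ ≫ str = Spec.map _ ≫ str
      rw [← Spec.map_comp_assoc]
      rfl)
  have hqe : qa ≫ e = qk := by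
    apply Over.OverMorphism.ext
    show Spec.map _ ≫ Spec.map _ = Spec.map _
    rw [← Spec.map_comp]
    rfl
  have hee : e' ≫ e = 𝟙 _ := by
    apply Over.OverMorphism.ext
    show Spec.map _ ≫ Spec.map _ = 𝟙 _
    rw [← Spec.map_comp, ← Spec.map_id]
    rfl
  obtain ⟨g, hg⟩ := hlift ⊥ ha t rfl qa rfl ((AlgSp.yon S).map e ≫ z) (by
    rw [← Category.assoc, ← Functor.map_comp, hqe])
  refine ⟨Z, p, e' ≫ g, hZ, hp, ?_⟩
  rw [Functor.map_comp, Category.assoc, hg, ← Category.assoc, ← Functor.map_comp, hee]
  exact (congrArg (· ≫ z) ((AlgSp.yon S).map_id _)).trans (Category.id_comp _)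

end Groth.Agent.S18308
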