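import Groth.Statements.S18309
import Groth.Agent.HenselPoint.Section
import Groth.Agent.AlgSpBasic.AlgSpace

set_option autoImplicit false
universe u
open CategoryTheory CategoryTheory.Limits AlgebraicGeometry
open AlgSp

namespace Groth.Agent.S18309

/-- Let S be a scheme, f : Z → X a morphism of algebraic spaces over S which is smooth (étale locally on
source and target), R a Henselian local ring with residue field k = R/m and structure morphism Spec
R → S, z : h_{Spec R} → X an R-point of X, and z₀' : h_{Spec k} → Z a k-point of Z whose composite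
with f is the restriction of z to Spec k. Then there is an R-point z' : h_{Spec R} → Z with z'
followed by f equal to z and whose restriction to Spec k is z₀'. The source states this for X an
algebraic stack (lifting up to isomorphism); the algebraic-space case is stated here. -/
theorem result {S : Scheme.{u}} {Z X : AlgSp.Space S}
    (f : Z ⟶ X) (hf : AlgSp.LocP @Smooth f.hom)
    (R : Type u) [CommRing R] [HenselianLocalRing R] (str : Spec (CommRingCat.of R) ⟶ S)
    (z : (AlgSp.yon S).obj (Over.mk str) ⟶ X.obj)
    (z₀ : (AlgSp.yon S).obj (Over.mk (Spec.map (CommRingCat.ofHom (IsLocalRing.residue R)) ≫ str)) ⟶ Z.obj)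
    (w : z₀ ≫ f.hom = (AlgSp.yon S).map (Over.homMk (Spec.map (CommRingCat.ofHom (IsLocalRing.residue R))) rfl :
        Over.mk (Spec.map (CommRingCat.ofHom (IsLocalRing.residue R)) ≫ str) ⟶ Over.mk str) ≫ z) :
    ∃ z' : (AlgSp.yon S).obj (Over.mk str) ⟶ Z.obj, z' ≫ f.hom = z ∧
      (AlgSp.yon S).map (Over.homMk (Spec.map (CommRingCat.ofHom (IsLocalRing.residue R))) rfl :
        Over.mk (Spec.map (CommRingCat.ofHom (IsLocalRing.residue R)) ≫ str) ⟶ Over.mk str) ≫ z' = z₀ := by
  let q : Over.mk (Spec.map (CommRingCat.ofHom (IsLocalRing.residue R)) ≫ str) ⟶ Over.mk str :=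
    Over.homMk (Spec.map (CommRingCat.ofHom (IsLocalRing.residue R))) rfl
  have sq := IsPullback.of_hasPullback f.hom z
  have hF : AlgSp.IsAlgSpace (Limits.pullback f.hom z) :=
    Groth.AlgSpBasic.isAlgSpace_of_isPullback sq X.property.diag Z.property
      (AlgSp.IsAlgSpace.yon_obj _)
  have hp : AlgSp.LocP @Smooth (Limits.pullback.snd f.hom z) :=
    Groth.AlgSpBasic.locP_of_isPullback Z.property X.property (AlgSp.IsAlgSpace.yon_obj _) sq hf
  obtain ⟨s, hs, hs'⟩ := Groth.HenselPoint.exists_section_lift (I := IsLocalRing.maximalIdeal R)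
    str hF (Limits.pullback.snd f.hom z) hp (IsLocalRing.maximalIdeal.isMaximal R).ne_top
    _ q rfl (Limits.pullback.lift z₀ ((AlgSp.yon S).map q) w) (Limits.pullback.lift_snd _ _ _)
  refine ⟨s ≫ Limits.pullback.fst f.hom z, ?_, ?_⟩
  · rw [Category.assoc, Limits.pullback.condition, reassoc_of% hs]
  · exact ((Category.assoc _ _ _).symm.trans (congrArg (· ≫ Limits.pullback.fst f.hom z) hs')).trans
      (Limits.pullback.lift_fst _ _ _)

end Groth.Agent.S18309
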