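import Groth.Statements.S18313
import Groth.Agent.HenselPoint.Section

set_option autoImplicit false
universe u
open CategoryTheory CategoryTheory.Limits AlgebraicGeometry
open AlgSp

namespace Groth.Agent.S18313

/-- Let R be a Henselian local ring, S = Spec R, and X an algebraic space over S which is smooth over S,
in the sense that there are a scheme U over S with smooth structure morphism U → S and a
representable étale, representable surjective morphism h_U → X. Then for every ideal a ≠ R, every
point h_{Spec (R/a)} → X over S is the composite of h_q with a point h_S → X over S, where q : Spec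
(R/a) → S is the closed immersion. The source states this for smooth algebraic stacks over R whose
diagonal has a separated fibre over the closed point (essential surjectivity on R/a-points); the
algebraic-space case is stated here. -/
theorem result (R : Type u) [CommRing R] [HenselianLocalRing R]
    (X : AlgSp.Space (Spec (CommRingCat.of R)))
    (hX : ∃ (U : Over (Spec (CommRingCat.of R))) (c : (AlgSp.yon (Spec (CommRingCat.of R))).obj U ⟶ X.obj),
      Smooth U.hom ∧ AlgSp.RepWith @Etale c ∧ AlgSp.RepWith @Surjective c)
    (a : Ideal R) (ha : a ≠ ⊤)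
    (x₀ : (AlgSp.yon (Spec (CommRingCat.of R))).obj (Over.mk (Spec.map (CommRingCat.ofHom (Ideal.Quotient.mk a)))) ⟶ X.obj) :
    ∃ x : (AlgSp.yon (Spec (CommRingCat.of R))).obj (Over.mk (𝟙 (Spec (CommRingCat.of R)))) ⟶ X.obj,
      (AlgSp.yon (Spec (CommRingCat.of R))).map (Over.homMk (Spec.map (CommRingCat.ofHom (Ideal.Quotient.mk a)))
        (Category.comp_id _) : Over.mk (Spec.map (CommRingCat.ofHom (Ideal.Quotient.mk a))) ⟶ Over.mk (𝟙 _)) ≫ x = x₀ := by
  obtain ⟨U, c, hU, hce, hcs⟩ := hX
  let Sp0 := Spec (CommRingCat.of R)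
  let one : Over Sp0 := Over.mk (𝟙 Sp0)
  let p : X.obj ⟶ (AlgSp.yon Sp0).obj one :=
    ObjectProperty.homMk
        { app := fun T => ↾fun _ => ⟨Over.homMk T.unop.hom (Category.comp_id _)⟩
          naturality := fun T T' g => by
            ext x
            apply ULift.ext
            apply Over.OverMorphism.ext
            exact (Over.w g.unop).symm }
  have hone : ∀ {T : Over Sp0} (a b : T ⟶ one), a = b := fun a b => by
    apply Over.OverMorphism.ext
    exact (Category.comp_id _).symm.trans (((Over.w a).trans (Over.w b).symm).trans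
      (Category.comp_id _))
  have hyo : ∀ {T : Over Sp0} (a b : (AlgSp.yon Sp0).obj T ⟶ (AlgSp.yon Sp0).obj one), a = b := by
    intro T a b
    obtain ⟨a, rfl⟩ := (AlgSp.yon Sp0).map_surjective a
    obtain ⟨b, rfl⟩ := (AlgSp.yon Sp0).map_surjective b
    rw [hone a b]
  have hp : AlgSp.LocP @Smooth p :=
    Groth.AlgSpBasic.locP_of_chart X.property.diag (AlgSp.IsAlgSpace.yon_obj one).diag
      (b := 𝟙 _) (h := Over.homMk U.hom (Category.comp_id _)) hce hcs (AlgSp.repWith_id _ _)
      (hyo _ _) hU
  let q : Over.mk (Spec.map (CommRingCat.ofHom (Ideal.Quotient.mk a))) ⟶ one :=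
    Over.homMk (Spec.map (CommRingCat.ofHom (Ideal.Quotient.mk a))) (Category.comp_id _)
  obtain ⟨s, -, hs⟩ := Groth.HenselPoint.exists_section_lift (𝟙 Sp0) X.property p hp ha
    (Spec.map (CommRingCat.ofHom (Ideal.Quotient.mk a))) q rfl x₀ (hyo _ _)
  exact ⟨s, hs⟩

end Groth.Agent.S18313
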