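import Groth.Statements.S18318
import Groth.Agent.ConnFin.Insep

set_option autoImplicit false
universe u
open CategoryTheory AlgebraicGeometry
open NonAbH1

namespace Groth.Agent.S18318

/-- Let K be a field of exponential characteristic p and G a finite connected K-group scheme. Then there
is an integer n ≥ 0 such that every G-torsor X over Spec K for the fppf topology (simply transitive
action, a section over the members of some fppf covering) becomes trivial over the purely
inseparable extension K^{1/p^n} of K: equivalently, X admits a K-morphism from Spec K regarded as a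
K-scheme through the n-th iterate x ↦ x^(p^n) of the Frobenius endomorphism of K. The source
moreover bounds n by p^n ≤ (#G)!; only the existence of a uniform n is stated here. In particular (p
= 1, characteristic zero) every such torsor is trivial. -/
theorem result (K : Type u) [Field K]
    (p : ℕ) [ExpChar K p] (G : Over (Spec (CommRingCat.of K))) [GrpObj G] [IsFinite G.hom] [ConnectedSpace G.left] :
    ∃ n : ℕ, ∀ (X : Over (Spec (CommRingCat.of K))) (a : AlgGrp.Action G X), NonAbH1.IsTorsorFor Scheme.fppfPrecoverage a →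
      NonAbH1.HasSectionOver X (Spec.map (CommRingCat.ofHom (iterateFrobenius K p n))) := by
  have : IsAffine G.left := isAffine_of_isAffineHom G.hom
  obtain ⟨φ₀, hφ₀⟩ := Spec.map_surjective (G.left.isoSpec.inv ≫ G.hom)
  let _alg : Algebra K Γ(G.left, ⊤) := φ₀.hom.toAlgebra
  have : Module.Finite K Γ(G.left, ⊤) := by
    have : IsFinite (Spec.map φ₀) := by rw [hφ₀]; infer_instance
    exact RingHom.finite_algebraMap.1 ((IsFinite.SpecMap_iff _).1 this)
  let e : G ≅ Groth.ConnFin.sp K Γ(G.left, ⊤) := Over.isoMk G.left.isoSpec (by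
    show G.left.isoSpec.hom ≫ Spec.map φ₀ = G.hom
    rw [hφ₀, Iso.hom_inv_id_assoc])
  refine ⟨Module.finrank K Γ(G.left, ⊤), fun X a h => ?_⟩
  obtain ⟨hps, R, hR, hsec⟩ := h
  have hX : ∀ (L : Type u) [Field L] [Algebra K L], Subsingleton (Groth.ConnFin.pt K L ⟶ X) := fun L _ _ =>
    haveI := Groth.ConnFin.subsingleton_points (K := K) (G := G) L
    Groth.ConnFin.subsingleton_of_pseudoTorsor a hps _
  obtain ⟨S', f, hf, ⟨_, hlfp⟩, ⟨t⟩⟩ := Groth.ConnFin.exists_mem_presieve hR
  obtain ⟨s, hs⟩ := hsec f hf
  obtain ⟨L, _, _, _, -, ⟨x⟩⟩ := Groth.ConnFin.exists_point X f s hs t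
  obtain ⟨F, _, _, _, _, j, _⟩ := Groth.ConnFin.exists_purelyInseparable_mono hX L x
  obtain ⟨φ, hφ⟩ := Groth.ConnFin.exists_frobenius_section K F p _
    (Groth.ConnFin.finrank_le_of_pseudoTorsor e a hps F j)
  refine ⟨Spec.map (CommRingCat.ofHom φ) ≫ j.left, ?_⟩
  have hw : j.left ≫ X.hom = Spec.map (CommRingCat.ofHom (algebraMap K F)) := Over.w j
  rw [Category.assoc, hw, ← Spec.map_comp, ← CommRingCat.ofHom_comp, hφ]

end Groth.Agent.S18318
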