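import Groth.Statements.S18319
import Groth.Agent.ConnFin.Basic

set_option autoImplicit false
universe u
open CategoryTheory AlgebraicGeometry
open NonAbH1

namespace Groth.Agent.S18319

/-- Let K be a perfect field and G a finite connected K-group scheme (G → Spec K finite, G connected).
Then every G-torsor X over Spec K for the fppf topology (simply transitive action, a section over
the members of some fppf covering of Spec K) is trivial: X has a K-point. -/
theorem result (K : Type u) [Field K]
    [PerfectField K] (G X : Over (Spec (CommRingCat.of K))) [GrpObj G] [IsFinite G.hom] [ConnectedSpace G.left]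
    (a : AlgGrp.Action G X) (h : NonAbH1.IsTorsorFor Scheme.fppfPrecoverage a) :
    NonAbH1.HasSectionOver X (𝟙 (Spec (CommRingCat.of K))) := by
  obtain ⟨hps, R, hR, hsec⟩ := h
  have hX : ∀ (L : Type u) [Field L] [Algebra K L], Subsingleton (Groth.ConnFin.pt K L ⟶ X) := fun L _ _ =>
    haveI := Groth.ConnFin.subsingleton_points (K := K) (G := G) L
    Groth.ConnFin.subsingleton_of_pseudoTorsor a hps _
  obtain ⟨Y, g, hg, t, -⟩ := hR.1 (IsLocalRing.closedPoint K)
  obtain @⟨S', f, hf⟩ := hg
  obtain ⟨s, hs⟩ := hsec f hf
  obtain ⟨_, hlfp⟩ := hR.2 hf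
  obtain ⟨L, _, _, _, -, ⟨x⟩⟩ := Groth.ConnFin.exists_point X f s hs t
  have : Algebra.IsSeparable K L := inferInstance
  exact Groth.ConnFin.hasSectionOver_of_point hX L x

end Groth.Agent.S18319
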