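import Groth.Statements.S18325
import Groth.Agent.HenselPoint.Section
import Groth.Agent.AlgStBasic.Space

set_option autoImplicit false
universe u
open AlgSt

namespace Groth.Agent.S18325

open CategoryTheory AlgebraicGeometry in
/-- Let S be a scheme, 𝒵 an algebraic stack over (Sch/S) for the fppf topology, Z an algebraic space
over S and f : Z → 𝒵 a functor over (Sch/S) (from the category of points of Z) which is
representable by algebraic spaces and smooth. Let R be a Henselian local ring with residue field k =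
R/m and structure morphism Spec R → S, let z : (Sch/Spec R) → 𝒵 be an object of 𝒵 over Spec R, and
let z₀' : h_{Spec k} → Z be a k-point of Z whose image under f is isomorphic, over (Sch/S), to the
restriction of z to Spec k. Then there is an R-point z' : h_{Spec R} → Z whose restriction to Spec k
is z₀' and whose image under f is isomorphic to z over (Sch/S). -/
theorem result {S : Scheme.{u}} (𝒵 : AlgSt.Cat S)
    (h𝒵 : AlgSt.IsAlgStack Scheme.fppfPrecoverage 𝒵) (Z : AlgSp.Space S)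
    (f : AlgSt.ofSp Z.obj ⥤ᵇ 𝒵) (hf : AlgSt.RepByAlgSpWith (AlgSp.LocP @Smooth) f)
    (R : Type u) [CommRing R] [HenselianLocalRing R] (str : Spec (CommRingCat.of R) ⟶ S)
    (z : FibCat.overCat (Over.mk str) ⥤ᵇ 𝒵)
    (z₀ : (AlgSp.yon S).obj (Over.mk ((Spec.map (CommRingCat.ofHom (IsLocalRing.residue R))) ≫ str)) ⟶ Z.obj)
    (w : Nonempty (BasedFunctor.comp (BasedFunctor.comp (AlgSt.ofOverCat (Over.mk ((Spec.map (CommRingCat.ofHom (IsLocalRing.residue R))) ≫ str))) (AlgSt.ofSpMap z₀)) f ≅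
      BasedFunctor.comp (AlgSt.overMap (Over.homMk (Spec.map (CommRingCat.ofHom (IsLocalRing.residue R))) rfl : Over.mk ((Spec.map (CommRingCat.ofHom (IsLocalRing.residue R))) ≫ str) ⟶ Over.mk str)) z)) :
    ∃ z' : (AlgSp.yon S).obj (Over.mk str) ⟶ Z.obj,
      (AlgSp.yon S).map (Over.homMk (Spec.map (CommRingCat.ofHom (IsLocalRing.residue R))) rfl : Over.mk ((Spec.map (CommRingCat.ofHom (IsLocalRing.residue R))) ≫ str) ⟶ Over.mk str) ≫ z' = z₀ ∧
        Nonempty (BasedFunctor.comp (BasedFunctor.comp (AlgSt.ofOverCat (Over.mk str)) (AlgSt.ofSpMap z')) f ≅ z) := by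
  obtain ⟨F, e, he, hP⟩ := hf (Over.mk str) z
  obtain ⟨E', hE', -, ⟨ε⟩⟩ := Groth.StkBase.isEquivOver_symm he
  let T : Over S := Over.mk str
  let Tk : Over S := Over.mk ((Spec.map (CommRingCat.ofHom (IsLocalRing.residue R))) ≫ str)
  let q : Tk ⟶ T := Over.homMk (Spec.map (CommRingCat.ofHom (IsLocalRing.residue R))) rfl
  let a : AlgSt.ofSp F.obj ⥤ᵇ FibCat.overCat T := BasedFunctor.comp e (FibCat.fpFst z f)
  let b : AlgSt.ofSp F.obj ⥤ᵇ AlgSt.ofSp Z.obj := BasedFunctor.comp e (FibCat.fpSnd z f)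
  let p : F.obj ⟶ (AlgSp.yon S).obj T := AlgSt.spMapOfOver a
  let bm : F.obj ⟶ Z.obj := ObjectProperty.homMk (Groth.StkBase.pshMapOf b)
  let L : FibCat.overCat Tk ⥤ᵇ FibCat.fp z f :=
    FibCat.fpLift (AlgSt.overMap q) (BasedFunctor.comp (AlgSt.ofOverCat Tk) (AlgSt.ofSpMap z₀))
      w.some.symm
  let G : AlgSt.ofSch Tk ⥤ᵇ AlgSt.ofSp F.obj :=
    BasedFunctor.comp (BasedFunctor.comp (AlgSt.toOverCat Tk) L) E'
  let ξ : (AlgSp.yon S).obj Tk ⟶ F.obj := ObjectProperty.homMk (Groth.StkBase.pshMapOf G)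
  -- the point of the fibre product
  have hξ : ξ ≫ p = (AlgSp.yon S).map q := by
    rw [← Groth.AlgStBasic.spMapOfOver_toOverCat q]
    apply ObjectProperty.hom_ext
    rw [Groth.AlgStBasic.spMapOfOver_hom_eq]
    show Groth.StkBase.pshMapOf G ≫ (AlgSt.spMapOfOver a).hom = _
    rw [Groth.AlgStBasic.spMapOfOver_hom_eq, ← Groth.StkBase.pshMapOf_comp]
    exact Groth.StkBase.pshMapOf_eq_of_iso (Groth.StkBase.whiskerLeftIso
      (BasedFunctor.comp (AlgSt.toOverCat Tk) L)
      (Groth.StkBase.whiskerRightIso ε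
        (BasedFunctor.comp (FibCat.fpFst z f) (AlgSt.ofOverCat T))))
  have hξb : ξ ≫ bm = z₀ := by
    apply ObjectProperty.hom_ext
    show Groth.StkBase.pshMapOf G ≫ Groth.StkBase.pshMapOf b = z₀.hom
    rw [← Groth.StkBase.pshMapOf_comp, ← Groth.StkBase.pshMapOf_ofPshMap z₀.hom]
    exact Groth.StkBase.pshMapOf_eq_of_iso (Groth.StkBase.whiskerLeftIso
      (BasedFunctor.comp (AlgSt.toOverCat Tk) L)
      (Groth.StkBase.whiskerRightIso ε (FibCat.fpSnd z f)))
  obtain ⟨s, hs, hs'⟩ := Groth.HenselPoint.exists_section_lift (I := IsLocalRing.maximalIdeal R)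
    str F.property p hP (IsLocalRing.maximalIdeal.isMaximal R).ne_top _ q rfl ξ hξ
  refine ⟨s ≫ bm, ((Category.assoc _ _ _).symm.trans
    (congrArg (fun k => k ≫ bm) hs')).trans hξb, ⟨?_⟩⟩
  let H : FibCat.overCat T ⥤ᵇ FibCat.fp z f :=
    BasedFunctor.comp (BasedFunctor.comp (AlgSt.ofOverCat T) (AlgSt.ofSpMap s)) e
  let ia := (Groth.StkBase.nonempty_iso_pshMapOf
    (BasedFunctor.comp a (AlgSt.ofOverCat T))).some
  let ib := (Groth.StkBase.nonempty_iso_pshMapOf b).some
  have h1 : Stk.ofPshMap (s.hom ≫ Groth.StkBase.pshMapOf (BasedFunctor.comp a (AlgSt.ofOverCat T))) =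
      BasedFunctor.id _ := by
    have hs'' := congrArg (fun k => k.hom) hs
    simp only [ObjectProperty.FullSubcategory.comp_hom] at hs''
    rw [← Groth.AlgStBasic.spMapOfOver_hom_eq, hs'']
    rfl
  let i1 : BasedFunctor.comp H (FibCat.fpFst z f) ≅ BasedFunctor.id (FibCat.overCat T) :=
    Groth.StkBase.whiskerLeftIso (BasedFunctor.comp (AlgSt.ofOverCat T) (AlgSt.ofSpMap s))
        (Groth.StkBase.whiskerRightIso ia (AlgSt.toOverCat T)) ≪≫
      Groth.StkBase.whiskerLeftIso (AlgSt.ofOverCat T)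
        (Groth.StkBase.whiskerRightIso (eqToIso h1) (AlgSt.toOverCat T))
  exact (Groth.StkBase.whiskerRightIso (Groth.StkBase.whiskerLeftIso
      (BasedFunctor.comp (AlgSt.ofOverCat T) (AlgSt.ofSpMap s)) ib) f).symm ≪≫
    (Groth.StkBase.whiskerLeftIso H (FibCat.fpIso z f)).symm ≪≫
    Groth.StkBase.whiskerRightIso i1 z

end Groth.Agent.S18325
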