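import Groth.Statements.S18328
import Groth.Agent.StkBG.Diag
-- import your own Groth.Agent.* helpers here

set_option autoImplicit false
universe u
open CategoryTheory AlgebraicGeometry MonoidalCategory
open AlgSt

namespace Groth.Agent.S18328

/-- Let S be a scheme and G a group algebraic space over S, given as a group object over the terminal
fppf sheaf h_S on schemes over S whose underlying sheaf is an algebraic space. Let P be a property
of morphisms of fppf sheaves over S; assume P is preserved under base change and that, for morphisms
of algebraic spaces, P can be checked fppf-locally on the target (for every fppf covering of an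
algebraic space by algebraic spaces, a morphism of algebraic spaces to it has P if and only if all
its base changes do). If G → h_S has P, then the diagonal of the classifying stack BG over (Sch/S)
(objects over T: the fppf G_T-torsors given as fppf sheaves) is representable by algebraic spaces
with property P, and the functor h_S → BG given by the trivial torsor is representable by algebraic
spaces with property P. -/
theorem result (S : Scheme.{u})
    (G : Over ((AlgSp.yon S).obj (Over.mk (𝟙 S)))) [GrpObj G] (hG : AlgSp.IsAlgSpace G.left)
    (P : MorphismProperty (AlgSp.Sp S)) [P.IsStableUnderBaseChange]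
    (hloc : AlgSp.IsLocalOnBase AlgSp.IsFppfCover P) (hP : P G.hom) :
    AlgSt.RepByAlgSpWith P (FibCat.diag (FibCat.toSelf (AlgSt.SpBG Scheme.fppfPrecoverage G))) ∧
      AlgSt.RepByAlgSpWith P (AlgSt.spQuotMap Scheme.fppfPrecoverage G (AlgSt.trivGAction G)) := by
  exact ⟨Groth.StkBG.repWith_diag_spBG hG hloc hP,
    Groth.StkBG.repWith_spQuotMap _ (AlgSp.IsAlgSpace.yon_obj _) hG hloc hP⟩

end Groth.Agent.S18328
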