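import Groth.Statements.S18329
import Mathlib.LinearAlgebra.Lagrange
import Mathlib.LinearAlgebra.TensorProduct.Basis
import Mathlib.RingTheory.Ideal.MinimalPrime.Noetherian
import Mathlib.RingTheory.Jacobson.Ring
import Mathlib.RingTheory.FiniteStability
import Mathlib.RingTheory.HopfAlgebra.Convolution
-- import your own Groth.Agent.* helpers here

set_option autoImplicit false
universe u
open TensorProduct
open SGA3

namespace Groth.Agent.S18329

open scoped Polynomial

variable {k : Type u} [Field k]

theorem finite_idempotents (R : Type u) [CommRing R] [IsNoetherianRing R] :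
    {v : R | v * v = v}.Finite := by
  have : Finite (Set (minimalPrimes R)) := by
    have := (minimalPrimes.finite_of_isNoetherianRing R).to_subtype
    infer_instance
  refine Set.Finite.of_finite_image (f := fun v => {q : minimalPrimes R | v ∈ q.1}) (Set.toFinite _) ?_
  intro v (hv : v * v = v) w (hw : w * w = w) hvw
  have key : ∀ a b : R, a * a = a → b * b = b →
      (∀ q : minimalPrimes R, b ∈ q.1 → a ∈ q.1) → a * (1 - b) = 0 := by
    intro a b ha hb h
    have hnil : IsNilpotent (a * (1 - b)) := by
      rw [← mem_nilradical, nilradical, ← Ideal.sInf_minimalPrimes, Ideal.mem_sInf]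
      intro q hq
      have hqp : q.IsPrime := Ideal.IsMinimalPrime.isPrime hq
      rcases hqp.mem_or_mem (show b * (1 - b) ∈ q by rw [mul_sub, mul_one, hb, sub_self]; exact q.zero_mem) with h' | h'
      · exact q.mul_mem_right _ (h ⟨q, hq⟩ h')
      · exact q.mul_mem_left _ h'
    exact IsIdempotentElem.eq_zero_of_isNilpotent
      (by unfold IsIdempotentElem; linear_combination ha * (1 - b) * (1 - b) + a * hb) hnil
  have h1 := key v w hv hw (fun q hq => (Set.ext_iff.1 hvw q).2 hq)
  have h2 := key w v hw hv (fun q hq => (Set.ext_iff.1 hvw q).1 hq)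
  linear_combination h1 - h2

theorem idem_eq_of_points [IsAlgClosed k] {T : Type u} [CommRing T] [Algebra k T] [Algebra.FiniteType k T]
    {a b : T} (ha : a * a = a) (hb : b * b = b) (h : ∀ φ : T →ₐ[k] k, φ a = φ b) : a = b := by
  have : IsJacobsonRing T := isJacobsonRing_of_finiteType (A := k)
  have hnil : IsNilpotent (a - b) := by
    rw [← mem_nilradical, nilradical, Ideal.radical_eq_jacobson,
      Ideal.jacobson, Ideal.mem_sInf]
    rintro m ⟨-, hm⟩
    let := Ideal.Quotient.field m
    have : Module.Finite k (T ⧸ m) := finite_of_finite_type_of_isJacobsonRing k (T ⧸ m)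
    have hbij := IsAlgClosed.algebraMap_bijective_of_isIntegral (k := k) (K := T ⧸ m)
    let e : k ≃ₐ[k] (T ⧸ m) := AlgEquiv.ofBijective (Algebra.ofId k _) hbij
    have := h (e.symm.toAlgHom.comp (Ideal.Quotient.mkₐ k m))
    rw [← Ideal.Quotient.eq_zero_iff_mem, map_sub, sub_eq_zero]
    exact e.symm.injective this
  obtain ⟨n, hn⟩ := hnil
  have h3 : (a - b) * (a - b) ^ 2 = a - b := by linear_combination (a + 1 - 3 * b) * ha - (b + 1 - 3 * a) * hb
  have h4 : ∀ i : ℕ, a - b = (a - b) * ((a - b) ^ 2) ^ i := by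
    intro i
    induction i with
    | zero => simp
    | succ i ih => rw [pow_succ, ← mul_assoc, ← ih, h3]
  rw [← sub_eq_zero, h4 n, ← pow_mul, mul_comm 2 n, pow_mul, hn]
  simp

open scoped Classical in
theorem idem_mem [IsAlgClosed k] {A : Type u} [CommRing A] [Algebra k A] (B : Subalgebra k A)
    (hB : ∀ v : A, v * v = v → v ∈ B) (e : A ⊗[k] A) (he : e * e = e) :
    e ∈ LinearMap.range (TensorProduct.map (Subalgebra.toSubmodule B).subtype (Subalgebra.toSubmodule B).subtype) := by
  obtain ⟨F, rfl⟩ := TensorProduct.exists_finset e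
  let A' : Subalgebra k A := Algebra.adjoin k ((F.image Prod.fst ∪ F.image Prod.snd : Finset A) : Set A)
  have hA'ft : Algebra.FiniteType k A' := (Subalgebra.fg_iff_finiteType _).1 (Subalgebra.fg_adjoin_finset _)
  have : IsNoetherianRing A' := Algebra.FiniteType.isNoetherianRing k A'
  let ι := Algebra.TensorProduct.map A'.val A'.val
  have hι : Function.Injective ι := by
    change Function.Injective (TensorProduct.map A'.val.toLinearMap A'.val.toLinearMap)
    exact TensorProduct.map_injective_of_flat_flat _ _ Subtype.val_injective Subtype.val_injective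
  let e' : A' ⊗[k] A' := ∑ i ∈ F.attach, (⟨i.1.1, Algebra.subset_adjoin (by
    simp only [Finset.coe_union, Finset.coe_image, Set.mem_union, Set.mem_image, Finset.mem_coe]
    exact Or.inl ⟨i.1, i.2, rfl⟩)⟩ : A') ⊗ₜ[k] (⟨i.1.2, Algebra.subset_adjoin (by
    simp only [Finset.coe_union, Finset.coe_image, Set.mem_union, Set.mem_image, Finset.mem_coe]
    exact Or.inr ⟨i.1, i.2, rfl⟩)⟩ : A')
  have hιe : ι e' = ∑ i ∈ F, i.1 ⊗ₜ[k] i.2 := by
    rw [← Finset.sum_attach F]; simp [e', ι]
  rw [← hιe] at he ⊢
  have he' : e' * e' = e' := hι (by rw [map_mul, he])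
  let E := (finite_idempotents A').toFinset
  have hE : ∀ v : A', v ∈ E ↔ v * v = v := by simp [E]
  let π : Finset A' → A' := fun S => (∏ v ∈ S, v) * ∏ v ∈ E \ S, (1 - v)
  have : Algebra.FiniteType k (A' ⊗[k] A') := by
    have := hA'ft
    exact Algebra.FiniteType.trans (S := A') hA'ft inferInstance
  have hsum : ∑ S ∈ E.powerset, π S = 1 := by
    rw [← Finset.prod_add]; simp
  have hπ : ∀ S ∈ E.powerset, π S * π S = π S := by
    intro S hS
    simp only [π]
    have h1 : (∏ v ∈ S, v) * ∏ v ∈ S, v = ∏ v ∈ S, v := by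
      rw [← Finset.prod_mul_distrib]
      exact Finset.prod_congr rfl fun v hv => (hE v).1 (Finset.mem_powerset.1 hS hv)
    have h2 : (∏ v ∈ E \ S, (1 - v)) * ∏ v ∈ E \ S, (1 - v) = ∏ v ∈ E \ S, (1 - v) := by
      rw [← Finset.prod_mul_distrib]
      exact Finset.prod_congr rfl fun v hv => by
        linear_combination (hE v).1 (Finset.mem_sdiff.1 hv).1
    rw [mul_mul_mul_comm, h1, h2]
  have hpt : ∀ S ∈ E.powerset, ∀ x : A' →ₐ[k] k, x (π S) = 1 → ∀ v ∈ E, x v = if v ∈ S then 1 else 0 := by
    intro S hS x hx v hv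
    have hv' := (hE v).1 hv
    simp only [π, map_mul, map_prod, map_sub, map_one] at hx
    rcases IsIdempotentElem.iff_eq_zero_or_one.1 (show IsIdempotentElem (x v) by
      rw [IsIdempotentElem, ← map_mul, hv']) with h | h <;> split_ifs with hS'
    · rw [Finset.prod_eq_zero hS' h, zero_mul] at hx; exact absurd hx zero_ne_one
    · exact h
    · exact h
    · rw [Finset.prod_eq_zero (Finset.mem_sdiff.2 ⟨hv, hS'⟩) (by rw [h, sub_self]), mul_zero] at hx
      exact absurd hx zero_ne_one
  let P : (A' →ₐ[k] k) → (A' →ₐ[k] k) → (A' ⊗[k] A' →ₐ[k] k) := fun x y =>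
    Algebra.TensorProduct.lift x y (fun _ _ => Commute.all _ _)
  have hconst : ∀ S ∈ E.powerset, ∀ T ∈ E.powerset, ∀ x x' y y' : A' →ₐ[k] k,
      x (π S) = 1 → x' (π S) = 1 → y (π T) = 1 → y' (π T) = 1 → P x y e' = P x' y' e' := by
    intro S hS T hT x x' y y' hx hx' hy hy'
    let L : A' ⊗[k] A' →ₐ[k] A' :=
      Algebra.TensorProduct.lift ((Algebra.ofId k A').comp x) (AlgHom.id k A') (fun _ _ => Commute.all _ _)
    let R : A' ⊗[k] A' →ₐ[k] A' :=
      Algebra.TensorProduct.lift (AlgHom.id k A') ((Algebra.ofId k A').comp y') (fun _ _ => Commute.all _ _)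
    have hLc : ∀ z : A' →ₐ[k] k, z.comp L = P x z := fun z => by
      ext a <;> simp [L, P]
    have hRc : ∀ z : A' →ₐ[k] k, z.comp R = P z y' := fun z => by
      ext a <;> simp [R, P]
    have hL : L e' ∈ E := (hE _).2 (by rw [← map_mul, he'])
    have hR : R e' ∈ E := (hE _).2 (by rw [← map_mul, he'])
    calc P x y e' = y (L e') := (AlgHom.congr_fun (hLc y) e').symm
      _ = y' (L e') := by rw [hpt T hT y hy _ hL, hpt T hT y' hy' _ hL]
      _ = P x y' e' := AlgHom.congr_fun (hLc y') e'
      _ = x (R e') := (AlgHom.congr_fun (hRc x) e').symm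
      _ = x' (R e') := by rw [hpt S hS x hx _ hR, hpt S hS x' hx' _ hR]
      _ = P x' y' e' := AlgHom.congr_fun (hRc x') e'
  have hdec : e' = ∑ S ∈ E.powerset, ∑ T ∈ E.powerset, (π S ⊗ₜ[k] π T) * e' := by
    simp only [← Finset.sum_mul, ← TensorProduct.tmul_sum, ← TensorProduct.sum_tmul, hsum]
    rw [← Algebra.TensorProduct.one_def, one_mul]
  rw [hdec, map_sum]
  refine Submodule.sum_mem _ fun S hS => ?_
  rw [map_sum]
  refine Submodule.sum_mem _ fun T hT => ?_
  have hid : π S ⊗ₜ[k] π T * π S ⊗ₜ[k] π T = π S ⊗ₜ[k] π T := by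
    rw [Algebra.TensorProduct.tmul_mul_tmul, hπ S hS, hπ T hT]
  have hid2 : (π S ⊗ₜ[k] π T * e') * (π S ⊗ₜ[k] π T * e') = π S ⊗ₜ[k] π T * e' := by
    rw [mul_mul_mul_comm, hid, he']
  have hsplit : ∀ φ : A' ⊗[k] A' →ₐ[k] k,
      φ = P (φ.comp Algebra.TensorProduct.includeLeft) (φ.comp Algebra.TensorProduct.includeRight) := fun φ => by
    ext a <;> simp [P]
  by_cases hex : ∃ x y, x (π S) = 1 ∧ y (π T) = 1 ∧ P x y e' = 1
  · obtain ⟨x, y, hx, hy, hxy⟩ := hex
    have heq : π S ⊗ₜ[k] π T * e' = π S ⊗ₜ[k] π T := idem_eq_of_points (k := k) hid2 hid fun φ => by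
      rw [map_mul]
      rcases IsIdempotentElem.iff_eq_zero_or_one.1 (show IsIdempotentElem (φ (π S ⊗ₜ[k] π T)) by
        rw [IsIdempotentElem, ← map_mul, hid]) with h | h
      · rw [h, zero_mul]
      · rw [h, one_mul, hsplit φ, ← hxy]
        have hm : φ.comp Algebra.TensorProduct.includeLeft (π S) * φ.comp Algebra.TensorProduct.includeRight (π T) = 1 := by
          simpa [← map_mul] using h
        refine hconst S hS T hT _ _ _ _ ?_ hx ?_ hy
        · rcases IsIdempotentElem.iff_eq_zero_or_one.1 (show IsIdempotentElem (φ.comp Algebra.TensorProduct.includeLeft (π S)) by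
            rw [IsIdempotentElem, ← map_mul, hπ S hS]) with h' | h'
          · rw [h', zero_mul] at hm; exact absurd hm zero_ne_one
          · exact h'
        · rcases IsIdempotentElem.iff_eq_zero_or_one.1 (show IsIdempotentElem (φ.comp Algebra.TensorProduct.includeRight (π T)) by
            rw [IsIdempotentElem, ← map_mul, hπ T hT]) with h' | h'
          · rw [h', mul_zero] at hm; exact absurd hm zero_ne_one
          · exact h'
    rw [heq]
    exact ⟨(⟨A'.val (π S), hB _ (by rw [← map_mul, hπ S hS])⟩ : Subalgebra.toSubmodule B) ⊗ₜ[k]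
      (⟨A'.val (π T), hB _ (by rw [← map_mul, hπ T hT])⟩ : Subalgebra.toSubmodule B), by simp [ι]⟩
  · have heq : π S ⊗ₜ[k] π T * e' = 0 := idem_eq_of_points (k := k) hid2 (mul_zero 0) fun φ => by
      rw [map_zero]
      rcases IsIdempotentElem.iff_eq_zero_or_one.1 (show IsIdempotentElem (φ (π S ⊗ₜ[k] π T * e')) by
        rw [IsIdempotentElem, ← map_mul, hid2]) with h | h
      · exact h
      · exfalso
        rw [hsplit φ] at h
        rcases IsIdempotentElem.iff_eq_zero_or_one.1 (show IsIdempotentElem (φ.comp Algebra.TensorProduct.includeLeft (π S)) by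
          rw [IsIdempotentElem, ← map_mul, hπ S hS]) with h1 | h1
        · simp [P] at h h1; simp [h1] at h
        rcases IsIdempotentElem.iff_eq_zero_or_one.1 (show IsIdempotentElem (φ.comp Algebra.TensorProduct.includeRight (π T)) by
          rw [IsIdempotentElem, ← map_mul, hπ T hT]) with h2 | h2
        · simp [P] at h h2; simp [h2] at h
        exact hex ⟨_, _, h1, h2, by
          simp only [P, map_mul, Algebra.TensorProduct.lift_tmul, h1, h2, one_mul] at h
          exact h⟩
    rw [heq]
    simp

open scoped Classical in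
theorem mem_span_idem [IsAlgClosed k] {R T : Type u} [CommRing R] [Algebra k R] [CommRing T] [Algebra k T]
    (f : R →ₐ[k] T) {a : R} (ha : IsSeparable k a) : f a ∈ Submodule.span k {v : T | v * v = v} := by
  cases subsingleton_or_nontrivial R
  · rw [Subsingleton.elim a 0, map_zero]; exact Submodule.zero_mem _
  have hint : IsIntegral k a := by
    by_contra h
    have h0 : (minpoly k a).Separable := ha
    rw [minpoly.eq_zero h] at h0
    exact Polynomial.not_separable_zero h0
  set m := minpoly k a with hm
  have hsplit : m.Splits := IsAlgClosed.splits _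
  let s : Finset k := m.roots.toFinset
  have hms : m = Lagrange.nodal s id := by
    rw [Lagrange.nodal_eq, Finset.prod, Multiset.toFinset_val, (Polynomial.nodup_roots ha).dedup]
    conv_lhs => rw [hsplit.eq_prod_roots_of_monic (minpoly.monic hint)]
    rfl
  have hs : s.Nonempty := by
    rw [Finset.nonempty_iff_ne_empty]
    intro he
    have : m = 1 := by rw [hms, he]; simp [Lagrange.nodal_eq]
    exact minpoly.ne_one k a this
  have hdvd : ∀ g : k[X], (∀ r ∈ s, g.eval r = 0) → Polynomial.aeval (f a) g = 0 := by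
    intro g hg
    have : m ∣ g := by
      rw [hms, Lagrange.nodal_eq]
      exact Finset.prod_dvd_of_coprime ((Polynomial.pairwise_coprime_X_sub_C Function.injective_id).set_pairwise _)
        fun r hr => Polynomial.dvd_iff_isRoot.2 (hg r hr)
    obtain ⟨q, rfl⟩ := this
    rw [Polynomial.aeval_algHom_apply, map_mul, minpoly.aeval, zero_mul, map_zero]
  let ε : k → T := fun r => Polynomial.aeval (f a) (Lagrange.basis s id r)
  have hεi : ∀ r ∈ s, ε r * ε r = ε r := by
    intro r hr
    rw [← sub_eq_zero]
    simp only [ε, ← map_mul, ← map_sub]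
    refine hdvd _ fun t ht => ?_
    rcases eq_or_ne r t with rfl | hne
    · simp [show (Lagrange.basis s id r).eval r = 1 from Lagrange.eval_basis_self (Set.injOn_id _) hr]
    · simp [show (Lagrange.basis s id r).eval t = 0 from Lagrange.eval_basis_of_ne (v := id) hne ht]
  have hexp : f a = ∑ r ∈ s, r • ε r := by
    rw [← sub_eq_zero]
    have : f a - ∑ r ∈ s, r • ε r = Polynomial.aeval (f a) (Polynomial.X - ∑ r ∈ s, r • Lagrange.basis s id r) := by
      simp [ε, map_sum]
    rw [this]
    refine hdvd _ fun t ht => ?_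
    rw [Polynomial.eval_sub, Polynomial.eval_X, Polynomial.eval_finsetSum, Finset.sum_eq_single t]
    · simp [show (Lagrange.basis s id t).eval t = 1 from Lagrange.eval_basis_self (Set.injOn_id _) ht]
    · intro r _ hne
      simp [show (Lagrange.basis s id r).eval t = 0 from Lagrange.eval_basis_of_ne (v := id) hne ht]
    · exact fun h => absurd ht h
  rw [hexp]
  exact Submodule.sum_mem _ fun r hr => Submodule.smul_mem _ _ (Submodule.subset_span (hεi r hr))

theorem isSeparable_idem {A : Type u} [CommRing A] [Algebra k A] {v : A} (hv : v * v = v) : IsSeparable k v := by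
  have h : minpoly k v ∣ Polynomial.X * (Polynomial.X - Polynomial.C (1 : k)) :=
    minpoly.dvd k v (by simp [mul_sub, hv])
  refine Polynomial.Separable.of_dvd ?_ h
  refine Polynomial.separable_X.mul Polynomial.separable_X_sub_C ?_
  exact ⟨1, -1, by simp⟩

theorem range_inf {V : Type u} [AddCommGroup V] [Module k V] (U W : Submodule k V) (t : V ⊗[k] V)
    (hU : t ∈ LinearMap.range (TensorProduct.map U.subtype U.subtype))
    (hW : t ∈ LinearMap.range (TensorProduct.map W.subtype W.subtype)) :
    t ∈ LinearMap.range (TensorProduct.map (U ⊓ W).subtype (U ⊓ W).subtype) := by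
  obtain ⟨P, hP⟩ := (U ⊓ W).subtype.exists_leftInverse_of_injective (Submodule.ker_subtype _)
  let Q : V →ₗ[k] V := (U ⊓ W).subtype ∘ₗ P
  have hQ : ∀ w ∈ U ⊓ W, Q w = w := fun w hw =>
    congrArg Subtype.val (LinearMap.congr_fun hP ⟨w, hw⟩)
  have slices : ∀ (Y : Submodule k V), t ∈ LinearMap.range (TensorProduct.map Y.subtype Y.subtype) →
      ∀ g : V →ₗ[k] k, TensorProduct.rid k V (g.lTensor V t) ∈ Y ∧ TensorProduct.lid k V (g.rTensor V t) ∈ Y := by
    rintro Y ⟨z, rfl⟩ g
    clear hU hW
    induction z using TensorProduct.induction_on with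
    | zero => simp
    | tmul a b =>
      simp only [TensorProduct.map_tmul, LinearMap.lTensor_tmul, LinearMap.rTensor_tmul, TensorProduct.rid_tmul,
        TensorProduct.lid_tmul, Submodule.subtype_apply]
      exact ⟨Y.smul_mem _ a.2, Y.smul_mem _ b.2⟩
    | add a b ha hb =>
      simp only [map_add]
      exact ⟨Y.add_mem ha.1 hb.1, Y.add_mem ha.2 hb.2⟩
  let b := Module.Free.chooseBasis k V
  have h1 : Q.rTensor V t = t := by
    refine (TensorProduct.equivFinsuppOfBasisRight b).injective (Finsupp.ext fun i => ?_)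
    simp only [TensorProduct.equivFinsuppOfBasisRight_apply]
    have hc : ∀ z : V ⊗[k] V, TensorProduct.rid k V ((b.coord i).lTensor V (Q.rTensor V z)) =
        Q (TensorProduct.rid k V ((b.coord i).lTensor V z)) := by
      intro z; induction z <;> simp_all
    rw [hc, hQ _ ⟨(slices U hU _).1, (slices W hW _).1⟩]
  have h2 : Q.lTensor V t = t := by
    refine (TensorProduct.equivFinsuppOfBasisLeft b).injective (Finsupp.ext fun i => ?_)
    simp only [TensorProduct.equivFinsuppOfBasisLeft_apply]
    have hc : ∀ z : V ⊗[k] V, TensorProduct.lid k V ((b.coord i).rTensor V (Q.lTensor V z)) =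
        Q (TensorProduct.lid k V ((b.coord i).rTensor V z)) := by
      intro z; induction z <;> simp_all
    rw [hc, hQ _ ⟨(slices U hU _).2, (slices W hW _).2⟩]
  refine ⟨TensorProduct.map P P t, ?_⟩
  calc TensorProduct.map (U ⊓ W).subtype (U ⊓ W).subtype (TensorProduct.map P P t)
      = Q.rTensor V (Q.lTensor V t) := by
        rw [← LinearMap.comp_apply, ← TensorProduct.map_comp]
        rw [← LinearMap.comp_apply, LinearMap.rTensor_comp_lTensor]
    _ = t := by rw [h2, h1]

theorem range_val {A : Type u} [CommRing A] [Algebra k A] (B : Subalgebra k A) :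
    LinearMap.range (TensorProduct.map B.val.toLinearMap B.val.toLinearMap) =
      LinearMap.range (TensorProduct.map (Subalgebra.toSubmodule B).subtype (Subalgebra.toSubmodule B).subtype) := rfl

theorem range_val_inf {A : Type u} [CommRing A] [Algebra k A] (B C : Subalgebra k A) (t : A ⊗[k] A)
    (hB : t ∈ LinearMap.range (TensorProduct.map (Subalgebra.toSubmodule B).subtype (Subalgebra.toSubmodule B).subtype))
    (hC : t ∈ LinearMap.range (TensorProduct.map C.val.toLinearMap C.val.toLinearMap)) :
    t ∈ LinearMap.range (TensorProduct.map (B ⊓ C).val.toLinearMap (B ⊓ C).val.toLinearMap) := by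
  rw [range_val] at hC ⊢
  have := range_inf _ _ t hB hC
  rwa [← Algebra.inf_toSubmodule] at this

/-- Let k be an algebraically closed field of prime characteristic p and A a commutative Hopf algebra
over k, the coordinate ring of an affine k-group G, quotient groups of G being read as
sub-Hopf-algebras of A (subalgebras stable under comultiplication and antipode). Let B₀ be the
subalgebra of elements of A that are separable over k (its spectrum is the group of connected
components π₀(G)) and let C be the largest cocommutative sub-Hopf-algebra of A (its spectrum is the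
largest commutative quotient group G_ab). Then B₀ ⊓ C, whose spectrum is π₀(G_ab), is the largest
cocommutative sub-Hopf-algebra of A contained in B₀, whose spectrum is the largest commutative
quotient of π₀(G): the canonical homomorphism from π₀(G_ab) to (π₀(G))_ab is an isomorphism. (The
abelianization is rendered through its universal property among affine quotient groups, as the
largest cocommutative sub-Hopf-algebra, rather than as the quotient by the derived subgroup.) -/
theorem result (k A : Type u) [Field k] [IsAlgClosed k]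
    (p : ℕ) [Fact p.Prime] [CharP k p] [CommRing A] [HopfAlgebra k A]
    (B₀ : Subalgebra k A) (hB₀ : ∀ a : A, a ∈ B₀ ↔ IsSeparable k a)
    (C : Subalgebra k A) (hC : SGA3.IsHopfSubalgebra k A C)
    (hCc : ∀ c ∈ C, TensorProduct.comm k A A (Coalgebra.comul c) = Coalgebra.comul c)
    (hCmax : ∀ D : Subalgebra k A, SGA3.IsHopfSubalgebra k A D →
      (∀ d ∈ D, TensorProduct.comm k A A (Coalgebra.comul d) = Coalgebra.comul d) → D ≤ C) :
    IsGreatest {D : Subalgebra k A | SGA3.IsHopfSubalgebra k A D ∧
      (∀ d ∈ D, TensorProduct.comm k A A (Coalgebra.comul d) = Coalgebra.comul d) ∧ D ≤ B₀}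
      (B₀ ⊓ C) := by
  have hBidem : ∀ v : A, v * v = v → v ∈ B₀ := fun v hv => (hB₀ v).2 (isSeparable_idem hv)
  refine ⟨⟨⟨?_, ?_⟩, fun d hd => hCc d hd.2, inf_le_left⟩, fun D hD => le_inf hD.2.2 (hCmax D hD.1 hD.2.1)⟩
  · rintro b ⟨hb0, hbC⟩
    exact range_val_inf B₀ C _ (Submodule.span_le.2 (fun v hv => idem_mem B₀ hBidem v hv)
      (mem_span_idem (Bialgebra.comulAlgHom k A) ((hB₀ b).1 hb0))) (hC.1 b hbC)
  · rintro b ⟨hb0, hbC⟩
    exact ⟨(Submodule.span_le (p := Subalgebra.toSubmodule B₀)).2 (fun v hv => hBidem v hv)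
      (mem_span_idem (HopfAlgebra.antipodeAlgHom k A) ((hB₀ b).1 hb0)), hC.2 b hbC⟩

end Groth.Agent.S18329
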