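import Groth.Statements.S18332
import Groth.Agent.GitQuot.StkInertia.Descent

set_option autoImplicit false
universe u
open AlgSt Groth.AlgStBasic Groth.StkBase Groth.GitQuot.StkInertia

namespace Groth.Agent.S18332

open CategoryTheory AlgebraicGeometry in
/-- An automorphism over the identity is killed by a functor to a space. -/
theorem map_aut_eq {S : Scheme.{u}} {𝒳 : AlgSt.Cat S} {M : AlgSp.Sp S} (π : 𝒳 ⥤ᵇ AlgSt.ofSp M)
    (x : (FibCat.inertia (FibCat.toSelf 𝒳)).obj) : π.map x.aut.hom = 𝟙 (π.obj x.pt) := by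
  apply elt_hom_ext_p
  rw [CategoryTheory.Functor.map_id]
  exact (isVert_map (F := π) (φ := x.aut.hom)
    ⟨rfl, x.map_aut.trans (eqToHom_refl _ _).symm⟩).map_eq.trans (eqToHom_refl _ _)

open CategoryTheory AlgebraicGeometry in
/-- The inertia over the base agrees with the inertia over a space. -/
def toRel {S : Scheme.{u}} {𝒳 : AlgSt.Cat S} {M : AlgSp.Sp S} (π : 𝒳 ⥤ᵇ AlgSt.ofSp M) :
    FibCat.inertia (FibCat.toSelf 𝒳) ⥤ᵇ FibCat.inertia π where
  toFunctor :=
    { obj := fun x => ⟨x.pt, x.aut, map_aut_eq π x⟩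
      map := fun φ => ⟨φ.hom, φ.comm⟩ }
  w := rfl

open CategoryTheory AlgebraicGeometry in
theorem isEquivOver_toRel {S : Scheme.{u}} {𝒳 : AlgSt.Cat S} {M : AlgSp.Sp S}
    (π : 𝒳 ⥤ᵇ AlgSt.ofSp M) : FibCat.IsEquivOver (toRel π) := by
  refine isEquivOver_of_fullyFaithful _ ⟨fun {a b} g => ⟨⟨g.hom, g.comm⟩, rfl⟩⟩
    ⟨fun {a b} g g' e => FibCat.InertiaObj.hom_ext (congrArg (fun t : (toRel π).obj a ⟶ (toRel π).obj b => t.hom) e :)⟩
    (fun y => ?_)
  refine ⟨⟨y.pt, y.aut, ?_⟩, Iso.refl _, isVert_id _⟩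
  exact (isVert_of_map (F := π) (φ := y.aut.hom)
    (by rw [y.map_aut]; exact isVert_id _)).map_eq.trans (eqToHom_refl _ _)

open CategoryTheory AlgebraicGeometry in
/-- Let 𝒳 be an algebraic stack over a scheme S which is locally of finite presentation over S and whose
diagonal over S is quasi-compact, separated and locally quasi-finite. If 𝒳 has a coarse moduli space
π : 𝒳 → M (universal for morphisms to algebraic spaces and bijective on isomorphism classes of
points with values in algebraically closed fields) such that π is separated, then the inertia of 𝒳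
over S is finite over 𝒳. (The converse implication is the Keel–Mori existence result. The diagonal
conditions are taken relative to S; with the absolute conditions, over the integers, the assertion
is the same Zariski-locally on S.) -/
theorem result (S : Scheme.{u}) (𝒳 : AlgSt.Cat S)
    (h𝒳 : AlgSt.IsAlgStack Scheme.fppfPrecoverage 𝒳)
    (hΔ : AlgSt.RepByAlgSpWith (AlgSp.IsSeparatedMor ⊓ AlgSp.IsQuasiCompactMor) (FibCat.diag (FibCat.toSelf 𝒳)))
    (hqf : AlgSt.IsQuasiDMOver 𝒳)
    (hfp : AlgSt.LocQ (AlgSp.LocP @LocallyOfFinitePresentation) (FibCat.toSelf 𝒳))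
    (M : AlgSp.Sp S) (π : 𝒳 ⥤ᵇ AlgSt.ofSp M) (hπ : AlgSt.IsCoarseModuli π)
    (hsep : AlgSt.IsSeparatedMor π) :
    AlgSt.RepByAlgSpWith AlgSp.IsFiniteMor (FibCat.inertiaToBase (FibCat.toSelf 𝒳)) := by
  refine repWith_finite_of_proper_lqf ?_ (repWith_inertiaToBase _ hqf)
  exact repWith_of_iso (Iso.refl _)
    ((repWith_precomp_equiv (isEquivOver_toRel π) _).2 (repWith_inertiaToBase π hsep))

end Groth.Agent.S18332
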