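import Groth.Statements.S18339
import Groth.Agent.GitQuot.KeelMori.EtaleAt
-- import your own Groth.Agent.* helpers here

set_option autoImplicit false
universe u
open AlgSt

namespace Groth.Agent.S18339

open CategoryTheory AlgebraicGeometry in
/-- Let S be a locally Noetherian scheme, 𝒰′ → 𝒰 a representable, étale, separated and quasi-compact
morphism of algebraic stacks locally of finite type over S (with quasi-compact separated diagonals),
and suppose 𝒰 has a finite locally free surjection U → 𝒰 from a scheme U which is quasi-projective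
Zariski-locally over S. Let 𝒰 → Y and 𝒰′ → Y′ be coarse moduli spaces which are schemes and Y′ → Y
the induced morphism. Then Y′ → Y is étale on an open neighbourhood of the image of every geometric
point x′ of 𝒰′ (an object over an algebraically closed field) whose automorphism group maps onto the
automorphism group of its image in 𝒰. (In the source Y and Y′ are the scheme quotients it
constructs, which are coarse moduli spaces, and it also records that 𝒰′ inherits a finite locally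
free quasi-projective scheme cover; that part is not restated.) -/
theorem result (S : Scheme.{u}) [IsLocallyNoetherian S]
    (𝒰 𝒰' : AlgSt.Cat S) (h𝒰 : AlgSt.IsAlgStack Scheme.fppfPrecoverage 𝒰)
    (h𝒰' : AlgSt.IsAlgStack Scheme.fppfPrecoverage 𝒰')
    (hΔ : AlgSt.RepByAlgSpWith (AlgSp.IsSeparatedMor ⊓ AlgSp.IsQuasiCompactMor) (FibCat.diag (FibCat.toSelf 𝒰)))
    (hΔ' : AlgSt.RepByAlgSpWith (AlgSp.IsSeparatedMor ⊓ AlgSp.IsQuasiCompactMor) (FibCat.diag (FibCat.toSelf 𝒰')))
    (hft : AlgSt.LocQ (AlgSp.LocP @LocallyOfFiniteType) (FibCat.toSelf 𝒰))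
    (hft' : AlgSt.LocQ (AlgSp.LocP @LocallyOfFiniteType) (FibCat.toSelf 𝒰'))
    (h : 𝒰' ⥤ᵇ 𝒰) (hrep : AlgSt.RepByAlgSp1 h)
    (het : AlgSt.RepByAlgSpWith (AlgSp.IsEtaleMor ⊓ AlgSp.IsSeparatedMor ⊓ AlgSp.IsQuasiCompactMor) h)
    (U : Over S) (hU : RedSub.IsLocallyQuasiProjective U) (c : FibCat.overCat U ⥤ᵇ 𝒰)
    (hc : AlgSt.RepByAlgSpWith
      (AlgSp.IsFiniteMor ⊓ AlgSp.LocP (@Flat ⊓ @LocallyOfFinitePresentation) ⊓ AlgSp.IsSurjectiveMor) c)
    (Y Y' : Over S) (π : 𝒰 ⥤ᵇ AlgSt.ofSch Y) (hπ : AlgSt.IsCoarseModuli π)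
    (π' : 𝒰' ⥤ᵇ AlgSt.ofSch Y') (hπ' : AlgSt.IsCoarseModuli π') (g : Y' ⟶ Y)
    (hg : Nonempty (BasedFunctor.comp π' (AlgSt.ofSpMap ((AlgSp.yon S).map g)) ≅ BasedFunctor.comp h π))
    (Ω : Type u) [Field Ω] [IsAlgClosed Ω] (t : Spec (CommRingCat.of Ω) ⟶ S)
    (x' : 𝒰'.p.Fiber (Over.mk t)) (hx : Function.Surjective (Gerb.autMap h x'.1)) :
    ∃ W : Y'.left.Opens, (AlgSt.fibSec π' x').down.left (IsLocalRing.closedPoint Ω) ∈ W ∧
      Etale (W.ι ≫ g.left) := Groth.KeelMori.etale_at_of_autMap_surjective h𝒰 h𝒰' hU (Groth.KeelMori.finCov_of U hc) h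
    (Groth.AlgStBasic.repWith_mono (fun _ _ _ _ _ q => q.1) het) π hπ.1 π' hπ'.1 g hg Ω t x' hx

end Groth.Agent.S18339
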