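import Groth.Statements.S1834
import Groth.Agent.MilnorKLambda.Tame1.Bound

set_option autoImplicit false
universe u
open CycAlg

namespace Groth.Agent.S1834

/-- Let R be a Noetherian local ring of dimension 1 and a, b nonzerodivisors. There is a finite
extension ring R ⊆ R' with R'/R killed by a power of the maximal ideal, and nonzerodivisors t, a',
b' of R' with a = t a', b = t b' and (a', b') the unit ideal of R'. -/
theorem result (R : Type u) [CommRing R] [IsNoetherianRing R] [IsLocalRing R] (hR : ringKrullDim R = 1) (a b : R) (ha : a ∈ nonZeroDivisors R) (hb : b ∈ nonZeroDivisors R) : ∃ (R' : Type u) (_ : CommRing R') (_ : Algebra R R'), CycAlg.IsFinExt R R' (IsLocalRing.maximalIdeal R) ∧ ∃ t a' b' : R', t ∈ nonZeroDivisors R' ∧ a' ∈ nonZeroDivisors R' ∧ b' ∈ nonZeroDivisors R' ∧ algebraMap R R' a = t * a' ∧ algebraMap R R' b = t * b' ∧ Ideal.span {a', b'} = ⊤ := by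
  have : Ring.KrullDimLE 1 R := (Ring.krullDimLE_iff).2 hR.le
  by_cases hau : IsUnit a
  · refine ⟨R, inferInstance, Algebra.id R, ⟨fun x y h => h, inferInstance, 0, fun r _ x => ⟨r • x, rfl⟩⟩,
      1, a, b, one_mem _, ha, hb, (one_mul _).symm, (one_mul _).symm, ?_⟩
    exact Ideal.eq_top_of_isUnit_mem _ (Ideal.subset_span (Set.mem_insert _ _)) hau
  have hQ : Groth.MilnorKLambda.Amb.IsAmb (Localization.Away a) a :=
    Groth.MilnorKLambda.Amb.isAmb_away ha ((IsLocalRing.mem_maximalIdeal a).2 hau)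
  set Q := Localization.Away a
  obtain ⟨S, -, hS, hc⟩ := hQ.exists_comparable (Groth.MilnorKLambda.Amb.fg_bot (R := R) (Q := Q))
    ((⊥ : Subalgebra R Q).algebraMap_mem a) ((⊥ : Subalgebra R Q).algebraMap_mem b) hQ.unit
  have : Module.Finite R S := Module.Finite.iff_fg.2 hS
  have := Groth.MilnorKLambda.Amb.finite_maximalSpectrum (R := R) (S := S)
  obtain ⟨t, g', h', α, β, ht, hg', hh', hα, hβ, htu, e1, e2, e3⟩ :=
    Groth.MilnorKLambda.Amb.exists_gcd (S.algebraMap_mem a) (S.algebraMap_mem b) hQ.unit hc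
  have nzd : ∀ (z : Q) (hz : z ∈ S), IsUnit z → (⟨z, hz⟩ : S) ∈ nonZeroDivisors S := fun z hz hu =>
    mem_nonZeroDivisors_iff_right.2 fun y hy => Subtype.ext (hu.mul_left_eq_zero.1 (congrArg Subtype.val hy))
  refine ⟨S, inferInstance, inferInstance, hQ.isFinExt hS, ⟨t, ht⟩, ⟨g', hg'⟩, ⟨h', hh'⟩, nzd t ht htu,
    nzd g' hg' (isUnit_of_mul_isUnit_right (e1 ▸ hQ.unit)),
    nzd h' hh' (isUnit_of_mul_isUnit_right (e2 ▸ hQ.isUnit_of_nzd hb)), Subtype.ext e1.symm, Subtype.ext e2.symm, ?_⟩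
  rw [Ideal.eq_top_iff_one, Ideal.mem_span_pair]
  exact ⟨⟨α, hα⟩, ⟨β, hβ⟩, Subtype.ext e3⟩

end Groth.Agent.S1834
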