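import Groth.Statements.S18340
import Groth.Agent.Misc12.ArtinApx.Functor
import Groth.Agent.S0595
import Groth.Agent.S0600
import Groth.Agent.S0599
import Groth.Agent.Ega4Algebra2.GRingComplete

set_option autoImplicit false
universe u
open ArtinApx

namespace Groth.Agent.S18340

open CategoryTheory in
/-- Let k be an algebraically closed field, A a finitely generated k-algebra with a maximal ideal m (a
k-point of Spec A), F a functor from commutative A-algebras to sets which preserves filtered
colimits, and ξ an element of F(Â), Â the m-adic completion of A. Then for every natural number N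
there are an étale A-algebra A′, a surjective A-algebra homomorphism ψ : A′ → A/m^(N+1) and an
element ξ′ of F(A′) whose image under F(ψ) is the image of ξ under F of the canonical map Â →
A/m^(N+1). (Affine form of the statement for limit-preserving functors on schemes over a finite-type
k-scheme S with a k-point s: Spec A′ is the étale neighbourhood of s, the kernel of ψ is the
(N+1)-st power of the maximal ideal of the point above s, and the equation says that ξ′ and ξ agree
to order N.) -/
theorem result (k : Type u) [Field k] [IsAlgClosed k]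
    (A : Type u) [CommRing A] [Algebra k A] [Algebra.FiniteType k A] (m : Ideal A) [m.IsMaximal]
    (F : CommAlgCat.{u} A ⥤ Type u) [Limits.PreservesFilteredColimits F]
    (ξ : F.obj (CommAlgCat.of A (AdicCompletion m A))) (N : ℕ) :
    ∃ (A' : Type u) (_ : CommRing A') (_ : Algebra A A') (_ : Algebra.Etale A A')
      (ψ : A' →ₐ[A] (A ⧸ m ^ (N + 1))) (_ : Function.Surjective ψ) (ξ' : F.obj (CommAlgCat.of A A')),
      F.map (CommAlgCat.ofHom ψ) ξ' =
        F.map (CommAlgCat.ofHom (AdicCompletion.evalₐ m (N + 1))) ξ := by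
  open Groth.Agent.Misc12.ArtinApx in
  (have hk : CAlg.IsGRing k := by
     have : IsAdicComplete (IsLocalRing.maximalIdeal k) k := by
       rw [IsLocalRing.maximalIdeal_eq_bot]; infer_instance
     exact Groth.Ega4b.isGRing_of_isAdicComplete k
   have hA : CAlg.IsGRing A := Groth.Agent.S0599.result k hk A
   have := hA.1
   let e : CommAlgCat.{u} A ≌ Under (CommRingCat.of A) := commAlgCatEquivUnder (CommRingCat.of A)
   let F' : Under (CommRingCat.of A) ⥤ Type u := e.inverse ⋙ F
   have hF : ∀ (J : Type u) [SmallCategory J] [IsFiltered J],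
       Limits.PreservesColimitsOfShape J F' := by
     intro J _ _
     exact Limits.comp_preservesColimitsOfShape e.inverse F
   have hiso : ∀ (B : Type u) [CommRing B] [Algebra A B],
       ∃ i : e.inverse.obj (Under.mk (CommRingCat.ofHom (algebraMap A B))) ≅ CommAlgCat.of A B,
         ∀ b, i.hom.hom b = b := fun B _ _ =>
     ⟨(e.unitIso.app (CommAlgCat.of A B)).symm, fun _ => rfl⟩
   obtain ⟨iC, hiC⟩ := hiso (AdicCompletion m A)
   obtain ⟨iQ, hiQ⟩ := hiso (A ⧸ m ^ (N + 1))
   obtain ⟨E, _, _, hE, φ, y, hy⟩ := approx_etale (A := A) (fun R _ _ Λ _ _ _ => Groth.Agent.S0595.result R Λ) m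
     (Groth.Agent.S0600.result A hA m) F' hF (N + 1)
     (underHom (AdicCompletion.evalₐ m (N + 1))) (F.map iC.inv ξ)
   obtain ⟨iE, hiE⟩ := hiso E
   obtain ⟨μ, hμ⟩ : ∃ μ : CommAlgCat.of A E ⟶ CommAlgCat.of A (A ⧸ m ^ (N + 1)),
       μ = CommAlgCat.ofHom φ := ⟨_, rfl⟩
   have hsurj : Function.Surjective φ := fun q => by
     obtain ⟨a, rfl⟩ := Ideal.Quotient.mk_surjective q
     exact ⟨algebraMap A E a, φ.commutes a⟩
   refine ⟨E, inferInstance, inferInstance, hE, φ, hsurj, F.map iE.hom y, ?_⟩
   have h1 : iE.hom ≫ CommAlgCat.ofHom φ = e.inverse.map (underHom φ) ≫ iQ.hom := by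
     refine CommAlgCat.hom_ext (AlgHom.ext fun b => ?_)
     exact (congrArg φ (hiE b)).trans (hiQ _).symm
   have h2 : iC.hom ≫ CommAlgCat.ofHom (AdicCompletion.evalₐ m (N + 1)) =
       e.inverse.map (underHom (AdicCompletion.evalₐ m (N + 1))) ≫ iQ.hom := by
     refine CommAlgCat.hom_ext (AlgHom.ext fun b => ?_)
     exact (congrArg (AdicCompletion.evalₐ m (N + 1)) (hiC b)).trans (hiQ _).symm
   have hy' := congrArg (F.map iQ.hom) hy
   simp only [F', Functor.comp_map] at hy'
   simp only [← types_comp_apply (F.map _) (F.map _), ← F.map_comp] at hy' ⊢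
   rw [h1, hy', Category.assoc, ← h2, ← Category.assoc, iC.inv_hom_id, Category.id_comp])

end Groth.Agent.S18340
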