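import Groth.Statements.S18341
import Groth.Agent.GitQuot.StkInertia.Equiv
import Groth.Agent.GitQuot.StkInertia.Descent

set_option autoImplicit false
universe u
open AlgSt Groth.AlgStBasic Groth.StkBase Groth.GitQuot.StkInertia

namespace Groth.Agent.S18341

open CategoryTheory AlgebraicGeometry in
/-- Let 𝒳 be an algebraic stack over a scheme S, locally of finite presentation over S, whose diagonal
over S is quasi-compact, separated and locally quasi-finite. Suppose that every point of 𝒳 is in the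
image of a representable, quasi-compact, étale morphism h : 𝒰 → 𝒳 from an S-separated algebraic
stack 𝒰 which admits a finite locally free surjection from a scheme, such that for every
algebraically closed field Ω and every object u of 𝒰 over Spec Ω the injective map from the
automorphism group of u to that of h(u) is surjective. Then the inertia of 𝒳 over S is finite over
𝒳. (The remark states this as a criterion, an equivalence; only this implication is stated here.) -/
theorem result (S : Scheme.{u}) (𝒳 : AlgSt.Cat S)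
    (h𝒳 : AlgSt.IsAlgStack Scheme.fppfPrecoverage 𝒳)
    (hΔ : AlgSt.RepByAlgSpWith (AlgSp.IsSeparatedMor ⊓ AlgSp.IsQuasiCompactMor) (FibCat.diag (FibCat.toSelf 𝒳)))
    (hqf : AlgSt.IsQuasiDMOver 𝒳)
    (hfp : AlgSt.LocQ (AlgSp.LocP @LocallyOfFinitePresentation) (FibCat.toSelf 𝒳))
    (hloc : ∀ x : AlgSt.Points 𝒳, ∃ (𝒰 : AlgSt.Cat S) (h : 𝒰 ⥤ᵇ 𝒳),
      AlgSt.IsAlgStack Scheme.fppfPrecoverage 𝒰 ∧ x ∈ Set.range (AlgSt.Points.map h) ∧
      AlgSt.RepByAlgSpWith (AlgSp.IsEtaleMor ⊓ AlgSp.IsQuasiCompactMor) h ∧ AlgSt.IsSeparatedOver 𝒰 ∧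
      (∃ (Z : Over S) (z : FibCat.overCat Z ⥤ᵇ 𝒰), AlgSt.RepByAlgSpWith
        (AlgSp.IsFiniteMor ⊓ AlgSp.LocP (@Flat ⊓ @LocallyOfFinitePresentation) ⊓ AlgSp.IsSurjectiveMor) z) ∧
      ∀ (Ω : Type u) [Field Ω] [IsAlgClosed Ω] (t : Spec (CommRingCat.of Ω) ⟶ S) (u : 𝒰.p.Fiber (Over.mk t)),
        Function.Surjective (Gerb.autMap h u.1)) :
    AlgSt.RepByAlgSpWith AlgSp.IsFiniteMor (FibCat.inertiaToBase (FibCat.toSelf 𝒳)) := by
  have hX := h𝒳.isStack.1
  refine repWith_of_etale_charts hX stableBaseChange_isFiniteMor isLocalOnBase_fppf_isFiniteMor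
    (repWith_repByAlgSp1 (repWith_inertiaToBase _ hqf)) fun x => ?_
  obtain ⟨𝒰, h, h𝒰, hx, hh, hsep, -, hs⟩ := hloc x
  have hU := h𝒰.isStack.1
  have he : AlgSt.RepByAlgSpWith AlgSp.IsEtaleMor h := repWith_mono (fun _ _ _ _ _ k => k.1) hh
  refine ⟨𝒰, h, hU, hx, he, ?_⟩
  have hE : FibCat.IsEquivOver (inertiaToBC h) := isEquivOver_inertiaToBC h hU
    (faithful_of_repByAlgSp1 hU hX h (repWith_repByAlgSp1 he))
    fun u β hβ => exists_aut_lift hU hX he hs u hβ
  refine repWith_finite_of_proper_lqf ((repWith_precomp_equiv hE _).1 ?_)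
    (repWith_fpFst _ h (repWith_inertiaToBase _ hqf))
  rw [inertiaToBC_fpFst]
  exact repWith_inertiaToBase _ hsep

end Groth.Agent.S18341
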