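import Groth.Statements.S18342
import Groth.Agent.VBCurves.HomEuler

set_option autoImplicit false
universe u
open CategoryTheory CategoryTheory.Limits AlgebraicGeometry
open VBCurve

open Groth.VBCurves

namespace Groth.Agent.S18342

/-- Let k be an algebraically closed field of characteristic zero and X a smooth proper geometrically
connected curve over k (topological dimension one) of genus g ≥ 2. Let E be a finite locally free
O_X-module of rank r ≥ 1 and degree 0, and F a finite locally free O_X-module of rank n ≥ 1 and
degree n(g − 1), degrees being χ − rank · χ(O_X). If every morphism E → F is zero, then E is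
slope-semistable: deg G · r ≤ 0 for every finite locally free submodule G of E of positive rank. The
published statement concerns quasi-parabolic bundles of rank r with trivial determinant and flags at
a finite set of points, and says that for n ≥ ⌈r²/4⌉ the closed substack of bundles that are not
semistable for a given system of weights is the base locus of the parabolic theta functions of order
n, these being attached to semistable F; this row is one inclusion of it (a bundle at which the
theta function of some F does not vanish is semistable) for a single bundle with no parabolic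
points, for every n ≥ 1 and every F of the stated rank and degree, with degree 0 in place of trivial
determinant, and with the vanishing of Hom(E, F) in place of the vanishing of both Hom(E, F) and
Ext^1(E, F). -/
theorem result (k : Type u) [Field k] [IsAlgClosed k] [CharZero k]
    (X : Scheme.{u}) [X.Over (Spec (CommRingCat.of k))]
    [IsProper (X ↘ Spec (CommRingCat.of k))] [Smooth (X ↘ Spec (CommRingCat.of k))]
    [GeometricallyConnected (X ↘ Spec (CommRingCat.of k))] (hdim : topologicalKrullDim ↥X = 1)
    (g : ℕ) (hg : Curv2.genus k X = g) (hg2 : 2 ≤ g)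
    (E : X.Modules) (r : ℕ) (hr : 0 < r) (hE : FlatMod.IsFinLocFreeOfRank r E)
    (hEdeg : Curv2.deg k X E r = 0)
    (F : X.Modules) (n : ℕ) (hn : 0 < n) (hF : FlatMod.IsFinLocFreeOfRank n F)
    (hFdeg : Curv2.deg k X F n = (n : ℤ) * ((g : ℤ) - 1))
    (hhom : ∀ φ : E ⟶ F, φ = 0) :
    ModFun.IsSlopeSemistable k X E r := by
  have hc := IsVBCurve.of_connected k hdim
  have := hc.integral
  obtain ⟨ω, hω⟩ := exists_isDualizing_of_smooth hdim (isFunctionField_of_connected (k := k) hdim)
  have hE' := Groth.LocFree.isFinLocFree_of_rank hE
  have hF' := Groth.LocFree.isFinLocFree_of_rank hF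
  have : HasExt.{u} X.Modules := hasExt_of_enoughInjectives _
  intro G r' i hi hr' hG
  by_contra hlt
  push Not at hlt
  rw [hEdeg, zero_mul] at hlt
  have hdG : 0 < Curv2.deg k X G r' := by
    rcases le_or_gt (Curv2.deg k X G r') 0 with h | h
    · have := mul_nonpos_of_nonpos_of_nonneg h (Int.natCast_nonneg r)
      omega
    · exact h
  have hG' := Groth.LocFree.isFinLocFree_of_rank hG
  obtain ⟨G₁, Q, s, i', q, w, hS, -, hs, hG₁, hQ, hrG⟩ := exists_saturation hc hE' hG' i
  have := hs
  have h1 := (dg_le_of_mono k hc.dim.le hG' hG₁ s hrG.symm).1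
  have hdadd := dg_add k hS hG₁ hQ
  have hradd := rk_add hS hG₁ hQ
  dsimp only at hdadd hradd
  rw [← dg_eq k hG] at h1
  rw [← dg_eq k hE, hEdeg] at hdadd
  rw [rk_eq hE, hrG, rk_eq hG] at hradd
  rcases Nat.eq_zero_or_pos (rk Q) with hq0 | hq0
  · rw [dg_of_rk_zero k hQ hq0] at hdadd
    omega
  have h2 := HomEuler.hom_sub_ext hc hω hQ n F hF' (rk_eq hF)
  rw [← dg_eq k hF, hFdeg, hg] at h2
  have h3 : 0 < -((n : ℤ) * dg k Q) := by
    have : 0 < (n : ℤ) * (-dg k Q) := mul_pos (by omega) (by omega)
    linarith
  have h4 : 0 < Module.finrank k (Q ⟶ F) := by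
    have h5 : (0 : ℤ) < (Module.finrank k (Q ⟶ F) : ℤ) -
        Module.finrank k (CategoryTheory.Abelian.Ext Q F 1) := by
      rw [h2]; ring_nf; linarith
    omega
  have : Nontrivial (Q ⟶ F) := Module.nontrivial_of_finrank_pos h4
  obtain ⟨f, hf⟩ := exists_ne (0 : Q ⟶ F)
  have := hS.epi_g
  dsimp only at this
  exact hf ((cancel_epi q).1 ((hhom (q ≫ f)).trans (comp_zero).symm))

end Groth.Agent.S18342
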