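import Groth.Statements.S18343
import Mathlib
import Groth.Agent.BlowUpBasics.IdealComap
-- import your own Groth.Agent.* helpers here

set_option autoImplicit false
universe u
open CategoryTheory CategoryTheory.Limits AlgebraicGeometry
open MultCurve

namespace Groth.Agent.S18343

section Helpers

/-- Kernel of the stalk map of a closed immersion is extended from sections on an affine open. -/
lemma ker_stalkMap_le {D C : Scheme.{u}} (i : D ⟶ C) [IsClosedImmersion i] (V : C.affineOpens) (d : D)
    (hd : i.base d ∈ V.1) :
    RingHom.ker (i.stalkMap d).hom ≤ (i.ker.ideal V).map (C.presheaf.germ V.1 (i.base d) hd).hom := by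
  intro b hb
  have hb0 : (i.stalkMap d).hom b = 0 := hb
  let := C.presheaf.algebra_section_stalk (⟨i.base d, hd⟩ : V.1)
  have hloc : IsLocalization.AtPrime (C.presheaf.stalk (i.base d)) (V.2.primeIdealOf ⟨i.base d, hd⟩).asIdeal :=
    V.2.isLocalization_stalk ⟨i.base d, hd⟩
  obtain ⟨⟨a, s⟩, has⟩ := IsLocalization.surj (V.2.primeIdealOf ⟨i.base d, hd⟩).asIdeal.primeCompl b
  have hs : IsUnit ((C.presheaf.germ V.1 (i.base d) hd).hom s) := IsLocalization.map_units _ s
  change b * (C.presheaf.germ V.1 (i.base d) hd).hom s = (C.presheaf.germ V.1 (i.base d) hd).hom a at has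
  rw [← Ideal.mul_unit_mem_iff_mem _ hs, has]
  have ha : (D.presheaf.germ (i ⁻¹ᵁ V.1) d hd).hom ((i.app V.1).hom a) = 0 := by
    rw [← Scheme.Hom.germ_stalkMap_apply i V.1 d hd a]
    change (i.stalkMap d).hom ((C.presheaf.germ V.1 (i.base d) hd).hom a) = 0
    rw [← has, map_mul, hb0, zero_mul]
  let := D.presheaf.algebra_section_stalk (⟨d, hd⟩ : (i ⁻¹ᵁ V.1 : D.Opens))
  have hloc' := (V.2.preimage i).isLocalization_stalk ⟨d, hd⟩
  obtain ⟨m, hm⟩ := (IsLocalization.map_eq_zero_iff
    ((V.2.preimage i).primeIdealOf ⟨d, hd⟩).asIdeal.primeCompl (D.presheaf.stalk d) _).mp ha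
  obtain ⟨t, ht⟩ := i.app_surjective V.1 V.2 m.1
  have hmu : IsUnit ((D.presheaf.germ (i ⁻¹ᵁ V.1) d hd).hom m.1) := IsLocalization.map_units _ m
  have htu : IsUnit ((C.presheaf.germ V.1 (i.base d) hd).hom t) := by
    refine isUnit_of_map_unit (i.stalkMap d).hom _ ?_
    convert hmu using 1
    rw [← ht]
    exact Scheme.Hom.germ_stalkMap_apply i V.1 d hd t
  rw [← Ideal.unit_mul_mem_iff_mem _ htu, ← map_mul]
  refine Ideal.mem_map_of_mem _ ?_
  rw [Scheme.Hom.ker_apply, RingHom.mem_ker, map_mul, ← hm]
  exact congrArg (· * _) ht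

end Helpers

/-- Suppose C is a ribbon on the reduced scheme D via the closed immersion i : D ⟶ C (meaning the ideal
of D squares to zero and is locally generated by a single section z whose annihilator lies in (z)),
and consider an arbitrary morphism of schemes f : C ⟶ X. The morphism f is a closed immersion
exactly when two things hold: the composite i ≫ f, i.e. f restricted to D, is a closed immersion,
and pulling back along f the ideal of the scheme-theoretic image of D in X yields the entire ideal
of D in C. This second requirement amounts to surjectivity of the map α_f that sends the pullback of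
the conormal sheaf of the image of D in X onto the conormal bundle of D in C. (The statement is
given for arbitrary schemes and any morphism f; the published version assumes all schemes are of
finite type over a field and D is connected, but the proof relies on neither assumption.) -/
theorem result (D C X : Scheme.{u}) (i : D ⟶ C)
    (hR : MultCurve.IsRibbon i) (f : C ⟶ X) :
    IsClosedImmersion f ↔ (IsClosedImmersion (i ≫ f) ∧ (i ≫ f).ker.comap f = i.ker) := by
  classical
  obtain ⟨⟨hi, hsq, -⟩, -⟩ := hR
  constructor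
  · intro hf
    refine ⟨inferInstance, ?_⟩
    rw [← Scheme.IdealSheafData.ker_fst_of_isClosedImmersion]
    let e : D ≅ pullback f (i ≫ f) :=
      { hom := pullback.lift i (𝟙 D) (by simp)
        inv := pullback.snd f (i ≫ f)
        hom_inv_id := pullback.lift_snd _ _ _
        inv_hom_id := by
          refine pullback.hom_ext ?_ ?_
          · rw [← cancel_mono f]
            simp only [Category.assoc, Category.id_comp, pullback.condition]
            erw [pullback.lift_snd_assoc]
            simp
          · simp only [Category.assoc, Category.id_comp]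
            erw [pullback.lift_snd, Category.comp_id] }
    have : pullback.fst f (i ≫ f) = e.inv ≫ i := by
      rw [Iso.eq_inv_comp]
      exact pullback.lift_fst _ _ _
    rw [this, Scheme.Hom.ker_comp_of_isIso]
  · rintro ⟨hc, hker⟩
    have hsurj : Function.Surjective i.base := by
      intro c
      have h1 : i.ker.support = (⊤ : TopologicalSpace.Closeds C) := by
        rw [← Scheme.IdealSheafData.support_pow i.ker 2 two_ne_zero, hsq, Scheme.IdealSheafData.support_bot]
      have h2 := congrArg (fun Z : TopologicalSpace.Closeds C => (Z : Set C)) h1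
      simp only [TopologicalSpace.Closeds.coe_top] at h2
      rw [Scheme.Hom.support_ker] at h2
      rw [i.isClosedEmbedding.isClosed_range.closure_eq] at h2
      exact Set.range_eq_univ.mp h2 c
    let hh : D ≃ₜ C := (Equiv.ofBijective i.base ⟨i.isClosedEmbedding.injective, hsurj⟩).toHomeomorphOfIsInducing
      i.isClosedEmbedding.isInducing
    have hemb : Topology.IsClosedEmbedding f.base := by
      have h1 := ((i ≫ f).isClosedEmbedding).comp hh.symm.isClosedEmbedding
      convert h1 using 1
      funext c
      obtain ⟨d, rfl⟩ := hh.surjective c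
      simp only [Function.comp_apply, Homeomorph.symm_apply_apply]
      exact (Scheme.Hom.comp_apply i f d).symm
    refine { isClosedEmbedding := hemb, stalkMap_surjective := fun c => ?_ }
    obtain ⟨d, rfl⟩ := hsurj c
    obtain ⟨U, hU, hxU, -⟩ := exists_isAffineOpen_mem_and_subset
      (show f.base (i.base d) ∈ (⊤ : X.Opens) from trivial)
    obtain ⟨V, hV, hxV, hVU⟩ := exists_isAffineOpen_mem_and_subset
      (show i.base d ∈ f ⁻¹ᵁ U from hxU)
    set φ := (f.stalkMap (i.base d)).hom with hφ
    set ψ := (i.stalkMap d).hom with hψ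
    set K := (i.ker.ideal ⟨V, hV⟩).map (C.presheaf.germ V (i.base d) hxV).hom with hKdef
    have hψK : RingHom.ker ψ ≤ K := ker_stalkMap_le i ⟨V, hV⟩ d hxV
    have hKK : K * K = ⊥ := by
      rw [hKdef, ← Ideal.map_mul]
      have : (i.ker ^ 2).ideal ⟨V, hV⟩ = (⊥ : C.IdealSheafData).ideal ⟨V, hV⟩ := by rw [hsq]
      simp only [Scheme.IdealSheafData.ideal_pow, Pi.pow_apply, Scheme.IdealSheafData.ideal_bot,
        Pi.bot_apply, pow_two] at this
      rw [show i.ker.ideal ⟨V, hV⟩ * i.ker.ideal ⟨V, hV⟩ = ⊥ from this]
      exact Ideal.map_bot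
    have hK : K = (((i ≫ f).ker.ideal ⟨U, hU⟩).map (X.presheaf.germ U (f.base (i.base d)) hxU).hom).map φ := by
      rw [hKdef, ← hker, Groth.BlowUpBasics.ideal_comap f (i ≫ f).ker ⟨U, hU⟩ ⟨V, hV⟩ hVU,
        Ideal.map_map, Ideal.map_map]
      congr 1
      rw [hφ, ← CommRingCat.hom_comp, ← CommRingCat.hom_comp, Scheme.Hom.germ_stalkMap]
      simp [Scheme.Hom.appLE]
    have hψφ : Function.Surjective (ψ ∘ φ) := by
      have := (i ≫ f).stalkMap_surjective d
      rw [Scheme.Hom.stalkMap_comp] at this
      exact this
    intro b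
    obtain ⟨r, hr⟩ := hψφ (ψ b)
    have hbr : b - φ r ∈ K := hψK (by
      show ψ (b - φ r) = 0
      rw [map_sub, sub_eq_zero]
      exact hr.symm)
    suffices h : ∀ y ∈ K, ∀ b' : C.presheaf.stalk (i.base d), ∃ r', φ r' = b' * y by
      obtain ⟨r', hr'⟩ := h _ hbr 1
      exact ⟨r + r', by rw [map_add, hr', one_mul]; exact add_sub_cancel _ _⟩
    intro y hy
    rw [hK] at hy
    induction hy using Submodule.span_induction with
    | mem z hz =>
      obtain ⟨j, hj, rfl⟩ := hz
      intro b'
      obtain ⟨r₁, hr₁⟩ := hψφ (ψ b')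
      have he : b' - φ r₁ ∈ K := hψK (by
        show ψ (b' - φ r₁) = 0
        rw [map_sub, sub_eq_zero]
        exact hr₁.symm)
      have hjK : φ j ∈ K := hK ▸ Ideal.mem_map_of_mem φ hj
      have h0 : (b' - φ r₁) * φ j = 0 := by
        have := Ideal.mul_mem_mul he hjK
        rwa [hKK, Ideal.mem_bot] at this
      exact ⟨r₁ * j, by rw [map_mul]; linear_combination -h0⟩
    | zero => exact fun b' => ⟨0, by simp⟩
    | add z w _ _ hz hw =>
      intro b'
      obtain ⟨r₁, h₁⟩ := hz b'
      obtain ⟨r₂, h₂⟩ := hw b'
      exact ⟨r₁ + r₂, by rw [map_add, h₁, h₂, mul_add]⟩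
    | smul a z _ hz =>
      intro b'
      obtain ⟨r₁, h₁⟩ := hz (b' * a)
      exact ⟨r₁, by rw [h₁, smul_eq_mul, mul_assoc]⟩

end Groth.Agent.S18343
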