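import Groth.Statements.S18344
import Groth.Agent.OmegaSheaf.ConormalSections
import Groth.Agent.PicAux.GenLocal

set_option autoImplicit false
universe u
open CategoryTheory CategoryTheory.Limits AlgebraicGeometry
open MultCurve

namespace Groth.Agent.S18344

open TopologicalSpace in
theorem gen_of_basis {X : Scheme.{u}} {L : X.Modules} {U : X.Opens} {s : Γ(L, U)} {κ : Type*}
    (V : κ → X.Opens) (hV : ∀ a, V a ≤ U)
    (hbasis : ∀ W : X.Opens, W ≤ U → ∀ x ∈ W, ∃ a, x ∈ V a ∧ V a ≤ W)
    (h : ∀ a, Function.Bijective fun r : Γ(X, V a) => r • Groth.PicAux.res L (hV a) s) :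
    Groth.PicAux.Gen L U s := by
  open Groth.PicAux in
  have hcov : ∀ W : X.Opens, W ≤ U → W ≤ ⨆ a : {a // V a ≤ W}, V a.1 := fun W hW x hx => by
    obtain ⟨a, ha, ha'⟩ := hbasis W hW x hx
    exact Opens.mem_iSup.2 ⟨⟨a, ha'⟩, ha⟩
  have hinj : ∀ (W : X.Opens) (hW : W ≤ U) (r r' : Γ(X, W)),
      r • res L hW s = r' • res L hW s → r = r' := fun W hW r r' e => by
    refine resX_ext (fun a : {a // V a ≤ W} => V a.1) (fun a => a.2) (hcov W hW) fun a => ?_
    refine (h a.1).1 ?_
    have := congrArg (res L a.2) e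
    simp only [res_smul, res_res] at this
    exact this
  intro W hW
  refine ⟨fun r r' e => hinj W hW r r' e, fun t => ?_⟩
  choose c hc using fun a : {a // V a ≤ W} => (h a.1).2 (res L a.2 t)
  obtain ⟨r, hr, -⟩ := resX_glue (fun a : {a // V a ≤ W} => V a.1) (fun a => a.2) (hcov W hW) c
    fun a b => by
      refine hinj _ ((inf_le_left : V a.1 ⊓ V b.1 ≤ V a.1).trans (hV a.1)) _ _ ?_
      have h1 := congrArg (res L (inf_le_left : V a.1 ⊓ V b.1 ≤ V a.1)) (hc a)
      have h2 := congrArg (res L (inf_le_right : V a.1 ⊓ V b.1 ≤ V b.1)) (hc b)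
      simp only [res_smul, res_res] at h1 h2 ⊢
      rw [h1, h2]
  refine ⟨r, res_ext (fun a : {a // V a ≤ W} => V a.1) (fun a => a.2) (hcov W hW) fun a => ?_⟩
  simp only [res_smul, res_res, hr a]
  exact hc a

theorem ann_basicOpen {X : Scheme.{u}} (J : X.IdealSheafData) (U : X.affineOpens) (z : Γ(X, U))
    (hz : J.ideal U = Ideal.span {z}) (hann : ∀ a : Γ(X, U), a * z = 0 → a ∈ J.ideal U)
    (f : Γ(X, U)) :
    J.ideal (X.affineBasicOpen f) =
        Ideal.span {(X.presheaf.map (homOfLE (X.basicOpen_le f)).op).hom z} ∧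
      ∀ b : Γ(X, X.basicOpen f),
        b * (X.presheaf.map (homOfLE (X.basicOpen_le f)).op).hom z = 0 →
          b ∈ J.ideal (X.affineBasicOpen f) := by
  have : IsLocalization.Away f Γ(X, X.basicOpen f) := U.2.isLocalization_basicOpen f
  have hmap : (X.presheaf.map (homOfLE (X.basicOpen_le f)).op).hom =
      algebraMap Γ(X, U) Γ(X, X.basicOpen f) := rfl
  refine ⟨?_, fun b hb => ?_⟩
  · rw [← J.map_ideal_basicOpen U f, hz, Ideal.map_span, Set.image_singleton]
  rw [hmap] at hb
  obtain ⟨⟨b₀, c⟩, hbc⟩ := IsLocalization.surj (Submonoid.powers f) b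
  have h0 : algebraMap Γ(X, U) Γ(X, X.basicOpen f) (b₀ * z) = algebraMap Γ(X, U) Γ(X, X.basicOpen f) 0 := by
    rw [map_mul, map_zero, ← hbc, mul_right_comm, hb, zero_mul]
  obtain ⟨d, hd⟩ := (IsLocalization.eq_iff_exists (Submonoid.powers f) _).1 h0
  rw [mul_zero, ← mul_assoc] at hd
  have hmem : algebraMap Γ(X, U) Γ(X, X.basicOpen f) ((d : Γ(X, U)) * b₀) ∈
      J.ideal (X.affineBasicOpen f) := by
    rw [← J.map_ideal_basicOpen U f, hmap]
    exact Ideal.mem_map_of_mem _ (hann _ hd)
  have hu : IsUnit (algebraMap Γ(X, U) Γ(X, X.basicOpen f) ((d : Γ(X, U)) * (c : Γ(X, U)))) :=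
    IsLocalization.map_units _ (d * c)
  refine (Ideal.unit_mul_mem_iff_mem _ hu).1 ?_
  have e : algebraMap Γ(X, U) Γ(X, X.basicOpen f) ((d : Γ(X, U)) * c) * b =
      algebraMap Γ(X, U) Γ(X, X.basicOpen f) ((d : Γ(X, U)) * b₀) := by
    rw [map_mul, map_mul, mul_assoc, mul_comm _ b, hbc]
  rw [e]
  exact hmem

variable {Z X : Scheme.{u}} (i : Z ⟶ X) [IsClosedImmersion i]

theorem core (h2 : i.ker ^ 2 = ⊥) (hsurj : Function.Surjective i) :
    MultCurve.IsPrincipalOfOrder i.ker 2 ↔ PicF.IsInvertible (Omega.conormal i) := by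
  open Groth.OmegaSheaf Groth.PicAux in
  have hchart : ∀ W : X.Opens, IsAffineOpen W → IsConormalChart i W := fun W hW =>
    ⟨hW, hW.preimage i, i.app_surjective W hW⟩
  have hzero : ∀ (W : X.Opens) (_ : IsAffineOpen W) (k : Γ(ClSub.idealMod i.ker, W)),
      OmegaSh.conormalSect i W k = 0 → k = 0 := fun W hW k hk => by
    have hsq : RingHom.ker (i.app W).hom ^ 2 = ⊥ := by
      rw [← ker_ideal_eq (i := i) hW]
      exact congrArg (fun J : X.IdealSheafData => J.ideal ⟨W, hW⟩) h2
    have h0 := ((hchart W hW).conormalSect_eq_zero_iff k).1 hk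
    rw [hsq, Ideal.mem_bot] at h0
    exact idealSect_injective _ _ (h0.trans (map_zero _).symm)
  have hiff : ∀ (W : X.Opens) (hW : IsAffineOpen W) (k : Γ(ClSub.idealMod i.ker, W)),
      (Function.Bijective fun r : Γ(Z, i ⁻¹ᵁ W) => r • OmegaSh.conormalSect i W k) ↔
        (i.ker.ideal ⟨W, hW⟩ = Ideal.span {OmegaSh.idealSect i.ker W k} ∧
          ∀ a : Γ(X, W), a * OmegaSh.idealSect i.ker W k = 0 → a ∈ i.ker.ideal ⟨W, hW⟩) := by
    intro W hW k
    constructor
    · intro hb
      refine ⟨le_antisymm (fun a ha => ?_) ((Ideal.span_singleton_le_iff_mem _).2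
        (idealSect_mem i.ker ⟨W, hW⟩ k)), fun a ha => ?_⟩
      · obtain ⟨m, rfl⟩ := exists_idealSect i.ker ⟨W, hW⟩ ha
        obtain ⟨r, hr⟩ := hb.2 (OmegaSh.conormalSect i W m)
        obtain ⟨b, rfl⟩ := i.app_surjective W hW r
        have hm : m = b • k := sub_eq_zero.1 (hzero W hW _ (by
          rw [map_sub, conormalSect_smul]
          exact sub_eq_zero.2 hr.symm))
        rw [hm, idealSect_smul]
        exact Ideal.mem_span_singleton'.2 ⟨b, rfl⟩
      · rw [ker_ideal_eq (i := i) hW, RingHom.mem_ker]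
        refine hb.1 ?_
        change i.app W a • OmegaSh.conormalSect i W k = (0 : Γ(Z, i ⁻¹ᵁ W)) • _
        have hak : a • k = 0 := idealSect_injective _ _ (by
          rw [idealSect_smul, ha, map_zero])
        rw [← conormalSect_smul, hak, map_zero, zero_smul]
    · rintro ⟨hspan, hann⟩
      refine ⟨fun r r' e => ?_, fun y => ?_⟩
      · obtain ⟨b, rfl⟩ := i.app_surjective W hW r
        obtain ⟨b', rfl⟩ := i.app_surjective W hW r'
        change i.app W b • OmegaSh.conormalSect i W k = i.app W b' • OmegaSh.conormalSect i W k at e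
        have hk : (b - b') • k = 0 := hzero W hW _ (by
          rw [sub_smul, map_sub, conormalSect_smul, conormalSect_smul, e, sub_self])
        have := hann (b - b') (by rw [← idealSect_smul, hk, map_zero])
        rw [ker_ideal_eq (i := i) hW, RingHom.mem_ker, map_sub, sub_eq_zero] at this
        exact this
      · obtain ⟨m, rfl⟩ := (hchart W hW).conormalSect_surjective y
        obtain ⟨b, hb⟩ := Ideal.mem_span_singleton'.1 (hspan ▸ idealSect_mem i.ker ⟨W, hW⟩ m)
        have hm : m = b • k := idealSect_injective _ _ (by rw [idealSect_smul, hb])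
        exact ⟨i.app W b, by rw [hm, conormalSect_smul]⟩
  have hopen : ∀ V : Z.Opens, ∃ O : X.Opens, i ⁻¹ᵁ O = V := fun V => by
    obtain ⟨O, hO, hOV⟩ := i.isClosedEmbedding.isInducing.isOpen_iff.1 V.2
    exact ⟨⟨O, hO⟩, TopologicalSpace.Opens.ext hOV⟩
  constructor
  · intro hP
    rw [isInvertible_iff_exists_gen]
    intro y
    obtain ⟨U, hyU, z, hz, hann⟩ := hP (i y)
    simp only [show (2 : ℕ) - 1 = 1 from rfl, pow_one] at hann
    obtain ⟨k, hk⟩ := exists_idealSect i.ker U (x := z) (hz ▸ Ideal.mem_span_singleton_self z)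
    refine ⟨i ⁻¹ᵁ U.1, OmegaSh.conormalSect i U.1 k, hyU, ?_⟩
    refine gen_of_basis (fun f : Γ(X, U.1) => i ⁻¹ᵁ X.basicOpen f)
      (fun f => i.preimage_mono (X.basicOpen_le f)) (fun W hW x hx => ?_) fun f => ?_
    · obtain ⟨O, rfl⟩ := hopen W
      obtain ⟨f, hf, hxf⟩ := U.2.exists_basicOpen_le (V := O ⊓ U.1) ⟨i x, hx, hW hx⟩ (hW hx)
      exact ⟨f, hxf, fun p hp => (hf hp).1⟩
    · have hb := (hiff (X.basicOpen f) (U.2.basicOpen f)
        ((ClSub.idealMod i.ker).presheaf.map (homOfLE (X.basicOpen_le f)).op k)).2 (by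
          rw [idealSect_res, hk]
          exact ann_basicOpen i.ker U z hz hann f)
      exact (congrArg (fun t => Function.Bijective fun r : Γ(Z, i ⁻¹ᵁ X.basicOpen f) => r • t)
        (res_conormalSect i (X.basicOpen_le f) k)).mpr hb
  · intro hI x
    obtain ⟨y, rfl⟩ := hsurj x
    obtain ⟨V, s, hyV, hs⟩ := (isInvertible_iff_exists_gen _).1 hI y
    obtain ⟨O, rfl⟩ := hopen V
    obtain ⟨_, ⟨W : X.Opens, hW, rfl⟩, hyW, hWO⟩ :=
      X.isBasis_affineOpens.exists_subset_of_mem_open (show i y ∈ O from hyV) O.2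
    obtain ⟨k, hk⟩ := (hchart W hW).conormalSect_surjective
      (res (Omega.conormal i) (i.preimage_mono (show W ≤ O from hWO)) s)
    obtain ⟨h1, h2'⟩ := (hiff W hW k).1 (hk ▸ hs _ (i.preimage_mono (show W ≤ O from hWO)))
    refine ⟨⟨W, hW⟩, hyW, _, h1, fun a ha => ?_⟩
    rw [show (2 : ℕ) - 1 = 1 from rfl, pow_one] at ha
    exact h2' a ha


/-- Let C be a scheme and I ⊂ O_C a quasi-coherent ideal with I² = 0, and let D ⊂ C be the closed
subscheme it defines. Then the following are equivalent: (a) every point of C has an affine open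
neighbourhood U on which I(U) is generated by one section z such that every a with a z = 0 lies in
I(U); (b) the conormal sheaf of D in C (the ideal I regarded as an O_D-module, which makes sense
because I² = 0) is an invertible O_D-module. This identifies the line-bundle clause in the
definition of a ribbon with the section-level principal-of-order-two condition. -/
theorem result (C : Scheme.{u}) (I : C.IdealSheafData)
    (hI : I ^ 2 = ⊥) :
    MultCurve.IsPrincipalOfOrder I 2 ↔ PicF.IsInvertible (Omega.conormal I.subschemeι) := by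
  have hker : I.subschemeι.ker = I := I.ker_subschemeι
  have hs : Function.Surjective I.subschemeι := fun x => by
    have : x ∈ (I.support : Set C) := by
      rw [← Scheme.IdealSheafData.support_pow I 2 two_ne_zero, hI]
      simp
    rwa [← I.range_subschemeι] at this
  have h := core I.subschemeι (by rw [hker]; exact hI) hs
  rwa [hker] at h

end Groth.Agent.S18344

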