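import Groth.Statements.S1835
import Groth.Agent.MilnorKLambda.Tame1.Bound

set_option autoImplicit false
universe u
open CycAlg

namespace Groth.Agent.S1835

/-- Let R be a Noetherian local ring of dimension 1, a a nonzerodivisor in the maximal ideal and b a
nonzerodivisor. There is an integer n such that whenever b = a^m c in some finite extension ring R ⊆
R', one has m ≤ n. -/
theorem result (R : Type u) [CommRing R] [IsNoetherianRing R] [IsLocalRing R] (hR : ringKrullDim R = 1) (a b : R) (ha : a ∈ nonZeroDivisors R) (ham : a ∈ IsLocalRing.maximalIdeal R) (hb : b ∈ nonZeroDivisors R) : ∃ n : ℕ, ∀ (R' : Type u) [CommRing R'] [Algebra R R'], Function.Injective (algebraMap R R') → Module.Finite R R' → ∀ (m : ℕ) (c : R'), algebraMap R R' b = algebraMap R R' a ^ m * c → m ≤ n := by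
  have : Ring.KrullDimLE 1 R := (Ring.krullDimLE_iff).2 hR.le
  exact Groth.MilnorKLambda.Amb.exists_bound_pow_dvd ha ham hb

end Groth.Agent.S1835
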