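import Groth.Statements.S18350
import Groth.Agent.Duality.ShriekBridge.Main
import Groth.Agent.Duality.StalkHom
import Groth.Agent.CohTwo.LocFreeDual
import Groth.Agent.RefRank.Divisor
import Groth.Agent.Inter.Twist
import Groth.Agent.EulerDeg.FiniteSupport
import Groth.Agent.EulerDeg.LineBundle
import Groth.Agent.SerreCorr.Hom
-- import your own Groth.Agent.* helpers here

set_option autoImplicit false
universe u
open CategoryTheory CategoryTheory.Limits AlgebraicGeometry
attribute [local instance] HasDerivedCategory.standard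
open MultCurve

namespace Groth.Agent.S18350

open TensorProduct
open Groth.QCohMod (germ exists_germ germ_res germ_smul stalkTensorHom stalkTensorHom_tmul
  stalkTensorHom_bijective exists_common_germ)
open Groth.RefRank (secToLin germ_secToLin hom_ext_sec mod_section_ext)
open Groth.PicAux (tmulSec toFun)
open Groth.VectorBundles.RefHullStalk (oneEquiv oneEquiv_apply evalStalk_bijective_of_isCoh
  isReflexive_iff_forall_stalk germ_structureModule)
open Groth.Duality.StalkHom (toMor stalkMapₗ_toMor hom_ext_stalk stalkMapₗ_comp_apply)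
open Groth.CohTwo.SheafHomIso (toHomSh toHomSh_app currySec_val curryStalk_germ)

section Algebra

variable {R D M G N : Type u} [CommRing R] [AddCommGroup D] [Module R D] [AddCommGroup M]
  [Module R M] [AddCommGroup G] [Module R G] [AddCommGroup N] [Module R N]

theorem equiv_eq_smul (ι : R ≃ₗ[R] G) (r : R) : ι r = r • ι 1 := by
  rw [← map_smul, smul_eq_mul, mul_one]

theorem bij_of_tmul (E : D ≃ₗ[R] (M →ₗ[R] R)) (ι : R ≃ₗ[R] G) (T : D ⊗[R] G →ₗ[R] (M →ₗ[R] G))
    (hT : ∀ f g v, T (f ⊗ₜ g) v = E f v • g) : Function.Bijective T := by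
  let T' := (TensorProduct.congr (LinearEquiv.refl R D) ι.symm).trans
    ((TensorProduct.rid R D).trans (E.trans (LinearEquiv.congrRight ι)))
  have h : T = T'.toLinearMap := TensorProduct.ext' fun f g => LinearMap.ext fun v => by
    obtain ⟨a, rfl⟩ := ι.surjective g
    rw [hT]
    change _ = ι (E ((ι.symm (ι a)) • f) v)
    rw [ι.symm_apply_apply, map_smul, LinearMap.smul_apply, ← map_smul, smul_eq_mul, smul_eq_mul,
      mul_comm]
  rw [h]
  exact T'.bijective

theorem bij_bidual (E : D ≃ₗ[R] (M →ₗ[R] R)) (ι : R ≃ₗ[R] G)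
    (hM : Function.Bijective (Module.Dual.eval R M)) (σ : D ⊗[R] G ≃ₗ[R] N)
    (T : M →ₗ[R] (N →ₗ[R] G)) (hT : ∀ v f g, T v (σ (f ⊗ₜ g)) = E f v • g) :
    Function.Bijective T := by
  let η : (M →ₗ[R] R) ≃ₗ[R] N := E.symm.trans ((TensorProduct.rid R D).symm.trans
    ((TensorProduct.congr (LinearEquiv.refl R D) ι).trans σ))
  let Ψ : ((M →ₗ[R] R) →ₗ[R] R) ≃ₗ[R] (N →ₗ[R] G) := LinearEquiv.arrowCongr η ι
  have h : (T : M → N →ₗ[R] G) = Ψ ∘ Module.Dual.eval R M := funext fun v => LinearMap.ext fun n => by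
    obtain ⟨φ, rfl⟩ := η.surjective n
    simp only [Function.comp_apply, Ψ, LinearEquiv.arrowCongr_apply, LinearEquiv.symm_apply_apply,
      Module.Dual.eval_apply]
    obtain ⟨f, rfl⟩ := E.surjective φ
    have : η (E f) = σ (f ⊗ₜ ι 1) := by simp [η]
    rw [this, hT, ← equiv_eq_smul]
  rw [h]
  exact Ψ.bijective.comp hM

end Algebra

variable {X : Scheme.{u}}

theorem oneEquiv_symm_germ {U : X.Opens} (y : X) (hy : y ∈ U)
    (a : Γ(Coh.structureModule X, U)) :
    (oneEquiv y).symm (germ (Coh.structureModule X) y hy a) =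
      X.presheaf.germ U y hy (toFun a) := by
  rw [LinearEquiv.symm_apply_eq, oneEquiv_apply]
  exact germ_structureModule y hy _

theorem stalk_theta_tmul (F G : X.Modules) (x : X)
    (f : (RefHull.dual F).presheaf.stalk x) (g : G.presheaf.stalk x) (v : F.presheaf.stalk x) :
    RefHull.evalStalk F G x (RefHull.stalkMapₗ (Groth.CohTwo.LocFreeDual.theta F G) x
        (stalkTensorHom (RefHull.dual F) G x (f ⊗ₜ g))) v =
      (oneEquiv x).symm (RefHull.evalStalk F (Coh.structureModule X) x f v) • g := by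
  obtain ⟨W₀, hx₀, a, b, rfl, rfl⟩ := exists_common_germ x f g
  obtain ⟨W₁, hx₁, m, rfl⟩ := exists_germ F x v
  have hV : x ∈ W₀ ⊓ W₁ := ⟨hx₀, hx₁⟩
  rw [← germ_res (RefHull.dual F) (inf_le_left : W₀ ⊓ W₁ ≤ W₀) x hV a,
    ← germ_res G (inf_le_left : W₀ ⊓ W₁ ≤ W₀) x hV b,
    ← germ_res F (inf_le_right : W₀ ⊓ W₁ ≤ W₁) x hV m,
    stalkTensorHom_tmul (RefHull.dual F) G x hV, RefHull.stalkMapₗ_germ, RefHull.evalStalk_germ,
    RefHull.evalStalk_germ]
  erw [← germ_secToLin, ← germ_secToLin]
  rw [oneEquiv_symm_germ, Groth.CohTwo.LocFreeDual.secToLin_theta]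
  exact germ_smul G x hV _ _

theorem isIso_theta_of_isInvertible [IsLocallyNoetherian X] {F G : X.Modules} (hF : Coh.IsCoh F)
    (hG : PicF.IsInvertible G) : IsIso (Groth.CohTwo.LocFreeDual.theta F G) := by
  refine (Groth.RefRank.isIso_iff_bijective_stalk _).2 fun x => ?_
  obtain ⟨ι⟩ := Groth.Inter.exists_stalk_equiv hG x
  let E := (LinearEquiv.ofBijective _ (evalStalk_bijective_of_isCoh F (Coh.structureModule X) hF x)).trans
    (LinearEquiv.congrRight (oneEquiv x).symm)
  have hb := bij_of_tmul E ι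
    ((RefHull.evalStalk F G x).comp
      ((RefHull.stalkMapₗ (Groth.CohTwo.LocFreeDual.theta F G) x).comp
        (stalkTensorHom (RefHull.dual F) G x)))
    (fun f g v => stalk_theta_tmul F G x f g v)
  simp only [LinearMap.coe_comp] at hb
  rw [← Function.comp_assoc,
    Function.Bijective.of_comp_iff _ (stalkTensorHom_bijective (RefHull.dual F) G x),
    Function.Bijective.of_comp_iff' (evalStalk_bijective_of_isCoh F G hF x)] at hb
  exact hb

/-- `F ⟶ Hom(F^∨ ⊗ G, G)`. -/
noncomputable def bid (F G : X.Modules) :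
    F ⟶ RefHull.homSh (CohB1.tensorMod (RefHull.dual F) G) G :=
  toHomSh ((Groth.PicAux.exists_braiding (CohB1.tensorMod (RefHull.dual F) G) F).choose.hom ≫
    (Groth.CohTwo.LocFreeDual.alpha F).app G)

theorem stalk_bid (F G : X.Modules) (x : X) (v : F.presheaf.stalk x)
    (f : (RefHull.dual F).presheaf.stalk x) (g : G.presheaf.stalk x) :
    RefHull.evalStalk (CohB1.tensorMod (RefHull.dual F) G) G x (RefHull.stalkMapₗ (bid F G) x v)
        (stalkTensorHom (RefHull.dual F) G x (f ⊗ₜ g)) =
      (oneEquiv x).symm (RefHull.evalStalk F (Coh.structureModule X) x f v) • g := by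
  obtain ⟨W₀, hx₀, a, b, rfl, rfl⟩ := exists_common_germ x f g
  obtain ⟨W₁, hx₁, m, rfl⟩ := exists_germ F x v
  have hV : x ∈ W₀ ⊓ W₁ := ⟨hx₀, hx₁⟩
  rw [← germ_res (RefHull.dual F) (inf_le_left : W₀ ⊓ W₁ ≤ W₀) x hV a,
    ← germ_res G (inf_le_left : W₀ ⊓ W₁ ≤ W₀) x hV b,
    ← germ_res F (inf_le_right : W₀ ⊓ W₁ ≤ W₁) x hV m,
    stalkTensorHom_tmul (RefHull.dual F) G x hV, RefHull.stalkMapₗ_germ, RefHull.evalStalk_germ,
    RefHull.evalStalk_germ]
  rw [bid, toHomSh_app, currySec_val]
  refine (curryStalk_germ _ hV _ _).trans ?_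
  rw [Scheme.Modules.Hom.comp_app, ConcreteCategory.comp_apply,
    (Groth.PicAux.exists_braiding (CohB1.tensorMod (RefHull.dual F) G) F).choose_spec]
  refine (congrArg (germ G x hV) (Groth.CohTwo.LocFreeDual.alpha_tmul F G _ _ _ _)).trans ?_
  erw [← germ_secToLin]
  rw [oneEquiv_symm_germ]
  exact germ_smul G x hV _ _

theorem isIso_bid [IsLocallyNoetherian X] {F G : X.Modules} (hF : Coh.IsCoh F)
    (hFr : RefHull.IsReflexive F) (hG : PicF.IsInvertible G) : IsIso (bid F G) := by
  refine (Groth.RefRank.isIso_iff_bijective_stalk _).2 fun x => ?_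
  obtain ⟨ι⟩ := Groth.Inter.exists_stalk_equiv hG x
  have hD : Coh.IsCoh (CohB1.tensorMod (RefHull.dual F) G) :=
    Groth.RefRank.isCoh_tensorMod
      (Groth.RefRank.isCoh_homSh hF (Groth.Inter.isCoh_of_isInvertible
        (Groth.EulerDeg.isInvertible_structureModule X)))
      (Groth.Inter.isCoh_of_isInvertible hG)
  let E := (LinearEquiv.ofBijective _ (evalStalk_bijective_of_isCoh F (Coh.structureModule X) hF x)).trans
    (LinearEquiv.congrRight (oneEquiv x).symm)
  have := (isReflexive_iff_forall_stalk F hF).1 hFr x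
  have hb := bij_bidual E ι (Module.bijective_dual_eval _ _)
    (LinearEquiv.ofBijective _ (stalkTensorHom_bijective (RefHull.dual F) G x))
    ((RefHull.evalStalk _ G x).comp (RefHull.stalkMapₗ (bid F G) x))
    (fun v f g => stalk_bid F G x v f g)
  simp only [LinearMap.coe_comp] at hb
  rw [Function.Bijective.of_comp_iff' (evalStalk_bijective_of_isCoh _ G hD x)] at hb
  exact hb

section Linear

variable (k : Type u) [Field k] [X.Over (Spec (CommRingCat.of k))]

attribute [local instance] Groth.EulerDeg.secModule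

variable {F G : X.Modules}

theorem toMor_add (g g' : Γ(RefHull.homSh F G, ⊤)) : toMor (g + g') = toMor g + toMor g' :=
  hom_ext_stalk fun x => by
    rw [stalkMapₗ_toMor, Groth.SerreCorr.stalkMapₗ_add, stalkMapₗ_toMor, stalkMapₗ_toMor]
    rfl

theorem toMor_smul (c : k) (g : Γ(RefHull.homSh F G, ⊤)) :
    toMor (c • g) = toMor g ≫ Formal.smulMod k G c :=
  hom_ext_stalk fun x => LinearMap.ext fun v => by
    rw [stalkMapₗ_toMor, stalkMapₗ_comp_apply, stalkMapₗ_toMor]
    obtain ⟨U, hx, m, hm⟩ := exists_germ G x (g.1 ⟨x, trivial⟩ v)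
    rw [← hm, RefHull.stalkMapₗ_germ]
    refine Eq.trans ?_ (germ_smul G x hx
      (X.presheaf.map (homOfLE (le_top : U ≤ ⊤)).op
        (Coh.toGlobal (X ↘ Spec (CommRingCat.of k)) c)) m).symm
    rw [TopCat.Presheaf.germ_res_apply X.presheaf, hm, Groth.EulerDeg.smul_sec,
      Groth.RefRank.smul_val, LinearMap.smul_apply]
    congr 1
    exact congrArg _ (Groth.PicAux.resX_self _ _)

theorem bijective_toMor : Function.Bijective (toMor : Γ(RefHull.homSh F G, ⊤) → (F ⟶ G)) := by
  refine Function.bijective_iff_has_inverse.2 ⟨fun φ => RefHull.ofHom φ ⊤, fun g => ?_, fun φ => ?_⟩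
  · exact hom_ext_sec fun x => stalkMapₗ_toMor g x.1
  · exact hom_ext_stalk fun x => stalkMapₗ_toMor _ x

variable (F) in
theorem finrank_homSh [IsProper (X ↘ Spec (CommRingCat.of k))] (hF : Coh.IsCoh F) {r : ℕ}
    {tr : Coh.HH X G r →ₗ[k] k} (htr : Canon.IsRDualOver k X r G tr) :
    Module.finrank k (Coh.HH X (RefHull.homSh F G) 0) = Module.finrank k (Coh.HH X F r) := by
  let e := Groth.EulerDeg.h0Equiv k (RefHull.homSh F G)
  let ℓ : Coh.HH X (RefHull.homSh F G) 0 →ₗ[k] Module.Dual k (Coh.HH X F r) :=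
    { toFun := fun z => Canon.dualityMap k X r G tr F (toMor (e z))
      map_add' := fun z z' => LinearMap.ext fun y => by
        rw [map_add, toMor_add]
        change tr (Groth.CohC3.hmap k (toMor (e z) + toMor (e z')) r y) =
          tr (Groth.CohC3.hmap k (toMor (e z)) r y) + tr (Groth.CohC3.hmap k (toMor (e z')) r y)
        rw [← map_add]
        congr 1
        change ((Sheaf.functorH _ r).map ((CohBase.toAbF X).map
            (toMor (e z) + toMor (e z')))).hom y =
          ((Sheaf.functorH _ r).map ((CohBase.toAbF X).map (toMor (e z)))).hom y +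
            ((Sheaf.functorH _ r).map ((CohBase.toAbF X).map (toMor (e z')))).hom y
        rw [Functor.map_add, Functor.map_add]
        rfl
      map_smul' := fun c z => LinearMap.ext fun y => by
        rw [map_smul, toMor_smul]
        change tr (Groth.CohC3.hmap k (toMor (e z) ≫ Formal.smulMod k G c) r y) =
          c • tr (Groth.CohC3.hmap k (toMor (e z)) r y)
        rw [← Groth.CohC3.hmap_comp, Groth.CohC3.hmap_smulMod, map_smul] }
  have hℓ : Function.Bijective ℓ := (htr.2 F hF.1).comp (bijective_toMor.comp e.bijective)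
  have := Groth.EulerDeg.finite_HH k X hF r
  rw [(LinearEquiv.ofBijective ℓ hℓ).finrank_eq, Subspace.dual_finrank_eq]

theorem finrank_congr {M N : X.Modules} (φ : M ⟶ N) [IsIso φ] (r : ℕ) :
    Module.finrank k (Coh.HH X M r) = Module.finrank k (Coh.HH X N r) :=
  (LinearEquiv.ofBijective _ (Groth.CohC3.hmap_bijective_of_isIso (A := k) φ r)).finrank_eq

theorem main [IsProper (X ↘ Spec (CommRingCat.of k))] (hG : PicF.IsInvertible G)
    {tr : Coh.HH X G 1 →ₗ[k] k} (htr : Canon.IsRDualOver k X 1 G tr)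
    (hF : Coh.IsCoh F) (hFr : RefHull.IsReflexive F) :
    Module.finrank k (Coh.HH X F 0) =
        Module.finrank k (Coh.HH X (CohB1.tensorMod (RefHull.dual F) G) 1) ∧
      Module.finrank k (Coh.HH X F 1) =
        Module.finrank k (Coh.HH X (CohB1.tensorMod (RefHull.dual F) G) 0) := by
  haveI : IsLocallyNoetherian X :=
    LocallyOfFiniteType.isLocallyNoetherian (X ↘ Spec (CommRingCat.of k))
  have hD : Coh.IsCoh (CohB1.tensorMod (RefHull.dual F) G) :=
    Groth.RefRank.isCoh_tensorMod
      (Groth.RefRank.isCoh_homSh hF (Groth.Inter.isCoh_of_isInvertible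
        (Groth.EulerDeg.isInvertible_structureModule X)))
      (Groth.Inter.isCoh_of_isInvertible hG)
  have := isIso_bid hF hFr hG
  have := isIso_theta_of_isInvertible hF hG
  exact ⟨(finrank_congr k (bid F G) 0).trans (finrank_homSh k _ hD htr),
    (finrank_homSh k F hF htr).symm.trans
      (finrank_congr k (Groth.CohTwo.LocFreeDual.theta F G) 0).symm⟩

end Linear

/-- Let k be a field and X a projective primitive multiple curve of multiplicity n ≥ 1 over k: a proper
k-scheme with a closed immersion i : C ⟶ X of a smooth integral curve C whose ideal I satisfies Iⁿ =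
0 and is locally generated by one section z with the annihilator of z^(n-1) contained in (z). Let
ω_X be the dualizing module of X over k (the cohomology sheaf in degree -1 of f^! O for the
structure morphism f, with the existence of Rf_* on D_QCoh and of its right adjoint carried as
hypotheses), assumed invertible, and let F be a coherent reflexive O_X-module (the canonical map
from F to its double dual is an isomorphism). Then dim_k H⁰(X, F) = dim_k H¹(X, F^∨ ⊗ ω_X) and dim_k
H¹(X, F) = dim_k H⁰(X, F^∨ ⊗ ω_X), where F^∨ = Hom(F, O_X) is the dual sheaf. (The published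
statement gives functorial isomorphisms H^i(X, F) ≅ H^(1-i)(X, F^∨ ⊗ ω_X)^* for i = 0, 1; this row
records the equality of dimensions. Invertibility of ω_X, asserted in the published text because X
is a local complete intersection, is carried as a hypothesis. Stated over an arbitrary field; the
published setting is the complex numbers.) -/
theorem result (k : Type u) [Field k] (C X : Scheme.{u})
    [X.Over (Spec (CommRingCat.of k))] [IsProper (X ↘ (Spec (CommRingCat.of k)))] (i : C ⟶ X)
    (n : ℕ) (hn : 1 ≤ n) (h : MultCurve.IsPrimitive k i (X ↘ (Spec (CommRingCat.of k))) n)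
    [DCoh.HasRpush (X ↘ (Spec (CommRingCat.of k)))] (hq : DCoh.RpushPreservesQCoh (X ↘ (Spec (CommRingCat.of k))))
    [DCoh.HasShriek (X ↘ (Spec (CommRingCat.of k))) hq]
    (OY : DCoh.DQCoh (Spec (CommRingCat.of k)))
    (hOY : Nonempty (OY.obj ≅ DCoh.inD (Spec (CommRingCat.of k)) (Coh.structureModule (Spec (CommRingCat.of k)))))
    (hω : PicF.IsInvertible (DCoh.dualizingMod (X ↘ (Spec (CommRingCat.of k))) hq OY 1))
    (F : X.Modules) (hF : Coh.IsCoh F) (hFr : RefHull.IsReflexive F) :
    Module.finrank k (Coh.HH X F 0) =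
        Module.finrank k (Coh.HH X (CohB1.tensorMod (RefHull.dual F) (DCoh.dualizingMod (X ↘ (Spec (CommRingCat.of k))) hq OY 1)) 1) ∧
      Module.finrank k (Coh.HH X F 1) =
        Module.finrank k (Coh.HH X (CohB1.tensorMod (RefHull.dual F) (DCoh.dualizingMod (X ↘ (Spec (CommRingCat.of k))) hq OY 1)) 0) := by
  obtain ⟨⟨hcl, hpow, -⟩, -, -, hdimC⟩ := h
  have hsurj : Function.Surjective i := by
    have h1 : (i.ker ^ n).support = i.ker.support :=
      Scheme.IdealSheafData.support_pow _ _ (by omega)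
    rw [hpow, Scheme.IdealSheafData.support_bot] at h1
    have h2 : closure (Set.range i) = Set.univ := by
      rw [← Scheme.Hom.support_ker, ← h1]
      rfl
    rw [i.isClosedEmbedding.isClosed_range.closure_eq] at h2
    exact Set.range_eq_univ.1 h2
  let e : ↥C ≃ₜ ↥X := i.isClosedEmbedding.isEmbedding.toHomeomorphOfSurjective hsurj
  have hdim : topologicalKrullDim ↥X ≤ 1 :=
    (e.symm.isInducing.topologicalKrullDim_le).trans hdimC.le
  have hfib : ∀ P, topologicalKrullDim ↥((X ↘ Spec (CommRingCat.of k)).fiber P) ≤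
      ((1 : ℕ) : WithBot ℕ∞) := fun P => by
    refine le_trans ?_ hdim
    exact ((X ↘ Spec (CommRingCat.of k)).fiberι P).isEmbedding.isInducing.topologicalKrullDim_le
  obtain ⟨tr, htr⟩ := Groth.Duality.ShriekBridge.exists_isRDualOver_dualizingMod hfib hq OY hOY
  exact main k hω htr hF hFr

end Groth.Agent.S18350
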