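import Groth.Statements.S18353
import Groth.Agent.Curves1.RR.LinEquiv
import Groth.Agent.S18352
import Groth.Agent.S2422

set_option autoImplicit false
set_option backward.isDefEq.respectTransparency.types false
universe u
open Curv2

namespace Groth.Agent.S18353

open CategoryTheory AlgebraicGeometry in
/-- Let S be an integral Noetherian scheme all of whose local rings are integrally closed domains, and
let f₁ : C₁ → S and f₂ : C₂ → S be flat, proper, locally finitely presented morphisms of schemes
whose fibres are geometrically reduced and geometrically connected, all of Krull dimension one, and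
whose fibres over the generic point of S are smooth. Let φ : C₁ → C₂ be a morphism over S which is
birational, in the sense that it restricts to an isomorphism over some dense open subset of C₂. Then
the canonical map O_{C₂} → φ_* O_{C₁} is an isomorphism: for every open V of C₂ the pull-back map
from sections over V to sections over φ⁻¹(V) is an isomorphism of rings. The total spaces are
schemes here; the source also allows algebraic spaces. -/
theorem result (S C₁ C₂ : Scheme.{u}) [IsIntegral S]
    [IsNoetherian S] (hS : Pi1.IsNormalScheme S) (f₁ : C₁ ⟶ S) (f₂ : C₂ ⟶ S)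
    [Flat f₁] [IsProper f₁] [LocallyOfFinitePresentation f₁] [GeometricallyReduced f₁] [GeometricallyConnected f₁]
    [Flat f₂] [IsProper f₂] [LocallyOfFinitePresentation f₂] [GeometricallyReduced f₂] [GeometricallyConnected f₂]
    (hdim₁ : ∀ s : ↥S, topologicalKrullDim ↥(f₁.fiber s) = 1) (hdim₂ : ∀ s : ↥S, topologicalKrullDim ↥(f₂.fiber s) = 1)
    (hsm₁ : Smooth (f₁.fiberToSpecResidueField (genericPoint ↥S)))
    (hsm₂ : Smooth (f₂.fiberToSpecResidueField (genericPoint ↥S)))
    (φ : C₁ ⟶ C₂) (hφ : φ ≫ f₂ = f₁) (hbir : ∃ U : C₂.Opens, Dense (U : Set ↥C₂) ∧ IsIso (φ ∣_ U)) :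
    ∀ V : C₂.Opens, IsIso (φ.app V) := by
  have integral : ∀ {C : Scheme.{u}} (f : C ⟶ S) [Flat f] [IsProper f] [LocallyOfFinitePresentation f]
      [GeometricallyReduced f] [GeometricallyConnected f],
      (∀ s : ↥S, topologicalKrullDim ↥(f.fiber s) = 1) → Smooth (f.fiberToSpecResidueField (genericPoint ↥S)) →
      IsNoetherian C ∧ IsIntegral C ∧ Pi1.IsNormalScheme C := by
    intro C f _ _ _ _ _ hd hs
    have hN := Groth.Agent.S18352.result S C hS f hd hs
    have : IsLocallyNoetherian C := LocallyOfFiniteType.isLocallyNoetherian f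
    have : CompactSpace C := QuasiCompact.compactSpace_of_compactSpace f
    have : IsNoetherian C := ⟨⟩
    have : ConnectedSpace C := GeometricallyConnected.connectedSpace f f.isOpenMap
    exact ⟨inferInstance, Groth.Curves1.RR.isIntegral_of_normal hN, hN⟩
  obtain ⟨_, _, -⟩ := integral f₁ hdim₁ hsm₁
  obtain ⟨_, _, hN₂⟩ := integral f₂ hdim₂ hsm₂
  have : IsProper φ := by
    have : IsProper (φ ≫ f₂) := hφ ▸ inferInstance
    exact IsProper.of_comp φ f₂
  obtain ⟨U, hUd, hUiso⟩ := hbir
  have hgU : genericPoint C₂ ∈ U :=
    ((genericPoint_spec C₂).mem_open_set_iff U.2).2 (by simpa using hUd.nonempty)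
  obtain ⟨x, hx⟩ := (φ ∣_ U).homeomorph.surjective ⟨genericPoint C₂, hgU⟩
  have hx' : φ.base x.1 = genericPoint C₂ :=
    (morphismRestrict_base_coe φ U x).symm.trans (congrArg Subtype.val hx)
  have hgx : genericPoint C₁ ⤳ x.1 := (genericPoint_spec C₁).specializes trivial
  have hgen : φ.base (genericPoint C₁) = genericPoint C₂ :=
    ((hx' ▸ hgx.map φ.continuous : φ.base (genericPoint C₁) ⤳ genericPoint C₂)).antisymm
      ((genericPoint_spec C₂).specializes trivial) |>.eq
  have hiso : IsIso (φ.stalkMap (genericPoint C₁)) := by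
    have hg : genericPoint C₁ ∈ φ ⁻¹ᵁ U := by
      show φ.base (genericPoint C₁) ∈ U
      rw [hgen]; exact hgU
    exact ((MorphismProperty.isomorphisms CommRingCat).arrow_mk_iso_iff
      (morphismRestrictStalkMap φ U ⟨genericPoint C₁, hg⟩)).1 (inferInstance : IsIso ((φ ∣_ U).stalkMap _))
  refine Groth.Agent.S2422.result hN₂ φ (specializes_of_eq hgen) fun z _ => ?_
  have : IsIso (C₂.presheaf.stalkSpecializes (specializes_of_eq hgen)) :=
    (TopCat.Presheaf.stalkCongr C₂.presheaf (Inseparable.of_eq hgen.symm)).isIso_hom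
  exact ((ConcreteCategory.isIso_iff_bijective
    (C₂.presheaf.stalkSpecializes (specializes_of_eq hgen) ≫ φ.stalkMap (genericPoint C₁))).1 inferInstance).2 z

end Groth.Agent.S18353
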