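import Groth.Statements.S18359
import Mathlib
import Groth.Agent.Misc14.SmoothLiftGlobal
-- import your own Groth.Agent.* helpers here

set_option autoImplicit false
open CategoryTheory AlgebraicGeometry
universe u
open BlochOgus

namespace Groth.Agent.S18359

section
open CategoryTheory CategoryTheory.Limits AlgebraicGeometry TopologicalSpace

theorem ker_eq_comap_of_isPullback {P X Y Z : Scheme.{u}} {a : P ⟶ X} {b : P ⟶ Z} {h : X ⟶ Y} {c : Z ⟶ Y}
    [IsClosedImmersion c] (H : IsPullback a b h c) : a.ker = c.ker.comap h := by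
  rw [← Scheme.IdealSheafData.ker_fst_of_isClosedImmersion c h, ← H.isoPullback_hom_fst,
    Scheme.Hom.ker_comp_of_isIso]

theorem isPullback_of_mono {A B C : Scheme.{u}} {m : A ⟶ B} {k : B ⟶ C} [Mono k] {c : A ⟶ C} (h : m ≫ k = c) :
    IsPullback m (𝟙 A) k c :=
  IsPullback.of_isLimit' ⟨by rw [h, Category.id_comp]⟩ (PullbackCone.IsLimit.mk _ (fun s => s.snd)
    (fun s => (cancel_mono k).1 (by rw [Category.assoc, h, s.condition]))
    (fun s => Category.comp_id _) (fun s q _ h2 => by simpa using h2))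

theorem ker_comap_self {X Y : Scheme.{u}} (k : X ⟶ Y) [IsClosedImmersion k] : k.ker.comap k = ⊥ := by
  rw [← ker_eq_comap_of_isPullback (IsKernelPair.id_of_mono k)]
  exact Scheme.Hom.ker_eq_bot_of_isIso _

theorem exists_lift_smooth {X₁ Y U Zu Z Z₁ : Scheme.{u}} (φ : Y ⟶ X₁) (j : U ⟶ Y) [IsOpenImmersion j]
    (i : Z ⟶ Y) [IsClosedImmersion i] (g : Z ⟶ Z₁) (i₁ : Z₁ ⟶ X₁) [IsClosedImmersion i₁]
    (hsq : i ≫ φ = g ≫ i₁) (K : Y.IdealSheafData) (hK : K ≤ i.ker) (U₀ : Y.Opens) (hU₀ : j.opensRange ≤ U₀)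
    (hsm : Smooth ((K.subschemeι ⁻¹ᵁ U₀).ι ≫ K.subschemeι ≫ φ))
    (hle : i.ker.comap U₀.ι ≤ (K ⊔ i₁.ker.comap φ).comap U₀.ι)
    (mU : Zu ⟶ U) [IsClosedImmersion mU] (θ : Zu ⟶ Z) (hpb : IsPullback mU θ j i) :
    ∃ (W : Scheme.{u}) (k : W ⟶ U) (m : Zu ⟶ W),
      IsClosedImmersion k ∧ m ≫ k = mU ∧ Smooth (k ≫ j ≫ φ) ∧ IsPullback m (θ ≫ g) (k ≫ j ≫ φ) i₁ := by
  set KU := K.comap j
  have hker : mU.ker = i.ker.comap j := ker_eq_comap_of_isPullback hpb
  have hKle : KU ≤ mU.ker := hker ▸ Scheme.IdealSheafData.comap_mono (f := j) hK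
  set k := KU.subschemeι
  have hk : k.ker = KU := KU.ker_subschemeι
  set m : Zu ⟶ KU.subscheme := IsClosedImmersion.lift k mU (by rw [hk]; exact hKle)
  have hmk : m ≫ k = mU := IsClosedImmersion.lift_fac _ _ _
  refine ⟨_, k, m, inferInstance, hmk, ?_, ?_⟩
  · set ν := (K.comapIso j).hom ≫ pullback.snd j K.subschemeι
    have hν : ν ≫ K.subschemeι = k ≫ j := by
      simp only [ν, Category.assoc, ← pullback.condition, Scheme.IdealSheafData.comapIso_hom_fst_assoc]
      rfl
    have hrange : Set.range ν ⊆ Set.range (K.subschemeι ⁻¹ᵁ U₀).ι := by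
      rw [Scheme.Opens.range_ι]
      rintro _ ⟨w, rfl⟩
      show K.subschemeι (ν w) ∈ U₀
      rw [← Scheme.Hom.comp_apply, hν, Scheme.Hom.comp_apply]
      exact hU₀ ⟨_, rfl⟩
    haveI : IsOpenImmersion ν := inferInstance
    set ν' := IsOpenImmersion.lift (K.subschemeι ⁻¹ᵁ U₀).ι ν hrange
    have hν' : ν' ≫ (K.subschemeι ⁻¹ᵁ U₀).ι = ν := IsOpenImmersion.lift_fac _ _ _
    haveI : IsOpenImmersion ν' := by
      haveI : IsOpenImmersion (ν' ≫ (K.subschemeι ⁻¹ᵁ U₀).ι) := by rw [hν']; infer_instance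
      exact IsOpenImmersion.of_comp ν' (K.subschemeι ⁻¹ᵁ U₀).ι
    rw [← Category.assoc, ← hν, ← hν', Category.assoc, Category.assoc]
    infer_instance
  · haveI : IsClosedImmersion (m ≫ k) := by rw [hmk]; infer_instance
    haveI : IsClosedImmersion m := IsClosedImmersion.of_comp m k
    refine AlgebraicGeometry.isPullback_of_isClosedImmersion m i₁ (θ ≫ g) (k ≫ j ≫ φ) ?_ ?_
    · rw [← Category.assoc, hmk, ← Category.assoc, hpb.w, Category.assoc, hsq, Category.assoc]
    · apply le_antisymm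
      · rw [← Scheme.IdealSheafData.le_map_iff_comap_le, ← Scheme.Hom.ker_comp,
          show m ≫ k ≫ j ≫ φ = (θ ≫ g) ≫ i₁ by
            rw [← Category.assoc, hmk, ← Category.assoc, hpb.w, Category.assoc, hsq, Category.assoc]]
        exact Scheme.Hom.le_ker_comp _ _
      · have hm : m.ker = mU.ker.comap k := by
          exact ker_eq_comap_of_isPullback (isPullback_of_mono hmk)
        set l := IsOpenImmersion.lift U₀.ι j (by
          rw [Scheme.Opens.range_ι]; exact hU₀)
        have hl : l ≫ U₀.ι = j := IsOpenImmersion.lift_fac _ _ _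
        have h1 := Scheme.IdealSheafData.comap_mono (f := k) (Scheme.IdealSheafData.comap_mono (f := l) hle)
        simp only [← Scheme.IdealSheafData.comap_comp, hl] at h1
        rw [Scheme.IdealSheafData.comap_sup, Scheme.IdealSheafData.comap_comp, ← hker, ← hm,
          Scheme.IdealSheafData.comap_comp K k j] at h1
        have h2 : (K.comap j).comap k = ⊥ := by
          exact (congrArg (fun J : U.IdealSheafData => J.comap k) hk).symm.trans (ker_comap_self k)
        rw [h2, bot_sup_eq, ← Scheme.IdealSheafData.comap_comp, Category.assoc] at h1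
        exact h1

end

/-- Let i₁ : Z₁ → X₁ and i₂ : Z₂ → X₂ be closed immersions, f : X₂ → X₁ smooth of relative dimension n
and g : Z₂ → Z₁ smooth of relative dimension e with i₂ ≫ f = g ≫ i₁, and let T be a finite set of
points of X₂ contained in one affine open of X₂; assume that e < n or that T lies in the image of
i₂. Then there are an open U ⊇ T of X₂ and a closed subscheme W of U through which Z₂ ∩ U factors,
such that W → X₁ is smooth and Z₂ ∩ U is the fibre product of W and Z₁ over X₁. (The published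
statement concerns schemes separated and of finite type over a field or an excellent Dedekind
domain; this row assumes no base. The published statement also lets the finite set lie anywhere in
X₂ and asks only that f and g be smooth; both relaxations fail over the family xy = t on the plane
with the origin removed, whose fibre over t = 0 is two disjoint punctured lines: with Z₂ one of
these lines and T one point on each line (so e = n = 1 and T leaves Z₂), or with Z₂ one line
together with a single point of the other line and T those two points (so g has relative dimension 1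
on one part of Z₂ and 0 on the other), any such W would have to be the whole irreducible
neighbourhood U. The relative dimensions are therefore taken constant, and the finite set is taken
inside Z₂ unless e < n, in which case the first local equation cutting out W can also be chosen
non-vanishing at the points of T off Z₂.) -/
theorem result
    (X₁ X₂ Z₁ Z₂ : Scheme.{u}) (i₁ : Z₁ ⟶ X₁) (i₂ : Z₂ ⟶ X₂)
    [IsClosedImmersion i₁] [IsClosedImmersion i₂]
    (f : X₂ ⟶ X₁) (g : Z₂ ⟶ Z₁) (n e : ℕ)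
    [SmoothOfRelativeDimension n f] [SmoothOfRelativeDimension e g]
    (hsq : i₂ ≫ f = g ≫ i₁)
    (T : Set X₂) (hT : T.Finite) (hcase : e < n ∨ T ⊆ Set.range i₂.base)
    (V : X₂.Opens) (hV : IsAffineOpen V) (hTV : T ⊆ (V : Set X₂)) :
    ∃ U : X₂.Opens, T ⊆ (U : Set X₂) ∧
      ∃ (W : Scheme.{u}) (k : W ⟶ (U : Scheme.{u}))
        (m : ((i₂ ⁻¹ᵁ U : Z₂.Opens) : Scheme.{u}) ⟶ W),
        IsClosedImmersion k ∧ m ≫ k = i₂ ∣_ U ∧ AlgebraicGeometry.Smooth (k ≫ U.ι ≫ f) ∧
          IsPullback m ((i₂ ⁻¹ᵁ U).ι ≫ g) (k ≫ U.ι ≫ f) i₁ := by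
  haveI : IsAffine V.toScheme := hV
  haveI : SmoothOfRelativeDimension (0 + n) (V.ι ≫ f) := inferInstance
  haveI : SmoothOfRelativeDimension (0 + e) ((i₂ ⁻¹ᵁ V).ι ≫ g) := inferInstance
  haveI : SmoothOfRelativeDimension n (V.ι ≫ f) := by simpa using (inferInstance : SmoothOfRelativeDimension (0 + n) (V.ι ≫ f))
  haveI : SmoothOfRelativeDimension e ((i₂ ⁻¹ᵁ V).ι ≫ g) := by
    simpa using (inferInstance : SmoothOfRelativeDimension (0 + e) ((i₂ ⁻¹ᵁ V).ι ≫ g))
  have hsqV : (i₂ ∣_ V) ≫ V.ι ≫ f = ((i₂ ⁻¹ᵁ V).ι ≫ g) ≫ i₁ := by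
    rw [morphismRestrict_ι_assoc, hsq, Category.assoc]
  obtain ⟨K, U₀, hTU, hK, hsm, hle⟩ := Groth.SmoothLift.exists_open_cutOut (V.ι ≫ f) (i₂ ∣_ V)
    ((i₂ ⁻¹ᵁ V).ι ≫ g) i₁ n e hsqV (V.ι ⁻¹' T) (hT.preimage V.ι.injective.injOn) (hcase.imp_right fun h x hx => by
      obtain ⟨z, hz⟩ := h hx
      have hzV : z ∈ i₂ ⁻¹ᵁ V := by
        show i₂ z ∈ V
        rw [hz]; exact x.2
      refine ⟨⟨z, hzV⟩, V.ι.injective ?_⟩
      exact (congrArg (fun q : ((i₂ ⁻¹ᵁ V).toScheme ⟶ X₂) => q ⟨z, hzV⟩) (morphismRestrict_ι i₂ V)).trans hz)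
  set U : X₂.Opens := V.ι ''ᵁ U₀
  have hUV : U ≤ V := by
    refine (V.ι.image_le_opensRange U₀).trans ?_
    rw [Scheme.Opens.opensRange_ι]
  refine ⟨U, ?_, ?_⟩
  · intro x hx
    exact ⟨⟨x, hTV hx⟩, hTU (show (V.ι ⟨x, hTV hx⟩ : X₂) ∈ T from hx), rfl⟩
  have hpb : IsPullback (i₂ ∣_ U) (Z₂.homOfLE (i₂.preimage_mono hUV)) (X₂.homOfLE hUV) (i₂ ∣_ V) := by
    refine IsPullback.of_bot ?_ ?_ (isPullback_morphismRestrict i₂ V)
    · rw [Scheme.homOfLE_ι, Scheme.homOfLE_ι]
      exact isPullback_morphismRestrict i₂ U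
    · rw [← cancel_mono V.ι]
      simp [morphismRestrict_ι, morphismRestrict_ι_assoc]
  have hrange : (X₂.homOfLE hUV).opensRange ≤ U₀ := by
    rintro _ ⟨w, rfl⟩
    obtain ⟨y, hy, hyw⟩ := w.2
    have : X₂.homOfLE hUV w = y := V.ι.injective (by
      rw [← Scheme.Hom.comp_apply, Scheme.homOfLE_ι]; exact hyw.symm)
    rw [this]; exact hy
  obtain ⟨W, k, m, hk, hmk, hsmk, hpbm⟩ := exists_lift_smooth (V.ι ≫ f) (X₂.homOfLE hUV) (i₂ ∣_ V)
    ((i₂ ⁻¹ᵁ V).ι ≫ g) i₁ hsqV K hK U₀ hrange hsm hle (i₂ ∣_ U) _ hpb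
  rw [Scheme.homOfLE_ι_assoc] at hsmk hpbm
  rw [Scheme.homOfLE_ι_assoc] at hpbm
  exact ⟨W, k, m, hk, hmk, hsmk, hpbm⟩

end Groth.Agent.S18359
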