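import Groth.Statements.S1836
import Groth.Agent.MilnorKLambda.Tame1.Laws

set_option autoImplicit false
universe u
open CycAlg

namespace Groth.Agent.S1836

/-- Let A be a Noetherian local ring of dimension 1 and a₁, …, a_r (r ≥ 2) nonzerodivisors, not all
units. There is a finite extension ring A ⊆ B with B/A killed by a power of the maximal ideal such
that at every maximal ideal of B there is a nonzerodivisor π of the local ring B_𝔪 with each a_i
equal to a unit of B_𝔪 times a power of π. -/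
theorem result (A : Type u) [CommRing A] [IsNoetherianRing A] [IsLocalRing A] (hA : ringKrullDim A = 1) (r : ℕ) (hr : 2 ≤ r) (a : Fin r → A) (ha : ∀ i, a i ∈ nonZeroDivisors A) (hna : ∃ i, ¬ IsUnit (a i)) : ∃ (B : Type u) (_ : CommRing B) (_ : Algebra A B), CycAlg.IsFinExt A B (IsLocalRing.maximalIdeal A) ∧ ∀ q : MaximalSpectrum B, ∃ π : Localization.AtPrime q.asIdeal, π ∈ nonZeroDivisors (Localization.AtPrime q.asIdeal) ∧ ∀ i, ∃ (v : (Localization.AtPrime q.asIdeal)ˣ) (e : ℕ), algebraMap A (Localization.AtPrime q.asIdeal) (a i) = (v : Localization.AtPrime q.asIdeal) * π ^ e := by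
  classical
  have : Ring.KrullDimLE 1 A := (Ring.krullDimLE_iff).2 hA.le
  obtain ⟨i, hi⟩ := hna
  have hQ : Groth.MilnorKLambda.Amb.IsAmb (Localization.Away (a i)) (a i) :=
    Groth.MilnorKLambda.Amb.isAmb_away (ha i) hi
  obtain ⟨T, hT, h⟩ := Groth.MilnorKLambda.Amb.exists_common hQ (Finset.univ.image a) (fun g hg => by
    obtain ⟨j, -, rfl⟩ := Finset.mem_image.1 hg
    exact ha j)
  refine ⟨T, inferInstance, inferInstance, hQ.isFinExt hT, fun q => ?_⟩
  obtain ⟨γ, hγ, hf⟩ := h q.asIdeal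
  refine ⟨γ, hγ, fun j => ?_⟩
  obtain ⟨F⟩ := hf (a j) (Finset.mem_image_of_mem _ (Finset.mem_univ j))
  exact ⟨F.u, F.e, F.fac⟩

end Groth.Agent.S1836
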