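import Groth.Statements.S18360
import Groth.Agent.Misc14.SplitCover

set_option autoImplicit false
universe u
open CategoryTheory CategoryTheory.Limits AlgebraicGeometry
open Alter

namespace Groth.Agent.S18360

/-- Let Y be a Noetherian scheme, i : F ⟶ Y a closed immersion and s : F' ⟶ F a finite surjective
morphism. Then there are a scheme Y' and a finite surjective morphism g : Y' ⟶ Y such that every
irreducible component of F ×_Y Y', with its reduced closed-subscheme structure, is the source of an
F-morphism to F': for every reduced scheme G and every closed immersion ι : G ⟶ F ×_Y Y' whose image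
is an irreducible component, there is φ : G ⟶ F' with φ ≫ s = ι ≫ pr₁. -/
theorem result {Y F F' : Scheme.{u}} [IsNoetherian Y]
    (i : F ⟶ Y) [IsClosedImmersion i] (s : F' ⟶ F) [IsFinite s] [Surjective s] :
    ∃ (Y' : Scheme.{u}) (g : Y' ⟶ Y), IsFinite g ∧ Surjective g ∧
      ∀ (G : Scheme.{u}) (ι : G ⟶ pullback i g) [IsClosedImmersion ι] [AlgebraicGeometry.IsReduced G],
        Set.range ι.base ∈ irreducibleComponents ↥(pullback i g) →
          ∃ φ : G ⟶ F', φ ≫ s = ι ≫ pullback.fst i g :=
  Groth.SplitCover.exists_cover i s

end Groth.Agent.S18360
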