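import Groth.Statements.S18362
import Groth.Agent.Pi1Tame.PthRoot
-- import your own Groth.Agent.* helpers here

set_option autoImplicit false
set_option linter.style.haveILetI false
universe u
open SGA1t

namespace Groth.Agent.S18362

open Polynomial IsLocalRing TensorProduct

/-- `A[t]/(t^p - f)` is strictly henselian when `A` is and `f` lies in the maximal ideal. -/
theorem strictlyHenselian {A : Type u} [CommRing A] [HenselianLocalRing A] [IsSepClosed (ResidueField A)]
    (p : ℕ) [hp : Fact p.Prime] {f : A} (hf : f ∈ maximalIdeal A) :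
    ∃ _ : HenselianLocalRing (AdjoinRoot (X ^ p - C f)), IsSepClosed (ResidueField (AdjoinRoot (X ^ p - C f))) := by
  have hmon : (X ^ p - C f).Monic := monic_X_pow_sub_C f hp.out.ne_zero
  haveI : Module.Finite A (AdjoinRoot (X ^ p - C f)) := hmon.finite_adjoinRoot
  haveI : Algebra.IsIntegral A (AdjoinRoot (X ^ p - C f)) := Algebra.IsIntegral.of_finite A _
  let g : AdjoinRoot (X ^ p - C f) →+* ResidueField A := AdjoinRoot.lift (residue A) 0 (by
    simp [eval₂_sub, zero_pow hp.out.ne_zero, (residue_eq_zero_iff f).2 hf])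
  have hg : Function.Surjective g := fun x => by
    obtain ⟨a, rfl⟩ := residue_surjective x
    exact ⟨AdjoinRoot.of _ a, AdjoinRoot.lift_of _⟩
  have hker : (RingHom.ker g).IsMaximal := RingHom.ker_isMaximal_of_surjective g hg
  have huniq : ∀ P : Ideal (AdjoinRoot (X ^ p - C f)), P.IsMaximal → P = RingHom.ker g := by
    intro P hP
    have hc : P.comap (AdjoinRoot.of (X ^ p - C f)) = maximalIdeal A :=
      IsLocalRing.eq_maximalIdeal (Ideal.isMaximal_comap_of_isIntegral_of_isMaximal (R := A) P)
    have hroot : AdjoinRoot.root (X ^ p - C f) ∈ P := by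
      refine hP.isPrime.mem_of_pow_mem p ?_
      have h := AdjoinRoot.eval₂_root (X ^ p - C f)
      rw [eval₂_sub, eval₂_X_pow, eval₂_C, sub_eq_zero] at h
      rw [h, ← Ideal.mem_comap, hc]
      exact hf
    refine (hker.eq_of_le hP.ne_top fun x hx => ?_).symm
    obtain ⟨P₀, rfl⟩ := AdjoinRoot.mk_surjective x
    rw [RingHom.mem_ker, AdjoinRoot.lift_mk, eval₂_at_zero, residue_eq_zero_iff, ← hc,
      Ideal.mem_comap] at hx
    rw [← X_mul_divX_add P₀, map_add, map_mul, AdjoinRoot.mk_X, AdjoinRoot.mk_C]
    exact P.add_mem (P.mul_mem_right _ hroot) hx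
  haveI : IsLocalRing (AdjoinRoot (X ^ p - C f)) := .of_unique_max_ideal ⟨_, hker, huniq⟩
  haveI := Groth.Hensel1.henselianLocalRing_of_finite A (AdjoinRoot (X ^ p - C f))
  refine ⟨inferInstance, ?_⟩
  let e : ResidueField (AdjoinRoot (X ^ p - C f)) ≃+* ResidueField A :=
    (Ideal.quotEquivOfEq (huniq _ (maximalIdeal.isMaximal _))).trans (RingHom.quotientKerEquivOfSurjective hg)
  exact IsSepClosed.of_exists_root _ fun q hq hirr hsep => by
    obtain ⟨x, hx⟩ := IsSepClosed.exists_root (q.map e.toRingHom) (by
      rw [degree_map]; exact (degree_pos_of_irreducible hirr).ne') hsep.map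
    refine ⟨e.symm x, e.injective ?_⟩
    rw [map_zero, ← hx, eval_map]
    conv_rhs => rw [← e.apply_symm_apply x]
    exact (eval₂_at_apply e.toRingHom (e.symm x)).symm

/-- Let A be a regular local ring which is henselian with separably closed residue field of
characteristic p > 0, and let f be an element of A such that A/(f) is a regular local ring in which
p is nonzero. Write A₁ = A[t]/(t^p - f) and let B be a finite étale algebra over A[1/f]. If there is
a finite étale A₁-algebra C₁ with C₁[1/f] isomorphic to A₁ ⊗_A B as A₁-algebras, then there is a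
finite étale A-algebra C with C[1/f] isomorphic to B as A-algebras. The published statement also
assumes the cover connected and tamely ramified along f = 0; this row assumes neither, tameness
being automatic here because the generic point of the divisor f = 0 has residue characteristic zero. -/
theorem result {A : Type u} [CommRing A]
    [IsRegularLocalRing A] [HenselianLocalRing A] [IsSepClosed (IsLocalRing.ResidueField A)]
    (p : ℕ) [Fact p.Prime] [CharP (IsLocalRing.ResidueField A) p] (f : A)
    (hreg : IsRegularLocalRing (A ⧸ Ideal.span {f})) (hp : (p : A) ∉ Ideal.span {f})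
    (B : Type u) [CommRing B] [Algebra A B] [Algebra (Localization.Away f) B]
    [IsScalarTower A (Localization.Away f) B] [Module.Finite (Localization.Away f) B]
    [Algebra.Etale (Localization.Away f) B]
    (h : ∃ (C₁ : Type u) (_ : CommRing C₁) (_ : Algebra (AdjoinRoot (Polynomial.X ^ p - Polynomial.C f)) C₁),
      Module.Finite (AdjoinRoot (Polynomial.X ^ p - Polynomial.C f)) C₁ ∧
      Algebra.Etale (AdjoinRoot (Polynomial.X ^ p - Polynomial.C f)) C₁ ∧
      Nonempty (Localization.Away (algebraMap (AdjoinRoot (Polynomial.X ^ p - Polynomial.C f)) C₁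
          (AdjoinRoot.of (Polynomial.X ^ p - Polynomial.C f) f))
        ≃ₐ[AdjoinRoot (Polynomial.X ^ p - Polynomial.C f)]
          TensorProduct A (AdjoinRoot (Polynomial.X ^ p - Polynomial.C f)) B)) :
    ∃ (C : Type u) (_ : CommRing C) (_ : Algebra A C), Module.Finite A C ∧ Algebra.Etale A C ∧
      Nonempty (Localization.Away (algebraMap A C f) ≃ₐ[A] B) := by
  classical
  haveI := Groth.Ega4Algebra1.isDomain_of_isRegularLocalRing A
  haveI : IsRegularLocalRing (A ⧸ Ideal.span {f}) := hreg
  haveI := Groth.Ega4Algebra1.isDomain_of_isRegularLocalRing (A ⧸ Ideal.span {f})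
  have hfm : f ∈ maximalIdeal A := fun hu => (Ideal.Quotient.nontrivial_iff.1 inferInstance)
    (Ideal.span_singleton_eq_top.2 hu)
  have hpm : (p : A) ∈ maximalIdeal A := by
    rw [← residue_eq_zero_iff, map_natCast, CharP.cast_eq_zero]
  have hpA : (p : A) ≠ 0 := fun h => hp (h ▸ Ideal.zero_mem _)
  rcases eq_or_ne f 0 with hf | hf
  · haveI : Subsingleton (Localization.Away f) :=
      IsLocalization.subsingleton (M := Submonoid.powers f) ⟨1, by simp [hf]⟩
    haveI : Subsingleton B := subsingleton_of_zero_eq_one (by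
      rw [← map_zero (algebraMap (Localization.Away f) B), ← map_one (algebraMap (Localization.Away f) B),
        Subsingleton.elim (0 : Localization.Away f) 1])
    refine ⟨PEmpty.{u + 1} → A, inferInstance, inferInstance, inferInstance, inferInstance, ⟨?_⟩⟩
    haveI : Subsingleton (Localization.Away (algebraMap A (PEmpty.{u + 1} → A) f)) :=
      IsLocalization.subsingleton (M := Submonoid.powers (algebraMap A (PEmpty.{u + 1} → A) f))
        ⟨1, Subsingleton.elim _ _⟩
    exact AlgEquiv.ofBijective
      { toFun := fun _ => (0 : B)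
        map_one' := Subsingleton.elim _ _
        map_mul' := fun _ _ => Subsingleton.elim _ _
        map_zero' := rfl
        map_add' := fun _ _ => Subsingleton.elim _ _
        commutes' := fun _ => Subsingleton.elim _ _ }
      ⟨fun _ _ _ => Subsingleton.elim _ _, fun y => ⟨0, Subsingleton.elim _ _⟩⟩
  have hprime : Prime f := (Ideal.span_singleton_prime hf).1 ((Ideal.Quotient.isDomain_iff_prime _).1 inferInstance)
  have hunit : ¬ IsUnit (p : Localization.Away f) := by
    intro hu
    obtain ⟨y, hy⟩ := hu.exists_right_inv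
    obtain ⟨⟨a, ⟨_, N, rfl⟩⟩, ha⟩ := IsLocalization.surj (Submonoid.powers f) y
    have h1 : algebraMap A (Localization.Away f) ((p : A) * a) = algebraMap A (Localization.Away f) (f ^ N) := by
      rw [map_mul, map_natCast, ← ha, ← mul_assoc, hy, one_mul]
    have h2 : (p : A) * a = f ^ N := IsLocalization.injective (Localization.Away f)
      (powers_le_nonZeroDivisors_of_noZeroDivisors hf) h1
    obtain ⟨a', rfl⟩ : f ^ N ∣ a :=
      hprime.pow_dvd_of_dvd_mul_left N (fun h => hp (Ideal.mem_span_singleton.2 h)) (Dvd.intro_left 1 (by rw [one_mul, h2]))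
    refine hpm (IsUnit.of_mul_eq_one a' ?_)
    refine mul_right_cancel₀ (pow_ne_zero N hf) ?_
    rw [one_mul]
    linear_combination h2
  obtain ⟨hR, hsepR⟩ := strictlyHenselian p hfm
  haveI := hR
  haveI := hsepR
  let R := AdjoinRoot (X ^ p - C f)
  obtain ⟨C₁, _, _, hfin₁, het₁, ⟨h⟩⟩ := h
  haveI := hfin₁
  haveI := het₁
  obtain ⟨ι, _, ⟨e₁⟩⟩ := Groth.Pi1Tame.exists_algEquiv_pi R C₁
  let Q := Localization.Away (AdjoinRoot.of (X ^ p - C f) f)
  have E : R ⊗[A] B ≃ₐ[R] (ι → Q) := h.symm.trans (Groth.Pi1Tame.awayPi e₁ (AdjoinRoot.of (X ^ p - C f) f))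
  have hfQ : IsUnit (algebraMap A Q f) := by
    rw [IsScalarTower.algebraMap_apply A R Q, AdjoinRoot.algebraMap_eq]
    exact IsLocalization.Away.algebraMap_isUnit _
  letI : Algebra (Localization.Away f) Q := (IsLocalization.Away.lift f hfQ).toAlgebra
  haveI : IsScalarTower A (Localization.Away f) Q :=
    IsScalarTower.of_algebraMap_eq fun a => (IsLocalization.Away.lift_eq f hfQ a).symm
  have hmon : (X ^ p - C f).Monic := monic_X_pow_sub_C f (Fact.out : p.Prime).ne_zero
  haveI : Module.Free A R := hmon.free_adjoinRoot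
  have hj : Function.Injective (algebraMap (Localization.Away f) Q) := by
    refine (injective_iff_map_eq_zero _).2 fun x hx => ?_
    obtain ⟨⟨a, s⟩, hs⟩ := IsLocalization.surj (Submonoid.powers f) x
    have h1 : algebraMap R Q (AdjoinRoot.of _ a) = 0 := by
      refine (IsScalarTower.algebraMap_apply A R Q a).symm.trans ?_
      rw [IsScalarTower.algebraMap_apply A (Localization.Away f) Q, ← hs, map_mul, hx, zero_mul]
    obtain ⟨⟨_, k, rfl⟩, hk⟩ := (IsLocalization.map_eq_zero_iff (Submonoid.powers (AdjoinRoot.of (X ^ p - C f) f)) Q _).1 h1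
    have h2 : f ^ k * a = 0 := by
      refine FaithfulSMul.algebraMap_injective A R ?_
      rw [map_mul, map_pow, map_zero]
      exact hk
    have ha : a = 0 := (mul_eq_zero.1 h2).resolve_left (pow_ne_zero k hf)
    rw [ha, map_zero] at hs
    exact (IsLocalization.map_units (Localization.Away f) s).mul_left_eq_zero.1 hs
  let Φ : B →ₐ[A] (ι → Q) := (E.toAlgHom.restrictScalars A).comp Algebra.TensorProduct.includeRight
  let J : (ι → Localization.Away f) →ₐ[A] (ι → Q) := AlgHom.pi fun i =>
    (IsScalarTower.toAlgHom A (Localization.Away f) Q).comp (Pi.evalAlgHom A _ i)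
  have hJ : Function.Injective J := fun x y hxy => funext fun i => hj (congrFun hxy i)
  have hΦ : ∀ b, Φ b ∈ J.range := by
    intro b
    choose c hc using fun i =>
      Groth.Pi1Tame.exists_eq_map p hf hpA hunit B ((Pi.evalAlgHom A (fun _ => Q) i).comp Φ) b
    exact ⟨c, funext fun i => (hc i).symm⟩
  let ψ : B →ₐ[A] (ι → Localization.Away f) :=
    (AlgEquiv.ofInjective J hJ).symm.toAlgHom.comp (Φ.codRestrict J.range hΦ)
  have hψ : ∀ b, J (ψ b) = Φ b := fun b =>
    congrArg Subtype.val ((AlgEquiv.ofInjective J hJ).apply_symm_apply (Φ.codRestrict J.range hΦ b))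
  let e₀ : R ⊗[A] Localization.Away f ≃ₐ[R] Q :=
    IsLocalization.Away.tensorEquiv (R := A) R f (Localization.Away f)
  have he₀ : (e₀.toAlgHom.restrictScalars A).comp Algebra.TensorProduct.includeRight =
      IsScalarTower.toAlgHom A (Localization.Away f) Q :=
    IsLocalization.algHom_ext (Submonoid.powers f) (Algebra.ext_id _ _ _)
  let μ : R ⊗[A] (ι → Localization.Away f) ≃ₐ[R] (ι → Q) :=
    (Algebra.TensorProduct.piRight A R R fun _ : ι => Localization.Away f).trans
      (AlgEquiv.piCongrRight fun _ => e₀)
  have hμ : μ.toAlgHom.comp (Algebra.TensorProduct.map (AlgHom.id R R) ψ) = E.toAlgHom := by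
    refine Algebra.TensorProduct.ext (Algebra.ext_id _ _ _) (AlgHom.ext fun b => funext fun i => ?_)
    refine Eq.trans ?_ (congrFun (hψ b) i)
    refine Eq.trans ?_ (DFunLike.congr_fun he₀ (ψ b i))
    simp [μ]
  haveI : Module.Finite A R := hmon.finite_adjoinRoot
  have hb : Function.Bijective ψ := by
    refine (Module.FaithfullyFlat.lTensor_bijective_iff_bijective A R ψ.toLinearMap).1 ?_
    refine (Function.Bijective.of_comp_iff' μ.bijective _).1 ?_
    convert E.bijective using 1
    funext x
    exact (DFunLike.congr_fun hμ x)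
  haveI : Algebra.Etale A (ι → A) := inferInstance
  exact ⟨ι → A, inferInstance, inferInstance, inferInstance, inferInstance,
    ⟨(Groth.Pi1Tame.awayPi (S := A) (AlgEquiv.refl : (ι → A) ≃ₐ[A] (ι → A)) f).trans
      (AlgEquiv.ofBijective ψ hb).symm⟩⟩

end Groth.Agent.S18362
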