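import Groth.Statements.S18363
import Mathlib

set_option autoImplicit false
universe u
open CategoryTheory
open CAlg

namespace Groth.Agent.S18363

section Aux

open IsLocalRing

variable {R : Type u} [CommRing R] [IsLocalRing R]

/-- A nonzero finite module maps nonzero into any nonzero module killed by a power of the maximal ideal. -/
theorem exists_linearMap_ne_zero {I Q : Type u} [AddCommGroup I] [Module R I] [Module.Finite R I] [Nontrivial I]
    [AddCommGroup Q] [Module R Q] [Nontrivial Q] (n : ℕ)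
    (hn : ∀ r ∈ maximalIdeal R ^ n, ∀ y : Q, r • y = 0) : ∃ f : I →ₗ[R] Q, f ≠ 0 := by
  classical
  obtain ⟨z, hz0, hz⟩ : ∃ z : Q, z ≠ 0 ∧ ∀ r ∈ maximalIdeal R, r • z = 0 := by
    induction n with
    | zero =>
      obtain ⟨y, hy⟩ := exists_ne (0 : Q)
      exact absurd (by simpa using hn 1 (by simp) y) hy
    | succ n ih =>
      by_cases h : ∀ r ∈ maximalIdeal R ^ n, ∀ y : Q, r • y = 0
      · exact ih h
      push Not at h
      obtain ⟨r, hr, y, hy⟩ := h
      exact ⟨r • y, hy, fun s hs => by rw [smul_smul]; exact hn _ (by rw [pow_succ']; exact Ideal.mul_mem_mul hs hr) y⟩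
  let V := I ⧸ (maximalIdeal R • ⊤ : Submodule R I)
  have : Nontrivial V := Submodule.Quotient.nontrivial_iff.2 (Ne.symm
    (Submodule.top_ne_ideal_smul_of_le_jacobson_annihilator (IsLocalRing.maximalIdeal_le_jacobson _)))
  let _ : Field (R ⧸ maximalIdeal R) := Ideal.Quotient.field _
  obtain ⟨f, v, hfv⟩ : ∃ (f : V →ₗ[R ⧸ maximalIdeal R] (R ⧸ maximalIdeal R)) (v : V), f v ≠ 0 := by
    obtain ⟨v, hv⟩ := exists_ne (0 : V)
    obtain ⟨f, hf⟩ := Module.Projective.exists_dual_ne_zero (R ⧸ maximalIdeal R) hv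
    exact ⟨f, v, hf⟩
  let g : (R ⧸ maximalIdeal R) →ₗ[R] Q := Submodule.liftQ _ (LinearMap.toSpanSingleton R Q z) fun r hr => hz r hr
  obtain ⟨i, rfl⟩ := Submodule.mkQ_surjective _ v
  let f' : V →ₗ[R] (R ⧸ maximalIdeal R) :=
    { toFun := f
      map_add' := f.map_add
      map_smul' := fun r w => by
        obtain ⟨j, rfl⟩ := Submodule.mkQ_surjective _ w
        exact (congrArg f (show r • Submodule.mkQ _ j = (Ideal.Quotient.mk (maximalIdeal R) r) • Submodule.mkQ _ j from rfl)).trans
          (map_smul f (Ideal.Quotient.mk _ r) _) }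
  refine ⟨g ∘ₗ f' ∘ₗ Submodule.mkQ _, fun h => ?_⟩
  have h1 := LinearMap.congr_fun h i
  obtain ⟨c, hc⟩ := Ideal.Quotient.mk_surjective (f ((maximalIdeal R • ⊤ : Submodule R I).mkQ i))
  have h2 : c • z = 0 := by
    have : g (Ideal.Quotient.mk (maximalIdeal R) c) = 0 := by rw [hc]; exact h1
    exact this
  have h3 : IsUnit c := IsLocalRing.notMem_maximalIdeal.1 fun hmem =>
    hfv (by rw [← hc]; exact Ideal.Quotient.eq_zero_iff_mem.2 hmem)
  exact hz0 (h3.smul_eq_zero.1 h2)

open CategoryTheory in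
/-- A regular element killing `I` embeds `Hom(I, J/xJ)` in `Ext¹(I, J)`. -/
theorem nontrivial_ext_one {R : Type u} [CommRing R] {I J : Type u} [AddCommGroup I] [Module R I] [AddCommGroup J] [Module R J]
    (x : R) (hxI : ∀ i : I, x • i = 0) (hxJ : IsSMulRegular J x) (f : I →ₗ[R] QuotSMulTop x J) (hf : f ≠ 0) :
    Nontrivial (Abelian.Ext (ModuleCat.of R I) (ModuleCat.of R J) 1) := by
  by_contra h
  rw [not_nontrivial_iff_subsingleton] at h
  have hS := hxJ.smulShortComplex_shortExact (M := ModuleCat.of R J)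
  obtain ⟨y, hy⟩ := Abelian.Ext.covariant_sequence_exact₃ (ModuleCat.of R I) hS
    (Abelian.Ext.mk₀ (ModuleCat.ofHom f)) rfl (h.elim _ _)
  have hy0 : y = 0 := by
    have : Subsingleton (I →ₗ[R] J) := subsingleton_of_forall_eq 0 fun g => LinearMap.ext fun i =>
      hxJ (show x • g i = x • (0 : J) by rw [← map_smul, hxI, map_zero, smul_zero])
    have : Subsingleton (ModuleCat.of R I ⟶ (ModuleCat.smulShortComplex (ModuleCat.of R J) x).X₂) :=
      ModuleCat.homEquiv.subsingleton_congr.2 this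
    exact Abelian.Ext.addEquiv₀.injective (Subsingleton.elim _ _)
  rw [hy0, Abelian.Ext.zero_comp, eq_comm, ← Abelian.Ext.mk₀_zero] at hy
  exact hf (congrArg ModuleCat.Hom.hom ((Abelian.Ext.mk₀_bijective _ _).1 hy))

end Aux

/-- Let R be a Noetherian local ring with maximal ideal m, and P, Q ideals of R such that P + Q contains
a power of m while R/P and R/Q are both reduced of Krull dimension one. Let I and J be nonzero
finitely generated R-modules with P·I = 0 and Q·J = 0, such that every element of R whose class in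
R/P is a non-zero-divisor acts injectively on I, and every element whose class in R/Q is a
non-zero-divisor acts injectively on J. Then the group Ext¹_R(I, J) is nonzero. (This is the stalk
statement behind the existence of a non-split extension of a torsion-free rank-one sheaf on a
subcurve Y by one on a subcurve Z of a reduced projective curve, at a point where Y and Z meet
without sharing a component; in that situation the modules moreover have rank one at the generic
points of their supports and P ∩ Q = 0, two assumptions the argument does not use.) -/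
theorem result
    (R : Type u) [CommRing R] [IsNoetherianRing R] [IsLocalRing R]
    (P Q : Ideal R) (hPQ : ∃ n : ℕ, IsLocalRing.maximalIdeal R ^ n ≤ P ⊔ Q)
    [IsReduced (R ⧸ P)] [IsReduced (R ⧸ Q)]
    (hPdim : ringKrullDim (R ⧸ P) = 1) (hQdim : ringKrullDim (R ⧸ Q) = 1)
    (I J : Type u) [AddCommGroup I] [Module R I] [Module.Finite R I] [Nontrivial I]
    [AddCommGroup J] [Module R J] [Module.Finite R J] [Nontrivial J]
    (hPI : ∀ p ∈ P, ∀ x : I, p • x = 0) (hQJ : ∀ q ∈ Q, ∀ y : J, q • y = 0)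
    (hItf : ∀ r : R, Ideal.Quotient.mk P r ∈ nonZeroDivisors (R ⧸ P) → ∀ x : I, r • x = 0 → x = 0)
    (hJtf : ∀ r : R, Ideal.Quotient.mk Q r ∈ nonZeroDivisors (R ⧸ Q) → ∀ y : J, r • y = 0 → y = 0) :
    Nontrivial (Abelian.Ext (ModuleCat.of R I) (ModuleCat.of R J) 1) := by
  classical
  obtain ⟨n, hn⟩ := hPQ
  have hfin : (Q.minimalPrimes).Finite := Ideal.finite_minimalPrimes_of_isNoetherianRing R Q
  have hQne : Q ≠ ⊤ := fun h => by
    have : Subsingleton (R ⧸ Q) := Ideal.Quotient.subsingleton_iff.2 h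
    rw [ringKrullDim_eq_bot_of_subsingleton] at hQdim
    exact (WithBot.bot_ne_coe (a := (1 : ℕ∞))) hQdim
  have hnotle : ∀ p ∈ Q.minimalPrimes, ¬ P ≤ p := by
    intro p hp hPp
    have hprime := hp.1.1
    have hmax : p = IsLocalRing.maximalIdeal R := le_antisymm (IsLocalRing.le_maximalIdeal hprime.ne_top)
      (hprime.le_of_pow_le (hn.trans (sup_le hPp hp.1.2)))
    have h0 : ringKrullDim (R ⧸ Q) ≤ 0 := by
      rw [ringKrullDim_le_iff_isMaximal_height_le]
      intro m hm
      have hmm : Ideal.comap (Ideal.Quotient.mk Q) m = IsLocalRing.maximalIdeal R :=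
        IsLocalRing.eq_maximalIdeal (Ideal.comap_isMaximal_of_surjective _ Ideal.Quotient.mk_surjective)
      have hmin : m ∈ minimalPrimes (R ⧸ Q) := by
        refine ⟨⟨hm.isPrime, bot_le⟩, fun q hq hqm => ?_⟩
        have h1 : p ≤ Ideal.comap (Ideal.Quotient.mk Q) q := hp.2
          ⟨hq.1.comap _, fun a ha => by
            rw [Ideal.mem_comap, Ideal.Quotient.eq_zero_iff_mem.2 ha]; exact zero_mem _⟩
          ((Ideal.comap_mono hqm).trans (le_of_eq (hmm.trans hmax.symm)))
        intro a ha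
        obtain ⟨b, rfl⟩ := Ideal.Quotient.mk_surjective a
        exact Ideal.mem_comap.1 (h1 (by rw [hmax, ← hmm]; exact Ideal.mem_comap.2 ha))
      have := hm.isPrime
      rw [(Ideal.height_eq_zero_iff).2 hmin]
      simp
    rw [hQdim] at h0
    exact absurd h0 (by simp)
  obtain ⟨x, hxP, hxQ⟩ : ∃ x ∈ P, ∀ p ∈ Q.minimalPrimes, x ∉ p := by
    by_contra! hc
    have hsub : (P : Set R) ⊆ ⋃ p ∈ (hfin.toFinset : Set (Ideal R)), (p : Set R) := fun x hx => by
      obtain ⟨p, hp, hxp⟩ := hc x hx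
      exact Set.mem_biUnion (x := p) (hfin.mem_toFinset.2 hp) hxp
    obtain ⟨p, hp, hle⟩ := (Ideal.subset_union_prime ⊥ ⊥ fun p hp _ _ =>
      (hfin.mem_toFinset.1 hp).1.1).1 hsub
    exact hnotle p (hfin.mem_toFinset.1 hp) hle
  have hxm : x ∈ IsLocalRing.maximalIdeal R := IsLocalRing.le_maximalIdeal (fun h => by
    have : Subsingleton (R ⧸ P) := Ideal.Quotient.subsingleton_iff.2 h
    rw [ringKrullDim_eq_bot_of_subsingleton] at hPdim
    exact (WithBot.bot_ne_coe (a := (1 : ℕ∞))) hPdim) hxP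
  have hxreg : IsSMulRegular J x := by
    rw [isSMulRegular_iff_right_eq_zero_of_smul]
    refine hJtf x (mem_nonZeroDivisors_iff_right.2 fun z hz => ?_)
    obtain ⟨b, rfl⟩ := Ideal.Quotient.mk_surjective z
    rw [← map_mul, Ideal.Quotient.eq_zero_iff_mem] at hz
    have hrad : Q.IsRadical := (Ideal.isRadical_iff_quotient_reduced Q).2 inferInstance
    rw [Ideal.Quotient.eq_zero_iff_mem, ← hrad.radical, ← Ideal.sInf_minimalPrimes, Submodule.mem_sInf]
    intro p hp
    exact ((hp.1.1).mem_or_mem (hp.1.2 hz)).resolve_right (hxQ p hp)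
  obtain ⟨N, hN⟩ : ∃ N, IsLocalRing.maximalIdeal R ^ N ≤ Ideal.span {x} ⊔ Q := by
    refine Ideal.exists_pow_le_of_le_radical_of_fg ?_ (IsNoetherian.noetherian _)
    rw [Ideal.radical_eq_sInf]
    refine le_sInf fun p ⟨hp, hprime⟩ => ?_
    obtain ⟨q, hq, hqp⟩ := Ideal.exists_minimalPrimes_le (le_sup_right.trans hp)
    by_contra hne
    have hlt : q < p := lt_of_le_of_ne hqp fun h =>
      hxQ q hq (h ▸ hp (Ideal.mem_sup_left (Ideal.mem_span_singleton_self x)))
    have hlt2 : p < IsLocalRing.maximalIdeal R :=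
      lt_of_le_of_ne (IsLocalRing.le_maximalIdeal hprime.ne_top) fun h => hne h.ge
    let φ : {r : Ideal R // r.IsPrime ∧ Q ≤ r} → PrimeSpectrum (R ⧸ Q) := fun r =>
      ⟨Ideal.map (Ideal.Quotient.mk Q) r.1,
        haveI := r.2.1
        Ideal.map_isPrime_of_surjective Ideal.Quotient.mk_surjective (by rw [Ideal.mk_ker]; exact r.2.2)⟩
    have hφ : StrictMono φ := fun a b hab => by
      refine lt_of_le_of_ne (Ideal.map_mono hab.le) fun h => hab.ne (Subtype.ext ?_)
      have h' := congrArg (fun z : PrimeSpectrum (R ⧸ Q) => z.asIdeal.comap (Ideal.Quotient.mk Q)) h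
      simp only [φ, Ideal.comap_map_of_surjective _ Ideal.Quotient.mk_surjective, ← RingHom.ker_eq_comap_bot,
        Ideal.mk_ker, sup_eq_left.2 a.2.2, sup_eq_left.2 b.2.2] at h'
      exact h'
    let s : LTSeries {r : Ideal R // r.IsPrime ∧ Q ≤ r} := ⟨2,
      ![⟨q, hq.1.1, hq.1.2⟩, ⟨p, hprime, le_sup_right.trans hp⟩,
        ⟨IsLocalRing.maximalIdeal R, inferInstance, IsLocalRing.le_maximalIdeal hQne⟩],
      fun i => by fin_cases i <;> simp [Subtype.mk_lt_mk, hlt, hlt2]⟩
    have := Order.LTSeries.length_le_krullDim (s.map φ hφ)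
    rw [← ringKrullDim, hQdim] at this
    simp [s] at this
  have : Nontrivial (QuotSMulTop x J) := Submodule.Quotient.nontrivial_iff.2 fun h => by
    have h' : (⊤ : Submodule R J) ≤ IsLocalRing.maximalIdeal R • ⊤ := by
      conv_lhs => rw [← h, ← Submodule.ideal_span_singleton_smul]
      exact Submodule.smul_mono_left ((Ideal.span_singleton_le_iff_mem _).2 hxm)
    exact top_ne_bot (Submodule.eq_bot_of_le_smul_of_le_jacobson_bot _ _ Module.Finite.fg_top h'
      (IsLocalRing.maximalIdeal_le_jacobson _))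
  obtain ⟨f, hf⟩ := exists_linearMap_ne_zero (I := I) (Q := QuotSMulTop x J) N fun r hr y => by
    obtain ⟨y, rfl⟩ := Submodule.mkQ_surjective _ y
    obtain ⟨a, ha, b, hb, rfl⟩ := Submodule.mem_sup.1 (hN hr)
    obtain ⟨c, rfl⟩ := Ideal.mem_span_singleton'.1 ha
    rw [← map_smul, add_smul, hQJ b hb, add_zero, mul_comm, mul_smul]
    exact (Submodule.Quotient.mk_eq_zero _).2 (Submodule.smul_mem_pointwise_smul _ x ⊤ Submodule.mem_top)
  exact nontrivial_ext_one x (hPI x hxP) hxreg f hf

end Groth.Agent.S18363
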