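import Groth.Statements.S18364
import Mathlib

set_option autoImplicit false
universe u
open CAlg

namespace Groth.Agent.S18364

section Aux
variable {A : Type u} [CommRing A] {M : Type u} [AddCommGroup M] [Module A M]

theorem mk_mem_ker_iff (I : Ideal A) (S : Submonoid A) (m : M) :
    Submodule.mkQ (I • ⊤ : Submodule A M) m ∈
      LinearMap.ker (LocalizedModule.mkLinearMap S (M ⧸ I • (⊤ : Submodule A M))) ↔
      ∃ c ∈ S, c • m ∈ I • (⊤ : Submodule A M) := by
  rw [LinearMap.mem_ker, IsLocalizedModule.eq_zero_iff S (LocalizedModule.mkLinearMap S _)]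
  simp only [Subtype.exists, Submonoid.smul_def, exists_prop, Submodule.mkQ_apply, ← Submodule.Quotient.mk_smul, Submodule.Quotient.mk_eq_zero]

theorem exists_pow_mul_mem {I P : Ideal A} (hP : P ∈ I.minimalPrimes) {x : A} (hx : x ∈ P) :
    ∃ u ∉ P, ∃ e : ℕ, x ^ e * u ∈ I := by
  have := hP.1.1
  by_contra! hcon
  let S : Submonoid A := Submonoid.powers x ⊔ P.primeCompl
  have hdisj : Disjoint (I : Set A) (S : Set A) := Set.disjoint_left.2 fun y hy hyS => by
    obtain ⟨_, ⟨e, rfl⟩, u, hu, rfl⟩ := Submonoid.mem_sup.1 hyS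
    exact hcon u hu e hy
  obtain ⟨Q, hQ, hIQ, hQS⟩ := I.exists_le_prime_disjoint S hdisj
  have hQP : Q ≤ P := fun y hy => by
    by_contra hyP
    exact Set.disjoint_left.1 hQS hy ((le_sup_right : P.primeCompl ≤ S) hyP)
  exact Set.disjoint_left.1 hQS (hP.2 ⟨hQ, hIQ⟩ hQP hx) ((le_sup_left : Submonoid.powers x ≤ S) (Submonoid.mem_powers x))

end Aux

/-- Let A be a Noetherian ring, π an element of A, and (𝔓_i)_{i ∈ ι} an injective finite family listing
exactly the minimal prime ideals over (π). Let M be a finitely generated A-module and M̄ = M/πM. For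
a subset T of ι let K(T) ⊆ M̄ be the submodule of elements whose image in the localisation of M̄ at
𝔓_i is zero for every i ∈ T, and N(T) ⊆ M its preimage in M. Assume K(ι) = 0, i.e. no nonzero
element of M̄ vanishes at all the minimal primes (every associated prime of M̄ is one of the 𝔓_i).
Then for every subset Y of ι with complement Z one has N(Y) ∩ N(Z) = πM, and the same construction
applied to the module N(Y) instead of M — the preimage in N(Y) of the elements of N(Y)/πN(Y)
vanishing at every 𝔓_i with i ∈ Z — is, as a submodule of M, equal to N(Y) ∩ N(Z). (Geometric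
meaning: A is the local ring of a flat family of curves over a discrete valuation ring with
uniformizer π at a point of the reduced special fibre, M the stalk of a torsion-free rank-one sheaf
I, Y a set of components of the special fibre through the point, and N(Y) the stalk of the kernel
I^Y of I → I(s)_Y; the statement is (I^Y)^Z = I^Y ∩ I^Z = πI. Reducedness of A/πA, flatness and rank
one are not used.) -/
theorem result
    (A : Type u) [CommRing A] [IsNoetherianRing A] (π : A)
    (ι : Type) [Finite ι] (𝔓 : ι → Ideal A) [∀ i, (𝔓 i).IsPrime]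
    (h𝔓 : ∀ i, 𝔓 i ∈ (Ideal.span {π}).minimalPrimes) (h𝔓inj : Function.Injective 𝔓)
    (h𝔓surj : ∀ 𝔔 ∈ (Ideal.span {π}).minimalPrimes, ∃ i, 𝔓 i = 𝔔)
    (M : Type u) [AddCommGroup M] [Module A M] [Module.Finite A M]
    (K : Set ι → Submodule A (M ⧸ Ideal.span {π} • (⊤ : Submodule A M)))
    (hK : ∀ T : Set ι, K T = ⨅ i ∈ T, LinearMap.ker
      (LocalizedModule.mkLinearMap (𝔓 i).primeCompl (M ⧸ Ideal.span {π} • (⊤ : Submodule A M))))
    (htf : K Set.univ = ⊥)
    (N : Set ι → Submodule A M)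
    (hN : ∀ T : Set ι, N T = (K T).comap (Submodule.mkQ (Ideal.span {π} • (⊤ : Submodule A M))))
    (Y : Set ι) :
    N Y ⊓ N Yᶜ = Ideal.span {π} • (⊤ : Submodule A M) ∧
    Submodule.map (N Y).subtype
      ((⨅ i ∈ Yᶜ, LinearMap.ker (LocalizedModule.mkLinearMap (𝔓 i).primeCompl
          (↥(N Y) ⧸ Ideal.span {π} • (⊤ : Submodule A ↥(N Y))))).comap
        (Submodule.mkQ (Ideal.span {π} • (⊤ : Submodule A ↥(N Y)))))
      = N Y ⊓ N Yᶜ := by
  classical
  cases nonempty_fintype ι
  have mem : ∀ (T : Set ι) (m : M), m ∈ N T ↔ ∀ i ∈ T, ∃ c ∈ (𝔓 i).primeCompl, c • m ∈ Ideal.span {π} • (⊤ : Submodule A M) := by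
    intro T m
    simp only [hN, hK, Submodule.mem_comap, Submodule.mem_iInf, mk_mem_ker_iff]
  have hinter : N Y ⊓ N Yᶜ = Ideal.span {π} • (⊤ : Submodule A M) := by
    have h : K Y ⊓ K Yᶜ = ⊥ := by
      rw [← htf, hK, hK, hK, ← iInf_union, Set.union_compl_self]
    rw [hN, hN, ← Submodule.comap_inf, h, Submodule.comap_bot, Submodule.ker_mkQ]
  refine ⟨hinter, ?_⟩
  rw [hinter]
  refine le_antisymm ?_ fun m hm => ?_
  · rintro _ ⟨m, hm, rfl⟩
    simp only [Submodule.mem_iInf, SetLike.mem_coe, Submodule.mem_comap, mk_mem_ker_iff] at hm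
    rw [← hinter]
    refine ⟨m.2, (mem _ _).2 fun i hi => ?_⟩
    obtain ⟨c, hc, hcm⟩ := hm i hi
    refine ⟨c, hc, ?_⟩
    have := Submodule.mem_map_of_mem (f := (N Y).subtype) hcm
    rw [Submodule.map_smul''] at this
    exact Submodule.smul_mono le_rfl le_top this
  · rw [Submodule.ideal_span_singleton_smul] at hm
    obtain ⟨n, -, rfl⟩ := (Submodule.mem_smul_pointwise_iff_exists _ _ _).1 hm
    rw [← Submodule.ideal_span_singleton_smul] at hm
    have hmY : π • n ∈ N Y := (inf_le_left : N Y ⊓ N Yᶜ ≤ N Y) (hinter ▸ hm)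
    refine ⟨⟨_, hmY⟩, ?_, rfl⟩
    simp only [Submodule.mem_iInf, SetLike.mem_coe, Submodule.mem_comap, mk_mem_ker_iff]
    intro i hi
    have hex : ∀ j ∈ Y, ∃ c ∈ (𝔓 i).primeCompl, ∃ u ∈ (𝔓 j).primeCompl, c * u ∈ Ideal.span {π} := by
      intro j hj
      have hne : ¬ 𝔓 j ≤ 𝔓 i := fun h => hi ((h𝔓inj (le_antisymm h ((h𝔓 i).2 (h𝔓 j).1 h))) ▸ hj)
      obtain ⟨x, hxj, hxi⟩ := Set.not_subset.1 hne
      obtain ⟨u, hu, e, he⟩ := exists_pow_mul_mem (h𝔓 j) hxj
      exact ⟨x ^ e, pow_mem (show x ∈ (𝔓 i).primeCompl from hxi) e, u, hu, he⟩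
    choose c hc u hu hcu using hex
    let C := ∏ j : Y, c j.1 j.2
    have hC : C ∈ (𝔓 i).primeCompl := Submonoid.prod_mem _ fun j _ => hc j.1 j.2
    have hCn : C • n ∈ N Y := (mem _ _).2 fun j hj => by
      obtain ⟨d, hd⟩ := Finset.dvd_prod_of_mem (fun j : Y => c j.1 j.2) (Finset.mem_univ ⟨j, hj⟩)
      refine ⟨u j hj, hu j hj, ?_⟩
      refine smul_smul (u j hj) C n ▸ Submodule.smul_mem_smul ?_ Submodule.mem_top
      rw [show C = c j hj * d from hd, show u j hj * (c j hj * d) = c j hj * u j hj * d by ring]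
      exact Ideal.mul_mem_right _ _ (hcu j hj)
    refine ⟨C, hC, ?_⟩
    have : C • (⟨π • n, hmY⟩ : N Y) = π • (⟨C • n, hCn⟩ : N Y) := Subtype.ext (smul_comm C π n)
    rw [this]
    exact Submodule.smul_mem_smul (Ideal.mem_span_singleton_self π) Submodule.mem_top

end Groth.Agent.S18364
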