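import Groth.Statements.S18365
import Mathlib

set_option autoImplicit false
universe u
open CAlg

namespace Groth.Agent.S18365

section Aux
variable {A : Type u} [CommRing A] {M : Type u} [AddCommGroup M] [Module A M]

theorem mk_mem_ker_iff (I : Ideal A) (S : Submonoid A) (m : M) :
    Submodule.mkQ (I • ⊤ : Submodule A M) m ∈
      LinearMap.ker (LocalizedModule.mkLinearMap S (M ⧸ I • (⊤ : Submodule A M))) ↔
      ∃ c ∈ S, c • m ∈ I • (⊤ : Submodule A M) := by
  rw [LinearMap.mem_ker, IsLocalizedModule.eq_zero_iff S (LocalizedModule.mkLinearMap S _)]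
  simp only [Subtype.exists, Submonoid.smul_def, exists_prop, Submodule.mkQ_apply, ← Submodule.Quotient.mk_smul, Submodule.Quotient.mk_eq_zero]

end Aux

/-- Let A be a Noetherian ring, π an element of A, (𝔓_i)_{i ∈ ι} an injective finite family listing
exactly the minimal prime ideals over (π), and M a finitely generated A-module on which π acts
injectively; put M̄ = M/πM. For T ⊆ ι let K(T) ⊆ M̄ be the submodule of elements whose image in the
localisation of M̄ at 𝔓_i vanishes for every i ∈ T, and N(T) ⊆ M its preimage; assume K(ι) = 0.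
Suppose that M̄ decomposes at Y, i.e. K(Y) + K(Yᶜ) = M̄, and that for a subset Z the module
N(Y)/πN(Y) decomposes at Z, i.e. its submodule of elements vanishing at every 𝔓_i (i ∈ Z) and its
submodule of elements vanishing at every 𝔓_i (i ∉ Z) together span it. Then M̄ decomposes at Z: K(Z)
+ K(Zᶜ) = M̄. (Geometric meaning: for a flat family of curves over a discrete valuation ring with
uniformizer π, I a torsion-free rank-one sheaf flat over the base, Y a subcurve of the special fibre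
X(s) at which I(s) decomposes and I^Y = ker(I → I(s)_Y): if I^Y(s) decomposes at a subcurve Z then
so does I(s); decomposition of a sheaf at Z is the surjectivity of I(s) → I(s)_Z ⊕ I(s)_{Z^c},
checked on stalks. Reducedness of the special fibre and rank one are not used.) -/
theorem result
    (A : Type u) [CommRing A] [IsNoetherianRing A] (π : A)
    (ι : Type) [Finite ι] (𝔓 : ι → Ideal A) [∀ i, (𝔓 i).IsPrime]
    (h𝔓 : ∀ i, 𝔓 i ∈ (Ideal.span {π}).minimalPrimes) (h𝔓inj : Function.Injective 𝔓)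
    (h𝔓surj : ∀ 𝔔 ∈ (Ideal.span {π}).minimalPrimes, ∃ i, 𝔓 i = 𝔔)
    (M : Type u) [AddCommGroup M] [Module A M] [Module.Finite A M]
    (hπ : ∀ m : M, π • m = 0 → m = 0)
    (K : Set ι → Submodule A (M ⧸ Ideal.span {π} • (⊤ : Submodule A M)))
    (hK : ∀ T : Set ι, K T = ⨅ i ∈ T, LinearMap.ker
      (LocalizedModule.mkLinearMap (𝔓 i).primeCompl (M ⧸ Ideal.span {π} • (⊤ : Submodule A M))))
    (htf : K Set.univ = ⊥)
    (N : Set ι → Submodule A M)
    (hN : ∀ T : Set ι, N T = (K T).comap (Submodule.mkQ (Ideal.span {π} • (⊤ : Submodule A M))))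
    (Y Z : Set ι) (hY : K Y ⊔ K Yᶜ = ⊤)
    (K' : Set ι → Submodule A (↥(N Y) ⧸ Ideal.span {π} • (⊤ : Submodule A ↥(N Y))))
    (hK' : ∀ T : Set ι, K' T = ⨅ i ∈ T, LinearMap.ker
      (LocalizedModule.mkLinearMap (𝔓 i).primeCompl (↥(N Y) ⧸ Ideal.span {π} • (⊤ : Submodule A ↥(N Y)))))
    (hZ : K' Z ⊔ K' Zᶜ = ⊤) :
    K Z ⊔ K Zᶜ = ⊤ := by
  classical
  let J := Ideal.span {π}
  have mem : ∀ (T : Set ι) (m : M), m ∈ N T ↔ ∀ i ∈ T, ∃ c ∈ (𝔓 i).primeCompl, c • m ∈ J • (⊤ : Submodule A M) := by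
    intro T m
    simp only [hN, hK, Submodule.mem_comap, Submodule.mem_iInf, mk_mem_ker_iff, J]
  have hle : ∀ T, J • (⊤ : Submodule A M) ≤ N T := fun T => by
    rw [hN]; exact (Submodule.ker_mkQ _).symm.le.trans (Submodule.comap_mono bot_le)
  let N' : Set ι → Submodule A ↥(N Y) := fun T => (K' T).comap (Submodule.mkQ _)
  have mem' : ∀ (T : Set ι) (m : N Y), m ∈ N' T ↔ ∀ i ∈ T, ∃ c ∈ (𝔓 i).primeCompl, c • m ∈ J • (⊤ : Submodule A ↥(N Y)) := by
    intro T m
    simp only [N', hK', Submodule.mem_comap, Submodule.mem_iInf, mk_mem_ker_iff, J]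
  have hle' : ∀ T, J • (⊤ : Submodule A ↥(N Y)) ≤ N' T := fun T =>
    (Submodule.ker_mkQ _).symm.le.trans (Submodule.comap_mono bot_le)
  have hsurj : ∀ {X : Type u} [AddCommGroup X] [Module A X] (P : Submodule A X) (K₁ K₂ : Submodule A (X ⧸ P)),
      K₁ ⊔ K₂ = ⊤ → K₁.comap P.mkQ ⊔ K₂.comap P.mkQ = ⊤ := by
    intro X _ _ P K₁ K₂ h
    rw [eq_top_iff]
    intro x _
    obtain ⟨a, ha, b, hb, hab⟩ := Submodule.mem_sup.1 (h.symm ▸ Submodule.mem_top : P.mkQ x ∈ K₁ ⊔ K₂)
    obtain ⟨a, rfl⟩ := P.mkQ_surjective a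
    rw [show x = a + (x - a) by abel]
    refine Submodule.add_mem_sup ha ?_
    rw [Submodule.mem_comap, map_sub, ← hab, add_sub_cancel_left]
    exact hb
  have hMY : N Y ⊔ N Yᶜ = ⊤ := by rw [hN, hN]; exact hsurj _ _ _ hY
  have hNZ : N' Z ⊔ N' Zᶜ = ⊤ := hsurj _ _ _ hZ
  have hto : ∀ T (m : N Y), m ∈ N' T → (m : M) ∈ N T := fun T m hm => (mem _ _).2 fun i hi => by
    obtain ⟨c, hc, hcm⟩ := (mem' _ _).1 hm i hi
    have := Submodule.mem_map_of_mem (f := (N Y).subtype) hcm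
    rw [Submodule.map_smul''] at this
    exact ⟨c, hc, Submodule.smul_mono le_rfl le_top this⟩
  have hdiv : ∀ m, m ∈ J • (⊤ : Submodule A M) → ∃ n, π • n = m := fun m hm => by
    rw [Submodule.ideal_span_singleton_smul] at hm
    obtain ⟨n, -, h⟩ := (Submodule.mem_smul_pointwise_iff_exists _ _ _).1 hm
    exact ⟨n, h⟩
  have hNYle : N Y ≤ N Z ⊔ N Zᶜ := fun a ha => by
    obtain ⟨a₁, h₁, a₂, h₂, h⟩ := Submodule.mem_sup.1 (hNZ.symm ▸ Submodule.mem_top : (⟨a, ha⟩ : N Y) ∈ N' Z ⊔ N' Zᶜ)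
    rw [show a = (a₁ : M) + a₂ from congrArg Subtype.val h.symm]
    exact Submodule.add_mem_sup (hto _ _ h₁) (hto _ _ h₂)
  have hpiece : ∀ T (c : M) (hc : π • c ∈ N Y), (⟨π • c, hc⟩ : N Y) ∈ N' T → c ∈ N Y ⊔ N T := by
    intro T c hc hcT
    obtain ⟨d, hd, e, he, rfl⟩ := Submodule.mem_sup.1 (hMY.symm ▸ Submodule.mem_top : c ∈ N Y ⊔ N Yᶜ)
    refine Submodule.add_mem_sup hd ((mem _ _).2 fun i hi => ?_)
    by_cases hiY : i ∈ Y
    · obtain ⟨s, hs, hsc⟩ := (mem' _ _).1 hcT i hi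
      rw [Submodule.ideal_span_singleton_smul] at hsc
      obtain ⟨⟨n, hn⟩, -, hn'⟩ := (Submodule.mem_smul_pointwise_iff_exists _ _ _).1 hsc
      have hn'' : π • n = s • π • (d + e) := congrArg Subtype.val hn'
      have heq : n = s • (d + e) := sub_eq_zero.1 (hπ _ (by rw [smul_sub, hn'', smul_comm, sub_self]))
      have : s • e ∈ N Y := by
        rw [show s • e = n - s • d by rw [heq, smul_add]; abel]
        exact sub_mem hn (Submodule.smul_mem _ _ hd)
      obtain ⟨u, hu, hue⟩ := (mem _ _).1 this i hiY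
      exact ⟨u * s, mul_mem hu hs, by rwa [mul_smul]⟩
    · exact (mem _ _).1 he i hiY
  have htop : N Z ⊔ N Zᶜ = ⊤ := by
    rw [eq_top_iff]
    intro m _
    obtain ⟨a, ha, b, hb, rfl⟩ := Submodule.mem_sup.1 (hMY.symm ▸ Submodule.mem_top : m ∈ N Y ⊔ N Yᶜ)
    refine add_mem (hNYle ha) ?_
    have hπb : π • b ∈ N Y := hle Y (Submodule.smul_mem_smul (Ideal.mem_span_singleton_self π) Submodule.mem_top)
    obtain ⟨b₁, h₁, b₂, h₂, h⟩ := Submodule.mem_sup.1 (hNZ.symm ▸ Submodule.mem_top : (⟨π • b, hπb⟩ : N Y) ∈ N' Z ⊔ N' Zᶜ)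
    have hval : (b₁ : M) + b₂ = π • b := congrArg Subtype.val h
    have hb1 : (b₁ : M) ∈ J • (⊤ : Submodule A M) := by
      have h0 : N Z ⊓ N Zᶜ ≤ J • (⊤ : Submodule A M) := by
        rw [hN, hN, ← Submodule.comap_inf, show K Z ⊓ K Zᶜ = ⊥ by rw [← htf, hK, hK, hK, ← iInf_union, Set.union_compl_self],
          Submodule.comap_bot, Submodule.ker_mkQ]
      refine h0 ⟨hto _ _ h₁, ?_⟩
      rw [show (b₁ : M) = π • b - b₂ from eq_sub_of_add_eq hval]
      exact sub_mem (hle _ (Submodule.smul_mem_smul (Ideal.mem_span_singleton_self π) Submodule.mem_top)) (hto _ _ h₂)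
    obtain ⟨c₁, hc₁⟩ := hdiv _ hb1
    have hc₂ : π • (b - c₁) = (b₂ : M) := by rw [smul_sub, hc₁, ← hval]; abel
    have e₁ := hpiece Z c₁ (hc₁ ▸ b₁.2) (by convert h₁ using 1; exact Subtype.ext hc₁)
    have e₂ := hpiece Zᶜ (b - c₁) (hc₂ ▸ b₂.2) (by convert h₂ using 1; exact Subtype.ext hc₂)
    rw [← add_sub_cancel c₁ b]
    exact add_mem (sup_le hNYle le_sup_left e₁) (sup_le hNYle le_sup_right e₂)
  have := congrArg (Submodule.map (Submodule.mkQ (J • (⊤ : Submodule A M)))) htop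
  rw [Submodule.map_sup, hN, hN, Submodule.map_comap_eq_of_surjective (Submodule.mkQ_surjective _),
    Submodule.map_comap_eq_of_surjective (Submodule.mkQ_surjective _), Submodule.map_top, Submodule.range_mkQ] at this
  exact this

end Groth.Agent.S18365
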