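import Groth.Statements.S18366
import Groth.Agent.AlgGrp1.Points

set_option autoImplicit false
universe u
open CategoryTheory CategoryTheory.Limits AlgebraicGeometry
open Variety

namespace Groth.Agent.S18366

/-- Let k be a separably closed field and X a non-empty k-scheme of finite type which is geometrically
reduced. Then X has a k-rational point, i.e. the structure morphism admits a section. (Non-emptiness
is part of the hypotheses: the empty scheme is geometrically reduced of finite type and has no
point. The published statement does not assume X non-empty; this row does, since the empty scheme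
has no rational point.) -/
theorem result (k : Type u) [Field k] [IsSepClosed k]
    {X : Scheme.{u}} (f : X ⟶ Spec (CommRingCat.of k)) [LocallyOfFiniteType f] [QuasiCompact f] [GeometricallyReduced f]
    [Nonempty X] :
    ∃ s : Spec (CommRingCat.of k) ⟶ X, s ≫ f = 𝟙 (Spec (CommRingCat.of k)) := by
  haveI : LocallyOfFiniteType (Over.mk f).hom := ‹LocallyOfFiniteType f›
  haveI : GeometricallyReduced (Over.mk f).hom := ‹GeometricallyReduced f›
  obtain ⟨s, -⟩ := Groth.AlgGrp1.exists_point_mem (k := k) (Over.mk f) ⊤ ⟨Classical.arbitrary X, trivial⟩
  exact ⟨s.left, Over.w s⟩

end Groth.Agent.S18366
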