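import Groth.Statements.S18367
import Groth.Agent.Calg8.AcyclicityLemma
import Groth.Agent.LocCohBase.CM
import Groth.Agent.DualCore.Representing

set_option autoImplicit false
set_option linter.style.haveILetI false
universe u
open CategoryTheory CategoryTheory.Limits
open LocAlg

namespace Groth.Agent.S18367

open IsLocalRing

variable {R : Type u} [CommRing R] (K : CochainComplex (ModuleCat.{u} R) ℕ)

/-- the boundaries in degree `j` -/
noncomputable def B (j : ℕ) : Submodule R (K.X j) :=
  LinearMap.range (K.d ((ComplexShape.up ℕ).prev j) j).hom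

theorem B_succ (j : ℕ) : B K (j + 1) = LinearMap.range (K.d j (j + 1)).hom := by
  rw [B, (ComplexShape.up ℕ).prev_eq' (show (ComplexShape.up ℕ).Rel j (j + 1) from rfl)]

theorem ker_le_B {j : ℕ} (h : K.ExactAt j) : LinearMap.ker (K.d j (j + 1)).hom ≤ B K j := by
  rw [K.exactAt_iff' ((ComplexShape.up ℕ).prev j) j (j + 1) rfl
    ((ComplexShape.up ℕ).next_eq' (show (ComplexShape.up ℕ).Rel j (j + 1) from rfl)),
    ShortComplex.moduleCat_exact_iff] at h
  intro x hx
  exact h x hx

theorem B_le_ker (j : ℕ) : B K j ≤ LinearMap.ker (K.d j (j + 1)).hom := by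
  rintro _ ⟨y, rfl⟩
  exact congrArg (fun φ => φ.hom y) (K.d_comp_d ((ComplexShape.up ℕ).prev j) j (j + 1))

variable [IsLocalRing R] [IsNoetherianRing R]

theorem depth_coker (g : ℕ) (hR : (g : ℕ∞) ≤ LocCoh.idealDepth (maximalIdeal R) R)
    (hfree : ∀ i, Module.Free R (K.X i) ∧ Module.Finite R (K.X i)) :
    ∀ (j : ℕ), (∀ l < j, K.ExactAt l) →
      ((g - j : ℕ) : ℕ∞) ≤ LocCoh.idealDepth (maximalIdeal R) (K.X j ⧸ B K j) := by
  have hd : ∀ j, (g : ℕ∞) ≤ LocCoh.idealDepth (maximalIdeal R) (K.X j) := fun j => by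
    haveI := (hfree j).1
    haveI := (hfree j).2
    exact hR.trans (Groth.Calg8.BE.le_depth_of_equiv
      ((Module.finBasis R (K.X j)).equivFun))
  intro j
  induction j with
  | zero =>
    intro _
    have h : B K 0 = ⊥ := by
      rw [B, LinearMap.range_eq_bot, K.shape _ _ (by simp)]
      rfl
    haveI := (hfree 0).2
    rw [Groth.LocCohBase.idealDepth_congr (I := maximalIdeal R) (Submodule.quotEquivOfEqBot _ h)]
    simpa using hd 0
  | succ j ih =>
    intro hex
    haveI := (hfree j).2
    haveI := (hfree (j + 1)).2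
    let f : (K.X j ⧸ B K j) →ₗ[R] K.X (j + 1) := (B K j).liftQ (K.d j (j + 1)).hom (B_le_ker K j)
    have hrange : LinearMap.range f = B K (j + 1) := by
      rw [B_succ]; exact Submodule.range_liftQ _ _ _
    have hf : Function.Injective f := by
      rw [← LinearMap.ker_eq_bot, Submodule.ker_liftQ, eq_bot_iff]
      rintro _ ⟨x, hx, rfl⟩
      exact (Submodule.Quotient.mk_eq_zero _).2 (ker_le_B K (hex j (by omega)) hx)
    have h := (Groth.LocCohBase.idealDepth_shortExact (maximalIdeal R) f (B K (j + 1)).mkQ hf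
      (Submodule.mkQ_surjective _) (LinearMap.exact_iff.2 (by rw [Submodule.ker_mkQ, hrange]))).2.1
    refine le_trans (le_min ((Nat.cast_le.2 (Nat.sub_le g (j + 1))).trans (hd (j + 1))) ?_) h
    rw [show g - (j + 1) = g - j - 1 by omega, ENat.natCast_sub, Nat.cast_one]
    exact tsub_le_tsub_right (ih fun l hl => hex l (by omega)) 1

/-- Let R be a Cohen–Macaulay local ring of Krull dimension g and K = (K^0 → K^1 → ⋯) a bounded cochain
complex of finitely generated free R-modules (K^i = 0 for i > N) such that every cohomology module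
H^i(K) has finite length. Then H^i(K) = 0 for all i < g. -/
theorem result (R : Type u) [CommRing R]
    [LocCoh.IsCohenMacaulayLocalRing R] (g : ℕ) (hg : ringKrullDim R = g) (K : CochainComplex (ModuleCat.{u} R) ℕ)
    (N : ℕ) (hbd : ∀ i, N < i → IsZero (K.X i)) (hfree : ∀ i, Module.Free R (K.X i) ∧ Module.Finite R (K.X i))
    (hfl : ∀ i, IsFiniteLength R (K.homology i)) (i : ℕ) (hi : i < g) :
    IsZero (K.homology i) := by
  have hR : (g : ℕ∞) ≤ LocCoh.idealDepth (maximalIdeal R) R := by
    have h := LocCoh.IsCohenMacaulayLocalRing.supportDim_eq_depth (R := R)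
    rw [Module.supportDim_self_eq_ringKrullDim, hg] at h
    exact le_of_eq (WithBot.coe_injective h)
  suffices hex : ∀ i, i < g → K.ExactAt i from (K.exactAt_iff_isZero_homology i).1 (hex i hi)
  intro j
  induction j using Nat.strong_induction_on with
  | _ j ih =>
    intro hj
    have hdep := depth_coker K g hR hfree j fun l hl => ih l hl (hl.trans hj)
    haveI := (hfree j).2
    rw [K.exactAt_iff' ((ComplexShape.up ℕ).prev j) j (j + 1) rfl
      ((ComplexShape.up ℕ).next_eq' (show (ComplexShape.up ℕ).Rel j (j + 1) from rfl)),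
      ShortComplex.moduleCat_exact_iff]
    intro x hx
    suffices h : ((B K j).mkQ x : K.X j ⧸ B K j) = 0 from (Submodule.Quotient.mk_eq_zero _).1 h
    refine Groth.Calg8.BE.eq_zero_of_one_le_depth (le_trans (by exact_mod_cast (by omega : 1 ≤ g - j)) hdep) _
      fun p hp hpm => ?_
    obtain ⟨n, hn⟩ := Groth.DualCore.exists_pow_killed (hfl j)
    obtain ⟨a, ha, hap⟩ := SetLike.not_le_iff_exists.1 (show ¬ maximalIdeal R ≤ p from fun hle =>
      hpm ((IsLocalRing.maximalIdeal.isMaximal R).eq_of_le hp.ne_top hle).symm)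
    refine ⟨a ^ n, fun h => hap (hp.mem_of_pow_mem n h), ?_⟩
    have e := (K.sc' ((ComplexShape.up ℕ).prev j) j (j + 1)).moduleCatHomologyIso
    have i' := K.isoSc' ((ComplexShape.up ℕ).prev j) j (j + 1) rfl
      ((ComplexShape.up ℕ).next_eq' (show (ComplexShape.up ℕ).Rel j (j + 1) from rfl))
    let S := K.sc' ((ComplexShape.up ℕ).prev j) j (j + 1)
    let L : K.homology j ≃ₗ[R] S.moduleCatLeftHomologyData.H :=
      (ShortComplex.homologyMapIso i' ≪≫ e).toLinearEquiv
    obtain ⟨z, hz⟩ := L.surjective (S.moduleCatLeftHomologyData.π ⟨x, hx⟩)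
    have h0 : a ^ n • (S.moduleCatLeftHomologyData.π ⟨x, hx⟩) = 0 := by
      rw [← hz, ← map_smul, hn (a ^ n) (Ideal.pow_mem_pow ha n) z, map_zero]
    have h0' : S.moduleCatLeftHomologyData.π.hom (a ^ n • ⟨x, hx⟩) = 0 := (map_smul _ _ _).trans h0
    obtain ⟨y, hy⟩ := (Submodule.Quotient.mk_eq_zero _).1 h0'
    refine ((B K j).mkQ.map_smul (a ^ n) x).symm.trans ?_
    exact (Submodule.Quotient.mk_eq_zero _).2 ⟨y, congrArg Subtype.val hy⟩

end Groth.Agent.S18367
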