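import Groth.Statements.S18369
import Groth.Agent.AbvarAmple.TwistAdditive

set_option autoImplicit false
universe u
open CategoryTheory CategoryTheory.Limits MonoidalCategory CartesianMonoidalCategory MonObj GrpObj AlgebraicGeometry
open AbVar

namespace Groth.Agent.S18369

/-- Let k be a field, A an abelian variety over k (a proper smooth k-group scheme with geometrically
connected fibres) with group law m : A × A → A and projections p₁, p₂, L an ample invertible
O_A-module, and N an invertible O_A-module whose class lies in the dual abelian variety, expressed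
as m^*N ≅ p₁^*N ⊗ p₂^*N. Then L ⊗ N is again ample; so ampleness of an invertible module on A
depends only on its class modulo Pic⁰. -/
theorem result (k : Type u) [Field k]
    (A : Over (Spec (CommRingCat.of k))) [GrpObj A] [IsProper A.hom] [Smooth A.hom] [GeometricallyConnected A.hom]
    (L N : A.left.Modules) (hL : CohB1.IsAmple L) (hN : PicF.IsInvertible N)
    (hN0 : Nonempty ((Scheme.Modules.pullback μ[A].left).obj N ≅
      CohB1.tensorMod ((Scheme.Modules.pullback (fst A A).left).obj N) ((Scheme.Modules.pullback (snd A A).left).obj N))) :
    CohB1.IsAmple (CohB1.tensorMod L N) := by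
  have := Groth.AbVarMul.geometricallyIntegral_of_smooth (A := A)
  refine Groth.AbvarAmple.isAmple_tensor_additive hL hN ?_
  have e := (Groth.Abvar.PicCalc.nonempty_iso_iff (PicLoc.isInvertible_pullback _ hN)
    (Groth.Abvar.PicCalc.isInvertible_tensorMod (PicLoc.isInvertible_pullback _ hN) (PicLoc.isInvertible_pullback _ hN))).1 hN0
  rw [Groth.Abvar.PicCalc.cls_tensorMod (PicLoc.isInvertible_pullback _ hN) (PicLoc.isInvertible_pullback _ hN),
    ← Groth.Abvar.PicCalc.pull_cls _ hN, ← Groth.Abvar.PicCalc.pull_cls _ hN, ← Groth.Abvar.PicCalc.pull_cls _ hN] at e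
  rw [show fst A A * snd A A = μ[A] by rw [Hom.mul_def, lift_fst_snd, Category.id_comp]]
  exact e

end Groth.Agent.S18369
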