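import Groth.Statements.S18370


set_option autoImplicit false
universe u
open CategoryTheory CategoryTheory.Limits MonoidalCategory CartesianMonoidalCategory MonObj GrpObj AlgebraicGeometry
open GrpSch

namespace Groth.Agent.S18370

/-- Let S be a scheme and G a commutative S-group scheme which is killed by a natural number n, i.e. the
n-th power map of G is the trivial homomorphism, and let n = a·b with a and b coprime. If i_a : G_a
→ G and i_b : G_b → G are scheme-theoretic kernels of the a-th and b-th power maps of G, then the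
morphism G_a ×_S G_b → G sending (x, y) to i_a(x)·i_b(y) is an isomorphism of S-schemes. (The
published statement assumes n ≠ 0; the case n = 0, where {a, b} = {0, 1} and one kernel is all of G
while the other is trivial, is included here.) -/
theorem result {S : Scheme.{u}} (G Ga Gb : Over S)
    [GrpObj G] [IsCommMonObj G] (n a b : ℕ) (hn : n = a * b) (hab : Nat.Coprime a b)
    (hG : (𝟙 G) ^ n = 1)
    (ia : Ga ⟶ G) (hia : AlgGrp.IsKernel ia ((𝟙 G) ^ a))
    (ib : Gb ⟶ G) (hib : AlgGrp.IsKernel ib ((𝟙 G) ^ b)) :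
    IsIso ((fst Ga Gb ≫ ia) * (snd Ga Gb ≫ ib)) := by
  replace hia : IsPullback ia (toUnit Ga) (𝟙 G ^ a) η[G] := hia
  replace hib : IsPullback ib (toUnit Gb) (𝟙 G ^ b) η[G] := hib
  obtain ⟨u, v, huv⟩ := (Nat.Coprime.isCoprime hab : IsCoprime (a : ℤ) b)
  have hab0 : ∀ {T : Over S} (x : T ⟶ G), x ^ ((a : ℤ) * b) = 1 := by
    intro T x
    have := congrArg (x ≫ ·) hG
    simp only [comp_pow, comp_one, Category.comp_id] at this
    rw [← this, hn]; norm_cast
  have e1 : (𝟙 G ^ (v * b)) ≫ (𝟙 G ^ a) = toUnit G ≫ η[G] := by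
    rw [comp_pow, Category.comp_id, ← zpow_natCast, ← zpow_mul, one_eq_one, comp_one,
      show v * b * a = (a * b : ℤ) * v by ring, zpow_mul, hab0, one_zpow]
  have e2 : (𝟙 G ^ (u * a)) ≫ (𝟙 G ^ b) = toUnit G ≫ η[G] := by
    rw [comp_pow, Category.comp_id, ← zpow_natCast, ← zpow_mul, one_eq_one, comp_one,
      show u * a * b = (a * b : ℤ) * u by ring, zpow_mul, hab0, one_zpow]
  have ka : ∀ {T : Over S} (x : T ⟶ Ga), (x ≫ ia) ^ (a : ℤ) = 1 := by
    intro T x
    have := congrArg (x ≫ ·) hia.w
    simp only [comp_pow, Category.comp_id, one_eq_one, comp_one] at this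
    rw [zpow_natCast]; exact this
  have kb : ∀ {T : Over S} (x : T ⟶ Gb), (x ≫ ib) ^ (b : ℤ) = 1 := by
    intro T x
    have := congrArg (x ≫ ·) hib.w
    simp only [comp_pow, Category.comp_id, one_eq_one, comp_one] at this
    rw [zpow_natCast]; exact this
  refine ⟨lift (hia.lift (𝟙 G ^ (v * b)) (toUnit G) e1) (hib.lift (𝟙 G ^ (u * a)) (toUnit G) e2),
    ?_, ?_⟩
  · set m := (fst Ga Gb ≫ ia) * (snd Ga Gb ≫ ib)
    have ha : (fst Ga Gb ≫ ia) ^ (v * b) = fst Ga Gb ≫ ia := by
      conv_rhs => rw [← zpow_one (fst Ga Gb ≫ ia), ← huv, zpow_add,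
        mul_comm u, zpow_mul, ka, one_zpow, _root_.one_mul]
    have hb : (snd Ga Gb ≫ ib) ^ (u * a) = snd Ga Gb ≫ ib := by
      conv_rhs => rw [← zpow_one (snd Ga Gb ≫ ib), ← huv, zpow_add,
        mul_comm v, zpow_mul _ (b : ℤ), kb, one_zpow, _root_.mul_one]
    apply CartesianMonoidalCategory.hom_ext
    · rw [Category.assoc, lift_fst, Category.id_comp]
      apply hia.hom_ext
      · rw [Category.assoc, IsPullback.lift_fst, GrpObj.comp_zpow, Category.comp_id, mul_zpow, ha,
          mul_comm v, zpow_mul, kb, one_zpow, _root_.mul_one]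
      · exact toUnit_unique _ _
    · rw [Category.assoc, lift_snd, Category.id_comp]
      apply hib.hom_ext
      · rw [Category.assoc, IsPullback.lift_fst, GrpObj.comp_zpow, Category.comp_id, mul_zpow, hb,
          mul_comm u, zpow_mul, ka, one_zpow, _root_.one_mul]
      · exact toUnit_unique _ _
  · rw [comp_mul, lift_fst_assoc, lift_snd_assoc, IsPullback.lift_fst, IsPullback.lift_fst,
      ← zpow_add, add_comm, huv, zpow_one]

end Groth.Agent.S18370
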