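import Groth.Statements.S18372
import Groth.Agent.AbVarMul.KernelComp
import Groth.Agent.DescentBase.TopDescent

set_option autoImplicit false
universe u
open CategoryTheory CategoryTheory.Limits MonoidalCategory CartesianMonoidalCategory MonObj GrpObj AlgebraicGeometry
open AbVar

namespace Groth.Agent.S18372

/-- Let k be an algebraically closed field, A an abelian variety over k (a proper smooth k-group scheme
with geometrically connected fibres), U an affine open subset of A containing the unit point and D =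
A ∖ U. Then only finitely many k-rational points x of A have a translation t_x : z ↦ z + x (the
product of the identity and the constant map x in the group Hom(A, A)) with t_x⁻¹(D) = D as sets. -/
theorem result (k : Type u) [Field k] [IsAlgClosed k]
    (A : Over (Spec (CommRingCat.of k))) [GrpObj A] [IsProper A.hom] [Smooth A.hom] [GeometricallyConnected A.hom]
    (U : A.left.Opens) (hU : IsAffineOpen U) (he : Set.range η[A].left.base ⊆ (U : Set A.left)) :
    Set.Finite {x : 𝟙_ (Over (Spec (CommRingCat.of k))) ⟶ A |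
      (𝟙 A * (toUnit A ≫ x)).left.base ⁻¹' ((U : Set A.left)ᶜ) = (U : Set A.left)ᶜ} := by
  have := LocallyOfFiniteType.jacobsonSpace A.hom
  let pp : (𝟙_ (Over (Spec (CommRingCat.of k))) ⟶ A) → A.left := fun x => x.left (IsLocalRing.closedPoint k)
  let f : (𝟙_ (Over (Spec (CommRingCat.of k))) ⟶ A) → (A ⟶ A) := fun d => (toUnit A ≫ d) * (𝟙 A)⁻¹
  have hf : ∀ d x : 𝟙_ (Over (Spec (CommRingCat.of k))) ⟶ A, x ≫ f d = d * x⁻¹ := fun d x => by
    simp only [f, MonObj.comp_mul, GrpObj.comp_inv, Category.comp_id]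
    rw [← Category.assoc, toUnit_unique (x ≫ toUnit A) (𝟙 _), Category.id_comp]
  have hpp : ∀ (x : 𝟙_ (Over (Spec (CommRingCat.of k))) ⟶ A) (g : A ⟶ A), pp (x ≫ g) = g.left (pp x) :=
    fun x g => rfl
  let F : Set A.left := ⋂ d ∈ {d | pp d ∉ U}, (f d).left.base ⁻¹' ((U : Set A.left)ᶜ)
  have hF : IsClosed F :=
    isClosed_biInter fun d _ => U.2.isClosed_compl.preimage (f d).left.continuous
  have hsub : ∀ x : 𝟙_ (Over (Spec (CommRingCat.of k))) ⟶ A,
      (𝟙 A * (toUnit A ≫ x)).left.base ⁻¹' ((U : Set A.left)ᶜ) = (U : Set A.left)ᶜ → pp x ∈ F := by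
    intro x hx
    refine Set.mem_iInter₂.2 fun d hd => ?_
    show (f d).left (pp x) ∈ (U : Set A.left)ᶜ
    rw [← hpp, hf, ← hx]
    show (𝟙 A * (toUnit A ≫ x)).left (pp (d * x⁻¹)) ∈ (U : Set A.left)ᶜ
    rw [← hpp, MonObj.comp_mul, Category.comp_id, ← Category.assoc,
      toUnit_unique ((d * x⁻¹) ≫ toUnit A) (𝟙 _), Category.id_comp, inv_mul_cancel_right]
    exact hd
  have hFU : F ⊆ (U : Set A.left) := by
    by_contra hne
    obtain ⟨y, hyF, hyU⟩ := Set.not_subset.1 hne
    obtain ⟨c, ⟨hcF, hcU⟩, hcc⟩ := nonempty_inter_closedPoints (Z := F ∩ (U : Set A.left)ᶜ)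
      ⟨y, hyF, hyU⟩ (hF.inter U.2.isClosed_compl).isLocallyClosed
    obtain ⟨x, rfl⟩ := Groth.AbVarMul.exists_point' c hcc
    have h : (f x).left (pp x) ∈ (U : Set A.left)ᶜ := Set.mem_iInter₂.1 hcF x hcU
    rw [← hpp, hf, mul_inv_cancel] at h
    refine h (he ⟨IsLocalRing.closedPoint k, ?_⟩)
    rw [MonObj.one_eq_one]
  obtain ⟨Z, i, hi, hr⟩ := Groth.DescentBase.exists_closedImmersion_range hF
  have hrU : Set.range i ⊆ Set.range U.ι := by rw [Scheme.Opens.range_ι, hr]; exact hFU
  let j : Z ⟶ U := IsOpenImmersion.lift U.ι i hrU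
  have hj : j ≫ U.ι = i := IsOpenImmersion.lift_fac _ _ _
  have : IsClosedImmersion (j ≫ U.ι) := hj ▸ hi
  have : IsClosedImmersion j := IsClosedImmersion.of_comp j U.ι
  have : IsAffine (U : Scheme.{u}) := hU
  have : IsAffine Z := isAffine_of_isAffineHom j
  have : IsFinite (i ≫ A.hom) := IsFinite.iff_isProper_and_isAffineHom.2 ⟨inferInstance, inferInstance⟩
  have : Finite Z := by
    rw [← Set.finite_univ_iff]
    refine ((i ≫ A.hom).finite_preimage_singleton (IsLocalRing.closedPoint k)).subset fun z _ => ?_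
    exact Subsingleton.elim (α := PrimeSpectrum k) _ _
  refine Set.Finite.of_finite_image (f := pp) ?_ fun a _ b _ h => Groth.AbVarMul.point_ext' h
  refine (hr ▸ Set.finite_range i : F.Finite).subset ?_
  rintro _ ⟨x, hx, rfl⟩
  exact hsub x hx


end Groth.Agent.S18372
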