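import Groth.Statements.S18373
import Groth.Agent.AbvarAmple.CurveTranslate

set_option autoImplicit false
universe u
open CategoryTheory CategoryTheory.Limits MonoidalCategory CartesianMonoidalCategory MonObj GrpObj AlgebraicGeometry
open AbVar

namespace Groth.Agent.S18373

/-- Let k be an algebraically closed field and A an abelian variety over k (a proper smooth k-group
scheme with geometrically connected fibres). Let Δ ⊆ A be an irreducible closed subset of
codimension one, with generic point ξ whose local ring O_{A,ξ} has Krull dimension 1 (an irreducible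
effective divisor), and let C ⊆ A be an irreducible closed subset of dimension one (a curve)
disjoint from Δ. Then for all k-rational points x, y of A lying on C, translation by x − y (the map
z ↦ z + x − y, written with the group Hom(A, A)) carries Δ onto itself: t_{x−y}⁻¹(Δ) = Δ. -/
theorem result (k : Type u) [Field k] [IsAlgClosed k]
    (A : Over (Spec (CommRingCat.of k))) [GrpObj A] [IsProper A.hom] [Smooth A.hom] [GeometricallyConnected A.hom]
    (Δ : Set A.left) (hΔ : IsClosed Δ) (ξ : A.left) (hξ : closure {ξ} = Δ)
    (hcodim : ringKrullDim (A.left.presheaf.stalk ξ) = 1)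
    (C : Set A.left) (hC : IsClosed C) (hCirr : IsIrreducible C) (hCdim : topologicalKrullDim C = 1)
    (hdisj : Disjoint C Δ)
    (x y : 𝟙_ (Over (Spec (CommRingCat.of k))) ⟶ A)
    (hx : Set.range x.left.base ⊆ C) (hy : Set.range y.left.base ⊆ C) :
    (𝟙 A * (toUnit A ≫ (x * y⁻¹))).left.base ⁻¹' Δ = Δ := by
  have := Groth.AbVarMul.geometricallyIntegral_of_smooth (A := A)
  exact Groth.AbvarAmple.preimage_eq_of_disjoint hΔ ξ hξ hcodim hC hCirr hdisj x y (hx ⟨_, rfl⟩) (hy ⟨_, rfl⟩)

end Groth.Agent.S18373
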