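import Groth.Statements.S18376
import Groth.Agent.Misc14.GraphTree2
import Groth.Agent.S18374
-- import your own Groth.Agent.* helpers here

set_option autoImplicit false
universe u
open PhiStab

namespace Groth.Agent.S18376

open Groth.Misc14.GraphTree PhiStab


open PhiStab in
/-- Let (V, E, ends) be a connected finite multigraph, b an integer, and φ₁, φ₂ real weightings of the
vertices with Σ_v φ₁ v = Σ_v φ₂ v = b, φ₁ nondegenerate. Then every φ₁-stable sheaf datum (m, N) of
total degree b is φ₂-semistable if and only if φ₂ lies in the closed stability polytope of φ₁, that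
is, for every elementary vertex set S and every integer d with d - Σ_{v ∈ S} φ₁ v + cut S / 2 > 0
one has d - Σ_{v ∈ S} φ₂ v + cut S / 2 ≥ 0. Membership in the closure of the polytope is expressed
by this half-space condition, the form in which the source's proof uses it; the sheaves of degree g
- 1 = b on stable pointed curves with this dual graph enter through their combinatorial data. -/
theorem result {V E : Type u} [Fintype V] [Fintype E] [DecidableEq V] [DecidableEq E]
    (ends : E → V × V)
    (hconn : LabGraph.Connected ends) (b : ℤ) (φ₁ φ₂ : V → ℝ) (h₁ : (∑ v : V, φ₁ v) = (b : ℝ))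
    (h₂ : (∑ v : V, φ₂ v) = (b : ℝ)) (hnd : Nondegenerate ends φ₁) :
    (∀ (m : V → ℤ) (N : Finset E), totDeg m N = b → IsStable ends φ₁ m N → IsSemistable ends φ₂ m N) ↔
      InClosedPolytope ends φ₁ φ₂ := by
  constructor
  swap
  · intro hpoly m N hdeg hst
    refine (Groth.Agent.S18374.result ends hconn φ₂ m N (by rw [hdeg]; exact h₂)).1.mpr fun S hS => ?_
    have hp := Groth.Agent.S18374.proper_of_elementary hS
    have h1 := hst S hp.1 hp.2
    have h2 := hpoly S hS (degOn ends m N S) (by simp only [ell]; linarith)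
    simp only [ell] at h2
    linarith
  intro h S hS d hd
  obtain ⟨hne, hnu⟩ := Groth.Agent.S18374.proper_of_elementary hS
  obtain ⟨hA, hB⟩ := hS
  rw [connected_ind_iff] at hA hB
  -- an edge leaving `S`
  obtain ⟨e0, he0⟩ : ∃ e0, cross ends S e0 = 1 := by
    by_contra hno
    push Not at hno
    obtain ⟨a, ha⟩ := hA.1
    obtain ⟨b', hb⟩ := hB.1
    have hall : ∀ x, Relation.ReflTransGen (LabGraph.Adj ends) a x → x ∈ S := by
      intro x hx
      induction hx with
      | refl => exact ha
      | @tail p q _ hpq ih =>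
        obtain ⟨e, he⟩ := hpq
        by_contra hq
        refine hno e ?_
        rcases he with he | he <;> rw [cross, if_pos] <;> simp [he, ih, hq]
    exact Finset.mem_compl.mp hb (hall b' (hconn.2 a b'))
  set T₀ := insert e0 (PhiStab.inner ends S ∪ PhiStab.inner ends Sᶜ) with hT₀
  have hsub1 : PhiStab.inner ends S ⊆ T₀ := Finset.subset_union_left.trans (Finset.subset_insert _ _)
  have hsub2 : PhiStab.inner ends Sᶜ ⊆ T₀ := Finset.subset_union_right.trans (Finset.subset_insert _ _)
  have hmono : ∀ {U : Finset E}, U ⊆ T₀ → ∀ {x y : V}, Relation.ReflTransGen (AdjIn ends U) x y →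
      Relation.ReflTransGen (AdjIn ends T₀) x y := fun {U} hU {x y} hxy =>
    Relation.ReflTransGen.mono (fun p q ⟨e, he, hh⟩ => ⟨e, hU he, hh⟩) x y hxy
  have hadj : AdjIn ends T₀ (ends e0).1 (ends e0).2 := adjIn_of_mem ends (Finset.mem_insert_self _ _)
  obtain ⟨p, q, hp, hq, hpq⟩ : ∃ p q, p ∈ S ∧ q ∈ Sᶜ ∧ AdjIn ends T₀ p q := by
    simp only [cross] at he0
    split_ifs at he0 with hc
    rcases hc with ⟨u1, u2⟩ | ⟨u1, u2⟩
    · exact ⟨_, _, u1, Finset.mem_compl.mpr u2, hadj⟩
    · exact ⟨_, _, u2, Finset.mem_compl.mpr u1, adjIn_symm ends hadj⟩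
  have hreach : ∀ v, Relation.ReflTransGen (AdjIn ends T₀) v p := by
    intro v
    by_cases hv : v ∈ S
    · exact hmono hsub1 (hA.2 v hv p hp)
    · exact (hmono hsub2 (hB.2 v (Finset.mem_compl.mpr hv) q hq)).tail (adjIn_symm ends hpq)
  obtain ⟨T, hTsub, hT⟩ := exists_spanning_tree ends T₀ ⟨p⟩
    (fun v w => (hreach v).trans (reach_symm ends (hreach w)))
  obtain ⟨m, hm, hss⟩ := exists_semistable ends hT φ₁ b h₁
  have h0 : ∑ v, φ₁ v = (totDeg m Tᶜ : ℝ) := by rw [hm]; exact h₁
  have hst := hnd m Tᶜ h0 hss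
  have hneg := h m Tᶜ hm hst
  rw [isStable_iff] at hst
  have f1 := hst S hne hnu
  have f2 := hst Sᶜ hB.1 (by rw [Ne, Finset.compl_eq_univ_iff]; exact hne.ne_empty)
  -- at most one edge of `T` crosses `S`
  have hcr : ∑ e ∈ (Tᶜ)ᶜ, (cross ends S e : ℝ) ≤ 1 := by
    rw [compl_compl]
    calc ∑ e ∈ T, (cross ends S e : ℝ) ≤ ∑ e ∈ T₀, (cross ends S e : ℝ) :=
          Finset.sum_le_sum_of_subset_of_nonneg hTsub (fun _ _ _ => Nat.cast_nonneg _)
      _ = 1 := by
          rw [Finset.sum_eq_single e0]
          · rw [he0, Nat.cast_one]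
          · intro e he hne'
            rcases Finset.mem_union.mp ((Finset.mem_insert.mp he).resolve_left hne') with hi | hi <;>
            · obtain ⟨u1, u2⟩ := (mem_inner ends).mp hi
              try simp only [Finset.mem_compl] at u1 u2
              simp [cross, u1, u2]
          · exact fun hh => absurd (Finset.mem_insert_self _ _) hh
  have hle : slack ends φ₁ m Tᶜ S < 1 := by
    have hs := Finset.sum_add_sum_compl S (excess ends φ₁ m Tᶜ)
    rw [sum_excess, h0, sub_self] at hs
    simp only [slack_eq, cross_compl] at f1 f2 ⊢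
    linarith
  have hsl := (isSemistable_iff ends φ₂ m Tᶜ).mp hneg S hne hnu
  simp only [slack] at hle hsl
  simp only [ell] at hd ⊢
  have hdd : degOn ends m Tᶜ S ≤ d := by
    by_contra hlt
    have : ((d + 1 : ℤ) : ℝ) ≤ (degOn ends m Tᶜ S : ℝ) := by exact_mod_cast not_le.mp hlt
    push_cast at this
    linarith
  have : (degOn ends m Tᶜ S : ℝ) ≤ (d : ℝ) := by exact_mod_cast hdd
  linarith

end Groth.Agent.S18376
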