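import Groth.Statements.S18377
import Groth.Agent.Misc14.VerlindeSchur
-- import your own Groth.Agent.* helpers here

set_option autoImplicit false
open Complex
open VerlindeComb

namespace Groth.Agent.S18377

open Finset Groth.Misc14.Verlinde


/-- Let r, k ≥ 1 be integers and v_1 > v_2 > ⋯ > v_r ≥ 0 integers below r + k; put z_j = exp(2πi v_j /
(r + k)) and, for μ = (μ_1, …, μ_r), let S_μ(z) = det(z_j^{μ_i + r - i}) / det(z_j^{r - i}) be the
value of the Schur polynomial (the z_j are distinct, so the Vandermonde denominator is nonzero).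
Then, summing over all μ with k > μ_1 ≥ ⋯ ≥ μ_r ≥ 0 and writing μ* = (k - μ_r, …, k - μ_1), one has
Σ_μ S_μ(z) S_{μ*}(z) = exp(2πi k (v_1 + ⋯ + v_r) / (r + k)) · k (r + k)^{r-1} / ∏_{i<j} (2 sin(π
(v_i - v_j) / (r + k)))². Indices are 0-based below: μ i stands for μ_{i+1}. -/
theorem result (r k : ℕ) (hr : 1 ≤ r) (hk : 1 ≤ k)
    (v : Fin r → ℕ) (hv : StrictAnti v) (hvlt : ∀ i, v i < r + k)
    (z : Fin r → ℂ) (hz : ∀ j, z j = Complex.exp (2 * Real.pi * Complex.I * (v j : ℂ) / ((r : ℂ) + k)))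
    (S : (Fin r → ℕ) → ℂ)
    (hS : ∀ μ : Fin r → ℕ, S μ =
      (Matrix.of fun i j : Fin r => z j ^ (μ i + (r - 1 - (i : ℕ)))).det /
        (Matrix.of fun i j : Fin r => z j ^ (r - 1 - (i : ℕ))).det) :
    (∑ μ ∈ (Finset.univ : Finset (Fin r → Fin k)).filter (fun μ : Fin r → Fin k => Antitone μ),
        S (fun i => (μ i : ℕ)) * S (fun i => k - (μ (Fin.rev i) : ℕ))) =
      Complex.exp (2 * Real.pi * Complex.I * (k : ℂ) * ((∑ j, v j : ℕ) : ℂ) / ((r : ℂ) + k)) *
        ((k : ℂ) * ((r : ℂ) + k) ^ (r - 1)) /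
        (∏ p ∈ (Finset.univ : Finset (Fin r × Fin r)).filter (fun p => p.1 < p.2),
          (((2 : ℝ) * Real.sin (Real.pi * ((v p.1 : ℝ) - (v p.2 : ℝ)) / ((r : ℝ) + k))) ^ 2 : ℝ) : ℂ) := by
  haveI : NeZero (r + k) := ⟨by omega⟩
  have hn0 : (r + k) ≠ 0 := by omega
  set V : Fin r → ℤ := fun j => (v j : ℤ) with hV
  set Dd := D (r + k) (delta r) V with hDd
  have hDd0 : Dd ≠ 0 := D_delta_ne_zero hn0 v hv.injective hvlt
  have hterm : ∀ μ : Fin r → Fin k, S (fun i => (μ i : ℕ)) * S (fun i => k - (μ (Fin.rev i) : ℕ)) =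
      srev r * E (r + k) ((((r + k) : ℤ) - 1) * ∑ j, V j : ℤ) / (Dd * Dd) *
        (D (r + k) V (fun i => ((μ i : ℕ) : ℤ) + delta r i) * D (r + k) (fun j => -V j) (fun i => ((μ i : ℕ) : ℤ) + delta r i)) := by
    intro μ
    rw [hS, hS, schur_eq (k := k) (fun i => (μ i : ℕ)) v z hz,
      schur_dual_eq (k := k) (fun i => (μ i : ℕ)) v (fun i => (μ i).2.le) z hz]
    have e : D (r + k) (fun i => -(((μ i : ℕ) : ℤ) + delta r i)) V = D (r + k) (fun j => -V j) (fun i => ((μ i : ℕ) : ℤ) + delta r i) := by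
      rw [D_swap]; unfold D; congr 1; ext i j; simp; ring_nf
    rw [D_swap (r + k) V, ← e]
    simp only [hDd, hV, Nat.cast_add]
    ring
  rw [Finset.sum_congr rfl (fun μ _ => hterm μ), ← Finset.mul_sum]
  have hsum : ∑ μ ∈ (univ : Finset (Fin r → Fin k)).filter (fun μ => Antitone μ),
      (D (r + k) V (fun i => ((μ i : ℕ) : ℤ) + delta r i) * D (r + k) (fun j => -V j) (fun i => ((μ i : ℕ) : ℤ) + delta r i))
      = ∑ a ∈ (univ : Finset (Fin r → Fin (r + k))).filter (fun a => StrictAnti a ∧ ¬ ∃ j, a j = ⟨(r + k) - 1, by omega⟩),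
          DD (r + k) V (fun j => -V j) a := by
    refine Finset.sum_bij (fun μ _ i => ⟨(μ i : ℕ) + (r - 1 - (i : ℕ)), by have := (μ i).2; omega⟩) ?_ ?_ ?_ ?_
    · intro μ hμ
      simp only [mem_filter, mem_univ, true_and, not_exists] at hμ ⊢
      refine ⟨fun i j hij => ?_, fun j hj => ?_⟩
      · have h1 : (μ j : ℕ) ≤ μ i := hμ hij.le
        have h2 : (i : ℕ) < j := hij
        show (μ j : ℕ) + _ < (μ i : ℕ) + _
        have := j.2; omega
      · have := congrArg Fin.val hj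
        have := (μ j).2
        simp only at *; omega
    · intro μ _ μ' _ h
      funext i
      have := congrArg Fin.val (congrFun h i)
      simp only at this
      exact Fin.ext (by omega)
    · intro a ha
      simp only [mem_filter, mem_univ, true_and, not_exists] at ha
      obtain ⟨ha, hne⟩ := ha
      have hlt : ∀ i, (a i : ℕ) - (r - 1 - (i : ℕ)) < k := by
        intro i
        have h0 := strictAnti_gap ha (show (⟨0, by omega⟩ : Fin r) ≤ i from Nat.zero_le _)
        have h1 : (a ⟨0, by omega⟩ : ℕ) ≠ (r + k) - 1 := fun h => hne _ (Fin.ext h)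
        have := (strictAnti_ge ha i).1
        have := (a ⟨0, by omega⟩).2
        have := i.2
        simp only at h0
        omega
      refine ⟨fun i => ⟨(a i : ℕ) - (r - 1 - (i : ℕ)), hlt i⟩, ?_, ?_⟩
      · simp only [mem_filter, mem_univ, true_and]
        intro i j hij
        have := strictAnti_gap ha hij
        have := (strictAnti_ge ha i).1
        have := (strictAnti_ge ha j).1
        have := Fin.le_def.mp hij
        show (a j : ℕ) - _ ≤ (a i : ℕ) - _
        have := j.2; omega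
      · funext i; have := (strictAnti_ge ha i).1; exact Fin.ext (by simp only; omega)
    · intro μ _
      simp only [DD, delta]
      push_cast
      rfl
  rw [hsum]
  have hsep : ∀ i j, (((r + k : ℕ)) : ℤ) ∣ V i - V j → i = j := fun i j h => hv.injective (by
    have h0 : V i - V j = 0 := Int.eq_zero_of_abs_lt_dvd h (by
      have := hvlt i; have := hvlt j; rw [abs_lt]; simp only [V]; omega)
    simp only [V] at h0; omega)
  have hall := sum_sorted_DD hn0 V (fun j => -V j)
  have hmem := sum_sorted_mem_DD V (fun j => -V j) (by simp) (⟨(r + k) - 1, by omega⟩ : Fin (r + k))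
  rw [matchSum_self V hsep, mul_one] at hall hmem
  have hsplit := Finset.sum_filter_add_sum_filter_not ((univ : Finset (Fin r → Fin (r + k))).filter (fun a => StrictAnti a))
    (fun a => ∃ j, a j = (⟨(r + k) - 1, by omega⟩ : Fin (r + k))) (DD (r + k) V (fun j => -V j))
  rw [Finset.filter_filter, Finset.filter_filter, hall, hmem] at hsplit
  rw [eq_sub_of_add_eq' hsplit, ← Complex.ofReal_prod, P_eq_D_mul_D v, D_neg_delta, ← hV, ← hDd]
  have hE : Complex.exp (2 * Real.pi * Complex.I * (k : ℂ) * ((∑ j, v j : ℕ) : ℂ) / ((r : ℂ) + k)) =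
      E (r + k) ((((r + k) : ℤ) - 1) * ∑ j, V j : ℤ) * E (r + k) ((-((r : ℤ) - 1)) * ∑ j, V j : ℤ) := by
    rw [← E_add, E, hV]; push_cast; congr 1; ring
  rw [hE]
  have hfac : (((r + k : ℕ)) : ℂ) ^ r - (r : ℂ) * (((r + k : ℕ)) : ℂ) ^ r / (((r + k : ℕ)) : ℂ) =
      (k : ℂ) * ((r : ℂ) + k) ^ (r - 1) := by
    obtain ⟨m, rfl⟩ : ∃ m, r = m + 1 := ⟨r - 1, by omega⟩
    simp only [Nat.add_sub_cancel, pow_succ]
    have hN0 : ((m + 1 : ℕ) : ℂ) + k ≠ 0 := by exact_mod_cast (by omega : m + 1 + k ≠ 0)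
    push_cast at hN0 ⊢
    field_simp
    ring
  rw [hfac]
  set e1 := E (r + k) ((((r + k : ℕ) : ℤ) - 1) * ∑ j, V j : ℤ) with he1
  set e2 := E (r + k) ((-((r : ℤ) - 1)) * ∑ j, V j : ℤ) with he2
  have he20 : e2 ≠ 0 := E_ne_zero _ _
  have hs : srev r ≠ 0 := fun h => by simpa [h] using srev_mul_self r
  field_simp
  simp only [e1, Nat.cast_add] at *
  linear_combination ((k : ℂ) * ((r : ℂ) + k) ^ (r - 1)) * E (r + k) ((((r : ℤ) + k) - 1) * ∑ j, V j : ℤ) * srev_mul_self r

end Groth.Agent.S18377
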