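import Groth.Statements.S18378
import Groth.Agent.Misc14.VerlindeSchur
-- import your own Groth.Agent.* helpers here

set_option autoImplicit false
open Complex
open VerlindeComb

namespace Groth.Agent.S18378

open Finset Groth.Misc14.Verlinde


/-- Let r, k ≥ 1 be integers and v, v' two integer vectors with r + k > v_1 > ⋯ > v_r ≥ 0 and r + k >
v'_1 > ⋯ > v'_r ≥ 0 whose difference v - v' is not a constant vector (a, …, a). Put z_j = exp(2πi
v_j / (r + k)), z'_j = exp(2πi v'_j / (r + k)), let S_μ(w) = det(w_j^{μ_i + r - i}) / det(w_j^{r -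
i}) be the Schur value at w = z or z', and write |x| for the sum of the coordinates of a vector and
μ* = (k - μ_r, …, k - μ_1). Then the sum over all μ with k ≥ μ_1 ≥ ⋯ ≥ μ_{r-1} ≥ μ_r = 0 of exp(-2πi
|μ| |v| / (r (r + k))) · exp(-2πi |μ*| |v'| / (r (r + k))) · S_μ(z) · S_{μ*}(z') is zero. The
vanishing is the orthogonality of distinct characters and holds exactly for non-equivalent v, v';
for v - v' constant the sum is nonzero. Indices are 0-based below: μ i stands for μ_{i+1}. -/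
theorem result (r k : ℕ) (hr : 1 ≤ r)
    (hk : 1 ≤ k) (v v' : Fin r → ℕ) (hv : StrictAnti v) (hvlt : ∀ i, v i < r + k) (hv' : StrictAnti v')
    (hv'lt : ∀ i, v' i < r + k) (hne : ¬ ∃ a : ℤ, ∀ i, (v i : ℤ) - (v' i : ℤ) = a)
    (z z' : Fin r → ℂ) (hz : ∀ j, z j = Complex.exp (2 * Real.pi * Complex.I * (v j : ℂ) / ((r : ℂ) + k)))
    (hz' : ∀ j, z' j = Complex.exp (2 * Real.pi * Complex.I * (v' j : ℂ) / ((r : ℂ) + k)))
    (S S' : (Fin r → ℕ) → ℂ)
    (hS : ∀ μ : Fin r → ℕ, S μ =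
      (Matrix.of fun i j : Fin r => z j ^ (μ i + (r - 1 - (i : ℕ)))).det /
        (Matrix.of fun i j : Fin r => z j ^ (r - 1 - (i : ℕ))).det)
    (hS' : ∀ μ : Fin r → ℕ, S' μ =
      (Matrix.of fun i j : Fin r => z' j ^ (μ i + (r - 1 - (i : ℕ)))).det /
        (Matrix.of fun i j : Fin r => z' j ^ (r - 1 - (i : ℕ))).det) :
    (∑ μ ∈ (Finset.univ : Finset (Fin r → Fin (k + 1))).filter
        (fun μ : Fin r → Fin (k + 1) => Antitone μ ∧ ∀ i : Fin r, (i : ℕ) = r - 1 → (μ i : ℕ) = 0),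
      Complex.exp (-(2 * Real.pi * Complex.I * ((∑ i, (μ i : ℕ) : ℕ) : ℂ) * ((∑ j, v j : ℕ) : ℂ) /
          ((r : ℂ) * ((r : ℂ) + k)))) *
      Complex.exp (-(2 * Real.pi * Complex.I * ((∑ i, (k - (μ (Fin.rev i) : ℕ)) : ℕ) : ℂ) *
          ((∑ j, v' j : ℕ) : ℂ) / ((r : ℂ) * ((r : ℂ) + k)))) *
      S (fun i => (μ i : ℕ)) * S' (fun i => k - (μ (Fin.rev i) : ℕ))) = 0 := by
  haveI : NeZero (r + k) := ⟨by omega⟩
  have hrC : (r : ℂ) ≠ 0 := by exact_mod_cast (by omega : r ≠ 0)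
  have hn0 : (r + k) ≠ 0 := by omega
  set V : Fin r → ℤ := fun j => (v j : ℤ) with hV
  set V' : Fin r → ℤ := fun j => (v' j : ℤ) with hV'
  set d : ℤ := ∑ i, delta r i with hd
  set L : ℤ := ∑ i, V i + ∑ i, -V' i with hL
  set C : ℂ := srev r * E (r + k) ((((r + k) : ℤ) - 1) * ∑ j, V' j : ℤ) / (D (r + k) (delta r) V * D (r + k) (delta r) V') *
    E (r + k) ((((d * L : ℤ) : ℂ) - ((r : ℂ) * k) * ((∑ j, V' j : ℤ) : ℂ)) / (r : ℂ)) with hC
  have hterm : ∀ μ : Fin r → Fin (k + 1),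
      Complex.exp (-(2 * Real.pi * Complex.I * ((∑ i, (μ i : ℕ) : ℕ) : ℂ) * ((∑ j, v j : ℕ) : ℂ) /
          ((r : ℂ) * ((r : ℂ) + k)))) *
      Complex.exp (-(2 * Real.pi * Complex.I * ((∑ i, (k - (μ (Fin.rev i) : ℕ)) : ℕ) : ℂ) *
          ((∑ j, v' j : ℕ) : ℂ) / ((r : ℂ) * ((r : ℂ) + k)))) *
      S (fun i => (μ i : ℕ)) * S' (fun i => k - (μ (Fin.rev i) : ℕ)) =
      C * twisted (r + k) V (fun j => -V' j) (fun i => ((μ i : ℕ) : ℤ) + delta r i) := by
    intro μ
    rw [hS, hS', schur_eq (k := k) (fun i => (μ i : ℕ)) v z hz,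
      schur_dual_eq (k := k) (fun i => (μ i : ℕ)) v' (fun i => Nat.le_of_lt_succ (μ i).2) z' hz']
    have e : D (r + k) (fun i => -(((μ i : ℕ) : ℤ) + delta r i)) V' = D (r + k) (fun j => -V' j) (fun i => ((μ i : ℕ) : ℤ) + delta r i) := by
      rw [D_swap]; unfold D; congr 1; ext i j; simp; ring_nf
    have hT : ((∑ i, (k - (μ (Fin.rev i) : ℕ)) : ℕ) : ℂ) = (r : ℂ) * k - ((∑ i, (μ i : ℕ) : ℕ) : ℂ) := by
      rw [← Equiv.sum_comp Fin.revPerm (fun i => (μ i : ℕ)), eq_sub_iff_add_eq, ← Nat.cast_add, ← Finset.sum_add_distrib]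
      simp only [Fin.revPerm_apply]
      rw [Finset.sum_congr rfl (fun i _ => Nat.sub_add_cancel (Nat.le_of_lt_succ (μ (Fin.rev i)).2))]
      simp
    rw [hT]
    have hexp : Complex.exp (-(2 * Real.pi * Complex.I * ((∑ i, (μ i : ℕ) : ℕ) : ℂ) * ((∑ j, v j : ℕ) : ℂ) /
          ((r : ℂ) * ((r : ℂ) + k)))) *
        Complex.exp (-(2 * Real.pi * Complex.I * ((r : ℂ) * k - ((∑ i, (μ i : ℕ) : ℕ) : ℂ)) *
          ((∑ j, v' j : ℕ) : ℂ) / ((r : ℂ) * ((r : ℂ) + k)))) =
        E (r + k) ((((d * L : ℤ) : ℂ) - ((r : ℂ) * k) * ((∑ j, V' j : ℤ) : ℂ)) / (r : ℂ)) *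
          E (r + k) (-((L : ℂ) * ((∑ i, (((μ i : ℕ) : ℤ) + delta r i) : ℤ) : ℂ)) / (r : ℂ)) := by
      rw [← Complex.exp_add, ← E_add, E]
      congr 1
      rw [Finset.sum_add_distrib, hd, hL, hV, hV']
      have : ((r : ℂ) + k) ≠ 0 := by exact_mod_cast hn0
      simp only [Finset.sum_neg_distrib]
      push_cast
      field_simp
      ring
    rw [hexp, twisted, ← hL, D_swap (r + k) V, ← e, hC]
    simp only [hV, hV', Nat.cast_add, D_swap (r + k) (fun i => ((μ i : ℕ) : ℤ) + delta r i) (fun j => (v j : ℤ))]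
    ring
  rw [Finset.sum_congr rfl (fun μ _ => hterm μ), ← Finset.mul_sum]
  apply mul_eq_zero_of_right
  have hsum : ∑ μ ∈ (univ : Finset (Fin r → Fin (k + 1))).filter
        (fun μ : Fin r → Fin (k + 1) => Antitone μ ∧ ∀ i : Fin r, (i : ℕ) = r - 1 → (μ i : ℕ) = 0),
      twisted (r + k) V (fun j => -V' j) (fun i => ((μ i : ℕ) : ℤ) + delta r i) =
      ∑ a ∈ (univ : Finset (Fin r → Fin (r + k))).filter (fun a => StrictAnti a ∧ ∀ i : Fin r, (i : ℕ) = r - 1 → a i = 0),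
        twisted (r + k) V (fun j => -V' j) (fun i => ((a i : ℕ) : ℤ)) := by
    refine Finset.sum_bij (fun μ _ i => ⟨(μ i : ℕ) + (r - 1 - (i : ℕ)), by have := (μ i).2; omega⟩) ?_ ?_ ?_ ?_
    · intro μ hμ
      simp only [mem_filter, mem_univ, true_and] at hμ ⊢
      refine ⟨fun i j hij => ?_, fun i hi => Fin.ext ?_⟩
      · have h1 : (μ j : ℕ) ≤ μ i := hμ.1 hij.le
        have h2 : (i : ℕ) < j := hij
        show (μ j : ℕ) + _ < (μ i : ℕ) + _
        have := j.2; omega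
      · have := hμ.2 i hi
        simp only [Fin.val_zero]; omega
    · intro μ _ μ' _ h
      funext i
      have := congrArg Fin.val (congrFun h i)
      simp only at this
      exact Fin.ext (by omega)
    · intro a ha
      simp only [mem_filter, mem_univ, true_and] at ha
      obtain ⟨ha, h0⟩ := ha
      have hlt : ∀ i, (a i : ℕ) - (r - 1 - (i : ℕ)) < k + 1 := fun i => by
        have := (strictAnti_ge ha i).2; omega
      refine ⟨fun i => ⟨(a i : ℕ) - (r - 1 - (i : ℕ)), hlt i⟩, ?_, ?_⟩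
      · simp only [mem_filter, mem_univ, true_and]
        refine ⟨fun i j hij => ?_, fun i hi => ?_⟩
        · have := strictAnti_gap ha hij
          have := (strictAnti_ge ha i).1
          have := (strictAnti_ge ha j).1
          have := Fin.le_def.mp hij
          show (a j : ℕ) - _ ≤ (a i : ℕ) - _
          have := j.2; omega
        · rw [h0 i hi]; simp
      · funext i; have := (strictAnti_ge ha i).1; exact Fin.ext (by simp only; omega)
    · intro μ _
      simp only [delta]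
      push_cast
      rfl
  rw [hsum]
  by_cases hdvd : (r : ℤ) ∣ L
  swap
  · exact twisted_sum_eq_zero_of_not_dvd _ _ _ (fun a => by simp) hdvd
  obtain ⟨Q, hQ⟩ := hdvd
  rw [twisted_sum_of_dvd (by omega) V (fun j => -V' j) _ (fun a => by simp) hQ]
  apply mul_eq_zero_of_right
  refine Finset.sum_eq_zero fun τ _ => mul_eq_zero_of_right _ (if_neg fun h => hne ⟨Q, ?_⟩)
  have hex := exact_of_matching hn0 V (fun j => -V' j) Q (-((r + k) : ℤ)) hQ (fun i j => by
    have := hvlt i; have := hv'lt j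
    simp only [hV, hV']; omega) τ h
  have hw : StrictAnti (v' ∘ τ) := by
    intro i j hij
    have h1 := hex i; have h2 := hex j; have := hv hij
    simp only [hV, hV'] at h1 h2
    simp only [Function.comp_apply]; omega
  have he : v' ∘ τ = v' := (hw.range_inj hv').mp (τ.surjective.range_comp v')
  intro i
  have h1 := hex i
  have h2 : v' (τ i) = v' i := congrFun he i
  simp only [hV, hV'] at h1
  omega

end Groth.Agent.S18378
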