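import Groth.Statements.S18379
import Groth.Agent.Misc14.VerlindeSchur
-- import your own Groth.Agent.* helpers here

set_option autoImplicit false
open VerlindeComb

namespace Groth.Agent.S18379

open Finset Groth.Misc14.Verlinde

theorem delta_sep {r k : ℕ} (i j : Fin r) (h : ((r + k : ℕ) : ℤ) ∣ delta r i - delta r j) : i = j := by
  have h0 : delta r i - delta r j = 0 := by
    apply Int.eq_zero_of_abs_lt_dvd h
    rw [abs_lt]; simp only [delta]; omega
  apply Fin.ext; simp only [delta] at h0; omega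


/-- Let r, k ≥ 1 be integers. Summing over all integer vectors v with r + k > v_1 > v_2 > ⋯ > v_{r-1} >
v_r = 0, one has Σ_v ∏_{i<j} (2 sin(π (v_i - v_j) / (r + k)))² = r (r + k)^{r-1}; that is, the
genus-zero Verlinde number of rank r and level k with no parabolic points, defined as (r (r +
k)^{r-1})⁻¹ times this sum, equals 1. Indices are 0-based below: v i stands for v_{i+1}. -/
theorem result (r k : ℕ) (hr : 1 ≤ r) (hk : 1 ≤ k) :
    (∑ v ∈ (Finset.univ : Finset (Fin r → Fin (r + k))).filter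
        (fun v : Fin r → Fin (r + k) => StrictAnti v ∧ ∀ i : Fin r, (i : ℕ) = r - 1 → (v i : ℕ) = 0),
      ∏ p ∈ (Finset.univ : Finset (Fin r × Fin r)).filter (fun p => p.1 < p.2),
        ((2 : ℝ) * Real.sin (Real.pi * ((v p.1 : ℕ) - (v p.2 : ℕ) : ℝ) / ((r : ℝ) + k))) ^ 2) =
      (r : ℝ) * ((r : ℝ) + k) ^ (r - 1) := by
  haveI : NeZero (r + k) := ⟨by omega⟩
  apply Complex.ofReal_injective
  rw [Complex.ofReal_sum]
  have hP : ∀ v : Fin r → Fin (r + k),
      ((∏ p ∈ (Finset.univ : Finset (Fin r × Fin r)).filter (fun p => p.1 < p.2),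
        ((2 : ℝ) * Real.sin (Real.pi * ((v p.1 : ℕ) - (v p.2 : ℕ) : ℝ) / ((r : ℝ) + k))) ^ 2 : ℝ) : ℂ) =
      twisted (r + k) (delta r) (fun i => -delta r i) (fun j => (v j : ℕ)) := by
    intro v
    rw [P_eq_D_mul_D (fun j => (v j : ℕ)), twisted, Finset.sum_neg_distrib, add_neg_cancel]
    simp [E_zero]
  rw [Finset.sum_congr rfl (fun v _ => hP v),
    twisted_sum_of_dvd (by omega) _ _ _ (fun v => by rw [Finset.mem_filter]; exact ⟨fun h => ⟨h.2.1, fun i hi => Fin.ext (h.2.2 i hi)⟩, fun h => ⟨Finset.mem_univ _, h.1, fun i hi => congrArg Fin.val (h.2 i hi)⟩⟩) (Q := 0) (by simp)]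
  simp only [sub_zero]
  rw [matchSum_self (delta r) delta_sep, mul_one]
  obtain ⟨m, rfl⟩ : ∃ m, r = m + 1 := ⟨r - 1, by omega⟩
  have : ((m + 1 : ℕ) : ℂ) + k ≠ 0 := by exact_mod_cast (by omega : m + 1 + k ≠ 0)
  push_cast at this ⊢
  field_simp
  ring

end Groth.Agent.S18379
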