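import Groth.Statements.S18380
import Groth.Agent.Variety2.ProjBasics
import Groth.Agent.PicAux.EffCartierLine
import Groth.Agent.VectorBundles.LineBundleHom
import Mathlib.RingTheory.Artinian.Algebra
-- import your own Groth.Agent.* helpers here

set_option autoImplicit false
universe u
open Divisors

namespace Groth.Agent.S18380

open CategoryTheory AlgebraicGeometry in
/-- Let k be an algebraically closed field of characteristic 0 and M a scheme, smooth and projective
over k. Let D₁ and D₂ be effective Cartier divisors on M, given by invertible ideal sheaves with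
I_{D₂} ⊆ I_{D₁} (so D₁ is a closed subscheme of D₂). If I_{D₁} and I_{D₂} are isomorphic as
O_M-modules, that is D₁ and D₂ are linearly equivalent, then D₁ = D₂. The published statement is an
equivalence, for effective divisors on a smooth proper Deligne–Mumford stack with equal divisor
classes; its proof reduces to a smooth projective scheme, the case stated here, and the other
direction is immediate. -/
theorem result (k : Type u) [Field k] [IsAlgClosed k] [CharZero k]
    (M : Scheme.{u}) (f : M ⟶ Spec (CommRingCat.of k)) [Smooth f]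
    (hproj : Neron.IsProjectiveOver k (Over.mk f))
    (D₁ D₂ : M.IdealSheafData) (h₁ : BlowUp.IsEffCartierIdeal D₁) (h₂ : BlowUp.IsEffCartierIdeal D₂)
    (hle : D₂ ≤ D₁) (hiso : Nonempty (ClSub.idealMod D₁ ≅ ClSub.idealMod D₂)) :
    D₁ = D₂ := by
  open CategoryTheory.Limits in
  obtain ⟨e⟩ := hiso
  -- the inclusion of the ideal of `D₂` in the ideal of `D₁`
  obtain ⟨j, hj⟩ : ∃ j : ClSub.idealMod D₂ ⟶ ClSub.idealMod D₁,
      ∀ (W : M.Opens) x, OmegaSh.idealSect D₁ W (j.app W x) = OmegaSh.idealSect D₂ W x := by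
    have h0 : ∀ (W : M.Opens) x, D₁.subschemeι.app W (OmegaSh.idealSect D₂ W x) = 0 := fun W x => by
      have := Scheme.Hom.congr_app (Scheme.IdealSheafData.inclusion_subschemeι hle).symm W
      rw [this, Scheme.Hom.comp_app]
      change D₁.subscheme.presheaf.map _ ((Scheme.IdealSheafData.inclusion hle).app _
        (D₂.subschemeι.app W (OmegaSh.idealSect D₂ W x))) = 0
      rw [Groth.OmegaSheaf.subschemeι_app_idealSect, map_zero, map_zero]
    refine ⟨kernel.lift (ClSub.toSubscheme D₁) (ClSub.idealModι D₂) ?_, fun W x => ?_⟩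
    · ext W x
      exact h0 W x
    · exact congr(($(kernel.lift_ι (ClSub.toSubscheme D₁) (ClSub.idealModι D₂) _)).app W x)
  have hinv := Groth.PicAux.isInvertible_idealMod h₁
  obtain ⟨h, hh⟩ := Groth.VectorBundles.exists_eq_smul_of_isInvertible hinv (e.hom ≫ j)
  have hkey : ∀ (W : M.Opens) (x : Γ(ClSub.idealMod D₁, W)),
      OmegaSh.idealSect D₂ W (e.hom.app W x) =
        Groth.PicAux.resX M (le_top : W ≤ ⊤) h * OmegaSh.idealSect D₁ W x := fun W x => by
    rw [← hj W (e.hom.app W x), ← Groth.OmegaSheaf.idealSect_smul]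
    exact congrArg _ (hh W x)
  have hnzd : h ∈ nonZeroDivisors Γ(M, ⊤) := by
    rw [mem_nonZeroDivisors_iff_right]
    intro a ha
    refine Groth.Divisors.section_ext fun x hx => ?_
    obtain ⟨W, hxW, -, k, hk, hnz, -⟩ := Groth.PicAux.exists_gen_idealMod h₂ x ⊤ trivial
    have hd := hnz x hxW
    have he : k = e.hom.app W.1 (e.inv.app W.1 k) := congr(($(e.inv_hom_id)).app W.1 k).symm
    rw [he, hkey, map_mul] at hd
    have hgerm : M.presheaf.germ W.1 x hxW (Groth.PicAux.resX M (le_top : W.1 ≤ ⊤) h) =
        M.presheaf.germ ⊤ x trivial h := TopCat.Presheaf.germ_res_apply M.presheaf _ x hxW h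
    rw [hgerm] at hd
    have ha' := congrArg (M.presheaf.germ ⊤ x trivial) ha
    rw [map_mul, map_zero] at ha'
    rw [map_zero]
    exact (mem_nonZeroDivisors_iff_right.1 (mul_mem_nonZeroDivisors.1 hd).1) _ ha'
  have hunit : IsUnit h := by
    obtain ⟨n, i, hi, hif⟩ := hproj
    have : IsProper (CohB1.ProjSpaceOver.toBase n (Spec (CommRingCat.of k))) :=
      Groth.Variety2.isProper_projSpaceOver_toBase _ _
    have hp : IsProper f := by
      have hif' : f = i ≫ CohB1.ProjSpaceOver.toBase n (Spec (CommRingCat.of k)) := hif.symm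
      rw [hif']; infer_instance
    let ψ : CommRingCat.of k ⟶ Γ(M, ⊤) := (Scheme.ΓSpecIso _).inv ≫ f.appTop
    letI : Algebra k Γ(M, ⊤) := ψ.hom.toAlgebra
    refine IsArtinianRing.isUnit_of_isIntegral_of_nonZeroDivisor (R := k) ?_ hnzd
    have hint : ψ.hom.IsIntegral := RingHom.IsIntegral.trans _ _
      (RingHom.isIntegral_of_surjective _
        (Scheme.ΓSpecIso (CommRingCat.of k)).symm.commRingCatIsoToRingEquiv.surjective)
      (isIntegral_appTop_of_universallyClosed f)
    exact hint h
  refine le_antisymm (fun W x hx => ?_) hle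
  obtain ⟨y, hy⟩ := Groth.OmegaSheaf.exists_idealSect D₁ W hx
  have hu : IsUnit (Groth.PicAux.resX M (le_top : W.1 ≤ ⊤) h) := hunit.map _
  rw [← (D₂.ideal W).unit_mul_mem_iff_mem hu, ← hy, ← hkey]
  exact Groth.OmegaSheaf.idealSect_mem D₂ W _

end Groth.Agent.S18380
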