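import Groth.Statements.S18381
import Groth.Agent.Misc14.VerlindeSchur
import Groth.Agent.S18377
-- import your own Groth.Agent.* helpers here

set_option autoImplicit false
open Complex
open VerlindeComb

namespace Groth.Agent.S18381

open Finset Groth.Misc14.Verlinde


/-- Fix integers r, k ≥ 1. For g ≥ 0, d ∈ ℤ and parabolic data ω given by a finite family of partitions
λ_x with k ≥ λ_{x,1} ≥ ⋯ ≥ λ_{x,r} ≥ 0, write |ω| = Σ_x |λ_x|, z(v)_j = exp(2πi v_j / (r + k)),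
S_λ(v) = det(z(v)_j^{λ_i + r - i}) / det(z(v)_j^{r - i}) (Schur value), P(v) = ∏_{i<j} (2 sin(π (v_i
- v_j)/(r + k)))², and let V_g(r, d, ω) = (-1)^{d(r-1)} (k/r)^g (r (r+k)^{r-1})^{g-1} Σ_v exp(2πi
(d/r - |ω| / (r (r+k))) Σ_j v_j) · ∏_x S_{λ_x}(v) / P(v)^{g-1}, the sum over integer vectors r + k >
v_1 > ⋯ > v_{r-1} > v_r = 0 (the right-hand side of the Verlinde formula; it depends on ω only
through |ω| and the function v ↦ ∏_x S_{λ_x}(v), and is written that way below, with (r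
(r+k)^{r-1})^{g-1} as the g-th power divided once and 1/P^{g-1} as P/P^g). Then V_{g+1}(r, d, ω) =
Σ_μ V_g(r, d, ω^μ), the sum over all μ with k > μ_1 ≥ ⋯ ≥ μ_r ≥ 0, where ω^μ adjoins to ω the two
partitions μ and μ* = (k - μ_r, …, k - μ_1). Indices are 0-based below. -/
theorem result (r k : ℕ) (hr : 1 ≤ r) (hk : 1 ≤ k)
    (g : ℕ) (d : ℤ) (ι : Type) [Fintype ι] (lam : ι → Fin r → ℕ)
    (hlam : ∀ x, Antitone (lam x) ∧ ∀ i, lam x i ≤ k)
    (z : (Fin r → ℕ) → Fin r → ℂ)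
    (hz : ∀ v j, z v j = Complex.exp (2 * Real.pi * Complex.I * (v j : ℂ) / ((r : ℂ) + k)))
    (S : (Fin r → ℕ) → (Fin r → ℕ) → ℂ)
    (hS : ∀ μ v, S μ v = (Matrix.of fun i j : Fin r => z v j ^ (μ i + (r - 1 - (i : ℕ)))).det /
        (Matrix.of fun i j : Fin r => z v j ^ (r - 1 - (i : ℕ))).det)
    (P : (Fin r → ℕ) → ℝ)
    (hP : ∀ v, P v = ∏ p ∈ (Finset.univ : Finset (Fin r × Fin r)).filter (fun p => p.1 < p.2),
        ((2 : ℝ) * Real.sin (Real.pi * ((v p.1 : ℝ) - (v p.2 : ℝ)) / ((r : ℝ) + k))) ^ 2)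
    (V : ℕ → ℤ → ℕ → ((Fin r → ℕ) → ℂ) → ℂ)
    (hV : ∀ (g' : ℕ) (d' : ℤ) (w : ℕ) (Sω : (Fin r → ℕ) → ℂ), V g' d' w Sω =
        (-1 : ℂ) ^ (d' * ((r : ℤ) - 1)) * ((k : ℂ) / r) ^ g' *
          ((((r : ℂ) * ((r : ℂ) + k) ^ (r - 1)) ^ g') / ((r : ℂ) * ((r : ℂ) + k) ^ (r - 1))) *
          ∑ v ∈ (Finset.univ : Finset (Fin r → Fin (r + k))).filter
            (fun v : Fin r → Fin (r + k) => StrictAnti v ∧ ∀ i : Fin r, (i : ℕ) = r - 1 → (v i : ℕ) = 0),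
            Complex.exp (2 * Real.pi * Complex.I * ((d' : ℂ) / r - (w : ℂ) / ((r : ℂ) * ((r : ℂ) + k))) *
                ((∑ j, (v j : ℕ) : ℕ) : ℂ)) *
              Sω (fun j => (v j : ℕ)) *
              (((P (fun j => (v j : ℕ)) : ℂ)) / ((P (fun j => (v j : ℕ)) : ℂ)) ^ g')) :
    V (g + 1) d (∑ x, ∑ i, lam x i) (fun v => ∏ x, S (lam x) v) =
      ∑ μ ∈ (Finset.univ : Finset (Fin r → Fin k)).filter (fun μ : Fin r → Fin k => Antitone μ),
        V g d ((∑ x, ∑ i, lam x i) + (∑ i, (μ i : ℕ)) + (∑ i, (k - (μ (Fin.rev i) : ℕ))))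
          (fun v => (∏ x, S (lam x) v) * S (fun i => (μ i : ℕ)) v *
            S (fun i => k - (μ (Fin.rev i) : ℕ)) v) := by
  classical
  have hrC : (r : ℂ) ≠ 0 := by exact_mod_cast (by omega : r ≠ 0)
  have hnC : ((r : ℂ) + k) ≠ 0 := by exact_mod_cast (by omega : r + k ≠ 0)
  set N : ℂ := (r : ℂ) * ((r : ℂ) + k) ^ (r - 1) with hN
  have hN0 : N ≠ 0 := mul_ne_zero hrC (pow_ne_zero _ hnC)
  set w0 : ℕ := ∑ x, ∑ i, lam x i with hw0
  set Pi : (Fin r → ℕ) → ℂ := fun v => ∏ x, S (lam x) v with hPi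
  have hw : ∀ μ : Fin r → Fin k, w0 + (∑ i, (μ i : ℕ)) + (∑ i, (k - (μ (Fin.rev i) : ℕ))) = w0 + r * k := by
    intro μ
    rw [add_assoc]; congr 1
    rw [← Equiv.sum_comp Fin.revPerm (fun i => (μ i : ℕ)), ← Finset.sum_add_distrib]
    simp only [Fin.revPerm_apply]
    rw [Finset.sum_congr rfl (fun i _ => Nat.add_sub_cancel' (μ (Fin.rev i)).2.le)]
    simp
  simp only [hw, hV]
  rw [← Finset.mul_sum, Finset.sum_comm, Finset.mul_sum, Finset.mul_sum]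
  refine Finset.sum_congr rfl fun v hv => ?_
  set u : Fin r → ℕ := fun j => (v j : ℕ) with hu
  have hsa : StrictAnti v := ((Finset.mem_filter.mp hv).2).1
  have hus : StrictAnti u := fun i j hij => hsa hij
  have h377 := Groth.Agent.S18377.result r k hr hk u hus (fun i => (v i).2) (z u) (hz u) (fun μ => S μ u)
    (fun μ => hS μ u)
  have hP0 : ((P u : ℝ) : ℂ) ≠ 0 := by
    rw [hP, P_eq_D_mul_D u, D_neg_delta]
    have hD : D (r + k) (delta r) (fun j => (u j : ℤ)) ≠ 0 :=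
      D_delta_ne_zero (by omega) u hus.injective (fun i => (v i).2)
    have hs : srev r ≠ 0 := fun h => by simpa [h] using srev_mul_self r
    exact mul_ne_zero hD (mul_ne_zero (mul_ne_zero hs (E_ne_zero _ _)) hD)
  beta_reduce at h377
  rw [← Complex.ofReal_prod, ← hP u] at h377
  have hrw : ∀ μ : Fin r → Fin k, ∀ c e q : ℂ,
      c * (e * ((∏ x, S (lam x) u) * S (fun i => (μ i : ℕ)) u * S (fun i => k - (μ (Fin.rev i) : ℕ)) u) * q) =
      (c * e * (∏ x, S (lam x) u) * q) * (S (fun i => (μ i : ℕ)) u * S (fun i => k - (μ (Fin.rev i) : ℕ)) u) :=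
    fun μ c e q => by ring
  simp only [Finset.mul_sum, hrw]
  rw [← Finset.mul_sum, h377]
  set σ : ℂ := ((∑ j, u j : ℕ) : ℂ) with hσ
  have hexp : Complex.exp (2 * Real.pi * Complex.I * ((d : ℂ) / r - ((w0 + r * k : ℕ) : ℂ) / ((r : ℂ) * ((r : ℂ) + k))) * σ) *
      Complex.exp (2 * Real.pi * Complex.I * (k : ℂ) * σ / ((r : ℂ) + k)) =
      Complex.exp (2 * Real.pi * Complex.I * ((d : ℂ) / r - (w0 : ℂ) / ((r : ℂ) * ((r : ℂ) + k))) * σ) := by
    rw [← Complex.exp_add]; congr 1; push_cast; field_simp; ring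
  rw [← hexp]
  have hk' : (k : ℂ) * ((r : ℂ) + k) ^ (r - 1) = (k : ℂ) / r * N := by rw [hN]; field_simp
  rw [hk']
  set e1 := Complex.exp (2 * Real.pi * Complex.I * ((d : ℂ) / r - ((w0 + r * k : ℕ) : ℂ) / ((r : ℂ) * ((r : ℂ) + k))) * σ)
  set e2 := Complex.exp (2 * Real.pi * Complex.I * (k : ℂ) * σ / ((r : ℂ) + k))
  simp only [Pi, pow_succ, div_pow]
  field_simp

end Groth.Agent.S18381
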