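import Groth.Statements.S18384
import Mathlib.RingTheory.Filtration
-- import your own Groth.Agent.* helpers here

set_option autoImplicit false
universe u
open CategoryTheory CategoryTheory.Limits AlgebraicGeometry
open Coherent

namespace Groth.Agent.S18384

lemma app_eq_zero_of_ker {Y X : Scheme.{u}} {h : Y ⟶ X} {I : X.IdealSheafData}
    (g : Y ⟶ I.subscheme) (hg : g ≫ I.subschemeι = h) (V : X.affineOpens) {f : Γ(X, V.1)}
    (hf : f ∈ I.ideal V) : h.app V.1 f = 0 := by
  have h1 : I.ideal V ≤ h.ker.ideal V := by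
    have := Scheme.Hom.le_ker_comp g I.subschemeι
    rw [hg, Scheme.IdealSheafData.ker_subschemeι] at this
    exact this V
  exact h.ideal_ker_le V (h1 hf)

lemma fromSpecStalk_comp_appLE {X : Scheme.{u}} (x : X) {R : CommRingCat.{u}}
    (q : X.presheaf.stalk x ⟶ R) {V : X.Opens} (hx : x ∈ V)
    (e : ⊤ ≤ (Spec.map q ≫ X.fromSpecStalk x) ⁻¹ᵁ V) :
    (Spec.map q ≫ X.fromSpecStalk x).appLE V ⊤ e =
      X.presheaf.germ V x hx ≫ q ≫ (Scheme.ΓSpecIso R).inv := by
  rw [Scheme.Hom.comp_appLE, Scheme.fromSpecStalk_app hx, Category.assoc, Category.assoc,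
    Scheme.ΓSpecIso_inv_naturality]
  congr 2

/-- Let p : X → S be a morphism of locally Noetherian schemes, t a point of S, m the maximal ideal of
the local ring O_{S,t}, and Z the closed subscheme of X defined by a quasi-coherent ideal I. Suppose
that for every n ≥ 1 the projection X ×_S Spec(O_{S,t}/m^n) → X factors through Z. Then there is an
open subscheme U of X containing every point of the fibre p⁻¹(t) such that the inclusion U → X
factors through Z. -/
theorem result {X S : Scheme.{u}}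
    [IsLocallyNoetherian X] [IsLocallyNoetherian S] (p : X ⟶ S) (t : S) (I : X.IdealSheafData)
    (h : ∀ n : ℕ, ∃ g : pullback p (Spec.map (CommRingCat.ofHom (Ideal.Quotient.mk
        (IsLocalRing.maximalIdeal ↑(S.presheaf.stalk t) ^ (n + 1)))) ≫ S.fromSpecStalk t) ⟶ I.subscheme,
        g ≫ I.subschemeι = pullback.fst p _) :
    ∃ U : X.Opens, (∀ x : X, p.base x = t → x ∈ U) ∧
      ∃ g : (U : Scheme.{u}) ⟶ I.subscheme, g ≫ I.subschemeι = U.ι := by
  let U : X.Opens := ⨆ D : {D : X.affineOpens // I.ideal D = ⊥}, D.1.1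
  have hfib : ∀ x : X, p.base x = t → x ∈ U := by
    intro x hxt
    subst hxt
    obtain ⟨_, ⟨V, hV, rfl⟩, hxV, -⟩ :=
      X.isBasis_affineOpens.exists_subset_of_mem_open (Set.mem_univ x) isOpen_univ
    have : IsNoetherianRing Γ(X, V) := IsLocallyNoetherian.component_noetherian ⟨V, hV⟩
    have hgerm : ∀ f ∈ I.ideal ⟨V, hV⟩, X.presheaf.germ V x hxV f = 0 := by
      intro f hf
      have : X.presheaf.germ V x hxV f ∈ ⨅ n : ℕ, IsLocalRing.maximalIdeal (X.presheaf.stalk x) ^ n := by
        rw [Ideal.mem_iInf]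
        intro n
        obtain ⟨g, hg⟩ := h n
        let m := IsLocalRing.maximalIdeal ↑(S.presheaf.stalk (p.base x)) ^ (n + 1)
        let J := m.map (p.stalkMap x).hom
        let q : X.presheaf.stalk x ⟶ CommRingCat.of (_ ⧸ J) := CommRingCat.ofHom (Ideal.Quotient.mk J)
        let q' : CommRingCat.of (_ ⧸ m) ⟶ CommRingCat.of (_ ⧸ J) :=
          CommRingCat.ofHom (Ideal.quotientMap J (p.stalkMap x).hom Ideal.le_comap_map)
        have w : (Spec.map q ≫ X.fromSpecStalk x) ≫ p =
            Spec.map q' ≫ (Spec.map (CommRingCat.ofHom (Ideal.Quotient.mk m)) ≫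
              S.fromSpecStalk (p.base x)) := by
          rw [Category.assoc, ← Scheme.SpecMap_stalkMap_fromSpecStalk p, ← Spec.map_comp_assoc,
            ← Spec.map_comp_assoc]
          rfl
        have h0 := app_eq_zero_of_ker (h := Spec.map q ≫ X.fromSpecStalk x)
          (pullback.lift _ _ w ≫ g) (by rw [Category.assoc, hg, pullback.lift_fst]) ⟨V, hV⟩ hf
        have e : ⊤ ≤ (Spec.map q ≫ X.fromSpecStalk x) ⁻¹ᵁ V := fun z _ => by
          have := IsLocalRing.specializes_closedPoint (Spec.map q z)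
          exact (this.map (X.fromSpecStalk x).continuous).mem_open V.2
            (by rw [Scheme.fromSpecStalk_closedPoint]; exact hxV)
        have h1 : (Spec.map q ≫ X.fromSpecStalk x).appLE V ⊤ e f = 0 := by
          rw [Scheme.Hom.appLE, CommRingCat.comp_apply]
          exact (congrArg _ h0).trans (map_zero _)
        rw [fromSpecStalk_comp_appLE x q hxV e, CommRingCat.comp_apply, CommRingCat.comp_apply] at h1
        have h2 : q (X.presheaf.germ V x hxV f) = 0 :=
          ((Scheme.ΓSpecIso (CommRingCat.of (_ ⧸ J))).symm.commRingCatIsoToRingEquiv.map_eq_zero_iff).mp h1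
        have h3 : J ≤ IsLocalRing.maximalIdeal _ ^ n := by
          refine le_trans ?_ (Ideal.pow_le_pow_right (Nat.le_succ n))
          simp only [J, m, Ideal.map_pow]
          exact Ideal.pow_right_mono (Ideal.map_le_iff_le_comap.mpr
            (show IsLocalRing.maximalIdeal _ ≤ (IsLocalRing.maximalIdeal _).comap (p.stalkMap x).hom from fun r hr => map_nonunit (p.stalkMap x).hom r hr)) _
        exact h3 (Ideal.Quotient.eq_zero_iff_mem.mp h2)
      rwa [Ideal.iInf_pow_eq_bot_of_isLocalRing _ (IsLocalRing.maximalIdeal.isMaximal _).ne_top] at this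
    algebraize [(X.presheaf.germ V x hxV).hom]
    have hloc : IsLocalization.AtPrime (X.presheaf.stalk x) (hV.primeIdealOf ⟨x, hxV⟩).asIdeal :=
      hV.isLocalization_stalk ⟨x, hxV⟩
    obtain ⟨gens, hgens⟩ := IsNoetherian.noetherian (I.ideal ⟨V, hV⟩)
    have hann : ∀ f ∈ gens, ∃ a : (hV.primeIdealOf ⟨x, hxV⟩).asIdeal.primeCompl, (a : Γ(X, V)) * f = 0 :=
      fun f hf => (IsLocalization.map_eq_zero_iff (hV.primeIdealOf ⟨x, hxV⟩).asIdeal.primeCompl
        (X.presheaf.stalk x) f).mp (hgerm f (hgens ▸ Ideal.subset_span hf))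
    choose a ha using hann
    let b := ∏ f ∈ gens.attach, a f.1 f.2
    have hb : ∀ f ∈ I.ideal ⟨V, hV⟩, (b : Γ(X, V)) * f = 0 := by
      intro f hf
      rw [← hgens] at hf
      induction hf using Submodule.span_induction with
      | mem f hf =>
        have hd : a f hf ∣ b :=
          Finset.dvd_prod_of_mem (fun f : {f // f ∈ gens} => a f.1 f.2) (Finset.mem_attach gens ⟨f, hf⟩)
        obtain ⟨c, hc⟩ := hd
        rw [hc, Submonoid.coe_mul, mul_right_comm, ha, zero_mul]
      | zero => exact mul_zero _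
      | add _ _ _ _ h₁ h₂ => rw [mul_add, h₁, h₂, add_zero]
      | smul c f _ h₁ => rw [smul_eq_mul, mul_left_comm, h₁, mul_zero]
    have hbu : IsUnit (algebraMap Γ(X, V) (X.presheaf.stalk x) b) := IsLocalization.map_units _ b
    have hbot : I.ideal (X.affineBasicOpen (U := ⟨V, hV⟩) b) = ⊥ := by
      rw [← I.map_ideal (X.affineBasicOpen_le (V := ⟨V, hV⟩) b)]
      refine eq_bot_iff.mpr (Ideal.map_le_iff_le_comap.mpr fun f hf => ?_)
      have hu : IsUnit (X.presheaf.map (homOfLE (X.basicOpen_le (b : Γ(X, V)))).op b) :=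
        RingedSpace.isUnit_res_basicOpen _ (b : Γ(X, V))
      refine Ideal.mem_bot.mpr (hu.mul_right_eq_zero.mp ?_)
      exact (map_mul _ _ _).symm.trans ((congrArg _ (hb f hf)).trans (map_zero _))
    exact (le_iSup (fun D : {D : X.affineOpens // I.ideal D = ⊥} => D.1.1) ⟨_, hbot⟩)
      ((Scheme.mem_basicOpen X _ x hxV).mpr hbu)
  refine ⟨U, hfib, ?_⟩
  have hle : I ≤ U.ι.ker := by
    refine Scheme.IdealSheafData.le_ofIdeals_iff.mpr fun W f hf => RingHom.mem_ker.mpr ?_
    rw [Scheme.Opens.ι_app]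
    refine TopCat.Presheaf.section_ext X.sheaf (U.ι ''ᵁ U.ι ⁻¹ᵁ W.1) _ _ fun z hz => ?_
    have hzW : z ∈ W.1 := Set.image_preimage_subset _ _ hz
    have hzU : z ∈ U := by
      obtain ⟨y, -, rfl⟩ := hz
      exact y.2
    obtain ⟨D, hzD⟩ := TopologicalSpace.Opens.mem_iSup.mp hzU
    obtain ⟨_, ⟨W', hW', rfl⟩, hzW', hsub⟩ :=
      X.isBasis_affineOpens.exists_subset_of_mem_open (show z ∈ (W.1 ⊓ D.1.1 : X.Opens) from ⟨hzW, hzD⟩)
        (W.1 ⊓ D.1.1).2
    have h1 : I.ideal ⟨W', hW'⟩ = ⊥ := by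
      rw [← I.map_ideal (U := ⟨W', hW'⟩) (V := D.1) (fun y hy => (hsub hy).2), D.2, Ideal.map_bot]
    have h2 := Ideal.mem_map_of_mem (X.presheaf.map (homOfLE (show W' ≤ W.1 from fun y hy => (hsub hy).1)).op).hom hf
    erw [I.map_ideal (U := ⟨W', hW'⟩) (V := W) (fun y hy => (hsub hy).1)] at h2
    rw [h1, Ideal.mem_bot] at h2
    refine (TopCat.Presheaf.germ_res_apply _ _ _ _ _).trans ?_
    refine Eq.trans ?_ (map_zero _).symm
    refine (TopCat.Presheaf.germ_res_apply X.presheaf
      (homOfLE (show W' ≤ W.1 from fun y hy => (hsub hy).1)) z hzW' f).symm.trans ?_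
    exact (congrArg _ h2).trans (map_zero _)
  exact ⟨IsClosedImmersion.lift I.subschemeι U.ι (by rw [Scheme.IdealSheafData.ker_subschemeι]; exact hle),
    IsClosedImmersion.lift_fac _ _ _⟩

end Groth.Agent.S18384
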