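import Groth.Statements.S18385
import Groth.Agent.GrpschAbsch.FibreFlat

set_option autoImplicit false
universe u
open CategoryTheory CategoryTheory.Limits MonoidalCategory CartesianMonoidalCategory MonObj GrpObj AlgebraicGeometry
open AbSch

namespace Groth.Agent.S18385

/-- (2) ⇔ (3): let S be a scheme, A and B abelian schemes over S (S-group schemes, smooth and proper
over S with geometrically connected fibres) whose fibres A_s and B_s have the same dimension for
every point s of S, and f : A → B a homomorphism of S-group schemes. Then f is locally quasi-finite
if and only if f is surjective (and then f is an isogeny). -/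
theorem result {S : Scheme.{u}} (A B : Over S)
    [GrpObj A] [Smooth A.hom] [IsProper A.hom] [GeometricallyConnected A.hom]
    [GrpObj B] [Smooth B.hom] [IsProper B.hom] [GeometricallyConnected B.hom]
    (f : A ⟶ B) [IsMonHom f]
    (hdim : ∀ s : S, topologicalKrullDim ↥(A.hom.fiber s) = topologicalKrullDim ↥(B.hom.fiber s)) :
    LocallyQuasiFinite f.left ↔ Surjective f.left := by
  have : GeometricallyReduced B.hom := Groth.GrpschAbsch.FibreFlat.geometricallyReduced_of_smooth B.hom
  have : IsProper (f.left ≫ B.hom) := by rw [Over.w]; infer_instance
  have : IsProper f.left := IsProper.of_comp f.left B.hom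
  have key : ∀ s : S, LocallyQuasiFinite ((Over.pullback (S.fromSpecResidueField s)).map f).left ↔
      Surjective ((Over.pullback (S.fromSpecResidueField s)).map f).left := fun s => by
    let t : Spec (CommRingCat.of (S.residueField s)) ⟶ S := S.fromSpecResidueField s
    letI : GrpObj ((Over.pullback t).obj A) := Functor.grpObjObj
    letI : GrpObj ((Over.pullback t).obj B) := Functor.grpObjObj
    have : IsProper ((Over.pullback t).obj A).hom := inferInstanceAs (IsProper (pullback.snd A.hom t))
    have : IsProper ((Over.pullback t).obj B).hom := inferInstanceAs (IsProper (pullback.snd B.hom t))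
    have : Smooth ((Over.pullback t).obj B).hom := inferInstanceAs (Smooth (pullback.snd B.hom t))
    have : ConnectedSpace ((Over.pullback t).obj B).left := inferInstanceAs (ConnectedSpace ↥(B.hom.fiber s))
    have : QuasiCompact ((Over.pullback t).obj B).hom := inferInstance
    have : GeometricallyIntegral ((Over.pullback t).obj B).hom :=
      Groth.AlgGrp1.geometricallyIntegral_of_smooth (k := S.residueField s) ((Over.pullback t).obj B)
    have : IsIntegral ((Over.pullback t).obj B).left :=
      GeometricallyIntegral.geometrically_isIntegral (f := ((Over.pullback t).obj B).hom) (𝟙 _) (𝟙 _) _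
        IsPullback.of_id_fst
    have : GeometricallyReduced ((Over.pullback t).obj B).hom :=
      inferInstanceAs (GeometricallyReduced (pullback.snd B.hom t))
    have : IsProper ((Over.pullback t).map f).left :=
      MorphismProperty.of_isPullback (Groth.GrpschAbsch.FibreFlat.isPullback_map t f) ‹IsProper f.left›
    refine ⟨fun _ => ?_, fun _ => ?_⟩
    · have := IsFinite.of_isProper_of_locallyQuasiFinite ((Over.pullback t).map f).left
      exact Groth.Abvar.Hom.surjective_of_isFinite (k := S.residueField s) ((Over.pullback t).map f) (hdim s)
    · have := Groth.GrpschAbsch.FibreFlat.flat_of_surjective_field (k := S.residueField s) ((Over.pullback t).map f)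
      exact Groth.Abvar.Hom.locallyQuasiFinite_of_flat (k := S.residueField s) ((Over.pullback t).map f) (hdim s)
  have hsq := fun s : S => Groth.GrpschAbsch.FibreFlat.isPullback_map (S.fromSpecResidueField s) f
  refine ⟨fun h => ⟨fun y => ?_⟩, fun h => ?_⟩
  · have := (key (B.hom y)).1 (MorphismProperty.of_isPullback (hsq (B.hom y)) h)
    obtain ⟨x, hx⟩ := ((Over.pullback (S.fromSpecResidueField (B.hom y))).map f).left.surjective (B.hom.asFiber y)
    refine ⟨pullback.fst A.hom (S.fromSpecResidueField (B.hom y)) x, ?_⟩
    rw [← Scheme.Hom.comp_apply, (hsq (B.hom y)).w, Scheme.Hom.comp_apply, hx]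
    exact B.hom.fiberι_asFiber y
  · exact Groth.GrpschAbsch.FibreFlat.locallyQuasiFinite_of_fibres f.left B.hom fun s =>
      (Groth.GrpschAbsch.FibreFlat.of_map_iff _ f s).1
        ((key s).2 (MorphismProperty.of_isPullback (hsq s) h))

end Groth.Agent.S18385
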