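import Groth.Statements.S18386
import Mathlib
-- import your own Groth.Agent.* helpers here

set_option autoImplicit false
universe u
open LVCorr

namespace Groth.Agent.S18386

open AlgebraicGeometry

theorem idem_ideal {X : Scheme.{u}} [AlgebraicGeometry.IsNoetherian X] (J : X.IdealSheafData)
    (hJ : ∀ U, J.ideal U * J.ideal U = J.ideal U) (U : X.affineOpens) :
    ∃ e : Γ(X, U.1), IsIdempotentElem e ∧ J.ideal U = Ideal.span {e} := by
  have : IsNoetherianRing Γ(X, U.1) := IsLocallyNoetherian.component_noetherian U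
  obtain ⟨e, he, he'⟩ := (Ideal.isIdempotentElem_iff_of_fg (J.ideal U) (IsNoetherian.noetherian _)).mp (hJ U)
  exact ⟨e, he, he'⟩


open AlgebraicGeometry in
/-- Let X be a connected Noetherian scheme and I a quasi-coherent sheaf of ideals on X, different from
the structure sheaf, such that I^k = I^(k+1) for some natural number k. Then I^k = 0. -/
theorem result (X : Scheme.{u}) [AlgebraicGeometry.IsNoetherian X]
    [ConnectedSpace X] (I : X.IdealSheafData) (hI : I ≠ ⊤) (k : ℕ)
    (h : I ^ k = I ^ (k + 1)) : I ^ k = ⊥ := by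
  rcases Nat.eq_zero_or_pos k with rfl | hk
  · exfalso; apply hI
    ext U : 2
    simpa using (congrArg (fun J : X.IdealSheafData => J.ideal U) h).symm
  have hk' : ∀ m, I ^ (k + m) = I ^ k := by
    intro m
    induction m with
    | zero => rfl
    | succ m ih =>
      ext U : 2
      have h1 := congrArg (fun J : X.IdealSheafData => J.ideal U) ih
      have h2 := congrArg (fun J : X.IdealSheafData => J.ideal U) h
      simp only [Scheme.IdealSheafData.ideal_pow, Pi.pow_apply] at h1 h2 ⊢
      rw [← add_assoc, pow_succ, h1, ← pow_succ, ← h2]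
  set J := I ^ k with hJ
  have hJJ : ∀ U, J.ideal U * J.ideal U = J.ideal U := fun U => by
    have h1 := congrArg (fun J : X.IdealSheafData => J.ideal U) (hk' k)
    simp only [Scheme.IdealSheafData.ideal_pow, Pi.pow_apply, hJ] at h1 ⊢
    rw [← pow_add, h1]
  choose e he hJe using idem_ideal J hJJ
  have hsupp : ∀ (U : X.affineOpens), (J.support : Set X) ∩ U.1 = X.basicOpen (1 - e U) := by
    intro U
    rw [Scheme.IdealSheafData.coe_support_inter]
    ext x
    rw [hJe U, Scheme.zeroLocus_span, Scheme.zeroLocus_singleton]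
    simp only [Set.mem_inter_iff, Set.mem_compl_iff, SetLike.mem_coe]
    constructor
    · rintro ⟨h1, h2⟩
      rw [Scheme.mem_basicOpen _ _ x h2] at h1 ⊢
      rcases IsLocalRing.isUnit_or_isUnit_one_sub_self (X.presheaf.germ U.1 x h2 (e U)) with hu | hu
      · exact absurd hu h1
      · rwa [map_sub, map_one]
    · intro hx
      have h2 : x ∈ U.1 := X.basicOpen_le _ hx
      refine ⟨fun h1 => ?_, h2⟩
      rw [Scheme.mem_basicOpen _ _ x h2] at h1 hx
      have := h1.mul hx
      rw [← map_mul, mul_sub, mul_one, (he U).eq, sub_self, map_zero] at this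
      exact not_isUnit_zero this
  have hopen : IsOpen (J.support : Set X) := by
    rw [isOpen_iff_forall_mem_open]
    intro x hx
    obtain ⟨_, ⟨U, hU, rfl⟩, hxU, -⟩ :=
      X.isBasis_affineOpens.exists_subset_of_mem_open (Set.mem_univ x) isOpen_univ
    exact ⟨_, Set.inter_subset_left, (hsupp ⟨U, hU⟩).symm ▸ (X.basicOpen (1 - e ⟨U, hU⟩)).isOpen, ⟨hx, hxU⟩⟩
  rcases isClopen_iff.mp ⟨J.support.isClosed, hopen⟩ with hs | hs
  · exfalso
    apply hI
    have h1 : J.support = ⊥ := SetLike.coe_injective hs
    rw [hJ, Scheme.IdealSheafData.support_pow _ _ hk.ne'] at h1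
    exact (Scheme.IdealSheafData.support_eq_bot_iff (I := I)).mp h1
  · ext U : 2
    rw [hJe U, Scheme.IdealSheafData.ideal_bot, Pi.bot_apply, Ideal.span_singleton_eq_bot]
    have h1 := hsupp U
    rw [hs, Set.univ_inter] at h1
    have h2 : X.basicOpen (e U) = ⊥ := by
      apply SetLike.coe_injective
      refine Set.eq_empty_of_forall_notMem fun x hx => ?_
      have hxU : x ∈ U.1 := X.basicOpen_le _ hx
      have hx' : x ∈ X.basicOpen (1 - e U) := by rw [← SetLike.mem_coe, ← h1]; exact hxU
      rw [SetLike.mem_coe, Scheme.mem_basicOpen _ _ x hxU] at hx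
      rw [Scheme.mem_basicOpen _ _ x hxU] at hx'
      have := hx.mul hx'
      rw [← map_mul, mul_sub, mul_one, (he U).eq, sub_self, map_zero] at this
      exact not_isUnit_zero this
    have h3 := U.2.fromSpec_preimage_basicOpen (e U)
    rw [h2] at h3
    simp only [Scheme.Hom.preimage_bot] at h3
    obtain ⟨n, hn⟩ := PrimeSpectrum.basicOpen_eq_bot_iff (e U) |>.mp h3.symm
    rw [← (he U).pow_succ_eq n, pow_succ, hn, zero_mul]

end Groth.Agent.S18386
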