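import Groth.Statements.S18387
import Mathlib
-- import your own Groth.Agent.* helpers here

set_option autoImplicit false
universe u
open LVCorr

namespace Groth.Agent.S18387

theorem pow_bound {F A : Type*} [Field F] [CommRing A] [Algebra F A] [FiniteDimensional F A]
    (N : Ideal A) (hN : IsNilpotent N) (i : ℕ) :
    N ^ i = ⊥ ∨ Module.finrank F ((N ^ i).restrictScalars F) + i ≤ Module.finrank F A := by
  induction i with
  | zero => right; simpa using Submodule.finrank_le _
  | succ i ih =>
    rcases ih with h | h
    · left; rw [pow_succ, h]; exact Submodule.bot_mul _
    by_cases hb : N ^ (i + 1) = ⊥
    · exact Or.inl hb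
    right
    have hlt : N ^ (i + 1) < N ^ i := by
      refine lt_of_le_of_ne (Ideal.pow_le_pow_right (by omega)) fun he => hb ?_
      obtain ⟨m, hm⟩ := hN
      have : ∀ j, N ^ (i + j) = N ^ i := by
        intro j; induction j with
        | zero => simp
        | succ j ihj => rw [← add_assoc, pow_succ, ihj, ← pow_succ, he]
      rw [he, ← this m, pow_add, hm]; simp
    have := Submodule.finrank_lt_finrank_of_lt
      (show (N ^ (i + 1)).restrictScalars F < (N ^ i).restrictScalars F from hlt)
    omega


/-- In the affine form which its proof establishes. Let A be a commutative algebra over a field F which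
is finite-dimensional of dimension d over F. Then the d-th power of the nilradical of A vanishes.
(Applied to the fibre algebra A = B/mB of a quasi-finite morphism over a closed point with maximal
ideal m, this says that the d-th power of the radical of mB lies in mB, i.e. the ramification of the
morphism at that point is at most the degree d of the fibre.) -/
theorem result (F A : Type u) [Field F] [CommRing A] [Algebra F A]
    [FiniteDimensional F A] : nilradical A ^ Module.finrank F A = ⊥ := by
  have hA : IsArtinianRing A := IsArtinianRing.of_finite F A
  rcases pow_bound (F := F) (nilradical A) IsArtinianRing.isNilpotent_nilradical (Module.finrank F A) with h | h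
  · exact h
  · have h0 : Module.finrank F ((nilradical A ^ Module.finrank F A).restrictScalars F) = 0 := by omega
    exact (Submodule.restrictScalars_eq_bot_iff F A A).mp (Submodule.finrank_eq_zero.mp h0)

end Groth.Agent.S18387
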