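import Groth.Statements.S18389
import Mathlib
-- import your own Groth.Agent.* helpers here

set_option autoImplicit false
universe u
open LVCorr

namespace Groth.Agent.S18389

open AlgebraicGeometry CategoryTheory in
theorem aux {C Cb X Xb : Scheme.{u}}
    (j : C ⟶ Cb) [IsOpenImmersion j] (hj : DenseRange j.base)
    (jX : X ⟶ Xb) [IsOpenImmersion jX] (c₁ : C ⟶ X) (cb₁ : Cb ⟶ Xb) [IsSeparated cb₁]
    (h : j ≫ cb₁ = c₁ ≫ jX) (U : X.Opens) (hU : Dense ((c₁ ⁻¹ᵁ U : C.Opens) : Set C))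
    [IsProper (c₁ ∣_ U)] :
    cb₁ ⁻¹ᵁ (jX ''ᵁ U) = j ''ᵁ (c₁ ⁻¹ᵁ U) := by
  have hle : j ''ᵁ (c₁ ⁻¹ᵁ U) ≤ cb₁ ⁻¹ᵁ (jX ''ᵁ U) := by
    rintro _ ⟨x, hx, rfl⟩
    exact ⟨c₁ x, hx, (congrArg (fun f : C ⟶ Xb => f x) h).symm⟩
  refine le_antisymm ?_ hle
  set V := cb₁ ⁻¹ᵁ (jX ''ᵁ U) with hV
  let g : (c₁ ⁻¹ᵁ U).toScheme ⟶ V.toScheme :=
    IsOpenImmersion.lift V.ι ((c₁ ⁻¹ᵁ U).ι ≫ j) (by
      rw [Scheme.Opens.range_ι]
      rintro _ ⟨x, rfl⟩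
      exact hle ⟨(c₁ ⁻¹ᵁ U).ι x, by
        have := x.2; simpa using this, rfl⟩)
  have hg : g ≫ V.ι = (c₁ ⁻¹ᵁ U).ι ≫ j := IsOpenImmersion.lift_fac _ _ _
  have hcomp : g ≫ (cb₁ ∣_ (jX ''ᵁ U)) = (c₁ ∣_ U) ≫ (jX.isoImage U).hom := by
    rw [← cancel_mono (jX ''ᵁ U).ι, Category.assoc, Category.assoc, morphismRestrict_ι,
      Scheme.Hom.isoImage_hom_ι, ← Category.assoc, hg, Category.assoc, h,
      morphismRestrict_ι_assoc]
  have : IsProper (g ≫ (cb₁ ∣_ (jX ''ᵁ U))) := by rw [hcomp]; infer_instance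
  have : IsSeparated (cb₁ ∣_ (jX ''ᵁ U)) := IsZariskiLocalAtTarget.restrict (P := @IsSeparated) ‹_› _
  have : IsProper g := IsProper.of_comp g (cb₁ ∣_ (jX ''ᵁ U))
  have hclosed : IsClosed (Set.range g) := g.isClosedMap.isClosed_range
  have hd : Dense (j '' ((c₁ ⁻¹ᵁ U : C.Opens) : Set C)) :=
    hj.dense_image j.continuous hU
  intro x hx
  have hxc : (⟨x, hx⟩ : V.toScheme) ∈ closure (Set.range g) := by
    refine closure_subtype.2 (closure_mono (s := (V : Set Cb) ∩ j '' ((c₁ ⁻¹ᵁ U : C.Opens) : Set C)) ?_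
      (hd.open_subset_closure_inter V.isOpen hx))
    rintro _ ⟨hzV, z, hz, rfl⟩
    refine ⟨⟨j z, hzV⟩, ⟨⟨z, hz⟩, ?_⟩, rfl⟩
    apply Subtype.ext
    have := congrArg (fun f => f (⟨z, hz⟩ : (c₁ ⁻¹ᵁ U).toScheme)) hg
    simpa using this
  rw [hclosed.closure_eq] at hxc
  obtain ⟨w, hw⟩ := hxc
  refine ⟨(c₁ ⁻¹ᵁ U).ι w, by simpa using w.2, ?_⟩
  have := congrArg (fun f => f w) hg
  simp only [Scheme.Hom.comp_apply, hw] at this
  exact this.symm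


open AlgebraicGeometry CategoryTheory in
/-- Let j : C → C̄ be an open immersion with dense image and jX : X → X̄ an open immersion, and let c₁ :
C → X and c̄₁ : C̄ → X̄ satisfy j followed by c̄₁ equals c₁ followed by jX, with c̄₁ separated. Let
U be an open subset of X such that c₁⁻¹(U) is dense in C and the restriction c₁⁻¹(U) → U of c₁ is
proper. Then c̄₁⁻¹(jX(U)) = j(c₁⁻¹(U)) as open subsets of C̄. (In the source all schemes are
separated of finite type over a field, C̄ and X̄ are compactifications of a correspondence and of X,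
so that c̄₁ is automatically separated.) -/
theorem result {C Cb X Xb : Scheme.{u}}
    (j : C ⟶ Cb) [IsOpenImmersion j] (hj : DenseRange j.base)
    (jX : X ⟶ Xb) [IsOpenImmersion jX] (c₁ : C ⟶ X) (cb₁ : Cb ⟶ Xb) [IsSeparated cb₁]
    (h : j ≫ cb₁ = c₁ ≫ jX) (U : X.Opens) (hU : Dense ((c₁ ⁻¹ᵁ U : C.Opens) : Set C))
    [IsProper (c₁ ∣_ U)] :
    cb₁ ⁻¹ᵁ (jX ''ᵁ U) = j ''ᵁ (c₁ ⁻¹ᵁ U) := by
  exact aux j hj jX c₁ cb₁ h U hU

end Groth.Agent.S18389
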