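import Groth.Statements.S18390
import Mathlib
-- import your own Groth.Agent.* helpers here

set_option autoImplicit false
universe u
open LVCorr

namespace Groth.Agent.S18390

theorem pow_sup_le {A : Type*} [CommRing A] {P Q I : Ideal A} (hP : P ≤ I) (hQ : Q ≤ I) {a b : ℕ}
    (ha : P ^ a ≤ I ^ (a + 1)) (hb : Q ^ b ≤ I ^ (b + 1)) : (P ⊔ Q) ^ (a + b) ≤ I ^ (a + b + 1) := by
  show (P + Q) ^ (a + b) ≤ _
  rw [add_pow]
  refine (Finset.sum_induction _ (· ≤ I ^ (a + b + 1)) (fun _ _ h1 h2 => sup_le h1 h2) bot_le ?_)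
  intro i hi
  simp only [Finset.mem_range] at hi
  refine le_trans Ideal.mul_le_left ?_
  show P ^ i * Q ^ (a + b - i) ≤ _
  rcases le_or_gt a i with h | h
  · calc P ^ i * Q ^ (a + b - i) = P ^ a * (P ^ (i - a) * Q ^ (a + b - i)) := by
          rw [← mul_assoc, ← pow_add, Nat.add_sub_cancel' h]
      _ ≤ I ^ (a + 1) * (I ^ (i - a) * I ^ (a + b - i)) :=
          Ideal.mul_mono ha (Ideal.mul_mono (Ideal.pow_right_mono hP _) (Ideal.pow_right_mono hQ _))
      _ = I ^ (a + b + 1) := by rw [← pow_add, ← pow_add]; congr 1; omega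
  · calc P ^ i * Q ^ (a + b - i) = P ^ i * Q ^ (a - i) * Q ^ b := by
          rw [mul_assoc, ← pow_add]; congr 2; omega
      _ ≤ I ^ i * I ^ (a - i) * I ^ (b + 1) :=
          Ideal.mul_mono (Ideal.mul_mono (Ideal.pow_right_mono hP _) (Ideal.pow_right_mono hQ _)) hb
      _ = I ^ (a + b + 1) := by rw [← pow_add, ← pow_add]; congr 1; omega


/-- In the affine, ring-theoretic form which its proof establishes. Let φ : A' → A be a ring
homomorphism, I' a finitely generated ideal of A' and I an ideal of A containing the image of I'.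
Then some power I'^k is mapped into I^(k+1) if and only if for every n ≥ 1 and every a ∈ I'^n there
is a k with φ(a)^k ∈ I^(nk+1). (Geometrically, for a morphism f : (X, Z) → (X', Z') of pairs with Z
a closed subscheme of the preimage of Z', the normal cone of Z in X is the spectrum of the
associated graded algebra of I, and the second condition says that the induced map of normal cones
sends the normal cone of Z set-theoretically into the zero section Z'; the source states the
equivalence in that language.) -/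
theorem result (A' A : Type u) [CommRing A'] [CommRing A]
    (φ : A' →+* A) (I' : Ideal A') (hI' : I'.FG) (I : Ideal A) (hle : I'.map φ ≤ I) :
    (∃ k : ℕ, (I' ^ k).map φ ≤ I ^ (k + 1)) ↔
      ∀ n : ℕ, 1 ≤ n → ∀ a ∈ I' ^ n, ∃ k : ℕ, 1 ≤ k ∧ φ a ^ k ∈ I ^ (n * k + 1) := by
  classical
  constructor
  · rintro ⟨k, hk⟩ n hn a ha
    refine ⟨k + 1, by omega, ?_⟩
    have h1 : φ a ^ (k + 1) ∈ ((I'.map φ) ^ n) ^ (k + 1) :=
      Ideal.pow_mem_pow (by rw [← Ideal.map_pow]; exact Ideal.mem_map_of_mem φ ha) _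
    have h2 : (I'.map φ) ^ (k + 1) ≤ I ^ (k + 1 + 1) := by
      rw [pow_succ, ← Ideal.map_pow, pow_succ (I) (k + 1)]
      exact Ideal.mul_mono hk hle
    refine Ideal.pow_le_pow_right (m := n * (k + 1) + 1) (n := n * (k + 1 + 1)) (by rw [mul_add n (k+1) 1]; omega) ?_
    rw [pow_mul']
    refine Ideal.pow_right_mono h2 n ?_
    rw [← pow_mul] at h1 ⊢
    rwa [mul_comm (k + 1) n]
  · intro h
    obtain ⟨s, hs⟩ := hI'
    suffices H : ∀ t : Finset A', ↑t ⊆ (I' : Set A') →
        ∃ K, ((Ideal.span (t : Set A')).map φ) ^ K ≤ I ^ (K + 1) by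
      obtain ⟨K, hK⟩ := H s (by rw [← hs]; exact Ideal.subset_span)
      have hs' : Ideal.span (s : Set A') = I' := hs
      exact ⟨K, by rw [Ideal.map_pow, ← hs']; exact hK⟩
    intro t
    induction t using Finset.induction with
    | empty => intro _; exact ⟨1, by simp⟩
    | @insert a t hat ih =>
      intro ht
      rw [Finset.coe_insert, Set.insert_subset_iff] at ht
      obtain ⟨b, hb⟩ := ih ht.2
      obtain ⟨k, hk, hka⟩ := h 1 le_rfl a (by rw [pow_one]; exact ht.1)
      refine ⟨k + b, ?_⟩
      rw [Finset.coe_insert, Ideal.span_insert, Ideal.map_sup, Ideal.map_span, Set.image_singleton]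
      refine pow_sup_le ?_ ?_ ?_ hb
      · rw [Ideal.span_singleton_le_iff_mem]; exact hle (Ideal.mem_map_of_mem φ ht.1)
      · exact le_trans (Ideal.map_mono (Ideal.span_le.mpr ht.2)) hle
      · rw [Ideal.span_singleton_pow, Ideal.span_singleton_le_iff_mem]; simpa using hka

end Groth.Agent.S18390
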