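import Groth.Statements.S18391
import Mathlib
-- import your own Groth.Agent.* helpers here

set_option autoImplicit false
universe u
open LVCorr

namespace Groth.Agent.S18391

theorem aux {A : Type u} [CommRing A] [IsDomain A]
    [IsNoetherianRing A] [IsIntegrallyClosed A] (z : A) (hz : (Ideal.span {z}).radical.IsPrime) :
    ∃ (w t : A) (r : ℕ), w ∉ (Ideal.span {z}).radical ∧
      Ideal.span {algebraMap A (Localization.Away w) z} =
        Ideal.span {algebraMap A (Localization.Away w) t ^ r} ∧
      (Ideal.span {algebraMap A (Localization.Away w) t}).IsPrime := by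
  classical
  by_cases hz0 : z = 0
  · subst hz0
    have : IsDomain (Localization.Away (1 : A)) :=
      IsLocalization.isDomain_localization (powers_le_nonZeroDivisors_of_noZeroDivisors one_ne_zero)
    refine ⟨1, 0, 1, fun h => hz.ne_top ((Ideal.eq_top_iff_one _).2 h), by simp, ?_⟩
    rw [map_zero, Ideal.span_singleton_eq_bot.2 rfl]
    exact Ideal.isPrime_bot
  set P := (Ideal.span {z}).radical with hPdef
  have hzP : z ∈ P := Ideal.le_radical (Ideal.mem_span_singleton_self z)
  have hmin : P ∈ (Ideal.span {z}).minimalPrimes := by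
    refine ⟨⟨hz, Ideal.le_radical⟩, fun Q hQ _ => ?_⟩
    exact (hQ.1.radical_le_iff).2 hQ.2
  have hht : P.height ≤ 1 := Ideal.height_le_one_of_isPrincipal_of_mem_minimalPrimes _ P hmin
  let L := Localization.AtPrime P
  have hinj : Function.Injective (algebraMap A L) :=
    IsLocalization.injective L P.primeCompl_le_nonZeroDivisors
  have : IsDomain L := IsLocalization.isDomain_localization P.primeCompl_le_nonZeroDivisors
  have : IsIntegrallyClosed L :=
    isIntegrallyClosed_of_isLocalization L P.primeCompl P.primeCompl_le_nonZeroDivisors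
  have hmem : algebraMap A L z ∈ IsLocalRing.maximalIdeal L :=
    (IsLocalization.AtPrime.to_map_mem_maximal_iff L P z).2 hzP
  have hnf : ¬ IsField L := fun h => by
    rw [IsLocalRing.isField_iff_maximalIdeal_eq] at h
    rw [h, Ideal.mem_bot, map_eq_zero_iff _ hinj] at hmem
    exact hz0 hmem
  have hK : Ring.KrullDimLE 1 L := Ring.krullDimLE_iff.mpr (by
    rw [IsLocalization.AtPrime.ringKrullDim_eq_height P L]
    exact_mod_cast hht)
  have hdvr : IsDiscreteValuationRing L :=
    ((IsDiscreteValuationRing.TFAE L hnf).out 3 0 rfl rfl).mp ⟨inferInstance,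
      IsLocalRing.maximalIdeal _, ⟨fun h => hnf (IsLocalRing.isField_iff_maximalIdeal_eq.mpr h),
        inferInstance⟩, fun p hp =>
        IsLocalRing.eq_maximalIdeal (Ring.krullDimLE_one_iff_of_noZeroDivisors.mp hK p hp.1 hp.2)⟩
  obtain ⟨ϖ, hϖ⟩ := IsDiscreteValuationRing.exists_irreducible L
  obtain ⟨⟨t, s⟩, hts⟩ := IsLocalization.surj P.primeCompl ϖ
  simp only at hts
  have hs : IsUnit (algebraMap A L s) := IsLocalization.map_units L s
  have hti : Irreducible (algebraMap A L t) := by
    rw [← hts]; exact (irreducible_mul_isUnit hs).2 hϖ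
  have htP : t ∈ P := (IsLocalization.AtPrime.to_map_mem_maximal_iff L P t).1
    ((IsLocalRing.mem_maximalIdeal _).2 hti.not_isUnit)
  have key : ∀ x y : A, Associated (algebraMap A L x) (algebraMap A L y) →
      ∃ a b : A, a ∉ P ∧ b ∉ P ∧ x * a = y * b := by
    rintro x y ⟨v, hv⟩
    obtain ⟨⟨c, d⟩, hcd⟩ := IsLocalization.surj P.primeCompl (v : L)
    simp only at hcd
    have hc : c ∉ P := fun h => by
      have h2 := (IsLocalization.AtPrime.to_map_mem_maximal_iff L P c).2 h
      rw [← hcd] at h2
      exact h2 (v.isUnit.mul (IsLocalization.map_units L d))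
    refine ⟨c, d, hc, d.2, hinj ?_⟩
    rw [map_mul, map_mul, ← hcd, ← hv]; ring
  obtain ⟨r, hr⟩ := IsDiscreteValuationRing.associated_pow_irreducible
    (x := algebraMap A L z) (fun h => hz0 (hinj (h.trans (map_zero _).symm))) hti
  rw [← map_pow] at hr
  obtain ⟨a, b, ha, hb, hab⟩ := key _ _ hr
  -- generators of `P`
  obtain ⟨S, hS⟩ := IsNoetherian.noetherian P
  have hgen : ∀ g ∈ S, ∃ s : A, s ∉ P ∧ s * g ∈ Ideal.span {t} := by
    intro g hg
    have hgP : g ∈ P := hS ▸ Ideal.subset_span hg
    have h2 := (IsLocalization.AtPrime.to_map_mem_maximal_iff L P g).2 hgP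
    rw [hti.maximalIdeal_eq, Ideal.mem_span_singleton'] at h2
    obtain ⟨c, hc⟩ := h2
    obtain ⟨⟨c', d⟩, hcd⟩ := IsLocalization.surj P.primeCompl c
    simp only at hcd
    refine ⟨d, d.2, Ideal.mem_span_singleton'.2 ⟨c', hinj ?_⟩⟩
    rw [map_mul, map_mul, ← hcd, ← hc]; ring
  choose σ hσP hσt using hgen
  let w := a * b * ∏ g ∈ S.attach, σ g g.2
  have hw : w ∉ P := by
    refine fun h => (hz.mem_or_mem h).elim (fun h => (hz.mem_or_mem h).elim ha hb) fun h => ?_
    obtain ⟨g, -, hg⟩ := hz.prod_mem_iff.1 h
    exact hσP g g.2 hg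
  have : IsDomain (Localization.Away w) := IsLocalization.isDomain_localization
    (powers_le_nonZeroDivisors_of_noZeroDivisors fun h0 => hw (h0 ▸ P.zero_mem))
  refine ⟨w, t, r, hw, ?_, ?_⟩
  all_goals have hu : IsUnit (algebraMap A (Localization.Away w) w) :=
    IsLocalization.Away.algebraMap_isUnit w
  · rw [show w = a * b * ∏ g ∈ S.attach, σ g g.2 from rfl, map_mul, map_mul] at hu
    rw [Ideal.span_singleton_eq_span_singleton, ← map_pow]
    have hab' := congrArg (algebraMap A (Localization.Away w)) hab
    rw [map_mul, map_mul] at hab'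
    have hua := isUnit_of_mul_isUnit_left (isUnit_of_mul_isUnit_left hu)
    have hub := isUnit_of_mul_isUnit_right (isUnit_of_mul_isUnit_left hu)
    exact ((associated_mul_unit_right _ _ hua).trans (hab' ▸ Associated.refl _)).trans
      (associated_mul_unit_left _ _ hub)
  · have heq : Ideal.span {algebraMap A (Localization.Away w) t} =
        Ideal.map (algebraMap A (Localization.Away w)) P := by
      refine le_antisymm (by rw [Ideal.span_le, Set.singleton_subset_iff]; exact Ideal.mem_map_of_mem _ htP) ?_
      rw [← hS, Ideal.map_span, Ideal.span_le]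
      rintro _ ⟨g, hg, rfl⟩
      rw [SetLike.mem_coe]
      rw [show w = a * b * ∏ g ∈ S.attach, σ g g.2 from rfl, map_mul] at hu
      have hu2 := isUnit_of_mul_isUnit_right hu
      rw [map_prod] at hu2
      have hu3 := IsUnit.prod_iff.1 hu2 ⟨g, hg⟩ (Finset.mem_attach _ _)
      have h3 := Ideal.mem_map_of_mem (algebraMap A (Localization.Away w)) (hσt g hg)
      rw [map_mul, Ideal.map_span, Set.image_singleton] at h3
      exact (Ideal.unit_mul_mem_iff_mem _ hu3).1 h3
    rw [heq]
    refine IsLocalization.isPrime_of_isPrime_disjoint (Submonoid.powers w) _ _ hz ?_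
    rw [Set.disjoint_left]
    rintro _ ⟨n, rfl⟩ h
    exact hw (hz.mem_of_pow_mem n h)


/-- Let A be a normal (integrally closed) Noetherian domain and z an element of A such that the radical
of the principal ideal (z) is prime. Then there exist elements w, t of A and a natural number r,
with w not in the radical of (z), such that in the localization A[1/w] the ideal generated by z
equals the ideal generated by t^r and the ideal generated by t is prime. (The condition on w is the
one the printed proof produces and the later use of the lemma needs.) -/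
theorem result (A : Type u) [CommRing A] [IsDomain A]
    [IsNoetherianRing A] [IsIntegrallyClosed A] (z : A) (hz : (Ideal.span {z}).radical.IsPrime) :
    ∃ (w t : A) (r : ℕ), w ∉ (Ideal.span {z}).radical ∧
      Ideal.span {algebraMap A (Localization.Away w) z} =
        Ideal.span {algebraMap A (Localization.Away w) t ^ r} ∧
      (Ideal.span {algebraMap A (Localization.Away w) t}).IsPrime := by
  exact aux z hz

end Groth.Agent.S18391
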