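import Groth.Statements.S18392
import Mathlib
-- import your own Groth.Agent.* helpers here

set_option autoImplicit false
universe u
open LVCorr

namespace Groth.Agent.S18392

open PrimeSpectrum in
theorem not_le_prime {A : Type u} [CommRing A] [IsDomain A] [IsNoetherianRing A] (z : A)
    (hP : (Ideal.span {z}).radical.IsPrime) (Q : Ideal A) (hQ : Q.IsPrime) (hzQ : z ∉ Q) (hQ0 : Q ≠ ⊥) :
    ¬ Q ≤ (Ideal.span {z}).radical := by
  intro hle
  have hzP : z ∈ (Ideal.span {z}).radical := Ideal.le_radical (Ideal.mem_span_singleton_self z)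
  have hmin : (Ideal.span {z}).radical ∈ (Ideal.span {z}).minimalPrimes :=
    ⟨⟨hP, Ideal.le_radical⟩, fun q hq _ => hq.1.radical_le_iff.mpr hq.2⟩
  have := hP
  have h1 : (Ideal.span {z}).radical.height ≤ 1 :=
    Ideal.height_le_one_of_isPrincipal_of_mem_minimalPrimes _ _ hmin
  have hlt : Q < (Ideal.span {z}).radical := lt_of_le_of_ne hle fun e => hzQ (e ▸ hzP)
  haveI := hQ
  have h2 : Q.height + 1 ≤ (Ideal.span {z}).radical.height := Ideal.height_add_one_le_of_lt_of_isPrime hlt
  have h3 : (⊥ : Ideal A).height + 1 ≤ Q.height :=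
    Ideal.height_add_one_le_of_lt_of_isPrime (bot_lt_iff_ne_bot.mpr hQ0)
  have h4 : (1 : ℕ∞) + 1 ≤ 1 := le_trans (le_trans (add_le_add (le_trans le_add_self h3) le_rfl) h2) h1
  exact absurd h4 (by decide)


/-- Let A be a normal (integrally closed) Noetherian domain and z an element of A such that the radical
of (z) is prime. Then for every non-empty open subset V of Spec A contained in the basic open set
D(z) (that is, every non-empty open subset of Spec A[1/z]) there is an element x of A, not in the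
radical of (z), such that the basic open set D(xz) = Spec A[1/xz] is contained in V. -/
theorem result (A : Type u) [CommRing A]
    [IsDomain A] [IsNoetherianRing A] [IsIntegrallyClosed A] (z : A)
    (hz : (Ideal.span {z}).radical.IsPrime) (V : Set (PrimeSpectrum A)) (hV : IsOpen V)
    (hVz : V ⊆ (PrimeSpectrum.basicOpen z : Set (PrimeSpectrum A))) (hne : V.Nonempty) :
    ∃ x : A, x ∉ (Ideal.span {z}).radical ∧
      ((PrimeSpectrum.basicOpen (x * z) : TopologicalSpace.Opens (PrimeSpectrum A)) :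
        Set (PrimeSpectrum A)) ⊆ V := by
  classical
  obtain ⟨s, hs⟩ := (PrimeSpectrum.isOpen_iff V).mp hV
  set J : Ideal A := Ideal.span s with hJ
  have hVc : Vᶜ = PrimeSpectrum.zeroLocus (J : Set A) := by rw [hs, hJ, PrimeSpectrum.zeroLocus_span]
  have hfin : (J.minimalPrimes).Finite := J.finite_minimalPrimes_of_isNoetherianRing
  obtain ⟨v, hv⟩ := hne
  have hex : ∀ Q ∈ J.minimalPrimes, ∃ x, x ∉ (Ideal.span {z}).radical ∧ x * z ∈ Q := by
    intro Q hQ
    by_cases hzQ : z ∈ Q
    · exact ⟨1, fun h => hz.ne_top ((Ideal.eq_top_iff_one _).mpr h), by simpa using hzQ⟩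
    · have hQ0 : Q ≠ ⊥ := by
        intro e
        have : v ∈ Vᶜ := by
          rw [hVc, PrimeSpectrum.mem_zeroLocus]
          exact SetLike.coe_subset_coe.mpr (le_trans hQ.1.2 (e ▸ bot_le))
        exact this hv
      obtain ⟨x, hxQ, hxP⟩ := SetLike.not_le_iff_exists.mp (not_le_prime z hz Q hQ.1.1 hzQ hQ0)
      exact ⟨x, hxP, Q.mul_mem_right z hxQ⟩
  choose f hf1 hf2 using hex
  refine ⟨∏ Q ∈ hfin.toFinset.attach, f Q.1 (hfin.mem_toFinset.mp Q.2), ?_, ?_⟩
  · intro h
    obtain ⟨Q, _, hQ⟩ := hz.prod_mem_iff.mp h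
    exact hf1 _ _ hQ
  · intro p hp
    by_contra hpV
    have hJp : J ≤ p.asIdeal := by
      have : p ∈ Vᶜ := hpV
      rwa [hVc, PrimeSpectrum.mem_zeroLocus] at this
    obtain ⟨Q, hQ, hQp⟩ := Ideal.exists_minimalPrimes_le hJp
    refine hp ?_
    obtain ⟨c, hc⟩ : f Q hQ ∣ ∏ Q ∈ hfin.toFinset.attach, f Q.1 (hfin.mem_toFinset.mp Q.2) :=
      Finset.dvd_prod_of_mem _ (Finset.mem_attach _ ⟨Q, hfin.mem_toFinset.mpr hQ⟩)
    rw [hc, show f Q hQ * c * z = c * (f Q hQ * z) by ring]
    exact p.asIdeal.mul_mem_left c (hQp (hf2 Q hQ))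

end Groth.Agent.S18392
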