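import Groth.Statements.S18393
import Mathlib
-- import your own Groth.Agent.* helpers here

set_option autoImplicit false
universe u v
open LVCorr

namespace Groth.Agent.S18393


/-- Stated for the underlying continuous maps. Let c₁, c₂ : C → X be continuous maps with C a Noetherian
topological space, let Z be a closed subset of X and B the closure in C of c₂⁻¹(Z) ∖ c₁⁻¹(Z). Call Z
locally invariant when every point x of Z has an open neighbourhood U such that every y in C with
c₂(y) ∈ Z ∩ U and c₁(y) ∈ U satisfies c₁(y) ∈ Z. Then Z is locally invariant if and only if for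
every irreducible subset T of B the closures of c₁(T) and of c₂(T) in X are disjoint. (The source
states this for a correspondence c = (c₁, c₂) : C → X × X of separated schemes of finite type over
an algebraically closed field and for the irreducible components of B; the condition for all
irreducible subsets of B is the same condition.) -/
theorem result {C : Type u} {X : Type v}
    [TopologicalSpace C] [TopologicalSpace X] [TopologicalSpace.NoetherianSpace C]
    (c₁ c₂ : C → X) (hc₁ : Continuous c₁) (hc₂ : Continuous c₂) (Z : Set X) (hZ : IsClosed Z) :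
    (∀ x ∈ Z, ∃ U : Set X, IsOpen U ∧ x ∈ U ∧
        ∀ y : C, c₂ y ∈ Z → c₂ y ∈ U → c₁ y ∈ U → c₁ y ∈ Z) ↔
      ∀ T : Set C, T ⊆ closure (c₂ ⁻¹' Z \ c₁ ⁻¹' Z) → IsIrreducible T →
        closure (c₁ '' T) ∩ closure (c₂ '' T) = ∅ := by
  classical
  constructor
  · intro h T hTB hT
    by_contra hne
    obtain ⟨x, hx1, hx2⟩ := Set.nonempty_iff_ne_empty.mpr hne
    have hxZ : x ∈ Z := by
      refine (closure_minimal ?_ hZ) hx2
      rintro _ ⟨t, ht, rfl⟩
      exact (closure_minimal Set.sdiff_subset (hZ.preimage hc₂)) (hTB ht)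
    obtain ⟨U, hU, hxU, hUy⟩ := h x hxZ
    obtain ⟨_, ha, t1, ht1, rfl⟩ := mem_closure_iff.mp hx1 U hU hxU
    obtain ⟨_, hb, t2, ht2, rfl⟩ := mem_closure_iff.mp hx2 U hU hxU
    obtain ⟨t, ht, hta, htb⟩ := hT.2 _ _ (hc₁.isOpen_preimage U hU) (hc₂.isOpen_preimage U hU)
      ⟨t1, ht1, ha⟩ ⟨t2, ht2, hb⟩
    obtain ⟨y, ⟨hy1, hy2⟩, hy3, hy4⟩ := mem_closure_iff.mp (hTB ht) _
      ((hc₁.isOpen_preimage U hU).inter (hc₂.isOpen_preimage U hU)) ⟨hta, htb⟩
    exact hy4 (hUy y hy3 hy2 hy1)
  · intro h x hx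
    obtain ⟨S, hSfin, -, hSirr, hSB⟩ := TopologicalSpace.NoetherianSpace.exists_finite_set_isClosed_irreducible
      (isClosed_closure (s := c₂ ⁻¹' Z \ c₁ ⁻¹' Z))
    refine ⟨⋂ T ∈ S, (if x ∈ closure (c₁ '' T) then (closure (c₂ '' T))ᶜ else (closure (c₁ '' T))ᶜ),
      hSfin.isOpen_biInter fun T _ => by split_ifs <;> exact isClosed_closure.isOpen_compl, ?_, ?_⟩
    · simp only [Set.mem_iInter]
      intro T hT
      split_ifs with hx1
      · intro hx2
        have := h T (hSB ▸ Set.subset_sUnion_of_mem hT) (hSirr T hT)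
        exact Set.notMem_empty x (this ▸ ⟨hx1, hx2⟩)
      · exact hx1
    · intro y hy2 hyU2 hyU1
      by_contra hy1
      have hyB : y ∈ ⋃₀ S := hSB ▸ subset_closure ⟨hy2, hy1⟩
      obtain ⟨T, hT, hyT⟩ := hyB
      simp only [Set.mem_iInter] at hyU1 hyU2
      have h1 := hyU1 T hT
      have h2 := hyU2 T hT
      split_ifs at h1 h2 with hx1
      · exact h2 (subset_closure ⟨y, hyT, rfl⟩)
      · exact h1 (subset_closure ⟨y, hyT, rfl⟩)

end Groth.Agent.S18393
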