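import Groth.Statements.S18394
import Groth.Agent.NagComp.DenseComp
-- import your own Groth.Agent.* helpers here

set_option autoImplicit false
universe u v
open LVCorr

namespace Groth.Agent.S18394

open AlgebraicGeometry CategoryTheory in
/-- Let X be a scheme separated and of finite type over a field k, and let (C₁ᵢ, C₂ᵢ), i ranging over a
finite set, be pairs of closed subsets of X with C₁ᵢ and C₂ᵢ disjoint for every i. Then X admits a
compactification in which each pair stays disjoint: there are a scheme X̄ proper over k and an open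
immersion j : X → X̄ over k with dense image such that for every i the closures of j(C₁ᵢ) and of
j(C₂ᵢ) in X̄ do not meet. (The source has k algebraically closed.) -/
theorem result {X : Scheme.{u}} (k : Type u) [Field k]
    (pX : X ⟶ Spec (CommRingCat.of k)) [IsSeparated pX] [QuasiCompact pX] [LocallyOfFiniteType pX]
    {ι : Type v} [Finite ι] (C₁ C₂ : ι → Set X) (h₁ : ∀ i, IsClosed (C₁ i)) (h₂ : ∀ i, IsClosed (C₂ i))
    (hd : ∀ i, C₁ i ∩ C₂ i = ∅) :
    ∃ (Xb : Scheme.{u}) (j : X ⟶ Xb) (p : Xb ⟶ Spec (CommRingCat.of k)),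
      IsProper p ∧ IsOpenImmersion j ∧ DenseRange j.base ∧ j ≫ p = pX ∧
      ∀ i, closure (j.base '' C₁ i) ∩ closure (j.base '' C₂ i) = ∅ := by
  classical
  haveI : IsNoetherian (Spec (CommRingCat.of k)) := {}
  haveI : CompactSpace X := QuasiCompact.compactSpace_of_compactSpace pX
  haveI : IsLocallyNoetherian X := LocallyOfFiniteType.isLocallyNoetherian pX
  haveI : IsNoetherian X := {}
  have step : ∀ T : Finset ι, ∃ (P : Scheme.{u}) (j : X ⟶ P) (p : P ⟶ Spec (CommRingCat.of k)),
      IsProper p ∧ IsOpenImmersion j ∧ j ≫ p = pX ∧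
      ∀ i ∈ T, Disjoint (closure (j.base '' C₁ i)) (closure (j.base '' C₂ i)) := by
    intro T
    induction T using Finset.induction with
    | empty =>
      obtain ⟨P, j, p, hj, hp, h⟩ := Groth.NagComp.hasCompactification pX
      exact ⟨P, j, p, hp, hj, h, by simp⟩
    | @insert a T _ ih =>
      obtain ⟨P, j, p, hp, hj, h, hT⟩ := ih
      haveI : CompactSpace P := QuasiCompact.compactSpace_of_compactSpace p
      haveI : QuasiSeparatedSpace P := quasiSeparatedSpace_of_quasiSeparated p
      obtain ⟨K, P', c, j', -, -, hc, hj', hjc, hdisj⟩ := Groth.NagComp.exists_disjoint_closures j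
        (C₁ a) (C₂ a) (h₁ a) (h₂ a) (TopologicalSpace.NoetherianSpace.isCompact _)
        (TopologicalSpace.NoetherianSpace.isCompact _) (Set.disjoint_iff_inter_eq_empty.mpr (hd a))
      refine ⟨P', j', c ≫ p, inferInstance, hj', by rw [← Category.assoc, hjc, h], fun i hi => ?_⟩
      rcases Finset.mem_insert.mp hi with rfl | hi
      · exact hdisj
      · have hsub : ∀ Z : Set X, closure (j'.base '' Z) ⊆ c.base ⁻¹' closure (j.base '' Z) := fun Z =>
          closure_minimal (by
            rintro _ ⟨x, hx, rfl⟩
            exact subset_closure ⟨x, hx, congr($(hjc.symm) x)⟩)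
            (isClosed_closure.preimage c.continuous)
        exact ((hT i hi).preimage c.base).mono (hsub _) (hsub _)
  haveI := Fintype.ofFinite ι
  obtain ⟨P, j, p, hp, hj, h, hT⟩ := step Finset.univ
  obtain ⟨Cb, j', g, φ, hj', -, -, hd', hg, hjg, -, hjφ⟩ :=
    Groth.NagComp.exists_compactification_over pX p j h
  refine ⟨Cb, j', g, hg, hj', hd'.denseRange, hjg, fun i => ?_⟩
  have hsub : ∀ Z : Set X, closure (j'.base '' Z) ⊆ φ.base ⁻¹' closure (j.base '' Z) := fun Z =>
    closure_minimal (by
      rintro _ ⟨x, hx, rfl⟩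
      exact subset_closure ⟨x, hx, congr($(hjφ.symm) x)⟩)
      (isClosed_closure.preimage φ.continuous)
  exact Set.disjoint_iff_inter_eq_empty.mp
    (((hT i (Finset.mem_univ i)).preimage φ.base).mono (hsub _) (hsub _))

end Groth.Agent.S18394
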