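import Groth.Statements.S18395
import Groth.Agent.S18394
import Groth.Agent.S18388
-- import your own Groth.Agent.* helpers here

set_option autoImplicit false
universe u
open LVCorr

namespace Groth.Agent.S18395

open AlgebraicGeometry CategoryTheory TopologicalSpace in
/-- If `c` is proper over `U` and `c ≫ jX` extends to a separated `cb` on a space in which `c⁻¹U` is
dense, then nothing new lies over `U`. -/
theorem eq_range_over {C X Cb Xb : Scheme.{u}} (c : C ⟶ X) (U : X.Opens) [IsProper (c ∣_ U)]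
    (hU : Dense ((c ⁻¹ᵁ U : C.Opens) : Set C)) (j : C ⟶ Cb) [IsOpenImmersion j] (jX : X ⟶ Xb)
    [IsOpenImmersion jX] (hd : DenseRange j.base) (cb : Cb ⟶ Xb) [IsSeparated cb]
    (h : j ≫ cb = c ≫ jX) (y : Cb) (hy : cb.base y ∈ jX.base '' (U : Set X)) :
    ∃ a : C, c.base a ∈ U ∧ j.base a = y := by
  let O : Xb.Opens := jX ''ᵁ U
  let W : Cb.Opens := cb ⁻¹ᵁ O
  have hr : Set.range ((c ⁻¹ᵁ U).ι ≫ j) ⊆ Set.range W.ι := by
    rintro _ ⟨a, rfl⟩
    rw [Scheme.Opens.range_ι]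
    exact ⟨c a.1, a.2, (congr($h a.1)).symm⟩
  let l := IsOpenImmersion.lift W.ι ((c ⁻¹ᵁ U).ι ≫ j) hr
  have hl : l ≫ W.ι = (c ⁻¹ᵁ U).ι ≫ j := IsOpenImmersion.lift_fac _ _ _
  let g : (W : Scheme.{u}) ⟶ (U : Scheme.{u}) := (cb ∣_ O) ≫ (jX.isoImage U).inv
  have hg : l ≫ g = c ∣_ U := by
    rw [← cancel_mono (U.ι ≫ jX)]
    simp only [g, Category.assoc, Scheme.Hom.isoImage_inv_ι, morphismRestrict_ι_assoc]
    show l ≫ (cb ∣_ O) ≫ O.ι = _
    rw [morphismRestrict_ι, reassoc_of% hl, h]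
  haveI : IsProper (l ≫ g) := hg.symm ▸ inferInstance
  haveI : IsSeparated (cb ∣_ O) := IsZariskiLocalAtTarget.restrict ‹_› _
  haveI : IsSeparated g := inferInstance
  haveI : IsProper l := IsProper.of_comp l g
  by_contra hne
  have hO : IsOpen (W.ι '' (Set.range l)ᶜ) :=
    W.ι.isOpenEmbedding.isOpenMap _ l.isClosedMap.isClosed_range.isOpen_compl
  have hyW : y ∈ W := hy
  have hy' : (⟨y, hyW⟩ : (W : Scheme.{u})) ∈ (Set.range l)ᶜ := by
    rintro ⟨a, ha⟩
    exact hne ⟨a.1, a.2, (congr($hl a)).symm.trans (congrArg W.ι ha)⟩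
  obtain ⟨a, haO⟩ := hd.exists_mem_open hO ⟨y, ⟨y, hyW⟩, hy', rfl⟩
  obtain ⟨a', ha', haU⟩ := mem_closure_iff.mp (hU a) _ (hO.preimage j.continuous) haO
  obtain ⟨w, hw, hwa⟩ := ha'
  exact hw ⟨⟨a', haU⟩, W.ι.isOpenEmbedding.injective ((congr($hl ⟨a', haU⟩)).trans hwa.symm)⟩

open AlgebraicGeometry CategoryTheory in
/-- Let X and C be schemes separated and of finite type over a field k, let c₁, c₂ : C → X be morphisms
over k (a correspondence C → X × X), and fix an open U ⊆ X whose preimage c₁⁻¹(U) forms a dense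
subset of C, such that the restriction c₁⁻¹(U) → U of c₁ is proper, and the closed subset Z = X ∖ U
is locally invariant: every point x of Z has an open neighbourhood U' such that every y in C with
c₂(y) ∈ Z ∩ U' and c₁(y) ∈ U' satisfies c₁(y) ∈ Z. Then the correspondence has a compactification
for which the complement of U is again locally invariant: there are schemes C̄ and X̄ proper over k,
open immersions j : C → C̄ and jX : X → X̄ over k with dense images, and morphisms c̄₁, c̄₂ : C̄ →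
X̄ over k with j followed by c̄ᵢ equal to cᵢ followed by jX, such that X̄ ∖ jX(U) is locally
invariant for (c̄₁, c̄₂) in the same sense. (The source has k algebraically closed.) -/
theorem result {C X : Scheme.{u}} (k : Type u) [Field k]
    (pC : C ⟶ Spec (CommRingCat.of k)) [IsSeparated pC] [QuasiCompact pC] [LocallyOfFiniteType pC]
    (pX : X ⟶ Spec (CommRingCat.of k)) [IsSeparated pX] [QuasiCompact pX] [LocallyOfFiniteType pX]
    (c₁ c₂ : C ⟶ X) (hc₁ : c₁ ≫ pX = pC) (hc₂ : c₂ ≫ pX = pC) (U : X.Opens)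
    (hU : Dense ((c₁ ⁻¹ᵁ U : C.Opens) : Set C)) [IsProper (c₁ ∣_ U)]
    (hZ : ∀ x ∈ ((U : Set X)ᶜ), ∃ U' : Set X, IsOpen U' ∧ x ∈ U' ∧
        ∀ y, c₂.base y ∈ ((U : Set X)ᶜ) → c₂.base y ∈ U' → c₁.base y ∈ U' → c₁.base y ∈ ((U : Set X)ᶜ)) :
    ∃ (Cb Xb : Scheme.{u}) (pCb : Cb ⟶ Spec (CommRingCat.of k)) (pXb : Xb ⟶ Spec (CommRingCat.of k))
      (j : C ⟶ Cb) (jX : X ⟶ Xb) (cb₁ cb₂ : Cb ⟶ Xb),
      IsProper pCb ∧ IsProper pXb ∧ IsOpenImmersion j ∧ IsOpenImmersion jX ∧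
      DenseRange j.base ∧ DenseRange jX.base ∧ j ≫ pCb = pC ∧ jX ≫ pXb = pX ∧
      cb₁ ≫ pXb = pCb ∧ cb₂ ≫ pXb = pCb ∧ j ≫ cb₁ = c₁ ≫ jX ∧ j ≫ cb₂ = c₂ ≫ jX ∧
      ∀ x ∈ ((jX.base '' (U : Set X))ᶜ), ∃ U' : Set Xb, IsOpen U' ∧ x ∈ U' ∧
        ∀ y, cb₂.base y ∈ ((jX.base '' (U : Set X))ᶜ) → cb₂.base y ∈ U' → cb₁.base y ∈ U' → cb₁.base y ∈ ((jX.base '' (U : Set X))ᶜ) := by
  classical
  haveI : IsNoetherian (Spec (CommRingCat.of k)) := {}
  haveI : CompactSpace C := QuasiCompact.compactSpace_of_compactSpace pC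
  haveI : IsLocallyNoetherian C := LocallyOfFiniteType.isLocallyNoetherian pC
  haveI : IsNoetherian C := {}
  obtain ⟨T, hTf, hTc, hTi, hT⟩ :=
    TopologicalSpace.NoetherianSpace.exists_finite_set_isClosed_irreducible
      (U.2.isClosed_compl.preimage c₂.continuous)
  haveI : Finite T := hTf
  let η : T → C := fun t => (hTi t t.2).genericPoint
  have hηmem : ∀ t : T, c₂.base (η t) ∈ ((U : Set X)ᶜ) := fun t =>
    hT.ge ⟨t, t.2, ((hTi t t.2).isGenericPoint_genericPoint (hTc t t.2)).mem⟩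
  let G := {t : T // c₁.base (η t) ∈ U}
  have hd : ∀ t : G, closure {c₁.base (η t.1)} ∩ closure {c₂.base (η t.1)} = (∅ : Set X) := by
    intro t
    rw [Set.eq_empty_iff_forall_notMem]
    rintro x ⟨h1, h2⟩
    obtain ⟨U', hU'o, hxU', hinv⟩ :=
      hZ x (closure_minimal (Set.singleton_subset_iff.mpr (hηmem t.1)) U.2.isClosed_compl h2)
    exact hinv (η t.1) (hηmem t.1) ((specializes_iff_mem_closure.mpr h2).mem_open hU'o hxU')
      ((specializes_iff_mem_closure.mpr h1).mem_open hU'o hxU') t.2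
  obtain ⟨Xb, jX, pXb, hpXb, hjX, hjXd, hjXp, hsep⟩ := Groth.Agent.S18394.result k pX
    (fun t : G => closure {c₁.base (η t.1)}) (fun t : G => closure {c₂.base (η t.1)})
    (fun _ => isClosed_closure) (fun _ => isClosed_closure) hd
  haveI := hpXb
  haveI := hjX
  obtain ⟨Cb, pCb, j, cb₁, cb₂, hpCb, hj, hjd, hjp, hcb₁, hcb₂, h₁, h₂⟩ :=
    Groth.Agent.S18388.result pC pX pX pXb pXb c₁ c₂ hc₁ hc₂ jX jX hjXp hjXp
  haveI : IsProper pCb := hpCb
  haveI : IsProper (cb₁ ≫ pXb) := hcb₁.symm ▸ hpCb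
  haveI : IsSeparated cb₁ := IsSeparated.of_comp cb₁ pXb
  haveI := hj
  refine ⟨Cb, Xb, pCb, pXb, j, jX, cb₁, cb₂, hpCb, hpXb, hj, hjX, hjd, hjXd, hjp, hjXp, hcb₁, hcb₂,
    h₁, h₂, fun x _ => ?_⟩
  let bad : G → Set Xb := fun t =>
    if x ∈ closure {jX.base (c₁.base (η t.1))} then closure {jX.base (c₂.base (η t.1))}
    else closure {jX.base (c₁.base (η t.1))}
  have hbad : IsClosed (⋃ t, bad t) := isClosed_iUnion_of_finite fun t => by
    simp only [bad]; split_ifs <;> exact isClosed_closure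
  refine ⟨(⋃ t, bad t)ᶜ, hbad.isOpen_compl, fun hx => ?_, fun y hy₂ hy₂' hy₁' => ?_⟩
  · obtain ⟨t, ht⟩ := Set.mem_iUnion.mp hx
    simp only [bad] at ht
    split_ifs at ht with h
    · have hsub : ∀ z : X, closure {jX.base z} ⊆ closure (jX.base '' closure {z}) := fun z =>
        closure_mono (Set.singleton_subset_iff.mpr ⟨z, subset_closure rfl, rfl⟩)
      exact Set.eq_empty_iff_forall_notMem.mp (hsep t) x ⟨hsub _ h, hsub _ ht⟩
    · exact h ht
  · intro hy₁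
    obtain ⟨a, haU, rfl⟩ := eq_range_over c₁ U hU j jX hjd cb₁ h₁ y hy₁
    have e₁ : cb₁.base (j.base a) = jX.base (c₁.base a) := congr($h₁ a)
    have e₂ : cb₂.base (j.base a) = jX.base (c₂.base a) := congr($h₂ a)
    rw [e₁] at hy₁'
    rw [e₂] at hy₂ hy₂'
    have haZ : c₂.base a ∈ ((U : Set X)ᶜ) := fun h => hy₂ ⟨_, h, rfl⟩
    obtain ⟨t, ht, hat⟩ := hT.le (show a ∈ c₂.base ⁻¹' ((U : Set X)ᶜ) from haZ)
    have hsp : η ⟨t, ht⟩ ⤳ a :=
      ((hTi t ht).isGenericPoint_genericPoint (hTc t ht)).specializes hat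
    let g : G := ⟨⟨t, ht⟩, (hsp.map c₁.continuous).mem_open U.2 haU⟩
    have m₁ : jX.base (c₁.base a) ∈ closure {jX.base (c₁.base (η g.1))} :=
      ((hsp.map c₁.continuous).map jX.continuous).mem_closure
    have m₂ : jX.base (c₂.base a) ∈ closure {jX.base (c₂.base (η g.1))} :=
      ((hsp.map c₂.continuous).map jX.continuous).mem_closure
    by_cases h : x ∈ closure {jX.base (c₁.base (η g.1))}
    · exact hy₂' (Set.mem_iUnion.mpr ⟨g, by simp only [bad, if_pos h]; exact m₂⟩)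
    · exact hy₁' (Set.mem_iUnion.mpr ⟨g, by simp only [bad, if_neg h]; exact m₁⟩)

end Groth.Agent.S18395
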