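import Groth.Statements.S18397
import Mathlib
import Groth.Agent.Misc14.FrobTwist
-- import your own Groth.Agent.* helpers here

set_option autoImplicit false
universe u
open LVCorr

namespace Groth.Agent.S18397

section Helpers

open CategoryTheory AlgebraicGeometry

/-- Every subset of a closed discrete subspace is closed. -/
lemma isClosed_of_subset_discrete {Y : Type u} [TopologicalSpace Y] {A S : Set Y} (hA : IsClosed A)
    (hd : _root_.IsDiscrete A) (hS : S ⊆ A) : IsClosed S := by
  have : DiscreteTopology A := isDiscrete_iff_discreteTopology.mp hd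
  have h := hA.isClosedEmbedding_subtypeVal.isClosedMap ((↑) ⁻¹' S) (isClosed_discrete _)
  rwa [Subtype.image_preimage_coe, Set.inter_eq_self_of_subset_right hS] at h

/-- Inequalities between ideal sheaves may be checked on affine opens inside an open subscheme. -/
lemma comap_le_comap_of_forall {Y : Scheme.{u}} (W : Y.Opens) (A B : Y.IdealSheafData)
    (h : ∀ V : Y.affineOpens, (V : Y.Opens) ≤ W → A.ideal V ≤ B.ideal V) :
    A.comap W.ι ≤ B.comap W.ι := by
  intro U
  rw [Scheme.IdealSheafData.ideal_comap_of_isOpenImmersion,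
    Scheme.IdealSheafData.ideal_comap_of_isOpenImmersion]
  refine Ideal.comap_mono (h _ ?_)
  intro y hy
  obtain ⟨z, -, rfl⟩ := hy
  exact z.2

end Helpers

open AlgebraicGeometry CategoryTheory CategoryTheory.Limits in
/-- Let k₀ be a finite field with p^e elements, K an algebraic closure of k₀, C₀ a scheme locally of
finite type over k₀, C = C₀ ×_{k₀} Spec K with its projections, and Fr : C → C the n-th power of the
geometric Frobenius (over K, compatible with the (e·n)-th power of the absolute p-Frobenius of C₀).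
Let X be locally of finite type over K and c₁, c₂ : C → X morphisms over K with c₂ quasi-finite, and
let d < p^(e n) be such that for every closed point x of X, with J_x the inverse image under c₂ of
the ideal sheaf of the reduced point x, one has (√J_x)^d ⊂ J_x (d bounds the ramification of c₂).
Then the twisted correspondence (c₁ ∘ Fr, c₂) is contracting near every closed point in a
neighbourhood of its fixed points: for every closed point x of X there is an open subset W of C
containing every point of C whose image under (c₁ ∘ Fr, c₂) : C → X ×_K X lies in the diagonal, such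
that, writing L and J for the inverse image ideal sheaves on W of the ideal of x under c₁ ∘ Fr and
under c₂, one has L ⊂ J and L^k ⊂ J^(k+1) for some k. (In the source the correspondence is defined
over k₀ and the twist is written with the geometric Frobenius of X.) -/
theorem result {C C₀ X : Scheme.{u}}
    (p : ℕ) [Fact p.Prime] (k₀ : Type u) [Field k₀] [Fintype k₀] [CharP k₀ p] (e : ℕ)
    (hq : Fintype.card k₀ = p ^ e) (K : Type u) [Field K] [Algebra k₀ K] [IsAlgClosure k₀ K]
    (f₀ : C₀ ⟶ Spec (CommRingCat.of k₀)) [LocallyOfFiniteType f₀] [FrobSch.IsCharP C₀ p]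
    (πC₀ : C ⟶ C₀) (πK : C ⟶ Spec (CommRingCat.of K))
    (hC : IsPullback πC₀ πK f₀ (Spec.map (CommRingCat.ofHom (algebraMap k₀ K))))
    (n : ℕ) (Fr : C ⟶ C)
    (hFr₀ : Fr ≫ πC₀ = πC₀ ≫ End.asHom (End.of (FrobSch.frob C₀ p) ^ (e * n)))
    (hFrK : Fr ≫ πK = πK)
    (pX : X ⟶ Spec (CommRingCat.of K)) [LocallyOfFiniteType pX]
    (c₁ c₂ : C ⟶ X) (hc₁ : c₁ ≫ pX = πK) (hc₂ : c₂ ≫ pX = πK)
    [LocallyQuasiFinite c₂] [LocallyOfFiniteType c₂]
    (hcomm : (Fr ≫ c₁) ≫ pX = c₂ ≫ pX) (d : ℕ) (hn : d < p ^ (e * n))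
    (hd : ∀ (x : X) (hx : IsClosed ({x} : Set X)),
      ((Scheme.IdealSheafData.vanishingIdeal ⟨{x}, hx⟩).comap c₂).radical ^ d ≤
        (Scheme.IdealSheafData.vanishingIdeal ⟨{x}, hx⟩).comap c₂)
    (x : X) (hx : IsClosed ({x} : Set X)) :
    ∃ W : C.Opens,
      (pullback.lift (Fr ≫ c₁) c₂ hcomm).base ⁻¹' Set.range (pullback.diagonal pX).base ⊆ (W : Set C) ∧
      (Scheme.IdealSheafData.vanishingIdeal ⟨{x}, hx⟩).comap (W.ι ≫ Fr ≫ c₁) ≤
        (Scheme.IdealSheafData.vanishingIdeal ⟨{x}, hx⟩).comap (W.ι ≫ c₂) ∧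
      ∃ k : ℕ, (Scheme.IdealSheafData.vanishingIdeal ⟨{x}, hx⟩).comap (W.ι ≫ Fr ≫ c₁) ^ k ≤
        (Scheme.IdealSheafData.vanishingIdeal ⟨{x}, hx⟩).comap (W.ι ≫ c₂) ^ (k + 1) := by
  classical
  set I := Scheme.IdealSheafData.vanishingIdeal (⟨{x}, hx⟩ : TopologicalSpace.Closeds X) with hI
  have hsup : (I.support : Set X) = {x} := by simp [hI]
  set A : Set C := c₂.base ⁻¹' {x}
  have hAc : IsClosed A := hx.preimage c₂.continuous
  have hAd : _root_.IsDiscrete A := c₂.isDiscrete_preimage_singleton x
  set S : Set C := {y | c₂.base y = x ∧ (Fr ≫ c₁).base y ≠ x} with hSdef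
  set T : Set C := {y | c₂.base y = x ∧ (Fr ≫ c₁).base y = x} with hTdef
  have hSc : IsClosed S := isClosed_of_subset_discrete hAc hAd fun y hy => hy.1
  have hTc : IsClosed T := isClosed_of_subset_discrete hAc hAd fun y hy => hy.1
  let W : C.Opens := ⟨Sᶜ, hSc.isOpen_compl⟩
  set J := I.comap c₂ with hJ
  set M := I.comap c₁ with hM
  have hJs : (J.support : Set C) = A := by
    rw [hJ, Scheme.IdealSheafData.support_comap]
    show c₂.base ⁻¹' (I.support : Set X) = A
    rw [hsup]
  set J' := Scheme.IdealSheafData.vanishingIdeal (⟨T, hTc⟩ : TopologicalSpace.Closeds C) with hJ'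
  have hJ's : J'.support ≤ (M.comap Fr).support := by
    intro y hy
    have hyT : y ∈ T := by
      rw [hJ', ← SetLike.mem_coe, Scheme.IdealSheafData.coe_support_vanishingIdeal] at hy
      exact hy
    rw [← SetLike.mem_coe, hM, ← Scheme.IdealSheafData.comap_comp,
      Scheme.IdealSheafData.support_comap]
    show (Fr ≫ c₁).base y ∈ (I.support : Set X)
    rw [hsup]
    exact hyT.2
  have hmain := Groth.Agent.Misc14.FrobTwist.comap_le_radical_pow p hC (e * n) hFr₀ hFrK M J' hJ's
  have hrad : ∀ V : C.affineOpens, (V : C.Opens) ≤ W → J'.radical.ideal V = J.radical.ideal V := by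
    intro V hV
    rw [← Scheme.IdealSheafData.vanishingIdeal_support, ← Scheme.IdealSheafData.vanishingIdeal_support,
      Scheme.IdealSheafData.vanishingIdeal_ideal, Scheme.IdealSheafData.vanishingIdeal_ideal]
    congr 1
    ext q
    have hq : V.2.fromSpec.base q ∈ (W : Set C) := hV (V.2.range_fromSpec.subset ⟨q, rfl⟩)
    show V.2.fromSpec.base q ∈ (J'.support : Set C) ↔ V.2.fromSpec.base q ∈ (J.support : Set C)
    rw [hJ', Scheme.IdealSheafData.coe_support_vanishingIdeal, hJs]
    exact ⟨fun h => h.1, fun h => ⟨h, not_not.mp fun h' => hq ⟨h, h'⟩⟩⟩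
  have hpt : ∀ V : C.affineOpens, (V : C.Opens) ≤ W →
      (M.comap Fr).ideal V ≤ J.radical.ideal V ^ (p ^ (e * n)) := by
    intro V hV
    have := hmain V
    rw [Scheme.IdealSheafData.ideal_pow, Pi.pow_apply, hrad V hV] at this
    exact this
  have hd' : J.radical ^ d ≤ J := hd x hx
  refine ⟨W, ?_, ?_, d, ?_⟩
  · rintro y ⟨w, hw⟩ ⟨h2, h1⟩
    have e1 := congrArg (pullback.fst pX pX).base hw
    have e2 := congrArg (pullback.snd pX pX).base hw
    simp only [← Scheme.Hom.comp_apply, pullback.diagonal_fst, pullback.diagonal_snd,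
      pullback.lift_fst, pullback.lift_snd] at e1 e2
    exact h1 (e1.symm.trans (e2.trans h2))
  · simp only [Scheme.IdealSheafData.comap_comp]
    refine comap_le_comap_of_forall W _ _ fun V hV => ?_
    refine (hpt V hV).trans ((Ideal.pow_le_pow_right hn.le).trans ?_)
    have := hd' V
    rwa [Scheme.IdealSheafData.ideal_pow, Pi.pow_apply] at this
  · simp only [Scheme.IdealSheafData.comap_comp]
    rw [← hJ, ← hM, ← Groth.Divisors.comap_pow (M.comap Fr) W.ι, ← Groth.Divisors.comap_pow J W.ι]
    refine comap_le_comap_of_forall W _ _ fun V hV => ?_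
    simp only [Scheme.IdealSheafData.ideal_pow, Pi.pow_apply]
    have h2 := hd' V
    rw [Scheme.IdealSheafData.ideal_pow, Pi.pow_apply] at h2
    refine (Ideal.pow_right_mono (hpt V hV) d).trans ?_
    rw [← pow_mul, mul_comm, pow_mul]
    exact (Ideal.pow_right_mono h2 _).trans (Ideal.pow_le_pow_right hn)

end Groth.Agent.S18397
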