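import Groth.Statements.S18398
import Groth.Agent.Misc14.FrobTwist
-- import your own Groth.Agent.* helpers here

set_option autoImplicit false
universe u
open LVCorr

namespace Groth.Agent.S18398


open AlgebraicGeometry CategoryTheory in
/-- In the corrected form which its proof establishes. Let k₀ be a finite field with p^e elements, K an
algebraic closure of k₀, C₀ a scheme over k₀, C = C₀ ×_{k₀} Spec K with its projections and Fr : C →
C the n-th power of the geometric Frobenius (over K, compatible with the (e·n)-th power of the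
absolute p-Frobenius of C₀). Let πX₀ : X → X₀ be a morphism of schemes, c₁ : C → X a morphism lying
over some c₁₀ : C₀ → X₀, c₂ : C → X any morphism, and I₀ a quasi-coherent sheaf of ideals on X₀ with
inverse image I on X and zero locus Z (a closed subscheme defined over k₀ when X = X₀ ×_{k₀} Spec
K). Suppose that Z is invariant, i.e. c₁ maps c₂⁻¹(Z) into Z set-theoretically, and that d < p^(e n)
satisfies (√J)^d ⊂ J for the inverse image ideal J of I under c₂. Then the inverse image ideal L of
I under c₁ ∘ Fr satisfies L ⊂ J and L^d ⊂ J^(d+1): the twisted correspondence is contracting near Z.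
(The published statement assumes only that Z is locally invariant and concludes that the twisted
correspondence is contracting near Z in a neighbourhood of its fixed points; that implication fails
when the Frobenius permutes the irreducible components of the closure of c₂⁻¹(Z) ∖ c₁⁻¹(Z), for
instance for C the disjoint union of two conjugate affine lines over the quadratic extension of k₀
mapped into the affine plane and Z a pair of conjugate points. What the proof does show is that
invariance of a subscheme defined over k₀ passes to the twisted correspondence, which together with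
the contraction criterion for invariant subschemes gives the statement here.) -/
theorem result {C C₀ X X₀ : Scheme.{u}} (p : ℕ)
    [Fact p.Prime] (k₀ : Type u) [Field k₀] [Fintype k₀] [CharP k₀ p] (e : ℕ)
    (hq : Fintype.card k₀ = p ^ e) (K : Type u) [Field K] [Algebra k₀ K] [IsAlgClosure k₀ K]
    (f₀ : C₀ ⟶ Spec (CommRingCat.of k₀)) [FrobSch.IsCharP C₀ p]
    (πC₀ : C ⟶ C₀) (πK : C ⟶ Spec (CommRingCat.of K))
    (hC : IsPullback πC₀ πK f₀ (Spec.map (CommRingCat.ofHom (algebraMap k₀ K))))
    (n : ℕ) (Fr : C ⟶ C)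
    (hFr₀ : Fr ≫ πC₀ = πC₀ ≫ End.asHom (End.of (FrobSch.frob C₀ p) ^ (e * n)))
    (hFrK : Fr ≫ πK = πK)
    (πX₀ : X ⟶ X₀) (c₁ c₂ : C ⟶ X) (c₁₀ : C₀ ⟶ X₀) (hc₁₀ : c₁ ≫ πX₀ = πC₀ ≫ c₁₀)
    (I₀ : X₀.IdealSheafData) (d : ℕ)
    (hd : ((I₀.comap πX₀).comap c₂).radical ^ d ≤ (I₀.comap πX₀).comap c₂) (hn : d < p ^ (e * n))
    (hinv : c₁.base '' (c₂.base ⁻¹' ((I₀.comap πX₀).support : Set X)) ⊆
      ((I₀.comap πX₀).support : Set X)) :
    (I₀.comap πX₀).comap (Fr ≫ c₁) ≤ (I₀.comap πX₀).comap c₂ ∧
      (I₀.comap πX₀).comap (Fr ≫ c₁) ^ d ≤ (I₀.comap πX₀).comap c₂ ^ (d + 1) := by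
  rw [AlgebraicGeometry.Scheme.IdealSheafData.comap_comp]
  refine Groth.Agent.Misc14.FrobTwist.contracting p hC (e * n) hFr₀ hFrK _ _ ?_ d hd hn
  intro x hx
  have h2 : c₁ x ∈ (I₀.comap πX₀).support := hinv ⟨x, by
    rw [AlgebraicGeometry.Scheme.IdealSheafData.support_comap _ c₂] at hx
    exact hx, rfl⟩
  simp only [AlgebraicGeometry.Scheme.IdealSheafData.support_comap] at h2 ⊢
  show πX₀ (c₁ (Fr x)) ∈ I₀.support
  have e1 : ∀ y, πX₀ (c₁ y) = c₁₀ (πC₀ y) := fun y => by
    rw [← AlgebraicGeometry.Scheme.Hom.comp_apply, hc₁₀, AlgebraicGeometry.Scheme.Hom.comp_apply]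
  rw [e1, Groth.Agent.Misc14.FrobTwist.proj_fr_apply p (e * n) hFr₀, ← e1]
  exact h2

end Groth.Agent.S18398
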