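import Groth.Statements.S18399
import Groth.Agent.Calg8.FixedLocus

set_option autoImplicit false
universe u
open CAlg

namespace Groth.Agent.S18399

/-- Let k be a field and A a regular local k-algebra with residue field k (the structure map from k onto
the residue field of A is surjective), let σ be a k-algebra endomorphism of A of finite order n with
n invertible in k, and let I_σ be the ideal of A generated by the elements f - σ f. Then I_σ is
generated by finitely many elements of the maximal ideal whose classes in the cotangent space m/m^2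
are linearly independent over the residue field. (Such elements are part of a regular system of
parameters of A, hence part of a regular sequence, which is the printed conclusion; the generators
with independent classes are what the argument produces.) -/
theorem result {k : Type u} [Field k] {A : Type u} [CommRing A] [Algebra k A] [IsRegularLocalRing A] (hres : Function.Surjective ⇑(algebraMap k (IsLocalRing.ResidueField A))) (σ : A →ₐ[k] A) (n : ℕ) (hσ : ∀ a : A, (⇑σ)^[n] a = a) (hn : (n : k) ≠ 0) : ∃ (m : ℕ) (f : Fin m → ↥(IsLocalRing.maximalIdeal A)), Ideal.span (Set.range fun i : Fin m => (f i : A)) = Ideal.span (Set.range fun a : A => a - σ a) ∧ LinearIndependent (IsLocalRing.ResidueField A) (fun i : Fin m => (IsLocalRing.maximalIdeal A).toCotangent (f i)) := by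
  classical
  have hpos : 0 < n := Nat.pos_of_ne_zero fun h => hn (by simp [h])
  have hpow : ∀ j a, (σ ^ j) a = (⇑σ)^[j] a := fun j => by
    induction j with
    | zero => intro a; simp
    | succ j ih => intro a; rw [pow_succ', AlgHom.mul_apply, ih, Function.iterate_succ_apply']
  let τ : A ≃ₐ[k] A := AlgEquiv.ofAlgHom σ (σ ^ (n - 1))
    (AlgHom.ext fun a => by
      show (σ * σ ^ (n - 1)) a = a
      rw [← pow_succ', Nat.sub_add_cancel hpos, hpow, hσ])
    (AlgHom.ext fun a => by
      show (σ ^ (n - 1) * σ) a = a
      rw [← pow_succ, Nat.sub_add_cancel hpos, hpow, hσ])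
  have hτ : ∀ j a, (τ ^ j) a = (σ ^ j) a := fun j => by
    induction j with
    | zero => intro a; simp
    | succ j ih =>
      intro a
      rw [pow_succ', pow_succ', AlgEquiv.mul_apply, AlgHom.mul_apply, ih]
      rfl
  have hτn : τ ^ n = 1 := AlgEquiv.ext fun a => by rw [hτ, hpow, hσ]; rfl
  have hfin : IsOfFinOrder τ := isOfFinOrder_iff_pow_eq_one.2 ⟨n, hpos, hτn⟩
  have : Fintype (Subgroup.zpowers τ) := Fintype.ofEquiv _ (finEquivZPowers hfin)
  let ρ : Subgroup.zpowers τ →* (A ≃ₐ[k] A) := (Subgroup.zpowers τ).subtype
  obtain ⟨m, f, hspan, hli, -⟩ := Groth.Calg8.FixedLocus.exists_generators ρ hres (by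
    obtain ⟨d, hd⟩ : Fintype.card (Subgroup.zpowers τ) ∣ n := by
      rw [← Nat.card_eq_fintype_card, Nat.card_zpowers]
      exact orderOf_dvd_of_pow_eq_one hτn
    intro h
    exact hn (by rw [hd, Nat.cast_mul, h, zero_mul]))
  refine ⟨m, f, hspan.trans (le_antisymm ?_ ?_), hli⟩
  · rw [Groth.Calg8.FixedLocus.fixIdeal, Ideal.span_le]
    rintro _ ⟨⟨g, hg⟩, x, rfl⟩
    show g x - x ∈ Ideal.span (Set.range fun a : A => a - σ a)
    rw [← hfin.mem_powers_iff_mem_zpowers] at hg
    obtain ⟨j, rfl⟩ := hg
    show (τ ^ j) x - x ∈ Ideal.span (Set.range fun a : A => a - σ a)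
    rw [hτ]
    induction j with
    | zero => simp
    | succ j ih =>
      rw [pow_succ' σ j, AlgHom.mul_apply]
      have h1 : (σ ^ j) x - σ ((σ ^ j) x) ∈ Ideal.span (Set.range fun a : A => a - σ a) :=
        Ideal.subset_span ⟨_, rfl⟩
      convert sub_mem ih h1 using 1
      ring
  · rw [Ideal.span_le]
    rintro _ ⟨a, rfl⟩
    show a - σ a ∈ Groth.Calg8.FixedLocus.fixIdeal ρ
    rw [← neg_sub]
    exact neg_mem (Ideal.subset_span ⟨⟨τ, Subgroup.mem_zpowers τ⟩, a, rfl⟩)

end Groth.Agent.S18399
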