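import Groth.Statements.S1840
import Groth.Agent.Misc1.CycDet.Functional
import Mathlib

set_option autoImplicit false
universe u v
open CycDet

namespace Groth.Agent.S1840

/-- Let M be a finite-dimensional vector space over the residue field κ of a local ring R, viewed as an
R-module. There is a κ-linear isomorphism from det_κ(M) to the top exterior power of M sending the
symbol of an admissible tuple (e₁, …, e_l) to e₁ ∧ … ∧ e_l. -/
theorem result (R : Type u) [CommRing R] [IsLocalRing R] (M : Type v) [AddCommGroup M] [Module R M] [Module (IsLocalRing.ResidueField R) M] [IsScalarTower R (IsLocalRing.ResidueField R) M] [Module.Finite (IsLocalRing.ResidueField R) M] : ∃ Φ : CycDet.Det R M ≃ₗ[IsLocalRing.ResidueField R] (⋀[IsLocalRing.ResidueField R]^((Module.length R M).toNat) M), ∀ e : CycDet.Adm R M (Module.length R M).toNat, Φ (CycDet.symbol R M e) = exteriorPower.ιMulti (IsLocalRing.ResidueField R) ((Module.length R M).toNat) e.1 := by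
  classical
  let κ := IsLocalRing.ResidueField R
  set l := (Module.length R M).toNat with hldef
  have hres : Function.Surjective (algebraMap R κ) := IsLocalRing.residue_surjective
  have hlen : Module.length R M = Module.finrank κ M := by
    rw [Module.length_eq_of_surjective hres, Module.length_eq_finrank]
  have hfr : Module.finrank κ M = l := by rw [hldef, hlen, ENat.toNat_natCast]
  have hl : Module.length R M = (l : ℕ∞) := by rw [hlen, hfr]
  have hkill : ∀ r ∈ IsLocalRing.maximalIdeal R, ∀ m : M, r • m = 0 := fun r hr m => by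
    rw [← algebraMap_smul κ r m, show algebraMap R κ r = 0 from (IsLocalRing.residue_eq_zero_iff r).2 hr, zero_smul]
  have hadm : ∀ v : Fin l → M, CycDet.IsAdmissible R M v := fun v i r hr => by
    rw [hkill r hr]; exact zero_mem _
  let ι' := exteriorPower.ιMulti κ l (M := M)
  have hdep : ∀ (v : Fin l → M) (a : Fin l), v a ∈ CycDet.spanBefore R M v a → ι' v = 0 := by
    intro v a ha
    refine AlternatingMap.map_linearDependent ι' v fun hli => hli.notMem_span_image (s := {j | j ≠ a}) ?_ ?_ (x := a)
    · simp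
    · refine (Submodule.span_le_restrictScalars R κ _) (Submodule.span_mono ?_ ha)
      rintro _ ⟨j, hj, rfl⟩
      exact ⟨j, fun h => by subst h; exact Nat.lt_irrefl _ hj, rfl⟩
  let φ : CycDet.Free R M l →ₗ[κ] ⋀[κ]^l M := Finsupp.linearCombination κ fun e => ι' e.1
  have hφ : ∀ e, φ (CycDet.sym R M e) = ι' e.1 := fun e => by simp [φ, CycDet.sym]
  let Φ : CycDet.DetOfLen R M l →ₗ[κ] ⋀[κ]^l M := Submodule.liftQ _ φ (Submodule.span_le.2 (by
    rintro z ((⟨e, a, ha, rfl⟩ | ⟨e, e', a, c, h, hc, rfl⟩) | ⟨e, e', a, b, hab, hca, he', rfl⟩)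
    · simp only [SetLike.mem_coe, LinearMap.mem_ker, hφ]
      exact hdep _ a ha
    · simp only [SetLike.mem_coe, LinearMap.mem_ker, map_sub, map_smul, hφ, sub_eq_zero]
      have h0 : ι' (Function.update e.1 a (e.1 a - (c : R) • e'.1 a)) = 0 := by
        refine hdep _ a ?_
        rw [Function.update_self, Groth.Misc1.CycDetLib.before_congr (R := R) (e' := e.1) fun j hj =>
          Function.update_of_ne (fun h => by subst h; exact Nat.lt_irrefl _ hj) _ _]
        exact hc
      rw [ι'.map_update_sub, Function.update_eq_self, sub_eq_zero, ← algebraMap_smul κ (c : R) (e'.1 a),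
        ι'.map_update_smul, show Function.update e.1 a (e'.1 a) = e'.1 from funext fun j => by
          rcases eq_or_ne j a with rfl | hja
          · rw [Function.update_self]
          · rw [Function.update_of_ne hja, h j hja]] at h0
      exact h0
    · simp only [SetLike.mem_coe, LinearMap.mem_ker, map_add, hφ]
      rw [he', ι'.map_swap _ (fun h => by subst h; omega), add_neg_cancel]))
  have hΦ : ∀ e : CycDet.Adm R M l, Φ (Groth.Misc1.CycDetLib.cls e.1 e.2) = ι' e.1 := hφ
  have hsurj : Function.Surjective Φ := by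
    rw [← LinearMap.range_eq_top, eq_top_iff, ← exteriorPower.ιMulti_span κ l M, Submodule.span_le]
    rintro _ ⟨v, rfl⟩
    exact ⟨_, hΦ ⟨v, hadm v⟩⟩
  obtain ⟨e₀, he₀, hg₀⟩ := Groth.Misc1.CycDetLib.exists_gen hl
  have hone : Module.finrank κ (⋀[κ]^l M) = 1 := by
    rw [exteriorPower.finrank_eq, hfr, Nat.choose_self]
  have : Nontrivial (⋀[κ]^l M) := Module.nontrivial_of_finrank_eq_succ hone
  have hne : Φ (Groth.Misc1.CycDetLib.cls e₀ he₀) ≠ 0 := by
    intro h0
    obtain ⟨w, hw⟩ := exists_ne (0 : ⋀[κ]^l M)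
    obtain ⟨z, rfl⟩ := hsurj w
    obtain ⟨s, rfl⟩ := Groth.Misc1.CycDetLib.span_singleton_cls hl he₀ hg₀ z
    exact hw (by rw [map_smul, h0, smul_zero])
  refine ⟨LinearEquiv.ofBijective Φ ⟨(injective_iff_map_eq_zero Φ).2 fun z hz => ?_, hsurj⟩, hΦ⟩
  obtain ⟨s, rfl⟩ := Groth.Misc1.CycDetLib.span_singleton_cls hl he₀ hg₀ z
  rw [map_smul, smul_eq_zero] at hz
  rw [hz.resolve_right hne, zero_smul]

end Groth.Agent.S1840
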