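import Groth.Statements.S18402
import Mathlib.AlgebraicGeometry.Morphisms.QuasiFinite
import Mathlib.AlgebraicGeometry.Morphisms.UniversallyOpen

set_option backward.isDefEq.respectTransparency false

set_option autoImplicit false
universe u
open Pi1

namespace Groth.Agent.S18402

open AlgebraicGeometry CategoryTheory CategoryTheory.Limits

/-- Let X be an irreducible scheme and π : W ⟶ X a flat morphism whose fibre over every field-valued
point of X is irreducible (so every fibre is geometrically irreducible and π is surjective). Then
for every finite étale cover Z of X with Z connected, the base change of Z along π is connected.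
Ranging over all finite étale covers of X, this says that the monodromy group of each cover (the
image of the fundamental group in the permutations of a geometric fibre) is unchanged by pullback
along π. The published statement asserts that equality of monodromy groups, for generically finite,
generically étale covers between irreducible algebraic stacks. -/
theorem result {X W : Scheme.{u}}
    [IrreducibleSpace X] (π : W ⟶ X) [Flat π] [GeometricallyIrreducible π]
    (Z : FEt.Cat X) [ConnectedSpace Z.left] :
    ConnectedSpace ↥(pullback Z.hom π) := by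
  haveI : IsFinite Z.hom := Z.prop.1
  haveI : Etale Z.hom := Z.prop.2
  let p : pullback Z.hom π ⟶ Z.left := pullback.fst _ _
  have hsurj : Function.Surjective p.base := p.surjective
  haveI : Nonempty ↥(pullback Z.hom π) := ⟨(hsurj (Classical.arbitrary Z.left)).choose⟩
  have hfib : ∀ z : Z.left, _root_.IsConnected (p.base ⁻¹' {z}) := by
    intro z
    have := ((IrreducibleSpace.isIrreducible_univ (X := ↥(p.fiber z))).image _
      (p.fiberι z).continuous.continuousOn)
    rw [Set.image_univ, p.range_fiberι] at this
    exact this.isConnected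
  refine { toPreconnectedSpace := ?_, toNonempty := inferInstance }
  rw [preconnectedSpace_iff_clopen]
  intro A hA
  have hsep : ∀ z, p.base ⁻¹' {z} ⊆ A ∨ p.base ⁻¹' {z} ⊆ Aᶜ := by
    intro z
    rcases Set.eq_empty_or_nonempty ((p.base ⁻¹' {z}) ∩ A) with h | h
    · right; intro w hw hwA; exact Set.notMem_empty w (h ▸ ⟨hw, hwA⟩)
    · left; exact (hfib z).isPreconnected.subset_isClopen hA h
  have hgen : ∀ B : Set ↥(pullback Z.hom π), IsOpen B → StableUnderGeneralization (p.base '' B) := by
    intro B hB z z' hz
    rintro ⟨w, hw, rfl⟩
    obtain ⟨w', hw', h'⟩ := Flat.generalizingMap p hz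
    exact ⟨w', hw'.mem_open hB hw, h'⟩
  have hcompl : (p.base '' A)ᶜ = p.base '' Aᶜ := by
    ext z
    constructor
    · intro hz
      obtain ⟨w, hw⟩ := hsurj z
      exact ⟨w, fun hwA => hz ⟨w, hwA, hw⟩, hw⟩
    · rintro ⟨w, hw, rfl⟩ ⟨w', hw', he⟩
      rcases hsep (p.base w) with h | h
      · exact hw (h rfl)
      · exact h he hw'
  let η := genericPoint X
  have hη : ∀ z : Z.left, ∃ g, Z.hom.base g = η ∧ g ⤳ z := by
    intro z
    obtain ⟨g, hg, he⟩ := Flat.generalizingMap Z.hom (genericPoint_specializes (α := ↥X) (Z.hom.base z))
    exact ⟨g, he, hg⟩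
  have hclosed : ∀ B : Set ↥(pullback Z.hom π), IsOpen B → IsOpen Bᶜ →
      (p.base '' B)ᶜ = p.base '' Bᶜ → IsClosed (p.base '' B) := by
    intro B hB hBc he
    have heq : p.base '' B = ⋃ g ∈ (Z.hom.base ⁻¹' {η}) ∩ p.base '' B, closure {g} := by
      ext z
      simp only [Set.mem_iUnion, exists_prop]
      constructor
      · intro hz
        obtain ⟨g, hg, hgz⟩ := hη z
        exact ⟨g, ⟨hg, hgen B hB hgz hz⟩, hgz.mem_closure⟩
      · rintro ⟨g, ⟨-, hg⟩, hz⟩
        by_contra hne
        have hz' : z ∈ p.base '' Bᶜ := he ▸ hne
        have hg' := hgen Bᶜ hBc (specializes_iff_mem_closure.mpr hz) hz'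
        rw [← he] at hg'
        exact hg' hg
    rw [heq]
    exact ((Z.hom.finite_preimage_singleton η).inter_of_left _).isClosed_biUnion
      fun _ _ => isClosed_closure
  have h2 : (p.base '' Aᶜ)ᶜ = p.base '' Aᶜᶜ := by rw [← hcompl, compl_compl, compl_compl]
  have hcl : IsClopen (p.base '' A) := by
    refine ⟨hclosed A hA.isOpen hA.compl.isOpen hcompl, ?_⟩
    rw [← isClosed_compl_iff, hcompl]
    exact hclosed Aᶜ hA.compl.isOpen (by rw [compl_compl]; exact hA.isOpen) h2
  rcases isClopen_iff.mp hcl with h | h
  · left; simpa using h
  · right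
    have h' : p.base '' Aᶜ = ∅ := by rw [← hcompl, h, Set.compl_univ]
    simpa using h'

end Groth.Agent.S18402
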