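import Groth.Statements.S18413
import Groth.Agent.CohBase.FibreConsequencesFP
import Groth.Agent.SiteCohomology.SchemeModules
import Groth.Agent.VarietyBC.GlobalField
import Groth.Agent.VarietyBC.Reduced
import Groth.Agent.Misc3Stein.Connected
import Groth.Agent.FibreDim.Composition
import Groth.Agent.FibreDim.Smooth
import Groth.Agent.Inter.Vanishing
import Groth.Agent.Curves1.CurveMor.Smooth
import Groth.Agent.FBaseGeom.AssTensor
import Groth.Agent.PicAux.PicLaw
import Groth.Agent.FlatStrata.FlatModel
import Groth.Agent.EulerDeg.LineBundle

set_option autoImplicit false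
set_option backward.isDefEq.respectTransparency.types false
universe u
open CategoryTheory AlgebraicGeometry
open Curves

namespace Groth.Agent.S18413


open CategoryTheory.Limits

variable {X S : Scheme.{u}} (f : X ⟶ S)

/-- Degree zero Betti number as the rank of functions on the fibre. -/
theorem betti_zero_eq (y : S) :
    letI : (f.fiber y).Over (Spec (CommRingCat.of (S.residueField y))) := ⟨f.fiberToSpecResidueField y⟩
    letI := (((f.fiber y) ↘ (Spec (CommRingCat.of (S.residueField y)))).appTop.hom.comp
      (Scheme.ΓSpecIso (CommRingCat.of (S.residueField y))).inv.hom :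
        S.residueField y →+* Γ(f.fiber y, ⊤)).toAlgebra
    PerfAux.betti f (Coh.structureModule X) y 0 =
      Module.finrank (S.residueField y) Γ(f.fiber y, ⊤) := by
  let : (f.fiber y).Over (Spec (CommRingCat.of (S.residueField y))) :=
    ⟨f.fiberToSpecResidueField y⟩
  obtain ⟨e⟩ := Groth.PicAux.pullback_structure_iso (f.fiberι y)
  exact ((Groth.CohBase.haIsoEquiv (f.fiberToSpecResidueField y) e 0).finrank_eq).trans
    (Groth.VarietyBC.GlobalField.finrank_HH_zero (S.residueField y) (f.fiber y))

/-- A proper morphism with functions pushed bijectively has nonempty connected fibres. -/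
theorem geometricallyConnected_fibre [IsProper f] (hO : ∀ U : S.Opens, Function.Bijective (f.app U))
    (y : S) : GeometricallyConnected (f.fiberToSpecResidueField y) :=
  have := Misc3Stein.geometricallyConnected_of_isIso_app f fun U _ =>
    (ConcreteCategory.isIso_iff_bijective _).2 (hO U)
  MorphismProperty.pullback_snd _ _ ‹GeometricallyConnected f›

/-- A reduced connected proper fibre over an algebraically closed residue field has only constants. -/
theorem betti_zero_eq_one [IsProper f] (hO : ∀ U : S.Opens, Function.Bijective (f.app U)) (y : S)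
    [IsAlgClosed (S.residueField y)] [AlgebraicGeometry.IsReduced (f.fiber y)] :
    PerfAux.betti f (Coh.structureModule X) y 0 = 1 := by
  let K := S.residueField y
  let C := f.fiber y
  let : C.Over (Spec (CommRingCat.of K)) := ⟨f.fiberToSpecResidueField y⟩
  have hp : IsProper (C ↘ Spec (CommRingCat.of K)) :=
    MorphismProperty.pullback_snd _ _ ‹IsProper f›
  have : LocallyOfFinitePresentation (C ↘ Spec (CommRingCat.of K)) := inferInstance
  have : GeometricallyReduced (C ↘ Spec (CommRingCat.of K)) := by
    refine (Groth.VarietyBC.geometricallyReduced_iff_forall (k := K) (X := C)).2 fun x => ?_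
    rw [Groth.VarietyBC.isGeomReducedAt_iff]
    let := Curv2.stalkAlgebra K C x
    exact Groth.VarietyBC.isGeometricallyReduced_of_perfectField _
  have : GeometricallyConnected (C ↘ Spec (CommRingCat.of K)) := geometricallyConnected_fibre f hO y
  have hb := Groth.VarietyBC.GlobalField.appTop_bijective (C ↘ Spec (CommRingCat.of K))
  let : Algebra K Γ(C, ⊤) := ((C ↘ (Spec (CommRingCat.of K))).appTop.hom.comp
    (Scheme.ΓSpecIso (CommRingCat.of K)).inv.hom).toAlgebra
  have hbij : Function.Bijective (algebraMap K Γ(C, ⊤)) :=
    hb.comp (ConcreteCategory.bijective_of_isIso (Scheme.ΓSpecIso (CommRingCat.of K)).inv)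
  rw [betti_zero_eq f y]
  exact ((LinearEquiv.ofBijective (Algebra.linearMap K Γ(C, ⊤)) hbij).finrank_eq).symm.trans
    (Module.finrank_self K)

/-- Let k be an algebraically closed field, X a k-scheme that is smooth of relative dimension 2 and
proper over k (a smooth proper surface), S an irreducible k-scheme smooth of relative dimension 1 (a
smooth curve), and π : X → S a proper flat k-morphism with O_S → π_* O_X bijective on every open
subset of S. For a closed point s of S whose scheme-theoretic fibre X_s is reduced: (a) H^0(X_s,
O_{X_s}) is one-dimensional over κ(s), and (b) the arithmetic genus dim H^1(X_s, O_{X_s}) equals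
that of the generic fibre X_η over κ(η). -/
theorem result
    {k : Type u} [Field k] [IsAlgClosed k] {X S : Scheme.{u}}
    (π : X ⟶ S) (g : S ⟶ Spec (CommRingCat.of k))
    [SmoothOfRelativeDimension 1 g] [IrreducibleSpace S]
    [SmoothOfRelativeDimension 2 (π ≫ g)] [IsProper (π ≫ g)]
    [IsProper π] [Flat π]
    (hO : ∀ U : S.Opens, Function.Bijective (π.app U))
    (s : S) (hs : IsClosed ({s} : Set S)) [AlgebraicGeometry.IsReduced (π.fiber s)] :
    PerfAux.betti π (Coh.structureModule X) s 0 = 1 ∧
      PerfAux.betti π (Coh.structureModule X) s 1 =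
        PerfAux.betti π (Coh.structureModule X) (genericPoint S) 1 := by
  let O := Coh.structureModule X
  have : Smooth g := SmoothOfRelativeDimension.smooth 1 g
  have : LocallyOfFiniteType g := inferInstance
  have : IsLocallyNoetherian S := LocallyOfFiniteType.isLocallyNoetherian g
  have : LocallyOfFinitePresentation π := inferInstance
  have hOc : Coh.IsCoh O := Groth.EulerDeg.isCoh_of_isInvertible
    (Groth.EulerDeg.isInvertible_structureModule X)
  have := hOc.1
  have hfp : CohB1.IsFP O := by
    have : IsLocallyNoetherian X := LocallyOfFiniteType.isLocallyNoetherian π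
    exact Groth.FlatStrata.isFP_of_isCoh hOc
  have hfl : FlatMod.IsFlatOver π O := Groth.FBaseGeom.isFlatOver_structureModule π
  let : S.Over (Spec (CommRingCat.of k)) := ⟨g⟩
  have : LocallyOfFiniteType (S ↘ Spec (CommRingCat.of k)) := ‹LocallyOfFiniteType g›
  let : Algebra k (S.residueField s) :=
    (Spec.preimage (S.fromSpecResidueField s ≫ g)).hom.toAlgebra
  have : IsAlgClosed (S.residueField s) := by
    have : IsClosedImmersion (S.fromSpecResidueField s) :=
      isClosed_singleton_iff_isClosedImmersion.mp hs
    have hft : LocallyOfFiniteType (S.fromSpecResidueField s ≫ g) := inferInstance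
    rw [← Spec.map_preimage (S.fromSpecResidueField s ≫ g),
      HasRingHomProperty.Spec_iff (P := @LocallyOfFiniteType)] at hft
    have : Algebra.FiniteType k (S.residueField s) := hft
    have : Module.Finite k (S.residueField s) := finite_of_finite_type_of_isJacobsonRing k _
    exact IsAlgClosed.of_ringEquiv k _ (RingEquiv.ofBijective (algebraMap k (S.residueField s))
      IsAlgClosed.algebraMap_bijective_of_isIntegral)
  have h0s : PerfAux.betti π O s 0 = 1 := betti_zero_eq_one π hO s
  refine ⟨h0s, ?_⟩
  have hη : genericPoint S ⤳ s := genericPoint_specializes s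
  have h0η : PerfAux.betti π O (genericPoint S) 0 = 1 := by
    have hle : PerfAux.betti π O (genericPoint S) 0 < 2 :=
      hη.mem_open (Groth.LimitMod.isOpen_betti_lt π O hfp hfl 0 2)
        (show PerfAux.betti π O s 0 < 2 by rw [h0s]; omega)
    have hpos : PerfAux.betti π O (genericPoint S) 0 ≠ 0 := by
      intro h0
      have := geometricallyConnected_fibre π hO (genericPoint S)
      have : Nonempty (π.fiber (genericPoint S)) := by
        let K := S.residueField (genericPoint S)
        have hc : ConnectedSpace (π.fiber (genericPoint S)) :=
          GeometricallyConnected.geometrically_connectedSpace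
            (f := π.fiberToSpecResidueField (genericPoint S)) (𝟙 (Spec (CommRingCat.of K))) (𝟙 (π.fiber (genericPoint S)))
            (π.fiberToSpecResidueField (genericPoint S))
            (IsPullback.of_horiz_isIso ⟨by simp⟩)
        exact hc.toNonempty
      have := Groth.CohBase.finite_fiberH π hfp hfl 0 (genericPoint S)
      have hsub : Subsingleton (CohIII.fiberH π O (genericPoint S) 0) := Module.finrank_zero_iff.1 h0
      obtain ⟨e⟩ := Groth.PicAux.pullback_structure_iso (π.fiberι (genericPoint S))
      have hsub' : Subsingleton Γ(π.fiber (genericPoint S), ⊤) := by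
        let E := Sheaf.H.equiv₀ (Coh.toAb (Coh.structureModule (π.fiber (genericPoint S))))
          (T := (⊤ : TopologicalSpace.Opens (π.fiber (genericPoint S)))) isTerminalTop
        have : Subsingleton (CohFin.HA (π.fiberToSpecResidueField (genericPoint S))
            ((Scheme.Modules.pullback (π.fiberι (genericPoint S))).obj (Coh.structureModule X)) 0) :=
          hsub
        have : Subsingleton (Coh.HH (π.fiber (genericPoint S))
            (Coh.structureModule (π.fiber (genericPoint S))) 0) :=
          (Groth.CohBase.haIsoEquiv (π.fiberToSpecResidueField (genericPoint S)) e 0).symm.toEquiv.subsingleton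
        exact E.symm.toEquiv.subsingleton
      have : Nonempty (⊤ : (π.fiber (genericPoint S)).Opens) :=
        ⟨⟨Classical.arbitrary _, trivial⟩⟩
      exact not_subsingleton Γ(π.fiber (genericPoint S), ⊤) hsub'
    omega
  have hdim : ∀ y : S, topologicalKrullDim ↥(π.fiber y) ≤ (1 : ℕ) := by
    intro y
    rw [Groth.FibreDim.dim_fiber_eq_iSup π y]
    refine iSup_le fun z => ?_
    rw [← Groth.FibreDim.fibreDimAt_fiberι π y z]
    let x := π.fiberι y z
    have h := (Groth.FibreDim.fibreDimAt_comp π g x).2
      (Groth.FibreDim.generalizing_of_flat_stalkMap π x (Flat.stalkMap π x))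
    rw [Groth.FibreDim.fibreDimAt_eq_of_smoothOfRelativeDimension 2 (π ≫ g),
      Groth.FibreDim.fibreDimAt_eq_of_smoothOfRelativeDimension 1 g] at h
    revert h
    change ((2 : ℕ) : WithBot ℕ∞) = FlatMor.fibreDimAt π x + ((1 : ℕ) : WithBot ℕ∞) →
      FlatMor.fibreDimAt π x ≤ _
    generalize FlatMor.fibreDimAt π x = a
    intro h
    induction a with
    | bot => exact bot_le
    | coe a =>
      have h' : ((2 : ℕ) : ℕ∞) = a + ((1 : ℕ) : ℕ∞) := WithBot.coe_injective h
      induction a with
      | top => simp at h'
      | coe a =>
        have : 2 = a + 1 := by exact_mod_cast h'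
        obtain rfl : a = 1 := by omega
        exact le_rfl
  have hvan : ∀ (y : S) (p : ℕ), 1 < p → PerfAux.betti π O y p = 0 := by
    intro y p hp
    have : TopologicalSpace.NoetherianSpace ↥(π.fiber y) := by
      have : IsLocallyNoetherian (π.fiber y) :=
        LocallyOfFiniteType.isLocallyNoetherian (π.fiberToSpecResidueField y)
      have : CompactSpace (π.fiber y) :=
        QuasiCompact.compactSpace_of_compactSpace (π.fiberToSpecResidueField y)
      have : IsNoetherian (π.fiber y) := {}
      infer_instance
    have : Subsingleton (CohIII.fiberH π O y p) :=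
      Groth.Inter.Vanishing.subsingleton_H_of_dim_le (hdim y) _ p hp
    exact Module.finrank_zero_of_subsingleton
  have key : ∀ y : S, PerfAux.eulerChar π O y =
      (PerfAux.betti π O y 0 : ℤ) - PerfAux.betti π O y 1 := by
    intro y
    unfold PerfAux.eulerChar
    rw [finsum_eq_sum_of_support_subset _ (s := Finset.range 2) ?_]
    · simp [Finset.sum_range_succ, sub_eq_add_neg]
    · intro p hp
      simp only [Finset.coe_range, Set.mem_Iio]
      by_contra h
      exact hp (by simp [hvan y p (by omega)])
  have hχ : PerfAux.eulerChar π O (genericPoint S) = PerfAux.eulerChar π O s :=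
    hη.mem_open ((Groth.LimitMod.isLocallyConstant_eulerChar π O hfp hfl).isOpen_fiber _)
      (show PerfAux.eulerChar π O s = PerfAux.eulerChar π O s from rfl)
  rw [key, key, h0s, h0η] at hχ
  change PerfAux.betti π O s 1 = PerfAux.betti π O (genericPoint S) 1
  omega

end Groth.Agent.S18413
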