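import Groth.Statements.S18417
import Groth.Agent.Calg71.TruncPoly

set_option autoImplicit false
universe u v
open CAlg

namespace Groth.Agent.S18417

/-- Let R → A be a ring homomorphism and x_1, …, x_d a weakly regular sequence in A generating an ideal
J such that B = A/J is formally smooth over R. Then for every N ≥ 1 there is an isomorphism of
R-algebras e : A/J^N ≅ B[T_1, …, T_d]/(T_1, …, T_d)^N which sends the class of x_i to the class of
T_i and which is compatible with the projections to B: for every a ∈ A, e(a mod J^N) is congruent to
the constant a mod J modulo the ideal generated by the variables. (The source also assumes R → A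
smooth, which its argument does not use, and a regular sequence; weak regularity is what the
argument uses.) -/
theorem result
    (R : Type u) (A : Type v) [CommRing R] [CommRing A] [Algebra R A] (d : ℕ) (x : Fin d → A)
    (hreg : RingTheory.Sequence.IsWeaklyRegular A (List.ofFn x))
    [Algebra.FormallySmooth R (A ⧸ Ideal.span (Set.range x))] (N : ℕ) (hN : 1 ≤ N) :
    ∃ e : (A ⧸ Ideal.span (Set.range x) ^ N) ≃ₐ[R]
        (MvPolynomial (Fin d) (A ⧸ Ideal.span (Set.range x)) ⧸
          Ideal.span (Set.range (MvPolynomial.X : Fin d → MvPolynomial (Fin d) (A ⧸ Ideal.span (Set.range x)))) ^ N),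
      (∀ i : Fin d, e (Ideal.Quotient.mk _ (x i)) = Ideal.Quotient.mk _ (MvPolynomial.X i)) ∧
      ∀ a : A, e (Ideal.Quotient.mk _ a) - Ideal.Quotient.mk _ (MvPolynomial.C (Ideal.Quotient.mk _ a)) ∈
        (Ideal.span (Set.range (MvPolynomial.X : Fin d → MvPolynomial (Fin d) (A ⧸ Ideal.span (Set.range x))))).map
          (Ideal.Quotient.mk _) := by
  exact Groth.Calg71.exists_truncPoly_equiv R A d x (Groth.EGA41Two.isQuasiRegular_of_isWeaklyRegular x hreg) N hN

end Groth.Agent.S18417
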