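import Groth.Statements.S18418
import Mathlib
-- import your own Groth.Agent.* helpers here

set_option autoImplicit false
universe u v
open FonLaf

namespace Groth.Agent.S18418

open WittVector in
theorem zero_of_torsion {W : Type*} [CommRing W] (σ : W →+* W) [RingHomSurjective σ] (π : W) {r : ℕ}
    {N : ℕ → Type*} [∀ i, AddCommGroup (N i)] [∀ i, Module W (N i)]
    (hfl : ∀ i, IsFiniteLength W (N i))
    (α : ∀ i, N (i + 1) →ₗ[W] N i) (φ : ∀ i, N i →ₛₗ[σ] N 0)
    (hsurj : ∀ m : N 0, ∃ y : (i : ℕ) → N i, (∀ i, r < i → y i = 0) ∧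
      (Finset.range (r + 1)).sum (fun i => φ i (y i)) = m)
    (hker : ∀ y : (i : ℕ) → N i, (∀ i, r < i → y i = 0) →
      (Finset.range (r + 1)).sum (fun i => φ i (y i)) = 0 →
        ∃ z : (i : ℕ) → N (i + 1), (∀ i, r ≤ i → z i = 0) ∧
          y 0 = α 0 (z 0) ∧ ∀ i, y (i + 1) = α (i + 1) (z (i + 1)) - π • z i)
    {i : ℕ} (hi : i < r) {x : N (i + 1)} (hx : π • x = 0) (hax : α i x = 0) : x = 0 := by
  classical
  let A := (j : Fin r) → N ((j : ℕ) + 1)
  let B := (j : Fin (r + 1)) → N (j : ℕ)
  let E : ∀ j, A →ₗ[W] N (j + 1) := fun j =>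
    if h : j < r then (LinearMap.proj (⟨j, h⟩ : Fin r) : A →ₗ[W] N (j + 1)) else 0
  have hE : ∀ (z : A) j (h : j < r), E j z = z ⟨j, h⟩ := fun z j h => by simp [E, h]; rfl
  have hE0 : ∀ (z : A) j, r ≤ j → E j z = 0 := fun z j h => by simp [E, not_lt.2 h]
  let L : ∀ j, A →ₗ[W] N j := fun j => Nat.casesOn (motive := fun j => A →ₗ[W] N j) j
    ((α 0).comp (E 0)) (fun j => (α (j + 1)).comp (E (j + 1)) - π • E j)
  let ι : A →ₗ[W] B := LinearMap.pi fun j : Fin (r + 1) => L (j : ℕ)
  let Φ : B →ₛₗ[σ] N 0 :=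
    ∑ j : Fin (r + 1), (φ (j : ℕ)).comp (LinearMap.proj (R := W) (φ := fun j : Fin (r + 1) => N j) j)
  have hΦ : ∀ b, Φ b = ∑ j : Fin (r + 1), φ (j : ℕ) (b j) := fun b => by simp [Φ]; rfl
  let ext : B → (j : ℕ) → N j := fun b j => if h : j < r + 1 then b ⟨j, h⟩ else 0
  have hext : ∀ b, Φ b = (Finset.range (r + 1)).sum (fun j => φ j (ext b j)) := fun b => by
    rw [hΦ, ← Fin.sum_univ_eq_sum_range (fun j => φ j (ext b j))]
    exact Finset.sum_congr rfl fun j _ => by simp only [ext]; rw [dif_pos j.isLt]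
  have hΦs : Function.Surjective Φ := fun m => by
    obtain ⟨y, -, hy⟩ := hsurj m
    refine ⟨fun j => y j, ?_⟩
    rw [hΦ, ← hy, ← Fin.sum_univ_eq_sum_range (fun j => φ j (y j))]
  have hle : LinearMap.ker Φ ≤ LinearMap.range ι := by
    intro b hb
    obtain ⟨z, hz, h0, hs⟩ := hker (ext b)
      (fun j hj => dif_neg (by omega)) ((hext b).symm.trans hb)
    have hzE : ∀ j, E j (fun j => z j) = z j := fun j => by
      by_cases h : j < r
      · rw [hE _ _ h]
      · rw [hE0 _ _ (not_lt.1 h), hz _ (not_lt.1 h)]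
    refine ⟨fun j => z j, funext fun j => ?_⟩
    obtain ⟨j, hj⟩ := j
    have hb' : b ⟨j, hj⟩ = ext b j := by simp only [ext]; rw [dif_pos hj]
    rw [hb']
    cases j with
    | zero => show α 0 (E 0 _) = _; rw [hzE, h0]
    | succ j => show α (j + 1) (E (j + 1) _) - π • E j _ = _; rw [hzE, hzE, hs]
  -- lengths
  have hne : ∀ j, Module.length W (N j) ≠ ⊤ := fun j => Module.length_ne_top_iff.2 (hfl j)
  let e := (LinearMap.ker Φ).liftQ Φ le_rfl
  have hbij : Function.Bijective e := by
    refine ⟨?_, fun m => ?_⟩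
    · rw [← LinearMap.ker_eq_bot]; exact Submodule.ker_liftQ_eq_bot _ _ _ le_rfl
    · obtain ⟨b, hb⟩ := hΦs m; exact ⟨Submodule.Quotient.mk b, hb⟩
  have he : Module.length W (B ⧸ LinearMap.ker Φ) = Module.length W (N 0) := by
    apply WithBot.coe_injective
    rw [Module.coe_length, Module.coe_length,
      Order.krullDim_eq_of_orderIso (Submodule.orderIsoMapComapOfBijective e hbij)]
  have hB : Module.length W B = Module.length W A + Module.length W (N 0) := by
    rw [Module.length_pi_of_fintype, Module.length_pi_of_fintype, Fin.sum_univ_succ, add_comm]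
    rfl
  have hA : Module.length W A ≠ ⊤ := by
    rw [Module.length_pi_of_fintype]
    exact (WithTop.sum_ne_top).2 fun j _ => hne _
  have hBsplit := Module.length_eq_add_of_exact (LinearMap.ker Φ).subtype
    (LinearMap.ker Φ).mkQ (Submodule.subtype_injective _) (Submodule.mkQ_surjective _)
    (LinearMap.exact_subtype_mkQ _)
  rw [hB, he] at hBsplit
  have hAk : Module.length W A = Module.length W (LinearMap.ker Φ) :=
    WithTop.add_right_cancel (hne 0) hBsplit
  have hAsplit := Module.length_eq_add_of_exact (LinearMap.ker ι).subtype ι.rangeRestrict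
    (Submodule.subtype_injective _) ι.surjective_rangeRestrict
    (by rw [LinearMap.exact_iff, LinearMap.ker_rangeRestrict, Submodule.range_subtype])
  have hkr : Module.length W A ≤ Module.length W (LinearMap.range ι) :=
    hAk ▸ Module.length_le_of_injective (Submodule.inclusion hle) (Submodule.inclusion_injective _)
  have hk0 : Module.length W (LinearMap.ker ι) = 0 := by
    set a := Module.length W (LinearMap.ker ι)
    set c := Module.length W (LinearMap.range ι)
    have hc : c ≠ ⊤ := ne_top_of_le_ne_top hA (hAsplit ▸ le_add_self)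
    rw [hAsplit] at hkr
    have h2 : a + c = 0 + c := by rw [zero_add]; exact le_antisymm hkr le_add_self
    exact WithTop.add_right_cancel hc h2
  have : Subsingleton (LinearMap.ker ι) := Module.length_eq_zero_iff.1 hk0
  let z : A := Pi.single ⟨i, hi⟩ x
  have hz : ∀ j, E j z = if h : i = j then h ▸ x else 0 := by
    intro j
    by_cases h : j < r
    · rw [hE _ _ h]
      by_cases hij : i = j
      · subst hij; simp [z]
      · rw [dif_neg hij]; exact Pi.single_eq_of_ne (fun e => hij (congrArg Fin.val e).symm) _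
    · rw [hE0 _ _ (not_lt.1 h), dif_neg (by omega)]
  have hzk : ι z = 0 := by
    funext j
    obtain ⟨j, hj⟩ := j
    have hα : ∀ j, α j (E j z) = 0 := fun j => by
      rw [hz]; split_ifs with h
      · subst h; exact hax
      · exact map_zero _
    have hπ : ∀ j, π • E j z = 0 := fun j => by
      rw [hz]; split_ifs with h
      · subst h; exact hx
      · exact smul_zero _
    cases j with
    | zero => show α 0 (E 0 z) = 0; exact hα 0
    | succ j => show α (j + 1) (E (j + 1) z) - π • E j z = 0; rw [hα, hπ, sub_zero]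
  have hz0 : (⟨z, hzk⟩ : LinearMap.ker ι) = 0 := Subsingleton.elim _ _
  have := congrFun (congrArg Subtype.val hz0) ⟨i, hi⟩
  simpa [z] using this

open scoped DirectSum in
theorem split_of_pure {W : Type*} [CommRing W] [IsDomain W] [IsDiscreteValuationRing W] {π : W}
    (hπ : Irreducible π) {M M' : Type*} [AddCommGroup M] [AddCommGroup M'] [Module W M]
    [Module W M'] [Module.Finite W M] (hM : Module.IsTorsion' M (Submonoid.powers π))
    (f : M' →ₗ[W] M) (hpure : ∀ (k : ℕ) (x : M') (y : M), f x = π ^ k • y → ∃ x', π ^ k • x' = x) :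
    ∃ Q : Submodule W M, IsCompl (LinearMap.range f) Q := by
  classical
  have hQ : Module.IsTorsion' (M ⧸ LinearMap.range f) (Submonoid.powers π) := by
    intro q
    obtain ⟨m, rfl⟩ := Submodule.Quotient.mk_surjective _ q
    obtain ⟨a, ha⟩ := @hM m
    exact ⟨a, by rw [← Submodule.Quotient.mk_smul, ha, Submodule.Quotient.mk_zero]⟩
  obtain ⟨d, k, ⟨e⟩⟩ := Module.torsion_by_prime_power_decomposition hπ hQ
  let g : Fin d → M ⧸ LinearMap.range f := fun i =>
    e.symm (DirectSum.lof W (Fin d) (fun i => W ⧸ W ∙ π ^ k i) i (Submodule.Quotient.mk 1))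
  have hlift : ∀ i, ∃ m : M, Submodule.Quotient.mk m = g i ∧ π ^ k i • m = 0 := by
    intro i
    obtain ⟨n, hn⟩ := Submodule.Quotient.mk_surjective _ (g i)
    have h0 : π ^ k i • g i = 0 := by
      simp only [g, ← map_smul]
      rw [← Submodule.Quotient.mk_smul, (Submodule.Quotient.mk_eq_zero _).2 (by
        rw [smul_eq_mul, mul_one]; exact Submodule.mem_span_singleton_self _), map_zero, map_zero]
    rw [← hn, ← Submodule.Quotient.mk_smul, Submodule.Quotient.mk_eq_zero] at h0
    obtain ⟨x, hx⟩ := h0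
    obtain ⟨x', hx'⟩ := hpure (k i) x n hx
    refine ⟨n - f x', ?_, ?_⟩
    · rw [Submodule.Quotient.mk_sub, hn, (Submodule.Quotient.mk_eq_zero _).2 (show f x' ∈ LinearMap.range f from ⟨x', rfl⟩),
        sub_zero]
    · rw [smul_sub, ← map_smul, hx', hx, sub_self]
  choose m hm hm0 using hlift
  let s : (⨁ i, W ⧸ W ∙ π ^ k i) →ₗ[W] M := DirectSum.toModule W (Fin d) M fun i =>
    Submodule.liftQ _ (LinearMap.toSpanSingleton W M (m i))
      ((Submodule.span_singleton_le_iff_mem _ _).2 (by simp [hm0]))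
  have hs : (LinearMap.range f).mkQ ∘ₗ s ∘ₗ e.toLinearMap = LinearMap.id := by
    apply LinearMap.ext
    intro q
    obtain ⟨w, rfl⟩ := e.symm.surjective q
    simp only [LinearMap.comp_apply, LinearEquiv.coe_coe, LinearEquiv.apply_symm_apply,
      LinearMap.id_apply]
    have : (LinearMap.range f).mkQ ∘ₗ s = e.symm.toLinearMap := by
      refine DirectSum.linearMap_ext _ fun i => LinearMap.ext fun q => ?_
      obtain ⟨c, rfl⟩ := Submodule.Quotient.mk_surjective _ q
      have hc : (Submodule.Quotient.mk c : W ⧸ W ∙ π ^ k i) = c • Submodule.Quotient.mk 1 := by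
        rw [← Submodule.Quotient.mk_smul, smul_eq_mul, mul_one]
      simp only [LinearMap.comp_apply, s, DirectSum.toModule_lof, Submodule.liftQ_apply,
        LinearMap.toSpanSingleton_apply, map_smul, Submodule.mkQ_apply, hm, LinearEquiv.coe_coe]
      rw [hc, map_smul, map_smul]
    exact LinearMap.congr_fun this w
  refine ⟨LinearMap.range (s ∘ₗ e.toLinearMap), isCompl_iff.2 ⟨?_, ?_⟩⟩
  · rw [Submodule.disjoint_def]
    rintro _ hy ⟨q, rfl⟩
    have h := LinearMap.congr_fun hs q
    rw [LinearMap.comp_apply, Submodule.mkQ_apply, (Submodule.Quotient.mk_eq_zero _).2 hy] at h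
    rw [show q = 0 from h.symm, map_zero]
  · rw [codisjoint_iff, eq_top_iff]
    intro y _
    have h := LinearMap.congr_fun hs (Submodule.Quotient.mk y)
    rw [LinearMap.comp_apply, Submodule.mkQ_apply, LinearMap.id_apply] at h
    rw [show y = (y - (s ∘ₗ e.toLinearMap) (Submodule.Quotient.mk y)) +
      (s ∘ₗ e.toLinearMap) (Submodule.Quotient.mk y) from (sub_add_cancel _ _).symm]
    exact Submodule.add_mem_sup ((Submodule.Quotient.eq _).1 h.symm) ⟨_, rfl⟩

theorem main (p : ℕ) [Fact p.Prime]
    (k : Type u) [Field k] [CharP k p] [PerfectRing k p] (r : ℕ)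
    (N : ℕ → Type v) [∀ i, AddCommGroup (N i)] [∀ i, Module (WittVector p k) (N i)]
    (hfl : ∀ i, IsFiniteLength (WittVector p k) (N i))
    (α : ∀ i, N (i + 1) →ₗ[WittVector p k] N i)
    (φ : ∀ i, N i →ₛₗ[(WittVector.frobenius : WittVector p k →+* WittVector p k)] N 0)
    (hsurj : ∀ m : N 0, ∃ y : (i : ℕ) → N i, (∀ i, r < i → y i = 0) ∧
      (Finset.range (r + 1)).sum (fun i => φ i (y i)) = m)
    (hker : ∀ y : (i : ℕ) → N i, (∀ i, r < i → y i = 0) →
      (Finset.range (r + 1)).sum (fun i => φ i (y i)) = 0 →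
        ∃ z : (i : ℕ) → N (i + 1), (∀ i, r ≤ i → z i = 0) ∧
          y 0 = α 0 (z 0) ∧ ∀ i, y (i + 1) = α (i + 1) (z (i + 1)) - (p : WittVector p k) • z i)
    (i : ℕ) (hi : i < r) :
    Function.Injective (α i) ∧
      ∃ Q : Submodule (WittVector p k) (N i), IsCompl (LinearMap.range (α i)) Q := by
  have : RingHomSurjective (WittVector.frobenius : WittVector p k →+* WittVector p k) :=
    ⟨(WittVector.frobenius_bijective p k).2⟩
  set π : WittVector p k := (p : WittVector p k) with hπdef
  have hirr : Irreducible π := WittVector.irreducible p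
  have hσπ : ∀ j : ℕ, (WittVector.frobenius : WittVector p k →+* WittVector p k) (π ^ j) = π ^ j :=
    fun j => by rw [map_pow, hπdef, map_natCast]
  have htors : ∀ j, Module.IsTorsion' (N j) (Submonoid.powers π) := by
    intro j x
    obtain ⟨hN, hA⟩ := isFiniteLength_iff_isNoetherian_isArtinian.1 (hfl j)
    obtain ⟨n, hn⟩ := IsArtinian.monotone_stabilizes (R := WittVector p k) (M := N j)
      ⟨fun n => OrderDual.toDual (Submodule.span _ {π ^ n • x}), fun a b hab => by
        show Submodule.span _ {π ^ b • x} ≤ Submodule.span _ {π ^ a • x}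
        rw [Submodule.span_singleton_le_iff_mem, Submodule.mem_span_singleton]
        exact ⟨π ^ (b - a), by rw [smul_smul, ← pow_add, Nat.sub_add_cancel hab]⟩⟩
    have h1 : π ^ n • x ∈ Submodule.span (WittVector p k) {π ^ (n + 1) • x} := by
      have h2 := congrArg OrderDual.ofDual (hn (n + 1) (Nat.le_succ n))
      exact h2.le (Submodule.mem_span_singleton_self _)
    obtain ⟨c, hc⟩ := Submodule.mem_span_singleton.1 h1
    refine ⟨⟨π ^ n, n, rfl⟩, ?_⟩
    have hu : IsUnit (1 - c * π) := IsLocalRing.isUnit_one_sub_self_of_mem_nonunits _ (by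
      rw [mem_nonunits_iff]; exact fun h => hirr.not_isUnit (isUnit_of_mul_isUnit_right h))
    show π ^ n • x = 0
    refine hu.smul_eq_zero.1 ?_
    rw [sub_smul, one_smul, sub_eq_zero, smul_smul, mul_assoc, ← pow_succ', mul_smul, hc]
  -- injective modulo every power of `p`
  have key : ∀ n : ℕ, ∀ x : N (i + 1), ∀ y : N i, α i x = π ^ n • y → π • x ∈
      LinearMap.range (π ^ n • (LinearMap.id : N (i + 1) →ₗ[WittVector p k] N (i + 1))) →
      ∃ x', π ^ n • x' = x := by
    intro n x y hy hx
    let P : ∀ j, Submodule (WittVector p k) (N j) := fun j =>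
      LinearMap.range (π ^ n • (LinearMap.id : N j →ₗ[WittVector p k] N j))
    let αq : ∀ j, (N (j + 1) ⧸ P (j + 1)) →ₗ[WittVector p k] N j ⧸ P j := fun j =>
      (P (j + 1)).mapQ (P j) (α j) (by rintro _ ⟨w, rfl⟩; exact ⟨α j w, by simp⟩)
    let φq : ∀ j, (N j ⧸ P j) →ₛₗ[(WittVector.frobenius : WittVector p k →+* WittVector p k)]
        N 0 ⧸ P 0 := fun j =>
      (P j).mapQ (P 0) (φ j) (by rintro _ ⟨w, rfl⟩; exact ⟨φ j w, by simp [LinearMap.map_smulₛₗ, hσπ]⟩)
    have hq := zero_of_torsion (r := r) (WittVector.frobenius : WittVector p k →+* WittVector p k) π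
      (N := fun j => N j ⧸ P j)
      (fun j => (hfl j).of_surjective (P j).mkQ_surjective) αq φq
      (fun m => by
        obtain ⟨m, rfl⟩ := Submodule.Quotient.mk_surjective _ m
        obtain ⟨w, hw, hm⟩ := hsurj m
        refine ⟨fun j => Submodule.Quotient.mk (w j), fun j hj => by simp [hw j hj], ?_⟩
        rw [← hm, ← Submodule.mkQ_apply, map_sum]
        rfl)
      (fun w hw hsum => by
        choose v hv using fun j => Submodule.Quotient.mk_surjective _ (w j)
        let v' : (j : ℕ) → N j := fun j => if r < j then 0 else v j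
        have hv' : ∀ j, (Submodule.Quotient.mk (v' j) : N j ⧸ P j) = w j := fun j => by
          simp only [v']; split_ifs with h
          · rw [Submodule.Quotient.mk_zero, hw j h]
          · exact hv j
        have hS : (Finset.range (r + 1)).sum (fun j => φ j (v' j)) ∈ P 0 := by
          rw [← Submodule.Quotient.mk_eq_zero, ← hsum, ← Submodule.mkQ_apply, map_sum]
          exact Finset.sum_congr rfl fun j _ => by rw [← hv' j]; rfl
        obtain ⟨m, hm⟩ := hS
        obtain ⟨c, hc, hcm⟩ := hsurj m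
        obtain ⟨z, hz, hz0, hzs⟩ := hker (fun j => v' j - π ^ n • c j)
          (fun j hj => by simp [v', hj, hc j hj]) (by
            simp only [map_sub, LinearMap.map_smulₛₗ, hσπ, Finset.sum_sub_distrib,
              ← Finset.smul_sum, hcm, ← hm]
            simp)
        have hmk : ∀ j, w j = Submodule.Quotient.mk (v' j - π ^ n • c j) := fun j => by
          rw [Submodule.Quotient.mk_sub, hv', (Submodule.Quotient.mk_eq_zero _).2
            (show π ^ n • c j ∈ P j from ⟨c j, by simp⟩), sub_zero]
        refine ⟨fun j => Submodule.Quotient.mk (z j), fun j hj => by simp [hz j hj], ?_, fun j => ?_⟩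
        · rw [hmk, hz0]; rfl
        · rw [hmk, hzs, Submodule.Quotient.mk_sub, Submodule.Quotient.mk_smul]; rfl)
      hi (x := Submodule.Quotient.mk x)
      (by rw [← Submodule.Quotient.mk_smul, Submodule.Quotient.mk_eq_zero]; exact hx)
      (by
        show Submodule.Quotient.mk (α i x) = _
        rw [hy, Submodule.Quotient.mk_eq_zero]; exact ⟨y, by simp⟩)
    rw [Submodule.Quotient.mk_eq_zero] at hq
    obtain ⟨x', hx'⟩ := hq
    exact ⟨x', by simpa using hx'⟩
  have htor : ∀ x, ∃ n, π ^ n • x = (0 : N (i + 1)) := fun x => by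
    obtain ⟨⟨_, n, rfl⟩, hn⟩ := @htors (i + 1) x
    exact ⟨n, hn⟩
  have hinj : Function.Injective (α i) := by
    rw [injective_iff_map_eq_zero]
    intro x hx
    obtain ⟨n, hn⟩ := htor x
    induction n generalizing x with
    | zero => simpa using hn
    | succ n ih =>
      exact zero_of_torsion _ π hfl α φ hsurj hker hi (ih (π • x) (by rw [map_smul, hx, smul_zero])
        (by rw [smul_smul, ← pow_succ]; exact hn)) hx
  refine ⟨hinj, ?_⟩
  have : IsNoetherian (WittVector p k) (N i) :=
    (isFiniteLength_iff_isNoetherian_isArtinian.1 (hfl i)).1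
  refine split_of_pure hirr (htors i) (α i) fun n x y hy => ?_
  -- purity, by induction on the order of `x` modulo `p ^ n`
  obtain ⟨m, hm⟩ := htor x
  induction m generalizing x y with
  | zero => exact ⟨0, by rw [smul_zero]; simpa using hm.symm⟩
  | succ m ih =>
    refine key n x y hy ?_
    obtain ⟨x', hx'⟩ := ih (π • x) (π • y) (by rw [map_smul, hy, smul_comm])
      (by rw [smul_smul, ← pow_succ]; exact hm)
    exact ⟨x', by simpa using hx'⟩


/-- Let k be a perfect field of characteristic p and W = W(k) its ring of Witt vectors with Frobenius σ.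
Fix r and W-modules of finite length N_0 = M, N_1, N_2, … with W-linear maps α_i : N_{i+1} → N_i and
σ-semilinear maps φ_i : N_i → M such that φ_i ∘ α_i = p φ_{i+1} for all i < r. Let ι be the map
sending (x_1, …, x_r) ∈ N_1 ⊕ ⋯ ⊕ N_r to (α_0 x_1, α_1 x_2 − p x_1, …, α_{r−1} x_r − p x_{r−1}, −p
x_r) ∈ N_0 ⊕ ⋯ ⊕ N_r, and Φ the map N_0 ⊕ ⋯ ⊕ N_r → M, (y_i) ↦ Σ_i φ_i(y_i). Suppose that Φ is
surjective and that its kernel is contained in the image of ι (with the displayed relation this says
that Φ induces a σ-semilinear bijection from the cokernel of ι onto M). Then for every i < r the map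
α_i is injective and its image is a direct summand of N_i (so the N_i form a filtration of M by
direct summands, the data of a Fontaine–Laffaille module). Families are indexed by all natural
numbers; only the indices ≤ r enter. -/
theorem result (p : ℕ) [Fact p.Prime]
    (k : Type u) [Field k] [CharP k p] [PerfectRing k p] (r : ℕ)
    (N : ℕ → Type v) [∀ i, AddCommGroup (N i)] [∀ i, Module (WittVector p k) (N i)]
    (hfl : ∀ i, IsFiniteLength (WittVector p k) (N i))
    (α : ∀ i, N (i + 1) →ₗ[WittVector p k] N i)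
    (φ : ∀ i, N i →ₛₗ[(WittVector.frobenius : WittVector p k →+* WittVector p k)] N 0)
    (hφ : ∀ i, i < r → ∀ y : N (i + 1), φ i (α i y) = (p : WittVector p k) • φ (i + 1) y)
    (hsurj : ∀ m : N 0, ∃ y : (i : ℕ) → N i, (∀ i, r < i → y i = 0) ∧
      (Finset.range (r + 1)).sum (fun i => φ i (y i)) = m)
    (hker : ∀ y : (i : ℕ) → N i, (∀ i, r < i → y i = 0) →
      (Finset.range (r + 1)).sum (fun i => φ i (y i)) = 0 →
        ∃ z : (i : ℕ) → N (i + 1), (∀ i, r ≤ i → z i = 0) ∧
          y 0 = α 0 (z 0) ∧ ∀ i, y (i + 1) = α (i + 1) (z (i + 1)) - (p : WittVector p k) • z i)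
    (i : ℕ) (hi : i < r) :
    Function.Injective (α i) ∧
      ∃ Q : Submodule (WittVector p k) (N i), IsCompl (LinearMap.range (α i)) Q := by
  exact main p k r N hfl α φ hsurj hker i hi

end Groth.Agent.S18418
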