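import Groth.Statements.S18421
import Groth.Agent.AdicLinTop.DP.PolyAlg

set_option autoImplicit false
universe u v w
open DPow

namespace Groth.Agent.S18421

/-- Let (R, I, γ) be a divided power ring, Λ a set and P = R⟨X_λ : λ ∈ Λ⟩ the divided power polynomial
algebra, presented concretely as an R-algebra P with elements x l n = X_λ^[n] such that X_λ^[0] = 1,
X_λ^[n] · X_λ^[m] = C(n+m, n) X_λ^[n+m], and the monomials ∏_λ X_λ^[e_λ] form an R-basis of P; let
P_+ be the ideal generated by the X_λ^[n] with n ≥ 1 and δ_+ a divided power structure on P_+ with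
δ_+,n(X_λ^[1]) = X_λ^[n]. Put J = IP + P_+. Then there is exactly one divided power structure δ on J
which is compatible with γ (the structure map R → P is a divided power morphism from (I, γ) to (J,
δ)) and with δ_+ (δ_n(y) = δ_+,n(y) for all y ∈ P_+ and all n). -/
theorem result (R : Type u) [CommRing R] {I : Ideal R}
    (γ : DividedPowers I) (Λ : Type w)
    (P : Type v) [CommRing P] [Algebra R P] (x : Λ → ℕ → P)
    (hx0 : ∀ l, x l 0 = 1)
    (hxmul : ∀ l n m, x l n * x l m = ((n + m).choose n : P) * x l (n + m))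
    (b : Module.Basis (Λ →₀ ℕ) R P) (hb : ∀ e : Λ →₀ ℕ, b e = e.prod (fun l k => x l k))
    (δplus : DividedPowers (Ideal.span {y : P | ∃ (l : Λ) (n : ℕ), 1 ≤ n ∧ y = x l n}))
    (hδplus : ∀ (l : Λ) (n : ℕ), δplus.dpow n (x l 1) = x l n) :
    ∃! δ : DividedPowers (I.map (algebraMap R P) ⊔ Ideal.span {y : P | ∃ (l : Λ) (n : ℕ), 1 ≤ n ∧ y = x l n}),
      γ.IsDPMorphism δ (algebraMap R P) ∧
        ∀ (n : ℕ) (y : P), y ∈ Ideal.span {y : P | ∃ (l : Λ) (n : ℕ), 1 ≤ n ∧ y = x l n} →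
          δ.dpow n y = δplus.dpow n y := by
  have hP : Groth.AdicLinTop.DP.IsPres x b := ⟨hx0, hxmul, hb⟩
  obtain ⟨δ, h1, h2⟩ := hP.exists_dp_total' γ δplus
  exact ⟨δ, ⟨h1, h2⟩, fun δ' ⟨h1', h2'⟩ => Groth.AdicLinTop.DP.dp_total_unique γ h1' h1
    fun n y hy => (h2' n y hy).trans (h2 n y hy).symm⟩

end Groth.Agent.S18421
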