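import Groth.Statements.S18422
import Mathlib.Topology.Algebra.ClopenNhdofOne

set_option autoImplicit false
universe u v
open Pi1

namespace Groth.Agent.S18422

/-- Let p and l be distinct primes, G a profinite group (a compact totally disconnected topological
group) which is pro-p, meaning that every open normal subgroup of G has index a power of p, and H a
profinite group which is pro-l in the same sense. Then every continuous group homomorphism from G to
H is trivial. -/
theorem result {p l : ℕ} (hp : p.Prime) (hl : l.Prime) (hpl : p ≠ l)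
    (G : Type u) [Group G] [TopologicalSpace G] [IsTopologicalGroup G] [CompactSpace G]
    [TotallyDisconnectedSpace G]
    (H : Type v) [Group H] [TopologicalSpace H] [IsTopologicalGroup H] [CompactSpace H]
    [TotallyDisconnectedSpace H]
    (hG : ∀ U : OpenNormalSubgroup G, ∃ n : ℕ, U.toSubgroup.index = p ^ n)
    (hH : ∀ V : OpenNormalSubgroup H, ∃ n : ℕ, V.toSubgroup.index = l ^ n)
    (f : G →* H) (hf : Continuous f) (g : G) : f g = 1 := by
  by_contra hne
  have hopen : IsOpen ({f g}ᶜ : Set H) := isClosed_singleton.isOpen_compl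
  obtain ⟨V, hV⟩ := ProfiniteGrp.exist_openNormalSubgroup_sub_open_nhds_of_one hopen
    (show (1 : H) ∈ ({f g}ᶜ : Set H) from fun h => hne h.symm)
  let U : OpenNormalSubgroup G :=
    { toSubgroup := V.toSubgroup.comap f
      isOpen' := V.isOpen'.preimage hf
      isNormal' := inferInstance }
  obtain ⟨a, ha⟩ := hG U
  obtain ⟨b, hb⟩ := hH V
  have hdvd : U.toSubgroup.index ∣ V.toSubgroup.index := by
    show (V.toSubgroup.comap f).index ∣ V.toSubgroup.index
    rw [Subgroup.index_comap]
    exact Subgroup.relIndex_dvd_index_of_normal _ _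
  rw [ha, hb] at hdvd
  have hcop : Nat.Coprime (p ^ a) (l ^ b) := Nat.Coprime.pow a b (hp.coprime_iff_not_dvd.mpr fun h => hpl ((hl.eq_one_or_self_of_dvd p h).resolve_left hp.ne_one))
  have h1 : p ^ a = 1 := Nat.eq_one_of_dvd_coprimes hcop dvd_rfl hdvd
  rw [h1, Subgroup.index_eq_one] at ha
  have hmem : g ∈ V.toSubgroup.comap f := by
    have h2 : g ∈ U.toSubgroup := by rw [ha]; trivial
    exact h2
  exact hV hmem rfl

end Groth.Agent.S18422
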