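import Groth.Statements.S18423
import Groth.Agent.Purity.FreePurity
-- import your own Groth.Agent.* helpers here

set_option autoImplicit false
universe u v
open Pi1

namespace Groth.Agent.S18423

set_option maxHeartbeats 1000000 in
theorem aux (A : Type u) (B : Type v) (C : Type u) [CommRing A] [CommRing B] [CommRing C]
    [Algebra A B] [Algebra A C] (e : C ≃ₐ[A] B) [IsNoetherianRing A] [IsLocalRing A]
    (hdim : (2 : WithBot ℕ∞) ≤ ringKrullDim A)
    [Module.Finite A B] [Module.Flat A B]
    (h : ∀ q : PrimeSpectrum B, q.asIdeal.comap (algebraMap A B) ≠ IsLocalRing.maximalIdeal A →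
      Algebra.IsEtaleAt A q.asIdeal) :
    Algebra.Etale A B := by
  classical
  haveI : Module.Finite A C := Module.Finite.equiv e.symm.toLinearEquiv
  haveI : Module.Flat A C := Module.Flat.of_linearEquiv e.toLinearEquiv
  haveI : Module.Free A C := Module.free_of_flat_of_isLocalRing
  haveI : IsNoetherianRing B := IsNoetherianRing.of_finite A B
  haveI : Algebra.Etale A C := Groth.Purity.etale_of_free_unramified_codim_one
    (le_trans (by exact_mod_cast (one_le_two : (1:ℕ∞) ≤ 2)) hdim) fun Q hQ hQ1 => by
      let q : PrimeSpectrum B := ⟨Q.comap e.symm.toRingEquiv, inferInstance⟩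
      have hq : q.asIdeal.comap (algebraMap A B) = Q.under A := by
        ext a
        show e.symm (algebraMap A B a) ∈ Q ↔ algebraMap A C a ∈ Q
        rw [e.symm.commutes]
      have hne : Q.under A ≠ IsLocalRing.maximalIdeal A := fun h1 => by
        have := Groth.Purity.height_eq_of_finite_flat (A := A) Q
        rw [hQ1, h1] at this
        rw [← IsLocalRing.maximalIdeal_height_eq_ringKrullDim, ← this] at hdim
        exact absurd hdim (by norm_num)
      haveI := h q (hq ▸ hne)
      haveI : Algebra.IsUnramifiedAt A q.asIdeal := inferInstance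
      obtain ⟨j, hj, hk⟩ := Groth.Purity.exists_killed_of_isUnramifiedAt (R := A) q.asIdeal
      let f : B →ₐ[A] C := e.symm.toAlgHom
      letI : Algebra B C := f.toRingHom.toAlgebra
      haveI : IsScalarTower A B C := IsScalarTower.of_algebraMap_eq fun a => (f.commutes a).symm
      have hsurj : Function.Surjective (algebraMap B C) := fun c => ⟨e c, e.symm_apply_apply c⟩
      have hk' : Groth.Purity.Killed A C (algebraMap B C j) := fun x => by
        obtain ⟨c, rfl⟩ := hsurj x
        rw [← KaehlerDifferential.map_D A A B C c, algebraMap_smul, ← map_smul, hk c, map_zero]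
      have hj' : algebraMap B C j ∉ Q := hj
      exact Groth.Purity.isUnramifiedAt_of_killed hk' Q hj'
  exact Algebra.Etale.of_equiv e

/-- Let A be a Noetherian local ring of Krull dimension at least 2 and B a finite flat commutative
A-algebra. If B is etale over A at every prime of B lying over a non-maximal prime of A (that is,
Spec B is etale over the punctured spectrum of A), then B is etale over A. -/
theorem result (A : Type u) (B : Type v) [CommRing A] [CommRing B]
    [Algebra A B] [IsNoetherianRing A] [IsLocalRing A] (hdim : (2 : WithBot ℕ∞) ≤ ringKrullDim A)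
    [Module.Finite A B] [Module.Flat A B]
    (h : ∀ q : PrimeSpectrum B, q.asIdeal.comap (algebraMap A B) ≠ IsLocalRing.maximalIdeal A →
      Algebra.IsEtaleAt A q.asIdeal) :
    Algebra.Etale A B := by
  haveI : Small.{u} B := Module.Finite.small.{u} A B
  exact aux A B (Shrink.{u} B) (Shrink.algEquiv A B) hdim h

end Groth.Agent.S18423
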