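import Groth.Statements.S18424
import Groth.Agent.Pi1FEt.Colimits
import Groth.Agent.S0244
import Groth.Agent.S0287
import Groth.Agent.Calg1.CompletionLocal
-- import your own Groth.Agent.* helpers here

set_option autoImplicit false
universe u
open Pi1
set_option backward.isDefEq.respectTransparency false

namespace Groth.Agent.S18424
open AlgebraicGeometry CategoryTheory CategoryTheory.Limits

/-- Restriction along a composite. -/
noncomputable abbrev rcomp {A B C : Scheme.{u}} (a : A ⟶ B) (b : B ⟶ C) :
    FEt.restrict (a ≫ b) ≅ FEt.restrict b ⋙ FEt.restrict a :=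
  MorphismProperty.Over.pullbackComp a b

noncomputable abbrev rcongr {A B : Scheme.{u}} {a b : A ⟶ B} (h : a = b) : FEt.restrict a ≅ FEt.restrict b :=
  MorphismProperty.Over.pullbackCongr h

/-- Let k be a field, X and Y integral schemes separated and of finite type over k with X normal and Y
nonsingular (every local ring of Y regular), and f : X → Y a proper k-morphism which is birational,
i.e. an isomorphism over some nonempty open subset V of Y. Then pulling back finite etale covers
along f is an equivalence between the categories of finite etale covers of Y and of X; in particular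
f induces an isomorphism of etale fundamental groups. -/
theorem result (k : Type u) [Field k]
    {X Y : Scheme.{u}} (f : X ⟶ Y) (g : Y ⟶ Spec (CommRingCat.of k))
    [IsSeparated g] [LocallyOfFiniteType g] [QuasiCompact g]
    [IsSeparated (f ≫ g)] [LocallyOfFiniteType (f ≫ g)] [QuasiCompact (f ≫ g)]
    [IsIntegral X] [IsIntegral Y] (hX : Pi1.IsNormalScheme X)
    (hY : ∀ y : Y, IsRegularLocalRing (Y.presheaf.stalk y)) [IsProper f]
    (V : Y.Opens) (hV : (V : Set Y).Nonempty) (hf : IsIso (f ∣_ V)) :
    (FEt.restrict f).IsEquivalence := by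
  have hN : Pi1.IsNormalScheme Y := fun y =>
    haveI := hY y
    ⟨Groth.Ega4Algebra1.isDomain_of_isRegularLocalRing _,
      Groth.Ega4Algebra1.isIntegrallyClosed_of_isRegularLocalRing _⟩
  haveI : LocallyOfFiniteType f := inferInstance
  haveI : IsLocallyNoetherian Y := LocallyOfFiniteType.isLocallyNoetherian g
  haveI := hf
  let h := f ∣_ V
  let jX := (f ⁻¹ᵁ V).ι
  let jY := V.ι
  have hsq : IsPullback h jX jY f := isPullback_morphismRestrict f V
  have hV' : ((f ⁻¹ᵁ V : X.Opens) : Set X).Nonempty := by
    obtain ⟨y, hy⟩ := hV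
    exact ⟨jX (inv h ⟨y, hy⟩), (inv h ⟨y, hy⟩).2⟩
  obtain ⟨_, _⟩ := Groth.Agent.S0244.result hN V hV
  obtain ⟨_, _⟩ := Groth.Agent.S0244.result hX (f ⁻¹ᵁ V) hV'
  haveI : (FEt.restrict h).IsEquivalence := inferInstance
  have E1 : FEt.restrict f ⋙ FEt.restrict jX ≅ FEt.restrict jY ⋙ FEt.restrict h :=
    (rcomp jX f).symm ≪≫ rcongr hsq.w.symm ≪≫ rcomp h jY
  haveI : (FEt.restrict f).Faithful := Functor.Faithful.of_comp_iso E1
  haveI : (FEt.restrict f).Full := Functor.Full.of_comp_faithful_iso E1
  haveI : (FEt.restrict f).EssSurj := by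
    refine ⟨fun W => ?_⟩
    let Y₀ := (FEt.restrict h).objPreimage ((FEt.restrict jX).obj W)
    let e₀ : (FEt.restrict h).obj Y₀ ≅ (FEt.restrict jX).obj W := (FEt.restrict h).objObjPreimageIso _
    have hdense : Dense (V : Set Y) := V.isOpen.dense hV
    obtain ⟨Y', ⟨e'⟩⟩ := Groth.Agent.S0287.result V hdense Y₀ (fun x _ => hY x) (fun ξ _ hd => by
      obtain ⟨_, _⟩ := (Groth.Calg1.isDVR_iff_regular_dim_one (A := Y.presheaf.stalk ξ)).mpr ⟨hY ξ, hd⟩
      let R := Y.presheaf.stalk ξ
      let K := FractionRing R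
      let s := Y.fromSpecStalk ξ
      let i : Spec (CommRingCat.of K) ⟶ Y := Spec.map (CommRingCat.ofHom (algebraMap R K)) ≫ s
      have hrange : Set.range i ⊆ Set.range V.ι := by
        rw [Scheme.Opens.range_ι]
        rintro _ ⟨k, rfl⟩
        have hη : genericPoint Y ∈ V :=
          ((genericPoint_spec Y).mem_open_set_iff V.isOpen).2 (by simpa using hV)
        obtain ⟨p, hp⟩ := (Scheme.range_fromSpecStalk (x := ξ)).ge
          ((genericPoint_spec Y).specializes (Set.mem_univ ξ))
        refine Specializes.mem_open ?_ V.isOpen hη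
        rw [Scheme.Hom.comp_apply, ← hp]
        refine Specializes.map ((PrimeSpectrum.le_iff_specializes _ p).mp ?_) s.continuous
        show (k : PrimeSpectrum K).asIdeal.comap (algebraMap R K) ≤ p.asIdeal
        rw [(Ideal.eq_bot_or_top (k : PrimeSpectrum K).asIdeal).resolve_right (k : PrimeSpectrum K).2.ne_top,
          ← RingHom.ker_eq_comap_bot, (RingHom.injective_iff_ker_eq_bot _).mp (IsFractionRing.injective R K)]
        exact bot_le
      let iV := IsOpenImmersion.lift V.ι i hrange
      have hiV : iV ≫ V.ι = i := IsOpenImmersion.lift_fac _ _ _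
      have hw : CommSq (iV ≫ inv h ≫ jX) (Spec.map (CommRingCat.ofHom (algebraMap R K))) f s := ⟨by
        rw [Category.assoc, Category.assoc, ← hsq.w, IsIso.inv_hom_id_assoc, hiV]⟩
      let S : ValuativeCommSq f := { R := R, K := K, i₁ := _, i₂ := s, commSq := hw }
      have hvc : ValuativeCriterion f := by
        have := ‹IsProper f›
        rw [IsProper.eq_valuativeCriterion] at this
        exact this.1.1.1
      haveI := hvc.existence S
      let l : Spec (CommRingCat.of R) ⟶ X := S.commSq.lift
      have hl : l ≫ f = s := S.commSq.fac_right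
      refine ⟨(FEt.restrict l).obj W, ⟨?_⟩⟩
      let a := pullback.fst V.ι (Y.fromSpecStalk ξ)
      let b := pullback.snd V.ι (Y.fromSpecStalk ξ)
      have hab : (a ≫ inv h) ≫ jX = b ≫ l := by
        have hw' : a ≫ jY = (b ≫ l) ≫ f := by rw [Category.assoc, hl]; exact pullback.condition
        have h1 := hsq.lift_fst a (b ≫ l) hw'
        have h2 := hsq.lift_snd a (b ≫ l) hw'
        rw [show a ≫ inv h = hsq.lift a (b ≫ l) hw' from (IsIso.comp_inv_eq h).mpr h1.symm, h2]
      exact ((rcomp b l).symm ≪≫ rcongr hab.symm ≪≫ rcomp (a ≫ inv h) jX).app W ≪≫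
        (FEt.restrict (a ≫ inv h)).mapIso e₀.symm ≪≫
        ((rcomp (a ≫ inv h) h).symm ≪≫ rcongr (by rw [Category.assoc, IsIso.inv_hom_id, Category.comp_id])).app Y₀)
    exact ⟨Y', ⟨(FEt.restrict jX).preimageIso (E1.app Y' ≪≫ (FEt.restrict h).mapIso e' ≪≫ e₀)⟩⟩
  exact { }

end Groth.Agent.S18424
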