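import Groth.Statements.S18426
import Groth.Agent.CurveNorm.Main
import Groth.Agent.Variety2.Normal
-- import your own Groth.Agent.* helpers here

set_option autoImplicit false
universe u
open Pi1
set_option backward.isDefEq.respectTransparency.types false

namespace Groth.Agent.S18426

open AlgebraicGeometry CategoryTheory CategoryTheory.Limits in
/-- Suppose X is an integral scheme that is Noetherian and normal, write K for its function field, and
take L to be a finite separable extension of K. Then the normalization of X in L, namely the
relative normalization of the morphism Spec L → Spec K → X, is finite over X. (That this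
normalization is a normal integral scheme with function field L is not restated.) -/
theorem result {X : Scheme.{u}} [IsIntegral X] [IsNoetherian X]
    (hX : Pi1.IsNormalScheme X) (L : Type u) [Field L] [Algebra X.functionField L] [FiniteDimensional X.functionField L]
    [Algebra.IsSeparable X.functionField L]
    [QuasiCompact (Spec.map (CommRingCat.ofHom (algebraMap X.functionField L)) ≫ X.fromSpecStalk (genericPoint X))]
    [QuasiSeparated (Spec.map (CommRingCat.ofHom (algebraMap X.functionField L)) ≫ X.fromSpecStalk (genericPoint X))] :
    IsFinite (Spec.map (CommRingCat.ofHom (algebraMap X.functionField L)) ≫ X.fromSpecStalk (genericPoint X)).fromNormalization := by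
  let g := Spec.map (CommRingCat.ofHom (algebraMap X.functionField L)) ≫ X.fromSpecStalk (genericPoint X)
  let φ := algebraMap X.functionField L
  haveI : QuasiCompact g := ‹_›
  haveI : QuasiSeparated g := ‹_›
  refine ⟨fun U hU => ?_⟩
  rcases isEmpty_or_nonempty U with hemp | hne
  · have hsub : Subsingleton Γ(g.normalization, g.fromNormalization ⁻¹ᵁ U) := by
      rw [show g.fromNormalization ⁻¹ᵁ U = ⊥ from eq_bot_iff.2 fun z hz =>
        (hemp.false ⟨g.fromNormalization z, hz⟩).elim]
      infer_instance
    exact RingHom.Finite.of_surjective _ fun b => ⟨0, @Subsingleton.elim _ hsub _ _⟩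
  · haveI : Nonempty (U : Scheme.{u}) := hne
    have hξ : genericPoint X ∈ U := Groth.CurveNorm.genericPoint_mem X U hne
    letI aA : Algebra Γ(X, U) L := (φ.comp (X.presheaf.germ U (genericPoint X) hξ).hom).toAlgebra
    haveI : IsScalarTower Γ(X, U) X.functionField L := IsScalarTower.of_algebraMap_eq fun _ => rfl
    haveI := functionField_isFractionRing_of_isAffineOpen X U hU
    haveI : IsNoetherianRing Γ(X, U) := IsLocallyNoetherian.component_noetherian ⟨U, hU⟩
    haveI : IsIntegrallyClosed Γ(X, U) := Groth.Variety2.isIntegrallyClosed_Γ (fun x => (hX x).2) U
    haveI hfin : Module.Finite Γ(X, U) (integralClosure Γ(X, U) L) :=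
      IsIntegralClosure.finite Γ(X, U) X.functionField L _
    obtain ⟨e, he⟩ := Groth.CurveNorm.exists_equiv_integralClosure X L φ g rfl hU hξ
    have : (g.fromNormalization.app U).hom =
        e.symm.toRingHom.comp (algebraMap Γ(X, U) (integralClosure Γ(X, U) L)) := by
      ext a
      exact (e.symm_apply_eq.2 (he a).symm).symm
    show (g.fromNormalization.app U).hom.Finite
    rw [this]
    exact RingHom.Finite.comp (RingHom.Finite.of_surjective _ e.symm.surjective)
      (RingHom.finite_algebraMap.mpr hfin)

end Groth.Agent.S18426
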