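import Groth.Statements.S18427
import Groth.Agent.ModelsGraphs.GlobalFunctions
import Groth.Agent.Misc3Stein.Connected

set_option autoImplicit false
set_option linter.unusedSimpArgs false
universe u
open Models

namespace Groth.Agent.S18427

open CategoryTheory AlgebraicGeometry in
/-- Let R be a discrete valuation ring with fraction field K, C a smooth proper geometrically connected
curve over K, and X a regular proper model of C over R (flat and proper over R, regular, with
generic fibre C). Then the structure morphism X → Spec R has geometrically connected fibres; in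
particular the special fibre of X is geometrically connected over the residue field of R. -/
theorem result (R : Type u) [CommRing R] [IsDomain R]
    [IsDiscreteValuationRing R] (C X : Scheme.{u})
    (f : C ⟶ Spec (CommRingCat.of (FractionRing R))) (p : X ⟶ Spec (CommRingCat.of R))
    (hC : Curve.IsSmoothProperCurve (FractionRing R) C f) [GeometricallyConnected f]
    (hX : Models.IsRegularProperModel R X p C f) :
    GeometricallyConnected p := by
  obtain ⟨⟨h1, h2, h3, g, hg⟩, h4, hreg⟩ := hX
  haveI := h1
  haveI := h4
  haveI : IsProper f := hC.1
  haveI : Smooth f := hC.2.1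
  haveI : CompactSpace X := QuasiCompact.compactSpace_of_compactSpace p
  haveI : QuasiSeparatedSpace X := quasiSeparatedSpace_of_quasiSeparated p
  have h := Groth.ModelsGraphs.GlobalFun.toGlobal_bijective_of_generic p g f hg
  haveI : IsIso p.appTop := by
    refine (ConcreteCategory.isIso_iff_bijective _).2 ?_
    have e : (fun a => p.appTop a) = Coh.toGlobal p ∘ (Scheme.ΓSpecIso (CommRingCat.of R)).hom := by
      funext a
      change p.appTop a = p.appTop _
      erw [congr($((Scheme.ΓSpecIso (CommRingCat.of R)).hom_inv_id) a)]
      rfl
    change Function.Bijective (fun a => p.appTop a)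
    rw [e]
    exact h.comp (ConcreteCategory.bijective_of_isIso _)
  refine Misc3Stein.geometricallyConnected_of_isIso_app p fun U hU => ?_
  have H : IsPullback (𝟙 X) p p (𝟙 (Spec (CommRingCat.of R))) := IsPullback.of_id_fst
  haveI : IsIso (p.appLE ⊤ ⊤ le_top) := by simpa [Scheme.Hom.appLE] using (inferInstance : IsIso p.appTop)
  haveI := isIso_pushoutSection_of_isQuasiSeparated_of_flat_right H (US := ⊤) (UT := U) (UX := ⊤)
    le_top le_top (UY := p ⁻¹ᵁ U) (by simp) (isAffineOpen_top _) hU isCompact_univ isQuasiSeparated_univ
  have hpo := (isIso_pushoutSection_iff H (US := ⊤) (UT := U) (UX := ⊤) le_top le_top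
    (UY := p ⁻¹ᵁ U) (by simp)).1 this
  have := hpo.isIso_inr_of_isIso
  simpa [Scheme.Hom.appLE] using this

end Groth.Agent.S18427
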