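import Groth.Statements.S18429
import Mathlib
-- import your own Groth.Agent.* helpers here

set_option autoImplicit false
universe u
open SpinCurv

namespace Groth.Agent.S18429


/-- Let n ≥ 1 and r ≥ 2 be integers and let e_0, …, e_{nr} be integers with e_0 = e_{nr} = 0 (the
coefficients of a chain of nr - 1 exceptional curves joining two non-exceptional components with
coefficient zero) such that at every interior index 1 ≤ j ≤ nr - 1 the second difference e_{j-1} - 2
e_j + e_{j+1} (the degree of the divisor Σ e_i E_i on the j-th curve of the chain) is divisible by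
r. Then there are integers e'_0, …, e'_{nr}, with e'_j ≡ e_j modulo r for every interior j, with
e'_0 = e'_{nr} = 0 and every e'_j ≤ 0, whose second differences at the interior indices are each 0
or r, and are nonzero at no two distinct interior indices. -/
theorem result (n r : ℕ) (hn : 1 ≤ n) (hr : 2 ≤ r)
    (e : ℕ → ℤ) (he0 : e 0 = 0) (henr : e (n * r) = 0)
    (hdiv : ∀ j : ℕ, 1 ≤ j → j < n * r → (r : ℤ) ∣ e (j - 1) - 2 * e j + e (j + 1)) :
    ∃ e' : ℕ → ℤ, e' 0 = 0 ∧ e' (n * r) = 0 ∧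
      (∀ j : ℕ, 1 ≤ j → j < n * r → (r : ℤ) ∣ e' j - e j) ∧
      (∀ j : ℕ, j ≤ n * r → e' j ≤ 0) ∧
      (∀ j : ℕ, 1 ≤ j → j < n * r →
        (e' (j - 1) - 2 * e' j + e' (j + 1) = 0 ∨ e' (j - 1) - 2 * e' j + e' (j + 1) = r)) ∧
      (∀ j j' : ℕ, 1 ≤ j → j < n * r → 1 ≤ j' → j' < n * r →
        e' (j - 1) - 2 * e' j + e' (j + 1) ≠ 0 → e' (j' - 1) - 2 * e' j' + e' (j' + 1) ≠ 0 → j = j') := by
  set a : ℤ := e 1 % r with ha
  have ha0 : 0 ≤ a := Int.emod_nonneg _ (by omega)
  have har : a < r := Int.emod_lt_of_pos _ (by omega)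
  have key : ∀ j, j + 1 ≤ n * r → ((r : ℤ) ∣ e j - (j : ℤ) * a) ∧
      ((r : ℤ) ∣ e (j + 1) - ((j : ℤ) + 1) * a) := by
    intro j
    induction j with
    | zero => intro _; simpa [he0, ha] using Int.dvd_self_sub_emod
    | succ j ih =>
      intro hj
      obtain ⟨h1, h2⟩ := ih (by omega)
      refine ⟨by push_cast at h2 ⊢; exact h2, ?_⟩
      have h3 := hdiv (j + 1) (by omega) (by omega)
      simp only [Nat.add_sub_cancel] at h3
      have := dvd_add (dvd_sub h3 h1) (h2.mul_left 2)
      push_cast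
      obtain ⟨c, hc⟩ := this
      exact ⟨c, by linarith⟩
  refine ⟨fun j => if (j : ℤ) ≤ (n : ℤ) * a then (j : ℤ) * (a - r) else a * ((j : ℤ) - n * r),
    by simp [ha0, mul_nonneg, Int.natCast_nonneg], ?_, ?_, ?_, ?_, ?_⟩
  · push_cast
    split_ifs with h
    · have h1 : (n : ℤ) * a < n * r := mul_lt_mul_of_pos_left har (by omega)
      omega
    · simp
  · intro j h1 h2
    have hk := (key j (by omega)).1
    simp only
    split_ifs with h
    · have := dvd_sub (dvd_neg.mpr hk) (dvd_mul_left (r : ℤ) (j : ℤ))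
      obtain ⟨c, hc⟩ := this; exact ⟨c, by linarith⟩
    · have := dvd_sub (dvd_neg.mpr hk) ((dvd_mul_left (r : ℤ) (n : ℤ)).mul_left a)
      obtain ⟨c, hc⟩ := this; exact ⟨c, by linarith⟩
  · intro j hj
    have hj' : (j : ℤ) ≤ n * r := by exact_mod_cast hj
    simp only
    split_ifs with h <;> nlinarith
  · intro j h1 h2
    simp only
    have hc : ((j - 1 : ℕ) : ℤ) = (j : ℤ) - 1 := by omega
    rw [hc]; push_cast
    split_ifs
    all_goals first | omega | (left; ring1) | skip
    all_goals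
      rcases (show (j : ℤ) = n * a ∨ (j : ℤ) = n * a + 1 by omega) with e1 | e1
      · right; rw [e1]; ring
      · first | omega | (left; rw [e1]; ring)
  · intro j j' h1 h2 h1' h2' hne hne'
    simp only at hne hne'
    have H : ∀ j : ℕ, 1 ≤ j → (j : ℤ) ≠ n * a →
        (if ((j - 1 : ℕ) : ℤ) ≤ (n : ℤ) * a then ((j - 1 : ℕ) : ℤ) * (a - r) else a * (((j - 1 : ℕ) : ℤ) - n * r))
        - 2 * (if (j : ℤ) ≤ (n : ℤ) * a then (j : ℤ) * (a - r) else a * ((j : ℤ) - n * r))
        + (if ((j + 1 : ℕ) : ℤ) ≤ (n : ℤ) * a then ((j + 1 : ℕ) : ℤ) * (a - r) else a * (((j + 1 : ℕ) : ℤ) - n * r)) = 0 := by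
      intro j h1 hj
      have hc : ((j - 1 : ℕ) : ℤ) = (j : ℤ) - 1 := by omega
      rw [hc]; push_cast
      split_ifs
      all_goals first | omega | ring1 | skip
      all_goals
        have e1 : (j : ℤ) = n * a + 1 := by omega
        rw [e1]; ring
    have : (j : ℤ) = n * a := by by_contra hh; exact hne (H j h1 hh)
    have : (j' : ℤ) = n * a := by by_contra hh; exact hne' (H j' h1' hh)
    omega

end Groth.Agent.S18429
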