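import Groth.Statements.S1843
import Groth.Agent.AbVarMul.PTorsionCount
import Groth.Agent.FBaseGeom.Dim

set_option autoImplicit false
universe u v
open CategoryTheory MonoidalCategory CartesianMonoidalCategory MonObj GrpObj AlgebraicGeometry
open GrpSch

namespace Groth.Agent.S1843

/-- Let A be an abelian variety of dimension g over a field of characteristic p > 0. The set of points
of A mapped to the identity point by multiplication by p has at most p^g elements. -/
theorem result (K : Type u) [Field K] (p : ℕ) [Fact p.Prime] [CharP K p] (A : Over (Spec (CommRingCat.of K))) [GrpObj A] [IsProper A.hom] [GeometricallyIntegral A.hom] (g : ℕ) (hg : topologicalKrullDim A.left = g) : Set.encard {a : A.left | (𝟙 A ^ p).left a = η[A].left (IsLocalRing.closedPoint K)} ≤ (p ^ g : ℕ) := by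
  have := GrpschAbsch.isCommMonObj_of_isProper A
  let Ω := AlgebraicClosure K
  let t : Spec (CommRingCat.of Ω) ⟶ Spec (CommRingCat.of K) :=
    Spec.map (CommRingCat.ofHom (algebraMap K Ω))
  have : CharP Ω p := charP_of_injective_algebraMap (algebraMap K Ω).injective p
  let F := Over.pullback t
  let : GrpObj (F.obj A) := Functor.grpObjObj
  have : IsProper (F.obj A).hom := inferInstanceAs (IsProper (Limits.pullback.snd A.hom t))
  have : GeometricallyIntegral (F.obj A).hom :=
    inferInstanceAs (GeometricallyIntegral (Limits.pullback.snd A.hom t))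
  have := GrpschAbsch.isCommMonObj_of_isProper (F.obj A)
  have hg' : topologicalKrullDim (F.obj A).left = g := by
    rw [← hg]; exact Groth.FBaseGeom.dim_bc A.hom Ω
  obtain ⟨hfin, hcard⟩ := Groth.AbVarMul.finite_and_natCard_ker_pow_le (A := F.obj A) p hg'
  have : Surjective t := ⟨fun x => ⟨IsLocalRing.closedPoint Ω,
    Subsingleton.elim (α := PrimeSpectrum K) _ _⟩⟩
  have he : F.map (𝟙 A ^ p : A ⟶ A) = (𝟙 (F.obj A) ^ p : F.obj A ⟶ F.obj A) := by
    have := (F.homMonoidHom (X := A) (M := A)).map_pow (𝟙 A) p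
    simpa using this
  set S := {a : A.left | (𝟙 A ^ p : A ⟶ A).left a = η[A].left (IsLocalRing.closedPoint K)}
  let T : Set (F.obj A).left := Limits.pullback.fst A.hom t ⁻¹' S
  have hS : S ⊆ (Limits.pullback.fst A.hom t) '' T := by
    intro a ha
    obtain ⟨b, hb⟩ := (inferInstance : Surjective (Limits.pullback.fst A.hom t)).surj a
    exact ⟨b, show Limits.pullback.fst A.hom t b ∈ S from hb ▸ ha, hb⟩
  have hT : T ⊆ Groth.NeronArea.FieldComponents.pp ''
      {z : 𝟙_ (Over (Spec (CommRingCat.of Ω))) ⟶ F.obj A | z ^ p = 1} := by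
    have hsub : ∀ b ∈ T, (𝟙 (F.obj A) ^ p : F.obj A ⟶ F.obj A).left b =
        Groth.NeronArea.FieldComponents.pp (1 : 𝟙_ (Over (Spec (CommRingCat.of Ω))) ⟶ F.obj A) := by
      intro b hb
      refine Groth.AlgGrp1.subsingleton_preimage_of_point A.hom t η[A].left (Over.w η[A])
        (IsLocalRing.closedPoint K) ?_ ?_
      · show Limits.pullback.fst A.hom t _ = _
        rw [← he, ← Scheme.Hom.comp_apply, show (F.map (𝟙 A ^ p : A ⟶ A)).left ≫
          Limits.pullback.fst A.hom t = Limits.pullback.fst A.hom t ≫ (𝟙 A ^ p : A ⟶ A).left from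
          Limits.pullback.lift_fst _ _ _, Scheme.Hom.comp_apply]
        exact hb
      · show Limits.pullback.fst A.hom t _ = _
        rw [show (1 : 𝟙_ (Over (Spec (CommRingCat.of Ω))) ⟶ F.obj A) =
          η[F.obj A] from (MonObj.one_eq_one (M := F.obj A)).symm]
        show Limits.pullback.fst A.hom t ((Functor.LaxMonoidal.ε F ≫ F.map η[A]).left _) = _
        rw [Over.comp_left, ← Scheme.Hom.comp_apply, Category.assoc, show (F.map η[A]).left ≫
          Limits.pullback.fst A.hom t = Limits.pullback.fst _ t ≫ η[A].left from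
          Limits.pullback.lift_fst _ _ _, ← Category.assoc, Scheme.Hom.comp_apply]
        exact congrArg η[A].left (Subsingleton.elim (α := PrimeSpectrum K) _ _)
    set q := (𝟙 (F.obj A) ^ p : F.obj A ⟶ F.obj A)
    have : IsFinite q.left := by
      have h := (Groth.AbVarMul.isogeny_zpow (A := F.obj A) (d := (p : ℤ))
        (by exact_mod_cast (Fact.out : p.Prime).ne_zero)).1
      rwa [zpow_natCast] at h
    have := LocallyOfFiniteType.jacobsonSpace (F.obj A).hom
    have hone : IsClosed ({Groth.NeronArea.FieldComponents.pp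
        (1 : 𝟙_ (Over (Spec (CommRingCat.of Ω))) ⟶ F.obj A)} : Set (F.obj A).left) :=
      (pointEquivClosedPoint (F.obj A).hom ⟨(1 : 𝟙_ (Over (Spec (CommRingCat.of Ω))) ⟶ F.obj A).left, Over.w _⟩).2
    intro b hb
    have hbc : IsClosed ({b} : Set (F.obj A).left) := by
      have hcl := hone.preimage q.left.continuous
      have hfinc := q.left.finite_preimage_singleton (Groth.NeronArea.FieldComponents.pp
        (1 : 𝟙_ (Over (Spec (CommRingCat.of Ω))) ⟶ F.obj A))
      have hc : IsClosed (q.left ⁻¹' {Groth.NeronArea.FieldComponents.pp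
          (1 : 𝟙_ (Over (Spec (CommRingCat.of Ω))) ⟶ F.obj A)} ∩ closedPoints (F.obj A).left) := by
        rw [← Set.biUnion_of_singleton (_ ∩ closedPoints (F.obj A).left)]
        exact (hfinc.inter_of_left _).isClosed_biUnion fun c hc => hc.2
      have h := (JacobsonSpace.closure_inter_closedPoints_eq_closure hcl.isLocallyClosed).trans
        hcl.closure_eq
      rw [hc.closure_eq] at h
      exact (h.ge (hsub b hb)).2
    obtain ⟨z, hz⟩ := Groth.AbVarMul.exists_point' b hbc
    refine ⟨z, Groth.AbVarMul.point_ext' ?_, hz⟩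
    rw [← hsub b hb, ← hz, ← Groth.NeronArea.FieldComponents.pp_comp, MonObj.comp_pow, Category.comp_id]
  calc S.encard ≤ ((Limits.pullback.fst A.hom t) '' T).encard := Set.encard_le_encard hS
    _ ≤ T.encard := Set.encard_image_le _ _
    _ ≤ (Groth.NeronArea.FieldComponents.pp ''
        {z : 𝟙_ (Over (Spec (CommRingCat.of Ω))) ⟶ F.obj A | z ^ p = 1}).encard := Set.encard_le_encard hT
    _ ≤ {z : 𝟙_ (Over (Spec (CommRingCat.of Ω))) ⟶ F.obj A | z ^ p = 1}.encard := Set.encard_image_le _ _
    _ = (Nat.card {z : 𝟙_ (Over (Spec (CommRingCat.of Ω))) ⟶ F.obj A | z ^ p = 1} : ℕ∞) := by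
      rw [Nat.card_coe_set_eq, hfin.cast_ncard_eq]
    _ ≤ (p ^ g : ℕ) := by exact_mod_cast hcard


end Groth.Agent.S1843
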