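import Groth.Statements.S18430
import Mathlib
-- import your own Groth.Agent.* helpers here

set_option autoImplicit false
universe u
open SpinCurv

namespace Groth.Agent.S18430


/-- Let n ≥ 1 and r ≥ 2 be integers and let e_0, …, e_{nr} be integers, thought of as the coefficients
of two non-exceptional components C = E_0 and D = E_{nr} of the special fibre and of the chain of nr
- 1 exceptional curves joining them. If at every interior index 1 ≤ j ≤ nr - 1 the second difference
e_{j-1} - 2 e_j + e_{j+1} is divisible by r (the degree of the divisor on each exceptional curve of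
the chain is a multiple of r), then e_0 ≡ e_{nr} modulo r. (The published statement deduces from
this step, using that the special fibre is connected, that all non-exceptional components are joined
by such chains and that one non-exceptional coefficient may be taken to be 0, that every
non-exceptional coefficient can be assumed divisible by r; only the chain step is stated here.) -/
theorem result (n r : ℕ) (hn : 1 ≤ n) (hr : 2 ≤ r)
    (e : ℕ → ℤ)
    (hdiv : ∀ j : ℕ, 1 ≤ j → j < n * r → (r : ℤ) ∣ e (j - 1) - 2 * e j + e (j + 1)) :
    (r : ℤ) ∣ e (n * r) - e 0 := by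
  have key : ∀ j, j + 1 ≤ n * r → ((r : ℤ) ∣ e j - (e 0 + (j : ℤ) * (e 1 - e 0))) ∧
      ((r : ℤ) ∣ e (j + 1) - (e 0 + ((j : ℤ) + 1) * (e 1 - e 0))) := by
    intro j
    induction j with
    | zero => intro _; simp
    | succ j ih =>
      intro hj
      obtain ⟨h1, h2⟩ := ih (by omega)
      refine ⟨by push_cast at h2 ⊢; exact h2, ?_⟩
      have h3 := hdiv (j + 1) (by omega) (by omega)
      simp only [Nat.add_sub_cancel] at h3
      have := dvd_add (dvd_sub h3 h1) (h2.mul_left 2)
      push_cast
      obtain ⟨c, hc⟩ := this
      exact ⟨c, by linarith⟩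
  have hpos : 1 ≤ n * r := Nat.one_le_iff_ne_zero.mpr (by positivity)
  obtain ⟨m, hm⟩ : ∃ m, n * r = m + 1 := ⟨n * r - 1, by omega⟩
  have h := (key m (by omega)).2
  rw [hm]
  have hr' : (r : ℤ) ∣ ((m : ℤ) + 1) * (e 1 - e 0) := by
    refine Dvd.dvd.mul_right ⟨(n : ℤ), ?_⟩ _
    have : ((n * r : ℕ) : ℤ) = ((m + 1 : ℕ) : ℤ) := by rw [hm]
    push_cast at this; linarith
  have := dvd_add h hr'
  obtain ⟨c, hc⟩ := this
  exact ⟨c, by linarith⟩

end Groth.Agent.S18430
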