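import Groth.Statements.S18431
import Mathlib
-- import your own Groth.Agent.* helpers here

set_option autoImplicit false
universe u
open SpinCurv

namespace Groth.Agent.S18431


/-- Let R be a Noetherian local ring in which the natural number r is invertible and let ξ, ζ ∈ R
satisfy ξ^r = 1 and ζ^r = 1. Then either ξ = ζ, or ξ - ζ is a unit of R. (Consequently an element of
R annihilated by ξ - ζ is zero unless ξ = ζ. In the published setting R is moreover complete; the
step does not use completeness.) -/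
theorem result (R : Type u) [CommRing R] [IsNoetherianRing R] [IsLocalRing R]
    (r : ℕ) (hr : IsUnit (r : R)) (ξ ζ : R) (hξ : ξ ^ r = 1) (hζ : ζ ^ r = 1) :
    ξ = ζ ∨ IsUnit (ξ - ζ) := by
  by_cases h : IsUnit (ξ - ζ)
  · exact Or.inr h
  left
  have hmem : ξ - ζ ∈ IsLocalRing.maximalIdeal R := h
  have hr0 : r = 0 ∨ 0 < r := Nat.eq_zero_or_pos r
  rcases hr0 with rfl | hr0
  · have : Subsingleton R := subsingleton_of_zero_eq_one (isUnit_zero_iff.mp (by simpa using hr))
    exact Subsingleton.elim _ _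
  have hu : IsUnit ζ := IsUnit.of_pow_eq_one hζ hr0.ne'
  have hsum : IsUnit (∑ i ∈ Finset.range r, ξ ^ i * ζ ^ (r - 1 - i)) := by
    by_contra hs
    have hs' : (∑ i ∈ Finset.range r, ξ ^ i * ζ ^ (r - 1 - i)) ∈ IsLocalRing.maximalIdeal R := hs
    have he : (Ideal.Quotient.mk (IsLocalRing.maximalIdeal R)) ξ =
        Ideal.Quotient.mk (IsLocalRing.maximalIdeal R) ζ := Ideal.Quotient.eq.mpr hmem
    have h0 := Ideal.Quotient.eq_zero_iff_mem.mpr hs'
    rw [map_sum] at h0
    have h1 : ∀ i ∈ Finset.range r, Ideal.Quotient.mk (IsLocalRing.maximalIdeal R) (ξ ^ i * ζ ^ (r - 1 - i)) =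
        Ideal.Quotient.mk (IsLocalRing.maximalIdeal R) (ζ ^ (r - 1)) := by
      intro i hi
      simp only [Finset.mem_range] at hi
      rw [map_mul, map_pow, he, ← map_pow, ← map_mul, ← pow_add, show i + (r - 1 - i) = r - 1 by omega]
    rw [Finset.sum_congr rfl h1, Finset.sum_const, Finset.card_range, nsmul_eq_mul,
      ← map_natCast (Ideal.Quotient.mk (IsLocalRing.maximalIdeal R)) r, ← map_mul,
      Ideal.Quotient.eq_zero_iff_mem] at h0
    exact h0 (hr.mul (hu.pow _))
  have h2 : (∑ i ∈ Finset.range r, ξ ^ i * ζ ^ (r - 1 - i)) * (ξ - ζ) = 0 := by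
    rw [geom_sum₂_mul, hξ, hζ, sub_self]
  exact sub_eq_zero.mp (hsum.mul_right_eq_zero.mp h2)

end Groth.Agent.S18431
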