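import Groth.Statements.S18432
import Mathlib
import Groth.Agent.SpinCurv.PowNode
-- import your own Groth.Agent.* helpers here

set_option autoImplicit false
universe u
open SpinCurv

namespace Groth.Agent.S18432

theorem mulVec_eq (R : Type u) [CommRing R] (p q : R) (v : Fin 2 → SpinCurv.NodeRing R (p * q)) :
    Matrix.mulVec (SpinCurv.nodeAlpha R p q) v =
      ![SpinCurv.NodeRing.x R (p * q) * v 0 + algebraMap R _ p * v 1,
        algebraMap R _ q * v 0 + SpinCurv.NodeRing.y R (p * q) * v 1] := by
  funext i
  fin_cases i <;> simp [SpinCurv.nodeAlpha, Matrix.mulVec, dotProduct, Fin.sum_univ_two]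


/-- Let R be a complete Noetherian local ring, p, q elements of its maximal ideal, A = R[[x, y]]/(xy -
pq), and α(p, q) the A-linear endomorphism of A² with matrix (x p; q y), sending a column (a, b) to
(x a + p b, q a + y b). Then the kernel of α(p, q) is the submodule of A² generated by the columns
(p, -x) and (y, -q); equivalently the image of α(p, q) (the standard rank-one torsion-free module
E(p, q)) is presented by two generators ξ, v with the relations p ξ = x v and y ξ = q v. -/
theorem result (R : Type u) [CommRing R] [IsNoetherianRing R] [IsLocalRing R]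
    [IsAdicComplete (IsLocalRing.maximalIdeal R) R]
    (p q : R) (hp : p ∈ IsLocalRing.maximalIdeal R) (hq : q ∈ IsLocalRing.maximalIdeal R) :
    LinearMap.ker (Matrix.mulVecLin (SpinCurv.nodeAlpha R p q)) =
      Submodule.span (SpinCurv.NodeRing R (p * q))
        {![algebraMap R (SpinCurv.NodeRing R (p * q)) p, -SpinCurv.NodeRing.x R (p * q)],
         ![SpinCurv.NodeRing.y R (p * q), -algebraMap R (SpinCurv.NodeRing R (p * q)) q]} := by
  have hpq : p * q ∈ IsLocalRing.maximalIdeal R := Ideal.mul_mem_left _ _ hq
  have hxy := Groth.SpinCurv.node_xy p q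
  apply le_antisymm
  · intro v hv
    rw [LinearMap.mem_ker, Matrix.mulVecLin_apply, mulVec_eq] at hv
    obtain ⟨f, g, c, d, h0, h1⟩ := Groth.SpinCurv.exists_decomp hpq (v 0) (v 1)
    have e0 := congrFun hv 0
    have e1 := congrFun hv 1
    simp only [Matrix.cons_val_zero, Matrix.cons_val_one, Pi.zero_apply] at e0 e1
    obtain ⟨rfl, rfl⟩ := Groth.SpinCurv.alpha_injective hpq f g 0 0
      (by simp only [SpinCurv.NodeRing.ofX, SpinCurv.NodeRing.ofY, map_zero, mul_zero, add_zero]
          rw [h0, h1] at e0
          linear_combination e0 - d * hxy)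
      (by simp only [SpinCurv.NodeRing.ofX, SpinCurv.NodeRing.ofY, map_zero, mul_zero, add_zero]
          rw [h0, h1] at e1
          linear_combination e1 + c * hxy)
    rw [Submodule.mem_span_pair]
    refine ⟨c, d, funext fun i => ?_⟩
    fin_cases i
    · simp [h0, SpinCurv.NodeRing.ofX]
    · simp [h1, SpinCurv.NodeRing.ofY, sub_eq_add_neg, add_comm]
      ring
  · rw [Submodule.span_le]
    rintro v (rfl | rfl) <;> rw [SetLike.mem_coe, LinearMap.mem_ker, Matrix.mulVecLin_apply, mulVec_eq] <;>
      funext i <;> fin_cases i <;> simp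
    all_goals first
      | ring1
      | linear_combination hxy
      | linear_combination -hxy

end Groth.Agent.S18432
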