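import Groth.Statements.S18433
import Mathlib
import Groth.Agent.SpinCurv.PowNode
-- import your own Groth.Agent.* helpers here

set_option autoImplicit false
universe u
open SpinCurv

namespace Groth.Agent.S18433

theorem mulVec_eq (R : Type u) [CommRing R] (p q : R) (v : Fin 2 → SpinCurv.NodeRing R (p * q)) :
    Matrix.mulVec (SpinCurv.nodeAlpha R p q) v =
      ![SpinCurv.NodeRing.x R (p * q) * v 0 + algebraMap R _ p * v 1,
        algebraMap R _ q * v 0 + SpinCurv.NodeRing.y R (p * q) * v 1] := by
  funext i
  fin_cases i <;> simp [SpinCurv.nodeAlpha, Matrix.mulVec, dotProduct, Fin.sum_univ_two]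


/-- Let R be a complete Noetherian local ring, p, q elements of its maximal ideal, A = R[[x, y]]/(xy -
pq), and α(p, q) the endomorphism (a, b) ↦ (x a + p b, q a + y b) of A². Restrict α(p, q) to pairs
(f, g) with f a power series in x alone and g a power series in y alone: the resulting map R[[x]] ×
R[[y]] → A², (f, g) ↦ (x f + p g, q f + y g), is injective and has the same image as α(p, q). Thus
the image E(p, q) of α(p, q) is identified, R-linearly, with R[[x]] ⊕ R[[y]]. -/
theorem result (R : Type u) [CommRing R] [IsNoetherianRing R] [IsLocalRing R]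
    [IsAdicComplete (IsLocalRing.maximalIdeal R) R]
    (p q : R) (hp : p ∈ IsLocalRing.maximalIdeal R) (hq : q ∈ IsLocalRing.maximalIdeal R) :
    Function.Injective (fun fg : PowerSeries R × PowerSeries R =>
        Matrix.mulVec (SpinCurv.nodeAlpha R p q)
          ![SpinCurv.NodeRing.ofX R (p * q) fg.1, SpinCurv.NodeRing.ofY R (p * q) fg.2]) ∧
    Set.range (fun fg : PowerSeries R × PowerSeries R =>
        Matrix.mulVec (SpinCurv.nodeAlpha R p q)
          ![SpinCurv.NodeRing.ofX R (p * q) fg.1, SpinCurv.NodeRing.ofY R (p * q) fg.2]) =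
      Set.range (Matrix.mulVec (SpinCurv.nodeAlpha R p q)) := by
  have hpq : p * q ∈ IsLocalRing.maximalIdeal R := Ideal.mul_mem_left _ _ hq
  have hxy := Groth.SpinCurv.node_xy p q
  refine ⟨fun a b h => ?_, Set.Subset.antisymm ?_ ?_⟩
  · simp only [mulVec_eq] at h
    obtain ⟨e1, e2⟩ := Groth.SpinCurv.alpha_injective hpq a.1 a.2 b.1 b.2
      (by simpa using congrFun h 0) (by simpa using congrFun h 1)
    exact Prod.ext e1 e2
  · rintro _ ⟨fg, rfl⟩
    exact ⟨_, rfl⟩
  · rintro _ ⟨v, rfl⟩
    obtain ⟨f, g, c, d, h0, h1⟩ := Groth.SpinCurv.exists_decomp hpq (v 0) (v 1)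
    refine ⟨(f, g), ?_⟩
    simp only [mulVec_eq]
    funext i
    fin_cases i <;> simp only [Fin.zero_eta, Fin.mk_one, Fin.isValue, Matrix.cons_val_zero, Matrix.cons_val_one, h0, h1]
    · linear_combination -d * hxy
    · linear_combination c * hxy

end Groth.Agent.S18433
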