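import Groth.Statements.S18434
import Mathlib
-- import your own Groth.Agent.* helpers here

set_option autoImplicit false
universe u
open SpinCurv

namespace Groth.Agent.S18434

theorem monomial_dvd {k : Type u} [CommRing k] (d : Fin 2 →₀ ℕ) {f : MvPowerSeries (Fin 2) k}
    (h : ∀ m, MvPowerSeries.coeff m f ≠ 0 → d ≤ m) : MvPowerSeries.monomial d (1 : k) ∣ f := by
  classical
  let g : MvPowerSeries (Fin 2) k := fun m => MvPowerSeries.coeff (m + d) f
  have hg : ∀ m, MvPowerSeries.coeff m g = MvPowerSeries.coeff (m + d) f := fun m => rfl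
  refine ⟨g, ?_⟩
  ext m
  rw [MvPowerSeries.coeff_monomial_mul]
  split_ifs with hd
  · rw [one_mul, hg, tsub_add_cancel_of_le hd]
  · by_contra hne
    exact hd (h m hne)

theorem coeff_monomial_mul_eq_zero {k : Type u} [CommRing k] (d : Fin 2 →₀ ℕ) (c : MvPowerSeries (Fin 2) k)
    {m : Fin 2 →₀ ℕ} (hm : ¬ d ≤ m) : MvPowerSeries.coeff m (MvPowerSeries.monomial d (1 : k) * c) = 0 := by
  classical
  rw [MvPowerSeries.coeff_monomial_mul, if_neg hm]


/-- Let k be a field, u, v ≥ 1 integers and w ∈ k nonzero. In the ring A = k[[x, y]]/(xy), the quotient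
A/(x^u, w y^v) has dimension u + v - 1 over k (a basis is 1, x, …, x^{u-1}, y, …, y^{v-1}); this is
the length of the cokernel at the node of a map whose image is generated by x^u and w y^v. -/
theorem result (k : Type u) [Field k] (u v : ℕ) (hu : 1 ≤ u) (hv : 1 ≤ v)
    (w : k) (hw : w ≠ 0) :
    Module.finrank k (SpinCurv.NodeRing k 0 ⧸
      Ideal.span {SpinCurv.NodeRing.x k 0 ^ u, algebraMap k (SpinCurv.NodeRing k 0) w * SpinCurv.NodeRing.y k 0 ^ v}) =
      u + v - 1 := by
  classical
  let M := MvPowerSeries (Fin 2) k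
  let i2 : ℕ → ℕ → (Fin 2 →₀ ℕ) := fun a b => Finsupp.single 0 a + Finsupp.single 1 b
  have hi0 : ∀ a b, i2 a b 0 = a := fun a b => by simp [i2]
  have hi1 : ∀ a b, i2 a b 1 = b := fun a b => by simp [i2]
  have hle : ∀ a b (m : Fin 2 →₀ ℕ), i2 a b ≤ m ↔ a ≤ m 0 ∧ b ≤ m 1 := fun a b m =>
    ⟨fun h => ⟨(hi0 a b).ge.trans (h 0), (hi1 a b).ge.trans (h 1)⟩,
      fun h s => by fin_cases s <;> simp [i2, h.1, h.2]⟩
  let X0 : M := MvPowerSeries.X 0
  let X1 : M := MvPowerSeries.X 1
  have hm11 : (MvPowerSeries.monomial (i2 1 1) (1 : k) : M) = X0 * X1 := by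
    show _ = MvPowerSeries.X 0 * MvPowerSeries.X 1
    rw [MvPowerSeries.X_def, MvPowerSeries.X_def, MvPowerSeries.monomial_mul_monomial, one_mul]
  have hmu : (MvPowerSeries.monomial (i2 u 0) (1 : k) : M) = X0 ^ u := by
    show _ = MvPowerSeries.X 0 ^ u
    rw [MvPowerSeries.X_pow_eq]
    simp [i2]
  have hmv : (MvPowerSeries.monomial (i2 0 v) (1 : k) : M) = X1 ^ v := by
    show _ = MvPowerSeries.X 1 ^ v
    rw [MvPowerSeries.X_pow_eq]
    simp [i2]
  let I := Ideal.span {SpinCurv.NodeRing.x k 0 ^ u, algebraMap k (SpinCurv.NodeRing k 0) w * SpinCurv.NodeRing.y k 0 ^ v}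
  let φ : M →ₗ[k] (Fin u → k) × (Fin (v - 1) → k) :=
    LinearMap.prod (LinearMap.pi fun i : Fin u => MvPowerSeries.coeff (i2 i 0))
      (LinearMap.pi fun j : Fin (v - 1) => MvPowerSeries.coeff (i2 0 (j + 1)))
  let ψ : M →ₗ[k] SpinCurv.NodeRing k 0 ⧸ I :=
    ((Ideal.Quotient.mkₐ k I).comp (Ideal.Quotient.mkₐ k _)).toLinearMap
  have hψ : Function.Surjective ψ :=
    (Ideal.Quotient.mkₐ_surjective k I).comp (Ideal.Quotient.mkₐ_surjective k _)
  have hφ : Function.Surjective φ := by
    intro a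
    let f : M := fun m =>
      if h : m 1 = 0 ∧ m 0 < u then a.1 ⟨m 0, h.2⟩
      else if h : m 0 = 0 ∧ 1 ≤ m 1 ∧ m 1 - 1 < v - 1 then a.2 ⟨m 1 - 1, h.2.2⟩ else 0
    refine ⟨f, Prod.ext (funext fun i => ?_) (funext fun j => ?_)⟩
    · show MvPowerSeries.coeff (i2 i 0) f = a.1 i
      rw [MvPowerSeries.coeff_apply]
      simp only [f, hi0, hi1]
      rw [dif_pos ⟨trivial, i.2⟩]
    · show MvPowerSeries.coeff (i2 0 (j + 1)) f = a.2 j
      rw [MvPowerSeries.coeff_apply]
      have := j.2
      simp only [f, hi0, hi1]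
      rw [dif_neg (by omega), dif_pos ⟨trivial, by omega, by omega⟩]
      congr
  have hker : LinearMap.ker ψ = LinearMap.ker φ := by
    ext z
    constructor
    · intro hz
      have hz' : (Ideal.Quotient.mk _ z : SpinCurv.NodeRing k 0) ∈ I := Ideal.Quotient.eq_zero_iff_mem.1 hz
      obtain ⟨a, b, hab⟩ := Ideal.mem_span_pair.1 hz'
      obtain ⟨A, rfl⟩ := Ideal.Quotient.mk_surjective a
      obtain ⟨B, rfl⟩ := Ideal.Quotient.mk_surjective b
      have hmem : A * X0 ^ u + B * (MvPowerSeries.C w * X1 ^ v) - z ∈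
          Ideal.span {(MvPowerSeries.X 0 * MvPowerSeries.X 1 - MvPowerSeries.C 0 : M)} := by
        rw [← Ideal.Quotient.mk_eq_mk_iff_sub_mem, map_add, map_mul, map_mul, map_mul, map_pow, map_pow]
        exact hab
      obtain ⟨c, hc⟩ := Ideal.mem_span_singleton.1 hmem
      rw [map_zero, sub_zero] at hc
      have hz2 : z = X0 ^ u * A + X1 ^ v * (B * MvPowerSeries.C w) + X0 * X1 * (-c) := by
        linear_combination -hc
      rw [← hmu, ← hmv, ← hm11] at hz2
      subst hz2
      refine LinearMap.mem_ker.2 (Prod.ext (funext fun i => ?_) (funext fun j => ?_))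
      · simp only [φ, LinearMap.prod_apply, Function.prod, LinearMap.pi_apply, Prod.fst_zero, Prod.snd_zero, Pi.zero_apply]
        have := i.2
        rw [map_add, map_add, coeff_monomial_mul_eq_zero _ _ (by rw [hle, hi0, hi1]; omega),
          coeff_monomial_mul_eq_zero _ _ (by rw [hle, hi0, hi1]; omega),
          coeff_monomial_mul_eq_zero _ _ (by rw [hle, hi0, hi1]; omega)]
        simp
      · simp only [φ, LinearMap.prod_apply, Function.prod, LinearMap.pi_apply, Prod.fst_zero, Prod.snd_zero, Pi.zero_apply]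
        have := j.2
        rw [map_add, map_add, coeff_monomial_mul_eq_zero _ _ (by rw [hle, hi0, hi1]; omega),
          coeff_monomial_mul_eq_zero _ _ (by rw [hle, hi0, hi1]; omega),
          coeff_monomial_mul_eq_zero _ _ (by rw [hle, hi0, hi1]; omega)]
        simp
    · intro hz
      have h1 : ∀ i < u, MvPowerSeries.coeff (i2 i 0) z = 0 := fun i hi =>
        congrFun (congrArg Prod.fst (LinearMap.mem_ker.1 hz)) ⟨i, hi⟩
      have h2 : ∀ j < v - 1, MvPowerSeries.coeff (i2 0 (j + 1)) z = 0 := fun j hj =>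
        congrFun (congrArg Prod.snd (LinearMap.mem_ker.1 hz)) ⟨j, hj⟩
      let R1 : M := fun m => if 1 ≤ m 0 ∧ 1 ≤ m 1 then z m else 0
      let R2 : M := fun m => if m 1 = 0 then z m else 0
      let R3 : M := fun m => if m 1 ≠ 0 ∧ m 0 = 0 then z m else 0
      have hsum : z = R1 + R2 + R3 := by
        funext m
        show z m = (if _ then _ else _) + (if _ then _ else _) + (if _ then _ else _)
        split_ifs <;> first | omega | simp
      have heq : ∀ m : Fin 2 →₀ ℕ, m = i2 (m 0) (m 1) := fun m => Finsupp.ext fun s => by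
        fin_cases s <;> simp [i2]
      have d1 : X0 * X1 ∣ R1 := hm11 ▸ monomial_dvd _ fun m hm => by
        rw [MvPowerSeries.coeff_apply] at hm
        simp only [R1] at hm
        split_ifs at hm with h
        · exact (hle _ _ _).2 h
        · exact absurd rfl hm
      have d2 : X0 ^ u ∣ R2 := hmu ▸ monomial_dvd _ fun m hm => by
        rw [MvPowerSeries.coeff_apply] at hm
        simp only [R2] at hm
        split_ifs at hm with h
        · refine (hle _ _ _).2 ⟨?_, Nat.zero_le _⟩
          by_contra hlt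
          refine hm ?_
          have := h1 (m 0) (by omega)
          rw [MvPowerSeries.coeff_apply] at this
          rwa [heq m, h]
        · exact absurd rfl hm
      have d3 : X1 ^ v ∣ R3 := hmv ▸ monomial_dvd _ fun m hm => by
        rw [MvPowerSeries.coeff_apply] at hm
        simp only [R3] at hm
        split_ifs at hm with h
        · refine (hle _ _ _).2 ⟨Nat.zero_le _, ?_⟩
          by_contra hlt
          refine hm ?_
          have := h2 (m 1 - 1) (by omega)
          rw [MvPowerSeries.coeff_apply, show m 1 - 1 + 1 = m 1 by omega] at this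
          rwa [heq m, h.2]
        · exact absurd rfl hm
      obtain ⟨a, ha⟩ := d1
      obtain ⟨b, hb⟩ := d2
      obtain ⟨c, hc⟩ := d3
      show Ideal.Quotient.mk I (Ideal.Quotient.mk _ z) = 0
      rw [Ideal.Quotient.eq_zero_iff_mem, hsum, ha, hb, hc]
      have hxy : (Ideal.Quotient.mk _ (X0 * X1) : SpinCurv.NodeRing k 0) = 0 :=
        Ideal.Quotient.eq_zero_iff_mem.2 (Ideal.mem_span_singleton.2 ⟨1, by simp [X0, X1]⟩)
      simp only [map_add, map_mul (Ideal.Quotient.mk _) (X0 * X1), hxy, zero_mul, zero_add]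
      refine Ideal.mem_span_pair.2 ⟨Ideal.Quotient.mk _ b, algebraMap k _ w⁻¹ * Ideal.Quotient.mk _ c, ?_⟩
      have hww : algebraMap k (SpinCurv.NodeRing k 0) w⁻¹ * algebraMap k (SpinCurv.NodeRing k 0) w = 1 := by
        rw [← map_mul, inv_mul_cancel₀ hw, map_one]
      simp only [map_mul, map_pow]
      linear_combination (Ideal.Quotient.mk _ c * SpinCurv.NodeRing.y k 0 ^ v) * hww
  let E := (ψ.quotKerEquivOfSurjective hψ).symm.trans
    ((Submodule.quotEquivOfEq _ _ hker).trans (φ.quotKerEquivOfSurjective hφ))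
  rw [E.finrank_eq, Module.finrank_prod, Module.finrank_fin_fun, Module.finrank_fin_fun]
  omega

end Groth.Agent.S18434
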