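import Groth.Statements.S18435
import Mathlib
import Groth.Agent.SpinCurv.PolyNode
-- import your own Groth.Agent.* helpers here

set_option autoImplicit false
universe u
open SpinCurv

namespace Groth.Agent.S18435


/-- Let k be a field and A = k[x, y]/(xy) the node, with the two affine charts U = Spec k[s, y]/(sy) and
V = Spec k[t, x]/(tx) of the curve obtained by the (p, q)-construction with p = q = 0, glued along
k[s, s⁻¹] by t = s⁻¹ (y ↦ 0 from U, x ↦ 0 from V), and with A → O(U) given by x ↦ 0, y ↦ y and A →
O(V) by x ↦ x, y ↦ 0. A global section of O(1) is a pair (g, f) with g = s f on U ∩ V. If such a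
pair is annihilated by both x and y (acting through the two restriction maps), then g = 0 and f = 0;
so the module of global sections of O(1) has no nonzero element killed by the maximal ideal (x, y),
i.e. its direct image on the node is torsion-free there. All three coordinate rings are written as
the quotient of the polynomial ring in two variables by the product of the variables, and the four
restriction homomorphisms are k-algebra maps pinned by their values on generators. (The published
proof reduces the torsion-freeness of the direct image of O(1), for general R, p, q, to exactly this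
case of a field with p = q = 0.) -/
theorem result (k : Type u) [Field k]
    (rU : SpinCurv.PolyNodeRing k 0 →ₐ[k] SpinCurv.PolyNodeRing k 0)
    (hrUx : rU (SpinCurv.PolyNodeRing.x k 0) = 0)
    (hrUy : rU (SpinCurv.PolyNodeRing.y k 0) = SpinCurv.PolyNodeRing.y k 0)
    (rV : SpinCurv.PolyNodeRing k 0 →ₐ[k] SpinCurv.PolyNodeRing k 0)
    (hrVx : rV (SpinCurv.PolyNodeRing.x k 0) = SpinCurv.PolyNodeRing.y k 0)
    (hrVy : rV (SpinCurv.PolyNodeRing.y k 0) = 0)
    (gU : SpinCurv.PolyNodeRing k 0 →ₐ[k] LaurentPolynomial k)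
    (hgUs : gU (SpinCurv.PolyNodeRing.x k 0) = LaurentPolynomial.T 1)
    (hgUy : gU (SpinCurv.PolyNodeRing.y k 0) = 0)
    (gV : SpinCurv.PolyNodeRing k 0 →ₐ[k] LaurentPolynomial k)
    (hgVt : gV (SpinCurv.PolyNodeRing.x k 0) = LaurentPolynomial.T (-1))
    (hgVx : gV (SpinCurv.PolyNodeRing.y k 0) = 0)
    (g f : SpinCurv.PolyNodeRing k 0) (hsec : gU g = LaurentPolynomial.T 1 * gV f)
    (hx : rU (SpinCurv.PolyNodeRing.x k 0) * g = 0 ∧ rV (SpinCurv.PolyNodeRing.x k 0) * f = 0)
    (hy : rU (SpinCurv.PolyNodeRing.y k 0) * g = 0 ∧ rV (SpinCurv.PolyNodeRing.y k 0) * f = 0) :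
    g = 0 ∧ f = 0 := by
  have hgUy' : gU (SpinCurv.PolyNodeRing.y k 0) = LaurentPolynomial.C 0 * LaurentPolynomial.T (-1) := by
    simp [hgUy]
  have hgVx' : gV (SpinCurv.PolyNodeRing.y k 0) = LaurentPolynomial.C 0 * LaurentPolynomial.T 1 := by
    simp [hgVx]
  have key : ∀ (z : SpinCurv.PolyNodeRing k 0) (m : ℤ), m ≤ 0 →
      Groth.SpinCurv.coord 0 (SpinCurv.PolyNodeRing.y k 0 * z) (m - 1) = Groth.SpinCurv.coord 0 z m := by
    intro z m hm
    induction z using Groth.SpinCurv.induction_coord with
    | h0 => simp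
    | hadd a b ha hb => simp [mul_add, ha, hb]
    | he j c =>
      rw [mul_smul_comm, map_smul, map_smul, Finsupp.smul_apply, Finsupp.smul_apply]
      congr 1
      rw [Groth.SpinCurv.coord_e]
      rcases le_or_gt j 0 with hj | hj
      · obtain ⟨i, rfl⟩ : ∃ i : ℕ, j = -(i : ℤ) := ⟨(-j).toNat, by omega⟩
        rw [Groth.SpinCurv.e_neg_natCast, ← pow_succ', ← Groth.SpinCurv.e_neg_natCast, Groth.SpinCurv.coord_e]
        simp only [Finsupp.single_apply]
        split_ifs <;> first | rfl | omega
      · obtain ⟨i, rfl⟩ : ∃ i : ℕ, j = ((i + 1 : ℕ) : ℤ) := ⟨j.toNat - 1, by omega⟩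
        rw [Groth.SpinCurv.e_natCast, pow_succ', ← mul_assoc, mul_comm (SpinCurv.PolyNodeRing.y k 0),
          Groth.SpinCurv.x_mul_y]
        simp only [map_zero, zero_mul, Finsupp.zero_apply, Finsupp.single_apply]
        rw [if_neg (by omega)]
  have hg : ∀ m : ℤ, m ≤ 0 → Groth.SpinCurv.coord 0 g m = 0 := fun m hm => by
    have h := hy.1
    rw [hrUy] at h
    rw [← key g m hm, h]
    simp
  have hf : ∀ m : ℤ, m ≤ 0 → Groth.SpinCurv.coord 0 f m = 0 := fun m hm => by
    have h := hx.2
    rw [hrVx] at h
    rw [← key f m hm, h]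
    simp
  have heq := (Groth.SpinCurv.eq_iff (p := 0) (q := 0) 1 hgUs hgUy' hgVt hgVx' (g, f)).1 hsec
  refine ⟨Groth.SpinCurv.coord_injective 0 (Finsupp.ext fun m => ?_),
    Groth.SpinCurv.coord_injective 0 (Finsupp.ext fun m => ?_)⟩
  · simp only [map_zero, Finsupp.zero_apply]
    rcases le_or_gt m 0 with hm | hm
    · exact hg m hm
    · have h := heq m
      simp only at h
      rw [show (-m).toNat = 0 by omega, pow_zero, one_mul, hf (1 - m) (by omega), mul_zero] at h
      exact h
  · simp only [map_zero, Finsupp.zero_apply]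
    rcases le_or_gt m 0 with hm | hm
    · exact hf m hm
    · have h := heq (1 - m)
      simp only at h
      rw [show ((1 : ℤ) - m - 1).toNat = 0 by omega, pow_zero, one_mul, hg (1 - m) (by omega), mul_zero,
        sub_sub_cancel] at h
      exact h.symm

end Groth.Agent.S18435
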