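import Groth.Statements.S18437
import Mathlib
import Groth.Agent.SpinCurv.PolyNode
-- import your own Groth.Agent.* helpers here

set_option autoImplicit false
universe u
open SpinCurv

namespace Groth.Agent.S18437


/-- Let R be a commutative ring and p, q ∈ R; put A = R[x, y]/(xy - pq) and consider the two affine
charts U = Spec R[s, y]/(sy - q) and V = Spec R[t, x]/(xt - p) of the curve obtained from Spec A by
blowing up as in the (p, q)-construction, glued along R[s, s⁻¹] by t = s⁻¹ (so y = q s⁻¹ on U and x
= p s on V), with the projection to Spec A given by x ↦ p s, y ↦ y on U and x ↦ x, y ↦ q t on V. For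
n ≥ 0 the twisting sheaf O(n) is vⁿ O on U and ξⁿ O on V with ξ = s v, so its global sections are
the pairs (g, f) of functions on U and V with g = sⁿ f on U ∩ V. Then the map A^{n+1} → O(U) × O(V)
sending (F_0, …, F_n), i.e. the section Σ F_i ξ^{n-i} v^i, to (Σ F_i|_U s^{n-i}, Σ F_i|_V t^i) has
image exactly the set of such pairs, and F is sent to zero exactly when it lies in the A-submodule
of A^{n+1} generated by the vectors p e_i - x e_{i+1} and y e_i - q e_{i+1} for 0 ≤ i < n (e_0, …,
e_n the standard basis). So the global sections of O(n) form the degree-n piece of A[ξ, v]/(p ξ - x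
v, q v - y ξ). For n = 0 this says that a ↦ (a|_U, a|_V) is injective on A with image the pairs of
functions that agree on U ∩ V, so that the functions on the blown-up curve are exactly the functions
on Spec A (the direct image of its structure sheaf is the structure sheaf of Spec A); for n = 1 it
presents the global sections of O(1) as A ξ ⊕ A v modulo the relations p ξ = x v and y ξ = q v. Here
R[s, y]/(sy - q) and R[t, x]/(xt - p) are both written as the quotient of the polynomial ring in two
variables by (first variable)·(second variable) - constant, the homomorphisms rU, rV are the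
restriction maps from A to the two charts and gU, gV the restriction maps from the charts to their
intersection R[s, s⁻¹] (Laurent polynomials), each pinned by its values on the two generators. (The
published setting has R complete local and p, q in the maximal ideal, and reduces to this polynomial
computation, which uses neither.) -/
theorem result (R : Type u) [CommRing R] (p q : R)
    (rU : SpinCurv.PolyNodeRing R (p * q) →ₐ[R] SpinCurv.PolyNodeRing R q)
    (hrUx : rU (SpinCurv.PolyNodeRing.x R (p * q)) = algebraMap R _ p * SpinCurv.PolyNodeRing.x R q)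
    (hrUy : rU (SpinCurv.PolyNodeRing.y R (p * q)) = SpinCurv.PolyNodeRing.y R q)
    (rV : SpinCurv.PolyNodeRing R (p * q) →ₐ[R] SpinCurv.PolyNodeRing R p)
    (hrVx : rV (SpinCurv.PolyNodeRing.x R (p * q)) = SpinCurv.PolyNodeRing.y R p)
    (hrVy : rV (SpinCurv.PolyNodeRing.y R (p * q)) = algebraMap R _ q * SpinCurv.PolyNodeRing.x R p)
    (gU : SpinCurv.PolyNodeRing R q →ₐ[R] LaurentPolynomial R)
    (hgUs : gU (SpinCurv.PolyNodeRing.x R q) = LaurentPolynomial.T 1)
    (hgUy : gU (SpinCurv.PolyNodeRing.y R q) = LaurentPolynomial.C q * LaurentPolynomial.T (-1))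
    (gV : SpinCurv.PolyNodeRing R p →ₐ[R] LaurentPolynomial R)
    (hgVt : gV (SpinCurv.PolyNodeRing.x R p) = LaurentPolynomial.T (-1))
    (hgVx : gV (SpinCurv.PolyNodeRing.y R p) = LaurentPolynomial.C p * LaurentPolynomial.T 1) (n : ℕ) :
    Set.range (fun F : Fin (n + 1) → SpinCurv.PolyNodeRing R (p * q) =>
        (∑ i : Fin (n + 1), rU (F i) * SpinCurv.PolyNodeRing.x R q ^ (n - (i : ℕ)),
         ∑ i : Fin (n + 1), rV (F i) * SpinCurv.PolyNodeRing.x R p ^ (i : ℕ))) =
      {gf : SpinCurv.PolyNodeRing R q × SpinCurv.PolyNodeRing R p |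
        gU gf.1 = LaurentPolynomial.T (n : ℤ) * gV gf.2} ∧
    {F : Fin (n + 1) → SpinCurv.PolyNodeRing R (p * q) |
        (∑ i : Fin (n + 1), rU (F i) * SpinCurv.PolyNodeRing.x R q ^ (n - (i : ℕ)),
         ∑ i : Fin (n + 1), rV (F i) * SpinCurv.PolyNodeRing.x R p ^ (i : ℕ)) = 0} =
      (Submodule.span (SpinCurv.PolyNodeRing R (p * q))
        (Set.range (fun i : Fin n =>
            (Pi.single (Fin.castSucc i) (algebraMap R (SpinCurv.PolyNodeRing R (p * q)) p) -
              Pi.single (Fin.succ i) (SpinCurv.PolyNodeRing.x R (p * q)) : Fin (n + 1) → SpinCurv.PolyNodeRing R (p * q))) ∪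
         Set.range (fun i : Fin n =>
            (Pi.single (Fin.castSucc i) (SpinCurv.PolyNodeRing.y R (p * q)) -
              Pi.single (Fin.succ i) (algebraMap R (SpinCurv.PolyNodeRing R (p * q)) q) : Fin (n + 1) → SpinCurv.PolyNodeRing R (p * q)))) :
        Set (Fin (n + 1) → SpinCurv.PolyNodeRing R (p * q))) := by
  classical
  have hsm : ∀ (π r : R) (z : SpinCurv.PolyNodeRing R π), r • z = algebraMap R _ r * z :=
    fun _ r z => Algebra.smul_def r z
  let Ψ : (Fin (n + 1) → SpinCurv.PolyNodeRing R (p * q)) →ₗ[R]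
      SpinCurv.PolyNodeRing R q × SpinCurv.PolyNodeRing R p :=
    { toFun := fun F => (∑ i : Fin (n + 1), rU (F i) * SpinCurv.PolyNodeRing.x R q ^ (n - (i : ℕ)),
        ∑ i : Fin (n + 1), rV (F i) * SpinCurv.PolyNodeRing.x R p ^ (i : ℕ))
      map_add' := fun F G => by
        simp only [Pi.add_apply, map_add, add_mul, Finset.sum_add_distrib, Prod.mk_add_mk]
      map_smul' := fun r F => by
        simp only [Pi.smul_apply, map_smul, RingHom.id_apply, Prod.smul_mk, Finset.smul_sum]
        congr 1 <;> exact Finset.sum_congr rfl fun i _ => smul_mul_assoc _ _ _ }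
  have hΨsingle : ∀ (i : Fin (n + 1)) (a : SpinCurv.PolyNodeRing R (p * q)), Ψ (Pi.single i a) =
      (rU a * SpinCurv.PolyNodeRing.x R q ^ (n - (i : ℕ)), rV a * SpinCurv.PolyNodeRing.x R p ^ (i : ℕ)) := by
    intro i a
    refine Prod.ext ?_ ?_
    · exact (Finset.sum_eq_single i (fun b _ hb => by rw [Pi.single_eq_of_ne hb, map_zero, zero_mul])
        (fun h => absurd (Finset.mem_univ i) h)).trans (by rw [Pi.single_eq_same])
    · exact (Finset.sum_eq_single i (fun b _ hb => by rw [Pi.single_eq_of_ne hb, map_zero, zero_mul])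
        (fun h => absurd (Finset.mem_univ i) h)).trans (by rw [Pi.single_eq_same])
  have hΨsmul : ∀ (a : SpinCurv.PolyNodeRing R (p * q)) (F : Fin (n + 1) → SpinCurv.PolyNodeRing R (p * q)),
      Ψ (a • F) = (rU a * (Ψ F).1, rV a * (Ψ F).2) := by
    intro a F
    refine Prod.ext ?_ ?_
    · show ∑ i, rU ((a • F) i) * _ = rU a * ∑ i, rU (F i) * _
      rw [Finset.mul_sum]
      exact Finset.sum_congr rfl fun i _ => by simp only [Pi.smul_apply, smul_eq_mul, map_mul, mul_assoc]
    · show ∑ i, rV ((a • F) i) * _ = rV a * ∑ i, rV (F i) * _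
      rw [Finset.mul_sum]
      exact Finset.sum_congr rfl fun i _ => by simp only [Pi.smul_apply, smul_eq_mul, map_mul, mul_assoc]
  have hgr : ∀ a, gU (rU a) = gV (rV a) := by
    have h : gU.comp rU = gV.comp rV := by
      refine Ideal.Quotient.algHom_ext _ (MvPolynomial.algHom_ext fun i => ?_)
      fin_cases i
      · show gU (rU (SpinCurv.PolyNodeRing.x R (p * q))) = gV (rV (SpinCurv.PolyNodeRing.x R (p * q)))
        simp only [hrUx, hrVx, map_mul, AlgHom.commutes, hgUs, hgVx]
        rfl
      · show gU (rU (SpinCurv.PolyNodeRing.y R (p * q))) = gV (rV (SpinCurv.PolyNodeRing.y R (p * q)))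
        simp only [hrUy, hrVy, map_mul, AlgHom.commutes, hgUy, hgVt]
        rfl
    exact fun a => congrArg (fun φ => φ a) h
  have hn : (-1 : ℤ) ≤ n := by omega
  have himg : ∀ F, gU (Ψ F).1 = LaurentPolynomial.T (n : ℤ) * gV (Ψ F).2 := by
    intro F
    simp only [Ψ, LinearMap.coe_mk, AddHom.coe_mk]
    rw [map_sum, map_sum, Finset.mul_sum]
    refine Finset.sum_congr rfl fun i _ => ?_
    simp only [map_mul, map_pow, hgUs, hgVt, hgr, LaurentPolynomial.T_pow]
    rw [mul_left_comm, ← LaurentPolynomial.T_add]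
    congr 2
    have := i.2
    omega
  let K : ℤ → (Fin (n + 1) → SpinCurv.PolyNodeRing R (p * q)) := fun k =>
    if k < 0 then Pi.single (Fin.last n) (SpinCurv.PolyNodeRing.y R (p * q) ^ (-k).toNat)
    else if k ≤ n then Pi.single (⟨n - k.toNat, by omega⟩ : Fin (n + 1)) 1
    else Pi.single 0 (SpinCurv.PolyNodeRing.x R (p * q) ^ (k - n).toNat)
  have hK : ∀ k, Ψ (K k) = Groth.SpinCurv.secE p q (n : ℤ) k := by
    intro k
    by_cases h0 : k < 0
    · obtain ⟨j, rfl⟩ : ∃ j : ℕ, k = -(j : ℤ) := ⟨(-k).toNat, by omega⟩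
      simp only [K, if_pos h0, hΨsingle, Fin.val_last, Groth.SpinCurv.secE]
      rw [Groth.SpinCurv.e_neg_natCast, show (n : ℤ) - -(j : ℤ) = ((n + j : ℕ) : ℤ) by push_cast; ring,
        Groth.SpinCurv.e_natCast, show (-(j : ℤ) - n).toNat = 0 by omega, show (-(-(j : ℤ))).toNat = j by omega,
        hsm, hsm]
      simp only [map_pow, hrUy, hrVy]
      refine Prod.ext ?_ ?_
      · simp
      · show _ = _
        ring
    · obtain ⟨j, rfl⟩ : ∃ j : ℕ, k = (j : ℤ) := ⟨k.toNat, by omega⟩
      by_cases h1 : (j : ℤ) ≤ n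
      · simp only [K, if_neg h0, if_pos h1, hΨsingle, Groth.SpinCurv.secE]
        rw [Groth.SpinCurv.e_natCast, show (n : ℤ) - j = ((n - j : ℕ) : ℤ) by omega, Groth.SpinCurv.e_natCast,
          show ((j : ℤ) - n).toNat = 0 by omega, show (-(j : ℤ)).toNat = 0 by omega]
        simp [show n - (n - j) = j by omega]
      · simp only [K, if_neg h0, if_neg h1, hΨsingle, Groth.SpinCurv.secE]
        obtain ⟨i, rfl⟩ : ∃ i : ℕ, j = n + i := ⟨j - n, by omega⟩
        rw [Groth.SpinCurv.e_natCast, show (n : ℤ) - ((n + i : ℕ) : ℤ) = -(i : ℤ) by push_cast; ring,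
          Groth.SpinCurv.e_neg_natCast, show (((n + i : ℕ) : ℤ) - n).toNat = i by omega,
          show (-((n + i : ℕ) : ℤ)).toNat = 0 by omega, hsm, hsm]
        simp only [map_pow, hrUx, hrVx]
        refine Prod.ext ?_ ?_
        · show _ = _
          simp only [Fin.val_zero, tsub_zero]
          ring
        · simp
  set N := Submodule.span (SpinCurv.PolyNodeRing R (p * q))
        (Set.range (fun i : Fin n =>
            (Pi.single (Fin.castSucc i) (algebraMap R (SpinCurv.PolyNodeRing R (p * q)) p) -
              Pi.single (Fin.succ i) (SpinCurv.PolyNodeRing.x R (p * q)) : Fin (n + 1) → SpinCurv.PolyNodeRing R (p * q))) ∪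
         Set.range (fun i : Fin n =>
            (Pi.single (Fin.castSucc i) (SpinCurv.PolyNodeRing.y R (p * q)) -
              Pi.single (Fin.succ i) (algebraMap R (SpinCurv.PolyNodeRing R (p * q)) q) : Fin (n + 1) → SpinCurv.PolyNodeRing R (p * q)))) with hN
  have hNker : ∀ F ∈ N, Ψ F = 0 := by
    intro F hF
    induction hF using Submodule.span_induction with
    | mem x hx =>
      rcases hx with ⟨i, rfl⟩ | ⟨i, rfl⟩
      all_goals
        have hi := i.2
        rw [map_sub, hΨsingle, hΨsingle, Prod.mk_sub_mk, Prod.mk_eq_zero, Fin.val_castSucc, Fin.val_succ,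
          show n - (i : ℕ) = (n - (i + 1)) + 1 by omega]
      · rw [AlgHom.commutes, AlgHom.commutes, hrUx, hrVx]
        constructor
        · ring
        · rw [pow_succ' (SpinCurv.PolyNodeRing.x R p), ← mul_assoc, mul_comm (SpinCurv.PolyNodeRing.y R p),
            Groth.SpinCurv.x_mul_y, sub_self]
      · rw [AlgHom.commutes, AlgHom.commutes, hrUy, hrVy]
        constructor
        · rw [pow_succ' (SpinCurv.PolyNodeRing.x R q), ← mul_assoc, mul_comm (SpinCurv.PolyNodeRing.y R q),
            Groth.SpinCurv.x_mul_y, sub_self]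
        · ring
    | zero => simp
    | add a b _ _ ha hb => rw [map_add, ha, hb, add_zero]
    | smul a b _ hb => rw [hΨsmul, hb]; simp
  let Λ : (ℤ →₀ R) →ₗ[R] (Fin (n + 1) → SpinCurv.PolyNodeRing R (p * q)) := Finsupp.linearCombination R K
  let W : Submodule R (Fin (n + 1) → SpinCurv.PolyNodeRing R (p * q)) := N.restrictScalars R ⊔ Λ.range
  have hKW : ∀ k, K k ∈ W := fun k =>
    Submodule.mem_sup_right ⟨Finsupp.single k 1, by
      show Finsupp.linearCombination R K _ = _
      rw [Finsupp.linearCombination_single, one_smul]⟩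
  have hx' : ∀ (j : ℕ) (i : Fin (n + 1)), Pi.single i (SpinCurv.PolyNodeRing.x R (p * q) ^ j) ∈ W := by
    intro j
    induction j with
    | zero =>
      intro i
      have hi := i.2
      have h : K ((n - (i : ℕ) : ℕ) : ℤ) = Pi.single i (SpinCurv.PolyNodeRing.x R (p * q) ^ 0) := by
        simp only [K, if_neg (show ¬ (((n - (i : ℕ) : ℕ) : ℤ) < 0) by omega),
          if_pos (show ((n - (i : ℕ) : ℕ) : ℤ) ≤ n by omega), pow_zero]
        congr
        omega
      exact h ▸ hKW _
    | succ j ih =>
      intro i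
      rcases Fin.eq_zero_or_eq_succ i with rfl | ⟨i', rfl⟩
      · have h : K ((n + (j + 1) : ℕ) : ℤ) = Pi.single 0 (SpinCurv.PolyNodeRing.x R (p * q) ^ (j + 1)) := by
          simp only [K, if_neg (show ¬ (((n + (j + 1) : ℕ) : ℤ) < 0) by omega),
            if_neg (show ¬ ((n + (j + 1) : ℕ) : ℤ) ≤ n by omega)]
          congr
          omega
        exact h ▸ hKW _
      · have hrel : SpinCurv.PolyNodeRing.x R (p * q) ^ j •
            (Pi.single (Fin.castSucc i') (algebraMap R (SpinCurv.PolyNodeRing R (p * q)) p) -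
              Pi.single (Fin.succ i') (SpinCurv.PolyNodeRing.x R (p * q)) :
              Fin (n + 1) → SpinCurv.PolyNodeRing R (p * q)) ∈ W :=
          Submodule.mem_sup_left (N.smul_mem _ (Submodule.subset_span (Or.inl ⟨i', rfl⟩)))
        have := W.sub_mem (W.smul_mem p (ih (Fin.castSucc i'))) hrel
        convert this using 1
        rw [← Pi.single_smul, smul_sub, ← Pi.single_smul, ← Pi.single_smul, sub_sub_eq_add_sub, smul_eq_mul,
          smul_eq_mul, hsm, mul_comm (algebraMap R (SpinCurv.PolyNodeRing R (p * q)) p),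
          add_sub_cancel_left, pow_succ]
  have hy' : ∀ (j : ℕ) (i : Fin (n + 1)), Pi.single i (SpinCurv.PolyNodeRing.y R (p * q) ^ j) ∈ W := by
    intro j
    induction j with
    | zero => intro i; simpa using hx' 0 i
    | succ j ih =>
      intro i
      rcases Fin.eq_castSucc_or_eq_last i with ⟨i', rfl⟩ | rfl
      · have hrel : SpinCurv.PolyNodeRing.y R (p * q) ^ j •
            (Pi.single (Fin.castSucc i') (SpinCurv.PolyNodeRing.y R (p * q)) -
              Pi.single (Fin.succ i') (algebraMap R (SpinCurv.PolyNodeRing R (p * q)) q) :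
              Fin (n + 1) → SpinCurv.PolyNodeRing R (p * q)) ∈ W :=
          Submodule.mem_sup_left (N.smul_mem _ (Submodule.subset_span (Or.inr ⟨i', rfl⟩)))
        have := W.add_mem hrel (W.smul_mem q (ih (Fin.succ i')))
        convert this using 1
        rw [← Pi.single_smul, smul_sub, ← Pi.single_smul, ← Pi.single_smul, smul_eq_mul, smul_eq_mul,
          hsm, mul_comm (algebraMap R (SpinCurv.PolyNodeRing R (p * q)) q), sub_add_cancel, pow_succ]
      · have h : K (-((j + 1 : ℕ) : ℤ)) = Pi.single (Fin.last n) (SpinCurv.PolyNodeRing.y R (p * q) ^ (j + 1)) := by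
          simp only [K, if_pos (show (-((j + 1 : ℕ) : ℤ)) < 0 by omega)]
          congr
        exact h ▸ hKW _
  have hW : ∀ F, F ∈ W := by
    intro F
    rw [← Finset.univ_sum_single F]
    refine Submodule.sum_mem _ fun i _ => ?_
    induction F i using Groth.SpinCurv.induction_coord with
    | h0 => simp
    | hadd a b ha hb => rw [Pi.single_add]; exact W.add_mem ha hb
    | he m c =>
      rw [Pi.single_smul]
      refine W.smul_mem c ?_
      unfold Groth.SpinCurv.e
      split_ifs
      · exact hx' _ i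
      · exact hy' _ i
  have hΨΛ : ∀ v, Ψ (Λ v) = Finsupp.linearCombination R (Groth.SpinCurv.secE p q (n : ℤ)) v := by
    intro v
    induction v using Finsupp.induction_linear with
    | zero => simp
    | add f g hf hg => simp only [map_add, hf, hg]
    | single m c => simp [Λ, Finsupp.linearCombination_single, hK]
  refine ⟨Set.Subset.antisymm ?_ ?_, Set.Subset.antisymm ?_ ?_⟩
  · rintro _ ⟨F, rfl⟩
    exact himg F
  · intro z hz
    refine ⟨Λ (Groth.SpinCurv.proj p q (n : ℤ) z), ?_⟩
    show Ψ _ = z
    refine Groth.SpinCurv.eq_of_proj_eq (n : ℤ) hgUs hgUy hgVt hgVx hn _ _ (himg _) hz ?_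
    rw [hΨΛ, Groth.SpinCurv.proj_linearCombination (n : ℤ) hn]
  · intro F hF
    obtain ⟨r, hr, w, ⟨v, rfl⟩, rfl⟩ := Submodule.mem_sup.1 (hW F)
    have h : Ψ (r + Λ v) = 0 := hF
    rw [map_add, hNker r hr, zero_add, hΨΛ] at h
    have := congrArg (Groth.SpinCurv.proj p q (n : ℤ)) h
    rw [Groth.SpinCurv.proj_linearCombination (n : ℤ) hn, map_zero] at this
    subst this
    simpa using hr
  · exact fun F hF => hNker F hF

end Groth.Agent.S18437
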