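import Groth.Statements.S18438
import Groth.Agent.SurfRR.Numerics
-- import your own Groth.Agent.* helpers here

set_option autoImplicit false
universe u
open CategoryTheory CategoryTheory.Limits AlgebraicGeometry TopologicalSpace
open Surf

namespace Groth.Agent.S18438

/-- Let k be an algebraically closed field and X a smooth projective surface over k whose anticanonical
module is ample: X is an integral scheme, proper and smooth over k of dimension 2, W is a canonical
module (a second exterior power of Ω_{X/k}) and D a tensor inverse of W which is ample. Intersection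
numbers of invertible modules are (L·M) = χ(O_X) − χ(L) − χ(M) + χ(L ⊗ M), so that for a closed
subscheme C with ideal I_C one has C·C = (I_C·I_C) and K·C = −(I_C·W). If C ⊆ X is an integral
closed one-dimensional subscheme with C·C < 0, then C is an exceptional curve of the first kind: C·C
= −1, K·C = −1 and H¹(C, O_C) = 0. (The published statement concerns del Pezzo surfaces of degree d
embedded in projective d-space; its argument uses only the ampleness of the anticanonical module,
which is the hypothesis taken here.) -/
theorem result (k : Type u) [Field k] [IsAlgClosed k] (X : Scheme.{u})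
    [X.Over (Spec (CommRingCat.of k))] [IsIntegral X] [IsProper (X ↘ (Spec (CommRingCat.of k)))] [Smooth (X ↘ (Spec (CommRingCat.of k)))]
    (hdim : topologicalKrullDim X = 2)
    (W : X.Modules) (hW : ExtPow.IsExtPow 2 (Omega.sheaf (X ↘ (Spec (CommRingCat.of k)))) W)
    (D : X.Modules) (hD : ClSub.IsInverseOf D W) (hample : CohB1.IsAmple D)
    (C : X.IdealSheafData) (hC : IsIntegral C.subscheme) (hC1 : topologicalKrullDim (C.support : Set X) = 1)
    (hneg : FGA.intNum k X 2 ![ClSub.idealMod C, ClSub.idealMod C] (Coh.structureModule X) < 0) :
    FGA.intNum k X 2 ![ClSub.idealMod C, ClSub.idealMod C] (Coh.structureModule X) = -1 ∧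
      FGA.intNum k X 2 ![ClSub.idealMod C, W] (Coh.structureModule X) = 1 ∧
      Subsingleton (Coh.HH C.subscheme (Coh.structureModule C.subscheme) 1) := by
  obtain ⟨hWi, hDD⟩ := Groth.SurfRR.dualDim_topForms' k hdim hW
  have hD2 := Groth.SurfRR.dualEuler_of_dualDim k hdim.le hDD
  have hreg := Groth.SurfRR.isRegularLocalRing_stalk k (X := X)
  have hIc : Groth.SurfNum.IsCurve C := ⟨hC, hC1⟩
  have hI := hIc.isInvertible k hdim hreg
  have hadj := Groth.SurfRR.adjunction_quot k hdim hWi hD2 hI
  have hle := Groth.SurfRR.euler_curve_le k hIc
  have hneg' := hIc.pair_neg k hdim hreg hample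
  have hWI : 0 < Groth.Inter.pair k (ClSub.idealMod C) W := by
    rw [Groth.Inter.pair_comm k, Groth.Inter.pair_inverse k hdim.le hample.1 hD hI, Groth.Inter.pair_comm k]
    linarith
  rw [Groth.Inter.intNum_eq_pair k hdim.le] at hneg
  simp only [Groth.Inter.intNum_eq_pair k hdim.le]
  refine ⟨by omega, by omega, (Groth.SurfRR.euler_curve_eq_one_iff k hIc).1 (by omega)⟩

end Groth.Agent.S18438
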