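import Groth.Statements.S1844
import Groth.Agent.Abvar.Cube.MulPow

set_option autoImplicit false
universe u v
open CategoryTheory MonoidalCategory CartesianMonoidalCategory MonObj GrpObj AlgebraicGeometry
open GrpSch

namespace Groth.Agent.S1844

open Groth.Abvar.PicCalc

/-- Let A be an abelian variety over a field, L an invertible O_A-module and n ≥ 1. Then [n]^*L is
isomorphic to L^{⊗ n(n+1)/2} ⊗ ([-1]^*L)^{⊗ n(n-1)/2}, where [n] is multiplication by n and [-1] the
inversion of A. -/
theorem result (K : Type u) [Field K] (A : Over (Spec (CommRingCat.of K))) [GrpObj A] [IsProper A.hom] [GeometricallyIntegral A.hom] (L : A.left.Modules) (hL : PicF.IsInvertible L) (n : ℕ) (hn : 1 ≤ n) : Nonempty ((Scheme.Modules.pullback (𝟙 A ^ n).left).obj L ≅ CohB1.tensorMod (CohB1.tensorPow L (n * (n + 1) / 2)) (CohB1.tensorPow ((Scheme.Modules.pullback ((𝟙 A)⁻¹).left).obj L) (n * (n - 1) / 2))) := by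
  rw [nonempty_iso_iff (PicLoc.isInvertible_pullback _ hL)
      (isInvertible_tensorMod (isInvertible_tensorPow hL _)
        (isInvertible_tensorPow (PicLoc.isInvertible_pullback _ hL) _)),
    cls_tensorMod (isInvertible_tensorPow hL _)
      (isInvertible_tensorPow (PicLoc.isInvertible_pullback _ hL) _),
    cls_tensorPow hL, cls_tensorPow (PicLoc.isInvertible_pullback ((𝟙 A)⁻¹).left hL), ← pull_cls _ hL,
    ← pull_cls ((𝟙 A)⁻¹).left hL]
  exact Groth.Abvar.Cube.opull_pow' (cls hL) n

end Groth.Agent.S1844
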