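import Groth.Statements.S18440
import Groth.Agent.SurfRR.Numerics
-- import your own Groth.Agent.* helpers here

set_option autoImplicit false
universe u
open CategoryTheory CategoryTheory.Limits AlgebraicGeometry TopologicalSpace
open Surf

namespace Groth.Agent.S18440

/-- Let k be an algebraically closed field and X a smooth projective surface over k (an integral scheme,
proper and smooth over k of dimension 2) with H¹(X, O_X) = 0, and W a canonical module of X (a
second exterior power of Ω_{X/k}). Let C ⊆ X be an integral closed one-dimensional subscheme, smooth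
over k, of arithmetic genus one, written χ(O_C) = 0 with the Euler characteristic of O_C computed on
X through the closed immersion (k being algebraically closed and C integral, H⁰(C, O_C) = k, so this
says dim_k H¹(C, O_C) = 1), whose module O_X(C) — a tensor inverse N of the ideal I_C — is ample.
Then W ≅ I_C, that is ω_X ≅ O_X(−C) (existence of an isomorphism of invertible modules). (The
published statement is that a smooth del Pezzo surface of degree d embedded in projective d-space
has canonical module O_X(−1); its argument takes C a general hyperplane section and uses about the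
embedding only that C is a smooth curve of genus one and that H¹(X, O_X) vanishes, facts it draws
from results quoted without proof; those two properties are the hypotheses here.) -/
theorem result (k : Type u) [Field k] [IsAlgClosed k] (X : Scheme.{u})
    [X.Over (Spec (CommRingCat.of k))] [IsIntegral X] [IsProper (X ↘ (Spec (CommRingCat.of k)))] [Smooth (X ↘ (Spec (CommRingCat.of k)))]
    (hdim : topologicalKrullDim X = 2)
    (W : X.Modules) (hW : ExtPow.IsExtPow 2 (Omega.sheaf (X ↘ (Spec (CommRingCat.of k)))) W)
    (hq : Subsingleton (Coh.HH X (Coh.structureModule X) 1))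
    (C : X.IdealSheafData) (hC : IsIntegral C.subscheme) (hC1 : topologicalKrullDim (C.support : Set X) = 1)
    (hCs : Smooth (C.subschemeι ≫ (X ↘ (Spec (CommRingCat.of k)))))
    (hg : Curv2.euler k X (ClSub.quotMod C) = 0)
    (N : X.Modules) (hN : ClSub.IsInverseOf N (ClSub.idealMod C)) (hNample : CohB1.IsAmple N) :
    Nonempty (W ≅ ClSub.idealMod C) := by
  obtain ⟨hWi, hDD⟩ := Groth.SurfRR.dualDim_topForms' k hdim hW
  have hD2 := Groth.SurfRR.dualEuler_of_dualDim k hdim.le hDD
  have hreg := Groth.SurfRR.isRegularLocalRing_stalk k (X := X)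
  have hIc : Groth.SurfNum.IsCurve C := ⟨hC, hC1⟩
  have hI := hIc.isInvertible k hdim hreg
  have hN' := hNample.1
  have hadj := Groth.SurfRR.adjunction_quot k hdim hWi hD2 hI
  rw [hg, mul_zero] at hadj
  have hIN := Groth.PicAux.isInverseOf_symm hN
  have hWN := Groth.PicAux.isInvertible_tensorMod hWi hN'
  have h1 : 1 ≤ Module.finrank k (Coh.HH X (ClSub.quotMod C) 1) := by
    have h := Groth.SurfRR.euler_curve k hIc
    rw [hg] at h
    rw [Groth.SurfRR.finrank_quotMod k 1]
    omega
  have h2 := Groth.SurfRR.finrank_h1_quot_le k hI hq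
  rw [← hDD _ _ hI hIN 0 (by omega)] at h2
  haveI : Nontrivial (Coh.HH X (CohB1.tensorMod W N) 0) := by
    by_contra h'
    haveI := not_nontrivial_iff_subsingleton.1 h'
    rw [Module.finrank_zero_of_subsingleton (M := Coh.HH X (CohB1.tensorMod W N) 0)] at h2
    omega
  obtain ⟨e⟩ := Groth.SurfRR.iso_structure_of_pair_eq_zero k hdim hWN ‹_› hNample (by
    rw [Groth.Inter.pair_tensor k hdim.le hWi hN' hN', Groth.Inter.pair_inverse_inverse k hdim.le hI hIN hI hIN,
      Groth.Inter.pair_comm k W, Groth.Inter.pair_inverse k hdim.le hI hIN hWi]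
    omega)
  exact ⟨(Groth.Inter.tensor_one W).some.symm ≪≫ (Groth.Inter.tensor_comm _ _).some ≪≫
    (Groth.Inter.tensor_congr ⟨Iso.refl W⟩ ⟨hN.some.symm⟩).some ≪≫
    (Groth.Inter.tensor_assoc _ _ _).some.symm ≪≫
    (Groth.Inter.tensor_congr ⟨e⟩ ⟨Iso.refl _⟩).some ≪≫ (Groth.Inter.tensor_one _).some⟩

end Groth.Agent.S18440
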