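import Groth.Statements.S18442
import Groth.Agent.PnCI.Adjunction
import Groth.Agent.CohTwo.LocFreeExt

set_option autoImplicit false
universe u
open CategoryTheory CategoryTheory.Limits AlgebraicGeometry TopologicalSpace
open Surf

namespace Groth.Agent.S18442

/-- Let k be an algebraically closed field and X ⊆ P⁴_k a smooth surface which is the complete
intersection of two quadrics: X is an integral scheme, smooth over k of dimension 2, with a closed
immersion ι : X → P⁴_k over k whose kernel ideal sheaf is the ideal sheaf generated by two quadratic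
forms G_0, G_1. Then a canonical module W of X (a second exterior power of Ω_{X/k}) is isomorphic to
ι^*O(−1) (existence of an isomorphism), so its tensor inverse ι^*O(1) is ample and X is a del Pezzo
surface. -/
theorem result (k : Type u) [Field k] [IsAlgClosed k] (X : Scheme.{u})
    [X.Over (Spec (CommRingCat.of k))] [IsIntegral X] [Smooth (X ↘ (Spec (CommRingCat.of k)))] (hdim : topologicalKrullDim X = 2)
    (ι : X ⟶ CohB1.ProjSpace 4 k) [IsClosedImmersion ι] (hι : ι ≫ CohB1.ProjSpace.toSpec 4 k = X ↘ (Spec (CommRingCat.of k)))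
    (G : Fin 2 → LefPen.Form 4 k 2) (hker : ι.ker = LefPen.ciIdeal G)
    (W : X.Modules) (hW : ExtPow.IsExtPow 2 (Omega.sheaf (X ↘ (Spec (CommRingCat.of k)))) W) :
    Nonempty (W ≅ (Scheme.Modules.pullback ι).obj (Twist.twistProjSpace 4 k (-1))) := by
  haveI : (CohB1.ProjSpace 4 k).Over (Spec (CommRingCat.of k)) := ⟨CohB1.ProjSpace.toSpec 4 k⟩
  haveI := Groth.PnCoh.isLocallyNoetherian_projSpace 4 k
  haveI := Groth.Duality.Pn.smooth_toSpec 4 k
  haveI hr : SmoothOfRelativeDimension 2 (X ↘ Spec (CommRingCat.of k)) :=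
    Groth.PnCI.smoothOfRelativeDimension_of_irreducible (X ↘ Spec (CommRingCat.of k)) (d := 2)
      (by rw [hdim]; norm_num)
  haveI : IsSeparated (X ↘ Spec (CommRingCat.of k)) := by
    rw [← hι]
    haveI := Groth.Variety2.isProper_projSpace_toSpec 4 k
    infer_instance
  let J := LefPen.ciIdeal G
  let e : X ⟶ J.subscheme := IsClosedImmersion.lift J.subschemeι ι
    (by rw [Scheme.IdealSheafData.ker_subschemeι, hker])
  have he : e ≫ J.subschemeι = ι := IsClosedImmersion.lift_fac _ _ _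
  haveI : IsIso e := by
    let e' : J.subscheme ⟶ X := IsClosedImmersion.lift ι J.subschemeι
      (by rw [Scheme.IdealSheafData.ker_subschemeι, hker])
    have he' : e' ≫ ι = J.subschemeι := IsClosedImmersion.lift_fac _ _ _
    exact ⟨e', by rw [← cancel_mono ι, Category.assoc, he', he, Category.id_comp],
      by rw [← cancel_mono J.subschemeι, Category.assoc, he, he', Category.id_comp]⟩
  have hG : Groth.PnCI.Good G := Groth.PnCI.good_of_dim (by norm_num) (fun _ => two_pos) G (by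
    rw [← e.homeomorph.isHomeomorph.topologicalKrullDim_eq, hdim]
    norm_num)
  obtain ⟨c⟩ := Groth.PnCI.nonempty_conormal (fun _ => two_pos) G hG
  obtain ⟨c'⟩ := Groth.PnCI.nonempty_conormal_congr J.subschemeι ι e he
    (by rw [Scheme.IdealSheafData.ker_subschemeι, hker])
  haveI : PreservesColimitsOfSize.{0, 0} (Scheme.Modules.pullback e) :=
    (Scheme.Modules.pullbackPushforwardAdjunction e).leftAdjoint_preservesColimits
  let L : X.Modules := (Scheme.Modules.pullback ι).obj (Twist.twistProjSpace 4 k (-((2 : ℕ) : ℤ)))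
  have hL : FlatMod.IsFinLocFreeOfRank 1 L := Groth.LocFree.isInvertible_iff_ofRank_one.1
    (Groth.PicAux.isInvertible_pullback ι (Groth.PnCoh.isInvertible_twist 4 k _))
  obtain ⟨s2⟩ := Groth.PnCI.nonempty_sigma_fin_two (fun _ : Fin 2 => L)
  let C : Omega.conormal ι ≅ L ⊞ L := c'.symm ≪≫ (Scheme.Modules.pullback e).mapIso c ≪≫
    PreservesCoproduct.iso (Scheme.Modules.pullback e) _ ≪≫
    Sigma.mapIso (fun _ => (Scheme.Modules.pullbackComp e J.subschemeι).app _ ≪≫ eqToIso (by rw [he])) ≪≫ s2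
  obtain ⟨d⟩ := Groth.PnCI.nonempty_extPow_two_biprod hL hL
  let D : Groth.LocFree.extPow 2 (Omega.conormal ι) ≅ CohB1.tensorMod L L :=
    Groth.LocFree.extIso 2 C ≪≫ d
  have hDinv : PicF.IsInvertible (Groth.LocFree.extPow 2 (Omega.conormal ι)) :=
    Groth.LocFree.isInvertible_iff_ofRank_one.2 (Groth.LocFree.isFinLocFreeOfRank_of_iso D.symm
      (Groth.LocFree.isFinLocFreeOfRank_tensorMod hL hL))
  haveI hH : DCoh.HasSheafHom (Groth.LocFree.extPow 2 (Omega.conormal ι)) :=
    Groth.CohTwo.LocFreeExt.hasSheafHom _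
  have hg := Groth.PnEuler.isFinLocFreeOfRank_omega (n := 4) (R := k)
  have hf := Groth.OmegaSheaf.isFinLocFreeOfRank_sheaf (X ↘ Spec (CommRingCat.of k)) 2
  haveI : DCoh.HasSheafHom (Groth.LocFree.extPow (4 - 2) (Omega.conormal ι)) := hH
  obtain ⟨w⟩ := Groth.Duality.FundLocal.nonempty_hom_topForms_iso (CohB1.ProjSpace.toSpec 4 k)
    (X ↘ Spec (CommRingCat.of k)) ι 4 2 hg hf hι (Groth.Duality.Pn.omega k 4)
    Groth.Duality.SmoothDual.isExtPow_omega W hW
  let M : X.Modules := (Scheme.Modules.pullback ι).obj (Twist.twistProjSpace 4 k (-1))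
  obtain ⟨e3⟩ := Groth.Duality.FundLocal.nonempty_sheafHom_tensor_iso (M := M) hDinv
  obtain ⟨t1⟩ := Groth.Duality.Pn.nonempty_twist_tensor 4 k (-((2 : ℕ) : ℤ)) (-((2 : ℕ) : ℤ))
  obtain ⟨t2⟩ := Groth.Duality.Pn.nonempty_twist_tensor 4 k (-((2 : ℕ) : ℤ) + -((2 : ℕ) : ℤ)) (-1)
  obtain ⟨p1, -⟩ := Groth.PicAux.exists_pullback_tensorMod ι
    (Twist.twistProjSpace 4 k (-((2 : ℕ) : ℤ))) (Twist.twistProjSpace 4 k (-((2 : ℕ) : ℤ)))
  obtain ⟨p2, -⟩ := Groth.PicAux.exists_pullback_tensorMod ι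
    (Twist.twistProjSpace 4 k (-((2 : ℕ) : ℤ) + -((2 : ℕ) : ℤ))) (Twist.twistProjSpace 4 k (-1))
  let T : CohB1.tensorMod (Groth.LocFree.extPow 2 (Omega.conormal ι)) M ≅
      (Scheme.Modules.pullback ι).obj (Groth.Duality.Pn.omega k 4) :=
    PicGrp.tensorModIso (D ≪≫ p1.symm ≪≫ (Scheme.Modules.pullback ι).mapIso t1) (Iso.refl M) ≪≫
      p2.symm ≪≫ (Scheme.Modules.pullback ι).mapIso (t2 ≪≫ eqToIso (by norm_num [Groth.Duality.Pn.omega]))
  exact ⟨w.symm ≪≫ (DCoh.sheafHom _).mapIso T.symm ≪≫ e3⟩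

end Groth.Agent.S18442
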