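import Groth.Statements.S18450
import Groth.Agent.AffineDiv.NumConnected
import Groth.Agent.SurfNum.Regular

set_option autoImplicit false
universe u
open CategoryTheory CategoryTheory.Limits AlgebraicGeometry TopologicalSpace
open Surf

namespace Groth.Agent.S18450

/-- Let k be an algebraically closed field of characteristic zero and X a smooth projective surface over
k (integral, proper and smooth over k, of dimension 2). Let Z be a nonzero effective Cartier divisor
on X (ideal sheaf I_Z ≠ O_X) which is numerically connected: whenever I_Z = I_{Z₁} · I_{Z₂} with Z₁,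
Z₂ nonzero effective Cartier divisors, (Z₁·Z₂) = χ(O_X) − χ(I_{Z₁}) − χ(I_{Z₂}) + χ(I_{Z₁} ⊗ I_{Z₂})
> 0. Let L be an invertible O_X-module whose degree χ(O_C ⊗ L) − χ(O_C) is ≤ 0 on every integral
curve C contained in Z (integral closed one-dimensional C with I_Z ⊆ I_C). Then H⁰(Z, L|_Z) has
dimension at most 1 over k, and if the dimension is 1 then L|_Z ≅ O_Z (existence of an isomorphism);
here L|_Z = O_Z ⊗ L with O_Z the direct image on X of the structure sheaf of Z. The published
statement is over the complex numbers, for a connected cycle admitting a computation sequence, which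
numerical connectedness provides, and for any line bundle on Z; this row takes restrictions of
invertible O_X-modules. The converse, that the dimension is 1 when L|_Z is trivial, is not restated. -/
theorem result (k : Type u) [Field k] [IsAlgClosed k] [CharZero k]
    (X : Scheme.{u}) [X.Over (Spec (CommRingCat.of k))] [IsProper (X ↘ (Spec (CommRingCat.of k)))]
    [Smooth (X ↘ (Spec (CommRingCat.of k)))] [IsIntegral X] (hdim : topologicalKrullDim X = 2)
    (Z : X.IdealSheafData) (hZ : FGA.IsEffCartier Z) (hZ0 : Z ≠ ⊤)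
    (hnc : ∀ Z₁ Z₂ : X.IdealSheafData, FGA.IsEffCartier Z₁ → FGA.IsEffCartier Z₂ → Z₁ ≠ ⊤ → Z₂ ≠ ⊤ →
      Z = Z₁ * Z₂ → 0 < FGA.intNum k X 2 ![(ClSub.idealMod Z₁), (ClSub.idealMod Z₂)] (Coh.structureModule X))
    (L : X.Modules) (hL : PicF.IsInvertible L)
    (hdeg : ∀ C : X.IdealSheafData, IsIntegral C.subscheme → topologicalKrullDim (C.support : Set X) = 1 → Z ≤ C →
      Curv2.euler k X (CohB1.tensorMod (ClSub.quotMod C) L) - Curv2.euler k X (ClSub.quotMod C) ≤ 0) :
    Module.finrank k (Coh.HH X (CohB1.tensorMod (ClSub.quotMod Z) L) 0) ≤ 1 ∧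
      (Module.finrank k (Coh.HH X (CohB1.tensorMod (ClSub.quotMod Z) L) 0) = 1 →
        Nonempty (CohB1.tensorMod (ClSub.quotMod Z) L ≅ ClSub.quotMod Z)) := by
  classical
  haveI : IsNoetherian X := Groth.Inter.isNoetherian k
  have hreg := fun x : X => Groth.SurfNum.isRegularLocalRing_stalk k x
  have hD : BlowUp.IsEffCartierIdeal Z := fun x => hZ x
  have hfin := Groth.SurfNum.finite_dim_closure_eq (n := 1) Z.support.isClosed
    (Groth.SurfNum.dim_support_le_one k hdim hD)
  let ξ : Fin hfin.toFinset.card → X := fun i => (hfin.toFinset.equivFin.symm i).1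
  have hξ : ∀ i, ξ i ∈ Z.support ∧ topologicalKrullDim (closure ({ξ i} : Set X)) = ((1 : ℕ) : WithBot ℕ∞) :=
    fun i => hfin.mem_toFinset.1 (hfin.toFinset.equivFin.symm i).2
  let C : Fin hfin.toFinset.card → X.IdealSheafData := fun i => IntMult.ptIdeal (ξ i)
  have hc : ∀ i, Groth.SurfNum.IsCurve (C i) := fun i =>
    ⟨Groth.CohTwo.isIntegral_closure_subscheme rfl, by
      rw [Groth.SurfNum.support_ptIdeal]; exact (hξ i).2.trans (by simp)⟩
  have hCe : ∀ i, BlowUp.IsEffCartierIdeal (C i) := fun i => (hc i).isEffCartier k hdim hreg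
  have hsub : (Z.support : Set X) ⊆ ⋃ i, ((C i).support : Set X) := fun z hz => by
    obtain ⟨y, hy, hyz, hmax⟩ := Groth.DivisorLength.exists_maximal_generization Z.support.isClosed hz
    have hyd : topologicalKrullDim (closure ({y} : Set X)) = ((1 : ℕ) : WithBot ℕ∞) := by
      have h1 := Groth.Divisors.dim_stalk_eq_one_of_maximal_support hD hy hmax
      have h2 := Groth.Variety2.Dim.ringKrullDim_stalk_add_height (X ↘ Spec (CommRingCat.of k)) y
      rw [h1, hdim] at h2
      rw [Groth.Variety2.Dim.dim_closure_singleton]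
      exact congrArg WithBot.some (Groth.SurfNum.eq_one_of_add (a := 1) (WithBot.coe_inj.1 h2) rfl)
    refine Set.mem_iUnion.2 ⟨hfin.toFinset.equivFin ⟨y, hfin.mem_toFinset.2 ⟨hy, hyd⟩⟩, ?_⟩
    simp only [C, ξ, Equiv.symm_apply_apply, Groth.SurfNum.support_ptIdeal]
    exact hyz.mem_closure
  have hZC : ∀ i, Z ≤ C i := fun i => by
    haveI := (hc i).1
    exact Groth.RefRank.EffCartierLocal.le_of_isReduced_subscheme (D := Z) (E := C i) (by
      rw [Groth.SurfNum.support_ptIdeal]
      exact Z.support.isClosed.closure_subset_iff.2 (Set.singleton_subset_iff.2 (hξ i).1))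
  obtain ⟨a, hZa⟩ := Groth.RefRank.EffCartierLocal.exists_eq_prod Z hD C hCe (fun i => (hc i).1) hsub
  have ha : a ≠ 0 := fun e => hZ0 (by
    rw [hZa, e]
    simp only [Pi.zero_apply, pow_zero, Finset.prod_const_one]
    exact Scheme.IdealSheafData.one_eq_top)
  have hne : ∀ b : Fin hfin.toFinset.card → ℕ, b ≠ 0 → (∏ i, C i ^ b i) ≠ ⊤ := fun b hb e => by
    obtain ⟨i, hi⟩ := Function.ne_iff.1 hb
    rw [Groth.AffineDiv.prodPow_sub_mul C b (Nat.pos_of_ne_zero hi)] at e
    have hmem : ξ i ∈ ((∏ j, C j ^ (b - Pi.single i 1 : _ → ℕ) j) * C i).support := by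
      rw [Scheme.IdealSheafData.support_mul]
      refine Or.inr ?_
      change ξ i ∈ ((C i).support : Set X)
      rw [Groth.SurfNum.support_ptIdeal]; exact subset_closure rfl
    rw [e, Scheme.IdealSheafData.support_top] at hmem
    exact hmem
  rw [hZa]
  refine Groth.AffineDiv.finrank_h0_le_one_of_numConnected k hdim C hCe (fun i => (hc i).1) (fun i => (hc i).2.le)
    (a := a) (fun b c hb hc' hbc => ?_) hL (fun i _ => ?_) ha (fun i => (hc i).2)
  · have h := hnc _ _ (fun x => Groth.AffineDiv.isEffCartier_prodPow C hCe b x)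
      (fun x => Groth.AffineDiv.isEffCartier_prodPow C hCe c x) (hne b hb) (hne c hc')
      (hZa.trans (hbc ▸ Groth.AffineDiv.prodPow_add C b c))
    rwa [Groth.Inter.intNum_eq_pair k hdim.le] at h
  · have h := hdeg (C i) (hc i).1 (hc i).2 (hZC i)
    rw [Groth.SurfNum.deg_eq k (hCe i) hL] at h
    omega

end Groth.Agent.S18450
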