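import Groth.Statements.S18451
import Groth.Agent.SurfNum.Regular

set_option autoImplicit false
universe u
open CategoryTheory CategoryTheory.Limits AlgebraicGeometry TopologicalSpace
open Surf

namespace Groth.Agent.S18451

/-- Let k be an algebraically closed field of characteristic zero and X a smooth projective surface over
k (integral, proper and smooth over k, of dimension 2, carrying an ample invertible module). Let
C_1, …, C_r be pairwise distinct integral curves on X (integral closed one-dimensional subschemes
with ideal sheaves I_1, …, I_r) and write G_{ij} = (I_i·I_j) = χ(O_X) − χ(I_i) − χ(I_j) + χ(I_i ⊗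
I_j) for their intersection matrix. Suppose the classes of the C_i span a negative definite
sublattice modulo numerical equivalence: for every integer vector a such that Σ_i a_i [C_i] is
numerically nontrivial, meaning that Σ_i a_i (I_i·M) ≠ 0 for some invertible O_X-module M, one has
Σ_{i,j} a_i a_j G_{ij} < 0. Then the classes are linearly independent, i.e. G itself is negative
definite: Σ_{i,j} a_i a_j G_{ij} < 0 for every nonzero integer vector a. -/
theorem result (k : Type u) [Field k] [IsAlgClosed k] [CharZero k]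
    (X : Scheme.{u}) [X.Over (Spec (CommRingCat.of k))] [IsProper (X ↘ (Spec (CommRingCat.of k)))]
    [Smooth (X ↘ (Spec (CommRingCat.of k)))] [IsIntegral X] (hdim : topologicalKrullDim X = 2)
    (hproj : ∃ H : X.Modules, CohB1.IsAmple H)
    (r : ℕ) (C : Fin r → X.IdealSheafData) (hC : Function.Injective C)
    (hCi : ∀ i, IsIntegral (C i).subscheme) (hCd : ∀ i, topologicalKrullDim ((C i).support : Set X) = 1)
    (hneg : ∀ a : Fin r → ℤ,
      (∃ M : X.Modules, PicF.IsInvertible M ∧
        ∑ i, a i * FGA.intNum k X 2 ![(ClSub.idealMod (C i)), M] (Coh.structureModule X) ≠ 0) →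
      ∑ i, ∑ j, a i * a j * FGA.intNum k X 2 ![(ClSub.idealMod (C i)), (ClSub.idealMod (C j))] (Coh.structureModule X) < 0) :
    ∀ a : Fin r → ℤ, a ≠ 0 →
      ∑ i, ∑ j, a i * a j * FGA.intNum k X 2 ![(ClSub.idealMod (C i)), (ClSub.idealMod (C j))] (Coh.structureModule X) < 0 := by

  intro a ha
  have hreg := fun x : X => Groth.SurfNum.isRegularLocalRing_stalk k x
  have hc : ∀ i, Groth.SurfNum.IsCurve (C i) := fun i => ⟨hCi i, hCd i⟩
  have hinv : ∀ i, PicF.IsInvertible (ClSub.idealMod (C i)) := fun i => (hc i).isInvertible k hdim hreg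
  obtain ⟨A, hA⟩ := hproj
  simp only [Groth.Inter.intNum_eq_pair k hdim.le] at hneg ⊢
  let G : Fin r → Fin r → ℤ := fun i j => Groth.Inter.pair k (ClSub.idealMod (C i)) (ClSub.idealMod (C j))
  by_contra hcon
  -- then the class of `a` is numerically trivial
  have htriv : ∀ M : X.Modules, PicF.IsInvertible M →
      ∑ i, a i * Groth.Inter.pair k (ClSub.idealMod (C i)) M = 0 := fun M hM => by
    by_contra hne
    exact hcon (hneg a ⟨M, hM, hne⟩)
  have hGa : ∀ j, ∑ i, a i * G i j = 0 := fun j => htriv _ (hinv j)
  let p : Fin r → ℤ := fun i => max (a i) 0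
  let n : Fin r → ℤ := fun i => max (- a i) 0
  have hpn : ∀ i, p i - n i = a i := fun i => by
    rcases le_total 0 (a i) with h | h <;> simp [p, n, h]
  have hz : ∀ i, p i * n i = 0 := fun i => by
    rcases le_total 0 (a i) with h | h <;> simp [p, n, h]
  have h0 : 0 ≤ ∑ i, ∑ j, p i * n j * G i j := Finset.sum_nonneg fun i _ => Finset.sum_nonneg fun j _ => by
    rcases eq_or_ne i j with rfl | hne
    · simp [hz]
    · exact mul_nonneg (mul_nonneg (le_max_right _ _) (le_max_right _ _))
        (Groth.SurfNum.pair_nonneg_of_ne k hdim hreg (hc i) (hc j) fun h => hne (hC h))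
  have hp : ∑ i, ∑ j, p i * p j * G i j = ∑ i, ∑ j, p i * n j * G i j := by
    rw [← sub_eq_zero, ← Finset.sum_sub_distrib]
    refine Finset.sum_eq_zero fun i _ => ?_
    rw [← Finset.sum_sub_distrib]
    calc ∑ j, (p i * p j * G i j - p i * n j * G i j) = p i * ∑ j, a j * G j i := by
          rw [Finset.mul_sum]
          refine Finset.sum_congr rfl fun j _ => ?_
          rw [← hpn j, show G j i = G i j from Groth.Inter.pair_comm k _ _]
          ring
      _ = 0 := by rw [hGa i, mul_zero]
  have hn : ∑ i, ∑ j, n i * n j * G i j = ∑ i, ∑ j, p i * n j * G i j := by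
    rw [eq_comm, ← sub_eq_zero, ← Finset.sum_sub_distrib]
    rw [Finset.sum_congr rfl fun i _ => (Finset.sum_sub_distrib _ _).symm, Finset.sum_comm]
    refine Finset.sum_eq_zero fun j _ => ?_
    calc ∑ i, (p i * n j * G i j - n i * n j * G i j) = n j * ∑ i, a i * G i j := by
          rw [Finset.mul_sum]
          refine Finset.sum_congr rfl fun i _ => ?_
          rw [← hpn i]
          ring
      _ = 0 := by rw [hGa j, mul_zero]
  -- nonzero nonnegative combinations of curves are numerically nontrivial
  have key : ∀ b : Fin r → ℤ, (∀ i, 0 ≤ b i) → 0 ≤ ∑ i, ∑ j, b i * b j * G i j → b = 0 := by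
    intro b hb hbb
    by_contra hne
    obtain ⟨i₀, hi₀⟩ := Function.ne_iff.1 hne
    refine absurd hbb (not_le.2 (hneg b ⟨A, hA.1, ne_of_lt ?_⟩))
    refine Finset.sum_neg' (fun i _ => mul_nonpos_of_nonneg_of_nonpos (hb i) ((hc i).pair_neg k hdim hreg hA).le)
      ⟨i₀, Finset.mem_univ _, mul_neg_of_pos_of_neg (lt_of_le_of_ne (hb i₀) (Ne.symm hi₀))
        ((hc i₀).pair_neg k hdim hreg hA)⟩
  refine ha (funext fun i => ?_)
  have h1 := key p (fun i => le_max_right _ _) (by rw [hp]; exact h0)
  have h2 := key n (fun i => le_max_right _ _) (by rw [hn]; exact h0)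
  rw [← hpn i, congrFun h1 i, congrFun h2 i]
  simp

end Groth.Agent.S18451
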