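import Groth.Statements.S18454
import Groth.Agent.AffineDiv.FundCycle
import Groth.Agent.SurfNum.Regular

set_option autoImplicit false
universe u
open CategoryTheory CategoryTheory.Limits AlgebraicGeometry TopologicalSpace
open Surf

namespace Groth.Agent.S18454

/-- Let k be an algebraically closed field of characteristic zero and X a smooth projective surface over
k (integral, proper and smooth over k, of dimension 2). Let C_1, …, C_r (r ≥ 1) be pairwise distinct
integral curves on X, with ideal sheaves I_i, forming a connected configuration whose intersection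
matrix is negative definite: writing (A·B) = χ(O_X) − χ(A) − χ(B) + χ(A ⊗ B), there is no partition
of the indices into two nonempty sets with (I_i·I_j) = 0 for all i, j on opposite sides, and Σ_{i,j}
a_i a_j (I_i·I_j) < 0 for every nonzero integer vector a. Let Z₀ be a fundamental cycle of the
configuration: a nonzero effective Cartier divisor supported on ⋃ C_i such that Z₀·C_i ≤ 0 for every
i, stated as deg(I_{Z₀}|_{C_i}) = χ(O_{C_i} ⊗ I_{Z₀}) − χ(O_{C_i}) ≥ 0, and such that every nonzero
effective Cartier divisor Z supported on ⋃ C_i with the same property satisfies Z ≥ Z₀ (I_Z ⊆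
I_{Z₀}). Then H¹(Z, O_Z) = 0 for every nonzero effective Cartier divisor Z supported on ⋃ C_i if and
only if χ(O_{Z₀}) = 1, i.e. the arithmetic genus of Z₀ is 0; cohomology and Euler characteristics
are computed on X through direct images. The published statement characterises rationality of the
normal surface singularity obtained by contracting the configuration over the complex numbers; this
row uses the equivalent condition that H¹(O_Z) = 0 for every nonzero effective divisor Z supported
on the configuration, which is what the printed algebraic argument establishes. -/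
theorem result (k : Type u) [Field k] [IsAlgClosed k] [CharZero k]
    (X : Scheme.{u}) [X.Over (Spec (CommRingCat.of k))] [IsProper (X ↘ (Spec (CommRingCat.of k)))]
    [Smooth (X ↘ (Spec (CommRingCat.of k)))] [IsIntegral X] (hdim : topologicalKrullDim X = 2)
    (r : ℕ) (hr : 0 < r) (C : Fin r → X.IdealSheafData) (hC : Function.Injective C)
    (hCi : ∀ i, IsIntegral (C i).subscheme) (hCd : ∀ i, topologicalKrullDim ((C i).support : Set X) = 1)
    (hconn : ∀ S : Finset (Fin r), S.Nonempty → Sᶜ.Nonempty →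
      ∃ i ∈ S, ∃ j ∈ Sᶜ, FGA.intNum k X 2 ![(ClSub.idealMod (C i)), (ClSub.idealMod (C j))] (Coh.structureModule X) ≠ 0)
    (hneg : ∀ a : Fin r → ℤ, a ≠ 0 →
      ∑ i, ∑ j, a i * a j * FGA.intNum k X 2 ![(ClSub.idealMod (C i)), (ClSub.idealMod (C j))] (Coh.structureModule X) < 0)
    (Z₀ : X.IdealSheafData) (hZ₀ : FGA.IsEffCartier Z₀) (hZ₀0 : Z₀ ≠ ⊤)
    (hZ₀s : (Z₀.support : Set X) ⊆ ⋃ i, ((C i).support : Set X))
    (hZ₀C : ∀ i, 0 ≤ Curv2.euler k X (CohB1.tensorMod (ClSub.quotMod (C i)) (ClSub.idealMod Z₀)) -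
      Curv2.euler k X (ClSub.quotMod (C i)))
    (hZ₀min : ∀ Z : X.IdealSheafData, FGA.IsEffCartier Z → Z ≠ ⊤ → (Z.support : Set X) ⊆ ⋃ i, ((C i).support : Set X) →
      (∀ i, 0 ≤ Curv2.euler k X (CohB1.tensorMod (ClSub.quotMod (C i)) (ClSub.idealMod Z)) -
        Curv2.euler k X (ClSub.quotMod (C i))) → Z ≤ Z₀) :
    (∀ Z : X.IdealSheafData, FGA.IsEffCartier Z → Z ≠ ⊤ → (Z.support : Set X) ⊆ ⋃ i, ((C i).support : Set X) →
        Subsingleton (Coh.HH X (ClSub.quotMod Z) 1)) ↔
      Curv2.euler k X (ClSub.quotMod Z₀) = 1 := by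
  classical
  open Groth.Inter Groth.AffineDiv in
  haveI : IsNoetherian X := Groth.Inter.isNoetherian k
  have hreg := fun x : X => Groth.SurfNum.isRegularLocalRing_stalk k x
  have hc : ∀ i, Groth.SurfNum.IsCurve (C i) := fun i => ⟨hCi i, hCd i⟩
  have hCe : ∀ i, BlowUp.IsEffCartierIdeal (C i) := fun i => (hc i).isEffCartier k hdim hreg
  simp only [Groth.Inter.intNum_eq_pair k hdim.le] at hconn hneg
  obtain ⟨a, rfl, hfull, hoff, haC, h0, hbs⟩ := Groth.AffineDiv.exists_fundamental_data k hdim hreg C hC hc hconn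
    Z₀ (fun x => hZ₀ x) hZ₀0 hZ₀s hZ₀C hZ₀min
  have hZe := Groth.AffineDiv.isEffCartier_prodPow C hCe a
  have hχ0 := Groth.AffineDiv.euler_quot_eq k hdim hZe
  constructor
  · intro hrat
    haveI := hrat _ hZ₀ hZ₀0 hZ₀s
    rw [hχ0, h0, Module.finrank_zero_of_subsingleton (R := k)]
    rfl
  intro hχ Z hZ hZ0 hZs
  haveI : Module.Finite k (Coh.HH X (ClSub.quotMod (∏ i, C i ^ a i)) 1) :=
    (Groth.Inter.finCoh k (Groth.Inter.support_quotMod k _).1).finite 1
  have h1Z : Subsingleton (Coh.HH X (ClSub.quotMod (∏ i, C i ^ a i)) 1) :=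
    (Module.finrank_zero_iff (R := k)).1 (by rw [hχ, h0] at hχ0; omega)
  have hsub : ∀ c : Fin r → ℕ, c ≤ a → c ≠ 0 →
      Subsingleton (Coh.HH X (ClSub.quotMod (∏ i, C i ^ c i)) 1) := fun c hca hc0 => by
    refine Groth.AffineDiv.subsingleton_h1_left k hdim (Groth.AffineDiv.isEffCartier_prodPow C hCe c)
      (Groth.AffineDiv.isEffCartier_prodPow C hCe (a - c)) ?_
    rw [← Groth.AffineDiv.prodPow_add C c (a - c),
      show c + (a - c) = a from funext fun i => Nat.add_sub_cancel' (hca i)]
    exact h1Z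
  have hsubχ : ∀ c : Fin r → ℕ, c ≤ a → c ≠ 0 → 1 ≤ Curv2.euler k X (ClSub.quotMod (∏ i, C i ^ c i)) :=
    fun c hca hc0 => Groth.AffineDiv.one_le_euler_quot k hdim (Groth.AffineDiv.isEffCartier_prodPow C hCe c)
      (hbs c hc0).1 (hsub c hca hc0)
  have hsingle : ∀ i, (∏ j, C j ^ (Pi.single i 1 : Fin r → ℕ) j) = C i := fun i => by
    rw [Finset.prod_eq_single i (fun j _ hj => by simp [hj]) (fun h => absurd (Finset.mem_univ _) h),
      Pi.single_eq_same, pow_one]
  have hsle : ∀ i, (Pi.single i 1 : Fin r → ℕ) ≤ a := fun i j => by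
    rcases eq_or_ne j i with rfl | h
    · simpa [Nat.one_le_iff_ne_zero] using (hfull j).ne'
    · simp [h]
  have hC1 : ∀ i, Subsingleton (Coh.HH X (ClSub.quotMod (C i)) 1) := fun i =>
    hsingle i ▸ hsub _ (hsle i) (by simp)
  have hCχ : ∀ i, Curv2.euler k X (ClSub.quotMod (C i)) = 1 := fun i => by
    refine le_antisymm ?_ (hsingle i ▸ hsubχ _ (hsle i) (by simp))
    haveI := hCi i
    letI : (C i).subscheme.Over (Spec (CommRingCat.of k)) := ⟨(C i).subschemeι ≫ (X ↘ Spec (CommRingCat.of k))⟩
    haveI : IsProper ((C i).subscheme ↘ Spec (CommRingCat.of k)) :=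
      inferInstanceAs (IsProper ((C i).subschemeι ≫ (X ↘ Spec (CommRingCat.of k))))
    obtain ⟨f⟩ := Groth.CohC3.nonempty_linearEquiv_push_closed (C i).subschemeι (X ↘ Spec (CommRingCat.of k)) 0
      (Coh.structureModule (C i).subscheme)
    have := (le_of_eq f.finrank_eq).trans (Groth.Inter.finrank_h0_structure_le k)
    have h' : Module.finrank k (Coh.HH X (ClSub.quotMod (C i)) 0) ≤ 1 := this
    rw [Groth.AffineDiv.euler_quot_eq k hdim (hCe i)]
    omega
  obtain ⟨z, rfl⟩ := Groth.RefRank.EffCartierLocal.exists_eq_prod Z (fun x => hZ x) C hCe hCi hZs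
  refine Groth.AffineDiv.subsingleton_h1_prodPow k hdim C hCe hCi (fun i => (hCd i).le) hC1 z fun b _ hb0 => ?_
  exact Groth.AffineDiv.exists_small_of_euler k hdim C hCe hCχ
    (Groth.AffineDiv.one_le_euler_of_fundamental k hdim C hCe hoff haC hfull hχ hsubχ b hb0)

end Groth.Agent.S18454
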