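import Groth.Statements.S18455
import Groth.Agent.PointBlowUp.Canonical
import Groth.Agent.PointBlowUp.StrictTransform
import Groth.Agent.SurfNum.Regular
import Groth.Agent.Curves1.RR.PointMod

set_option autoImplicit false
universe u
open CategoryTheory CategoryTheory.Limits AlgebraicGeometry TopologicalSpace
open Surf

namespace Groth.Agent.S18455

/-- Let k be an algebraically closed field of characteristic zero and X a smooth projective surface over
k (integral, proper and smooth over k, of dimension 2) with canonical module W, a second exterior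
power of Ω_{X/k}. Let x be a closed point of X and π : X' → X a blowing up of X in the ideal of x
(characterised by its universal property), with X' again an integral scheme of dimension 2, proper
and smooth over k through π, W' a canonical module of X' and I_E the exceptional ideal (the inverse
image of the ideal of x). Let C be an integral curve on X with ideal I_C and C' an integral curve on
X' with ideal I_{C'}, such that the inverse image ideal of C on X' equals I_{C'} · I_E^m for some
natural number m; thus C' is the proper transform of C and m the multiplicity of C at x. Writing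
(A·B) = χ(O) − χ(A) − χ(B) + χ(A ⊗ B) for intersection numbers on X and on X', one has
(I_{C'}·I_{C'}) − (I_{C'}·W') = (I_C·I_C) − (I_C·W) − m(m − 1); in terms of arithmetic genera
2p_a(C') − 2 = K'·C' + C'² = K·C + C² − m(m−1) = 2p_a(C) − 2 − m(m−1), so p_a drops by m(m−1)/2. -/
theorem result (k : Type u) [Field k] [IsAlgClosed k] [CharZero k]
    (X : Scheme.{u}) [X.Over (Spec (CommRingCat.of k))] [IsProper (X ↘ (Spec (CommRingCat.of k)))]
    [Smooth (X ↘ (Spec (CommRingCat.of k)))] [IsIntegral X] (hdim : topologicalKrullDim X = 2)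
    (W : X.Modules) (hW : ExtPow.IsExtPow 2 (Omega.sheaf (X ↘ (Spec (CommRingCat.of k)))) W)
    (x : X) (hx : IsClosed ({x} : Set X))
    (X' : Scheme.{u}) (π : X' ⟶ X) (hπ : BlowUp.IsBlowUp π (Scheme.IdealSheafData.vanishingIdeal ⟨{x}, hx⟩))
    [IsIntegral X'] (hdim' : topologicalKrullDim X' = 2)
    [IsProper (π ≫ (X ↘ (Spec (CommRingCat.of k))))] [Smooth (π ≫ (X ↘ (Spec (CommRingCat.of k))))]
    (W' : X'.Modules) (hW' : ExtPow.IsExtPow 2 (Omega.sheaf (π ≫ (X ↘ (Spec (CommRingCat.of k))))) W')
    (C : X.IdealSheafData) (hCi : IsIntegral C.subscheme) (hCd : topologicalKrullDim (C.support : Set X) = 1)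
    (C' : X'.IdealSheafData) (hC'i : IsIntegral C'.subscheme) (hC'd : topologicalKrullDim (C'.support : Set X') = 1)
    (m : ℕ) (hm : C.comap π = C' * (BlowUp.exceptional π (Scheme.IdealSheafData.vanishingIdeal ⟨{x}, hx⟩)) ^ m) :
    letI : X'.Over (Spec (CommRingCat.of k)) := ⟨π ≫ (X ↘ (Spec (CommRingCat.of k)))⟩
    FGA.intNum k X' 2 ![(ClSub.idealMod C'), (ClSub.idealMod C')] (Coh.structureModule X') -
        FGA.intNum k X' 2 ![(ClSub.idealMod C'), W'] (Coh.structureModule X') =
      FGA.intNum k X 2 ![(ClSub.idealMod C), (ClSub.idealMod C)] (Coh.structureModule X) -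
        FGA.intNum k X 2 ![(ClSub.idealMod C), W] (Coh.structureModule X) - (m : ℤ) * ((m : ℤ) - 1) := by
  letI : X'.Over (Spec (CommRingCat.of k)) := ⟨π ≫ (X ↘ (Spec (CommRingCat.of k)))⟩
  haveI : IsProper (X' ↘ Spec (CommRingCat.of k)) := ‹IsProper (π ≫ (X ↘ (Spec (CommRingCat.of k))))›
  haveI : Smooth (X' ↘ Spec (CommRingCat.of k)) := ‹Smooth (π ≫ (X ↘ (Spec (CommRingCat.of k))))›
  have hreg : ∀ y : X, IsRegularLocalRing (X.presheaf.stalk y) := fun y =>
    Groth.SurfNum.isRegularLocalRing_stalk k y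
  have hreg' : ∀ y : X', IsRegularLocalRing (X'.presheaf.stalk y) := fun y =>
    Groth.SurfNum.isRegularLocalRing_stalk k y
  have hc : ∀ Z ∈ irreducibleComponents (X : Type u), topologicalKrullDim Z = 2 := fun Z hZ => by
    have h1 : Z = Set.univ := by
      rw [irreducibleComponents_eq_singleton] at hZ
      exact hZ
    rw [h1]
    exact (IsHomeomorph.topologicalKrullDim_eq _ (Homeomorph.Set.univ X).isHomeomorph).trans hdim
  have hc' := Groth.PointBlowUp.dim_component k hc hx hπ rfl
  obtain ⟨φ⟩ := Groth.PointBlowUp.nonempty_canonical (k := k) hc hreg hx hπ rfl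
  obtain ⟨ε⟩ := Groth.LocFree.nonempty_iso_extPow hW
  obtain ⟨ε'⟩ := Groth.LocFree.nonempty_iso_extPow (X := X') hW'
  let e : CohB1.tensorMod W' (ClSub.idealMod (BlowUp.exceptional π
      (Scheme.IdealSheafData.vanishingIdeal ⟨{x}, hx⟩))) ≅ (Scheme.Modules.pullback π).obj W :=
    PicGrp.tensorModIso ε'.symm (Iso.refl _) ≪≫ φ.symm ≪≫ (Scheme.Modules.pullback π).mapIso ε
  have hWi : PicF.IsInvertible W := Groth.LocFree.isInvertible_det (Groth.PointBlowUp.rank_omega hc) hW
  have hW'i : PicF.IsInvertible W' := Groth.LocFree.isInvertible_det (Groth.PointBlowUp.rank_omega hc') hW'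
  have hEi := Groth.PicAux.isInvertible_idealMod hπ.1
  have hCe : BlowUp.IsEffCartierIdeal C := Groth.PointBlowUp.isEffCartierIdeal_curve k hdim hreg C hCd
  have hCci := Groth.Divisors.isEffCartierIdeal_comap_blowUp hπ hCe
  have hC'e : BlowUp.IsEffCartierIdeal C' := Groth.Divisors.isEffCartierIdeal_left_of_mul (hm ▸ hCci)
  have hCi' := Groth.PicAux.isInvertible_idealMod hCe
  have hC'i' := Groth.PicAux.isInvertible_idealMod hC'e
  obtain ⟨η⟩ := Groth.PicAux.pullback_idealMod π hCe hCci
  rw [hm] at η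
  have h1 := Groth.PointBlowUp.pair_pullback k hc hx hπ rfl hCi' hCi'
  have h2 := Groth.PointBlowUp.pair_pullback k hc hx hπ rfl hCi' hWi
  have h3 := Groth.PointBlowUp.pair_pullback_exceptional k hc hx hπ rfl hCi'
  have h4 := Groth.PointBlowUp.pair_exceptional k hc hreg hx hπ rfl
  have h5 := Groth.PointBlowUp.pair_pullback_exceptional k hc hx hπ rfl hWi
  letI : Algebra k (X.residueField x) := Curv2.resAlgebra k X x
  rw [Groth.Curves1.RR.finrank_residueField_eq_one k x hx] at h4
  have hd' : topologicalKrullDim X' ≤ (2 : ℕ) := hdim'.le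
  have hpC := Groth.PicAux.isInvertible_pullback π hCi'
  have hmp := fun (B : X'.Modules) (hB : PicF.IsInvertible B) =>
    (Groth.Inter.pair_congr k ⟨η⟩ B).trans (Groth.PointBlowUp.pair_mul_pow k hd' hC'e hπ.1 hB m)
  rw [hmp _ hEi] at h3
  rw [hmp _ hpC, Groth.Inter.pair_comm k (ClSub.idealMod C'), hmp _ hC'i',
    Groth.Inter.pair_comm k (ClSub.idealMod ((Scheme.IdealSheafData.vanishingIdeal ⟨{x}, hx⟩).comap π))
      ((Scheme.Modules.pullback π).obj (ClSub.idealMod C)), hmp _ hEi] at h1
  rw [hmp _ (Groth.PicAux.isInvertible_pullback π hWi), Groth.Inter.pair_comm k (ClSub.idealMod C'),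
    Groth.Inter.pair_congr k ⟨e.symm⟩, Groth.Inter.pair_tensor k hd' hW'i hEi hC'i',
    Groth.Inter.pair_comm k (ClSub.idealMod ((Scheme.IdealSheafData.vanishingIdeal ⟨{x}, hx⟩).comap π))
      ((Scheme.Modules.pullback π).obj W), h5] at h2
  rw [Groth.Inter.intNum_eq_pair k (X := X') hd', Groth.Inter.intNum_eq_pair k (X := X') hd',
    Groth.Inter.intNum_eq_pair k (X := X) hdim.le, Groth.Inter.intNum_eq_pair k (X := X) hdim.le]
  simp only [BlowUp.exceptional] at h1 h2 h3 h4 ⊢
  rw [Groth.Inter.pair_comm k (ClSub.idealMod ((Scheme.IdealSheafData.vanishingIdeal ⟨{x}, hx⟩).comap π))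
    (ClSub.idealMod C')] at h1 h2
  rw [Groth.Inter.pair_comm k W' (ClSub.idealMod C')] at h2
  push_cast at h4
  rw [h4] at h1 h3
  have hm' : Groth.Inter.pair k (ClSub.idealMod C')
      (ClSub.idealMod ((Scheme.IdealSheafData.vanishingIdeal ⟨{x}, hx⟩).comap π)) = (m : ℤ) := by linarith
  rw [hm'] at h1 h2
  linear_combination h1 - h2

end Groth.Agent.S18455
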