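import Groth.Statements.S18456
import Groth.Agent.AffineDiv.RationalCrit
import Groth.Agent.SurfNum.Regular

set_option autoImplicit false
universe u
open CategoryTheory CategoryTheory.Limits AlgebraicGeometry TopologicalSpace
open Surf

namespace Groth.Agent.S18456

/-- Let k be an algebraically closed field of characteristic zero and X a smooth projective surface over
k (integral, proper and smooth over k, of dimension 2). Let C_1, …, C_r be pairwise distinct
integral curves on X with ideal sheaves I_i, each with H¹(C_i, O_{C_i}) = 0 (so C_i ≅ P¹) and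
self-intersection (I_i·I_i) = −2, and with negative definite intersection matrix: Σ_{i,j} a_i a_j
(I_i·I_j) < 0 for every nonzero integer vector a, where (A·B) = χ(O_X) − χ(A) − χ(B) + χ(A ⊗ B).
Then H¹(Z, O_Z) = 0 for every nonzero effective Cartier divisor Z on X supported on ⋃ C_i,
cohomology computed on X through the direct image of O_Z. The published statement concludes that the
singularity obtained by contracting the configuration over the complex numbers is rational; the
vanishing for all supported nonzero effective divisors is the form of rationality the printed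
argument establishes, and this row states that form. -/
theorem result (k : Type u) [Field k] [IsAlgClosed k] [CharZero k]
    (X : Scheme.{u}) [X.Over (Spec (CommRingCat.of k))] [IsProper (X ↘ (Spec (CommRingCat.of k)))]
    [Smooth (X ↘ (Spec (CommRingCat.of k)))] [IsIntegral X] (hdim : topologicalKrullDim X = 2)
    (r : ℕ) (C : Fin r → X.IdealSheafData) (hC : Function.Injective C)
    (hCi : ∀ i, IsIntegral (C i).subscheme) (hCd : ∀ i, topologicalKrullDim ((C i).support : Set X) = 1)
    (hCrat : ∀ i, Subsingleton (Coh.HH X (ClSub.quotMod (C i)) 1))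
    (hC2 : ∀ i, FGA.intNum k X 2 ![(ClSub.idealMod (C i)), (ClSub.idealMod (C i))] (Coh.structureModule X) = -2)
    (hneg : ∀ a : Fin r → ℤ, a ≠ 0 →
      ∑ i, ∑ j, a i * a j * FGA.intNum k X 2 ![(ClSub.idealMod (C i)), (ClSub.idealMod (C j))] (Coh.structureModule X) < 0)
    (Z : X.IdealSheafData) (hZ : FGA.IsEffCartier Z) (hZ0 : Z ≠ ⊤)
    (hZs : (Z.support : Set X) ⊆ ⋃ i, ((C i).support : Set X)) :
    Subsingleton (Coh.HH X (ClSub.quotMod Z) 1) := by
  classical
  haveI : IsNoetherian X := Groth.Inter.isNoetherian k
  have hreg := fun x : X => Groth.SurfNum.isRegularLocalRing_stalk k x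
  have hc : ∀ i, Groth.SurfNum.IsCurve (C i) := fun i => ⟨hCi i, hCd i⟩
  have hCe : ∀ i, BlowUp.IsEffCartierIdeal (C i) := fun i => (hc i).isEffCartier k hdim hreg
  simp only [Groth.Inter.intNum_eq_pair k hdim.le] at hC2 hneg
  obtain ⟨a, rfl⟩ := Groth.RefRank.EffCartierLocal.exists_eq_prod Z (fun x => hZ x) C hCe hCi hZs
  refine Groth.AffineDiv.subsingleton_h1_prodPow k hdim C hCe hCi (fun i => (hCd i).le) hCrat a fun b _ hb0 => ?_
  have h := hneg (fun i => (b i : ℤ)) fun e => hb0 (funext fun i => by simpa using congrFun e i)
  by_contra hcon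
  push Not at hcon
  refine absurd h (not_lt.2 ?_)
  rw [Finset.sum_comm]
  refine Finset.sum_nonneg fun i _ => ?_
  rcases Nat.eq_zero_or_pos (b i) with h0 | h0
  · simp [h0]
  · have h2 := hcon i h0
    rw [hC2 i] at h2
    rw [Finset.sum_congr rfl fun j _ => (by ring : (b j : ℤ) * (b i : ℤ) *
      Groth.Inter.pair k (ClSub.idealMod (C j)) (ClSub.idealMod (C i)) =
      (b i : ℤ) * ((b j : ℤ) * Groth.Inter.pair k (ClSub.idealMod (C j)) (ClSub.idealMod (C i)))), ← Finset.mul_sum]
    exact mul_nonneg (Int.natCast_nonneg _) (by omega)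

end Groth.Agent.S18456
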