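import Groth.Statements.S18457
import Mathlib.Tactic
import Mathlib.Algebra.Order.Chebyshev

set_option autoImplicit false
open Finset
open Surf

namespace Groth.Agent.S18457

/-- In the Picard lattice of the plane blown up at n ≤ 8 points, with basis h, e_1, …, e_n, form h² = 1,
e_i² = −1, all other products 0, and anticanonical class D = 3h − Σ e_i, let d·h − Σ a_i e_i be a
class with all a_i ≥ 0 (the class of the strict transform of a degree-d plane curve having
multiplicity a_i at the i-th point) which is a (−2)-class orthogonal to D, that is d² − Σ a_i² = −2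
and 3d = Σ a_i. Then one of the following holds: d = 1 and every a_i is 0 or 1 with exactly three
equal to 1; d = 2 and every a_i is 0 or 1 with exactly six equal to 1; d = 3, n = 8, and one a_i
equals 2 while the remaining seven equal 1. The published statement is geometric: under the
general-position hypotheses on the points, no smooth rational curve on the blown-up plane is
orthogonal to D; this row is the lattice enumeration its proof carries out (a line through three of
the points, a conic through six, a cubic through all eight and singular at one). -/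
theorem result (n : ℕ) (hn : n ≤ 8)
    (d : ℤ) (a : Fin n → ℤ) (ha : ∀ i, 0 ≤ a i)
    (hsq : d ^ 2 - ∑ i, (a i) ^ 2 = -2) (hK : 3 * d = ∑ i, a i) :
    (d = 1 ∧ (∀ i, a i = 0 ∨ a i = 1) ∧ (Finset.univ.filter (fun i => a i = 1)).card = 3) ∨
      (d = 2 ∧ (∀ i, a i = 0 ∨ a i = 1) ∧ (Finset.univ.filter (fun i => a i = 1)).card = 6) ∨
      (d = 3 ∧ n = 8 ∧ ∃ j, a j = 2 ∧ ∀ i, i ≠ j → a i = 1) := by
  have hcs : (∑ i, a i) ^ 2 ≤ (n : ℤ) * ∑ i, a i ^ 2 := by
    have := sq_sum_le_card_mul_sum_sq (s := Finset.univ) (f := a)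
    simpa using this
  have hn' : (n : ℤ) ≤ 8 := by exact_mod_cast hn
  have hS : ∑ i, a i ^ 2 = d ^ 2 + 2 := by linarith
  have hd0 : 0 ≤ d := by
    have : 0 ≤ ∑ i, a i := Finset.sum_nonneg (fun i _ => ha i)
    omega
  have hd4 : d ≤ 4 := by
    rw [← hK, hS] at hcs
    nlinarith [mul_le_mul_of_nonneg_right hn' (by positivity : (0:ℤ) ≤ d ^ 2 + 2)]
  have nn : ∀ i ∈ Finset.univ, 0 ≤ a i * (a i - 1) := by
    intro i _
    rcases le_or_gt 1 (a i) with h | h
    · exact mul_nonneg (ha i) (by omega)
    · have : a i = 0 := by have := ha i; omega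
      simp [this]
  have key : ∑ i, a i * (a i - 1) = (d - 1) * (d - 2) := by
    have : ∑ i, a i * (a i - 1) = ∑ i, a i ^ 2 - ∑ i, a i := by
      rw [← Finset.sum_sub_distrib]
      exact Finset.sum_congr rfl (fun i _ => by ring)
    rw [this, hS, ← hK]
    ring
  have h01 : (d - 1) * (d - 2) = 0 → (∀ i, a i = 0 ∨ a i = 1) ∧
      ((Finset.univ.filter (fun i => a i = 1)).card : ℤ) = 3 * d := by
    intro h
    have hall := (Finset.sum_eq_zero_iff_of_nonneg nn).mp (key.trans h)
    have h0 : ∀ i, a i = 0 ∨ a i = 1 := by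
      intro i
      rcases mul_eq_zero.mp (hall i (Finset.mem_univ i)) with h | h
      · exact Or.inl h
      · exact Or.inr (by omega)
    refine ⟨h0, ?_⟩
    rw [hK, Finset.natCast_card_filter]
    exact Finset.sum_congr rfl (fun i _ => by rcases h0 i with h | h <;> simp [h])
  interval_cases d
  · have h1 : ∀ i ∈ (Finset.univ : Finset (Fin n)), a i = 0 :=
      (Finset.sum_eq_zero_iff_of_nonneg (fun i _ => ha i)).mp (by linarith)
    rw [Finset.sum_eq_zero (fun i hi => by rw [h1 i hi]; rfl)] at hS
    norm_num at hS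
  · obtain ⟨h0, hc⟩ := h01 (by norm_num)
    exact Or.inl ⟨rfl, h0, by omega⟩
  · obtain ⟨h0, hc⟩ := h01 (by norm_num)
    exact Or.inr (Or.inl ⟨rfl, h0, by omega⟩)
  · refine Or.inr (Or.inr ⟨rfl, ?_⟩)
    obtain ⟨j, hj⟩ : ∃ j, 2 ≤ a j := by
      by_contra h
      push Not at h
      have : ∑ i, a i * (a i - 1) = 0 := Finset.sum_eq_zero (fun i _ => by
        have h1 := h i
        have h2 := ha i
        rcases (show a i = 0 ∨ a i = 1 by omega) with h3 | h3 <;> simp [h3])
      rw [key] at this
      norm_num at this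
    have hsplit := Finset.add_sum_erase Finset.univ (fun i => a i * (a i - 1)) (Finset.mem_univ j)
    have hrest : 0 ≤ ∑ i ∈ Finset.univ.erase j, a i * (a i - 1) :=
      Finset.sum_nonneg (fun i _ => nn i (Finset.mem_univ i))
    have hj2 : a j = 2 := by
      rw [key] at hsplit
      nlinarith
    have hrest0 : ∑ i ∈ Finset.univ.erase j, a i * (a i - 1) = 0 := by
      rw [key] at hsplit
      simp only [hj2] at hsplit
      linarith
    have hle : ∀ i ∈ Finset.univ.erase j, a i ≤ 1 := by
      intro i hi
      have := (Finset.sum_eq_zero_iff_of_nonneg (fun i _ => nn i (Finset.mem_univ i))).mp hrest0 i hi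
      rcases mul_eq_zero.mp this with h | h <;> omega
    have hs1 := Finset.add_sum_erase Finset.univ a (Finset.mem_univ j)
    have hcard : ((Finset.univ.erase j).card : ℤ) = (n : ℤ) - 1 := by
      rw [Finset.card_erase_of_mem (Finset.mem_univ j), Finset.card_univ, Fintype.card_fin]
      have := j.pos
      omega
    have hub : ∑ i ∈ Finset.univ.erase j, a i ≤ ∑ i ∈ Finset.univ.erase j, (1 : ℤ) :=
      Finset.sum_le_sum hle
    simp only [Finset.sum_const, nsmul_eq_mul, mul_one] at hub
    refine ⟨by omega, j, hj2, fun i hi => ?_⟩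
    have heq : ∑ i ∈ Finset.univ.erase j, a i = ∑ i ∈ Finset.univ.erase j, (1 : ℤ) := by
      simp only [Finset.sum_const, nsmul_eq_mul, mul_one]
      omega
    exact (Finset.sum_eq_sum_iff_of_le hle).mp heq i (Finset.mem_erase.mpr ⟨hi, Finset.mem_univ i⟩)
  · exfalso
    have h1 : ∀ i ∈ (Finset.univ : Finset (Fin n)), (1 : ℤ) ≤ (2 * a i - 3) ^ 2 := by
      intro i _
      have : 2 * a i - 3 ≠ 0 := by omega
      nlinarith [Int.one_le_abs this, sq_abs (2 * a i - 3)]
    have h2 := Finset.sum_le_sum h1
    have h3 : ∑ i, (2 * a i - 3) ^ 2 = 4 * ∑ i, a i ^ 2 - 12 * ∑ i, a i + 9 * (n : ℤ) := by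
      simp only [show ∀ x : ℤ, (2 * x - 3) ^ 2 = 4 * x ^ 2 - 12 * x + 9 by intro x; ring,
        Finset.sum_add_distrib, Finset.sum_sub_distrib, ← Finset.mul_sum, Finset.sum_const,
        Finset.card_univ, Fintype.card_fin, nsmul_eq_mul]
      ring
    rw [h3, hS, ← hK] at h2
    simp at h2
    omega

end Groth.Agent.S18457
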