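import Groth.Statements.S18458
import Groth.Agent.SurfNum.Regular
import Mathlib.LinearAlgebra.Matrix.ToLinearEquiv

set_option autoImplicit false
universe u
open CategoryTheory CategoryTheory.Limits AlgebraicGeometry TopologicalSpace
open Surf

namespace Groth.Agent.S18458

/-- Let k be an algebraically closed field of characteristic zero and X a smooth projective surface over
k (integral, proper and smooth over k, of dimension 2, carrying an ample invertible module). Let
C_1, …, C_r be pairwise distinct integral curves on X with ideal sheaves I_i whose intersection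
matrix is negative definite: Σ_{i,j} a_i a_j (I_i·I_j) < 0 for every nonzero integer vector a, where
(A·B) = χ(O_X) − χ(A) − χ(B) + χ(A ⊗ B). Then there is an invertible O_X-module L (the sheaf of a
divisor H) which is nef and big and is orthogonal to exactly the curves C_i: writing (L·C) = χ(O_C ⊗
L) − χ(O_C) for the degree of L on an integral curve C, one has (L·C) ≥ 0 for every integral curve
C, (L·L) > 0, and (L·C) = 0 if and only if C is one of the C_i. -/
theorem result (k : Type u) [Field k] [IsAlgClosed k] [CharZero k]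
    (X : Scheme.{u}) [X.Over (Spec (CommRingCat.of k))] [IsProper (X ↘ (Spec (CommRingCat.of k)))]
    [Smooth (X ↘ (Spec (CommRingCat.of k)))] [IsIntegral X] (hdim : topologicalKrullDim X = 2)
    (hproj : ∃ H : X.Modules, CohB1.IsAmple H)
    (r : ℕ) (C : Fin r → X.IdealSheafData) (hC : Function.Injective C)
    (hCi : ∀ i, IsIntegral (C i).subscheme) (hCd : ∀ i, topologicalKrullDim ((C i).support : Set X) = 1)
    (hneg : ∀ a : Fin r → ℤ, a ≠ 0 →
      ∑ i, ∑ j, a i * a j * FGA.intNum k X 2 ![(ClSub.idealMod (C i)), (ClSub.idealMod (C j))] (Coh.structureModule X) < 0) :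
    ∃ L : X.Modules, PicF.IsInvertible L ∧
      (∀ D : X.IdealSheafData, IsIntegral D.subscheme → topologicalKrullDim (D.support : Set X) = 1 →
        0 ≤ Curv2.euler k X (CohB1.tensorMod (ClSub.quotMod D) L) - Curv2.euler k X (ClSub.quotMod D)) ∧
      0 < FGA.intNum k X 2 ![L, L] (Coh.structureModule X) ∧
      (∀ D : X.IdealSheafData, IsIntegral D.subscheme → topologicalKrullDim (D.support : Set X) = 1 →
        (Curv2.euler k X (CohB1.tensorMod (ClSub.quotMod D) L) - Curv2.euler k X (ClSub.quotMod D) = 0 ↔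
          ∃ i, D = C i)) := by

  have hreg := fun x : X => Groth.SurfNum.isRegularLocalRing_stalk k x
  have hc : ∀ i, Groth.SurfNum.IsCurve (C i) := fun i => ⟨hCi i, hCd i⟩
  have hinv : ∀ i, PicF.IsInvertible (ClSub.idealMod (C i)) := fun i => (hc i).isInvertible k hdim hreg
  obtain ⟨A, hA⟩ := hproj
  simp only [Groth.Inter.intNum_eq_pair k hdim.le] at hneg ⊢
  classical
  let G : Matrix (Fin r) (Fin r) ℤ := fun i j => Groth.Inter.pair k (ClSub.idealMod (C i)) (ClSub.idealMod (C j))
  have hdet : G.det ≠ 0 := fun h0 => by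
    obtain ⟨v, hv, hvG⟩ := Matrix.exists_vecMul_eq_zero_iff.2 h0
    refine absurd (hneg v hv) (not_lt.2 (le_of_eq ?_))
    rw [Finset.sum_comm]
    refine (Finset.sum_eq_zero fun j _ => ?_).symm
    have h1 : ∑ i, v i * G i j = 0 := congrFun hvG j
    calc ∑ i, v i * v j * G i j = v j * ∑ i, v i * G i j := by
          rw [Finset.mul_sum]; exact Finset.sum_congr rfl fun i _ => by ring
      _ = 0 := by rw [h1, mul_zero]
  let b : Fin r → ℤ := fun j => Groth.Inter.pair k (ClSub.idealMod (C j)) A
  obtain ⟨d, hd, s, hs⟩ : ∃ d : ℤ, 0 < d ∧ ∃ s : Fin r → ℤ, ∀ j, ∑ i, s i * G i j = d * b j := by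
    refine ⟨G.det * G.det, mul_self_pos.2 hdet, Matrix.vecMul (fun j => G.det * b j) G.adjugate, fun j => ?_⟩
    have h1 := congrFun (Matrix.vecMul_vecMul (fun j => G.det * b j) G.adjugate G) j
    rw [Matrix.adjugate_mul, Matrix.vecMul_smul, Matrix.vecMul_one] at h1
    refine Eq.trans ?_ (h1.trans ?_)
    · rfl
    · simp only [Pi.smul_apply, smul_eq_mul]
      ring
  have hb : ∀ j, b j < 0 := fun j => (hc j).pair_neg k hdim hreg hA
  have hs0 : ∀ i, 0 ≤ s i := Groth.SurfNum.nonneg_of_sum_nonpos (fun i j => G i j) (fun i j hne =>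
    Groth.SurfNum.pair_nonneg_of_ne k hdim hreg (hc i) (hc j) fun h => hne (hC h)) hneg s fun j => by
      rw [hs j]; exact (mul_neg_of_pos_of_neg hd (hb j)).le
  obtain ⟨P, hP, hPs⟩ := Groth.SurfNum.exists_sum k hdim.le Finset.univ (fun i => ClSub.idealMod (C i))
    (fun i _ => hinv i) s
  obtain ⟨L, hL, hLp⟩ := Groth.Inter.exists_comb k hdim.le hA.1 hP d (-1)
  have hdeg : ∀ D : X.IdealSheafData, Groth.SurfNum.IsCurve D →
      Curv2.euler k X (CohB1.tensorMod (ClSub.quotMod D) L) - Curv2.euler k X (ClSub.quotMod D) =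
        - (d * Groth.Inter.pair k (ClSub.idealMod D) A) +
          ∑ i, s i * Groth.Inter.pair k (ClSub.idealMod (C i)) (ClSub.idealMod D) := fun D hD => by
    have hDi := hD.isInvertible k hdim hreg
    rw [Groth.SurfNum.deg_eq k (hD.isEffCartier k hdim hreg) hL, Groth.Inter.pair_comm k, hLp _ hDi, hPs _ hDi,
      Groth.Inter.pair_comm k A]
    ring
  have hzero : ∀ j, Curv2.euler k X (CohB1.tensorMod (ClSub.quotMod (C j)) L) - Curv2.euler k X (ClSub.quotMod (C j)) = 0 :=
    fun j => by
      rw [hdeg _ (hc j)]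
      exact (congrArg (- (d * b j) + ·) (hs j)).trans (by ring)
  have hpos : ∀ D : X.IdealSheafData, Groth.SurfNum.IsCurve D → (∀ i, D ≠ C i) →
      0 < Curv2.euler k X (CohB1.tensorMod (ClSub.quotMod D) L) - Curv2.euler k X (ClSub.quotMod D) :=
    fun D hD hne => by
      rw [hdeg D hD]
      refine add_pos_of_pos_of_nonneg ?_ (Finset.sum_nonneg fun i _ => mul_nonneg (hs0 i)
        (Groth.SurfNum.pair_nonneg_of_ne k hdim hreg (hc i) hD (hne i).symm))
      exact neg_pos.2 (mul_neg_of_pos_of_neg hd (hD.pair_neg k hdim hreg hA))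
  refine ⟨L, hL, fun D h1 h2 => ?_, ?_, fun D h1 h2 => ⟨fun h0 => ?_, ?_⟩⟩
  · by_cases h : ∃ i, D = C i
    · obtain ⟨i, rfl⟩ := h
      exact (hzero i).ge
    · push Not at h
      exact (hpos D ⟨h1, h2⟩ h).le
  · have hLC : ∀ i, Groth.Inter.pair k (ClSub.idealMod (C i)) L = 0 := fun i => by
      have := hzero i
      rw [Groth.SurfNum.deg_eq k ((hc i).isEffCartier k hdim hreg) hL] at this
      omega
    have e1 : Groth.Inter.pair k L L = d * Groth.Inter.pair k A L := by
      rw [hLp L hL, hPs L hL, Finset.sum_eq_zero fun i _ => by rw [hLC i, mul_zero]]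
      ring
    rw [e1, Groth.Inter.pair_comm k A, hLp A hA.1, hPs A hA.1]
    refine mul_pos hd ?_
    have h3 : ∑ i, s i * Groth.Inter.pair k (ClSub.idealMod (C i)) A ≤ 0 := Finset.sum_nonpos fun i _ =>
      mul_nonpos_of_nonneg_of_nonpos (hs0 i) (hb i).le
    have h4 := mul_pos hd (Groth.Inter.pair_self_pos k hdim hA)
    linarith
  · by_contra hne
    push Not at hne
    exact (hpos D ⟨h1, h2⟩ hne).ne' h0
  · rintro ⟨i, rfl⟩
    exact hzero i

end Groth.Agent.S18458
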