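import Groth.Statements.S18461
import Groth.Agent.AffineDiv.FundCycle
import Groth.Agent.SurfNum.Regular

set_option autoImplicit false
universe u
open CategoryTheory CategoryTheory.Limits AlgebraicGeometry TopologicalSpace
open Surf

namespace Groth.Agent.S18461

/-- Let k be an algebraically closed field of characteristic zero and X a smooth projective surface over
k (integral, proper and smooth over k, of dimension 2). Let C_1, …, C_r (r ≥ 1) be pairwise distinct
integral curves on X, with ideal sheaves I_i, forming a connected configuration with negative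
definite intersection matrix (no partition of the indices into two nonempty sets with (I_i·I_j) = 0
across; Σ a_i a_j (I_i·I_j) < 0 for every nonzero integer vector a; (A·B) = χ(O_X) − χ(A) − χ(B) +
χ(A ⊗ B)), and let Z₀ be a fundamental cycle: a nonzero effective Cartier divisor supported on ⋃ C_i
with deg(I_{Z₀}|_{C_i}) = χ(O_{C_i} ⊗ I_{Z₀}) − χ(O_{C_i}) ≥ 0 for all i, every other such divisor Z
satisfying Z ≥ Z₀ (I_Z ⊆ I_{Z₀}). Suppose the configuration is rational in the sense that H¹(Z, O_Z)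
= 0 for every nonzero effective Cartier divisor Z supported on ⋃ C_i. Then for every natural number
N, writing O_{Z₀}(−NZ₀) = O_{Z₀} ⊗ I_{Z₀}^{⊗N}: H¹(Z₀, O_{Z₀}(−NZ₀)) = 0 and dim_k H⁰(Z₀,
O_{Z₀}(−NZ₀)) = −N·(I_{Z₀}·I_{Z₀}) + 1, that is −N·Z₀² + 1; cohomology is computed on X through the
direct image of O_{Z₀}. The published statement assumes the singularity obtained by contracting the
configuration over the complex numbers rational, which is equivalent to the vanishing assumed here,
and also asserts R¹π_*O_X(−NZ₀) = 0 for the contraction π and two facts on the maximal ideal of that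
singularity; those are not restated. -/
theorem result (k : Type u) [Field k] [IsAlgClosed k] [CharZero k]
    (X : Scheme.{u}) [X.Over (Spec (CommRingCat.of k))] [IsProper (X ↘ (Spec (CommRingCat.of k)))]
    [Smooth (X ↘ (Spec (CommRingCat.of k)))] [IsIntegral X] (hdim : topologicalKrullDim X = 2)
    (r : ℕ) (hr : 0 < r) (C : Fin r → X.IdealSheafData) (hC : Function.Injective C)
    (hCi : ∀ i, IsIntegral (C i).subscheme) (hCd : ∀ i, topologicalKrullDim ((C i).support : Set X) = 1)
    (hconn : ∀ S : Finset (Fin r), S.Nonempty → Sᶜ.Nonempty →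
      ∃ i ∈ S, ∃ j ∈ Sᶜ, FGA.intNum k X 2 ![(ClSub.idealMod (C i)), (ClSub.idealMod (C j))] (Coh.structureModule X) ≠ 0)
    (hneg : ∀ a : Fin r → ℤ, a ≠ 0 →
      ∑ i, ∑ j, a i * a j * FGA.intNum k X 2 ![(ClSub.idealMod (C i)), (ClSub.idealMod (C j))] (Coh.structureModule X) < 0)
    (Z₀ : X.IdealSheafData) (hZ₀ : FGA.IsEffCartier Z₀) (hZ₀0 : Z₀ ≠ ⊤)
    (hZ₀s : (Z₀.support : Set X) ⊆ ⋃ i, ((C i).support : Set X))
    (hZ₀C : ∀ i, 0 ≤ Curv2.euler k X (CohB1.tensorMod (ClSub.quotMod (C i)) (ClSub.idealMod Z₀)) -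
      Curv2.euler k X (ClSub.quotMod (C i)))
    (hZ₀min : ∀ Z : X.IdealSheafData, FGA.IsEffCartier Z → Z ≠ ⊤ → (Z.support : Set X) ⊆ ⋃ i, ((C i).support : Set X) →
      (∀ i, 0 ≤ Curv2.euler k X (CohB1.tensorMod (ClSub.quotMod (C i)) (ClSub.idealMod Z)) -
        Curv2.euler k X (ClSub.quotMod (C i))) → Z ≤ Z₀)
    (hrat : ∀ Z : X.IdealSheafData, FGA.IsEffCartier Z → Z ≠ ⊤ → (Z.support : Set X) ⊆ ⋃ i, ((C i).support : Set X) →
      Subsingleton (Coh.HH X (ClSub.quotMod Z) 1))
    (N : ℕ) :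
    Subsingleton (Coh.HH X (CohB1.tensorMod (ClSub.quotMod Z₀) (CohB1.tensorPow (ClSub.idealMod Z₀) N)) 1) ∧
      (Module.finrank k (Coh.HH X (CohB1.tensorMod (ClSub.quotMod Z₀) (CohB1.tensorPow (ClSub.idealMod Z₀) N)) 0) : ℤ) =
        -(N : ℤ) * FGA.intNum k X 2 ![(ClSub.idealMod Z₀), (ClSub.idealMod Z₀)] (Coh.structureModule X) + 1 := by
  classical
  haveI : IsNoetherian X := Groth.Inter.isNoetherian k
  have hreg := fun x : X => Groth.SurfNum.isRegularLocalRing_stalk k x
  have hc : ∀ i, Groth.SurfNum.IsCurve (C i) := fun i => ⟨hCi i, hCd i⟩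
  have hCe : ∀ i, BlowUp.IsEffCartierIdeal (C i) := fun i => (hc i).isEffCartier k hdim hreg
  simp only [Groth.Inter.intNum_eq_pair k hdim.le] at hconn hneg ⊢
  obtain ⟨a, rfl, hfull, hoff, haC, h0, hbs⟩ := Groth.AffineDiv.exists_fundamental_data k hdim hreg C hC hc hconn
    Z₀ (fun x => hZ₀ x) hZ₀0 hZ₀s hZ₀C hZ₀min
  have hZe := Groth.AffineDiv.isEffCartier_prodPow C hCe a
  have hIi := Groth.PicAux.isInvertible_idealMod hZe
  have hM := Groth.PicAux.isInvertible_tensorPow hIi N
  have hsingle : ∀ i, (∏ j, C j ^ (Pi.single i 1 : Fin r → ℕ) j) = C i := fun i => by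
    rw [Finset.prod_eq_single i (fun j _ hj => by simp [hj]) (fun h => absurd (Finset.mem_univ _) h),
      Pi.single_eq_same, pow_one]
  have hH1 : ∀ b : Fin r → ℕ, b ≠ 0 → Subsingleton (Coh.HH X (ClSub.quotMod (∏ i, C i ^ b i)) 1) := fun b hb =>
    hrat _ (fun x => Groth.AffineDiv.isEffCartier_prodPow C hCe b x) (hbs b hb).1 (hbs b hb).2
  have hC1 : ∀ i, Subsingleton (Coh.HH X (ClSub.quotMod (C i)) 1) := fun i => hsingle i ▸ hH1 _ (by simp)
  have hχb : ∀ b : Fin r → ℕ, b ≠ 0 → 1 ≤ Curv2.euler k X (ClSub.quotMod (∏ i, C i ^ b i)) := fun b hb =>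
    Groth.AffineDiv.one_le_euler_quot k hdim (Groth.AffineDiv.isEffCartier_prodPow C hCe b) (hbs b hb).1 (hH1 b hb)
  have hCχ : ∀ i, Curv2.euler k X (ClSub.quotMod (C i)) = 1 := fun i => by
    refine le_antisymm ?_ (hsingle i ▸ hχb _ (by simp))
    haveI := hCi i
    letI : (C i).subscheme.Over (Spec (CommRingCat.of k)) := ⟨(C i).subschemeι ≫ (X ↘ Spec (CommRingCat.of k))⟩
    haveI : IsProper ((C i).subscheme ↘ Spec (CommRingCat.of k)) :=
      inferInstanceAs (IsProper ((C i).subschemeι ≫ (X ↘ Spec (CommRingCat.of k))))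
    obtain ⟨f⟩ := Groth.CohC3.nonempty_linearEquiv_push_closed (C i).subschemeι (X ↘ Spec (CommRingCat.of k)) 0
      (Coh.structureModule (C i).subscheme)
    have := (le_of_eq f.finrank_eq).trans (Groth.Inter.finrank_h0_structure_le k)
    have h' : Module.finrank k (Coh.HH X (ClSub.quotMod (C i)) 0) ≤ 1 := this
    rw [Groth.AffineDiv.euler_quot_eq k hdim (hCe i)]
    omega
  have hMC : ∀ i, Groth.Inter.pair k (ClSub.idealMod (C i))
      (CohB1.tensorPow (ClSub.idealMod (∏ j, C j ^ a j)) N) ≤ 0 := fun i => by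
    rw [Groth.Inter.pair_comm k, Groth.Inter.pair_pow k hdim.le hIi (Groth.PicAux.isInvertible_idealMod (hCe i)),
      Groth.Inter.pair_comm k]
    exact mul_nonpos_of_nonneg_of_nonpos (Int.natCast_nonneg _) (haC i)
  have hv : Subsingleton (Coh.HH X (CohB1.tensorMod (ClSub.quotMod (∏ i, C i ^ a i))
      (CohB1.tensorPow (ClSub.idealMod (∏ i, C i ^ a i)) N)) 1) :=
    Groth.AffineDiv.subsingleton_h1_prodPow_twist k hdim C hCe hCi (fun i => (hCd i).le) hC1 hM hMC a
      fun b _ hb => Groth.AffineDiv.exists_small_of_euler k hdim C hCe hCχ (hχb b hb)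
  refine ⟨hv, ?_⟩
  set M := CohB1.tensorPow (ClSub.idealMod (∏ i, C i ^ a i)) N
  set F := CohB1.tensorMod (ClSub.quotMod (∏ i, C i ^ a i)) M
  obtain ⟨hqc, hqs⟩ := Groth.Inter.support_quotMod k (∏ i, C i ^ a i)
  haveI : Subsingleton (Coh.HH X (CohB1.tensorMod M (ClSub.quotMod (∏ i, C i ^ a i))) 2) :=
    Groth.Variety2.Reg.subsingleton_HH_of_support_one _ (∏ i, C i ^ a i).support.isClosed
      (by simpa using Groth.SurfNum.dim_support_le_one k hdim hZe)
      ((Groth.Inter.support_twist_subset _ _).trans hqs.le) le_rfl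
  haveI : Subsingleton (Coh.HH X F 2) :=
    (Groth.EulerDeg.hEquiv k (Groth.Inter.tensor_comm _ _).some 2).toEquiv.subsingleton
  have he := Groth.Inter.euler_eq_three k hdim.le (F := F)
  have hd := Groth.SurfNum.deg_eq k hZe hM
  have hq := Groth.AffineDiv.euler_quot_eq k hdim hZe
  haveI := hH1 a fun e => by simpa [e] using hfull ⟨0, hr⟩
  rw [h0, Module.finrank_zero_of_subsingleton (R := k)] at hq
  rw [Groth.Inter.pair_comm k, Groth.Inter.pair_pow k hdim.le hIi hIi, hq] at hd
  rw [Module.finrank_zero_of_subsingleton (R := k) (M := Coh.HH X F 1),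
    Module.finrank_zero_of_subsingleton (R := k) (M := Coh.HH X F 2)] at he
  rw [he] at hd
  push_cast at hd ⊢
  linarith

end Groth.Agent.S18461
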