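import Groth.Statements.S18463
import Groth.Agent.SurfNum.Regular

set_option autoImplicit false
universe u
open CategoryTheory CategoryTheory.Limits AlgebraicGeometry TopologicalSpace
open Surf

namespace Groth.Agent.S18463

/-- Let k be an algebraically closed field of characteristic zero and X a smooth projective surface over
k (integral, proper and smooth over k, of dimension 2, carrying an ample invertible module). Let
C_1, …, C_r be pairwise distinct integral curves on X with ideal sheaves I_i and negative definite
intersection matrix (Σ_{i,j} a_i a_j (I_i·I_j) < 0 for every nonzero integer vector a, where (A·B) =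
χ(O_X) − χ(A) − χ(B) + χ(A ⊗ B)), let F be an effective Cartier divisor on X, with ideal I_F, none
of whose components is a C_i, and let s_1, …, s_r be integers such that F is numerically equivalent
to Σ_i s_i C_i: (I_F·M) = Σ_i s_i (I_i·M) for every invertible O_X-module M (equivalently (F·D) = Σ
s_i (C_i·D) for every divisor D). Then F = 0, i.e. I_F = O_X, and every s_i is 0. The published
statement writes the hypothesis as [F] + Σ s_i[C_i] = 0 with real s_i; this row writes F ≡ Σ s_i C_i
with integer s_i, which is the same after changing the signs of the s_i. -/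
theorem result (k : Type u) [Field k] [IsAlgClosed k] [CharZero k]
    (X : Scheme.{u}) [X.Over (Spec (CommRingCat.of k))] [IsProper (X ↘ (Spec (CommRingCat.of k)))]
    [Smooth (X ↘ (Spec (CommRingCat.of k)))] [IsIntegral X] (hdim : topologicalKrullDim X = 2)
    (hproj : ∃ H : X.Modules, CohB1.IsAmple H)
    (r : ℕ) (C : Fin r → X.IdealSheafData) (hC : Function.Injective C)
    (hCi : ∀ i, IsIntegral (C i).subscheme) (hCd : ∀ i, topologicalKrullDim ((C i).support : Set X) = 1)
    (hneg : ∀ a : Fin r → ℤ, a ≠ 0 →
      ∑ i, ∑ j, a i * a j * FGA.intNum k X 2 ![(ClSub.idealMod (C i)), (ClSub.idealMod (C j))] (Coh.structureModule X) < 0)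
    (F : X.IdealSheafData) (hF : FGA.IsEffCartier F) (hFC : ∀ i, ¬ ((C i).support : Set X) ⊆ (F.support : Set X))
    (s : Fin r → ℤ)
    (hnum : ∀ M : X.Modules, PicF.IsInvertible M →
      FGA.intNum k X 2 ![(ClSub.idealMod F), M] (Coh.structureModule X) =
        ∑ i, s i * FGA.intNum k X 2 ![(ClSub.idealMod (C i)), M] (Coh.structureModule X)) :
    F = ⊤ ∧ ∀ i, s i = 0 := by

  have hreg := fun x : X => Groth.SurfNum.isRegularLocalRing_stalk k x
  have hc : ∀ i, Groth.SurfNum.IsCurve (C i) := fun i => ⟨hCi i, hCd i⟩
  have hinv : ∀ i, PicF.IsInvertible (ClSub.idealMod (C i)) := fun i => (hc i).isInvertible k hdim hreg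
  have hF' : BlowUp.IsEffCartierIdeal F := fun x => hF x
  obtain ⟨A, hA⟩ := hproj
  simp only [Groth.Inter.intNum_eq_pair k hdim.le] at hneg hnum
  let G : Fin r → Fin r → ℤ := fun i j => Groth.Inter.pair k (ClSub.idealMod (C i)) (ClSub.idealMod (C j))
  have hs : ∀ i, 0 ≤ - s i := Groth.SurfNum.nonneg_of_sum_nonpos G (fun i j hne =>
    Groth.SurfNum.pair_nonneg_of_ne k hdim hreg (hc i) (hc j) fun h => hne (hC h)) hneg (fun i => - s i) fun j => by
      simp only [neg_mul, Finset.sum_neg_distrib]
      have h1 : Groth.Inter.pair k (ClSub.idealMod F) (ClSub.idealMod (C j)) = ∑ i, s i * G i j :=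
        hnum _ (hinv j)
      have := Groth.SurfNum.pair_nonneg_of_not_subset k hdim hreg hF' (hc j) (hFC j)
      omega
  have hA' := hnum A hA.1
  have hge : 0 ≤ ∑ i, s i * Groth.Inter.pair k (ClSub.idealMod (C i)) A := Finset.sum_nonneg fun i _ =>
    mul_nonneg_of_nonpos_of_nonpos (by linarith [hs i]) ((hc i).pair_neg k hdim hreg hA).le
  have htop : F = ⊤ := by
    by_contra hne
    have := Groth.SurfNum.pair_neg_of_ne_top k hdim hF' hne hA
    omega
  refine ⟨htop, fun i => ?_⟩
  have h0 : Groth.Inter.pair k (ClSub.idealMod F) A = 0 := by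
    obtain ⟨t, m, ht, hsum⟩ := Groth.SurfNum.exists_pair_eq_sum k hdim hF'
    rw [hsum A hA.1]
    refine Finset.sum_eq_zero fun y hy => ?_
    have hm := (ht y hy).2
    rw [htop] at hm
    exact absurd (show y ∈ ((⊥ : TopologicalSpace.Closeds X) : Set X) from hm) (by simp)
  rw [h0] at hA'
  have := (Finset.sum_eq_zero_iff_of_nonneg fun i _ => mul_nonneg_of_nonpos_of_nonpos (by linarith [hs i])
    ((hc i).pair_neg k hdim hreg hA).le).1 hA'.symm i (Finset.mem_univ i)
  exact (mul_eq_zero.1 this).resolve_right ((hc i).pair_neg k hdim hreg hA).ne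

end Groth.Agent.S18463
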