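import Groth.Statements.S18464
import Groth.Agent.SGA7.Forms

set_option autoImplicit false
universe u
open CategoryTheory CategoryTheory.Limits AlgebraicGeometry
open LefPen

namespace Groth.Agent.S18464
/-- Evaluation of forms at a vector. -/
noncomputable def ev (k : Type u) [Field k] (r d : ℕ) (v : Fin (r + 1) → k) : LefPen.Form r k d →ₗ[k] k :=
  (MvPolynomial.aeval v).toLinearMap ∘ₗ (CohB1.polyGrading r k d).subtype

private theorem exists_minor {k : Type u} [Field k] {W : Type u} [AddCommGroup W] [Module k W] {N : ℕ}
    (b : Module.Basis (Fin N) k W) {ι : Type*} (a : ι → W →ₗ[k] k) (ha : ∀ G, (∀ i, a i G = 0) → G = 0) :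
    ∃ e : Fin N → ι, (Matrix.of fun i j => a (e i) (b j)).det ≠ 0 := by
  classical
  let c : ι → (Fin N → k) := fun i j => a i (b j)
  have hspan : Submodule.span k (Set.range c) = ⊤ := by
    by_contra h
    obtain ⟨f, hf0, hf⟩ := Submodule.exists_le_ker_of_lt_top _ (lt_top_iff_ne_top.mpr h)
    apply hf0
    have hG : (∑ j, f (Pi.single j 1) • b j) = 0 := ha _ fun i => by
      have h1 : f (c i) = 0 := hf (Submodule.subset_span ⟨i, rfl⟩)
      rw [pi_eq_sum_univ' (c i)] at h1
      rw [map_sum]
      rw [map_sum] at h1
      refine Eq.trans (Finset.sum_congr rfl fun j _ => ?_) h1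
      rw [map_smul, map_smul, smul_eq_mul, smul_eq_mul, mul_comm]
    refine LinearMap.pi_ext' fun j => LinearMap.ext_ring ?_
    have := Fintype.linearIndependent_iff.mp b.linearIndependent _ hG j
    simpa using this
  obtain ⟨κ, g, hg, hgspan, hgli⟩ := exists_linearIndependent' k c
  let B := Module.Basis.mk hgli (by rw [hgspan, hspan])
  have := FiniteDimensional.fintypeBasisIndex B
  have hcard : Fintype.card κ = N := by rw [← Module.finrank_eq_card_basis B, Module.finrank_fin_fun]
  let σ : Fin N ≃ κ := (Fintype.equivFinOfCardEq hcard).symm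
  refine ⟨g ∘ σ, IsUnit.ne_zero ((Matrix.isUnit_iff_isUnit_det _).mp ?_)⟩
  exact Matrix.linearIndependent_rows_iff_isUnit.mp (hgli.comp σ σ.injective)


/-- Let k be an infinite field, r a natural number, d ≥ 1 an integer, and m ≥ C(r+d, d), the number of
monomials of degree d in r+1 variables. In the space of m-tuples of vectors of k^(r+1) (homogeneous
coordinate vectors of m points of projective r-space; a zero vector is allowed and imposes no
condition), the tuples such that the only form of degree d vanishing at all of them is the zero form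
make up a Zariski-open subset which contains the non-vanishing locus of a not identically zero
polynomial function, so a dense open subset. (The published statement is the openness and density of
the corresponding locus in the m-fold product of projective r-space over the ground field; here the
ground field is any infinite field and the statement is made on coordinate vectors.) -/
theorem result (k : Type u) [Field k] [Infinite k]
    (r d m : ℕ) (hd : 1 ≤ d) (hm : Nat.choose (r + d) d ≤ m) :
    LefPen.IsZOpen k {x : Fin m → (Fin (r + 1) → k) |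
      ∀ G : LefPen.Form r k d, (∀ i : Fin m, MvPolynomial.aeval (x i) G.1 = 0) → G = 0} ∧
    LefPen.IsGeneric k {x : Fin m → (Fin (r + 1) → k) |
      ∀ G : LefPen.Form r k d, (∀ i : Fin m, MvPolynomial.aeval (x i) G.1 = 0) → G = 0} := by
  classical
  let b := Module.finBasis k (LefPen.Form r k d)
  have hopen : LefPen.IsZOpen k {x : Fin m → (Fin (r + 1) → k) |
      ∀ G : LefPen.Form r k d, (∀ i : Fin m, MvPolynomial.aeval (x i) G.1 = 0) → G = 0} := by
    intro x hx
    obtain ⟨e, he⟩ := exists_minor b (fun i => ev k r d (x i)) hx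
    refine ⟨fun w => (Matrix.of fun i j => MvPolynomial.aeval (w (e i)) (b j).1).det,
      Groth.SGA7.Forms.isPolyFun_det _ fun i j => ?_, he, fun w hw G hG => ?_⟩
    · exact Groth.SGA7.Forms.isPolyFun_aeval (V := Fin m → (Fin (r + 1) → k)) (b j).1
        (g := fun l w => w (e i) l) fun l => Groth.SGA7.Forms.isPolyFun_linear
          (V := Fin m → (Fin (r + 1) → k))
          ((LinearMap.proj l : (Fin (r + 1) → k) →ₗ[k] k).comp
            (LinearMap.proj (e i) : (Fin m → (Fin (r + 1) → k)) →ₗ[k] (Fin (r + 1) → k)))
    · refine b.repr.map_eq_zero_iff.mp (Finsupp.ext fun j => ?_)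
      refine congrFun (Matrix.eq_zero_of_mulVec_eq_zero hw (v := fun j => b.repr G j) (funext fun i => ?_)) j
      have h : ev k r d (w (e i)) G = 0 := hG (e i)
      rw [← b.sum_repr G, map_sum] at h
      simp only [map_smul, smul_eq_mul] at h
      rw [Pi.zero_apply, ← h]
      simp only [Matrix.mulVec, dotProduct, Matrix.of_apply]
      exact Finset.sum_congr rfl fun j _ => mul_comm _ _
  refine ⟨hopen, ?_⟩
  have hN : Module.finrank k (LefPen.Form r k d) ≤ m := (Groth.SGA7.Forms.finrank_form r k d).trans_le hm
  obtain ⟨e, he⟩ := exists_minor b (fun v : Fin (r + 1) → k => ev k r d v) fun G hG => Subtype.ext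
    (MvPolynomial.funext fun v => by
      rw [ZeroMemClass.coe_zero, map_zero, ← MvPolynomial.coe_aeval_eq_eval]
      exact hG v)
  let x : Fin m → (Fin (r + 1) → k) := fun i => if h : i.1 < Module.finrank k (LefPen.Form r k d) then e ⟨i.1, h⟩ else 0
  obtain ⟨f, hf, hfx, hfS⟩ := hopen x (fun G hG => by
    refine b.repr.map_eq_zero_iff.mp (Finsupp.ext fun j => ?_)
    refine congrFun (Matrix.eq_zero_of_mulVec_eq_zero he (v := fun j => b.repr G j) (funext fun i => ?_)) j
    have hi := hG ⟨i.1, lt_of_lt_of_le i.2 hN⟩
    have hxi : x ⟨i.1, lt_of_lt_of_le i.2 hN⟩ = e i := dif_pos i.2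
    rw [hxi] at hi
    change ev k r d (e i) G = 0 at hi
    rw [← b.sum_repr G, map_sum] at hi
    simp only [map_smul, smul_eq_mul] at hi
    rw [Pi.zero_apply, ← hi]
    simp only [Matrix.mulVec, dotProduct, Matrix.of_apply]
    exact Finset.sum_congr rfl fun j _ => mul_comm _ _)
  exact ⟨f, hf, ⟨x, hfx⟩, hfS⟩

end Groth.Agent.S18464
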