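import Groth.Statements.S18465
import Mathlib
-- import your own Groth.Agent.* helpers here

set_option autoImplicit false
universe u v w x
open WildLef

namespace Groth.Agent.S18465


/-- Let f : G₁ → G₂ be a homomorphism of groups, ρ : G₂ → Γ a homomorphism with finite image G, and A a
nontrivial commutative ring. Let G₂ act on the group algebra A[G] through ρ followed by the left
regular representation, and G₁ through f. If the elements of A[G] fixed by G₁ coincide with those
fixed by G₂, then ρ ∘ f and ρ have the same image. (The published statement has Γ a general linear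
group GL_r(A); over the zero ring that group is trivial, so requiring A nontrivial and allowing any
target group loses nothing.) -/
theorem result
    {G₁ : Type u} {G₂ : Type v} {Γ : Type w} [Group G₁] [Group G₂] [Group Γ]
    (f : G₁ →* G₂) (ρ : G₂ →* Γ) [Finite ρ.range] (A : Type x) [CommRing A] [Nontrivial A]
    (h : {x : MonoidAlgebra A ρ.range | ∀ g : G₁, MonoidAlgebra.of A ρ.range (ρ.rangeRestrict (f g)) * x = x} =
      {x : MonoidAlgebra A ρ.range | ∀ g : G₂, MonoidAlgebra.of A ρ.range (ρ.rangeRestrict g) * x = x}) :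
    (ρ.comp f).range = ρ.range := by
  classical
  apply le_antisymm
  · rintro _ ⟨g, rfl⟩; exact ⟨f g, rfl⟩
  intro γ hγ
  obtain ⟨g₂, rfl⟩ := hγ
  set H : Subgroup ρ.range := (ρ.rangeRestrict.comp f).range with hH
  haveI : Fintype H := Fintype.ofFinite H
  set x : MonoidAlgebra A ρ.range := ∑ a : H, MonoidAlgebra.of A ρ.range (a : ρ.range) with hx
  have hfix : ∀ g : G₁, MonoidAlgebra.of A ρ.range (ρ.rangeRestrict (f g)) * x = x := by
    intro g
    rw [hx, Finset.mul_sum]
    simp only [← map_mul]
    exact Fintype.sum_equiv (Equiv.mulLeft (⟨ρ.rangeRestrict (f g), g, rfl⟩ : H)) _ _ (fun a => rfl)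
  have hG : MonoidAlgebra.of A ρ.range (ρ.rangeRestrict g₂) * x = x := (h.subset hfix : _) g₂
  by_contra hne
  have hnot : ∀ a : H, ρ.rangeRestrict g₂ * (a : ρ.range) ≠ (1 : ρ.range) := by
    intro a ha
    apply hne
    have : ρ.rangeRestrict g₂ ∈ H := by
      rw [eq_inv_of_mul_eq_one_left ha]; exact H.inv_mem a.2
    obtain ⟨g₁, hg₁⟩ := this
    exact ⟨g₁, congrArg Subtype.val hg₁⟩
  let c : MonoidAlgebra A ρ.range →ₗ[A] A :=
    (Finsupp.lapply (1 : ρ.range)).comp (MonoidAlgebra.coeffLinearEquiv (R := A)).toLinearMap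
  have hc : ∀ b : ρ.range, c (MonoidAlgebra.of A ρ.range b) = if b = 1 then 1 else 0 := by
    intro b; simp [c, MonoidAlgebra.of_apply, Finsupp.single_apply]
  have h1 := congrArg c hG
  rw [hx, Finset.mul_sum] at h1
  simp only [← map_mul, map_sum, hc] at h1
  rw [Finset.sum_eq_zero (fun a _ => if_neg (hnot a))] at h1
  rw [Finset.sum_eq_single (1 : H) (fun a _ ha => if_neg (by simpa using ha)) (by simp)] at h1
  simp at h1

end Groth.Agent.S18465
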