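import Groth.Statements.S18466
import Mathlib.RingTheory.Bialgebra.MonoidAlgebra
import Mathlib.RingTheory.RootsOfUnity.PrimitiveRoots
import Mathlib.NumberTheory.LegendreSymbol.AddCharacter
import Mathlib.LinearAlgebra.LinearIndependent.Lemmas

set_option autoImplicit false
universe u
open Hopf

namespace Groth.Agent.S18466

/-- Let k be a field and n ≥ 1. The constant group scheme ℤ/n over k is self-dual, that is, isomorphic
to its Cartier dual μ_n — equivalently the Hopf algebra of k-valued functions on the cyclic group of
order n and the group algebra of that group over k (group elements group-like) are isomorphic as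
bialgebras — precisely when the field k has a primitive n-th root of unity, i.e. k contains n
distinct n-th roots of unity in k. (The published statement assumes that the characteristic of k
does not divide n; both directions hold without that assumption by the same argument, since a
primitive n-th root of unity forces n to be nonzero in k, so it is omitted here.) -/
theorem result
    (k : Type u) [Field k] (n : ℕ) [NeZero n] :
    Nonempty (ConstGrp.F k (Multiplicative (ZMod n)) ≃ₐc[k] MonoidAlgebra k (Multiplicative (ZMod n))) ↔
      ∃ ζ : k, IsPrimitiveRoot ζ n := by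
  classical
  let G := Multiplicative (ZMod n)
  constructor
  · rintro ⟨e⟩
    let φ : G → (G →* k) := fun i => (((ConstGrp.ev k i).comp
      ((e.symm : MonoidAlgebra k G ≃ₐc[k] ConstGrp.F k G) : MonoidAlgebra k G →ₐ[k] ConstGrp.F k G)).toMonoidHom).comp
        (MonoidAlgebra.of k G)
    have hφ : Function.Injective φ := by
      intro i j hij
      have h1 : (ConstGrp.ev k i).comp
          ((e.symm : MonoidAlgebra k G ≃ₐc[k] ConstGrp.F k G) : MonoidAlgebra k G →ₐ[k] ConstGrp.F k G) =
          (ConstGrp.ev k j).comp
          ((e.symm : MonoidAlgebra k G ≃ₐc[k] ConstGrp.F k G) : MonoidAlgebra k G →ₐ[k] ConstGrp.F k G) := by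
        apply (MonoidAlgebra.lift k k G).symm.injective
        exact hij
      have h2 := DFunLike.congr_fun h1 (e (ConstGrp.e k i))
      change ConstGrp.ev k i (e.symm (e (ConstGrp.e k i))) = ConstGrp.ev k j (e.symm (e (ConstGrp.e k i))) at h2
      rw [BialgEquiv.symm_apply_apply, ConstGrp.ev_apply, ConstGrp.ev_apply, ConstGrp.e_apply_self,
        ConstGrp.e_apply] at h2
      by_contra hne
      rw [if_neg (Ne.symm hne)] at h2
      exact one_ne_zero h2
    let z : G → rootsOfUnity n k := fun i => rootsOfUnity.mkOfPowEq (φ i (Multiplicative.ofAdd (1 : ZMod n))) (by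
      rw [← map_pow, ← ofAdd_nsmul, nsmul_one, ZMod.natCast_self, ofAdd_zero, map_one])
    have hz : Function.Injective z := by
      intro i j hij
      refine hφ (MonoidHom.ext fun x => ?_)
      have h1 : φ i (Multiplicative.ofAdd (1 : ZMod n)) = φ j (Multiplicative.ofAdd (1 : ZMod n)) := by
        simpa [z] using congrArg (fun w : rootsOfUnity n k => ((w : kˣ) : k)) hij
      obtain ⟨m, rfl⟩ : ∃ m : ℕ, (Multiplicative.ofAdd (1 : ZMod n)) ^ m = x :=
        ⟨(Multiplicative.toAdd x).val, by
          rw [← ofAdd_nsmul, nsmul_one, ZMod.natCast_zmod_val]; rfl⟩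
      rw [map_pow, map_pow, h1]
    have hcard : Nat.card (rootsOfUnity n k) = n := by
      refine le_antisymm (card_rootsOfUnity k n) ?_
      have := Nat.card_le_card_of_injective z hz
      rwa [show Nat.card G = n from (Nat.card_congr Multiplicative.toAdd).trans (Nat.card_zmod n)] at this
    obtain ⟨g, hg⟩ := IsCyclic.exists_ofOrder_eq_natCard (α := rootsOfUnity n k)
    refine ⟨((g : kˣ) : k), ?_⟩
    rw [IsPrimitiveRoot.coe_units_iff, IsPrimitiveRoot.iff_orderOf, Subgroup.orderOf_coe, hg, hcard]
  · rintro ⟨ζ, hζ⟩
    let ψ : AddChar (ZMod n) k := AddChar.zmodChar n hζ.pow_eq_one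
    let χ : G →* ConstGrp.F k G :=
      { toFun := fun j => fun i => ψ (Multiplicative.toAdd i * Multiplicative.toAdd j)
        map_one' := ConstGrp.ext fun i => by simp
        map_mul' := fun a b => ConstGrp.ext fun i =>
          (congrArg ψ (mul_add (Multiplicative.toAdd i) (Multiplicative.toAdd a) (Multiplicative.toAdd b))).trans
            (AddChar.map_add_eq_mul ψ _ _) }
    let f : MonoidAlgebra k G →ₐ[k] ConstGrp.F k G := MonoidAlgebra.lift k (ConstGrp.F k G) G χ
    have hf : ∀ j : G, f (MonoidAlgebra.single j 1) = χ j := fun j => by simp [f]
    let F : MonoidAlgebra k G →ₐc[k] ConstGrp.F k G := BialgHom.ofAlgHom f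
      (MonoidAlgebra.algHom_ext (fun j => by
        change Coalgebra.counit (R := k) (f (MonoidAlgebra.single j 1)) =
          Coalgebra.counit (R := k) (MonoidAlgebra.single j (1 : k))
        rw [hf, ConstGrp.counit_apply, MonoidAlgebra.counit_single]
        simp [χ]) (Subsingleton.elim _ _))
      (MonoidAlgebra.algHom_ext (fun j => by
        change Algebra.TensorProduct.map f f (Coalgebra.comul (R := k) (MonoidAlgebra.single j (1 : k))) =
          Coalgebra.comul (R := k) (f (MonoidAlgebra.single j 1))
        rw [MonoidAlgebra.comul_single, ConstGrp.comul_eq_sum, hf]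
        simp only [CommSemiring.comul_apply, TensorProduct.map_tmul, Algebra.TensorProduct.map_tmul,
          MonoidAlgebra.lsingle_apply, hf]
        conv_lhs => rw [ConstGrp.eq_sum_smul_e (χ j), TensorProduct.sum_tmul]
        refine Finset.sum_congr rfl fun a _ => ?_
        rw [TensorProduct.tmul_sum]
        refine Finset.sum_congr rfl fun b _ => ?_
        rw [TensorProduct.smul_tmul_smul]
        congr 1
        exact ((congrArg ψ (add_mul (Multiplicative.toAdd a) (Multiplicative.toAdd b) (Multiplicative.toAdd j))).trans
          (AddChar.map_add_eq_mul ψ _ _)).symm) (Subsingleton.elim _ _))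
    have hli : LinearIndependent k (fun j : G => χ j) := by
      let m : G → (G →* k) := fun j =>
        { toFun := fun i => χ j i
          map_one' := by simp [χ]
          map_mul' := fun a b =>
            (congrArg ψ (add_mul (Multiplicative.toAdd a) (Multiplicative.toAdd b) (Multiplicative.toAdd j))).trans
              (AddChar.map_add_eq_mul ψ _ _) }
      have hm : Function.Injective m := by
        intro a b hab
        have h1 := DFunLike.congr_fun hab (Multiplicative.ofAdd (1 : ZMod n))
        simp only [m, χ, MonoidHom.coe_mk, OneHom.coe_mk, toAdd_ofAdd, one_mul, ψ, AddChar.zmodChar_apply] at h1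
        exact Multiplicative.toAdd.injective (ZMod.val_injective n
          (hζ.pow_inj (ZMod.val_lt _) (ZMod.val_lt _) h1))
      exact (linearIndependent_monoidHom G k).comp m hm
    have hinj : Function.Injective F := by
      intro x y hxy
      have hb : LinearIndependent k (fun j : G => (f.toLinearMap) (MonoidAlgebra.single j 1)) := by
        simpa only [AlgHom.toLinearMap_apply, hf] using hli
      have hker := LinearMap.ker_eq_bot.2 (show Function.Injective f.toLinearMap from ?_)
      · exact (LinearMap.ker_eq_bot.1 hker) hxy
      refine (injective_iff_map_eq_zero _).2 fun w hw => ?_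
      have hw' : Finsupp.linearCombination k (fun j : G => χ j) w.coeff = 0 := by
        rw [← hw]
        clear hw
        induction w using MonoidAlgebra.induction_linear with
        | zero => simp
        | add p q hp hq => simp only [map_add, MonoidAlgebra.coeff_add, hp, hq]
        | single j r =>
          rw [show MonoidAlgebra.single j r = r • MonoidAlgebra.single j (1 : k) by simp, map_smul]
          simp [hf]
      have := linearIndependent_iff.1 hli w.coeff hw'
      exact MonoidAlgebra.coeff_injective (this.trans MonoidAlgebra.coeff_zero.symm)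
    have hfr : Module.finrank k (MonoidAlgebra k G) = Module.finrank k (ConstGrp.F k G) := by
      rw [Module.finrank_eq_card_basis (ConstGrp.basis k G),
        Module.finrank_eq_card_basis (MonoidAlgebra.basis G k)]
    have : Module.Finite k (MonoidAlgebra k G) := Module.Finite.of_basis (MonoidAlgebra.basis G k)
    exact ⟨(BialgEquiv.ofBijective F ⟨hinj,
      (LinearMap.injective_iff_surjective_of_finrank_eq_finrank hfr (f := f.toLinearMap)).1 hinj⟩).symm⟩

end Groth.Agent.S18466
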