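import Groth.Statements.S18467
import Mathlib.RingTheory.Idempotents
import Mathlib.Algebra.MonoidAlgebra.Basic
import Mathlib.RingTheory.IntegralDomain
import Mathlib.FieldTheory.Finite.Basic
import Mathlib.Algebra.Ring.GeomSum
import Mathlib.Tactic.Ring
-- import your own Groth.Agent.* helpers here

set_option autoImplicit false
universe u
open Hopf

namespace Groth.Agent.S18467

/-- Let p be a prime and R a commutative ring containing an element u with u(p − 1) = 1, and let χ be a
homomorphism from the group of units of ℤ/p to the group of units of R such that χ(m) − 1 is a unit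
of R for every m ≠ 1. For 0 ≤ i < p − 1 put e_i = u · Σ_m χ(m)^{−i} [m] in the group algebra
R[(ℤ/p)ˣ]. Then the e_i are idempotents, e_i e_j = 0 for i ≠ j, and Σ_i e_i = 1. (The published
statement is for algebras over the subring of the p-adic integers generated over ℤ by the values of
the Teichmüller character χ and by 1/(p(p − 1)); the hypotheses on R and χ here are the properties
of that situation which the computation uses, so the row is stated for every such pair.) -/
theorem result
    (p : ℕ) [Fact p.Prime] (R : Type u) [CommRing R] (u : R) (hu : u * ((p - 1 : ℕ) : R) = 1)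
    (χ : (ZMod p)ˣ →* Rˣ) (hχ : ∀ m : (ZMod p)ˣ, m ≠ 1 → IsUnit ((χ m : R) - 1)) :
    CompleteOrthogonalIdempotents (fun i : Fin (p - 1) =>
      u • ∑ m : (ZMod p)ˣ, ((χ m⁻¹ : Rˣ) : R) ^ (i : ℕ) • MonoidAlgebra.of R (ZMod p)ˣ m) := by
  classical
  set G := (ZMod p)ˣ
  set e : G → MonoidAlgebra R G := fun m => MonoidAlgebra.of R G m
  set c : G → R := fun m => ((χ m⁻¹ : Rˣ) : R) with hc
  have hcm : ∀ a b, c (a * b) = c a * c b := fun a b => by simp [hc, mul_comm]
  have hcu : ∀ m, m ≠ 1 → IsUnit (c m - 1) := fun m hm => hχ _ (by simpa using hm)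
  have hcard : Fintype.card G = p - 1 := ZMod.card_units p
  obtain ⟨g₀, hg₀⟩ := IsCyclic.exists_generator (α := G)
  have hord : orderOf g₀ = p - 1 := by
    rw [orderOf_eq_card_of_forall_mem_zpowers hg₀, Nat.card_eq_fintype_card, hcard]
  have hone : ∀ m : G, m ^ (p - 1) = 1 := fun m => hcard ▸ pow_card_eq_one
  have hgeom : ∀ m, (∑ i : Fin (p - 1), c m ^ (i : ℕ)) = if m = 1 then ((p - 1 : ℕ) : R) else 0 := by
    intro m
    split_ifs with h
    · simp [h, hc]
    · rw [Fin.sum_univ_eq_sum_range (fun i => c m ^ i), ← (hcu m h).mul_left_eq_zero, geom_sum_mul]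
      rw [hc]
      simp only
      rw [← Units.val_pow_eq_pow_val, ← map_pow, inv_pow, hone, inv_one, map_one, Units.val_one,
        sub_self]
  have horth : ∀ i j : Fin (p - 1), (∑ m, c m ^ (i : ℕ) * c m⁻¹ ^ (j : ℕ)) =
      if i = j then ((p - 1 : ℕ) : R) else 0 := by
    intro i j
    split_ifs with h
    · subst h
      have : ∀ m, c m ^ (i : ℕ) * c m⁻¹ ^ (i : ℕ) = 1 := fun m => by
        rw [← mul_pow, ← hcm, mul_inv_cancel]; simp [hc]
      simp [this, hcard]
    · set ψ : G → R := fun m => c m ^ (i : ℕ) * c m⁻¹ ^ (j : ℕ) with hψ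
      have hψm : ∀ a b, ψ (a * b) = ψ a * ψ b := fun a b => by
        simp only [hψ, mul_inv, hcm, mul_pow]; ring
      have hne : g₀⁻¹ ^ (i : ℕ) * g₀ ^ (j : ℕ) ≠ 1 := by
        rw [inv_pow, Ne, inv_mul_eq_one]
        intro he
        exact h (Fin.ext (pow_injOn_Iio_orderOf (by simp [hord]) (by simp [hord]) he))
      have hψu : IsUnit (ψ g₀ - 1) := by
        have h2 := hχ _ hne
        rw [map_mul, map_pow, map_pow] at h2
        simpa [hψ, hc] using h2
      have h3 : ψ g₀ * ∑ m, ψ m = ∑ m, ψ m := by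
        rw [Finset.mul_sum, ← Equiv.sum_comp (Equiv.mulLeft g₀) ψ]
        exact Finset.sum_congr rfl fun m _ => (hψm g₀ m).symm
      exact hψu.mul_right_eq_zero.mp (by rw [sub_mul, h3, one_mul, sub_self])
  have hmul : ∀ i j : Fin (p - 1),
      (u • ∑ m, c m ^ (i : ℕ) • e m) * (u • ∑ m, c m ^ (j : ℕ) • e m) =
        (u * u * if i = j then ((p - 1 : ℕ) : R) else 0) • ∑ g, c g ^ (j : ℕ) • e g := by
    intro i j
    rw [smul_mul_smul_comm, mul_smul (u * u)]
    congr 1
    rw [Finset.sum_mul_sum, ← horth i j, Finset.sum_smul]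
    refine Finset.sum_congr rfl fun m _ => ?_
    rw [Finset.smul_sum, ← Equiv.sum_comp (Equiv.mulLeft m⁻¹)]
    refine Finset.sum_congr rfl fun g _ => ?_
    rw [Equiv.coe_mulLeft, smul_mul_smul_comm, smul_smul, hcm, mul_pow, mul_assoc]
    congr 1
    simp only [e, ← map_mul]
    exact congrArg _ (mul_inv_cancel_left m g)
  refine ⟨⟨fun i => ?_, fun i j hij => ?_⟩, ?_⟩
  · change (u • ∑ m, c m ^ (i : ℕ) • e m) * (u • ∑ m, c m ^ (i : ℕ) • e m) = u • ∑ m, c m ^ (i : ℕ) • e m
    rw [hmul, if_pos rfl, mul_assoc, hu, mul_one]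
  · change (u • ∑ m, c m ^ (i : ℕ) • e m) * (u • ∑ m, c m ^ (j : ℕ) • e m) = 0
    rw [hmul, if_neg hij, mul_zero, zero_smul]
  · change ∑ i : Fin (p - 1), (u • ∑ m, c m ^ (i : ℕ) • e m) = 1
    rw [← Finset.smul_sum, Finset.sum_comm]
    simp_rw [← Finset.sum_smul, hgeom, ite_smul, zero_smul]
    rw [Finset.sum_ite_eq' Finset.univ (1 : G), if_pos (Finset.mem_univ _), smul_smul, hu, one_smul]
    exact map_one (MonoidAlgebra.of R G)

end Groth.Agent.S18467
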