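import Groth.Statements.S18468
import Groth.Agent.OortTate.Eigen
-- import your own Groth.Agent.* helpers here

set_option autoImplicit false
universe u
open OortTate

namespace Groth.Agent.S18468


/-- Let p be a prime, R a commutative ring containing u with u(p − 1) = 1, and χ a homomorphism from the
units of ℤ/p to the units of R such that χ(m) − 1 is a unit for every m ≠ 1 (the situation of an
algebra over the subring Λ_p of the p-adic integers generated by the Teichmüller values and 1/(p(p −
1)), with χ the Teichmüller character, which is the published setting). Let A be a commutative Hopf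
algebra over R such that the p-th convolution power of the identity of A is the neutral element ε
followed by the unit (the affine group G = Spec A is killed by p), so that for a unit m of ℤ/p the
power map [m] of A depends only on m. For 0 ≤ i < p − 1 let I_i ⊆ A be the submodule of those f with
ε(f) = 0 and [m]f = χ(m)^i f for every m. Then the augmentation ideal ker ε is the internal direct
sum of the I_i (the family is independent and its supremum is ker ε), and each I_i is the image of
ker ε under the averaging operator u Σ_m χ(m)^{−i}[m]. (The published statement is for the Hopf
algebra of a group scheme of order p over a Λ_p-algebra, which is commutative and killed by p; the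
hypotheses here are what the argument uses.) -/
theorem result
    (p : ℕ) [Fact p.Prime] (R : Type u) [CommRing R] (u : R) (hu : u * ((p - 1 : ℕ) : R) = 1)
    (χ : (ZMod p)ˣ →* Rˣ) (hχ : ∀ m : (ZMod p)ˣ, m ≠ 1 → IsUnit ((χ m : R) - 1))
    (A : Type u) [CommRing A] [HopfAlgebra R A]
    (hp : (WithConv.toConv (AlgHom.id R A)) ^ p = 1) :
    iSupIndep (fun i : Fin (p - 1) => OortTate.eigenAug R A p χ (i : ℕ)) ∧
      (⨆ i : Fin (p - 1), OortTate.eigenAug R A p χ (i : ℕ)) =
        LinearMap.ker (Bialgebra.counitAlgHom R A).toLinearMap ∧
      ∀ i : Fin (p - 1), OortTate.eigenAug R A p χ (i : ℕ) =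
        Submodule.map (OortTate.proj R A p u χ (i : ℕ))
          (LinearMap.ker (Bialgebra.counitAlgHom R A).toLinearMap) := by
  exact ⟨Groth.Agent.OortTate.iSupIndep_eigenAug hu hχ, Groth.Agent.OortTate.iSup_eigenAug hu hχ hp,
    fun i => Groth.Agent.OortTate.eigenAug_eq_map hu hp i⟩

end Groth.Agent.S18468
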