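import Groth.Statements.S18470
import Mathlib
-- import your own Groth.Agent.* helpers here

set_option autoImplicit false
universe u v
open OortTate

namespace Groth.Agent.S18470

theorem aux {R : Type u} [CommRing R] {A : Type v} [CommRing A] [HopfAlgebra R A]
    [Module.Finite R A] [Module.Projective R A] :
    Function.Bijective (fun f : LinearMap.ker (Bialgebra.counitAlgHom R (CartDual.D R A)).toLinearMap =>
      ((CartDual.toDual R A) (f : CartDual.D R A)).comp
        (LinearMap.ker (Bialgebra.counitAlgHom R A).toLinearMap).subtype) := by
  let ε := (Bialgebra.counitAlgHom R A)
  let π : A →ₗ[R] LinearMap.ker ε.toLinearMap :=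
    (LinearMap.id - ε.toLinearMap.smulRight (1 : A)).codRestrict _ (fun a => by
      rw [LinearMap.mem_ker]
      simp only [LinearMap.sub_apply, LinearMap.id_apply, LinearMap.smulRight_apply,
        AlgHom.toLinearMap_apply, map_sub, map_smul, map_one, smul_eq_mul, mul_one, sub_self])
  have hπ : ∀ a, (π a : A) = a - ε a • (1 : A) := fun a => rfl
  constructor
  · intro f g h
    have hf : (f : CartDual.D R A).ofConv 1 = 0 := f.2
    have hg : (g : CartDual.D R A).ofConv 1 = 0 := g.2
    apply Subtype.ext
    apply WithConv.ext
    apply LinearMap.ext
    intro a
    have := LinearMap.congr_fun h (π a)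
    simp only [LinearMap.comp_apply, Submodule.subtype_apply, hπ, CartDual.toDual_apply, map_sub,
      map_smul, hf, hg, smul_zero, sub_zero] at this
    exact this
  · intro l
    refine ⟨⟨WithConv.toConv (l.comp π), ?_⟩, ?_⟩
    · rw [LinearMap.mem_ker, AlgHom.toLinearMap_apply, Bialgebra.counitAlgHom_apply,
        CartDual.coalgebra_counit_apply]
      show l (π 1) = 0
      rw [show π 1 = 0 from Subtype.ext (by rw [hπ, map_one, one_smul, sub_self]; rfl), map_zero]
    · apply LinearMap.ext
      intro a
      show l (π a) = l a
      congr 1
      apply Subtype.ext
      rw [hπ, show ε (a : A) = 0 from a.2, zero_smul, sub_zero]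


/-- Let R be a commutative ring and A a commutative Hopf algebra over R which is finitely generated and
projective as an R-module (a finite locally free group scheme G = Spec A, not assumed commutative),
and let A^D = Hom_R(A, R) be the dual algebra with its Hopf structure (the Cartier dual when A is
cocommutative), whose counit is evaluation at 1. Then restriction of linear forms to the
augmentation ideal I = ker ε_A of A is a bijection from the augmentation ideal of A^D onto the dual
module Hom_R(I, R): the dual of the augmentation ideal of G is the augmentation ideal of the dual.
The published statement is for a group scheme of order p over a Λ_p-algebra; the argument uses only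
the splitting A = R·1 ⊕ ker ε. -/
theorem result
    (R : Type u) [CommRing R] (A : Type v) [CommRing A] [HopfAlgebra R A]
    [Module.Finite R A] [Module.Projective R A] :
    Function.Bijective (fun f : LinearMap.ker (Bialgebra.counitAlgHom R (CartDual.D R A)).toLinearMap =>
      ((CartDual.toDual R A) (f : CartDual.D R A)).comp
        (LinearMap.ker (Bialgebra.counitAlgHom R A).toLinearMap).subtype) := by
  exact aux

end Groth.Agent.S18470
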