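import Groth.Statements.S18474
import Groth.Agent.OortTate.TensorAlg
-- import your own Groth.Agent.* helpers here

set_option autoImplicit false
universe u
open OortTate

namespace Groth.Agent.S18474


/-- Let p be a prime, R a commutative ring containing u with u(p − 1) = 1, and χ a homomorphism from the
units of ℤ/p to the units of R such that χ(m) − 1 is a unit for every m ≠ 1 (the situation of an
algebra over the subring Λ_p of the p-adic integers generated by the Teichmüller values and 1/(p(p −
1)), with χ the Teichmüller character, which is the published setting); assume moreover χ(m) ≡ m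
modulo pR for every m. Let A be a commutative Hopf algebra over R which is finitely generated and
projective as an R-module, of rank p at every prime of R (a group scheme of order p over Spec R; it
is commutative and killed by p, so that the power map [m] of A depends only on the unit m of ℤ/p),
and let I_1 ⊆ A be the submodule of those f with ε(f) = 0 and [m]f = χ(m)f for every unit m of ℤ/p
(an invertible R-module, with I_1^p ⊆ I_1). Then the R-algebra homomorphism from the tensor algebra
of I_1 to A extending the inclusion I_1 ⊆ A is surjective, and its kernel is the ideal generated by
the elements ι(x_1)⋯ι(x_p) − ι(g) with x_1, …, x_p, g ∈ I_1 and g = x_1⋯x_p in A. (The source states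
this for the symmetric algebra of I_1; for an invertible module the tensor algebra is commutative
and is its symmetric algebra.) The published argument obtains commutativity and p-torsion of G over
a locally Noetherian base; this row allows any commutative ring R, over which both still hold. -/
theorem result
    (p : ℕ) [Fact p.Prime] (R : Type u) [CommRing R] (u : R) (hu : u * ((p - 1 : ℕ) : R) = 1)
    (χ : (ZMod p)ˣ →* Rˣ) (hχ : ∀ m : (ZMod p)ˣ, m ≠ 1 → IsUnit ((χ m : R) - 1))
    (hχp : ∀ m : (ZMod p)ˣ, ((χ m : Rˣ) : R) - (((m : ZMod p).val : ℕ) : R) ∈ Ideal.span ({(p : R)} : Set R))
    (A : Type u) [CommRing A] [HopfAlgebra R A] [Module.Finite R A] [Module.Projective R A]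
    (hrk : ∀ q : PrimeSpectrum R, Module.rankAtStalk A q = p) :
    Function.Surjective (TensorAlgebra.lift R (OortTate.eigenAug R A p χ 1).subtype) ∧
      RingHom.ker (TensorAlgebra.lift R (OortTate.eigenAug R A p χ 1).subtype) =
        Ideal.span {x : TensorAlgebra R (OortTate.eigenAug R A p χ 1) |
          ∃ (f : Fin p → OortTate.eigenAug R A p χ 1) (g : OortTate.eigenAug R A p χ 1),
            (g : A) = ∏ i, (f i : A) ∧
            x = (List.ofFn fun i => TensorAlgebra.ι R (f i)).prod - TensorAlgebra.ι R g} := by
  exact Groth.Agent.OortTate.tensorAlgebra_presentation hu hχ hχp hrk

end Groth.Agent.S18474
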