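import Groth.Statements.S18476
import Mathlib.RingTheory.PowerSeries.WeierstrassPreparation
import Mathlib.LinearAlgebra.Dimension.StrongRankCondition
-- import your own Groth.Agent.* helpers here

set_option autoImplicit false
universe u
open FmlGrp

namespace Groth.Agent.S18476

section Helpers
open PowerSeries

variable {O : Type u} [CommRing O]

/-- the shifted series -/
noncomputable def shift (c : O⟦X⟧) : O⟦X⟧ := PowerSeries.mk fun j => PowerSeries.coeff (j + 1) c

theorem subst_split {f : O⟦X⟧} (hf : PowerSeries.HasSubst f) (c : O⟦X⟧) :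
    PowerSeries.subst f c = PowerSeries.C (PowerSeries.constantCoeff c) + f * PowerSeries.subst f (shift c) := by
  conv_lhs => rw [PowerSeries.eq_X_mul_shift_add_const c]
  rw [PowerSeries.subst_add hf, PowerSeries.subst_mul hf, PowerSeries.subst_X hf, PowerSeries.subst_C, add_comm]
  rfl

/-- `∑ c_i(f) X^i` -/
noncomputable def comb (f : O⟦X⟧) {n : ℕ} (c : Fin n → O⟦X⟧) : O⟦X⟧ :=
  ∑ i, PowerSeries.subst f (c i) * PowerSeries.X ^ (i : ℕ)

/-- the polynomial of constant terms -/
noncomputable def const {n : ℕ} (c : Fin n → O⟦X⟧) : Polynomial O :=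
  ∑ i, Polynomial.C (PowerSeries.constantCoeff (c i)) * Polynomial.X ^ (i : ℕ)

theorem comb_split {f : O⟦X⟧} (hf : PowerSeries.HasSubst f) {n : ℕ} (c : Fin n → O⟦X⟧) :
    comb f c = f * comb f (fun i => shift (c i)) + (const c : O⟦X⟧) := by
  have e : (const c : O⟦X⟧) = ∑ i, PowerSeries.C (PowerSeries.constantCoeff (c i)) * PowerSeries.X ^ (i : ℕ) := by
    rw [const, ← Polynomial.coeToPowerSeries.ringHom_apply, map_sum]
    simp [Polynomial.coeToPowerSeries.ringHom_apply]
  rw [e, comb, comb, Finset.mul_sum, ← Finset.sum_add_distrib]
  refine Finset.sum_congr rfl fun i _ => ?_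
  rw [subst_split hf (c i)]; ring

theorem const_coeff {n : ℕ} (c : Fin n → O⟦X⟧) (i : Fin n) :
    (const c).coeff i = PowerSeries.constantCoeff (c i) := by
  classical
  rw [const, Polynomial.finsetSum_coeff, Finset.sum_eq_single i]
  · rw [Polynomial.coeff_C_mul_X_pow, if_pos rfl]
  · intro j _ hji
    rw [Polynomial.coeff_C_mul_X_pow, if_neg fun h => hji (Fin.ext h.symm)]
  · simp

theorem degree_const_lt {n : ℕ} (c : Fin n → O⟦X⟧) : (const c).degree < (n : WithBot ℕ) :=
  Polynomial.degree_sum_fin_lt fun i => PowerSeries.constantCoeff (c i)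

variable [IsLocalRing O] [IsAdicComplete (IsLocalRing.maximalIdeal O) O]
  {f : O⟦X⟧} (hf0 : PowerSeries.constantCoeff f = 0) (hres : f.map (IsLocalRing.residue O) ≠ 0)

include hf0 hres in
theorem existsUnique_comb (g : O⟦X⟧) :
    ∃! c : Fin (f.map (IsLocalRing.residue O)).order.toNat → O⟦X⟧, g = comb f c := by
  set n := (f.map (IsLocalRing.residue O)).order.toNat
  have hf : PowerSeries.HasSubst f := PowerSeries.HasSubst.of_constantCoeff_zero' hf0
  let gs : ℕ → O⟦X⟧ := fun j => Nat.rec g (fun _ x => x /ʷ f) j
  let c : ℕ → Fin n → O⟦X⟧ := fun j i => PowerSeries.mk fun l => (gs (j + l) %ʷ f).coeff i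
  have hshift : ∀ j, (fun i => shift (c j i)) = c (j + 1) := fun j => funext fun i => PowerSeries.ext fun l => by
    simp [shift, c, Nat.add_assoc, Nat.add_comm 1 l]
  have hconst : ∀ j, const (c j) = gs j %ʷ f := by
    intro j
    ext l
    by_cases hl : l < n
    · rw [show l = ((⟨l, hl⟩ : Fin n) : ℕ) from rfl, const_coeff]
      simp [c]
    · rw [Polynomial.coeff_eq_zero_of_degree_lt, Polynomial.coeff_eq_zero_of_degree_lt]
      · exact (PowerSeries.degree_weierstrassMod_lt _ _).trans_le (by exact_mod_cast Nat.le_of_not_lt hl)
      · exact (degree_const_lt _).trans_le (by exact_mod_cast Nat.le_of_not_lt hl)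
  have hdvd : ∀ M j, f ^ M ∣ gs j - comb f (c j) := by
    intro M
    induction M with
    | zero => intro j; simp
    | succ M ih =>
      intro j
      obtain ⟨w, hw⟩ := ih (j + 1)
      refine ⟨w, ?_⟩
      rw [comb_split hf (c j), hshift, hconst, pow_succ']
      conv_lhs => arg 1; rw [PowerSeries.eq_mul_weierstrassDiv_add_weierstrassMod (gs j) hres]
      rw [mul_assoc, ← hw]
      ring
  refine ⟨c 0, sub_eq_zero.mp (PowerSeries.ext fun d => ?_), fun c' hc' => ?_⟩
  · obtain ⟨w, hw⟩ := hdvd (d + 1) 0
    obtain ⟨v, hv⟩ := PowerSeries.X_dvd_iff.mpr hf0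
    show PowerSeries.coeff d (gs 0 - comb f (c 0)) = PowerSeries.coeff d 0
    rw [hw, hv, mul_pow, mul_assoc, PowerSeries.coeff_X_pow_mul', if_neg (by omega), map_zero]
  · have key : ∀ (l : ℕ) (a b : Fin n → O⟦X⟧), comb f a = comb f b →
        ∀ i, PowerSeries.coeff l (a i) = PowerSeries.coeff l (b i) := by
      intro l
      induction l with
      | zero =>
        intro a b hab i
        rw [comb_split hf a, comb_split hf b] at hab
        have h1 : (comb f a).IsWeierstrassDivision f (comb f fun i => shift (a i)) (const a) :=
          ⟨degree_const_lt a, comb_split hf a⟩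
        have h2 : (comb f a).IsWeierstrassDivision f (comb f fun i => shift (b i)) (const b) :=
          ⟨degree_const_lt b, (comb_split hf a).trans hab⟩
        have h3 := (h1.elim hres h2).2
        simpa [const_coeff] using congrArg (fun q : Polynomial O => q.coeff i) h3
      | succ l ih =>
        intro a b hab i
        have h1 : (comb f a).IsWeierstrassDivision f (comb f fun i => shift (a i)) (const a) :=
          ⟨degree_const_lt a, comb_split hf a⟩
        have h2 : (comb f a).IsWeierstrassDivision f (comb f fun i => shift (b i)) (const b) :=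
          ⟨degree_const_lt b, hab.trans (comb_split hf b)⟩
        have h3 := ih _ _ (h1.elim hres h2).1 i
        simpa [shift] using h3
    funext i
    refine PowerSeries.ext fun l => key l c' (c 0) (hc'.symm.trans ?_) i
    exact sub_eq_zero.mp (PowerSeries.ext fun d => by
      obtain ⟨w, hw⟩ := hdvd (d + 1) 0
      obtain ⟨v, hv⟩ := PowerSeries.X_dvd_iff.mpr hf0
      show PowerSeries.coeff d (gs 0 - comb f (c 0)) = PowerSeries.coeff d 0
      rw [hw, hv, mul_pow, mul_assoc, PowerSeries.coeff_X_pow_mul', if_neg (by omega), map_zero])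

end Helpers

/-- Let O be a complete discrete valuation ring whose maximal ideal m contains the prime number p, and
let F be a one-dimensional formal group law over O, with multiplication-by-p series f = [p]_F(X) = X
+_F ⋯ +_F X ∈ O[[X]]. Then f has a coefficient outside m (f is not ≡ 0 mod m) if and only if F is
p-divisible in the sense that O[[X]] is free of finite rank over itself through the substitution
endomorphism X ↦ f: there are finitely many power series b_1, …, b_n such that every power series g
can be written uniquely as Σ_i c_i(f(X))·b_i. (The published statement asserts instead that F is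
p-divisible iff F does not reduce to X + Y modulo m; that is false — over the p-adic integers the
law φ⁻¹(φ(X) + φ(Y)) with φ = X + X^{p+1} is not congruent to X + Y modulo p, yet its
multiplication-by-p series φ⁻¹(pφ(X)) vanishes modulo p — and the printed proof establishes exactly
the criterion on f stated here.) The published setting is the valuation ring of a finite extension
of ℚ_p; the argument uses only that O is a complete discrete valuation ring with p in its maximal
ideal. -/
theorem result
    (O : Type u) [CommRing O] [IsDomain O] [IsDiscreteValuationRing O]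
    [IsAdicComplete (IsLocalRing.maximalIdeal O) O]
    (p : ℕ) [Fact p.Prime] (hp : (p : O) ∈ IsLocalRing.maximalIdeal O)
    (F : FormalGroup O) :
    (∃ n : ℕ, PowerSeries.coeff n
        ((p • (show F.Point Unit from ⟨PowerSeries.X, PowerSeries.HasSubst.X'⟩)).val) ∉
          IsLocalRing.maximalIdeal O) ↔
      ∃ (n : ℕ) (b : Fin n → PowerSeries O), ∀ g : PowerSeries O, ∃! c : Fin n → PowerSeries O,
        g = ∑ i, PowerSeries.subst
          ((p • (show F.Point Unit from ⟨PowerSeries.X, PowerSeries.HasSubst.X'⟩)).val) (c i) * b i := by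
  classical
  set P := p • (show F.Point Unit from ⟨PowerSeries.X, PowerSeries.HasSubst.X'⟩)
  set f : PowerSeries O := P.val
  have hf : PowerSeries.HasSubst f := P.prop
  have hf0 : PowerSeries.constantCoeff f = 0 := IsNilpotent.eq_zero P.prop
  constructor
  · rintro ⟨d, hd⟩
    have hres : f.map (IsLocalRing.residue O) ≠ 0 := fun h => hd (by
      have := congrArg (PowerSeries.coeff d) h
      rwa [PowerSeries.coeff_map, map_zero, IsLocalRing.residue_eq_zero_iff] at this)
    exact ⟨_, fun i => PowerSeries.X ^ (i : ℕ), existsUnique_comb hf0 hres⟩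
  · rintro ⟨n, b, hb⟩
    by_contra! hall
    have hmap : f.map (IsLocalRing.residue O) = 0 := PowerSeries.ext fun d => by
      rw [PowerSeries.coeff_map, map_zero, IsLocalRing.residue_eq_zero_iff]
      exact hall d
    let S : Set (PowerSeries (IsLocalRing.ResidueField O)) := Set.range fun i => (b i).map (IsLocalRing.residue O)
    let v : Fin (n + 1) → PowerSeries (IsLocalRing.ResidueField O) := fun j => PowerSeries.X ^ (j : ℕ)
    have hli : LinearIndependent (IsLocalRing.ResidueField O) v := by
      rw [Fintype.linearIndependent_iff]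
      intro g hg j
      have h := congrArg (PowerSeries.coeff (j : ℕ)) hg
      rw [map_sum, Finset.sum_eq_single j] at h
      · simpa [v] using h
      · intro i _ hij
        simp [v, PowerSeries.coeff_X_pow, Fin.val_injective.ne hij.symm]
      · simp
    have hspan : Set.range v ⊆ Submodule.span (IsLocalRing.ResidueField O) S := by
      rintro _ ⟨j, rfl⟩
      obtain ⟨c, hc, -⟩ := hb (PowerSeries.X ^ (j : ℕ))
      have hv : v j = ∑ i, IsLocalRing.residue O (PowerSeries.constantCoeff (c i)) • (b i).map (IsLocalRing.residue O) := by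
        have h := congrArg (PowerSeries.map (IsLocalRing.residue O)) hc
        rw [map_pow, PowerSeries.map_X, map_sum] at h
        refine h.trans (Finset.sum_congr rfl fun i _ => ?_)
        rw [map_mul, subst_split hf (c i), map_add, map_mul, hmap, zero_mul, add_zero, PowerSeries.map_C,
          PowerSeries.smul_eq_C_mul]
      rw [hv]
      exact Submodule.sum_mem _ fun i _ => Submodule.smul_mem _ _ (Submodule.subset_span ⟨i, rfl⟩)
    have h1 := linearIndependent_le_span' v hli S hspan
    have h2 : Cardinal.mk (Fin (n + 1)) ≤ (Fintype.card S : Cardinal) := h1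
    rw [Cardinal.mk_fin] at h2
    have h3 : Fintype.card S ≤ n := (Fintype.card_range_le _).trans_eq (Fintype.card_fin n)
    have h4 : n + 1 ≤ Fintype.card S := by exact_mod_cast h2
    omega

end Groth.Agent.S18476
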