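import Groth.Statements.S18479
import Groth.Agent.OortTate.OrderTwo
-- import your own Groth.Agent.* helpers here

set_option autoImplicit false
universe u v
open scoped TensorProduct
open OortTate

namespace Groth.Agent.S18479

theorem aux {R : Type u} [CommRing R] {A : Type v} [CommRing A] [HopfAlgebra R A]
    (x : A) (hx : Bialgebra.counitAlgHom R A x = 0)
    (hgen : ∀ f : A, Bialgebra.counitAlgHom R A f = 0 → ∃ r : R, f = r • x)
    (hfree : ∀ r : R, r • x = 0 → r = 0) :
    ∃ a b : R, x * x = a • x ∧
      Bialgebra.comulAlgHom R A x = x ⊗ₜ[R] 1 + 1 ⊗ₜ[R] x + b • (x ⊗ₜ[R] x) ∧ a * b = -2 := by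
  obtain ⟨c, hc1, hcx, hc⟩ := Groth.Agent.OortTate.OrderTwo.exists_coord hx hgen hfree
  obtain ⟨a, ha⟩ := hgen (x * x) (by rw [map_mul, hx, mul_zero])
  have hx' : Coalgebra.counit (R := R) x = 0 := by simpa using hx
  set b := LinearMap.mul' R R (TensorProduct.map c c (Coalgebra.comul (R := R) x)) with hb
  have hΔ : Coalgebra.comul (R := R) x = x ⊗ₜ[R] 1 + 1 ⊗ₜ[R] x + b • (x ⊗ₜ[R] x) := by
    have hd := Groth.Agent.OortTate.OrderTwo.tensor_decomp c hc (Coalgebra.comul (R := R) x)
    rw [Coalgebra.rTensor_counit_comul, Coalgebra.lTensor_counit_comul, TensorProduct.lid_tmul,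
      TensorProduct.rid_tmul, one_smul] at hd
    have h2 : LinearMap.mul' R R (TensorProduct.map (Coalgebra.counit (R := R)) Coalgebra.counit
        (Coalgebra.comul (R := R) x)) = 0 := by
      have := Coalgebra.rTensor_counit_comul (R := R) x
      have h3 : TensorProduct.map (Coalgebra.counit (R := R)) (Coalgebra.counit (R := R) (A := A))
          (Coalgebra.comul (R := R) x) =
          (Coalgebra.counit (R := R) (A := A)).lTensor R ((1 : R) ⊗ₜ[R] x) := by
        rw [← this, ← LinearMap.lTensor_comp_rTensor, LinearMap.comp_apply]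
      rw [h3, LinearMap.lTensor_tmul, LinearMap.mul'_apply, hx', mul_zero]
    rw [h2, zero_smul, sub_zero, ← hb] at hd
    rw [hd]; abel
  refine ⟨a, b, ha, by simpa using hΔ, ?_⟩
  -- the antipode
  obtain ⟨s, hs⟩ := hgen (HopfAlgebra.antipode R x) (by simpa using hx')
  have hS := HopfAlgebra.mul_antipode_rTensor_comul_apply (R := R) x
  rw [hΔ, hx', map_zero] at hS
  simp only [map_add, map_smul, LinearMap.rTensor_tmul, LinearMap.mul'_apply,
    HopfAlgebra.antipode_one, mul_one, one_mul, hs, smul_mul_assoc, ha, smul_smul] at hS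
  have h1 : (s + b * (s * a)) + 1 = 0 := by
    apply hfree
    rw [← hS]; module
  -- the square
  have hsq := congrArg (Bialgebra.comulAlgHom R A) ha
  simp only [map_mul, map_smul, Bialgebra.comulAlgHom_apply, hΔ] at hsq
  have hγ := congrArg (fun t => LinearMap.mul' R R (TensorProduct.map c c t)) hsq
  simp only [add_mul, mul_add, Algebra.TensorProduct.tmul_mul_tmul, mul_one, one_mul, smul_mul_assoc,
    mul_smul_comm, ha, TensorProduct.smul_tmul', TensorProduct.tmul_smul, map_add, map_smul,
    TensorProduct.map_tmul, LinearMap.mul'_apply, hc1, hcx, smul_eq_mul] at hγ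
  have h2 : (1 + a * b) * (2 + a * b) = 0 := by linear_combination hγ
  linear_combination (-s) * h2 + (2 + a * b) * h1


/-- Let R be a commutative ring and A a commutative Hopf algebra over R whose augmentation ideal ker ε
is a free R-module of rank one with generator x (this is the situation of a group scheme of order 2
over a local ring: A free of rank 2, so ker ε is free of rank 1). Then there are a, b ∈ R with x² =
a·x, Δ(x) = x ⊗ 1 + 1 ⊗ x + b·(x ⊗ x), and ab = −2; thus A is the Hopf algebra R[T]/(T² − aT) with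
comultiplication T ↦ T ⊗ 1 + 1 ⊗ T + b T ⊗ T. (The copy works over a Noetherian local ring to get
freeness; the computation uses only that ker ε is free on x.) -/
theorem result
    (R : Type u) [CommRing R] (A : Type v) [CommRing A] [HopfAlgebra R A]
    (x : A) (hx : Bialgebra.counitAlgHom R A x = 0)
    (hgen : ∀ f : A, Bialgebra.counitAlgHom R A f = 0 → ∃ r : R, f = r • x)
    (hfree : ∀ r : R, r • x = 0 → r = 0) :
    ∃ a b : R, x * x = a • x ∧
      Bialgebra.comulAlgHom R A x = x ⊗ₜ[R] 1 + 1 ⊗ₜ[R] x + b • (x ⊗ₜ[R] x) ∧ a * b = -2 := by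
  exact aux x hx hgen hfree

end Groth.Agent.S18479
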