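import Groth.Statements.S1848
import Groth.Agent.MilnorKLambda.Tame1.Laws

set_option autoImplicit false
universe u
open CycAlg

namespace Groth.Agent.S1848

/-- For a Noetherian local ring A of dimension 1, the tame symbol ∂ on pairs of nonzerodivisors of A
takes nonzero values, is multiplicative in each variable, satisfies ∂(b, b) = (−1)^m and ∂(u, b) =
ū^m for a unit u (ū its image in the residue field), where m = length_A(A/bA), and satisfies ∂(a, b
− a) ∂(b, b) = ∂(b, b − a) ∂(a, b) whenever a, b and b − a are nonzerodivisors. -/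
theorem result (A : Type u) [CommRing A] [IsNoetherianRing A] [IsLocalRing A] (hA : ringKrullDim A = 1) : (∀ a b : A, a ∈ nonZeroDivisors A → b ∈ nonZeroDivisors A → CycAlg.tameSymbol A a b ≠ 0) ∧ (∀ a a' b : A, a ∈ nonZeroDivisors A → a' ∈ nonZeroDivisors A → b ∈ nonZeroDivisors A → CycAlg.tameSymbol A (a * a') b = CycAlg.tameSymbol A a b * CycAlg.tameSymbol A a' b ∧ CycAlg.tameSymbol A b (a * a') = CycAlg.tameSymbol A b a * CycAlg.tameSymbol A b a') ∧ (∀ b : A, b ∈ nonZeroDivisors A → CycAlg.tameSymbol A b b = (-1) ^ (Module.length A (A ⧸ Ideal.span {b})).toNat) ∧ (∀ (c : Aˣ) (b : A), b ∈ nonZeroDivisors A → CycAlg.tameSymbol A (c : A) b = IsLocalRing.residue A (c : A) ^ (Module.length A (A ⧸ Ideal.span {b})).toNat) ∧ (∀ a b : A, a ∈ nonZeroDivisors A → b ∈ nonZeroDivisors A → b - a ∈ nonZeroDivisors A → CycAlg.tameSymbol A a (b - a) * CycAlg.tameSymbol A b b = CycAlg.tameSymbol A b (b - a) * CycAlg.tameSymbol A a b) := by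
  have : Ring.KrullDimLE 1 A := (Ring.krullDimLE_iff).2 hA.le
  exact ⟨fun a b ha hb => Groth.MilnorKLambda.Amb.tameSymbol_ne_zero ha hb,
    fun a a' b ha ha' hb => Groth.MilnorKLambda.Amb.tameSymbol_mul ha ha' hb,
    fun b hb => Groth.MilnorKLambda.Amb.tameSymbol_self hb,
    fun c b hb => Groth.MilnorKLambda.Amb.tameSymbol_unit_left c hb,
    fun a b ha hb hab => Groth.MilnorKLambda.Amb.tameSymbol_steinberg ha hb hab⟩

end Groth.Agent.S1848
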