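import Groth.Statements.S18480
import Groth.Agent.OortTate.OrderTwo
-- import your own Groth.Agent.* helpers here

set_option autoImplicit false
universe u v
open scoped TensorProduct
open OortTate

namespace Groth.Agent.S18480

open Groth.Agent.OortTate.OrderTwo in
theorem backward {R : Type u} [CommRing R] {A A' : Type v} [CommRing A] [HopfAlgebra R A]
    [CommRing A'] [HopfAlgebra R A'] {x : A} {x' : A'}
    (hx : Bialgebra.counitAlgHom R A x = 0)
    (hgen : ∀ f : A, Bialgebra.counitAlgHom R A f = 0 → ∃ r : R, f = r • x)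
    (hfree : ∀ r : R, r • x = 0 → r = 0)
    (hx' : Bialgebra.counitAlgHom R A' x' = 0)
    (hgen' : ∀ f : A', Bialgebra.counitAlgHom R A' f = 0 → ∃ r : R, f = r • x')
    (hfree' : ∀ r : R, r • x' = 0 → r = 0)
    {a b a' b' : R} (hxa : x * x = a • x)
    (hxb : Bialgebra.comulAlgHom R A x = x ⊗ₜ[R] 1 + 1 ⊗ₜ[R] x + b • (x ⊗ₜ[R] x))
    (hxa' : x' * x' = a' • x')
    (hxb' : Bialgebra.comulAlgHom R A' x' = x' ⊗ₜ[R] 1 + 1 ⊗ₜ[R] x' + b' • (x' ⊗ₜ[R] x'))
    (s : Rˣ) (hs : a = a' * (s : R)) (hs' : b' = b * (s : R)) : Nonempty (A ≃ₐc[R] A') := by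
  obtain ⟨c, hc1, hcx, hc⟩ := exists_coord hx hgen hfree
  obtain ⟨c', hc1', hcx', hc'⟩ := exists_coord hx' hgen' hfree'
  let ε := (Bialgebra.counitAlgHom R A).toLinearMap
  let l : A →ₗ[R] A' := ε.smulRight (1 : A') + c.smulRight ((s : R) • x')
  have hl : ∀ f, l f = Bialgebra.counitAlgHom R A f • (1 : A') + c f • ((s : R) • x') := fun f => rfl
  have h1 : l 1 = 1 := by rw [hl, map_one, hc1, one_smul, zero_smul, add_zero]
  have hlx : l x = (s : R) • x' := by rw [hl, hx, hcx, zero_smul, one_smul, zero_add]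
  have hmul : ∀ f g, l (f * g) = l f * l g := by
    intro f g
    conv_lhs => rw [hc f, hc g]
    rw [hl f, hl g]
    simp only [mul_add, add_mul, smul_mul_assoc, mul_smul_comm, one_mul, mul_one, hxa, hxa',
      map_add, map_smul, h1, hlx, smul_smul, hs]
    module
  let e : A →ₐ[R] A' := AlgHom.ofLinearMap l h1 hmul
  have he : ∀ f, e f = l f := fun f => rfl
  have hinj : Function.Injective e := by
    rw [injective_iff_map_eq_zero]
    intro f hf
    rw [he, hl] at hf
    have h0 := congrArg (Bialgebra.counitAlgHom R A') hf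
    simp only [map_add, map_smul, map_one, map_zero, hx', smul_eq_mul, mul_one, mul_zero,
      add_zero] at h0
    rw [h0, zero_smul, zero_add, smul_smul] at hf
    rw [hc f, h0, (Units.mul_left_eq_zero s).1 (hfree' _ hf)]
    simp
  have hsurj : Function.Surjective e := by
    intro g
    refine ⟨Bialgebra.counitAlgHom R A' g • (1 : A) + (c' g * ((s⁻¹ : Rˣ) : R)) • x, ?_⟩
    rw [he, map_add, map_smul, map_smul, h1, hlx, smul_smul, mul_assoc, ← Units.val_mul,
      inv_mul_cancel, Units.val_one, mul_one]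
    exact (hc' g).symm
  refine ⟨BialgEquiv.ofAlgEquiv (AlgEquiv.ofBijective e ⟨hinj, hsurj⟩) ?_ ?_⟩
  · ext f
    show Bialgebra.counitAlgHom R A' (l f) = _
    rw [hl, map_add, map_smul, map_smul, map_smul, map_one, hx']
    simp
  · ext f
    show Algebra.TensorProduct.map e e (Bialgebra.comulAlgHom R A f) =
      Bialgebra.comulAlgHom R A' (l f)
    rw [hl f]
    conv_lhs => rw [hc f]
    simp only [map_add, map_smul, map_one, hxb, hxb', Algebra.TensorProduct.map_tmul, he, h1, hlx,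
      smul_smul, ← TensorProduct.smul_tmul', TensorProduct.tmul_smul, hs', smul_add]
    module

open Groth.Agent.OortTate.OrderTwo in
theorem forward {R : Type u} [CommRing R] {A A' : Type v} [CommRing A] [HopfAlgebra R A]
    [CommRing A'] [HopfAlgebra R A'] {x : A} {x' : A'}
    (hx : Bialgebra.counitAlgHom R A x = 0)
    (hgen : ∀ f : A, Bialgebra.counitAlgHom R A f = 0 → ∃ r : R, f = r • x)
    (hfree : ∀ r : R, r • x = 0 → r = 0)
    (hx' : Bialgebra.counitAlgHom R A' x' = 0)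
    (hgen' : ∀ f : A', Bialgebra.counitAlgHom R A' f = 0 → ∃ r : R, f = r • x')
    (hfree' : ∀ r : R, r • x' = 0 → r = 0)
    {a b a' b' : R} (hxa : x * x = a • x)
    (hxb : Bialgebra.comulAlgHom R A x = x ⊗ₜ[R] 1 + 1 ⊗ₜ[R] x + b • (x ⊗ₜ[R] x))
    (hxa' : x' * x' = a' • x')
    (hxb' : Bialgebra.comulAlgHom R A' x' = x' ⊗ₜ[R] 1 + 1 ⊗ₜ[R] x' + b' • (x' ⊗ₜ[R] x'))
    (e : A ≃ₐc[R] A') : ∃ s : Rˣ, a = a' * (s : R) ∧ b' = b * (s : R) := by
  obtain ⟨c', hc1', hcx', hc'⟩ := exists_coord hx' hgen' hfree'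
  have hεe : ∀ f, Bialgebra.counitAlgHom R A' (e f) = Bialgebra.counitAlgHom R A f := fun f => by
    simp
  obtain ⟨t, ht⟩ := hgen' (e x) (by rw [hεe, hx])
  obtain ⟨t', ht'⟩ := hgen (e.symm x') (by rw [← hεe, BialgEquiv.apply_symm_apply, hx'])
  have htt : t * t' = 1 := by
    apply smul_inj hfree'
    have h := congrArg e ht'
    rw [BialgEquiv.apply_symm_apply, map_smul, ht, smul_smul] at h
    rw [one_smul, mul_comm, ← h]
  refine ⟨Units.mkOfMulEqOne _ _ htt, ?_, ?_⟩ <;> simp only [Units.val_mkOfMulEqOne]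
  · have h := congrArg e hxa
    rw [map_mul, map_smul, ht, smul_mul_smul_comm, hxa', smul_smul, smul_smul] at h
    have h2 := smul_inj hfree' h
    linear_combination (-t') * h2 + (a' * t - a) * htt
  · obtain ⟨E, hE, h⟩ : ∃ E : A →ₗ[R] A', (∀ f, E f = e f) ∧
        Bialgebra.comulAlgHom R A' (e x) = TensorProduct.map E E (Bialgebra.comulAlgHom R A x) :=
      ⟨_, fun _ => rfl, (CoalgHomClass.map_comp_comul_apply e x).symm⟩
    rw [ht, map_smul, hxb', hxb] at h
    have h2 := congrArg (fun z => LinearMap.mul' R R (TensorProduct.map c' c' z)) h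
    simp only [map_add, map_smul, TensorProduct.map_tmul, hE, map_one, ht,
      LinearMap.mul'_apply, hc1', hcx', smul_eq_mul] at h2
    linear_combination t' * h2 + (b * t - b') * htt


/-- Let R be a commutative ring and let A and A' be commutative Hopf algebras over R whose augmentation
ideals are free of rank one with generators x and x', with constants a, b and a', b' ∈ R such that
x² = a x, Δ(x) = x ⊗ 1 + 1 ⊗ x + b x ⊗ x and x'² = a' x', Δ(x') = x' ⊗ 1 + 1 ⊗ x' + b' x' ⊗ x' (the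
group schemes of order two G_{a,b} and G_{a',b'}). Then A and A' are isomorphic as bialgebras over R
(G_{a,b} ≅ G_{a',b'} as group schemes) if and only if there is a unit s of R with a = a'·s and b' =
b·s. -/
theorem result
    (R : Type u) [CommRing R] (A : Type v) [CommRing A] [HopfAlgebra R A]
    (x : A) (hx : Bialgebra.counitAlgHom R A x = 0)
    (hgen : ∀ f : A, Bialgebra.counitAlgHom R A f = 0 → ∃ r : R, f = r • x)
    (hfree : ∀ r : R, r • x = 0 → r = 0)
    (a b : R) (hxa : x * x = a • x)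
    (hxb : Bialgebra.comulAlgHom R A x = x ⊗ₜ[R] 1 + 1 ⊗ₜ[R] x + b • (x ⊗ₜ[R] x))
    (A' : Type v) [CommRing A'] [HopfAlgebra R A']
    (x' : A') (hx' : Bialgebra.counitAlgHom R A' x' = 0)
    (hgen' : ∀ f : A', Bialgebra.counitAlgHom R A' f = 0 → ∃ r : R, f = r • x')
    (hfree' : ∀ r : R, r • x' = 0 → r = 0)
    (a' b' : R) (hxa' : x' * x' = a' • x')
    (hxb' : Bialgebra.comulAlgHom R A' x' = x' ⊗ₜ[R] 1 + 1 ⊗ₜ[R] x' + b' • (x' ⊗ₜ[R] x')) :
    Nonempty (A ≃ₐc[R] A') ↔ ∃ s : Rˣ, a = a' * (s : R) ∧ b' = b * (s : R) := by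
  exact ⟨fun ⟨e⟩ => forward hx hgen hfree hx' hgen' hfree' hxa hxb hxa' hxb' e,
    fun ⟨s, h1, h2⟩ => backward hx hgen hfree hx' hgen' hfree' hxa hxb hxa' hxb' s h1 h2⟩

end Groth.Agent.S18480
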