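import Groth.Statements.S18483
import Groth.Agent.NeronArea.WeilExtensionBase


set_option autoImplicit false
universe u
open CategoryTheory CategoryTheory.Limits AlgebraicGeometry MonObj
open Neron

namespace Groth.Agent.S18483

/-- Let R be a Dedekind domain with fraction field K and N a proper smooth group scheme over Spec R,
with no connectedness condition on its fibres. Then N is a Néron model of its generic fibre N_K: N
is smooth, separated and of finite type over Spec R, and for every smooth Spec R-scheme Y
restriction to generic fibres is a bijection from R-morphisms Y → N onto K-morphisms Y_K → N_K. (The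
source allows any connected Dedekind scheme as base; the affine case is stated.) -/
theorem result (R : Type u) [CommRing R] [IsDedekindDomain R]
    (N : Over (Spec (CommRingCat.of R))) [GrpObj N] [IsProper N.hom] [Smooth N.hom] :
    Neron.IsNeronModelOf R N ((Neron.genericFibre R).obj N) (Iso.refl _) := by
  refine ⟨inferInstance, inferInstance, inferInstance, inferInstance, fun Y hY => ?_⟩
  refine ⟨fun a b h => ?_, fun v => ?_⟩
  · have h1 : (Neron.genericFibre R).map a = (Neron.genericFibre R).map b := by
      simpa using h
    ext : 1
    refine Groth.NeronArea.Weil.eq_of_generic (FractionRing R) Y.hom N.hom a.left b.left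
      ((Over.w a).trans (Over.w b).symm) ?_
    have := congrArg (fun k => k.left ≫ pullback.fst N.hom _) h1
    dsimp [Neron.genericFibre] at this
    erw [pullback.lift_fst, pullback.lift_fst] at this
    exact this
  · haveI : GrpObj (Over.mk N.hom) := ‹GrpObj N›
    obtain ⟨g, ⟨hg1, hg2⟩, -⟩ := Groth.NeronArea.Weil.existsUnique_extension_generic (FractionRing R) Y.hom N.hom
      (v.left ≫ pullback.fst N.hom _) (by
        rw [Category.assoc, pullback.condition]
        have := Over.w v
        dsimp [Neron.genericFibre] at this
        rw [reassoc_of% this, ← pullback.condition])
    refine ⟨Over.homMk g hg1, ?_⟩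
    ext : 1
    simp only [Iso.refl_hom, Category.comp_id]
    apply pullback.hom_ext
    · dsimp [Neron.genericFibre]
      erw [pullback.lift_fst]
      exact hg2
    · have := Over.w v
      dsimp [Neron.genericFibre] at this ⊢
      erw [pullback.lift_snd]
      exact this.symm

end Groth.Agent.S18483
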