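import Groth.Statements.S18484
import Groth.Agent.NeronArea.GenericDense


set_option autoImplicit false
universe u
open CategoryTheory CategoryTheory.Limits AlgebraicGeometry MonObj
open Neron

namespace Groth.Agent.S18484

/-- Let R be a Dedekind domain with fraction field K, X a Spec R-scheme which is a Néron model of its
generic fibre X_K, and i : G → X a closed immersion with G smooth over Spec R. Then G is a Néron
model of its generic fibre G_K: smooth, separated, of finite type, and for every smooth Spec
R-scheme Y restriction to generic fibres is a bijection from R-morphisms Y → G onto K-morphisms Y_K
→ G_K. (The source states this for a closed subgroup scheme of a Néron model; the group laws play no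
part and are not assumed. The converse direction of the source, that a Néron model is a closed
subgroup of a Néron model, is immediate and not stated.) -/
theorem result (R : Type u) [CommRing R] [IsDedekindDomain R]
    (X G : Over (Spec (CommRingCat.of R))) (hX : Neron.IsNeronModelOf R X ((Neron.genericFibre R).obj X) (Iso.refl _))
    (i : G ⟶ X) [IsClosedImmersion i.left] [Smooth G.hom] :
    Neron.IsNeronModelOf R G ((Neron.genericFibre R).obj G) (Iso.refl _) := by
  obtain ⟨hXs, hsep, hft, hqc, hbij⟩ := hX
  have hqc' : QuasiCompact G.hom := by rw [← Over.w i]; infer_instance
  have hsep' : IsSeparated G.hom := by rw [← Over.w i]; infer_instance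
  refine ⟨inferInstance, hsep', inferInstance, hqc', fun Y hY => ?_⟩
  have := Groth.NeronArea.bijective_of_isClosedImmersion (Neron.genPt R) i Y
    (by simpa using hbij Y hY)
  simpa using this

end Groth.Agent.S18484
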