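import Groth.Statements.S18485


set_option autoImplicit false
universe u
open CategoryTheory CategoryTheory.Limits AlgebraicGeometry MonObj
open Neron

open TensorProduct in
lemma quasiFinite_of_flat (R A : Type u) [CommRing R] [IsDedekindDomain R] [CommRing A] [Algebra R A]
    [Module.Flat R A] [Module.Finite (FractionRing R) (FractionRing R ⊗[R] A)] :
    Algebra.QuasiFinite R A := by
  classical
  refine ⟨fun P _ => ?_⟩
  rcases eq_or_ne P ⊥ with rfl | hP
  · have hinj : Function.Injective (algebraMap R (⊥ : Ideal R).ResidueField) :=
      (injective_iff_map_eq_zero _).2 fun x hx => Ideal.algebraMap_residueField_eq_zero.1 hx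
    algebraize [IsFractionRing.lift (K := FractionRing R) hinj]
    have : IsScalarTower R (FractionRing R) (⊥ : Ideal R).ResidueField :=
      .of_algebraMap_eq fun x => (IsFractionRing.lift_algebraMap hinj x).symm
    exact Module.Finite.equiv (TensorProduct.AlgebraTensorModule.cancelBaseChange R (FractionRing R)
      (⊥ : Ideal R).ResidueField (⊥ : Ideal R).ResidueField A)
  · have : P.IsMaximal := (inferInstance : P.IsPrime).isMaximal hP
    rw [← Module.rank_lt_aleph0_iff]
    refine (rank_le (n := Module.finrank (FractionRing R) (FractionRing R ⊗[R] A)) fun s hs => ?_).trans_lt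
      (Cardinal.natCast_lt_aleph0)
    have hsurj : ∀ x : P.ResidueField ⊗[R] A, ∃ a : A, (1 : P.ResidueField) ⊗ₜ[R] a = x := by
      intro x
      induction x with
      | zero => exact ⟨0, tmul_zero _ _⟩
      | tmul c a =>
        obtain ⟨r, rfl⟩ := P.algebraMap_residueField_surjective c
        exact ⟨r • a, by rw [Algebra.algebraMap_eq_smul_one, smul_tmul]⟩
      | add x y hx hy =>
        obtain ⟨a, rfl⟩ := hx
        obtain ⟨b, rfl⟩ := hy
        exact ⟨a + b, tmul_add _ _ _⟩
    choose g hg using fun x : s => hsurj (x : P.ResidueField ⊗[R] A)
    have hA : LinearIndependent R g := by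
      rw [linearIndependent_iff']
      intro t c hc i hi
      by_contra hne
      obtain ⟨a, ha, j, hj, hjP⟩ := Ideal.exist_integer_multiples_notMem (K := FractionRing R)
        (inferInstance : P.IsPrime).ne_top t (fun k => algebraMap R _ (c k)) hi
        ((map_ne_zero_iff _ (IsFractionRing.injective R _)).2 hne)
      choose! d hd using ha
      have h0 : ∑ k ∈ t, d k • g k = 0 := by
        apply Algebra.TensorProduct.includeRight_injective (A := FractionRing R) (B := A)
          (IsFractionRing.injective R (FractionRing R))
        have h := congrArg (fun z => a • Algebra.TensorProduct.includeRight (R := R) (A := FractionRing R) z) hc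
        simp only [map_sum, map_smul, map_zero, smul_zero, Finset.smul_sum] at h ⊢
        rw [← h]
        refine Finset.sum_congr rfl fun k hk => ?_
        rw [← algebraMap_smul (FractionRing R) (c k), ← algebraMap_smul (FractionRing R) (d k), smul_smul]
        exact congrArg (· • _) (hd k hk)
      have h1 := congrArg (fun z => (1 : P.ResidueField) ⊗ₜ[R] z) h0
      simp only [tmul_sum, tmul_smul, hg, tmul_zero] at h1
      rw [Finset.sum_congr rfl fun k _ => (algebraMap_smul P.ResidueField (d k) _).symm] at h1
      have := linearIndependent_iff'.1 hs t _ h1 j hj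
      refine hjP ⟨d j, ?_, ?_⟩
      · exact Ideal.algebraMap_residueField_eq_zero.1 this
      · exact hd j hj
    have hK : LinearIndependent R (fun x => (1 : FractionRing R) ⊗ₜ[R] g x) :=
      hA.map' ((TensorProduct.mk R (FractionRing R) A) 1) (LinearMap.ker_eq_bot.2
        (Algebra.TensorProduct.includeRight_injective (IsFractionRing.injective R (FractionRing R))))
    rw [LinearIndependent.iff_fractionRing (R := R) (K := FractionRing R)] at hK
    simpa using hK.fintype_card_le_finrank

open TensorProduct in
lemma lqf_affine (R : Type u) [CommRing R] [IsDedekindDomain R] (H : Over (Spec (CommRingCat.of R)))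
    [Flat H.hom] [LocallyQuasiFinite ((Neron.genericFibre R).obj H).hom] {U : Scheme.{u}} [IsAffine U]
    (j : U ⟶ H.left) [IsOpenImmersion j] : LocallyQuasiFinite (j ≫ H.hom) := by
  let j' : Spec Γ(U, ⊤) ⟶ H.left := U.isoSpec.inv ≫ j
  have hj : IsOpenImmersion j' := inferInstance
  obtain ⟨φ, hφ⟩ := Spec.map_surjective (j' ≫ H.hom)
  have e : j ≫ H.hom = U.isoSpec.hom ≫ Spec.map φ := by rw [hφ]; simp [j']
  rw [e]
  suffices LocallyQuasiFinite (Spec.map φ) from inferInstance
  rw [HasRingHomProperty.Spec_iff (P := @LocallyQuasiFinite)]
  have hflat : Flat (Spec.map φ) := by rw [hφ]; infer_instance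
  rw [HasRingHomProperty.Spec_iff (P := @Flat)] at hflat
  algebraize [φ.hom]
  show Algebra.QuasiFinite R Γ(U, ⊤)
  let gp := Neron.genPt R
  have h1 : LocallyQuasiFinite (Limits.pullback.snd (j' ≫ H.hom) gp) := by
    rw [← Limits.pullbackRightPullbackFstIso_inv_snd_snd H.hom gp j']
    have : LocallyQuasiFinite (Limits.pullback.snd H.hom gp) := ‹LocallyQuasiFinite ((Neron.genericFibre R).obj H).hom›
    infer_instance
  have h2 : LocallyQuasiFinite (Limits.pullback.fst gp (Spec.map φ)) := by
    rw [← Limits.pullbackSymmetry_hom_comp_snd, hφ]; infer_instance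
  have h3 : LocallyQuasiFinite (Spec.map (CommRingCat.ofHom
      (algebraMap (FractionRing R) (FractionRing R ⊗[R] Γ(U, ⊤))))) := by
    rw [← pullbackSpecIso_inv_fst R (FractionRing R) Γ(U, ⊤)]; exact inferInstance
  rw [HasRingHomProperty.Spec_iff (P := @LocallyQuasiFinite)] at h3
  have : Algebra.QuasiFinite (FractionRing R) (FractionRing R ⊗[R] Γ(U, ⊤)) :=
    RingHom.quasiFinite_algebraMap.mp h3
  have := Module.Finite.of_quasiFinite (R := FractionRing R) (S := FractionRing R ⊗[R] Γ(U, ⊤))
  exact quasiFinite_of_flat R _

namespace Groth.Agent.S18485

/-- Let R be a Dedekind domain with fraction field K and H a Spec R-scheme which is flat and locally of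
finite type over Spec R. If the generic fibre H_K is locally quasi-finite over K, then H is locally
quasi-finite over Spec R. (The published statement is about the schematic closure, in an S-group
algebraic space of finite type over a connected Dedekind scheme S, of a finite subgroup of the
generic fibre, which it asserts to be a quasi-finite S-group; this row is the statement about flat
schemes locally of finite type over an affine Dedekind base on which that rests. Locally
quasi-finite is meant here without a finite type clause, which is assumed separately.) -/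
theorem result (R : Type u) [CommRing R]
    [IsDedekindDomain R] (H : Over (Spec (CommRingCat.of R))) [Flat H.hom] [LocallyOfFiniteType H.hom]
    [LocallyQuasiFinite ((Neron.genericFibre R).obj H).hom] : LocallyQuasiFinite H.hom := by
  rw [HasRingHomProperty.iff_of_source_openCover (P := @LocallyQuasiFinite) H.left.affineCover]
  intro i
  exact HasRingHomProperty.iff_of_isAffine.mp (lqf_affine R H (H.left.affineCover.f i))

end Groth.Agent.S18485
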