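import Groth.Statements.S18486
import Groth.Agent.NeronArea.MappingDescent


set_option autoImplicit false
universe u
open CategoryTheory CategoryTheory.Limits AlgebraicGeometry MonObj
open Neron

namespace Groth.Agent.S18486

/-- Let R be a Dedekind domain with fraction field K, X a group scheme over Spec R which is a Néron
model of its generic fibre, and P a Spec R-scheme with an action of X making it an X-torsor for the
fppf topology (a pseudo-torsor which acquires sections on the members of some fppf covering family
of Spec R). Then P is smooth, separated and of finite type over Spec R and has the Néron mapping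
property: for every smooth Spec R-scheme Y restriction to generic fibres is a bijection from
R-morphisms Y → P onto K-morphisms Y_K → P_K; that is, P is a Néron model of P_K. (The source treats
Néron lft models, torsors that are algebraic spaces and the mapping property towards smooth
algebraic spaces; the case of a Néron model of finite type and a torsor which is a scheme is
stated.) -/
theorem result (R : Type u) [CommRing R] [IsDedekindDomain R]
    (X : Over (Spec (CommRingCat.of R))) [GrpObj X] (hX : Neron.IsNeronModelOf R X ((Neron.genericFibre R).obj X) (Iso.refl _))
    (P : NonAbH1.TorsorSch X Scheme.fppfPrecoverage) :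
    Neron.IsNeronModelOf R P.X ((Neron.genericFibre R).obj P.X) (Iso.refl _) := by
  obtain ⟨hsm, hsep, hlft, hqc, hmap⟩ := hX
  obtain ⟨ha, hlt⟩ := P.isTorsor
  haveI : MorphismProperty.IsLocalAtTarget (@IsSeparated.{u}) Scheme.fppfPrecoverage :=
    Groth.AlgSpBasic.isLocalAtTarget_fppf _
  haveI : MorphismProperty.IsLocalAtTarget (@QuasiCompact.{u}) Scheme.fppfPrecoverage :=
    Groth.AlgSpBasic.isLocalAtTarget_fppf _
  haveI : Smooth P.X.hom := Groth.NeronArea.property_of_isLocallyTrivial P.act ha @Smooth hlt hsm
  haveI : Surjective P.X.hom := Groth.NeronArea.surjective_of_isLocallyTrivial hlt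
  refine ⟨inferInstance, Groth.NeronArea.property_of_isLocallyTrivial P.act ha @IsSeparated hlt hsep,
    inferInstance, Groth.NeronArea.property_of_isLocallyTrivial P.act ha @QuasiCompact hlt hqc, ?_⟩
  have hG : Groth.NeronArea.HasNMP (Spec.map (CommRingCat.ofHom (algebraMap R (FractionRing R)))) X := by
    intro Y hY
    have := hmap Y hY
    simp only [Iso.refl_hom, Category.comp_id] at this
    exact this
  intro Y hY
  simp only [Iso.refl_hom, Category.comp_id]
  exact Groth.NeronArea.hasNMP_torsor _ P.act ha hG Y hY

end Groth.Agent.S18486
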