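import Groth.Statements.S18488
import Groth.Agent.H1Proper.Points
import Groth.Agent.H1Proper.Extend
import Groth.Agent.AlgSpBasic.Topology
import Groth.Agent.DescentBase.Descends
import Groth.Agent.AlgSpBasic.LocPInst

set_option autoImplicit false
universe u
open CategoryTheory CategoryTheory.Limits AlgebraicGeometry MonObj

namespace Groth.Agent.S18488

open MonoidalCategory in
/-- The inverse of an equivariant isomorphism. -/
def equivIso_symm {S : Scheme.{u}} {G X X' : Over S} [GrpObj G] {a : AlgGrp.Action G X}
    {a' : AlgGrp.Action G X'} (e : NonAbH1.EquivIso a a') : NonAbH1.EquivIso a' a where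
  iso := e.iso.symm
  comm := by
    rw [Iso.symm_hom, Iso.comp_inv_eq, Category.assoc, e.comm, ← whiskerLeft_comp_assoc,
      Iso.inv_hom_id, whiskerLeft_id, Category.id_comp]

open MonoidalCategory in
theorem equivIso_of_eqvGen {S : Scheme.{u}} {G : Over S} [GrpObj G] {K : Precoverage Scheme.{u}}
    {P Q : NonAbH1.TorsorSch G K}
    (h : Relation.EqvGen (fun P Q : NonAbH1.TorsorSch G K => Nonempty (NonAbH1.EquivIso P.act Q.act)) P Q) :
    Nonempty (NonAbH1.EquivIso P.act Q.act) := by
  induction h with
  | rel _ _ h => exact h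
  | refl P => exact ⟨⟨Iso.refl _, by simp⟩⟩
  | symm P Q _ ih => exact ih.map equivIso_symm
  | trans P Q T _ _ ih1 ih2 =>
    obtain ⟨e⟩ := ih1
    obtain ⟨e'⟩ := ih2
    refine ⟨⟨e.iso ≪≫ e'.iso, ?_⟩⟩
    rw [Iso.trans_hom, reassoc_of% e.comm, e'.comm, whiskerLeft_comp, Category.assoc]

open Groth.H1Proper in
/-- Points of a proper scheme with values in the integral closure surject onto the generic ones. -/
theorem map_surjective (R : Type u) [CommRing R] [IsDedekindDomain R]
    (G : Over (Spec (CommRingCat.of R))) [IsProper G.hom] :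
    Function.Surjective (fun g : barS R ⟶ G => (Over.pullback (Neron.genPt R)).map g) := by
  intro h
  let h' := Groth.NeronArea.rstEquiv (Neron.genPt R) (barS R) G h
  let e := (isPullback_barGen R).isoPullback
  obtain ⟨g, hg, hga⟩ := exists_extension R G.hom (e.hom ≫ h'.left) (by
    rw [Category.assoc, Over.w h']
    simp [e])
  refine ⟨Over.homMk g hg, (Groth.NeronArea.rstEquiv (Neron.genPt R) (barS R) G).injective ?_⟩
  rw [Groth.NeronArea.rstEquiv_map]
  ext : 1
  rw [← cancel_epi e.hom]
  simpa [e] using hga

/-- Let R be a Dedekind domain with fraction field K and G a proper flat group scheme over Spec R. Then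
restriction to the generic fibre, from the set of classes of G-torsors for the fppf topology (Spec
R-schemes with a G-action, pseudo-torsors trivialised on an fppf covering family, up to equivariant
isomorphism) to the set of classes of G_K-torsors, is injective. (The source allows any connected
Dedekind scheme as base and all fppf torsors, which it shows to be schemes; the affine base and
torsors representable by schemes are stated.) -/
theorem result (R : Type u) [CommRing R] [IsDedekindDomain R]
    (G : Over (Spec (CommRingCat.of R))) [GrpObj G] [IsProper G.hom] [Flat G.hom] :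
    Function.Injective (NonAbH1.H1Sch.bcMap (Neron.genPt R) G Scheme.fppfPrecoverage) := by
  haveI : MorphismProperty.IsLocalAtTarget (@IsProper.{u}) Scheme.fppfPrecoverage :=
    Groth.AlgSpBasic.isLocalAtTarget_fppf _
  intro x y hxy
  induction x using Quot.ind with
  | mk P => ?_
  induction y using Quot.ind with
  | mk Q => ?_
  obtain ⟨e⟩ := equivIso_of_eqvGen (Quot.eq.1 hxy)
  have hprop : ∀ T : NonAbH1.TorsorSch G Scheme.fppfPrecoverage,
      IsProper T.X.hom ∧ Flat T.X.hom ∧ Surjective T.X.hom := fun T =>
    ⟨Groth.NeronArea.property_of_isLocallyTrivial T.act T.isTorsor.1 @IsProper T.isTorsor.2 inferInstance,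
      Groth.NeronArea.property_of_isLocallyTrivial T.act T.isTorsor.1 @Flat T.isTorsor.2 inferInstance,
      Groth.NeronArea.surjective_of_isLocallyTrivial T.isTorsor.2⟩
  obtain ⟨_, _, _⟩ := hprop P
  obtain ⟨_, _, _⟩ := hprop Q
  obtain ⟨p, hp⟩ := Groth.H1Proper.exists_point R P.X.hom
  obtain ⟨q, hq⟩ := Groth.H1Proper.exists_point R Q.X.hom
  haveI : QuasiCompact (Groth.H1Proper.barS R).hom :=
    inferInstanceAs (QuasiCompact (Spec.map _))
  obtain ⟨f, hf, hfa⟩ := Groth.H1Proper.exists_extension_equivariant (Neron.genPt R) P.act Q.act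
    P.isTorsor.1 Q.isTorsor.1 (Groth.H1Proper.barS R) (Over.homMk p hp) (Over.homMk q hq)
    (map_surjective R G) e.iso.hom e.comm
  obtain ⟨f', hf', -⟩ := Groth.H1Proper.exists_extension_equivariant (Neron.genPt R) Q.act P.act
    Q.isTorsor.1 P.isTorsor.1 (Groth.H1Proper.barS R) (Over.homMk q hq) (Over.homMk p hp)
    (map_surjective R G) e.iso.inv
    ((equivIso_symm (a := P.act.bc (Neron.genPt R)) (a' := Q.act.bc (Neron.genPt R)) e).comm)
  refine Quot.sound ⟨⟨⟨f, f', ?_, ?_⟩, hfa⟩⟩
  · refine Groth.NeronArea.map_injective_of_flat (Neron.genPt R) P.X P.X ?_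
    simp only [Functor.map_comp, hf, hf']
    exact e.iso.hom_inv_id.trans ((Over.pullback (Neron.genPt R)).map_id P.X).symm
  · refine Groth.NeronArea.map_injective_of_flat (Neron.genPt R) Q.X Q.X ?_
    simp only [Functor.map_comp, hf, hf']
    exact e.iso.inv_hom_id.trans ((Over.pullback (Neron.genPt R)).map_id Q.X).symm

end Groth.Agent.S18488
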