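import Groth.Statements.S18489
import Groth.Agent.NeronArea.IsogenyModel


set_option autoImplicit false
universe u
open CategoryTheory CategoryTheory.Limits AlgebraicGeometry MonObj
open Neron

namespace Groth.Agent.S18489

/-- Let R be a Dedekind domain with fraction field K, let A and B be group schemes over Spec R which are
Néron models of their generic fibres A_K and B_K, both abelian varieties over K (proper and
geometrically integral), and let φ : A → B be a homomorphism of group schemes over Spec R whose
generic fibre φ_K is an isogeny (surjective with finite kernel). Then φ is locally quasi-finite (its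
fibres are finite; it is of finite type in any case) if and only if φ is flat. (A third equivalent
condition, surjectivity of φ on the identity components of the fibres, is not part of this
statement. The published lemma is over any connected Dedekind scheme; the affine base is stated.) -/
theorem result (R : Type u) [CommRing R]
    [IsDedekindDomain R] (A B : Over (Spec (CommRingCat.of R))) [GrpObj A] [GrpObj B]
    (hA : Neron.IsNeronModelOf R A ((Neron.genericFibre R).obj A) (Iso.refl _))
    (hB : Neron.IsNeronModelOf R B ((Neron.genericFibre R).obj B) (Iso.refl _))
    [IsProper ((Neron.genericFibre R).obj A).hom] [GeometricallyIntegral ((Neron.genericFibre R).obj A).hom]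
    [IsProper ((Neron.genericFibre R).obj B).hom] [GeometricallyIntegral ((Neron.genericFibre R).obj B).hom]
    (φ : A ⟶ B) [IsMonHom φ] (hφ : SGA7.IsIsogenyOver ((Neron.genericFibre R).map φ)) :
    LocallyQuasiFinite φ.left ↔ Flat φ.left := by
  obtain ⟨_, _, -, _, -⟩ := hA
  obtain ⟨_, _, -, _, -⟩ := hB
  exact Groth.NeronArea.Isogeny.flat_iff_lqf φ hφ

end Groth.Agent.S18489
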