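import Groth.Statements.S1849
import Groth.Agent.MilnorKLambda.Key.Restrict

set_option autoImplicit false
universe u
open CycAlg

namespace Groth.Agent.S1849

/-- Let A be a Noetherian local ring of dimension 1 and A ⊆ B a finite extension with B/A killed by a
power of the maximal ideal 𝔪 and 𝔪 not an associated prime of the A-module B. For nonzerodivisors a,
b of A, ∂_A(a, b) is the product over the maximal ideals 𝔪_j of B of the norms from κ(𝔪_j) to κ of
∂_{B_{𝔪_j}}(a, b). -/
theorem result (A : Type u) [CommRing A] [IsNoetherianRing A] [IsLocalRing A] (hA : ringKrullDim A = 1) (B : Type u) [CommRing B] [Algebra A B] (hB : CycAlg.IsFinExt A B (IsLocalRing.maximalIdeal A)) (hass : IsLocalRing.maximalIdeal A ∉ associatedPrimes A B) [hloc : ∀ q : MaximalSpectrum B, IsLocalHom (algebraMap A (Localization.AtPrime q.asIdeal))] (a b : A) (ha : a ∈ nonZeroDivisors A) (hb : b ∈ nonZeroDivisors A) : CycAlg.tameSymbol A a b = ∏ᶠ q : MaximalSpectrum B, Algebra.norm (IsLocalRing.ResidueField A) (CycAlg.tameSymbol (Localization.AtPrime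 q.asIdeal) (algebraMap A (Localization.AtPrime q.asIdeal) a) (algebraMap A (Localization.AtPrime q.asIdeal) b)) := by
  classical
  have : Ring.KrullDimLE 1 A := (Ring.krullDimLE_iff).2 hA.le
  have : Module.Finite A B := hB.2.1
  have := Groth.MilnorKLambda.Amb.finite_maximalSpectrum (R := A) (S := B)
  have := Fintype.ofFinite (MaximalSpectrum B)
  rw [finprod_eq_prod_of_fintype]
  by_cases hu : IsUnit a ∧ IsUnit b
  · rw [Groth.MilnorKLambda.Amb.tameSymbol_units hu.1 hu.2]
    refine (Finset.prod_eq_one fun q _ => ?_).symm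
    have := Groth.MilnorKLambda.Amb.krullDimLE_one_of_finite A B
    have := Groth.MilnorKLambda.Key.krullDimLE_localization q.asIdeal
    have : IsNoetherianRing B := Algebra.FiniteType.isNoetherianRing A B
    have : IsNoetherianRing (Localization.AtPrime q.asIdeal) :=
      IsLocalization.isNoetherianRing q.asIdeal.primeCompl _ inferInstance
    rw [Groth.MilnorKLambda.Amb.tameSymbol_units (hu.1.map _) (hu.2.map _), map_one]
  obtain ⟨c, hc, hcn⟩ : ∃ c ∈ IsLocalRing.maximalIdeal A, c ∈ nonZeroDivisors A := by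
    simp only [not_and_or] at hu
    rcases hu with h | h
    exacts [⟨a, h, ha⟩, ⟨b, h, hb⟩]
  have hQ := Groth.MilnorKLambda.Amb.isAmb_away hcn hc
  obtain ⟨ι, hι⟩ := Groth.MilnorKLambda.Amb.exists_embed_of_killed hQ hB (fun z hz => by
    by_contra hne
    obtain ⟨n, hn⟩ := Groth.MilnorKLambda.Amb.exists_pow_le_span hcn
    have hkill : IsLocalRing.maximalIdeal A ^ n ≤ (⊥ : Submodule A B).colon {z} := by
      intro r hr
      obtain ⟨d, rfl⟩ := Ideal.mem_span_singleton'.1 (hn hr)
      rw [Submodule.mem_colon_singleton, Submodule.mem_bot, Algebra.smul_def, map_mul, mul_assoc, hz, mul_zero]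
    obtain ⟨p, hp, hle⟩ := exists_le_isAssociatedPrime_of_isNoetherianRing A z hne
    have hpm : p = IsLocalRing.maximalIdeal A :=
      ((IsLocalRing.maximalIdeal.isMaximal A).eq_of_le hp.isPrime.ne_top (hp.isPrime.le_of_pow_le (hkill.trans hle))).symm
    exact hass (hpm ▸ hp))
  exact Groth.MilnorKLambda.Key.tameSymbol_restrict hQ ι hι ha hb

end Groth.Agent.S1849
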