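import Groth.Statements.S18490
import Mathlib.AlgebraicGeometry.Morphisms.Immersion
import Mathlib.AlgebraicGeometry.Morphisms.Flat

set_option autoImplicit false
universe u
open CategoryTheory CategoryTheory.Limits AlgebraicGeometry
open FlatMor

namespace Groth.Agent.S18490

/-- Let f : X → S and g : Y → S be morphisms of schemes and suppose that g has a section y : S → Y. If
the structure morphism X ×_S Y → S (first projection followed by f) is quasi-compact, then so is f;
likewise for locally of finite type, for separated, and for flat. (Finite type, also listed in the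
source, is the conjunction of the first two.) -/
theorem result {X Y S : Scheme.{u}} (f : X ⟶ S) (g : Y ⟶ S)
    (y : S ⟶ Y) (hy : y ≫ g = 𝟙 S) :
    (QuasiCompact (pullback.fst f g ≫ f) → QuasiCompact f) ∧
    (LocallyOfFiniteType (pullback.fst f g ≫ f) → LocallyOfFiniteType f) ∧
    (IsSeparated (pullback.fst f g ≫ f) → IsSeparated f) ∧
    (Flat (pullback.fst f g ≫ f) → Flat f) := by
  let σ : X ⟶ pullback f g := pullback.lift (𝟙 X) (f ≫ y) (by simp [hy])
  have hσ : σ ≫ pullback.fst f g = 𝟙 X := pullback.lift_fst _ _ _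
  have hfσ : f = σ ≫ pullback.fst f g ≫ f := by rw [reassoc_of% hσ]
  have hsurj : Surjective (pullback.fst f g) := ⟨fun x => ⟨σ.base x, by
    rw [← Scheme.Hom.comp_apply, hσ]; rfl⟩⟩
  haveI hσi : IsImmersion σ := by
    haveI : IsImmersion (σ ≫ pullback.fst f g) := by rw [hσ]; infer_instance
    exact IsImmersion.of_comp σ (pullback.fst f g)
  refine ⟨fun hq => ?_, fun hl => ?_, fun hs => ?_, fun hf => ?_⟩
  · refine ⟨fun V hV hVc => ?_⟩
    rw [← Set.image_preimage_eq (f.base ⁻¹' V) hsurj.surj]
    exact (QuasiCompact.isCompact_preimage (f := pullback.fst f g ≫ f) V hV hVc).image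
      (pullback.fst f g).continuous
  · rw [hfσ]; infer_instance
  · rw [hfσ]; infer_instance
  · refine Flat.of_stalkMap f fun x => ?_
    have h1 : ((pullback.fst f g ≫ f).stalkMap (σ.base x)).hom.Flat := Flat.stalkMap _ _
    have hpt : pullback.fst f g (σ.base x) = x := by rw [← Scheme.Hom.comp_apply, hσ]; rfl
    rw [Scheme.Hom.stalkMap_comp] at h1
    -- retraction `O_{X,x} → O_{σ x} → O_{X,x}`
    let e : X.presheaf.stalk x ≅ X.presheaf.stalk (pullback.fst f g (σ.base x)) :=
      X.presheaf.stalkCongr (.of_eq hpt.symm)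
    let i := e.hom ≫ (pullback.fst f g).stalkMap (σ.base x)
    let r := σ.stalkMap x
    have hir : i ≫ r = 𝟙 _ := by
      simp only [i, r, Category.assoc, ← Scheme.Hom.stalkMap_comp]
      rw [Scheme.Hom.stalkMap_congr_hom _ _ hσ]
      simp [e, TopCat.Presheaf.stalkCongr]
    have hi : f.stalkMap x = (S.presheaf.stalkCongr (.of_eq (by simp [hpt]))).hom ≫
        f.stalkMap (pullback.fst f g (σ.base x)) ≫ e.inv := by
      rw [← Category.assoc, Iso.eq_comp_inv]
      exact Scheme.Hom.stalkMap_congr_point f x _ hpt.symm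
    let c := (S.presheaf.stalkCongr (Inseparable.of_eq (show f x = f (pullback.fst f g (σ.base x)) by rw [hpt])))
    let φ := c.hom ≫ f.stalkMap _ ≫ (pullback.fst f g).stalkMap (σ.base x)
    have hφ : φ.hom.Flat := RingHom.Flat.comp (RingHom.Flat.of_bijective
      (ConcreteCategory.bijective_of_isIso c.hom)) h1
    letI := φ.hom.toAlgebra
    letI := (f.stalkMap x).hom.toAlgebra
    haveI : Module.Flat (S.presheaf.stalk (f x)) ((pullback f g).presheaf.stalk (σ.base x)) := hφ
    have hi' : f.stalkMap x ≫ i = φ := by simp [i, φ, hi, c]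
    have hr' : φ ≫ r = f.stalkMap x := by rw [← hi', Category.assoc, hir, Category.comp_id]
    exact Module.Flat.of_retract
      ({ i.hom with commutes' := fun a => by exact congr($(hi').hom a) } :
        X.presheaf.stalk x →ₐ[S.presheaf.stalk (f x)] _).toLinearMap
      ({ r.hom with commutes' := fun a => by exact congr($(hr').hom a) } :
        _ →ₐ[S.presheaf.stalk (f x)] X.presheaf.stalk x).toLinearMap
      (LinearMap.ext fun a => congr($(hir).hom a))

end Groth.Agent.S18490
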