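import Groth.Statements.S18494
import Groth.Agent.NeronArea.InvertibleDegree


set_option autoImplicit false
universe u
open CategoryTheory CategoryTheory.Limits AlgebraicGeometry MonObj
open Neron

namespace Groth.Agent.S18494

/-- Let R be a Dedekind domain with fraction field K, let A and B be group schemes over Spec R which are
Néron models of their generic fibres, both abelian varieties over K (proper and geometrically
integral), let φ : A → B be a homomorphism whose generic fibre φ_K is an isogeny (surjective with
finite kernel), and let i : N → A be a kernel of φ. If the degree of φ_K, that is the order of the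
finite K-group scheme N_K (its rank over Spec K), is a unit in R, then N is a Néron model of its
generic fibre N_K (smooth, separated, of finite type, with the Néron mapping property for smooth
Spec R-schemes) and N → Spec R is étale. -/
theorem result (R : Type u) [CommRing R]
    [IsDedekindDomain R] (A B : Over (Spec (CommRingCat.of R))) [GrpObj A] [GrpObj B]
    (hA : Neron.IsNeronModelOf R A ((Neron.genericFibre R).obj A) (Iso.refl _))
    (hB : Neron.IsNeronModelOf R B ((Neron.genericFibre R).obj B) (Iso.refl _))
    [IsProper ((Neron.genericFibre R).obj A).hom] [GeometricallyIntegral ((Neron.genericFibre R).obj A).hom]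
    [IsProper ((Neron.genericFibre R).obj B).hom] [GeometricallyIntegral ((Neron.genericFibre R).obj B).hom]
    (φ : A ⟶ B) [IsMonHom φ] (hφ : SGA7.IsIsogenyOver ((Neron.genericFibre R).map φ))
    (N : Over (Spec (CommRingCat.of R))) (i : N ⟶ A) (hN : AlgGrp.IsKernel i φ)
    (hdeg : ∀ x : ↥(Spec (CommRingCat.of (FractionRing R))),
      IsUnit ((((Neron.genericFibre R).obj N).hom.finrank x : ℕ) : R)) :
    Neron.IsNeronModelOf R N ((Neron.genericFibre R).obj N) (Iso.refl _) ∧ Etale N.hom := by
  obtain ⟨hAs, hAsep, -, hAqc, hAnmp⟩ := hA
  obtain ⟨hBs, hBsep, -, hBqc, -⟩ := hB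
  have hbij : ∀ Y : Over (Spec (CommRingCat.of R)), Smooth Y.hom →
      Function.Bijective (fun g : Y ⟶ A => (Neron.genericFibre R).map g) := fun Y hY => by
    simpa using hAnmp Y hY
  have het : Etale φ.left := Groth.NeronArea.Isogeny.etale_of_isUnit_degree φ i hφ
    (hbij B hBs) (hbij A hAs).1 hN hdeg
  have sq : IsPullback i.left N.hom φ.left η[B].left := hN.map (Over.forget _)
  have hEt : Etale N.hom := MorphismProperty.of_isPullback sq het
  have : IsClosedImmersion η[B].left := by
    have : IsClosedImmersion (η[B].left ≫ B.hom) := by rw [Over.w]; exact inferInstanceAs (IsClosedImmersion (𝟙 _))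
    exact IsClosedImmersion.of_comp η[B].left B.hom
  have : IsClosedImmersion i.left := MorphismProperty.of_isPullback sq.flip this
  refine ⟨⟨inferInstance, by rw [← Over.w i]; infer_instance, by rw [← Over.w i]; infer_instance,
    by rw [← Over.w i]; infer_instance, fun Y hY => ?_⟩, hEt⟩
  have h := Groth.NeronArea.bijective_of_isClosedImmersion (Neron.genPt R) i Y (hbij Y hY)
  simpa using h

end Groth.Agent.S18494
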