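import Groth.Statements.S18497
import Groth.Agent.NeronArea.FiniteEtaleClosure
import Groth.Agent.S4997


set_option autoImplicit false
universe u
open CategoryTheory CategoryTheory.Limits AlgebraicGeometry MonObj
open Neron

namespace Groth.Agent.S18497

/-- Let R be a Dedekind domain with fraction field K and G a finite étale group scheme over K. Then G
has a Néron model over Spec R which is separated, quasi-finite and étale: there are a Spec R-scheme
N and an isomorphism e of its generic fibre N_K with G such that N is smooth, separated and of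
finite type over Spec R with the Néron mapping property (for every smooth Spec R-scheme Y, g ↦ e ∘
g_K is a bijection from R-morphisms Y → N onto K-morphisms Y_K → G), and N → Spec R is étale and
locally quasi-finite. -/
theorem result (R : Type u) [CommRing R] [IsDedekindDomain R]
    (G : Over (Spec (CommRingCat.of (FractionRing R)))) [GrpObj G] [IsFinite G.hom] [Etale G.hom] :
    ∃ (N : Over (Spec (CommRingCat.of R))) (e : (Neron.genericFibre R).obj N ≅ G),
      Neron.IsNeronModelOf R N G e ∧ Etale N.hom ∧ LocallyQuasiFinite N.hom := by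
  let K := FractionRing R
  have : IsAffine G.left := isAffine_of_isAffineHom G.hom
  let L := Γ(G.left, ⊤)
  let φ : CommRingCat.of K ⟶ L := Spec.preimage (G.left.isoSpec.inv ≫ G.hom)
  have hφ : Spec.map φ = G.left.isoSpec.inv ≫ G.hom := Spec.map_preimage _
  have hφe : Etale (Spec.map φ) := by rw [hφ]; infer_instance
  have hφ' : φ.hom.Etale := (HasRingHomProperty.Spec_iff (P := @Etale)).1 hφe
  algebraize [φ.hom, φ.hom.comp (algebraMap R K)]
  have : IsScalarTower R K L := IsScalarTower.of_algebraMap_eq fun _ => rfl
  obtain ⟨hfin, hnorm, hloc⟩ := Groth.NeronArea.exists_finite_normal_model R K L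
  let B := integralClosure R L
  have hS : Pi1.IsNormalScheme (Spec (CommRingCat.of R)) :=
    Groth.NeronArea.isNormalScheme_Spec (Groth.NeronArea.isNormalRing_of_isIntegrallyClosed R)
  let π : Spec (CommRingCat.of B) ⟶ Spec (CommRingCat.of R) := Spec.map (CommRingCat.ofHom (algebraMap R B))
  have : IsFinite π := (IsFinite.SpecMap_iff _).2 ((RingHom.finite_algebraMap).2 hfin)
  have : LocallyOfFinitePresentation π := by
    have : Algebra.FinitePresentation R B :=
      (Algebra.FinitePresentation.of_finiteType).1 inferInstance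
    exact LocallyOfFinitePresentation.SpecMap_iff _ |>.2 (RingHom.finitePresentation_algebraMap.2 this)
  have hT := Groth.NeronArea.isNormalScheme_Spec hnorm
  let q : Spec L ⟶ Spec (CommRingCat.of B) := Spec.map (CommRingCat.ofHom (algebraMap B L))
  have sq : IsPullback q (Spec.map φ) π (genPt R) := by
    refine isPullback_SpecMap_of_isPushout _ _ _ _ (CommRingCat.isPushout_iff_isPushout.2 ?_)
    exact Algebra.IsPushout.symm (Algebra.IsPushout.symm ((Algebra.isLocalization_iff_isPushout (nonZeroDivisors R) (A := K)).1 hloc))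
  have hq : ∀ x, q x ∈ π.smoothLocus := fun x => by
    have : Flat (genPt R) := (HasRingHomProperty.Spec_iff (P := @Flat)).2
      (RingHom.flat_algebraMap_iff.2 (IsLocalization.flat K (nonZeroDivisors R)))
    refine Groth.PropsBasic.Loci.mem_smoothLocus_of_flat sq ?_
    rw [Scheme.Hom.smoothLocus_eq_top]
    trivial
  let j : Spec L ⟶ π.smoothLocus := IsOpenImmersion.lift π.smoothLocus.ι q (by
    rw [Scheme.Opens.range_ι]; rintro _ ⟨x, rfl⟩; exact hq x)
  have hj : j ≫ π.smoothLocus.ι = q := IsOpenImmersion.lift_fac _ _ _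
  have sqN : IsPullback j (Spec.map φ) (π.smoothLocus.ι ≫ π) (genPt R) :=
    ⟨⟨by rw [← Category.assoc, hj]; exact sq.w⟩, ⟨PullbackCone.IsLimit.mk _
      (fun c => sq.lift (c.fst ≫ π.smoothLocus.ι) c.snd (by rw [Category.assoc]; exact c.condition))
      (fun c => by rw [← cancel_mono π.smoothLocus.ι, Category.assoc, hj, sq.lift_fst])
      (fun c => sq.lift_snd _ _ _)
      (fun c m h₁ h₂ => sq.hom_ext (by rw [sq.lift_fst, ← h₁, Category.assoc, hj])
        (h₂.trans (sq.lift_snd _ _ _).symm))⟩⟩
  let N : Over (Spec (CommRingCat.of R)) := Over.mk (π.smoothLocus.ι ≫ π)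
  let e : (genericFibre R).obj N ≅ G := Over.isoMk (sqN.isoPullback.symm ≪≫ G.left.isoSpec.symm) (by
    show (sqN.isoPullback.inv ≫ G.left.isoSpec.inv) ≫ G.hom = pullback.snd _ _
    rw [Category.assoc, ← hφ, IsPullback.isoPullback_inv_snd])
  have hsm : Smooth N.hom := by
    show Smooth (π.smoothLocus.ι ≫ π)
    rw [← Scheme.Hom.smoothLocus_eq_top_iff, ← Scheme.Hom.preimage_smoothLocus_eq]
    exact top_le_iff.mp fun x _ => x.2
  have hlqf : LocallyQuasiFinite N.hom := inferInstanceAs (LocallyQuasiFinite (π.smoothLocus.ι ≫ π))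
  have : IsNoetherian (Spec (CommRingCat.of B)) := by
    have : IsNoetherianRing B := IsNoetherianRing.of_finite R B
    infer_instance
  refine ⟨N, e, ⟨hsm, inferInstanceAs (IsSeparated (π.smoothLocus.ι ≫ π)),
    inferInstanceAs (LocallyOfFiniteType (π.smoothLocus.ι ≫ π)),
    inferInstanceAs (QuasiCompact (π.smoothLocus.ι ≫ π)), fun Y hY => ?_⟩,
    (Groth.Agent.S4997.result N.hom).2 ⟨hsm, hlqf⟩, hlqf⟩
  have h := Groth.NeronArea.bijective_map_smoothLocus_genPt R hS π hT Y
  exact ((Iso.homToEquiv e).bijective).comp h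

end Groth.Agent.S18497
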