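import Groth.Agent.AlgSpCartier.GenericFibre
-- import your own Groth.Agent.* helpers here

set_option autoImplicit false
universe u
open CategoryTheory CategoryTheory.Limits AlgebraicGeometry
open AlgSp

namespace Groth.Agent.S18500

/-- Let R be a Dedekind domain with fraction field K, S = Spec R, and Y an algebraic space over S (an
fppf sheaf on S-schemes with representable diagonal and an étale atlas), with structure map p : Y →
h_S; let Y_K → Y be its generic fibre, the pullback of p along h_{Spec K} → h_S; let k : H → Y_K be
a closed subspace (a representable closed immersion from an algebraic space) and i : Z → Y the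
scheme theoretic image of the composite H → Y_K → Y. Then Z is flat over S (étale-locally on
charts), the square H → Z, H → Y_K, Z → Y, Y_K → Y is cartesian for the induced H → Z (the generic
fibre of Z is H), and Z is the unique such subspace: every closed subspace i' : Z' → Y which is flat
over S and whose pullback along Y_K → Y is H (through some H → Z') is isomorphic to Z over Y. (The
source allows any connected Dedekind scheme as base; the affine base is stated.) -/
theorem result (R : Type u) [CommRing R] [IsDedekindDomain R]
    (Y YK H Z : AlgSp.Space (Spec (CommRingCat.of R)))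
    (pY : Y.obj ⟶ (AlgSp.yon (Spec (CommRingCat.of R))).obj (Over.mk (𝟙 (Spec (CommRingCat.of R)))))
    (pr : YK ⟶ Y) (qK : YK.obj ⟶ (AlgSp.yon (Spec (CommRingCat.of R))).obj (Over.mk (Neron.genPt R)))
    (hYK : IsPullback pr.hom qK pY ((AlgSp.yon (Spec (CommRingCat.of R))).map (Over.mkIdTerminal.from (Over.mk (Neron.genPt R)))))
    (k : H ⟶ YK) (hk : AlgSp.RepWith @IsClosedImmersion k.hom)
    (i : Z ⟶ Y) (hZ : AlgSp.IsSchImage (k.hom ≫ pr.hom) i.hom) :
    AlgSp.LocP @Flat (i.hom ≫ pY) ∧
    (∃ m : H ⟶ Z, m ≫ i = k ≫ pr ∧ IsPullback m.hom k.hom i.hom pr.hom) ∧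
    (∀ (Z' : AlgSp.Space (Spec (CommRingCat.of R))) (i' : Z' ⟶ Y) (m' : H ⟶ Z'),
      AlgSp.RepWith @IsClosedImmersion i'.hom → AlgSp.LocP @Flat (i'.hom ≫ pY) →
      IsPullback m'.hom k.hom i'.hom pr.hom → ∃ e : Z ≅ Z', e.hom ≫ i' = i) := by
  exact Groth.AlgSpCartier.schImage_genericFibre Y YK H Z pY pr qK hYK k hk i hZ

end Groth.Agent.S18500
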