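import Groth.Statements.S18501
import Groth.Agent.NeronArea.IsogenyModel
import Groth.Agent.NeronArea.FlatByPoints
import Groth.Agent.GrpschAbsch.NeutralSet


set_option autoImplicit false
universe u
open CategoryTheory CategoryTheory.Limits AlgebraicGeometry MonObj
open Neron

namespace Groth.Agent.S18501

/-- Let R be a discrete valuation ring with fraction field K and residue field k, let A and B be group
schemes over Spec R which are Néron models of their generic fibres, both abelian varieties over K
(proper and geometrically integral), and let φ : A → B be a homomorphism whose generic fibre is an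
isogeny (surjective with finite kernel). Then φ is flat if and only if the special fibre φ_k : A_k →
B_k maps the connected component of the identity point of A_k onto the connected component of the
identity point of B_k, i.e. the image of the former subset is the latter (φ induces a surjection of
identity components; on the generic fibre this is automatic). (The published lemma is over a
connected Dedekind scheme, with this condition at every point, and includes a further equivalent
condition, quasi-finiteness of φ; the case of a discrete valuation ring is stated here, where only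
the closed point matters.) -/
theorem result (R : Type u) [CommRing R]
    [IsDomain R] [IsDiscreteValuationRing R] (A B : Over (Spec (CommRingCat.of R))) [GrpObj A] [GrpObj B]
    (hA : Neron.IsNeronModelOf R A ((Neron.genericFibre R).obj A) (Iso.refl _))
    (hB : Neron.IsNeronModelOf R B ((Neron.genericFibre R).obj B) (Iso.refl _))
    [IsProper ((Neron.genericFibre R).obj A).hom] [GeometricallyIntegral ((Neron.genericFibre R).obj A).hom]
    [IsProper ((Neron.genericFibre R).obj B).hom] [GeometricallyIntegral ((Neron.genericFibre R).obj B).hom]
    (φ : A ⟶ B) [IsMonHom φ] (hφ : SGA7.IsIsogenyOver ((Neron.genericFibre R).map φ)) :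
    Flat φ.left ↔
      ((Over.pullback (Spec.map (CommRingCat.ofHom (IsLocalRing.residue R)))).map φ).left.base ''
          connectedComponent ((η[Red.bc (Spec.map (CommRingCat.ofHom (IsLocalRing.residue R))) A]).left.base (IsLocalRing.closedPoint (IsLocalRing.ResidueField R))) =
        connectedComponent ((η[Red.bc (Spec.map (CommRingCat.ofHom (IsLocalRing.residue R))) B]).left.base (IsLocalRing.closedPoint (IsLocalRing.ResidueField R))) := by
  obtain ⟨_, _, -, _, -⟩ := hA
  obtain ⟨_, _, -, _, -⟩ := hB
  let t := Spec.map (CommRingCat.ofHom (IsLocalRing.residue R))
  letI : GrpObj ((Over.pullback t).obj A) := Functor.grpObjObj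
  letI : GrpObj ((Over.pullback t).obj B) := Functor.grpObjObj
  letI : GrpObj ((Neron.genericFibre R).obj A) := Functor.grpObjObj
  letI : GrpObj ((Neron.genericFibre R).obj B) := Functor.grpObjObj
  have : Smooth ((Over.pullback t).obj A).hom := inferInstanceAs (Smooth (pullback.snd A.hom t))
  have : Smooth ((Over.pullback t).obj B).hom := inferInstanceAs (Smooth (pullback.snd B.hom t))
  have : LocallyOfFiniteType ((Over.pullback t).obj A).hom := inferInstance
  have : LocallyOfFiniteType ((Over.pullback t).obj B).hom := inferInstance
  have := Groth.AlgGrp1.geometricallyReduced_of_smooth_hom ((Over.pullback t).obj B)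
  have := Groth.AlgGrp1.isReduced_left ((Over.pullback t).obj B)
  constructor
  · intro hf
    have : Flat ((Over.pullback t).map φ).left :=
      MorphismProperty.of_isPullback (Groth.GrpschAbsch.FibreFlat.isPullback_map t φ) hf
    exact Groth.GrpschAbsch.NeutralSet.image_component_of_flat (Red.bc t A) ((Over.pullback t).map φ)
  · intro h
    have hk : Flat ((Over.pullback t).map φ).left :=
      Groth.GrpschAbsch.NeutralSet.flat_of_component_le_image (Red.bc t A) ((Over.pullback t).map φ)
        (h.ge.trans (Set.image_subset_range _ _))
    have hK : Flat ((Neron.genericFibre R).map φ).left :=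
      (Groth.NeronArea.Isogeny.isFinite_of_isogeny ((Neron.genericFibre R).map φ) hφ).2
    refine Groth.NeronArea.flat_of_flat_points φ fun s => ?_
    by_cases hs : (s : PrimeSpectrum R).asIdeal = ⊥
    · refine ⟨FractionRing R, inferInstance, Neron.genPt R, ⟨IsLocalRing.closedPoint _, PrimeSpectrum.ext ?_⟩, hK⟩
      show (IsLocalRing.maximalIdeal (FractionRing R)).comap (algebraMap R (FractionRing R)) = (s : PrimeSpectrum R).asIdeal
      rw [hs, IsLocalRing.maximalIdeal_eq_bot, ← RingHom.ker_eq_comap_bot]
      exact (RingHom.injective_iff_ker_eq_bot _).1 (IsFractionRing.injective R (FractionRing R))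
    · refine ⟨IsLocalRing.ResidueField R, inferInstance, t, ⟨IsLocalRing.closedPoint _, PrimeSpectrum.ext ?_⟩, hk⟩
      show (IsLocalRing.maximalIdeal (IsLocalRing.ResidueField R)).comap (IsLocalRing.residue R) = (s : PrimeSpectrum R).asIdeal
      rw [IsLocalRing.maximalIdeal_eq_bot, ← RingHom.ker_eq_comap_bot, IsLocalRing.ker_residue]
      exact (IsLocalRing.eq_maximalIdeal ((s : PrimeSpectrum R).isPrime.isMaximal hs)).symm

end Groth.Agent.S18501
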