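import Groth.Statements.S18502
import Groth.Agent.AlgGrp2.TorsorQuot
import Groth.Agent.AlgGrp1.Antiaffine
-- import your own Groth.Agent.* helpers here

set_option autoImplicit false
universe u
open CategoryTheory MonoidalCategory CartesianMonoidalCategory MonObj GrpObj AlgebraicGeometry Topology
open EqInt

namespace Groth.Agent.S18502

/-- Over a field k, let an affine group scheme G of finite type act on X, let X and Y be separated and
of finite type over k, and let φ : X → Y be G-invariant, flat and surjective with (σ, p₂) : G × X →
X ×_Y X an isomorphism (X is a principal G-bundle over Y). Conclusion: the pair (Y, φ) realizes Y as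
a geometric quotient of X under G, and G acts freely, meaning (σ, p₂) : G × X → X × X is a closed
immersion. (The source takes X and Y integral; integrality plays no role. A geometric quotient is
taken here with φ universally submersive.) -/
theorem result (k : Type u) [Field k]
    (G X Y : Over (Spec (CommRingCat.of k))) [GrpObj G] [IsAffine G.left] [LocallyOfFiniteType G.hom]
    [LocallyOfFiniteType X.hom] [QuasiCompact X.hom] [IsSeparated X.hom]
    [LocallyOfFiniteType Y.hom] [QuasiCompact Y.hom] [IsSeparated Y.hom]
    (a : AlgGrp.Action G X) (φ : X ⟶ Y) (hinv : GIT.IsInvariant a φ) [Flat φ.left] [Surjective φ.left]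
    (hcart : IsIso (GIT.PsiY a φ hinv)) :
    GIT.IsGeomQuot a φ ∧ IsClosedImmersion (GIT.psi a (𝟙 X)).left := by
  have hsq : IsPullback a.act.left (snd G X).left φ.left φ.left :=
    IsPullback.of_iso_pullback ⟨hinv.left⟩ (asIso (GIT.PsiY a φ hinv)) (Limits.pullback.lift_fst _ _ _) (Limits.pullback.lift_snd _ _ _)
  have := Groth.AlgGrp1.quasiSeparated_of_locallyOfFiniteType Y
  have : QuasiCompact φ.left := by
    have : QuasiCompact (φ.left ≫ Y.hom) := by rw [Over.w φ]; infer_instance
    exact QuasiCompact.of_comp φ.left Y.hom
  refine ⟨Groth.AlgGrp2.isGeomQuot_of_torsor a φ hsq, ?_⟩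
  let m : Limits.pullback φ.left φ.left ⟶ (X ⊗ X).left :=
    Limits.pullback.mapDesc φ.left φ.left Y.hom ≫ (Limits.pullback.congrHom (Over.w φ) (Over.w φ)).hom
  have e : (GIT.psi a (𝟙 X)).left = GIT.PsiY a φ hinv ≫ m := by
    apply Limits.pullback.hom_ext
    · refine (Groth.GrpschAbsch.lift_left_comp_fst ((G ◁ 𝟙 X) ≫ a.act) (snd G X)).trans ?_
      simp only [m, GIT.PsiY, Category.assoc, Limits.pullback.congrHom_hom, Limits.pullback.mapDesc,
        Limits.pullback.map, Limits.pullback.lift_fst, Limits.pullback.lift_fst_assoc, Category.comp_id]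
      rw [whiskerLeft_id, Category.id_comp]
    · refine (Groth.GrpschAbsch.lift_left_comp_snd ((G ◁ 𝟙 X) ≫ a.act) (snd G X)).trans ?_
      simp only [m, GIT.PsiY, Category.assoc, Limits.pullback.congrHom_hom, Limits.pullback.mapDesc,
        Limits.pullback.map, Limits.pullback.lift_snd, Limits.pullback.lift_snd_assoc, Category.comp_id]
  rw [e]
  infer_instance

end Groth.Agent.S18502
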