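import Groth.Statements.S18503
import Mathlib
import Groth.Agent.FlatmorThree.FibreClosedImmersion
import Groth.Agent.Agf.Quot
-- import your own Groth.Agent.* helpers here

set_option autoImplicit false
universe u
open CategoryTheory MonoidalCategory CartesianMonoidalCategory MonObj GrpObj AlgebraicGeometry Topology
open EqInt

namespace Groth.Agent.S18503

open CategoryTheory CategoryTheory.Limits AlgebraicGeometry in
theorem isClosedImmersion_of_fibres {Z X : Scheme.{u}} (f : Z ⟶ X) [IsProper f]
    (h : ∀ x : X, IsIso (f.fiberToSpecResidueField x)) : IsClosedImmersion f := by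
  have hU : ∀ x : X, ∃ U : X.Opens, x ∈ U ∧ IsClosedImmersion (f ∣_ U) := fun x => by
    haveI := h x
    exact Groth.FlatmorThree.FibreCI.exists_of_universallyClosed f x inferInstance ⊤ trivial
      inferInstance
  choose U hxU hcl using hU
  refine (IsZariskiLocalAtTarget.iff_of_iSup_eq_top (P := @IsClosedImmersion) U ?_).2 hcl
  exact top_le_iff.1 fun x _ => TopologicalSpace.Opens.mem_iSup.2 ⟨x, hxU x⟩


/-- Over a field k, let an affine group scheme G of finite type act on a quasi-separated scheme X of
finite type over k. If the action is proper (the morphism (σ, p₂) : G × X → X × X is proper) and the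
stabilizer of every point is trivial (for each point x of X the fibre over x of the stabilizer group
scheme (G × X) ×_{X × X} X → X, the pullback of (σ, p₂) along the diagonal, is Spec κ(x) through its
structure map), then the action is free: (σ, p₂) is a closed immersion. (Stated for X a scheme; the
source allows an algebraic space.) -/
theorem result (k : Type u) [Field k]
    (G X : Over (Spec (CommRingCat.of k))) [GrpObj G] [IsAffine G.left] [LocallyOfFiniteType G.hom]
    [LocallyOfFiniteType X.hom] [QuasiCompact X.hom] [QuasiSeparated X.hom]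
    (a : AlgGrp.Action G X) (hp : IsProper (GIT.psi a (𝟙 X)).left)
    (htriv : ∀ x : ↥X.left, IsIso ((Limits.pullback.snd (GIT.psi a (𝟙 X)).left
      (CartesianMonoidalCategory.lift (𝟙 X) (𝟙 X)).left).fiberToSpecResidueField x)) :
    IsClosedImmersion (GIT.psi a (𝟙 X)).left := by
  let T0 := Limits.pullback.snd (GIT.psi a (𝟙 X)).left (CartesianMonoidalCategory.lift (𝟙 X) (𝟙 X)).left
  haveI := hp
  haveI : IsClosedImmersion T0 := isClosedImmersion_of_fibres T0 htriv
  have hmono : Mono (GIT.psi a (𝟙 X)).left := by
    refine ⟨fun {T₀} u v huv => ?_⟩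
    have hw : v ≫ (G ⊗ X).hom = u ≫ (G ⊗ X).hom := by
      rw [← Over.w (GIT.psi a (𝟙 X)), ← Category.assoc, ← huv, Category.assoc]
    let T : Over (Spec (CommRingCat.of k)) := Over.mk (u ≫ (G ⊗ X).hom)
    let u' : T ⟶ G ⊗ X := Over.homMk u rfl
    let v' : T ⟶ G ⊗ X := Over.homMk v hw
    have he : u' ≫ GIT.psi a (𝟙 X) = v' ≫ GIT.psi a (𝟙 X) := Over.OverMorphism.ext huv
    suffices u' = v' from congrArg CommaMorphism.left this
    let g := u' ≫ CartesianMonoidalCategory.fst G X
    let g' := v' ≫ CartesianMonoidalCategory.fst G X
    let x := u' ≫ CartesianMonoidalCategory.snd G X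
    have hu : u' = CartesianMonoidalCategory.lift g x := by
      apply CartesianMonoidalCategory.hom_ext <;> simp [g, x]
    have hxv : v' ≫ CartesianMonoidalCategory.snd G X = x := by
      have := congrArg (fun r => r ≫ CartesianMonoidalCategory.snd X X) he
      simpa [GIT.psi, x] using this.symm
    have hv : v' = CartesianMonoidalCategory.lift g' x := by
      apply CartesianMonoidalCategory.hom_ext <;> simp [g', hxv]
    have hact : CartesianMonoidalCategory.lift g x ≫ a.act = CartesianMonoidalCategory.lift g' x ≫ a.act := by
      have := congrArg (fun r => r ≫ CartesianMonoidalCategory.fst X X) he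
      rw [hu, hv] at this
      simpa [GIT.psi] using this
    have hstab : CartesianMonoidalCategory.lift (g'⁻¹ * g) x ≫ a.act = x := by
      rw [Groth.Agf.lift_mul_act, hact, ← Groth.Agf.lift_mul_act, inv_mul_cancel, Groth.Agf.lift_one_act]
    have hone : CartesianMonoidalCategory.lift (1 : T ⟶ G) x ≫ a.act = x := Groth.Agf.lift_one_act a x
    have key : ∀ h : T ⟶ G, CartesianMonoidalCategory.lift h x ≫ a.act = x →
        (CartesianMonoidalCategory.lift h x).left ≫ (GIT.psi a (𝟙 X)).left =
          x.left ≫ (CartesianMonoidalCategory.lift (𝟙 X) (𝟙 X)).left := by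
      intro h hh
      rw [← Over.comp_left, ← Over.comp_left]
      congr 1
      apply CartesianMonoidalCategory.hom_ext <;> simp [GIT.psi, hh]
    haveI : Mono T0 := inferInstance
    have hl : Limits.pullback.lift _ _ (key _ hstab) = Limits.pullback.lift _ _ (key _ hone) := by
      rw [← cancel_mono T0, Limits.pullback.lift_snd, Limits.pullback.lift_snd]
    have hfst := congrArg (fun r => r ≫ Limits.pullback.fst _ _) hl
    simp only [Limits.pullback.lift_fst] at hfst
    have hgg : g'⁻¹ * g = 1 := by
      have := congrArg (fun r => r ≫ CartesianMonoidalCategory.fst G X) (Over.OverMorphism.ext hfst)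
      simpa using this
    rw [hu, hv, inv_mul_eq_one.1 hgg]
  exact (IsClosedImmersion.iff_isProper_and_mono _).2 ⟨hp, hmono⟩

end Groth.Agent.S18503
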