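import Groth.Statements.S18505
import Mathlib
import Groth.Agent.S9821
import Groth.Agent.Variety2.Normal
import Groth.Agent.FiltBlProj.DegreeZero
-- import your own Groth.Agent.* helpers here

set_option autoImplicit false
universe u
open CategoryTheory MonoidalCategory CartesianMonoidalCategory MonObj GrpObj AlgebraicGeometry Topology
open EqInt

namespace Groth.Agent.S18505

open CategoryTheory CategoryTheory.Limits AlgebraicGeometry CartesianMonoidalCategory MonoidalCategory in
theorem eq_zero_of_mul_eq_zero {X P : Scheme.{u}} [IsIntegral X] (g : P ⟶ X) [Flat g] {V : X.Opens}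
    {b : Γ(X, V)} (hb : b ≠ 0) {W : P.Opens} (hW : W ≤ g ⁻¹ᵁ V) {s : Γ(P, W)}
    (hs : g.appLE V W hW b * s = 0) : s = 0 := by
  refine TopCat.Presheaf.section_ext P.sheaf W s 0 fun w hw => ?_
  change P.presheaf.germ W w hw s = P.presheaf.germ W w hw 0
  have hgw : g w ∈ V := hW hw
  have hne : X.presheaf.germ V (g w) hgw b ≠ 0 := fun h =>
    hb (germ_injective_of_isIntegral X (g w) hgw (h.trans (map_zero _).symm))
  algebraize [(g.stalkMap w).hom]
  haveI : Module.Flat (X.presheaf.stalk (g w)) (P.presheaf.stalk w) := Flat.stalkMap g w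
  have hreg : IsSMulRegular (P.presheaf.stalk w) (X.presheaf.germ V (g w) hgw b) :=
    Module.Flat.isSMulRegular_of_nonZeroDivisors (mem_nonZeroDivisors_of_ne_zero hne)
  have he := congrArg (P.presheaf.germ W w hw) hs
  rw [map_mul, map_zero] at he
  have e : P.presheaf.germ W w hw (g.appLE V W hW b) = g.stalkMap w (X.presheaf.germ V (g w) hgw b) := by
    rw [Scheme.Hom.germ_stalkMap_apply, Scheme.Hom.appLE]
    exact P.presheaf.germ_res_apply _ _ _ _
  rw [e] at he
  rw [map_zero]
  refine hreg.right_eq_zero_of_smul ?_
  rw [Algebra.smul_def]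
  exact he


/-- Over an algebraically closed field k of characteristic zero, let an affine group scheme G of finite
type act on a normal variety X (integral, separated, of finite type over k, with integrally closed
local rings) and let (Y, φ) be a geometric quotient of X by G with Y separated of finite type over
k. Then Y is normal. (The other two conditions of the published criterion are immediate from the
definition of a geometric quotient, and its converse rests on a result quoted there without proof;
only this implication is stated. A geometric quotient is taken here with φ universally submersive.) -/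
theorem result (k : Type u) [Field k] [IsAlgClosed k] [CharZero k]
    (G X Y : Over (Spec (CommRingCat.of k))) [GrpObj G] [IsAffine G.left] [LocallyOfFiniteType G.hom]
    [LocallyOfFiniteType X.hom] [QuasiCompact X.hom] [IsSeparated X.hom] [IsIntegral X.left]
    (hX : Pi1.IsNormalScheme X.left)
    [LocallyOfFiniteType Y.hom] [QuasiCompact Y.hom] [IsSeparated Y.hom]
    (a : AlgGrp.Action G X) (φ : X ⟶ Y) (h : GIT.IsGeomQuot a φ) :
    Pi1.IsNormalScheme Y.left := by
  haveI hsurj : Surjective φ.left := ⟨h.surj⟩
  haveI : IrreducibleSpace Y.left := by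
    have hirr : IsIrreducible (Set.univ : Set Y.left) := by
      rw [← h.surj.range_eq, ← Set.image_univ]
      exact (IrreducibleSpace.isIrreducible_univ X.left).image _ φ.left.continuous.continuousOn
    haveI : PreirreducibleSpace Y.left := ⟨hirr.2⟩
    haveI : Nonempty Y.left := ⟨φ.left (Classical.arbitrary X.left)⟩
    constructor
    assumption
  haveI : IsReduced Y.left := ⟨fun U => isReduced_of_injective (φ.left.app U).hom (h.sections U).1⟩
  haveI : IsIntegral Y.left := isIntegral_of_irreducibleSpace_of_isReduced _
  haveI : Flat G.hom := by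
    haveI : Subsingleton (Spec (CommRingCat.of k)) := inferInstanceAs (Subsingleton (PrimeSpectrum k))
    infer_instance
  haveI : Flat (snd G X).left := inferInstanceAs (Flat (Limits.pullback.snd G.hom X.hom))
  refine (Groth.Agent.S9821.result Y.left).2 fun U hUne hU => ?_
  obtain ⟨⟨y, hy⟩⟩ := hUne
  obtain ⟨x, hx⟩ := h.surj y
  haveI : Nonempty (φ.left ⁻¹ᵁ U : X.left.Opens) := ⟨⟨x, show φ.left x ∈ U from hx ▸ hy⟩⟩
  haveI : IsIntegrallyClosed Γ(X.left, φ.left ⁻¹ᵁ U) := Groth.Variety2.isIntegrallyClosed_Γ (fun x => (hX x).2) _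
  refine Groth.FiltBlProj.isIntegrallyClosed_of_exists_mul_eq (φ.left.app U).hom (h.sections U).1
    fun x₁ y₁ c hc => ?_
  by_cases hy0 : y₁ = 0
  · exact ⟨0, by rw [hc, hy0, map_zero, mul_zero, mul_zero]⟩
  have hb : φ.left.app U y₁ ≠ 0 := fun e => hy0 ((h.sections U).1 (e.trans (map_zero _).symm))
  have hinvmem : ∀ z, GIT.IsInvSection a φ U (φ.left.app U z) := fun z => by
    have : φ.left.app U z ∈ Set.range (φ.left.app U) := ⟨z, rfl⟩
    rwa [(h.sections U).2] at this
  have h1 := hinvmem x₁
  have h2 := hinvmem y₁
  have hc' : φ.left.app U x₁ = c * φ.left.app U y₁ := hc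
  have hcinv : GIT.IsInvSection a φ U c := by
    simp only [GIT.IsInvSection] at h1 h2 ⊢
    rw [hc', map_mul, map_mul, h2] at h1
    refine sub_eq_zero.1 (eq_zero_of_mul_eq_zero (snd G X).left hb inf_le_right ?_)
    rw [mul_sub, mul_comm, h1, mul_comm, sub_self]
  have : c ∈ Set.range (φ.left.app U) := by rw [(h.sections U).2]; exact hcinv
  obtain ⟨d, hd⟩ := this
  exact ⟨d, by rw [hc, ← hd]⟩

end Groth.Agent.S18505
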