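import Groth.Statements.S18506
import Groth.Agent.S16133
import Groth.Agent.Pi1Desc.Fpqc
import Groth.Agent.GrpschAbsch.Basic

set_option autoImplicit false
set_option backward.isDefEq.respectTransparency false
set_option backward.defeqAttrib.useBackward true
universe u
open CategoryTheory MonoidalCategory CartesianMonoidalCategory MonObj GrpObj AlgebraicGeometry Topology
open EqInt

namespace Groth.Agent.S18506

open CategoryTheory.Limits
open Groth.Pi1Desc

/-- Descent along a morphism with a section is effective. -/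
theorem eff_of_section {V X S : Scheme.{u}} {h : V ⟶ X} {p : X ⟶ S} (A : Act h p) (σ : S ⟶ X)
    (hσ : σ ≫ p = 𝟙 S) : A.Eff := by
  have e : h ≫ p = (h ≫ p ≫ σ) ≫ p := by simp [hσ]
  have e' : (𝟙 V) ≫ h ≫ p = (h ≫ p ≫ σ) ≫ p := by rw [Category.id_comp]; exact e
  let q : V ⟶ pullback h σ := pullback.lift (A.act (𝟙 V) (h ≫ p ≫ σ) e') (h ≫ p)
    (by rw [A.act_hom, Category.assoc])
  have hq : ∀ {T : Scheme.{u}} (v : T ⟶ V) (e₁ : v ≫ h ≫ p = (v ≫ h ≫ p ≫ σ) ≫ p),
      v ≫ q ≫ pullback.fst h σ = A.act v (v ≫ h ≫ p ≫ σ) e₁ := fun v e₁ => by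
    rw [pullback.lift_fst, A.comp_act]
    exact A.congr (Category.comp_id _) rfl _ _
  have hc : ∀ {T : Scheme.{u}} (v : T ⟶ V), v ≫ h ≫ p = (v ≫ h ≫ p ≫ σ) ≫ p := fun v => by
    simp only [Category.assoc, hσ, Category.comp_id]
  refine ⟨pullback h σ, pullback.snd h σ, q, ?_, fun T v x ev => ?_⟩
  · have w : q ≫ pullback.snd h σ = h ≫ p := pullback.lift_snd _ _ _
    have hp : pullback.fst h σ ≫ h ≫ p = pullback.snd h σ := by
      rw [pullback.condition_assoc, hσ, Category.comp_id]
    have ec : ∀ (s : PullbackCone (pullback.snd h σ) p),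
        (s.fst ≫ pullback.fst h σ) ≫ h ≫ p = s.snd ≫ p := fun s => by
      rw [Category.assoc, hp, s.condition]
    refine ⟨⟨w⟩, ⟨PullbackCone.IsLimit.mk _ (fun s => A.act (s.fst ≫ pullback.fst h σ) s.snd (ec s))
      (fun s => ?_) (fun s => A.act_hom _ _ _) (fun s m h₁ h₂ => ?_)⟩⟩
    · apply pullback.hom_ext
      · rw [Category.assoc, hq _ (hc _)]
        have e₂ : (s.fst ≫ pullback.fst h σ) ≫ h ≫ p =
            (A.act (s.fst ≫ pullback.fst h σ) s.snd (ec s) ≫ h ≫ p ≫ σ) ≫ p := by
          rw [A.act_hom_assoc]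
          simp only [Category.assoc, hσ, Category.comp_id, hp, s.condition]
        rw [A.act_act _ _ _ (ec s) e₂]
        refine A.act_self _ _ _ ?_
        rw [A.act_hom_assoc, Category.assoc, pullback.condition, ← s.condition_assoc]
      · rw [Category.assoc, pullback.lift_snd, A.act_hom_assoc, s.condition]
    · have e₀ : m ≫ h ≫ p = s.snd ≫ p := by rw [← h₂, Category.assoc]
      have h1 : s.fst ≫ pullback.fst h σ = A.act m (m ≫ h ≫ p ≫ σ) (hc m) := by
        rw [← h₁, Category.assoc, hq m (hc m)]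
      refine Eq.trans ?_ (A.congr h1.symm rfl (by rw [A.act_hom_assoc, ← hc m, e₀]) (ec s))
      rw [A.act_act _ _ _ (hc m) e₀, A.act_self _ _ _ h₂]
  · apply pullback.hom_ext
    · rw [Category.assoc, Category.assoc, hq _ (hc _), hq _ (hc _)]
      have e₂ : v ≫ h ≫ p = (A.act v x ev ≫ h ≫ p ≫ σ) ≫ p := by
        rw [A.act_hom_assoc]
        simp only [Category.assoc, hσ, Category.comp_id, ev]
      rw [A.act_act _ _ _ ev e₂]
      refine A.congr rfl ?_ _ _
      rw [A.act_hom_assoc, ← reassoc_of% ev]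
    · rw [Category.assoc, Category.assoc, pullback.lift_snd, A.act_hom_assoc, ev]

/-- The associated bundle of a Zariski-locally trivial torsor. -/
theorem bundle {S : Scheme.{u}} {G X Y F : Over S} [GrpObj G] (a : AlgGrp.Action G X) (φ : X ⟶ Y)
    (hsq : IsPullback a.act.left (snd G X).left φ.left φ.left) [IsCover φ.left]
    (hzar : ∀ y : ↥Y.left, ∃ (W : Y.left.Opens) (s : (↑W : Scheme.{u}) ⟶ X.left), y ∈ W ∧ s ≫ φ.left = W.ι)
    (b : AlgGrp.Action G F) :
    ∃ (Q : Over S) (q : X ⊗ F ⟶ Q) (_ : IsPullback (a.prod b).act.left (snd G (X ⊗ F)).left q.left q.left),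
      Flat q.left ∧ Surjective q.left ∧ GIT.IsInvariant (a.prod b) q := by
  let h := (fst X F).left
  let A := Groth.Agent.S16133.bundleAct hsq b
  have hE : A.Eff := by
    refine Act.eff_of_cover fun z => ?_
    obtain ⟨W, s, hzW, hs⟩ := hzar ((h ≫ φ.left) z)
    refine ⟨_, hzW, A.stable_preimage W, A.effOn_preimage ?_⟩
    have hr : Set.range s ⊆ Set.range (φ.left ⁻¹ᵁ W).ι := by
      rintro _ ⟨t, rfl⟩
      rw [Scheme.Opens.range_ι]
      show φ.left (s t) ∈ W
      rw [← Scheme.Hom.comp_apply, hs]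
      exact t.2
    refine eff_of_section _ (IsOpenImmersion.lift (φ.left ⁻¹ᵁ W).ι s hr) ?_
    rw [← cancel_mono W.ι, Category.assoc, morphismRestrict_ι, IsOpenImmersion.lift_fac_assoc, hs,
      Category.id_comp]
  obtain ⟨U, π, q₀, hpb, hcompat⟩ := hE
  let Q : Over S := Over.mk (π ≫ Y.hom)
  let q : X ⊗ F ⟶ Q := Over.homMk q₀ (by
    show q₀ ≫ π ≫ Y.hom = _
    rw [hpb.w_assoc, Over.w φ]; exact Over.w (fst X F))
  have : Flat q.left := MorphismProperty.of_isPullback hpb.flip IsCover.flat
  have : Surjective q.left := MorphismProperty.of_isPullback hpb.flip IsCover.surjective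
  have hd : (a.prod b).act ≫ fst X F = (G ◁ fst X F) ≫ a.act := by simp [AlgGrp.Action.prod]
  have houter : IsPullback ((G ◁ fst X F).left ≫ a.act.left) (snd G (X ⊗ F)).left φ.left
      (h ≫ φ.left) := (Groth.GrpschAbsch.isPullback_whiskerLeft G (fst X F)).paste_horiz hsq
  have hinv : (a.prod b).act ≫ q = snd G (X ⊗ F) ≫ q := by
    apply Over.OverMorphism.ext
    let x' := (lift (fst G (X ⊗ F)) (snd G (X ⊗ F) ≫ fst X F) ≫ a.act).left
    have e : (snd G (X ⊗ F)).left ≫ (fst X F).left ≫ φ.left = x' ≫ φ.left := by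
      have := congrArg ((lift (fst G (X ⊗ F)) (snd G (X ⊗ F) ≫ fst X F)).left ≫ ·) hsq.w
      simp only [← Category.assoc, ← Over.comp_left, lift_snd] at this
      simp only [x', ← Over.comp_left, Category.assoc] at this ⊢
      exact this.symm
    have h1 := hcompat _ (snd G (X ⊗ F)).left x' e
    have h2 := Groth.Agent.S16133.moveTo_eq hsq b (snd G (X ⊗ F)).left x' e (t := (G ⊗ (X ⊗ F)).hom)
      (snd G (X ⊗ F)) (fst G (X ⊗ F)) rfl rfl
    rw [show (Groth.Agent.S16133.bundleAct hsq b).act _ _ e = _ from h2] at h1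
    have h3 : (a.prod b).act =
        Groth.Agent.S16133.diagAct (a := a) b (fst G (X ⊗ F)) (snd G (X ⊗ F)) := by
      have hwl : ∀ {V : Over S} (w : X ⊗ F ⟶ V),
          (G ◁ w) = lift (fst G (X ⊗ F)) (snd G (X ⊗ F) ≫ w) := fun w => by ext <;> simp
      show lift ((G ◁ fst X F) ≫ a.act) ((G ◁ snd X F) ≫ b.act) = _
      rw [hwl, hwl]
      rfl
    rw [Over.comp_left, Over.comp_left, h3]
    exact h1
  have hq : IsPullback (a.prod b).act.left (snd G (X ⊗ F)).left q.left q.left := by
    refine IsPullback.of_right ?_ (congrArg Over.Hom.left hinv) hpb.flip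
    rw [← Over.comp_left, hd, Over.comp_left]
    exact hpb.w.symm ▸ houter
  exact ⟨Q, q, hq, inferInstance, inferInstance, hinv⟩

theorem braid {S : Scheme.{u}} {G X U : Over S} [GrpObj G] (a : AlgGrp.Action G X) (b : AlgGrp.Action G U) :
    (a.prod b).act ≫ (β_ X U).hom = (G ◁ (β_ X U).hom) ≫ (b.prod a).act := by
  apply CartesianMonoidalCategory.hom_ext <;>
    simp [AlgGrp.Action.prod, ← Category.assoc, ← MonoidalCategory.whiskerLeft_comp]

theorem main {S : Scheme.{u}} {G X U B : Over S} [GrpObj G]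
    (a : AlgGrp.Action G X) (b : AlgGrp.Action G U) (π : U ⟶ B) (hinv : GIT.IsInvariant b π)
    [Flat π.left] [Surjective π.left] [QuasiCompact π.left] (hcart : IsIso (GIT.PsiY b π hinv))
    (hzar : ∀ y : ↥B.left, ∃ (W : B.left.Opens) (s : (↑W : Scheme.{u}) ⟶ U.left), y ∈ W ∧ s ≫ π.left = W.ι) :
    ∃ (Q : Over S) (ρ : X ⊗ U ⟶ Q) (hρ : GIT.IsInvariant (a.prod b) ρ),
      Flat ρ.left ∧ Surjective ρ.left ∧ IsIso (GIT.PsiY (a.prod b) ρ hρ) := by
  have hsq : IsPullback b.act.left (snd G U).left π.left π.left :=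
    IsPullback.of_iso_pullback ⟨hinv.left⟩ (asIso (GIT.PsiY b π hinv)) (pullback.lift_fst _ _ _)
      (pullback.lift_snd _ _ _)
  obtain ⟨Q, q, hq, _, _, hqinv⟩ := bundle b π hsq hzar a
  let βX := (β_ X U).hom
  have hρ : GIT.IsInvariant (a.prod b) (βX ≫ q) := by
    show (a.prod b).act ≫ βX ≫ q = snd G (X ⊗ U) ≫ βX ≫ q
    rw [← Category.assoc, braid, Category.assoc, hqinv, whiskerLeft_snd_assoc]
  have : IsIso βX.left := inferInstanceAs (IsIso ((Over.forget _).map (β_ X U).hom))
  have : IsIso (G ◁ βX).left := inferInstanceAs (IsIso ((Over.forget _).map (G ◁ (β_ X U).hom)))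
  have hρsq : IsPullback (a.prod b).act.left (snd G (X ⊗ U)).left (βX ≫ q).left (βX ≫ q).left := by
    refine hq.of_iso (asIso (G ◁ βX).left).symm (asIso βX.left).symm (asIso βX.left).symm (Iso.refl _)
      ?_ ?_ ?_ ?_
    · simp only [Iso.symm_hom, asIso_inv, IsIso.eq_inv_comp, IsIso.comp_inv_eq, ← Over.comp_left,
        ← Category.assoc]
      exact (congrArg Over.Hom.left (braid a b)).symm
    · simp only [Iso.symm_hom, asIso_inv, IsIso.eq_inv_comp, IsIso.comp_inv_eq, ← Over.comp_left,
        ← Category.assoc, βX, whiskerLeft_snd]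
    · simp
    · simp
  refine ⟨Q, βX ≫ q, hρ, inferInstanceAs (Flat (βX.left ≫ q.left)),
    inferInstanceAs (Surjective (βX.left ≫ q.left)), ?_⟩
  have e : GIT.PsiY (a.prod b) (βX ≫ q) hρ = hρsq.isoPullback.hom := by
    apply pullback.hom_ext
    · exact (pullback.lift_fst _ _ _).trans hρsq.isoPullback_hom_fst.symm
    · exact (pullback.lift_snd _ _ _).trans hρsq.isoPullback_hom_snd.symm
  rw [e]; infer_instance


/-- Over a field k, let an affine group scheme G of finite type act on X and on U (quasi-separated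
schemes of finite type over k), and let π : U → B be a principal bundle quotient (π is G-invariant,
flat and surjective and (σ, p₂) : G × U → U ×_B U is an isomorphism) which is locally trivial in the
Zariski topology: every point of B has an open neighbourhood over which π has a section. Then the
diagonal action of G on X × U has a principal bundle quotient X × U → Q in the category of schemes.
(The published hypothesis is that G is special, i.e. every principal G-bundle is Zariski-locally
trivial; only the local triviality of U → B is used, and it is what is assumed here.) -/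
theorem result (k : Type u) [Field k]
    (G X U B : Over (Spec (CommRingCat.of k))) [GrpObj G] [IsAffine G.left] [LocallyOfFiniteType G.hom]
    [LocallyOfFiniteType X.hom] [QuasiCompact X.hom] [QuasiSeparated X.hom]
    [LocallyOfFiniteType U.hom] [QuasiCompact U.hom] [QuasiSeparated U.hom]
    [LocallyOfFiniteType B.hom] [QuasiCompact B.hom] [QuasiSeparated B.hom]
    (a : AlgGrp.Action G X) (b : AlgGrp.Action G U) (π : U ⟶ B) (hinv : GIT.IsInvariant b π)
    [Flat π.left] [Surjective π.left] (hcart : IsIso (GIT.PsiY b π hinv))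
    (hzar : ∀ y : ↥B.left, ∃ (W : B.left.Opens) (s : (↑W : Scheme.{u}) ⟶ U.left), y ∈ W ∧ s ≫ π.left = W.ι) :
    ∃ (Q : Over (Spec (CommRingCat.of k))) (ρ : X ⊗ U ⟶ Q) (hρ : GIT.IsInvariant (a.prod b) ρ),
      Flat ρ.left ∧ Surjective ρ.left ∧ IsIso (GIT.PsiY (a.prod b) ρ hρ) := by
  have : QuasiCompact π.left := by
    have : QuasiCompact (π.left ≫ B.hom) := by rw [Over.w π]; infer_instance
    exact QuasiCompact.of_comp π.left B.hom
  exact main a b π hinv hcart hzar

end Groth.Agent.S18506
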