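import Groth.Statements.S18508
import Mathlib
import Groth.Agent.EqStab.StabFibre
-- import your own Groth.Agent.* helpers here

set_option autoImplicit false
universe u
open CategoryTheory MonoidalCategory CartesianMonoidalCategory MonObj GrpObj AlgebraicGeometry Topology
open EqInt

namespace Groth.Agent.S18508

open CategoryTheory CategoryTheory.Limits AlgebraicGeometry in
theorem isNormal_field (K : Type u) [Field K] : Pi1.IsNormalScheme (Spec (CommRingCat.of K)) := fun y => by
  have hy : y = genericPoint (Spec (CommRingCat.of K)) := @Subsingleton.elim (PrimeSpectrum K) _ _ _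
  subst hy
  exact ⟨inferInstanceAs (IsDomain (Spec (CommRingCat.of K)).functionField),
    inferInstanceAs (IsIntegrallyClosed (Spec (CommRingCat.of K)).functionField)⟩


/-- Over a field k, let an affine group scheme G of finite type act on a separated scheme X of finite
type over k, with stabilizer group scheme S = (G × X) ×_{X × X} X → X (the pullback of (σ, p₂) along
the diagonal). Assume that k has characteristic zero or that G is finite étale over k. Then the
action is set-theoretically free (S → X is universally injective: the stabilizer of every geometric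
point inside the group of geometric points is trivial) if and only if it is geometrically free (for
every point x of X the fibre of S over x is Spec κ(x) through its structure map). (The source takes
X integral and tests geometric points with values in an algebraic closure of k; the statement here
is over all points, which is what the argument gives pointwise.) -/
theorem result (k : Type u) [Field k]
    (G X : Over (Spec (CommRingCat.of k))) [GrpObj G] [IsAffine G.left] [LocallyOfFiniteType G.hom]
    [LocallyOfFiniteType X.hom] [QuasiCompact X.hom] [IsSeparated X.hom]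
    (hG : CharZero k ∨ (IsFinite G.hom ∧ Etale G.hom)) (a : AlgGrp.Action G X) :
    UniversallyInjective (Limits.pullback.snd (GIT.psi a (𝟙 X)).left (CartesianMonoidalCategory.lift (𝟙 X) (𝟙 X)).left) ↔
      ∀ x : ↥X.left, IsIso ((Limits.pullback.snd (GIT.psi a (𝟙 X)).left (CartesianMonoidalCategory.lift (𝟙 X) (𝟙 X)).left).fiberToSpecResidueField x) := by
  refine ⟨fun hu x => ?_, Groth.EqStab.universallyInjective_of_fibres _⟩
  haveI : UniversallyInjective (Groth.EqStab.stabProj a) := hu
  haveI : IsSeparated (G ⊗ X).hom :=
    inferInstanceAs (IsSeparated (Limits.pullback.fst G.hom X.hom ≫ G.hom))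
  haveI : LocallyOfFiniteType (G ⊗ X).hom :=
    inferInstanceAs (LocallyOfFiniteType (Limits.pullback.fst G.hom X.hom ≫ G.hom))
  haveI : IsSeparated (GIT.psi a (𝟙 X)).left := by
    haveI : IsSeparated ((GIT.psi a (𝟙 X)).left ≫ (X ⊗ X).hom) := by rw [Over.w]; infer_instance
    exact IsSeparated.of_comp _ (X ⊗ X).hom
  haveI : LocallyOfFiniteType (GIT.psi a (𝟙 X)).left := by
    haveI : LocallyOfFiniteType ((GIT.psi a (𝟙 X)).left ≫ (X ⊗ X).hom) := by rw [Over.w]; infer_instance
    exact locallyOfFiniteType_of_comp _ (X ⊗ X).hom
  haveI : IsSeparated (Groth.EqStab.stabProj a) := inferInstance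
  haveI : LocallyOfFiniteType (Groth.EqStab.stabProj a) := inferInstance
  let φ := (Groth.EqStab.stabProj a).fiberToSpecResidueField x
  haveI : IsSeparated φ := inferInstanceAs (IsSeparated (Limits.pullback.snd (Groth.EqStab.stabProj a) _))
  haveI : UniversallyInjective φ :=
    MorphismProperty.of_isPullback (P := @UniversallyInjective) (IsPullback.of_hasPullback _ _) hu
  haveI : LocallyOfFiniteType φ := inferInstanceAs (LocallyOfFiniteType (Limits.pullback.snd (Groth.EqStab.stabProj a) _))
  have he : Groth.EqStab.unitSection a x ≫ φ = 𝟙 _ := Groth.EqStab.unitSection_comp a x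
  rcases hG with hchar | ⟨hfin, het⟩
  · let K : Type u := X.left.residueField x
    let rk : CommRingCat.of k ⟶ X.left.residueField x := Spec.preimage (X.left.fromSpecResidueField x ≫ X.hom)
    haveI : CharZero K := charZero_of_injective_ringHom rk.hom.injective
    haveI : LocallyOfFiniteType (Groth.EqStab.stabFibre a x).hom := ‹LocallyOfFiniteType φ›
    haveI : Smooth φ :=
      @GrpschAbsch.smooth_of_charZero K _ _ (Groth.EqStab.stabFibre a x) Groth.EqStab.stabFibreGrpObj _
    haveI : IsReduced ((Groth.EqStab.stabProj a).fiber x) := by
      haveI : ∀ z : ↥((Groth.EqStab.stabProj a).fiber x),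
          _root_.IsReduced (((Groth.EqStab.stabProj a).fiber x).presheaf.stalk z) := fun z => by
        haveI := (Groth.NeronArea.isNormalScheme_of_smooth φ (isNormal_field K) z).1
        infer_instance
      exact isReduced_of_isReduced_stalk _
    haveI : Subsingleton (Spec (X.left.residueField x)) := inferInstanceAs (Subsingleton (PrimeSpectrum K))
    exact Groth.EqStab.isIso_of_reduced φ _ he
  · haveI := het
    haveI : Etale (CartesianMonoidalCategory.snd G X).left :=
      inferInstanceAs (Etale (Limits.pullback.snd G.hom X.hom))
    haveI : FormallyUnramified ((GIT.psi a (𝟙 X)).left ≫ (CartesianMonoidalCategory.snd X X).left) := by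
      rw [← Over.comp_left, show GIT.psi a (𝟙 X) ≫ CartesianMonoidalCategory.snd X X =
        CartesianMonoidalCategory.snd G X from CartesianMonoidalCategory.lift_snd _ _]
      infer_instance
    haveI : FormallyUnramified (GIT.psi a (𝟙 X)).left :=
      FormallyUnramified.of_comp _ (CartesianMonoidalCategory.snd X X).left
    haveI : FormallyUnramified (Groth.EqStab.stabProj a) :=
      MorphismProperty.of_isPullback (P := @FormallyUnramified) (IsPullback.of_hasPullback _ _) inferInstance
    haveI : Surjective (Limits.pullback.diagonal (Groth.EqStab.stabProj a)) :=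
      (UniversallyInjective.iff_diagonal _).1 hu
    haveI : IsIso (Limits.pullback.diagonal (Groth.EqStab.stabProj a)) :=
      (isIso_iff_isOpenImmersion_and_surjective _).2 ⟨inferInstance, inferInstance⟩
    haveI : Mono (Groth.EqStab.stabProj a) := (Limits.pullback.isIso_diagonal_iff _).1 inferInstance
    haveI : Mono φ := inferInstanceAs (Mono (Limits.pullback.snd (Groth.EqStab.stabProj a) _))
    haveI : IsSplitEpi φ := ⟨⟨⟨_, he⟩⟩⟩
    exact isIso_of_mono_of_isSplitEpi φ

end Groth.Agent.S18508
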