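import Groth.Statements.S1851
import Groth.Agent.MilnorKLambda.Key.KeyLemma

set_option autoImplicit false
universe u
open CycAlg

namespace Groth.Agent.S1851

/-- The key lemma for nonzerodivisors; a low-degree case of the Gersten complex for Milnor K-theory: let
A be a Noetherian local ring of dimension 2 and a, b nonzerodivisors. Then the sum over the
height-one primes 𝔮 of A of ord_{A/𝔮}(∂_{A_𝔮}(a, b)) is zero, where ∂_{A_𝔮} is the tame symbol of
the one-dimensional local ring A_𝔮 with values in κ(𝔮) = Frac(A/𝔮) (only finitely many terms are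
nonzero). -/
theorem result (A : Type u) [CommRing A] [IsNoetherianRing A] [IsLocalRing A] (hA : ringKrullDim A = 2) (a b : A) (ha : a ∈ nonZeroDivisors A) (hb : b ∈ nonZeroDivisors A) : ∑ᶠ (q : PrimeSpectrum A) (_ : q.asIdeal.height = 1), CycAlg.ordFrac (A ⧸ q.asIdeal) q.asIdeal.ResidueField (CycAlg.tameSymbol (Localization.AtPrime q.asIdeal) (algebraMap A (Localization.AtPrime q.asIdeal) a) (algebraMap A (Localization.AtPrime q.asIdeal) b)) = 0 := by
  exact Groth.MilnorKLambda.Key.key_lemma hA a b ha hb

end Groth.Agent.S1851
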