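import Groth.Statements.S18510
import Mathlib
import Groth.Agent.AlgGrp2.TorsorQuot
import Groth.Agent.AlgGrp1.Blanchard
import Groth.Agent.AlgGrp1.Antiaffine
-- import your own Groth.Agent.* helpers here

set_option autoImplicit false
universe u
open CategoryTheory MonoidalCategory CartesianMonoidalCategory MonObj GrpObj AlgebraicGeometry Topology
open EqInt

namespace Groth.Agent.S18510


/-- Over a field k, let an affine group scheme G of finite type act on X, on Y and on U (quasi-separated
schemes of finite type over k), let f : X → Y be G-equivariant, and let q_X : X × U → X_G and q_Y :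
Y × U → Y_G be principal bundle quotients for the diagonal actions (each is invariant, flat and
surjective, and (σ, p₂) into the fibre square over the quotient is an isomorphism), X_G and Y_G
being quasi-separated of finite type over k. Let f_G : X_G → Y_G satisfy f_G ∘ q_X = q_Y ∘ (f ×
id_U) as maps X × U → Y_G. If f is proper, resp. flat, resp. smooth, then so is f_G. (Stated for
schemes; the source allows algebraic spaces and also treats regular embeddings and local complete
intersection morphisms, which are not stated here.) -/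
theorem result (k : Type u) [Field k]
    (G X Y U XG YG : Over (Spec (CommRingCat.of k))) [GrpObj G] [IsAffine G.left] [LocallyOfFiniteType G.hom]
    [LocallyOfFiniteType X.hom] [QuasiCompact X.hom] [QuasiSeparated X.hom]
    [LocallyOfFiniteType Y.hom] [QuasiCompact Y.hom] [QuasiSeparated Y.hom]
    [LocallyOfFiniteType U.hom] [QuasiCompact U.hom] [QuasiSeparated U.hom]
    [LocallyOfFiniteType XG.hom] [QuasiCompact XG.hom] [QuasiSeparated XG.hom]
    [LocallyOfFiniteType YG.hom] [QuasiCompact YG.hom] [QuasiSeparated YG.hom]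
    (a : AlgGrp.Action G X) (aY : AlgGrp.Action G Y) (b : AlgGrp.Action G U)
    (f : X ⟶ Y) (hf : AlgGrp.Action.IsEquivariant a aY f)
    (qX : X ⊗ U ⟶ XG) (hqX : GIT.IsInvariant (a.prod b) qX) [Flat qX.left] [Surjective qX.left]
    (hcX : IsIso (GIT.PsiY (a.prod b) qX hqX))
    (qY : Y ⊗ U ⟶ YG) (hqY : GIT.IsInvariant (aY.prod b) qY) [Flat qY.left] [Surjective qY.left]
    (hcY : IsIso (GIT.PsiY (aY.prod b) qY hqY))
    (fG : XG ⟶ YG) (hfG : qX ≫ fG = (f ▷ U) ≫ qY) :
    (IsProper f.left → IsProper fG.left) ∧ (Flat f.left → Flat fG.left) ∧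
      (Smooth f.left → Smooth fG.left) := by
  have hfU : AlgGrp.Action.IsEquivariant (a.prod b) (aY.prod b) (f ▷ U) := by
    show (a.prod b).act ≫ (f ▷ U) = (G ◁ (f ▷ U)) ≫ (aY.prod b).act
    ext1
    · simp only [AlgGrp.Action.prod, Category.assoc, whiskerRight_fst, lift_fst_assoc, lift_fst,
        show a.act ≫ f = (G ◁ f) ≫ aY.act from hf, ← MonoidalCategory.whiskerLeft_comp_assoc]
    · simp only [AlgGrp.Action.prod, Category.assoc, whiskerRight_snd, lift_snd,
        ← MonoidalCategory.whiskerLeft_comp_assoc]
  have := Groth.AlgGrp1.quasiSeparated_of_locallyOfFiniteType YG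
  have := Groth.AlgGrp1.quasiSeparated_of_locallyOfFiniteType XG
  have qcX : QuasiCompact qX.left := by
    have : QuasiCompact (X ⊗ U).hom := inferInstanceAs (QuasiCompact (Limits.pullback.fst X.hom U.hom ≫ X.hom))
    have : QuasiCompact (qX.left ≫ XG.hom) := by rw [Over.w qX]; infer_instance
    exact QuasiCompact.of_comp qX.left XG.hom
  have qcY : QuasiCompact qY.left := by
    have : QuasiCompact (Y ⊗ U).hom := inferInstanceAs (QuasiCompact (Limits.pullback.fst Y.hom U.hom ≫ Y.hom))
    have : QuasiCompact (qY.left ≫ YG.hom) := by rw [Over.w qY]; infer_instance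
    exact QuasiCompact.of_comp qY.left YG.hom
  have sqX : IsPullback (a.prod b).act.left (snd G (X ⊗ U)).left qX.left qX.left :=
    IsPullback.of_iso_pullback ⟨hqX.left⟩ (asIso (GIT.PsiY (a.prod b) qX hqX)) (Limits.pullback.lift_fst _ _ _) (Limits.pullback.lift_snd _ _ _)
  have sqY : IsPullback (aY.prod b).act.left (snd G (Y ⊗ U)).left qY.left qY.left :=
    IsPullback.of_iso_pullback ⟨hqY.left⟩ (asIso (GIT.PsiY (aY.prod b) qY hqY)) (Limits.pullback.lift_fst _ _ _) (Limits.pullback.lift_snd _ _ _)
  have hw : (f ▷ U).left ≫ qY.left = qX.left ≫ fG.left := by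
    rw [← Over.comp_left, ← Over.comp_left, hfG]
  have hA : IsPullback ((a.prod b).act.left ≫ (f ▷ U).left) (snd G (X ⊗ U)).left qY.left (qX.left ≫ fG.left) := by
    have h := (Groth.AlgGrp1.isPullback_whiskerLeft G (f ▷ U)).flip.paste_horiz sqY
    rw [hw, ← Over.comp_left, ← show (a.prod b).act ≫ (f ▷ U) = (G ◁ (f ▷ U)) ≫ (aY.prod b).act from hfU,
      Over.comp_left] at h
    exact h
  let P := Limits.pullback qY.left fG.left
  let m : (X ⊗ U).left ⟶ P := Limits.pullback.lift (f ▷ U).left qX.left hw
  let p : P ⟶ XG.left := Limits.pullback.snd qY.left fG.left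
  let pr : Limits.pullback p qX.left ⟶ P := Limits.pullback.fst p qX.left
  let nn : (G ⊗ (X ⊗ U)).left ⟶ Limits.pullback p qX.left :=
    Limits.pullback.lift ((a.prod b).act.left ≫ m) (snd G (X ⊗ U)).left (by
      rw [Category.assoc, Limits.pullback.lift_snd]
      exact hqX.left)
  have hniso : IsIso nn := by
    have hP : IsPullback (pr ≫ Limits.pullback.fst qY.left fG.left) (Limits.pullback.snd p qX.left) qY.left
        (qX.left ≫ fG.left) :=
      (IsPullback.of_hasPullback p qX.left).paste_horiz (IsPullback.of_hasPullback qY.left fG.left)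
    have e : nn = (hA.isoIsPullback _ _ hP).hom := by
      refine hP.hom_ext ?_ ?_
      · rw [IsPullback.isoIsPullback_hom_fst, ← Category.assoc, Limits.pullback.lift_fst, Category.assoc,
          Limits.pullback.lift_fst]
      · rw [IsPullback.isoIsPullback_hom_snd, Limits.pullback.lift_snd]
    rw [e]
    infer_instance
  have hm : IsIso m := by
    have hB : IsPullback (a.prod b).act.left nn m pr := by
      refine IsPullback.of_bot ?_ (Limits.pullback.lift_fst _ _ _).symm (IsPullback.of_hasPullback p qX.left)
      rw [Limits.pullback.lift_snd, Limits.pullback.lift_snd]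
      exact sqX
    have hpr : Groth.EtaleBase.Fpqc pr :=
      ⟨⟨MorphismProperty.of_isPullback (IsPullback.of_hasPullback p qX.left).flip ‹Surjective qX.left›,
        MorphismProperty.of_isPullback (IsPullback.of_hasPullback p qX.left).flip ‹Flat qX.left›⟩,
        MorphismProperty.of_isPullback (IsPullback.of_hasPullback p qX.left).flip qcX⟩
    exact MorphismProperty.of_isPullback_of_descendsAlong (P := MorphismProperty.isomorphisms Scheme.{u})
      (Q := Groth.EtaleBase.Fpqc) hB.flip hpr hniso
  have sq : IsPullback (f ▷ U).left qX.left qY.left fG.left :=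
    IsPullback.of_iso_pullback ⟨hw⟩ (asIso m) (Limits.pullback.lift_fst _ _ _) (Limits.pullback.lift_snd _ _ _)
  have hq : Groth.EtaleBase.Fpqc qY.left := ⟨⟨‹Surjective qY.left›, ‹Flat qY.left›⟩, qcY⟩
  have hbc := Groth.AlgGrp1.isPullback_whiskerRight f U
  refine ⟨fun h => ?_, fun h => ?_, fun h => ?_⟩
  · exact MorphismProperty.of_isPullback_of_descendsAlong (P := @IsProper) (Q := Groth.EtaleBase.Fpqc) sq hq
      (MorphismProperty.of_isPullback hbc h)
  · have : MorphismProperty.DescendsAlong (@Flat : MorphismProperty Scheme.{u}) Groth.EtaleBase.Fpqc.{u} :=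
      Groth.AlgGrp2.descendsAlong_flat
    exact MorphismProperty.of_isPullback_of_descendsAlong (P := @Flat) (Q := Groth.EtaleBase.Fpqc) sq hq
      (MorphismProperty.of_isPullback hbc h)
  · exact MorphismProperty.of_isPullback_of_descendsAlong (P := @Smooth) (Q := Groth.EtaleBase.Fpqc) sq hq
      (MorphismProperty.of_isPullback hbc h)

end Groth.Agent.S18510
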