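import Groth.Statements.S18511
import Mathlib
import Groth.Agent.Misc14.GeomQuotDescent
-- import your own Groth.Agent.* helpers here

set_option autoImplicit false
universe u
open CategoryTheory MonoidalCategory CartesianMonoidalCategory MonObj GrpObj AlgebraicGeometry Topology
open EqInt

namespace Groth.Agent.S18511


/-- Over a field k, let an affine group scheme G of finite type act on X, with X and Y separated of
finite type over k, and let φ : X → Y be G-invariant. Let α : Y' → Y be faithfully flat and
quasi-compact and let X' → Y' be the base change of φ with its induced action of G (X' → X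
equivariant, X' → Y' invariant). If (Y', φ') is a universal geometric quotient of X' by G, then (Y,
φ) is a universal geometric quotient of X by G. (The source takes X and Y integral; integrality
plays no role. Geometric quotients are taken with universally submersive structure map.) -/
theorem result (k : Type u) [Field k]
    (G X Y X' Y' : Over (Spec (CommRingCat.of k))) [GrpObj G] [IsAffine G.left] [LocallyOfFiniteType G.hom]
    [LocallyOfFiniteType X.hom] [QuasiCompact X.hom] [IsSeparated X.hom]
    [LocallyOfFiniteType Y.hom] [QuasiCompact Y.hom] [IsSeparated Y.hom]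
    (a : AlgGrp.Action G X) (φ : X ⟶ Y) (hinv : GIT.IsInvariant a φ)
    (α : Y' ⟶ Y) [Flat α.left] [Surjective α.left] [QuasiCompact α.left]
    (pr : X' ⟶ X) (φ' : X' ⟶ Y') (hpb : IsPullback pr φ' φ α)
    (a' : AlgGrp.Action G X') (heq : a'.act ≫ pr = (G ◁ pr) ≫ a.act) (hinv' : GIT.IsInvariant a' φ')
    (h : GIT.IsUnivGeomQuot a' φ') :
    GIT.IsUnivGeomQuot a φ := by
  have hw : φ.left ≫ Y.hom = X.hom := Over.w φ
  have : QuasiCompact (φ.left ≫ Y.hom) := hw ▸ inferInstance
  have : IsSeparated (φ.left ≫ Y.hom) := hw ▸ inferInstance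
  have : QuasiCompact φ.left := QuasiCompact.of_comp φ.left Y.hom
  have : IsSeparated φ.left := IsSeparated.of_comp φ.left Y.hom
  refine ⟨Groth.Misc14.GeomQuotDescent.isGeomQuot a hinv hpb a' heq h.1, ?_⟩
  intro XT T prT φT g _ hT aT heqT hinvT
  let T' := Limits.pullback g α
  let gT : T' ⟶ Y' := Limits.pullback.snd g α
  let αT : T' ⟶ T := Limits.pullback.fst g α
  let X'' := Limits.pullback φT αT
  let qT : X'' ⟶ XT := Limits.pullback.fst φT αT
  let φ'' : X'' ⟶ T' := Limits.pullback.snd φT αT
  have hT2 : IsPullback qT φ'' φT αT := IsPullback.of_hasPullback _ _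
  have hHT : IsPullback αT.left gT.left g.left α.left :=
    (IsPullback.of_hasPullback g α).map (Over.forget (Spec (CommRingCat.of k)))
  have hHX : IsPullback prT.left φT.left φ.left g.left := hT.map (Over.forget (Spec (CommRingCat.of k)))
  have : Flat αT.left := MorphismProperty.of_isPullback hHT.flip ‹Flat α.left›
  have : Surjective αT.left := MorphismProperty.of_isPullback hHT.flip ‹Surjective α.left›
  have : QuasiCompact αT.left := MorphismProperty.of_isPullback hHT.flip ‹QuasiCompact α.left›
  have : QuasiCompact φT.left := MorphismProperty.of_isPullback hHX ‹QuasiCompact φ.left›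
  have : IsSeparated φT.left := MorphismProperty.of_isPullback hHX ‹IsSeparated φ.left›
  let a'' := Groth.Misc14.GeomQuotDescent.pullAction aT hinvT hT2
  have ha1 : a''.act ≫ qT = (G ◁ qT) ≫ aT.act := Groth.Misc14.GeomQuotDescent.pullAction_fst aT hinvT hT2
  have ha2 : GIT.IsInvariant a'' φ'' := Groth.Misc14.GeomQuotDescent.pullAction_inv aT hinvT hT2
  have hwpr : (qT ≫ prT) ≫ φ = (φ'' ≫ gT) ≫ α := by
    rw [Category.assoc, hT.w, ← Category.assoc, hT2.w, Category.assoc, Category.assoc]
    exact congrArg (φ'' ≫ ·) Limits.pullback.condition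
  let pr'' : X'' ⟶ X' := hpb.lift (qT ≫ prT) (φ'' ≫ gT) hwpr
  have hsq : IsPullback pr'' φ'' φ' gT := by
    refine IsPullback.of_right ?_ (hpb.lift_snd _ _ _) hpb
    have h1 := hT2.paste_horiz hT
    rw [show αT ≫ g = gT ≫ α from Limits.pullback.condition] at h1
    rw [hpb.lift_fst]
    exact h1
  refine Groth.Misc14.GeomQuotDescent.isGeomQuot aT hinvT hT2 a'' ha1 ?_
  refine h.2 pr'' φ'' gT trivial hsq a'' ?_ ha2
  refine hpb.hom_ext ?_ ?_
  · simp only [Category.assoc, heq, pr'', IsPullback.lift_fst, ← MonoidalCategory.whiskerLeft_comp_assoc]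
    rw [reassoc_of% ha1, heqT, ← MonoidalCategory.whiskerLeft_comp_assoc]
  · simp only [Category.assoc, pr'', IsPullback.lift_snd, show a'.act ≫ φ' = snd G X' ≫ φ' from hinv',
      whiskerLeft_snd_assoc]
    rw [reassoc_of% (show a''.act ≫ φ'' = snd G X'' ≫ φ'' from ha2)]

end Groth.Agent.S18511
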