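import Groth.Statements.S18519
import Groth.Agent.GaloisBrauer.SplitDescend
import Mathlib.FieldTheory.SeparableClosure

set_option autoImplicit false
universe u
open scoped TensorProduct
open Brauer

namespace Groth.Agent.S18519

/-- For a field K with maximal abelian extension K_ab, cd(K_ab) ≤ 1 if and only if for every etale
K-algebra E the restriction map Br(E) ⟶ Br(E ⊗_K K_ab) is trivial; the same holds with the maximal
solvable extension. Stated here for an arbitrary separable algebraic extension F of K in place of
K_ab (the published lemma takes for F the maximal abelian or the maximal solvable extension of K;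
this row allows any separable algebraic extension), with cd(F) ≤ 1 unfolded by the Brauer-group
criterion (every finite separable extension of F has trivial Brauer group) and with etale algebras
replaced by their field factors: (a) every finite-dimensional central division algebra over a finite
separable extension F′ of F is F′ itself; if and only if (b) for every finite separable extension E
of K, every finite-dimensional central division algebra D over E and every field M containing E and
F compatibly over K, the base change M ⊗_E D is isomorphic over M to a matrix algebra over M. -/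
theorem result
    (K F : Type u) [Field K] [Field F] [Algebra K F] [Algebra.IsSeparable K F] :
    (∀ (F' : Type u) [Field F'] [Algebra F F'] [FiniteDimensional F F'] [Algebra.IsSeparable F F']
        (D : Type u) [DivisionRing D] [Algebra F' D] [Algebra.IsCentral F' D] [FiniteDimensional F' D],
        Module.finrank F' D = 1) ↔
    (∀ (E : Type u) [Field E] [Algebra K E] [FiniteDimensional K E] [Algebra.IsSeparable K E]
        (D : Type u) [DivisionRing D] [Algebra E D] [Algebra.IsCentral E D] [FiniteDimensional E D]
        (M : Type u) [Field M] [Algebra K M] [Algebra E M] [Algebra F M] [IsScalarTower K E M]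
        [IsScalarTower K F M],
        ∃ n : ℕ, Nonempty ((M ⊗[E] D) ≃ₐ[M] Matrix (Fin n) (Fin n) M)) := by
  constructor
  · intro ha E _ _ _ _ D _ _ _ _ M _ _ _ _ _ _
    classical
    let b := Module.finBasis K E
    let T : Set M := Set.range fun i => algebraMap E M (b i)
    let F' : IntermediateField F M := IntermediateField.adjoin F T
    have hint : ∀ x ∈ T, IsIntegral F x := by
      rintro _ ⟨i, rfl⟩
      exact ((Algebra.IsIntegral.isIntegral (R := K) (b i)).map (IsScalarTower.toAlgHom K E M)).tower_top
    have : FiniteDimensional F F' := IntermediateField.finiteDimensional_adjoin hint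
    have : Algebra.IsSeparable F F' := (IntermediateField.isSeparable_adjoin_iff_isSeparable F M).2 (by
      rintro _ ⟨i, rfl⟩
      exact IsSeparable.tower_top F (IsSeparable.map (IsScalarTower.toAlgHom K E M)
        (algebraMap E M).injective (Algebra.IsSeparable.isSeparable K (b i))))
    have hE : ∀ x : E, algebraMap E M x ∈ F' := fun x => by
      rw [← b.sum_repr x, map_sum]
      refine sum_mem fun i _ => ?_
      rw [Algebra.smul_def, map_mul, ← IsScalarTower.algebraMap_apply, IsScalarTower.algebraMap_apply K F M]
      exact mul_mem (F'.algebraMap_mem _) (IntermediateField.subset_adjoin F T ⟨i, rfl⟩)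
    letI : Algebra E F' := ((algebraMap E M).codRestrict F'.toSubfield hE).toAlgebra
    have : IsScalarTower E F' M := IsScalarTower.of_algebraMap_eq fun _ => rfl
    obtain ⟨n, -, h⟩ := Groth.CSA.splits_mono (L := M)
      (Groth.GaloisBrauer.SplitDescend.splits_of_trivial (k := E) (A := D) F' fun D' _ _ _ _ => ha F' D')
    exact ⟨n, h⟩
  · intro hb F' _ _ _ _ D _ _ _ _
    classical
    letI : Algebra K F' := ((algebraMap F F').comp (algebraMap K F)).toAlgebra
    have : IsScalarTower K F F' := IsScalarTower.of_algebraMap_eq fun _ => rfl
    have : Algebra.IsSeparable K F' := Algebra.IsSeparable.trans K F F'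
    let b := Module.finBasis F' D
    let m := Module.finrank F' D
    let T : Set F' := (Set.range fun p : Fin m × Fin m × Fin m => b.repr (b p.1 * b p.2.1) p.2.2) ∪
      Set.range fun l => b.repr 1 l
    let E : IntermediateField K F' := IntermediateField.adjoin K T
    have : Finite T := ((Set.finite_range _).union (Set.finite_range _)).to_subtype
    have : FiniteDimensional K E :=
      IntermediateField.finiteDimensional_adjoin fun x _ => (Algebra.IsSeparable.isSeparable K x).isIntegral
    have : Algebra.IsSeparable K E := Algebra.isSeparable_tower_bot_of_isSeparable K E F'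
    let V : Submodule E D := Submodule.span E (Set.range b)
    have hmem : ∀ x : D, (∀ l, b.repr x l ∈ E) → x ∈ V := fun x hx => by
      rw [← b.sum_repr x]
      refine sum_mem fun l _ => ?_
      exact (algebraMap_smul F' (⟨_, hx l⟩ : E) (b l)).symm ▸ V.smul_mem _ (Submodule.subset_span ⟨l, rfl⟩)
    have h1 : (1 : D) ∈ V := hmem 1 fun l => IntermediateField.subset_adjoin K T (Or.inr ⟨l, rfl⟩)
    have hmul : ∀ x y : D, x ∈ V → y ∈ V → x * y ∈ V := fun x y hx hy => by
      induction hx, hy using Submodule.span_induction₂ with
      | mem_mem x y hx hy =>
        obtain ⟨i, rfl⟩ := hx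
        obtain ⟨j, rfl⟩ := hy
        exact hmem _ fun l => IntermediateField.subset_adjoin K T (Or.inl ⟨(i, j, l), rfl⟩)
      | zero_left => rw [zero_mul]; exact V.zero_mem
      | zero_right => rw [mul_zero]; exact V.zero_mem
      | add_left x y z _ _ _ h h' => rw [add_mul]; exact V.add_mem h h'
      | add_right x y z _ _ _ h h' => rw [mul_add]; exact V.add_mem h h'
      | smul_left r x y _ _ h => rw [smul_mul_assoc]; exact V.smul_mem r h
      | smul_right r x y _ _ h => rw [mul_smul_comm]; exact V.smul_mem r h
    let D₀ : Subalgebra E D := V.toSubalgebra h1 hmul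
    let b₀ : Module.Basis (Fin m) E D₀ := b.restrictScalars E
    have : FiniteDimensional E D₀ := Module.Finite.of_basis b₀
    let θ : F' ⊗[E] D₀ →ₐ[F'] D :=
      Algebra.TensorProduct.lift (Algebra.ofId F' D) D₀.val fun r x => Algebra.commutes r _
    have hθb : ∀ i, θ.toLinearMap (Algebra.TensorProduct.basis F' b₀ i) = b i := fun i => by
      show θ (Algebra.TensorProduct.basis F' b₀ i) = b i
      rw [Algebra.TensorProduct.basis_apply]
      refine (Algebra.TensorProduct.lift_tmul _ _ _ _ _).trans ?_
      rw [map_one, one_mul]
      exact Module.Basis.restrictScalars_apply E b i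
    let Θ := (Algebra.TensorProduct.basis F' b₀).equiv b (Equiv.refl _)
    have hbij : Function.Bijective θ := by
      have : θ.toLinearMap = Θ.toLinearMap := (Algebra.TensorProduct.basis F' b₀).ext fun i => by
        rw [hθb]; exact ((Algebra.TensorProduct.basis F' b₀).equiv_apply i b (Equiv.refl _)).symm
      exact (congrArg (fun f : F' ⊗[E] D₀ →ₗ[F'] D => Function.Bijective f) this).mpr Θ.bijective
    let e := AlgEquiv.ofBijective θ hbij
    letI : DivisionRing D₀ := divisionRingOfFiniteDimensional E D₀
    have : Algebra.IsCentral F' (F' ⊗[E] D₀) := Groth.CSA.isCentral_of_algEquiv F' e.symm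
    have : Algebra.IsCentral E D₀ := Groth.CSA.isCentral_of_baseChange E D₀ F'
    obtain ⟨n, ⟨f⟩⟩ := hb E D₀ F'
    have g : D ≃ₐ[F'] Matrix (Fin n) (Fin n) F' := e.symm.trans f
    rw [g.toLinearEquiv.finrank_eq, Module.finrank_matrix, Module.finrank_self, mul_one, Fintype.card_fin]
    rcases lt_trichotomy n 1 with h | h | h
    · obtain rfl : n = 0 := by omega
      exact absurd (g.injective (Subsingleton.elim (g 0) (g 1))) zero_ne_one
    · rw [h]
    · exfalso
      have hne : Matrix.single (⟨0, by omega⟩ : Fin n) (⟨1, by omega⟩ : Fin n) (1 : F') ≠ 0 := by
        intro h0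
        have := congrFun (congrFun h0 ⟨0, by omega⟩) ⟨1, by omega⟩
        simp [Matrix.single] at this
      refine hne (g.symm.injective ?_)
      rw [map_zero, ← mul_self_eq_zero, ← map_mul]
      simp [Matrix.single_mul_single_of_ne]

end Groth.Agent.S18519
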