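import Groth.Statements.S18523
import Mathlib
import Groth.Agent.Misc14.ParAdd
import Groth.Agent.CurveBridge.SmoothCurve
-- import your own Groth.Agent.* helpers here

set_option autoImplicit false
universe u
open CategoryTheory CategoryTheory.Limits AlgebraicGeometry
open ParSh

namespace Groth.Agent.S18523


/-- Let k be an algebraically closed field of characteristic zero, X a smooth proper geometrically
connected curve over k (topological dimension one) of genus g ≥ 2, and I the ideal of a reduced
effective Cartier divisor on X. Let F be a finite locally free O_X-module of rank r with a parabolic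
structure 𝓕 along I which is parabolic stable: for every finite locally free sub-module F₁ → F of
rank r₁ with 0 < r₁ < r, the structure induced on F₁ has r·par-deg(F₁) < r₁·par-deg(F). Let 0 → F' →
F → F'' → 0 be a parabolic extension (a short exact sequence in which F' carries the structure
induced from 𝓕 as a sub-module and F'' the structure induced as a quotient) with F' and F'' finite
locally free. Then every parabolic homomorphism F'' → F' is zero. The published statement tests
stability on quotient bundles; on a smooth proper curve this singles out the same parabolic bundles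
as the test on sub-modules used here. -/
theorem result (k : Type u) [Field k] [IsAlgClosed k] [CharZero k]
    (X : Scheme.{u}) [X.Over (Spec (CommRingCat.of k))]
    [IsProper (X ↘ Spec (CommRingCat.of k))] [Smooth (X ↘ Spec (CommRingCat.of k))]
    [GeometricallyConnected (X ↘ Spec (CommRingCat.of k))] (hdim : topologicalKrullDim ↥X = 1)
    (g : ℕ) (hg : Curv2.genus k X = g) (hg2 : 2 ≤ g)
    (I : X.IdealSheafData) (hD : FGA.IsEffCartier I) [AlgebraicGeometry.IsReduced I.subscheme]
    {F F' F'' : X.Modules} (r : ℕ) (hF : FlatMod.IsFinLocFreeOfRank r F)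
    (𝓕 : ParSh.Str F) (h𝓕 : 𝓕.Along I) (hst : ParSh.IsParStable k X 𝓕 r)
    (i : F' ⟶ F) (p : F ⟶ F'') [Epi p] (𝓕' : ParSh.Str F') (𝓕'' : ParSh.Str F'')
    (hext : ParSh.IsParExt i p 𝓕' 𝓕 𝓕'') (hF' : FlatMod.IsFinLocFree F') (hF'' : FlatMod.IsFinLocFree F'')
    (φ : F'' ⟶ F') (hφ : ParSh.IsParHom 𝓕'' 𝓕' φ) : φ = 0 := by
  haveI : GeometricallyConnected (X ↘ Spec (CommRingCat.of k)) := inferInstance
  haveI : ConnectedSpace X := GeometricallyConnected.connectedSpace_of_subsingleton (X ↘ Spec (CommRingCat.of k))
  haveI := Groth.CurveBridge.isIntegral_of_smooth k X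
  haveI := Groth.DegMono.isLocallyNoetherian k (X := X)
  have hp := Groth.DegMono.isPID_stalk k X hdim
  by_contra hne
  obtain ⟨w0, hS0, rfl, rfl⟩ := hext
  haveI : Mono i := hS0.mono_f
  have hFf := Groth.LocFree.isFinLocFree_of_rank hF
  have hFc := Groth.KTheory.LocFree.isCoh hFf
  have hc' := Groth.KTheory.LocFree.isCoh hF'
  have hc'' := Groth.KTheory.LocFree.isCoh hF''
  have := hFc.1
  have := hc'.1
  have := hc''.1
  have := Groth.QCohMod.isQCoh_cokernel φ
  have hVc : Coh.IsCoh (Abelian.image φ) := Groth.QCohMod.isCoh_kernel (cokernel.π φ) hc'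
  have hV := Groth.DegMono.isFinLocFreeOfRank_of_mono hp hVc hF' (Abelian.image.ι φ)
  have h' := Groth.DegMono.isFinLocFreeOfRank_genRank hF'
  have h'' := Groth.DegMono.isFinLocFreeOfRank_genRank hF''
  generalize hrdef : Groth.DegMono.genRank (Abelian.image φ) = r' at hV
  generalize hadef : Groth.DegMono.genRank F' = a at h'
  generalize hbdef : Groth.DegMono.genRank F'' = b at h''
  -- ranks
  haveI := Groth.LocFree.finite_stalk hFf (genericPoint X)
  have hab : Groth.DegMono.genRank F = a + b := by
    rw [← hadef, ← hbdef]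
    exact Groth.DegMono.genRank_add (S := ShortComplex.mk i p w0) hS0
  rw [Groth.DegMono.genRank_eq hF] at hab
  have hr0 : 0 < r' := by
    refine Nat.pos_of_ne_zero fun h0 => hne ?_
    rw [← Abelian.image.fac φ]
    subst h0
    rw [(Groth.DegMono.isZero_of_rank_zero hV).eq_of_tgt (Abelian.factorThruImage φ) 0, zero_comp]
  have hra : r' ≤ a := Groth.Misc15.rank_le_of_mono hV h' (Abelian.image.ι φ)
  let π := Abelian.factorThruImage φ
  have hS1 : (ShortComplex.mk (kernel.ι π) π (kernel.condition π)).ShortExact :=
    { exact := ShortComplex.exact_kernel π }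
  haveI : Module.Finite (X.presheaf.stalk (genericPoint X))
      ((ShortComplex.mk (kernel.ι π) π (kernel.condition π)).X₂.presheaf.stalk (genericPoint X)) :=
    Groth.LocFree.finite_stalk hF'' _
  have hrb : r' ≤ b := by
    rw [← hrdef, ← hbdef]
    exact (Groth.DegMono.genRank_add hS1).symm ▸ Nat.le_add_left _ _
  -- the kernel of the quotient
  let q : F ⟶ Abelian.image φ := p ≫ π
  haveI : Epi q := epi_comp _ _
  have hKc : Coh.IsCoh (kernel q) := by
    have := hVc.1
    exact Groth.QCohMod.isCoh_kernel q hFc
  have hK := Groth.DegMono.isFinLocFreeOfRank_of_mono hp hKc hFf (kernel.ι q)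
  generalize hsdef : Groth.DegMono.genRank (kernel q) = s at hK
  have hS2 : (ShortComplex.mk (kernel.ι q) q (kernel.condition q)).ShortExact :=
    { exact := ShortComplex.exact_kernel q }
  haveI : Module.Finite (X.presheaf.stalk (genericPoint X))
      ((ShortComplex.mk (kernel.ι q) q (kernel.condition q)).X₂.presheaf.stalk (genericPoint X)) :=
    Groth.LocFree.finite_stalk hFf _
  have hn : r = s + r' := by
    have h := @Groth.DegMono.genRank_add X _ (ShortComplex.mk (kernel.ι q) q (kernel.condition q)) hS2 (Groth.LocFree.finite_stalk hFf _)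
    dsimp only at h
    rw [Groth.DegMono.genRank_eq hF, hsdef, hrdef] at h
    exact h
  -- the saturation
  obtain ⟨V', ι, v, hι, hv, hvι, hV', hsat⟩ :=
    Groth.ParCurve.exists_saturation_locFree hp hV hFf (Abelian.image.ι φ ≫ i)
  have hψ : ParSh.IsParHom 𝓕 𝓕 (p ≫ φ ≫ i) := by
    intro t ht ht'
    have h := hφ t ht ht'
    rw [Groth.ParCurve.coinduced_at, Groth.ParCurve.induced_at, Limits.pullback_factors_iff] at h
    have h2 := Subobject.factors_of_factors_right (factorThruImageSubobject ((𝓕.at t).arrow ≫ p)) h
    rw [Category.assoc, ← Category.assoc (factorThruImageSubobject _), imageSubobject_arrow_comp] at h2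
    simpa only [Category.assoc] using h2
  have hfac : q ≫ v ≫ ι = p ≫ φ ≫ i := by
    show (p ≫ π) ≫ v ≫ ι = _
    rw [hvι, Category.assoc, ← Category.assoc π, Abelian.image.fac]
  have h1 := Groth.ParCurve.parDeg_coinduced_le k hdim.le I hD 𝓕 h𝓕 𝓕 h𝓕 (p ≫ φ ≫ i) hψ q v ι hfac hV hV' hsat
  have h2 := Groth.ParCurve.parDeg_add k hdim.le I hD hK hF hV hn 𝓕 h𝓕 (kernel.ι q) q (kernel.condition q) hS2.exact
  have h3 := hst (kernel q) s (kernel.ι q) inferInstance (by omega) (by omega) hK
  have h4 := hst V' r' ι hι hr0 (by omega) hV'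
  have hr : (r : ℝ) = s + r' := by exact_mod_cast hn
  have h5 := mul_le_mul_of_nonneg_right h1 (show (0 : ℝ) ≤ r from Nat.cast_nonneg r)
  rw [hr] at h3 h4 h5
  rw [h2] at h3 h4
  nlinarith

end Groth.Agent.S18523
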