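import Groth.Statements.S18524
import Mathlib
import Groth.Agent.HilbStab.Par.Morph
import Groth.Agent.HilbStab.Par.Pieces
-- import your own Groth.Agent.* helpers here

set_option autoImplicit false
universe u
open CategoryTheory CategoryTheory.Limits AlgebraicGeometry
open ParSh

namespace Groth.Agent.S18524


/-- Let X be a scheme proper over a field k with an ample invertible sheaf L, and 0 → F → E → G → 0 a
short exact sequence of coherent O_X-modules. Let 𝓔 be a finite weighted filtration of E by coherent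
sub-modules E = E₀ ⊇ E₁ ⊇ ⋯ ⊇ E_l ⊇ B with B coherent and weights 0 ≤ w₀ < ⋯ < w_l < 1, and give F
the filtration pulled back along F → E and G the image filtration along E → G, so that the sequence
is a parabolic extension. Then for every natural number m the parabolic Hilbert functions are
additive: par-χ(F, m) + par-χ(G, m) = par-χ(E, m), where par-χ(E, m) = χ(B ⊗ L^m) + Σ_j w_j (χ(E_j ⊗
L^m) − χ(E_{j+1} ⊗ L^m)) with E_{l+1} = B. The published statement is for parabolic sheaves along
effective Cartier divisors D on a projective scheme over an algebraically closed field, with B =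
E(−D) and the functions averaged over several divisors; the identity holds for each weighted
filtration separately, over any field and for any coherent bottom piece. -/
theorem result (k : Type u) [Field k] (X : Scheme.{u})
    [X.Over (Spec (CommRingCat.of k))] [IsProper (X ↘ Spec (CommRingCat.of k))]
    (L : X.Modules) (hL : CohB1.IsAmple L) {F E G : X.Modules}
    (hF : Coh.IsCoh F) (hE : Coh.IsCoh E) (hG : Coh.IsCoh G)
    (i : F ⟶ E) (p : E ⟶ G) [Epi p] (𝓕 : ParSh.Str F) (𝓔 : ParSh.Str E) (𝓖 : ParSh.Str G)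
    (hext : ParSh.IsParExt i p 𝓕 𝓔 𝓖)
    (hcoh : ∀ j, Coh.IsCoh ((𝓔.piece j : Subobject E) : X.Modules))
    (hbot : Coh.IsCoh ((𝓔.bot : Subobject E) : X.Modules)) (m : ℕ) :
    𝓕.parHilb k X L m + 𝓖.parHilb k X L m = 𝓔.parHilb k X L m := by
  haveI := Groth.HilbStab.isLocallyNoetherian k (X := X)
  obtain ⟨w, hS, rfl, rfl⟩ := hext
  haveI : Mono i := hS.mono_f
  have hkey : ∀ A : Subobject E, Coh.IsCoh (A : X.Modules) →
      ((Curv2.euler k X (ShStab.twist X L (((Subobject.pullback i).obj A : Subobject F) : X.Modules) m) : ℤ) : ℝ) +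
        ((Curv2.euler k X (ShStab.twist X L ((imageSubobject (A.arrow ≫ p) : Subobject G) : X.Modules) m) : ℤ) : ℝ) =
      ((Curv2.euler k X (ShStab.twist X L (A : X.Modules) m) : ℤ) : ℝ) := by
    intro A hA
    obtain ⟨PA, hPA⟩ := Groth.HilbStab.exists_isHilbPoly k X hL hA
    obtain ⟨PK, hPK⟩ := Groth.HilbStab.exists_isHilbPoly k X hL (Groth.HilbStab.Par.isCoh_pullback A i hE hF hA)
    obtain ⟨PI, hPI⟩ := Groth.HilbStab.exists_isHilbPoly k X hL (Groth.HilbStab.Par.isCoh_image A p hA hG)
    have h := Groth.HilbStab.Par.image_add k hL i p w hS.exact hG A hA hPA hPK hPI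
    have h2 := congrArg (fun P : Polynomial ℚ => P.eval (m : ℚ)) h
    simp only [Polynomial.eval_add] at h2
    rw [← hPA m, ← hPK m, ← hPI m] at h2
    exact_mod_cast h2.symm
  have hX : ∀ j : Fin (𝓔.l + 2), Coh.IsCoh ((𝓔.pieceX j : Subobject E) : X.Modules) := by
    intro j
    induction j using Fin.lastCases with
    | last => rwa [ParSh.Str.pieceX_last]
    | cast j => rw [ParSh.Str.pieceX_castSucc]; exact hcoh j
  simp only [ParSh.Str.parHilb, ParSh.Str.parSum]
  rw [← hkey 𝓔.bot hbot]
  have hs : ∀ j : Fin (𝓔.l + 1),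
      𝓔.wt j * (((Curv2.euler k X (ShStab.twist X L (((Subobject.pullback i).obj (𝓔.piece j) : Subobject F) : X.Modules) m) : ℤ) : ℝ) -
        ((Curv2.euler k X (ShStab.twist X L (((𝓔.induced i).pieceX j.succ : Subobject F) : X.Modules) m) : ℤ) : ℝ)) +
      𝓔.wt j * (((Curv2.euler k X (ShStab.twist X L ((imageSubobject ((𝓔.piece j).arrow ≫ p) : Subobject G) : X.Modules) m) : ℤ) : ℝ) -
        ((Curv2.euler k X (ShStab.twist X L (((𝓔.coinduced p).pieceX j.succ : Subobject G) : X.Modules) m) : ℤ) : ℝ)) =
      𝓔.wt j * (((Curv2.euler k X (ShStab.twist X L ((𝓔.piece j : Subobject E) : X.Modules) m) : ℤ) : ℝ) -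
        ((Curv2.euler k X (ShStab.twist X L ((𝓔.pieceX j.succ : Subobject E) : X.Modules) m) : ℤ) : ℝ)) := by
    intro j
    rw [← hkey _ (hcoh j), ← hkey _ (hX j.succ), Groth.HilbStab.Par.induced_pieceX 𝓔 i j.succ,
      Groth.HilbStab.Par.coinduced_pieceX 𝓔 p j.succ]
    ring
  rw [← Finset.sum_congr rfl (fun j _ => hs j), Finset.sum_add_distrib]
  dsimp only [ParSh.Str.induced, ParSh.Str.coinduced]
  ring!

end Groth.Agent.S18524
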