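import Groth.Statements.S18527
import Groth.Agent.HilbStab.Par.Pieces
-- import your own Groth.Agent.* helpers here

set_option autoImplicit false
universe u
open CategoryTheory CategoryTheory.Limits AlgebraicGeometry Polynomial
open ParSh

namespace Groth.Agent.S18527

/-- An upper and a lower bound for the second coefficient of the parabolic Hilbert polynomial. Let X be
a scheme proper over a field k with an ample invertible sheaf L, I the ideal of an effective Cartier
divisor D on X, and E a coherent O_X-module with a finite weighted filtration 𝓔 along I by coherent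
pieces E = E₀ ⊇ ⋯ ⊇ E_l ⊇ E_{l+1} = I·E, weights 0 ≤ w₀ < ⋯ < w_l < 1. Let d ≥ 1 be a natural number
with Supp E ∩ Supp D of topological Krull dimension less than d, P the Hilbert polynomial of E with
respect to L and P_j that of E_j (0 ≤ j ≤ l+1). Then the coefficient of degree d − 1 of the
parabolic Hilbert polynomial P_{l+1} + Σ_{j ≤ l} w_j (P_j − P_{j+1}) is at least the coefficient of
degree d − 1 of P_{l+1} and at most that of P. For E pure of dimension d this says that the
parabolic slope lies between the slope of E(−D) and the slope of E; the published statement also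
gives a lower bound μ(E) − b with b depending only on a bound for the multiplicity of E, on d, D and
L, which is not part of this row. -/
theorem result (k : Type u) [Field k] (X : Scheme.{u})
    [X.Over (Spec (CommRingCat.of k))] [IsProper (X ↘ Spec (CommRingCat.of k))]
    (L : X.Modules) (hL : CohB1.IsAmple L) (I : X.IdealSheafData) (hD : FGA.IsEffCartier I)
    (E : X.Modules) (hE : Coh.IsCoh E) (𝓔 : ParSh.Str E) (h𝓔 : 𝓔.Along I)
    (hcoh : ∀ j, Coh.IsCoh ((𝓔.pieceX j : Subobject E) : X.Modules)) (d : ℕ) (hd : 1 ≤ d)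
    (hsupp : topologicalKrullDim ↥(CohB1.support E ∩ (I.support : Set X)) < (d : WithBot ℕ∞))
    (P : ℚ[X]) (hP : ShStab.IsHilbPoly k X L E P) (PX : Fin (𝓔.l + 2) → ℚ[X])
    (hPX : ∀ j, ShStab.IsHilbPoly k X L ((𝓔.pieceX j : Subobject E) : X.Modules) (PX j)) :
    (W4swparbununimod.rpoly (PX (Fin.last (𝓔.l + 1)))).coeff (d - 1) ≤ (W4swparbununimod.parPoly 𝓔 PX).coeff (d - 1) ∧
      (W4swparbununimod.parPoly 𝓔 PX).coeff (d - 1) ≤ (W4swparbununimod.rpoly P).coeff (d - 1) := by
  haveI := Groth.HilbStab.isLocallyNoetherian k (X := X)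
  have hq := Groth.HilbStab.Par.coeff_quot_eq_zero k hL hE h𝓔 hcoh hsupp hP hPX
  have hdeg : ∀ j, (P - PX j).natDegree ≤ d - 1 := fun j =>
    natDegree_le_iff_coeff_eq_zero.mpr fun n hn => (hq j).2 n (by omega)
  have hnn : ∀ j, (0 : ℝ) ≤ (W4swparbununimod.rpoly (P - PX j)).coeff (d - 1) := fun j =>
    Groth.HilbStab.Par.coeff_nonneg_of_evLE (Groth.HilbStab.Par.evLE_rpoly (hq j).1)
      (natDegree_map_le.trans (hdeg j))
  have hmono : ∀ j, (W4swparbununimod.rpoly (P - PX j)).coeff (d - 1) ≤
      (W4swparbununimod.rpoly (P - PX (Fin.last _))).coeff (d - 1) := by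
    intro j
    have h := (Groth.HilbStab.Par.nn_sub k hL hE (hcoh (Fin.last _)) (hcoh j)
      (Groth.HilbStab.Par.pieceX_anti 𝓔 (Fin.le_last j)) (hPX _) (hPX j)).1
    have h2 := Groth.HilbStab.Par.coeff_nonneg_of_evLE (Groth.HilbStab.Par.evLE_rpoly h) (n := d - 1)
      (natDegree_map_le.trans (by
        rw [show PX j - PX (Fin.last _) = (P - PX (Fin.last _)) - (P - PX j) by ring]
        exact (natDegree_sub_le _ _).trans (max_le (hdeg _) (hdeg _))))
    simp only [Groth.HilbStab.Par.rpoly_sub, coeff_sub] at h2 ⊢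
    linarith
  rw [Groth.HilbStab.Par.parPoly_eq 𝓔 P PX (Groth.HilbStab.Par.isHilbPoly_piece_zero k hL 𝓔 hP hPX),
    coeff_sub, finsetSum_coeff]
  simp only [coeff_C_mul]
  constructor
  · have h1 : ∑ j, Groth.HilbStab.Par.step 𝓔 j *
        (W4swparbununimod.rpoly (P - PX j.succ)).coeff (d - 1) ≤
        ∑ j, Groth.HilbStab.Par.step 𝓔 j *
          (W4swparbununimod.rpoly (P - PX (Fin.last _))).coeff (d - 1) :=
      Finset.sum_le_sum fun j _ =>
        mul_le_mul_of_nonneg_left (hmono j.succ) (Groth.HilbStab.Par.step_pos 𝓔 j).le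
    rw [← Finset.sum_mul, Groth.HilbStab.Par.sum_step] at h1
    have h2 := mul_le_mul_of_nonneg_right (sub_le_self 1 𝓔.wt_nonneg) (hnn (Fin.last _))
    rw [one_mul, Groth.HilbStab.Par.rpoly_sub, coeff_sub] at h2
    simp only [Groth.HilbStab.Par.rpoly_sub, coeff_sub] at h1 ⊢
    linarith
  · exact sub_le_self _ (Finset.sum_nonneg fun j _ =>
      mul_nonneg (Groth.HilbStab.Par.step_pos 𝓔 j).le (hnn j.succ))

end Groth.Agent.S18527
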