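import Groth.Statements.S18529
import Groth.Agent.HilbStab.Par.Morph
-- import your own Groth.Agent.* helpers here

set_option autoImplicit false
universe u
open CategoryTheory CategoryTheory.Limits AlgebraicGeometry Polynomial
open ParSh

namespace Groth.Agent.S18529

/-- Kernel and image of a parabolic homomorphism between semistable parabolic sheaves with the same
reduced parabolic Hilbert polynomial, for one divisor. Let X be a scheme proper over a field k with
an ample invertible sheaf L, I the ideal of an effective Cartier divisor D on X, and d ≥ 1. Let E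
and F be nonzero coherent O_X-modules, pure of dimension d, with Supp E ∩ Supp D and Supp F ∩ Supp D
of topological Krull dimension less than d, carrying finite weighted filtrations 𝓔 and 𝓕 along I by
coherent pieces, with the same set of weights and with smallest weight positive. Let P and R be the
Hilbert polynomials of E and F, P_j and R_j those of the pieces, and Par_E = P_{l+1} + Σ_j w_j (P_j
− P_{j+1}), Par_F likewise; α_d denotes d! times the coefficient of degree d. Assume both filtered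
sheaves are semistable for the reduced parabolic Hilbert polynomial: for every nonzero coherent
sub-module W → E whose cokernel is pure of dimension d or zero, with its induced filtration and any
Hilbert polynomials Q of W and Q_j of its pieces, Par_W(m)·α_d(P) ≤ Par_E(m)·α_d(Q) for all large
natural m (and the same for F); and assume Par_E·α_d(R) = Par_F·α_d(P). Let f : E → F be a parabolic
homomorphism, j : K → E a monomorphism with 0 → K → E → F exact at E, and f = q ≫ u with q : E → V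
an epimorphism and u : V → F a monomorphism. Then: (1) for all Hilbert polynomials Q_K of K and
Q_{K,j} of the pieces of the filtration induced on K, Par_K·α_d(P) = Par_E·α_d(Q_K) (the kernel has
the same reduced parabolic Hilbert polynomial); (2) the cokernel of u is pure of dimension d or zero
(the image of f is saturated in F); (3) for every real a with 0 ≤ a ≤ 1, the a-th piece of the
filtration induced on V as a quotient of E equals the a-th piece of the filtration induced on V as a
sub-module of F. The published statement is phrased for parabolic sheaves along several divisors on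
the fibres of a projective X → S over an algebraically closed field and concludes that such sheaves
form an abelian category; this row is the absolute one-divisor case of the kernel and image steps of
its proof, with semistability tested on saturated sub-modules carrying the induced filtration. -/
theorem result (k : Type u) [Field k] (X : Scheme.{u})
    [X.Over (Spec (CommRingCat.of k))] [IsProper (X ↘ Spec (CommRingCat.of k))]
    (L : X.Modules) (hL : CohB1.IsAmple L) (I : X.IdealSheafData) (hD : FGA.IsEffCartier I) (d : ℕ) (hd : 1 ≤ d)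
    {E F : X.Modules} (hE : Coh.IsCoh E) (hF : Coh.IsCoh F) (hE0 : ¬ IsZero E) (hF0 : ¬ IsZero F)
    (hEp : ShStab.IsPure X E d) (hFp : ShStab.IsPure X F d)
    (hEs : topologicalKrullDim ↥(CohB1.support E ∩ (I.support : Set X)) < (d : WithBot ℕ∞))
    (hFs : topologicalKrullDim ↥(CohB1.support F ∩ (I.support : Set X)) < (d : WithBot ℕ∞))
    (𝓔 : ParSh.Str E) (h𝓔 : 𝓔.Along I) (𝓕 : ParSh.Str F) (h𝓕 : 𝓕.Along I)
    (hcE : ∀ j, Coh.IsCoh ((𝓔.pieceX j : Subobject E) : X.Modules))
    (hcF : ∀ j, Coh.IsCoh ((𝓕.pieceX j : Subobject F) : X.Modules))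
    (hw : Set.range 𝓕.wt = Set.range 𝓔.wt) (hw0 : 0 < 𝓔.wt 0)
    (P R : ℚ[X]) (hP : ShStab.IsHilbPoly k X L E P) (hR : ShStab.IsHilbPoly k X L F R)
    (PX : Fin (𝓔.l + 2) → ℚ[X]) (hPX : ∀ j, ShStab.IsHilbPoly k X L ((𝓔.pieceX j : Subobject E) : X.Modules) (PX j))
    (RX : Fin (𝓕.l + 2) → ℚ[X]) (hRX : ∀ j, ShStab.IsHilbPoly k X L ((𝓕.pieceX j : Subobject F) : X.Modules) (RX j))
    (hssE : (∀ (W : X.Modules) (ι : W ⟶ E), Mono ι → Coh.IsCoh W → ¬ IsZero W → ShStab.IsPure X (cokernel ι) d →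
        ∀ (Q : ℚ[X]) (QX : Fin (𝓔.l + 2) → ℚ[X]), ShStab.IsHilbPoly k X L W Q →
          (∀ j, ShStab.IsHilbPoly k X L (((𝓔.induced ι).pieceX j : Subobject W) : X.Modules) (QX j)) →
          ∃ M : ℕ, ∀ m : ℕ, M ≤ m →
            (W4swparbununimod.parPoly (𝓔.induced ι) QX).eval (m : ℝ) * (StabCat.alpha d P : ℝ) ≤
              (W4swparbununimod.parPoly 𝓔 PX).eval (m : ℝ) * (StabCat.alpha d Q : ℝ)))
    (hssF : (∀ (W : X.Modules) (ι : W ⟶ F), Mono ι → Coh.IsCoh W → ¬ IsZero W → ShStab.IsPure X (cokernel ι) d →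
        ∀ (Q : ℚ[X]) (QX : Fin (𝓕.l + 2) → ℚ[X]), ShStab.IsHilbPoly k X L W Q →
          (∀ j, ShStab.IsHilbPoly k X L (((𝓕.induced ι).pieceX j : Subobject W) : X.Modules) (QX j)) →
          ∃ M : ℕ, ∀ m : ℕ, M ≤ m →
            (W4swparbununimod.parPoly (𝓕.induced ι) QX).eval (m : ℝ) * (StabCat.alpha d R : ℝ) ≤
              (W4swparbununimod.parPoly 𝓕 RX).eval (m : ℝ) * (StabCat.alpha d Q : ℝ)))
    (hred : W4swparbununimod.parPoly 𝓔 PX * Polynomial.C (StabCat.alpha d R : ℝ) =
      W4swparbununimod.parPoly 𝓕 RX * Polynomial.C (StabCat.alpha d P : ℝ))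
    (f : E ⟶ F) (hf : ParSh.IsParHom 𝓔 𝓕 f)
    {K V : X.Modules} (j : K ⟶ E) [Mono j] (w : j ≫ f = 0) (hex : (ShortComplex.mk j f w).Exact)
    (q : E ⟶ V) [Epi q] (u : V ⟶ F) [Mono u] (hqu : q ≫ u = f) :
    (∀ (QK : ℚ[X]) (QKX : Fin (𝓔.l + 2) → ℚ[X]), ShStab.IsHilbPoly k X L K QK →
        (∀ j', ShStab.IsHilbPoly k X L (((𝓔.induced j).pieceX j' : Subobject K) : X.Modules) (QKX j')) →
        W4swparbununimod.parPoly (𝓔.induced j) QKX * Polynomial.C (StabCat.alpha d P : ℝ) =
          W4swparbununimod.parPoly 𝓔 PX * Polynomial.C (StabCat.alpha d QK : ℝ)) ∧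
    ShStab.IsPure X (cokernel u) d ∧
    (∀ a : ℝ, 0 ≤ a → a ≤ 1 → (𝓔.coinduced q).at a = (𝓕.induced u).at a) := by
  haveI := Groth.HilbStab.isLocallyNoetherian k (X := X)
  haveI := Groth.HilbStab.compactSpace_of_proper k X
  haveI := hE.1
  haveI := hF.1
  obtain ⟨l, piece', bot', wt', h1, h2, h3, h4, h5, h6⟩ := 𝓕
  obtain rfl : l = 𝓔.l := by
    have e := congrArg Set.ncard hw
    rw [Set.ncard_range_of_injective h4.injective,
      Set.ncard_range_of_injective 𝓔.wt_strictMono.injective, Nat.card_fin, Nat.card_fin] at e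
    omega
  obtain rfl : wt' = 𝓔.wt := (StrictMono.range_inj h4 𝓔.wt_strictMono).mp hw
  let 𝓕 : ParSh.Str F := ⟨𝓔.l, piece', bot', 𝓔.wt, h1, h2, h3, h4, h5, h6⟩
  haveI : Mono (ShortComplex.mk j f w).f := inferInstanceAs (Mono j)
  let eK : kernel f ≅ K := IsLimit.conePointUniqueUpToIso (kernelIsKernel f) hex.fIsKernel
  have hK : Coh.IsCoh K := Groth.QCohMod.isCoh_of_iso eK (Groth.QCohMod.isCoh_kernel f hE)
  haveI := hK.1
  have wq : j ≫ q = 0 := by rw [← cancel_mono u, Category.assoc, hqu, w, Limits.zero_comp]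
  have hexq : (ShortComplex.mk j q wq).Exact := by
    refine ShortComplex.exact_of_f_is_kernel _ (KernelFork.IsLimit.ofι' _ _ fun {A} x hx => ?_)
    exact KernelFork.IsLimit.lift' hex.fIsKernel x (show x ≫ f = 0 by
      rw [← hqu, ← Category.assoc, hx, Limits.zero_comp])
  haveI : Epi (ShortComplex.mk j q wq).g := inferInstanceAs (Epi q)
  let eV : cokernel j ≅ V :=
    IsColimit.coconePointUniqueUpToIso (cokernelIsCokernel j) hexq.gIsCokernel
  have hV : Coh.IsCoh V := Groth.QCohMod.isCoh_of_iso eV (Groth.QCohMod.isCoh_cokernel j hE)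
  haveI := hV.1
  obtain ⟨QK, hQK⟩ := Groth.HilbStab.exists_isHilbPoly k X hL hK
  obtain ⟨QV, hQV⟩ := Groth.HilbStab.exists_isHilbPoly k X hL hV
  have hsum : P = QK + QV := Groth.HilbStab.isHilbPoly_add k hL
    (S := ShortComplex.mk j q wq) { exact := hexq } hK hV hQK hP hQV
  choose QKX hQKX using fun i => Groth.HilbStab.exists_isHilbPoly k X hL
    (Groth.HilbStab.Par.isCoh_induced_pieceX 𝓔 j hE hK hcE i)
  have hcoh' : ∀ i : Fin (𝓔.l + 2),
      Coh.IsCoh (((𝓔.coinduced q).pieceX i : Subobject V) : X.Modules) := fun i =>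
    (Groth.HilbStab.Par.coinduced_pieceX 𝓔 q i).symm ▸
      Groth.HilbStab.Par.isCoh_image (𝓔.pieceX i) q (hcE i) hV
  choose VCX hVCX using fun i => Groth.HilbStab.exists_isHilbPoly k X hL (hcoh' i)
  have hcohI : ∀ i : Fin (𝓔.l + 2),
      Coh.IsCoh (((𝓕.induced u).pieceX i : Subobject V) : X.Modules) :=
    Groth.HilbStab.Par.isCoh_induced_pieceX 𝓕 u hF hV hcF
  choose VIX hVIX using fun i => Groth.HilbStab.exists_isHilbPoly k X hL (hcohI i)
  have hpieces : ∀ i, PX i = QKX i + VCX i := fun i => by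
    refine Groth.HilbStab.Par.image_add k hL j q wq hexq hV (𝓔.pieceX i) (hcE i) (hPX i) ?_ ?_
    · have := hQKX i
      rwa [Groth.HilbStab.Par.induced_pieceX 𝓔 j i] at this
    · have := hVCX i
      rwa [Groth.HilbStab.Par.coinduced_pieceX 𝓔 q i] at this
  -- the coinduced structure lies inside the induced one
  have hle : ∀ i : Fin (𝓔.l + 2), (𝓔.coinduced q).pieceX i ≤ (𝓕.induced u).pieceX i := by
    intro i
    rw [Groth.HilbStab.Par.coinduced_pieceX 𝓔 q i]
    have hfac : (𝓕.pieceX i).Factors (((𝓔.pieceX i).arrow ≫ q) ≫ u) := by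
      rw [Category.assoc, hqu]
      induction i using Fin.lastCases with
      | last =>
        rw [ParSh.Str.pieceX_last 𝓔]
        have h := hf 1 zero_le_one le_rfl
        rw [𝓔.at_eq_bot fun i => lt_of_le_of_lt (𝓔.wt_strictMono.monotone (Fin.le_last i)) 𝓔.wt_lt_one,
          𝓕.at_eq_bot fun i => lt_of_le_of_lt (𝓔.wt_strictMono.monotone (Fin.le_last i)) 𝓔.wt_lt_one] at h
        exact (ParSh.Str.pieceX_last 𝓕).symm ▸ h
      | cast i =>
        rw [ParSh.Str.pieceX_castSucc 𝓔]
        have h := hf (𝓔.wt i) (𝓔.wt_nonneg.trans (𝓔.wt_strictMono.monotone (Fin.zero_le i)))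
          ((𝓔.wt_strictMono.monotone (Fin.le_last i)).trans 𝓔.wt_lt_one.le)
        rw [𝓔.at_eq_piece i le_rfl fun _ h => 𝓔.wt_strictMono h,
          𝓕.at_eq_piece i le_rfl fun _ h => 𝓔.wt_strictMono h] at h
        exact (ParSh.Str.pieceX_castSucc 𝓕 i).symm ▸ h
    have hfac' := (Limits.pullback_factors_iff u (𝓕.pieceX i) ((𝓔.pieceX i).arrow ≫ q)).mpr hfac
    rw [← Groth.HilbStab.Par.induced_pieceX 𝓕 u i] at hfac'
    exact imageSubobject_le _ (Subobject.factorThru _ _ hfac') (Subobject.factorThru_arrow _ _ hfac')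
  have hαP : 0 < StabCat.alpha d P :=
    Groth.HilbStab.alpha_pos_of_isPure k hL hEp (𝟙 E) hE hE0 hP
  have hαR : 0 < StabCat.alpha d R :=
    Groth.HilbStab.alpha_pos_of_isPure k hL hFp (𝟙 F) hF hF0 hR
  have hP0 : (0 : ℝ) < (StabCat.alpha d P : ℝ) := by exact_mod_cast hαP
  have hR0 : (0 : ℝ) < (StabCat.alpha d R : ℝ) := by exact_mod_cast hαR
  have hαsum : (StabCat.alpha d P : ℝ) = StabCat.alpha d QK + StabCat.alpha d QV := by
    rw [hsum, Groth.HilbStab.alpha_add]; push_cast; rfl
  -- additivity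
  have hadd : W4swparbununimod.parPoly 𝓔 PX =
      W4swparbununimod.parPoly (𝓔.induced j) QKX + W4swparbununimod.parPoly (𝓔.coinduced q) VCX := by
    have hz : VCX 0 = QV := Groth.HilbStab.Par.isHilbPoly_piece_zero k hL (𝓔.coinduced q) hQV hVCX
    rw [Groth.HilbStab.Par.parPoly_eq_add 𝓔 P PX (Groth.HilbStab.Par.isHilbPoly_piece_zero k hL 𝓔 hP hPX),
      Groth.HilbStab.Par.parPoly_eq_add (𝓔.induced j) QK QKX
        (Groth.HilbStab.Par.isHilbPoly_piece_zero k hL (𝓔.induced j) hQK hQKX),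
      Groth.HilbStab.Par.parPoly_eq_add (𝓔.coinduced q) QV VCX hz]
    simp only [hpieces, hsum, Groth.HilbStab.Par.rpoly_add, mul_add, Finset.sum_add_distrib]
    exact add_add_add_comm _ _ _ _
  have hcmp := Groth.HilbStab.Par.pieceX_eq_of_parPoly_eq k hL hV (𝓔.wt 0)
    (fun i => Groth.HilbStab.Par.step 𝓔 i) 𝓔.wt_nonneg (Groth.HilbStab.Par.step_pos 𝓔)
    (fun i => (𝓔.coinduced q).pieceX i) (fun i => (𝓕.induced u).pieceX i) hcoh' hcohI hle hVCX hVIX QV
  have eC : W4swparbununimod.parPoly (𝓔.coinduced q) VCX = Polynomial.C (𝓔.wt 0) * W4swparbununimod.rpoly QV +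
      ∑ i : Fin (𝓔.l + 1), Polynomial.C (Groth.HilbStab.Par.step 𝓔 i) * W4swparbununimod.rpoly (VCX i.succ) :=
    Groth.HilbStab.Par.parPoly_eq_add (𝓔.coinduced q) QV VCX
      (Groth.HilbStab.Par.isHilbPoly_piece_zero k hL (𝓔.coinduced q) hQV hVCX)
  have eI : W4swparbununimod.parPoly (𝓕.induced u) VIX = Polynomial.C (𝓔.wt 0) * W4swparbununimod.rpoly QV +
      ∑ i : Fin (𝓔.l + 1), Polynomial.C (Groth.HilbStab.Par.step 𝓔 i) * W4swparbununimod.rpoly (VIX i.succ) :=
    Groth.HilbStab.Par.parPoly_eq_add (𝓕.induced u) QV VIX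
      (Groth.HilbStab.Par.isHilbPoly_piece_zero k hL (𝓕.induced u) hQV hVIX)
  rw [← eC, ← eI] at hcmp
  set A := W4swparbununimod.parPoly 𝓔 PX with hA
  set B := W4swparbununimod.parPoly 𝓕 RX with hB
  set VC := W4swparbununimod.parPoly (𝓔.coinduced q) VCX with hVC
  set VI := W4swparbununimod.parPoly (𝓕.induced u) VIX with hVI
  set KK := W4swparbununimod.parPoly (𝓔.induced j) QKX with hKK
  have hk := Groth.HilbStab.Par.evLE_all k hL hE hEp 𝓔 hcE hP hssE j hK hQK hQKX
  have hi := Groth.HilbStab.Par.evLE_all k hL hF hFp 𝓕 hcF hR hssF u hV hQV hVIX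
  have hlow : Groth.HilbStab.Par.EvLE (A * Polynomial.C (StabCat.alpha d QV : ℝ))
      (VC * Polynomial.C (StabCat.alpha d P : ℝ)) := by
    refine Groth.HilbStab.Par.evLE_of_sub ?_
    have h := hk.sub_nonneg
    have e : VC * Polynomial.C (StabCat.alpha d P : ℝ) - A * Polynomial.C (StabCat.alpha d QV : ℝ) =
        A * Polynomial.C (StabCat.alpha d QK : ℝ) - KK * Polynomial.C (StabCat.alpha d P : ℝ) := by
      rw [hadd, hαsum, map_add]; ring
    rwa [e]
  -- all inequalities are equalities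
  have c1 := hlow.mul_C hR0.le
  have c2 := (hcmp.1.mul_C hP0.le).mul_C hR0.le
  have c3 := hi.mul_C hP0.le
  have e1 : VI * Polynomial.C (StabCat.alpha d R : ℝ) * Polynomial.C (StabCat.alpha d P : ℝ) =
      VI * Polynomial.C (StabCat.alpha d P : ℝ) * Polynomial.C (StabCat.alpha d R : ℝ) := by ring
  have e2 : B * Polynomial.C (StabCat.alpha d QV : ℝ) * Polynomial.C (StabCat.alpha d P : ℝ) =
      A * Polynomial.C (StabCat.alpha d QV : ℝ) * Polynomial.C (StabCat.alpha d R : ℝ) := by
    linear_combination (-(Polynomial.C (StabCat.alpha d QV : ℝ))) * hred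
  rw [e1, e2] at c3
  have q1 := Groth.HilbStab.Par.evLE_antisymm c1 (c2.trans c3)
  have q2 := Groth.HilbStab.Par.evLE_antisymm c2 (c3.trans c1)
  have hCR : Polynomial.C (StabCat.alpha d R : ℝ) ≠ 0 := C_ne_zero.mpr hR0.ne'
  have hCP : Polynomial.C (StabCat.alpha d P : ℝ) ≠ 0 := C_ne_zero.mpr hP0.ne'
  have r1 := mul_right_cancel₀ hCR q1
  have r2 := mul_right_cancel₀ hCP (mul_right_cancel₀ hCR q2)
  have r3 : B * Polynomial.C (StabCat.alpha d QV : ℝ) = VI * Polynomial.C (StabCat.alpha d R : ℝ) := by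
    refine mul_right_cancel₀ hCP ?_
    rw [e1, e2, r1, r2]
  have hpX := hcmp.2 r2
  refine ⟨fun QK' QKX' hQK' hQKX' => ?_, ?_, ?_⟩
  · obtain rfl := Groth.HilbStab.isHilbPoly_unique k hQK' hQK
    obtain rfl : QKX' = QKX := funext fun i => Groth.HilbStab.isHilbPoly_unique k (hQKX' i) (hQKX i)
    rw [← hKK]
    have h := hαsum
    apply_fun Polynomial.C at h
    rw [map_add] at h
    linear_combination A * h + r1 - Polynomial.C (StabCat.alpha d P : ℝ) * hadd
  · obtain ⟨V', ι', φ, Q', hι', hφ, hcomm, hV', hpure, hQ', hα⟩ :=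
      Groth.HilbStab.Par.exists_saturation_sub k hL hF hFp u hV hQV
    choose QX' hQX' using fun i => Groth.HilbStab.exists_isHilbPoly k X hL
      (Groth.HilbStab.Par.isCoh_induced_pieceX 𝓕 ι' hF hV' hcF i)
    have hm := Groth.HilbStab.Par.parPoly_mono k hL 𝓕 hF hcF u ι' φ hcomm hV hV' hQV hQ' hVIX hQX'
    have h' := Groth.HilbStab.Par.evLE_all k hL hF hFp 𝓕 hcF hR hssF ι' hV' hQ' hQX'
    rw [hα, r3] at h'
    haveI : IsIso φ := hm.2 (mul_right_cancel₀ hCR
      (Groth.HilbStab.Par.evLE_antisymm (hm.1.mul_C hR0.le) h')) hw0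
    intro G κ hκ hG hG0
    let e : cokernel u ≅ cokernel ι' :=
      cokernel.mapIso u ι' (asIso φ) (Iso.refl F) (by simp [hcomm])
    exact hpure G (κ ≫ e.hom) (mono_comp _ _) hG hG0
  · intro a _ _
    have hp : ∀ i : Fin (𝓔.l + 1), (𝓔.coinduced q).piece i = (𝓕.induced u).piece i := by
      intro i
      cases i using Fin.cases with
      | zero => exact (𝓔.coinduced q).piece_zero.trans (𝓕.induced u).piece_zero.symm
      | succ i =>
        have h := hpX i.castSucc
        rw [Fin.succ_castSucc] at h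
        rw [← ParSh.Str.pieceX_castSucc (𝓔.coinduced q), ← ParSh.Str.pieceX_castSucc (𝓕.induced u)]
        exact h
    have hb : (𝓔.coinduced q).bot = (𝓕.induced u).bot := by
      have h := hpX (Fin.last _)
      rw [Fin.succ_last] at h
      rw [← ParSh.Str.pieceX_last (𝓔.coinduced q), ← ParSh.Str.pieceX_last (𝓕.induced u)]
      exact h
    refine le_antisymm (ParSh.Str.at_le _ (fun i hi => ?_) ?_) (ParSh.Str.at_le _ (fun i hi => ?_) ?_)
    · exact (hp i).le.trans (ParSh.Str.piece_le_at (𝓕.induced u) i hi)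
    · exact hb.le.trans (ParSh.Str.bot_le_at _ a)
    · exact (hp i).ge.trans (ParSh.Str.piece_le_at (𝓔.coinduced q) i hi)
    · exact hb.ge.trans (ParSh.Str.bot_le_at _ a)

end Groth.Agent.S18529
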