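import Groth.Statements.S1853
import Mathlib
import Groth.Agent.Misc1.CycDet.Exact
import Groth.Agent.MilnorKLambda.Filtr
import Groth.Agent.Surfaces.Lattice
-- import your own Groth.Agent.* helpers here

set_option autoImplicit false
universe u
open CycDet

namespace Groth.Agent.S1853

section Helpers

open IsLocalRing Groth.Misc1.CycDetLib Groth.MilnorKLambda.Per

variable {R : Type u} [CommRing R] [IsNoetherianRing R] [IsLocalRing R] (q : Ideal R) [q.IsPrime]
  [hq1 : Ring.KrullDimLE 1 (R ⧸ q)]

local notation "Rq" => Localization.AtPrime q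
local notation "κ" => IsLocalRing.ResidueField (Localization.AtPrime q)

private abbrev Good {N : Type u} [AddCommGroup N] [Module R N] {l : ℕ} (x : Fin l → N) : Prop :=
  ∀ (j : Fin l) (a : R), a • x j ∈ spanBefore R N x j ↔ a ∈ q

private noncomputable abbrev lc {N : Type u} [AddCommGroup N] [Module R N] {l : ℕ} (x : Fin l → N) :
    Fin l → LocalizedModule q.primeCompl N :=
  fun j => LocalizedModule.mkLinearMap q.primeCompl N (x j)

/-- The value of a functional on the symbol of a tuple. -/
private noncomputable def val {M : Type u} [AddCommGroup M] [Module Rq M] {l : ℕ}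
    (Λ : DetOfLen Rq M l →ₗ[κ] κ) (e : Fin l → M) : κ :=
  open Classical in if h : IsAdmissible Rq M e then Λ (cls e h) else 0

private noncomputable abbrev oA (a : R) : ℤ :=
  CycAlg.ordFrac (R ⧸ q) q.ResidueField (algebraMap (R ⧸ q) q.ResidueField (Ideal.Quotient.mk q a))

private theorem ordFrac_one' : CycAlg.ordFrac (R ⧸ q) q.ResidueField 1 = 0 := by
  have h := Groth.Surfaces.Lattice.ordFrac_mul (A := R ⧸ q) (x := (1 : q.ResidueField)) (y := 1)
    one_ne_zero one_ne_zero
  rw [one_mul] at h
  omega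

private theorem ordFrac_neg' {x : q.ResidueField} (hx : x ≠ 0) :
    CycAlg.ordFrac (R ⧸ q) q.ResidueField (-x) = CycAlg.ordFrac (R ⧸ q) q.ResidueField x := by
  have h := Groth.Surfaces.Lattice.ordFrac_mul (A := R ⧸ q) (x := (-1 : q.ResidueField)) (y := -1)
    (neg_ne_zero.2 one_ne_zero) (neg_ne_zero.2 one_ne_zero)
  rw [neg_one_mul, neg_neg, ordFrac_one' q] at h
  rw [← neg_one_mul, Groth.Surfaces.Lattice.ordFrac_mul (neg_ne_zero.2 one_ne_zero) hx]
  omega

private theorem ordFrac_neg_one_pow {x : q.ResidueField} (hx : x ≠ 0) (p : ℕ) :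
    CycAlg.ordFrac (R ⧸ q) q.ResidueField ((-1) ^ p * x) = CycAlg.ordFrac (R ⧸ q) q.ResidueField x := by
  rcases neg_one_pow_eq_or q.ResidueField p with h | h
  · rw [h, one_mul]
  · rw [h, neg_one_mul, ordFrac_neg' q hx]

private theorem residue_eq (a : R) :
    residue Rq (algebraMap R Rq a) = algebraMap (R ⧸ q) q.ResidueField (Ideal.Quotient.mk q a) := by
  exact (IsScalarTower.algebraMap_apply R (R ⧸ q) q.ResidueField a : _)

private theorem residue_ne {a : R} (ha : a ∉ q) : residue Rq (algebraMap R Rq a) ≠ 0 :=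
  (residue_ne_zero_iff_isUnit _).2 (IsLocalization.map_units Rq (⟨a, ha⟩ : q.primeCompl))

/-- The colength of a principal ideal of `R ⧸ q`. -/
private theorem length_quot {a : R} (ha : a ∉ q) :
    ∃ m : ℕ, Module.length R (R ⧸ (q ⊔ Ideal.span {a})) = m ∧ oA q a = m := by
  have hne : Ideal.Quotient.mk q a ≠ 0 := fun h => ha (Ideal.Quotient.eq_zero_iff_mem.1 h)
  obtain ⟨m, hm⟩ := ENat.ne_top_iff_exists.1
    (Ring.ord_ne_top (R := R ⧸ q) (mem_nonZeroDivisors_of_ne_zero hne))
  refine ⟨m, ?_, ?_⟩
  · have h1 : Module.length R ((R ⧸ q) ⧸ Ideal.span {Ideal.Quotient.mk q a}) = m := by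
      rw [hm, Ring.ord]
      exact Module.length_eq_of_surjective (R := R ⧸ q) (S := R) (M := (R ⧸ q) ⧸ Ideal.span {Ideal.Quotient.mk q a}) Ideal.Quotient.mk_surjective
    have e : ((R ⧸ q) ⧸ Ideal.span {Ideal.Quotient.mk q a}) ≃ₗ[R] R ⧸ (q ⊔ Ideal.span {a}) :=
      (Ideal.quotientEquivAlgOfEq R (by rw [Ideal.map_span, Set.image_singleton]; rfl)).toLinearEquiv ≪≫ₗ
        (DoubleQuot.quotQuotEquivQuotSupₐ R q (Ideal.span {a})).toLinearEquiv
    rw [← e.length_eq, h1]
  · rw [oA, Groth.Surfaces.Lattice.ordFrac_algebraMap hne, ← hm]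
    rfl

variable {N : Type u} [AddCommGroup N] [Module R N] {l : ℕ}

local notation "ι" => LocalizedModule.mkLinearMap (Ideal.primeCompl q) _

omit [IsNoetherianRing R] hq1 in
private theorem loc_mem (x : Fin l → N) (i : ℕ) (z : N) :
    ι z ∈ spanBefore Rq (LocalizedModule q.primeCompl N) (lc q x) i ↔
      ∃ s ∉ q, s • z ∈ spanBefore R N x i := by
  constructor
  · intro hz
    have H : ∀ η ∈ spanBefore Rq (LocalizedModule q.primeCompl N) (lc q x) i,
        ∃ s ∉ q, ∃ β ∈ spanBefore R N x i, s • η = ι β := by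
      intro η hη
      induction hη using Submodule.span_induction with
      | mem η h =>
        obtain ⟨j, hj, rfl⟩ := h
        exact ⟨1, Ideal.one_notMem q, x j, mem_before hj, one_smul _ _⟩
      | zero => exact ⟨1, Ideal.one_notMem q, 0, zero_mem _, by rw [smul_zero, map_zero]⟩
      | add η η' _ _ h h' =>
        obtain ⟨s, hs, β, hβ, e⟩ := h
        obtain ⟨s', hs', β', hβ', e'⟩ := h'
        refine ⟨s * s', fun h => (Ideal.IsPrime.mem_or_mem ‹_› h).elim hs hs', s' • β + s • β',
          add_mem (Submodule.smul_mem _ _ hβ) (Submodule.smul_mem _ _ hβ'), ?_⟩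
        rw [map_add, map_smul, map_smul, ← e, ← e', smul_smul, smul_smul, mul_comm s' s, smul_add]
      | smul r η _ h =>
        obtain ⟨s, hs, β, hβ, e⟩ := h
        obtain ⟨⟨a, t⟩, hat⟩ := IsLocalization.surj q.primeCompl r
        refine ⟨t * s, fun h => (Ideal.IsPrime.mem_or_mem ‹_› h).elim t.2 hs, a • β,
          Submodule.smul_mem _ _ hβ, ?_⟩
        rw [map_smul, ← e, mul_smul, smul_comm s r η, ← algebraMap_smul Rq (t : R) (r • s • η),
          smul_smul, mul_comm, hat, algebraMap_smul]
    obtain ⟨s, hs, β, hβ, e⟩ := H _ hz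
    obtain ⟨u, hu⟩ := (IsLocalizedModule.eq_iff_exists q.primeCompl ι).1
      ((map_smul ι s z).trans e)
    refine ⟨u * s, fun h => (Ideal.IsPrime.mem_or_mem ‹_› h).elim u.2 hs, ?_⟩
    rw [mul_smul, show (u : R) • s • z = (u : R) • β from hu]
    exact Submodule.smul_mem _ _ hβ
  · rintro ⟨s, hs, hz⟩
    have h1 : ι (s • z) ∈ spanBefore Rq (LocalizedModule q.primeCompl N) (lc q x) i := by
      revert hz
      generalize s • z = w
      intro hw
      induction hw using Submodule.span_induction with
      | mem w h => obtain ⟨j, hj, rfl⟩ := h; exact mem_before (e := lc q x) hj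
      | zero => rw [map_zero]; exact zero_mem _
      | add w w' _ _ h h' => rw [map_add]; exact add_mem h h'
      | smul r w _ h => rw [map_smul, ← algebraMap_smul Rq r]; exact Submodule.smul_mem _ _ h
    rw [map_smul, ← algebraMap_smul Rq s] at h1
    exact (Submodule.smul_mem_iff_of_isUnit _ (IsLocalization.map_units Rq (⟨s, hs⟩ : q.primeCompl))).1 h1

variable {q}
variable {x z : Fin l → N}

omit [IsNoetherianRing R] hq1 in
private theorem adm (hx : Good q x) : IsAdmissible Rq (LocalizedModule q.primeCompl N) (lc q x) := by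
  intro j r hr
  obtain ⟨⟨a, t⟩, hat⟩ := IsLocalization.surj q.primeCompl r
  have ha : a ∈ q := by
    rw [← IsLocalization.AtPrime.to_map_mem_maximal_iff Rq q a, ← hat]
    exact Ideal.mul_mem_right _ _ hr
  refine (Submodule.smul_mem_iff_of_isUnit _ (IsLocalization.map_units Rq t)).1 ?_
  rw [smul_smul, mul_comm, hat, algebraMap_smul, ← map_smul]
  exact (loc_mem q x j _).2 ⟨1, Ideal.one_notMem q, by rw [one_smul]; exact (hx j a).2 ha⟩

omit [IsNoetherianRing R] hq1 in
private theorem gen (hx : Good q x)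
    (hl : Module.length Rq (LocalizedModule q.primeCompl N) = l) : Gen Rq (lc q x) := by
  refine (gen_iff (adm hx) hl).2 fun j hj => ?_
  obtain ⟨s, hs, h⟩ := (loc_mem q x j _).1 hj
  exact hs ((hx j s).1 h)

omit [IsNoetherianRing R] hq1 in
private theorem exists_mem (hx : Good q x)
    (hl : Module.length Rq (LocalizedModule q.primeCompl N) = l) (w : N) :
    ∃ s ∉ q, s • w ∈ spanBefore R N x l :=
  (loc_mem q x l w).1 (by rw [before_full _ le_rfl, gen hx hl]; trivial)

omit [IsNoetherianRing R] hq1 in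
private theorem torsion (hx : Good q x) {i m : ℕ} (him : i ≤ m) {s : R} (hs : s ∉ q) {w : N}
    (hw : w ∈ spanBefore R N x m) (hsw : s • w ∈ spanBefore R N x i) : w ∈ spanBefore R N x i := by
  induction m, him using Nat.le_induction generalizing w with
  | base => exact hw
  | succ m him ih =>
    refine ih ?_ hsw
    rcases lt_or_ge m l with hm | hm
    · rw [show m + 1 = ((⟨m, hm⟩ : Fin l) : ℕ) + 1 from rfl, before_succ, Submodule.mem_sup] at hw
      obtain ⟨β, hβ, _, hr, rfl⟩ := hw
      obtain ⟨r, rfl⟩ := Submodule.mem_span_singleton.1 hr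
      have h2 : (s * r) • x ⟨m, hm⟩ ∈ spanBefore R N x m := by
        have := sub_mem (before_mono x him hsw) (Submodule.smul_mem _ s hβ)
        rwa [smul_add, add_sub_cancel_left, smul_smul] at this
      exact add_mem hβ ((hx ⟨m, hm⟩ r).2 ((Ideal.IsPrime.mem_or_mem ‹_› ((hx ⟨m, hm⟩ _).1 h2)).resolve_left hs))
    · rwa [before_full x hm, ← before_full x (show l ≤ m + 1 by omega)]

omit [IsNoetherianRing R] hq1 in
private theorem inter (hx : Good q x) (hz : Good q z) {t : Fin l → R} (ht : ∀ i, t i ∉ q)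
    (hle : ∀ i : ℕ, spanBefore R N z i ≤ spanBefore R N x i)
    (hd : ∀ i : Fin l, z i - t i • x i ∈ spanBefore R N x i) {i m : ℕ} (him : i ≤ m) {w : N}
    (hw : w ∈ spanBefore R N z m) (hwi : w ∈ spanBefore R N x i) : w ∈ spanBefore R N z i := by
  induction m, him using Nat.le_induction generalizing w with
  | base => exact hw
  | succ m him ih =>
    refine ih ?_ hwi
    rcases lt_or_ge m l with hm | hm
    · rw [show m + 1 = ((⟨m, hm⟩ : Fin l) : ℕ) + 1 from rfl, before_succ, Submodule.mem_sup] at hw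
      obtain ⟨β, hβ, _, hr, rfl⟩ := hw
      obtain ⟨r, rfl⟩ := Submodule.mem_span_singleton.1 hr
      have h2 : (r * t ⟨m, hm⟩) • x ⟨m, hm⟩ ∈ spanBefore R N x m := by
        have h1 := sub_mem (sub_mem (before_mono x him hwi) (hle m hβ))
          (Submodule.smul_mem _ r (hd ⟨m, hm⟩))
        rwa [add_sub_cancel_left, smul_sub, sub_sub_cancel, smul_smul] at h1
      exact add_mem hβ ((hz ⟨m, hm⟩ r).2
        ((Ideal.IsPrime.mem_or_mem ‹_› ((hx ⟨m, hm⟩ _).1 h2)).resolve_right (ht _)))
    · rwa [before_full z hm, ← before_full z (show l ≤ m + 1 by omega)]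

/-- Colengths of comparable good tuples. -/
private theorem length_eq (hx : Good q x) (hz : Good q z) {t : Fin l → R} (ht : ∀ i, t i ∉ q)
    (hle : ∀ i : ℕ, spanBefore R N z i ≤ spanBefore R N x i)
    (hd : ∀ i : Fin l, z i - t i • x i ∈ spanBefore R N x i) :
    ∃ T : ℕ, (T : ℤ) = ∑ i, oA q (t i) ∧
      Module.length R (N ⧸ spanBefore R N z l) = T + Module.length R (N ⧸ spanBefore R N x l) := by
  choose m hm1 hm2 using fun i => length_quot q (ht i)
  refine ⟨∑ i, m i, by rw [Nat.cast_sum]; exact Finset.sum_congr rfl fun i _ => (hm2 i).symm, ?_⟩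
  set Z := spanBefore R N z l
  let P : ℕ → Submodule R (N ⧸ Z) := fun i => (spanBefore R N x i).map Z.mkQ
  have hP : ∀ i ≤ l, Module.length R (P i) = ((∑ j ∈ Finset.univ.filter (fun j : Fin l => (j : ℕ) < i), m j : ℕ) : ℕ∞) := by
    intro i
    induction i with
    | zero =>
      intro _
      rw [show P 0 = ⊥ by simp [P, before_zero], Module.length_bot]
      simp
    | succ i ih =>
      intro hi
      let fi : Fin l := ⟨i, hi⟩
      have hle' : P i ≤ P (i + 1) := Submodule.map_mono (before_mono x (Nat.le_succ i))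
      let f : R →ₗ[R] P (i + 1) ⧸ (P i).submoduleOf (P (i + 1)) :=
        ((P i).submoduleOf (P (i + 1))).mkQ ∘ₗ LinearMap.toSpanSingleton R (P (i + 1))
          ⟨Z.mkQ (x fi), Submodule.mem_map_of_mem (mem_before (Nat.lt_succ_self i))⟩
      have hf : Function.Surjective f := by
        intro y
        obtain ⟨⟨_, w, hw, rfl⟩, rfl⟩ := Submodule.Quotient.mk_surjective _ y
        rw [show i + 1 = (fi : ℕ) + 1 from rfl, SetLike.mem_coe, before_succ, Submodule.mem_sup] at hw
        obtain ⟨β, hβ, _, hr, rfl⟩ := hw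
        obtain ⟨r, rfl⟩ := Submodule.mem_span_singleton.1 hr
        refine ⟨r, (Submodule.Quotient.eq _).2 ?_⟩
        show r • Z.mkQ (x fi) - Z.mkQ (β + r • x fi) ∈ P i
        rw [map_add, map_smul, sub_add_cancel_right]
        exact neg_mem (Submodule.mem_map_of_mem hβ)
      have hker : LinearMap.ker f = q ⊔ Ideal.span {t fi} := by
        ext a
        rw [LinearMap.mem_ker, LinearMap.comp_apply, Submodule.mkQ_apply, Submodule.Quotient.mk_eq_zero]
        show a • Z.mkQ (x fi) ∈ P i ↔ _
        constructor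
        · rintro ⟨β, hβ, e⟩
          rw [← map_smul, Submodule.mkQ_apply, Submodule.mkQ_apply, Submodule.Quotient.eq] at e
          have hw : a • x fi - β ∈ spanBefore R N z (i + 1) :=
            inter hx hz ht hle hd (by omega : i + 1 ≤ l) (by simpa using neg_mem e)
              (sub_mem (Submodule.smul_mem _ _ (mem_before (Nat.lt_succ_self i)))
                (before_mono x (Nat.le_succ i) hβ))
          rw [show i + 1 = (fi : ℕ) + 1 from rfl, before_succ, Submodule.mem_sup] at hw
          obtain ⟨γ, hγ, _, hr, e2⟩ := hw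
          obtain ⟨b, rfl⟩ := Submodule.mem_span_singleton.1 hr
          have h3 : (a - b * t fi) • x fi ∈ spanBefore R N x i := by
            have h4 := add_mem (add_mem hβ (hle i hγ)) (Submodule.smul_mem _ b (hd fi))
            rw [show (a - b * t fi) • x fi = β + γ + b • (z fi - t fi • x fi) by
              linear_combination (norm := module) -e2]
            exact h4
          have := (hx fi _).1 h3
          rw [← sub_add_cancel a (b * t fi)]
          exact Submodule.add_mem_sup this (Ideal.mul_mem_left _ _ (Ideal.mem_span_singleton_self _))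
        · intro ha
          obtain ⟨c, hc, _, hb, rfl⟩ := Submodule.mem_sup.1 ha
          obtain ⟨b, rfl⟩ := Ideal.mem_span_singleton'.1 hb
          refine ⟨c • x fi - b • (z fi - t fi • x fi),
            sub_mem ((hx fi c).2 hc) (Submodule.smul_mem _ _ (hd fi)), ?_⟩
          rw [← map_smul, Submodule.mkQ_apply, Submodule.mkQ_apply, Submodule.Quotient.eq]
          have : c • x fi - b • (z fi - t fi • x fi) - (c + b * t fi) • x fi = -(b • z fi) := by
            rw [add_smul, mul_smul, smul_sub]; abel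
          rw [this]
          exact neg_mem (Submodule.smul_mem _ _ (mem_before fi.2))
      let Q₀ : Submodule R (P (i + 1)) := (P i).submoduleOf (P (i + 1))
      have h1 : Module.length R (P (i + 1)) =
          Module.length R Q₀ + Module.length R (P (i + 1) ⧸ Q₀) :=
        Module.length_eq_add_of_exact (Submodule.subtype Q₀) Q₀.mkQ Q₀.injective_subtype
          Q₀.mkQ_surjective (LinearMap.exact_subtype_mkQ Q₀)
      rw [h1, (Submodule.submoduleOfEquivOfLe hle').length_eq, ih (by omega),
        ← ((Submodule.quotEquivOfEq _ _ hker.symm).trans (f.quotKerEquivOfSurjective hf)).length_eq, hm1,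
        ← Nat.cast_add]
      congr 1
      rw [add_comm, show (Finset.univ.filter fun j : Fin l => (j : ℕ) < i + 1) =
        insert fi (Finset.univ.filter fun j : Fin l => (j : ℕ) < i) by
          ext j; simp [fi, Fin.ext_iff]; omega, Finset.sum_insert (by simp [fi])]
  have h2 := Module.length_eq_add_of_exact (P l).subtype (P l).mkQ (Submodule.injective_subtype _)
    (Submodule.mkQ_surjective _) (LinearMap.exact_subtype_mkQ _)
  rw [h2, hP l le_rfl, (Submodule.quotientQuotientEquivQuotient Z _ (hle l)).length_eq]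
  congr 3
  exact Finset.filter_true_of_mem fun j _ => j.2

omit [IsNoetherianRing R] hq1 in
private theorem before_eq_of_rel {M : Type u} [AddCommGroup M] [Module Rq M] (e e' : Fin l → M)
    (c : Fin l → Rqˣ) (hd : ∀ i : Fin l, e i - (c i : Rq) • e' i ∈ spanBefore Rq M e' i) (i : ℕ) :
    spanBefore Rq M e i = spanBefore Rq M e' i := by
  induction i with
  | zero => rw [before_zero, before_zero]
  | succ i ih =>
    rcases lt_or_ge i l with hi | hi
    · rw [show i + 1 = ((⟨i, hi⟩ : Fin l) : ℕ) + 1 from rfl, before_succ, before_succ, ih]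
      have h := hd ⟨i, hi⟩
      refine le_antisymm (sup_le le_sup_left ?_) (sup_le le_sup_left ?_)
      · rw [Submodule.span_singleton_le_iff_mem,
          ← sub_add_cancel (e ⟨i, hi⟩) ((c ⟨i, hi⟩ : Rq) • e' ⟨i, hi⟩)]
        exact Submodule.add_mem_sup h (Submodule.smul_mem _ _ (Submodule.mem_span_singleton_self _))
      · rw [Submodule.span_singleton_le_iff_mem, ← Submodule.smul_mem_iff_of_isUnit _ (c ⟨i, hi⟩).isUnit,
          show (c ⟨i, hi⟩ : Rq) • e' ⟨i, hi⟩ = -(e ⟨i, hi⟩ - (c ⟨i, hi⟩ : Rq) • e' ⟨i, hi⟩) + e ⟨i, hi⟩ by abel]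
        exact Submodule.add_mem_sup (neg_mem h) (Submodule.mem_span_singleton_self _)
    · rw [before_full _ (show l ≤ i + 1 by omega), before_full _ (show l ≤ i + 1 by omega),
        ← before_full _ hi, ← before_full _ hi, ih]

omit [IsNoetherianRing R] hq1 in
private theorem val_change {M : Type u} [AddCommGroup M] [Module Rq M]
    (Λ : DetOfLen Rq M l →ₗ[κ] κ) (e e' : Fin l → M) (c : Fin l → Rqˣ) (he : IsAdmissible Rq M e)
    (hd : ∀ i : Fin l, e i - (c i : Rq) • e' i ∈ spanBefore Rq M e i) :
    IsAdmissible Rq M e' ∧ val q Λ e = (∏ i, residue Rq (c i : Rq)) * val q Λ e' := by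
  let h : ℕ → Fin l → M := fun k j => if (j : ℕ) < k then e' j else e j
  suffices H : ∀ k ≤ l, IsAdmissible Rq M (h k) ∧ (∀ i : ℕ, spanBefore Rq M (h k) i = spanBefore Rq M e i) ∧
      val q Λ e = (∏ i ∈ Finset.univ.filter (fun i : Fin l => (i : ℕ) < k), residue Rq (c i : Rq)) *
        val q Λ (h k) by
    obtain ⟨h1, -, h2⟩ := H l le_rfl
    have hl' : h l = e' := funext fun j => if_pos j.2
    rw [hl'] at h1 h2
    rw [Finset.filter_true_of_mem fun j _ => j.2] at h2
    exact ⟨h1, h2⟩
  intro k
  induction k with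
  | zero =>
    intro _
    have h0 : h 0 = e := funext fun j => if_neg (Nat.not_lt_zero _)
    rw [h0]
    exact ⟨he, fun _ => rfl, by simp⟩
  | succ k ih =>
    intro hk
    obtain ⟨h1, h2, h3⟩ := ih (by omega)
    let fk : Fin l := ⟨k, hk⟩
    have hj : ∀ j, j ≠ fk → h k j = h (k + 1) j := fun j hj => by
      have : (j : ℕ) ≠ k := fun h => hj (Fin.ext h)
      simp only [h, show ((j : ℕ) < k + 1) = ((j : ℕ) < k) from propext (by omega)]
    have hc : h k fk - (c fk : Rq) • h (k + 1) fk ∈ spanBefore Rq M (h k) fk := by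
      rw [h2]
      simpa [h, fk] using hd fk
    have h4 : IsAdmissible Rq M (h (k + 1)) := adm_change hj hc h1
    refine ⟨h4, fun i => (before_change hj hc i).symm.trans (h2 i), ?_⟩
    rw [h3, val, dif_pos h1, val, dif_pos h4, cls_change h1 h4 fk (c fk) hj hc, map_smul, smul_eq_mul,
      show (Finset.univ.filter fun j : Fin l => (j : ℕ) < k + 1) =
        insert fk (Finset.univ.filter fun j : Fin l => (j : ℕ) < k) by
          ext j; simp [fk, Fin.ext_iff]; omega, Finset.prod_insert (by simp [fk])]
    ring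

omit [IsNoetherianRing R] hq1 in
private theorem val_front {M : Type u} [AddCommGroup M] [Module Rq M] :
    ∀ (p : ℕ) (hp : p < l + 1) (Λ : DetOfLen Rq M (l + 1) →ₗ[κ] κ) (e : Fin (l + 1) → M),
      IsAdmissible Rq M e → (∀ r ∈ maximalIdeal Rq, r • e ⟨p, hp⟩ = 0) →
      val q Λ (Fin.cons (e ⟨p, hp⟩) (e ∘ Fin.succAbove ⟨p, hp⟩)) = (-1) ^ p * val q Λ e := by
  intro p
  induction p with
  | zero =>
    intro hp Λ e he _
    rw [pow_zero, one_mul]
    congr 1
    refine funext fun j => ?_
    induction j using Fin.cases with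
    | zero => rfl
    | succ j => simp
  | succ p ih =>
    intro hp Λ e he hk
    let a : Fin (l + 1) := ⟨p + 1, hp⟩
    let b : Fin (l + 1) := ⟨p, by omega⟩
    have hca : ∀ r ∈ maximalIdeal Rq, r • e a ∈ spanBefore Rq M e b := fun r hr => by
      rw [hk r hr]; exact zero_mem _
    have he' := adm_swap (a := a) (b := b) rfl he hca
    have h := ih (by omega) Λ _ he' fun r hr => by
      rw [Function.comp_apply, show (⟨p, _⟩ : Fin (l + 1)) = b from rfl, Equiv.swap_apply_right]
      exact hk r hr
    have h1 : val q Λ (e ∘ Equiv.swap a b) = - val q Λ e := by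
      rw [val, dif_pos he', val, dif_pos he, cls_swap he a b rfl hca, map_neg, neg_neg]
    rw [h1, show (e ∘ Equiv.swap a b) b = e a by simp, mul_neg] at h
    rw [pow_succ, mul_neg_one, neg_mul, ← h]
    congr 2
    refine funext fun j => congrArg e ?_
    show a.succAbove j = Equiv.swap a b (b.succAbove j)
    rcases lt_trichotomy (j : ℕ) p with h | h | h
    · rw [Fin.succAbove_of_castSucc_lt a j (by show (j : ℕ) < p + 1; omega),
        Fin.succAbove_of_castSucc_lt b j (by show (j : ℕ) < p; omega),
        Equiv.swap_apply_of_ne_of_ne (Fin.ne_of_val_ne (by show (j : ℕ) ≠ p + 1; omega))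
          (Fin.ne_of_val_ne (by show (j : ℕ) ≠ p; omega))]
    · rw [Fin.succAbove_of_castSucc_lt a j (by show (j : ℕ) < p + 1; omega),
        Fin.succAbove_of_le_castSucc b j (by show p ≤ (j : ℕ); omega),
        show j.succ = a from Fin.ext (by simp [a, h]), Equiv.swap_apply_left]
      exact Fin.ext (by simp [b, h])
    · rw [Fin.succAbove_of_le_castSucc a j (by show p + 1 ≤ (j : ℕ); omega),
        Fin.succAbove_of_le_castSucc b j (by show p ≤ (j : ℕ); omega),
        Equiv.swap_apply_of_ne_of_ne (Fin.ne_of_val_ne (by show (j : ℕ) + 1 ≠ p + 1; omega))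
          (Fin.ne_of_val_ne (by show (j : ℕ) + 1 ≠ p; omega))]

private theorem finite_length [Module.Finite R N] (hH : ∀ a ∈ q, ∃ n : ℕ, ∀ w : N, a ^ n • w = 0)
    (hx : Good q x) (hl : Module.length Rq (LocalizedModule q.primeCompl N) = l) :
    Module.length R (N ⧸ spanBefore R N x l) ≠ ⊤ := by
  refine length_ne_top_of_support fun p hp => ?_
  obtain ⟨y, hy⟩ := Module.mem_support_iff'.1 hp
  have hqp : q ≤ p.asIdeal := fun a ha => by
    by_contra hap
    obtain ⟨n, hn⟩ := hH a ha
    obtain ⟨w, rfl⟩ := Submodule.mkQ_surjective _ y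
    exact hy _ (fun h => hap (p.2.mem_of_pow_mem n h)) (by rw [← map_smul, hn, map_zero])
  have hne : q ≠ p.asIdeal := by
    intro e
    obtain ⟨w, rfl⟩ := Submodule.mkQ_surjective _ y
    obtain ⟨s, hs, hsw⟩ := exists_mem hx hl w
    exact hy s (e ▸ hs) (by rw [← map_smul]; exact (Submodule.Quotient.mk_eq_zero _).2 hsw)
  have h2 : (p.asIdeal.map (Ideal.Quotient.mk q)).IsPrime :=
    Ideal.map_isPrime_of_surjective Ideal.Quotient.mk_surjective (by rwa [Ideal.mk_ker])
  have h3 : p.asIdeal.map (Ideal.Quotient.mk q) ≠ ⊥ := fun h => hne (le_antisymm hqp (by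
    rw [← Ideal.mk_ker (I := q), ← Ideal.map_eq_bot_iff_le_ker]; exact h))
  have h4 := ((Ring.krullDimLE_one_iff_of_noZeroDivisors (R := R ⧸ q)).1 inferInstance) _ h3 h2
  refine IsLocalRing.eq_maximalIdeal ?_
  have := Ideal.comap_isMaximal_of_surjective (Ideal.Quotient.mk q) Ideal.Quotient.mk_surjective
    (K := p.asIdeal.map (Ideal.Quotient.mk q))
  rwa [Ideal.comap_map_of_surjective _ Ideal.Quotient.mk_surjective, ← RingHom.ker_eq_comap_bot,
    Ideal.mk_ker, sup_eq_left.2 hqp] at this

/-- The invariant attached to a good tuple. -/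
private noncomputable def Φ (Λ : DetOfLen Rq (LocalizedModule q.primeCompl N) l →ₗ[κ] κ) (x : Fin l → N) : ℤ :=
  CycAlg.ordFrac (R ⧸ q) q.ResidueField (val q Λ (lc q x)) -
    ((Module.length R (N ⧸ spanBefore R N x l)).toNat : ℤ)

set_option maxHeartbeats 1000000 in
private theorem Φ_scale [Module.Finite R N] (hH : ∀ a ∈ q, ∃ n : ℕ, ∀ w : N, a ^ n • w = 0)
    (hl : Module.length Rq (LocalizedModule q.primeCompl N) = l)
    (Λ : DetOfLen Rq (LocalizedModule q.primeCompl N) l →ₗ[κ] κ)
    (hΛ : ∀ e he, Gen Rq e → Λ (cls e he) ≠ 0)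
    (hx : Good q x) (hz : Good q z) {t : Fin l → R} (ht : ∀ i, t i ∉ q)
    (hle : ∀ i : ℕ, spanBefore R N z i ≤ spanBefore R N x i)
    (hd : ∀ i : Fin l, z i - t i • x i ∈ spanBefore R N x i) : Φ Λ z = Φ Λ x := by
  obtain ⟨T, hT, hlen⟩ := length_eq hx hz ht hle hd
  let c : Fin l → Rqˣ := fun i => (IsLocalization.map_units Rq (⟨t i, ht i⟩ : q.primeCompl)).unit
  have hι : ∀ i, lc q z i - (c i : Rq) • lc q x i = ι (z i - t i • x i) := fun i => by
    rw [map_sub, map_smul, ← algebraMap_smul Rq (t i)]
    rfl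
  have hB : ∀ i : ℕ, spanBefore Rq _ (lc q z) i = spanBefore Rq _ (lc q x) i :=
    before_eq_of_rel (lc q z) (lc q x) c fun i => by
      rw [hι]
      exact (loc_mem q x i (z i - t i • x i)).2 ⟨1, Ideal.one_notMem q, by rw [one_smul]; exact hd i⟩
  obtain ⟨-, hv⟩ := val_change Λ (lc q z) (lc q x) c (adm hz) fun i => by
    rw [hB, hι]
    exact (loc_mem q x i _).2 ⟨1, Ideal.one_notMem q, by rw [one_smul]; exact hd i⟩
  have hx0 : val q Λ (lc q x) ≠ 0 := by
    rw [val, dif_pos (adm hx)]
    exact hΛ _ _ (gen hx hl)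
  have hc0 : ∀ j, residue Rq (c j : Rq) ≠ 0 := fun j => residue_ne q (ht j)
  have hsum : ∀ s : Finset (Fin l), CycAlg.ordFrac (R ⧸ q) q.ResidueField
      (∏ i ∈ s, residue Rq (c i : Rq)) = ∑ i ∈ s, oA q (t i) := by
    intro s
    induction s using Finset.induction_on with
    | empty => simpa using ordFrac_one' q
    | insert i s hi ih =>
      rw [Finset.prod_insert hi, Finset.sum_insert hi, ← ih, ← Groth.Surfaces.Lattice.ordFrac_mul]
      · exact congrArg _ (congrArg (· * _) (residue_eq q (t i)))
      · exact hc0 i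
      · exact Finset.prod_ne_zero_iff.2 fun j _ => hc0 j
  rw [Φ, Φ, hv, Groth.Surfaces.Lattice.ordFrac_mul (A := R ⧸ q) (K := q.ResidueField)
    (Finset.prod_ne_zero_iff.2 fun j _ => hc0 j) hx0, hsum, ← hT, hlen,
    ENat.toNat_add (ENat.natCast_ne_top T) (finite_length hH hx hl), ENat.toNat_natCast]
  push_cast
  ring

omit [IsNoetherianRing R] hq1 in
/-- Move a multiple of `u` into a good tuple, then to the front. -/
private theorem exists_front {x : Fin (l + 1) → N} (hx : Good q x)
    (hl : Module.length Rq (LocalizedModule q.primeCompl N) = (l + 1 : ℕ))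
    {u : N} (hu : ∀ a, a • u = 0 ↔ a ∈ q) :
    ∃ (z : Fin (l + 1) → N) (t : Fin (l + 1) → R) (p : Fin (l + 1)) (s : R), s ∉ q ∧ Good q z ∧
      (∀ i, t i ∉ q) ∧ (∀ i : ℕ, spanBefore R N z i ≤ spanBefore R N x i) ∧
      (∀ i : Fin (l + 1), z i - t i • x i ∈ spanBefore R N x i) ∧ z p = s • u ∧
      Good q (Fin.cons (s • u) (z ∘ p.succAbove) : Fin (l + 1) → N) ∧
      spanBefore R N (Fin.cons (s • u) (z ∘ p.succAbove) : Fin (l + 1) → N) (l + 1) = spanBefore R N z (l + 1) := by
  classical
  have hex : ∃ i, ∃ s ∉ q, s • u ∈ spanBefore R N x (i + 1) := ⟨l, exists_mem hx hl u⟩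
  have hlt : Nat.find hex < l + 1 := Nat.lt_succ_of_le (Nat.find_min' hex (exists_mem hx hl u))
  let p : Fin (l + 1) := ⟨Nat.find hex, hlt⟩
  obtain ⟨s, hs, hmem⟩ := Nat.find_spec hex
  rw [show Nat.find hex + 1 = (p : ℕ) + 1 from rfl, before_succ, Submodule.mem_sup] at hmem
  obtain ⟨w, hw, _, hr, hsu⟩ := hmem
  obtain ⟨t, rfl⟩ := Submodule.mem_span_singleton.1 hr
  have hmin : ∀ s' ∉ q, s' • u ∉ spanBefore R N x p := by
    intro s' hs' h
    rcases Nat.eq_zero_or_pos (p : ℕ) with h0 | h0
    · rw [h0, before_zero, Submodule.mem_bot] at h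
      exact hs' ((hu s').1 h)
    · refine Nat.find_min hex (m := (p : ℕ) - 1) (by show _ < (p : ℕ); omega) ⟨s', hs', ?_⟩
      rwa [Nat.sub_add_cancel h0]
  have ht : t ∉ q := fun h => hmin s hs (hsu ▸ add_mem hw ((hx p t).2 h))
  have hqu : ∀ a ∈ q, a • s • u = 0 := fun a ha => by
    rw [smul_comm, (hu a).2 ha, smul_zero]
  let z : Fin (l + 1) → N := fun i => if (i : ℕ) < p then x i else if i = p then s • u else t • x i
  let tt : Fin (l + 1) → R := fun i => if (i : ℕ) < p then 1 else t
  have hzlt : ∀ i : Fin (l + 1), (i : ℕ) < p → z i = x i := fun i h => if_pos h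
  have hzp : z p = s • u := by simp [z]
  have hzgt : ∀ i : Fin (l + 1), (p : ℕ) < i → z i = t • x i := fun i h => by
    have : i ≠ p := fun e => by subst e; omega
    exact (if_neg (by omega : ¬ (i : ℕ) < p)).trans (if_neg this)
  have htlt : ∀ i : Fin (l + 1), (i : ℕ) < p → tt i = 1 := fun i h => if_pos h
  have htge : ∀ i : Fin (l + 1), ¬ (i : ℕ) < p → tt i = t := fun i h => if_neg h
  have hBlow : ∀ i, i ≤ (p : ℕ) → spanBefore R N z i = spanBefore R N x i := fun i hi =>
    before_congr fun j hj => hzlt j (by omega)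
  have htt : ∀ i, tt i ∉ q := fun i => by
    by_cases h : (i : ℕ) < p
    · rw [htlt i h]; exact Ideal.one_notMem q
    · rw [htge i h]; exact ht
  have hd : ∀ i : Fin (l + 1), z i - tt i • x i ∈ spanBefore R N x i := fun i => by
    rcases lt_trichotomy (i : ℕ) p with h | h | h
    · rw [hzlt i h, htlt i h, one_smul, sub_self]; exact zero_mem _
    · rw [htge i (by omega), show i = p from Fin.ext h, hzp, ← hsu, add_sub_cancel_right]
      exact hw
    · rw [hzgt i h, htge i (by omega), sub_self]; exact zero_mem _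
  have hle : ∀ i : ℕ, spanBefore R N z i ≤ spanBefore R N x i := fun i => before_le_iff.2 fun j hj => by
    rw [← sub_add_cancel (z j) (tt j • x j)]
    exact add_mem (before_mono x hj.le (hd j)) (Submodule.smul_mem _ _ (mem_before hj))
  have hbig : ∀ i : ℕ, ∀ v ∈ spanBefore R N x i, t • v ∈ spanBefore R N z i := fun i v hv => by
    have : spanBefore R N x i ≤ Submodule.comap (t • (LinearMap.id : N →ₗ[R] N)) (spanBefore R N z i) := before_le_iff.2 fun j hj => by
      show t • x j ∈ spanBefore R N z i
      rcases lt_trichotomy (j : ℕ) p with h | h | h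
      · rw [← hzlt j h]; exact Submodule.smul_mem _ _ (mem_before hj)
      · rw [show j = p from Fin.ext h, ← add_sub_cancel_left w (t • x p), hsu, ← hzp]
        refine sub_mem (mem_before (by omega)) (before_mono z (show (p : ℕ) ≤ i by omega) ?_)
        rw [hBlow _ le_rfl]; exact hw
      · rw [← hzgt j h]; exact mem_before hj
    exact this hv
  have hzgood : Good q z := by
    intro i a
    constructor
    · intro h
      have h1 : (a * tt i) • x i ∈ spanBefore R N x i := by
        have := sub_mem (hle i h) (Submodule.smul_mem _ a (hd i))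
        rwa [smul_sub, sub_sub_cancel, smul_smul] at this
      exact (Ideal.IsPrime.mem_or_mem ‹_› ((hx i _).1 h1)).resolve_right (htt i)
    · intro ha
      rcases lt_trichotomy (i : ℕ) p with h | h | h
      · rw [hzlt i h, hBlow _ h.le]; exact (hx i a).2 ha
      · obtain rfl : i = p := Fin.ext h
        rw [hzp, hqu a ha]; exact zero_mem _
      · rw [hzgt i h, smul_comm]; exact hbig i _ ((hx i a).2 ha)
  refine ⟨z, tt, p, s, hs, hzgood, htt, hle, hd, hzp, ?_, ?_⟩
  · intro i a
    induction i using Fin.cases with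
    | zero =>
      rw [Fin.cons_zero, Fin.val_zero, before_zero, Submodule.mem_bot, smul_smul, hu]
      exact ⟨fun h => (Ideal.IsPrime.mem_or_mem ‹_› h).resolve_right hs, fun h => Ideal.mul_mem_right _ _ h⟩
    | succ j =>
      rw [Fin.cons_succ, Function.comp_apply]
      set z' : Fin (l + 1) → N := Fin.cons (s • u) (z ∘ p.succAbove)
      have hkey : spanBefore R N z' (j.succ : Fin (l + 1)) =
          Submodule.span R {s • u} ⊔ spanBefore R N z (p.succAbove j) := by
        refine le_antisymm (before_le_iff.2 fun k hk => ?_) (sup_le ?_ (before_le_iff.2 fun k hk => ?_))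
        · induction k using Fin.cases with
          | zero => exact Submodule.mem_sup_left (Submodule.mem_span_singleton_self _)
          | succ k =>
            refine Submodule.mem_sup_right ?_
            simp only [z', Fin.cons_succ, Function.comp_apply]
            exact mem_before (Fin.strictMono_succAbove p (show k < j by simpa using hk))
        · rw [Submodule.span_singleton_le_iff_mem]
          have := mem_before (R := R) (e := z') (j := 0) (show ((0 : Fin (l + 1)) : ℕ) < (j.succ : Fin (l + 1)) by simp)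
          simpa [z'] using this
        · rcases eq_or_ne k p with rfl | hne
          · rw [hzp]
            have := mem_before (R := R) (e := z') (j := 0) (show ((0 : Fin (l + 1)) : ℕ) < (j.succ : Fin (l + 1)) by simp)
            simpa [z'] using this
          · obtain ⟨k, rfl⟩ := Fin.exists_succAbove_eq hne
            have hkj : k < j := (Fin.strictMono_succAbove p).lt_iff_lt.1 hk
            have := mem_before (R := R) (e := z') (j := k.succ) (show ((k.succ : Fin (l + 1)) : ℕ) < (j.succ : Fin (l + 1)) by simpa using hkj)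
            simpa [z'] using this
      rw [hkey]
      constructor
      · intro h
        rcases lt_or_gt_of_ne (fun e => Fin.succAbove_ne p j (Fin.ext e) : (p.succAbove j : ℕ) ≠ p) with hj | hj
        · by_contra ha
          obtain ⟨_, hb, β, hβ, e⟩ := Submodule.mem_sup.1 h
          obtain ⟨b, rfl⟩ := Submodule.mem_span_singleton.1 hb
          by_cases hbq : b ∈ q
          · rw [hqu b hbq, zero_add] at e
            exact ha ((hzgood _ a).1 (e ▸ hβ))
          · refine hmin (b * s) (fun h => (Ideal.IsPrime.mem_or_mem ‹_› h).elim hbq hs) ?_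
            rw [mul_smul, ← hBlow _ le_rfl, eq_sub_of_add_eq e]
            exact sub_mem (Submodule.smul_mem _ _ (mem_before hj)) (before_mono z hj.le hβ)
        · refine (hzgood _ a).1 ((sup_le ?_ le_rfl : Submodule.span R {s • u} ⊔ spanBefore R N z (p.succAbove j) ≤ spanBefore R N z (p.succAbove j)) h)
          rw [Submodule.span_singleton_le_iff_mem, ← hzp]
          exact mem_before hj
      · exact fun ha => Submodule.mem_sup_right ((hzgood _ a).2 ha)
  · rw [before_full _ le_rfl, before_full _ le_rfl]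
    refine congrArg _ ?_
    rw [Fin.range_cons, ← hzp, ← Set.image_univ, ← Set.image_univ, Set.image_comp,
      ← Set.image_insert_eq]
    congr 1
    refine Set.eq_univ_of_forall fun k => ?_
    rcases eq_or_ne k p with rfl | hne
    · exact Set.mem_insert _ _
    · obtain ⟨k, rfl⟩ := Fin.exists_succAbove_eq hne
      exact Set.mem_insert_of_mem _ ⟨k, trivial, rfl⟩

omit [IsNoetherianRing R] hq1 in
private theorem castDet {M : Type u} [AddCommGroup M] [Module Rq M] {n m : ℕ} (h : n = m) :
    ∀ Λ : DetOfLen Rq M m →ₗ[κ] κ, ∃ Λ₁ : DetOfLen Rq M n →ₗ[κ] κ,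
      ∀ e : Fin n → M, val q Λ₁ e = val q Λ (e ∘ Fin.cast h.symm) := by
  subst h
  exact fun Λ => ⟨Λ, fun e => rfl⟩

omit [IsNoetherianRing R] hq1 in
private theorem append_eq {M : Type u} (v : M) (b : Fin l → M) :
    Fin.append (fun _ : Fin 1 => v) b ∘ Fin.cast (Nat.add_comm l 1) = Fin.cons v b := by
  refine funext fun j => ?_
  induction j using Fin.cases with
  | zero => exact Fin.append_left (fun _ : Fin 1 => v) b 0
  | succ j =>
    rw [Fin.cons_succ, Function.comp_apply,
      show Fin.cast (Nat.add_comm l 1) j.succ = Fin.natAdd 1 j from Fin.ext (by simp; omega)]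
    exact Fin.append_right _ b j

omit [IsNoetherianRing R] hq1 in
/-- The induced functional on a quotient by an element killed by the maximal ideal. -/
private theorem exists_quot_functional {L M : Type u} [AddCommGroup L] [Module Rq L] [AddCommGroup M]
    [Module Rq M] (g : L →ₗ[Rq] M) (hg : Function.Surjective g)
    (hl : Module.length Rq L = (l + 1 : ℕ)) (hl' : Module.length Rq M = l) (v : L) (hv : g v = 0)
    (hv0 : v ≠ 0) (hkill : ∀ r ∈ maximalIdeal Rq, r • v = 0)
    (Λ : DetOfLen Rq L (l + 1) →ₗ[κ] κ) (hΛ : ∀ e he, Gen Rq e → Λ (cls e he) ≠ 0) :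
    ∃ Λ' : DetOfLen Rq M l →ₗ[κ] κ, (∀ e he, Gen Rq e → Λ' (cls e he) ≠ 0) ∧
      ∀ (eM : Fin l → M) (b : Fin l → L), (∀ j, g (b j) = eM j) → IsAdmissible Rq M eM →
        val q Λ' eM = val q Λ (Fin.cons v b) := by
  let K := LinearMap.ker g
  have hfg : LinearMap.range K.subtype = LinearMap.ker g := K.range_subtype
  have hlK : Module.length Rq K = (1 : ℕ) := by
    have h1 := Module.length_eq_add_of_exact K.subtype g K.injective_subtype hg
      (LinearMap.exact_subtype_ker_map g)
    rw [hl, hl', Nat.cast_succ, add_comm (l : ℕ∞)] at h1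
    exact (WithTop.add_right_cancel (ENat.natCast_ne_top l) h1).symm
  let eK : Fin 1 → K := fun _ => ⟨v, hv⟩
  have heK : IsAdmissible Rq K eK := fun j r hr => by
    rw [show r • eK j = 0 from Subtype.ext (hkill r hr)]; exact zero_mem _
  have hK : Gen Rq eK := (gen_iff heK hlK).2 fun j hj => by
    rw [show (j : ℕ) = 0 by omega, before_zero, Submodule.mem_bot] at hj
    exact hv0 (congrArg Subtype.val hj)
  obtain ⟨Ψ, hΨ⟩ := exists_pairing (q := l) (f := K.subtype) (g := g) hfg hg hlK
  obtain ⟨Λ₁, hΛ₁⟩ := castDet (q := q) (M := L) (Nat.add_comm 1 l) Λ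
  let Λ' : DetOfLen Rq M l →ₗ[κ] κ := Λ₁.comp (Ψ (cls eK heK))
  have hval : ∀ (eM : Fin l → M) (b : Fin l → L), (∀ j, g (b j) = eM j) → IsAdmissible Rq M eM →
      val q Λ' eM = val q Λ (Fin.cons v b) := by
    intro eM b hb heM
    have hA : IsAdmissible Rq L (Fin.append (fun _ : Fin 1 => v) b) :=
      adm_append (f := K.subtype) (g := g) (eK := eK) (eM := eM) (b := b) hfg hb hK heK heM
    rw [val, dif_pos heM, ← append_eq v b, ← hΛ₁, val, dif_pos hA]
    exact congrArg Λ₁ (hΨ eK heK hK eM heM b hb)
  refine ⟨Λ', fun eM heM hM => ?_, hval⟩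
  choose b hb using fun j => hg (eM j)
  have aux : ∀ {n m : ℕ} (h : n = m) (e : Fin n → L), IsAdmissible Rq _ e → Gen Rq e →
      IsAdmissible Rq _ (e ∘ Fin.cast h.symm) ∧ Gen Rq (e ∘ Fin.cast h.symm) := by
    intro n m h e h1 h2; subst h; exact ⟨h1, h2⟩
  have h3 := aux (Nat.add_comm 1 l) _ (adm_append hfg hb hK heK heM) (gen_append hfg hb hK hM)
  rw [show (Fin.append (K.subtype ∘ eK) b ∘ Fin.cast (Nat.add_comm 1 l).symm) = Fin.cons v b from
    append_eq v b] at h3
  have h2 := hval eM b hb heM
  rw [val, dif_pos heM, val, dif_pos h3.1] at h2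
  rw [h2]
  exact hΛ _ _ h3.2

set_option maxHeartbeats 2000000 in
private theorem core : ∀ (l : ℕ) (N : Type u) [AddCommGroup N] [Module R N] [Module.Finite R N],
    (∀ a ∈ q, ∃ n : ℕ, ∀ w : N, a ^ n • w = 0) →
    Module.length Rq (LocalizedModule q.primeCompl N) = l →
    ∀ Λ : DetOfLen Rq (LocalizedModule q.primeCompl N) l →ₗ[κ] κ, (∀ e he, Gen Rq e → Λ (cls e he) ≠ 0) →
    ∀ x y : Fin l → N, Good q x → Good q y → Φ Λ x = Φ Λ y := by
  intro l
  induction l with
  | zero =>
    intro N _ _ _ _ _ Λ _ x y _ _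
    rw [Subsingleton.elim x y]
  | succ l ih =>
    intro N _ _ _ hH hl Λ hΛ x y hx hy
    let u := y 0
    have hu : ∀ a, a • u = 0 ↔ a ∈ q := fun a => by
      rw [← hy 0 a, Fin.val_zero, before_zero, Submodule.mem_bot]
    let U : Submodule R N := LinearMap.range (LinearMap.toSpanSingleton R N u)
    have hUk : LinearMap.ker (LinearMap.toSpanSingleton R N u) = q := by
      ext a; simpa using hu a
    let N' := N ⧸ U
    have hH' : ∀ a ∈ q, ∃ n : ℕ, ∀ w : N', a ^ n • w = 0 := fun a ha => by
      obtain ⟨n, hn⟩ := hH a ha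
      refine ⟨n, fun w => ?_⟩
      obtain ⟨w, rfl⟩ := Submodule.mkQ_surjective _ w
      rw [← map_smul, hn, map_zero]
    have hl' : Module.length Rq (LocalizedModule q.primeCompl N') = l := by
      have h1 : lq q N = lq q U + lq q N' := lq_add q (f := U.subtype) (g := U.mkQ) U.injective_subtype
        U.mkQ_surjective (LinearMap.exact_subtype_mkQ U)
      have h2 : lq q U = 1 := by
        rw [← lq_congr q ((Submodule.quotEquivOfEq _ _ hUk.symm).trans
          (LinearMap.quotKerEquivRange (LinearMap.toSpanSingleton R N u))), lq_quot_self]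
      rw [h2, lq, hl, Nat.cast_succ, add_comm (1 : ℕ∞)] at h1
      exact (WithTop.add_right_cancel ENat.one_ne_top h1).symm
    -- the functional on the quotient
    let g : LocalizedModule q.primeCompl N →ₗ[Rq] LocalizedModule q.primeCompl N' :=
      LocalizedModule.map q.primeCompl U.mkQ
    have hg : Function.Surjective g := LocalizedModule.map_surjective _ _ U.mkQ_surjective
    have hgι : ∀ w, g (ι w) = LocalizedModule.mkLinearMap q.primeCompl N' (U.mkQ w) := fun w =>
      IsLocalizedModule.map_apply q.primeCompl ι (LocalizedModule.mkLinearMap q.primeCompl N') U.mkQ w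
    have huK : g (ι u) = 0 := by
      rw [hgι, Submodule.mkQ_apply,
        (Submodule.Quotient.mk_eq_zero _).2 (show u ∈ U from ⟨1, one_smul R u⟩), map_zero]
    have hkill : ∀ r ∈ maximalIdeal Rq, r • ι u = 0 := fun r hr => by
      have := adm hy 0 r hr
      rwa [Fin.val_zero, before_zero, Submodule.mem_bot] at this
    have hu0 : ι u ≠ 0 := fun h => by
      obtain ⟨s, hs⟩ := (IsLocalizedModule.eq_zero_iff q.primeCompl ι).1 h
      exact s.2 ((hu s).1 hs)
    obtain ⟨Λ', hΛ', hval⟩ := exists_quot_functional g hg hl hl' (ι u) huK hu0 hkill Λ hΛ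
    -- reduce to the quotient
    have red : ∀ x : Fin (l + 1) → N, Good q x →
        ∃ r : Fin l → N', Good q r ∧ Φ Λ x = Φ Λ' r := by
      intro x hx
      obtain ⟨z, t, p, s, hs, hz, ht, hle, hd, hzp, hz', hspan⟩ := exists_front hx hl hu
      set z' : Fin (l + 1) → N := Fin.cons (s • u) (z ∘ p.succAbove) with hz'def
      rw [← Φ_scale hH hl Λ hΛ hx hz ht hle hd]
      let r : Fin l → N' := fun j => U.mkQ (z' j.succ)
      have hB : ∀ (i : ℕ), i ≤ l → (spanBefore R N' r i).comap U.mkQ = U ⊔ spanBefore R N z' (i + 1) := by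
        intro i hi
        have : spanBefore R N' r i = (spanBefore R N z' (i + 1)).map U.mkQ := by
          refine le_antisymm (before_le_iff.2 fun j hj =>
            Submodule.mem_map_of_mem (mem_before (show (j.succ : ℕ) < i + 1 by simpa using hj))) ?_
          rw [Submodule.map_le_iff_le_comap]
          refine before_le_iff.2 fun j hj => ?_
          induction j using Fin.cases with
          | zero =>
            show U.mkQ (z' 0) ∈ spanBefore R N' r i
            rw [hz'def, Fin.cons_zero, Submodule.mkQ_apply,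
              (Submodule.Quotient.mk_eq_zero _).2 (show s • u ∈ U from ⟨s, rfl⟩)]
            exact zero_mem _
          | succ j => exact mem_before (e := r) (show (j : ℕ) < i by simpa using hj)
        rw [this, Submodule.comap_map_mkQ]
      have hs0 : ∀ i, 1 ≤ i → s • u ∈ spanBefore R N z' i := fun i hi => by
        have := mem_before (R := R) (e := z') (j := 0) (show ((0 : Fin (l + 1)) : ℕ) < i by simp only [Fin.val_zero]; omega)
        simpa [z'] using this
      have hr : Good q r := by
        intro j a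
        rw [show a • r j = U.mkQ (a • z' j.succ) from (map_smul _ _ _).symm, ← Submodule.mem_comap,
          hB _ j.2.le, show ((j : ℕ) + 1) = (j.succ : Fin (l + 1)).val from (Fin.val_succ j).symm]
        refine ⟨fun h => ?_, fun ha => Submodule.mem_sup_right ((hz' j.succ a).2 ha)⟩
        obtain ⟨_, ⟨b, rfl⟩, β, hβ, e⟩ := Submodule.mem_sup.1 h
        have h1 : (s * a) • z' j.succ ∈ spanBefore R N z' j.succ := by
          rw [mul_smul, ← e, smul_add, LinearMap.toSpanSingleton_apply, smul_comm]
          exact add_mem (Submodule.smul_mem _ _ (hs0 _ (by simp))) (Submodule.smul_mem _ _ hβ)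
        exact (Ideal.IsPrime.mem_or_mem ‹_› ((hz' _ _).1 h1)).resolve_left hs
      refine ⟨r, hr, ?_⟩
      obtain ⟨m, hm1, hm2⟩ := length_quot q hs
      have hlen : Module.length R (N ⧸ spanBefore R N z (l + 1)) =
          m + Module.length R (N' ⧸ spanBefore R N' r l) := by
        rw [← hspan, ← hm1]
        let Z := spanBefore R N z' (l + 1)
        let f : (R ⧸ (q ⊔ Ideal.span {s})) →ₗ[R] N ⧸ Z :=
          Submodule.liftQ _ (Z.mkQ ∘ₗ LinearMap.toSpanSingleton R N u) (by
            intro a ha
            obtain ⟨c, hc, _, hb, rfl⟩ := Submodule.mem_sup.1 ha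
            obtain ⟨b, rfl⟩ := Ideal.mem_span_singleton'.1 hb
            rw [LinearMap.mem_ker, LinearMap.comp_apply, LinearMap.toSpanSingleton_apply, add_smul,
              (hu c).2 hc, zero_add, mul_smul, Submodule.mkQ_apply, Submodule.Quotient.mk_eq_zero]
            exact Submodule.smul_mem _ _ (hs0 _ (by omega)))
        let g' : (N ⧸ Z) →ₗ[R] N' ⧸ spanBefore R N' r l :=
          Submodule.mapQ Z _ U.mkQ (by rw [hB l le_rfl]; exact le_sup_right)
        refine Module.length_eq_add_of_exact f g' ?_ ?_ ?_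
        · rw [← LinearMap.ker_eq_bot, Submodule.ker_liftQ, eq_bot_iff]
          rintro _ ⟨a, ha, rfl⟩
          rw [SetLike.mem_coe, LinearMap.mem_ker, LinearMap.comp_apply, Submodule.mkQ_apply,
            Submodule.Quotient.mk_eq_zero, LinearMap.toSpanSingleton_apply] at ha
          rw [Submodule.mem_bot, Submodule.mkQ_apply, Submodule.Quotient.mk_eq_zero]
          have h1 : s • (a • u) ∈ spanBefore R N z' 1 := by
            rw [smul_comm]; exact Submodule.smul_mem _ _ (hs0 1 le_rfl)
          have h2 := torsion hz' (by omega : 1 ≤ l + 1) hs ha h1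
          have e1 : spanBefore R N z' 1 = Submodule.span R {z' 0} := by
            have := before_succ (R := R) z' (0 : Fin (l + 1))
            simpa [before_zero] using this
          rw [e1, Submodule.mem_span_singleton] at h2
          obtain ⟨b, hb⟩ := h2
          rw [hz'def, Fin.cons_zero, smul_smul, ← sub_eq_zero, ← sub_smul, hu] at hb
          rw [show a = -(b * s - a) + b * s by ring]
          exact Submodule.add_mem_sup (neg_mem hb) (Ideal.mul_mem_left _ _ (Ideal.mem_span_singleton_self _))
        · intro w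
          obtain ⟨w, rfl⟩ := Submodule.mkQ_surjective _ w
          obtain ⟨w, rfl⟩ := Submodule.mkQ_surjective _ w
          exact ⟨Z.mkQ w, rfl⟩
        · rw [LinearMap.exact_iff, Submodule.ker_mapQ, Submodule.range_liftQ, LinearMap.range_comp,
            hB l le_rfl, Submodule.map_sup, Submodule.mkQ_map_self, sup_bot_eq]
      let b : Fin l → LocalizedModule q.primeCompl N := fun j => ι (z' j.succ)
      have hbg : ∀ j, g (b j) = lc q r j := fun j => hgι _
      let su : Rqˣ := (IsLocalization.map_units Rq (⟨s, hs⟩ : q.primeCompl)).unit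
      have hadj : ∀ j : Fin (l + 1), j ≠ 0 →
          lc q z' j = (Fin.cons (ι u) b : Fin (l + 1) → _) j := fun j hj => by
        obtain ⟨j, rfl⟩ := Fin.exists_succ_eq.2 hj
        simp [b, lc]
      have hch : lc q z' 0 - (su : Rq) • (Fin.cons (ι u) b : Fin (l + 1) → _) 0 ∈
          spanBefore Rq _ (lc q z') (0 : Fin (l + 1)) := by
        simp [lc, z', su, algebraMap_smul]
      have hadm' := adm_change hadj hch (adm hz')
      have h1 : val q Λ (lc q z') = residue Rq (su : Rq) * val q Λ' (lc q r) := by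
        rw [hval _ b hbg (adm hr), val, dif_pos (adm hz'), val, dif_pos hadm',
          cls_change (adm hz') hadm' 0 su hadj hch, map_smul, smul_eq_mul]
      have h2 : val q Λ (lc q z') = (-1) ^ (p : ℕ) * val q Λ (lc q z) := by
        rw [← val_front (p : ℕ) p.2 Λ (lc q z) (adm hz) fun r hr => by
          show r • ι (z p) = 0
          rw [hzp, map_smul, smul_comm, hkill r hr, smul_zero]]
        congr 1
        refine funext fun j => ?_
        induction j using Fin.cases with
        | zero => simp [lc, z', hzp]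
        | succ j => simp [lc, z']
      have hz0 : val q Λ (lc q z) ≠ 0 := by
        rw [val, dif_pos (adm hz)]; exact hΛ _ _ (gen hz hl)
      have hr0 : val q Λ' (lc q r) ≠ 0 := by
        rw [val, dif_pos (adm hr)]; exact hΛ' _ _ (gen hr hl')
      have h3 : CycAlg.ordFrac (R ⧸ q) q.ResidueField (val q Λ (lc q z)) =
          oA q s + CycAlg.ordFrac (R ⧸ q) q.ResidueField (val q Λ' (lc q r)) := by
        rw [← ordFrac_neg_one_pow q hz0 p, ← h2, h1, Groth.Surfaces.Lattice.ordFrac_mul
          (A := R ⧸ q) (K := q.ResidueField) (show residue Rq (su : Rq) ≠ 0 from residue_ne q hs) hr0]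
        exact congrArg (· + _) (congrArg _ (residue_eq q s))
      rw [Φ, Φ, h3, hlen, ENat.toNat_add (ENat.natCast_ne_top m) (finite_length hH' hr hl'),
        ENat.toNat_natCast, hm2]
      push_cast
      ring
    obtain ⟨r₁, hr₁, e₁⟩ := red x hx
    obtain ⟨r₂, hr₂, e₂⟩ := red y hy
    rw [e₁, e₂]
    exact ih N' hH' hl' Λ' hΛ' r₁ r₂ hr₁ hr₂

end Helpers

open Groth.Misc1.CycDetLib


/-- Let R be Noetherian local, 𝔮 a prime with dim R/𝔮 = 1, and φ : M → N a map of finite modules
generated by x₁, …, x_l and y₁, …, y_l respectively, with all successive quotients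
⟨x₁..x_i⟩/⟨x₁..x_{i−1}⟩ and ⟨y₁..y_i⟩/⟨y₁..y_{i−1}⟩ isomorphic to R/𝔮. Then φ is injective iff φ_𝔮
is bijective; and in that case, if the symbols of (φ(x_i)) and (y_i) in det_{κ(𝔮)}(N_𝔮) differ by
the scalar f, the length of coker φ equals ord_{R/𝔮}(f). -/
theorem result (R : Type u) [CommRing R] [IsNoetherianRing R] [IsLocalRing R] (q : PrimeSpectrum R) (hq : ringKrullDim (R ⧸ q.asIdeal) = 1) (M N : Type u) [AddCommGroup M] [Module R M] [AddCommGroup N] [Module R N] [Module.Finite R M] [Module.Finite R N] (φ : M →ₗ[R] N) (l : ℕ) (x : Fin l → M) (y : Fin l → N) (hx : Submodule.span R (Set.range x) = ⊤) (hy : Submodule.span R (Set.range y) = ⊤) (hxq : ∀ i : Fin l, Nonempty ((↥(CycDet.spanBefore R M x (i + 1)) ⧸ (CycDet.spanBefore R M x i).submoduleOf (CycDet.spanBefore R M x (i + 1))) ≃ₗ[R] (R ⧸ q.asIdeal))) (hyq : ∀ i : Fin l, Nonempty ((↥(CycDet.spanBefore R N y (i + 1)) ⧸ (CycDet.spanBefore R N y i).submoduleOf (CycDet.spanBefore R N y (i + 1))) ≃ₗ[R] (R ⧸ q.asIdeal))) : (Function.Injective φ ↔ Function.Bijective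 (LocalizedModule.map q.asIdeal.primeCompl φ)) ∧ (Function.Injective φ → ∀ (hl : (Module.length (Localization.AtPrime q.asIdeal) (LocalizedModule q.asIdeal.primeCompl N)).toNat = l) (ex ey : CycDet.Adm (Localization.AtPrime q.asIdeal) (LocalizedModule q.asIdeal.primeCompl N) (Module.length (Localization.AtPrime q.asIdeal) (LocalizedModule q.asIdeal.primeCompl N)).toNat) (f : q.asIdeal.ResidueField), (ex.1 = fun i => LocalizedModule.mkLinearMap q.asIdeal.primeCompl N (φ (x (Fin.cast hl i)))) → (ey.1 = fun i => LocalizedModule.mkLinearMap q.asIdeal.primeCompl N (y (Fin.cast hl i))) → CycDet.symbol (Localization.AtPrime q.asIdeal) (LocalizedModule q.asIdeal.primeCompl N) ex = f • CycDet.symbol (Localization.AtPrime q.asIdeal) (LocalizedModule q.asIdeal.primeCompl N) ey → ∃ n : ℕ, Module.length R (N ⧸ LinearMap.range φ) = n ∧ (n : ℤ) = CycAlg.ordFrac (R ⧸ q.asIdeal) q.asIdeal.ResidueField f) := by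
  classical
  haveI : Ring.KrullDimLE 1 (R ⧸ q.asIdeal) := Ring.krullDimLE_iff.2 hq.le
  have good : ∀ {L : Type u} [AddCommGroup L] [Module R L] (e : Fin l → L),
      (∀ i : Fin l, Nonempty ((↥(CycDet.spanBefore R L e (i + 1)) ⧸
        (CycDet.spanBefore R L e i).submoduleOf (CycDet.spanBefore R L e (i + 1))) ≃ₗ[R] (R ⧸ q.asIdeal))) →
      Good q.asIdeal e := by
    intro L _ _ e he i a
    obtain ⟨φe⟩ := he i
    set P := CycDet.spanBefore R L e i
    set P' := CycDet.spanBefore R L e (i + 1)
    let c : ↥P' ⧸ P.submoduleOf P' := Submodule.Quotient.mk ⟨e i, mem_before (Nat.lt_succ_self _)⟩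
    have hc : ∀ w, ∃ r : R, w = r • c := fun w => by
      obtain ⟨⟨v, hv⟩, rfl⟩ := Submodule.Quotient.mk_surjective _ w
      have hv' := hv
      rw [show P' = _ from before_succ e i, Submodule.mem_sup] at hv'
      obtain ⟨β, hβ, _, hr, rfl⟩ := hv'
      obtain ⟨r, rfl⟩ := Submodule.mem_span_singleton.1 hr
      refine ⟨r, (Submodule.Quotient.eq _).2 ?_⟩
      show β + r • e i - r • e i ∈ P
      rwa [add_sub_cancel_right]
    have key : a • e i ∈ P ↔ a • c = 0 := by
      rw [← Submodule.Quotient.mk_smul, Submodule.Quotient.mk_eq_zero]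
      rfl
    rw [key]
    constructor
    · intro h
      obtain ⟨r, hr⟩ := hc (φe.symm (Ideal.Quotient.mk q.asIdeal 1))
      have h1 : a • φe.symm (Ideal.Quotient.mk q.asIdeal 1) = 0 := by
        rw [hr, smul_comm, h, smul_zero]
      rw [← map_smul, LinearEquiv.map_eq_zero_iff, Algebra.smul_def, map_one, mul_one] at h1
      exact Ideal.Quotient.eq_zero_iff_mem.1 h1
    · intro ha
      refine φe.injective ?_
      rw [map_smul, map_zero, Algebra.smul_def]
      exact (congrArg (· * φe c) (Ideal.Quotient.eq_zero_iff_mem.2 ha)).trans (zero_mul _)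
  have gx := good x hxq
  have gy := good y hyq
  have hM : q ∉ Module.support R (M ⧸ Submodule.span R (Set.range x)) := by
    rw [hx, Module.notMem_support_iff]; infer_instance
  have hN : q ∉ Module.support R (N ⧸ Submodule.span R (Set.range y)) := by
    rw [hy, Module.notMem_support_iff]; infer_instance
  have hlM : Module.length (Localization.AtPrime q.asIdeal) (LocalizedModule q.asIdeal.primeCompl M) = l :=
    Groth.MilnorKLambda.Per.lq_eq_of_filtr q.asIdeal hxq hM
  have hlN : Module.length (Localization.AtPrime q.asIdeal) (LocalizedModule q.asIdeal.primeCompl N) = l :=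
    Groth.MilnorKLambda.Per.lq_eq_of_filtr q.asIdeal hyq hN
  have hinjM : Function.Injective (LocalizedModule.mkLinearMap q.asIdeal.primeCompl M) := by
    refine (injective_iff_map_eq_zero _).2 fun w hw => ?_
    obtain ⟨s, hs⟩ := (IsLocalizedModule.eq_zero_iff q.asIdeal.primeCompl _).1 hw
    have h1 := torsion gx (Nat.zero_le l) s.2
      (show w ∈ CycDet.spanBefore R M x l by rw [before_full x le_rfl, hx]; trivial)
      (show (s : R) • w ∈ CycDet.spanBefore R M x 0 by
        rw [show (s : R) • w = 0 from hs]; exact zero_mem _)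
    rwa [before_zero, Submodule.mem_bot] at h1
  have hcomm : ∀ w, LocalizedModule.map q.asIdeal.primeCompl φ (LocalizedModule.mkLinearMap _ M w) =
      LocalizedModule.mkLinearMap _ N (φ w) := fun w =>
    IsLocalizedModule.map_apply q.asIdeal.primeCompl (LocalizedModule.mkLinearMap _ M)
      (LocalizedModule.mkLinearMap _ N) φ w
  refine ⟨⟨fun h => ?_, fun h a b hab => hinjM (h.1 (by rw [hcomm, hcomm, hab]))⟩, ?_⟩
  · have h1 := LocalizedModule.map_injective q.asIdeal.primeCompl φ h
    refine ⟨h1, ?_⟩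
    set F := LocalizedModule.map q.asIdeal.primeCompl φ
    rw [← LinearMap.range_eq_top]
    by_contra hne
    have : IsFiniteLength (Localization.AtPrime q.asIdeal) (LocalizedModule q.asIdeal.primeCompl N) :=
      Module.length_ne_top_iff.1 (by rw [hlN]; exact ENat.natCast_ne_top l)
    obtain ⟨_, _⟩ := isFiniteLength_iff_isNoetherian_isArtinian.1 this
    have h2 := Submodule.length_lt (lt_top_iff_ne_top.2 hne).ne
    rw [← (LinearEquiv.ofInjective F h1).length_eq, hlM, hlN] at h2
    exact lt_irrefl _ h2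
  intro hφ hl ex ey f hex hey hf
  suffices key : (∀ Λ : DetOfLen (Localization.AtPrime q.asIdeal) (LocalizedModule q.asIdeal.primeCompl N) l
        →ₗ[IsLocalRing.ResidueField (Localization.AtPrime q.asIdeal)]
          IsLocalRing.ResidueField (Localization.AtPrime q.asIdeal),
      val q.asIdeal Λ (lc q.asIdeal fun i => φ (x i)) = f * val q.asIdeal Λ (lc q.asIdeal y)) →
      ∃ n : ℕ, Module.length R (N ⧸ LinearMap.range φ) = n ∧
        (n : ℤ) = CycAlg.ordFrac (R ⧸ q.asIdeal) q.asIdeal.ResidueField f by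
    refine key ?_
    subst hl
    intro Λ
    rw [show (lc q.asIdeal fun i => φ (x i)) = ex.1 from hex.symm,
      show lc q.asIdeal y = ey.1 from hey.symm, val, dif_pos ex.2, val, dif_pos ey.2]
    exact (congrArg Λ hf).trans (map_smul Λ f _)
  intro hrel
  have gx' : Good q.asIdeal (fun i => φ (x i)) := by
    intro i a
    have hmap : CycDet.spanBefore R N (fun i => φ (x i)) i = (CycDet.spanBefore R M x i).map φ := by
      rw [CycDet.spanBefore, CycDet.spanBefore, Submodule.map_span, ← Set.image_comp]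
      rfl
    rw [hmap, ← map_smul, ← SetLike.mem_coe, Submodule.map_coe, hφ.mem_set_image, SetLike.mem_coe]
    exact gx i a
  have hH : ∀ a ∈ q.asIdeal, ∃ n : ℕ, ∀ w : N, a ^ n • w = 0 := fun a ha => ⟨l, fun w => by
    have key' : ∀ i, i ≤ l → ∀ v ∈ CycDet.spanBefore R N y i, a ^ i • v = 0 := by
      intro i
      induction i with
      | zero => intro _ v hv; rw [before_zero, Submodule.mem_bot] at hv; rw [hv, smul_zero]
      | succ i ih =>
        intro hi v hv
        rw [show i + 1 = ((⟨i, hi⟩ : Fin l) : ℕ) + 1 from rfl, before_succ, Submodule.mem_sup] at hv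
        obtain ⟨β, hβ, _, hr, rfl⟩ := hv
        obtain ⟨r, rfl⟩ := Submodule.mem_span_singleton.1 hr
        rw [pow_succ, mul_smul, ih (by omega) _ ?_]
        rw [smul_add]
        refine add_mem (Submodule.smul_mem _ _ hβ) ?_
        rw [smul_comm]
        exact Submodule.smul_mem _ _ ((gy ⟨i, hi⟩ a).2 ha)
    exact key' l le_rfl w (by rw [before_full y le_rfl, hy]; trivial)⟩
  obtain ⟨Λ, hΛ⟩ := exists_functional hlN
  have hΦ := core l N hH hlN Λ hΛ (fun i => φ (x i)) y gx' gy
  have hsx := hrel Λ
  have hy0 : val q.asIdeal Λ (lc q.asIdeal y) ≠ 0 := by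
    rw [val, dif_pos (adm gy)]; exact hΛ _ _ (gen gy hlN)
  have hf0 : f ≠ 0 := fun h => by
    rw [h, zero_mul, val, dif_pos (adm gx')] at hsx
    exact hΛ _ _ (gen gx' hlN) hsx
  have hrange : CycDet.spanBefore R N (fun i => φ (x i)) l = LinearMap.range φ := by
    rw [before_full _ le_rfl, LinearMap.range_eq_map, ← hx, Submodule.map_span, ← Set.range_comp]
    rfl
  have hytop : CycDet.spanBefore R N y l = ⊤ := by rw [before_full _ le_rfl, hy]
  rw [Φ, Φ, hsx, hrange, hytop] at hΦ
  rw [Groth.Surfaces.Lattice.ordFrac_mul (A := R ⧸ q.asIdeal) (K := q.asIdeal.ResidueField) hf0 hy0] at hΦ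
  have hfin := finite_length hH gx' hlN
  rw [hrange] at hfin
  obtain ⟨n, hn⟩ := ENat.ne_top_iff_exists.1 hfin
  refine ⟨n, hn.symm, ?_⟩
  have : Subsingleton (N ⧸ (⊤ : Submodule R N)) := inferInstance
  rw [Module.length_eq_zero_iff.2 this, ← hn] at hΦ
  simp only [ENat.toNat_natCast, ENat.toNat_zero, Nat.cast_zero, sub_zero] at hΦ
  omega

end Groth.Agent.S1853
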