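import Groth.Statements.S18532
import Groth.Agent.HilbStab.Par.Limit
-- import your own Groth.Agent.* helpers here

set_option autoImplicit false
universe u
open CategoryTheory CategoryTheory.Limits AlgebraicGeometry Polynomial
open ParSh

namespace Groth.Agent.S18532

/-- The comparison of the second and first modified parabolic Hilbert polynomials for one test subsheaf.
Let X be a scheme proper over a field k with an ample invertible sheaf L, I the ideal of an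
effective Cartier divisor D on X, d ≥ 1, and E a nonzero coherent O_X-module, pure of dimension d,
with Supp E ∩ Supp D of topological Krull dimension less than d, carrying a finite weighted
filtration 𝓔 along I by coherent pieces E = E₀ ⊇ ⋯ ⊇ E_{l+1} = I·E, weights 0 ≤ w₀ < ⋯ < w_l < 1,
w_{l+1} := 1. Let P be the Hilbert polynomial of E, P_j of E_j, H_j of E/E_j with α_{d−1}(H_j) ≠ 0
for 1 ≤ j ≤ l+1, and Par_E = P_{l+1} + Σ_j w_j (P_j − P_{j+1}). Let ι : W → E be a monomorphism from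
a coherent module W with induced filtration W_j = W ∩ E_j, Q the Hilbert polynomial of W and K_j
that of W/W_j; put par-P₁(W ⊂ E) = Q − Σ_{j=1}^{l+1} (w_j − w_{j−1})·(α_{d−1}(K_j)/α_{d−1}(H_j))·H_j
and par-P₂(W ⊂ E)(x, y) = Q(x) − Σ_{j=1}^{l+1} (w_j − w_{j−1})·(K_j(y)/H_j(y))·H_j(x). Then: (i) if
there is M such that for every m ≥ M there is N with par-P₂(W ⊂ E)(m, n)·P(n) ≤ Par_E(m)·Q(n) for
all n ≥ N, then par-P₁(W ⊂ E)(m)·α_d(P) ≤ Par_E(m)·α_d(Q) for all large m; (ii) if par-P₁(W ⊂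
E)(m)·α_d(P) < Par_E(m)·α_d(Q) for all large m, then there is M such that for every m ≥ M there is N
with par-P₂(W ⊂ E)(m, n)·P(n) < Par_E(m)·Q(n) for all n ≥ N. With W running over the nonzero
saturated (proper) sub-modules this is the published implication p₂-semistable ⇒ p₁-semistable,
p₁-stable ⇒ p₂-stable; the further implications to and from parabolic slope-(semi)stability in the
published statement are not part of this row. -/
theorem result (k : Type u) [Field k] (X : Scheme.{u})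
    [X.Over (Spec (CommRingCat.of k))] [IsProper (X ↘ Spec (CommRingCat.of k))]
    (L : X.Modules) (hL : CohB1.IsAmple L) (I : X.IdealSheafData) (hD : FGA.IsEffCartier I)
    (E : X.Modules) (hE : Coh.IsCoh E) (𝓔 : ParSh.Str E) (h𝓔 : 𝓔.Along I)
    (hcoh : ∀ j, Coh.IsCoh ((𝓔.pieceX j : Subobject E) : X.Modules)) (d : ℕ) (hd : 1 ≤ d)
    (hsupp : topologicalKrullDim ↥(CohB1.support E ∩ (I.support : Set X)) < (d : WithBot ℕ∞))
    (h0 : ¬ IsZero E) (hpure : ShStab.IsPure X E d)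
    (P : ℚ[X]) (hP : ShStab.IsHilbPoly k X L E P) (PX : Fin (𝓔.l + 2) → ℚ[X])
    (hPX : ∀ j, ShStab.IsHilbPoly k X L ((𝓔.pieceX j : Subobject E) : X.Modules) (PX j))
    (H : Fin (𝓔.l + 2) → ℚ[X]) (hH : ∀ j, ShStab.IsHilbPoly k X L (cokernel (𝓔.pieceX j).arrow) (H j))
    (hHa : ∀ j : Fin (𝓔.l + 1), StabCat.alpha (d - 1) (H j.succ) ≠ 0)
    {W : X.Modules} (ι : W ⟶ E) [Mono ι] (hW : Coh.IsCoh W)
    (Q : ℚ[X]) (hQ : ShStab.IsHilbPoly k X L W Q) (QH : Fin (𝓔.l + 2) → ℚ[X])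
    (hQH : ∀ j, ShStab.IsHilbPoly k X L (cokernel ((𝓔.induced ι).pieceX j).arrow) (QH j)) :
    ((∃ M : ℕ, ∀ m : ℕ, M ≤ m → ∃ N : ℕ, ∀ n : ℕ, N ≤ n →
        (((Q.eval (m : ℚ) : ℚ) : ℝ) -
            ∑ j : Fin (𝓔.l + 1), (𝓔.wtX j.succ - 𝓔.wtX j.castSucc) *
              ((((QH j.succ).eval (n : ℚ) / (H j.succ).eval (n : ℚ) : ℚ) : ℝ) * (((H j.succ).eval (m : ℚ) : ℚ) : ℝ))) *
          ((P.eval (n : ℚ) : ℚ) : ℝ) ≤
        (W4swparbununimod.parPoly 𝓔 PX).eval (m : ℝ) * ((Q.eval (n : ℚ) : ℚ) : ℝ)) →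
      ∃ M : ℕ, ∀ m : ℕ, M ≤ m →
        (W4swparbununimod.parPolyOne 𝓔 d Q QH H).eval (m : ℝ) * (StabCat.alpha d P : ℝ) ≤
          (W4swparbununimod.parPoly 𝓔 PX).eval (m : ℝ) * (StabCat.alpha d Q : ℝ)) ∧
    ((∃ M : ℕ, ∀ m : ℕ, M ≤ m →
        (W4swparbununimod.parPolyOne 𝓔 d Q QH H).eval (m : ℝ) * (StabCat.alpha d P : ℝ) <
          (W4swparbununimod.parPoly 𝓔 PX).eval (m : ℝ) * (StabCat.alpha d Q : ℝ)) →
      ∃ M : ℕ, ∀ m : ℕ, M ≤ m → ∃ N : ℕ, ∀ n : ℕ, N ≤ n →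
        (((Q.eval (m : ℚ) : ℚ) : ℝ) -
            ∑ j : Fin (𝓔.l + 1), (𝓔.wtX j.succ - 𝓔.wtX j.castSucc) *
              ((((QH j.succ).eval (n : ℚ) / (H j.succ).eval (n : ℚ) : ℚ) : ℝ) * (((H j.succ).eval (m : ℚ) : ℚ) : ℝ))) *
          ((P.eval (n : ℚ) : ℚ) : ℝ) <
        (W4swparbununimod.parPoly 𝓔 PX).eval (m : ℝ) * ((Q.eval (n : ℚ) : ℚ) : ℝ)) := by
  haveI := Groth.HilbStab.isLocallyNoetherian k (X := X)
  choose QX hQX using fun j => Groth.HilbStab.exists_isHilbPoly k X hL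
    (Groth.HilbStab.Par.isCoh_induced_pieceX 𝓔 ι hE hW hcoh j)
  have hdim := Groth.HilbStab.dim_support_le_of_isPure hE hpure
  have hPd := Groth.HilbStab.natDegree_le_of_support_subset k hL hdim Set.Subset.rfl hE hP
  have hQd := Groth.HilbStab.natDegree_le_of_support_subset k hL hdim
    (Groth.KTheory.Devissage.support_subset_of_mono ι) hW hQ
  have hHd : ∀ j, (H j).natDegree ≤ d - 1 := fun j => by
    rw [← Groth.HilbStab.Par.sub_eq_quot k hL hE (hcoh j) hP (hPX j) (hH j)]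
    exact natDegree_le_iff_coeff_eq_zero.mpr fun n hn =>
      (Groth.HilbStab.Par.coeff_quot_eq_zero k hL hE h𝓔 hcoh hsupp hP hPX j).2 n (by omega)
  have hQHd : ∀ j, (QH j).natDegree ≤ d - 1 := fun j => by
    rw [← Groth.HilbStab.Par.sub_eq_quot k hL hW
      (Groth.HilbStab.Par.isCoh_induced_pieceX 𝓔 ι hE hW hcoh j) hQ (hQX j) (hQH j)]
    exact natDegree_le_iff_coeff_eq_zero.mpr fun n hn =>
      (Groth.HilbStab.Par.coeff_quot_eq_zero_induced k hL hE h𝓔 hcoh hsupp ι hW hQ hQX j).2 n (by omega)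
  have hf : (0 : ℝ) < (d.factorial : ℝ) := by exact_mod_cast Nat.factorial_pos d
  have key : ∀ m : ℕ, Filter.Tendsto (fun n : ℕ =>
        ((((Q.eval (m : ℚ) : ℚ) : ℝ) -
            ∑ j : Fin (𝓔.l + 1), (𝓔.wtX j.succ - 𝓔.wtX j.castSucc) *
              ((((QH j.succ).eval (n : ℚ) / (H j.succ).eval (n : ℚ) : ℚ) : ℝ) * (((H j.succ).eval (m : ℚ) : ℚ) : ℝ))) *
          ((P.eval (n : ℚ) : ℚ) : ℝ) -
        (W4swparbununimod.parPoly 𝓔 PX).eval (m : ℝ) * ((Q.eval (n : ℚ) : ℚ) : ℝ)) / (n : ℝ) ^ d)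
      Filter.atTop (nhds
        (((W4swparbununimod.parPolyOne 𝓔 d Q QH H).eval (m : ℝ) * (StabCat.alpha d P : ℝ) -
          (W4swparbununimod.parPoly 𝓔 PX).eval (m : ℝ) * (StabCat.alpha d Q : ℝ)) / (d.factorial : ℝ))) := by
    intro m
    have h1 : Filter.Tendsto (fun n : ℕ => (((Q.eval (m : ℚ) : ℚ) : ℝ) -
            ∑ j : Fin (𝓔.l + 1), (𝓔.wtX j.succ - 𝓔.wtX j.castSucc) *
              ((((QH j.succ).eval (n : ℚ) / (H j.succ).eval (n : ℚ) : ℚ) : ℝ) * (((H j.succ).eval (m : ℚ) : ℚ) : ℝ))))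
        Filter.atTop (nhds ((W4swparbununimod.parPolyOne 𝓔 d Q QH H).eval (m : ℝ))) := by
      simp only [W4swparbununimod.parPolyOne, eval_sub, eval_finsetSum, eval_mul, eval_C,
        Groth.HilbStab.Par.rpoly_eval, mul_assoc]
      exact tendsto_const_nhds.sub (tendsto_finsetSum _ fun j _ =>
        ((Groth.HilbStab.Par.tendsto_ratio (hQHd j.succ) (hHd j.succ) (hHa j)).mul_const _).const_mul _)
    have h2 := Groth.HilbStab.Par.tendsto_eval_div (W4swparbununimod.rpoly P) (natDegree_map_le.trans hPd)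
    have h3 := Groth.HilbStab.Par.tendsto_eval_div (W4swparbununimod.rpoly Q) (natDegree_map_le.trans hQd)
    convert (h1.mul h2).sub (h3.const_mul ((W4swparbununimod.parPoly 𝓔 PX).eval (m : ℝ))) using 1
    · funext n
      rw [Groth.HilbStab.Par.rpoly_eval, Groth.HilbStab.Par.rpoly_eval]
      ring
    · rw [Groth.HilbStab.Par.coeff_rpoly, Groth.HilbStab.Par.coeff_rpoly, StabCat.alpha, StabCat.alpha]
      push_cast
      field_simp
  refine ⟨fun ⟨M, hM⟩ => ⟨M, fun m hm => ?_⟩, fun ⟨M, hM⟩ => ⟨M, fun m hm => ?_⟩⟩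
  · obtain ⟨N, hN⟩ := hM m hm
    have h := le_of_tendsto (key m) (Filter.eventually_atTop.mpr
      ⟨N, fun n hn => div_nonpos_of_nonpos_of_nonneg (sub_nonpos.mpr (hN n hn)) (by positivity)⟩)
    exact sub_nonpos.mp ((div_nonpos_iff.mp h).elim (fun h' => absurd h'.2 (not_le.mpr hf)) (·.1))
  · have h := (key m).eventually_lt_const (div_neg_of_neg_of_pos (sub_neg.mpr (hM m hm)) hf)
    obtain ⟨N, hN⟩ := Filter.eventually_atTop.mp h
    refine ⟨N, fun n hn => ?_⟩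
    exact sub_neg.mp (lt_of_not_ge fun hge => not_le.mpr (hN n hn) (div_nonneg hge (by positivity)))

end Groth.Agent.S18532
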