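import Groth.Statements.S18535
import Groth.Agent.EtaleAlgebra.HensDomain
import Groth.Agent.EtaleAlgebra.InertiaTrivial
-- import your own Groth.Agent.* helpers here

set_option autoImplicit false
universe u
open EtAlg

namespace Groth.Agent.S18535

/-- Let R be a complete Noetherian local normal domain with maximal ideal m, let S be a normal domain
containing R on which a finite group G acts by R-algebra automorphisms, faithfully and with ring of
invariants exactly R (so that S is the integral closure of R in some finite Galois extension, with
group G, of Frac R), and let n be a maximal ideal of S over m. Then the inertia subgroup of n in G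
(the elements g with g s - s ∈ n for all s ∈ S) is trivial if and only if mS = n and the residue
field S/n is finite and separable over R/m. -/
theorem result
    (R S G : Type u) [CommRing R] [CommRing S] [IsDomain R] [IsDomain S]
    [IsNoetherianRing R] [IsLocalRing R] [IsIntegrallyClosed R]
    [IsAdicComplete (IsLocalRing.maximalIdeal R) R]
    [Algebra R S] [FaithfulSMul R S] [IsIntegrallyClosed S]
    [Group G] [Finite G] [MulSemiringAction G S] [SMulCommClass G R S] [IsGaloisGroup G R S]
    (n : Ideal S) [n.IsMaximal] [n.LiesOver (IsLocalRing.maximalIdeal R)] :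
    n.toAddSubgroup.inertia G = ⊥ ↔
      ((IsLocalRing.maximalIdeal R).map (algebraMap R S) = n ∧
        Module.Finite (R ⧸ IsLocalRing.maximalIdeal R) (S ⧸ n) ∧
        Algebra.IsSeparable (R ⧸ IsLocalRing.maximalIdeal R) (S ⧸ n)) := by
  have : HenselianLocalRing R :=
    { is_henselian := fun f hf a₀ h₁ h₂ =>
        HenselianRing.is_henselian (I := IsLocalRing.maximalIdeal R) f hf a₀ h₁
          (h₂.map (Ideal.Quotient.mk (IsLocalRing.maximalIdeal R))) }
  have : FaithfulSMul G S := IsGaloisGroup.faithful R
  have : Algebra.IsIntegral R S := Algebra.IsInvariant.isIntegral R S G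
  have : IsLocalRing S := Groth.EtaleAlgebra.isLocalRing_of_isIntegral_domain R S
  obtain rfl : n = IsLocalRing.maximalIdeal S := IsLocalRing.eq_maximalIdeal ‹_›
  refine ⟨fun h => Groth.EtaleAlgebra.InertiaTrivial.unramified_of_inertia_eq_bot h, ?_⟩
  rintro ⟨h, hf, hs⟩
  exact Groth.EtaleAlgebra.InertiaTrivial.inertia_eq_bot_of_map_eq _ h

end Groth.Agent.S18535
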