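import Groth.Statements.S18537
import Mathlib
import Groth.Agent.Calg7.CplCompositumMain
-- import your own Groth.Agent.* helpers here

set_option autoImplicit false
universe u
open EtAlg

namespace Groth.Agent.S18537

open IsLocalRing Groth.EGA41Two in
theorem birational_closure {T E S : Type u} [CommRing T] [CommRing E] [IsDomain E] [CommRing S] [Algebra T E]
    [Algebra S E] (h : ∀ s : S, ∃ a b : T, algebraMap T E b ≠ 0 ∧ algebraMap S E s * algebraMap T E b = algebraMap T E a)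
    (y : E) (hy : y ∈ Algebra.adjoin S (Set.range (algebraMap T E))) :
    ∃ a b : T, algebraMap T E b ≠ 0 ∧ y * algebraMap T E b = algebraMap T E a := by
  induction hy using Algebra.adjoin_induction with
  | mem x hx => obtain ⟨t, rfl⟩ := hx; exact ⟨t, 1, by rw [map_one]; exact one_ne_zero, by rw [map_one, mul_one]⟩
  | algebraMap s => exact h s
  | add x z _ _ hx hz =>
    obtain ⟨a, b, hb, e⟩ := hx; obtain ⟨a', b', hb', e'⟩ := hz
    refine ⟨a * b' + a' * b, b * b', by rw [map_mul]; exact mul_ne_zero hb hb', ?_⟩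
    rw [map_add, map_mul, map_mul, map_mul, ← e, ← e']; ring
  | mul x z _ _ hx hz =>
    obtain ⟨a, b, hb, e⟩ := hx; obtain ⟨a', b', hb', e'⟩ := hz
    refine ⟨a * a', b * b', by rw [map_mul]; exact mul_ne_zero hb hb', ?_⟩
    rw [map_mul, map_mul, ← e, ← e']; ring

/-- Let R be an excellent normal local domain with fraction field K, let L, M ⊇ K be two finite
separable field extensions, both contained in a field Ω that they generate, let A ⊆ Ω be the
localization of the integral closure of R in Ω at one of its maximal ideals, and put S = A ∩ L, T =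
A ∩ M; these are local rings, T ⊆ A, and the completions at the maximal ideals give maps Ŝ → Â ← T̂
(the algebra structures below are these inclusions and completed inclusions, pinned by the stated
compatibilities). If, inside the fraction field of Â, the ring Ŝ lies in the fraction field of T̂
(every element of Ŝ becomes a quotient of two elements of T̂), then A is unramified over T: m_T A =
m_A and A/m_A is a finite separable extension of T/m_T. -/
theorem result
    (R K L M Ω : Type u) [CommRing R] [IsDomain R] [IsLocalRing R] [IsIntegrallyClosed R]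
    (hR : EGA4.IsExcellent R)
    [Field K] [Field L] [Field M] [Field Ω]
    [Algebra R K] [IsFractionRing R K]
    [Algebra K L] [Algebra K M] [Algebra K Ω] [Algebra L Ω] [Algebra M Ω]
    [IsScalarTower K L Ω] [IsScalarTower K M Ω]
    [FiniteDimensional K L] [FiniteDimensional K M] [Algebra.IsSeparable K L] [Algebra.IsSeparable K M]
    (hΩ : IntermediateField.adjoin K (Set.range (algebraMap L Ω) ∪ Set.range (algebraMap M Ω)) = ⊤)
    [Algebra R L] [Algebra R M] [Algebra R Ω] [IsScalarTower R K L] [IsScalarTower R K M] [IsScalarTower R K Ω]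
    [IsScalarTower R L Ω] [IsScalarTower R M Ω]
    (𝔪 : Ideal ↥(integralClosure R Ω)) [𝔪.IsMaximal]
    (A : Subalgebra R Ω)
    (hA : ∀ z : Ω, z ∈ A ↔ ∃ a b : ↥(integralClosure R Ω), b ∉ 𝔪 ∧ z * (b : Ω) = (a : Ω))
    [IsLocalRing ↥A] [IsLocalRing ↥(Subalgebra.comap (IsScalarTower.toAlgHom R L Ω) A)] [IsLocalRing ↥(Subalgebra.comap (IsScalarTower.toAlgHom R M Ω) A)]
    [Algebra ↥(Subalgebra.comap (IsScalarTower.toAlgHom R L Ω) A) ↥A]
    (hSA : ∀ s : ↥(Subalgebra.comap (IsScalarTower.toAlgHom R L Ω) A), ((algebraMap ↥(Subalgebra.comap (IsScalarTower.toAlgHom R L Ω) A) ↥A s : ↥A) : Ω) = algebraMap L Ω (s : L))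
    [Algebra ↥(Subalgebra.comap (IsScalarTower.toAlgHom R M Ω) A) ↥A]
    (hTA : ∀ t : ↥(Subalgebra.comap (IsScalarTower.toAlgHom R M Ω) A), ((algebraMap ↥(Subalgebra.comap (IsScalarTower.toAlgHom R M Ω) A) ↥A t : ↥A) : Ω) = algebraMap M Ω (t : M))
    [Algebra (EGA4.Cpl ↥(Subalgebra.comap (IsScalarTower.toAlgHom R L Ω) A)) (EGA4.Cpl ↥A)]
    (hcS : ∀ s : ↥(Subalgebra.comap (IsScalarTower.toAlgHom R L Ω) A), algebraMap (EGA4.Cpl ↥(Subalgebra.comap (IsScalarTower.toAlgHom R L Ω) A)) (EGA4.Cpl ↥A) (algebraMap ↥(Subalgebra.comap (IsScalarTower.toAlgHom R L Ω) A) (EGA4.Cpl ↥(Subalgebra.comap (IsScalarTower.toAlgHom R L Ω) A)) s) =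
      algebraMap ↥A (EGA4.Cpl ↥A) (algebraMap ↥(Subalgebra.comap (IsScalarTower.toAlgHom R L Ω) A) ↥A s))
    [Algebra (EGA4.Cpl ↥(Subalgebra.comap (IsScalarTower.toAlgHom R M Ω) A)) (EGA4.Cpl ↥A)]
    (hcT : ∀ t : ↥(Subalgebra.comap (IsScalarTower.toAlgHom R M Ω) A), algebraMap (EGA4.Cpl ↥(Subalgebra.comap (IsScalarTower.toAlgHom R M Ω) A)) (EGA4.Cpl ↥A) (algebraMap ↥(Subalgebra.comap (IsScalarTower.toAlgHom R M Ω) A) (EGA4.Cpl ↥(Subalgebra.comap (IsScalarTower.toAlgHom R M Ω) A)) t) =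
      algebraMap ↥A (EGA4.Cpl ↥A) (algebraMap ↥(Subalgebra.comap (IsScalarTower.toAlgHom R M Ω) A) ↥A t))
    [(IsLocalRing.maximalIdeal ↥A).LiesOver (IsLocalRing.maximalIdeal ↥(Subalgebra.comap (IsScalarTower.toAlgHom R M Ω) A))]
    (hLM : ∀ x : (EGA4.Cpl ↥(Subalgebra.comap (IsScalarTower.toAlgHom R L Ω) A)), ∃ a b : (EGA4.Cpl ↥(Subalgebra.comap (IsScalarTower.toAlgHom R M Ω) A)), algebraMap (EGA4.Cpl ↥(Subalgebra.comap (IsScalarTower.toAlgHom R M Ω) A)) (EGA4.Cpl ↥A) b ≠ 0 ∧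
      algebraMap (EGA4.Cpl ↥(Subalgebra.comap (IsScalarTower.toAlgHom R L Ω) A)) (EGA4.Cpl ↥A) x * algebraMap (EGA4.Cpl ↥(Subalgebra.comap (IsScalarTower.toAlgHom R M Ω) A)) (EGA4.Cpl ↥A) b = algebraMap (EGA4.Cpl ↥(Subalgebra.comap (IsScalarTower.toAlgHom R M Ω) A)) (EGA4.Cpl ↥A) a) :
    (IsLocalRing.maximalIdeal ↥(Subalgebra.comap (IsScalarTower.toAlgHom R M Ω) A)).map (algebraMap ↥(Subalgebra.comap (IsScalarTower.toAlgHom R M Ω) A) ↥A) = IsLocalRing.maximalIdeal ↥A ∧
      Module.Finite (↥(Subalgebra.comap (IsScalarTower.toAlgHom R M Ω) A) ⧸ IsLocalRing.maximalIdeal ↥(Subalgebra.comap (IsScalarTower.toAlgHom R M Ω) A)) (↥A ⧸ IsLocalRing.maximalIdeal ↥A) ∧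
      Algebra.IsSeparable (↥(Subalgebra.comap (IsScalarTower.toAlgHom R M Ω) A) ⧸ IsLocalRing.maximalIdeal ↥(Subalgebra.comap (IsScalarTower.toAlgHom R M Ω) A)) (↥A ⧸ IsLocalRing.maximalIdeal ↥A) := by
  haveI := hR.1
  have hG : CAlg.IsGRing R := hR.2.2.1
  obtain ⟨hfin, hsep⟩ := Groth.Calg7.CplComp.finite_and_separable hΩ
  haveI := IsIntegralClosure.finite R K Ω (integralClosure R Ω)
  haveI := IsIntegralClosure.finite R K M (integralClosure R M)
  haveI : IsNoetherianRing (integralClosure R Ω) := IsNoetherianRing.of_finite R _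
  haveI : IsNoetherianRing (integralClosure R M) := IsNoetherianRing.of_finite R _
  haveI : IsIntegrallyClosed (integralClosure R M) := integralClosure.isIntegrallyClosedOfFiniteExtension K
  haveI : IsIntegrallyClosed (integralClosure R Ω) := integralClosure.isIntegrallyClosedOfFiniteExtension K
  letI := (Subalgebra.inclusion (S := integralClosure R Ω) (T := A)
    fun c hc => Groth.Calg7.CplComp.mem_of_mul_eq hA ⟨c, hc⟩).toAlgebra
  haveI : IsLocalization.AtPrime ↥A 𝔪 := Groth.Calg7.CplComp.isLocalization_of_iff _ 𝔪 A hA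
  haveI : IsNoetherianRing ↥A := IsLocalization.isNoetherianRing 𝔪.primeCompl ↥A inferInstance
  haveI : IsIntegrallyClosed ↥A := isIntegrallyClosed_of_isLocalization _ 𝔪.primeCompl 𝔪.primeCompl_le_nonZeroDivisors
  haveI : IsDomain (EGA4.Cpl ↥A) :=
    (Groth.Calg7.CplComp.cpl_normal ↥A (Groth.Calg7.CplComp.isGRing_atPrime (L := ↥A) hG 𝔪)).1
  haveI : IsDomain (EGA4.Cpl R) := (Groth.Calg7.CplComp.cpl_normal R hG).1
  set ι := (IsScalarTower.toAlgHom R M Ω).mapIntegralClosure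
  set q := 𝔪.comap ι.toRingHom
  haveI : q.IsPrime := Ideal.IsPrime.comap _
  have hle : integralClosure R M ≤ Subalgebra.comap (IsScalarTower.toAlgHom R M Ω) A := fun c hc => Groth.Calg7.CplComp.mem_of_mul_eq hA (ι ⟨c, hc⟩)
  letI := (Subalgebra.inclusion hle).toAlgebra
  haveI : IsLocalization.AtPrime ↥(Subalgebra.comap (IsScalarTower.toAlgHom R M Ω) A) q := Groth.Calg7.CplComp.isLocalization_of_criterion _ q _ hle
    (fun b hb => by
      show algebraMap M Ω (b : M)⁻¹ ∈ A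
      rw [map_inv₀]
      refine (hA _).mpr ⟨1, ι b, hb, ?_⟩
      have hb0 : algebraMap M Ω (b : M) ≠ 0 := fun h => hb (by
        rw [show b = 0 from Subtype.ext ((algebraMap M Ω).injective (h.trans (map_zero _).symm))]
        exact zero_mem _)
      exact inv_mul_cancel₀ hb0)
    (fun z hz => Groth.Calg7.CplComp.comap_criterion R K M Ω hG 𝔪 A hA z hz)
  haveI : IsNoetherianRing ↥(Subalgebra.comap (IsScalarTower.toAlgHom R M Ω) A) := IsLocalization.isNoetherianRing q.primeCompl ↥(Subalgebra.comap (IsScalarTower.toAlgHom R M Ω) A) inferInstance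
  haveI : IsIntegrallyClosed ↥(Subalgebra.comap (IsScalarTower.toAlgHom R M Ω) A) := isIntegrallyClosed_of_isLocalization _ q.primeCompl q.primeCompl_le_nonZeroDivisors
  obtain ⟨hTd, hTi⟩ := Groth.Calg7.CplComp.cpl_normal ↥(Subalgebra.comap (IsScalarTower.toAlgHom R M Ω) A) (Groth.Calg7.CplComp.isGRing_atPrime (L := ↥(Subalgebra.comap (IsScalarTower.toAlgHom R M Ω) A)) hG q)
  haveI := hTd
  haveI := hTi
  haveI := Groth.Calg7.CplComp.isNoetherian_cpl ↥(Subalgebra.comap (IsScalarTower.toAlgHom R M Ω) A)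
  haveI := Groth.Calg7.CplComp.isNoetherian_cpl ↥A
  set φ := algebraMap (EGA4.Cpl ↥(Subalgebra.comap (IsScalarTower.toAlgHom R M Ω) A)) (EGA4.Cpl ↥A)
  obtain ⟨N, f, hf⟩ := Groth.Calg7.CplComp.exists_embedding R K Ω
  have hn := Groth.Calg7.CplComp.maximal_eq_comap (R := R) 𝔪
  have hTR : ∀ r : R, algebraMap ↥(Subalgebra.comap (IsScalarTower.toAlgHom R M Ω) A) ↥A (algebraMap R ↥(Subalgebra.comap (IsScalarTower.toAlgHom R M Ω) A) r) = algebraMap R ↥A r := fun r => by
    refine Subtype.ext ?_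
    rw [hTA]
    exact (IsScalarTower.algebraMap_apply R M Ω r).symm
  obtain ⟨hinj, hint⟩ := Groth.Calg7.CplComp.phi_facts q (by
      rw [hn, Ideal.comap_comap]
      congr 1
      exact ι.comp_algebraMap.symm) 𝔪 hn f hf φ
    (fun r => by
      rw [hcT]
      congr 1
      exact hTR r)
  obtain ⟨d, hd, hd0, hdW⟩ := Groth.Calg7.CplComp.exists_mul_mem R K L M Ω hΩ 𝔪 A hA hSA hTA hcS hcT
  -- the completion of `T` maps onto that of `A`
  have hsurj : Function.Surjective φ := fun x => by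
    obtain ⟨a, b, hb, e⟩ := birational_closure hLM _ (hdW x)
    rw [show algebraMap ↥A (EGA4.Cpl ↥A) (algebraMap R ↥A d) = φ (algebraMap ↥(Subalgebra.comap (IsScalarTower.toAlgHom R M Ω) A) _ (algebraMap R ↥(Subalgebra.comap (IsScalarTower.toAlgHom R M Ω) A) d)) by
      rw [hcT, hTR], mul_assoc, ← map_mul] at e
    refine Groth.Calg7.CplComp.mem_range_of_div φ hinj (hint x) (mul_ne_zero ?_ ?_) e
    · intro h
      apply hd0
      rw [← hTR, ← hcT, h, map_zero]
    · exact fun h => hb (by rw [h, map_zero])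
  -- local homomorphisms
  have hcomap : IsLocalRing.maximalIdeal ↥(Subalgebra.comap (IsScalarTower.toAlgHom R M Ω) A) = (IsLocalRing.maximalIdeal ↥A).comap (algebraMap ↥(Subalgebra.comap (IsScalarTower.toAlgHom R M Ω) A) ↥A) :=
    Ideal.LiesOver.over
  have hφm : (IsLocalRing.maximalIdeal (EGA4.Cpl ↥(Subalgebra.comap (IsScalarTower.toAlgHom R M Ω) A))).map φ ≤ IsLocalRing.maximalIdeal (EGA4.Cpl ↥A) := by
    rw [AdicCompletion.maximalIdeal_eq_map, Ideal.map_map]
    refine (Ideal.map_le_iff_le_comap (f := φ.comp (algebraMap ↥(Subalgebra.comap (IsScalarTower.toAlgHom R M Ω) A) (EGA4.Cpl ↥(Subalgebra.comap (IsScalarTower.toAlgHom R M Ω) A))))).2 fun t ht => ?_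
    change φ (algebraMap ↥(Subalgebra.comap (IsScalarTower.toAlgHom R M Ω) A) (EGA4.Cpl ↥(Subalgebra.comap (IsScalarTower.toAlgHom R M Ω) A)) t) ∈ IsLocalRing.maximalIdeal (EGA4.Cpl ↥A)
    rw [hcT]
    rw [hcomap] at ht
    exact Groth.Calg7.CplComp.algebraMap_mem_maximal ht
  have happ : ∀ (a : ↥A) (k : ℕ), ∃ t : ↥(Subalgebra.comap (IsScalarTower.toAlgHom R M Ω) A), a - algebraMap ↥(Subalgebra.comap (IsScalarTower.toAlgHom R M Ω) A) ↥A t ∈ IsLocalRing.maximalIdeal ↥A ^ k := by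
    intro a k
    obtain ⟨y, hy⟩ := hsurj (algebraMap ↥A (EGA4.Cpl ↥A) a)
    obtain ⟨t, ht⟩ := Groth.EGA41Two.exists_sub_mem_pow y k
    refine ⟨t, Groth.EGA41Two.mem_pow_of_algebraMap_mem_pow ?_⟩
    have h2 := Ideal.mem_map_of_mem φ ht
    rw [Ideal.map_pow, map_sub, hy, hcT, ← map_sub] at h2
    exact Ideal.pow_right_mono hφm k h2
  have hres : Function.Surjective (algebraMap (↥(Subalgebra.comap (IsScalarTower.toAlgHom R M Ω) A) ⧸ IsLocalRing.maximalIdeal ↥(Subalgebra.comap (IsScalarTower.toAlgHom R M Ω) A)) (↥A ⧸ IsLocalRing.maximalIdeal ↥A)) := by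
    intro x
    obtain ⟨a, rfl⟩ := Ideal.Quotient.mk_surjective x
    obtain ⟨t, ht⟩ := happ a 1
    rw [pow_one] at ht
    exact ⟨Ideal.Quotient.mk _ t, (Ideal.Quotient.eq.mpr ht).symm⟩
  refine ⟨le_antisymm ?_ ?_, Module.Finite.of_surjective (Algebra.linearMap _ _) hres, ?_⟩
  · exact Ideal.map_le_iff_le_comap.mpr hcomap.le
  · refine Submodule.le_of_le_smul_of_le_jacobson_bot (IsNoetherian.noetherian _)
      (IsLocalRing.maximalIdeal_le_jacobson ⊥) fun a ha => ?_
    obtain ⟨t, ht⟩ := happ a 2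
    have htm : t ∈ IsLocalRing.maximalIdeal ↥(Subalgebra.comap (IsScalarTower.toAlgHom R M Ω) A) := by
      rw [hcomap, Ideal.mem_comap]
      have h1 := Ideal.pow_le_self (two_ne_zero) ht
      simpa using sub_mem ha h1
    refine Submodule.mem_sup.mpr ⟨_, Ideal.mem_map_of_mem _ htm, a - algebraMap ↥(Subalgebra.comap (IsScalarTower.toAlgHom R M Ω) A) ↥A t, ?_, add_sub_cancel _ _⟩
    rwa [smul_eq_mul, ← pow_two]
  · letI := Ideal.Quotient.field (IsLocalRing.maximalIdeal ↥(Subalgebra.comap (IsScalarTower.toAlgHom R M Ω) A))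
    letI := Ideal.Quotient.field (IsLocalRing.maximalIdeal ↥A)
    exact ⟨fun x => by obtain ⟨y, rfl⟩ := hres x; exact isSeparable_algebraMap y⟩

end Groth.Agent.S18537
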