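import Groth.Statements.S18538
import Mathlib
-- import your own Groth.Agent.* helpers here

set_option autoImplicit false
universe u
open EtAlg

namespace Groth.Agent.S18538

/-- Let A ⊆ B be an injective finite extension of integrally closed domains, with fraction fields K ⊆ L
and L separable over K. Then A → B → B ⊗_A B is exact, the second map being b ↦ b ⊗ 1 - 1 ⊗ b: every
element of B whose two images in B ⊗_A B agree comes from A. -/
theorem result
    (A B K L : Type u) [CommRing A] [CommRing B] [IsDomain A] [IsDomain B]
    [IsIntegrallyClosed A] [IsIntegrallyClosed B] [Algebra A B] [FaithfulSMul A B] [Module.Finite A B]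
    [Field K] [Field L] [Algebra A K] [IsFractionRing A K] [Algebra B L] [IsFractionRing B L]
    [Algebra K L] [Algebra A L] [IsScalarTower A K L] [IsScalarTower A B L]
    [Algebra.IsSeparable K L] :
    Algebra.IsEffective A B := by
  open scoped TensorProduct in
    intro b
    refine ⟨fun hb => ?_, Algebra.TensorProduct.includeLeftSubRight_zero_of_mem_range⟩
    rw [Algebra.TensorProduct.includeLeftSubRight_apply, sub_eq_zero] at hb
    let φ : B ⊗[A] B →ₐ[A] L ⊗[K] L := Algebra.TensorProduct.lift
      ((Algebra.TensorProduct.includeLeft : L →ₐ[A] L ⊗[K] L).comp (IsScalarTower.toAlgHom A B L))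
      (((Algebra.TensorProduct.includeRight : L →ₐ[K] L ⊗[K] L).restrictScalars A).comp
        (IsScalarTower.toAlgHom A B L)) (fun x y => Commute.all _ _)
    have h1 := congrArg φ hb
    simp only [φ, Algebra.TensorProduct.lift_tmul, map_one, mul_one, one_mul, AlgHom.comp_apply,
      AlgHom.restrictScalars_apply, Algebra.TensorProduct.includeLeft_apply,
      Algebra.TensorProduct.includeRight_apply, IsScalarTower.coe_toAlgHom'] at h1
    obtain ⟨x, hx⟩ := ((Algebra.IsEffective.of_faithfullyFlat K L) (algebraMap B L b)).mp
      (by rw [Algebra.TensorProduct.includeLeftSubRight_apply, sub_eq_zero]; exact h1)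
    have hint : IsIntegral A x := by
      rw [← isIntegral_algHom_iff (IsScalarTower.toAlgHom A K L) (algebraMap K L).injective]
      have hb' : IsIntegral A b := IsIntegral.of_finite A b
      simpa [← hx] using hb'.map (IsScalarTower.toAlgHom A B L)
    obtain ⟨a, ha⟩ := IsIntegrallyClosed.isIntegral_iff.mp hint
    refine ⟨a, IsFractionRing.injective B L ?_⟩
    show algebraMap B L (algebraMap A B a) = _
    rw [← hx, ← ha, ← IsScalarTower.algebraMap_apply]
    exact IsScalarTower.algebraMap_apply A K L a

end Groth.Agent.S18538
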