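import Groth.Statements.S18539
import Mathlib
-- import your own Groth.Agent.* helpers here

set_option autoImplicit false
universe u v w
open CAlg
open scoped Pointwise

namespace Groth.Agent.S18539

/-- For a commutative ring R, R-modules M and N and elements r₁, r₂ of R such that r₁ is a
non-zero-divisor on N and r₂ is a non-zero-divisor on N/r₁N, the element r₁ is a non-zero-divisor on
the module Hom_R(M, N) and r₂ is a non-zero-divisor on Hom_R(M, N)/r₁Hom_R(M, N). (Weak regularity
on both sides: no condition that the quotient by (r₁, r₂) is nonzero, which would fail for M = 0.) -/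
theorem result
    (R : Type u) [CommRing R] (M : Type v) (N : Type w)
    [AddCommGroup M] [Module R M] [AddCommGroup N] [Module R N]
    (r₁ r₂ : R) (h : RingTheory.Sequence.IsWeaklyRegular N [r₁, r₂]) :
    RingTheory.Sequence.IsWeaklyRegular (M →ₗ[R] N) [r₁, r₂] := by
  rw [RingTheory.Sequence.isWeaklyRegular_cons_iff, RingTheory.Sequence.isWeaklyRegular_cons_iff] at h ⊢
  obtain ⟨h1, h2, -⟩ := h
  refine ⟨fun f g hfg => LinearMap.ext fun m => h1 (LinearMap.congr_fun hfg m), ?_,
    RingTheory.Sequence.IsWeaklyRegular.nil R _⟩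
  rw [isSMulRegular_quotient_iff_mem_of_smul_mem] at h2 ⊢
  intro f hf
  obtain ⟨g, -, hg⟩ := (Submodule.mem_smul_pointwise_iff_exists _ _ _).1 hf
  have hm : ∀ m : M, ∃ n : N, r₁ • n = f m := by
    intro m
    have : f m ∈ r₁ • (⊤ : Submodule R N) := h2 (f m) (by
      have h3 := LinearMap.congr_fun hg m
      simp only [LinearMap.smul_apply] at h3
      rw [← h3]
      exact Submodule.smul_mem_pointwise_smul _ _ _ trivial)
    obtain ⟨n, -, hn⟩ := (Submodule.mem_smul_pointwise_iff_exists _ _ _).1 this
    exact ⟨n, hn⟩
  choose φ hφ using hm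
  let F : M →ₗ[R] N :=
    { toFun := φ
      map_add' := fun a b => h1 (by simp [smul_add, hφ])
      map_smul' := fun c a => h1 (by
        show r₁ • φ (c • a) = r₁ • (RingHom.id R c • φ a)
        rw [hφ, map_smul, RingHom.id_apply, smul_comm, hφ]) }
  have : r₁ • F = f := LinearMap.ext hφ
  rw [← this]
  exact Submodule.smul_mem_pointwise_smul _ _ _ trivial

end Groth.Agent.S18539
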