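import Groth.Statements.S18541
import Groth.Agent.Abvar.Dual.LamBC
import Groth.Agent.Abvar.Dual.FrobPull

set_option autoImplicit false
universe u
open CategoryTheory MonoidalCategory CartesianMonoidalCategory MonObj GrpObj AlgebraicGeometry
open AbVar

namespace Groth.Agent.S18541

/-- Let k be a finite field with q elements and A an abelian variety over k (a commutative group scheme
over k which is smooth and proper with geometrically connected fibres), given with a dual (A^t, φ)
for the fppf topology. Let π : A → A be the q-power Frobenius endomorphism of A (the identity on the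
underlying space and the q-th power map on sections; a homomorphism) and π^t : A^t → A^t a transpose
of π. Let L be an invertible module on A and λ_L : A → A^t the homomorphism Λ(L) attached to L
through φ. Then π followed by λ_L followed by π^t is q·λ_L, the q-th power of λ_L in the group of
morphisms A → A^t. (The published statement fixes L ample and reads π^‡ ∘ π = [q] for the Rosati
involution ‡ of L; its proof rewrites this as the displayed identity, which uses only that L is
invertible.) -/
theorem result (k : Type u) [Field k] [Finite k]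
    (A At : Over (Spec (CommRingCat.of k)))
    [GrpObj A] [IsCommMonObj A] [Smooth A.hom] [IsProper A.hom] [GeometricallyConnected A.hom]
    [GrpObj At] [IsCommMonObj At]
    (φ : AgPol.DualMap A At) (hdual : AbDual.IsDualAV Scheme.fppfPrecoverage A At φ)
    (π : A ⟶ A) [IsMonHom π] (hπb : π.left.base = 𝟙 _) (hπle : ∀ U : A.left.Opens, U ≤ π.left ⁻¹ᵁ U)
    (hπapp : ∀ (U : A.left.Opens) (s : Γ(A.left, U)), (π.left.appLE U U (hπle U)).hom s = s ^ Nat.card k)
    (πt : At ⟶ At) [IsMonHom πt] (hπt : AbDual.IsTranspose π φ φ πt)
    (L : A.left.Modules) (hL : PicF.IsInvertible L) (lam : A ⟶ At) (hlam : AgPol.IsLambda A At φ L lam) :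
    π ≫ lam ≫ πt = lam ^ Nat.card k := by
  open Groth.Abvar.PicCalc Groth.Abvar.Dual in
  exact by
    have := geometricallyIntegral_of_smooth A
    obtain ⟨N, hN, hNL, rfl⟩ := hlam
    let l : PicLoc.PicSet A.left := cls hL
    have hsub : Subsingleton ↥(𝟙_ (Over (Spec (CommRingCat.of k)))).left :=
      inferInstanceAs (Subsingleton ↥(Spec (CommRingCat.of k)))
    have hrig : ∀ c : PicLoc.PicSet A.left, opull η[A] c = 1 := fun c => eq_one_of_subsingleton _
    have hP : ∀ c : PicLoc.PicSet A.left, P0 A A (LamSymm.lamCls c) := fun c => LamBC.p0_lamCls (hrig c)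
    have hD : (cls hN : PicLoc.PicSet (A ⊗ A).left) = LamSymm.lamCls l := (LamSymm.isLambdaSheaf_iff hL hN).1 hNL
    have hφN : φ A (PicF.cl N) = φ A (LamSymm.lamCls l).1 := congrArg (fun c : PicLoc.PicSet (A ⊗ A).left => φ A c.1) hD
    have hpow : ∀ m : ℕ, φ A (LamSymm.lamCls (l ^ m)).1 = (φ A (LamSymm.lamCls l).1) ^ m := fun m => by
      induction m with
      | zero =>
        rw [pow_zero, pow_zero, LamSymm.lamCls, map_one, map_one, map_one, _root_.mul_one, inv_one,
          _root_.mul_one]
        exact phi_one hdual
      | succ m ih =>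
        have e : LamSymm.lamCls (l ^ (m + 1)) = LamSymm.lamCls (l ^ m) * LamSymm.lamCls l := by
          simp only [LamSymm.lamCls, pow_succ, map_mul, _root_.mul_inv_rev]
          ac_rfl
        rw [e, pow_succ]
        exact (phi_mul hdual (hP _) (hP _)).trans (congrArg (· * _) ih)
    have hfrob : opull π l = l ^ Nat.card k := by
      obtain ⟨e⟩ := FrobPull.nonempty_pullback_iso_tensorPow π.left hπle (Nat.card k) hπapp hL
      rw [← cls_tensorPow hL]
      exact ((pull_cls π.left hL).trans ((nonempty_iso_iff (isInvertible_tensorPow hL _)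
        (PicLoc.isInvertible_pullback π.left hL)).1 ⟨e⟩).symm)
    have hsq : LamSymm.lamCls (opull π l) = (opull (lift (fst A A ≫ π) (snd A A ≫ π)) (LamSymm.lamCls l)) := by
      have hm : lift (fst A A ≫ π) (snd A A ≫ π) ≫ μ[A] = μ[A] ≫ π := by
        rw [IsMonHom.mul_hom]
        refine congrArg (· ≫ μ[A]) ?_
        ext <;> simp
      rw [LamSymm.lamCls, LamSymm.lamCls, map_mul, map_inv, map_mul, ← opull_comp, ← opull_comp, ← opull_comp,
        ← opull_comp, ← opull_comp, ← opull_comp, hm, lift_fst, lift_snd]
    have hmor : AbDual.bcMap π A ≫ PicF.XTmap A.hom π = (lift (fst A A ≫ π) (snd A A ≫ π)).left := by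
      apply Limits.pullback.hom_ext
      · rw [Category.assoc]
        erw [Limits.pullback.lift_fst, Category.comp_id, Limits.pullback.lift_fst]
        exact (congrArg Over.Hom.left (lift_fst (fst A A ≫ π) (snd A A ≫ π))).symm
      · rw [Category.assoc]
        erw [Limits.pullback.lift_snd, Limits.pullback.lift_snd_assoc]
        refine Eq.trans ?_ (congrArg Over.Hom.left (lift_snd (fst A A ≫ π) (snd A A ≫ π))).symm
        exact (congrArg (· ≫ π.left) (Category.comp_id _)).trans rfl
    rw [hφN, ← hpow, ← hfrob, hsq, ← Category.assoc, ← phi_natural hdual π (hP l),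
      ← hπt A _ (P0.bc π (hP l))]
    exact congrArg (φ A) (congrArg Subtype.val
      ((pull_comp (AbDual.bcMap π A) (PicF.XTmap A.hom π) (LamSymm.lamCls l)).symm.trans
        (congrArg (pull · (LamSymm.lamCls l)) hmor)))

end Groth.Agent.S18541
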